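import Groth.Statements.S17869
import Mathlib

set_option autoImplicit false
open CategoryTheory AlgebraicGeometry
universe u
open Algz

namespace Groth.Agent.S17869

/-- In the case of schemes. Let `U` be a quasi-compact quasi-separated scheme and `V 0, …, V (k-1)`
quasi-compact open subschemes which cover `U`. Then the canonical morphism from the disjoint union
`∐ V i` to `U` is a Nisnevich cover of length at most `k`. (The published example states more
generally that, for a Nisnevich cover of `Y` of length at most `m` with source `U`, the composite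
from the disjoint union `∐ V i` to `Y` has length at most `m * k`; stated here is the case of the
identity of `U`, to which the published argument reduces, and the general bound follows by composing
Nisnevich covers. The original form is for quasi-compact quasi-separated algebraic spaces, with the
members of the cover quasi-compact; stated here for schemes.) -/
theorem result {U : Scheme.{u}} [CompactSpace U] [QuasiSeparatedSpace U]
    (k : ℕ) (V : Fin k → U.Opens) (hV : ∀ i, IsCompact (V i : Set U)) (hcov : ⨆ i, V i = ⊤) :
    W4c5algebraiztannaka.IsNisCoverLen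
      (Limits.Sigma.desc (fun i => (V i).ι) : (∐ fun i => ((V i : U.Opens) : Scheme.{u})) ⟶ U) k := by
  -- the partial unions
  let W : ℕ → Set U := fun j => ⋃ i : {i : Fin k // i.val < k - j}, (V i.1 : Set U)
  have hWopen : ∀ j, IsOpen (W j) := fun j => isOpen_iUnion fun i => (V i.1).isOpen
  have hWcomp : ∀ j, IsCompact (W j) := fun j => isCompact_iUnion fun i => hV i.1
  have hWmono : ∀ a b, a ≤ b → W b ⊆ W a := by
    intro a b hab x hx
    simp only [W, Set.mem_iUnion] at hx ⊢
    obtain ⟨⟨i, hi⟩, hxi⟩ := hx
    exact ⟨⟨i, by omega⟩, hxi⟩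
  refine ⟨IsZariskiLocalAtSource.sigmaDesc (fun i => inferInstance), fun j => (W j.val)ᶜ, ?_, ?_, ?_, ?_, ?_⟩
  · -- Z 0 = ∅
    simp only [Fin.val_zero, Nat.sub_zero, Set.compl_empty_iff]
    ext x
    simp only [W, Set.mem_iUnion, Set.mem_univ, iff_true]
    have hx : x ∈ ((⨆ i, V i : U.Opens) : Set U) := by rw [hcov]; trivial
    simp only [TopologicalSpace.Opens.coe_iSup, Set.mem_iUnion] at hx
    obtain ⟨i, hi⟩ := hx
    exact ⟨⟨i, by simpa using i.2⟩, hi⟩
  · -- Z last = univ
    simp only [Fin.val_last, Nat.sub_self, Set.compl_univ_iff]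
    ext x
    simp [W]
  · intro a b hab
    exact Set.compl_subset_compl.mpr (hWmono _ _ hab)
  · intro j
    exact ⟨(hWopen _).isClosed_compl, ((hWcomp _).isConstructible (hWopen _)).compl⟩
  · intro j
    -- the index of the new open
    let i₀ : Fin k := ⟨k - (j.val + 1), by omega⟩
    have hsplit : W j.val = W (j.val + 1) ∪ (V i₀ : Set U) := by
      ext x
      simp only [W, Set.mem_iUnion, Set.mem_union]
      constructor
      · rintro ⟨⟨i, hi⟩, hxi⟩
        by_cases h : i.val < k - (j.val + 1)
        · exact Or.inl ⟨⟨i, h⟩, hxi⟩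
        · right
          have : i = i₀ := Fin.ext (by simp only [i₀]; omega)
          rw [← this]; exact hxi
      · rintro (⟨⟨i, hi⟩, hxi⟩ | hx)
        · exact ⟨⟨i, by omega⟩, hxi⟩
        · exact ⟨⟨i₀, by simp only [i₀]; omega⟩, hx⟩
    have hstratum : (W j.succ.val)ᶜ \ (W j.castSucc.val)ᶜ = (V i₀ : Set U) ∩ (W (j.val + 1))ᶜ := by
      simp only [Fin.val_succ, Fin.val_castSucc]
      rw [hsplit]
      ext x
      simp only [Set.mem_sdiff, Set.mem_compl_iff, Set.mem_union, Set.mem_inter_iff, not_or, not_and, not_not]
      tauto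
    rw [hstratum]
    -- the closed subscheme of V i₀
    let C : TopologicalSpace.Closeds (V i₀ : Scheme.{u}) :=
      ⟨(V i₀).ι ⁻¹' (W (j.val + 1))ᶜ, ((hWopen _).isClosed_compl).preimage (V i₀).ι.continuous⟩
    let I := Scheme.IdealSheafData.vanishingIdeal C
    refine ⟨I.subscheme, I.subschemeι ≫ (V i₀).ι,
      I.subschemeι ≫ Limits.Sigma.ι (fun i => ((V i : U.Opens) : Scheme.{u})) i₀, inferInstance, ?_, ?_⟩
    · change Set.range (I.subschemeι ≫ (V i₀).ι) = _
      rw [Scheme.Hom.comp_base, TopCat.coe_comp, Set.range_comp, Scheme.IdealSheafData.range_subschemeι,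
        Scheme.IdealSheafData.coe_support_vanishingIdeal]
      change (V i₀).ι '' ((V i₀).ι ⁻¹' (W (j.val + 1))ᶜ) = _
      rw [Set.image_preimage_eq_inter_range, Scheme.Opens.range_ι, Set.inter_comm]
    · rw [Category.assoc, Limits.Sigma.ι_desc]

end Groth.Agent.S17869
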