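import Groth.Statements.S0800
import Groth.Agent.Helper1.ColimPush
import Groth.Agent.Helper1.ColimCoh

set_option autoImplicit false
universe u
open Coherent

namespace Groth.Agent.S0800

open CategoryTheory CategoryTheory.Limits AlgebraicGeometry in
/-- Let f : X → S be quasi-compact and quasi-separated. Then for every p the higher direct image functor
R^p f_* on abelian sheaves (on the underlying spaces) preserves filtered colimits. -/
theorem result {X S : Scheme.{u}} (f : X ⟶ S) [QuasiCompact f]
    [QuasiSeparated f] (p : ℕ) (J : Type u) [SmallCategory J] [IsFiltered J] :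
    PreservesColimitsOfShape J (Coh.RpushAb f p) := by
  obtain ⟨α, _, _, _, G, _⟩ := IsFiltered.exists_directed J
  have hα : PreservesColimitsOfShape α (Coh.RpushAb f p) := by
    constructor
    intro F
    apply Groth.Agent.Helper1.ColimPush.preservesColimit_Rpush f.base F p
    rw [TopologicalSpace.Opens.isBasis_iff_nbhd]
    intro U x hx
    obtain ⟨V, hV, hxV, hVU⟩ := TopologicalSpace.Opens.isBasis_iff_nbhd.1 S.isBasis_affineOpens hx
    refine ⟨V, ?_, hxV, hVU⟩
    have hV' : IsAffineOpen V := hV
    have hc : IsCompact (((TopologicalSpace.Opens.map f.base).obj V : TopologicalSpace.Opens X) :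
        Set X) := QuasiCompact.isCompact_preimage (f := f) V.1 V.isOpen hV'.isCompact
    have hqs : IsQuasiSeparated (((TopologicalSpace.Opens.map f.base).obj V :
        TopologicalSpace.Opens X) : Set X) := by
      rw [isQuasiSeparated_iff_quasiSeparatedSpace _
        ((TopologicalSpace.Opens.map f.base).obj V).isOpen]
      have : IsAffine V := hV'
      exact quasiSeparatedSpace_of_quasiSeparated (f ∣_ V)
    have := Groth.Agent.Helper1.ColimCoh.preservesColimitsOfShape_cohomology (ι := α)
      ((TopologicalSpace.Opens.map f.base).obj V) hc hqs p
    exact (this.preservesColimit (K := F) : PreservesColimit F _)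
  exact Functor.Final.preservesColimitsOfShape_of_final G _

end Groth.Agent.S0800
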