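import Groth.Statements.S0020
import Groth.Agent.Helper4.FTLocal
import Mathlib

set_option autoImplicit false
universe u
open Coherent

namespace Groth.Agent.S0020


open AlgebraicGeometry in
/-- On a scheme X, the set of points at which the stalk of a finite type 𝒪_X-module M is nonzero (the
support of M) is closed. -/
theorem result (X : Scheme.{u}) (M : X.Modules) (hM : CohB1.IsFT M) :
    IsClosed (CohB1.support M) := by

  rw [← isOpen_compl_iff, isOpen_iff_forall_mem_open]
  intro x hx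
  have hx' : Subsingleton (M.presheaf.stalk x) := by
    by_contra h
    exact hx h
  obtain ⟨W, hxW, hW⟩ := Groth.Agent.Helper4.FTLocal.exists_generatingSections_restrict M hM x
  obtain ⟨σ, hσ⟩ := hW W le_rfl
  have hN : Subsingleton ((M.restrict W.ι).presheaf.stalk (⟨x, hxW⟩ : W)) :=
    (Groth.Agent.Helper4.FTLocal.subsingleton_stalk_restrict_iff M W ⟨x, hxW⟩).mpr hx'
  obtain ⟨V, hxV, hV⟩ := Groth.Agent.Helper4.FTLocal.exists_sections_eq_zero _ σ ⟨x, hxW⟩ hN
  have hz := Groth.Agent.Helper4.FTLocal.isZero_restrict_of_sections_eq_zero _ σ V hV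
  refine ⟨W.ι ''ᵁ V, ?_, (W.ι ''ᵁ V).isOpen, ⟨⟨x, hxW⟩, hxV, rfl⟩⟩
  rintro _ ⟨z, hzV, rfl⟩
  have h1 := Groth.Agent.Helper4.FTLocal.subsingleton_stalk_of_isZero_restrict _ V hz z hzV
  have h2 := (Groth.Agent.Helper4.FTLocal.subsingleton_stalk_restrict_iff M W z).mp h1
  intro h3
  exact h3 h2

end Groth.Agent.S0020
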