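import Groth.Statements.S0453
import Mathlib
import Groth.Agent.Lead.CohTopB

set_option autoImplicit false
universe u
open CategoryTheory
open CohTop

namespace Groth.Agent.S0453

/-- A flasque abelian sheaf F on X has H^(n+1)(X, F) = 0. -/
theorem result {X : TopCat.{u}} (F : CohTop.Ab X) [TopCat.Sheaf.IsFlasque F]
    (n : ℕ) : Subsingleton (CohTop.H F (n + 1)) := by
  refine subsingleton_of_forall_eq 0 fun x => ?_
  have hT : Limits.IsTerminal (⊤ : TopologicalSpace.Opens X) := Limits.isTerminalTop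
  refine Groth.Agent.Lead.CohTopB.ext_eq_zero_of_flasque _ (⊤ : TopologicalSpace.Opens X)
    (fun G => (Abelian.Ext.addEquiv₀.symm.trans (Sheaf.H.equiv₀ G hT)).toEquiv) ?_ n F x
  intro G G' φ g
  simp only [AddEquiv.toEquiv_eq_coe, EquivLike.coe_coe, AddEquiv.trans_apply]
  rw [Sheaf.H.equiv₀_naturality]
  congr 1
  apply Abelian.Ext.addEquiv₀.injective
  rw [Sheaf.H.addEquiv₀_map]
  have key : ∀ {A B : CohTop.Ab X} (f : A ⟶ B), Abelian.Ext.addEquiv₀ (Abelian.Ext.mk₀ f) = f :=
    fun f => Abelian.Ext.addEquiv₀.apply_symm_apply f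
  simp only [Abelian.Ext.addEquiv₀_symm_apply, key]

end Groth.Agent.S0453
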