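import Groth.Statements.S0464
import Groth.Agent.Helper1.CohTopCech

set_option autoImplicit false
universe u
open CategoryTheory
open CohTop

namespace Groth.Agent.S0464

open TopologicalSpace in
/-- Let U_i be a family of opens with union U. If H^(q+1)(U_{i_0} ∩ … ∩ U_{i_p}, F) = 0 for all q and
all finite tuples of indices, then the p-th Cech cohomology of F for this family is isomorphic to
H^p(U, F). -/
theorem result {X : TopCat.{u}} (F : CohTop.Ab X) {ι : Type u}
    (U : ι → Opens X)
    (h : ∀ (p : ℕ) (a : Fin (p + 1) → ι) (q : ℕ), Subsingleton (CohTop.HU F (q + 1) (iInf fun k => U (a k))))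
    (p : ℕ) : Nonempty (CohTop.cechH F.obj U p ≃+ CohTop.HU F p (iSup U)) := by
  open Groth.Agent.Lead.CohTopB Groth.Agent.Helper1.Cech Groth.Agent.Helper1.CechTop
    Groth.Agent.Helper1.CohTopExt Groth.Agent.Helper1.CohTopCech CategoryTheory.Abelian in
  let 𝒜 : CohTop.Ab X → Prop := fun G => ∀ (m : ℕ) (x : Fin (m + 1) → ι) (q : ℕ),
    Subsingleton (Ext (freeU (prodU U x)) G (q + 1))
  have hF : 𝒜 F := by
    intro m x q
    have := h m x q
    rw [← prodU_eq U x] at this
    exact this
  have key := cech_iso_of_class U 𝒜 (by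
    intro S hS h1 hI
    refine ⟨?_, ?_⟩
    · intro m x q
      refine subsingleton_of_forall_eq 0 (fun x₃ => ?_)
      have := h1 m x (q + 1)
      obtain ⟨x₂, hx₂⟩ := Ext.covariant_sequence_exact₃ (freeU (prodU U x)) hS x₃ rfl
        (Subsingleton.elim _ _)
      rw [← hx₂, Ext.eq_zero_of_injective x₂, Ext.zero_comp]
    · intro m x
      exact shortExact_sections hS _ (surjective_of_ext_one hS _ (h1 m x 0))) p F hF
  obtain ⟨e⟩ := key
  exact ⟨e.addCommGroupIsoToAddEquiv⟩

end Groth.Agent.S0464
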