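import Groth.Statements.S4479
import Groth.Agent.Helper1.GrT10
import Groth.Agent.Helper1.CohTopFun
import Groth.Agent.Helper1.HHonHU
import Groth.Agent.Helper1.SerreD
import Groth.Agent.S0464

set_option autoImplicit false
universe u
open Koszul3

namespace Groth.Agent.S4479

open AlgebraicGeometry CategoryTheory in
/-- For a graded module concentrated in nonnegative degrees. Let S be a nonnegatively graded ring, f_1,
…, f_r homogeneous elements of S of positive degrees, M a graded S-module, X = Proj S and U ⊆ X the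
union of the opens D_+(f_i). Then for every p ≥ 1 the direct sum over all integers n of the groups
H^p(U, M(n)~|_U) is isomorphic, as an additive group, to the direct-limit Koszul cohomology
H^(p+1)((f), M), the colimit over m of the Koszul cohomologies H^(p+1)(f^m, M) of M as an S-module.
(The source's isomorphism is canonical and of degree 0 for the gradings; only the existence of an
additive isomorphism is asserted.) -/
theorem result {R A : Type u} [CommRing R] [CommRing A]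
    [Algebra R A] (𝒜 : ℕ → Submodule R A) [GradedAlgebra 𝒜] (fs : List A)
    (hfs : ∀ a ∈ fs, ∃ d : ℕ, 0 < d ∧ a ∈ 𝒜 d) {M : Type u} [AddCommGroup M] [Module R M] [Module A M]
    [IsScalarTower R A M] (ℳ : ℕ → Submodule R M) [DirectSum.Decomposition ℳ] [SetLike.GradedSMul 𝒜 ℳ]
    (p : ℕ) (hp : 1 ≤ p) :
    Nonempty (DirectSum ℤ (fun n : ℤ => Coh.HHon (Proj 𝒜) (GrTilde.tilde 𝒜 ℳ n)
        (⨆ i : Fin fs.length, Proj.basicOpen 𝒜 (fs.get i)) p) ≃+
      CohIII.koszulHLim fs (ModuleCat.of A M) (p + 1)) := by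
  obtain ⟨p', rfl⟩ : ∃ p', p = p' + 1 := ⟨p - 1, by omega⟩
  open Groth.Agent.Helper1.GrT Groth.Agent.Helper1.Cech Groth.Agent.Helper1.CechTilde in
  -- degrees
  have hex : ∀ i : ULift.{u} (Fin fs.length), ∃ d : ℕ, 0 < d ∧ fs.get i.down ∈ 𝒜 d :=
    fun i => hfs _ (List.get_mem fs i.down)
  choose d hd hfd using hex
  let U' : ULift.{u} (Fin fs.length) → (Proj 𝒜).Opens := fun i => Proj.basicOpen 𝒜 (fs.get i.down)
  have hsup : iSup U' = ⨆ i : Fin fs.length, Proj.basicOpen 𝒜 (fs.get i) := by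
    apply le_antisymm
    · exact iSup_le (fun i => le_iSup (fun i : Fin fs.length => Proj.basicOpen 𝒜 (fs.get i)) i.down)
    · exact iSup_le (fun i => le_iSup U' ⟨i⟩)
  -- Čech = derived, for each n
  have hn : ∀ n : ℤ, Nonempty (Coh.HHon (Proj 𝒜) (GrTilde.tilde 𝒜 ℳ n)
      (⨆ i : Fin fs.length, Proj.basicOpen 𝒜 (fs.get i)) (p' + 1) ≃+
      ((cx (UP 𝒜 fs) (QP 𝒜 ℳ n)).homology (p' + 1) : AddCommGrpCat.{u})) := by
    intro n
    haveI := isQuasicoherent_tilde 𝒜 ℳ n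
    have h : ∀ (p : ℕ) (a : Fin (p + 1) → ULift.{u} (Fin fs.length)) (r : ℕ),
        Subsingleton (CohTop.HU (Coh.toAb (GrTilde.tilde 𝒜 ℳ n)) (r + 1)
          (iInf fun k => U' (a k))) := by
      intro p a r
      have haff' : IsAffineOpen (X := Proj 𝒜) (iInf fun k => U' (a k)) := by
        have h1 : (iInf fun k => U' (a k)) = Proj.basicOpen 𝒜 (gx fs a) :=
          iInf_basicOpen 𝒜 (fun k => fs.get (a k).down)
        rw [h1]
        exact Proj.isAffineOpen_basicOpen 𝒜 (gx fs a) (gx_mem 𝒜 fs d hfd a) (deg_pos fs d hd a)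
      exact Groth.Agent.Helper1.Serre.subsingleton_HU_of_isAffineOpen
        (GrTilde.tilde 𝒜 ℳ n) haff' r
    obtain ⟨e2⟩ := Groth.Agent.S0464.result (Coh.toAb (GrTilde.tilde 𝒜 ℳ n))
      U' h (p' + 1)
    rw [hsup] at e2
    obtain ⟨e1⟩ := Groth.Agent.Helper1.HHonHU.nonempty_HHon_HU (Proj 𝒜) (GrTilde.tilde 𝒜 ℳ n)
      (⨆ i : Fin fs.length, Proj.basicOpen 𝒜 (fs.get i)) (p' + 1)
    exact ⟨e1.trans e2.symm⟩
  have en : ∀ n : ℤ, Coh.HHon (Proj 𝒜) (GrTilde.tilde 𝒜 ℳ n)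
      (⨆ i : Fin fs.length, Proj.basicOpen 𝒜 (fs.get i)) (p' + 1) ≃+
      ((cx (UP 𝒜 fs) (QP 𝒜 ℳ n)).homology (p' + 1) : AddCommGrpCat.{u}) := fun n => (hn n).some
  -- step A
  have hA := map_equiv_bijective (α := fun n : ℤ => Coh.HHon (Proj 𝒜) (GrTilde.tilde 𝒜 ℳ n)
      (⨆ i : Fin fs.length, Proj.basicOpen 𝒜 (fs.get i)) (p' + 1))
    (β := fun n : ℤ => ((cx (UP 𝒜 fs) (QP 𝒜 ℳ n)).homology (p' + 1) : AddCommGrpCat.{u})) en
  -- step B
  have hB := Groth.Agent.Helper1.DSHom.ΦH_bijective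
    (fun n : ℤ => cx (UP 𝒜 fs) (QP 𝒜 ℳ n)) (cx (UU fs) (PS (A := A) (M := M)))
    (φC 𝒜 ℳ fs d hd hfd) (ΦX_bijective 𝒜 ℳ fs d hd hfd) (p' + 1)
  -- step C, D
  have i1 := Groth.Agent.Helper1.CechAug.hSuccIso (UU fs) (PS (A := A) (M := M)) p'
  obtain ⟨e⟩ := nonempty_addEquiv_koszulHLim fs (ModuleCat.of A M) (p' + 2)
  exact ⟨(AddEquiv.ofBijective _ hA).trans ((AddEquiv.ofBijective _ hB).trans
    (i1.symm.addCommGroupIsoToAddEquiv.trans e))⟩

end Groth.Agent.S4479
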