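import Groth.Statements.S0844
import Groth.Agent.Helper1.ProjMid
import Groth.Agent.S0022

set_option autoImplicit false
universe u
open Coherent

namespace Groth.Agent.S0844

open CategoryTheory AlgebraicGeometry in
/-- For a ring R, n ≥ 0, d ∈ ℤ and q ≥ 0, the group H^q(P^n_R, O(d)) is zero unless q = 0 and d ≥ 0, or
q = n and d ≤ -n-1. -/
theorem result (R : Type u) [CommRing R] (n : ℕ) (d : ℤ) (q : ℕ)
    (h₀ : ¬ (q = 0 ∧ 0 ≤ d)) (hn : ¬ (q = n ∧ d ≤ -((n : ℤ) + 1))) :
    Subsingleton (Coh.HH (CohB1.ProjSpace n R) (Twist.twistProjSpace n R d) q) := by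
  rcases Nat.lt_trichotomy q n with hlt | heq | hgt
  · rcases Nat.eq_zero_or_pos q with hq0 | hqpos
    · subst hq0
      have hd : d < 0 := by
        by_contra h
        exact h₀ ⟨rfl, by omega⟩
      exact Groth.Agent.Helper1.ProjTop.subsingleton_H0 n R d hlt hd
    · exact Groth.Agent.Helper1.ProjTop.subsingleton_mid n R d q hqpos (by omega)
  · subst heq
    have hd : -((q : ℤ) + 1) < d := by
      by_contra h
      exact hn ⟨rfl, by omega⟩
    rcases Nat.eq_zero_or_pos q with hq0 | hqpos
    · subst hq0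
      exfalso
      apply h₀
      refine ⟨rfl, ?_⟩
      push_cast at hd
      omega
    · exact Groth.Agent.Helper1.ProjTop.subsingleton_top q R d hqpos hd
  · haveI : Coh.IsQCoh (Twist.twistProjSpace n R d) :=
      Groth.Agent.Helper1.TwistIso.isQuasicoherent_twist (CohB1.polyGrading n R) d
    exact Groth.Agent.S0022.result n R _ q hgt

end Groth.Agent.S0844
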