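import Groth.Statements.S0456
import Mathlib
import Groth.Agent.Lead.CohTopD

set_option autoImplicit false
universe u
open CategoryTheory
open CohTop

namespace Groth.Agent.S0456

open CategoryTheory.Limits in
/-- For a continuous map f and a flasque abelian sheaf F on the source, R^(q+1) f_* F = 0. -/
theorem result {X Y : TopCat.{u}} (f : X ⟶ Y) (F : CohTop.Ab X)
    [TopCat.Sheaf.IsFlasque F] (q : ℕ) : IsZero ((CohTop.Rpush f (q + 1)).obj F) := by
  let I : InjectiveResolution F := injectiveResolution F
  refine IsZero.of_iso ?_ (I.isoRightDerivedObj (CohTop.push f) (q + 1))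
  erw [← HomologicalComplex.exactAt_iff_isZero_homology]
  rw [HomologicalComplex.exactAt_iff' _ q (q + 1) (q + 2) (by simp)
    (by simp only [CochainComplex.next]; rfl)]
  rw [ShortComplex.exact_iff_epi_kernel_lift]
  set S' := (((CohTop.push f).mapHomologicalComplex (ComplexShape.up ℕ)).obj I.cocomplex).sc'
    q (q + 1) (q + 2) with hS'
  suffices h : Epi (kernel.lift S'.g S'.f S'.zero).hom from Sheaf.Hom.epi_of_presheaf_epi _ _ _
  rw [NatTrans.epi_iff_epi_app]
  intro V
  rw [AddCommGrpCat.epi_iff_surjective]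
  intro z
  obtain ⟨V⟩ := V
  -- the section `s` of `I^{q+1}` over `f⁻¹ V`
  let s := (kernel.ι S'.g).hom.app (Opposite.op V) z
  have hs : S'.g.hom.app (Opposite.op V) s = 0 := by
    have h0 : kernel.ι S'.g ≫ S'.g = 0 := kernel.condition _
    have := congrArg (fun φ => φ.hom.app (Opposite.op V) z) h0
    exact this
  obtain ⟨t, ht⟩ := Groth.Agent.Lead.CohTopB.sections_exact I q
    ((TopologicalSpace.Opens.map f).obj V) s hs
  refine ⟨t, ?_⟩
  have hmono : Mono (kernel.ι S'.g).hom := inferInstance
  rw [NatTrans.mono_iff_mono_app] at hmono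
  have hinj := (AddCommGrpCat.mono_iff_injective _).mp (hmono (Opposite.op V))
  apply hinj
  have h1 : kernel.lift S'.g S'.f S'.zero ≫ kernel.ι S'.g = S'.f := kernel.lift_ι _ _ _
  have := congrArg (fun φ => φ.hom.app (Opposite.op V) t) h1
  simp only [ObjectProperty.FullSubcategory.comp_hom, NatTrans.comp_app,
    AddCommGrpCat.hom_comp, AddMonoidHom.coe_comp, Function.comp_apply] at this
  rw [this]
  exact ht

end Groth.Agent.S0456
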