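import Groth.Statements.S0002
import Mathlib
import Groth.Agent.Helper1.Fin12

set_option autoImplicit false
universe u
open Coh

namespace Groth.Agent.S0002

open CategoryTheory AlgebraicGeometry in
/-- Finiteness of coherent cohomology over an affine base: if A is a Noetherian ring, X is a scheme
proper over Spec A and M is a coherent O_X-module, then each H^n(X, M) is a finite A-module.
(`Coh.IsCoh` is quasi-coherent of finite type, which is coherent here since X is locally
Noetherian.) -/
theorem result (A : Type u) [CommRing A] [IsNoetherianRing A] (X : Scheme.{u})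
    [X.Over (Spec (CommRingCat.of A))] [IsProper (X ↘ Spec (CommRingCat.of A))]
    (M : X.Modules) (hM : Coh.IsCoh M) (n : ℕ) : Module.Finite A (Coh.HH X M n) := by
  classical
  haveI : CompactSpace X := by
    haveI : QuasiCompact (X ↘ Spec (CommRingCat.of A)) := inferInstance
    exact QuasiCompact.compactSpace_of_compactSpace (X ↘ Spec (CommRingCat.of A))
  haveI : IsNoetherian X :=
    { __ := LocallyOfFiniteType.isLocallyNoetherian (X ↘ Spec (CommRingCat.of A)) }
  have hK := Groth.Agent.Helper1.Fin.exactClass_KFin A (X := X)
  refine (Groth.Agent.Helper1.Dev.core hK ⊤ ?_ M hM (Set.subset_univ _)) n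
  intro Y _ hirrY hB
  obtain ⟨G, hG, hKG, hkill, y, hy, hyG⟩ :=
    Groth.Agent.Helper1.Fin.exists_module_of_irreducible A Y hirrY
  exact Groth.Agent.Helper1.Dev.structure_of_summand_push hK
    (fun M N i r hir _ _ h => Groth.Agent.Helper1.Fin.KFin_summand A M N i r hir h)
    Y hirrY hB G hG hKG hkill y hy hyG

end Groth.Agent.S0002
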