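import Groth.Statements.S0484
import Mathlib

set_option autoImplicit false
universe u
open CategoryTheory
open CohSite

namespace Groth.Agent.S0484

open CategoryTheory.Limits

section
variable {C : Type u} [SmallCategory C] (R₀ : Cᵒᵖ ⥤ RingCat.{u})

theorem presheaf_hasExact (K : Type u) [SmallCategory K] [IsFiltered K] :
    HasExactColimitsOfShape K (PresheafOfModules.{u} R₀) := by
  have : ReflectsFiniteLimits (PresheafOfModules.toPresheaf.{u} R₀) :=
    ⟨fun J _ _ => reflectsLimitsOfShape_of_reflectsIsomorphisms⟩
  exact HasExactColimitsOfShape.domain_of_functor K (PresheafOfModules.toPresheaf.{u} R₀)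

end

section
variable {C : Type u} [SmallCategory C] (J : GrothendieckTopology C) (R : Sheaf J RingCat.{u})

theorem sheaf_hasExact (K : Type u) [SmallCategory K] [IsFiltered K] :
    HasExactColimitsOfShape K (SheafOfModules.{u} R) := by
  have := presheaf_hasExact R.obj K
  exact (PresheafOfModules.sheafificationAdjunction (𝟙 R.obj)).hasExactColimitsOfShape K

theorem sheaf_isSeparating :
    ObjectProperty.IsSeparating (.ofObj (fun X : C =>
      (PresheafOfModules.sheafification (𝟙 R.obj)).obj
        ((yoneda ⋙ PresheafOfModules.free R.obj).obj X))) := by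
  intro F G f g hfg
  let adj := PresheafOfModules.sheafificationAdjunction (𝟙 R.obj)
  refine (SheafOfModules.forget R ⋙ PresheafOfModules.restrictScalars (𝟙 R.obj)).map_injective ?_
  refine PresheafOfModules.freeYoneda.isSeparating R.obj _ _ ?_
  rintro _ ⟨X⟩ a
  apply (adj.homEquiv _ _).symm.injective
  simpa only [← Adjunction.homEquiv_naturality_right_symm] using
    hfg _ (ObjectProperty.ofObj_apply _ X) ((adj.homEquiv _ _).symm a)

end

/-- For a sheaf of rings O on a small site, the category of O-modules has exact filtered colimits and a
generator, so it is a Grothendieck abelian category. -/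
theorem result {C : Type u} [SmallCategory C] (J : GrothendieckTopology C)
    (R : Sheaf J RingCat.{u}) : IsGrothendieckAbelian.{u} (SheafOfModules.{u} R) := by
  refine { locallySmall := inferInstance
           hasFilteredColimitsOfSize := ⟨fun K _ _ => inferInstance⟩
           ab5OfSize := ⟨fun K _ _ => sheaf_hasExact J R K⟩
           hasSeparator := ⟨⟨_, (sheaf_isSeparating J R).isSeparator_coproduct⟩⟩ }

end Groth.Agent.S0484
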