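import Groth.Statements.S6983
import Mathlib
import Groth.Agent.Helper3.DRingRestrComp

set_option autoImplicit false
universe u
open scoped TensorProduct
open CategoryTheory CategoryTheory.Limits
attribute [local instance] HasDerivedCategory.standard
open DerCA

namespace Groth.Agent.S6983

/-- Let R → A be a homomorphism of commutative rings, α : R[x_1, ..., x_n] → A and β : R[y_1, ..., y_k]
→ A surjective R-algebra homomorphisms, K an object of D(A) and m an integer. Then K, restricted
along α, is m-pseudo-coherent over R[x_1, ..., x_n] if and only if K, restricted along β, is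
m-pseudo-coherent over R[y_1, ..., y_k]. -/
theorem result {R A : Type u} [CommRing R] [CommRing A] [Algebra R A]
    {n k : ℕ} (α : MvPolynomial (Fin n) R →ₐ[R] A) (hα : Function.Surjective α)
    (β : MvPolynomial (Fin k) R →ₐ[R] A) (hβ : Function.Surjective β) (K : Dual.D A) (m : ℤ) :
    DerCA.IsRelPseudoCoherentVia α m K ↔ DerCA.IsRelPseudoCoherentVia β m K := by
  classical
  choose p hp using fun j : Fin k => hα (β (MvPolynomial.X j))
  choose q hq using fun i : Fin n => hβ (α (MvPolynomial.X i))
  let εx : MvPolynomial (Fin k) (MvPolynomial (Fin n) R) →+* MvPolynomial (Fin n) R :=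
    MvPolynomial.eval p
  let εy : MvPolynomial (Fin n) (MvPolynomial (Fin k) R) →+* MvPolynomial (Fin k) R :=
    MvPolynomial.eval q
  let σ : MvPolynomial (Fin k) (MvPolynomial (Fin n) R) ≃+*
      MvPolynomial (Fin n) (MvPolynomial (Fin k) R) :=
    (MvPolynomial.commAlgEquiv R (Fin k) (Fin n)).toRingEquiv
  have key : ((β : MvPolynomial (Fin k) R →+* A).comp εy).comp σ.toRingHom =
      (α : MvPolynomial (Fin n) R →+* A).comp εx := by
    apply MvPolynomial.ringHom_ext
    · intro r
      have h0 : (((β : MvPolynomial (Fin k) R →+* A).comp εy).comp σ.toRingHom).comp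
          MvPolynomial.C = ((α : MvPolynomial (Fin n) R →+* A).comp εx).comp MvPolynomial.C := ?_
      · exact RingHom.congr_fun h0 r
      apply MvPolynomial.ringHom_ext
      · intro r
        change β (εy (MvPolynomial.commAlgEquiv R (Fin k) (Fin n)
          (MvPolynomial.C (MvPolynomial.C r)))) = α (εx (MvPolynomial.C (MvPolynomial.C r)))
        simp [εx, εy]
      · intro i
        change β (εy (MvPolynomial.commAlgEquiv R (Fin k) (Fin n)
          (MvPolynomial.C (MvPolynomial.X i)))) = α (εx (MvPolynomial.C (MvPolynomial.X i)))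
        rw [MvPolynomial.commAlgEquiv_C_X]
        simp [εx, εy, hq]
    · intro j
      change β (εy (MvPolynomial.commAlgEquiv R (Fin k) (Fin n) (MvPolynomial.X j))) =
        α (εx (MvPolynomial.X j))
      rw [MvPolynomial.commAlgEquiv_X]
      simp [εx, εy, hp]
  unfold DerCA.IsRelPseudoCoherentVia
  rw [← Groth.Agent.Helper3.DRingLib.goodHom_mvEval k _ p A (α : MvPolynomial (Fin n) R →+* A) K m,
    ← Groth.Agent.Helper3.DRingLib.goodHom_mvEval n _ q A (β : MvPolynomial (Fin k) R →+* A) K m,
    ← Groth.Agent.Helper3.DRingLib.goodHom_ringEquiv σ A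
      ((β : MvPolynomial (Fin k) R →+* A).comp εy) K m, key]

end Groth.Agent.S6983
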