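import Groth.Statements.S2068
import Mathlib
import Groth.Agent.Helper3.DRingFin

set_option autoImplicit false
universe u
open scoped TensorProduct
open CategoryTheory
attribute [local instance] HasDerivedCategory.standard
open CAlg

namespace Groth.Agent.S2068

/-- If `K` is `m`-pseudo-coherent in `D(A)`, its cohomology in degree `m` is a finitely generated module
when nothing above degree `m` survives, and its cohomology in degree `m+1` is finitely presented
when nothing above degree `m+1` survives. -/
theorem result {A : Type u} [CommRing A] (K : Dual.D A) (m : ℤ)
    (hK : DRing.IsPseudoCoherent A m K) :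
    ((∀ i : ℤ, m < i → Limits.IsZero ((DerivedCategory.homologyFunctor (ModuleCat.{u} A) i).obj K)) →
        Module.Finite A ((DerivedCategory.homologyFunctor (ModuleCat.{u} A) m).obj K)) ∧
      ((∀ i : ℤ, m + 1 < i → Limits.IsZero ((DerivedCategory.homologyFunctor (ModuleCat.{u} A) i).obj K)) →
        Module.FinitePresentation A ((DerivedCategory.homologyFunctor (ModuleCat.{u} A) (m + 1)).obj K)) := by
  open Groth.Agent.Helper3.DRingLib in
  obtain ⟨E, a, b, α, v, ff, hiso, hepi⟩ := hK
  have hE : DRing.TermwiseFiniteProjective E := fun i => by
    obtain ⟨h1, h2⟩ := ff i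
    exact ⟨h1, inferInstance⟩
  have hb : DRing.VanishesAbove E b := fun i hi => v i (Or.inr hi)
  constructor
  · intro h
    have hex : ∀ i, m < i →
        Limits.IsZero ((DerivedCategory.homologyFunctor (ModuleCat.{u} A) i).obj (DRing.toD E)) := by
      intro i hi
      have := hiso i hi
      exact (h i hi).of_iso (asIso ((DerivedCategory.homologyFunctor (ModuleCat.{u} A) i).map α))
    have := finite_homology_of_exact_above E hE b hb m hex
    exact Module.Finite.of_surjective
      ((DerivedCategory.homologyFunctor (ModuleCat.{u} A) m).map α).hom
      ((ModuleCat.epi_iff_surjective _).mp hepi)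
  · intro h
    have hex : ∀ i, m + 1 < i →
        Limits.IsZero ((DerivedCategory.homologyFunctor (ModuleCat.{u} A) i).obj (DRing.toD E)) := by
      intro i hi
      have := hiso i (by omega)
      exact (h i hi).of_iso (asIso ((DerivedCategory.homologyFunctor (ModuleCat.{u} A) i).map α))
    have := finitePresentation_homology_of_exact_above E hE b hb (m + 1) hex
    have := hiso (m + 1) (by omega)
    exact finitePresentation_of_iso
      (asIso ((DerivedCategory.homologyFunctor (ModuleCat.{u} A) (m + 1)).map α)) ‹_›

end Groth.Agent.S2068
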