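import Groth.Statements.S6935
import Mathlib
import Groth.Agent.Helper3.DRingPC2
import Groth.Agent.S2068

set_option autoImplicit false
universe u
open scoped TensorProduct
open CategoryTheory CategoryTheory.Limits
attribute [local instance] HasDerivedCategory.standard
open DRing

namespace Groth.Agent.S6935

/-- Let R be a commutative ring and M an R-module, viewed as the complex M[0] in D(R). Then M[0] is
0-pseudo-coherent exactly when M is finitely generated over R, and M[0] is (-1)-pseudo-coherent
exactly when M admits a finite presentation over R. -/
theorem result (R : Type u) [CommRing R]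
    (M : Type u) [AddCommGroup M] [Module R M] :
    (DRing.IsPseudoCoherentModule R 0 M ↔ Module.Finite R M) ∧
      (DRing.IsPseudoCoherentModule R (-1) M ↔ Module.FinitePresentation R M) := by
  open Groth.Agent.Helper3.DRingLib in
  have hz : ∀ i : ℤ, 0 < i → Limits.IsZero
      ((DerivedCategory.homologyFunctor (ModuleCat.{u} R) i).obj (Dual.inD R M)) :=
    fun i hi => (Dual.inD R M).isZero_of_isLE 0 i hi
  constructor
  · constructor
    · intro h
      have := (Groth.Agent.S2068.result (Dual.inD R M) 0 h).1 hz
      exact Module.Finite.equiv (HDinDIso (ModuleCat.of R M)).toLinearEquiv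
    · intro h
      exact isPseudoCoherent_inD_of_finite M
  · constructor
    · intro h
      have := (Groth.Agent.S2068.result (Dual.inD R M) (-1) h).2
        (fun i hi => hz i (by omega))
      rw [show (-1 : ℤ) + 1 = 0 from by norm_num] at this
      exact Module.FinitePresentation.of_equiv (HDinDIso (ModuleCat.of R M)).toLinearEquiv
    · intro h
      exact isPseudoCoherent_inD_of_finitePresentation M

end Groth.Agent.S6935
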