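import Groth.Statements.S6985
import Mathlib
import Groth.Agent.Helper3.DRingRelPC
import Groth.Agent.Helper3.DRingPolyBC

set_option autoImplicit false
universe u
open scoped TensorProduct
open CategoryTheory CategoryTheory.Limits
attribute [local instance] HasDerivedCategory.standard
open DerCA

namespace Groth.Agent.S6985

/-- Let R be a commutative ring and A → B a homomorphism of finite type R-algebras such that A, as an
A-module, is pseudo-coherent relative to R. Let K be an object of D(B) and m an integer. Then K is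
m-pseudo-coherent relative to A if and only if K is m-pseudo-coherent relative to R; and K is
pseudo-coherent relative to A if and only if it is pseudo-coherent relative to R. -/
theorem result {R A B : Type u} [CommRing R] [CommRing A]
    [CommRing B] [Algebra R A] [Algebra A B] [Algebra R B] [IsScalarTower R A B] [Algebra.FiniteType R A]
    [Algebra.FiniteType R B] [Algebra.FiniteType A B] (hA : DerCA.IsRelPseudoCoherentModuleAll R A A)
    (K : Dual.D B) (m : ℤ) :
    (DerCA.IsRelPseudoCoherent A B m K ↔ DerCA.IsRelPseudoCoherent R B m K) ∧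
      (DerCA.IsRelPseudoCoherentAll A B K ↔ DerCA.IsRelPseudoCoherentAll R B K) := by
  obtain ⟨n, α, hα⟩ := Groth.Agent.Helper3.DRingLib.exists_presentation R A
  obtain ⟨k, β, hβ⟩ := Groth.Agent.Helper3.DRingLib.exists_presentation A B
  letI algPA : Algebra (MvPolynomial (Fin n) R) A := α.toRingHom.toAlgebra
  -- `A` is pseudo-coherent over `P_n`
  have hA' : DRing.IsPseudoCoherent' (MvPolynomial (Fin n) R) (Dual.inD (MvPolynomial (Fin n) R) A) := by
    rw [Groth.Agent.Helper3.DRingLib.isPseudoCoherent'_iff_forall]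
    intro m'
    have h1 := (Groth.Agent.Helper3.DRingLib.relPC_iff_via α hα m' (Dual.inD A A)).mp (hA m')
    unfold DerCA.IsRelPseudoCoherentVia at h1
    have h2 := Groth.Agent.Helper3.DRingLib.isPseudoCoherent_of_iso
      (Groth.Agent.Helper3.DRingLib.rDSingle (α : MvPolynomial (Fin n) R →+* A) 0
        (ModuleCat.of A A)) h1
    exact Groth.Agent.Helper3.DRingLib.isPseudoCoherent_of_iso
      ((DerivedCategory.singleFunctor (ModuleCat.{u} (MvPolynomial (Fin n) R)) 0).mapIso
        (Groth.Agent.Helper3.DRingLib.restrictSelfEquiv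
          (A := MvPolynomial (Fin n) R) (B := A)).toModuleIso) h2
  have hgood := Groth.Agent.Helper3.DRingLib.goodHom_mvPolynomial_map (Fin k) hA'
  let eAlg : MvPolynomial (Fin (k + n)) R ≃ₐ[R] MvPolynomial (Fin k) (MvPolynomial (Fin n) R) :=
    (MvPolynomial.renameEquiv R finSumFinEquiv.symm).trans (MvPolynomial.sumAlgEquiv R (Fin k) (Fin n))
  let γ : MvPolynomial (Fin (k + n)) R →ₐ[R] B :=
    ((β.restrictScalars R).comp (MvPolynomial.mapAlgHom α)).comp eAlg.toAlgHom
  have hγ : Function.Surjective γ := by
    intro b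
    obtain ⟨t, rfl⟩ := hβ b
    obtain ⟨s, rfl⟩ := MvPolynomial.map_surjective (α : MvPolynomial (Fin n) R →+* A) hα t
    obtain ⟨p, rfl⟩ := eAlg.surjective s
    exact ⟨p, rfl⟩
  have hγ' : (γ : MvPolynomial (Fin (k + n)) R →+* B) =
      ((β : MvPolynomial (Fin k) A →+* B).comp
        (MvPolynomial.map (algebraMap (MvPolynomial (Fin n) R) A))).comp
        eAlg.toRingEquiv.toRingHom := rfl
  have key : ∀ m' : ℤ, DerCA.IsRelPseudoCoherent A B m' K ↔ DerCA.IsRelPseudoCoherent R B m' K := by
    intro m'
    rw [Groth.Agent.Helper3.DRingLib.relPC_iff_via β hβ,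
      Groth.Agent.Helper3.DRingLib.relPC_iff_via γ hγ]
    unfold DerCA.IsRelPseudoCoherentVia
    rw [hγ', Groth.Agent.Helper3.DRingLib.goodHom_ringEquiv eAlg.toRingEquiv B _ K m',
      hgood B (β : MvPolynomial (Fin k) A →+* B) K m']
  exact ⟨key m, forall_congr' key⟩

end Groth.Agent.S6985
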