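import Groth.Statements.S0274
import Groth.Agent.Helper2.PureFlat
open TensorProduct Function LinearMap Groth.Agent.Helper2.PureFlat
-- import your own Groth.Agent.* helpers here

set_option autoImplicit false
universe u
open scoped TensorProduct
open Pi1

namespace Groth.Agent.S0274

/-- Let R -> S be universally injective and M an R-module such that S ⊗_R M is flat over S. Then M is
flat over R. -/
theorem result (R S : Type u) [CommRing R] [CommRing S] [Algebra R S]
    (h : Pi1.UnivInjective R S) (M : Type u) [AddCommGroup M] [Module R M]
    [Module.Flat S (S ⊗[R] M)] : Module.Flat R M := by
  have hφ : Surjective (Finsupp.linearCombination R (id : M → M)) :=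
    Finsupp.linearCombination_id_surjective R M
  exact flat_of_ker_inf_le _ hφ (fun I => ker_inf_le_of_univInjective h _ hφ I)

end Groth.Agent.S0274
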