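import Groth.Statements.S6384
import Mathlib
import Groth.Agent.Helper3.FlatTors

set_option autoImplicit false
universe u
open scoped TensorProduct
open scoped TensorProduct
open CAlg

namespace Groth.Agent.S6384

/-- Let φ : R → R' be a ring map, I ⊆ R an ideal and M an R-module such that M/IM is R/I-flat and R' ⊗_R
M is R'-flat. Put I₂ = φ⁻¹(φ(I²) R'). Then M/I₂M is flat over R/I₂. -/
theorem result (R R' : Type u) [CommRing R] [CommRing R'] [Algebra R R']
    (I : Ideal R) (M : Type u) [AddCommGroup M] [Module R M] [Module.Flat (R ⧸ I) ((R ⧸ I) ⊗[R] M)]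
    [Module.Flat R' (R' ⊗[R] M)] :
    Module.Flat (R ⧸ ((I ^ 2).map (algebraMap R R')).comap (algebraMap R R'))
      ((R ⧸ ((I ^ 2).map (algebraMap R R')).comap (algebraMap R R')) ⊗[R] M) := by
  classical
  set J' : Ideal R' := (I ^ 2).map (algebraMap R R') with hJ'
  set J : Ideal R := J'.comap (algebraMap R R') with hJ
  have hI2J : I ^ 2 ≤ J := Ideal.le_comap_map
  apply Groth.Agent.Helper3.FlatTors.flat_quotient_of_injective J
  intro 𝔞
  set ι : 𝔞 →ₗ[R] (R ⧸ J) := 𝔞.subtype.restrictScalars R with hι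
  -- the induced map R/J → R'/J'
  let φr : (R ⧸ J) →+* (R' ⧸ J') := Ideal.quotientMap J' (algebraMap R R') le_rfl
  have hφr : Function.Injective φr := Ideal.quotientMap_injective
  have hφr_mk : ∀ r : R, φr (Ideal.Quotient.mk J r) = Ideal.Quotient.mk J' (algebraMap R R' r) :=
    fun r => rfl
  let φl : (R ⧸ J) →ₗ[R] (R' ⧸ J') :=
    { toFun := φr
      map_add' := map_add φr
      map_smul' := by
        intro r x
        obtain ⟨y, rfl⟩ := Ideal.Quotient.mk_surjective x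
        have e1 : r • Ideal.Quotient.mk J y = Ideal.Quotient.mk J (r * y) := rfl
        change φr (r • Ideal.Quotient.mk J y) = r • φr (Ideal.Quotient.mk J y)
        rw [e1, hφr_mk, hφr_mk, map_mul, map_mul, Algebra.smul_def]
        rfl }
  -- step 1
  let fac : (R ⧸ J) →ₗ[R] (R ⧸ (I ⊔ J)) := Submodule.mapQ J (I ⊔ J) LinearMap.id (by
    intro x hx; exact (le_sup_right : J ≤ I ⊔ J) hx)
  have hfac : ∀ r : R, fac (Ideal.Quotient.mk J r) = Ideal.Quotient.mk (I ⊔ J) r := fun r => rfl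
  have torsQ : Module.IsTorsionBySet R (R ⧸ (I ⊔ J)) (I : Set R) := by
    intro x a
    obtain ⟨r, rfl⟩ := Ideal.Quotient.mk_surjective x
    change (a : R) • Ideal.Quotient.mk (I ⊔ J) r = 0
    rw [← Ideal.Quotient.mk_eq_mk, ← Submodule.Quotient.mk_smul, Ideal.Quotient.mk_eq_mk,
      Ideal.Quotient.eq_zero_iff_mem, smul_eq_mul]
    exact (I ⊔ J).mul_mem_right _ (Ideal.mem_sup_left a.2)
  let g₁ : 𝔞 →ₗ[R] (R ⧸ (I ⊔ J)) := fac ∘ₗ ι
  let K₁ : Submodule R 𝔞 := LinearMap.ker g₁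
  let gbar : (𝔞 ⧸ K₁) →ₗ[R] (R ⧸ (I ⊔ J)) := K₁.liftQ g₁ le_rfl
  have hgbar : Function.Injective gbar := by
    rw [← LinearMap.ker_eq_bot]
    exact Submodule.ker_liftQ_eq_bot _ _ _ le_rfl
  have torsQ' : Module.IsTorsionBySet R (𝔞 ⧸ K₁) (I : Set R) := by
    intro x a
    apply hgbar
    rw [map_smul, map_zero]
    exact torsQ (a := a)
  rw [injective_iff_map_eq_zero]
  intro x hx
  have h1 : LinearMap.rTensor M gbar (LinearMap.rTensor M K₁.mkQ x) = 0 := by
    rw [← LinearMap.comp_apply, ← LinearMap.rTensor_comp]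
    have : gbar ∘ₗ K₁.mkQ = fac ∘ₗ ι := by
      ext n; rfl
    rw [this, LinearMap.rTensor_comp, LinearMap.comp_apply, hx, map_zero]
  have h2 : LinearMap.rTensor M K₁.mkQ x = 0 :=
    (injective_iff_map_eq_zero _).1
      (Groth.Agent.Helper3.FlatTors.rTensor_injective_of_torsion (M := M) I torsQ' torsQ gbar hgbar)
      _ h1
  have hex := rTensor_exact M (LinearMap.exact_subtype_mkQ K₁) (Submodule.mkQ_surjective K₁)
  obtain ⟨x₁, rfl⟩ := (hex x).1 h2
  -- elements of K₁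
  have hmemK₁ : ∀ n : K₁, ∃ i : R, i ∈ I ∧ ((n : 𝔞) : R ⧸ J) = Ideal.Quotient.mk J i := by
    intro n
    obtain ⟨r, hr⟩ := Ideal.Quotient.mk_surjective ((n : 𝔞) : R ⧸ J)
    have hn : g₁ (n : 𝔞) = 0 := n.2
    change fac ((n : 𝔞) : R ⧸ J) = 0 at hn
    rw [← hr, hfac, Ideal.Quotient.eq_zero_iff_mem] at hn
    obtain ⟨i, hi, j, hj, hij⟩ := Submodule.mem_sup.1 hn
    refine ⟨i, hi, ?_⟩
    rw [← hr, ← hij, map_add, (Ideal.Quotient.eq_zero_iff_mem).2 hj, add_zero]
  -- the target T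
  let T : Submodule R' (R' ⧸ J') :=
    ((I.map (algebraMap R R')).map (Ideal.Quotient.mk J')).restrictScalars R'
  have hmemT : ∀ t : T, ∃ y : R', y ∈ I.map (algebraMap R R') ∧
      (t : R' ⧸ J') = Ideal.Quotient.mk J' y := by
    intro t
    have ht : (t : R' ⧸ J') ∈ (I.map (algebraMap R R')).map (Ideal.Quotient.mk J') := t.2
    rw [Ideal.mem_map_iff_of_surjective _ Ideal.Quotient.mk_surjective] at ht
    obtain ⟨y, hy, hyt⟩ := ht
    exact ⟨y, hy, hyt.symm⟩
  have torsT : Module.IsTorsionBySet R T (I : Set R) := by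
    intro t a
    obtain ⟨y, hy, hyt⟩ := hmemT t
    apply Subtype.ext
    change (a : R) • (t : R' ⧸ J') = 0
    rw [hyt, Algebra.smul_def]
    change Ideal.Quotient.mk J' (algebraMap R R' a) * Ideal.Quotient.mk J' y = 0
    rw [← map_mul, Ideal.Quotient.eq_zero_iff_mem, hJ', pow_two, Ideal.map_mul]
    exact Ideal.mul_mem_mul (Ideal.mem_map_of_mem _ a.2) hy
  have torsK₁ : Module.IsTorsionBySet R K₁ (I : Set R) := by
    intro n a
    obtain ⟨i, hi, hn⟩ := hmemK₁ n
    apply Subtype.ext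
    apply Subtype.ext
    change (a : R) • ((n : 𝔞) : R ⧸ J) = 0
    rw [hn, ← Ideal.Quotient.mk_eq_mk, ← Submodule.Quotient.mk_smul, Ideal.Quotient.mk_eq_mk,
      Ideal.Quotient.eq_zero_iff_mem, smul_eq_mul]
    apply hI2J
    rw [pow_two]
    exact Ideal.mul_mem_mul a.2 hi
  let g₂ : K₁ →ₗ[R] T :=
    LinearMap.codRestrict (T.restrictScalars R) (φl ∘ₗ ι ∘ₗ K₁.subtype) (by
      intro n
      obtain ⟨i, hi, hn⟩ := hmemK₁ n
      change φr ((n : 𝔞) : R ⧸ J) ∈ (I.map (algebraMap R R')).map (Ideal.Quotient.mk J')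
      rw [hn, hφr_mk]
      exact Ideal.mem_map_of_mem _ (Ideal.mem_map_of_mem _ hi))
  have hg₂ : Function.Injective g₂ := by
    intro n n' hnn'
    have : φr ((n : 𝔞) : R ⧸ J) = φr ((n' : 𝔞) : R ⧸ J) := congrArg Subtype.val hnn'
    apply Subtype.ext
    apply Subtype.ext
    exact hφr this
  have h3 : LinearMap.rTensor M g₂ x₁ = 0 := by
    have hinj := Groth.Agent.Helper3.FlatTors.rTensor_injective_of_flat_baseChange (R := R) (A := R')
      (M := M) T.subtype T.injective_subtype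
    apply hinj
    rw [map_zero, ← LinearMap.comp_apply, ← LinearMap.rTensor_comp]
    have : (T.subtype.restrictScalars R) ∘ₗ g₂ = φl ∘ₗ ι ∘ₗ K₁.subtype := by
      ext n; rfl
    rw [this, LinearMap.rTensor_comp, LinearMap.rTensor_comp, LinearMap.comp_apply,
      LinearMap.comp_apply, hx, map_zero]
  have h4 : x₁ = 0 :=
    (injective_iff_map_eq_zero _).1
      (Groth.Agent.Helper3.FlatTors.rTensor_injective_of_torsion (M := M) I torsK₁ torsT g₂ hg₂)
      _ h3
  rw [h4, map_zero]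

end Groth.Agent.S6384
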