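import Groth.Statements.S6352
import Mathlib
import Groth.Agent.S6384

set_option autoImplicit false
universe u
open scoped TensorProduct
open scoped TensorProduct
open CAlg

namespace Groth.Agent.S6352

/-- Let R → R' be an injective ring map, I ⊆ R a nilpotent ideal and M an R-module. Then flatness of M
over R follows from flatness of M/IM over R/I together with flatness of R' ⊗_R M over R'. -/
theorem result (R R' : Type u) [CommRing R] [CommRing R']
    [Algebra R R'] (hinj : Function.Injective (algebraMap R R')) (I : Ideal R) (hI : IsNilpotent I)
    (M : Type u) [AddCommGroup M] [Module R M] [Module.Flat (R ⧸ I) ((R ⧸ I) ⊗[R] M)]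
    [Module.Flat R' (R' ⊗[R] M)] : Module.Flat R M := by
  classical
  have key : ∀ n : ℕ, ∀ I : Ideal R, (I.map (algebraMap R R')) ^ n = ⊥ →
      Module.Flat (R ⧸ I) ((R ⧸ I) ⊗[R] M) → Module.Flat R M := by
    intro n
    induction n using Nat.strong_induction_on with
    | _ n ih =>
      intro I hn hflat
      rcases Nat.lt_or_ge n 2 with hlt | hge
      · -- n = 0 or 1 : I = ⊥
        have hI0 : I = ⊥ := by
          rcases Nat.lt_or_ge n 1 with h0 | h1
          · have hn0 : n = 0 := by omega
            subst hn0
            rw [pow_zero, Ideal.one_eq_top] at hn
            haveI : Subsingleton R' := by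
              have h1 : (1 : R') ∈ (⊥ : Ideal R') := hn ▸ Submodule.mem_top
              have h10 : (1 : R') = 0 := h1
              exact subsingleton_of_zero_eq_one h10.symm
            haveI : Subsingleton R := hinj.subsingleton
            exact Subsingleton.elim _ _
          · have hn1 : n = 1 := by omega
            subst hn1
            rw [pow_one] at hn
            rw [eq_bot_iff]
            intro x hx
            have : algebraMap R R' x ∈ I.map (algebraMap R R') := Ideal.mem_map_of_mem _ hx
            rw [hn] at this
            have h0 : algebraMap R R' x = 0 := this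
            rw [← map_zero (algebraMap R R')] at h0
            exact hinj h0
        subst hI0
        haveI := hflat
        rw [Module.Flat.iff_rTensor_preserves_injective_linearMap]
        intro N N' _ _ _ _ L hL
        apply Groth.Agent.Helper3.FlatTors.rTensor_injective_of_torsion (M := M) (⊥ : Ideal R) _ _ L hL
        · intro x a
          have : (a : R) = 0 := a.2
          change (a : R) • x = 0
          rw [this, zero_smul]
        · intro x a
          have : (a : R) = 0 := a.2
          change (a : R) • x = 0
          rw [this, zero_smul]
      · -- n ≥ 2
        haveI := hflat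
        have hJflat := Groth.Agent.S6384.result R R' I M
        set J : Ideal R := ((I ^ 2).map (algebraMap R R')).comap (algebraMap R R') with hJ
        have hJmap : J.map (algebraMap R R') ≤ (I.map (algebraMap R R')) ^ 2 := by
          rw [← Ideal.map_pow]
          exact Ideal.map_comap_le
        have hpow : (J.map (algebraMap R R')) ^ ((n + 1) / 2) = ⊥ := by
          rw [eq_bot_iff]
          calc (J.map (algebraMap R R')) ^ ((n + 1) / 2)
              ≤ ((I.map (algebraMap R R')) ^ 2) ^ ((n + 1) / 2) := Ideal.pow_right_mono hJmap _
            _ = (I.map (algebraMap R R')) ^ (2 * ((n + 1) / 2)) := by rw [← pow_mul]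
            _ ≤ (I.map (algebraMap R R')) ^ n := Ideal.pow_le_pow_right (by omega)
            _ = ⊥ := hn
        exact ih ((n + 1) / 2) (by omega) J hpow hJflat
  obtain ⟨n, hn⟩ := hI
  apply key n I _ inferInstance
  rw [← Ideal.map_pow, hn]
  exact Ideal.map_bot

end Groth.Agent.S6352
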