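import Groth.Statements.S6893
import Mathlib
import Groth.Agent.Helper3.FlatTors

set_option autoImplicit false
universe u
open scoped TensorProduct
open TensorProduct
open CAlg

namespace Groth.Agent.S6893

/-- Let `M` be a module over a ring `R` and `I₁, I₂ ⊆ R` ideals. Suppose flatness of `M/I₁M` as an
`R/I₁`-module holds, and likewise `M/I₂M` is a flat `R/I₂`-module; then the quotient `M/(I₁ ∩ I₂)M`
is also flat as a module over `R/(I₁ ∩ I₂)`. -/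
theorem result {R : Type u} [CommRing R] (M : Type u) [AddCommGroup M] [Module R M]
    (I₁ I₂ : Ideal R) [Module.Flat (R ⧸ I₁) ((R ⧸ I₁) ⊗[R] M)] [Module.Flat (R ⧸ I₂) ((R ⧸ I₂) ⊗[R] M)] :
    Module.Flat (R ⧸ (I₁ ⊓ I₂)) ((R ⧸ (I₁ ⊓ I₂)) ⊗[R] M) := by
  classical
  set K : Ideal R := I₁ ⊓ I₂ with hK
  apply Groth.Agent.Helper3.FlatTors.flat_quotient_of_injective K
  intro 𝔞
  set ι : 𝔞 →ₗ[R] (R ⧸ K) := 𝔞.subtype.restrictScalars R with hι
  -- the factor maps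
  let fac₁ : (R ⧸ K) →ₗ[R] (R ⧸ I₁) := Submodule.mapQ K I₁ LinearMap.id (by
    intro x hx; exact (inf_le_left : K ≤ I₁) hx)
  let fac₂ : (R ⧸ K) →ₗ[R] (R ⧸ I₂) := Submodule.mapQ K I₂ LinearMap.id (by
    intro x hx; exact (inf_le_right : K ≤ I₂) hx)
  have hfac₁ : ∀ r : R, fac₁ (Ideal.Quotient.mk K r) = Ideal.Quotient.mk I₁ r := fun r => rfl
  have hfac₂ : ∀ r : R, fac₂ (Ideal.Quotient.mk K r) = Ideal.Quotient.mk I₂ r := fun r => rfl
  have tors₁ : Module.IsTorsionBySet R (R ⧸ I₁) (I₁ : Set R) := by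
    intro x a
    obtain ⟨r, rfl⟩ := Ideal.Quotient.mk_surjective x
    change (a : R) • Ideal.Quotient.mk I₁ r = 0
    rw [← Ideal.Quotient.mk_eq_mk, ← Submodule.Quotient.mk_smul, Ideal.Quotient.mk_eq_mk,
      Ideal.Quotient.eq_zero_iff_mem, smul_eq_mul]
    exact I₁.mul_mem_right _ a.2
  have tors₂ : Module.IsTorsionBySet R (R ⧸ I₂) (I₂ : Set R) := by
    intro x a
    obtain ⟨r, rfl⟩ := Ideal.Quotient.mk_surjective x
    change (a : R) • Ideal.Quotient.mk I₂ r = 0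
    rw [← Ideal.Quotient.mk_eq_mk, ← Submodule.Quotient.mk_smul, Ideal.Quotient.mk_eq_mk,
      Ideal.Quotient.eq_zero_iff_mem, smul_eq_mul]
    exact I₂.mul_mem_right _ a.2
  let g₁ : 𝔞 →ₗ[R] (R ⧸ I₁) := fac₁ ∘ₗ ι
  let K₁ : Submodule R 𝔞 := LinearMap.ker g₁
  let gbar : (𝔞 ⧸ K₁) →ₗ[R] (R ⧸ I₁) := K₁.liftQ g₁ le_rfl
  have hgbar : Function.Injective gbar := by
    rw [← LinearMap.ker_eq_bot]
    exact Submodule.ker_liftQ_eq_bot _ _ _ le_rfl
  have torsQ : Module.IsTorsionBySet R (𝔞 ⧸ K₁) (I₁ : Set R) := by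
    intro x a
    apply hgbar
    rw [map_smul, map_zero]
    exact tors₁ (a := a)
  rw [injective_iff_map_eq_zero]
  intro x hx
  -- step 1
  have h1 : LinearMap.rTensor M gbar (LinearMap.rTensor M K₁.mkQ x) = 0 := by
    rw [← LinearMap.comp_apply, ← LinearMap.rTensor_comp]
    have : gbar ∘ₗ K₁.mkQ = fac₁ ∘ₗ ι := by
      ext n; rfl
    rw [this, LinearMap.rTensor_comp, LinearMap.comp_apply, hx, map_zero]
  have h2 : LinearMap.rTensor M K₁.mkQ x = 0 :=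
    (injective_iff_map_eq_zero _).1
      (Groth.Agent.Helper3.FlatTors.rTensor_injective_of_torsion (M := M) I₁ torsQ tors₁ gbar hgbar)
      _ h1
  have hex := rTensor_exact M (LinearMap.exact_subtype_mkQ K₁) (Submodule.mkQ_surjective K₁)
  obtain ⟨x₁, rfl⟩ := (hex x).1 h2
  -- step 2
  let g₂ : K₁ →ₗ[R] (R ⧸ I₂) := fac₂ ∘ₗ ι ∘ₗ K₁.subtype
  have hmemK₁ : ∀ n : K₁, ∃ r : R, r ∈ I₁ ∧ ((n : 𝔞) : R ⧸ K) = Ideal.Quotient.mk K r := by
    intro n
    obtain ⟨r, hr⟩ := Ideal.Quotient.mk_surjective ((n : 𝔞) : R ⧸ K)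
    refine ⟨r, ?_, hr.symm⟩
    have hn : g₁ (n : 𝔞) = 0 := n.2
    change fac₁ ((n : 𝔞) : R ⧸ K) = 0 at hn
    rw [← hr, hfac₁, Ideal.Quotient.eq_zero_iff_mem] at hn
    exact hn
  have hg₂ : Function.Injective g₂ := by
    rw [injective_iff_map_eq_zero]
    intro n hn
    obtain ⟨r, hr₁, hr⟩ := hmemK₁ n
    change fac₂ ((n : 𝔞) : R ⧸ K) = 0 at hn
    rw [hr, hfac₂, Ideal.Quotient.eq_zero_iff_mem] at hn
    have : ((n : 𝔞) : R ⧸ K) = 0 := by
      rw [hr, Ideal.Quotient.eq_zero_iff_mem]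
      exact ⟨hr₁, hn⟩
    apply Subtype.ext
    apply Subtype.ext
    exact this
  have torsK₁ : Module.IsTorsionBySet R K₁ (I₂ : Set R) := by
    intro n a
    obtain ⟨r, hr₁, hr⟩ := hmemK₁ n
    apply Subtype.ext
    apply Subtype.ext
    change (a : R) • ((n : 𝔞) : R ⧸ K) = 0
    rw [hr, ← Ideal.Quotient.mk_eq_mk, ← Submodule.Quotient.mk_smul, Ideal.Quotient.mk_eq_mk,
      Ideal.Quotient.eq_zero_iff_mem, smul_eq_mul]
    exact ⟨I₁.mul_mem_left _ hr₁, I₂.mul_mem_right _ a.2⟩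
  have h3 : LinearMap.rTensor M g₂ x₁ = 0 := by
    change LinearMap.rTensor M (fac₂ ∘ₗ ι ∘ₗ K₁.subtype) x₁ = 0
    rw [LinearMap.rTensor_comp, LinearMap.rTensor_comp, LinearMap.comp_apply, LinearMap.comp_apply,
      hx, map_zero]
  have h4 : x₁ = 0 :=
    (injective_iff_map_eq_zero _).1
      (Groth.Agent.Helper3.FlatTors.rTensor_injective_of_torsion (M := M) I₂ torsK₁ tors₂ g₂ hg₂)
      _ h3
  rw [h4, map_zero]

end Groth.Agent.S6893
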