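import Groth.Statements.S6508
import Groth.Agent.Helper4.RDerComp
import Groth.Agent.Helper4.OpenBC
import Groth.Agent.Helper4.RestrKInj
import Groth.Agent.Helper4.SchAdj
import Mathlib

set_option autoImplicit false
universe u
open CategoryTheory
attribute [local instance] HasDerivedCategory.standard
open DCoh

namespace Groth.Agent.S6508


open AlgebraicGeometry CategoryTheory.Limits in
/-- Let f : X → Y be a morphism of schemes, V ⊆ Y open, U = f⁻¹(V) and g : U → V the induced morphism.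
Then (Rf_* E)|_V ≅ Rg_*(E|_U) naturally in E ∈ D(O_X); asserted here as the existence of an
isomorphism between the two composite functors D(O_X) → D(O_V), the derived functors being assumed
to exist. (The published statement is for ringed spaces; this row is for schemes.) -/
theorem result {X Y : Scheme.{u}} (f : X ⟶ Y) (V : Y.Opens)
    [DCoh.HasRpush f] [DCoh.HasRpush (f ∣_ V)]
    [PreservesFiniteLimits (Scheme.Modules.restrictFunctor V.ι)]
    [PreservesFiniteLimits (Scheme.Modules.restrictFunctor (f ⁻¹ᵁ V).ι)] :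
    Nonempty (DCoh.Rpush f ⋙ DCoh.restrictD V.ι ≅ DCoh.restrictD (f ⁻¹ᵁ V).ι ⋙ DCoh.Rpush (f ∣_ V)) := by

  haveI := Groth.Agent.Helper4.SchAdj.isGrothendieckAbelian_modules X
  haveI := Groth.Agent.Helper4.SchAdj.isGrothendieckAbelian_modules (f ⁻¹ᵁ V : Scheme.{u})
  let β := (DCoh.pushKh f).totalRightDerivedUnit DerivedCategory.Qh
      (HomotopyCategory.quasiIso X.Modules (ComplexShape.up ℤ))
  let β' := (DCoh.pushKh (f ∣_ V)).totalRightDerivedUnit DerivedCategory.Qh
      (HomotopyCategory.quasiIso (f ⁻¹ᵁ V : Scheme.{u}).Modules (ComplexShape.up ℤ))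
  let α₁ := Functor.whiskerRight β (DCoh.restrictD V.ι) ≫ (Functor.associator _ _ _).hom
  let α₂ := Functor.whiskerLeft
      ((Scheme.Modules.restrictFunctor (f ⁻¹ᵁ V).ι).mapHomotopyCategory (ComplexShape.up ℤ)) β' ≫
        (Functor.associator _ _ _).inv ≫
        Functor.whiskerRight
          (Scheme.Modules.restrictFunctor (f ⁻¹ᵁ V).ι).mapDerivedCategoryFactorsh.inv
          (DCoh.Rpush (f ∣_ V)) ≫
        (Functor.associator _ _ _).hom
  have h1 : (DCoh.Rpush f ⋙ DCoh.restrictD V.ι).IsRightDerivedFunctor α₁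
      (HomotopyCategory.quasiIso X.Modules (ComplexShape.up ℤ)) :=
    Groth.Agent.Helper4.RDerComp.post (DCoh.pushKh f) (DCoh.Rpush f) β (DCoh.restrictD V.ι)
  have h2 : (DCoh.restrictD (f ⁻¹ᵁ V).ι ⋙ DCoh.Rpush (f ∣_ V)).IsRightDerivedFunctor α₂
      (HomotopyCategory.quasiIso X.Modules (ComplexShape.up ℤ)) :=
    Groth.Agent.Helper4.RDerComp.pre (DCoh.pushKh (f ∣_ V)) (DCoh.Rpush (f ∣_ V)) β'
      (Scheme.Modules.restrictFunctor (f ⁻¹ᵁ V).ι)
      (fun I hI => Groth.Agent.Helper4.RestrKInj.isKInjective_restrict (f ⁻¹ᵁ V) I)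
  let τ : DCoh.pushKh f ⋙ DCoh.restrictD V.ι ≅
      (Scheme.Modules.restrictFunctor (f ⁻¹ᵁ V).ι).mapHomotopyCategory (ComplexShape.up ℤ) ⋙
        DCoh.pushKh (f ∣_ V) :=
    Functor.associator _ _ _ ≪≫
    Functor.isoWhiskerLeft _ (Scheme.Modules.restrictFunctor V.ι).mapDerivedCategoryFactorsh ≪≫
    (Functor.associator _ _ _).symm ≪≫
    Functor.isoWhiskerRight
      (Functor.mapHomotopyCategoryCompIso (Groth.Agent.Helper4.OpenBC.iso f V) (ComplexShape.up ℤ) ≪≫
        (Functor.mapHomotopyCategoryCompIso (Iso.refl _) (ComplexShape.up ℤ)).symm)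
      DerivedCategory.Qh ≪≫
    Functor.associator _ _ _
  exact ⟨Functor.rightDerivedNatIso _ _ α₁ α₂
    (HomotopyCategory.quasiIso X.Modules (ComplexShape.up ℤ)) τ⟩

end Groth.Agent.S6508
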