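import Groth.Statements.S0997
import Mathlib
import Groth.Agent.Helper9.LCTil2
-- import your own Groth.Agent.* helpers here

set_option autoImplicit false
universe u
open CategoryTheory CategoryTheory.Limits AlgebraicGeometry
attribute [local instance] HasDerivedCategory.standard
open Perf

namespace Groth.Agent.S0997

/-- The equivalence D(A) ≃ D_QCoh(O_X) for X = Spec A: assuming the tilde functor M ↦ M~ is recorded as
left exact, the induced functor D(A) ⥤ D(O_{Spec A}) is full and faithful, and an object of
D(O_{Spec A}) has quasi-coherent cohomology sheaves if and only if it is in the essential image. -/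
theorem result (R : CommRingCat.{u}) [PreservesFiniteLimits (tilde.functor R)] :
    (DCoh.tildeD R).Full ∧ (DCoh.tildeD R).Faithful ∧
    ∀ K : DCoh.D (Spec (CommRingCat.of R)), DCoh.IsQCohD K ↔ ∃ M, Nonempty ((DCoh.tildeD R).obj M ≅ K) := by
  obtain ⟨RG, ⟨dadj⟩⟩ := Groth.Agent.Helper9.LCTil2.exists_adj R
  haveI : IsIso dadj.unit := by
    rw [NatTrans.isIso_iff_isIso_app]
    intro M
    exact Groth.Agent.Helper9.LCTil2.isIso_unit_app dadj M
  refine ⟨dadj.fullyFaithfulLOfIsIsoUnit.full, dadj.fullyFaithfulLOfIsIsoUnit.faithful, ?_⟩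
  intro K
  constructor
  · intro hK
    haveI := Groth.Agent.Helper9.LCTil2.isIso_counit_app dadj K hK
    exact ⟨RG.obj K, ⟨asIso (dadj.counit.app K)⟩⟩
  · rintro ⟨M, ⟨e⟩⟩
    intro i
    exact (SheafOfModules.isQuasicoherent (Spec (CommRingCat.of R)).ringCatSheaf).prop_of_iso
      ((DerivedCategory.homologyFunctor _ i).mapIso e)
      (Groth.Agent.Helper9.LCTil1.isQCohD_tildeD R M i)

end Groth.Agent.S0997
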