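import Groth.Statements.S12451
import Groth.Agent.Helper4.FinLocFree3
import Mathlib

set_option autoImplicit false
universe u
open CategoryTheory AlgebraicGeometry
open Props

namespace Groth.Agent.S12451


/-- For a commutative ring R and an R-module M, the associated quasi-coherent module M~ on Spec R is a
finite locally free O-module exactly when M is finitely generated and projective over R
(equivalently, a finite locally free R-module). -/
theorem result {R : CommRingCat.{u}} (M : ModuleCat.{u} R) :
    FlatMod.IsFinLocFree (tilde M) ↔ Module.Finite R M ∧ Module.Projective R M := by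

  constructor
  · intro h
    have hfp : SheafOfModules.IsFinitePresentation (R := (Spec R).ringCatSheaf) (tilde M) :=
      Groth.Agent.Helper4.FinLocFree2.isFinitePresentation_of_isFinLocFree (tilde M) h
    haveI : Module.FinitePresentation R M :=
      Groth.Agent.Helper4.FPTilde.finitePresentation_of_isFP_tilde R M hfp
    refine ⟨inferInstance, ?_⟩
    rw [← Module.freeLocus_eq_univ_iff, Set.eq_univ_iff_forall]
    intro x
    exact (Groth.Agent.Helper4.FinLocFree3.mem_freeLocus_iff_free_stalk R M x).mpr
      (Groth.Agent.Helper4.FinLocFree2.free_stalk_of_isFinLocFree (tilde M) h x)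
  · rintro ⟨hfin, hproj⟩
    haveI : Module.FinitePresentation R M := Module.finitePresentation_of_projective R M
    exact Groth.Agent.Helper4.FinLocFree3.isFinLocFree_tilde_of_fp_of_freeLocus R M
      (Module.freeLocus_eq_univ_iff.mpr hproj)

end Groth.Agent.S12451
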