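import Groth.Statements.S6513
import Groth.Agent.Helper4.MVShriek
import Mathlib

set_option autoImplicit false
universe u
open CategoryTheory
attribute [local instance] HasDerivedCategory.standard
open DCoh

namespace Groth.Agent.S6513


open AlgebraicGeometry CategoryTheory.Limits in
/-- If a scheme X is the union of two opens U and V, then for every E ∈ D(O_X) there is a distinguished
triangle j_{U∩V,!}(E|_{U∩V}) → j_{U,!}(E|_U) ⊕ j_{V,!}(E|_V) → E → j_{U∩V,!}(E|_{U∩V})[1] in D(O_X),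
where j_! is extension by zero computed termwise (its exactness is carried as an instance
hypothesis). The objects are the stated ones; the morphisms are only asserted to exist. (The
published statement is for ringed spaces; this row is for schemes.) -/
theorem result {X : Scheme.{u}} (U V : X.Opens) (hUV : U ⊔ V = ⊤)
    [PreservesFiniteLimits (CxOX.extZero U.ι)] [PreservesFiniteLimits (CxOX.extZero V.ι)]
    [PreservesFiniteLimits (CxOX.extZero (U ⊓ V).ι)] (E : DCoh.D X) :
    ∃ (a : (CxOX.extZeroD (U ⊓ V).ι).obj ((DCoh.restrictD (U ⊓ V).ι).obj E) ⟶ ((CxOX.extZeroD U.ι).obj ((DCoh.restrictD U.ι).obj E) ⊞ (CxOX.extZeroD V.ι).obj ((DCoh.restrictD V.ι).obj E))) (b : ((CxOX.extZeroD U.ι).obj ((DCoh.restrictD U.ι).obj E) ⊞ (CxOX.extZeroD V.ι).obj ((DCoh.restrictD V.ι).obj E)) ⟶ E) (c : E ⟶ ((CxOX.extZeroD (U ⊓ V).ι).obj ((DCoh.restrictD (U ⊓ V).ι).obj E))⟦(1 : ℤ)⟧),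
      Pretriangulated.Triangle.mk a b c ∈ Pretriangulated.distinguishedTriangles := by

  have hcov : ∀ x : X, x ∈ U ∨ x ∈ V := by
    intro x
    have : x ∈ U ⊔ V := by rw [hUV]; trivial
    exact this
  obtain ⟨T, f, h, hT⟩ := Pretriangulated.distinguished_cocone_triangle₁
    (Limits.biprod.desc (Groth.Agent.Helper4.MVShriek.ε U E) (Groth.Agent.Helper4.MVShriek.ε V E))
  obtain ⟨φ⟩ := Groth.Agent.Helper4.MVShriek.nonempty_cocone_iso U V (U ⊓ V) inf_le_left
    inf_le_right le_rfl hcov E f h hT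
  refine ⟨φ.inv ≫ f,
    Limits.biprod.desc (Groth.Agent.Helper4.MVShriek.ε U E) (Groth.Agent.Helper4.MVShriek.ε V E),
    h ≫ φ.hom⟦(1 : ℤ)⟧', ?_⟩
  refine Pretriangulated.isomorphic_distinguished _ hT _
    (Pretriangulated.Triangle.isoMk _ _ φ.symm (Iso.refl _) (Iso.refl _) ?_ ?_ ?_)
  · change (φ.inv ≫ f) ≫ 𝟙 _ = φ.inv ≫ f
    rw [Category.comp_id]
  · exact (Category.comp_id _).trans (Category.id_comp _).symm
  · change (h ≫ φ.hom⟦(1 : ℤ)⟧') ≫ φ.inv⟦(1 : ℤ)⟧' = 𝟙 _ ≫ h
    rw [Category.assoc, ← Functor.map_comp, Iso.hom_inv_id, CategoryTheory.Functor.map_id,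
      Category.comp_id, Category.id_comp]

end Groth.Agent.S6513
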