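import Groth.Statements.S0543
import Mathlib

set_option autoImplicit false
universe u
open CAlg

namespace Groth.Agent.S0543

open MvPowerSeries

section

variable {R : Type u} [CommRing R] {n : ℕ} (a : Fin n → R)

/-- `aeval a` maps the `k`-th power of the ideal of variables into the `k`-th power of `span a`. -/
lemma map_idealOfVars :
    Ideal.map (MvPolynomial.eval a)
      (MvPolynomial.idealOfVars (Fin n) R) = Ideal.span (Set.range a) := by
  unfold MvPolynomial.idealOfVars
  rw [Ideal.map_span]
  congr 1
  ext x
  constructor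
  · rintro ⟨y, ⟨i, rfl⟩, rfl⟩
    exact ⟨i, by simp⟩
  · rintro ⟨i, rfl⟩
    exact ⟨MvPolynomial.X i, ⟨i, rfl⟩, by simp⟩

lemma map_idealOfVars_pow (k : ℕ) :
    Ideal.map (MvPolynomial.eval a)
      (MvPolynomial.idealOfVars (Fin n) R ^ k) = Ideal.span (Set.range a) ^ k := by
  rw [Ideal.map_pow, map_idealOfVars]

lemma aeval_surjective :
    Function.Surjective (MvPolynomial.eval a) := by
  intro r
  exact ⟨MvPolynomial.C r, by simp⟩

lemma le_comap (k : ℕ) :
    MvPolynomial.idealOfVars (Fin n) R ^ k ≤
      Ideal.comap (MvPolynomial.eval a)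
        (Ideal.span (Set.range a) ^ k) := by
  rw [← Ideal.map_le_iff_le_comap, map_idealOfVars_pow]

/-- The level `k` map from power series to `R ⧸ I ^ k`. -/
noncomputable def levelMap (k : ℕ) :
    MvPowerSeries (Fin n) R →+* R ⧸ (Ideal.span (Set.range a) ^ k) :=
  (Ideal.quotientMap (Ideal.span (Set.range a) ^ k)
    (MvPolynomial.eval a) (le_comap a k)).comp
    (truncTotalAlgHom (Fin n) R k).toRingHom

lemma levelMap_apply (k : ℕ) (p : MvPowerSeries (Fin n) R) :
    levelMap a k p = Ideal.Quotient.mk _ (MvPolynomial.eval a (truncTotal k p)) := by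
  simp [levelMap, truncTotalAlgHom]

lemma levelMap_compat {m k : ℕ} (hle : m ≤ k) :
    (Ideal.Quotient.factorPow (Ideal.span (Set.range a)) hle).comp (levelMap a k) =
      levelMap a m := by
  ext p
  simp only [RingHom.comp_apply, levelMap_apply]
  rw [Ideal.Quotient.factor_mk, Ideal.Quotient.mk_eq_mk_iff_sub_mem, ← map_sub]
  have := truncTotal_sub_truncTotal_mem_pow_idealOfVars (l := m) (m := k) (n := m) hle le_rfl p
  exact le_comap a m this

/-- The ring hom from power series to the adic completion. -/
noncomputable def psi : MvPowerSeries (Fin n) R →+* AdicCompletion (Ideal.span (Set.range a)) R :=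
  AdicCompletion.liftRingHom (Ideal.span (Set.range a)) (levelMap a)
    (fun hle => levelMap_compat a hle)

lemma evalₐ_psi (k : ℕ) (p : MvPowerSeries (Fin n) R) :
    AdicCompletion.evalₐ (Ideal.span (Set.range a)) k (psi a p) =
      Ideal.Quotient.mk _ (MvPolynomial.eval a (truncTotal k p)) := by
  unfold psi
  rw [AdicCompletion.evalₐ_liftRingHom, levelMap_apply]

lemma psi_surjective : Function.Surjective (psi a) := by
  intro xhat
  obtain ⟨x, rfl⟩ := AdicCompletion.mk_surjective (Ideal.span (Set.range a)) R xhat
  have hy : ∀ k, x (k + 1) - x k ∈ Ideal.span (Set.range a) ^ k := by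
    intro k
    have h := x.2 (Nat.le_succ k)
    rw [SModEq.sub_mem, smul_eq_mul, Ideal.mul_top] at h
    have h' := (Ideal.span (Set.range a) ^ k).neg_mem h
    simpa using h'
  have hg : ∀ k, ∃ g ∈ MvPolynomial.idealOfVars (Fin n) R ^ k,
      MvPolynomial.eval a g = x (k + 1) - x k := by
    intro k
    have := hy k
    rw [← map_idealOfVars_pow, Ideal.mem_map_iff_of_surjective _ (aeval_surjective a)] at this
    exact this
  choose g hgmem hgval using hg
  let p : MvPowerSeries (Fin n) R := fun α =>
    MvPolynomial.coeff α (MvPolynomial.C (x 0)) +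
      ∑ k ∈ Finset.range (α.degree + 1), MvPolynomial.coeff α (g k)
  refine ⟨p, ?_⟩
  apply AdicCompletion.ext_evalₐ
  intro m
  rw [evalₐ_psi, AdicCompletion.evalₐ_mk]
  set G : MvPolynomial (Fin n) R := MvPolynomial.C (x 0) + ∑ k ∈ Finset.range m, g k with hG
  have h1 : MvPolynomial.eval a G = x m := by
    rw [hG, map_add, map_sum, MvPolynomial.eval_C]
    simp only [hgval]
    rw [Finset.sum_range_sub]
    ring
  have h2 : truncTotal m p - G ∈ MvPolynomial.idealOfVars (Fin n) R ^ m := by
    rw [MvPolynomial.mem_pow_idealOfVars_iff']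
    intro α hα
    rw [MvPolynomial.coeff_sub, coeff_truncTotal _ hα, hG, MvPolynomial.coeff_add,
      MvPolynomial.coeff_sum]
    have hp : (MvPowerSeries.coeff α) p = MvPolynomial.coeff α (MvPolynomial.C (x 0)) +
      ∑ k ∈ Finset.range (α.degree + 1), MvPolynomial.coeff α (g k) := rfl
    rw [hp]
    have hsub : Finset.range (α.degree + 1) ⊆ Finset.range m := by
      intro k hk
      simp only [Finset.mem_range] at hk ⊢
      omega
    rw [Finset.sum_subset hsub]
    · ring
    · intro k _ hk
      simp only [Finset.mem_range, not_lt] at hk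
      exact (MvPolynomial.mem_pow_idealOfVars_iff' k (g k)).mp (hgmem k) α (by omega)
  rw [← h1, Ideal.Quotient.mk_eq_mk_iff_sub_mem, ← map_sub]
  exact le_comap a m h2

end

/-- The completion of a Noetherian ring with respect to any ideal is Noetherian. -/
theorem result (R : Type u) [CommRing R] [IsNoetherianRing R]
    (I : Ideal R) : IsNoetherianRing (AdicCompletion I R) := by
  have hfg : I.FG := I.fg_of_isNoetherianRing
  obtain ⟨n, a, ha⟩ := Submodule.fg_iff_exists_fin_generating_family.mp hfg
  have ha' : Ideal.span (Set.range a) = I := ha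
  subst ha'
  exact isNoetherianRing_of_surjective _ _ (psi a) (psi_surjective a)

end Groth.Agent.S0543
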