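import Groth.Statements.S7021
import Mathlib
import Groth.Agent.Helper3.DRingRelPC
import Groth.Agent.S6935

set_option autoImplicit false
universe u
open scoped TensorProduct
open CategoryTheory CategoryTheory.Limits
attribute [local instance] HasDerivedCategory.standard
open DerCA

namespace Groth.Agent.S7021

/-- Let R → A be a finite type homomorphism of commutative rings, α : R[x_1, ..., x_n] → A a surjective
R-algebra homomorphism and M an A-module. Then relative 0-pseudo-coherence of M over R amounts to M
being a finitely generated A-module, and relative (-1)-pseudo-coherence of M over R amounts to M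
being finitely presented as an R[x_1, ..., x_n]-module through α. -/
theorem result {R A : Type u} [CommRing R] [CommRing A]
    [Algebra R A] [Algebra.FiniteType R A] {n : ℕ} (α : MvPolynomial (Fin n) R →ₐ[R] A)
    (hα : Function.Surjective α) (M : Type u) [AddCommGroup M] [Module A M] :
    (DerCA.IsRelPseudoCoherentModule R A 0 M ↔ Module.Finite A M) ∧
      (DerCA.IsRelPseudoCoherentModule R A (-1) M ↔
        @Module.FinitePresentation (MvPolynomial (Fin n) R) M _ _ (Module.compHom M α.toRingHom)) := by
  have hα' : Function.Surjective (α : MvPolynomial (Fin n) R →+* A) := hα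
  have key : ∀ m' : ℤ, DerCA.IsRelPseudoCoherentModule R A m' M ↔
      DRing.IsPseudoCoherentModule (MvPolynomial (Fin n) R) m'
        ((Groth.Agent.Helper3.DRingLib.rF (α : MvPolynomial (Fin n) R →+* A)).obj
          (ModuleCat.of A M)) := by
    intro m'
    unfold DerCA.IsRelPseudoCoherentModule DRing.IsPseudoCoherentModule
    rw [Groth.Agent.Helper3.DRingLib.relPC_iff_via α hα]
    unfold DerCA.IsRelPseudoCoherentVia
    constructor
    · intro h
      exact Groth.Agent.Helper3.DRingLib.isPseudoCoherent_of_iso
        (Groth.Agent.Helper3.DRingLib.rDSingle (α : MvPolynomial (Fin n) R →+* A) 0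
          (ModuleCat.of A M)) h
    · intro h
      exact Groth.Agent.Helper3.DRingLib.isPseudoCoherent_of_iso
        (Groth.Agent.Helper3.DRingLib.rDSingle (α : MvPolynomial (Fin n) R →+* A) 0
          (ModuleCat.of A M)).symm h
  have h := Groth.Agent.S6935.result (MvPolynomial (Fin n) R)
    ((Groth.Agent.Helper3.DRingLib.rF (α : MvPolynomial (Fin n) R →+* A)).obj (ModuleCat.of A M))
  constructor
  · rw [key 0, h.1]
    exact Groth.Agent.Helper3.DRingLib.finite_rF_iff (α : MvPolynomial (Fin n) R →+* A) hα'
      (ModuleCat.of A M)
  · rw [key (-1), h.2]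
    rfl

end Groth.Agent.S7021
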