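import Groth.Statements.S6984
import Mathlib
import Groth.Agent.Helper3.DRingFinStep

set_option autoImplicit false
universe u
open scoped TensorProduct
open CategoryTheory CategoryTheory.Limits
attribute [local instance] HasDerivedCategory.standard
open DerCA

namespace Groth.Agent.S6984

/-- Let R be a commutative ring, A → B a finite homomorphism of finite type R-algebras, K an object of
D(B) and m an integer. Then K is m-pseudo-coherent relative to R over B if and only if K, with
scalars restricted to A, is m-pseudo-coherent relative to R over A; and K is pseudo-coherent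
relative to R over B if and only if its restriction to A is pseudo-coherent relative to R. -/
theorem result {R A B : Type u} [CommRing R] [CommRing A] [CommRing B]
    [Algebra R A] [Algebra A B] [Algebra R B] [IsScalarTower R A B] [Algebra.FiniteType R A]
    [Algebra.FiniteType R B] [Module.Finite A B] (K : Dual.D B) (m : ℤ) :
    (DerCA.IsRelPseudoCoherent R B m K ↔
      DerCA.IsRelPseudoCoherent R A m ((DRing.restrictD (algebraMap A B)).obj K)) ∧
      (DerCA.IsRelPseudoCoherentAll R B K ↔
        DerCA.IsRelPseudoCoherentAll R A ((DRing.restrictD (algebraMap A B)).obj K)) := by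
  obtain ⟨k, s, hs⟩ := Module.Finite.exists_fin (R := A) (M := B)
  haveI : Algebra.IsIntegral A B := Algebra.IsIntegral.of_finite A B
  have hadj : Algebra.adjoin A (Set.range s) = ⊤ := by
    rw [eq_top_iff]
    intro x _
    have hx : x ∈ Submodule.span A (Set.range s) := by rw [hs]; trivial
    exact Algebra.span_le_adjoin A _ hx
  have key : ∀ m' : ℤ, DerCA.IsRelPseudoCoherent R B m' K ↔
      DerCA.IsRelPseudoCoherent R A m' ((DRing.restrictD (algebraMap A B)).obj K) := fun m' =>
    Groth.Agent.Helper3.DRingLib.relPC_finite_aux R k A B s
      (fun j => Algebra.IsIntegral.isIntegral (s j)) hadj K m'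
  exact ⟨key m, forall_congr' key⟩

end Groth.Agent.S6984
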