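import Groth.Statements.S9686
import Groth.Agent.Helper5.DimFormula8
import Groth.Agent.Helper5.EtDim

set_option autoImplicit false
universe u
open CategoryTheory CategoryTheory.Limits AlgebraicGeometry
open Mor

namespace Groth.Agent.S9686

/-- Let Y be locally Noetherian and f : X ⟶ Y locally of finite type. If E bounds the transcendence
degree of κ(ξ) over κ(f ξ) for every generic point ξ of an irreducible component of X, then dim X ≤
dim Y + E. (The published bound is the supremum of these transcendence degrees; the statement with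
any upper bound E is equivalent.) -/
theorem result {X Y : Scheme.{u}} [IsLocallyNoetherian Y]
    (f : X ⟶ Y) [LocallyOfFiniteType f] (E : ℕ)
    (hE : ∀ ξ : X, closure {ξ} ∈ irreducibleComponents ↥X →
      letI := (f.residueFieldMap ξ).hom.toAlgebra
      Algebra.trdeg (Y.residueField (f.base ξ)) (X.residueField ξ) ≤ E) :
    topologicalKrullDim ↥X ≤ topologicalKrullDim ↥Y + E := by
  rw [Groth.Agent.Helper5.EtDim.topologicalKrullDim_eq_iSup_coheight X]
  refine iSup_le fun x => ?_
  obtain ⟨ξ, a, c, hcomp, hsp, ha, hc, hineq⟩ :=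
    Groth.Agent.Helper5.DimFormula.scheme_dimension_inequality f x
  have h1 := hE ξ hcomp
  have h2 : (a : Cardinal.{u}) ≤ (c : Cardinal.{u}) + (E : Cardinal.{u}) := by
    refine le_trans le_self_add (hineq.trans ?_)
    gcongr
  have h3 : a ≤ c + E := by exact_mod_cast h2
  rw [← AlgebraicGeometry.ringKrullDim_stalk_eq_coheight x, ha]
  have h4 : ringKrullDim (Y.presheaf.stalk (f x)) ≤ topologicalKrullDim ↥Y := by
    rw [AlgebraicGeometry.ringKrullDim_stalk_eq_coheight (f x),
      Groth.Agent.Helper5.EtDim.topologicalKrullDim_eq_iSup_coheight Y]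
    exact le_iSup (fun y : ↥Y => ((Order.coheight y : ℕ∞) : WithBot ℕ∞)) (f x)
  rw [hc] at h4
  calc ((a : ℕ) : WithBot ℕ∞) ≤ ((c + E : ℕ) : WithBot ℕ∞) := by exact_mod_cast h3
    _ = (c : WithBot ℕ∞) + (E : WithBot ℕ∞) := by push_cast; rfl
    _ ≤ topologicalKrullDim ↥Y + E := by gcongr

end Groth.Agent.S9686
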