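import Groth.Statements.S1682
import Mathlib

set_option autoImplicit false
universe u
open CategoryTheory CategoryTheory.Limits AlgebraicGeometry TopologicalSpace
open SDiv

namespace Groth.Agent.S1682

theorem isEffCartierIdeal_top (Y : Scheme.{u}) : BlowUp.IsEffCartierIdeal (⊤ : Y.IdealSheafData) := by
  intro x
  obtain ⟨_, ⟨U, hU, rfl⟩, hxU, -⟩ := (Y.isBasis_affineOpens).exists_subset_of_mem_open
    (Set.mem_univ x) isOpen_univ
  refine ⟨⟨U, hU⟩, hxU, 1, one_mem _, ?_⟩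
  rw [Scheme.IdealSheafData.ideal_top]
  simp

theorem comap_ι_compl_support {X : Scheme.{u}} (𝓘 : X.IdealSheafData) :
    𝓘.comap (Scheme.Opens.ι (X := X) 𝓘.support.compl) = ⊤ := by
  rw [← Scheme.IdealSheafData.support_eq_bot_iff, Scheme.IdealSheafData.support_comap]
  ext x
  simp only [Closeds.coe_preimage, Set.mem_preimage, SetLike.mem_coe, Closeds.coe_bot,
    Set.mem_empty_iff_false, iff_false]
  exact x.2

/-- Let b : X' ⟶ X be a blowing-up of X along the quasi-coherent ideal sheaf 𝓘, with centre Z = support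
of 𝓘. Then b restricted over the open complement of Z is an isomorphism. -/
theorem result {X X' : Scheme.{u}} (𝓘 : X.IdealSheafData) (b : X' ⟶ X) (hb : BlowUp.IsBlowUp b 𝓘) :
    IsIso (b ∣_ 𝓘.support.compl) := by
  set U : X.Opens := 𝓘.support.compl with hU
  obtain ⟨hb1, hb2⟩ := hb
  have hU1 : BlowUp.IsEffCartierIdeal (𝓘.comap U.ι) := by
    rw [hU, comap_ι_compl_support]; exact isEffCartierIdeal_top _
  obtain ⟨h, hh, -⟩ := hb2 _ U.ι hU1
  have hrange : Set.range h ⊆ Set.range (b ⁻¹ᵁ U).ι := by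
    rintro _ ⟨x, rfl⟩
    rw [Scheme.Opens.range_ι]
    change b (h x) ∈ U
    have : (h ≫ b) x = U.ι x := by rw [hh]
    rw [Scheme.Hom.comp_apply] at this
    rw [this]
    exact x.2
  set l : (U : Scheme.{u}) ⟶ (b ⁻¹ᵁ U : Scheme.{u}) := IsOpenImmersion.lift (b ⁻¹ᵁ U).ι h hrange with hl
  have hlι : l ≫ (b ⁻¹ᵁ U).ι = h := IsOpenImmersion.lift_fac _ _ _
  have h1 : l ≫ (b ∣_ U) = 𝟙 _ := by
    rw [← cancel_mono U.ι, Category.assoc, morphismRestrict_ι, ← Category.assoc, hlι, hh,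
      Category.id_comp]
  have hU2 : BlowUp.IsEffCartierIdeal (𝓘.comap ((b ⁻¹ᵁ U).ι ≫ b)) := by
    rw [← morphismRestrict_ι, Scheme.IdealSheafData.comap_comp, hU, comap_ι_compl_support,
      Scheme.IdealSheafData.comap_top]
    exact isEffCartierIdeal_top _
  obtain ⟨k, -, hk⟩ := hb2 _ ((b ⁻¹ᵁ U).ι ≫ b) hU2
  have h2 : (b ∣_ U) ≫ l = 𝟙 _ := by
    rw [← cancel_mono (b ⁻¹ᵁ U).ι, Category.assoc, hlι, Category.id_comp]
    have e1 := hk ((b ∣_ U) ≫ h) (by change ((b ∣_ U) ≫ h) ≫ b = _; rw [Category.assoc, hh, morphismRestrict_ι])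
    have e2 := hk (b ⁻¹ᵁ U).ι rfl
    rw [e1, e2]
  exact ⟨l, h2, h1⟩

end Groth.Agent.S1682
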