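import Groth.Statements.S2076
import Groth.Agent.Lead.LimCIStage
import Mathlib

set_option autoImplicit false
universe u
open CategoryTheory AlgebraicGeometry
open Lim

namespace Groth.Agent.S2076

/-- Let `X = lim X_i` be a cofiltered limit of quasi-compact schemes over `S` with affine transition
morphisms and `h : Y → X` a closed immersion with `Y → S` locally of finite type. Then `Y → X_i` is
a closed immersion for some `i`. -/
theorem result {I : Type u} [SmallCategory I] [IsCofiltered I] (S : Scheme.{u})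
    (D : I ⥤ Over S) (c : Limits.Cone D) (hc : Limits.IsLimit c)
    [∀ (i j : I) (f : i ⟶ j), IsAffineHom (D.map f).left] [∀ i, CompactSpace (D.obj i).left]
    {Y : Scheme.{u}} (h : Y ⟶ c.pt.left) [IsClosedImmersion h] [LocallyOfFiniteType (h ≫ c.pt.hom)] :
    ∃ i : I, IsClosedImmersion (h ≫ (c.π.app i).left) := by
  let D₁ := D ⋙ Over.forget S
  let c₁ := (Over.forget S).mapCone c
  have hc₁ : Limits.IsLimit c₁ := Limits.isLimitOfPreserves _ hc
  have hA : ∀ {i j : I} (f : i ⟶ j), IsAffineHom (D₁.map f) := fun f ↦ by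
    change IsAffineHom (D.map f).left; infer_instance
  let i₀ : I := (IsCofiltered.nonempty (C := I)).some
  have hC : CompactSpace ↥(D₁.obj i₀) := by change CompactSpace (D.obj i₀).left; infer_instance
  have hw : (h ≫ c₁.π.app i₀) ≫ (D.obj i₀).hom = h ≫ c.pt.hom := by
    rw [Category.assoc]
    congr 1
    exact Over.w (c.π.app i₀)
  have hft : LocallyOfFiniteType (h ≫ c₁.π.app i₀) := by
    have : LocallyOfFiniteType ((h ≫ c₁.π.app i₀) ≫ (D.obj i₀).hom) := by rw [hw]; infer_instance
    exact locallyOfFiniteType_of_comp (h ≫ c₁.π.app i₀) (D.obj i₀).hom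
  have hci : @IsClosedImmersion Y c₁.pt h := ‹IsClosedImmersion h›
  have hft' : LocallyOfFiniteType ((h : Y ⟶ c₁.pt) ≫ c₁.π.app i₀) := hft
  obtain ⟨j, hj⟩ := @Groth.Agent.Lead.LimCIStage.exists_isClosedImmersion_stage I _ _ D₁ c₁ hc₁ hA i₀ Y
    h hC hci hft
  exact ⟨j.left, hj⟩

end Groth.Agent.S2076
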