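import Groth.Statements.S0590
import Groth.Agent.Lead.NApxM
import Mathlib

set_option autoImplicit false
universe u
open CategoryTheory AlgebraicGeometry
open Lim

namespace Groth.Agent.S0590

/-- Every quasi-compact quasi-separated scheme is the limit of an inverse system, indexed by a nonempty
directed preorder, of quasi-compact schemes locally of finite type over the integers with affine
transition morphisms. -/
theorem result (S : Scheme.{u}) [CompactSpace S] [QuasiSeparatedSpace S] :
    ∃ (I : Type u) (_ : Preorder I) (_ : IsDirected I (fun a b => a ≤ b)) (_ : Nonempty I)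
      (D : Iᵒᵖ ⥤ Scheme.{u}) (c : Limits.Cone D) (_ : Limits.IsLimit c),
      (∀ (i j : Iᵒᵖ) (f : i ⟶ j), IsAffineHom (D.map f)) ∧
      (∀ i, CompactSpace (D.obj i) ∧
        LocallyOfFiniteType (Limits.IsTerminal.from specULiftZIsTerminal (D.obj i))) ∧
      Nonempty (c.pt ≅ S) := by
    classical
  let D0 : (PUnit.{u+1})ᵒᵖ ⥤ Scheme.{u} := (Functor.const _).obj (∅ : Scheme.{u})
  let c0 : Limits.Cone D0 := { pt := ∅, π := { app := fun _ ↦ 𝟙 _ } }
  have hc0 : Limits.IsLimit c0 :=
    { lift := fun s ↦ s.π.app (Opposite.op PUnit.unit)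
      fac := fun s j ↦ by
        obtain ⟨⟨⟩⟩ := j
        exact Category.comp_id _
      uniq := fun s m hm ↦ by
        rw [← hm (Opposite.op PUnit.unit)]
        exact (Category.comp_id _).symm }
  haveI : IsEmpty ((⊥ : S.Opens) : Scheme.{u}) := by
    constructor
    rintro ⟨x, hx⟩
    exact hx
  let eV : c0.pt ≅ ((⊥ : S.Opens) : Scheme.{u}) := asIso (Scheme.emptyTo _)
  have hA : ∀ (i j : (PUnit.{u+1})ᵒᵖ) (φ : i ⟶ j), IsAffineHom (D0.map φ) := by
    intro i j φ
    change IsAffineHom (𝟙 _)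
    infer_instance
  have hD : ∀ i, CompactSpace (D0.obj i) ∧
      LocallyOfFiniteType (Groth.Agent.Lead.LimModel.toSZ (D0.obj i)) := by
    intro i
    change CompactSpace (∅ : Scheme.{u}) ∧ LocallyOfFiniteType (Groth.Agent.Lead.LimModel.toSZ ∅)
    exact ⟨inferInstance, inferInstance⟩
  obtain ⟨J, i1, i2, i3, DS, cS, hcS, e, α, u', h1, h2, h3, h4, h5⟩ :=
    Groth.Agent.Lead.NApxM.hasExt_of_qcqs D0 hA hD c0 hc0 S ⊥ eV
  exact ⟨J, i1, i2, i3, DS, cS, hcS, h2, h3, ⟨e⟩⟩

end Groth.Agent.S0590
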