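import Groth.Statements.S9207
import Mathlib
import Groth.Agent.Lead.LimPullback
import Groth.Agent.Lead.LimConstr

set_option autoImplicit false
universe u
open CategoryTheory CategoryTheory.Limits AlgebraicGeometry
open Lim

namespace Groth.Agent.S9207

open Groth.Agent.Lead.LimConstr in
/-- Finitely many eventually-true stable properties hold simultaneously at some stage. -/
lemma exists_forall_of_stable {I : Type u} [SmallCategory I] [IsCofiltered I] {k : I}
    {ι : Type*} [Finite ι] {P : ι → ∀ j : I, (j ⟶ k) → Prop}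
    (hP : ∀ r ⦃j l : I⦄ (f : j ⟶ k) (g : l ⟶ j), P r j f → P r l (g ≫ f))
    (h : ∀ r, ∃ j f, P r j f) : ∃ j f, ∀ r, P r j f := by
  classical
  cases nonempty_fintype ι
  suffices ∀ s : Finset ι, ∃ j f, ∀ r ∈ s, P r j f by
    obtain ⟨j, f, hj⟩ := this Finset.univ
    exact ⟨j, f, fun r ↦ hj r (Finset.mem_univ r)⟩
  intro s
  induction s using Finset.induction_on with
  | empty => exact ⟨k, 𝟙 k, fun r hr ↦ (Finset.notMem_empty r hr).elim⟩
  | insert r s hr ih =>
    obtain ⟨j, f, h1, h2⟩ := exists_and_of_stable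
      (P := fun j f ↦ ∀ r' ∈ s, P r' j f) (Q := P r)
      (fun j l f g h r' hr' ↦ hP r' f g (h r' hr')) (hP r) ih (h r)
    refine ⟨j, f, fun r' hr' ↦ ?_⟩
    rcases Finset.mem_insert.mp hr' with rfl | hr'
    · exact h2
    · exact h1 r' hr'

open Groth.Agent.Lead.LimPullback in
theorem aux {I : Type u} [SmallCategory I] [IsCofiltered I]
    (D : I ⥤ Scheme.{u}) (c : Limits.Cone D) (hc : Limits.IsLimit c)
    [∀ (i j : I) (f : i ⟶ j), IsAffineHom (D.map f)] (i : I) {T : Scheme.{u}} (a : T ⟶ D.obj i)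
    [CompactSpace T] (h : IsEmpty ↥(pullback a (c.π.app i))) :
    ∃ (i' : I) (φ : i' ⟶ i), IsEmpty ↥(pullback a (D.map φ)) := by
  have hA : ∀ {i j : I} (f : i ⟶ j), IsAffineHom (D.map f) := fun f ↦ inferInstance
  let 𝒰 := T.affineCover.finiteSubcover
  have h𝒰 : ∀ r, IsAffine (𝒰.X r) := fun r ↦ by
    dsimp [𝒰, Scheme.OpenCover.finiteSubcover]; infer_instance
  -- each piece is eventually empty
  have h1 : ∀ r : 𝒰.I₀, ∃ (j : I) (f : j ⟶ i), IsEmpty ↥(pullback (D.map f) (𝒰.f r ≫ a)) := by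
    intro r
    by_contra hcon
    have hne : ∀ (j : I) (f : j ⟶ i), Nonempty ↥(pullback (D.map f) (𝒰.f r ≫ a)) := by
      intro j f
      by_contra hjf
      exact hcon ⟨j, f, not_nonempty_iff.mp hjf⟩
    obtain ⟨z⟩ := nonempty_pullback hc i (𝒰.f r ≫ a) hne
    refine h.false ((pullback.lift (pullback.snd _ _ ≫ 𝒰.f r) (pullback.fst _ _) ?_ :
      pullback (c.π.app i) (𝒰.f r ≫ a) ⟶ pullback a (c.π.app i)) z)
    rw [Category.assoc, pullback.condition]
  have hstab : ∀ (r : 𝒰.I₀) ⦃j l : I⦄ (f : j ⟶ i) (g : l ⟶ j),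
      IsEmpty ↥(pullback (D.map f) (𝒰.f r ≫ a)) →
        IsEmpty ↥(pullback (D.map (g ≫ f)) (𝒰.f r ≫ a)) := by
    intro r j l f g hjf
    refine ⟨fun z ↦ hjf.false ((pullback.lift (pullback.fst _ _ ≫ D.map g) (pullback.snd _ _) ?_ :
      pullback (D.map (g ≫ f)) (𝒰.f r ≫ a) ⟶ pullback (D.map f) (𝒰.f r ≫ a)) z)⟩
    rw [Category.assoc, ← D.map_comp, pullback.condition]
  obtain ⟨j, f, hj⟩ := exists_forall_of_stable
    (P := fun r j f ↦ IsEmpty ↥(pullback (D.map f) (𝒰.f r ≫ a))) hstab h1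
  refine ⟨j, f, ⟨fun z ↦ ?_⟩⟩
  obtain ⟨r, w, hw⟩ := 𝒰.exists_eq ((pullback.fst a (D.map f)) z)
  obtain ⟨z', -, -⟩ := Scheme.Pullback.exists_preimage_pullback (f := D.map f)
    (g := 𝒰.f r ≫ a) ((pullback.snd a (D.map f)) z) w (by
      rw [Scheme.Hom.comp_apply, hw, ← Scheme.Hom.comp_apply, ← Scheme.Hom.comp_apply,
        pullback.condition])
  exact (hj r).false z'

/-- Let S = lim S_i be a cofiltered limit of quasi-compact quasi-separated schemes with affine
transition morphisms, let i be an index and T → S_i a morphism of schemes with T quasi-compact. If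
the fibre product T ×_{S_i} S is empty, then T ×_{S_i} S_{i'} is empty for some index i' over i (and
then for every index over i'). -/
theorem result {I : Type u} [SmallCategory I] [IsCofiltered I]
    (D : I ⥤ Scheme.{u}) (c : Limits.Cone D) (hc : Limits.IsLimit c)
    [∀ (i j : I) (f : i ⟶ j), IsAffineHom (D.map f)] [∀ i, CompactSpace (D.obj i)]
    [∀ i, QuasiSeparatedSpace (D.obj i)] (i : I) {T : Scheme.{u}} (a : T ⟶ D.obj i) [CompactSpace T]
    (h : IsEmpty ↥(pullback a (c.π.app i))) :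
    ∃ (i' : I) (φ : i' ⟶ i), IsEmpty ↥(pullback a (D.map φ)) := by
  exact aux D c hc i a h

end Groth.Agent.S9207
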