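import Groth.Statements.S9200
import Mathlib
import Groth.Agent.S9207

set_option autoImplicit false
universe u
open CategoryTheory AlgebraicGeometry
open Lim

namespace Groth.Agent.S9200

set_option backward.isDefEq.respectTransparency false in
theorem aux {I : Type u} [SmallCategory I] [IsCofiltered I] (S : Scheme.{u}) [CompactSpace S] [QuasiSeparatedSpace S]
    (D : I ⥤ Scheme.{u}) (t : D ⟶ (Functor.const I).obj S) (c : Limits.Cone D) (hc : Limits.IsLimit c)
    [∀ (i j : I) (a : i ⟶ j), IsAffineHom (D.map a)]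
    [∀ i, CompactSpace (D.obj i)] [∀ i, QuasiSeparatedSpace (D.obj i)] (i₀ : I)
    [IsAffineHom (c.π.app i₀ ≫ t.app i₀)] :
    ∃ i₁ : I, ∀ (i : I) (_ : i ⟶ i₁), IsAffineHom (t.app i) := by
  have hA : ∀ {i j : I} (f : i ⟶ j), IsAffineHom (D.map f) := fun f ↦ inferInstance
  have hnat : ∀ {i j : I} (φ : i ⟶ j), D.map φ ≫ t.app j = t.app i := by
    intro i j φ
    simpa using t.naturality φ
  let 𝒲 := S.affineCover.finiteSubcover
  let W : 𝒲.I₀ → S.Opens := fun r ↦ (𝒲.f r).opensRange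
  have hW : ∀ r, IsAffineOpen (W r) := fun r ↦ by
    have : IsAffine (𝒲.X r) := by
      dsimp [𝒲, Scheme.OpenCover.finiteSubcover]; infer_instance
    exact isAffineOpen_opensRange (𝒲.f r)
  have key : ∀ r, ∃ (j : I) (f : j ⟶ i₀), IsAffineOpen (t.app j ⁻¹ᵁ W r) := by
    intro r
    let V : (D.obj i₀).Opens := t.app i₀ ⁻¹ᵁ W r
    have hVc : IsCompact (V : Set (D.obj i₀)) :=
      QuasiCompact.isCompact_preimage _ (W r).2 (hW r).isCompact
    have (j : Over i₀) : CompactSpace ((opensDiagram D i₀ V).obj j) :=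
      isCompact_iff_compactSpace.mp (QuasiCompact.isCompact_preimage _ V.2 hVc)
    have (j : Over i₀) : QuasiSeparatedSpace ((opensDiagram D i₀ V).obj j) :=
      (isQuasiSeparated_iff_quasiSeparatedSpace _ (D.map _ ⁻¹ᵁ _).2).mp
        (.of_quasiSeparatedSpace _)
    have : IsAffine (opensCone D c i₀ V).pt := by
      have : IsAffineOpen ((c.π.app i₀ ≫ t.app i₀) ⁻¹ᵁ W r) := (hW r).preimage _
      rw [Scheme.Hom.comp_preimage] at this
      exact this
    obtain ⟨j, hj⟩ := Scheme.exists_isAffine_of_isLimit _ _ (isLimitOpensCone D c hc i₀ V)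
    refine ⟨j.left, j.hom, ?_⟩
    have e : t.app j.left ⁻¹ᵁ W r = D.map j.hom ⁻¹ᵁ V := by
      rw [← Scheme.Hom.comp_preimage, hnat]
    rw [e]
    exact hj
  have hstab : ∀ (r : 𝒲.I₀) ⦃j l : I⦄ (f : j ⟶ i₀) (g : l ⟶ j),
      IsAffineOpen (t.app j ⁻¹ᵁ W r) → IsAffineOpen (t.app l ⁻¹ᵁ W r) := by
    intro r j l f g h
    have e : t.app l ⁻¹ᵁ W r = D.map g ⁻¹ᵁ (t.app j ⁻¹ᵁ W r) := by
      rw [← Scheme.Hom.comp_preimage, hnat]
    rw [e]
    exact h.preimage _
  obtain ⟨i₁, f, h⟩ := Groth.Agent.S9207.exists_forall_of_stable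
    (P := fun r j (_ : j ⟶ i₀) ↦ IsAffineOpen (t.app j ⁻¹ᵁ W r)) hstab key
  refine ⟨i₁, fun i φ ↦ ?_⟩
  refine isAffineHom_of_forall_exists_isAffineOpen _ fun x ↦ ?_
  obtain ⟨r, y, hy⟩ := 𝒲.exists_eq x
  exact ⟨W r, ⟨y, hy⟩, hW r, hstab r f φ (h r)⟩

/-- Let S be a scheme and X = lim X_i a cofiltered limit of S-schemes X_i (a diagram with a compatible
family of structure maps to S) with affine transition morphisms, every X_i quasi-compact and
quasi-separated; the structure map X → S is the composite X → X_{i₀} → S for any index i₀. Assume S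
is quasi-compact and quasi-separated. If X → S is affine, then X_i → S is affine for all i beyond
some index i₁. -/
theorem result {I : Type u} [SmallCategory I] [IsCofiltered I] (S : Scheme.{u}) [CompactSpace S] [QuasiSeparatedSpace S]
    (D : I ⥤ Scheme.{u}) (t : D ⟶ (Functor.const I).obj S) (c : Limits.Cone D) (hc : Limits.IsLimit c)
    [∀ (i j : I) (a : i ⟶ j), IsAffineHom (D.map a)]
    [∀ i, CompactSpace (D.obj i)] [∀ i, QuasiSeparatedSpace (D.obj i)] (i₀ : I)
    [IsAffineHom (c.π.app i₀ ≫ t.app i₀)] :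
    ∃ i₁ : I, ∀ (i : I) (_ : i ⟶ i₁), IsAffineHom (t.app i) := by
  exact aux S D t c hc i₀

end Groth.Agent.S9200
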