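import Groth.Statements.S18735
import Groth.Agent.Helper4.NApx18
import Mathlib

set_option autoImplicit false
universe u
open CategoryTheory CategoryTheory.Limits AlgebraicGeometry TopologicalSpace
open ModPair

namespace Groth.Agent.S18735


/-- Let (S, I_S), (T, I_T), (X, I_X) be schemes equipped with quasi-coherent ideal sheaves of effective
Cartier divisors, g : T ⟶ S a morphism satisfying the modulus condition I_T ≤ I_S.comap g, and s : X
⟶ S an abstract admissible blow-up (I_X = I_S.comap s, s proper and an isomorphism over the open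
complement of the support of I_S). Let Y be the scheme-theoretic image in X ×_S T of the open
pr₁⁻¹(X°) ∩ pr₂⁻¹(T°), where X°, T° are the open complements of the supports of I_X, I_T, with
projections q : Y ⟶ T and r : Y ⟶ X. Then I_T.comap q is the ideal sheaf of an effective Cartier
divisor on Y, q is an abstract admissible blow-up from (Y, I_T.comap q) to (T, I_T), and r satisfies
the modulus condition from (Y, I_T.comap q) to (X, I_X). -/
theorem result {S T X : Scheme.{u}} (IS : S.IdealSheafData)
    (IT : T.IdealSheafData) (IX : X.IdealSheafData) (hS : BlowUp.IsEffCartierIdeal IS)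
    (hT : BlowUp.IsEffCartierIdeal IT) (hX : BlowUp.IsEffCartierIdeal IX)
    (g : T ⟶ S) (hg : ModPair.IsAmbient IT IS g) (s : X ⟶ S) (hs : ModPair.IsAdmBlowup IX IS s) :
    BlowUp.IsEffCartierIdeal (IT.comap (ModPair.mprodι s g IX IT ≫ pullback.snd s g)) ∧
      ModPair.IsAdmBlowup (IT.comap (ModPair.mprodι s g IX IT ≫ pullback.snd s g)) IT
        (ModPair.mprodι s g IX IT ≫ pullback.snd s g) ∧
      ModPair.IsAmbient (IT.comap (ModPair.mprodι s g IX IT ≫ pullback.snd s g)) IX
        (ModPair.mprodι s g IX IT ≫ pullback.fst s g) := by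

  obtain ⟨hmin, hprop, hiso⟩ := hs
  haveI := hprop
  haveI := hiso
  set pr₁ := pullback.fst s g with hpr₁
  set pr₂ := pullback.snd s g with hpr₂
  set W := ModPair.prodInterior s g IX IT with hWdef
  set m := ModPair.mprodι s g IX IT with hm
  have hm' : m = W.ι.imageι := rfl
  -- Step 1
  have hT0 : ModPair.interior IT ≤ g ⁻¹ᵁ ModPair.interior IS := by
    intro x hx
    show g x ∉ IS.support
    intro hgx
    have h1 : x ∈ (IS.comap g).support := by
      rw [Scheme.IdealSheafData.support_comap]; exact hgx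
    exact hx (Scheme.IdealSheafData.support_antitone hg h1)
  -- Step 2
  have hW : W = pr₂ ⁻¹ᵁ ModPair.interior IT := by
    apply le_antisymm
    · exact inf_le_right
    · intro z hz
      refine ⟨?_, hz⟩
      show pr₁ z ∉ IX.support
      rw [hmin, Scheme.IdealSheafData.support_comap]
      show s (pr₁ z) ∉ IS.support
      have h2 : s (pr₁ z) = g (pr₂ z) := by
        rw [← Scheme.Hom.comp_apply, ← Scheme.Hom.comp_apply, pullback.condition]
      rw [h2]
      exact hT0 hz
  haveI hqcW : QuasiCompact W.ι := by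
    rw [hW]; exact Groth.Agent.Helper4.NApx14.quasiCompact_preimage_interior_ι IT hT pr₂
  set q := m ≫ pr₂ with hq
  have hqW : q ⁻¹ᵁ ModPair.interior IT = m ⁻¹ᵁ W := by
    rw [hW]; rfl
  -- Step 5
  haveI : IsSchemeTheoreticallyDominant W.ι.toImage :=
    Groth.Agent.Helper4.NApx15.isSchemeTheoreticallyDominant_toImage W.ι
  haveI hdom : IsSchemeTheoreticallyDominant (q ⁻¹ᵁ ModPair.interior IT).ι := by
    rw [hqW]
    let e := IsOpenImmersion.isoOfRangeEq W.ι.toImage (m ⁻¹ᵁ W).ι
      (by rw [Scheme.Opens.range_ι]; exact Groth.Agent.Helper4.NApx18.range_toImage_opens W)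
    have he : e.hom ≫ (m ⁻¹ᵁ W).ι = W.ι.toImage := IsOpenImmersion.isoOfRangeEq_hom_fac _ _ _
    have : (m ⁻¹ᵁ W).ι = e.inv ≫ W.ι.toImage := by rw [← he, Iso.inv_hom_id_assoc]
    rw [this]
    infer_instance
  have hcart : BlowUp.IsEffCartierIdeal (IT.comap q) :=
    Groth.Agent.Helper4.NApx14.isEffCartierIdeal_comap IT hT q
  refine ⟨hcart, ⟨rfl, ?_, ?_⟩, ?_⟩
  · show IsProper (m ≫ pr₂)
    infer_instance
  · have h1 : q ∣_ ModPair.interior IT =
        m ∣_ pr₂ ⁻¹ᵁ ModPair.interior IT ≫ pr₂ ∣_ ModPair.interior IT :=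
      morphismRestrict_comp m pr₂ _
    have h2 : ∀ U : (pullback s g).Opens, U = W → IsIso (m ∣_ U) := by
      rintro U rfl
      exact Groth.Agent.Helper4.NApx18.isIso_imageι_restrict W
    have hA := h2 _ hW.symm
    have hB : IsIso (pr₂ ∣_ ModPair.interior IT) :=
      Groth.Agent.Helper4.NApx18.isIso_snd_restrict s g (ModPair.interior IS)
        (ModPair.interior IT) hT0
    rw [h1]
    exact @IsIso.comp_isIso _ _ _ _ _ _ _ hA hB
  · show IT.comap q ≤ IX.comap (m ≫ pr₁)
    have h0 : IX.comap (m ≫ pr₁) = (IS.comap s).comap (m ≫ pr₁) :=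
      congrArg (fun J : X.IdealSheafData => J.comap (m ≫ pr₁)) hmin
    rw [h0, ← Scheme.IdealSheafData.comap_comp]
    have h3 : (m ≫ pr₁) ≫ s = q ≫ g := by
      rw [Category.assoc, pullback.condition, ← Category.assoc]
    rw [h3, Scheme.IdealSheafData.comap_comp IS q g]
    have hg' : IT ≤ IS.comap g := hg
    have h4 : (fun J : T.IdealSheafData => J.comap q) IT ≤
        (fun J : T.IdealSheafData => J.comap q) (IS.comap g) :=
      Scheme.IdealSheafData.comap_mono q hg'
    exact h4

end Groth.Agent.S18735
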