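import Groth.Statements.S18738
import Groth.Agent.S18735
import Groth.Agent.Helper4.NApx20
import Mathlib

set_option autoImplicit false
universe u
open CategoryTheory CategoryTheory.Limits AlgebraicGeometry TopologicalSpace
open ModPair

namespace Groth.Agent.S18738


/-- In the category of modulus pairs and ambient morphisms, the class Σ of abstract admissible blow-ups
(minimal, proper, an isomorphism over the interior of the target) admits a calculus of right
fractions: it contains the identities and is stable under composition; every pair X' ⟶ X ⟵ Y with X'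
⟶ X in Σ can be completed to a commutative square with a morphism Y' ⟶ Y in Σ; and two ambient
morphisms f, g : X ⟶ Y equalized by some Y ⟶ Z in Σ are equalized by some X' ⟶ X in Σ. -/
theorem result :
    (ModPair.Pair.admBlowup.{u}).HasRightCalculusOfFractions := by

  have hid : ∀ P : ModPair.Pair.{u}, ModPair.Pair.admBlowup (𝟙 P) := by
    intro P
    refine ⟨?_, ?_, ?_⟩
    · show P.mod = P.mod.comap (𝟙 P.total)
      exact (Scheme.IdealSheafData.comap_id P.mod).symm
    · show IsProper (𝟙 P.total)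
      infer_instance
    · show IsIso ((𝟙 P.total) ∣_ ModPair.interior P.mod)
      infer_instance
  haveI hmul : (ModPair.Pair.admBlowup.{u}).IsMultiplicative :=
    { id_mem := hid
      comp_mem := by
        intro P Q R f g hf hg
        obtain ⟨hf1, hf2, hf3⟩ := hf
        obtain ⟨hg1, hg2, hg3⟩ := hg
        have hf1' : P.mod = Q.mod.comap f.hom := hf1
        have hg1' : Q.mod = R.mod.comap g.hom := hg1
        haveI : IsProper f.hom := hf2
        haveI : IsProper g.hom := hg2
        refine ⟨?_, ?_, ?_⟩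
        · show P.mod = R.mod.comap (f.hom ≫ g.hom)
          rw [Scheme.IdealSheafData.comap_comp, ← hg1', ← hf1']
        · show IsProper (f.hom ≫ g.hom)
          infer_instance
        · show IsIso ((f.hom ≫ g.hom) ∣_ ModPair.interior R.mod)
          rw [morphismRestrict_comp]
          have hU : g.hom ⁻¹ᵁ ModPair.interior R.mod = ModPair.interior Q.mod := by
            rw [hg1', Groth.Agent.Helper4.NApx19.interior_comap]
          have h2 : ∀ U : Q.total.Opens, U = ModPair.interior Q.mod → IsIso (f.hom ∣_ U) := by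
            rintro U rfl
            exact hf3
          have hA := h2 _ hU
          have hB : IsIso (g.hom ∣_ ModPair.interior R.mod) := hg3
          exact @IsIso.comp_isIso _ _ _ _ _ _ _ hA hB }
  refine { toIsMultiplicative := hmul, exists_rightFraction := ?_, ext := ?_ }
  · intro X Y φ
    obtain ⟨hc, hadm, hamb⟩ := Groth.Agent.S18735.result φ.Y'.mod X.mod Y.mod φ.Y'.isEffCartier
      X.isEffCartier Y.isEffCartier φ.f.hom φ.f.cond φ.s.hom φ.hs
    let X' : ModPair.Pair.{u} :=
      ⟨ModPair.mprod φ.s.hom φ.f.hom Y.mod X.mod, _, hc⟩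
    let s' : X' ⟶ X := ⟨ModPair.mprodι φ.s.hom φ.f.hom Y.mod X.mod ≫ pullback.snd φ.s.hom φ.f.hom,
      le_refl _⟩
    let f' : X' ⟶ Y := ⟨ModPair.mprodι φ.s.hom φ.f.hom Y.mod X.mod ≫ pullback.fst φ.s.hom φ.f.hom,
      hamb⟩
    refine ⟨{ X' := X', s := s', hs := hadm, f := f' }, ?_⟩
    apply ModPair.Pair.Hom.ext
    show (ModPair.mprodι φ.s.hom φ.f.hom Y.mod X.mod ≫ pullback.snd φ.s.hom φ.f.hom) ≫ φ.f.hom =
      (ModPair.mprodι φ.s.hom φ.f.hom Y.mod X.mod ≫ pullback.fst φ.s.hom φ.f.hom) ≫ φ.s.hom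
    rw [Category.assoc, Category.assoc, pullback.condition]
  · intro X Y Y' f₁ f₂ s hs h
    refine ⟨X, 𝟙 X, hid X, ?_⟩
    rw [Category.id_comp, Category.id_comp]
    obtain ⟨hs1, hs2, hs3⟩ := hs
    have hs1' : Y.mod = Y'.mod.comap s.hom := hs1
    haveI : IsProper s.hom := hs2
    haveI : IsIso (s.hom ∣_ ModPair.interior Y'.mod) := hs3
    apply ModPair.Pair.Hom.ext
    have h' : f₁.hom ≫ s.hom = f₂.hom ≫ s.hom := congrArg ModPair.Pair.Hom.hom h
    haveI : IsSchemeTheoreticallyDominant (ModPair.interior X.mod).ι :=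
      Groth.Agent.Helper4.NApx19.isSchemeTheoreticallyDominant_interior_ι X.mod X.isEffCartier
    apply Groth.Agent.Helper4.NApx20.ext_of_schematicallyDominant_of_isSeparated s.hom h'
      (ModPair.interior X.mod).ι
    -- agreement on the interior
    set V := ModPair.interior Y'.mod with hV
    have hYV : ModPair.interior Y.mod = s.hom ⁻¹ᵁ V := by
      rw [hs1', Groth.Agent.Helper4.NApx19.interior_comap]
    have hsub : ∀ f : X ⟶ Y, Set.range ((ModPair.interior X.mod).ι ≫ f.hom) ⊆
        Set.range (s.hom ⁻¹ᵁ V).ι := by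
      intro f
      rintro _ ⟨w, rfl⟩
      rw [Scheme.Opens.range_ι, ← hYV, Scheme.Hom.comp_apply]
      exact Groth.Agent.Helper4.NApx19.interior_le_of_isAmbient X.mod Y.mod f.hom f.cond w.2
    let l₁ := IsOpenImmersion.lift (s.hom ⁻¹ᵁ V).ι ((ModPair.interior X.mod).ι ≫ f₁.hom) (hsub f₁)
    let l₂ := IsOpenImmersion.lift (s.hom ⁻¹ᵁ V).ι ((ModPair.interior X.mod).ι ≫ f₂.hom) (hsub f₂)
    have hl₁ : l₁ ≫ (s.hom ⁻¹ᵁ V).ι = (ModPair.interior X.mod).ι ≫ f₁.hom :=
      IsOpenImmersion.lift_fac _ _ _
    have hl₂ : l₂ ≫ (s.hom ⁻¹ᵁ V).ι = (ModPair.interior X.mod).ι ≫ f₂.hom :=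
      IsOpenImmersion.lift_fac _ _ _
    have hl : l₁ = l₂ := by
      rw [← cancel_mono (s.hom ∣_ V), ← cancel_mono V.ι, Category.assoc, Category.assoc,
        morphismRestrict_ι, ← Category.assoc, ← Category.assoc, hl₁, hl₂, Category.assoc,
        Category.assoc, h']
    rw [← hl₁, ← hl₂, hl]

end Groth.Agent.S18738
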