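import Groth.Statements.S16234
import Mathlib

set_option autoImplicit false
universe u v
open CAlg

namespace Groth.Agent.S16234

theorem support_simple {A : Type u} [CommRing A] {M : Type v} [AddCommGroup M] [Module A M]
    [IsSimpleModule A M] : ∀ p ∈ Module.support A M, p.asIdeal.IsMaximal := by
  obtain ⟨m, hm, ⟨e⟩⟩ := isSimpleModule_iff_quot_maximal.mp (inferInstance : IsSimpleModule A M)
  intro p hp
  rw [e.support_eq, Module.support_eq_zeroLocus, Ideal.annihilator_quotient] at hp
  have hle : m ≤ p.asIdeal := hp
  have := hm.eq_of_le p.2.ne_top hle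
  rw [← this]; exact hm

theorem fl_imp {A : Type u} [CommRing A] {M : Type v} [AddCommGroup M] [Module A M]
    (h : IsFiniteLength A M) : ∀ p ∈ Module.support A M, p.asIdeal.IsMaximal := by
  induction h with
  | of_subsingleton => intro p hp; rw [Module.support_eq_empty] at hp; exact absurd hp (Set.notMem_empty _)
  | @of_simple_quotient M _ _ N _ _ ih =>
    intro p hp
    rw [Module.support_of_exact (f := N.subtype) (g := N.mkQ) (LinearMap.exact_subtype_mkQ N)
      N.injective_subtype N.mkQ_surjective] at hp
    rcases hp with hp | hp
    · exact ih p hp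
    · exact support_simple p hp

/-- For a finitely generated module M over a Noetherian commutative ring A, every prime ideal in the
support of M is a maximal ideal if and only if M has finite length. -/
theorem result (A : Type u) [CommRing A] [IsNoetherianRing A]
    (M : Type v) [AddCommGroup M] [Module A M] [Module.Finite A M] :
    (∀ p ∈ Module.support A M, p.asIdeal.IsMaximal) ↔ IsFiniteLength A M := by
  refine ⟨?_, fl_imp⟩
  induction ‹Module.Finite A M› using
    IsNoetherianRing.induction_on_isQuotientEquivQuotientPrime A with
  | subsingleton N => intro _; exact IsFiniteLength.of_subsingleton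
  | quotient N p f =>
    intro h
    have hp : p ∈ Module.support A N := by
      rw [f.support_eq, Module.support_eq_zeroLocus, Ideal.annihilator_quotient]
      exact le_refl p.asIdeal
    have hmax := h p hp
    have : IsSimpleModule A (A ⧸ p.asIdeal) := by
      rw [isSimpleModule_iff_quot_maximal]
      exact ⟨p.asIdeal, hmax, ⟨LinearEquiv.refl _ _⟩⟩
    have hfl : IsFiniteLength A (A ⧸ p.asIdeal) := by
      rw [isFiniteLength_iff_isNoetherian_isArtinian]
      exact ⟨inferInstance, inferInstance⟩
    exact f.symm.isFiniteLength hfl
  | exact N₁ N₂ N₃ f g hf hg hfg h₁ h₃ =>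
    intro h
    rw [Module.support_of_exact hfg hf hg] at h
    have e₁ := h₁ fun p hp => h p (Or.inl hp)
    have e₃ := h₃ fun p hp => h p (Or.inr hp)
    rw [isFiniteLength_iff_isNoetherian_isArtinian] at e₁ e₃ ⊢
    obtain ⟨n₁, a₁⟩ := e₁
    obtain ⟨n₃, a₃⟩ := e₃
    have hr : LinearMap.range f = LinearMap.ker g := (LinearMap.exact_iff.mp hfg).symm
    exact ⟨isNoetherian_of_range_eq_ker f g hr, isArtinian_of_range_eq_ker f g hr⟩

end Groth.Agent.S16234
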