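import Groth.Statements.S0602
import Mathlib

set_option autoImplicit false
universe u
open CAlg

namespace Groth.Agent.S0602

open IsLocalRing RingTheory.Sequence

lemma smul_top_ne_top' (A : Type*) [CommRing A] [IsLocalRing A] (M : Type*) [AddCommGroup M]
    [Module A M] [Module.Finite A M] [Nontrivial M] :
    maximalIdeal A • (⊤ : Submodule A M) ≠ ⊤ := by
  intro h
  have : (⊤ : Submodule A M) = ⊥ :=
    Submodule.eq_bot_of_le_smul_of_le_jacobson_bot (maximalIdeal A) ⊤ Module.Finite.fg_top
      (le_of_eq h.symm) (IsLocalRing.maximalIdeal_le_jacobson _)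
  exact top_ne_bot this

lemma depth_eq_zero_iff (A : Type*) [CommRing A] [IsLocalRing A] (M : Type*) [AddCommGroup M]
    [Module A M] [Module.Finite A M] [Nontrivial M] :
    LocCoh.depth A M = 0 ↔ ∀ x ∈ maximalIdeal A, ¬ IsSMulRegular M x := by
  unfold LocCoh.depth LocCoh.idealDepth
  rw [if_neg (smul_top_ne_top' A M)]
  simp only [ENat.iSup_eq_zero]
  constructor
  · intro h x hx hreg
    have := h [x] ⟨(isWeaklyRegular_singleton_iff M x).mpr hreg, by simpa using hx⟩
    simp at this
  · intro h rs ⟨hreg, hmem⟩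
    cases rs with
    | nil => simp
    | cons x rs =>
      exfalso
      rw [isWeaklyRegular_cons_iff] at hreg
      exact h x (hmem x (by simp)) hreg.1

lemma smul_top_of_equiv {A : Type*} [CommRing A] (I : Ideal A) {M N : Type*} [AddCommGroup M]
    [Module A M] [AddCommGroup N] [Module A N] (e : M ≃ₗ[A] N)
    (h : I • (⊤ : Submodule A M) = ⊤) : I • (⊤ : Submodule A N) = ⊤ := by
  have := congrArg (Submodule.map e.toLinearMap) h
  rw [Submodule.map_smul'', Submodule.map_top, LinearEquiv.range] at this
  exact this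

lemma idealDepth_congr {A : Type*} [CommRing A] (I : Ideal A) {M N : Type*} [AddCommGroup M]
    [Module A M] [AddCommGroup N] [Module A N] (e : M ≃ₗ[A] N) :
    LocCoh.idealDepth I M = LocCoh.idealDepth I N := by
  unfold LocCoh.idealDepth
  have h1 : (I • (⊤ : Submodule A M) = ⊤) ↔ (I • (⊤ : Submodule A N) = ⊤) :=
    ⟨smul_top_of_equiv I e, smul_top_of_equiv I e.symm⟩
  have h2 : ∀ rs : List A, IsWeaklyRegular M rs ↔ IsWeaklyRegular N rs :=
    fun rs => e.isWeaklyRegular_congr rs
  simp only [h1, h2]

/-- Serre's condition `S₁` for a local ring as module over itself. -/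
lemma s1_local_iff (A : Type*) [CommRing A] [IsLocalRing A] :
    min (((1 : ℕ) : WithBot ℕ∞)) (Module.supportDim A A) ≤
      ((LocCoh.depth A A : ℕ∞) : WithBot ℕ∞) ↔
    (ringKrullDim A ≤ 0 ∨ ∃ x ∈ maximalIdeal A, IsSMulRegular A x) := by
  rw [Module.supportDim_self_eq_ringKrullDim]
  constructor
  · intro h
    by_cases hx : ∃ x ∈ maximalIdeal A, IsSMulRegular A x
    · exact Or.inr hx
    · left
      push Not at hx
      have hd : LocCoh.depth A A = 0 := (depth_eq_zero_iff A A).mpr hx
      rw [hd] at h
      rcases min_le_iff.mp h with h | h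
      · exfalso
        have : ((1 : ℕ) : WithBot ℕ∞) = ((1 : ℕ∞) : WithBot ℕ∞) := rfl
        rw [this] at h
        have h' : ((1 : ℕ∞) : WithBot ℕ∞) ≤ ((0 : ℕ∞) : WithBot ℕ∞) := h
        rw [WithBot.coe_le_coe] at h'
        exact absurd h' (by simp)
      · exact h
  · rintro (h | ⟨x, hx, hreg⟩)
    · refine (min_le_right _ _).trans (h.trans ?_)
      have : (0 : WithBot ℕ∞) = ((0 : ℕ∞) : WithBot ℕ∞) := rfl
      rw [this, WithBot.coe_le_coe]
      exact zero_le
    · have hd : LocCoh.depth A A ≠ 0 := fun h0 => (depth_eq_zero_iff A A).mp h0 x hx hreg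
      refine (min_le_left _ _).trans ?_
      have : ((1 : ℕ) : WithBot ℕ∞) = ((1 : ℕ∞) : WithBot ℕ∞) := rfl
      rw [this, WithBot.coe_le_coe]
      exact Order.one_le_iff_ne_zero.mpr hd

/-- The `R_p`-linear identification of the localized module of `R` with `R_p`. -/
noncomputable def locEquiv (R : Type u) [CommRing R] (p : Ideal R) [p.IsPrime] :
    LocalizedModule p.primeCompl R ≃ₗ[Localization.AtPrime p] Localization.AtPrime p :=
  LinearEquiv.extendScalarsOfIsLocalization p.primeCompl (Localization.AtPrime p)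
    (IsLocalizedModule.iso p.primeCompl (Algebra.linearMap R (Localization.AtPrime p)))

lemma sk_at_iff (R : Type u) [CommRing R] (p : Ideal R) [p.IsPrime] :
    (min ((1 : ℕ) : WithBot ℕ∞)
        (Module.supportDim (Localization.AtPrime p) (LocalizedModule p.primeCompl R)) ≤
      ((LocCoh.depth (Localization.AtPrime p) (LocalizedModule p.primeCompl R) : ℕ∞) :
        WithBot ℕ∞)) ↔
    (ringKrullDim (Localization.AtPrime p) ≤ 0 ∨
      ∃ x ∈ maximalIdeal (Localization.AtPrime p), IsSMulRegular (Localization.AtPrime p) x) := by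
  rw [← s1_local_iff]


lemma exists_regular_of_reduced (A : Type*) [CommRing A] [IsNoetherianRing A] [IsLocalRing A]
    [IsReduced A] (h : ¬ ringKrullDim A ≤ 0) :
    ∃ x ∈ maximalIdeal A, IsSMulRegular A x := by
  have hfin : (minimalPrimes A).Finite := minimalPrimes.finite_of_isNoetherianRing A
  have hnot : ¬ ((maximalIdeal A : Set A) ⊆ ⋃ q ∈ minimalPrimes A, (id q : Ideal A)) := by
    intro hsub
    obtain ⟨q, hq, hle⟩ := (Ideal.subset_union_prime_finite hfin (f := id) ⊥ ⊥
      (fun K hK _ _ => (Ideal.minimalPrimes_isPrime hK : K.IsPrime))).mp hsub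
    have hqp : (id q : Ideal A).IsPrime := Ideal.minimalPrimes_isPrime hq
    have heq : maximalIdeal A = q :=
      (IsLocalRing.maximalIdeal.isMaximal A).eq_of_le hqp.ne_top hle
    apply h
    rw [← IsLocalRing.maximalIdeal_height_eq_ringKrullDim, heq]
    have : q.height = 0 := by
      have := hqp
      simp only [id] at this
      exact (Ideal.height_eq_zero_iff (I := q)).mpr hq
    rw [this]
    rfl
  rw [Set.not_subset] at hnot
  obtain ⟨x, hxm, hx⟩ := hnot
  refine ⟨x, hxm, ?_⟩
  rw [isSMulRegular_iff_right_eq_zero_of_smul]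
  intro y hy
  have hy' : x * y = 0 := hy
  have hmem : y ∈ sInf (minimalPrimes A) := by
    rw [Submodule.mem_sInf]
    intro q hq
    have hqp : Ideal.IsPrime q := Ideal.minimalPrimes_isPrime hq
    have : x * y ∈ q := by rw [hy']; exact Submodule.zero_mem q
    rcases hqp.mem_or_mem this with h1 | h1
    · exact absurd (Set.mem_biUnion hq h1) hx
    · exact h1
  have hrad : sInf (minimalPrimes A) = nilradical A := by
    unfold minimalPrimes
    rw [Ideal.sInf_minimalPrimes]
    rfl
  rw [hrad, nilradical_eq_zero] at hmem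
  simpa using hmem

theorem fwd (R : Type u) [CommRing R] [IsNoetherianRing R] [IsReduced R] :
    LocCoh.HasRk 0 R ∧ LocCoh.HasSk 1 R R := by
  constructor
  · intro p hp hht
    have hdim : ringKrullDim (Localization.AtPrime p) ≤ 0 := by
      rw [IsLocalization.AtPrime.ringKrullDim_eq_height p]
      exact_mod_cast hht
    haveI : Ring.KrullDimLE 0 (Localization.AtPrime p) := by
      rw [Ring.krullDimLE_iff]
      exact_mod_cast hdim
    have hf : IsField (Localization.AtPrime p) := Ring.KrullDimLE.isField_of_isReduced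
    haveI := hf.isDomain
    haveI := hf.isPrincipalIdealRing
    infer_instance
  · intro p hp
    rw [sk_at_iff]
    by_cases h : ringKrullDim (Localization.AtPrime p) ≤ 0
    · exact Or.inl h
    · exact Or.inr (exists_regular_of_reduced _ h)


theorem bwd (R : Type u) [CommRing R] [IsNoetherianRing R] (h0 : LocCoh.HasRk 0 R)
    (h1 : LocCoh.HasSk 1 R R) : IsReduced R := by
  rw [isReduced_iff]
  intro x hxn
  by_contra hx0
  obtain ⟨P, hP, hle⟩ := exists_le_isAssociatedPrime_of_isNoetherianRing R x hx0
  rw [isAssociatedPrime_iff] at hP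
  obtain ⟨hPp, y, hy⟩ := hP
  have hyi : ∀ r : R, r ∈ P ↔ r * y = 0 := by
    intro r
    rw [hy, Submodule.mem_colon_singleton]
    simp
  clear hy
  set A := Localization.AtPrime P with hA
  -- the image of y is nonzero
  have hy' : algebraMap R A y ≠ 0 := by
    intro h
    rw [IsLocalization.map_eq_zero_iff P.primeCompl] at h
    obtain ⟨s, hs⟩ := h
    have : (s : R) ∈ P := (hyi _).mpr hs
    exact s.2 this
  -- every element of the maximal ideal is a zero divisor
  have hzd : ∀ a ∈ maximalIdeal A, ¬ IsSMulRegular A a := by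
    intro a ha hreg
    obtain ⟨⟨r, s⟩, hrs⟩ := IsLocalization.surj P.primeCompl a
    simp only at hrs
    have hrP : r ∈ P := by
      rw [← IsLocalization.AtPrime.to_map_mem_maximal_iff A P, ← hrs]
      exact Ideal.mul_mem_right _ _ ha
    have hry : r * y = 0 := (hyi _).mp hrP
    have h2 : a * algebraMap R A s * algebraMap R A y = 0 := by
      rw [hrs, ← map_mul, hry, map_zero]
    have hu : IsUnit (algebraMap R A s) := IsLocalization.map_units A s
    have h3 : a * algebraMap R A y = 0 := by
      have : algebraMap R A s * (a * algebraMap R A y) = 0 := by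
        rw [← h2]; ring
      exact (hu.mul_right_eq_zero).mp this
    apply hy'
    apply hreg
    simp only [smul_eq_mul, mul_zero]
    exact h3
  -- use S₁
  have hS := h1 P
  rw [sk_at_iff] at hS
  have hdim : ringKrullDim A ≤ 0 := by
    rcases hS with h | ⟨a, ha, hreg⟩
    · exact h
    · exact absurd hreg (hzd a ha)
  have hht : P.height ≤ ((0 : ℕ) : ℕ∞) := by
    rw [IsLocalization.AtPrime.ringKrullDim_eq_height P] at hdim
    exact_mod_cast hdim
  have hreg : IsRegularLocalRing A := h0 P hht
  have hdim0 : ringKrullDim A = 0 := le_antisymm hdim ringKrullDim_nonneg_of_nontrivial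
  have hspan : (maximalIdeal A).spanFinrank = 0 := by
    have := hreg.spanFinrank_maximalIdeal
    rw [hdim0] at this
    exact_mod_cast this
  have hbot : maximalIdeal A = ⊥ := by
    have hfg : (maximalIdeal A).FG := (maximalIdeal A).fg_of_isNoetherianRing
    exact (Submodule.spanFinrank_eq_zero_iff_eq_bot hfg).mp hspan
  -- the image of x is nilpotent, hence in the maximal ideal
  have hxm : algebraMap R A x ∈ maximalIdeal A := by
    rw [IsLocalRing.mem_maximalIdeal, mem_nonunits_iff]
    intro hu
    have hn : IsNilpotent (algebraMap R A x) := hxn.map _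
    exact hn.not_isUnit hu
  rw [hbot, Ideal.mem_bot, IsLocalization.map_eq_zero_iff P.primeCompl] at hxm
  obtain ⟨s, hs⟩ := hxm
  have : (s : R) ∈ P := by
    apply hle
    rw [Submodule.mem_colon_singleton]
    simpa using hs
  exact s.2 this

/-- A Noetherian ring is reduced exactly when it satisfies the conditions R₀ and S₁. -/
theorem result (R : Type u) [CommRing R] [IsNoetherianRing R] :
    IsReduced R ↔ (LocCoh.HasRk 0 R ∧ LocCoh.HasSk 1 R R) := by
  constructor
  · intro h
    exact fwd R
  · rintro ⟨h0, h1⟩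
    exact bwd R h0 h1

end Groth.Agent.S0602
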