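import Groth.Statements.S4721
import Groth.Agent.Helper2.Hart
import Groth.Agent.Helper2.HartChain
open IsLocalRing Groth.Agent.Helper2 Groth.Agent.Helper2.HartChain
-- import your own Groth.Agent.* helpers here

set_option autoImplicit false
universe u
open EGA4

namespace Groth.Agent.S4721

/-- Let A be a Noetherian ring whose spectrum is connected and d a natural number such that for every
prime p of height at least d the local ring A_p has depth at least 2. Then for any two distinct
minimal primes p', p'' of A there is a finite chain of minimal primes starting at p' and ending at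
p'' such that any two consecutive members are both contained in a prime ideal of height at most d −
1 (the spectrum is connected in codimension at most d − 1). -/
theorem result (A : Type u) [CommRing A] [IsNoetherianRing A]
    [ConnectedSpace (PrimeSpectrum A)] (d : ℕ)
    (h : ∀ (p : Ideal A) [p.IsPrime], (d : ℕ∞) ≤ p.height →
      (2 : ℕ∞) ≤ LocCoh.depth (Localization.AtPrime p) (Localization.AtPrime p))
    (p' p'' : Ideal A) (hp' : p' ∈ minimalPrimes A) (hp'' : p'' ∈ minimalPrimes A) (hne : p' ≠ p'') :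
    ∃ (n : ℕ) (c : Fin (n + 1) → Ideal A), c 0 = p' ∧ c (Fin.last n) = p'' ∧ (∀ i, c i ∈ minimalPrimes A) ∧
      ∀ i : Fin n, ∃ (q : Ideal A) (_ : q.IsPrime),
        c i.castSucc ≤ q ∧ c i.succ ≤ q ∧ q.height + 1 ≤ (d : ℕ∞) := by
  classical
  set R : Ideal A → Ideal A → Prop := fun p1 p2 => p2 ∈ minimalPrimes A ∧
    ∃ (q : Ideal A) (_ : q.IsPrime), p1 ≤ q ∧ p2 ≤ q ∧ q.height + 1 ≤ (d : ℕ∞) with hR
  suffices hmain : Relation.ReflTransGen R p' p'' by
    obtain ⟨n, c, h0, hl, hQ, hstep⟩ := chain_of_reflTransGen R (fun p => p ∈ minimalPrimes A) p' hp'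
      (fun a b hab => hab.1) p'' hmain
    exact ⟨n, c, h0, hl, hQ, fun i => (hstep i).2⟩
  by_contra hcon
  set S : Set (Ideal A) := {p | p ∈ minimalPrimes A ∧ Relation.ReflTransGen R p' p} with hS
  set T : Set (Ideal A) := {p | p ∈ minimalPrimes A ∧ ¬ Relation.ReflTransGen R p' p} with hT
  have hminfin : (minimalPrimes A).Finite := minimalPrimes.finite_of_isNoetherianRing A
  have hSfin : S.Finite := hminfin.subset (fun p hp => hp.1)
  have hTfin : T.Finite := hminfin.subset (fun p hp => hp.1)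
  have hp'S : p' ∈ S := ⟨hp', Relation.ReflTransGen.refl⟩
  have hp''T : p'' ∈ T := ⟨hp'', hcon⟩
  set I := sInf S with hI
  set J := sInf T with hJ
  have hminprime : ∀ p ∈ minimalPrimes A, p.IsPrime := fun p hp => hp.1.1
  -- every prime contains I or J
  have hcover : ∀ P : Ideal A, P.IsPrime → I ≤ P ∨ J ≤ P := by
    intro P hP
    obtain ⟨p0, hp0, hle⟩ := Ideal.exists_minimalPrimes_le (I := ⊥) (J := P) bot_le
    by_cases hc : Relation.ReflTransGen R p' p0
    · left; exact (sInf_le (show p0 ∈ S from ⟨hp0, hc⟩)).trans hle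
    · right; exact (sInf_le (show p0 ∈ T from ⟨hp0, hc⟩)).trans hle
  -- a prime containing both
  have hex : ∃ q0 : PrimeSpectrum A, I ≤ q0.asIdeal ∧ J ≤ q0.asIdeal := by
    have hpre : IsPreconnected (Set.univ : Set (PrimeSpectrum A)) := isPreconnected_univ
    rw [isPreconnected_closed_iff] at hpre
    have := hpre (PrimeSpectrum.zeroLocus I) (PrimeSpectrum.zeroLocus J)
      (PrimeSpectrum.isClosed_zeroLocus _) (PrimeSpectrum.isClosed_zeroLocus _)
      (by
        intro P _
        rcases hcover P.asIdeal P.2 with h1 | h1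
        · left; exact (PrimeSpectrum.mem_zeroLocus _ _).2 h1
        · right; exact (PrimeSpectrum.mem_zeroLocus _ _).2 h1)
      ⟨⟨p', hminprime p' hp'⟩, trivial, (PrimeSpectrum.mem_zeroLocus _ _).2 (SetLike.coe_subset_coe.2 (sInf_le hp'S))⟩
      ⟨⟨p'', hminprime p'' hp''⟩, trivial, (PrimeSpectrum.mem_zeroLocus _ _).2 (SetLike.coe_subset_coe.2 (sInf_le hp''T))⟩
    obtain ⟨q0, -, h1, h2⟩ := this
    exact ⟨q0, (PrimeSpectrum.mem_zeroLocus _ _).1 h1, (PrimeSpectrum.mem_zeroLocus _ _).1 h2⟩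
  obtain ⟨q0, hIq0, hJq0⟩ := hex
  obtain ⟨q, hqmin, hqq0⟩ := Ideal.exists_minimalPrimes_le (I := I ⊔ J) (J := q0.asIdeal)
    (sup_le hIq0 hJq0)
  have hqprime : q.IsPrime := hqmin.1.1
  have hIq : I ≤ q := le_sup_left.trans hqmin.1.2
  have hJq : J ≤ q := le_sup_right.trans hqmin.1.2
  obtain ⟨p1, hp1S, hp1q⟩ := exists_le_of_sInf_le hSfin hqprime hIq
  obtain ⟨p2, hp2T, hp2q⟩ := exists_le_of_sInf_le hTfin hqprime hJq
  have hdq : (d : ℕ∞) ≤ q.height := by
    by_contra hlt
    push Not at hlt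
    have h1 : q.height + 1 ≤ (d : ℕ∞) := Order.add_one_le_of_lt hlt
    exact hp2T.2 (Relation.ReflTransGen.tail hp1S.2 ⟨hp2T.1, q, hqprime, hp1q, hp2q, h1⟩)
  have hdepth := h q hdq
  -- localize
  set B := Localization.AtPrime q with hB
  set I' := I.map (algebraMap A B) with hI'
  set J' := J.map (algebraMap A B) with hJ'
  have hIJnil : I * J ≤ nilradical A := by
    rw [nilradical, ← Ideal.sInf_minimalPrimes]
    refine le_sInf (fun p0 hp0 => ?_)
    by_cases hc : Relation.ReflTransGen R p' p0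
    · exact Ideal.mul_le_left.trans (sInf_le (show p0 ∈ S from ⟨hp0, hc⟩))
    · exact Ideal.mul_le_right.trans (sInf_le (show p0 ∈ T from ⟨hp0, hc⟩))
  have hIJ'nil : I' * J' ≤ nilradical B := by
    rw [hI', hJ', ← Ideal.map_mul]
    refine (Ideal.map_mono hIJnil).trans ?_
    rw [Ideal.map_le_iff_le_comap]
    intro x hx
    rw [Ideal.mem_comap, mem_nilradical]
    exact (mem_nilradical.1 hx).map _
  obtain ⟨n, hn⟩ := IsNoetherianRing.isNilpotent_nilradical B
  have hpow : I' ^ (n + 1) * J' ^ (n + 1) = ⊥ := by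
    rw [← mul_pow, eq_bot_iff]
    calc (I' * J') ^ (n + 1) ≤ (nilradical B) ^ (n + 1) := Ideal.pow_right_mono hIJ'nil _
      _ = ⊥ := by rw [pow_succ, hn, Ideal.zero_eq_bot, Ideal.bot_mul]
  have hmapq : q.map (algebraMap A B) = maximalIdeal B := IsLocalization.AtPrime.map_eq_maximalIdeal q B
  have hI'm : I' ≤ maximalIdeal B := by rw [← hmapq]; exact Ideal.map_mono hIq
  have hJ'm : J' ≤ maximalIdeal B := by rw [← hmapq]; exact Ideal.map_mono hJq
  have hKm : I' ^ (n + 1) ⊔ J' ^ (n + 1) ≤ maximalIdeal B :=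
    sup_le ((Ideal.pow_le_self (Nat.succ_ne_zero n)).trans hI'm)
      ((Ideal.pow_le_self (Nat.succ_ne_zero n)).trans hJ'm)
  have hK : ∀ P : Ideal B, P.IsPrime → I' ^ (n + 1) ⊔ J' ^ (n + 1) ≤ P → P = maximalIdeal B := by
    intro P hP hle
    have h1 : I' ≤ P := hP.le_of_pow_le (le_sup_left.trans hle)
    have h2 : J' ≤ P := hP.le_of_pow_le (le_sup_right.trans hle)
    have h3 : I ⊔ J ≤ P.comap (algebraMap A B) :=
      sup_le (Ideal.map_le_iff_le_comap.1 h1) (Ideal.map_le_iff_le_comap.1 h2)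
    have h4 : P.comap (algebraMap A B) ≤ q := by
      have e1 : (maximalIdeal B).comap (algebraMap A B) = q :=
        IsLocalization.AtPrime.under_maximalIdeal B q
      exact (Ideal.comap_mono (IsLocalRing.le_maximalIdeal hP.ne_top)).trans (le_of_eq e1)
    have h5 : q ≤ P.comap (algebraMap A B) := hqmin.2 ⟨inferInstance, h3⟩ h4
    have h6 : P.comap (algebraMap A B) = q := le_antisymm h4 h5
    have h7 : (P.comap (algebraMap A B)).map (algebraMap A B) = P :=
      IsLocalization.map_under q.primeCompl B P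
    rw [← h7, h6, hmapq]
  have hkey := Hart.eq_bot_or_eq_bot hdepth (I' ^ (n + 1)) (J' ^ (n + 1)) hpow hKm hK
  -- primes of B over minimal primes inside q
  have hback : ∀ p0 : Ideal A, p0.IsPrime → p0 ≤ q → ∀ K : Ideal A,
      (K.map (algebraMap A B)) ^ (n + 1) = ⊥ → K ≤ p0 := by
    intro p0 hp0 hp0q K hKbot
    have hdisj : Disjoint (q.primeCompl : Set A) (p0 : Set A) := by
      rw [Set.disjoint_left]
      intro x hx hx0
      exact hx (hp0q hx0)
    have hP : (p0.map (algebraMap A B)).IsPrime :=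
      IsLocalization.isPrime_of_isPrime_disjoint q.primeCompl B p0 hp0 hdisj
    have h1 : K.map (algebraMap A B) ≤ p0.map (algebraMap A B) :=
      hP.le_of_pow_le (hKbot ▸ bot_le)
    have h2 := Ideal.map_le_iff_le_comap.1 h1
    have h3 : (p0.map (algebraMap A B)).comap (algebraMap A B) = p0 :=
      IsLocalization.under_map_of_isPrime_disjoint q.primeCompl B hp0 hdisj
    exact h2.trans (le_of_eq h3)
  rcases hkey with hbot | hbot
  · have h1 : I ≤ p2 := hback p2 (hminprime p2 hp2T.1) hp2q I hbot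
    obtain ⟨p, hpS, hpp2⟩ := exists_le_of_sInf_le hSfin (hminprime p2 hp2T.1) h1
    have h2 : p2 ≤ p := hp2T.1.2 ⟨hminprime p hpS.1, bot_le⟩ hpp2
    have h3 : p = p2 := le_antisymm hpp2 h2
    exact hp2T.2 (h3 ▸ hpS.2)
  · have h1 : J ≤ p1 := hback p1 (hminprime p1 hp1S.1) hp1q J hbot
    obtain ⟨p, hpT, hpp1⟩ := exists_le_of_sInf_le hTfin (hminprime p1 hp1S.1) h1
    have h2 : p1 ≤ p := hp1S.1.2 ⟨hminprime p hpT.1, bot_le⟩ hpp1
    have h3 : p = p1 := le_antisymm hpp1 h2
    exact hpT.2 (h3 ▸ hp1S.2)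

end Groth.Agent.S4721
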