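import Groth.Statements.S10829
import Groth.Agent.Helper6.ProjDim2

set_option autoImplicit false
universe u
open AlgebraicGeometry
open Variety

namespace Groth.Agent.S10829

/-- For a field k and a natural number n, projective n-space over k (Proj of the polynomial ring in n +
1 variables graded by degree) has Krull dimension n as a topological space. (The published statement
also gives affine n-space dimension n; that half is the Krull dimension of a polynomial ring and is
not restated here.) -/
theorem result (k : Type u) [Field k] (n : ℕ) :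
    topologicalKrullDim ↥(CohB1.ProjSpace n k) = (n : WithBot ℕ∞) := by
  have hbot : (⊥ : Ideal (MvPolynomial (Fin (n + 1)) k)).IsHomogeneous
      (MvPolynomial.homogeneousSubmodule (Fin (n + 1)) k) := Ideal.IsHomogeneous.bot _
  have hne : (⊥ : Ideal (MvPolynomial (Fin (n + 1)) k)) ≠ MvPolynomial.idealOfVars (Fin (n + 1)) k := by
    intro h
    have h1 : (MvPolynomial.X 0 : MvPolynomial (Fin (n + 1)) k) ∈
        MvPolynomial.idealOfVars (Fin (n + 1)) k := Ideal.subset_span ⟨0, rfl⟩
    rw [← h, Ideal.mem_bot] at h1
    exact MvPolynomial.X_ne_zero _ h1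
  haveI : (⊥ : Ideal (MvPolynomial (Fin (n + 1)) k)).IsPrime := Ideal.isPrime_bot
  have h1 := Groth.Agent.Helper6.ProjDim.dim_zeroLocus_add_one (⊥ : Ideal (MvPolynomial (Fin (n + 1)) k)) hbot hne
  rw [ProjectiveSpectrum.zeroLocus_bot,
    ringKrullDim_eq_of_ringEquiv (RingEquiv.quotientBot (MvPolynomial (Fin (n + 1)) k)),
    Groth.Agent.Helper5.DimBC.dim_mvPolynomial] at h1
  have h2 : topologicalKrullDim ↥(Set.univ : Set (ProjectiveSpectrum (CohB1.polyGrading n k))) =
      topologicalKrullDim (ProjectiveSpectrum (CohB1.polyGrading n k)) :=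
    IsHomeomorph.topologicalKrullDim_eq _ (Homeomorph.Set.univ _).isHomeomorph
  rw [h2] at h1
  have h3 : ((n + 1 : ℕ) : WithBot ℕ∞) = (n : WithBot ℕ∞) + 1 := by push_cast; rfl
  rw [h3] at h1
  exact ENat.WithBot.add_one_cancel.1 h1

end Groth.Agent.S10829
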