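import Groth.Statements.S4466
import Groth.Agent.Helper1.ProjTop8
import Groth.Agent.Helper1.ProjH04
import Groth.Agent.Helper1.ProjMid
import Groth.Agent.Helper6.HomogRank

set_option autoImplicit false
universe u
open Coherent

namespace Groth.Agent.S4466

open AlgebraicGeometry CategoryTheory in
/-- Let k be a field, r > 0 and n any integer. Then the Euler characteristic of the twisting sheaf O(n)
on projective r-space over k, namely the alternating sum of the dimensions of H^j(P^r_k, O(n)) for 0
≤ j ≤ r, equals the binomial coefficient C(n+r, r), understood as the binomial polynomial evaluated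
at the integer n+r (so that it makes sense and is correct for negative n too). -/
theorem result (k : Type u) [Field k] (r : ℕ) (hr : 0 < r)
    (n : ℤ) :
    ((Finset.range (r + 1)).sum fun j => (-1 : ℤ) ^ j *
        (Module.finrank k (Coh.HH (CohB1.ProjSpace r k) (Twist.twistProjSpace r k n) j) : ℤ)) =
      Ring.choose (n + r) r := by
  classical
  open Groth.Agent.Helper1.ProjTop in
  have h0r : (0 : ℕ) ≠ r := by omega
  have hmid : ∀ c ∈ Finset.range (r + 1), c ≠ 0 ∧ c ≠ r → (-1 : ℤ) ^ c *
      (Module.finrank k (Coh.HH (CohB1.ProjSpace r k) (Twist.twistProjSpace r k n) c) : ℤ) = 0 := by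
    intro c _ hc
    haveI := subsingleton_mid r k n c (by omega) hc.2
    rw [Module.finrank_zero_of_subsingleton]
    simp
  rw [Finset.sum_eq_add 0 r h0r hmid (fun h => absurd (Finset.mem_range.2 (by omega)) h)
    (fun h => absurd (Finset.mem_range.2 (by omega)) h)]
  by_cases hn : 0 ≤ n
  · -- n ≥ 0
    obtain ⟨m, rfl⟩ := Int.eq_ofNat_of_zero_le hn
    obtain ⟨e⟩ := nonempty_H0 r k m
    haveI := subsingleton_top r k (m : ℤ) hr (by omega)
    rw [Module.finrank_zero_of_subsingleton (M := Coh.HH (CohB1.ProjSpace r k) (Twist.twistProjSpace r k (m : ℤ)) r),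
      e.finrank_eq, Groth.Agent.Helper6.HomogRank.finrank_homogeneousSubmodule]
    have : ((m : ℤ) + r) = ((m + r : ℕ) : ℤ) := by push_cast; rfl
    rw [this, Ring.choose_natCast]
    simp
  · by_cases hn2 : -((r : ℤ) + 1) < n
    · haveI := subsingleton_top r k n hr hn2
      haveI := subsingleton_H0 r k n hr (by omega)
      rw [Module.finrank_zero_of_subsingleton, Module.finrank_zero_of_subsingleton]
      obtain ⟨m, hm⟩ := Int.eq_ofNat_of_zero_le (show 0 ≤ n + r by omega)
      rw [hm, Ring.choose_natCast, Nat.choose_eq_zero_of_lt (by omega)]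
      simp
    · obtain ⟨kk, hk⟩ := Int.eq_ofNat_of_zero_le (show 0 ≤ -n - (r + 1) by omega)
      have hnk : n = -((r : ℤ) + 1 + kk) := by omega
      subst hnk
      obtain ⟨e⟩ := nonempty_top r k kk
      haveI := subsingleton_H0 r k (-((r : ℤ) + 1 + kk)) hr (by omega)
      rw [Module.finrank_zero_of_subsingleton (M := Coh.HH (CohB1.ProjSpace r k) (Twist.twistProjSpace r k (-((r : ℤ) + 1 + kk))) 0),
        e.finrank_eq, Groth.Agent.Helper6.HomogRank.finrank_homogeneousSubmodule]
      have h1 : (-((r : ℤ) + 1 + kk) + r) = -((1 + kk : ℕ) : ℤ) := by push_cast; ring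
      rw [h1, Ring.choose_neg]
      have h2 : (((1 + kk : ℕ) : ℤ) + (r : ℤ) - 1) = ((kk + r : ℕ) : ℤ) := by push_cast; ring
      rw [h2, Ring.choose_natCast]
      simp [Int.negOnePow_def, Units.smul_def]

end Groth.Agent.S4466
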