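import Groth.Statements.S0032
import Groth.Agent.S0494
import Groth.Agent.S0030
import Groth.Agent.S0007
import Groth.Agent.Helper9.RpushCmp
import Groth.Agent.Helper4.HasRD
import Mathlib

set_option autoImplicit false
universe u
open Coherent

namespace Groth.Agent.S0032


open AlgebraicGeometry CategoryTheory Opposite in
/-- Let f : X → S be quasi-compact and quasi-separated with S affine, and F quasi-coherent on X. Then
H^q(X, F) is isomorphic to the global sections of R^q f_* F (higher direct image of the underlying
abelian sheaf), for every q. -/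
theorem result {X S : Scheme.{u}} (f : X ⟶ S)
    [QuasiCompact f] [QuasiSeparated f] [IsAffine S] (M : X.Modules) [Coh.IsQCoh M] (q : ℕ) :
    Nonempty (Coh.HH X M q ≃+ ↑(((Coh.RpushAb f q).obj (Coh.toAb M)).obj.obj (op ⊤))) := by

  haveI : HasInjectiveResolutions X.Modules := by
    haveI := Groth.Agent.Helper4.SchAdj.isGrothendieckAbelian_modules X
    infer_instance
  have h : ∀ p q : ℕ, Subsingleton (CohTop.H ((CohTop.Rpush f.base q).obj (Coh.toAb M)) (p + 1)) := by
    intro p q
    obtain ⟨e⟩ := Groth.Agent.Helper9.RpushCmp.nonempty_iso f q M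
    haveI : Coh.IsQCoh ((Coh.Rpush f q).obj M) := Groth.Agent.S0030.result f M q
    have h1 : Subsingleton (Coh.HH S ((Coh.Rpush f q).obj M) (p + 1)) :=
      Groth.Agent.S0007.result S _ (p + 1) (Nat.succ_pos p)
    haveI : Subsingleton ((CategoryTheory.Sheaf.functorH _ (p + 1)).obj
      ((Groth.Agent.Helper9.RpushCmp.T f q).obj M)) := h1
    exact (((CategoryTheory.Sheaf.functorH _ (p + 1)).mapIso e).addCommGroupIsoToAddEquiv.symm.toEquiv).subsingleton
  exact Groth.Agent.S0494.result f.base (Coh.toAb M) h q

end Groth.Agent.S0032
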