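import Groth.Statements.S0042
import Groth.Agent.Helper1.FibDimVan4
import Groth.Agent.Helper4.SchAdj

set_option autoImplicit false
universe u
open Coherent

namespace Groth.Agent.S0042

open AlgebraicGeometry CategoryTheory in
/-- Let Y be a locally Noetherian scheme, f : X → Y a proper morphism, and y a point of Y whose fibre
X_y has dimension at most d. Then for every coherent 𝒪_X-module F and every p > d, the stalk of R^p
f_* F at y is zero. -/
theorem result {X Y : Scheme.{u}} (f : X ⟶ Y)
    [IsProper f] [IsLocallyNoetherian Y] (y : Y) (d : ℕ) (hd : topologicalKrullDim ↥(f.fiber y) ≤ d)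
    (M : X.Modules) (hM : Coh.IsCoh M) (p : ℕ) (hp : d < p) :
    Limits.IsZero (TopCat.Presheaf.stalk ((Coh.RpushAb f p).obj (Coh.toAb M)).obj y) := by
  haveI : Coh.IsQCoh M := hM.1
  haveI := Groth.Agent.Helper4.SchAdj.isGrothendieckAbelian_modules X
  haveI : HasInjectiveResolutions X.Modules := inferInstance
  let B := Y.presheaf.stalk y
  let X₁ : Scheme.{u} := Limits.pullback f (Y.fromSpecStalk y)
  letI : X₁.Over (Spec (CommRingCat.of (Y.presheaf.stalk y))) :=
    ⟨Limits.pullback.snd f (Y.fromSpecStalk y)⟩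
  let g : X₁ ⟶ X := Limits.pullback.fst f (Y.fromSpecStalk y)
  have hsq : IsPullback g (X₁ ↘ Spec (CommRingCat.of (Y.presheaf.stalk y))) f
      (Y.fromSpecStalk y) := IsPullback.of_hasPullback _ _
  exact Groth.Agent.Helper1.FibDimVan.main f y d hd M hM p hp X₁ g hsq

end Groth.Agent.S0042
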