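import Groth.Statements.S4269
import Groth.Agent.Lead.ResPropC
import Groth.Agent.Helper4.TensorAssoc

set_option autoImplicit false
universe u
open CategoryTheory CategoryTheory.Limits AlgebraicGeometry
attribute [local instance] HasDerivedCategory.standard
open KSix

namespace Groth.Agent.S4269

/-- Let X be a quasi-compact quasi-separated scheme and (L_i) an ample family of invertible O_X-modules
(the affine opens X_s, for s a global section of some L_i^{⊗ n}, n ≥ 1, cover X). Then every
quasi-coherent O_X-module of finite type F receives an epimorphism from a finite direct sum of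
modules of the form L_i^{⊗ -n} with n > 0. (The printed statement uses a single exponent n_i for
each member L_i; the form here, allowing several powers of the same member, is slightly weaker.) -/
theorem result (X : Scheme.{u}) {ι : Type u} (L : ι → X.Modules)
    (hL : KSix.IsAmpleFamily L) (F : X.Modules) (hF : Coh.IsQCoh F) (hF' : CohB1.IsFT F) :
    ∃ (M : X.Modules) (π : M ⟶ F), KSix.InAddL L M ∧ Epi π := by
  obtain ⟨hc, hqs, hinv, hch⟩ := hL
  have : F.IsQuasicoherent := hF
  have hch' : ∀ x : X, ∃ (M : X.Modules) (ρ : Coh.structureModule X ⟶ M),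
      (∃ (i : ι) (n : ℕ), M = CohB1.tensorPow (L i) (n + 1)) ∧
      PicF.IsInvertible M ∧ x ∈ CohB1.genLocus M ρ ∧ IsAffineOpen (CohB1.genLocus M ρ) := by
    intro x
    obtain ⟨i, n, s, hx, ha⟩ := hch x
    exact ⟨CohB1.tensorPow (L i) (n + 1), s, ⟨i, n, rfl⟩,
      Groth.Agent.Helper4.TensorInv.isInvertible_tensorPow (hinv i) (n + 1), hx, ha⟩
  obtain ⟨K, N, π, hπ, hN⟩ :=
    Groth.Agent.Lead.ResProp.exists_epi_of_charts F hF'
      (fun M => ∃ (i : ι) (n : ℕ), M = CohB1.tensorPow (L i) (n + 1)) hch'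
  refine ⟨⨁ N, π, ⟨K, N, fun j => ?_, ⟨Iso.refl _⟩⟩, hπ⟩
  obtain ⟨-, M, m, ⟨i, n, rfl⟩, hm, ⟨e⟩⟩ := hN j
  exact ⟨i, (n + 1) * m, Nat.mul_pos (Nat.succ_pos n) hm,
    ⟨(PicGrp.tensorModIso (Iso.refl (N j))
      (Groth.Agent.Helper4.TensorAssoc.powMulIso (L i) (hinv i) (n + 1) m)).symm ≪≫ e⟩⟩

end Groth.Agent.S4269
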