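import Groth.Statements.S0846
import Groth.Agent.Helper1.ProjNoeth2
import Groth.Agent.S4269
import Groth.Agent.Helper3.NormalSheaf
import Groth.Agent.Helper4.AmpleBasis

set_option autoImplicit false
universe u
open Coherent

namespace Groth.Agent.S0846

open CategoryTheory CategoryTheory.Limits AlgebraicGeometry in
/-- Let A be a Noetherian graded ring (graded by ℕ as an R-algebra) and X = Proj A. Then every coherent
O_X-module is a quotient of a finite coproduct of twisting modules O_X(d_1), …, O_X(d_r). -/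
theorem result {R A : Type u} [CommRing R] [CommRing A] [Algebra R A]
    (𝒜 : ℕ → Submodule R A) [GradedAlgebra 𝒜] [IsNoetherianRing A] (F : (Proj 𝒜).Modules) (hF : Coh.IsCoh F) :
    ∃ (r : ℕ) (d : Fin r → ℤ) (φ : (∐ fun j : Fin r => Twist.twist 𝒜 (d j)) ⟶ F), Epi φ := by
  classical
  obtain ⟨e, he, hloc⟩ := Groth.Agent.Helper1.ProjNoeth.exists_hloc 𝒜
  have hloc1 : ∀ x : Proj 𝒜, ∃ b : A, b ∈ 𝒜 e ∧ x ∈ Proj.basicOpen 𝒜 b := fun x => by
    simpa using hloc 1 x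
  haveI := Groth.Agent.Helper1.ProjNoeth.compactSpace_proj 𝒜
  have hamp := Groth.Agent.Helper1.TwistMul.isAmple_twist' 𝒜 e he hloc1
  haveI := Groth.Agent.Helper4.AmpleBasis.quasiSeparatedSpace_of_isAmple hamp
  have hfam : KSix.IsAmpleFamily (fun _ : PUnit.{u + 1} => Twist.twist 𝒜 (e : ℤ)) :=
    ⟨inferInstance, inferInstance, fun _ => hamp.1, fun x => by
      obtain ⟨n, s, h1, h2⟩ := hamp.2.2 x
      exact ⟨PUnit.unit, n, s, h1, h2⟩⟩
  obtain ⟨M, π, ⟨k, N, hN, ⟨eM⟩⟩, hπ⟩ := Groth.Agent.S4269.result (Proj 𝒜) _ hfam F hF.1 hF.2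
  choose i kk hkk hiso using hN
  have hNj : ∀ j, Nonempty (Twist.twist 𝒜 (-((kk j : ℤ) * (e : ℤ))) ≅ N j) := by
    intro j
    obtain ⟨ε⟩ := hiso j
    obtain ⟨ε'⟩ := Groth.Agent.Helper1.ProjNoeth.nonempty_neg_tensor_tensorPow_iso 𝒜 e hloc1 (kk j)
    exact ⟨Groth.Agent.Helper3.NormalSheaf.inverseUnique ε' ε⟩
  refine ⟨k, fun j => -((kk j : ℤ) * (e : ℤ)),
    (Limits.Sigma.mapIso (fun j => (hNj j).some)).hom ≫ (Limits.biproduct.isoCoproduct N).inv ≫
      eM.inv ≫ π, ?_⟩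
  infer_instance

end Groth.Agent.S0846
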