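import Groth.Statements.S2928
import Groth.Agent.Helper1.StalkExt7

set_option autoImplicit false
universe u
open CategoryTheory AlgebraicGeometry
open ProjDual

namespace Groth.Agent.S2928

/-- (i)⇔(ii): Let k be a field, X = P^r_k, F a coherent O_X-module and n ≥ 0. Then H^i(X, F(−m)) = 0 for
all i ≤ n and all sufficiently large m if and only if at every closed point x of X the stalk F_x has
depth greater than n over O_{X,x}. -/
theorem result (k : Type u) [Field k] (r : ℕ) (F : (CohB1.ProjSpace r k).Modules) (hF : Coh.IsCoh F) (n : ℕ) : (∃ m₀ : ℤ, ∀ m : ℤ, m₀ ≤ m → ∀ i : ℕ, i ≤ n → Subsingleton (Coh.HH (CohB1.ProjSpace r k) (Twist.twistBy _ F (-m)) i)) ↔ ∀ x : (CohB1.ProjSpace r k), IsClosed ({x} : Set (CohB1.ProjSpace r k)) → (n : ℕ∞) < LocCoh.depth ((CohB1.ProjSpace r k).presheaf.stalk x) (F.presheaf.stalk x) := by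
  haveI : EnoughInjectives (CohB1.ProjSpace r k).Modules :=
    Groth.Agent.Helper9.ModCechExt.enoughInjectives_mod (CohB1.ProjSpace r k).ringCatSheaf
  haveI : HasExt.{u} (CohB1.ProjSpace r k).Modules := hasExt_of_enoughInjectives _
  haveI : HasInjectiveResolutions (ModSite.Mod (CohB1.ProjSpace r k).sheaf) :=
    inferInstanceAs (HasInjectiveResolutions (CohB1.ProjSpace r k).Modules)
  haveI : IsNoetherianRing (MvPolynomial (Fin (r + 1)) k) := inferInstance
  haveI : IsNoetherian (CohB1.ProjSpace r k) :=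
    Groth.Agent.Helper3.ProjNoeth.main (CohB1.polyGrading r k)
  letI : (CohB1.ProjSpace r k).Over (Spec (CommRingCat.of k)) := ⟨CohB1.ProjSpace.toSpec r k⟩
  -- the criterion at a closed point
  have crit : ∀ x : (CohB1.ProjSpace r k), IsClosed ({x} : Set (CohB1.ProjSpace r k)) →
      ((n : ℕ∞) < LocCoh.depth ((CohB1.ProjSpace r k).presheaf.stalk x) (F.presheaf.stalk x) ↔
        ∀ i : ℕ, i ≤ n → i ≤ r → Subsingleton (Abelian.Ext
          (ModuleCat.of ((CohB1.ProjSpace r k).presheaf.stalk x) (F.presheaf.stalk x))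
          (ModuleCat.of ((CohB1.ProjSpace r k).presheaf.stalk x)
            ((CohB1.ProjSpace r k).presheaf.stalk x)) (r - i))) := by
    intro x hx
    haveI := Groth.Agent.Helper1.PnReg.isRegularLocalRing_stalk r k x
    haveI := hF.1
    haveI : Module.Finite ((CohB1.ProjSpace r k).presheaf.stalk x) (F.presheaf.stalk x) :=
      Groth.Agent.Helper4.FinLocFree2.finite_stalk F hF.2 x
    exact Groth.Agent.Helper1.DepthExt.depth_gt_iff _ _ r
      (Groth.Agent.Helper1.PnReg.ringKrullDim_stalk_of_isClosed r k x hx) n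
  have key : ∀ i : ℕ, i ≤ r →
      ((∃ q₀ : ℤ, ∀ q : ℤ, q₀ ≤ q → Subsingleton (Coh.HH (CohB1.ProjSpace r k)
          (CohB1.tensorMod F (Twist.twistProjSpace r k (-q))) i)) ↔
        ∀ x : (CohB1.ProjSpace r k), IsClosed ({x} : Set (CohB1.ProjSpace r k)) →
          Subsingleton (Abelian.Ext
            (ModuleCat.of ((CohB1.ProjSpace r k).presheaf.stalk x) (F.presheaf.stalk x))
            (ModuleCat.of ((CohB1.ProjSpace r k).presheaf.stalk x)
              ((CohB1.ProjSpace r k).presheaf.stalk x)) (r - i))) := by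
    intro i hi
    have h := Groth.Agent.Helper1.StalkExt.exists_vanishing_iff_forall_closed r k F hF (r - i)
      (by omega)
    rw [show r - (r - i) = i by omega] at h
    exact h
  constructor
  · rintro ⟨m₀, hm₀⟩ x hx
    rw [crit x hx]
    intro i hin hir
    exact (key i hir).1 ⟨m₀, fun q hq => hm₀ q hq i hin⟩ x hx
  · intro h
    have h1 : ∀ i : ℕ, ∃ q₀ : ℤ, i ≤ n → i ≤ r → ∀ q : ℤ, q₀ ≤ q →
        Subsingleton (Coh.HH (CohB1.ProjSpace r k)
          (CohB1.tensorMod F (Twist.twistProjSpace r k (-q))) i) := by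
      intro i
      by_cases hc : i ≤ n ∧ i ≤ r
      · obtain ⟨q₀, hq₀⟩ := (key i hc.2).2 (fun x hx => (crit x hx).1 (h x hx) i hc.1 hc.2)
        exact ⟨q₀, fun _ _ => hq₀⟩
      · exact ⟨0, fun h1 h2 => absurd ⟨h1, h2⟩ hc⟩
    choose q₀ hq₀ using h1
    obtain ⟨m₀, hm₀⟩ := ((Finset.range (n + 1)).image q₀).exists_le
    refine ⟨m₀, fun m hm i hin => ?_⟩
    by_cases hir : i ≤ r
    · exact hq₀ i hin hir m ((hm₀ _ (Finset.mem_image_of_mem _
        (Finset.mem_range.2 (by omega)))).trans hm)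
    · exact Groth.Agent.Helper4.SN.subsingleton_HH_of_dim r
        (Groth.Agent.S10829.result k r).le _ i (by omega)

end Groth.Agent.S2928
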