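import Groth.Statements.S3861
import Mathlib

set_option autoImplicit false
universe u
open FCompl

namespace Groth.Agent.S3861

theorem comap_mul_of_inverse {R S : Type u} [CommRing R] [CommRing S] (φ : R →+* S) (ψ : S →+* R)
    (h1 : Function.LeftInverse ψ φ) (h2 : Function.RightInverse ψ φ) (I J : Ideal S) :
    (I * J).comap φ = I.comap φ * J.comap φ := by
  have key : ∀ K : Ideal S, K.comap φ = K.map ψ := fun K =>
    le_antisymm (Ideal.comap_le_map_of_inverse φ ψ K h1) (Ideal.map_le_comap_of_inverse ψ φ K h2)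
  rw [key, key, key, Ideal.map_mul]

open AlgebraicGeometry CategoryTheory in
/-- pullback of ideal sheaves along an open immersion is multiplicative -/
theorem comap_mul_of_isOpenImmersion {X Y : Scheme.{u}} (j : X ⟶ Y) [IsOpenImmersion j]
    (K₁ K₂ : Y.IdealSheafData) : (K₁ * K₂).comap j = K₁.comap j * K₂.comap j := by
  ext W : 2
  rw [Scheme.IdealSheafData.ideal_mul, Pi.mul_apply,
    Scheme.IdealSheafData.ideal_comap_of_isOpenImmersion,
    Scheme.IdealSheafData.ideal_comap_of_isOpenImmersion,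
    Scheme.IdealSheafData.ideal_comap_of_isOpenImmersion,
    Scheme.IdealSheafData.ideal_mul, Pi.mul_apply]
  refine comap_mul_of_inverse _ (j.appIso W).hom.hom ?_ ?_ _ _
  · intro a
    change ((j.appIso W).inv ≫ (j.appIso W).hom).hom a = a
    rw [Iso.inv_hom_id]; rfl
  · intro a
    change ((j.appIso W).hom ≫ (j.appIso W).inv).hom a = a
    rw [Iso.hom_inv_id]; rfl

open AlgebraicGeometry CategoryTheory in
/-- pullback of ideal sheaves between affine schemes is extension of ideals -/
theorem ideal_comap_of_isAffine {X Y : Scheme.{u}} [IsAffine X] [IsAffine Y] (g : X ⟶ Y)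
    (K : Y.IdealSheafData) :
    (K.comap g).ideal ⟨⊤, isAffineOpen_top X⟩ =
      (K.ideal ⟨⊤, isAffineOpen_top Y⟩).map g.appTop.hom := by
  have hmap : ∀ M : X.IdealSheafData, (M.map g).ideal ⟨⊤, isAffineOpen_top Y⟩ =
      (M.ideal ⟨⊤, isAffineOpen_top X⟩).comap g.appTop.hom := fun M =>
    Scheme.IdealSheafData.ideal_map M g ⟨⊤, isAffineOpen_top Y⟩ (isAffineOpen_top X)
  apply le_antisymm
  · let M : X.IdealSheafData :=
      Scheme.IdealSheafData.ofIdealTop ((K.ideal ⟨⊤, isAffineOpen_top Y⟩).map g.appTop.hom)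
    have hM : M.ideal ⟨⊤, isAffineOpen_top X⟩ =
        (K.ideal ⟨⊤, isAffineOpen_top Y⟩).map g.appTop.hom := by
      simp [M]
    have h1 : K.comap g ≤ M := by
      rw [← Scheme.IdealSheafData.le_map_iff_comap_le]
      apply Scheme.IdealSheafData.le_of_isAffine
      rw [hmap, hM]
      exact Ideal.le_comap_map
    rw [← hM]
    exact h1 _
  · rw [Ideal.map_le_iff_le_comap, ← hmap]
    exact Scheme.IdealSheafData.le_map_comap K g _

open AlgebraicGeometry CategoryTheory in
theorem comap_mul_of_isAffine {X Y : Scheme.{u}} [IsAffine X] [IsAffine Y] (g : X ⟶ Y)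
    (K₁ K₂ : Y.IdealSheafData) : (K₁ * K₂).comap g = K₁.comap g * K₂.comap g := by
  apply Scheme.IdealSheafData.ext_of_isAffine
  rw [ideal_comap_of_isAffine, Scheme.IdealSheafData.ideal_mul, Pi.mul_apply,
    Scheme.IdealSheafData.ideal_mul, Pi.mul_apply, ideal_comap_of_isAffine,
    ideal_comap_of_isAffine, Ideal.map_mul]


open AlgebraicGeometry CategoryTheory in
/-- an ideal sheaf is determined by its pullbacks to the members of an affine open cover -/
theorem eq_of_comap_ι_eq {X : Scheme.{u}} {I J : X.IdealSheafData} {ι : Type*}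
    (U : ι → X.affineOpens) (hU : ⨆ i, (U i).1 = ⊤)
    (h : ∀ i, I.comap (U i).1.ι = J.comap (U i).1.ι) : I = J := by
  refine Scheme.IdealSheafData.ext_of_iSup_eq_top U hU fun i => ?_
  haveI : IsAffine ((U i).1 : Scheme.{u}) := (U i).2
  have h1 := congrArg (fun K => K.ideal ⟨⊤, isAffineOpen_top _⟩) (h i)
  simp only [Scheme.IdealSheafData.ideal_comap_of_isOpenImmersion] at h1
  have hsurj : Function.Surjective ((U i).1.ι.appIso ⊤).inv.hom :=
    (ConcreteCategory.bijective_of_isIso ((U i).1.ι.appIso ⊤).inv).2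
  have h2 := Ideal.comap_injective_of_surjective _ hsurj h1
  have h3 : (⟨(U i).1.ι ''ᵁ ⊤, (isAffineOpen_top _).image_of_isOpenImmersion _⟩ : X.affineOpens)
      = U i := Subtype.ext (by simp)
  have gen : ∀ W : X.affineOpens, W = U i → I.ideal W = J.ideal W →
      I.ideal (U i) = J.ideal (U i) := by
    rintro W rfl hW; exact hW
  exact gen _ h3 h2

open AlgebraicGeometry CategoryTheory in
theorem aux {X Y : Scheme.{u}} (f : X ⟶ Y) (K₁ K₂ : Y.IdealSheafData) :
    (K₁ * K₂).comap f = K₁.comap f * K₂.comap f := by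
  -- affine opens of `X` lying over affine opens of `Y`
  let ι := {p : X.affineOpens × Y.affineOpens // p.1.1 ≤ f ⁻¹ᵁ p.2.1}
  refine eq_of_comap_ι_eq (ι := ι) (fun p => p.1.1) ?_ fun p => ?_
  · rw [eq_top_iff]
    intro x _
    obtain ⟨V, hV, hxV, -⟩ := exists_isAffineOpen_mem_and_subset (x := f x) (U := ⊤) trivial
    obtain ⟨U, hU, hxU, hUV⟩ := exists_isAffineOpen_mem_and_subset (x := x) (U := f ⁻¹ᵁ V) hxV
    exact TopologicalSpace.Opens.mem_iSup.mpr ⟨⟨(⟨U, hU⟩, ⟨V, hV⟩), hUV⟩, hxU⟩
  · obtain ⟨⟨U, V⟩, e⟩ := p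
    haveI : IsAffine (U.1 : Scheme.{u}) := U.2
    haveI : IsAffine (V.1 : Scheme.{u}) := V.2
    have hfac : U.1.ι ≫ f = f.resLE V.1 U.1 e ≫ V.1.ι := (Scheme.Hom.resLE_comp_ι f e).symm
    have key : ∀ K : Y.IdealSheafData,
        (K.comap f).comap U.1.ι = (K.comap V.1.ι).comap (f.resLE V.1 U.1 e) := by
      intro K
      rw [← Scheme.IdealSheafData.comap_comp, ← Scheme.IdealSheafData.comap_comp, hfac]
    change ((K₁ * K₂).comap f).comap U.1.ι = (K₁.comap f * K₂.comap f).comap U.1.ι
    rw [key, comap_mul_of_isOpenImmersion, comap_mul_of_isAffine, comap_mul_of_isOpenImmersion,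
      key, key]

open AlgebraicGeometry in
/-- For a morphism of schemes f : X -> Y and quasi-coherent ideal sheaves K₁, K₂ on Y, the inverse image
ideal sheaf of K₁K₂ is the product of the inverse image ideal sheaves of K₁ and K₂. -/
theorem result {X Y : Scheme.{u}} (f : X ⟶ Y) (K₁ K₂ : Y.IdealSheafData) :
    (K₁ * K₂).comap f = K₁.comap f * K₂.comap f := by
  exact aux f K₁ K₂

end Groth.Agent.S3861
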