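import Groth.Statements.S3873
import Mathlib
import Groth.Agent.S3861

set_option autoImplicit false
universe u
open FCompl

namespace Groth.Agent.S3873

open AlgebraicGeometry CategoryTheory in
theorem idealSpec_ideal_top (R : Type u) [CommRing R] (𝔟 : Ideal R) :
    (FSch.idealSpec R 𝔟).ideal ⟨⊤, isAffineOpen_top _⟩ =
      𝔟.comap (Scheme.ΓSpecIso (CommRingCat.of R)).hom.hom := by
  unfold FSch.idealSpec
  rw [Scheme.Hom.ker_apply]
  have h1 := Scheme.ΓSpecIso_naturality (CommRingCat.ofHom (Ideal.Quotient.mk 𝔟))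
  have hinj : Function.Injective (Scheme.ΓSpecIso (CommRingCat.of (R ⧸ 𝔟))).hom.hom :=
    (ConcreteCategory.bijective_of_isIso (Scheme.ΓSpecIso (CommRingCat.of (R ⧸ 𝔟))).hom).1
  ext a
  rw [RingHom.mem_ker, Ideal.mem_comap]
  have h2 : (Scheme.ΓSpecIso (CommRingCat.of (R ⧸ 𝔟))).hom.hom
      ((Spec.map (CommRingCat.ofHom (Ideal.Quotient.mk 𝔟))).appTop.hom a) =
      Ideal.Quotient.mk 𝔟 ((Scheme.ΓSpecIso (CommRingCat.of R)).hom.hom a) :=
    congrArg (fun ψ => ψ.hom a) h1
  constructor
  · intro ha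
    have ha' : (Spec.map (CommRingCat.ofHom (Ideal.Quotient.mk 𝔟))).appTop.hom a = 0 := ha
    rw [ha', map_zero] at h2
    exact Ideal.Quotient.eq_zero_iff_mem.mp h2.symm
  · intro ha
    apply hinj
    refine Eq.trans (h2.trans (Ideal.Quotient.eq_zero_iff_mem.mpr ha)) (map_zero _).symm


open AlgebraicGeometry CategoryTheory in
theorem comap_iso_hom_eq_map_inv {R S : CommRingCat.{u}} (e : R ≅ S) (K : Ideal S) :
    K.comap e.hom.hom = K.map e.inv.hom := by
  refine le_antisymm (Ideal.comap_le_map_of_inverse _ _ K ?_) (Ideal.map_le_comap_of_inverse _ _ K ?_)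
  · intro a
    change (e.hom ≫ e.inv).hom a = a
    rw [Iso.hom_inv_id]; rfl
  · intro a
    change (e.inv ≫ e.hom).hom a = a
    rw [Iso.inv_hom_id]; rfl

open AlgebraicGeometry CategoryTheory in
theorem aux (A B : Type u) [CommRing A] [CommRing B] (φ : B →+* A) (𝔟 : Ideal B) :
    (FSch.idealSpec B 𝔟).comap (Spec.map (CommRingCat.ofHom φ)) = FSch.idealSpec A (𝔟.map φ) := by
  apply Scheme.IdealSheafData.ext_of_isAffine
  rw [Groth.Agent.S3861.ideal_comap_of_isAffine, idealSpec_ideal_top, idealSpec_ideal_top,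
    comap_iso_hom_eq_map_inv, comap_iso_hom_eq_map_inv, Ideal.map_map, Ideal.map_map]
  congr 1
  have := Scheme.ΓSpecIso_inv_naturality (CommRingCat.ofHom φ)
  exact (congrArg CommRingCat.Hom.hom this).symm

open AlgebraicGeometry in
/-- Its content on the affine schemes underlying the formal spectra: the inverse image ideal of b^Δ is
(bA)^Δ, read on Spec: For a ring homomorphism φ : B -> A and an ideal b of B, the inverse image
along Spec(φ) of the ideal sheaf of b on Spec B is the ideal sheaf on Spec A of the ideal generated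
by φ(b). -/
theorem result (A B : Type u) [CommRing A] [CommRing B] (φ : B →+* A) (𝔟 : Ideal B) :
    (FSch.idealSpec B 𝔟).comap (Spec.map (CommRingCat.ofHom φ)) = FSch.idealSpec A (𝔟.map φ) := by
  exact aux A B φ 𝔟

end Groth.Agent.S3873
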