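import Groth.Statements.S0791
import Mathlib
import Groth.Agent.Lead.ProperOver2

set_option autoImplicit false
universe u
open Coherent

namespace Groth.Agent.S0791

open Groth.Agent.Lead.ProperOver

open CategoryTheory AlgebraicGeometry in
/-- Let f : X → S be locally of finite type. A finite union of closed subsets of X that are proper over
S is again proper over S. -/
theorem result {X S : Scheme.{u}} (f : X ⟶ S) [LocallyOfFiniteType f]
    (ι : Type) [Finite ι] (Z : ι → Set X) (hZ : ∀ i, ClSub.IsProperOver f (Z i)) :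
    ClSub.IsProperOver f (Set.iUnion Z) := by
  have hcl : ∀ i, IsClosed (Z i) := fun i => (hZ i).1
  have hp : ∀ i, IsProper ((Scheme.IdealSheafData.vanishingIdeal ⟨Z i, hcl i⟩).subschemeι ≫ f) :=
    fun i => (hZ i).2
  have hclU : IsClosed (Set.iUnion Z) := isClosed_iUnion_of_finite hcl
  refine ⟨hclU, ?_⟩
  set I := Scheme.IdealSheafData.vanishingIdeal ⟨Set.iUnion Z, hclU⟩ with hI
  have hle : ∀ i, I ≤ Scheme.IdealSheafData.vanishingIdeal ⟨Z i, hcl i⟩ := by
    intro i
    apply Scheme.IdealSheafData.vanishingIdeal_antimono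
    intro x hx
    exact Set.mem_iUnion.mpr ⟨i, hx⟩
  have hr : ∀ i, Set.range (Scheme.IdealSheafData.vanishingIdeal ⟨Z i, hcl i⟩).subschemeι = Z i := by
    intro i
    rw [Scheme.IdealSheafData.range_subschemeι, Scheme.IdealSheafData.coe_support_vanishingIdeal]
    rfl
  have hrI : Set.range I.subschemeι = Set.iUnion Z := by
    rw [Scheme.IdealSheafData.range_subschemeι, Scheme.IdealSheafData.coe_support_vanishingIdeal]
    rfl
  apply isProper_of_jointly_surjective
    (fun i => (Scheme.IdealSheafData.vanishingIdeal ⟨Z i, hcl i⟩).subscheme)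
    (fun i => Scheme.IdealSheafData.inclusion (hle i)) (I.subschemeι ≫ f)
  · intro t
    have ht : I.subschemeι t ∈ Set.iUnion Z := by rw [← hrI]; exact ⟨t, rfl⟩
    obtain ⟨i, hi⟩ := Set.mem_iUnion.mp ht
    rw [← hr i] at hi
    obtain ⟨z, hz⟩ := hi
    refine ⟨i, z, ?_⟩
    apply I.subschemeι.isClosedEmbedding.injective
    rw [← Scheme.Hom.comp_apply, Scheme.IdealSheafData.inclusion_subschemeι]
    exact hz
  · intro i
    have : IsClosedImmersion (Scheme.IdealSheafData.inclusion (hle i) ≫ I.subschemeι) := by
      rw [Scheme.IdealSheafData.inclusion_subschemeι]; infer_instance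
    have : IsClosedImmersion (Scheme.IdealSheafData.inclusion (hle i)) :=
      IsClosedImmersion.of_comp _ I.subschemeι
    infer_instance
  · intro i
    rw [← Category.assoc, Scheme.IdealSheafData.inclusion_subschemeι]
    exact hp i

end Groth.Agent.S0791
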