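import Groth.Statements.S0393
import Groth.Agent.Helper2.InjModMax
open TensorProduct Function LinearMap IsLocalRing Groth.Agent.Helper2.InjModMax Groth.Agent.Helper2.TorReg Groth.Agent.Helper2.ContentIdeal
-- import your own Groth.Agent.* helpers here

set_option autoImplicit false
universe u
open FlatMor

namespace Groth.Agent.S0393

open TensorProduct in
/-- For a local homomorphism of local rings R → S with S Noetherian, an R-linear map u from a finite
S-module N to a flat R-module M whose reduction modulo the maximal ideal of R is injective is itself
injective, and its cokernel is flat over R. -/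
theorem result {R S M N : Type u} [CommRing R] [CommRing S] [IsLocalRing R] [IsLocalRing S] [IsNoetherianRing S] [Algebra R S] [IsLocalHom (algebraMap R S)]
    [AddCommGroup M] [Module R M] [Module.Flat R M]
    [AddCommGroup N] [Module R N] [Module S N] [IsScalarTower R S N] [Module.Finite S N]
    (u : N →ₗ[R] M) (h : Function.Injective (LinearMap.lTensor (IsLocalRing.ResidueField R) u)) :
    Function.Injective u ∧ Module.Flat R (M ⧸ LinearMap.range u) := by
  have h' : Injective (lTensor (R ⧸ maximalIdeal R) u) := h
  have hinj : Injective u := by
    rw [injective_iff_map_eq_zero]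
    intro x hx
    have := mem_smul_top_of_map_mem S u h' ⊥ x (by rw [hx]; exact zero_mem _)
    simpa using this
  refine ⟨hinj, ?_⟩
  rw [Module.Flat.iff_rTensor_injective']
  intro I
  rw [← muI_injective_iff, injective_iff_map_eq_zero]
  intro w hw
  set π := (LinearMap.range u).mkQ with hπ
  obtain ⟨w', rfl⟩ := LinearMap.lTensor_surjective I (Submodule.mkQ_surjective (LinearMap.range u)) w
  rw [muI_natural] at hw
  have hmem : muI I w' ∈ LinearMap.range u := by
    rwa [Submodule.mkQ_apply, Submodule.Quotient.mk_eq_zero] at hw
  obtain ⟨x, hx⟩ := hmem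
  have hxI : x ∈ (I • ⊤ : Submodule R N) :=
    mem_smul_top_of_map_mem S u h' I x (by rw [hx]; exact muI_mem I w')
  obtain ⟨x', hx'⟩ := exists_muI_eq I x hxI
  have hMinj : Injective (muI (M := M) I) := by
    rw [muI_injective_iff]
    exact (Module.Flat.iff_rTensor_injective'.1 inferInstance) I
  have hw' : w' = lTensor I u x' := by
    apply hMinj
    rw [muI_natural, hx', hx]
  rw [hw', ← LinearMap.comp_apply, ← LinearMap.lTensor_comp]
  have : (LinearMap.range u).mkQ ∘ₗ u = 0 := by
    ext y
    simp
  rw [this, LinearMap.lTensor_zero, LinearMap.zero_apply]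

end Groth.Agent.S0393
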