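import Groth.Statements.S1340
import Mathlib

set_option autoImplicit false
universe u
open FlatMor

namespace Groth.Agent.S1340

open AlgebraicGeometry CategoryTheory Limits in
theorem isIntegral_app_of_universallyClosed {X S : Scheme.{u}} (f : X ⟶ S) [UniversallyClosed f]
    (V : S.Opens) (hV : IsAffineOpen V) : (f.app V).hom.IsIntegral := by
  have : IsAffine V.toScheme := hV
  have h := isIntegral_appTop_of_universallyClosed (f ∣_ V)
  rw [morphismRestrict_appTop] at h
  have e : V.ι ''ᵁ ⊤ = V := by simp
  have e' : f ⁻¹ᵁ V = (f ⁻¹ᵁ V).ι ''ᵁ (f ∣_ V) ⁻¹ᵁ ⊤ := by simp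
  have h2 : f.app V = S.presheaf.map (eqToHom e).op ≫ (f.app (V.ι ''ᵁ ⊤) ≫
        X.presheaf.map (eqToHom (image_morphismRestrict_preimage f V ⊤)).op) ≫
        X.presheaf.map (eqToHom e').op := by
    rw [Scheme.Hom.app_eq_appLE, Scheme.Hom.app_eq_appLE]
    simp only [Scheme.Hom.map_appLE, Scheme.Hom.appLE_map]
  rw [h2, CommRingCat.hom_comp, CommRingCat.hom_comp]
  refine RingHom.IsIntegral.trans _ _ ?_ (RingHom.IsIntegral.trans _ _ h ?_)
  · exact RingHom.isIntegral_of_surjective _
      ((ConcreteCategory.bijective_of_isIso (S.presheaf.map (eqToHom e).op)).surjective)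
  · exact RingHom.isIntegral_of_surjective _
      ((ConcreteCategory.bijective_of_isIso (X.presheaf.map (eqToHom e').op)).surjective)

open AlgebraicGeometry CategoryTheory Limits in
theorem isIso_app_basicOpen {X X' : Scheme.{u}} (ν : X ⟶ X') (W : X'.Opens) (hW : IsAffineOpen W)
    (hc : IsCompact (ν ⁻¹ᵁ W : Set X)) (hqs : IsQuasiSeparated (ν ⁻¹ᵁ W : Set X))
    [hiso : IsIso (ν.app W)] (s : Γ(X', W)) : IsIso (ν.app (X'.basicOpen s)) := by
  have e : ν ⁻¹ᵁ X'.basicOpen s = X.basicOpen (ν.app W s) := Scheme.preimage_basicOpen ν s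
  have hloc1 : IsLocalization.Away s Γ(X', X'.basicOpen s) := hW.isLocalization_basicOpen s
  have hloc2 : IsLocalization.Away (ν.app W s) Γ(X, X.basicOpen (ν.app W s)) :=
    isLocalization_basicOpen_of_qcqs hc hqs _
  let φ : Γ(X', W) ≃+* Γ(X, ν ⁻¹ᵁ W) := (asIso (ν.app W)).commRingCatIsoToRingEquiv
  have H : (Submonoid.powers s).map φ.toMonoidHom = Submonoid.powers (ν.app W s) := by
    rw [Submonoid.map_powers]; rfl
  let ψ := IsLocalization.ringEquivOfRingEquiv (M := Submonoid.powers s)
    (T := Submonoid.powers (ν.app W s)) Γ(X', X'.basicOpen s) Γ(X, X.basicOpen (ν.app W s)) φ H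
  have key : (ν.app (X'.basicOpen s) ≫ X.presheaf.map (eqToHom e.symm).op).hom = ψ.toRingHom := by
    refine IsLocalization.ringHom_ext (Submonoid.powers s) ?_
    ext x
    simp only [RingHom.coe_comp, Function.comp_apply, RingEquiv.toRingHom_eq_coe, RingHom.coe_coe]
    rw [IsLocalization.ringEquivOfRingEquiv_eq]
    change (X'.presheaf.map (homOfLE (X'.basicOpen_le s)).op ≫ ν.app (X'.basicOpen s) ≫
      X.presheaf.map (eqToHom e.symm).op) x =
        (ν.app W ≫ X.presheaf.map (homOfLE (X.basicOpen_le _)).op) x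
    have : X'.presheaf.map (homOfLE (X'.basicOpen_le s)).op ≫ ν.app (X'.basicOpen s) ≫
      X.presheaf.map (eqToHom e.symm).op =
        (ν.app W ≫ X.presheaf.map (homOfLE (X.basicOpen_le _)).op) := by
      have aux : ∀ (D : X.Opens) (e : ν ⁻¹ᵁ X'.basicOpen s = D) (le : D ≤ ν ⁻¹ᵁ W),
          X'.presheaf.map (homOfLE (X'.basicOpen_le s)).op ≫ ν.app (X'.basicOpen s) ≫
            X.presheaf.map (eqToHom e.symm).op = ν.app W ≫ X.presheaf.map (homOfLE le).op := by
        intro D e le
        subst e
        rw [Scheme.Hom.app_eq_appLE, Scheme.Hom.app_eq_appLE]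
        simp only [Scheme.Hom.map_appLE, Scheme.Hom.appLE_map]
      exact aux _ e _
    rw [this]
  have : IsIso (ν.app (X'.basicOpen s) ≫ X.presheaf.map (eqToHom e.symm).op) := by
    rw [ConcreteCategory.isIso_iff_bijective]
    change Function.Bijective (ν.app (X'.basicOpen s) ≫ X.presheaf.map (eqToHom e.symm).op).hom
    rw [key]
    exact ψ.bijective
  exact IsIso.of_isIso_comp_right _ (X.presheaf.map (eqToHom e.symm).op)

open AlgebraicGeometry CategoryTheory Limits in
/-- Stein factorization, universally closed case: let f : X ⟶ S be universally closed and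
quasi-separated, and let X ⟶ X' ⟶ S be its factorization through the normalization X' of S in X.
Then the canonical morphism X ⟶ X' identifies the structure sheaf of X' with the pushforward of the
structure sheaf of X: for every open U of X' the induced map from O_{X'}(U) to the sections of O_X
over the inverse image of U is an isomorphism. (That X ⟶ X' is surjective and universally closed and
that X' ⟶ S is integral are separate facts not restated here.) -/
theorem result {X S : Scheme.{u}} (f : X ⟶ S) [UniversallyClosed f] [QuasiSeparated f]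
    (U : f.normalization.Opens) : IsIso (f.toNormalization.app U) := by
  -- Step 1: iso over preimages of affine opens
  have step1 : ∀ V : S.affineOpens,
      IsIso (f.toNormalization.app (f.fromNormalization ⁻¹ᵁ V.1)) := by
    intro V
    let := (f.app V.1).hom.toAlgebra
    have h := f.toNormalization_app_preimage V
    have htop : integralClosure Γ(S, V.1) Γ(X, f ⁻¹ᵁ V.1) = ⊤ := by
      rw [integralClosure_eq_top_iff, ← algebraMap_isIntegral_iff, RingHom.algebraMap_toAlgebra]
      exact isIntegral_app_of_universallyClosed f V.1 V.2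
    have : IsIso (CommRingCat.ofHom
        (integralClosure Γ(S, V.1) Γ(X, f ⁻¹ᵁ V.1)).val.toRingHom) := by
      rw [htop]
      exact inferInstanceAs (IsIso (Subalgebra.topEquiv
        (R := Γ(S, V.1)) (A := Γ(X, f ⁻¹ᵁ V.1))).toCommRingCatIso.hom)
    rw [h]
    refine @IsIso.comp_isIso _ _ _ _ _ _ _ inferInstance
      (@IsIso.comp_isIso _ _ _ _ _ _ _ ?_ inferInstance)
    exact this
  -- Step 2: iso over basic opens
  have step2 : ∀ (V : S.affineOpens) (s : Γ(f.normalization, f.fromNormalization ⁻¹ᵁ V.1)),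
      IsIso (f.toNormalization.app (f.normalization.basicOpen s)) := by
    intro V s
    have := step1 V
    have hW : IsAffineOpen (f.fromNormalization ⁻¹ᵁ V.1) := V.2.preimage _
    have e : f.toNormalization ⁻¹ᵁ f.fromNormalization ⁻¹ᵁ V.1 = f ⁻¹ᵁ V.1 := by
      rw [← Scheme.Hom.comp_preimage, Scheme.Hom.toNormalization_fromNormalization]
    refine isIso_app_basicOpen f.toNormalization _ hW ?_ ?_ s
    · rw [e]; exact f.isCompact_preimage V.2.isCompact
    · rw [e]; exact f.isQuasiSeparated_preimage V.2.isQuasiSeparated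
  -- Step 3: basis
  let B : (Σ V : S.affineOpens, Γ(f.normalization, f.fromNormalization ⁻¹ᵁ V.1)) →
      f.normalization.Opens := fun p => f.normalization.basicOpen p.2
  have hB : TopologicalSpace.Opens.IsBasis (Set.range B) := by
    rw [TopologicalSpace.Opens.isBasis_iff_nbhd]
    intro U x hx
    obtain ⟨V, hV, hxV⟩ : ∃ V : S.Opens, IsAffineOpen V ∧ f.fromNormalization x ∈ V := by
      obtain ⟨_, ⟨V, hV, rfl⟩, hxV, -⟩ :=
        (S.isBasis_affineOpens).exists_subset_of_mem_open (Set.mem_univ (f.fromNormalization x))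
          isOpen_univ
      exact ⟨V, hV, hxV⟩
    have hW : IsAffineOpen (f.fromNormalization ⁻¹ᵁ V) := hV.preimage _
    obtain ⟨s, hs1, hs2⟩ := hW.exists_basicOpen_le (V := U) ⟨x, hx⟩ hxV
    exact ⟨_, ⟨⟨⟨V, hV⟩, s⟩, rfl⟩, hs2, hs1⟩
  let φ : f.normalization.sheaf ⟶
      (TopCat.Sheaf.pushforward CommRingCat f.toNormalization.base).obj X.sheaf :=
    ⟨f.toNormalization.c⟩
  have hφ : IsIso φ := TopCat.Sheaf.isIso_iff_isIso_basis hB (fun p => step2 p.1 p.2)
  have h2 : IsIso φ.hom := by
    have : IsIso ((sheafToPresheaf (Opens.grothendieckTopology f.normalization) CommRingCat).map φ) :=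
      Functor.map_isIso _ φ
    exact this
  exact NatIso.isIso_app_of_isIso φ.hom (Opposite.op U)

end Groth.Agent.S1340
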