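import Groth.Statements.S2120
import Mathlib

set_option autoImplicit false
universe u
open CategoryTheory AlgebraicGeometry
open Mor

namespace Groth.Agent.S2120

open CategoryTheory.Limits in
theorem isSeparated_of_comp_of_surjective {X Y S : Scheme.{u}} (f : X ⟶ Y) (g : Y ⟶ S)
    [Surjective f] [UniversallyClosed f] [IsSeparated (f ≫ g)] : IsSeparated g := by
  constructor
  have hF : UniversallyClosed (pullback.map (f ≫ g) (f ≫ g) g g f f (𝟙 S)
      ((Category.comp_id _).trans rfl) ((Category.comp_id _).trans rfl)) :=
    MorphismProperty.pullbackMap (P := @UniversallyClosed) ‹_› ‹_› rfl rfl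
  set F := pullback.map (f ≫ g) (f ≫ g) g g f f (𝟙 S)
      ((Category.comp_id _).trans rfl) ((Category.comp_id _).trans rfl) with hFdef
  have hcomm : pullback.diagonal (f ≫ g) ≫ F = f ≫ pullback.diagonal g := by
    apply pullback.hom_ext
    · simp only [F, Category.assoc, pullback.lift_fst, pullback.map]
      rw [pullback.diagonal_fst_assoc, pullback.diagonal_fst, Category.comp_id]
    · simp only [F, Category.assoc, pullback.lift_snd, pullback.map]
      rw [pullback.diagonal_snd_assoc, pullback.diagonal_snd, Category.comp_id]
  have hrange : Set.range (pullback.diagonal g) =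
      F '' Set.range (pullback.diagonal (f ≫ g)) := by
    have h1 : Set.range (pullback.diagonal g) = Set.range (f ≫ pullback.diagonal g) := by
      rw [Scheme.Hom.comp_base, TopCat.coe_comp, Set.range_comp, Set.range_eq_univ.mpr f.surjective,
        Set.image_univ]
    rw [h1, ← hcomm, Scheme.Hom.comp_base, TopCat.coe_comp, Set.range_comp]
  apply IsClosedImmersion.of_isPreimmersion
  rw [hrange]
  exact F.isClosedMap _ (pullback.diagonal (f ≫ g)).isClosedEmbedding.isClosed_range

/-- Let `f : X → Y` be surjective and universally closed. If `X` is quasi-separated then so is `Y`; if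
`X` is separated then so is `Y`. -/
theorem result {X Y : Scheme.{u}} (f : X ⟶ Y) [Surjective f] [UniversallyClosed f] :
    (QuasiSeparatedSpace X → QuasiSeparatedSpace Y) ∧ (X.IsSeparated → Y.IsSeparated) := by
  constructor
  · intro hX
    constructor
    intro U V hU hUc hV hVc
    have h1 : IsCompact (f ⁻¹' U) := QuasiCompact.isCompact_preimage (f := f) U hU hUc
    have h2 : IsCompact (f ⁻¹' V) := QuasiCompact.isCompact_preimage (f := f) V hV hVc
    have h3 : IsCompact (f ⁻¹' U ∩ f ⁻¹' V) :=
      QuasiSeparatedSpace.inter_isCompact _ _ (hU.preimage f.continuous) h1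
        (hV.preimage f.continuous) h2
    have h4 := h3.image f.continuous
    rwa [← Set.preimage_inter, Set.image_preimage_eq _ f.surjective] at h4
  · intro hX
    have : IsSeparated (f ≫ Limits.terminal.from Y) := by
      have : f ≫ Limits.terminal.from Y = Limits.terminal.from X := Limits.terminal.hom_ext _ _
      rw [this]; exact hX.isSeparated_terminal_from
    exact ⟨isSeparated_of_comp_of_surjective f (Limits.terminal.from Y)⟩

end Groth.Agent.S2120
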