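import Groth.Statements.S7387
import Groth.Agent.Lead.LocalAllied

set_option autoImplicit false
universe u
open CategoryTheory AlgebraicGeometry
open Mor

namespace Groth.Agent.S7387

open AlgebraicGeometry CategoryTheory CategoryTheory.Limits in
theorem isSeparated_of_common_separated_open {X S : Scheme.{u}} (f : X ⟶ S)
    (h : ∀ x y : X, f x = f y → ∃ U : X.Opens, (U : Scheme.{u}).IsSeparated ∧ x ∈ U ∧ y ∈ U) :
    IsSeparated f := by
  apply Groth.Agent.Lead.LocalAllied.isSeparated_of_fst_eq_snd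
  intro z hz
  set p₁ := pullback.fst f f
  set p₂ := pullback.snd f f
  set Δ := pullback.diagonal f
  have hfib : f (p₁ z) = f (p₂ z) := by
    rw [← Scheme.Hom.comp_apply, ← Scheme.Hom.comp_apply, pullback.condition]
  obtain ⟨U, hU, hxU, hyU⟩ := h _ _ hfib
  haveI : (U : Scheme.{u}).IsSeparated := hU
  let W : (pullback f f).Opens := p₁ ⁻¹ᵁ U ⊓ p₂ ⁻¹ᵁ U
  have hzW : z ∈ W := ⟨hxU, hyU⟩
  -- the two projections W → U
  have hr₁ : Set.range (W.ι ≫ p₁) ⊆ Set.range U.ι := by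
    rintro _ ⟨w, rfl⟩
    rw [Scheme.Opens.range_ι]
    exact w.2.1
  have hr₂ : Set.range (W.ι ≫ p₂) ⊆ Set.range U.ι := by
    rintro _ ⟨w, rfl⟩
    rw [Scheme.Opens.range_ι]
    exact w.2.2
  let a₁ : (W : Scheme.{u}) ⟶ U := IsOpenImmersion.lift U.ι (W.ι ≫ p₁) hr₁
  let a₂ : (W : Scheme.{u}) ⟶ U := IsOpenImmersion.lift U.ι (W.ι ≫ p₂) hr₂
  have ha₁ : a₁ ≫ U.ι = W.ι ≫ p₁ := IsOpenImmersion.lift_fac _ _ _
  have ha₂ : a₂ ≫ U.ι = W.ι ≫ p₂ := IsOpenImmersion.lift_fac _ _ _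
  -- the restricted diagonal U → W
  have hrδ : Set.range (U.ι ≫ Δ) ⊆ Set.range W.ι := by
    rintro _ ⟨u, rfl⟩
    rw [Scheme.Opens.range_ι]
    refine ⟨?_, ?_⟩
    · show p₁ ((U.ι ≫ Δ) u) ∈ U
      rw [← Scheme.Hom.comp_apply, Category.assoc, pullback.diagonal_fst, Category.comp_id]
      exact u.2
    · show p₂ ((U.ι ≫ Δ) u) ∈ U
      rw [← Scheme.Hom.comp_apply, Category.assoc, pullback.diagonal_snd, Category.comp_id]
      exact u.2
  let δ : (U : Scheme.{u}) ⟶ W := IsOpenImmersion.lift W.ι (U.ι ≫ Δ) hrδ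
  have hδ : δ ≫ W.ι = U.ι ≫ Δ := IsOpenImmersion.lift_fac _ _ _
  have hδ₁ : δ ≫ a₁ = 𝟙 _ := by
    rw [← cancel_mono U.ι, Category.assoc, ha₁, ← Category.assoc, hδ, Category.assoc,
      pullback.diagonal_fst, Category.comp_id, Category.id_comp]
  have hδ₂ : δ ≫ a₂ = 𝟙 _ := by
    rw [← cancel_mono U.ι, Category.assoc, ha₂, ← Category.assoc, hδ, Category.assoc,
      pullback.diagonal_snd, Category.comp_id, Category.id_comp]
  -- the equalizer
  let ιE := equalizer.ι a₁ a₂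
  haveI : IsClosedImmersion ιE := inferInstance
  have hclosed : IsClosed (Set.range ιE) := ιE.isClosedEmbedding.isClosed_range
  let lE : (U : Scheme.{u}) ⟶ equalizer a₁ a₂ := equalizer.lift δ (by rw [hδ₁, hδ₂])
  have hlE : lE ≫ ιE = δ := equalizer.lift_ι _ _
  -- z' ∈ W over z
  let z' : (W : Scheme.{u}) := ⟨z, hzW⟩
  have hz' : W.ι z' = z := rfl
  have hmem : z' ∈ Set.range ιE := by
    rw [← hclosed.closure_eq, mem_closure_iff]
    intro N hN hzN
    have hopen : IsOpen (W.ι '' N) := W.ι.isOpenEmbedding.isOpenMap _ hN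
    obtain ⟨_, hmemN, ⟨x', rfl⟩⟩ := mem_closure_iff.mp hz _ hopen ⟨z', hzN, hz'⟩
    obtain ⟨n', hn'N, hn'⟩ := hmemN
    have hx'U : x' ∈ U := by
      have : W.ι n' ∈ W := by
        have := Set.mem_range_self (f := W.ι) n'
        rwa [Scheme.Opens.range_ι] at this
      rw [hn'] at this
      have h1 : p₁ (Δ x') ∈ U := this.1
      rwa [← Scheme.Hom.comp_apply, pullback.diagonal_fst] at h1
    let u' : (U : Scheme.{u}) := ⟨x', hx'U⟩
    have hn'eq : n' = δ u' := by
      apply W.ι.injective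
      rw [hn', ← Scheme.Hom.comp_apply, hδ, Scheme.Hom.comp_apply]
      rfl
    refine ⟨n', hn'N, lE u', ?_⟩
    rw [← Scheme.Hom.comp_apply, hlE, hn'eq]
  obtain ⟨e, he⟩ := hmem
  have hcond : a₁ z' = a₂ z' := by
    rw [← he, ← Scheme.Hom.comp_apply, ← Scheme.Hom.comp_apply, equalizer.condition]
  have h1 : p₁ z = U.ι (a₁ z') := by
    rw [← Scheme.Hom.comp_apply, ha₁, Scheme.Hom.comp_apply, hz']
  have h2 : p₂ z = U.ι (a₂ z') := by
    rw [← Scheme.Hom.comp_apply, ha₂, Scheme.Hom.comp_apply, hz']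
  rw [h1, h2, hcond]


open CategoryTheory.Limits in
theorem isSeparated_of_mono' {A B : Scheme.{u}} (j : A ⟶ B) [Mono j] [B.IsSeparated] :
    A.IsSeparated := by
  constructor
  rw [show terminal.from A = j ≫ terminal.from B from Subsingleton.elim _ _]
  infer_instance

theorem opens_isSeparated (X : Scheme.{u}) (V : X.Opens)
    (h : ∀ x ∈ V, ∀ y ∈ V, ∃ W : X.Opens, W ≤ V ∧ (W : Scheme.{u}).IsSeparated ∧ x ∈ W ∧ y ∈ W) :
    (V : Scheme.{u}).IsSeparated := by
  constructor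
  apply isSeparated_of_common_separated_open
  intro x y _
  obtain ⟨W, hWV, hW, hx, hy⟩ := h x.1 x.2 y.1 y.2
  refine ⟨V.ι ⁻¹ᵁ W, ?_, hx, hy⟩
  exact isSeparated_of_mono' (V.ι.resLE W (V.ι ⁻¹ᵁ W) le_rfl)

theorem aux (X : Scheme.{u}) [CompactSpace X] :
    ∃ V : X.Opens, Dense (V : Set X) ∧ (V : Scheme.{u}).IsSeparated := by
  have hex : ∀ x : X, ∃ W : X.Opens, IsAffineOpen W ∧ x ∈ W := fun x => by
    obtain ⟨W, hW, hx, -⟩ := exists_isAffineOpen_mem_and_subset (x := x) (U := ⊤) trivial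
    exact ⟨W, hW, hx⟩
  choose U hU hxU using hex
  obtain ⟨t, ht⟩ := isCompact_univ.elim_finite_subcover (fun x => (U x : Set X))
    (fun x => (U x).isOpen) (fun x _ => Set.mem_iUnion.mpr ⟨x, hxU x⟩)
  have key : ∀ t : Finset X, ∃ V : X.Opens, (⋃ x ∈ t, (U x : Set X)) ⊆ closure (V : Set X) ∧
      ∀ x ∈ V, ∀ y ∈ V, ∃ W : X.Opens, W ≤ V ∧ (W : Scheme.{u}).IsSeparated ∧ x ∈ W ∧ y ∈ W := by
    intro t
    classical
    induction t using Finset.induction_on with
    | empty => exact ⟨⊥, by simp, fun x hx => absurd hx (by simp)⟩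
    | insert a t ha ih =>
      obtain ⟨V', hV'1, hV'2⟩ := ih
      let C : X.Opens := ⟨(closure (V' : Set X))ᶜ, isClosed_closure.isOpen_compl⟩
      let B : X.Opens := U a ⊓ C
      have hdisj : ∀ x, x ∈ V' → x ∈ B → False := fun x hx hxB => hxB.2 (subset_closure hx)
      have hBsep : (B : Scheme.{u}).IsSeparated := by
        haveI : IsAffine (U a : Scheme.{u}) := hU a
        exact isSeparated_of_mono' (X.homOfLE (inf_le_left : B ≤ U a))
      have mixed : ∀ x ∈ V', ∀ y ∈ B, ∃ W : X.Opens, W ≤ V' ⊔ B ∧ (W : Scheme.{u}).IsSeparated ∧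
          x ∈ W ∧ y ∈ W := by
        intro x hx y hy
        obtain ⟨Wx, hWx, hxWx, hWxV⟩ := exists_isAffineOpen_mem_and_subset hx
        obtain ⟨Wy, hWy, hyWy, hWyB⟩ := exists_isAffineOpen_mem_and_subset hy
        have hd : Disjoint Wx Wy := by
          rw [← TopologicalSpace.Opens.coe_disjoint, Set.disjoint_left]
          intro z hz1 hz2
          exact hdisj z (hWxV hz1) (hWyB hz2)
        have haff : IsAffineOpen (Wx ⊔ Wy) := hWx.sup_of_disjoint hWy hd
        haveI : IsAffine ((Wx ⊔ Wy : X.Opens) : Scheme.{u}) := haff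
        refine ⟨Wx ⊔ Wy, sup_le_sup hWxV hWyB, inferInstance, Or.inl hxWx, Or.inr hyWy⟩
      refine ⟨V' ⊔ B, ?_, ?_⟩
      · intro x hx
        simp only [Finset.mem_insert, Set.iUnion_iUnion_eq_or_left, Set.mem_union] at hx
        by_cases hxc : x ∈ closure (V' : Set X)
        · exact closure_mono (show (V' : Set X) ⊆ ((V' ⊔ B : X.Opens) : Set X) from
            fun z hz => Or.inl hz) hxc
        · rcases hx with hx | hx
          · exact subset_closure (Or.inr ⟨hx, hxc⟩)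
          · exact absurd (hV'1 hx) hxc
      · intro x hx y hy
        rcases hx with hx | hx <;> rcases hy with hy | hy
        · obtain ⟨W, hWV, hW, h1, h2⟩ := hV'2 x hx y hy
          exact ⟨W, hWV.trans le_sup_left, hW, h1, h2⟩
        · exact mixed x hx y hy
        · obtain ⟨W, hWV, hW, h1, h2⟩ := mixed y hy x hx
          exact ⟨W, hWV, hW, h2, h1⟩
        · exact ⟨B, le_sup_right, hBsep, hx, hy⟩
  obtain ⟨V, hV1, hV2⟩ := key t
  refine ⟨V, ?_, opens_isSeparated X V hV2⟩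
  rw [dense_iff_closure_eq]
  exact Set.eq_univ_of_univ_subset (ht.trans hV1)

/-- A quasi-compact scheme has a dense open subscheme which is separated. -/
theorem result (X : Scheme.{u}) [CompactSpace X] :
    ∃ V : X.Opens, Dense (V : Set X) ∧ (V : Scheme.{u}).IsSeparated := by
  exact aux X

end Groth.Agent.S7387
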