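import Groth.Statements.S4457
import Groth.Agent.Helper1.LerayAff
import Groth.Agent.Helper1.RpCmpNat
import Groth.Agent.Helper1.SerreE
import Groth.Agent.Helper4.SchAdj
import Groth.Agent.S0030

set_option autoImplicit false
universe u
open Coherent

namespace Groth.Agent.S4457

open AlgebraicGeometry CategoryTheory in
/-- Let f : X → Y be a separated quasi-compact morphism, g : Y → Z an affine morphism and F a
quasi-coherent O_X-module. Then for every p ≥ 0, R^p (g ∘ f)_* F is isomorphic to g_*(R^p f_* F)
(higher direct images and direct image of the underlying abelian sheaves). The source shows that the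
canonical comparison map is an isomorphism; only the existence of an isomorphism is asserted here. -/
theorem result {X Y Z : Scheme.{u}} (f : X ⟶ Y) (g : Y ⟶ Z)
    [IsSeparated f] [QuasiCompact f] [IsAffineHom g] (F : X.Modules) [Coh.IsQCoh F] (p : ℕ) :
    Nonempty ((Coh.RpushAb (f ≫ g) p).obj (Coh.toAb F) ≅
      (Coh.pushAb g).obj ((Coh.RpushAb f p).obj (Coh.toAb F))) := by
  haveI := Groth.Agent.Helper4.SchAdj.isGrothendieckAbelian_modules X
  haveI : HasInjectiveResolutions X.Modules := inferInstance
  refine Groth.Agent.Helper1.LerayAff.nonempty_iso_Rpush_comp_of_acyclic f.base g.base p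
    (Coh.toAb F) ?_
  intro q k
  let e := (Groth.Agent.Helper1.RpCmpNat.iso f q).app F
  haveI : ((Coh.Rpush f q).obj F).IsQuasicoherent := Groth.Agent.S0030.result f F q
  have h1 := Groth.Agent.Helper1.Serre.isZero_RpushAb_of_isAffineHom g ((Coh.Rpush f q).obj F) k
  exact h1.of_iso ((Coh.RpushAb g (k + 1)).mapIso e.symm)

end Groth.Agent.S4457
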