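import Groth.Statements.S9218
import Groth.Agent.Lead.LimHom
import Mathlib

set_option autoImplicit false
universe u
open CategoryTheory CategoryTheory.Limits AlgebraicGeometry
open Lim

namespace Groth.Agent.S9218

open CategoryTheory Limits AlgebraicGeometry Groth.Agent.Lead.LimPullback Groth.Agent.Lead.LimHom in
set_option backward.isDefEq.respectTransparency false in
theorem aux {I : Type u} [SmallCategory I] [IsCofiltered I]
    (D : I ⥤ Scheme.{u}) (c : Limits.Cone D) (hc : Limits.IsLimit c)
    [∀ (i j : I) (f : i ⟶ j), IsAffineHom (D.map f)] (i : I)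
    {Xi Yi : Scheme.{u}} (xi : Xi ⟶ D.obj i) (yi : Yi ⟶ D.obj i)
    [CompactSpace Xi] [QuasiSeparatedSpace Xi] [LocallyOfFinitePresentation xi]
    [CompactSpace Yi] [QuasiSeparatedSpace Yi] [LocallyOfFinitePresentation yi]
    {X Y : Scheme.{u}} (qX : X ⟶ Xi) (pX : X ⟶ c.pt) (hX : IsPullback qX pX xi (c.π.app i))
    (qY : Y ⟶ Yi) (pY : Y ⟶ c.pt) (hY : IsPullback qY pY yi (c.π.app i))
    (f : X ⟶ Y) (hf : f ≫ pY = pX) :
    ∃ (j : I) (φ : j ⟶ i) (fj : pullback xi (D.map φ) ⟶ pullback yi (D.map φ))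
      (sX : X ⟶ pullback xi (D.map φ)) (sY : Y ⟶ pullback yi (D.map φ)),
      fj ≫ pullback.snd yi (D.map φ) = pullback.snd xi (D.map φ) ∧
      sX ≫ pullback.fst xi (D.map φ) = qX ∧ sX ≫ pullback.snd xi (D.map φ) = pX ≫ c.π.app j ∧
      sY ≫ pullback.fst yi (D.map φ) = qY ∧ sY ≫ pullback.snd yi (D.map φ) = pY ≫ c.π.app j ∧
      sX ≫ fj = f ≫ sY := by
  have hA : ∀ {i j : I} (f : i ⟶ j), IsAffineHom (D.map f) := fun f ↦ inferInstance
  let e := hX.flip.isoPullback
  have hsnd : e.hom ≫ pullback.snd (c.π.app i) xi = qX := hX.flip.isoPullback_hom_snd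
  have hfst : e.hom ≫ pullback.fst (c.π.app i) xi = pX := hX.flip.isoPullback_hom_fst
  obtain ⟨j, g, h1, h2⟩ := exists_hom_descend D c hc i xi yi (e.inv ≫ f ≫ qY) (by
    rw [← cancel_epi e.hom]
    simp only [Category.assoc, Iso.hom_inv_id_assoc]
    rw [hY.w, reassoc_of% hf, reassoc_of% hsnd, hX.w])
  have hw : c.π.app j.left ≫ D.map j.hom = c.π.app i := c.w j.hom
  refine ⟨j.left, j.hom,
    pullback.lift ((pullbackSymmetry _ _).hom ≫ g) (pullback.snd xi (D.map j.hom)) ?_,
    pullback.lift qX (pX ≫ c.π.app j.left) (by rw [Category.assoc, hw, hX.w]),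
    pullback.lift qY (pY ≫ c.π.app j.left) (by rw [Category.assoc, hw, hY.w]), ?_, ?_, ?_, ?_, ?_,
    ?_⟩
  · rw [Category.assoc, h2, pullbackSymmetry_hom_comp_snd_assoc, pullback.condition]
  · simp
  · simp
  · simp
  · simp
  · simp
  · apply pullback.hom_ext
    · simp only [Category.assoc, pullback.lift_fst]
      have e3 : pullback.lift qX (pX ≫ c.π.app j.left) (by rw [Category.assoc, hw, hX.w]) ≫
          (pullbackSymmetry xi (D.map j.hom)).hom = e.hom ≫ (pbCone D c i xi).π.app j := by
        apply pullback.hom_ext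
        · simp [pbCone, reassoc_of% hfst]
        · simp [pbCone, hsnd]
      rw [reassoc_of% e3, h1]
      simp
    · simp [reassoc_of% hf]

/-- Let S = lim S_i be a cofiltered limit of schemes with affine transition morphisms (the S_i are not
assumed quasi-compact or quasi-separated), i an index, and X_i → S_i, Y_i → S_i morphisms locally of
finite presentation with X_i, Y_i quasi-compact and quasi-separated; let X, Y be their base changes
to S (pullback squares). Then every S-morphism f : X → Y comes from some stage: for some index j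
over i there is an S_j-morphism f_j : X_i ×_{S_i} S_j → Y_i ×_{S_i} S_j whose base change to S is f,
in the sense that the canonical morphisms X → X_i ×_{S_i} S_j and Y → Y_i ×_{S_i} S_j intertwine f
and f_j. This is the fullness part of the equivalence between the colimit of the categories of
quasi-compact quasi-separated schemes locally of finite presentation over the S_i and the
corresponding category over S. -/
theorem result {I : Type u} [SmallCategory I] [IsCofiltered I]
    (D : I ⥤ Scheme.{u}) (c : Limits.Cone D) (hc : Limits.IsLimit c)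
    [∀ (i j : I) (f : i ⟶ j), IsAffineHom (D.map f)] (i : I)
    {Xi Yi : Scheme.{u}} (xi : Xi ⟶ D.obj i) (yi : Yi ⟶ D.obj i)
    [CompactSpace Xi] [QuasiSeparatedSpace Xi] [LocallyOfFinitePresentation xi]
    [CompactSpace Yi] [QuasiSeparatedSpace Yi] [LocallyOfFinitePresentation yi]
    {X Y : Scheme.{u}} (qX : X ⟶ Xi) (pX : X ⟶ c.pt) (hX : IsPullback qX pX xi (c.π.app i))
    (qY : Y ⟶ Yi) (pY : Y ⟶ c.pt) (hY : IsPullback qY pY yi (c.π.app i))
    (f : X ⟶ Y) (hf : f ≫ pY = pX) :
    ∃ (j : I) (φ : j ⟶ i) (fj : pullback xi (D.map φ) ⟶ pullback yi (D.map φ))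
      (sX : X ⟶ pullback xi (D.map φ)) (sY : Y ⟶ pullback yi (D.map φ)),
      fj ≫ pullback.snd yi (D.map φ) = pullback.snd xi (D.map φ) ∧
      sX ≫ pullback.fst xi (D.map φ) = qX ∧ sX ≫ pullback.snd xi (D.map φ) = pX ≫ c.π.app j ∧
      sY ≫ pullback.fst yi (D.map φ) = qY ∧ sY ≫ pullback.snd yi (D.map φ) = pY ≫ c.π.app j ∧
      sX ≫ fj = f ≫ sY := by
  exact aux D c hc i xi yi qX pX hX qY pY hY f hf

end Groth.Agent.S9218
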