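import Groth.Statements.S4759
import Mathlib

set_option autoImplicit false
universe u
open CategoryTheory AlgebraicGeometry
open Lim8

namespace Groth.Agent.S4759

/-- Let S = lim S_i be a cofiltered limit of schemes with affine transition maps, some stage S_{i₀}
being quasi-compact and quasi-separated. Then every constructible subset Z of S is the preimage
under the projection S ⟶ S_i of a constructible subset of S_i, for some index i over i₀. -/
theorem result {I : Type u} [SmallCategory I] [IsCofiltered I]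
    (D : I ⥤ Scheme.{u}) (c : Limits.Cone D) (hc : Limits.IsLimit c)
    [∀ (i j : I) (f : i ⟶ j), IsAffineHom (D.map f)] (i₀ : I) [CompactSpace (D.obj i₀)]
    [QuasiSeparatedSpace (D.obj i₀)] (Z : Set c.pt) (hZ : Topology.IsConstructible Z) :
    ∃ (i : I) (_ : i ⟶ i₀) (Zi : Set (D.obj i)),
      Topology.IsConstructible Zi ∧ (⇑(c.π.app i) ⁻¹' Zi : Set c.pt) = Z := by
  have hA : ∀ {i j : I} (f : i ⟶ j), IsAffineHom (D.map f) := fun f ↦ inferInstance
  have hcpt : CompactSpace c.pt := by
    have := AlgebraicGeometry.isAffineHom_π_app D c hc i₀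
    exact AlgebraicGeometry.QuasiCompact.compactSpace_of_compactSpace (c.π.app i₀)
  have hw : ∀ {j k : I} (a : j ⟶ k) (W : Set (D.obj k)),
      (⇑(c.π.app j) ⁻¹' (⇑(D.map a) ⁻¹' W) : Set c.pt) = ⇑(c.π.app k) ⁻¹' W := by
    intro j k a W
    ext x
    simp only [Set.mem_preimage]
    rw [← AlgebraicGeometry.Scheme.Hom.comp_apply, c.w a]
  induction hZ using Topology.IsConstructible.empty_union_induction with
  | open_retrocompact U hUopen hUcomp =>
    obtain ⟨i, V, hV, hVU⟩ := AlgebraicGeometry.exists_preimage_eq D c hc ⟨U, hUopen⟩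
      hUcomp.isCompact
    refine ⟨IsCofiltered.min i i₀, IsCofiltered.minToRight i i₀,
      ⇑(D.map (IsCofiltered.minToLeft i i₀)) ⁻¹' V, ?_, ?_⟩
    · have : QuasiSeparatedSpace (D.obj (IsCofiltered.min i i₀)) :=
        AlgebraicGeometry.quasiSeparatedSpace_of_quasiSeparated
          (D.map (IsCofiltered.minToRight i i₀))
      refine IsCompact.isConstructible ?_ (V.2.preimage (D.map _).continuous)
      exact AlgebraicGeometry.QuasiCompact.isCompact_preimage _ V.2 hV
    · rw [hw]
      exact congrArg (fun W : c.pt.Opens ↦ (W : Set c.pt)) hVU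
  | union s hs t ht hs' ht' =>
    obtain ⟨i, φ, Zi, hZi, rfl⟩ := hs'
    obtain ⟨i', φ', Zi', hZi', rfl⟩ := ht'
    refine ⟨IsCofiltered.min i i', IsCofiltered.minToLeft i i' ≫ φ,
      ⇑(D.map (IsCofiltered.minToLeft i i')) ⁻¹' Zi ∪ ⇑(D.map (IsCofiltered.minToRight i i')) ⁻¹' Zi',
      ?_, ?_⟩
    · exact (AlgebraicGeometry.Scheme.Hom.isConstructible_preimage _ hZi).union
        (AlgebraicGeometry.Scheme.Hom.isConstructible_preimage _ hZi')
    · rw [Set.preimage_union, hw, hw]
  | compl s hs hs' =>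
    obtain ⟨i, φ, Zi, hZi, rfl⟩ := hs'
    exact ⟨i, φ, Ziᶜ, hZi.compl, rfl⟩

end Groth.Agent.S4759
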