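import Groth.Statements.S0301
import Mathlib

set_option autoImplicit false
universe u v
open InjHull

namespace Groth.Agent.S0301

/-- Over a Noetherian ring, the submodule of an injective module consisting of the elements killed by
some power of a given ideal is again injective. -/
theorem result (R : Type u) [CommRing R] [IsNoetherianRing R] (I : Type u) [AddCommGroup I] [Module R I] (hI : Module.Injective R I) (J : Ideal R) : Module.Injective R ↥(⨆ n : ℕ, Submodule.torsionBySet R I ((J ^ n : Ideal R) : Set R)) := by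
  classical
  let tors : ℕ →o Submodule R I :=
    ⟨fun n => Submodule.torsionBySet R I ((J ^ n : Ideal R) : Set R), by
      intro m n hmn x hx
      rw [Submodule.mem_torsionBySet_iff] at hx ⊢
      intro ⟨a, ha⟩
      exact hx ⟨a, Ideal.pow_le_pow_right hmn ha⟩⟩
  have hmemT : ∀ x : I, x ∈ (⨆ n : ℕ, Submodule.torsionBySet R I ((J ^ n : Ideal R) : Set R)) ↔
      ∃ n, x ∈ tors n := fun x => Submodule.mem_iSup_of_chain tors x
  have hle : ∀ n, tors n ≤ (⨆ n : ℕ, Submodule.torsionBySet R I ((J ^ n : Ideal R) : Set R)) :=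
    fun n => le_iSup (fun n => Submodule.torsionBySet R I ((J ^ n : Ideal R) : Set R)) n
  apply Module.Baer.injective
  intro 𝔞 g
  -- the chain of submodules of 𝔞
  let ch : ℕ →o Submodule R 𝔞 :=
    ⟨fun n => Submodule.comap ((Submodule.subtype _).comp g) (tors n), by
      intro m n hmn
      exact Submodule.comap_mono (tors.monotone hmn)⟩
  obtain ⟨n, hn⟩ := WellFoundedGT.monotone_chain_condition ch
  have hall : ∀ a : 𝔞, ((g a : I)) ∈ tors n := by
    intro a
    obtain ⟨k, hk⟩ := (hmemT (g a)).1 (g a).2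
    have h1 : a ∈ ch (max n k) := ch.monotone (le_max_right n k) hk
    rw [← hn (max n k) (le_max_left n k)] at h1
    exact h1
  -- Artin–Rees
  obtain ⟨k, hk⟩ := Ideal.exists_pow_inf_eq_pow_smul J (𝔞 : Submodule R R)
  have hAR : ∀ x : R, x ∈ 𝔞 → x ∈ J ^ (n + k) → x ∈ J ^ n • 𝔞 := by
    intro x hx hxJ
    have h1 : x ∈ J ^ (n + k) • (⊤ : Submodule R R) ⊓ 𝔞 := by
      refine ⟨?_, hx⟩
      rw [Ideal.smul_top_eq_map]
      simpa using hxJ
    rw [hk (n + k) (Nat.le_add_left k n)] at h1
    have : n + k - k = n := by omega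
    rw [this] at h1
    exact Submodule.smul_mono le_rfl inf_le_right h1
  -- g kills 𝔞 ∩ J^(n+k)
  have hkill : ∀ a : 𝔞, (a : R) ∈ J ^ (n + k) → g a = 0 := by
    intro a ha
    have h1 := hAR a a.2 ha
    have h2 : J ^ n • 𝔞 ≤ Submodule.map 𝔞.subtype (LinearMap.ker g) := by
      rw [Submodule.smul_le]
      intro r hr b hb
      refine ⟨r • ⟨b, hb⟩, ?_, rfl⟩
      change r • (⟨b, hb⟩ : 𝔞) ∈ LinearMap.ker g
      rw [LinearMap.mem_ker, map_smul]
      apply Subtype.ext
      have h3 := hall ⟨b, hb⟩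
      change (g ⟨b, hb⟩ : I) ∈ Submodule.torsionBySet R I _ at h3
      rw [Submodule.mem_torsionBySet_iff] at h3
      exact h3 ⟨r, hr⟩
    obtain ⟨a', ha', haa'⟩ := h2 h1
    have : a' = a := Subtype.ext haa'
    rw [← this]
    exact ha'
  -- build the maps
  let K : Submodule R 𝔞 := Submodule.comap 𝔞.subtype (J ^ (n + k) : Ideal R)
  let ι : (𝔞 ⧸ K) →ₗ[R] (R ⧸ (J ^ (n + k) : Ideal R)) :=
    K.mapQ (J ^ (n + k) : Ideal R) 𝔞.subtype le_rfl
  have hι : Function.Injective ι := by
    rw [← LinearMap.ker_eq_bot, LinearMap.ker_eq_bot']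
    intro x hx
    obtain ⟨a, rfl⟩ := Submodule.Quotient.mk_surjective K x
    rw [Submodule.Quotient.mk_eq_zero]
    have h1 : ι (Submodule.Quotient.mk a) = Submodule.Quotient.mk (a : R) := rfl
    rw [h1, Submodule.Quotient.mk_eq_zero] at hx
    exact hx
  let gbar : (𝔞 ⧸ K) →ₗ[R] I :=
    K.liftQ ((Submodule.subtype _).comp g) (by
      intro a ha
      rw [LinearMap.mem_ker, LinearMap.comp_apply, hkill a ha]
      rfl)
  obtain ⟨h, hh⟩ := Module.Injective.extension_property R I _ _ ι hι gbar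
  have hmem : ∀ r : R, h (Submodule.Quotient.mk r) ∈
      (⨆ n : ℕ, Submodule.torsionBySet R I ((J ^ n : Ideal R) : Set R)) := by
    intro r
    apply hle (n + k)
    change _ ∈ Submodule.torsionBySet R I _
    rw [Submodule.mem_torsionBySet_iff]
    intro ⟨s, hs⟩
    change s • h (Submodule.Quotient.mk r) = 0
    rw [← map_smul, ← Submodule.Quotient.mk_smul]
    have : (Submodule.Quotient.mk (s • r) : R ⧸ (J ^ (n + k) : Ideal R)) = 0 := by
      rw [Submodule.Quotient.mk_eq_zero]
      exact Ideal.mul_mem_right _ _ hs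
    rw [this, map_zero]
  refine ⟨LinearMap.codRestrict _ (h.comp (Submodule.mkQ _)) hmem, ?_⟩
  intro x hx
  apply Subtype.ext
  change h (Submodule.Quotient.mk x) = (g ⟨x, hx⟩ : I)
  have h1 : ι (Submodule.Quotient.mk ⟨x, hx⟩) = Submodule.Quotient.mk x := rfl
  rw [← h1, ← LinearMap.comp_apply, hh]
  rfl

end Groth.Agent.S0301
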