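import Groth.Statements.S0311
import Mathlib
import Groth.Agent.Lead.InjHull
import Groth.Agent.S0301

set_option autoImplicit false
universe u v
open Matlis

namespace Groth.Agent.S0311

open Groth.Agent.Lead.InjHullLib

/-- Over a Noetherian local ring, every element of an injective hull E of the residue field is killed by
some power of the maximal ideal (E is the union of the E[m^n]). (The source also identifies E[m^n]
with an injective hull of the residue field over R/m^n; not stated here.) -/
theorem result (R : Type u) [CommRing R] [IsLocalRing R] [IsNoetherianRing R] (E : Type u) [AddCommGroup E] [Module R E] (f : IsLocalRing.ResidueField R →ₗ[R] E) (hf : InjHull.IsInjectiveHull f) : LocCoh.IsPowerTorsion (IsLocalRing.maximalIdeal R) E := by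
  classical
  have hEinj := hf.isInjective
  set J := IsLocalRing.maximalIdeal R with hJ
  let tors : ℕ →o Submodule R E :=
    ⟨fun n => Submodule.torsionBySet R E ((J ^ n : Ideal R) : Set R), by
      intro m n hmn x hx
      rw [Submodule.mem_torsionBySet_iff] at hx ⊢
      intro ⟨a, ha⟩
      exact hx ⟨a, Ideal.pow_le_pow_right hmn ha⟩⟩
  have hmemT : ∀ x : E, x ∈ (⨆ n : ℕ, Submodule.torsionBySet R E ((J ^ n : Ideal R) : Set R)) ↔
      ∃ n, x ∈ tors n := fun x => Submodule.mem_iSup_of_chain tors x
  have hTinj : Module.Injective R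
      ↥(⨆ n : ℕ, Submodule.torsionBySet R E ((J ^ n : Ideal R) : Set R)) :=
    Groth.Agent.S0301.result R E hEinj J
  set T := (⨆ n : ℕ, Submodule.torsionBySet R E ((J ^ n : Ideal R) : Set R)) with hT
  have hrange : LinearMap.range f ≤ T := by
    rintro _ ⟨x, rfl⟩
    rw [hmemT]
    refine ⟨1, ?_⟩
    change _ ∈ Submodule.torsionBySet R E _
    rw [Submodule.mem_torsionBySet_iff]
    rintro ⟨a, ha⟩
    rw [pow_one] at ha
    change a • f x = 0
    rw [← map_smul]
    have : a • x = 0 := by
      rw [Algebra.smul_def]
      have : algebraMap R (IsLocalRing.ResidueField R) a = 0 := by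
        change IsLocalRing.residue R a = 0
        rwa [IsLocalRing.residue_eq_zero_iff]
      rw [this, zero_mul]
    rw [this, map_zero]
  obtain ⟨C, hC⟩ := exists_isCompl_range T.subtype Subtype.val_injective
  rw [Submodule.range_subtype] at hC
  have hCbot : C = ⊥ := by
    by_contra hne
    apply hf.essential C hne
    rw [eq_bot_iff]
    exact le_trans (inf_le_inf_left C hrange) (le_of_eq (by rw [inf_comm]; exact hC.inf_eq_bot))
  have hTtop : T = ⊤ := by
    have := hC.sup_eq_top
    rwa [hCbot, sup_bot_eq] at this
  intro e
  have he : e ∈ T := by rw [hTtop]; trivial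
  obtain ⟨n, hn⟩ := (hmemT e).1 he
  refine ⟨n, fun a ha => ?_⟩
  change e ∈ Submodule.torsionBySet R E _ at hn
  rw [Submodule.mem_torsionBySet_iff] at hn
  exact hn ⟨a, ha⟩

end Groth.Agent.S0311
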