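import Groth.Statements.S5155
import Groth.Agent.S0311
import Groth.Agent.Helper2.Socle
open IsLocalRing Groth.Agent.Helper2.Socle
-- import your own Groth.Agent.* helpers here

set_option autoImplicit false
universe u
open Matlis

namespace Groth.Agent.S5155

/-- Let A be a Noetherian local ring with residue field k. An A-module E is an injective hull of k if
and only if E is injective, E is m-power torsion, and Hom_A(k, E) is simple (one-dimensional over
k). (The torsion condition is needed: for a prime p ≠ m the module E(k) ⊕ E(A/p) is injective with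
Hom_A(k, −) simple, represents the same functor on modules of finite length, and is not an injective
hull of k; the published definition of a dualizing module leaves this condition implicit and the
published proof uses it.) -/
theorem result (A : Type u) [CommRing A] [IsLocalRing A] [IsNoetherianRing A] (E : Type u) [AddCommGroup E] [Module A E] : (∃ f : IsLocalRing.ResidueField A →ₗ[A] E, InjHull.IsInjectiveHull f) ↔ (Module.Injective A E ∧ LocCoh.IsPowerTorsion (IsLocalRing.maximalIdeal A) E ∧ IsSimpleModule A (IsLocalRing.ResidueField A →ₗ[A] E)) := by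
  constructor
  · rintro ⟨f, hf⟩
    refine ⟨hf.isInjective, Groth.Agent.S0311.result A E f hf, ?_⟩
    -- every hom is a multiple of f
    have hmult : ∀ ψ : ResidueField A →ₗ[A] E, ∃ s : A, ψ = s • f := by
      intro ψ
      by_cases hx : ψ 1 = 0
      · refine ⟨0, ?_⟩
        rw [zero_smul]
        apply ext_one
        rw [hx, LinearMap.zero_apply]
      · have hN : Submodule.span A {ψ 1} ≠ ⊥ := by
          rw [Ne, Submodule.span_singleton_eq_bot]
          exact hx
        have hess := hf.essential _ hN
        rw [Ne, eq_bot_iff] at hess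
        have : ∃ y ∈ Submodule.span A {ψ 1} ⊓ LinearMap.range f, y ≠ 0 := by
          by_contra hcon
          push Not at hcon
          apply hess
          intro y hy
          rw [Submodule.mem_bot]
          exact hcon y hy
        obtain ⟨y, ⟨hy1, hy2⟩, hy0⟩ := this
        obtain ⟨r, rfl⟩ := Submodule.mem_span_singleton.1 hy1
        obtain ⟨z, hz⟩ := hy2
        have hr : r ∉ maximalIdeal A := by
          intro h
          exact hy0 (smul_apply_one_eq_zero ψ r h)
        have hu : IsUnit r := by
          rw [mem_maximalIdeal, mem_nonunits_iff, not_not] at hr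
          exact hr
        obtain ⟨u, rfl⟩ := hu
        obtain ⟨s, rfl⟩ := residue_surjective z
        refine ⟨(↑u⁻¹ : A) * s, ?_⟩
        apply ext_one
        rw [LinearMap.smul_apply, mul_smul, ← apply_residue, hz, smul_smul, Units.inv_mul, one_smul]
    rw [isSimpleModule_iff_toSpanSingleton_surjective]
    have hf0 : f ≠ 0 := by
      intro h
      have h1 := hf.injective (show f 1 = f 0 by rw [h, LinearMap.zero_apply, LinearMap.zero_apply])
      exact one_ne_zero h1
    refine ⟨⟨⟨f, 0, hf0⟩⟩, ?_⟩
    intro φ hφ ψ
    obtain ⟨s, hs⟩ := hmult φ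
    obtain ⟨s', hs'⟩ := hmult ψ
    have hsu : IsUnit s := by
      by_contra hcon
      apply hφ
      rw [hs]
      apply ext_one
      rw [LinearMap.smul_apply, LinearMap.zero_apply]
      exact smul_apply_one_eq_zero f s hcon
    obtain ⟨u, rfl⟩ := hsu
    refine ⟨s' * (↑u⁻¹ : A), ?_⟩
    rw [LinearMap.toSpanSingleton_apply, hs, hs', smul_smul, mul_assoc, Units.inv_mul, mul_one]
  · rintro ⟨hinj, htor, hsimple⟩
    rw [isSimpleModule_iff_toSpanSingleton_surjective] at hsimple
    obtain ⟨hnt, hgen⟩ := hsimple
    obtain ⟨f, hf0⟩ := exists_ne (0 : ResidueField A →ₗ[A] E)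
    refine ⟨f, { injective := injective_of_ne_zero f hf0, essential := ?_, isInjective := hinj }⟩
    intro N hN
    obtain ⟨x, hxN, hx0⟩ := Submodule.exists_mem_ne_zero_of_ne_bot hN
    classical
    have hex := htor x
    set n := Nat.find hex with hn
    have hnspec : ∀ a ∈ maximalIdeal A ^ n, a • x = 0 := Nat.find_spec hex
    have hn0 : n ≠ 0 := by
      intro h0
      have := hnspec 1 (by rw [h0, pow_zero, Ideal.one_eq_top]; trivial)
      rw [one_smul] at this
      exact hx0 this
    obtain ⟨k, hk⟩ := Nat.exists_eq_succ_of_ne_zero hn0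
    have hmin : ¬ ∀ a ∈ maximalIdeal A ^ k, a • x = 0 :=
      Nat.find_min hex (by rw [← hn, hk]; exact Nat.lt_succ_self k)
    push Not at hmin
    obtain ⟨a, hak, hax⟩ := hmin
    have hy : ∀ b ∈ maximalIdeal A, b • (a • x) = 0 := by
      intro b hb
      rw [smul_smul]
      apply hnspec
      rw [hk, pow_succ']
      exact Ideal.mul_mem_mul hb hak
    obtain ⟨s, hs⟩ := hgen f hf0 (ofSocle (a • x) hy)
    rw [LinearMap.toSpanSingleton_apply] at hs
    have hmem : a • x ∈ N ⊓ LinearMap.range f := by
      refine ⟨N.smul_mem a hxN, ?_⟩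
      refine ⟨s • 1, ?_⟩
      rw [map_smul, ← LinearMap.smul_apply, hs, ofSocle_one]
    intro hbot
    rw [hbot, Submodule.mem_bot] at hmem
    exact hax hmem

end Groth.Agent.S5155
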