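import Groth.Statements.S0302
import Groth.Agent.Lead.InjHull

set_option autoImplicit false
universe u v
open InjHull

namespace Groth.Agent.S0302

/-- Two injective hulls of the same module are isomorphic by an isomorphism compatible with the two
embeddings. -/
theorem result (R : Type u) [CommRing R] (M : Type u) [AddCommGroup M] [Module R M] (E : Type u) [AddCommGroup E] [Module R E] (E' : Type u) [AddCommGroup E'] [Module R E'] (f : M →ₗ[R] E) (hf : InjHull.IsInjectiveHull f) (g : M →ₗ[R] E') (hg : InjHull.IsInjectiveHull g) : ∃ e : E ≃ₗ[R] E', e.toLinearMap ∘ₗ f = g := by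
  have := hg.isInjective
  have := hf.isInjective
  obtain ⟨α, hα⟩ := Module.Injective.extension_property R E' M E f hf.injective g
  have hαinj : Function.Injective α :=
    Groth.Agent.Lead.InjHullLib.injective_of_essential hf.essential α
      (by rw [hα]; exact hg.injective)
  obtain ⟨I', hI'⟩ := Groth.Agent.Lead.InjHullLib.exists_isCompl_range α hαinj
  have hI'bot : I' = ⊥ := by
    by_contra hne
    apply hg.essential I' hne
    rw [eq_bot_iff]
    refine le_trans ?_ hI'.disjoint.le_bot
    rw [inf_comm]
    refine inf_le_inf_right _ ?_
    rw [← hα, LinearMap.range_comp]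
    exact LinearMap.map_le_range
  have hsurj : Function.Surjective α := by
    rw [← LinearMap.range_eq_top]
    have := hI'.sup_eq_top
    rwa [hI'bot, sup_bot_eq] at this
  refine ⟨LinearEquiv.ofBijective α ⟨hαinj, hsurj⟩, ?_⟩
  ext x
  exact LinearMap.congr_fun hα x

end Groth.Agent.S0302
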