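import Groth.Statements.S6035
import Mathlib
import Groth.Agent.S5170
import Groth.Agent.Helper6.MatlisBidual

set_option autoImplicit false
universe u
open Matlis

namespace Groth.Agent.S6035

/-- The case of the dualizing functor Hom_A(−, E). Let A be a Noetherian local ring, E an injective hull
of its residue field and M an A-module of finite length. Then the evaluation map M → Hom_A(Hom_A(M,
E), E) is bijective. -/
theorem result (A : Type u) [CommRing A] [IsLocalRing A] [IsNoetherianRing A]
    (E : Type u) [AddCommGroup E] [Module A E] (f : IsLocalRing.ResidueField A →ₗ[A] E)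
    (hf : InjHull.IsInjectiveHull f) (M : Type u) [AddCommGroup M] [Module A M] (hM : IsFiniteLength A M) :
    Function.Bijective (LinearMap.applyₗ : M →ₗ[A] (M →ₗ[A] E) →ₗ[A] E) := by
  have h1 : Module.length A (M →ₗ[A] E) = Module.length A M :=
    Groth.Agent.S5170.result A E f hf M hM
  have hfin : Module.length A M ≠ ⊤ := Module.length_ne_top_iff.mpr hM
  have hM' : IsFiniteLength A (M →ₗ[A] E) := by
    rw [← Module.length_ne_top_iff, h1]
    exact hfin
  have h2 : Module.length A ((M →ₗ[A] E) →ₗ[A] E) = Module.length A (M →ₗ[A] E) :=
    Groth.Agent.S5170.result A E f hf (M →ₗ[A] E) hM'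
  exact Groth.Agent.Helper6.MatlisBidual.bijective_of_injective_of_length_eq _
    (Groth.Agent.Helper6.MatlisBidual.applyₗ_injective f hf M) (h2.trans h1) hfin

end Groth.Agent.S6035
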