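import Groth.Statements.S0310
import Mathlib
import Groth.Agent.Lead.InjHull

set_option autoImplicit false
universe u v
open Matlis

namespace Groth.Agent.S0310

open Groth.Agent.Lead.InjHullLib

/-- Over a local ring, a module killed elementwise by powers of the maximal ideal and whose socle has
finite dimension n over the residue field embeds into the n-fold sum of an injective hull of the
residue field. -/
theorem result (R : Type u) [CommRing R] [IsLocalRing R] (E : Type u) [AddCommGroup E] [Module R E] (f : IsLocalRing.ResidueField R →ₗ[R] E) (hf : InjHull.IsInjectiveHull f) (M : Type u) [AddCommGroup M] [Module R M] (hM : LocCoh.IsPowerTorsion (IsLocalRing.maximalIdeal R) M) (n : ℕ) [Module.Finite (R ⧸ IsLocalRing.maximalIdeal R) ↥(LocCoh.torsionBy (IsLocalRing.maximalIdeal R) M)] (hn : Module.finrank (R ⧸ IsLocalRing.maximalIdeal R) ↥(LocCoh.torsionBy (IsLocalRing.maximalIdeal R) M) = n) : ∃ g : M →ₗ[R] (Fin n → E), Function.Injective g := by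
  classical
  have hEinj := hf.isInjective
  set J := IsLocalRing.maximalIdeal R with hJ
  set Soc : Submodule R M := LocCoh.torsionBy J M with hSoc
  let _ : Field (R ⧸ J) := Ideal.Quotient.field J
  let b : Module.Basis (Fin n) (R ⧸ J) Soc := Module.finBasisOfFinrankEq (R ⧸ J) Soc hn
  let e1 : Soc →ₗ[R] (Fin n → R ⧸ J) := (b.equivFun.restrictScalars R).toLinearMap
  have he1 : Function.Injective e1 := (b.equivFun.restrictScalars R).injective
  let ι : (R ⧸ J) →ₗ[R] IsLocalRing.ResidueField R :=
    { toFun := fun x => x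
      map_add' := fun _ _ => rfl
      map_smul' := fun r x => by
        obtain ⟨y, rfl⟩ := Ideal.Quotient.mk_surjective x
        rfl }
  have hι : Function.Injective ι := fun _ _ h => h
  let e2 : (Fin n → R ⧸ J) →ₗ[R] (Fin n → E) := (f ∘ₗ ι).compLeft (Fin n)
  have he2 : Function.Injective e2 := by
    intro x y hxy
    funext i
    have := congrFun hxy i
    exact hι (hf.injective this)
  let emb : Soc →ₗ[R] (Fin n → E) := e2 ∘ₗ e1
  have hemb : Function.Injective emb := he2.comp he1
  obtain ⟨g, hg⟩ := Module.Injective.extension_property R (Fin n → E) Soc M Soc.subtype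
    Subtype.val_injective emb
  refine ⟨g, ?_⟩
  rw [← LinearMap.ker_eq_bot, eq_bot_iff]
  intro x hx
  rw [Submodule.mem_bot]
  by_contra hx0
  -- find nonzero multiple of x in Soc
  obtain ⟨N, hN⟩ := hM x
  have hex : ∃ k, ∀ a ∈ J ^ k, a • x = 0 := ⟨N, hN⟩
  let k := Nat.find hex
  have hk : ∀ a ∈ J ^ k, a • x = 0 := Nat.find_spec hex
  have hk0 : k ≠ 0 := by
    intro h0
    apply hx0
    have := hk 1 (by rw [h0, pow_zero, Ideal.one_eq_top]; trivial)
    simpa using this
  obtain ⟨k', hk'⟩ := Nat.exists_eq_succ_of_ne_zero hk0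
  have hnot : ¬ ∀ a ∈ J ^ k', a • x = 0 := Nat.find_min hex (by omega)
  rw [not_forall] at hnot
  obtain ⟨a, ha⟩ := hnot
  rw [Classical.not_imp] at ha
  obtain ⟨haJ, hax⟩ := ha
  have hsoc : a • x ∈ Soc := by
    rw [hSoc]
    change _ ∈ Submodule.torsionBySet R M _
    rw [Submodule.mem_torsionBySet_iff]
    rintro ⟨c, hc⟩
    change c • a • x = 0
    rw [smul_smul]
    apply hk
    rw [hk', pow_succ']
    exact Ideal.mul_mem_mul hc haJ
  have h1 : emb ⟨a • x, hsoc⟩ = g (a • x) := by
    have := LinearMap.congr_fun hg ⟨a • x, hsoc⟩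
    exact this.symm
  have h2 : g (a • x) = 0 := by
    rw [map_smul, LinearMap.mem_ker.1 hx, smul_zero]
  rw [h2] at h1
  have h3 : (⟨a • x, hsoc⟩ : Soc) = 0 := hemb (by rw [h1, map_zero])
  exact hax (congrArg Subtype.val h3)

end Groth.Agent.S0310
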