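import Groth.Statements.S6292
import Mathlib

set_option autoImplicit false
universe u
open CAlg

namespace Groth.Agent.S6292


theorem length_ne_top_of_torsion {R : Type u} [CommRing R] (m : Ideal R) [m.IsMaximal]
    (Q : Type u) [AddCommGroup Q] [Module R Q] [Module.Finite R Q]
    (h : ∀ a ∈ m, ∀ x : Q, a • x = 0) : Module.length R Q ≠ ⊤ := by
  have hT : Module.IsTorsionBySet R Q m := fun x a => h a.1 a.2 x
  letI : Field (R ⧸ m) := Ideal.Quotient.field m
  letI : Module (R ⧸ m) Q := hT.module
  haveI : IsScalarTower R (R ⧸ m) Q := hT.isScalarTower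
  haveI : Module.Finite (R ⧸ m) Q := Module.Finite.of_restrictScalars_finite R (R ⧸ m) Q
  rw [Module.length_eq_of_surjective (S := R) (R := R ⧸ m) Ideal.Quotient.mk_surjective,
    Module.length_eq_finrank]
  exact ENat.natCast_ne_top _

/-- Let R be a ring and m ⊆ R a finitely generated maximal ideal (for instance R Noetherian). If M is a
finite R-module with mⁿM = 0 for some n, then M has finite length. -/
theorem result {R : Type u} [CommRing R] (m : Ideal R) [m.IsMaximal] (hm : m.FG) (M : Type u) [AddCommGroup M] [Module R M] [Module.Finite R M] (n : ℕ) (hn : m ^ n • (⊤ : Submodule R M) = ⊥) : IsFiniteLength R M := by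
  have key : ∀ (n : ℕ) (M : Type u) [AddCommGroup M] [Module R M] [Module.Finite R M],
      m ^ n • (⊤ : Submodule R M) = ⊥ → Module.length R M ≠ ⊤ := by
    intro n
    induction n with
    | zero =>
      intro M _ _ _ h
      rw [pow_zero, Ideal.one_eq_top, Submodule.top_smul] at h
      haveI : Subsingleton M := by
        rw [← Submodule.subsingleton_iff R]
        exact subsingleton_of_top_eq_bot h
      rw [Module.length_eq_zero]; exact ENat.zero_ne_top
    | succ n ih =>
      intro M _ _ _ h
      set N : Submodule R M := m • ⊤ with hNdef
      haveI : Module.Finite R N :=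
        Module.Finite.iff_fg.mpr (Submodule.FG.smul hm Module.Finite.fg_top)
      have hN : m ^ n • (⊤ : Submodule R N) = ⊥ := by
        apply Submodule.map_injective_of_injective N.subtype_injective
        rw [Submodule.map_smul'', Submodule.map_subtype_top, Submodule.map_bot, hNdef,
          ← Submodule.mul_smul, ← pow_succ, h]
      have hQ : ∀ a ∈ m, ∀ x : M ⧸ N, a • x = 0 := by
        intro a ha x
        induction x using Submodule.Quotient.induction_on with
        | H x =>
          rw [← Submodule.Quotient.mk_smul, Submodule.Quotient.mk_eq_zero]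
          exact Submodule.smul_mem_smul ha Submodule.mem_top
      have h1 := ih N hN
      have h2 := length_ne_top_of_torsion m (M ⧸ N) hQ
      rw [Module.length_eq_add_of_exact N.subtype N.mkQ N.subtype_injective N.mkQ_surjective
        (LinearMap.exact_subtype_mkQ N)]
      exact WithTop.add_ne_top.mpr ⟨h1, h2⟩
  exact Module.length_ne_top_iff.mp (key n M hn)

end Groth.Agent.S6292
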