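import Groth.Statements.S5156
import Groth.Agent.S5155
import Groth.Agent.Helper2.Coext
open IsLocalRing Groth.Agent.Helper2.Socle Groth.Agent.Helper2.Coext
-- import your own Groth.Agent.* helpers here

set_option autoImplicit false
universe u
open Matlis

namespace Groth.Agent.S5156

/-- Let A and B be Noetherian local rings with B a finite A-algebra, and E an injective hull of the
residue field of A (a dualizing module for A). Then Hom_A(B, E), as a B-module through the action on
the source, is an injective hull of the residue field of B (a dualizing module for B). -/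
theorem result (A B : Type u) [CommRing A] [IsLocalRing A] [IsNoetherianRing A] [CommRing B] [IsLocalRing B] [IsNoetherianRing B] [Algebra A B] [Module.Finite A B] (E : Type u) [AddCommGroup E] [Module A E] (f : IsLocalRing.ResidueField A →ₗ[A] E) (hf : InjHull.IsInjectiveHull f) : ∃ g : IsLocalRing.ResidueField B →ₗ[B] (ModuleCat.coextendScalars (algebraMap A B)).obj (ModuleCat.of A E), InjHull.IsInjectiveHull g := by
  obtain ⟨hinj, htor, hsimple⟩ := (Groth.Agent.S5155.result A E).1 ⟨f, hf⟩
  have hloc := algebraMap_mem A B
  obtain ⟨N, hN⟩ := exists_pow_le A B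
  apply (Groth.Agent.S5155.result B
    ((ModuleCat.coextendScalars (algebraMap A B)).obj (ModuleCat.of A E))).2
  refine ⟨injective_coext A B E hinj, powerTorsion_coext N hN htor, ?_⟩
  rw [isSimpleModule_iff_toSpanSingleton_surjective]
  have hfl : IsFiniteLength A (ResidueField B) :=
    Module.length_ne_top_iff.1 (length_residueField_ne_top hloc)
  have hT : Module.length A (ResidueField B →ₗ[A] E) = Module.length A (ResidueField B) :=
    Groth.Agent.Helper2.MatlisLen.key hsimple hinj (ResidueField B) hfl
  have hnt : Nontrivial (ResidueField B →ₗ[A] E) := by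
    rw [← Module.length_pos_iff (R := A), hT]
    exact Module.length_pos
  constructor
  · obtain ⟨θ0, hθ0⟩ := exists_ne (0 : ResidueField B →ₗ[A] E)
    refine ⟨⟨lift θ0, 0, ?_⟩⟩
    intro h
    apply hθ0
    rw [← unlift_lift θ0, h, unlift_eq_zero_iff]
  · intro φ hφ ψ
    have hφ' : unlift φ ≠ 0 := by
      rw [Ne, unlift_eq_zero_iff]
      exact hφ
    have hr := range_Phi hsimple hinj hloc (unlift φ) hφ'
    have : unlift ψ ∈ LinearMap.range (Phi (unlift φ)) := by rw [hr]; trivial
    obtain ⟨b0, hb0⟩ := this
    refine ⟨b0, ?_⟩
    rw [LinearMap.toSpanSingleton_apply]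
    refine LinearMap.ext fun c => ?_
    apply toLin_injective
    ext b
    rw [LinearMap.smul_apply, toLin_smul, toLin_apply_eq, toLin_apply_eq, ← hb0, Phi_apply,
      smul_smul, mul_comm]

end Groth.Agent.S5156
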