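import Groth.Statements.S5761
import Groth.Agent.Helper2.DepthCM4
open Groth.Agent.Helper2 RingTheory.Sequence IsLocalRing
-- import your own Groth.Agent.* helpers here

set_option autoImplicit false
universe u
open EGA41

namespace Groth.Agent.S5761

/-- Let A be a Noetherian local ring, M a nonzero finitely generated Cohen-Macaulay A-module and p a
prime ideal in the support of M. Then the localization M_p is a Cohen-Macaulay module over A_p. -/
theorem result (A : Type u) [CommRing A] [IsLocalRing A]
    [IsNoetherianRing A] (M : Type u) [AddCommGroup M] [Module A M] [Module.Finite A M]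
    (hM : LocCoh.IsCohenMacaulayModule A M) (p : PrimeSpectrum A) (hp : p ∈ Module.support A M) :
    LocCoh.IsCohenMacaulayModule (Localization.AtPrime p.asIdeal)
      (LocalizedModule p.asIdeal.primeCompl M) := by
  have hnt := DepthCM2.cm_nontrivial hM
  have hpm : p.asIdeal ≤ maximalIdeal A := IsLocalRing.le_maximalIdeal p.2.ne_top
  have hIM : p.asIdeal • (⊤ : Submodule A M) ≠ ⊤ := by
    intro h
    apply Depth.smul_top_ne_top A M
    exact eq_top_iff.2 (h.symm.le.trans (Submodule.smul_mono_left hpm))
  obtain ⟨xs, h1, h2, h3, -⟩ := DepthCM.exists_length_eq_idealDepth p.asIdeal M hIM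
  obtain ⟨l1, l2⟩ := DepthCM4.cm_localized M hM p hp xs h2 h1 h3
  have hntp : Nontrivial (LocalizedModule p.asIdeal.primeCompl M) := Module.mem_support_iff.1 hp
  have hle := DepthCM4.depth_le_supportDim (A := Localization.AtPrime p.asIdeal)
    (LocalizedModule p.asIdeal.primeCompl M)
  have hmem : ∀ y ∈ xs.map (algebraMap A (Localization.AtPrime p.asIdeal)),
      y ∈ maximalIdeal (Localization.AtPrime p.asIdeal) := by
    intro y hy
    obtain ⟨x, hx, rfl⟩ := List.mem_map.1 hy
    rw [IsLocalization.AtPrime.to_map_mem_maximal_iff (Localization.AtPrime p.asIdeal) p.asIdeal]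
    exact h2 x hx
  have hge := DepthCM3.length_le_idealDepth
    (I := maximalIdeal (Localization.AtPrime p.asIdeal))
    (M := LocalizedModule p.asIdeal.primeCompl M) _ l1.1 hmem
  rw [List.length_map] at hge
  unfold LocCoh.IsCohenMacaulayModule
  apply le_antisymm
  · rw [l2]
    exact_mod_cast hge
  · exact hle

end Groth.Agent.S5761
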