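import Groth.Statements.S5762
import Groth.Agent.Helper2.DepthCM4
open Groth.Agent.Helper2 RingTheory.Sequence IsLocalRing
-- import your own Groth.Agent.* helpers here

set_option autoImplicit false
universe u
open EGA41

namespace Groth.Agent.S5762

/-- Let A be a Noetherian local ring, M a nonzero finitely generated Cohen-Macaulay A-module and p a
prime ideal in the support of M. Then dim(M) = dim_A(M/pM) + dim_{A_p}(M_p). -/
theorem result (A : Type u) [CommRing A]
    [IsLocalRing A] [IsNoetherianRing A] (M : Type u) [AddCommGroup M] [Module A M] [Module.Finite A M]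
    (hM : LocCoh.IsCohenMacaulayModule A M) (p : PrimeSpectrum A) (hp : p ∈ Module.support A M) :
    Module.supportDim A M =
      Module.supportDim A (M ⧸ (p.asIdeal • (⊤ : Submodule A M))) +
        Module.supportDim (Localization.AtPrime p.asIdeal) (LocalizedModule p.asIdeal.primeCompl M) := by
  have hnt := DepthCM2.cm_nontrivial hM
  have hpm : p.asIdeal ≤ maximalIdeal A := IsLocalRing.le_maximalIdeal p.2.ne_top
  have hIM : p.asIdeal • (⊤ : Submodule A M) ≠ ⊤ := by
    intro h
    apply Depth.smul_top_ne_top A M
    exact eq_top_iff.2 (h.symm.le.trans (Submodule.smul_mono_left hpm))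
  obtain ⟨xs, h1, h2, h3, -⟩ := DepthCM.exists_length_eq_idealDepth p.asIdeal M hIM
  obtain ⟨-, -, k3, k4⟩ := DepthCM3.cm_prime_key M hM p hp xs h2 h1 h3
  obtain ⟨-, l2⟩ := DepthCM4.cm_localized M hM p hp xs h2 h1 h3
  rw [DepthCM3.supportDim_quot_prime p hp, l2, k3, k4]

end Groth.Agent.S5762
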