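import Groth.Statements.S0342
import Groth.Agent.Helper1.RegGlobalDim

set_option autoImplicit false
universe u v
open Goren

namespace Groth.Agent.S0342

/-- Regular local rings have finite injective dimension over themselves, i.e. are Gorenstein. -/
theorem result (A : Type u) [CommRing A] [IsRegularLocalRing A] : LocCoh.IsGorensteinLocalRing A := by
  have hne_bot : ringKrullDim A ≠ ⊥ := ringKrullDim_ne_bot
  have hne_top : ringKrullDim A ≠ ⊤ := ringKrullDim_ne_top
  obtain ⟨d', hd'⟩ := WithBot.ne_bot_iff_exists.mp hne_bot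
  have hd'top : d' ≠ ⊤ := by
    rintro rfl
    exact hne_top hd'.symm
  obtain ⟨d, hd⟩ := ENat.ne_top_iff_exists.mp hd'top
  have hdim : ringKrullDim A = (d : ℕ) := by
    rw [← hd', ← hd]; rfl
  refine { exists_hasInjectiveDimensionLT := ⟨d + 1, ?_⟩ }
  letI := CategoryTheory.HasExt.standard (ModuleCat.{u} A)
  refine CategoryTheory.HasInjectiveDimensionLT.mk (fun i hi Y e => ?_)
  haveI := Groth.Agent.Helper1.TorLib.hasProjectiveDimensionLT_of_isRegularLocalRing d hdim Y
  exact e.eq_zero_of_hasProjectiveDimensionLT (d + 1) hi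

end Groth.Agent.S0342
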