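import Groth.Statements.S3583


set_option autoImplicit false
universe u
open CategoryTheory AlgebraicGeometry Opposite
open EGA2

namespace Groth.Agent.S3583

theorem algHom_app {X X' S : Scheme.{u}} (f : X ⟶ S) (h : X' ⟶ X) (U : S.Opens) :
    (AffAlg.algHom f (h ≫ f) h rfl).app (op U) = h.app (f ⁻¹ᵁ U) := by
  simp only [AffAlg.algHom]
  rfl

set_option backward.isDefEq.respectTransparency false in
theorem aux {X X' S : Scheme.{u}} (f : X ⟶ S) [IsAffineHom f]
    (f' : X' ⟶ S) [IsAffineHom f'] (h : X' ⟶ X) (w : h ≫ f = f')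
    (hsurj : ∀ U : S.affineOpens, Function.Surjective ((AffAlg.algHom f f' h w).app (op U.1)).hom) :
    IsClosedImmersion h := by
  subst w
  refine HasAffineProperty.of_iSup_eq_top (P := @IsClosedImmersion)
    (fun U : S.affineOpens ↦ ⟨f ⁻¹ᵁ U.1, IsAffineHom.isAffine_preimage _ (U.2 : IsAffineOpen U.1)⟩) ?_ (fun U ↦ ⟨?_, ?_⟩)
  · rw [eq_top_iff]
    intro x _
    obtain ⟨V, hV, hxV, -⟩ := exists_isAffineOpen_mem_and_subset (X := S) (x := f x)
      (U := ⊤) trivial
    exact TopologicalSpace.Opens.mem_iSup.mpr ⟨⟨V, hV⟩, hxV⟩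
  · exact (IsAffineHom.isAffine_preimage (f := h ≫ f) _ (U.2 : IsAffineOpen U.1) : IsAffineOpen ((h ≫ f) ⁻¹ᵁ U.1))
  · rw [morphismRestrict_appTop]
    have hV : ((f ⁻¹ᵁ U.1).ι ''ᵁ ⊤) = f ⁻¹ᵁ U.1 := by simp
    have h1 := hsurj U
    rw [algHom_app] at h1
    have h2 : Function.Surjective (h.app ((f ⁻¹ᵁ U.1).ι ''ᵁ ⊤)).hom := by rw [hV]; exact h1
    exact (ConcreteCategory.bijective_of_isIso (X'.presheaf.map _)).2.comp h2

/-- In the form stated after its proof: let f : X → S and f' : X' → S be affine morphisms and h : X' → X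
an S-morphism such that the O_S-algebra homomorphism A(h) : f_*O_X → f'_*O_{X'} is surjective (as a
map of quasi-coherent O_S-modules, i.e. on sections over every affine open of S). Then h is a closed
immersion. -/
theorem result {X X' S : Scheme.{u}} (f : X ⟶ S) [IsAffineHom f]
    (f' : X' ⟶ S) [IsAffineHom f'] (h : X' ⟶ X) (w : h ≫ f = f')
    (hsurj : ∀ U : S.affineOpens, Function.Surjective ((AffAlg.algHom f f' h w).app (op U.1)).hom) :
    IsClosedImmersion h := by
  exact aux f f' h w hsurj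

end Groth.Agent.S3583
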