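import Groth.Statements.S5152
import Groth.Agent.Helper2.DepthLoc
open Groth.Agent.Helper2 IsLocalRing Module
-- import your own Groth.Agent.* helpers here

set_option autoImplicit false
universe u
open LocCoh

namespace Groth.Agent.S5152

/-- Let A be a Noetherian ring, I an ideal and M a finite A-module. Then depth_I(M) is the infimum, over
the primes p ⊇ I, of depth_{A_p}(M_p). (With the conventions used here both sides are ⊤ when IM = M,
i.e. when no prime containing I lies in the support of M.) -/
theorem result (A : Type u) [CommRing A] [IsNoetherianRing A] (I : Ideal A) (M : Type u) [AddCommGroup M] [Module A M] [Module.Finite A M] : LocCoh.idealDepth I M = ⨅ (p : PrimeSpectrum A) (_ : I ≤ p.asIdeal), LocCoh.depth (Localization.AtPrime p.asIdeal) (LocalizedModule p.asIdeal.primeCompl M) := by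
  by_cases hIM : I • (⊤ : Submodule A M) = ⊤
  · have h1 : LocCoh.idealDepth I M = ⊤ := by
      unfold LocCoh.idealDepth
      rw [if_pos hIM]
    rw [h1]
    symm
    rw [iInf₂_eq_top]
    intro p hp
    have : Subsingleton (LocalizedModule p.asIdeal.primeCompl M) := by
      by_contra hcon
      rw [not_subsingleton_iff_nontrivial] at hcon
      have hs : p ∈ Module.support A M := Module.mem_support_iff.2 hcon
      have h2 : p ∈ Module.support A (M ⧸ I • (⊤ : Submodule A M)) := by
        rw [Module.support_quotient]
        exact ⟨hs, hp⟩
      have : Subsingleton (M ⧸ I • (⊤ : Submodule A M)) :=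
        Submodule.Quotient.subsingleton_iff.2 hIM
      rw [Module.support_eq_empty] at h2
      exact h2
    exact Groth.Agent.Helper2.DepthLoc.depth_eq_top_of_subsingleton _ _
  · obtain ⟨xs, h1, h2, h3, h4⟩ := DepthCM.exists_length_eq_idealDepth I M hIM
    rw [← h4]
    apply le_antisymm
    · refine le_iInf₂ ?_
      intro p hp
      exact Groth.Agent.Helper2.DepthLoc.length_le_depth_localized I M xs h2 h1 p hp
    · obtain ⟨p, hp, hd⟩ := Groth.Agent.Helper2.DepthLoc.exists_depth_localized_eq I M hIM xs h2 h1 h3
      rw [← hd]
      exact iInf₂_le p hp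

end Groth.Agent.S5152
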