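import Groth.Statements.S4628
import Mathlib

set_option autoImplicit false
open CategoryTheory AlgebraicGeometry
universe u
open FBase

namespace Groth.Agent.S4628

open CategoryTheory.Limits in
/-- geometric reducedness is stable under precomposition with open immersions -/
theorem geometricallyReduced_comp_of_isOpenImmersion {U X Y : Scheme.{u}} (j : U ⟶ X)
    [IsOpenImmersion j] (f : X ⟶ Y) [GeometricallyReduced f] : GeometricallyReduced (j ≫ f) := by
  constructor
  rw [geometrically_iff_of_isClosedUnderIsomorphisms]
  intro K _ y
  have h1 : AlgebraicGeometry.IsReduced (pullback f y) :=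
    pullback_of_geometrically (GeometricallyReduced.geometrically_isReduced (f := f)) K y
  let m : pullback (j ≫ f) y ⟶ pullback f y :=
    pullback.map (j ≫ f) y f y j (𝟙 _) (𝟙 _) (by simp) (by simp)
  have : IsOpenImmersion m := inferInstance
  exact isReduced_of_isOpenImmersion m

open CategoryTheory.Limits in
open TensorProduct in
/-- ring-level statement -/
theorem isReduced_tensor {k : Type u} [Field k] (A B : Type u) [CommRing A] [CommRing B]
    [Algebra k A] [Algebra k B]
    [GeometricallyReduced (Spec.map (CommRingCat.ofHom (algebraMap k A)))] [_root_.IsReduced B] :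
    _root_.IsReduced (A ⊗[k] B) := by
  apply IsReduced.tensorProduct_of_flat_of_forall_fg
  intro B' hB'
  have hft : Algebra.FiniteType k B' := (Subalgebra.fg_iff_finiteType B').mp hB'
  have hnoeth : IsNoetherianRing B' := Algebra.FiniteType.isNoetherianRing k B'
  have hred : _root_.IsReduced B' := isReduced_of_injective B'.val Subtype.val_injective
  have hredS : AlgebraicGeometry.IsReduced (Spec (CommRingCat.of B')) := by
    rw [affine_isReduced_iff]; exact hred
  have hnS : IsLocallyNoetherian (Spec (CommRingCat.of B')) := inferInstance
  have h1 : AlgebraicGeometry.IsReduced (pullback (Spec.map (CommRingCat.ofHom (algebraMap k A)))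
      (Spec.map (CommRingCat.ofHom (algebraMap k B')))) := inferInstance
  have h2 : AlgebraicGeometry.IsReduced (Spec (CommRingCat.of (A ⊗[k] B'))) :=
    isReduced_of_isOpenImmersion (pullbackSpecIso k A B').inv
  rw [affine_isReduced_iff] at h2
  exact h2

open CategoryTheory.Limits in
/-- affine piece -/
theorem isReduced_pullback_affine {k : Type u} [Field k] (R T : CommRingCat.{u})
    (a : Spec R ⟶ Spec (CommRingCat.of k)) (b : Spec T ⟶ Spec (CommRingCat.of k))
    [GeometricallyReduced a] [AlgebraicGeometry.IsReduced (Spec T)] :
    AlgebraicGeometry.IsReduced (pullback a b) := by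
  obtain ⟨φ, rfl⟩ := Spec.map_surjective a
  obtain ⟨ψ, rfl⟩ := Spec.map_surjective b
  let _ : Algebra k R := φ.hom.toAlgebra
  let _ : Algebra k T := ψ.hom.toAlgebra
  have hφ : φ = CommRingCat.ofHom (algebraMap k R) := rfl
  have hψ : ψ = CommRingCat.ofHom (algebraMap k T) := rfl
  have hT : _root_.IsReduced T := (affine_isReduced_iff T).mp inferInstance
  have hgr : GeometricallyReduced (Spec.map (CommRingCat.ofHom (algebraMap k R))) := by
    rw [← hφ]; infer_instance
  have h1 : _root_.IsReduced (TensorProduct k R T) := isReduced_tensor R T
  have h2 : AlgebraicGeometry.IsReduced (Spec (CommRingCat.of (TensorProduct k R T))) := by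
    rw [affine_isReduced_iff]; exact h1
  rw [hφ, hψ]
  exact isReduced_of_isOpenImmersion (pullbackSpecIso k R T).hom

open CategoryTheory.Limits in
/-- Let X be a scheme over a field k which is geometrically reduced (X ⊗_k K is reduced for every
extension field K of k), and let S be any reduced scheme over k. Then the product X ×_k S is
reduced. (No Noetherian or finiteness assumption on S.) -/
theorem result {k : Type u} [Field k] {X S : Scheme.{u}}
    (f : X ⟶ Spec (CommRingCat.of k)) (g : S ⟶ Spec (CommRingCat.of k)) [GeometricallyReduced f]
    [AlgebraicGeometry.IsReduced S] : AlgebraicGeometry.IsReduced (pullback f g) := by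
  apply +allowSynthFailures @IsReduced.of_openCover
    (𝒰 := Scheme.Pullback.openCoverOfLeftRight X.affineCover S.affineCover f g)
  intro ij
  have h1 : GeometricallyReduced (X.affineCover.f ij.1 ≫ f) :=
    geometricallyReduced_comp_of_isOpenImmersion _ f
  have h2 : AlgebraicGeometry.IsReduced (S.affineCover.X ij.2) :=
    isReduced_of_isOpenImmersion (S.affineCover.f ij.2)
  exact @isReduced_pullback_affine k _ (X.affineOpenCover.X ij.1) (S.affineOpenCover.X ij.2)
    (X.affineCover.f ij.1 ≫ f) (S.affineCover.f ij.2 ≫ g) h1 h2

end Groth.Agent.S4628
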