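import Groth.Statements.S11318
import Mathlib

set_option autoImplicit false
universe u
open CategoryTheory AlgebraicGeometry
open ProjDual

namespace Groth.Agent.S11318

/-- Let k be a field, X a proper k-scheme of dimension n, and (ω, t), (ω', t') two dualizing sheaves for
X: each is a coherent O_X-module with a k-linear map on its n-th cohomology to k such that for every
coherent F and every k-linear form ψ on H^n(X, F) there is exactly one morphism from F into it
through which ψ factors. Then there is exactly one morphism φ : ω → ω' with t = t' ∘ H^n(φ), and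
this φ is an isomorphism. -/
theorem result (k : Type u) [Field k] (X : Scheme.{u}) [X.Over (Spec (CommRingCat.of k))]
    [IsProper (X ↘ Spec (CommRingCat.of k))] (n : ℕ) (hn : topologicalKrullDim ↥X = n)
    (ω ω' : X.Modules) (hω : Coh.IsCoh ω) (hω' : Coh.IsCoh ω')
    (t : Coh.HH X ω n →ₗ[k] k) (t' : Coh.HH X ω' n →ₗ[k] k)
    (hd : ∀ F : X.Modules, Coh.IsCoh F → ∀ ψ : Coh.HH X F n →ₗ[k] k,
        ∃! φ : F ⟶ ω, ∀ x : Coh.HH X F n,
          ψ x = t (Sheaf.H.map ((SheafOfModules.toSheaf X.ringCatSheaf).map φ) n x))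
    (hd' : ∀ F : X.Modules, Coh.IsCoh F → ∀ ψ : Coh.HH X F n →ₗ[k] k,
        ∃! φ : F ⟶ ω', ∀ x : Coh.HH X F n,
          ψ x = t' (Sheaf.H.map ((SheafOfModules.toSheaf X.ringCatSheaf).map φ) n x)) :
    ∃ φ : ω ⟶ ω', IsIso φ ∧
      (∀ x : Coh.HH X ω n, t x = t' (Sheaf.H.map ((SheafOfModules.toSheaf X.ringCatSheaf).map φ) n x)) ∧
      ∀ ψ : ω ⟶ ω', (∀ x : Coh.HH X ω n, t x = t' (Sheaf.H.map ((SheafOfModules.toSheaf X.ringCatSheaf).map ψ) n x)) → ψ = φ := by
  classical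
  have hcomp : ∀ {F G H : X.Modules} (a : F ⟶ G) (b : G ⟶ H) (x : Coh.HH X F n),
      Sheaf.H.map ((SheafOfModules.toSheaf X.ringCatSheaf).map (a ≫ b)) n x =
        Sheaf.H.map ((SheafOfModules.toSheaf X.ringCatSheaf).map b) n
          (Sheaf.H.map ((SheafOfModules.toSheaf X.ringCatSheaf).map a) n x) := by
    intro F G H a b x
    exact (congrArg (fun f => Sheaf.H.map f n x)
      ((SheafOfModules.toSheaf X.ringCatSheaf).map_comp a b)).trans
      (Sheaf.H.map_comp_apply _ _ x)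
  have hid : ∀ (F : X.Modules) (x : Coh.HH X F n),
      Sheaf.H.map ((SheafOfModules.toSheaf X.ringCatSheaf).map (𝟙 F)) n x = x := by
    intro F x
    exact (congrArg (fun f => Sheaf.H.map f n x)
      ((SheafOfModules.toSheaf X.ringCatSheaf).map_id F)).trans (Sheaf.H.map_id_apply x)
  obtain ⟨φ, hφ, hφu⟩ := hd' ω hω t
  obtain ⟨ψ, hψ, hψu⟩ := hd ω' hω' t'
  obtain ⟨i1, hi1, hi1u⟩ := hd ω hω t
  have h1 : φ ≫ ψ = i1 := hi1u _ (fun x =>
    ((hφ x).trans (hψ _)).trans (congrArg t (hcomp φ ψ x).symm))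
  have h1' : 𝟙 ω = i1 := hi1u _ (fun x => congrArg t (hid ω x).symm)
  obtain ⟨i2, hi2, hi2u⟩ := hd' ω' hω' t'
  have h2 : ψ ≫ φ = i2 := hi2u _ (fun x =>
    ((hψ x).trans (hφ _)).trans (congrArg t' (hcomp ψ φ x).symm))
  have h2' : 𝟙 ω' = i2 := hi2u _ (fun x => congrArg t' (hid ω' x).symm)
  refine ⟨φ, ⟨ψ, h1.trans h1'.symm, h2.trans h2'.symm⟩, hφ, fun χ hχ => hφu χ hχ⟩

end Groth.Agent.S11318
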