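import Groth.Statements.S0547
import Groth.Agent.S0543

set_option autoImplicit false
universe u
open CAlg

namespace Groth.Agent.S0547

open IsLocalRing

section
variable (A : Type u) [CommRing A] [IsLocalRing A] [IsNoetherianRing A]

local notation "Ahat" => AdicCompletion (IsLocalRing.maximalIdeal A) A

instance instNoeth : IsNoetherianRing (AdicCompletion (IsLocalRing.maximalIdeal A) A) :=
  Groth.Agent.S0543.result A _

lemma le_dim : ringKrullDim A ≤ ringKrullDim (AdicCompletion (IsLocalRing.maximalIdeal A) A) := by
  haveI : Module.FaithfullyFlat A (AdicCompletion (IsLocalRing.maximalIdeal A) A) :=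
    Module.FaithfullyFlat.of_flat_of_isLocalHom
  unfold ringKrullDim Order.krullDim
  apply iSup_le
  intro l
  obtain ⟨P, hP⟩ := PrimeSpectrum.comap_surjective_of_faithfullyFlat
    (B := AdicCompletion (IsLocalRing.maximalIdeal A) A) l.last
  haveI : P.asIdeal.LiesOver l.last.asIdeal := ⟨by rw [← hP]; rfl⟩
  obtain ⟨L, hlen, -, -⟩ := Ideal.exists_ltSeries_of_hasGoingDown l P.asIdeal
  rw [← hlen]
  exact Order.LTSeries.length_le_krullDim L

lemma dim_le : ringKrullDim (AdicCompletion (IsLocalRing.maximalIdeal A) A) ≤ ringKrullDim A := by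
  classical
  obtain ⟨s, hs, hcard⟩ :=
    Ideal.exists_finset_card_eq_height_of_isNoetherianRing (maximalIdeal A)
  -- m ≤ radical (span s)
  have hrad : maximalIdeal A ≤ (Ideal.span (s : Set A)).radical := by
    rw [Ideal.radical_eq_sInf]
    apply le_sInf
    rintro p ⟨hJp, hp⟩
    exact hs.2 ⟨hp, hJp⟩ (le_maximalIdeal hp.ne_top)
  obtain ⟨N, hN⟩ := Ideal.exists_pow_le_of_le_radical_of_fg hrad
    (maximalIdeal A).fg_of_isNoetherianRing
  set f := algebraMap A (AdicCompletion (IsLocalRing.maximalIdeal A) A) with hf
  have hmax : maximalIdeal (AdicCompletion (IsLocalRing.maximalIdeal A) A) =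
      (maximalIdeal A).map f := AdicCompletion.maximalIdeal_eq_map
  have hmem : maximalIdeal (AdicCompletion (IsLocalRing.maximalIdeal A) A) ∈
      (Ideal.span ((s.image f : Finset _) : Set (AdicCompletion (IsLocalRing.maximalIdeal A) A))).minimalPrimes := by
    have hJ : Ideal.span ((s.image f : Finset _) :
        Set (AdicCompletion (IsLocalRing.maximalIdeal A) A)) = (Ideal.span (s : Set A)).map f := by
      rw [Ideal.map_span, Finset.coe_image]
    rw [hJ]
    refine ⟨⟨inferInstance, ?_⟩, ?_⟩
    · rw [hmax]
      exact Ideal.map_mono hs.1.2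
    · rintro q ⟨hq, hJq⟩ _
      have h1 : (maximalIdeal (AdicCompletion (IsLocalRing.maximalIdeal A) A)) ^ N ≤ q := by
        rw [hmax, ← Ideal.map_pow]
        exact (Ideal.map_mono hN).trans hJq
      exact hq.le_of_pow_le h1
  have h1 := Ideal.height_le_card_of_mem_minimalPrimes_span_finset hmem
  have h2 : ((s.image f).card : ℕ∞) ≤ s.card := by exact_mod_cast Finset.card_image_le
  rw [← IsLocalRing.maximalIdeal_height_eq_ringKrullDim,
    ← IsLocalRing.maximalIdeal_height_eq_ringKrullDim, ← hcard]
  exact_mod_cast h1.trans h2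

end

/-- The completion of a Noetherian local ring at its maximal ideal has the same Krull dimension as the
ring. -/
theorem result (A : Type u) [CommRing A] [IsLocalRing A]
    [IsNoetherianRing A] :
    ringKrullDim (AdicCompletion (IsLocalRing.maximalIdeal A) A) = ringKrullDim A := by
  exact le_antisymm (dim_le A) (le_dim A)

end Groth.Agent.S0547
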