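import Groth.Statements.S0544
import Mathlib.RingTheory.AdicCompletion.Functoriality

set_option autoImplicit false
universe u
open CAlg

namespace Groth.Agent.S0544

theorem mem_smul_top_pi_iff {R : Type u} [CommRing R] {ι : Type} [Fintype ι] [DecidableEq ι]
    (J : Ideal R) (x : ι → R) :
    x ∈ (J • ⊤ : Submodule R (ι → R)) ↔ ∀ i, x i ∈ J := by
  constructor
  · intro hx i
    refine Submodule.smul_induction_on hx (fun r hr m _ => ?_) (fun a b ha hb => ?_)
    · simpa using J.mul_mem_right _ hr
    · simpa using J.add_mem ha hb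
  · intro hx
    have : x = ∑ i, x i • (Pi.single i (1 : R) : ι → R) := by
      ext j
      simp [Finset.sum_apply, Pi.single_apply]
    rw [this]
    exact Submodule.sum_mem _ fun i _ => Submodule.smul_mem_smul (hx i) Submodule.mem_top

theorem isPrecomplete_pi {R : Type u} [CommRing R] {ι : Type} [Fintype ι] [DecidableEq ι]
    (I : Ideal R) [IsPrecomplete I R] : IsPrecomplete I (ι → R) := by
  refine ⟨fun f hf => ?_⟩
  have hc : ∀ i, ∃ L : R, ∀ n, f n i ≡ L [SMOD (I ^ n • ⊤ : Submodule R R)] := by
    intro i
    apply IsPrecomplete.prec' (fun n => f n i)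
    intro m n hmn
    have := hf hmn
    rw [SModEq.sub_mem] at this ⊢
    rw [mem_smul_top_pi_iff] at this
    simpa using this i
  choose L hL using hc
  refine ⟨L, fun n => ?_⟩
  rw [SModEq.sub_mem, mem_smul_top_pi_iff]
  intro i
  have := hL i n
  rw [SModEq.sub_mem] at this
  simpa using this

/-- Let `R` be complete with respect to an ideal `I` and `M` an `R`-module which is `I`-adically
separated and such that `M/IM` is finitely generated. Then `M` is a finitely generated `R`-module. -/
theorem result (R : Type u) [CommRing R]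
    (I : Ideal R) [IsAdicComplete I R] (M : Type u) [AddCommGroup M] [Module R M] [IsHausdorff I M]
    (h : Module.Finite R (M ⧸ (I • ⊤ : Submodule R M))) : Module.Finite R M := by
  classical
  obtain ⟨n, s, hs⟩ := Module.Finite.exists_fin (R := R) (M := M ⧸ (I • ⊤ : Submodule R M))
  have hsurj : ∀ i, ∃ m : M, Submodule.Quotient.mk m = s i := fun i =>
    Submodule.Quotient.mk_surjective _ (s i)
  choose t ht using hsurj
  let f : (Fin n → R) →ₗ[R] M := Fintype.linearCombination R t
  have : IsPrecomplete I (Fin n → R) := isPrecomplete_pi I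
  have hf : Function.Surjective ((I • ⊤ : Submodule R M).mkQ ∘ₗ f) := by
    rw [← LinearMap.range_eq_top, eq_top_iff, ← hs, Submodule.span_le]
    rintro _ ⟨i, rfl⟩
    refine ⟨Pi.single i 1, ?_⟩
    simp [f, ht]
  exact Module.Finite.of_surjective f (surjective_of_mkQ_comp_surjective hf)

end Groth.Agent.S0544
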