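import Groth.Statements.S0603
import Mathlib
import Groth.Agent.S2092
import Groth.Agent.Lead.Catenary
import Groth.Agent.Helper5.UCat6
import Groth.Agent.Helper6.CMCaten

set_option autoImplicit false
universe u
open CAlg

namespace Groth.Agent.S0603

/-- Every Cohen–Macaulay ring (Noetherian with all local rings Cohen–Macaulay) satisfies the universally
catenary chain condition. -/
theorem result (R : Type u) [CommRing R]
    [LocCoh.IsCohenMacaulayRing R] : CAlg.IsUniversallyCatenary R := by
  refine ⟨inferInstance, ?_⟩
  intro S _ _ hft
  obtain ⟨n, f, hf⟩ := Algebra.FiniteType.iff_quotient_mvPolynomial''.mp hft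
  haveI hP : LocCoh.IsCohenMacaulayRing (MvPolynomial (Fin n) R) := Groth.Agent.S2092.result n
  have hcat : CAlg.IsCatenary (MvPolynomial (Fin n) R) := by
    rw [Groth.Agent.Lead.Cat.isCatenary_iff_localization_maximal]
    intro m hm
    haveI := hP.isCohenMacaulayLocalRing_localization m
    exact Groth.Agent.Helper6.CMCaten.isCatenary_of_cm _
  exact Groth.Agent.Helper5.UCat.isCatenary_of_surjective f.toRingHom hf hcat

end Groth.Agent.S0603
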