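import Groth.Statements.S9249
import Mathlib
import Groth.Agent.S0547
import Groth.Agent.S0543
import Groth.Agent.Helper1.FlatDepth

set_option autoImplicit false
universe u
open CAlg

namespace Groth.Agent.S9249

/-- A Noetherian local ring is Cohen-Macaulay if and only if its completion is. -/
theorem result (A : Type u) [CommRing A] [IsLocalRing A]
    [IsNoetherianRing A] :
    LocCoh.IsCohenMacaulayLocalRing A ↔
      LocCoh.IsCohenMacaulayLocalRing (AdicCompletion (IsLocalRing.maximalIdeal A) A) := by
  haveI : IsNoetherianRing (AdicCompletion (IsLocalRing.maximalIdeal A) A) :=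
    Groth.Agent.S0543.result A _
  have hdim : ringKrullDim (AdicCompletion (IsLocalRing.maximalIdeal A) A) = ringKrullDim A :=
    Groth.Agent.S0547.result A
  have hdepth : LocCoh.depth (AdicCompletion (IsLocalRing.maximalIdeal A) A)
      (AdicCompletion (IsLocalRing.maximalIdeal A) A) = LocCoh.depth A A :=
    Groth.Agent.Helper1.FlatDepth.depth_eq (R := A)
      (S := AdicCompletion (IsLocalRing.maximalIdeal A) A)
      (AdicCompletion.maximalIdeal_eq_map).symm
  constructor
  · intro h
    refine { supportDim_eq_depth := ?_ }
    rw [Module.supportDim_self_eq_ringKrullDim, hdim, hdepth,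
      ← Module.supportDim_self_eq_ringKrullDim]
    exact h.supportDim_eq_depth
  · intro h
    refine { supportDim_eq_depth := ?_ }
    rw [Module.supportDim_self_eq_ringKrullDim, ← hdim, ← hdepth,
      ← Module.supportDim_self_eq_ringKrullDim]
    exact h.supportDim_eq_depth

end Groth.Agent.S9249
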