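import Groth.Statements.S9126
import Groth.Agent.Helper6.Caten4
import Mathlib

set_option autoImplicit false
universe u
open CAlg

namespace Groth.Agent.S9126


/-- An algebra essentially of finite type over a Noetherian universally catenary ring is universally
catenary. -/
theorem result (A : Type u) [CommRing A] (B : Type u) [CommRing B]
    [Algebra A B] [Algebra.EssFiniteType A B]
    (hA : CAlg.IsUniversallyCatenary A) : CAlg.IsUniversallyCatenary B := by

  obtain ⟨hAN, hAc⟩ := hA
  have hBN : IsNoetherianRing B := by
    obtain ⟨B₀, M, hB₀, hloc⟩ := (Algebra.essFiniteType_iff_exists_subalgebra A B).mp inferInstance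
    haveI : IsNoetherianRing B₀ := Algebra.FiniteType.isNoetherianRing A B₀
    exact IsLocalization.isNoetherianRing M B inferInstance
  refine ⟨hBN, ?_⟩
  intro C _ _ hC
  letI : Algebra A C := ((algebraMap B C).comp (algebraMap A B)).toAlgebra
  haveI : IsScalarTower A B C := IsScalarTower.of_algebraMap_eq fun _ => rfl
  haveI : Algebra.EssFiniteType B C := inferInstance
  haveI : Algebra.EssFiniteType A C := Algebra.EssFiniteType.comp A B C
  obtain ⟨C₀, M, hC₀, hloc⟩ := (Algebra.essFiniteType_iff_exists_subalgebra A C).mp inferInstance
  exact Groth.Agent.Helper6.Caten.isCatenary_of_isLocalization M (hAc C₀ hC₀)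

end Groth.Agent.S9126
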