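import Groth.Statements.S12153
import Groth.Agent.Helper1.IM10

set_option autoImplicit false
universe u
open CategoryTheory CategoryTheory.Limits AlgebraicGeometry TopologicalSpace Opposite
open scoped HomogeneousIdeal
noncomputable section
open EGA2

namespace Groth.Agent.S12153

/-- Let q : X → Y be a morphism, L an invertible O_X-module with 𝒮L = ⊕ L^{⊗n} (whose Proj, with its
charts, is X), v : 𝒯 → 𝒮 a graded homomorphism of quasi-coherent positively graded O_Y-algebras, ψ♭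
= u : 𝒮 → q_*𝒮L a graded q-morphism and ψ'♭ = u' its composite with v; let r = r_{L,ψ} : G(ψ) →
Proj(𝒮) and r' = r_{L,ψ'} : G(ψ') → Proj(𝒯). If r' is everywhere defined and an immersion, then r is
everywhere defined and an immersion. -/
theorem result {Y X P PL P' : Scheme.{u}} (q : X ⟶ Y)
    (L : X.Modules) (hL : PicF.IsInvertible L) (hLq : Coh.IsQCoh L)
    (𝒮 : RelProj.QCGrAlg Y) (𝒮L : RelProj.QCGrAlg X) (j : L ⟶ 𝒮L.toModule) (hj : RelProj.IsGrSymAlg L 𝒮L j)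
    (u : RelProj.QGrHom q 𝒮 𝒮L)
    (p : P ⟶ Y) (chart : ∀ (U : Y.Opens) (hU : IsAffineOpen U), (((p ⁻¹ᵁ U : P.Opens) : Scheme.{u}) ≅ Proj (𝒮.deg U hU)))
    (hP : RelProj.IsRelProj 𝒮 p chart)
    (pL : PL ⟶ X) (chartL : ∀ (U : X.Opens) (hU : IsAffineOpen U), (((pL ⁻¹ᵁ U : PL.Opens) : Scheme.{u}) ≅ Proj (𝒮L.deg U hU)))
    (hPL : RelProj.IsRelProj 𝒮L pL chartL)
    (r : ((RelProj.domQ u pL chartL : PL.Opens) : Scheme.{u}) ⟶ P)
    (hr : RelProj.IsProjQMapOn u p chart pL chartL (RelProj.domQ u pL chartL) r)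
    (𝒯 : RelProj.QCGrAlg Y) (v : 𝒯.toQCAlg ⟶ 𝒮.toQCAlg) (hv : RelProj.IsGradedHom v)
    (u' : RelProj.QGrHom q 𝒯 𝒮L) (hu' : ∀ U : Y.Opens, u'.app U = v.hom.app (op U) ≫ u.app U)
    (p' : P' ⟶ Y) (chart' : ∀ (U : Y.Opens) (hU : IsAffineOpen U), (((p' ⁻¹ᵁ U : P'.Opens) : Scheme.{u}) ≅ Proj (𝒯.deg U hU)))
    (hP' : RelProj.IsRelProj 𝒯 p' chart')
    (r' : ((RelProj.domQ u' pL chartL : PL.Opens) : Scheme.{u}) ⟶ P')
    (hr' : RelProj.IsProjQMapOn u' p' chart' pL chartL (RelProj.domQ u' pL chartL) r')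
    (hdef : RelProj.domQ u' pL chartL = ⊤) (himm : IsImmersion r') :
    RelProj.domQ u pL chartL = ⊤ ∧ IsImmersion r := by
  haveI : L.IsQuasicoherent := hLq
  haveI := himm
  have hcover : ∀ x : X, ∃ (U : Y.Opens) (hU : IsAffineOpen U) (n : ℕ) (_ : 0 < n)
      (t : 𝒯.presheaf.obj (op U)) (ht : t ∈ 𝒯.deg U hU n),
      RelProj.emb p' chart' U hU ''ᵁ Proj.basicOpen (𝒯.deg U hU) t ≤ r'.coborderRange ∧
        x ∈ Groth.Agent.Helper1.PT.Xw (Groth.Agent.Helper1.PT.famOf u' U hU t ht) :=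
    fun x => Groth.Agent.Helper1.IM.exists_mem_Xw' u' hj hL hP' hPL hr' hdef r'.coborderRange
      (fun z => subset_coborder ⟨z, rfl⟩) x
  have hdom : RelProj.domQ u pL chartL = ⊤ := by
    apply Groth.Agent.Helper1.IM.domQ_eq_top_of_cover u hj hL hPL
    intro x
    obtain ⟨U, hU, n, hn, t, ht, -, hx⟩ := hcover x
    refine ⟨U, hU, n, hn, (v.hom.app (op U)).hom t, hv U hU n t ht, ?_⟩
    rw [← Groth.Agent.Helper1.IM.famOf_comp u v u' hu' U hU t ht (hv U hU n t ht)]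
    exact hx
  refine ⟨hdom, ?_⟩
  let ι : Type u := Σ (U : {U : Y.Opens // IsAffineOpen U}), Σ (d : ℕ),
    {t : 𝒯.presheaf.obj (op U.1) // 0 < d ∧ t ∈ 𝒯.deg U.1 U.2 d ∧
      RelProj.emb p' chart' U.1 U.2 ''ᵁ Proj.basicOpen (𝒯.deg U.1 U.2) t ≤ r'.coborderRange}
  choose hV hXw hsurj using fun a : ι =>
    Groth.Agent.Helper1.IM.comp_chart_closed u v hv u' hu' hj hL hP' hPL hr' a.1.1 a.1.2
      a.2.2.2.1 a.2.2.1 a.2.2.2.2.1 a.2.2.2.2.2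
  apply Groth.Agent.Helper1.IM.isImmersion_of_charts r
    (fun a : ι => Spec.map (CommRingCat.ofHom
      (HomogeneousLocalization.Away.map (u.gradedAt a.1.1 a.1.2 _ (hV a)
        (Groth.Agent.Helper1.PT.Xw_le _)) ((v.hom.app (op a.1.1)).hom a.2.2.1))))
    (fun a : ι => Groth.Agent.Helper1.RP.liftEmb u pL chartL a.1.1 a.1.2 _ (hV a)
      (Groth.Agent.Helper1.PT.Xw_le _) a.2.2.2.1 ((v.hom.app (op a.1.1)).hom a.2.2.1)
      (hv a.1.1 a.1.2 a.2.1 a.2.2.1 a.2.2.2.2.1))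
    (fun a : ι => Proj.awayι (𝒮.deg a.1.1 a.1.2) ((v.hom.app (op a.1.1)).hom a.2.2.1)
      (hv a.1.1 a.1.2 a.2.1 a.2.2.1 a.2.2.2.2.1) a.2.2.2.1 ≫ RelProj.emb p chart a.1.1 a.1.2)
  · intro a
    exact Groth.Agent.Helper1.RP.liftEmb_r hr a.1.1 a.1.2 _ (hV a) _ a.2.2.2.1 _ _
  · intro a
    exact Groth.Agent.Helper1.IM.preimage_chart u hj hL hP hPL hr a.1.1 a.1.2 a.2.2.2.1 _
      (hv a.1.1 a.1.2 a.2.1 a.2.2.1 a.2.2.2.2.1) _ (hV a) _ (hXw a)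
  · intro x
    have key : ∀ a : ι, pL ((RelProj.domQ u pL chartL).ι x) ∈ Groth.Agent.Helper1.PT.Xw
        (Groth.Agent.Helper1.PT.famOf u' a.1.1 a.1.2 a.2.2.1 a.2.2.2.2.1) →
        x ∈ (Groth.Agent.Helper1.RP.liftEmb u pL chartL a.1.1 a.1.2 _ (hV a)
          (Groth.Agent.Helper1.PT.Xw_le _) a.2.2.2.1 ((v.hom.app (op a.1.1)).hom a.2.2.1)
          (hv a.1.1 a.1.2 a.2.1 a.2.2.1 a.2.2.2.2.1)).opensRange := by
      intro a hx
      exact Groth.Agent.Helper1.IM.mem_opensRange_liftEmb u hj hL hP hPL hr a.1.1 a.1.2 a.2.2.2.1 _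
        (hv a.1.1 a.1.2 a.2.1 a.2.2.1 a.2.2.2.2.1) _ (hV a) _ (hXw a) x hx
    have h0 := hcover (pL ((RelProj.domQ u pL chartL).ι x))
    obtain ⟨U, hU, n, hn, t, ht, hC, hx⟩ := h0
    refine ⟨⟨⟨U, hU⟩, n, t, hn, ht, hC⟩, ?_⟩
    have h1 := key ⟨⟨U, hU⟩, n, t, hn, ht, hC⟩
    have h2 := h1 hx
    exact h2
  · intro a
    exact IsClosedImmersion.spec_of_surjective _ (hsurj a)

end Groth.Agent.S12153
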