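import Groth.Statements.S5729
import Groth.Agent.Helper4.SN297
import Groth.Agent.Helper4.SN298
import Groth.Agent.Helper1.SG10
import Groth.Agent.Helper1.RPP3
import Mathlib

set_option autoImplicit false
universe u
open CategoryTheory CategoryTheory.Limits AlgebraicGeometry TopologicalSpace Opposite
open scoped HomogeneousIdeal
open EGA2

namespace Groth.Agent.S5729


/-- For a morphism f : X → Y the following are equivalent: (a) there are a quasi-coherent O_Y-module E
of finite type, its graded symmetric algebra 𝒯 with projective bundle p : P(E) = Proj(𝒯) → Y (given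
with its charts over affine opens), and a closed immersion i : X → P(E) with i ≫ p = f; (b) f is
projective in the sense that X is isomorphic over Y to the relative homogeneous spectrum of some
quasi-coherent graded O_Y-algebra generated by its degree-one part, that part being of finite type. -/
theorem result {X Y : Scheme.{u}} (f : X ⟶ Y) :
    RelProj.IsProjective f ↔
      ∃ (E : Y.Modules) (𝒯 : RelProj.QCGrAlg Y) (j : E ⟶ 𝒯.toModule) (P : Scheme.{u}) (p : P ⟶ Y)
        (chart : ∀ (U : Y.Opens) (hU : IsAffineOpen U), ((p ⁻¹ᵁ U : P.Opens) : Scheme.{u}) ≅ Proj (𝒯.deg U hU))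
        (i : X ⟶ P),
        Coh.IsQCoh E ∧ CohB1.IsFT E ∧ RelProj.IsGrSymAlg E 𝒯 j ∧ RelProj.IsRelProj 𝒯 p chart ∧
          IsClosedImmersion i ∧ i ≫ p = f := by

  constructor
  · rintro ⟨𝒮, P, p, chart, e, hgen, hft, hP, he⟩
    have hsym := Groth.Agent.Helper1.SY.isSymAlg_symAlg (Groth.Agent.Helper1.SG.degMod 𝒮 1)
    have hj := Groth.Agent.Helper1.SG.isGrSymAlg_grAlg hsym
    obtain ⟨PT, pT, chartT, hPT⟩ := Groth.Agent.S8258.result (Groth.Agent.Helper1.SG.grAlg hsym)
    obtain ⟨h, hcl, hcomm, -⟩ :=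
      Groth.Agent.Helper1.SG.exists_closedImmersion_degOne hgen hj hP hPT
    haveI := hcl
    refine ⟨Groth.Agent.Helper1.SG.degMod 𝒮 1, Groth.Agent.Helper1.SG.grAlg hsym,
      Groth.Agent.Helper1.SY.symJ _, PT, pT, chartT, e.hom ≫ h, inferInstance,
      Groth.Agent.Helper4.SN298.isFT_degMod 𝒮 1 hft, hj, hPT, inferInstance, ?_⟩
    rw [Category.assoc, hcomm, he]
  · rintro ⟨E, 𝒯, j, P, p, chart, i, hq, hft, hj, hP, hi, hip⟩
    haveI : E.IsQuasicoherent := hq
    haveI := hi
    have hgenT := Groth.Agent.Helper1.SG.isGenDegOne hj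
    have hftT := Groth.Agent.Helper4.SN298.isFTDeg_one_of_isFT hft hj
    haveI : IsProper p := Groth.Agent.Helper1.RPP.isProper_of_isRelProj 𝒯 hgenT hftT p chart hP
    obtain ⟨ℬ, φ, hφ, PB, pB, chartB, h, e, hdeg, hsurj, hB, hh, he⟩ :=
      Groth.Agent.Helper4.SN297.main hP i
    refine ⟨ℬ, PB, pB, chartB, e.symm,
      Groth.Agent.Helper4.SN298.isGenDegOne_of_surjective φ hφ hsurj hgenT,
      Groth.Agent.Helper4.SN298.isFTDeg_of_surjective φ hφ hdeg 1 hftT, hB, ?_⟩
    have hcomm : h ≫ p = pB := Groth.Agent.Helper1.RP.projQMap_comm hP hB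
      (Groth.Agent.Helper4.SN297.hdom_of φ hφ hdeg) h hh
    rw [Iso.symm_hom, Iso.inv_comp_eq, ← hcomm, ← he, Category.assoc, hip]

end Groth.Agent.S5729
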