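import Groth.Statements.S0542
import Groth.Agent.Helper1.CompleteNoeth

set_option autoImplicit false
universe u
open CAlg

namespace Groth.Agent.S0542

/-- If `I` is a finitely generated ideal of a ring `R` and `R/I` is Noetherian, then the `I`-adic
completion of `R` is a Noetherian ring. (The source also states completeness of the completion along
the extended ideal, which Mathlib already has; only Noetherianity is stated here.) -/
theorem result (R : Type u) [CommRing R] (I : Ideal R)
    (hI : I.FG) [IsNoetherianRing (R ⧸ I)] : IsNoetherianRing (AdicCompletion I R) := by
  haveI := AdicCompletion.isAdicComplete_self I hI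
  haveI : IsNoetherianRing (AdicCompletion I R ⧸ I.map (algebraMap R (AdicCompletion I R))) := by
    rw [← AdicCompletion.ker_evalOneₐ_eq_map I hI]
    exact isNoetherianRing_of_ringEquiv _
      (RingHom.quotientKerEquivOfSurjective (AdicCompletion.evalOneₐ_surjective I)).symm
  exact Helper1.CompleteNoeth.isNoetherianRing_of_isAdicComplete
    (I.map (algebraMap R (AdicCompletion I R))) (hI.map _)

end Groth.Agent.S0542
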