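import Groth.Statements.S8863
import Mathlib

set_option autoImplicit false
universe u
open CategoryTheory CategoryTheory.Limits AlgebraicGeometry TopologicalSpace
open SDiv

namespace Groth.Agent.S8863

/-- In a Noetherian ring `A`, if `a/1` is a nonzerodivisor in `A_p`, there is `t ∉ p` killing the
annihilator of `a`. -/
theorem exists_kill_ann {A : Type*} [CommRing A] [IsNoetherianRing A] (P : Ideal A) [P.IsPrime]
    (R : Type*) [CommRing R] [Algebra A R] [IsLocalization.AtPrime R P] (a : A)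
    (ha : algebraMap A R a ∈ nonZeroDivisors R) :
    ∃ t : A, t ∉ P ∧ ∀ k : A, k * a = 0 → t * k = 0 := by
  classical
  set K : Ideal A := LinearMap.ker (LinearMap.toSpanSingleton A A a) with hK
  have hKmem : ∀ k, k ∈ K ↔ k * a = 0 := by
    intro k; rw [hK, LinearMap.mem_ker, LinearMap.toSpanSingleton_apply, smul_eq_mul]
  obtain ⟨S, hS⟩ : K.FG := IsNoetherian.noetherian K
  have hex : ∀ k : A, k ∈ K → ∃ t : A, t ∉ P ∧ t * k = 0 := by
    intro k hk
    rw [hKmem] at hk
    have h1 : algebraMap A R k * algebraMap A R a = 0 := by rw [← map_mul, hk, map_zero]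
    have h2 : algebraMap A R k = 0 := (mem_nonZeroDivisors_iff_right.mp ha) _ h1
    rw [IsLocalization.map_eq_zero_iff P.primeCompl] at h2
    obtain ⟨m, hm⟩ := h2
    exact ⟨m.1, m.2, hm⟩
  choose! τ hτ using hex
  refine ⟨∏ k ∈ S, τ k, ?_, ?_⟩
  · intro hmem
    rw [Ideal.IsPrime.prod_mem_iff] at hmem
    obtain ⟨k, hkS, hk⟩ := hmem
    have : k ∈ K := by rw [← hS]; exact Ideal.subset_span hkS
    exact (hτ k this).1 hk
  · intro k hk
    have hk' : k ∈ K := (hKmem k).mpr hk
    set T := ∏ k ∈ S, τ k with hT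
    have hle : K ≤ LinearMap.ker (LinearMap.toSpanSingleton A A T) := by
      rw [← hS, Ideal.span_le]
      intro k hkS
      have hkK : k ∈ K := by rw [← hS]; exact Ideal.subset_span hkS
      rw [SetLike.mem_coe, LinearMap.mem_ker, LinearMap.toSpanSingleton_apply, smul_eq_mul]
      obtain ⟨c, hc⟩ := Finset.dvd_prod_of_mem τ hkS
      rw [← hT] at hc
      rw [hc, mul_comm (τ k) c, ← mul_assoc, mul_comm k c, mul_assoc, mul_comm k (τ k), (hτ k hkK).2,
        mul_zero]
    have := hle hk'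
    rw [LinearMap.mem_ker, LinearMap.toSpanSingleton_apply, smul_eq_mul, mul_comm] at this
    exact this

/-- Let X be a locally Noetherian scheme and x a point of X. Then the monoid S_x of germs at x of
regular sections of O_X (sections whose germ at every point of their open of definition is a
nonzerodivisor) is the whole monoid of nonzerodivisors of O_{X,x}; consequently K_{X,x} is the total
ring of fractions of O_{X,x}. -/
theorem result (X : Scheme.{u}) [IsLocallyNoetherian X] (x : ↥X) :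
    Mero.regStalk X x = nonZeroDivisors ↑(X.presheaf.stalk x) := by
  apply le_antisymm (Mero.regStalk_le_nonZeroDivisors x)
  intro u hu
  obtain ⟨W, hxW, a0, rfl⟩ := TopCat.Presheaf.exists_germ_eq X.presheaf u
  obtain ⟨_, ⟨V, hV, rfl⟩, hxV, hVW⟩ := X.isBasis_affineOpens.exists_subset_of_mem_open hxW W.2
  set a : Γ(X, V) := X.presheaf.map (homOfLE hVW).op a0 with ha
  have hgerm : X.presheaf.germ W x hxW a0 = X.presheaf.germ V x hxV a :=
    (TopCat.Presheaf.germ_res_apply X.presheaf (homOfLE hVW) x hxV a0).symm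
  rw [hgerm] at hu ⊢
  have : IsNoetherianRing Γ(X, V) := IsLocallyNoetherian.component_noetherian ⟨V, hV⟩
  let _ := X.presheaf.algebra_section_stalk ⟨x, hxV⟩
  have := hV.isLocalization_stalk ⟨x, hxV⟩
  obtain ⟨t, htP, ht⟩ := exists_kill_ann (hV.primeIdealOf ⟨x, hxV⟩).asIdeal (X.presheaf.stalk x) a hu
  have hxt : x ∈ X.basicOpen t := by
    rw [X.mem_basicOpen t x hxV]
    exact (IsLocalization.AtPrime.isUnit_to_map_iff (X.presheaf.stalk x)
      (hV.primeIdealOf ⟨x, hxV⟩).asIdeal t).mpr htP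
  refine ⟨X.basicOpen t, hxt, X.presheaf.map (homOfLE (X.basicOpen_le t)).op a, ?_,
    TopCat.Presheaf.germ_res_apply X.presheaf (homOfLE (X.basicOpen_le t)) x hxt a⟩
  rintro ⟨y, hy⟩
  change X.presheaf.germ (X.basicOpen t) y hy (X.presheaf.map (homOfLE (X.basicOpen_le t)).op a) ∈ _
  have hyV : y ∈ V := X.basicOpen_le t hy
  rw [TopCat.Presheaf.germ_res_apply X.presheaf (homOfLE (X.basicOpen_le t)) y hy a]
  let _ := X.presheaf.algebra_section_stalk ⟨y, hyV⟩
  have := hV.isLocalization_stalk ⟨y, hyV⟩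
  have htq : t ∈ (hV.primeIdealOf ⟨y, hyV⟩).asIdeal.primeCompl := by
    rw [← IsLocalization.AtPrime.isUnit_to_map_iff (X.presheaf.stalk y)
      (hV.primeIdealOf ⟨y, hyV⟩).asIdeal t]
    exact (X.mem_basicOpen t y hyV).mp hy
  change algebraMap Γ(X, V) (X.presheaf.stalk y) a ∈ _
  rw [mem_nonZeroDivisors_iff_right]
  intro z hz
  obtain ⟨b, s, rfl⟩ := IsLocalization.exists_mk'_eq (hV.primeIdealOf ⟨y, hyV⟩).asIdeal.primeCompl z
  have h1 : IsLocalization.mk' (X.presheaf.stalk y) b s * algebraMap Γ(X, V) (X.presheaf.stalk y) a =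
      IsLocalization.mk' (X.presheaf.stalk y) (b * a) s := by
    rw [mul_comm, IsLocalization.mul_mk'_eq_mk'_of_mul, mul_comm]
  rw [h1, IsLocalization.mk'_eq_zero_iff] at hz
  obtain ⟨m, hm⟩ := hz
  rw [IsLocalization.mk'_eq_zero_iff]
  refine ⟨⟨t, htq⟩ * m, ?_⟩
  have := ht (m.1 * b) (by rw [mul_assoc]; exact hm)
  rw [Submonoid.coe_mul, mul_assoc]
  exact this

end Groth.Agent.S8863
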