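import Groth.Statements.S1354
import Groth.Agent.Helper3.QFMulti
import Groth.Agent.Helper3.QFSch
import Groth.Agent.Helper3.QFRes
import Mathlib

set_option autoImplicit false
universe u
open FlatMor

namespace Groth.Agent.S1354


open AlgebraicGeometry CategoryTheory Limits in
/-- Let f be locally of finite type, s a point of the target, and x_1, ..., x_n points over s at each of
which f is quasi-finite. Then there are an elementary étale neighbourhood (U, u) of (S, s) and, for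
each i, an open V_i of the base change of X to U which is finite over U, has exactly one point v_i
over u, and v_i maps to x_i inducing a bijection of residue fields. -/
theorem result {X S : Scheme.{u}} (f : X ⟶ S) [LocallyOfFiniteType f] (s : S) {ι : Type} [Finite ι]
    (x : ι → ↑X) (hs : ∀ i, f (x i) = s) (hx : ∀ i, f.QuasiFiniteAt (x i)) :
    ∃ (U : Scheme.{u}) (g : U ⟶ S) (u : U), Hens2.IsEtaleNbhd g u s ∧
      ∃ (V : ι → (pullback f g).Opens) (v : ι → ↑(pullback f g)), ∀ i, v i ∈ V i ∧ IsFinite ((V i).ι ≫ pullback.snd f g) ∧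
        pullback.snd f g (v i) = u ∧ (∀ w : ↑(pullback f g), w ∈ V i → pullback.snd f g w = u → w = v i) ∧
        pullback.fst f g (v i) = x i ∧ Function.Bijective ((pullback.fst f g).residueFieldMap (v i)) := by

  classical
  obtain ⟨_, ⟨S₀, hS₀, rfl⟩, hsS₀, -⟩ := S.isBasis_affineOpens.exists_subset_of_mem_open
    (Set.mem_univ s) isOpen_univ
  replace hS₀ : IsAffineOpen S₀ := hS₀
  replace hsS₀ : s ∈ S₀ := hsS₀
  haveI := hS₀.isOpenImmersion_fromSpec
  have hW : ∀ i, ∃ W : X.Opens, IsAffineOpen W ∧ x i ∈ W ∧ W ≤ f ⁻¹ᵁ S₀ := by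
    intro i
    have hxS₀ : x i ∈ f ⁻¹ᵁ S₀ := by
      show f (x i) ∈ S₀
      rw [hs i]; exact hsS₀
    obtain ⟨_, ⟨W, hW, rfl⟩, hxW, hWS⟩ :=
      X.isBasis_affineOpens.exists_subset_of_mem_open hxS₀ (f ⁻¹ᵁ S₀).2
    exact ⟨W, hW, hxW, hWS⟩
  choose W hW hxW hWS using hW
  letI algC : ∀ i, Algebra Γ(S, S₀) Γ(X, W i) := fun i => (f.appLE S₀ (W i) (hWS i)).hom.toAlgebra
  haveI : ∀ i, Algebra.FiniteType Γ(S, S₀) Γ(X, W i) := fun i =>
    f.finiteType_appLE hS₀ (hW i) (hWS i)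
  let p := (hS₀.primeIdealOf ⟨s, hsS₀⟩).asIdeal
  let q : ∀ i, Ideal Γ(X, W i) := fun i => ((hW i).primeIdealOf ⟨x i, hxW i⟩).asIdeal
  haveI : p.IsPrime := (hS₀.primeIdealOf ⟨s, hsS₀⟩).isPrime
  haveI : ∀ i, (q i).IsPrime := fun i => ((hW i).primeIdealOf ⟨x i, hxW i⟩).isPrime
  haveI : ∀ i, (q i).LiesOver p := fun i => by
    have h1 := Groth.Agent.Helper3.QFSch.liesOver_primeIdealOf f hS₀ (hW i) (hWS i) (x i) (hxW i)
    have h2 : hS₀.primeIdealOf ⟨f (x i), hWS i (hxW i)⟩ = hS₀.primeIdealOf ⟨s, hsS₀⟩ := by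
      congr 1
      exact Subtype.ext (hs i)
    rw [h2] at h1
    exact h1
  haveI : ∀ i, Algebra.QuasiFiniteAt Γ(S, S₀) (q i) := fun i =>
    (hx i).quasiFiniteAt (hW i) hS₀ (hWS i) (hxW i)
  obtain ⟨R', _, _, _, P, _, _, hb, he⟩ :=
    Groth.Agent.Helper3.QFMulti.exists_pieces_family' Γ(S, S₀) p (fun i => Γ(X, W i)) q
  let ψ : Γ(S, S₀) ⟶ CommRingCat.of R' := CommRingCat.ofHom (algebraMap Γ(S, S₀) R')
  have hψ : ψ.hom.Etale := RingHom.etale_algebraMap.mpr inferInstance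
  haveI : Etale (Spec.map ψ) := HasRingHomProperty.Spec_iff.mpr hψ
  let g : Spec (CommRingCat.of R') ⟶ S := Spec.map ψ ≫ hS₀.fromSpec
  haveI : Etale g := inferInstance
  let u : Spec (CommRingCat.of R') := ⟨P, inferInstance⟩
  have hu : g u = s := by
    have h1 : (Spec.map ψ) u = hS₀.primeIdealOf ⟨s, hsS₀⟩ := by
      apply PrimeSpectrum.ext
      exact (Ideal.over_def P p).symm
    change hS₀.fromSpec ((Spec.map ψ) u) = s
    rw [h1]
    exact hS₀.fromSpec_primeIdealOf ⟨s, hsS₀⟩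
  have TRE := Groth.Agent.Helper3.QFRes.tre_of_bijective p P hb
  have hV : ∀ i, ∃ V : (pullback f g).Opens, IsFinite (V.ι ≫ pullback.snd f g) ∧
      ∀ w : ↑(pullback f g), pullback.snd f g w = u → (w ∈ V ↔ pullback.fst f g w = x i) :=
    fun i => Groth.Agent.Helper3.QFSch.chart_piece f hS₀ (hW i) (hWS i) R' P (x i) (hxW i) (he i)
  choose V hVfin hVchar using hV
  have hv : ∀ i, ∃ v : ↑(pullback f g), pullback.fst f g v = x i ∧ pullback.snd f g v = u :=
    fun i => Scheme.Pullback.exists_preimage_pullback (x i) u ((hs i).trans hu.symm)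
  choose v hvx hvu using hv
  refine ⟨Spec (CommRingCat.of R'), g, u, ⟨inferInstance, hu, ?_⟩, V, v, fun i => ?_⟩
  · refine ⟨(g.residueFieldMap u).hom.injective, ?_⟩
    exact Groth.Agent.Helper3.QFSch.residue_g hS₀ R' u TRE
  · refine ⟨(hVchar i (v i) (hvu i)).mpr (hvx i), hVfin i, hvu i, ?_, hvx i, ?_⟩
    · intro w hwV hwu
      have hwx : pullback.fst f g w = x i := (hVchar i w hwu).mp hwV
      exact Groth.Agent.Helper3.QFSch.chart_unique f hS₀ (hW i) (hWS i) R' p P hb w (v i) hwu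
        (hvu i) (by rw [hwx]; exact hxW i) (hwx.trans (hvx i).symm)
    · refine ⟨((pullback.fst f g).residueFieldMap (v i)).hom.injective, ?_⟩
      exact Groth.Agent.Helper3.QFSch.chart_residue f hS₀ (hW i) (hWS i) R' P TRE (v i) (hvu i)
        (by rw [hvx i]; exact hxW i)

end Groth.Agent.S1354
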