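import Groth.Statements.S1567
import Mathlib

set_option autoImplicit false
universe u
open CategoryTheory CategoryTheory.Limits AlgebraicGeometry
open Divisors

namespace Groth.Agent.S1567

theorem mem_basicOpen_iff_notMem_primeIdealOf {X : Scheme.{u}} {U : X.Opens} (hU : IsAffineOpen U)
    (x : X) (hx : x ∈ U) (g : Γ(X, U)) :
    x ∈ X.basicOpen g ↔ g ∉ (hU.primeIdealOf ⟨x, hx⟩).asIdeal := by
  have h1 : hU.primeIdealOf ⟨x, hx⟩ ∈ hU.fromSpec ⁻¹ᵁ (X.basicOpen g) ↔
      g ∉ (hU.primeIdealOf ⟨x, hx⟩).asIdeal := by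
    rw [hU.fromSpec_preimage_basicOpen]
    rfl
  rw [← h1]
  change _ ↔ hU.fromSpec (hU.primeIdealOf ⟨x, hx⟩) ∈ X.basicOpen g
  rw [hU.fromSpec_primeIdealOf]

theorem mem_zeroLocus_iff_le_primeIdealOf {X : Scheme.{u}} {U : X.Opens} (hU : IsAffineOpen U)
    (x : X) (hx : x ∈ U) (I : Ideal Γ(X, U)) :
    x ∈ X.zeroLocus (U := U) I ↔ I ≤ (hU.primeIdealOf ⟨x, hx⟩).asIdeal := by
  rw [Scheme.mem_zeroLocus_iff]
  constructor
  · intro h f hf
    by_contra hfp
    exact h f hf ((mem_basicOpen_iff_notMem_primeIdealOf hU x hx f).mpr hfp)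
  · intro h f hf hxf
    exact (mem_basicOpen_iff_notMem_primeIdealOf hU x hx f).mp hxf (h hf)

theorem primeIdealOf_fromSpec {X : Scheme.{u}} {U : X.Opens} (hU : IsAffineOpen U)
    (y : PrimeSpectrum Γ(X, U)) (hy : hU.fromSpec y ∈ U) :
    hU.primeIdealOf ⟨hU.fromSpec y, hy⟩ = y := by
  apply hU.fromSpec.isOpenEmbedding.injective
  rw [hU.fromSpec_primeIdealOf]

theorem fromSpec_mem {X : Scheme.{u}} {U : X.Opens} (hU : IsAffineOpen U)
    (y : PrimeSpectrum Γ(X, U)) : hU.fromSpec y ∈ U := by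
  have : hU.fromSpec y ∈ hU.fromSpec.opensRange := ⟨y, rfl⟩
  rwa [hU.opensRange_fromSpec] at this

/-- `ξ ∈ U` affine, maximal under generization in `support D`: its prime is minimal over `D.ideal U`. -/
theorem primeIdealOf_mem_minimalPrimes {X : Scheme.{u}} (D : X.IdealSheafData) (U : X.affineOpens)
    (ξ : X) (hξU : ξ ∈ U.1) (hξ : ξ ∈ (D.support : Set X))
    (hgen : ∀ y ∈ (D.support : Set X), y ⤳ ξ → y = ξ) :
    (U.2.primeIdealOf ⟨ξ, hξU⟩).asIdeal ∈ (D.ideal U).minimalPrimes := by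
  have hU := U.2
  refine ⟨⟨inferInstance, ?_⟩, ?_⟩
  · rw [← mem_zeroLocus_iff_le_primeIdealOf hU ξ hξU]
    exact (D.mem_support_iff_of_mem (U := U) hξU).mp hξ
  · rintro q ⟨hqprime, hDq⟩ hqp
    let y : PrimeSpectrum Γ(X, U.1) := ⟨q, hqprime⟩
    have hyU : hU.fromSpec y ∈ U.1 := fromSpec_mem hU y
    have hysupp : hU.fromSpec y ∈ (D.support : Set X) := by
      rw [SetLike.mem_coe, D.mem_support_iff_of_mem (U := U) hyU,
        mem_zeroLocus_iff_le_primeIdealOf hU _ hyU, primeIdealOf_fromSpec hU y hyU]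
      exact hDq
    have hspec : hU.fromSpec y ⤳ ξ := by
      have h1 : y ⤳ hU.primeIdealOf ⟨ξ, hξU⟩ :=
        (PrimeSpectrum.le_iff_specializes _ _).mp hqp
      have h2 := h1.map hU.fromSpec.continuous
      rwa [hU.fromSpec_primeIdealOf] at h2
    have hyξ := hgen _ hysupp hspec
    have : y = hU.primeIdealOf ⟨ξ, hξU⟩ := by
      apply hU.fromSpec.isOpenEmbedding.injective
      rw [hU.fromSpec_primeIdealOf]; exact hyξ
    rw [← this]

/-- Let X be locally Noetherian and D a locally principal closed subscheme. At a point ξ of D that is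
maximal in D under generisation (a generic point of a component of D), the local ring of X has
dimension at most one. -/
theorem result (X : Scheme.{u}) [IsLocallyNoetherian X]
    (D : X.IdealSheafData) (hD : Curv2.IsLocPrincipal D) (ξ : X)
    (hξ : ξ ∈ (D.support : Set X)) (hgen : ∀ y ∈ (D.support : Set X), y ⤳ ξ → y = ξ) :
    ringKrullDim (X.presheaf.stalk ξ) ≤ 1 := by
  obtain ⟨U, hξU, g, hg⟩ := hD ξ hξ
  have : IsNoetherianRing Γ(X, U.1) := IsLocallyNoetherian.component_noetherian U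
  have hmin := primeIdealOf_mem_minimalPrimes D U ξ hξU hξ hgen
  rw [hg] at hmin
  have hht := Ideal.height_le_one_of_isPrincipal_of_mem_minimalPrimes _ _ hmin
  let _ := X.presheaf.algebra_section_stalk ⟨ξ, hξU⟩
  have := U.2.isLocalization_stalk ⟨ξ, hξU⟩
  rw [IsLocalization.AtPrime.ringKrullDim_eq_height (U.2.primeIdealOf ⟨ξ, hξU⟩).asIdeal
    (X.presheaf.stalk ξ)]
  exact_mod_cast hht

end Groth.Agent.S1567
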