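import Groth.Statements.S8925
import Mathlib

set_option autoImplicit false
universe u
open InjHull

namespace Groth.Agent.S8925

open TensorProduct

/-- If S is a flat R-algebra and E is an injective S-module, then E, viewed as an R-module by
restriction of scalars, is an injective R-module. -/
theorem result (R S : Type u) [CommRing R] [CommRing S] [Algebra R S] [Module.Flat R S] (E : Type u) [AddCommGroup E] [Module S E] [Module R E] [IsScalarTower R S E] [Module.Injective S E] : Module.Injective R E := by
  apply Module.Baer.injective
  intro I g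
  -- the `S`-linear map `S ⊗ I → E`
  let G : S ⊗[R] I →ₗ[S] E := LinearMap.liftBaseChange S g
  let ι : S ⊗[R] I →ₗ[S] S ⊗[R] R := LinearMap.baseChange S I.subtype
  have hι : Function.Injective ι := by
    have : Function.Injective (LinearMap.lTensor S I.subtype) :=
      Module.Flat.lTensor_preserves_injective_linearMap _ Subtype.val_injective
    exact this
  obtain ⟨H, hH⟩ := Module.Injective.extension_property S E _ _ ι hι G
  refine ⟨(H.restrictScalars R).comp (TensorProduct.mk R S R 1), fun x hx => ?_⟩
  have h1 : ι ((1 : S) ⊗ₜ[R] (⟨x, hx⟩ : I)) = (1 : S) ⊗ₜ[R] x := by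
    simp [ι]
  have h2 := congrArg (fun F => F ((1 : S) ⊗ₜ[R] (⟨x, hx⟩ : I))) hH
  simp only [LinearMap.comp_apply] at h2
  rw [h1] at h2
  simp only [LinearMap.comp_apply, LinearMap.restrictScalars_apply, TensorProduct.mk_apply]
  rw [h2]
  simp [G]

end Groth.Agent.S8925
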