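import Groth.Statements.S0305
import Groth.Agent.Lead.InjHull4

set_option autoImplicit false
universe u v
open InjHull

namespace Groth.Agent.S0305

/-- Let R be a commutative ring, p a prime ideal, and E an injective hull of R/p. Then E is
indecomposable, and E is also an injective hull of the residue field κ(p). -/
theorem result (R : Type u) [CommRing R] (p : Ideal R) [p.IsPrime] (E : Type u) [AddCommGroup E] [Module R E] (f : (R ⧸ p) →ₗ[R] E) (hf : InjHull.IsInjectiveHull f) : InjHull.IsIndecomposable R E ∧ ∃ g : p.ResidueField →ₗ[R] E, InjHull.IsInjectiveHull g := by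
  have := hf.isInjective
  constructor
  · refine ⟨hf.injective.nontrivial, fun N N' hNN' => ?_⟩
    by_contra hcon
    push Not at hcon
    obtain ⟨hN, hN'⟩ := hcon
    obtain ⟨x, ⟨hxN, ⟨a, rfl⟩⟩, hx0⟩ := Submodule.exists_mem_ne_zero_of_ne_bot (hf.essential N hN)
    obtain ⟨y, ⟨hyN', ⟨b, rfl⟩⟩, hy0⟩ :=
      Submodule.exists_mem_ne_zero_of_ne_bot (hf.essential N' hN')
    have ha0 : a ≠ 0 := fun h => hx0 (by rw [h, map_zero])
    have hb0 : b ≠ 0 := fun h => hy0 (by rw [h, map_zero])
    obtain ⟨a', rfl⟩ := Ideal.Quotient.mk_surjective a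
    obtain ⟨b', rfl⟩ := Ideal.Quotient.mk_surjective b
    have h1 : f (Ideal.Quotient.mk p (a' * b')) = b' • f (Ideal.Quotient.mk p a') := by
      rw [← map_smul]
      congr 1
      rw [mul_comm]; rfl
    have h2 : f (Ideal.Quotient.mk p (a' * b')) = a' • f (Ideal.Quotient.mk p b') := by
      rw [← map_smul]
      congr 1
    have hmem : f (Ideal.Quotient.mk p (a' * b')) ∈ N ⊓ N' :=
      ⟨h1 ▸ N.smul_mem _ hxN, h2 ▸ N'.smul_mem _ hyN'⟩
    rw [hNN'.inf_eq_bot, Submodule.mem_bot] at hmem
    have h3 : Ideal.Quotient.mk p (a' * b') = 0 := hf.injective (by rw [hmem, map_zero])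
    rw [map_mul] at h3
    rcases mul_eq_zero.mp h3 with h | h
    · exact ha0 h
    · exact hb0 h
  · let ι : (R ⧸ p) →ₗ[R] p.ResidueField :=
      (IsScalarTower.toAlgHom R (R ⧸ p) p.ResidueField).toLinearMap
    have hιinj : Function.Injective ι := p.injective_algebraMap_quotient_residueField
    have hιess : ∀ N : Submodule R p.ResidueField, N ≠ ⊥ → N ⊓ LinearMap.range ι ≠ ⊥ := by
      intro N hN
      obtain ⟨x, hxN, hx0⟩ := Submodule.exists_mem_ne_zero_of_ne_bot hN
      obtain ⟨⟨a, b⟩, hab⟩ := IsLocalization.surj (nonZeroDivisors (R ⧸ p)) x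
      obtain ⟨b', hb'⟩ := Ideal.Quotient.mk_surjective (b : R ⧸ p)
      have hb0 : algebraMap (R ⧸ p) p.ResidueField b ≠ 0 := by
        intro h
        have := (IsFractionRing.injective (R ⧸ p) p.ResidueField) (h.trans (map_zero _).symm)
        exact nonZeroDivisors.coe_ne_zero b this
      have hsm : b' • x = algebraMap (R ⧸ p) p.ResidueField a := by
        rw [← hab, Algebra.smul_def, IsScalarTower.algebraMap_apply R (R ⧸ p) p.ResidueField,
          Ideal.Quotient.algebraMap_eq, hb', mul_comm]
      intro hbot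
      have hmem : b' • x ∈ N ⊓ LinearMap.range ι := ⟨N.smul_mem _ hxN, ⟨a, hsm.symm⟩⟩
      rw [hbot, Submodule.mem_bot, hsm, ← hab] at hmem
      exact (mul_ne_zero hx0 hb0) hmem
    obtain ⟨g, hg⟩ := Module.Injective.extension_property R E (R ⧸ p) p.ResidueField ι hιinj f
    have hginj : Function.Injective g :=
      Groth.Agent.Lead.InjHullLib.injective_of_essential hιess g (by rw [hg]; exact hf.injective)
    refine ⟨g, ⟨⟨hginj, fun N hN => ?_⟩, hf.isInjective⟩⟩
    have h1 := hf.essential N hN
    intro hbot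
    apply h1
    rw [eq_bot_iff, ← hbot]
    refine inf_le_inf_left _ ?_
    rw [← hg, LinearMap.range_comp]
    exact LinearMap.map_le_range

end Groth.Agent.S0305
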