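import Groth.Statements.S0306
import Groth.Agent.Lead.InjHull4
import Groth.Agent.S0305

set_option autoImplicit false
universe u v
open InjHull

namespace Groth.Agent.S0306

/-- Over a Noetherian ring every indecomposable injective module is an injective hull of the residue
field of some prime. -/
theorem result (R : Type u) [CommRing R] [IsNoetherianRing R] (E : Type u) [AddCommGroup E] [Module R E] (hE : InjHull.IsIndecomposable R E) (hinj : Module.Injective R E) : ∃ (p : Ideal R) (_ : p.IsPrime) (g : p.ResidueField →ₗ[R] E), InjHull.IsInjectiveHull g := by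
  have := hinj
  have := hE.1
  obtain ⟨p, hp⟩ := associatedPrimes.nonempty R E
  obtain ⟨hpprime, x, hpx⟩ := isAssociatedPrime_iff.mp hp
  have hmem : ∀ r : R, r ∈ p ↔ r • x = 0 := by
    intro r
    rw [hpx, Submodule.mem_colon_singleton, Submodule.mem_bot]
  let f : R ⧸ p →ₗ[R] E := Submodule.liftQ p (LinearMap.toSpanSingleton R E x) (by
    intro r hr
    rw [LinearMap.mem_ker, LinearMap.toSpanSingleton_apply]
    exact (hmem r).mp hr)
  have hfmk : ∀ r : R, f (Ideal.Quotient.mk p r) = r • x := fun r => rfl
  have hfinj : Function.Injective f := by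
    rw [← LinearMap.ker_eq_bot, eq_bot_iff]
    intro a ha
    obtain ⟨r, rfl⟩ := Ideal.Quotient.mk_surjective a
    rw [LinearMap.mem_ker, hfmk] at ha
    rw [Submodule.mem_bot, Ideal.Quotient.eq_zero_iff_mem]
    exact (hmem r).mpr ha
  have hrange : LinearMap.range f ≠ ⊥ := by
    intro h
    have h1 : f (Ideal.Quotient.mk p 1) ∈ LinearMap.range f := LinearMap.mem_range_self f _
    rw [h, Submodule.mem_bot, hfmk] at h1
    exact hpprime.ne_top ((Ideal.eq_top_iff_one p).mpr ((hmem 1).mpr h1))
  have hf : InjHull.IsInjectiveHull f :=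
    ⟨⟨hfinj, fun N hN =>
      Groth.Agent.Lead.InjHullLib.inf_ne_bot_of_indecomposable hE N _ hN hrange⟩, hinj⟩
  exact ⟨p, hpprime, (Groth.Agent.S0305.result R p E f hf).2⟩

end Groth.Agent.S0306
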