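import Groth.Statements.S0300
import Mathlib

set_option autoImplicit false
universe u v
open InjHull

namespace Groth.Agent.S0300

/-- Over a Noetherian ring, injectivity of modules is preserved under arbitrary direct sums. -/
theorem result (R : Type u) [CommRing R] [IsNoetherianRing R] {ι : Type u} (E : ι → Type u) [∀ i, AddCommGroup (E i)] [∀ i, Module R (E i)] (hE : ∀ i, Module.Injective R (E i)) : Module.Injective R (DirectSum ι E) := by
  classical
  apply Module.Baer.injective
  intro I g
  obtain ⟨n, π, hπ⟩ := Module.Finite.exists_fin' R I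
  let S : Finset ι := Finset.univ.biUnion
    (fun k : Fin n => DFinsupp.support (g (π (Pi.single k 1))))
  have hS : ∀ j, j ∉ S → ∀ x : I, (g x) j = 0 := by
    intro j hj x
    have h0 : (DirectSum.component R ι E j) ∘ₗ g ∘ₗ π = 0 := by
      refine (Pi.basisFun R (Fin n)).ext fun k => ?_
      rw [Pi.basisFun_apply, LinearMap.zero_apply, LinearMap.comp_apply, LinearMap.comp_apply,
        ← DirectSum.apply_eq_component]
      by_contra hne
      apply hj
      exact Finset.mem_biUnion.mpr ⟨k, Finset.mem_univ k, DFinsupp.mem_support_iff.mpr hne⟩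
    obtain ⟨y, rfl⟩ := hπ x
    exact LinearMap.congr_fun h0 y
  have hext : ∀ i, ∃ g' : R →ₗ[R] E i, ∀ (x : R) (mem : x ∈ I),
      g' x = (DirectSum.component R ι E i) (g ⟨x, mem⟩) := fun i =>
    Module.Baer.of_injective (hE i) I ((DirectSum.component R ι E i) ∘ₗ g)
  choose g' hg' using hext
  refine ⟨∑ i ∈ S, (DirectSum.lof R ι E i) ∘ₗ g' i, fun x mem => ?_⟩
  refine DirectSum.ext_component R fun j => ?_
  rw [LinearMap.sum_apply, map_sum]
  by_cases hj : j ∈ S
  · rw [Finset.sum_eq_single j]
    · rw [LinearMap.comp_apply, DirectSum.component.lof_self, hg' j x mem]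
    · intro i _ hij
      rw [LinearMap.comp_apply, DirectSum.component.of, dif_neg hij]
    · intro h; exact absurd hj h
  · rw [Finset.sum_eq_zero]
    · rw [← DirectSum.apply_eq_component, hS j hj]
    · intro i hi
      have hij : i ≠ j := fun h => hj (h ▸ hi)
      rw [LinearMap.comp_apply, DirectSum.component.of, dif_neg hij]

end Groth.Agent.S0300
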