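import Groth.Statements.S0307
import Mathlib
import Groth.Agent.Lead.InjHull
import Groth.Agent.S0299
import Groth.Agent.S0300
import Groth.Agent.S0303
import Groth.Agent.S0305

set_option autoImplicit false
universe u v
open InjHull

namespace Groth.Agent.S0307

open Groth.Agent.Lead.InjHullLib

theorem injective_of_linearEquiv {R : Type u} [CommRing R] {M N : Type u} [AddCommGroup M]
    [Module R M] [AddCommGroup N] [Module R N] (e : M ≃ₗ[R] N) (h : Module.Injective R M) :
    Module.Injective R N := by
  refine ⟨fun X Y _ _ _ _ f hf g => ?_⟩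
  obtain ⟨k, hk⟩ := Module.Injective.extension_property R M X Y f hf (e.symm.toLinearMap ∘ₗ g)
  refine ⟨e.toLinearMap ∘ₗ k, fun x => ?_⟩
  have : k (f x) = e.symm (g x) := LinearMap.congr_fun hk x
  simp [this]

theorem indecomposable_of_linearEquiv {R : Type u} [CommRing R] {M N : Type u} [AddCommGroup M]
    [Module R M] [AddCommGroup N] [Module R N] (e : M ≃ₗ[R] N) (h : IsIndecomposable R M) :
    IsIndecomposable R N := by
  have := h.1
  refine ⟨e.symm.toEquiv.nontrivial, fun A B hAB => ?_⟩
  let o := Submodule.orderIsoMapComap e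
  have h1 : IsCompl (o.symm A) (o.symm B) := o.symm.isCompl hAB
  rcases h.2 _ _ h1 with h2 | h2
  · left
    exact (map_eq_bot_iff o.symm).1 h2
  · right
    exact (map_eq_bot_iff o.symm).1 h2

open Classical in
/-- Over a Noetherian ring every injective module is an internal direct sum of indecomposable injective
submodules. -/
theorem result (R : Type u) [CommRing R] [IsNoetherianRing R] (I : Type u) [AddCommGroup I] [Module R I] (hI : Module.Injective R I) : ∃ (ι : Type u) (E : ι → Submodule R I), DirectSum.IsInternal E ∧ ∀ i, InjHull.IsIndecomposable R ↥(E i) ∧ Module.Injective R ↥(E i) := by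
  have := hI
  let P : Set (Set (Submodule R I)) :=
    {S | sSupIndep S ∧ ∀ N ∈ S, IsIndecomposable R N ∧ Module.Injective R N}
  obtain ⟨S, hSmax⟩ : ∃ S, Maximal (· ∈ P) S := by
    apply zorn_subset
    intro c hcP hc
    refine ⟨⋃₀ c, ⟨iSupIndep_sUnion_of_directed hc.directedOn (fun a ha => (hcP ha).1), ?_⟩,
      fun s hs => Set.subset_sUnion_of_mem hs⟩
    rintro N ⟨a, ha, hNa⟩
    exact (hcP ha).2 N hNa
  have hSP : S ∈ P := hSmax.1
  have hind : iSupIndep (fun i : S => (i : Submodule R I)) := (sSupIndep_iff S).1 hSP.1
  -- E = sSup S is injective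
  let φ : (DirectSum S fun i => ((i : Submodule R I))) →ₗ[R] I :=
    DirectSum.coeLinearMap (fun i : S => (i : Submodule R I))
  have hφinj : Function.Injective φ := hind.dfinsupp_lsum_injective
  have hφrange : LinearMap.range φ = sSup S := by
    rw [sSup_eq_iSup']
    exact DirectSum.range_coeLinearMap
  have hDS : Module.Injective R (DirectSum S fun i => ((i : Submodule R I))) :=
    Groth.Agent.S0300.result R (fun i : S => ((i : Submodule R I))) (fun i => (hSP.2 i.1 i.2).2)
  have hEinj : Module.Injective R (sSup S : Submodule R I) :=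
    injective_of_linearEquiv
      ((LinearEquiv.ofInjective φ hφinj).trans (LinearEquiv.ofEq _ _ hφrange)) hDS
  obtain ⟨E', hE'⟩ := exists_isCompl_range (sSup S : Submodule R I).subtype Subtype.val_injective
  rw [Submodule.range_subtype] at hE'
  by_cases hbot : E' = ⊥
  · refine ⟨S, fun i => (i : Submodule R I), ?_, fun i => hSP.2 i.1 i.2⟩
    have htop : (⨆ i : S, (i : Submodule R I)) = ⊤ := by
      rw [← sSup_eq_iSup']
      have := hE'.sup_eq_top
      rwa [hbot, sup_bot_eq] at this
    convert DirectSum.isInternal_submodule_of_iSupIndep_of_iSup_eq_top hind htop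
  · exfalso
    have hE'inj : Module.Injective R E' := injective_of_isCompl E' (sSup S) hE'.symm
    have hnt : Nontrivial E' := Submodule.nontrivial_iff_ne_bot.mpr hbot
    obtain ⟨p, hp⟩ := associatedPrimes.nonempty R E'
    obtain ⟨hpprime, x, hpx⟩ := isAssociatedPrime_iff.mp hp
    have hmem : ∀ r : R, r ∈ p ↔ r • x = 0 := by
      intro r
      rw [hpx, Submodule.mem_colon_singleton, Submodule.mem_bot]
    let f0 : R ⧸ p →ₗ[R] E' := Submodule.liftQ p (LinearMap.toSpanSingleton R E' x) (by
      intro r hr
      rw [LinearMap.mem_ker, LinearMap.toSpanSingleton_apply]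
      exact (hmem r).mp hr)
    have hfmk : ∀ r : R, f0 (Ideal.Quotient.mk p r) = r • x := fun r => rfl
    have hf0inj : Function.Injective f0 := by
      rw [← LinearMap.ker_eq_bot, eq_bot_iff]
      intro a ha
      obtain ⟨r, rfl⟩ := Ideal.Quotient.mk_surjective a
      rw [LinearMap.mem_ker, hfmk] at ha
      rw [Submodule.mem_bot, Ideal.Quotient.eq_zero_iff_mem]
      exact (hmem r).mpr ha
    obtain ⟨H, _, _, f, hf⟩ := Groth.Agent.S0299.result R (R ⧸ p)
    obtain ⟨α, hαinj, -, -⟩ := Groth.Agent.S0303.result R (R ⧸ p) H E' f hf f0 hf0inj hE'inj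
    let β : H →ₗ[R] I := E'.subtype ∘ₗ α
    have hβinj : Function.Injective β := Subtype.val_injective.comp hαinj
    let N : Submodule R I := LinearMap.range β
    let e : H ≃ₗ[R] N := LinearEquiv.ofInjective β hβinj
    have hHind : IsIndecomposable R H := (Groth.Agent.S0305.result R p H f hf).1
    have hNind : IsIndecomposable R N := indecomposable_of_linearEquiv e hHind
    have hNinj : Module.Injective R N := injective_of_linearEquiv e hf.isInjective
    have hNle : N ≤ E' := by
      rintro _ ⟨h, rfl⟩
      exact (α h).2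
    have hNbot : N ≠ ⊥ := by
      have := hNind.1
      exact Submodule.nontrivial_iff_ne_bot.mp this
    have hNdisj : Disjoint N (sSup S) := (hE'.disjoint.mono_right hNle).symm
    have hins : insert N S ∈ P := by
      refine ⟨?_, ?_⟩
      · intro a ha
        rcases ha with rfl | ha
        · refine hNdisj.mono_right (sSup_le_sSup ?_)
          rintro b ⟨hb, hbN⟩
          rcases hb with rfl | hb
          · exact absurd rfl hbN
          · exact hb
        · have h1 : Disjoint a (sSup (S \ {a})) := hSP.1 ha
          have h2 : a ⊔ sSup (S \ {a}) ≤ sSup S := by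
            apply sup_le (le_sSup ha) (sSup_le_sSup Set.sdiff_subset)
          have h3 : Disjoint (a ⊔ sSup (S \ {a})) N := (hNdisj.mono_right h2).symm
          have h4 : Disjoint a (sSup (S \ {a}) ⊔ N) := h1.disjoint_sup_right_of_disjoint_sup_left h3
          refine h4.mono_right ?_
          apply sSup_le
          rintro b ⟨hb, hba⟩
          rcases hb with rfl | hb
          · exact le_sup_right
          · exact le_sup_of_le_left (le_sSup ⟨hb, hba⟩)
      · rintro M hM
        rcases hM with rfl | hM
        · exact ⟨hNind, hNinj⟩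
        · exact hSP.2 M hM
    have hNS : N ∈ S := hSmax.2 hins (Set.subset_insert N S) (Set.mem_insert N S)
    exact hNbot (le_bot_iff.1 (hNdisj (le_refl N) (le_sSup hNS)))

end Groth.Agent.S0307
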