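import Groth.Statements.S0040
import Groth.Agent.Helper1.GY8
import Groth.Agent.Helper1.GX5

set_option autoImplicit false
universe u
open Coherent

namespace Groth.Agent.S0040

open AlgebraicGeometry CategoryTheory CategoryTheory.Limits in
/-- Let A be a Noetherian ring complete with respect to an ideal I, X a scheme separated and of finite
type over Spec A, and X_n = X ×_{Spec A} Spec(A/I^(n+1)) for n ≥ 0. Suppose given closed immersions
Z_n → X_n together with morphisms Z_n → Z_(n+1) forming cartesian squares with the transition maps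
X_n → X_(n+1), and suppose Z_0 is proper over Spec(A/I). Then there is a closed subscheme W → X,
proper over Spec A, with compatible morphisms Z_n → W making each Z_n the pullback W ×_X X_n. (The
published statement assumes only that Z_0 → X_0 is a closed immersion; here it is assumed for every
n.) -/
theorem result (A : Type u) [CommRing A] [IsNoetherianRing A]
    (I : Ideal A) [IsAdicComplete I A] {X : Scheme.{u}} (f : X ⟶ Spec (CommRingCat.of A))
    [IsSeparated f] [LocallyOfFiniteType f] [QuasiCompact f]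
    (Z : ℕ → Scheme.{u}) (z : (n : ℕ) → (Z n ⟶ CohB1.thick f I n)) (t : (n : ℕ) → (Z n ⟶ Z (n + 1)))
    (hz : ∀ n, IsClosedImmersion (z n))
    (ht : ∀ n, IsPullback (t n) (z n) (z (n + 1)) (CohB1.thickTrans f I n))
    (hp : IsProper (z 0 ≫ CohB1.thickToBase f I 0)) :
    ∃ (W : Scheme.{u}) (i : W ⟶ X) (w : (n : ℕ) → (Z n ⟶ W)), IsClosedImmersion i ∧
      IsProper (i ≫ f) ∧ (∀ n, w n = t n ≫ w (n + 1)) ∧ ∀ n, IsPullback (w n) (z n) i (CohB1.thickι f I n) := by
  letI : X.Over (Spec (CommRingCat.of A)) := ⟨f⟩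
  haveI : IsSeparated (X ↘ Spec (CommRingCat.of A)) := ‹IsSeparated f›
  haveI : LocallyOfFiniteType (X ↘ Spec (CommRingCat.of A)) := ‹LocallyOfFiniteType f›
  haveI : QuasiCompact (X ↘ Spec (CommRingCat.of A)) := ‹QuasiCompact f›
  haveI : ∀ k, IsClosedImmersion (CohB1.specQuot I k) :=
    Groth.Agent.Helper1.TW.isClosedImmersion_specQuot A I
  haveI : ∀ k, IsClosedImmersion (CohB1.thickι f I k) := fun k =>
    inferInstanceAs (IsClosedImmersion (pullback.fst f (CohB1.specQuot I k)))
  haveI := hz
  have hcart : ∀ k, IsPullback (t k) (z k ≫ CohB1.thickToBase f I k)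
      (z (k + 1) ≫ CohB1.thickToBase f I (k + 1)) (CohB1.specQuotTrans I k) := fun k =>
    (ht k).paste_vert (Groth.Agent.Helper1.GX.isPullback_thickTrans I f k)
  have hcp : ∀ k, (z k ≫ CohB1.thickι f I k) ≫ (X ↘ Spec (CommRingCat.of A)) =
      (z k ≫ CohB1.thickToBase f I k) ≫ CohB1.specQuot I k := by
    intro k
    show (z k ≫ CohB1.thickι f I k) ≫ f = _
    rw [Category.assoc, Category.assoc]
    congr 1
    exact pullback.condition
  have hc : ∀ k, t k ≫ z (k + 1) ≫ CohB1.thickι f I (k + 1) = z k ≫ CohB1.thickι f I k := by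
    intro k
    rw [← Category.assoc, (ht k).w, Category.assoc,
      Groth.Agent.Helper1.GX.thickTrans_thickι]
  have hp0 : IsProper ((z 0 ≫ CohB1.thickι f I 0) ≫ (X ↘ Spec (CommRingCat.of A))) := by
    rw [hcp 0]
    infer_instance
  obtain ⟨W, j, e, hj, hjp, hej, hee, hsq⟩ :=
    Groth.Agent.Helper1.GY.exists_algebraization_closed_PS A I Z
      (fun k => z k ≫ CohB1.thickToBase f I k) t hcart (fun k => z k ≫ CohB1.thickι f I k)
      (fun k => inferInstance) hcp hc hp0
  refine ⟨W, j, e, hj, hjp, hee, fun n => ?_⟩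
  have h1 : IsPullback (z n ≫ CohB1.thickToBase f I n) (e n) (CohB1.specQuot I n) (j ≫ f) :=
    (hsq n).flip
  have h2 : IsPullback (CohB1.thickToBase f I n) (CohB1.thickι f I n) (CohB1.specQuot I n) f :=
    (Groth.Agent.Helper1.GX.isPullback_thickι I f n).flip
  exact (IsPullback.of_right h1 (hej n).symm h2).flip

end Groth.Agent.S0040
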