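import Groth.Statements.S0013
import Groth.Agent.Helper1.SerreD
import Groth.Agent.S0464

set_option autoImplicit false
universe u
open Coherent

namespace Groth.Agent.S0013

open AlgebraicGeometry in
/-- Let X be a scheme with an open covering all of whose nonempty finite intersections are affine. For a
quasi-coherent module M and every degree p, Čech cohomology with respect to this covering is
isomorphic to sheaf cohomology; only the existence of an isomorphism of additive groups is asserted
(the published statement gives an isomorphism of modules over the global sections). -/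
theorem result (X : Scheme.{u}) {ι : Type u}
    (U : ι → X.Opens) (hcov : ⨆ i, U i = ⊤)
    (hU : ∀ s : Finset ι, s.Nonempty → IsAffineOpen (⨅ i ∈ s, U i))
    (M : X.Modules) [Coh.IsQCoh M] (p : ℕ) :
    Nonempty (↑(CohB1.cechH U M p) ≃+ Coh.HH X M p) := by
  classical
  have h : ∀ (q : ℕ) (a : Fin (q + 1) → ι) (r : ℕ),
      Subsingleton (CohTop.HU (Coh.toAb M) (r + 1) (iInf fun k => U (a k))) := by
    intro q a r
    have haff : IsAffineOpen (iInf fun k => U (a k)) := by
      have h1 := hU (Finset.image a Finset.univ) ⟨a 0, Finset.mem_image_of_mem a (Finset.mem_univ 0)⟩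
      have h2 : (⨅ i ∈ Finset.image a Finset.univ, U i) = iInf fun k => U (a k) := by
        apply le_antisymm
        · refine le_iInf (fun k => ?_)
          exact iInf₂_le (a k) (Finset.mem_image_of_mem a (Finset.mem_univ k))
        · refine le_iInf₂ (fun i hi => ?_)
          obtain ⟨k, -, rfl⟩ := Finset.mem_image.1 hi
          exact iInf_le _ k
      rwa [h2] at h1
    exact Groth.Agent.Helper1.Serre.subsingleton_HU_of_isAffineOpen M haff r
  obtain ⟨e1⟩ := Groth.Agent.S0464.result (Coh.toAb M) U h p
  rw [hcov] at e1
  obtain ⟨e2⟩ := Groth.Agent.Helper1.Serre.nonempty_iso_HU_top p (Coh.toAb M)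
  exact ⟨e1.trans e2.addCommGroupIsoToAddEquiv⟩

end Groth.Agent.S0013
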