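import Groth.Statements.S1314
import Mathlib
import Groth.Agent.Lead.ThickBC2

set_option autoImplicit false
universe u
open FlatMor

namespace Groth.Agent.S1314

open AlgebraicGeometry CategoryTheory Limits in
theorem aux {X X' Y Y' : Scheme.{u}} (iX : X ⟶ X') (iY : Y ⟶ Y') (f : X ⟶ Y) (f' : X' ⟶ Y')
    (hY : MoreMor.IsThickening iY) (hc : IsPullback iX f f' iY) [LocallyOfFiniteType f] [LocallyOfFiniteType f'] :
    FormallyUnramified f ↔ FormallyUnramified f' := by
  constructor
  · intro h
    haveI := hY.1
    haveI := hY.2
    refine Groth.Agent.Lead.ThickBC.lift_of_isPullback @FormallyUnramified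
      RingHom.FormallyUnramified hc ?_ h
    intro V' U' e hφ
    obtain ⟨h1, h2, h3, h4⟩ := Groth.Agent.Lead.ThickBC.square_facts hc V' U' e
    have hft : (f'.appLE V'.1 U'.1 e).hom.FiniteType :=
      (HasRingHomProperty.iff_appLE (P := @LocallyOfFiniteType)).mp inferInstance V' U' e
    exact Groth.Agent.Lead.ThickBC.formallyUnramified_of_nil_of_finiteType _ _ _ _ h1 h2 h3
      (Groth.Agent.Lead.ThickBC.ker_le_nilradical iY V') h4 hft hφ
  · intro h
    exact MorphismProperty.of_isPullback hc h

open AlgebraicGeometry CategoryTheory Limits in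
/-- Let Y ⟶ Y' be a thickening, let X be the base change to Y of a scheme X' over Y', and assume both X
⟶ Y and X' ⟶ Y' are locally of finite type. Then X ⟶ Y is formally unramified if and only if X' ⟶ Y'
is. (The source states this as the vanishing of the sheaf of relative differentials; formal
unramifiedness is the equivalent phrasing available here.) -/
theorem result {X X' Y Y' : Scheme.{u}} (iX : X ⟶ X') (iY : Y ⟶ Y') (f : X ⟶ Y) (f' : X' ⟶ Y')
    (hY : MoreMor.IsThickening iY) (hc : IsPullback iX f f' iY) [LocallyOfFiniteType f] [LocallyOfFiniteType f'] :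
    FormallyUnramified f ↔ FormallyUnramified f' := by
  exact aux iX iY f f' hY hc

end Groth.Agent.S1314
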