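import Groth.Statements.S1315
import Mathlib
import Groth.Agent.Lead.Thickening
import Groth.Agent.S1314

set_option autoImplicit false
universe u
open FlatMor

namespace Groth.Agent.S1315

open AlgebraicGeometry CategoryTheory Limits in
/-- a formally unramified, universally injective morphism locally of finite type is a mono -/
theorem mono_of_formallyUnramified {X Y : Scheme.{u}} (f : X ⟶ Y) [LocallyOfFiniteType f]
    [FormallyUnramified f] [UniversallyInjective f] : Mono f := by
  rw [← pullback.isIso_diagonal_iff]
  haveI : Surjective (pullback.diagonal f) := (UniversallyInjective.iff_diagonal f).mp inferInstance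
  haveI : IsOpenImmersion (pullback.diagonal f) := inferInstance
  exact (isIso_iff_isOpenImmersion_and_epi_base _).mpr
    ⟨inferInstance, (TopCat.epi_iff_surjective _).mpr (pullback.diagonal f).surjective⟩

open AlgebraicGeometry CategoryTheory Limits in
theorem aux {X X' Y Y' : Scheme.{u}} (iX : X ⟶ X') (iY : Y ⟶ Y') (f : X ⟶ Y) (f' : X' ⟶ Y')
    (hY : MoreMor.IsThickening iY) (hc : IsPullback iX f f' iY) [LocallyOfFiniteType f] [LocallyOfFiniteType f'] :
    Mono f ↔ Mono f' := by
  constructor
  · intro h
    haveI := hY.1
    haveI := hY.2
    haveI : FormallyUnramified f := inferInstance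
    haveI : FormallyUnramified f' := (Groth.Agent.S1314.result iX iY f f' hY hc).mp inferInstance
    haveI : Surjective iX := MorphismProperty.of_isPullback hc.flip hY.2
    haveI : UniversallyInjective (iX ≫ f') := by rw [hc.w]; infer_instance
    haveI : UniversallyInjective f' := Groth.Agent.Lead.universallyInjective_of_comp_surjective iX f'
    exact mono_of_formallyUnramified f'
  · intro h
    exact MorphismProperty.of_isPullback (P := MorphismProperty.monomorphisms Scheme) hc h

open AlgebraicGeometry CategoryTheory Limits in
/-- Let Y ⟶ Y' be a thickening, let X be the base change to Y of a scheme X' over Y', and assume both X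
⟶ Y and X' ⟶ Y' are locally of finite type. Then X ⟶ Y is a monomorphism if and only if X' ⟶ Y' is. -/
theorem result {X X' Y Y' : Scheme.{u}} (iX : X ⟶ X') (iY : Y ⟶ Y') (f : X ⟶ Y) (f' : X' ⟶ Y')
    (hY : MoreMor.IsThickening iY) (hc : IsPullback iX f f' iY) [LocallyOfFiniteType f] [LocallyOfFiniteType f'] :
    Mono f ↔ Mono f' := by
  exact aux iX iY f f' hY hc

end Groth.Agent.S1315
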