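import Groth.Statements.S3287
import Mathlib

set_option autoImplicit false
universe u
open Finset
open LambdaRing

namespace Groth.Agent.S3287

section aux
open LambdaRing PowerSeries
variable {K : Type u} [CommRing K] [LambdaRing.LambdaOps K] (P : LambdaRing.PosStructure K)

lemma lam_line (u : K) (hu : P.IsLine u) (i : ℕ) (hi : 2 ≤ i) : LambdaOps.lam i u = 0 := by
  apply P.lam_eq_zero u hu.1 i
  rw [hu.2]
  exact_mod_cast hi

lemma phi_eq (u : K) (hu : P.IsLine u) :
    PowerSeries.rescale (-1 : K) (lamSeries u) = 1 - PowerSeries.C u * PowerSeries.X := by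
  ext n
  rw [PowerSeries.coeff_rescale]
  unfold lamSeries
  rw [PowerSeries.coeff_mk, map_sub]
  rcases n with _ | _ | n
  · simp [LambdaOps.lam_zero]
  · simp [LambdaOps.lam_one, PowerSeries.coeff_one]
  · rw [lam_line P u hu (n+2) (by omega)]
    rw [PowerSeries.coeff_one, if_neg (by omega)]
    rw [show n + 1 + 1 = (n+1) + 1 from rfl, PowerSeries.coeff_succ_mul_X, PowerSeries.coeff_C, if_neg (by omega)]
    simp

lemma phi_mul (u : K) :
    (1 - PowerSeries.C u * PowerSeries.X) * PowerSeries.mk (fun k => u ^ k) = 1 := by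
  ext n
  rw [sub_mul, one_mul, map_sub, mul_assoc, PowerSeries.coeff_C_mul, PowerSeries.coeff_mk]
  rcases n with _ | n
  · simp
  · rw [PowerSeries.coeff_succ_X_mul, PowerSeries.coeff_mk, PowerSeries.coeff_one, if_neg (by omega)]
    ring

lemma inv_eq (u : K) :
    (1 - PowerSeries.C u * PowerSeries.X : PowerSeries K).invOfUnit 1 = PowerSeries.mk (fun k => u ^ k) := by
  have h1 : (1 - PowerSeries.C u * PowerSeries.X : PowerSeries K) *
      (1 - PowerSeries.C u * PowerSeries.X : PowerSeries K).invOfUnit 1 = 1 := by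
    apply PowerSeries.mul_invOfUnit
    simp
  have h2 := phi_mul u
  calc (1 - PowerSeries.C u * PowerSeries.X : PowerSeries K).invOfUnit 1
      = ((1 - PowerSeries.C u * PowerSeries.X) * PowerSeries.mk (fun k => u ^ k)) *
        (1 - PowerSeries.C u * PowerSeries.X : PowerSeries K).invOfUnit 1 := by rw [h2, one_mul]
    _ = PowerSeries.mk (fun k => u ^ k) * ((1 - PowerSeries.C u * PowerSeries.X : PowerSeries K) *
      (1 - PowerSeries.C u * PowerSeries.X : PowerSeries K).invOfUnit 1) := by ring
    _ = _ := by rw [h1, mul_one]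

end aux

/-- For a line element u (positive of augmentation one) of a λ-ring with positive structure, ψ^j(u) =
u^j for every j. -/
theorem result (K : Type u) [CommRing K] [LambdaRing.LambdaOps K] (P : LambdaRing.PosStructure K) (u : K) (hu : P.IsLine u) (j : ℕ) :
    LambdaRing.adams P j u = u ^ j := by
  unfold adams adamsSeries
  rw [phi_eq P u hu, inv_eq u, hu.2]
  have hd : PowerSeries.derivative K (1 - PowerSeries.C u * PowerSeries.X) = - PowerSeries.C u := by
    rw [map_sub, Derivation.leibniz]
    simp
  rw [hd, map_sub]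
  rcases j with _ | j
  · simp
  · rw [mul_assoc, PowerSeries.coeff_succ_X_mul, neg_mul, map_neg, PowerSeries.coeff_C_mul, PowerSeries.coeff_mk,
      PowerSeries.coeff_C, if_neg (by omega)]
    simp; ring

end Groth.Agent.S3287
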