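import Groth.Statements.S0825
import Groth.Agent.S11628
import Groth.Agent.S11629
import Groth.Agent.Helper1.DTExact
import Groth.Agent.Helper5.DTApi

set_option autoImplicit false
universe u
open scoped BigOperators
open LocCoh

namespace Groth.Agent.S0825

/-- Let A be a Noetherian ring and I the ideal generated by f_1, …, f_r, with cohomological dimension
exactly 1. Then there are c ≥ 1 and A-linear maps φ_j : I^c → A such that x = Σ_j f_j φ_j(x) for
every x ∈ I^c. -/
theorem result (A : Type u) [CommRing A] [IsNoetherianRing A] (r : ℕ) (f : Fin r → A)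
    (h₁ : LocCoh.CdLE A (Ideal.span (Set.range f)) 1) (h₀ : ¬ LocCoh.CdLE A (Ideal.span (Set.range f)) 0) :
    ∃ (c : ℕ) (φ : Fin r → (↥(Ideal.span (Set.range f) ^ (c + 1)) →ₗ[A] A)),
      ∀ x : ↥(Ideal.span (Set.range f) ^ (c + 1)), (x : A) = ∑ j, f j * φ j x := by
  classical
  open Groth.Agent.Helper5.DTApi Groth.Agent.Helper1.DTExact CategoryTheory in
  set I : Ideal A := Ideal.span (Set.range f) with hI
  have hex := (Groth.Agent.S11628.result A I).2 h₁
  have htop : I • (⊤ : Submodule A (DT I A)) = ⊤ := (Groth.Agent.S11629.result A I).1 hex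
  -- every element of `I • ⊤` is a combination of the `f j`
  have hcomb : ∀ x ∈ I • (⊤ : Submodule A (DT I A)), ∃ y : Fin r → DT I A, x = ∑ j, f j • y j := by
    intro x hx
    refine Submodule.smul_induction_on hx ?_ ?_
    · intro a ha n _
      obtain ⟨c, hc⟩ := Ideal.mem_span_range_iff_exists_fun.1 ha
      refine ⟨fun j => c j • n, ?_⟩
      rw [← hc, Finset.sum_smul]
      refine Finset.sum_congr rfl (fun j _ => ?_)
      rw [mul_smul, smul_comm]
    · rintro x y ⟨u, hu⟩ ⟨v, hv⟩
      refine ⟨fun j => u j + v j, ?_⟩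
      rw [hu, hv, ← Finset.sum_add_distrib]
      refine Finset.sum_congr rfl (fun j _ => ?_)
      rw [smul_add]
  obtain ⟨y, hy⟩ := hcomb (toDT I A 1) (by rw [htop]; trivial)
  -- representatives
  choose n ψ hψ using fun j => exists_rep I (ModuleCat.of A A) (y j)
  set k : ℕ := Finset.univ.sup n with hk
  have hnk : ∀ j, n j ≤ k := fun j => Finset.le_sup (Finset.mem_univ j)
  have hy' : ∀ j, y j = ι I (ModuleCat.of A A) k (res I (ModuleCat.of A A) (hnk j) (ψ j)) := by
    intro j
    rw [ι_res, hψ]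
  have h1 : ι I (ModuleCat.of A A) k (incl I k) =
      ι I (ModuleCat.of A A) k (∑ j, f j • res I (ModuleCat.of A A) (hnk j) (ψ j)) := by
    rw [← toDT_one, hy, map_sum]
    refine Finset.sum_congr rfl (fun j _ => ?_)
    rw [_root_.map_smul, hy' j]
  obtain ⟨m, hkm, hkm', hm⟩ := (ι_eq_iff I (ModuleCat.of A A) _ _).1 h1
  refine ⟨m, fun j => ((res I (ModuleCat.of A A) ((hnk j).trans (hkm.trans (Nat.le_succ m))) (ψ j)).hom :
    ↥(I ^ (m + 1)) →ₗ[A] A), fun x => ?_⟩
  have hx : (x : A) ∈ I ^ m := Ideal.pow_le_pow_right (Nat.le_succ m) x.2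
  have h2 := congrArg (fun t => t.hom ⟨(x : A), hx⟩) hm
  simp only [res, ModuleCat.hom_comp, ModuleCat.hom_ofHom, LinearMap.comp_apply, ModuleCat.hom_sum,
    ModuleCat.hom_smul, LinearMap.sum_apply, LinearMap.smul_apply, Preadditive.comp_sum,
    Linear.comp_smul] at h2
  refine Eq.trans ?_ (h2.trans ?_)
  · rfl
  · refine Finset.sum_congr rfl (fun j _ => ?_)
    rw [smul_eq_mul]
    rfl

end Groth.Agent.S0825
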