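import Groth.Statements.S8842
import Groth.Agent.Helper1.GrLim2
import Groth.Agent.Helper1.GrPoly

set_option autoImplicit false
universe u
open scoped BigOperators
attribute [local instance] CategoryTheory.Abelian.hasFiniteBiproducts
open Formal2

namespace Groth.Agent.S8842

open CategoryTheory CategoryTheory.Limits AlgebraicGeometry Opposite in
/-- Let A be a Noetherian ring, f_1, …, f_r ∈ A and I = (f_1, …, f_r) with cd(A, I) = 1; let c ≥ 1 and
φ_j : I^c → A be A-linear with x = Σ_j f_j φ_j(x) for x ∈ I^c. Let X be a Noetherian scheme over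
Spec A, (F_n) a coherent formal module for I on X (coherent O_X-modules with F_n = F_{n+1}/I^n
F_{n+1}; indices shifted by one) and F = lim F_n, the limit in O_X-modules. Then there is c' ≥ c
with the following property. Write φ_j again for the restrictions to I^{c'} and let Φ be a graded
A-algebra homomorphism from ⊕_{n ≥ 0} I^{nc'} to A[T_1, …, T_r] with Φ(g) = Σ_j φ_j(g) T_j on I^{c'}
(there is exactly one; encoded by functions Φ_n : A → A[T_1, …, T_r] additive and A-homogeneous on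
I^{nc'}, with values homogeneous of degree n, multiplicative across degrees, Φ_0 the structure map,
Φ_1 as prescribed). Then for every n there is a unique map of O_X-modules Φ_{F,n} from the submodule
I^{nc'}F to F[T_1, …, T_r]_n = ⊕_{|e| = n} F (one copy of F for each exponent tuple e of total
degree n) such that Φ_{F,n}(g s) = Φ_n(g) s for g ∈ I^{nc'} and local sections s of F, i.e.
precomposed with multiplication by g, F → I^{nc'}F, it is the map whose component at T^e is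
multiplication by the coefficient of T^e in Φ_n(g); moreover composing Φ_{F,n} with the map
⊕_{|e|=n} F → F which is multiplication by f^e = ∏ f_j^{e_j} on the copy at T^e gives the inclusion
I^{nc'}F → F. -/
theorem result (A : Type u) [CommRing A] [IsNoetherianRing A] (r : ℕ) (f : Fin r → A) (I : Ideal A) (hI : I = Ideal.span (Set.range f)) (h1 : LocCoh.CdLE A I 1) (h0 : ¬ LocCoh.CdLE A I 0) (c : ℕ) (hc : 1 ≤ c) (φ : Fin r → (↥(I ^ c) →ₗ[A] A)) (hφ : ∀ x : ↥(I ^ c), (x : A) = ∑ j, f j * φ j x) (X : Scheme.{u}) [X.Over (Spec (CommRingCat.of A))] [IsNoetherian X] (G : ℕᵒᵖ ⥤ X.Modules) (hG : Formal.IsCohFormal I G) : ∃ c' : ℕ, ∃ hcc' : c ≤ c', ∀ Φ : ℕ → A → MvPolynomial (Fin r) A, ((∀ n : ℕ, ∀ g ∈ I ^ (n * c'), ∀ h ∈ I ^ (n * c'), Φ n (g + h) = Φ n g + Φ n h) ∧ (∀ (n : ℕ) (a : A), ∀ g ∈ I ^ (n * c'), Φ n (a * g) = a • Φ n g) ∧ (∀ n : ℕ, ∀ g ∈ I ^ (n * c'), (Φ n g).IsHomogeneous n) ∧ (∀ n m : ℕ, ∀ g ∈ I ^ (n * c'), ∀ h ∈ I ^ (m * c'), Φ (n +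 m) (g * h) = Φ n g * Φ m h) ∧ (∀ a : A, Φ 0 a = MvPolynomial.C a) ∧ (∀ (g : A) (hg : g ∈ I ^ c'), Φ 1 g = ∑ j, MvPolynomial.C (φ j ⟨g, Ideal.pow_le_pow_right hcc' hg⟩) * MvPolynomial.X j)) → ∀ n : ℕ, ∃ ΦF : (Formal2.idealPowMod I (n * c') (limit G)) ⟶ ⨁ (fun _ : ↥(Finset.Nat.antidiagonalTuple r n) ↦ (limit G)), (∀ g ∈ I ^ (n * c'), ∀ γ : (limit G) ⟶ (Formal2.idealPowMod I (n * c') (limit G)), γ ≫ Formal2.idealPowModι I (n * c') (limit G) = Formal.smulMod A (limit G) g → γ ≫ ΦF = biproduct.lift (fun e : ↥(Finset.Nat.antidiagonalTuple r n) ↦ Formal.smulMod A (limit G) (MvPolynomial.coeff (Finsupp.equivFunOnFinite.symm e.1) (Φ n g)))) ∧ ΦF ≫ biproduct.desc (fun e : ↥(Finset.Nat.antidiagonalTuple r n) ↦ Formal.smulMod A (limit G) (∏ j, f j ^ (e.1 j))) = Formal2.idealPowModι I (n * c') (limit G) ∧ (∀ ΦF' : (Formal2.idealPowMod I (n * c') (limit G)) ⟶ ⨁ (fun _ : ↥(Finset.Nat.antidiagonalTuple r n) ↦ (limit G)), (∀ g ∈ I ^ (n * c'), ∀ γ : (limit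 G) ⟶ (Formal2.idealPowMod I (n * c') (limit G)), γ ≫ Formal2.idealPowModι I (n * c') (limit G) = Formal.smulMod A (limit G) g → γ ≫ ΦF' = biproduct.lift (fun e : ↥(Finset.Nat.antidiagonalTuple r n) ↦ Formal.smulMod A (limit G) (MvPolynomial.coeff (Finsupp.equivFunOnFinite.symm e.1) (Φ n g)))) → ΦF' = ΦF) := by
  classical
  have hIfg : I.FG := IsNoetherian.noetherian I
  obtain ⟨t0, ht0⟩ := Groth.Agent.Helper1.GrLim.exists_uniform hIfg hG
  refine ⟨c + t0, Nat.le_add_right c t0, fun Φ hΦ n => ?_⟩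
  obtain ⟨hadd, hsmul, hhom, hmul, hzero, hone⟩ := hΦ
  have hGr : Groth.Agent.Helper1.GrPoly.IsGr I (c + t0) Φ := ⟨hadd, hsmul, hhom, hmul, hzero⟩
  obtain ⟨N, g, hspan⟩ := Submodule.fg_iff_exists_fin_generating_family.1
    (IsNoetherian.noetherian (I ^ (n * (c + t0))))
  have hspan' : Ideal.span (Set.range g) = I ^ (n * (c + t0)) := hspan
  have hg : ∀ i, g i ∈ I ^ (n * (c + t0)) := fun i => by
    rw [← hspan']
    exact Ideal.subset_span ⟨i, rfl⟩
  let cf : ↥(Finset.Nat.antidiagonalTuple r n) → Fin N → A := fun e i =>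
    MvPolynomial.coeff (Finsupp.equivFunOnFinite.symm e.1) (Φ n (g i))
  let d : ↥(Finset.Nat.antidiagonalTuple r n) → A → A := fun e g₀ =>
    MvPolynomial.coeff (Finsupp.equivFunOnFinite.symm e.1) (Φ n g₀)
  have hker : ∀ e, kernel.ι (Groth.Agent.Helper1.GrLim.σ g (limit G)) ≫
      Groth.Agent.Helper1.GrLim.σ (cf e) (limit G) = 0 := by
    intro e
    rcases Nat.eq_zero_or_pos n with hn | hn
    · subst hn
      have he : Finsupp.equivFunOnFinite.symm e.1 = (0 : Fin r →₀ ℕ) := by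
        ext j
        have h1 := Finset.Nat.mem_antidiagonalTuple.1 e.2
        have h2 := (Finset.sum_eq_zero_iff.1 h1) j (Finset.mem_univ j)
        simpa using h2
      have hcf : cf e = g := by
        funext i
        show MvPolynomial.coeff (Finsupp.equivFunOnFinite.symm e.1) (Φ 0 (g i)) = g i
        rw [hzero, he, MvPolynomial.coeff_zero_C]
      rw [hcf]
      exact kernel.condition _
    · obtain ⟨k', hk'⟩ := ht0 (n * (c + t0))
      apply Groth.Agent.Helper1.GrLim.limit_vanishing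
      intro m
      refine ⟨m + k', Nat.le_add_right _ _, ?_⟩
      refine Groth.Agent.Helper1.GrLim.finite_level_vanishing hG hk' g (cf e) (fun i => ?_)
        (fun h hh => ⟨d e h, fun i => ?_⟩) m (m + k') le_rfl
      · exact Ideal.pow_le_pow_right (Nat.le_mul_of_pos_left t0 hn)
          (Groth.Agent.Helper1.GrPoly.coeff_mem φ hGr hone (hg i) _)
      · exact hGr.swap (hg i) hh _
  obtain ⟨Ψ, hΨ⟩ := Groth.Agent.Helper1.GrLim.exists_desc I (n * (c + t0)) (limit G) g hg hspan'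
    cf hker
  refine ⟨Ψ, ?_, ?_, ?_⟩
  · intro g₀ hg₀ γ hγ
    refine Groth.Agent.Helper1.GrLim.desc_prop1 hg hspan' cf d (fun e a => ?_) hΨ g₀ hg₀ γ hγ
    show MvPolynomial.coeff _ (Φ n (∑ i, a i * g i)) = ∑ i, a i * cf e i
    rw [hGr.map_sum Finset.univ a g (fun i _ => hg i), MvPolynomial.coeff_sum]
    refine Finset.sum_congr rfl (fun i _ => ?_)
    rw [MvPolynomial.coeff_smul, smul_eq_mul]
  · refine Groth.Agent.Helper1.GrLim.desc_prop2 hg hspan' cf (fun e => ∏ j, f j ^ (e.1 j))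
      (fun i => ?_) hΨ
    rw [Groth.Agent.Helper1.GrPoly.sum_coeff_mul_prod f (hhom n (g i) (hg i)),
      Groth.Agent.Helper1.GrPoly.aeval_eq φ hGr hone f hφ (hg i)]
  · intro Ψ' hΨ'
    exact Groth.Agent.Helper1.GrLim.desc_unique hg hspan' cf d (fun e i => rfl) hΨ hΨ'

end Groth.Agent.S8842
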