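import Groth.Statements.S10831
import Mathlib
import Groth.Agent.Helper5.TopDim

set_option autoImplicit false
universe u
open Topology TopologicalSpace
open TopDim

namespace Groth.Agent.S10831

/-- The Krull dimension of a topological space is the supremum of the Krull dimensions of its
irreducible components. -/
theorem result (X : Type u) [TopologicalSpace X] :
    topologicalKrullDim X = ⨆ Y ∈ irreducibleComponents X, topologicalKrullDim ↥Y := by
  apply le_antisymm
  · unfold topologicalKrullDim
    rw [Order.krullDim]
    apply iSup_le
    intro p
    obtain ⟨C, hC, hpC⟩ := exists_mem_irreducibleComponents_subset_of_isIrreducible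
      (p.last : Set X) p.last.isIrreducible
    have hsub : ∀ i, (p i : Set X) ⊆ C := fun i =>
      (show (p i : Set X) ⊆ p.last from SetLike.coe_subset_coe.mpr (LTSeries.monotone p (Fin.le_last i))).trans hpC
    let q : LTSeries (TopologicalSpace.IrreducibleCloseds C) :=
      { length := p.length
        toFun := fun i => ⟨(Subtype.val : C → X) ⁻¹' (p i : Set X),
          Groth.Agent.Helper5.TopDim.isIrreducible_preimage_val C _ (hsub i) (p i).isIrreducible,
          (p i).isClosed.preimage continuous_subtype_val⟩
        step := by
          intro i
          have hlt := p.step i
          have hlt' : (p i.castSucc : Set X) ⊂ (p i.succ : Set X) := SetLike.coe_ssubset_coe.mpr hlt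
          show (⟨_, _, _⟩ : TopologicalSpace.IrreducibleCloseds C) < ⟨_, _, _⟩
          rw [← SetLike.coe_ssubset_coe]
          constructor
          · exact Set.preimage_mono (f := (Subtype.val : C → X)) hlt'.1
          · intro hcon
            apply hlt'.2
            intro x hx
            have := hcon (show (⟨x, hsub _ hx⟩ : C) ∈ Subtype.val ⁻¹' (p i.succ : Set X) from hx)
            exact this }
    have h1 : (p.length : WithBot ℕ∞) ≤ Order.krullDim (TopologicalSpace.IrreducibleCloseds C) :=
      Order.LTSeries.length_le_krullDim q
    exact le_iSup₂_of_le C hC h1
  · apply iSup₂_le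
    intro C _
    exact topologicalKrullDim_subspace_le X C

end Groth.Agent.S10831
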