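import Groth.Statements.S7395
import Groth.Agent.Helper4.NApx1
import Mathlib

set_option autoImplicit false
universe u
open CategoryTheory AlgebraicGeometry
open Lim

namespace Groth.Agent.S7395


/-- Let `f : X → S` be separated and of finite type with `S` quasi-compact and quasi-separated. Then
there are a separated morphism `f' : X' → S` of finite presentation and a closed immersion `X → X'`
over `S`. -/
theorem result {X S : Scheme.{u}} (f : X ⟶ S) [IsSeparated f]
    [LocallyOfFiniteType f] [QuasiCompact f] [CompactSpace S] [QuasiSeparatedSpace S] :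
    ∃ (X' : Scheme.{u}) (f' : X' ⟶ S) (j : X ⟶ X'), IsSeparated f' ∧ LocallyOfFinitePresentation f' ∧
      QuasiCompact f' ∧ IsClosedImmersion j ∧ j ≫ f' = f := by

  haveI : CompactSpace X := QuasiCompact.compactSpace_of_compactSpace f
  haveI : QuasiSeparatedSpace X := quasiSeparatedSpace_of_quasiSeparated f
  obtain ⟨I, hP, hD, hN, D, c, hc, e, i₀, h1, h2, h3⟩ := Groth.Agent.Helper4.NApx1.core f
  haveI : IsIso e.hom.left := (Over.forget S).map_isIso e.hom
  haveI : IsIso e.inv.left := (Over.forget S).map_isIso e.inv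
  haveI : IsSeparated c.pt.hom := by
    have : c.pt.hom = e.hom.left ≫ f := (Over.w e.hom).symm
    rw [this]; infer_instance
  have h4 : ∀ i, CompactSpace (D.obj i).left := fun i => by
    haveI := (h1 i).2.1
    exact QuasiCompact.compactSpace_of_compactSpace (D.obj i).hom
  have h5 : ∀ i, QuasiSeparatedSpace (D.obj i).left := fun i => by
    haveI := (h1 i).2.2
    exact quasiSeparatedSpace_of_quasiSeparated (D.obj i).hom
  obtain ⟨i₁, hi₁⟩ := Groth.Agent.Helper4.NApx1.separated_eventually D c hc h2 h4 h5
  let i := IsCofiltered.min i₀ i₁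
  haveI := h3 i (IsCofiltered.minToLeft _ _)
  refine ⟨(D.obj i).left, (D.obj i).hom, e.inv.left ≫ (c.π.app i).left,
    hi₁ i (IsCofiltered.minToRight _ _), (h1 i).1, (h1 i).2.1, inferInstance, ?_⟩
  have h6 : (c.π.app i).left ≫ (D.obj i).hom = c.pt.hom := Over.w (c.π.app i)
  have h7 : e.inv.left ≫ c.pt.hom = f := Over.w e.inv
  rw [Category.assoc, h6, h7]

end Groth.Agent.S7395
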