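import Groth.Statements.S9634
import Groth.Agent.Helper4.GeomRed2
import Mathlib

set_option autoImplicit false
universe u
open CAlg

namespace Groth.Agent.S9634


open TensorProduct in
/-- (1) ⇔ (4) ⇔ (5): for a field k and a k-algebra S the following are equivalent: (1) the ring k' ⊗_k S
is reduced whenever k'/k is a finite purely inseparable field extension; (4) S is geometrically
reduced in Mathlib's sense, which over a field amounts to k̄ ⊗_k S being reduced for an algebraic
closure k̄; (5) K ⊗_k S is reduced for all field extensions K/k. In (1) and (5) the test fields
range over field extensions in the universe of k; this is equivalent to the unrestricted notion,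
since an algebraic closure of k suffices as a test. -/
theorem result {k S : Type u} [Field k] [CommRing S] [Algebra k S] :
    [∀ (k' : Type u) [Field k'] [Algebra k k'] [Module.Finite k k'] [IsPurelyInseparable k k'], IsReduced (k' ⊗[k] S),
      Algebra.IsGeometricallyReduced k S,
      ∀ (K : Type u) [Field K] [Algebra k K], IsReduced (K ⊗[k] S)].TFAE := by

  classical
  tfae_have 3 → 1 := by
    intro h k' _ _ _ _
    exact h k'
  tfae_have 2 → 3 := by
    intro h K _ _
    exact Groth.Agent.Helper4.GeomRed.isReduced_tensor_of_isGeometricallyReduced S K
  tfae_have 1 → 2 := by
    intro h
    let kb := AlgebraicClosure k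
    let kp := perfectClosure k kb
    -- step a
    have ha : IsReduced (S ⊗[k] kp) := by
      apply IsReduced.tensorProduct_of_flat_of_forall_fg
      intro B hB
      letI : Field B := (Subalgebra.isField_of_algebraic B).toField
      haveI : IsPurelyInseparable k B := IsPurelyInseparable.tower_bot k B kp
      haveI : Algebra.FiniteType k B := (Subalgebra.fg_iff_finiteType B).mp hB
      haveI : Algebra.IsIntegral k B := inferInstance
      haveI : Module.Finite k B := Algebra.IsIntegral.finite
      haveI := h B
      exact isReduced_of_injective (Algebra.TensorProduct.comm k S B).toAlgHom.toRingHom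
        (Algebra.TensorProduct.comm k S B).injective
    haveI hT : IsReduced (kp ⊗[k] S) :=
      isReduced_of_injective (Algebra.TensorProduct.comm k kp S).toAlgHom.toRingHom
        (Algebra.TensorProduct.comm k kp S).injective
    rw [Algebra.isGeometricallyReduced_field_iff]
    exact Groth.Agent.Helper4.GeomRed.isReduced_of_perfect_tower (F := kp) S hT
  tfae_finish

end Groth.Agent.S9634
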