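import Groth.Statements.S1355
import Groth.Agent.Helper4.ConnFinSep
import Groth.Agent.Helper3.ResNbhdSch
import Groth.Agent.Helper4.FibreBC
import Mathlib

set_option autoImplicit false
universe u
open FlatMor

namespace Groth.Agent.S1355


open AlgebraicGeometry CategoryTheory Limits in
/-- Let f : X → S and s a point of S. The fibre of f over s is geometrically connected if and only if
for every étale morphism U → S and every point u over s, the fibre over u of the base change of f to
U is connected. -/
theorem result {X S : Scheme.{u}} (f : X ⟶ S) (s : S) :
    GeometricallyConnected (f.fiberToSpecResidueField s) ↔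
      ∀ (U : Scheme.{u}) (g : U ⟶ S) (u : U), Etale g → g u = s → ConnectedSpace ↑((pullback.snd f g).fiber u) := by

  constructor
  · intro hgc U g u _ hgu
    subst hgu
    have hpb := isPullback_fiberToSpecResidueField_of_isPullback (IsPullback.of_hasPullback f g) u
    letI : Algebra (S.residueField (g u)) (U.residueField u) :=
      (g.residueFieldMap u).hom.toAlgebra
    have hc := (Groth.Agent.Helper4.GeomConnSch.geometricallyConnected_iff
      (k := S.residueField (g u)) (f.fiberToSpecResidueField (g u))).mp hgc (U.residueField u)
    exact hpb.isoPullback.hom.homeomorph.connectedSpace_iff.mpr hc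
  · intro h
    have hconn : ConnectedSpace ↥(pullback (f.fiberToSpecResidueField s)
        (Spec.map (CommRingCat.ofHom (algebraMap (S.residueField s)
          (SeparableClosure (S.residueField s)))))) := by
      refine Groth.Agent.Helper4.ConnFinSep.connectedSpace_bc_of_forall_fd
        (k := S.residueField s) (f.fiberToSpecResidueField s)
        (SeparableClosure (S.residueField s)) (fun E hE => ?_)
      haveI : Algebra.IsSeparable (S.residueField s) E :=
        Algebra.isSeparable_tower_bot_of_isSeparable (S.residueField s) E
          (SeparableClosure (S.residueField s))
      obtain ⟨U, g, u, hu, hget, ⟨e⟩⟩ := Groth.Agent.Helper3.ResNbhdSch.main S s E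
      letI a1 : Algebra (S.residueField s) (U.residueField u) :=
        ((S.residueFieldCongr hu).inv ≫ g.residueFieldMap u).hom.toAlgebra
      letI a2 : Algebra E (U.residueField u) := (e : E →+* U.residueField u).toAlgebra
      haveI : IsScalarTower (S.residueField s) E (U.residueField u) :=
        IsScalarTower.of_algebraMap_eq (fun x => (e.commutes x).symm)
      have hsurj := Groth.Agent.Helper4.GeomConnSch.bcMap_surjective
        (k := S.residueField s) (f.fiberToSpecResidueField s) E (U.residueField u)
      haveI hc := h U g u hget hu
      obtain ⟨i⟩ := Groth.Agent.Helper4.FibreBC.nonempty_fiber_iso f g u s hu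
      have hc2 := i.hom.homeomorph.connectedSpace_iff.mp hc
      rw [connectedSpace_iff_univ] at hc2 ⊢
      rw [← hsurj.range_eq, ← Set.image_univ]
      exact hc2.image _ (Groth.Agent.Helper4.GeomBC.bcMap (k := S.residueField s)
          (f.fiberToSpecResidueField s) E (U.residueField u)).continuous.continuousOn
    exact @Groth.Agent.Helper4.GeomConnSch.geometricallyConnected_of_sepClosure
      (S.residueField s) _ _ (f.fiberToSpecResidueField s) hconn

end Groth.Agent.S1355
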