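import Groth.Statements.S1693
import Mathlib

set_option autoImplicit false
universe u
open CategoryTheory CategoryTheory.Limits AlgebraicGeometry TopologicalSpace
open SDiv

namespace Groth.Agent.S1693

/-- Let X be a locally Noetherian scheme and Z a closed subset. Then the irreducible components of Z
form a locally finite family of subsets of X. -/
theorem result (X : Scheme.{u}) [IsLocallyNoetherian X] (Z : Set ↥X) (hZ : IsClosed Z) :
    LocallyFinite (fun T : ↥(irreducibleComponents ↥Z) => ((↑) '' (T.1 : Set ↥Z) : Set ↥X)) := by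
  intro x
  obtain ⟨_, ⟨U, hU, rfl⟩, hxU, -⟩ :=
    X.isBasis_affineOpens.exists_subset_of_mem_open (Set.mem_univ x) isOpen_univ
  have hNR : IsNoetherianRing Γ(X, U) := IsLocallyNoetherian.component_noetherian ⟨U, hU⟩
  have hNU : TopologicalSpace.NoetherianSpace U := noetherianSpace_of_isAffineOpen U hU
  refine ⟨U, U.2.mem_nhds hxU, ?_⟩
  let W : Set ↥Z := {z | z.1 ∈ U}
  have hWo : IsOpen W := U.2.preimage continuous_subtype_val
  let f : ↥W → ↥Z := Subtype.val
  have hf : Topology.IsOpenEmbedding f := hWo.isOpenEmbedding_subtypeVal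
  let ι : ↥W → ↥U := fun z => ⟨z.1.1, z.2⟩
  have hι : Topology.IsInducing ι := by
    have h1 : Topology.IsInducing (fun z : ↥W => (z.1.1 : X)) :=
      Topology.IsInducing.subtypeVal.comp Topology.IsInducing.subtypeVal
    have h2 : (fun z : ↥W => (z.1.1 : X)) = (Subtype.val : ↥U → X) ∘ ι := rfl
    rw [h2] at h1
    exact Topology.IsInducing.of_comp (by fun_prop) continuous_subtype_val h1
  have hNW : TopologicalSpace.NoetherianSpace ↥W :=
    @Topology.IsInducing.noetherianSpace _ _ _ _ hNU ι hι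
  have hfin := TopologicalSpace.NoetherianSpace.finite_irreducibleComponents (α := ↥W)
  have hrange : Set.range f = W := Subtype.range_coe
  have hmeet : ∀ T : ↥(irreducibleComponents ↥Z),
      (((↑) '' (T.1 : Set ↥Z) : Set ↥X) ∩ (U : Set X)).Nonempty → (T.1 ∩ Set.range f).Nonempty := by
    rintro T ⟨_, ⟨z, hzT, rfl⟩, hzU⟩
    exact ⟨z, hzT, by rw [hrange]; exact hzU⟩
  refine Set.Finite.of_finite_image (f := fun T => f ⁻¹' T.1) (hfin.subset ?_) ?_
  · rintro _ ⟨T, hT, rfl⟩
    exact preimage_mem_irreducibleComponents T.2 hf (hmeet T hT)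
  · intro T₁ h₁ T₂ h₂ h12
    have e1 := closure_image_preimage_of_isPreirreducible f hf.isOpenMap T₁.1
      (by obtain ⟨z, hz, ⟨w, rfl⟩⟩ := hmeet T₁ h₁; exact ⟨w, hz⟩) T₁.2.1.2
      (isClosed_of_mem_irreducibleComponents _ T₁.2)
    have e2 := closure_image_preimage_of_isPreirreducible f hf.isOpenMap T₂.1
      (by obtain ⟨z, hz, ⟨w, rfl⟩⟩ := hmeet T₂ h₂; exact ⟨w, hz⟩) T₂.2.1.2
      (isClosed_of_mem_irreducibleComponents _ T₂.2)
    apply Subtype.ext
    rw [← e1, ← e2]
    simp only at h12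
    rw [h12]

end Groth.Agent.S1693
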