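import Groth.Statements.S4462
import Groth.Agent.Helper1.ModPowT2
import Groth.Agent.Helper1.Bridge9
import Groth.Agent.Helper1.DRankConc
import Groth.Agent.Helper1.FlatCxLocal2
import Groth.Agent.Helper1.FlatCxChain
import Groth.Agent.Helper1.Bridge4

set_option autoImplicit false
universe u
open Coherent

namespace Groth.Agent.S4462

open AlgebraicGeometry CategoryTheory in
/-- Second assertion: for a local base: let A be a Noetherian local ring with maximal ideal m and closed
point y, X a scheme proper over Spec A, F a coherent O_X-module flat over Spec A and n ≥ 0 such that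
H^(n+1)(X_y, F_y) = 0, where X_y is the closed fibre and F_y the restriction of F to it. Then for
every p ≥ 0 the canonical map H^n(X, F) → H^n(X, F/m^(p+1)F) is surjective. (For a general locally
Noetherian base the published statement is about the stalk of R^n f_* F at a point; over the local
ring of that point this is the module H^n(X, F) used here.) -/
theorem result (A : Type u) [CommRing A] [IsNoetherianRing A]
    [IsLocalRing A] (X : Scheme.{u}) [X.Over (Spec (CommRingCat.of A))]
    [IsProper (X ↘ Spec (CommRingCat.of A))] (F : X.Modules) (hF : Coh.IsCoh F)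
    (hfl : FlatMod.IsFlatOver (X ↘ Spec (CommRingCat.of A)) F) (n : ℕ)
    (hvan : Subsingleton (CohIII.fiberH (X ↘ Spec (CommRingCat.of A)) F (IsLocalRing.closedPoint A) (n + 1)))
    (p : ℕ) :
    Function.Surjective (Formal.toHHmodPow (IsLocalRing.maximalIdeal A) F n p) := by
  haveI : F.IsQuasicoherent := hF.1
  obtain ⟨L, hLff, -, -, hbr, hrank, -, -⟩ :=
    Groth.Agent.Helper1.Bridge.exists_complex'' A X F hF hfl
  have hQ : ∀ i, Module.Finite A (L.X i) ∧ Module.Flat A (L.X i) := fun i =>
    ⟨(hLff i).1, by haveI := (hLff i).2; infer_instance⟩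
  have h0 : CohIII.dRank L (-((n + 1 : ℕ) : ℤ)) (IsLocalRing.closedPoint A) = 0 := by
    rw [hrank (n + 1) (IsLocalRing.closedPoint A)]
    exact Module.finrank_zero_of_subsingleton
  have hk := Groth.Agent.Helper1.DRankConc.isZero_TFun_residue_of_dRank_closedPoint L hQ _ h0
  have hz := Groth.Agent.Helper1.FlatCx.isZero_of_isZero_residueField L hQ _ hk
  have hmono : (CohIII.TFun L (-((n + 1 : ℕ) : ℤ))).PreservesMonomorphisms :=
    ⟨fun {M N} f _ => ⟨fun g h _ => (hz M).eq_of_tgt _ _⟩⟩
  have hepi : (CohIII.TFun L (-(n : ℤ))).PreservesEpimorphisms :=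
    (Groth.Agent.Helper1.FlatCx.chain_preservesEpi_iff_preservesMono L (fun i => (hQ i).2)
      (-(n : ℤ)) (-((n + 1 : ℕ) : ℤ)) (by push_cast; ring)).2 hmono
  obtain ⟨e⟩ := hbr n
  have hepi' : (CohIII.tensorAFunctor A F ⋙ CohIII.HAb X n).PreservesEpimorphisms :=
    (Groth.Agent.Helper1.Bridge.preservesEpi_iff e).2 hepi
  obtain ⟨b, hb⟩ := Groth.Agent.Helper1.ModPowT.exists_iso_modPow F
    (IsLocalRing.maximalIdeal A) (p + 1)
  have hs : Function.Surjective ((CohIII.tensorAFunctor A F ⋙ CohIII.HAb X n).map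
      (Groth.Agent.Helper1.ModPowT.π (IsLocalRing.maximalIdeal A ^ (p + 1)))).hom :=
    (AddCommGrpCat.epi_iff_surjective _).1 (hepi'.preserves _)
  intro z
  obtain ⟨w, hw⟩ := hs (((CohIII.HAb X n).map b.hom).hom z)
  refine ⟨((CohIII.HAb X n).map (Groth.Agent.Helper1.ModPowT.isoA F).hom).hom w, ?_⟩
  have hinj : Function.Injective ((CohIII.HAb X n).map b.hom).hom :=
    ((AddCommGrpCat.mono_iff_injective _).1 inferInstance)
  apply hinj
  rw [← hw]
  have h1 : (CohIII.HAb X n).map (Groth.Agent.Helper1.ModPowT.isoA F).hom ≫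
      (CohIII.HAb X n).map (Formal.modPowπ (IsLocalRing.maximalIdeal A) (p + 1) F) ≫
      (CohIII.HAb X n).map b.hom =
      (CohIII.tensorAFunctor A F ⋙ CohIII.HAb X n).map
        (Groth.Agent.Helper1.ModPowT.π (IsLocalRing.maximalIdeal A ^ (p + 1))) := by
    rw [← Functor.map_comp, ← Functor.map_comp, hb, Iso.hom_inv_id_assoc]
    rfl
  exact congrArg (fun k => k.hom w) h1

end Groth.Agent.S4462
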