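import Groth.Statements.S8260
import Mathlib

set_option autoImplicit false
universe u
open CategoryTheory CategoryTheory.Limits AlgebraicGeometry Opposite TopologicalSpace
open scoped HomogeneousIdeal
open EGA2

namespace Groth.Agent.S8260


set_option backward.isDefEq.respectTransparency.types false in
/-- If the quasi-coherent positively graded O_Y-algebra 𝒮 is of finite type (over every affine open U of
Y the ring 𝒮(U) is a finitely generated O_Y(U)-algebra), then its relative homogeneous spectrum
Proj(𝒮) is of finite type over Y. -/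
theorem result {Y P : Scheme.{u}} (𝒮 : RelProj.QCGrAlg Y)
    (hft : ∀ (U : Y.Opens) (hU : IsAffineOpen U), (𝒮.str.app (op U)).hom.FiniteType)
    (p : P ⟶ Y)
    (chart : ∀ (U : Y.Opens) (hU : IsAffineOpen U), (((p ⁻¹ᵁ U : P.Opens) : Scheme.{u}) ≅ Proj (𝒮.deg U hU)))
    (hP : RelProj.IsRelProj 𝒮 p chart) : LocallyOfFiniteType p ∧ QuasiCompact p := by

  -- local statement over an affine open
  have key : ∀ U : Y.affineOpens, LocallyOfFiniteType (p ∣_ U.1) ∧ QuasiCompact (p ∣_ U.1) := by
    rintro ⟨U, hU'⟩
    have hU : IsAffineOpen U := hU'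
    have h := hP.chart_over U hU
    have h2 : (p ∣_ U) ≫ U.ι = (p ⁻¹ᵁ U).ι ≫ p := morphismRestrict_ι p U
    set f := (𝒮.str.app (op U)).hom with hf
    set f0 := (𝒮.strZero U hU).hom with hf0
    have hcomp0 : f0 = (GradedRing.projZeroRingHom' (𝒮.deg U hU)).comp f := by
      ext r
      have hr : f r ∈ 𝒮.deg U hU 0 := 𝒮.str_mem U hU r
      have := GradedRing.projZeroRingHom'_apply_coe (𝒮.deg U hU) ⟨f r, hr⟩
      simp only [RingHom.comp_apply]
      rw [this]
      rfl
    have hft0 : f0.FiniteType := by
      rw [hcomp0]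
      exact (RingHom.FiniteType.of_surjective _
        (GradedRing.projZeroRingHom'_surjective (𝒮.deg U hU))).comp (hft U hU)
    have hcomp : f = (algebraMap (𝒮.deg U hU 0) (𝒮.presheaf.obj (op U))).comp f0 := by
      ext r; rfl
    haveI hftA : Algebra.FiniteType (𝒮.deg U hU 0) (𝒮.presheaf.obj (op U)) := by
      rw [← RingHom.finiteType_algebraMap]
      apply RingHom.FiniteType.of_comp_finiteType (f := f0)
      rw [← hcomp]
      exact hft U hU
    haveI : LocallyOfFiniteType (Spec.map (𝒮.strZero U hU)) := by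
      rw [HasRingHomProperty.Spec_iff (P := @LocallyOfFiniteType)]
      exact hft0
    have h3 : p ∣_ U = (chart U hU).hom ≫ Proj.toSpecZero (𝒮.deg U hU) ≫
        Spec.map (𝒮.strZero U hU) ≫ hU.isoSpec.inv := by
      rw [← cancel_mono U.ι, h2, ← h]
      simp only [Category.assoc, IsAffineOpen.isoSpec_inv_ι]
    rw [h3]
    exact ⟨inferInstance, inferInstance⟩
  constructor
  · rw [IsZariskiLocalAtTarget.iff_of_iSup_eq_top (P := @LocallyOfFiniteType)
      (fun U : Y.affineOpens => U.1) (iSup_affineOpens_eq_top Y)]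
    exact fun U => (key U).1
  · rw [IsZariskiLocalAtTarget.iff_of_iSup_eq_top (P := @QuasiCompact)
      (fun U : Y.affineOpens => U.1) (iSup_affineOpens_eq_top Y)]
    exact fun U => (key U).2

end Groth.Agent.S8260
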