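import Groth.Statements.S0056
import Groth.Agent.Helper1.AZ4
import Groth.Agent.Helper1.AZ5
import Groth.Agent.Helper1.AZ9
import Groth.Agent.Helper4.PullAmple
import Groth.Agent.Helper1.VA10
import Groth.Agent.Helper1.TwistAmple

set_option autoImplicit false
universe u
open Coherent

namespace Groth.Agent.S0056

open AlgebraicGeometry CategoryTheory CategoryTheory.Limits in
/-- Grothendieck's algebraization Theorem, with a slightly weaker conclusion. Let A be a Noetherian ring
complete for an ideal I, and S_n = Spec(A/I^(n+1)). Given schemes X_n over S_n with transition maps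
X_n → X_(n+1) making each X_n the base change of X_(n+1) to S_n, with X_0 → S_0 proper, and
invertible modules L_n on X_n with L_n ≅ (pullback of L_(n+1)) and L_0 ample, there exist a proper Y
→ Spec A, an ample invertible module M on Y and maps X_n → Y, compatible with the transition maps,
identifying X_n with Y ×_A S_n, under which L_n is isomorphic to the pullback of M. (The published
statement also makes these isomorphisms compatible with the given ones L_n ≅ (pullback of L_(n+1));
that compatibility is not asserted here.) -/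
theorem result (A : Type u) [CommRing A]
    [IsNoetherianRing A] (I : Ideal A) [IsAdicComplete I A]
    (Xs : ℕ → Scheme.{u}) (p : (n : ℕ) → (Xs n ⟶ Spec (CommRingCat.of (A ⧸ I ^ (n + 1)))))
    (i : (n : ℕ) → (Xs n ⟶ Xs (n + 1)))
    (hcart : ∀ n, IsPullback (i n) (p n) (p (n + 1)) (CohB1.specQuotTrans I n)) (hp : IsProper (p 0))
    (L : (n : ℕ) → (Xs n).Modules) (hL : ∀ n, PicF.IsInvertible (L n))
    (φ : ∀ n, Nonempty ((Scheme.Modules.pullback (i n)).obj (L (n + 1)) ≅ L n)) (ha : CohB1.IsAmple (L 0)) :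
    ∃ (Y : Scheme.{u}) (g : Y ⟶ Spec (CommRingCat.of A)) (M : Y.Modules) (e : (n : ℕ) → (Xs n ⟶ Y)),
      IsProper g ∧ PicF.IsInvertible M ∧ CohB1.IsAmple M ∧
      (∀ n, IsPullback (e n) (p n) g (CohB1.specQuot I n)) ∧ (∀ n, e n = i n ≫ e (n + 1)) ∧
      ∀ n, Nonempty ((Scheme.Modules.pullback (e n)).obj M ≅ L n) := by
  obtain ⟨N, r, hcl, hr, hri⟩ := Groth.Agent.Helper1.AZ.exists_tower_closedImmersion A I Xs p i
    hcart hp L hL φ ha
  letI instP : (Proj (CohB1.polyGrading N A)).Over (Spec (CommRingCat.of A)) :=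
    ⟨CohB1.ProjSpace.toSpec N A⟩
  haveI : IsProper ((Proj (CohB1.polyGrading N A)) ↘ Spec (CommRingCat.of A)) :=
    Groth.Agent.Helper6.HProj.isProper_toSpec N A
  haveI : CompactSpace (Proj (CohB1.polyGrading N A)) :=
    Groth.Agent.Helper1.VA.compactSpace_proj A N
  have hamp1 : CohB1.IsAmple (Twist.twist (CohB1.polyGrading N A) ((1 : ℕ) : ℤ)) :=
    Groth.Agent.Helper1.TwistMul.isAmple_twist (CohB1.polyGrading N A)
      (Groth.Agent.Helper1.PUP.hcovP N) 1 one_pos
  obtain ⟨Y, j, e, hj, hej, hee, hcartY⟩ :=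
    Groth.Agent.Helper1.AZ.exists_algebraization_closed A I hamp1 Xs p i hcart r hcl hr hri
  haveI := hj
  haveI : IsProper (j ≫ ((Proj (CohB1.polyGrading N A)) ↘ Spec (CommRingCat.of A))) :=
    inferInstance
  have hLY : CohB1.IsAmple ((Scheme.Modules.pullback j).obj
      (Twist.twist (CohB1.polyGrading N A) ((1 : ℕ) : ℤ))) :=
    Groth.Agent.Helper4.PullAmple.isAmple_pullback_of_isAffineHom j hamp1
  obtain ⟨M, hMinv, hMamp, hMpull⟩ :=
    Groth.Agent.Helper1.AZ.exists_algebraization_invertible A I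
      (j ≫ ((Proj (CohB1.polyGrading N A)) ↘ Spec (CommRingCat.of A))) hLY Xs p i hcart e hcartY
      hee L hL φ ha
  exact ⟨Y, j ≫ ((Proj (CohB1.polyGrading N A)) ↘ Spec (CommRingCat.of A)), M, e, inferInstance,
    hMinv, hMamp, hcartY, hee, hMpull⟩

end Groth.Agent.S0056
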