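import Groth.Statements.S2952
import Mathlib

set_option autoImplicit false
open RootPairing
open scoped Pointwise
universe u
open RootD

namespace Groth.Agent.S2952

theorem reflection_conj {ι R M N : Type*} [CommRing R] [AddCommGroup M] [Module R M]
    [AddCommGroup N] [Module R N] (P : RootPairing ι R M N) (i j : ι) :
    RootPairing.Equiv.reflection P (P.reflectionPerm j i) =
      RootPairing.Equiv.reflection P j * RootPairing.Equiv.reflection P i *
        RootPairing.Equiv.reflection P j := by
  refine RootPairing.Equiv.ext ?_ ?_ ?_
  · show (P.reflection (P.reflectionPerm j i) : M →ₗ[R] M) = _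
    rw [P.reflection_reflectionPerm]
    rfl
  · show (P.coreflection (P.reflectionPerm j i) : N →ₗ[R] N) = _
    have h := P.flip.reflection_reflectionPerm (i := i) (j := j)
    have h2 : P.coreflection (P.reflectionPerm j i) =
        P.coreflection j * P.coreflection i * P.coreflection j := h
    rw [h2]
    rfl
  · apply _root_.Equiv.ext
    intro k
    apply P.root.injective
    show P.root (P.reflectionPerm (P.reflectionPerm j i) k) =
      P.root (P.reflectionPerm j (P.reflectionPerm i (P.reflectionPerm j k)))
    simp only [P.root_reflectionPerm, P.reflection_reflectionPerm]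
    rfl

/-- For a finite crystallographic reduced root pairing over a characteristic-zero domain with a base b:
(1) the Weyl group is generated by the reflections in the simple roots; (2) every root is the image
of a simple root under an element of the Weyl group (acting on the indexing type). (The published
statement also covers the non-reduced case.) -/
theorem result {ι R M N : Type*} [CommRing R] [CharZero R] [IsDomain R] [AddCommGroup M] [Module R M]
    [AddCommGroup N] [Module R N] (P : RootPairing ι R M N) [Finite ι] [P.IsCrystallographic] [P.IsReduced]
    (b : P.Base) :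
    Subgroup.closure ((fun i : ι => Equiv.reflection P i) '' (b.support : Set ι)) = P.weylGroup ∧
    ∀ i : ι, ∃ g : P.Aut, g ∈ P.weylGroup ∧ ∃ j ∈ b.support, g • j = i := by
  refine ⟨?_, ?_⟩
  · apply le_antisymm
    · apply Subgroup.closure_mono
      rintro _ ⟨i, _, rfl⟩
      exact ⟨i, rfl⟩
    · unfold RootPairing.weylGroup
      rw [Subgroup.closure_le]
      rintro _ ⟨i, rfl⟩
      refine b.induction_reflect i
        (p := fun i => Equiv.reflection P i ∈
          Subgroup.closure ((fun i : ι => Equiv.reflection P i) '' (b.support : Set ι))) ?_ ?_ ?_
      · intro i hi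
        rw [reflection_conj]
        exact mul_mem (mul_mem hi hi) hi
      · intro i hi
        exact Subgroup.subset_closure ⟨i, hi, rfl⟩
      · intro i j hi hj
        rw [reflection_conj]
        have hj' : Equiv.reflection P j ∈
            Subgroup.closure ((fun i : ι => Equiv.reflection P i) '' (b.support : Set ι)) :=
          Subgroup.subset_closure ⟨j, hj, rfl⟩
        exact mul_mem (mul_mem hj' hi) hj'
  · intro i
    refine b.induction_reflect i
      (p := fun i => ∃ g : P.Aut, g ∈ P.weylGroup ∧ ∃ j ∈ b.support, g • j = i) ?_ ?_ ?_
    · rintro i ⟨g, hg, k, hk, hgk⟩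
      refine ⟨Equiv.reflection P i * g, mul_mem (P.reflection_mem_weylGroup i) hg, k, hk, ?_⟩
      rw [mul_smul, hgk]
      rfl
    · intro i hi
      exact ⟨1, one_mem _, i, hi, one_smul _ _⟩
    · rintro i j ⟨g, hg, k, hk, hgk⟩ hj
      refine ⟨Equiv.reflection P j * g, mul_mem (P.reflection_mem_weylGroup j) hg, k, hk, ?_⟩
      rw [mul_smul, hgk]
      rfl

end Groth.Agent.S2952
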