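import Groth.Statements.S6333
import Mathlib
import Groth.Agent.Helper2.AlgClosureFG
open IntermediateField MvPolynomial Groth.Agent.Helper2.AlgClosureFG
open scoped IntermediateField.algebraAdjoinAdjoin
-- import your own Groth.Agent.* helpers here

set_option autoImplicit false
universe u
open Fields

namespace Groth.Agent.S6333

/-- For a finitely generated field extension K/k, the algebraic closure of k inside K is a finite
extension of k. -/
theorem result {k K : Type u} [Field k] [Field K] [Algebra k K]
    (hfg : (⊤ : IntermediateField k K).FG) :
    FiniteDimensional k (algebraicClosure k K) := by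
  classical
  obtain ⟨S, hS⟩ := hfg
  haveI : IsFractionRing (Algebra.adjoin k (S : Set K)) K := .of_field _ _ fun y => by
    have hy : y ∈ IntermediateField.adjoin k (S : Set K) := by rw [hS]; trivial
    obtain ⟨a, ha, b, hb, eq⟩ := IntermediateField.mem_adjoin_iff_div.mp hy
    exact ⟨⟨a, ha⟩, ⟨b, hb⟩, eq⟩
  haveI halg : Algebra.IsAlgebraic (Algebra.adjoin k (S : Set K)) K :=
    IsLocalization.isAlgebraic _ (nonZeroDivisors (Algebra.adjoin k (S : Set K)))
  obtain ⟨t, htS, ht⟩ := exists_isTranscendenceBasis_subset (R := k) (S : Set K)
  haveI : Finite t := (S.finite_toSet.subset htS).to_subtype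
  let x : t → K := (↑)
  have hx : AlgebraicIndependent k x := ht.1
  let E := IntermediateField.adjoin k (Set.range x)
  haveI : Algebra.IsAlgebraic E K := ht.isAlgebraic_field
  haveI hfinEK : FiniteDimensional E K := by
    have h1 : IntermediateField.adjoin E (S : Set K) = ⊤ := by
      apply IntermediateField.restrictScalars_injective k
      rw [IntermediateField.adjoin_adjoin_left, IntermediateField.restrictScalars_top, eq_top_iff, ← hS]
      exact IntermediateField.adjoin.mono _ _ _ Set.subset_union_right
    haveI : FiniteDimensional E (IntermediateField.adjoin E (S : Set K)) :=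
      IntermediateField.finiteDimensional_adjoin (fun x _ => Algebra.IsIntegral.isIntegral x)
    rw [h1] at this
    exact Module.Finite.equiv (IntermediateField.topEquiv (F := E) (E := K)).toLinearEquiv
  have hrank : Module.rank k (algebraicClosure k K) ≤ (Module.finrank E K : ℕ) := by
    apply rank_le
    intro s hs
    have h1 := linearIndependent_adjoin hx (fun i : s => (i : algebraicClosure k K)) hs
    have h2 : LinearIndependent E (fun i : s => ((i : algebraicClosure k K) : K)) :=
      (LinearIndependent.iff_fractionRing (Algebra.adjoin k (Set.range x)) E).1 h1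
    have := h2.fintype_card_le_finrank
    simpa using this
  exact Module.rank_lt_aleph0_iff.1 (hrank.trans_lt (Cardinal.nat_lt_aleph0 _))

end Groth.Agent.S6333
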