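import Groth.Statements.S2032
import Mathlib
import Groth.Agent.Helper1.ElemStd

set_option autoImplicit false
universe u
open Smoothing

namespace Groth.Agent.S2032

/-- For a finitely presented `R`-algebra `A` and `a ∈ A`, if `a` is elementary standard then `A_a` is
standard smooth over `R`. (Part (f), the converse for large powers of `a`, is not stated: as
published it fails, for example for the nodal cubic `A = {g ∈ ℚ[u] : g(0) = g(1)}` and `a =
u(u-1)`.) -/
theorem result {R A : Type u} [CommRing R] [CommRing A]
    [Algebra R A] [Algebra.FinitePresentation R A] (a : A)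
    (ha : Smoothing.IsElementaryStandard R A a) : Algebra.IsStandardSmooth R (Localization.Away a) := by
  classical
  obtain ⟨P, ⟨a', ha'⟩, hkill⟩ := ha
  -- the leading relations and the quotient by them
  let v : Fin P.c → MvPolynomial (Fin P.n) R := fun i => P.rel (Fin.castLE P.hcm i)
  let Q₀ : Algebra.PreSubmersivePresentation R
      (MvPolynomial (Fin P.n) R ⧸ Ideal.span (Set.range v)) (Fin P.n) (Fin P.c) :=
    Algebra.PreSubmersivePresentation.naive (v := v) (Fin.castLE P.hcn) (Fin.castLE_injective _)
  have hjac : Q₀.jacobian = Ideal.Quotient.mk (Ideal.span (Set.range v))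
      (Smoothing.jacobianMinor P.rel (Fin.castLE P.hcm) (Fin.castLE P.hcn)) := by
    rw [Algebra.PreSubmersivePresentation.jacobian_eq_jacobiMatrix_det]
    change Ideal.Quotient.mk _ _ = _
    congr 1
    unfold Smoothing.jacobianMinor
    rw [← Matrix.det_transpose]
    congr 1
    ext i j
    rw [Matrix.transpose_apply, Algebra.PreSubmersivePresentation.jacobiMatrix_naive]
    rfl
  -- abbreviations
  have hI₀le : Ideal.span (Set.range v) ≤ RingHom.ker P.hom.toRingHom := by
    rw [P.ker_eq]
    apply Ideal.span_mono
    rintro _ ⟨i, rfl⟩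
    exact ⟨_, rfl⟩
  let π : (MvPolynomial (Fin P.n) R ⧸ Ideal.span (Set.range v)) →ₐ[R] A :=
    Ideal.Quotient.liftₐ (Ideal.span (Set.range v)) P.hom (fun x hx => hI₀le hx)
  have hπmk : ∀ x, π (Ideal.Quotient.mk (Ideal.span (Set.range v)) x) = P.hom x := fun x => rfl
  have hπsurj : Function.Surjective π.toRingHom := fun y => by
    obtain ⟨x, rfl⟩ := P.surj y
    exact ⟨Ideal.Quotient.mk _ x, hπmk x⟩
  have hkerπ : RingHom.ker π.toRingHom =
      (Ideal.span (Set.range P.rel)).map (Ideal.Quotient.mk (Ideal.span (Set.range v))) := by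
    rw [← P.ker_eq]
    exact Ideal.ker_quotient_lift P.hom.toRingHom hI₀le
  -- the element t
  obtain ⟨ã', hã'⟩ := P.surj a'
  have hã : P.hom (ã' * Smoothing.jacobianMinor P.rel (Fin.castLE P.hcm) (Fin.castLE P.hcn)) = a := by
    rw [map_mul, hã', ha']
  obtain ⟨t, ht⟩ : ∃ t : MvPolynomial (Fin P.n) R ⧸ Ideal.span (Set.range v),
      t = Ideal.Quotient.mk (Ideal.span (Set.range v))
        (ã' * Smoothing.jacobianMinor P.rel (Fin.castLE P.hcm) (Fin.castLE P.hcn)) := ⟨_, rfl⟩
  have hπt : π.toRingHom t = a := by rw [ht]; exact hã
  -- the localization of the quotient is standard smooth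
  have hTt : Algebra.IsStandardSmooth R (Localization.Away t) := by
    have hQ : IsUnit (((Algebra.PreSubmersivePresentation.localizationAway
        (Localization.Away t) t).comp Q₀).jacobian) := by
      rw [Algebra.PreSubmersivePresentation.comp_jacobian_eq_jacobian_smul_jacobian,
        Algebra.PreSubmersivePresentation.localizationAway_jacobian, Algebra.smul_def, hjac]
      have h1 : IsUnit (algebraMap _ (Localization.Away t) t) :=
        IsLocalization.Away.algebraMap_isUnit t
      have h2 : algebraMap _ (Localization.Away t) t =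
          algebraMap _ (Localization.Away t) (Ideal.Quotient.mk (Ideal.span (Set.range v)) ã') *
          algebraMap _ (Localization.Away t) (Ideal.Quotient.mk (Ideal.span (Set.range v))
            (Smoothing.jacobianMinor P.rel (Fin.castLE P.hcm) (Fin.castLE P.hcn))) := by
        rw [ht, ← map_mul, ← map_mul]
      have h3 := h1
      rw [h2] at h3
      exact IsUnit.mul (isUnit_of_mul_isUnit_right h3) h1
    exact (⟨_, hQ⟩ : Algebra.SubmersivePresentation R (Localization.Away t) _ _).isStandardSmooth
  -- the algebra structure of `A_a` over the localized quotient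
  have hgt : IsUnit (((algebraMap A (Localization.Away a)).comp π.toRingHom) t) := by
    change IsUnit (algebraMap A (Localization.Away a) (π.toRingHom t))
    rw [hπt]
    exact IsLocalization.Away.algebraMap_isUnit a
  letI algTtAa : Algebra (Localization.Away t) (Localization.Away a) :=
    (IsLocalization.Away.lift t hgt).toAlgebra
  have hcomm : ∀ x, algebraMap (Localization.Away t) (Localization.Away a)
      (algebraMap _ (Localization.Away t) x) = algebraMap A (Localization.Away a) (π.toRingHom x) :=
    fun x => IsLocalization.Away.lift_eq t hgt x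
  have htower : IsScalarTower R (Localization.Away t) (Localization.Away a) :=
    IsScalarTower.of_algebraMap_eq (fun r => by
      rw [IsScalarTower.algebraMap_apply R (MvPolynomial (Fin P.n) R ⧸ Ideal.span (Set.range v))
        (Localization.Away t), hcomm]
      change _ = algebraMap A (Localization.Away a) (π (algebraMap R _ r))
      rw [AlgHom.commutes, ← IsScalarTower.algebraMap_apply])
  have hG : Ideal.span (Set.range (fun j => Ideal.Quotient.mk (Ideal.span (Set.range v)) (P.rel j))) =
      RingHom.ker π.toRingHom := by
    rw [hkerπ, Ideal.map_span, ← Set.range_comp]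
    rfl
  have hkill' : ∀ g ∈ Set.range (fun j => Ideal.Quotient.mk (Ideal.span (Set.range v)) (P.rel j)),
      t * g ∈ RingHom.ker π.toRingHom ^ 2 := by
    rintro _ ⟨j, rfl⟩
    beta_reduce
    by_cases hj : (j : ℕ) < P.c
    · have h1 : P.rel j ∈ Ideal.span (Set.range v) :=
        Ideal.subset_span ⟨⟨j, hj⟩, by simp [v]⟩
      rw [Ideal.Quotient.eq_zero_iff_mem.mpr h1, mul_zero]
      exact Ideal.zero_mem _
    · have h1 := hkill _ hã j (not_lt.mp hj)
      have h2 := Ideal.mem_map_of_mem (Ideal.Quotient.mk (Ideal.span (Set.range v))) h1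
      rw [Ideal.map_sup, Ideal.map_pow, ← hkerπ, map_mul, ← ht] at h2
      have h3 : (Ideal.span (P.rel '' {j' : Fin P.m | (j' : ℕ) < P.c})).map
          (Ideal.Quotient.mk (Ideal.span (Set.range v))) = ⊥ := by
        rw [Ideal.map_eq_bot_iff_le_ker, Ideal.mk_ker]
        apply Ideal.span_mono
        rintro _ ⟨j', hj', rfl⟩
        exact ⟨⟨j', hj'⟩, by simp [v]⟩
      rw [h3, bot_sup_eq] at h2
      exact h2
  obtain ⟨s, hs⟩ := Groth.Agent.Helper1.ElemStd.exists_away (Tt := Localization.Away t)
    (Aa := Localization.Away a) t a π.toRingHom hπsurj hπt hcomm _ (Set.finite_range _) hG hkill'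
  have h1 : Algebra.IsStandardSmooth (Localization.Away t) (Localization.Away a) :=
    Algebra.IsStandardSmooth.localization_away s
  exact Algebra.IsStandardSmooth.trans R (Localization.Away t) (Localization.Away a)

end Groth.Agent.S2032
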