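import Groth.Statements.S4542
import Mathlib
import Groth.Agent.Helper2.AdicFS2
open Groth.Agent.Helper2
-- import your own Groth.Agent.* helpers here

set_option autoImplicit false
universe u
open EGA41

namespace Groth.Agent.S4542

/-- Let B (𝔟-adic) be formally smooth over A (𝔞-adic); let C be a topological A-algebra for the 𝔠-adic
topology (a power of 𝔞 maps into 𝔠) which is complete, and J an ideal which is closed, i.e. C/J is
Hausdorff for the 𝔠-adic topology, and whose powers tend to 0, i.e. some power of J lies in 𝔠. Then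
every continuous A-algebra homomorphism u : B → C/J (a power of 𝔟 maps into the image of 𝔠) factors
as B → C → C/J with B → C a continuous A-algebra homomorphism (a power of 𝔟 maps into 𝔠). -/
theorem result {A B C : Type u} [CommRing A] [CommRing B] [CommRing C] [Algebra A B]
    [Algebra A C] (𝔞 : Ideal A) (𝔟 : Ideal B) (𝔠 : Ideal C) (hB : EGA41.IsFormallySmoothAdic A 𝔞 B 𝔟)
    [IsAdicComplete 𝔠 C] (hAC : ∃ k : ℕ, (𝔞 ^ k).map (algebraMap A C) ≤ 𝔠)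
    (J : Ideal C) (hJ : ∃ t : ℕ, J ^ t ≤ 𝔠) [IsHausdorff (𝔠.map (Ideal.Quotient.mk J)) (C ⧸ J)]
    (u : B →ₐ[A] C ⧸ J) (hu : ∃ k : ℕ, (𝔟 ^ k).map u.toRingHom ≤ 𝔠.map (Ideal.Quotient.mk J)) :
    ∃ v : B →ₐ[A] C, (∃ k : ℕ, (𝔟 ^ k).map v.toRingHom ≤ 𝔠) ∧ (Ideal.Quotient.mkₐ A J).comp v = u := by
  obtain ⟨k₀, hk₀⟩ := hAC
  obtain ⟨t, ht⟩ := hJ
  obtain ⟨k₁, hk₁⟩ := hu
  -- notation
  let Jn : ∀ n : ℕ, Ideal (C ⧸ 𝔠 ^ n) := fun n => J.map (Ideal.Quotient.mk (𝔠 ^ n))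
  have hJn_nil : ∀ n, IsNilpotent (Jn n) := fun n => by
    refine ⟨t * n, ?_⟩
    change (J.map (Ideal.Quotient.mk (𝔠 ^ n))) ^ (t * n) = 0
    rw [← Ideal.map_pow, Ideal.zero_eq_bot, eq_bot_iff, pow_mul]
    refine (Ideal.map_mono (Ideal.pow_right_mono ht n)).trans ?_
    rw [Ideal.map_quotient_self]
  have hDn : ∀ n, ∃ m : ℕ, (𝔞 ^ m).map (algebraMap A (C ⧸ 𝔠 ^ n)) = ⊥ := fun n => by
    refine ⟨k₀ * n, ?_⟩
    have h0 : algebraMap A (C ⧸ 𝔠 ^ n) = (Ideal.Quotient.mk (𝔠 ^ n)).comp (algebraMap A C) := rfl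
    rw [h0, ← Ideal.map_map, eq_bot_iff, pow_mul, Ideal.map_pow]
    refine (Ideal.map_mono (Ideal.pow_right_mono hk₀ n)).trans ?_
    rw [Ideal.map_quotient_self]
  -- continuity of u modulo 𝔠 ^ n
  have hucont : ∀ n (x : B), x ∈ 𝔟 ^ (k₁ * n) → ∃ c ∈ 𝔠 ^ n, Ideal.Quotient.mk J c = u x := by
    intro n x hx
    have h1 : (𝔟 ^ (k₁ * n)).map u.toRingHom ≤ (𝔠 ^ n).map (Ideal.Quotient.mk J) := by
      rw [pow_mul, Ideal.map_pow u.toRingHom (𝔟 ^ k₁) n, Ideal.map_pow (Ideal.Quotient.mk J) 𝔠 n]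
      exact Ideal.pow_right_mono hk₁ n
    have h2 := h1 (Ideal.mem_map_of_mem _ hx)
    obtain ⟨c, hc, hc'⟩ := (Ideal.mem_map_iff_of_surjective _ Ideal.Quotient.mk_surjective).1 h2
    exact ⟨c, hc, hc'⟩
  -- the predicates
  let Pn : ∀ n : ℕ, (B →ₐ[A] C ⧸ 𝔠 ^ n) → Prop := fun n v =>
    (∀ b, ∀ c : C, Ideal.Quotient.mk J c = u b →
      Ideal.Quotient.mk (Jn n) (Ideal.Quotient.mk (𝔠 ^ n) c) = Ideal.Quotient.mk (Jn n) (v b)) ∧
    ∃ k : ℕ, ∀ x ∈ 𝔟 ^ k, v x = 0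
  -- the step
  have step : ∀ n (v : B →ₐ[A] C ⧸ 𝔠 ^ n), Pn n v →
      ∃ w : B →ₐ[A] C ⧸ 𝔠 ^ (n + 1), Pn (n + 1) w ∧
        (Ideal.Quotient.factorₐ A (Ideal.pow_le_pow_right (Nat.le_succ n))).comp w = v := by
    intro n v ⟨hv1, hv2⟩
    let f : (C ⧸ 𝔠 ^ (n + 1)) →ₐ[A] C ⧸ 𝔠 ^ n :=
      Ideal.Quotient.factorₐ A (Ideal.pow_le_pow_right (Nat.le_succ n))
    have hf : Function.Surjective f :=
      Ideal.Quotient.factor_surjective (Ideal.pow_le_pow_right (Nat.le_succ n))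
    have hfmk : ∀ c : C, f (Ideal.Quotient.mk _ c) = Ideal.Quotient.mk _ c := fun c => rfl
    have hfR : (Jn (n + 1)).map f.toRingHom = Jn n := by
      change (J.map (Ideal.Quotient.mk (𝔠 ^ (n + 1)))).map f.toRingHom = J.map (Ideal.Quotient.mk (𝔠 ^ n))
      rw [Ideal.map_map]
      rfl
    have hle : J ≤ (Jn (n + 1)).comap (Ideal.Quotient.mkₐ A (𝔠 ^ (n + 1))).toRingHom :=
      Ideal.le_comap_map
    let u' : B →ₐ[A] (C ⧸ 𝔠 ^ (n + 1)) ⧸ Jn (n + 1) :=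
      (Ideal.quotientMapₐ (Jn (n + 1)) (Ideal.Quotient.mkₐ A (𝔠 ^ (n + 1))) hle).comp u
    have hu'mk : ∀ b (c : C), Ideal.Quotient.mk J c = u b →
        u' b = Ideal.Quotient.mk (Jn (n + 1)) (Ideal.Quotient.mk (𝔠 ^ (n + 1)) c) := by
      intro b c hc
      change Ideal.quotientMapₐ (Jn (n + 1)) (Ideal.Quotient.mkₐ A (𝔠 ^ (n + 1))) hle (u b) = _
      rw [← hc]
      rfl
    have hu'cont : ∃ k : ℕ, ∀ x ∈ 𝔟 ^ k, u' x = 0 := by
      refine ⟨k₁ * (n + 1), fun x hx => ?_⟩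
      obtain ⟨c, hc, hc'⟩ := hucont (n + 1) x hx
      rw [hu'mk x c hc', Ideal.Quotient.eq_zero_iff_mem.2 hc, map_zero]
    obtain ⟨w, hw1, hw2⟩ := AdicFS.lift_compatible 𝔞 𝔟 hB (hDn (n + 1)) (Jn (n + 1)) (Jn n)
      (hJn_nil (n + 1)) f hf hfR u' hu'cont v hv2 (fun b => by
        obtain ⟨c, hc⟩ := Ideal.Quotient.mk_surjective (u b)
        refine ⟨Ideal.Quotient.mk _ c, (hu'mk b c hc).symm, ?_⟩
        rw [hfmk]
        exact hv1 b c hc)
    refine ⟨w, ⟨?_, ?_⟩, hw1⟩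
    · intro b c hc
      have := congrArg (fun φ => φ b) hw2
      rw [← hu'mk b c hc]
      exact this.symm
    · apply AdicFS.cont_of_cont_mk 𝔟 (Jn (n + 1)) (hJn_nil (n + 1)) w
      rw [hw2]
      exact hu'cont
  -- base
  have hsub : Subsingleton (C ⧸ 𝔠 ^ 0) := by
    rw [Ideal.Quotient.subsingleton_iff, pow_zero, Ideal.one_eq_top]
  let v₀ : B →ₐ[A] C ⧸ 𝔠 ^ 0 :=
    { toFun := fun _ => 0
      map_one' := Subsingleton.elim _ _
      map_mul' := fun _ _ => Subsingleton.elim _ _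
      map_zero' := rfl
      map_add' := fun _ _ => Subsingleton.elim _ _
      commutes' := fun _ => Subsingleton.elim _ _ }
  have hv₀ : Pn 0 v₀ := by
    refine ⟨fun b c _ => ?_, ⟨0, fun x _ => rfl⟩⟩
    congr 1
    exact Subsingleton.elim _ _
  -- the sequence
  let T : ℕ → Type u := fun n => { v : B →ₐ[A] C ⧸ 𝔠 ^ n // Pn n v }
  let seq : ∀ n, T n := fun n => Nat.rec (motive := T) ⟨v₀, hv₀⟩
    (fun n v => ⟨(step n v.1 v.2).choose, (step n v.1 v.2).choose_spec.1⟩) n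
  have hseq : ∀ n, (Ideal.Quotient.factorₐ A (Ideal.pow_le_pow_right (Nat.le_succ n))).comp (seq (n + 1)).1 =
      (seq n).1 := fun n => (step n (seq n).1 (seq n).2).choose_spec.2
  let vs : ∀ n, B →ₐ[A] C ⧸ 𝔠 ^ n := fun n => (seq n).1
  have hcompat : ∀ {m n : ℕ} (hle : m ≤ n),
      (Ideal.Quotient.factorₐ A (Ideal.pow_le_pow_right hle)).comp (vs n) = vs m := by
    intro m n hle
    induction n, hle using Nat.le_induction with
    | base =>
      ext b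
      obtain ⟨c, hc⟩ := Ideal.Quotient.mk_surjective (vs m b)
      change Ideal.Quotient.factor (Ideal.pow_le_pow_right (le_refl m)) (vs m b) = vs m b
      rw [← hc, Ideal.Quotient.factor_mk]
    | succ n hmn ih =>
      ext b
      obtain ⟨c, hc⟩ := Ideal.Quotient.mk_surjective (vs (n + 1) b)
      have h1 := congrArg (fun φ => φ b) (hseq n)
      have h2 := congrArg (fun φ => φ b) ih
      change Ideal.Quotient.factor (Ideal.pow_le_pow_right (hmn.trans (Nat.le_succ n))) (vs (n + 1) b) = vs m b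
      change Ideal.Quotient.factor (Ideal.pow_le_pow_right (Nat.le_succ n)) (vs (n + 1) b) = vs n b at h1
      change Ideal.Quotient.factor (Ideal.pow_le_pow_right hmn) (vs n b) = vs m b at h2
      rw [← hc, Ideal.Quotient.factor_mk] at h1
      rw [← hc, Ideal.Quotient.factor_mk, ← h2, ← h1, Ideal.Quotient.factor_mk]
  let v : B →ₐ[A] C := IsAdicComplete.liftAlgHom 𝔠 vs hcompat
  have hv : ∀ n b, Ideal.Quotient.mk (𝔠 ^ n) (v b) = vs n b := fun n b =>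
    IsAdicComplete.mk_liftAlgHom 𝔠 vs hcompat n b
  refine ⟨v, ?_, ?_⟩
  · -- continuity
    obtain ⟨k, hk⟩ := (seq 1).2.2
    refine ⟨k, ?_⟩
    rw [Ideal.map_le_iff_le_comap]
    intro x hx
    rw [Ideal.mem_comap]
    have h1 : Ideal.Quotient.mk (𝔠 ^ 1) (v x) = 0 := by
      rw [hv 1 x]
      exact hk x hx
    have h2 := Ideal.Quotient.eq_zero_iff_mem.1 h1
    rwa [pow_one] at h2
  · -- lifts u
    ext b
    change Ideal.Quotient.mk J (v b) = u b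
    rw [← sub_eq_zero]
    apply IsHausdorff.haus ‹IsHausdorff (𝔠.map (Ideal.Quotient.mk J)) (C ⧸ J)›
    intro n
    rw [SModEq.zero, smul_eq_mul, Ideal.mul_top, ← Ideal.map_pow]
    obtain ⟨c, hc⟩ := Ideal.Quotient.mk_surjective (u b)
    have h1 := (seq n).2.1 b c hc
    rw [← hv n b, Ideal.Quotient.eq, ← map_sub] at h1
    obtain ⟨j, hj, hj'⟩ := (Ideal.mem_map_iff_of_surjective _ Ideal.Quotient.mk_surjective).1 h1
    have h2 : j - (c - v b) ∈ 𝔠 ^ n := by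
      rw [← Ideal.Quotient.eq]
      exact hj'
    have h3 : Ideal.Quotient.mk J (v b) - u b = Ideal.Quotient.mk J (j - (c - v b)) := by
      rw [← hc, map_sub, map_sub, Ideal.Quotient.eq_zero_iff_mem.2 hj]
      abel
    rw [h3]
    exact Ideal.mem_map_of_mem _ h2

end Groth.Agent.S4542
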