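import Groth.Statements.S2462
import Mathlib
import Groth.Agent.S4542

set_option autoImplicit false
universe u
open EGA41

namespace Groth.Agent.S2462

open IsLocalRing in
/-- Let A carry the 𝔞-adic and B the 𝔟-adic topology with B formally smooth over A; let C be a complete
Noetherian local A-algebra with 𝔞C inside the maximal ideal (continuity of A → C) and J ≠ C an
ideal. Then every A-algebra homomorphism u : B → C/J sending 𝔟 into the maximal ideal of C/J
(continuity) is induced by an A-algebra homomorphism v : B → C sending 𝔟 into the maximal ideal of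
C. -/
theorem result {A B C : Type u} [CommRing A] (𝔞 : Ideal A) [CommRing B] [Algebra A B] (𝔟 : Ideal B)
    (hB : EGA41.IsFormallySmoothAdic A 𝔞 B 𝔟)
    [CommRing C] [IsLocalRing C] [IsNoetherianRing C] [IsAdicComplete (maximalIdeal C) C] [Algebra A C]
    (hA : 𝔞.map (algebraMap A C) ≤ maximalIdeal C) (J : Ideal C) (hJ : J ≠ ⊤)
    (u : B →ₐ[A] C ⧸ J) (hu : 𝔟.map u.toRingHom ≤ (maximalIdeal C).map (Ideal.Quotient.mk J)) :
    ∃ v : B →ₐ[A] C, 𝔟.map v.toRingHom ≤ maximalIdeal C ∧ (Ideal.Quotient.mkₐ A J).comp v = u := by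
  haveI : IsHausdorff ((maximalIdeal C).map (Ideal.Quotient.mk J)) (C ⧸ J) := by
    apply IsHausdorff.of_le_jacobson
    rw [Ideal.map_le_iff_le_comap]
    intro x hx
    rw [Ideal.mem_comap, Ideal.mem_jacobson_bot]
    intro y
    obtain ⟨y, rfl⟩ := Ideal.Quotient.mk_surjective y
    rw [← map_mul, ← map_one (Ideal.Quotient.mk J), ← map_add]
    apply IsUnit.map
    by_contra h
    have h1 : x * y + 1 ∈ maximalIdeal C := (IsLocalRing.mem_maximalIdeal _).mpr h
    have h2 : x * y ∈ maximalIdeal C := Ideal.mul_mem_right _ _ hx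
    have h3 : (1 : C) ∈ maximalIdeal C := by
      have := Ideal.sub_mem _ h1 h2
      simpa using this
    exact (Ideal.ne_top_iff_one _).mp (IsLocalRing.maximalIdeal.isMaximal C).ne_top h3
  have hJle : J ≤ maximalIdeal C := IsLocalRing.le_maximalIdeal hJ
  obtain ⟨v, -, hv⟩ := Groth.Agent.S4542.result 𝔞 𝔟 (maximalIdeal C) hB
    ⟨1, by rwa [pow_one]⟩ J ⟨1, by rwa [pow_one]⟩ u ⟨1, by rwa [pow_one]⟩
  refine ⟨v, ?_, hv⟩
  rw [Ideal.map_le_iff_le_comap]
  intro b hb
  rw [Ideal.mem_comap]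
  have h1 : u b ∈ (maximalIdeal C).map (Ideal.Quotient.mk J) :=
    hu (Ideal.mem_map_of_mem _ hb)
  have h2 : Ideal.Quotient.mk J (v b) = u b := AlgHom.congr_fun hv b
  rw [← h2] at h1
  rw [Ideal.mem_map_iff_of_surjective _ Ideal.Quotient.mk_surjective] at h1
  obtain ⟨c, hc, hcv⟩ := h1
  have h3 : c - v b ∈ J := Ideal.Quotient.eq.mp hcv
  have h4 : v b = c - (c - v b) := by ring
  change v b ∈ maximalIdeal C
  rw [h4]
  exact Ideal.sub_mem _ hc (hJle h3)

end Groth.Agent.S2462
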