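import Groth.Statements.S2461
import Mathlib
import Groth.Agent.Helper2.AdicFS

set_option autoImplicit false
universe u
open EGA41

namespace Groth.Agent.S2461

variable {A B : Type u} [CommRing A] [CommRing B] [Algebra A B] (𝔟 : Ideal B)

/-- the evaluation maps as `A`-algebra maps -/
noncomputable def ev (n : ℕ) : AdicCompletion 𝔟 B →ₐ[A] B ⧸ 𝔟 ^ n :=
  (AdicCompletion.evalₐ 𝔟 n).restrictScalars A

/-- the canonical map as `A`-algebra map -/
noncomputable def iota : B →ₐ[A] AdicCompletion 𝔟 B := IsScalarTower.toAlgHom A B (AdicCompletion 𝔟 B)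

lemma ev_iota (n : ℕ) (b : B) : ev (A := A) 𝔟 n (iota (A := A) 𝔟 b) = Ideal.Quotient.mk (𝔟 ^ n) b := by
  change AdicCompletion.evalₐ 𝔟 n (algebraMap B (AdicCompletion 𝔟 B) b) = _
  rw [AdicCompletion.algebraMap_apply, AdicCompletion.evalₐ_of]
  rfl

lemma map_pow_le_ker (n : ℕ) (x : AdicCompletion 𝔟 B)
    (hx : x ∈ (𝔟.map (algebraMap B (AdicCompletion 𝔟 B))) ^ n) : ev (A := A) 𝔟 n x = 0 := by
  rw [← Ideal.map_pow] at hx
  have hle : (𝔟 ^ n).map (algebraMap B (AdicCompletion 𝔟 B)) ≤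
      RingHom.ker (AdicCompletion.evalₐ 𝔟 n).toRingHom := by
    rw [Ideal.map_le_iff_le_comap]
    intro a ha
    rw [Ideal.mem_comap, RingHom.mem_ker]
    change AdicCompletion.evalₐ 𝔟 n (algebraMap B (AdicCompletion 𝔟 B) a) = 0
    rw [AdicCompletion.algebraMap_apply, AdicCompletion.evalₐ_of]
    exact Ideal.Quotient.eq_zero_iff_mem.mpr ha
  exact hle hx

lemma ker_le_map_pow (hfg : 𝔟.FG) (n : ℕ) (x : AdicCompletion 𝔟 B) (hx : ev (A := A) 𝔟 n x = 0) :
    x ∈ (𝔟.map (algebraMap B (AdicCompletion 𝔟 B))) ^ n := by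
  have h1 : x ∈ LinearMap.ker (AdicCompletion.eval 𝔟 B n) := by
    rw [LinearMap.mem_ker]
    have h2 : AdicCompletion.evalₐ 𝔟 n x = 0 := hx
    unfold AdicCompletion.evalₐ at h2
    simp only [AlgHom.comp_apply] at h2
    exact (AlgEquiv.injective _) (h2.trans (map_zero _).symm)
  rw [← AdicCompletion.pow_smul_top_eq_ker_eval hfg] at h1
  rw [← Ideal.map_pow]
  refine Submodule.smul_induction_on h1 ?_ ?_
  · intro a ha y _
    rw [Algebra.smul_def]
    exact Ideal.mul_mem_right _ _ (Ideal.mem_map_of_mem _ ha)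
  · intro y z hy hz
    exact Ideal.add_mem _ hy hz

/-- Let A carry the 𝔞-adic topology and let B be a Noetherian A-algebra with the 𝔟-adic topology. Then B
is formally smooth over A if and only if the 𝔟-adic completion of B, with the adic topology of the
extended ideal, is formally smooth over A. -/
theorem result {A B : Type u} [CommRing A] (𝔞 : Ideal A) [CommRing B] [IsNoetherianRing B] [Algebra A B] (𝔟 : Ideal B) :
    EGA41.IsFormallySmoothAdic A 𝔞 B 𝔟 ↔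
      EGA41.IsFormallySmoothAdic A 𝔞 (AdicCompletion 𝔟 B) (𝔟.map (algebraMap B (AdicCompletion 𝔟 B))) := by
  have hfg : 𝔟.FG := (isNoetherianRing_iff_ideal_fg B).mp inferInstance 𝔟
  constructor
  · intro hB C _ _ J hJ hC û ⟨k, hk⟩
    let u : B →ₐ[A] C ⧸ J := û.comp (iota 𝔟)
    have hu : ∀ x ∈ 𝔟 ^ k, u x = 0 := by
      intro x hx
      apply hk
      rw [← Ideal.map_pow]
      exact Ideal.mem_map_of_mem _ hx
    obtain ⟨v, hv⟩ := hB C J hJ hC u ⟨k, hu⟩
    obtain ⟨m, hm⟩ := Groth.Agent.Helper2.AdicFS.cont_of_cont_mk 𝔟 J hJ v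
      ⟨k, fun x hx => by rw [hv]; exact hu x hx⟩
    let vbar : B ⧸ 𝔟 ^ m →ₐ[A] C := Ideal.Quotient.liftₐ (𝔟 ^ m) v hm
    refine ⟨vbar.comp (ev 𝔟 m), ?_⟩
    ext x
    let N := max k m
    obtain ⟨b, hb⟩ := Ideal.Quotient.mk_surjective (ev (A := A) 𝔟 N x)
    have hy : x - iota (A := A) 𝔟 b ∈ (𝔟.map (algebraMap B (AdicCompletion 𝔟 B))) ^ N := by
      apply ker_le_map_pow (A := A) 𝔟 hfg
      rw [map_sub, ev_iota, hb, sub_self]
    have hyk : x - iota (A := A) 𝔟 b ∈ (𝔟.map (algebraMap B (AdicCompletion 𝔟 B))) ^ k :=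
      Ideal.pow_le_pow_right (le_max_left k m) hy
    have hym : x - iota (A := A) 𝔟 b ∈ (𝔟.map (algebraMap B (AdicCompletion 𝔟 B))) ^ m :=
      Ideal.pow_le_pow_right (le_max_right k m) hy
    have h1 : û (x - iota (A := A) 𝔟 b) = 0 := hk _ hyk
    have h2 : ev (A := A) 𝔟 m (x - iota (A := A) 𝔟 b) = 0 := map_pow_le_ker 𝔟 m _ hym
    rw [map_sub, sub_eq_zero] at h1 h2
    change Ideal.Quotient.mk J (vbar (ev (A := A) 𝔟 m x)) = û x
    rw [h1, h2, ev_iota]
    change Ideal.Quotient.mk J (v b) = û (iota 𝔟 b)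
    exact AlgHom.congr_fun hv b
  · intro hB C _ _ J hJ hC u ⟨k, hk⟩
    let ubar : B ⧸ 𝔟 ^ k →ₐ[A] C ⧸ J := Ideal.Quotient.liftₐ (𝔟 ^ k) u hk
    obtain ⟨v, hv⟩ := hB C J hJ hC (ubar.comp (ev 𝔟 k)) ⟨k, fun x hx => by
      change ubar (ev (A := A) 𝔟 k x) = 0
      rw [map_pow_le_ker 𝔟 k x hx, map_zero]⟩
    refine ⟨v.comp (iota 𝔟), ?_⟩
    ext b
    have := AlgHom.congr_fun hv (iota (A := A) 𝔟 b)
    change Ideal.Quotient.mk J (v (iota 𝔟 b)) = ubar (ev (A := A) 𝔟 k (iota (A := A) 𝔟 b)) at this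
    rw [ev_iota] at this
    exact this

end Groth.Agent.S2461
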