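import Groth.Statements.S4537
import Mathlib
import Groth.Agent.Helper2.AdicFS
open Groth.Agent.Helper2
-- import your own Groth.Agent.* helpers here

set_option autoImplicit false
universe u
open EGA41

namespace Groth.Agent.S4537

/-- For a discrete base and an adic algebra: let A be a discrete ring and B an A-algebra with the 𝔫-adic
topology. If every continuous A-algebra map from B to a quotient C/J with J² = 0 lifts to C, then
the same holds for every nilpotent J; hence the square-zero and the nilpotent forms of adic formal
smoothness agree. -/
theorem result {A B : Type u} [CommRing A] [CommRing B] [Algebra A B]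
    (𝔫 : Ideal B) :
    CAlgX.IsAdicFormallySmooth A B 𝔫 ↔ EGA41.IsFormallySmoothAdic A ⊥ B 𝔫 := by
  constructor
  · intro h
    apply AdicFS.isFormallySmoothAdic_of_sqzero
    intro C _ _ J hJ _ u hu
    exact h C J hJ u hu
  · intro h C _ _ J hJ ψ hψ
    refine h C J ⟨2, hJ⟩ ⟨1, ?_⟩ ψ hψ
    rw [pow_one, Ideal.map_bot]

end Groth.Agent.S4537
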