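import Groth.Statements.S6279
import Mathlib

set_option autoImplicit false
universe u
open CAlg

namespace Groth.Agent.S6279

/-- A finite product of normal rings is normal (a ring is normal when every localization at a prime is
an integrally closed domain). -/
theorem result {ι : Type u} [Finite ι] (A : ι → Type u) [∀ i, CommRing (A i)] (hA : ∀ i, EGA4.IsNormalRing (A i)) : EGA4.IsNormalRing (∀ i, A i) := by
  classical
  intro P hP
  obtain ⟨⟨i, p⟩, hp⟩ := (PrimeSpectrum.sigmaToPi_bijective A).2 ⟨P, hP⟩
  have hPeq : P = p.asIdeal.comap (Pi.evalRingHom A i) := by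
    have := congrArg PrimeSpectrum.asIdeal hp
    rw [PrimeSpectrum.sigmaToPi_apply] at this
    exact this.symm
  subst hPeq
  obtain ⟨hdom, hic⟩ := hA i p.asIdeal
  letI : Algebra (∀ i, A i) (Localization.AtPrime p.asIdeal) :=
    ((algebraMap (A i) (Localization.AtPrime p.asIdeal)).comp (Pi.evalRingHom A i)).toAlgebra
  have hmap : ∀ x : (∀ i, A i), algebraMap (∀ i, A i) (Localization.AtPrime p.asIdeal) x =
      algebraMap (A i) (Localization.AtPrime p.asIdeal) (x i) := fun x => rfl
  have hloc : IsLocalization.AtPrime (Localization.AtPrime p.asIdeal)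
      (p.asIdeal.comap (Pi.evalRingHom A i)) := by
    rw [IsLocalization.AtPrime, isLocalization_iff]
    refine ⟨?_, ?_, ?_⟩
    · rintro ⟨y, hy⟩
      exact IsLocalization.map_units (M := p.asIdeal.primeCompl) _ ⟨y i, hy⟩
    · intro z
      obtain ⟨⟨a, s⟩, h⟩ := IsLocalization.surj p.asIdeal.primeCompl z
      refine ⟨⟨Pi.single i a, ⟨Pi.single i (s : A i), ?_⟩⟩, ?_⟩
      · show Pi.single i (s : A i) ∉ Ideal.comap _ _
        rw [Ideal.mem_comap, Pi.evalRingHom_apply, Pi.single_eq_same]
        exact s.2
      · show z * algebraMap _ _ (Pi.single i (s : A i)) = algebraMap _ _ (Pi.single i a)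
        rw [hmap, hmap, Pi.single_eq_same, Pi.single_eq_same]
        exact h
    · intro x y hxy
      rw [hmap, hmap] at hxy
      obtain ⟨c, hc⟩ := (IsLocalization.eq_iff_exists p.asIdeal.primeCompl _).mp hxy
      refine ⟨⟨Pi.single i (c : A i), ?_⟩, ?_⟩
      · show Pi.single i (c : A i) ∉ Ideal.comap _ _
        rw [Ideal.mem_comap, Pi.evalRingHom_apply, Pi.single_eq_same]
        exact c.2
      · funext j
        by_cases hj : j = i
        · subst hj
          simpa using hc
        · simp [Pi.single_eq_of_ne hj]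
  let e : Localization.AtPrime (p.asIdeal.comap (Pi.evalRingHom A i)) ≃ₐ[∀ i, A i]
      Localization.AtPrime p.asIdeal :=
    IsLocalization.algEquiv (p.asIdeal.comap (Pi.evalRingHom A i)).primeCompl _ _
  exact ⟨e.toRingEquiv.toMulEquiv.isDomain _, IsIntegrallyClosed.of_equiv e.symm.toRingEquiv⟩

end Groth.Agent.S6279
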