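import Groth.Statements.S0586
import Groth.Agent.Helper4.MLDescB
import Mathlib

set_option autoImplicit false
universe u
open CAlg

namespace Groth.Agent.S0586


/-- Let `R → S` be faithfully flat and `M` an `R`-module. If `S ⊗ M` is a Mittag-Leffler `S`-module then
`M` is a Mittag-Leffler `R`-module. -/
theorem result (R : Type u) [CommRing R] (S : Type u)
    [CommRing S] [Algebra R S] [Module.FaithfullyFlat R S] (M : Type u) [AddCommGroup M] [Module R M]
    (h : CAlg.IsMittagLeffler S (TensorProduct R S M)) : CAlg.IsMittagLeffler R M := by

  intro ι Q _ _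
  let j : (∀ i, Q i) →ₗ[R] (∀ i, TensorProduct R S (Q i)) :=
    LinearMap.pi fun i => (TensorProduct.mk R S (Q i) 1) ∘ₗ LinearMap.proj i
  have hj : Function.Injective (j.lTensor M) :=
    Groth.Agent.Helper4.MLDescA.lTensor_injective j
      (Groth.Agent.Helper4.MLDescA.Solv_pi _ fun i => Groth.Agent.Helper4.MLDescA.Solv_mk (Q i)) M
  have hS := h ι (fun i => TensorProduct R S (Q i))
  -- the product map for the family `S ⊗ Q i` over `R` is injective
  have hφ' : Function.Injective
      (TensorProduct.piRightHom R R M (fun i => TensorProduct R S (Q i))) := by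
    rw [injective_iff_map_eq_zero]
    intro z hz
    have h1 := Groth.Agent.Helper4.MLDescB.piRightHom_cX (S := S) M
      (fun i => TensorProduct R S (Q i)) z
    rw [hz] at h1
    have h2 : TensorProduct.piRightHom S S (TensorProduct R S M) (fun i => TensorProduct R S (Q i))
        (Groth.Agent.Helper4.MLDescB.cX (S := S) M (∀ i, TensorProduct R S (Q i)) z) = 0 := by
      rw [h1]
      funext i
      simp
    have h3 := (injective_iff_map_eq_zero _).1 hS _ h2
    exact (LinearEquiv.map_eq_zero_iff _).1 h3
  -- naturality
  have hnat : ∀ z : TensorProduct R M (∀ i, Q i),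
      TensorProduct.piRightHom R R M (fun i => TensorProduct R S (Q i)) (j.lTensor M z) =
        fun i => (TensorProduct.mk R S (Q i) 1).lTensor M (TensorProduct.piRightHom R R M Q z i) := by
    intro z
    induction z using TensorProduct.induction_on with
    | zero => simp; rfl
    | tmul m q => rfl
    | add z z' hz hz' =>
      rw [map_add, map_add, hz, hz', map_add]
      funext i
      simp
  rw [injective_iff_map_eq_zero]
  intro z hz
  apply (injective_iff_map_eq_zero _).1 hj
  apply (injective_iff_map_eq_zero _).1 hφ'
  rw [hnat, hz]
  funext i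
  simp

end Groth.Agent.S0586
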