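import Groth.Statements.S3866
import Mathlib

set_option autoImplicit false
universe u
open AdicRing

namespace Groth.Agent.S3866

/-- Let A be a Noetherian ring that is complete and separated for the J-adic topology, where J is an
ideal of A. Then every finite A-module M is itself complete and separated for the J-adic topology.
(This is the algebraic fact behind the statement that the global sections of the sheaf M^Δ on the
formal spectrum of A recover M.) -/
theorem result (A : Type u) [CommRing A] [IsNoetherianRing A]
    (J : Ideal A) [IsAdicComplete J A] (M : Type u) [AddCommGroup M] [Module A M] [Module.Finite A M] :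
    IsAdicComplete J M := by
  rw [← AdicCompletion.of_bijective_iff]
  have hA : Function.Bijective (AdicCompletion.of J A) :=
    AdicCompletion.of_bijective_iff.2 inferInstance
  let eA : A ≃ₗ[A] AdicCompletion J A := LinearEquiv.ofBijective (AdicCompletion.of J A) hA
  -- M ≃ A ⊗ M ≃ Â ⊗ M
  let e1 : M ≃ₗ[A] TensorProduct A (AdicCompletion J A) M :=
    (TensorProduct.lid A M).symm ≪≫ₗ (TensorProduct.congr eA (LinearEquiv.refl A M))
  have hcomp : ∀ m : M, AdicCompletion.of J M m =
      AdicCompletion.ofTensorProduct J M (e1 m) := by
    intro m
    simp only [e1, eA, LinearEquiv.trans_apply, TensorProduct.lid_symm_apply, TensorProduct.congr_tmul,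
      LinearEquiv.ofBijective_apply, LinearEquiv.refl_apply, AdicCompletion.ofTensorProduct_tmul]
    have h1 : AdicCompletion.of J A 1 = 1 := by
      ext n; simp
    rw [h1, one_smul]
  have hfun : (AdicCompletion.of J M : M → AdicCompletion J M) =
      (AdicCompletion.ofTensorProduct J M) ∘ e1 := funext hcomp
  rw [hfun]
  exact (AdicCompletion.ofTensorProduct_bijective_of_finite_of_isNoetherian J M).comp e1.bijective

end Groth.Agent.S3866
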