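import Groth.Statements.S2139
import Groth.Agent.Helper5.NormQ2

set_option autoImplicit false
universe u
open CAlg

namespace Groth.Agent.S2139

/-- Let `R` be a reduced ring with finitely many minimal primes. Then every localization of `R` at a
prime is an integrally closed domain if and only if `R` is integrally closed in its total ring of
fractions. -/
theorem result {R : Type u} [CommRing R] [IsReduced R] (hfin : (minimalPrimes R).Finite) :
    (∀ (p : Ideal R) [p.IsPrime], IsDomain (Localization.AtPrime p) ∧ IsIntegrallyClosed (Localization.AtPrime p)) ↔
      IsIntegrallyClosedIn R (FractionRing R) := by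
  have hinj : Function.Injective (algebraMap R (FractionRing R)) :=
    IsLocalization.injective (FractionRing R) (le_refl (nonZeroDivisors R))
  constructor
  · intro h
    rw [isIntegrallyClosedIn_iff]
    refine ⟨hinj, fun {x} hx => ?_⟩
    exact Groth.Agent.Helper5.NormQ.mem_range_of_isIntegral
      (fun p hp => @h p hp.isPrime) x hx
  · intro h p hp
    rw [isIntegrallyClosedIn_iff] at h
    exact Groth.Agent.Helper5.NormQ.normal_of_closed hfin (fun x hx => h.2 hx) p

end Groth.Agent.S2139
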