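import Groth.Statements.S0346
import Mathlib

set_option autoImplicit false
universe u v
open CategoryTheory MonoidalCategory CartesianMonoidalCategory MonObj GrpObj AlgebraicGeometry
open GrpSch

namespace Groth.Agent.S0346

open CategoryTheory.Limits in
/-- the diagonal of a group object is the base change of the unit along `(g,h) ↦ g⁻¹ h` -/
theorem diag_isPullback {C : Type*} [Category C] [CartesianMonoidalCategory C] (G : C) [GrpObj G] :
    IsPullback (lift (𝟙 G) (𝟙 G)) (toUnit G) (lift (fst G G ≫ ι) (snd G G) ≫ μ) η[G] where
  w := by
    rw [comp_lift_assoc]
    simp only [lift_fst_assoc, lift_snd, Category.id_comp]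
    have := lift_comp_inv_left (𝟙 G)
    simp
  isLimit' := Nonempty.intro <| PullbackCone.IsLimit.mk _
    (fun s => s.fst ≫ fst G G)
    (by
      intro s
      have hc := s.condition
      rw [comp_lift_assoc, ← Category.assoc s.fst, lift_inv_left_eq] at hc
      have h2 : s.snd = toUnit _ := toUnit_unique _ _
      rw [h2, lift_comp_one_right] at hc
      apply CartesianMonoidalCategory.hom_ext
      · simp
      · simp only [Category.assoc, lift_snd, Category.comp_id]
        exact hc.symm)
    (by
      intro s
      exact toUnit_unique _ _)
    (by
      intro s m hm₁ hm₂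
      rw [← hm₁]
      simp)

/-- A group scheme over any base scheme is separated over the base exactly when its unit section is a
closed immersion, and quasi-separated exactly when the unit section is quasi-compact. -/
theorem result (S : Scheme.{u}) (G : Over S) [GrpObj G] : (IsSeparated G.hom ↔ IsClosedImmersion η[G].left) ∧ (QuasiSeparated G.hom ↔ QuasiCompact η[G].left) := by
  have sq := (diag_isPullback G).map (Over.forget S)
  simp only [Over.forget_obj, Over.forget_map] at sq
  have hd : (lift (𝟙 G) (𝟙 G)).left = Limits.pullback.diagonal G.hom := by
    rw [Over.lift_left]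
    rfl
  rw [hd] at sq
  have hsec : η[G].left ≫ G.hom = 𝟙 _ := by
    have := Over.w η[G]
    simp
  constructor
  · constructor
    · intro h
      have : IsClosedImmersion (η[G].left ≫ G.hom) := by rw [hsec]; infer_instance
      exact IsClosedImmersion.of_comp η[G].left G.hom
    · intro h
      exact ⟨MorphismProperty.of_isPullback sq.flip h⟩
  · constructor
    · intro h
      have : QuasiCompact (η[G].left ≫ G.hom) := by rw [hsec]; infer_instance
      exact QuasiCompact.of_comp η[G].left G.hom
    · intro h
      exact ⟨MorphismProperty.of_isPullback sq.flip h⟩

end Groth.Agent.S0346
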