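import Groth.Statements.S18702
import Mathlib
import Groth.Agent.Helper9.ReflKer
-- import your own Groth.Agent.* helpers here

set_option autoImplicit false
universe u
open QGor

namespace Groth.Agent.S18702

/-- Affine form, for an arbitrary Noetherian ring A (not assumed to be a domain). Let I be an ideal and
G a finite reflexive A-module (the evaluation map into the double dual is bijective). For k = 1 and
k = 2: if depth_I A ≥ k then depth_I G ≥ k; and if A satisfies (S_k) then G satisfies (S_k). -/
theorem result (A : Type u) [CommRing A] [IsNoetherianRing A] (I : Ideal A)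
    (G : Type u) [AddCommGroup G] [Module A G] [Module.Finite A G] [Module.IsReflexive A G] :
    (1 ≤ LocCoh.idealDepth I A → 1 ≤ LocCoh.idealDepth I G) ∧
    (2 ≤ LocCoh.idealDepth I A → 2 ≤ LocCoh.idealDepth I G) ∧
    (LocCoh.HasSk 1 A A → LocCoh.HasSk 1 A G) ∧ (LocCoh.HasSk 2 A A → LocCoh.HasSk 2 A G) := by
  open Groth.Agent.Helper9.DepthKer Groth.Agent.Helper9.ReflKer LocCoh Module in
  classical
  obtain ⟨n, m, ι, u, hι, hex⟩ := exists_ker_presentation (A := A) G
  have hrange : LinearMap.range ι = LinearMap.ker u := (LinearMap.exact_iff.mp hex).symm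
  let e : G ≃ₗ[A] LinearMap.ker u := (LinearEquiv.ofInjective ι hι).trans (LinearEquiv.ofEq _ _ hrange)
  have hone : 1 ≤ idealDepth I A → 1 ≤ idealDepth I G := by
    intro h
    rw [idealDepth_congr I e]
    exact depth_ker_one u (one_le_idealDepth_pi I A n h)
  have htwo : 2 ≤ idealDepth I A → 2 ≤ idealDepth I G := by
    intro h
    rw [idealDepth_congr I e]
    have h1 : 1 ≤ idealDepth I A := le_trans (by norm_num) h
    exact depth_ker_two u (two_le_idealDepth_pi I A n h) (one_le_idealDepth_pi I A m h1)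
  -- numerics
  have hnum : ∀ (k : ℕ), (k = 1 ∨ k = 2) → ∀ (d D : WithBot ℕ∞), d ≤ D → ∀ (δ γ : ℕ∞),
      (1 ≤ δ → 1 ≤ γ) → (2 ≤ δ → 2 ≤ γ) → min (k : WithBot ℕ∞) D ≤ (δ : WithBot ℕ∞) →
      min (k : WithBot ℕ∞) d ≤ (γ : WithBot ℕ∞) := by
    intro k hk d D hdD δ γ h1 h2 h
    have h3 : min (k : WithBot ℕ∞) d ≤ (δ : WithBot ℕ∞) := le_trans (min_le_min le_rfl hdD) h
    induction d using WithBot.recBotCoe with
    | bot => simp
    | coe e' =>
      have h4 : min (k : WithBot ℕ∞) (e' : WithBot ℕ∞) = ((min (k : ℕ∞) e' : ℕ∞) : WithBot ℕ∞) := by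
        rw [WithBot.coe_min]; rfl
      rw [h4] at h3 ⊢
      rw [WithBot.coe_le_coe] at h3 ⊢
      have h5 : min (k : ℕ∞) e' ≤ k := min_le_left _ _
      obtain ⟨j, hj⟩ : ∃ j : ℕ, min (k : ℕ∞) e' = j := by
        have : min (k : ℕ∞) e' ≠ ⊤ := ne_top_of_le_ne_top (ENat.natCast_ne_top k) h5
        exact ⟨(min (k : ℕ∞) e').toNat, (ENat.natCast_toNat this).symm⟩
      rw [hj] at h3 h5 ⊢
      have hjk : j ≤ k := by exact_mod_cast h5
      have hj2 : j ≤ 2 := by rcases hk with rfl | rfl <;> omega
      interval_cases j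
      · simp
      · exact_mod_cast h1 (by exact_mod_cast h3)
      · exact_mod_cast h2 (by exact_mod_cast h3)
  have hSk : ∀ k : ℕ, (k = 1 ∨ k = 2) → HasSk k A A → HasSk k A G := by
    intro k hk hA p _
    have hAp := hA p
    obtain ⟨u', ⟨e'⟩⟩ := exists_loc_ker_equiv p ι u hι hex
    have hD : Module.supportDim (Localization.AtPrime p) (LocalizedModule p.primeCompl G) ≤
        Module.supportDim (Localization.AtPrime p) (LocalizedModule p.primeCompl A) := by
      have e0 : LocalizedModule p.primeCompl A ≃ₗ[Localization.AtPrime p] Localization.AtPrime p :=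
        (IsLocalizedModule.iso p.primeCompl
          (Algebra.linearMap A (Localization.AtPrime p))).extendScalarsOfIsLocalization
          p.primeCompl (Localization.AtPrime p)
      rw [Module.supportDim_eq_of_equiv e0, Module.supportDim_self_eq_ringKrullDim]
      exact Module.supportDim_le_ringKrullDim _ _
    refine hnum k hk _ _ hD _ _ ?_ ?_ hAp
    · intro h
      unfold LocCoh.depth at h ⊢
      rw [idealDepth_congr _ e']
      exact depth_ker_one u' (one_le_idealDepth_pi _ _ n h)
    · intro h
      unfold LocCoh.depth at h ⊢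
      rw [idealDepth_congr _ e']
      have h1 : 1 ≤ idealDepth (IsLocalRing.maximalIdeal (Localization.AtPrime p))
          (LocalizedModule p.primeCompl A) := le_trans (by norm_num) h
      exact depth_ker_two u' (two_le_idealDepth_pi _ _ n h) (one_le_idealDepth_pi _ _ m h1)
  exact ⟨hone, htwo, hSk 1 (Or.inl rfl), hSk 2 (Or.inr rfl)⟩

end Groth.Agent.S18702
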