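import Groth.Statements.S18703
import Mathlib
import Groth.Agent.Helper9.ReflLoc
import Groth.Agent.Helper9.DepthKer
-- import your own Groth.Agent.* helpers here

set_option autoImplicit false
universe u
open QGor

namespace Groth.Agent.S18703

/-- Affine form. Let A be a Noetherian ring and I an ideal with depth_I A ≥ 1. Let G be a finite
A-module such that G_p is a reflexive A_p-module for every prime p not containing I (G is reflexive
off V(I)). If depth_I G ≥ 2, then G is reflexive. -/
theorem result (A : Type u) [CommRing A] [IsNoetherianRing A] (I : Ideal A)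
    (hA : 1 ≤ LocCoh.idealDepth I A)
    (G : Type u) [AddCommGroup G] [Module A G] [Module.Finite A G]
    (hU : ∀ p : PrimeSpectrum A, ¬ I ≤ p.asIdeal →
      Module.IsReflexive (Localization.AtPrime p.asIdeal) (LocalizedModule p.asIdeal.primeCompl G))
    (hG : 2 ≤ LocCoh.idealDepth I G) : Module.IsReflexive A G := by
  open Groth.Agent.Helper9.DepthKer Groth.Agent.Helper9.ReflLoc RingTheory.Sequence Module in
  classical
  have hfp : Module.FinitePresentation A G := Module.finitePresentation_of_finite A G
  have hfd : Module.Finite A (Dual A G) := by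
    have : IsNoetherian A (G →ₗ[A] A) := isNoetherian_linearMap A A G
    infer_instance
  -- radical containment principle
  have hrad : ∀ J : Ideal A, (∀ p : PrimeSpectrum A, ¬ I ≤ p.asIdeal → ∃ s ∈ J, s ∉ p.asIdeal) →
      I ≤ J.radical := by
    intro J hJ x hx
    rw [Ideal.radical_eq_sInf, Ideal.mem_sInf]
    rintro p ⟨hJp, hp⟩
    by_contra hxp
    obtain ⟨s, hsJ, hsp⟩ := hJ ⟨p, hp⟩ (fun h => hxp (h hx))
    exact hsp (hJp hsJ)
  -- annihilators of kernel elements
  have hker : ∀ k : G, Dual.eval A G k = 0 → ∀ x ∈ I, ∃ n : ℕ, x ^ n • k = 0 := by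
    intro k hk x hx
    have h1 : I ≤ (Ideal.torsionOf A G k).radical := by
      apply hrad
      intro p hp
      have hrefl := hU p hp
      have h2 := loc_eq_zero_of_eval_eq_zero p.asIdeal.primeCompl
        (Aₛ := Localization.AtPrime p.asIdeal)
        (LocalizedModule.mkLinearMap p.asIdeal.primeCompl G)
        (Module.bijective_dual_eval _ _).1 k hk
      obtain ⟨s, hs, hsk⟩ := LocalizedModule.mem_ker_mkLinearMap_iff.mp h2
      exact ⟨s, (Ideal.mem_torsionOf_iff k s).mpr hsk, hs⟩
    obtain ⟨n, hn⟩ := h1 hx
    exact ⟨n, (Ideal.mem_torsionOf_iff k _).mp hn⟩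
  -- the conductor ideal of ξ
  let J : Dual A (Dual A G) → Ideal A := fun ξ =>
    (LinearMap.range (Dual.eval A G)).comap (LinearMap.toSpanSingleton A _ ξ)
  have hJmem : ∀ ξ a, a ∈ J ξ ↔ a • ξ ∈ LinearMap.range (Dual.eval A G) := by
    intro ξ a
    simp only [J, Submodule.mem_comap, LinearMap.toSpanSingleton_apply]
  have hcok : ∀ ξ : Dual A (Dual A G), ∃ N : ℕ, I ^ N ≤ J ξ := by
    intro ξ
    have h1 : I ≤ (J ξ).radical := by
      apply hrad
      intro p hp
      have hrefl := hU p hp
      obtain ⟨s, hs, g, hg⟩ := exists_smul_eq_eval p.asIdeal.primeCompl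
        (Aₛ := Localization.AtPrime p.asIdeal)
        (LocalizedModule.mkLinearMap p.asIdeal.primeCompl G)
        (Module.bijective_dual_eval _ _).2 ξ
      exact ⟨s, (hJmem ξ s).mpr ⟨g, hg.symm⟩, hs⟩
    exact Ideal.exists_pow_le_of_le_radical_of_fg h1 (IsNoetherian.noetherian I)
  by_cases hGtop : I • (⊤ : Submodule A G) = ⊤
  · -- killer case
    obtain ⟨r, hr1, hr2⟩ := exists_killer G hGtop
    have h1r : 1 - r ∈ I := by
      have := I.neg_mem hr1
      rwa [neg_sub] at this
    refine ⟨⟨?_, ?_⟩⟩
    · rw [injective_iff_map_eq_zero]
      intro k hk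
      obtain ⟨n, hn⟩ := hker k hk (1 - r) h1r
      have h2 : ∀ n : ℕ, (1 - r) ^ n • k = k := by
        intro n
        induction n with
        | zero => simp
        | succ n ih => rw [pow_succ, mul_smul, sub_smul, one_smul, hr2, sub_zero, ih]
      rw [← h2 n, hn]
    · intro ξ
      obtain ⟨N, hN⟩ := hcok ξ
      have h2 : (1 - r) ^ N ∈ J ξ := hN (Ideal.pow_mem_pow h1r N)
      have h3 : r ∈ J ξ := by
        rw [hJmem]
        have : r • ξ = 0 := by
          ext φ
          rw [LinearMap.smul_apply, LinearMap.zero_apply, ← map_smul]
          have : r • φ = 0 := by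
            ext g
            rw [LinearMap.smul_apply, ← map_smul, hr2, map_zero, LinearMap.zero_apply]
          rw [this, map_zero]
        rw [this]
        exact Submodule.zero_mem _
      have h4 : (1 : A) ∈ J ξ := by
        obtain ⟨c, hc⟩ : r ∣ 1 - (1 - r) ^ N := by
          have := sub_dvd_pow_sub_pow (1 : A) (1 - r) N
          simpa using this
        have : (1 : A) = (1 - r) ^ N + r * c := by rw [← hc]; ring
        rw [this]
        exact (J ξ).add_mem h2 ((J ξ).mul_mem_right c h3)
      rw [hJmem, one_smul] at h4
      exact h4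
  · -- regular sequence case
    obtain ⟨rs, hreg, hmem, hlen⟩ := exists_of_le_idealDepth I G 2 (by norm_num)
      (by exact_mod_cast hG) hGtop
    match rs, hreg, hmem, hlen with
    | a :: b :: rest, hreg, hmem, _ =>
      have hreg' := (isWeaklyRegular_cons_iff G a (b :: rest)).mp hreg
      have ha : IsSMulRegular G a := hreg'.1
      have hb0 : IsSMulRegular (QuotSMulTop a G) b :=
        ((isWeaklyRegular_cons_iff _ b rest).mp hreg'.2).1
      have hb := (quot_regular_iff a b).mp hb0
      have haI : a ∈ I := hmem a List.mem_cons_self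
      have hbI : b ∈ I := hmem b (List.mem_cons_of_mem _ List.mem_cons_self)
      have hinj : Function.Injective (Dual.eval A G) := by
        rw [injective_iff_map_eq_zero]
        intro k hk
        obtain ⟨n, hn⟩ := hker k hk a haI
        exact (ha.pow n) (hn.trans (smul_zero _).symm)
      refine ⟨⟨hinj, ?_⟩⟩
      -- A-regular element in I
      have hAtop : I • (⊤ : Submodule A A) ≠ ⊤ := by
        intro h
        apply hGtop
        have hI : I = ⊤ := by
          rw [← h, smul_eq_mul, Ideal.mul_top]
        rw [hI, Submodule.top_smul]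
      obtain ⟨rsA, hregA, hmemA, hlenA⟩ := exists_of_le_idealDepth I A 1 le_rfl
        (by exact_mod_cast hA) hAtop
      match rsA, hregA, hmemA, hlenA with
      | a₀ :: restA, hregA, hmemA, _ =>
        have ha₀ : IsSMulRegular A a₀ := ((isWeaklyRegular_cons_iff A a₀ restA).mp hregA).1
        have ha₀I : a₀ ∈ I := hmemA a₀ List.mem_cons_self
        obtain ⟨x, hxI, hx⟩ := exists_regular_of_socle (I := I) (G × A) (by
          rintro ⟨g, c⟩ hz
          have h1 := hz a haI
          have h2 := hz a₀ ha₀I
          rw [Prod.smul_mk, Prod.mk_eq_zero] at h1 h2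
          rw [Prod.mk_eq_zero]
          exact ⟨ha (h1.1.trans (smul_zero _).symm), ha₀ (h2.2.trans (smul_zero _).symm)⟩)
        have hxG : IsSMulRegular G x := by
          intro g g' h
          have : x • ((g, 0) : G × A) = x • ((g', 0) : G × A) := by
            simp only [Prod.smul_mk, smul_zero]
            exact congrArg (fun t => (t, (0 : A))) h
          exact (Prod.mk.inj (hx this)).1
        have hxA : IsSMulRegular A x := by
          intro c c' h
          have : x • ((0, c) : G × A) = x • ((0, c') : G × A) := by
            simp only [Prod.smul_mk, smul_zero]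
            exact congrArg (fun t => ((0 : G), t)) h
          exact (Prod.mk.inj (hx this)).2
        have hxDD : IsSMulRegular (Dual A (Dual A G)) x := by
          intro ζ ζ' h
          ext φ
          have := LinearMap.congr_fun h φ
          exact hxA this
        -- the claim
        have hclaim : ∀ ξ' : Dual A (Dual A G),
            (∀ i ∈ I, i • ξ' ∈ LinearMap.range (Dual.eval A G)) →
            ξ' ∈ LinearMap.range (Dual.eval A G) := by
          intro ξ' hξ'
          obtain ⟨g₁, hg₁⟩ := hξ' x hxI
          have hz : ∀ i ∈ I, ∃ w, i • g₁ = x • w := by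
            intro i hi
            obtain ⟨gi, hgi⟩ := hξ' i hi
            refine ⟨gi, ?_⟩
            apply hinj
            rw [map_smul, map_smul, hg₁, hgi, smul_comm]
          obtain ⟨w, hw⟩ := socle_quot_of_regSeq haI hbI ha hb hxG g₁ hz
          refine ⟨w, ?_⟩
          apply hxDD
          show x • (Dual.eval A G) w = x • ξ'
          rw [← map_smul, ← hw, hg₁]
        intro ξ
        obtain ⟨N, hN⟩ := hcok ξ
        have hind : ∀ (N : ℕ) (ξ : Dual A (Dual A G)), I ^ N ≤ J ξ →
            ξ ∈ LinearMap.range (Dual.eval A G) := by
          intro N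
          induction N with
          | zero =>
            intro ξ h
            have : (1 : A) ∈ J ξ := h (by rw [pow_zero, Ideal.one_eq_top]; exact Submodule.mem_top)
            rw [hJmem, one_smul] at this
            exact this
          | succ N ih =>
            intro ξ h
            apply ih
            intro c hc
            rw [hJmem]
            apply hclaim
            intro i hi
            rw [← mul_smul, ← hJmem]
            apply h
            rw [pow_succ']
            exact Ideal.mul_mem_mul hi hc
        exact hind N ξ hN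

end Groth.Agent.S18703
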