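import Groth.Statements.S0733
import Mathlib

set_option autoImplicit false
open CategoryTheory CategoryTheory.Limits AlgebraicGeometry Opposite Topology
universe u
open scoped TensorProduct
open ProEtW

namespace Groth.Agent.S0733

/-- étaleness of `pushout.inr` -/
lemma etale_pushout_inr {R S T : CommRingCat.{u}} (f : R ⟶ S) (g : R ⟶ T)
    (H : RingHom.Etale f.hom) : RingHom.Etale (pushout.inr f g).hom := by
  have h1 : RingHom.Etale (pushout.inl g f).hom :=
    RingHom.Etale.isStableUnderBaseChange.pushout_inl RingHom.Etale.respectsIso g f H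
  have h2 : pushout.inl g f ≫ (pushoutSymmetry g f).hom = pushout.inr f g :=
    inl_comp_pushoutSymmetry_hom g f
  rw [← h2, CommRingCat.hom_comp, RingHom.Etale.respectsIso.cancel_right_isIso]
  exact h1

/-- The comparison iso in `Under A'` between the pushout and the tensor product. -/
noncomputable def underIso (A B A' : Type u) [CommRing A] [CommRing B] [CommRing A']
    [Algebra A B] [Algebra A A'] :
    (Under.pushout (CommRingCat.ofHom (algebraMap A A'))).obj
        (Under.mk (CommRingCat.ofHom (algebraMap A B))) ≅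
      Under.mk (CommRingCat.ofHom (algebraMap A' (A' ⊗[A] B))) := by
  refine Under.isoMk ?_ ?_
  · -- pushout (A → B) (A → A') ≅ B ⊗ A' ≅ A' ⊗ B
    exact (colimit.isoColimitCocone ⟨_, CommRingCat.pushoutCoconeIsColimit A B A'⟩) ≪≫
      (Algebra.TensorProduct.comm A B A').toRingEquiv.toCommRingCatIso
  · dsimp
    rw [← Category.assoc]
    have := colimit.isoColimitCocone_ι_hom ⟨_, CommRingCat.pushoutCoconeIsColimit A B A'⟩
      WalkingSpan.right
    dsimp at this
    erw [this]
    ext x
    simp

/-- If A -> B is ind-etale (a filtered colimit of etale A-algebras) and A -> A' is any ring map, then A'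
-> A' (x)_A B is ind-etale. -/
theorem result (A B A' : Type u) [CommRing A] [CommRing B] [CommRing A']
    [Algebra A B] [Algebra A A'] (h : EtPBC.IsIndEtale A B) :
    EtPBC.IsIndEtale A' (A' ⊗[A] B) := by
  obtain ⟨J, hJ, hJf, D, c, hc, hD, ⟨e⟩⟩ := h
  let F := Under.pushout (CommRingCat.ofHom (algebraMap A A'))
  haveI : PreservesColimitsOfSize.{u, u} F :=
    (Under.mapPushoutAdj (CommRingCat.ofHom (algebraMap A A'))).leftAdjoint_preservesColimits
  refine ⟨J, hJ, hJf, D ⋙ F, F.mapCocone c, isColimitOfPreserves F hc, ?_, ⟨?_⟩⟩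
  · intro j
    exact etale_pushout_inr (D.obj j).hom (CommRingCat.ofHom (algebraMap A A')) (hD j)
  · exact F.mapIso e ≪≫ underIso A B A'

end Groth.Agent.S0733
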