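import Groth.Statements.S0426
import Groth.Agent.Lead.WeaklyEtale
import Groth.Agent.Lead.FlatTower
import Mathlib

set_option autoImplicit false
universe u
open FlatMor

namespace Groth.Agent.S0426

theorem isSeparable_of_mem'' {K L : Type u} [Field K] [Field L] [Algebra K L]
    (E : IntermediateField K L) (x : L) (hx : x ∈ E) (h3 : IsSeparable K (⟨x, hx⟩ : E)) :
    IsSeparable K x := by
  unfold IsSeparable at h3 ⊢
  rwa [IntermediateField.minpoly_eq] at h3

theorem isSeparable_of_mem' {K L : Type u} [Field K] [Field L] [Algebra K L]
    (E : IntermediateField K L) [Algebra.IsSeparable K E] (x : L) (hx : x ∈ E) :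
    IsSeparable K x := by
  have h3 : IsSeparable K (⟨x, hx⟩ : E) := Algebra.IsSeparable.isSeparable K _
  exact isSeparable_of_mem'' E x hx h3

theorem essFiniteType_adjoin_simple {K L : Type u} [Field K] [Field L] [Algebra K L] (x : L) :
    Algebra.EssFiniteType K (IntermediateField.adjoin K {x}) := by
  rw [IntermediateField.essFiniteType_iff]
  exact ⟨{x}, by simp⟩

theorem flat_lmul'_intermediateField {K L : Type u} [Field K] [Field L] [Algebra K L]
    (h : (Algebra.TensorProduct.lmul' K (S := L)).toRingHom.Flat) (E : IntermediateField K L) :
    (Algebra.TensorProduct.lmul' K (S := E)).toRingHom.Flat := by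
  have hi : (E.val).toRingHom.Flat := by
    show Module.Flat _ _
    infer_instance
  have h1 : (Algebra.TensorProduct.map E.val E.val).toRingHom.Flat :=
    RingHom.Flat.tensorProductMap hi hi
  have h2 : ((Algebra.TensorProduct.lmul' K (S := L)).toRingHom.comp
      (Algebra.TensorProduct.map E.val E.val).toRingHom).Flat := RingHom.Flat.comp h1 h
  have heq : (Algebra.TensorProduct.lmul' K (S := L)).toRingHom.comp
      (Algebra.TensorProduct.map E.val E.val).toRingHom =
      (algebraMap E L).comp (Algebra.TensorProduct.lmul' K (S := E)).toRingHom := by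
    have : (Algebra.TensorProduct.lmul' K (S := L)).comp
        (Algebra.TensorProduct.map E.val E.val) =
        (E.val).comp (Algebra.TensorProduct.lmul' K (S := E)) := by
      ext <;> simp
    exact congrArg AlgHom.toRingHom this
  rw [heq] at h2
  refine Groth.Agent.Lead.RingHom.Flat.of_comp_of_faithfullyFlat _ (algebraMap E L) h2 ?_
  show Module.FaithfullyFlat _ _
  infer_instance

theorem isSeparable_of_flat {K E : Type u} [Field K] [Field E] [Algebra K E]
    [Algebra.EssFiniteType K E]
    (hE : (Algebra.TensorProduct.lmul' K (S := E)).toRingHom.Flat) : Algebra.IsSeparable K E := by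
  have hU : Algebra.FormallyUnramified K E :=
    Groth.Agent.Lead.formallyUnramified_of_weaklyEtale K E hE
  exact Algebra.FormallyUnramified.isSeparable K E

/-- A field extension L/K such that L is weakly étale over K (equivalently the multiplication map of L
⊗_K L is flat) is algebraic and separable. -/
theorem result {K L : Type u} [Field K] [Field L] [Algebra K L] [Algebra.WeaklyEtale K L] : Algebra.IsSeparable K L := by
  have h := Algebra.WeaklyEtale.flat_lmul' K L
  refine ⟨fun x => ?_⟩
  have hfg : Algebra.EssFiniteType K (IntermediateField.adjoin K {x}) :=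
    essFiniteType_adjoin_simple x
  have hsep : Algebra.IsSeparable K (IntermediateField.adjoin K {x}) :=
    isSeparable_of_flat (flat_lmul'_intermediateField h _)
  exact isSeparable_of_mem' (IntermediateField.adjoin K {x}) x
    (IntermediateField.mem_adjoin_simple_self K x)

end Groth.Agent.S0426
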