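import Groth.Statements.S5270
import Mathlib
import Groth.Agent.Helper2.MultTypeSemi
open TensorProduct SGA3b Groth.Agent.Helper2.MultTypeSemi
-- import your own Groth.Agent.* helpers here

set_option autoImplicit false
universe u
open TensorProduct SGA3b
open SGA3b

namespace Groth.Agent.S5270

/-- Injectivity of the map to formal homomorphisms. Let A be a Noetherian ring, separated and complete
for the I-adic topology, H = Spec B an isotrivial A-group of multiplicative type and G = Spec C an
affine A-group. If two homomorphisms H ⟶ G, given by bialgebra maps φ, ψ : C → B, have the same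
reduction modulo I^(n+1) for every n ≥ 0, then φ = ψ. (Affine group schemes over an affine base are
taken in Hopf-algebra form; base change is the tensor product; a homomorphism of groups Spec A ⟶
Spec C is a bialgebra map C → A.) -/
theorem result (A : Type u) [CommRing A] [IsNoetherianRing A] (I : Ideal A) [IsAdicComplete I A]
    (B : Type u) [CommRing B] [HopfAlgebra A B] (hH : IsIsotrivial A B)
    (C : Type u) [CommRing C] [HopfAlgebra A C] (φ ψ : C →ₐc[A] B)
    (h : ∀ (n : ℕ) (c : C), (1 : A ⧸ I ^ (n + 1)) ⊗ₜ[A] (φ c) = (1 : A ⧸ I ^ (n + 1)) ⊗ₜ[A] (ψ c)) :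
    φ = ψ := by
  classical
  ext c
  obtain ⟨R', _, _, het, hfin, hff, M, _, ⟨e⟩⟩ := hH
  apply Module.FaithfullyFlat.tensorProduct_mk_injective (A := A) (B := R') B
  apply e.injective
  ext m
  set l : B →ₗ[A] R' := ((cf m).restrictScalars A) ∘ₗ (e.toBialgHom : _ →ₗ[R'] _).restrictScalars A ∘ₗ
    (TensorProduct.mk A R' B 1) with hl
  have hmem : ∀ n : ℕ, l (φ c) - l (ψ c) ∈ (I ^ n • ⊤ : Submodule A R') := by
    intro n
    cases n with
    | zero => rw [pow_zero, Ideal.one_eq_top, Submodule.top_smul]; exact Submodule.mem_top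
    | succ n =>
      have := map_sub_mem_of_tmul_eq (I ^ (n + 1)) l _ _ (h n c)
      rw [Ideal.smul_top_eq_map]
      exact this
  have hk := Ideal.iInf_pow_smul_eq_bot_of_le_jacobson (M := R') I (IsAdicComplete.le_jacobson_bot I)
  have h0 : l (φ c) - l (ψ c) ∈ (⨅ i : ℕ, I ^ i • ⊤ : Submodule A R') := by
    rw [Submodule.mem_iInf]
    exact hmem
  rw [hk, Submodule.mem_bot, sub_eq_zero] at h0
  exact h0

end Groth.Agent.S5270
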