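import Groth.Statements.S0819
import Groth.Agent.Helper1.Dev13

set_option autoImplicit false
universe u
open Coherent

namespace Groth.Agent.S0819

open CategoryTheory AlgebraicGeometry in
/-- Let X be a Noetherian scheme, Z₀ ⊆ X an irreducible closed subset with generic point ξ, and P an
isomorphism-invariant property of O_X-modules such that: (1) in every short exact sequence of
coherent modules supported in Z₀, P for two of the terms implies P for the third; (2) P holds for
i_* I whenever i : Z → X is an integral closed subscheme with i(Z) a proper subset of Z₀ and I ⊆ O_Z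
is a quasi-coherent ideal sheaf; (3) there is a coherent G with support exactly Z₀, stalk at ξ
isomorphic to the residue field over the local ring, and P(G). Then P holds for every coherent
module whose support is contained in Z₀. -/
theorem result (X : Scheme.{u}) [IsNoetherian X]
    (Z₀ : Set X) (hZ₀ : IsClosed Z₀) (hirr : IsIrreducible Z₀) (ξ : X) (hξ : ξ ∈ Z₀ ∧ closure {ξ} = Z₀)
    (P : X.Modules → Prop) (hP : ∀ M N : X.Modules, Nonempty (M ≅ N) → P M → P N)
    (h₁ : ∀ S : ShortComplex X.Modules, S.ShortExact → Coh.IsCoh S.X₁ → Coh.IsCoh S.X₂ → Coh.IsCoh S.X₃ →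
      CohB1.support S.X₂ ⊆ Z₀ →
      (P S.X₁ → P S.X₂ → P S.X₃) ∧ (P S.X₁ → P S.X₃ → P S.X₂) ∧ (P S.X₂ → P S.X₃ → P S.X₁))
    (h₂ : ∀ (Z : Scheme.{u}) (i : Z ⟶ X), IsClosedImmersion i → IsIntegral Z →
      Set.range ⇑i ⊆ Z₀ → Set.range ⇑i ≠ Z₀ →
      ∀ (I : Z.Modules) (ι : I ⟶ Coh.structureModule Z), Mono ι → Coh.IsQCoh I →
        P ((Coh.push i).obj I))
    (h₃ : ∃ G : X.Modules, Coh.IsCoh G ∧ CohB1.support G = Z₀ ∧
      Nonempty (↑(G.presheaf.stalk ξ) ≃ₗ[X.presheaf.stalk ξ] IsLocalRing.ResidueField (X.presheaf.stalk ξ)) ∧ P G)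
    (M : X.Modules) (hM : Coh.IsCoh M) (hsupp : CohB1.support M ⊆ Z₀) : P M := by
  obtain ⟨G₀, hG₀, hs₀, ⟨e₀⟩, hPG₀⟩ := h₃
  have hsimple₀ := Groth.Agent.Helper1.Dev.isSimpleModule_of_equiv_residueField e₀
  let K : ObjectProperty X.Modules := fun N => P N ∧ CohB1.support N ⊆ Z₀
  -- `P` holds for the zero modules
  have hzero : ∀ N : X.Modules, Limits.IsZero N → K N := by
    intro N hN
    refine ⟨(h₁ (Groth.Agent.Helper1.Dev.zeroSC G₀ N)
      (Groth.Agent.Helper1.Dev.zeroSC_shortExact G₀ N hN) hG₀ hG₀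
      (Groth.Agent.Helper1.Dev.isCoh_of_isZero hN) hs₀.le).1 hPG₀ hPG₀, ?_⟩
    rw [Groth.Agent.Helper1.Dev.support_eq_empty_of_isZero N hN]
    exact Set.empty_subset _
  have hK : Groth.Agent.Helper1.Dev.ExactClass K :=
    { iso := fun {A B} e h => ⟨hP _ _ ⟨e⟩ h.1, by
        rw [← Groth.Agent.Helper1.Dev.support_eq_of_iso e]; exact h.2⟩
      zero := hzero
      two_of_three := by
        intro S hS c₁ c₂ c₃
        have := hS.mono_f
        have := hS.epi_g
        have s₁ : CohB1.support S.X₁ ⊆ CohB1.support S.X₂ :=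
          Groth.Agent.Helper1.Dev.support_subset_of_mono S.f
        have s₃ : CohB1.support S.X₃ ⊆ CohB1.support S.X₂ :=
          Groth.Agent.Helper1.Dev.support_subset_of_epi S.g
        have s₂ := Groth.Agent.Helper1.Dev.support_subset_union S hS
        refine ⟨fun a b => ?_, fun a b => ?_, fun a b => ?_⟩
        · exact ⟨(h₁ S hS c₁ c₂ c₃ b.2).1 a.1 b.1, s₃.trans b.2⟩
        · have hsub : CohB1.support S.X₂ ⊆ Z₀ := s₂.trans (Set.union_subset a.2 b.2)
          exact ⟨(h₁ S hS c₁ c₂ c₃ hsub).2.1 a.1 b.1, hsub⟩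
        · exact ⟨(h₁ S hS c₁ c₂ c₃ a.2).2.2 a.1 b.1, s₁.trans a.2⟩ }
  refine (Groth.Agent.Helper1.Dev.core hK ⟨Z₀, hZ₀⟩ ?_ M hM hsupp).1
  intro Y hYZ hirrY hB
  by_cases hYeq : (Y : Set X) = Z₀
  · exact Groth.Agent.Helper1.Dev.structure_of_simple hK Y hirrY hB G₀ hG₀ ⟨hPG₀, hs₀.le⟩
      (by rw [hYeq]; exact hs₀.le) ξ (by rw [hYeq]; exact hξ.2)
  · have hint := Groth.Agent.Helper1.Dev.isIntegral_subscheme Y hirrY
    have hr := Groth.Agent.Helper1.Dev.range_ι_vanishingIdeal Y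
    refine ⟨h₂ _ (Scheme.IdealSheafData.vanishingIdeal Y).subschemeι inferInstance hint
      (by rw [hr]; exact hYZ) (by rw [hr]; exact hYeq) (Coh.structureModule _) (𝟙 _) inferInstance
      (Groth.Agent.Helper1.Dev.isCoh_structureModule _).1, ?_⟩
    refine (Groth.Agent.Helper1.Dev.support_push_subset _ _).trans ?_
    rw [hr]
    exact hYZ

end Groth.Agent.S0819
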