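import Groth.Statements.S6942
import Mathlib
import Groth.Agent.Helper3.DRingPC4

set_option autoImplicit false
universe u
open scoped TensorProduct
open CategoryTheory CategoryTheory.Limits
attribute [local instance] HasDerivedCategory.standard
open DRing

namespace Groth.Agent.S6942

/-- Let R be a Noetherian commutative ring and m an integer. An object K of D(R) is m-pseudo-coherent
exactly when H^i(K) = 0 for all large i and H^i(K) is a finitely generated R-module for each i ≥ m.
Every finitely generated R-module M is pseudo-coherent, and conversely. -/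
theorem result (R : Type u) [CommRing R]
    [IsNoetherianRing R] (m : ℤ) (K : Dual.D R) (M : Type u) [AddCommGroup M] [Module R M] :
    (DRing.IsPseudoCoherent R m K ↔
      (∃ b : ℤ, ∀ i : ℤ, b < i → Subsingleton (Dual.HD R K i)) ∧ ∀ i : ℤ, m ≤ i → Module.Finite R (Dual.HD R K i)) ∧
      (DRing.IsPseudoCoherentModule' R M ↔ Module.Finite R M) := by
  open Groth.Agent.Helper3.DRingLib in
  refine ⟨⟨fun h => ⟨?_, ?_⟩, ?_⟩, ⟨fun h => ?_, fun h => ?_⟩⟩
  · obtain ⟨b, hb⟩ := exists_isLE_of_isPseudoCoherent h
    exact ⟨b, fun i hi => subsingleton_HD_of_isLE K b i hi⟩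
  · intro i hi
    rw [isPseudoCoherent_iff] at h
    obtain ⟨X, a, b, α, ⟨E, v, ff, ⟨e⟩⟩, hα⟩ := h
    have hE : Module.Finite R (Dual.HD R (DRing.toD E) i) :=
      finite_HD_toD_of_noetherian E (fun j => (ff j).1) i
    have hα' := (isApprox_of_isIso m e.hom).comp hα
    have hepi := hα'.epi i hi
    exact Module.Finite.of_surjective
      ((DerivedCategory.homologyFunctor (ModuleCat.{u} R) i).map (e.hom ≫ α)).hom
      ((ModuleCat.epi_iff_surjective _).mp hepi)
  · rintro ⟨⟨b, hb⟩, hfin⟩
    have : K.IsLE b := isLE_of_HD K b hb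
    refine isPseudoCoherent_of_HD_forall K b m (fun i hi m' => ?_)
    have := hfin i hi
    exact isPseudoCoherent_inD_of_finite_noetherian' (Dual.HD R K i) m'
  · have h0 : DRing.IsPseudoCoherent R 0 (Dual.inD R M) := isPseudoCoherent_of_isPseudoCoherent' h 0
    have := finite_HD_of_isPseudoCoherent (Dual.inD R M) 0 h0
    exact Module.Finite.equiv (HDinDIso (ModuleCat.of R M)).toLinearEquiv
  · exact isPseudoCoherent'_of_forall (Dual.inD R M)
      (fun m => isPseudoCoherent_inD_of_finite_noetherian' M m)

end Groth.Agent.S6942
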