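import Groth.Statements.S14953
import Mathlib
import Groth.Agent.Helper7.EtMil
import Groth.Agent.S14949

set_option autoImplicit false
universe u
open TensorProduct
open EtAlg

namespace Groth.Agent.S14953

/-- Let B' = B ×_A A' be a fibre product of commutative rings with A' → A surjective and L' a B'-module.
If B ⊗_{B'} L' is a finitely generated B-module and A' ⊗_{B'} L' is a finitely generated A'-module,
then L' is a finitely generated B'-module. (The published statement is about flat modules of finite
type; the finiteness conclusion does not use flatness, which descends separately.) -/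
theorem result (B' B A' A : Type u) [CommRing B'] [CommRing B] [CommRing A'] [CommRing A]
    [Algebra B' B] [Algebra B' A'] [Algebra B A] [Algebra A' A] [Algebra B' A] [IsScalarTower B' B A] [IsScalarTower B' A' A]
    (hsq : EtMil.IsFibreSquare B' B A' A)
    (L' : Type u) [AddCommGroup L'] [Module B' L']
    [Module.Finite B (B ⊗[B'] L')] [Module.Finite A' (A' ⊗[B'] L')] : Module.Finite B' L' := by
  classical
  obtain ⟨T₁, hT₁⟩ := Groth.Agent.Helper7.EtMilH.exists_finset_span_one_tmul B' B L'
  obtain ⟨T₂, hT₂⟩ := Groth.Agent.Helper7.EtMilH.exists_finset_span_one_tmul B' A' L'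
  let L'' : Submodule B' L' := Submodule.span B' ((T₁ ∪ T₂ : Finset L') : Set L')
  -- the quotient vanishes after both base changes
  have key : ∀ (S : Type u) [CommRing S] [Algebra B' S] (T : Finset L'),
      (T : Set L') ⊆ ((T₁ ∪ T₂ : Finset L') : Set L') →
      Submodule.span S ((fun m : L' => (1 : S) ⊗ₜ[B'] m) '' (T : Set L')) = ⊤ →
      Subsingleton (S ⊗[B'] (L' ⧸ L'')) := by
    intro S _ _ T hTsub hT
    have hsurj : Function.Surjective (L''.mkQ.baseChange S) := by
      intro y
      obtain ⟨x, hx⟩ := LinearMap.lTensor_surjective S (Submodule.mkQ_surjective L'') y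
      exact ⟨x, hx⟩
    have hzero : ∀ x : S ⊗[B'] L', L''.mkQ.baseChange S x = 0 := by
      intro x
      have hx : x ∈ Submodule.span S ((fun m : L' => (1 : S) ⊗ₜ[B'] m) '' (T : Set L')) := by
        rw [hT]; trivial
      refine Submodule.span_induction (p := fun x _ => L''.mkQ.baseChange S x = 0) ?_ ?_ ?_ ?_ hx
      · rintro _ ⟨m, hm, rfl⟩
        rw [LinearMap.baseChange_tmul]
        have : L''.mkQ m = 0 := by
          rw [Submodule.mkQ_apply, Submodule.Quotient.mk_eq_zero]
          exact Submodule.subset_span (hTsub hm)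
        rw [this, TensorProduct.tmul_zero]
      · exact map_zero _
      · intro a b _ _ ha hb
        rw [map_add, ha, hb, add_zero]
      · intro c a _ ha
        rw [map_smul, ha, smul_zero]
    refine ⟨fun a b => ?_⟩
    obtain ⟨a', rfl⟩ := hsurj a
    obtain ⟨b', rfl⟩ := hsurj b
    rw [hzero, hzero]
  have h1 : Subsingleton (B ⊗[B'] (L' ⧸ L'')) := key B T₁ (by simp) hT₁
  have h2 : Subsingleton (A' ⊗[B'] (L' ⧸ L'')) := key A' T₂ (by simp) hT₂
  have hQ : Subsingleton (L' ⧸ L'') := Groth.Agent.S14949.result B' B A' A hsq (L' ⧸ L'')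
  have htop : L'' = ⊤ := Submodule.Quotient.subsingleton_iff.mp hQ
  refine ⟨⟨T₁ ∪ T₂, ?_⟩⟩
  exact htop

end Groth.Agent.S14953
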