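import Groth.Statements.S0549
import Groth.Agent.S0548
import Groth.Agent.Lead.RegLocal

set_option autoImplicit false
universe u
open CAlg

namespace Groth.Agent.S0549

open IsLocalRing

lemma dvr_iff (B : Type u) [CommRing B] [IsLocalRing B] [IsNoetherianRing B] :
    (∃ _ : IsDomain B, IsDiscreteValuationRing B) ↔
      (IsRegularLocalRing B ∧ ringKrullDim B = 1) := by
  constructor
  · rintro ⟨hdom, hdvr⟩
    refine ⟨inferInstance, ?_⟩
    exact IsPrincipalIdealRing.ringKrullDim_eq_one B (IsDiscreteValuationRing.not_isField B)
  · rintro ⟨hreg, hdim⟩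
    have hdom : IsDomain B := Groth.Agent.Lead.RegLocal.isDomain_of_isRegularLocalRing B
    refine ⟨hdom, ?_⟩
    have hnf : ¬ IsField B := by
      intro hf
      letI := hf.toField
      have := ringKrullDim_eq_zero_of_field B
      rw [hdim] at this
      exact one_ne_zero this
    have hfr := (IsRegularLocalRing.iff_finrank_cotangentSpace B).mp hreg
    rw [hdim] at hfr
    have hfr' : Module.finrank (ResidueField B) (CotangentSpace B) = 1 := by exact_mod_cast hfr
    exact ((IsDiscreteValuationRing.TFAE B hnf).out 5 0).mp hfr'

/-- A Noetherian local ring is a discrete valuation ring exactly when its completion at the maximal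
ideal is a discrete valuation ring. -/
theorem result (A : Type u) [CommRing A] [IsLocalRing A]
    [IsNoetherianRing A] :
    (∃ _ : IsDomain A, IsDiscreteValuationRing A) ↔
      ∃ _ : IsDomain (AdicCompletion (IsLocalRing.maximalIdeal A) A),
        IsDiscreteValuationRing (AdicCompletion (IsLocalRing.maximalIdeal A) A) := by
  have : IsNoetherianRing (AdicCompletion (IsLocalRing.maximalIdeal A) A) :=
    Groth.Agent.S0543.result A _
  rw [dvr_iff, dvr_iff, Groth.Agent.S0547.result, ← Groth.Agent.S0548.result]

end Groth.Agent.S0549
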