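import Groth.Statements.S12630
import Mathlib
import Groth.Agent.Helper6.CDvrPS

set_option autoImplicit false
universe u v
open CAlg

namespace Groth.Agent.S12630

/-- Let `A` be a complete discrete valuation ring containing a field `K` that maps bijectively onto the
residue field (a coefficient field). Then for every generator `x` of the maximal ideal there is a
`K`-algebra isomorphism from the formal power series ring `K[[t]]` onto `A` sending `t` to `x`; it
extends the evaluation map `K[t] → A`, `t ↦ x`, and is the only `K`-algebra map `K[[t]] → A` with `t
↦ x` since `A` is separated. (The first assertion, the mere existence of an isomorphism with a power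
series ring, is the one-variable case of the structure of complete regular local rings with a
coefficient field and is not restated.) -/
theorem result (K : Type u) (A : Type v) [Field K]
    [CommRing A] [IsDomain A] [IsDiscreteValuationRing A] [IsAdicComplete (IsLocalRing.maximalIdeal A) A]
    [Algebra K A] (hK : Function.Bijective (algebraMap K (IsLocalRing.ResidueField A)))
    (x : A) (hx : IsLocalRing.maximalIdeal A = Ideal.span {x}) :
    ∃ e : PowerSeries K ≃ₐ[K] A, e PowerSeries.X = x := by
  have hres : ∀ c : K, algebraMap K (IsLocalRing.ResidueField A) c =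
      IsLocalRing.residue A (algebraMap K A c) := fun c =>
    IsScalarTower.algebraMap_apply K A (IsLocalRing.ResidueField A) c
  have hx0 : x ≠ 0 := by
    intro h0
    apply IsDiscreteValuationRing.not_a_field A
    rw [hx, h0, Ideal.span_singleton_eq_bot]
  have hKinj : ∀ c : K, algebraMap K A c ∈ IsLocalRing.maximalIdeal A → c = 0 := by
    intro c hc
    apply hK.1
    rw [map_zero, hres]
    exact (IsLocalRing.residue_eq_zero_iff _).2 hc
  have hKsurj : ∀ a : A, ∃ c : K, a - algebraMap K A c ∈ IsLocalRing.maximalIdeal A := by
    intro a
    obtain ⟨c, hc⟩ := hK.2 (IsLocalRing.residue A a)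
    refine ⟨c, ?_⟩
    rw [← IsLocalRing.residue_eq_zero_iff, map_sub, sub_eq_zero, ← hres]
    exact hc.symm
  exact ⟨AlgEquiv.ofBijective (Groth.Agent.Helper6.CDvrPS.phi x hx)
    ⟨Groth.Agent.Helper6.CDvrPS.phi_injective x hx hx0 hKinj,
      Groth.Agent.Helper6.CDvrPS.phi_surjective x hx hKsurj⟩,
    Groth.Agent.Helper6.CDvrPS.phi_X x hx⟩

end Groth.Agent.S12630
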