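import Groth.Statements.S1996
import Groth.Agent.Lead.FlatTower

set_option autoImplicit false
universe u
open EtAlg

namespace Groth.Agent.S1996

/-- Let A -> B -> C be ring maps with B -> C faithfully flat. Weak etaleness of A -> C then implies weak
etaleness of A -> B. -/
theorem result (A B C : Type u) [CommRing A] [CommRing B] [CommRing C] [Algebra A B]
    [Algebra B C] [Algebra A C] [IsScalarTower A B C] [Module.FaithfullyFlat B C] [Algebra.WeaklyEtale A C] :
    Algebra.WeaklyEtale A B := by
  have hAB : Module.Flat A B := Groth.Agent.Lead.flat_of_flat_of_faithfullyFlat_tower A B C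
  refine ⟨hAB, ?_⟩
  let ι : B →ₐ[A] C := IsScalarTower.toAlgHom A B C
  have hι : ι.Flat := by
    show (ι : B →+* C).Flat
    have : (ι : B →+* C) = algebraMap B C := rfl
    rw [this, RingHom.flat_algebraMap_iff]
    infer_instance
  have h1 : ((algebraMap B C).comp
      (Algebra.TensorProduct.lmul' A (S := B) : TensorProduct A B B →+* B)).Flat := by
    have e : (algebraMap B C).comp
        (Algebra.TensorProduct.lmul' A (S := B) : TensorProduct A B B →+* B) =
        ((Algebra.TensorProduct.lmul' A (S := C) : TensorProduct A C C →+* C)).comp
          (Algebra.TensorProduct.map ι ι : TensorProduct A B B →+* TensorProduct A C C) := by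
      have : (ι.comp (Algebra.TensorProduct.lmul' A (S := B))) =
          (Algebra.TensorProduct.lmul' A (S := C)).comp (Algebra.TensorProduct.map ι ι) := by
        ext <;> simp
      exact congrArg (fun f : TensorProduct A B B →ₐ[A] C => (f : TensorProduct A B B →+* C)) this
    rw [e]
    exact RingHom.Flat.comp (RingHom.Flat.tensorProductMap hι hι)
      (Algebra.WeaklyEtale.flat_lmul' A C)
  have h2 : (algebraMap B C).FaithfullyFlat := by
    rw [RingHom.faithfullyFlat_algebraMap_iff]; infer_instance
  exact Groth.Agent.Lead.RingHom.Flat.of_comp_of_faithfullyFlat _ (algebraMap B C) h1 h2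

end Groth.Agent.S1996
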