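import Groth.Statements.S19602
import Mathlib
import Groth.Agent.Helper9.Orbit
-- import your own Groth.Agent.* helpers here

set_option autoImplicit false
universe u
open GIT

namespace Groth.Agent.S19602

/-- Let k be an algebraically closed field, G = Spec A a linearly reductive affine algebraic group over
k, and U = Spec R an affine k-scheme of finite type on which G acts. Two k-points x₁, x₂ of U have
the same image in U//G = Spec R^G if and only if the closures of their orbits have a common k-point.
Stated in coaction form. The published statement allows any affine U and asks only that the two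
orbit closures meet; this row assumes U of finite type over k and asks for a common k-point, which
is then equivalent. -/
theorem result (k : Type u) [Field k] [IsAlgClosed k]
    (A : Type u) [CommRing A] [HopfAlgebra k A] [Algebra.FiniteType k A] (hG : HopfRep.IsLinearlyReductive k A)
    (R : Type u) [CommRing R] [Algebra k R] [Algebra.FiniteType k R] [HopfRep.Comod k A R] [GLin.IsCoactAlg k A R]
    (x₁ x₂ : R →ₐ[k] k) :
    x₁.comp (GLin.invariants k A R).val = x₂.comp (GLin.invariants k A R).val ↔
      ∃ z : R →ₐ[k] k, GLin.InOrbitClosure k A x₁ z ∧ GLin.InOrbitClosure k A x₂ z := by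
  constructor
  · intro hx
    by_contra hno
    have hss : HopfRep.IsSemisimpleComod k A R :=
      Groth.Agent.Helper9.semisimple_of_finite (fun V' _ _ _ hf => hG V' hf)
    obtain ⟨E, hE₁, hE₂, hE₃⟩ := Groth.Agent.Helper9.exists_reynolds hss
    set I₁ := RingHom.ker (GLin.orbitHom k A x₁) with hI₁
    set I₂ := RingHom.ker (GLin.orbitHom k A x₂) with hI₂
    have htop : I₁ ⊔ I₂ = ⊤ := by
      by_contra hne
      obtain ⟨z, hz⟩ := Groth.Agent.Helper9.exists_point_of_ne_top (k := k) (I₁ ⊔ I₂) hne
      exact hno ⟨z, le_trans le_sup_left hz, le_trans le_sup_right hz⟩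
    have h1 : (1 : R) ∈ I₁ ⊔ I₂ := by rw [htop]; exact Submodule.mem_top
    obtain ⟨a₁, ha₁, a₂, ha₂, hsum⟩ := Submodule.mem_sup.mp h1
    have hE1 : E 1 = 1 := (hE₃ 1).mpr (GLin.invariants k A R).one_mem
    have hinv : ∀ r, E r ∈ GLin.invariants k A R := fun r => (hE₃ _).mp (hE₂ r)
    have hEa₁ : E a₁ ∈ I₁ := Groth.Agent.Helper9.reynolds_mem hss E hE₁ hE₂ hE₃ _
      (Groth.Agent.Helper9.isSubcomod_ker_orbitHom x₁) a₁ ha₁
    have hEa₂ : E a₂ ∈ I₂ := Groth.Agent.Helper9.reynolds_mem hss E hE₁ hE₂ hE₃ _
      (Groth.Agent.Helper9.isSubcomod_ker_orbitHom x₂) a₂ ha₂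
    have hval : ∀ (x : R →ₐ[k] k) (f : R), f ∈ GLin.invariants k A R →
        f ∈ RingHom.ker (GLin.orbitHom k A x) → x f = 0 := by
      intro x f hf hker
      rw [RingHom.mem_ker, Groth.Agent.Helper9.orbitHom_invariant x f hf] at hker
      have := congrArg (Coalgebra.counit (R := k) (A := A)) hker
      rw [Algebra.algebraMap_eq_smul_one, map_smul, Bialgebra.counit_one, map_zero, smul_eq_mul,
        mul_one] at this
      exact this
    have e1 : x₁ (E a₁) = 0 := hval x₁ _ (hinv a₁) hEa₁
    have e2 : x₂ (E a₂) = 0 := hval x₂ _ (hinv a₂) hEa₂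
    have e3 : x₁ (E a₂) = x₂ (E a₂) := by
      have := congrArg (fun φ : (GLin.invariants k A R) →ₐ[k] k => φ ⟨E a₂, hinv a₂⟩) hx
      exact this
    have e4 : x₁ (E a₁ + E a₂) = 1 := by
      rw [← map_add, hsum, hE1, map_one]
    rw [map_add, e1, e3, e2, add_zero] at e4
    exact zero_ne_one e4
  · rintro ⟨z, hz₁, hz₂⟩
    have key : ∀ (x : R →ₐ[k] k), GLin.InOrbitClosure k A x z →
        ∀ f ∈ GLin.invariants k A R, z f = x f := by
      intro x hz f hf
      have hmem : f - algebraMap k R (x f) ∈ RingHom.ker (GLin.orbitHom k A x) := by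
        rw [RingHom.mem_ker, map_sub, Groth.Agent.Helper9.orbitHom_invariant x f hf,
          AlgHom.commutes, sub_self]
      have := hz hmem
      rw [RingHom.mem_ker, map_sub, AlgHom.commutes, sub_eq_zero] at this
      rw [this]
      rfl
    apply AlgHom.ext
    intro f
    show x₁ f.1 = x₂ f.1
    rw [← key x₁ hz₁ f.1 f.2, ← key x₂ hz₂ f.1 f.2]

end Groth.Agent.S19602
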