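import Groth.Statements.S0335
import Mathlib
import Groth.Agent.Helper2.DepthCM

set_option autoImplicit false
universe u v
open LocCoh

namespace Groth.Agent.S0335

open IsLocalRing in
lemma keyK (R : Type u) [CommRing R] [IsLocalRing R] [IsNoetherianRing R] (h : 2 ≤ LocCoh.depth R R)
    (J1 J2 : Ideal R) (hJ : ∀ a ∈ J1, ∀ b ∈ J2, a * b = 0) (k : ℕ)
    (hk : maximalIdeal R ^ k ≤ J1 ⊔ J2) : J1 = ⊥ ∨ J2 = ⊥ := by
  have hne : LocCoh.depth R R ≠ 0 := by
    intro h0; rw [h0] at h; simp at h
  have h1 := (Groth.Agent.Helper2.Depth.depth_eq_zero_iff R R).not.mp hne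
  push Not at h1
  obtain ⟨x0, hx0m, hx0⟩ := h1
  set x := x0 ^ (k + 1) with hxdef
  have hxm : x ∈ maximalIdeal R := Ideal.pow_mem_of_mem _ hx0m _ (Nat.succ_pos _)
  have hxreg : IsSMulRegular R x := hx0.pow _
  have hxJ : x ∈ J1 ⊔ J2 := by
    apply hk
    have : x = x0 ^ k * x0 := pow_succ _ _
    rw [this]
    exact Ideal.mul_mem_right _ _ (Ideal.pow_mem_pow hx0m k)
  have hIM : maximalIdeal R • (⊤ : Submodule R R) ≠ ⊤ :=
    Groth.Agent.Helper2.Depth.smul_top_ne_top R R
  have hd := Groth.Agent.Helper2.DepthCM.idealDepth_quotSMulTop (maximalIdeal R) R hIM x hxm hxreg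
  have hIM' : maximalIdeal R • (⊤ : Submodule R (QuotSMulTop x R)) ≠ ⊤ :=
    Groth.Agent.Helper2.DepthRees.smul_top_quotSMulTop_ne_top hxm hIM
  have : Nontrivial (QuotSMulTop x R) := by
    by_contra hnt
    rw [not_nontrivial_iff_subsingleton] at hnt
    apply hIM'
    exact Subsingleton.elim _ _
  have hne' : LocCoh.depth R (QuotSMulTop x R) ≠ 0 := by
    intro h0
    unfold LocCoh.depth at h0 h
    rw [h0] at hd
    rw [← hd] at h
    simp at h
  have h2 := (Groth.Agent.Helper2.Depth.depth_eq_zero_iff R (QuotSMulTop x R)).not.mp hne'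
  push Not at h2
  obtain ⟨y0, hy0m, hy0⟩ := h2
  set y := y0 ^ (k + 1) with hydef
  have hyreg : IsSMulRegular (QuotSMulTop x R) y := hy0.pow _
  have hyJ : y ∈ J1 ⊔ J2 := by
    apply hk
    have : y = y0 ^ k * y0 := pow_succ _ _
    rw [this]
    exact Ideal.mul_mem_right _ _ (Ideal.pow_mem_pow hy0m k)
  obtain ⟨a, ha, b, hb, hab⟩ := Submodule.mem_sup.mp hxJ
  obtain ⟨c, hc, d, hd', hcd⟩ := Submodule.mem_sup.mp hyJ
  -- y • mk a = 0
  have hya : y • (Submodule.Quotient.mk a : QuotSMulTop x R) = 0 := by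
    rw [← Submodule.Quotient.mk_smul, Submodule.Quotient.mk_eq_zero]
    have e1 : y • a = x • c := by
      simp only [smul_eq_mul]
      rw [← hcd, ← hab]
      have := hJ a ha d hd'
      have := hJ c hc b hb
      linear_combination (hJ a ha d hd') - (hJ c hc b hb)
    rw [e1]
    exact Submodule.smul_mem_pointwise_smul _ _ _ Submodule.mem_top
  have hya' : (Submodule.Quotient.mk a : QuotSMulTop x R) = 0 := by
    apply hyreg
    simpa using hya
  rw [Submodule.Quotient.mk_eq_zero] at hya'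
  obtain ⟨t, -, ht⟩ := (Submodule.mem_smul_pointwise_iff_exists _ _ _).mp hya'
  simp only [smul_eq_mul] at ht
  rcases IsLocalRing.isUnit_or_isUnit_one_sub_self t with hu | hu
  · -- b = a * (1-t) * t⁻¹
    right
    obtain ⟨u, hu⟩ := hu
    rw [eq_bot_iff]
    intro c' hc'
    rw [Ideal.mem_bot]
    apply hxreg.right_eq_zero_of_smul
    simp only [smul_eq_mul]
    have hbt : b * t = a * (1 - t) := by linear_combination t * hab + ht
    have hb' : b = a * (1 - t) * (↑u⁻¹ : R) := by
      rw [← hbt, ← hu, Units.mul_inv_cancel_right]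
    rw [← hab, hb']
    have := hJ a ha c' hc'
    linear_combination (1 + (1 - t) * (↑u⁻¹ : R)) * this
  · left
    obtain ⟨u, hu⟩ := hu
    rw [eq_bot_iff]
    intro c' hc'
    rw [Ideal.mem_bot]
    apply hxreg.right_eq_zero_of_smul
    simp only [smul_eq_mul]
    have hbt : a * (1 - t) = b * t := by linear_combination (-t) * hab - ht
    have ha' : a = b * t * (↑u⁻¹ : R) := by
      rw [← hbt, ← hu, Units.mul_inv_cancel_right]
    rw [← hab, ha']
    have := hJ c' hc' b hb
    linear_combination (1 + t * (↑u⁻¹ : R)) * this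

/-- For the ring itself; Hartshorne's connectedness: if a Noetherian local ring has depth at least 2
then its punctured spectrum is connected. -/
theorem result (R : Type u) [CommRing R] [IsLocalRing R] [IsNoetherianRing R] (h : 2 ≤ LocCoh.depth R R) : IsConnected {x : PrimeSpectrum R | x.asIdeal ≠ IsLocalRing.maximalIdeal R} := by
  have hne : LocCoh.depth R R ≠ 0 := by
    intro h0; rw [h0] at h; simp at h
  have h1 := (Groth.Agent.Helper2.Depth.depth_eq_zero_iff R R).not.mp hne
  push Not at h1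
  obtain ⟨x0, hx0m, hx0⟩ := h1
  have hnonempty : ({x : PrimeSpectrum R | x.asIdeal ≠ IsLocalRing.maximalIdeal R}).Nonempty := by
    by_contra hemp
    rw [Set.not_nonempty_iff_eq_empty] at hemp
    have hall : ∀ p : PrimeSpectrum R, p.asIdeal = IsLocalRing.maximalIdeal R := by
      intro p
      by_contra hp
      have : p ∈ ({x : PrimeSpectrum R | x.asIdeal ≠ IsLocalRing.maximalIdeal R}) := hp
      rw [hemp] at this
      exact this
    have hnil : x0 ∈ nilradical R := by
      rw [nilradical_eq_sInf, Ideal.mem_sInf]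
      intro p hp
      have := hall ⟨p, hp⟩
      simp only at this
      rw [this]; exact hx0m
    obtain ⟨n, hn⟩ := hnil
    have hreg : IsSMulRegular R (x0 ^ n) := hx0.pow n
    rw [hn] at hreg
    have : (1 : R) = 0 := hreg (by simp)
    exact one_ne_zero this
  refine ⟨hnonempty, ?_⟩
  rw [isPreconnected_iff_subset_of_disjoint_closed]
  intro u v hu hv huv hdisj
  obtain ⟨I1, rfl⟩ := (PrimeSpectrum.isClosed_iff_zeroLocus_ideal u).mp hu
  obtain ⟨I2, rfl⟩ := (PrimeSpectrum.isClosed_iff_zeroLocus_ideal v).mp hv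
  obtain ⟨q, hq⟩ := hnonempty
  have hqm : q.asIdeal ≤ IsLocalRing.maximalIdeal R := IsLocalRing.le_maximalIdeal q.2.ne_top
  -- I1 * I2 ≤ nilradical
  have hnil : I1 * I2 ≤ nilradical R := by
    rw [nilradical_eq_sInf]
    apply le_sInf
    intro p hp
    by_cases hpm : p = IsLocalRing.maximalIdeal R
    · rcases huv hq with h' | h'
      · rw [PrimeSpectrum.mem_zeroLocus] at h'
        rw [hpm]
        exact Ideal.mul_le_left.trans ((show I1 ≤ q.asIdeal from h').trans hqm)
      · rw [PrimeSpectrum.mem_zeroLocus] at h'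
        rw [hpm]
        exact Ideal.mul_le_right.trans ((show I2 ≤ q.asIdeal from h').trans hqm)
    · have hpU : (⟨p, hp⟩ : PrimeSpectrum R) ∈ ({x : PrimeSpectrum R | x.asIdeal ≠ IsLocalRing.maximalIdeal R}) := hpm
      rcases huv hpU with h' | h'
      · rw [PrimeSpectrum.mem_zeroLocus] at h'
        exact Ideal.mul_le_left.trans h'
      · rw [PrimeSpectrum.mem_zeroLocus] at h'
        exact Ideal.mul_le_right.trans h'
  obtain ⟨n, hn⟩ := IsNoetherianRing.isNilpotent_nilradical R
  have hprod : ∀ a ∈ I1 ^ n, ∀ b ∈ I2 ^ n, a * b = 0 := by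
    intro a ha b hb
    have : a * b ∈ (I1 * I2) ^ n := by
      rw [mul_pow]; exact Ideal.mul_mem_mul ha hb
    have := Ideal.pow_right_mono hnil n this
    rw [hn] at this
    simpa using this
  -- maximal ideal ≤ radical
  have hrad : IsLocalRing.maximalIdeal R ≤ (I1 ^ n ⊔ I2 ^ n).radical := by
    rw [Ideal.radical_eq_sInf]
    apply le_sInf
    rintro p ⟨hJp, hp⟩
    have h1p : I1 ≤ p := hp.le_of_pow_le (le_sup_left.trans hJp)
    have h2p : I2 ≤ p := hp.le_of_pow_le (le_sup_right.trans hJp)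
    by_contra hcon
    have hpm : p ≠ IsLocalRing.maximalIdeal R := fun h' => hcon (le_of_eq h'.symm)
    have : (⟨p, hp⟩ : PrimeSpectrum R) ∈ ({x : PrimeSpectrum R | x.asIdeal ≠ IsLocalRing.maximalIdeal R}) ∩
        (PrimeSpectrum.zeroLocus (I1 : Set R) ∩ PrimeSpectrum.zeroLocus (I2 : Set R)) :=
      ⟨hpm, h1p, h2p⟩
    rw [hdisj] at this
    exact this
  obtain ⟨k, hk⟩ := Ideal.exists_pow_le_of_le_radical_of_fg hrad
    (IsNoetherian.noetherian (IsLocalRing.maximalIdeal R))
  rcases keyK R h (I1 ^ n) (I2 ^ n) hprod k hk with h0 | h0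
  · left
    intro p _
    rw [PrimeSpectrum.mem_zeroLocus]
    exact p.2.le_of_pow_le (h0 ▸ bot_le)
  · right
    intro p _
    rw [PrimeSpectrum.mem_zeroLocus]
    exact p.2.le_of_pow_le (h0 ▸ bot_le)

end Groth.Agent.S0335
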