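import Groth.Statements.S0249
import Mathlib

set_option autoImplicit false
universe u
open Pi1

namespace Groth.Agent.S0249

theorem claim (A : Type u) [CommRing A] [IsNoetherianRing A] (f : A) :
    ∀ n : ℕ, ∀ p : PrimeSpectrum A, f ∈ p.asIdeal → Order.height p = n → 1 ≤ n →
      ∃ P : PrimeSpectrum A, f ∈ P.asIdeal ∧ Order.height P = 1 := by
  intro n
  induction n using Nat.strong_induction_on with
  | _ n ih =>
    intro p hfp hpn hn
    rcases Nat.eq_or_lt_of_le hn with h1 | h2
    · exact ⟨p, hfp, by rw [hpn, ← h1]; rfl⟩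
    · have hfin : Order.height p < ⊤ := by rw [hpn]; exact ENat.natCast_lt_top n
      obtain ⟨p₁, hp₁lt, hp₁h⟩ := (Order.coe_lt_height_iff (n := 1) hfin).1
        (by rw [hpn]; exact_mod_cast h2)
      have hfin1 : Order.height p₁ < ⊤ := by rw [hp₁h]; exact ENat.natCast_lt_top 1
      obtain ⟨p₀, hp₀lt, hp₀h⟩ := (Order.coe_lt_height_iff (n := 0) hfin1).1
        (by rw [hp₁h]; exact_mod_cast Nat.zero_lt_one)
      by_cases hf1 : f ∈ p₁.asIdeal
      · exact ⟨p₁, hf1, hp₁h⟩
      · have hle : p₀.asIdeal ⊔ Ideal.span {f} ≤ p.asIdeal :=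
          sup_le (le_of_lt (hp₀lt.trans hp₁lt)) ((Ideal.span_singleton_le_iff_mem _).2 hfp)
        obtain ⟨P, hPmin, hPle⟩ := Ideal.exists_minimalPrimes_le hle
        have hPprime : P.IsPrime := hPmin.isPrime
        have hP1 := Ideal.map_height_le_one_of_mem_minimalPrimes hPmin
        have hp₀P : p₀.asIdeal ≤ P := le_sup_left.trans hPmin.1.2
        have hfP : f ∈ P := hPmin.1.2 (le_sup_right (a := p₀.asIdeal)
          (Ideal.mem_span_singleton_self f))
        have hPne : P ≠ p.asIdeal := by
          intro hPeq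
          rw [hPeq] at hP1
          set mk := Ideal.Quotient.mk p₀.asIdeal with hmk
          have hsurj : Function.Surjective mk := Ideal.Quotient.mk_surjective
          have hker : RingHom.ker mk = p₀.asIdeal := Ideal.mk_ker
          have hq₁ : (p₁.asIdeal.map mk).IsPrime :=
            Ideal.map_isPrime_of_surjective hsurj (by rw [hker]; exact le_of_lt hp₀lt)
          have hq : (p.asIdeal.map mk).IsPrime :=
            Ideal.map_isPrime_of_surjective hsurj
              (by rw [hker]; exact le_of_lt (hp₀lt.trans hp₁lt))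
          have hlt : p₁.asIdeal.map mk < p.asIdeal.map mk := by
            refine lt_of_le_of_ne (Ideal.map_mono (le_of_lt hp₁lt)) ?_
            intro heq
            have h1 := Ideal.comap_map_of_surjective mk hsurj p₁.asIdeal
            have h2 := Ideal.comap_map_of_surjective mk hsurj p.asIdeal
            rw [heq, h2] at h1
            have hk1 : Ideal.comap mk ⊥ ≤ p₁.asIdeal := by
              rw [← RingHom.ker_eq_comap_bot, hker]; exact le_of_lt hp₀lt
            have hk2 : Ideal.comap mk ⊥ ≤ p.asIdeal := by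
              rw [← RingHom.ker_eq_comap_bot, hker]; exact le_of_lt (hp₀lt.trans hp₁lt)
            rw [sup_eq_left.2 hk1, sup_eq_left.2 hk2] at h1
            exact (ne_of_lt hp₁lt) (PrimeSpectrum.ext h1.symm)
          have hne : p₁.asIdeal.map mk ≠ ⊥ := by
            intro hbot
            have hp₀lt' : p₀.asIdeal < p₁.asIdeal := hp₀lt
            obtain ⟨a, ha1, ha0⟩ := SetLike.exists_of_lt hp₀lt'
            have : mk a ∈ p₁.asIdeal.map mk := Ideal.mem_map_of_mem mk ha1
            rw [hbot, Ideal.mem_bot, Ideal.Quotient.eq_zero_iff_mem] at this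
            exact ha0 this
          have h3 : (p₁.asIdeal.map mk).height ≠ 0 := by
            rw [Ne, Ideal.height_eq_zero_iff_eq_bot]; exact hne
          have h4 := Ideal.height_strict_mono_of_isPrime_of_isPrime hlt
          have h5 : (1 : ℕ∞) ≤ (p₁.asIdeal.map mk).height := Order.one_le_iff_ne_zero.2 h3
          exact absurd (lt_of_le_of_lt h5 h4) (not_lt.2 hP1)
        have hPlt : (⟨P, hPprime⟩ : PrimeSpectrum A) < p := lt_of_le_of_ne hPle
          (fun h => hPne (congrArg PrimeSpectrum.asIdeal h))
        have hfinP : Order.height (⟨P, hPprime⟩ : PrimeSpectrum A) < ⊤ :=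
          lt_of_le_of_lt (Order.height_mono (le_of_lt hPlt)) hfin
        have hhlt := Order.height_strictMono hPlt hfinP
        obtain ⟨k, hk⟩ := ENat.ne_top_iff_exists.1 hfinP.ne
        have hp₀Plt : p₀ < (⟨P, hPprime⟩ : PrimeSpectrum A) := by
          refine lt_of_le_of_ne hp₀P ?_
          intro heq
          apply hf1
          have : f ∈ p₀.asIdeal := by rw [heq]; exact hfP
          exact (le_of_lt hp₀lt) this
        have hfin0 : Order.height p₀ < ⊤ := by rw [hp₀h]; exact ENat.natCast_lt_top 0
        have hh0 := Order.height_strictMono hp₀Plt hfin0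
        rw [← hk] at hhlt hh0
        rw [hpn] at hhlt
        rw [hp₀h] at hh0
        have hkn : k < n := by exact_mod_cast hhlt
        have hk1 : 1 ≤ k := by
          have : (0 : ℕ) < k := by exact_mod_cast hh0
          omega
        exact ih k hkn ⟨P, hPprime⟩ hfP hk.symm hk1

open AlgebraicGeometry CategoryTheory CategoryTheory.Limits in
/-- Let A be a Noetherian local ring of dimension at least 1 and f an element of its maximal ideal. Then
some prime ideal of height exactly 1 contains f. -/
theorem result (A : Type u) [CommRing A] [IsNoetherianRing A] [IsLocalRing A]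
    (h : (1 : WithBot ℕ∞) ≤ ringKrullDim A) (f : A) (hf : f ∈ IsLocalRing.maximalIdeal A) :
    ∃ p : Ideal A, p.IsPrime ∧ f ∈ p ∧ p.height = 1 := by
  have hm := IsLocalRing.maximalIdeal_height_eq_ringKrullDim (R := A)
  have hfin : (IsLocalRing.maximalIdeal A).height ≠ ⊤ :=
    Ideal.height_ne_top (Ideal.IsPrime.ne_top inferInstance)
  obtain ⟨n, hn⟩ := ENat.ne_top_iff_exists.1 hfin
  have hn1 : 1 ≤ n := by
    rw [← hm, ← hn] at h
    exact_mod_cast h
  obtain ⟨P, hfP, hP⟩ := claim A f n (IsLocalRing.closedPoint A) hf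
    (by rw [← PrimeSpectrum.height_eq_orderHeight]; exact hn.symm) hn1
  exact ⟨P.asIdeal, P.2, hfP, by rw [PrimeSpectrum.height_eq_orderHeight]; exact hP⟩

end Groth.Agent.S0249
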