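import Groth.Statements.S1146
import Mathlib

set_option autoImplicit false
open CategoryTheory CategoryTheory.Limits AlgebraicGeometry Opposite
universe u
open Desc

namespace Groth.Agent.S1146

theorem lqf_of_etale {X Y : Scheme.{u}} (f : X ⟶ Y) [Etale f] : LocallyQuasiFinite f := by
  rw [HasRingHomProperty.iff_appLE (P := @LocallyQuasiFinite)]
  intro U V e
  have h : (f.appLE U V e).hom.Etale := HasRingHomProperty.appLE @Etale f ‹_› U V e
  algebraize [(f.appLE U V e).hom]
  show @Algebra.QuasiFinite _ _ _ _ (f.appLE U V e).hom.toAlgebra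
  infer_instance

section Top

theorem topKrullDim_eq_krullDim (T : Type*) [TopologicalSpace T] [QuasiSober T] [T0Space T] :
    topologicalKrullDim T = @Order.krullDim T (specializationPreorder T) := by
  letI := specializationOrder T
  exact Order.krullDim_eq_of_orderIso irreducibleSetEquivPoints

theorem lift_series {α β : Type*} [Preorder α] [Preorder β] (g : α → β)
    (hfib : ∀ (a : α) (b : β), g a < b → ∃ a', a < a' ∧ g a' = b) (l : LTSeries β) :
    ∀ a : α, g a = l.head → ∃ L : LTSeries α, L.length = l.length ∧ L.head = a := by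
  induction l using RelSeries.inductionOn with
  | singleton q =>
    intro a _
    exact ⟨RelSeries.singleton _ a, rfl, rfl⟩
  | cons l q lt ih =>
    intro a ha
    simp only [RelSeries.head_cons] at ha
    obtain ⟨a', haa', ha'⟩ := hfib a l.head (ha ▸ lt)
    obtain ⟨L, hL, hLh⟩ := ih a' ha'
    refine ⟨L.cons a (hLh ▸ haa'), ?_, ?_⟩
    · simp [hL]
    · simp

theorem krullDim_le_of_fibration {α β : Type*} [Preorder α] [Preorder β] (g : α → β)
    (hsurj : Function.Surjective g)
    (hfib : ∀ (a : α) (b : β), g a < b → ∃ a', a < a' ∧ g a' = b) :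
    Order.krullDim β ≤ Order.krullDim α := by
  rw [Order.krullDim]
  apply iSup_le
  intro l
  obtain ⟨a, ha⟩ := hsurj l.head
  obtain ⟨L, hL, -⟩ := lift_series g hfib l a ha
  rw [← hL]
  exact Order.LTSeries.length_le_krullDim L

theorem dim_eq_of_generalizing {W W' : Type*} [TopologicalSpace W] [TopologicalSpace W']
    [QuasiSober W] [T0Space W] [QuasiSober W'] [T0Space W'] (g : W → W')
    (hc : Continuous g) (hs : Function.Surjective g) (hg : GeneralizingMap g)
    (hfib : ∀ x y : W, y ⤳ x → g x = g y → x = y) :
    topologicalKrullDim W = topologicalKrullDim W' := by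
  rw [topKrullDim_eq_krullDim, topKrullDim_eq_krullDim]
  letI : Preorder W := specializationPreorder W
  letI : Preorder W' := specializationPreorder W'
  show Order.krullDim W = Order.krullDim W'
  have hA : Order.krullDim W ≤ Order.krullDim W' := by
    apply Order.krullDim_le_of_strictMono g
    intro x y hxy
    -- x < y : y ⤳ x and not x ⤳ y
    have h1 : y ⤳ x := hxy.le
    have h2 : ¬ x ⤳ y := hxy.not_ge
    refine lt_of_le_not_ge (h1.map hc) ?_
    intro h3
    have h4 : g x = g y := ((h1.map hc).antisymm h3).eq.symm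
    have := hfib x y h1 h4
    subst this
    exact h2 specializes_rfl
  have hB : Order.krullDim W' ≤ Order.krullDim W := by
    apply krullDim_le_of_fibration g hs
    intro a b hab
    have h1 : b ⤳ g a := hab.le
    have h2 : ¬ g a ⤳ b := hab.not_ge
    obtain ⟨a', ha', rfl⟩ := hg h1
    refine ⟨a', lt_of_le_not_ge ha' ?_, rfl⟩
    intro h3
    exact h2 (h3.map hc)
  exact le_antisymm hA hB

end Top

theorem dim_image_eq {X Y : Type*} [TopologicalSpace X] [TopologicalSpace Y]
    [QuasiSober X] [T0Space X] [QuasiSober Y] [T0Space Y] (f : X → Y)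
    (hc : Continuous f) (ho : IsOpenMap f) (hg : GeneralizingMap f)
    (hfib : ∀ x y : X, y ⤳ x → f x = f y → x = y) (W : Set X) (hW : IsOpen W) :
    topologicalKrullDim W = topologicalKrullDim (f '' W) := by
  have : QuasiSober W := hW.isOpenEmbedding_subtypeVal.quasiSober
  have : QuasiSober (f '' W) := (ho W hW).isOpenEmbedding_subtypeVal.quasiSober
  let g : W → f '' W := fun w => ⟨f w.1, Set.mem_image_of_mem f w.2⟩
  apply dim_eq_of_generalizing g
  · exact (hc.comp continuous_subtype_val).subtype_mk _
  · rintro ⟨_, x, hx, rfl⟩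
    exact ⟨⟨x, hx⟩, rfl⟩
  · intro w y' hy'
    have h1 : y'.1 ⤳ f w.1 := by
      have := hy'.map continuous_subtype_val
      exact this
    obtain ⟨x', hx', hfx'⟩ := hg h1
    have hx'W : x' ∈ W := hx'.mem_open hW w.2
    refine ⟨⟨x', hx'W⟩, ?_, Subtype.ext hfx'⟩
    exact Topology.IsInducing.subtypeVal.specializes_iff.mp hx'
  · intro x y hyx hxy
    apply Subtype.ext
    apply hfib x.1 y.1 (hyx.map continuous_subtype_val)
    exact congrArg Subtype.val hxy

/-- Let f : U ⟶ V be an etale morphism of schemes and u a point of U. Then the local dimension of U at u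
(the infimum of the Krull dimensions of open neighbourhoods) equals the local dimension of V at
f(u). -/
theorem result {U V : Scheme.{u}} (f : U ⟶ V) [Etale f] (u : U) :
    FlatMor.localDim U u = FlatMor.localDim V (f.base u) := by
  have hlqf := lqf_of_etale f
  have hc : Continuous f := f.continuous
  have ho : IsOpenMap f := f.isOpenMap
  have hg : GeneralizingMap f := Flat.generalizingMap f
  have hfib : ∀ x y : U, y ⤳ x → f x = f y → x = y := by
    intro x y hyx hxy
    have hd := f.isDiscrete_preimage_singleton (f x)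
    have hx : x ∈ f ⁻¹' {f x} := rfl
    have hy : y ∈ f ⁻¹' {f x} := hxy.symm
    have : DiscreteTopology (f ⁻¹' {f x}) := hd.to_subtype
    have hs : (⟨y, hy⟩ : f ⁻¹' {f x}) ⤳ ⟨x, hx⟩ :=
      Topology.IsInducing.subtypeVal.specializes_iff.mp hyx
    have := hs.eq
    exact (congrArg Subtype.val this).symm
  have key := dim_image_eq f hc ho hg hfib
  unfold FlatMor.localDim
  apply le_antisymm
  · apply le_iInf
    rintro ⟨W', hW'⟩
    let W : TopologicalSpace.Opens U := ⟨f ⁻¹' W'.1, W'.2.preimage hc⟩
    refine (iInf_le _ (⟨W, hW'⟩ : {W : TopologicalSpace.Opens U // u ∈ W})).trans ?_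
    show topologicalKrullDim (W : Set U) ≤ topologicalKrullDim (W' : Set V)
    rw [key W W.2]
    have hsub : f '' (W : Set U) ⊆ (W' : Set V) := Set.image_preimage_subset _ _
    exact (Topology.IsEmbedding.inclusion hsub).isInducing.topologicalKrullDim_le
  · apply le_iInf
    rintro ⟨W, hW⟩
    let W' : TopologicalSpace.Opens V := ⟨f '' W.1, ho _ W.2⟩
    refine (iInf_le _ (⟨W', Set.mem_image_of_mem _ hW⟩ :
      {W' : TopologicalSpace.Opens V // f.base u ∈ W'})).trans ?_
    show topologicalKrullDim (f '' (W : Set U)) ≤ topologicalKrullDim (W : Set U)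
    rw [key W W.2]

end Groth.Agent.S1146
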