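import Groth.Statements.S0120
import Mathlib
import Groth.Agent.S1146

set_option autoImplicit false
open CategoryTheory CategoryTheory.Limits AlgebraicGeometry Opposite
universe u
open EtBase

namespace Groth.Agent.S0120

/-- For an étale morphism X → Y with Y locally Noetherian and a point x of X, the local ring of X at x
and the local ring of Y at the image of x have the same Krull dimension. -/
theorem result {X Y : Scheme.{u}} (f : X ⟶ Y) [AlgebraicGeometry.Etale f]
    [IsLocallyNoetherian Y] (x : X) :
    ringKrullDim (X.presheaf.stalk x) = ringKrullDim (Y.presheaf.stalk (f.base x)) := by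
  have hlqf := Groth.Agent.S1146.lqf_of_etale f
  have hc : Continuous f := f.continuous
  have hg : GeneralizingMap f := Flat.generalizingMap f
  have hfib : ∀ x y : X, y ⤳ x → f x = f y → x = y := by
    intro x y hyx hxy
    have hd := f.isDiscrete_preimage_singleton (f x)
    have hx : x ∈ f ⁻¹' {f x} := rfl
    have hy : y ∈ f ⁻¹' {f x} := hxy.symm
    have : DiscreteTopology (f ⁻¹' {f x}) := hd.to_subtype
    have hs : (⟨y, hy⟩ : f ⁻¹' {f x}) ⤳ ⟨x, hx⟩ :=
      Topology.IsInducing.subtypeVal.specializes_iff.mp hyx
    have := hs.eq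
    exact (congrArg Subtype.val this).symm
  rw [ringKrullDim_stalk_eq_coheight, ringKrullDim_stalk_eq_coheight]
  congr 1
  apply le_antisymm
  · apply Order.coheight_le_coheight_apply_of_strictMono f
    intro a b hab
    have h1 : b ⤳ a := hab.le
    have h2 : ¬ a ⤳ b := hab.not_ge
    refine lt_of_le_not_ge (h1.map hc) ?_
    intro h3
    have h4 : f a = f b := ((h1.map hc).antisymm h3).eq.symm
    have := hfib a b h1 h4
    subst this
    exact h2 specializes_rfl
  · apply Order.coheight_le
    intro p hp
    obtain ⟨L, hL, hLh⟩ := Groth.Agent.S1146.lift_series f (by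
      intro a b hab
      have h1 : b ⤳ f a := hab.le
      have h2 : ¬ f a ⤳ b := hab.not_ge
      obtain ⟨a', ha', rfl⟩ := hg h1
      refine ⟨a', lt_of_le_not_ge ha' ?_, rfl⟩
      intro h3
      exact h2 (h3.map hc)) p x hp.symm
    rw [← hL, ← hLh]
    exact Order.length_le_coheight_head

end Groth.Agent.S0120
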