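import Groth.Statements.S1309
import Mathlib
import Groth.Agent.Lead.ThickBC

set_option autoImplicit false
universe u
open FlatMor

namespace Groth.Agent.S1309

open AlgebraicGeometry CategoryTheory Limits in
/-- a finite order thickening has (uniformly) nilpotent kernels on affine opens -/
theorem nilpotent_ker {S S' : Scheme.{u}} (iS : S ⟶ S')
    (hS : MoreMor.IsFiniteOrderThickening iS) :
    ∃ n : ℕ, ∀ V' : S'.affineOpens, (RingHom.ker (iS.app V'.1).hom) ^ n = ⊥ := by
  obtain ⟨⟨hci, -⟩, n, hn⟩ := hS
  haveI := hci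
  refine ⟨n, fun V' => ?_⟩
  rw [← Scheme.Hom.ker_apply]
  have h1 := congrArg (fun I : S'.IdealSheafData => I.ideal V') hn
  simp only [Scheme.IdealSheafData.ideal_pow, Pi.pow_apply] at h1
  exact h1

open AlgebraicGeometry CategoryTheory Limits in
theorem aux {X X' S S' : Scheme.{u}} (iX : X ⟶ X') (iS : S ⟶ S') (f : X ⟶ S) (f' : X' ⟶ S')
    (hS : MoreMor.IsFiniteOrderThickening iS) (hc : IsPullback iX f f' iS) :
    LocallyOfFiniteType f ↔ LocallyOfFiniteType f' := by
  constructor
  · intro h
    obtain ⟨n, hn⟩ := nilpotent_ker iS hS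
    haveI := hS.1.1
    exact Groth.Agent.Lead.ThickBC.locallyOfFiniteType_of_isPullback hc (fun V' => ⟨n, hn V'⟩)
  · intro h
    exact MorphismProperty.of_isPullback hc h

open AlgebraicGeometry CategoryTheory Limits in
/-- Let S ⟶ S' be a finite order thickening and let X be the base change of a scheme X' over S' to S (so
X ⟶ X' is again a thickening). Then X ⟶ S is locally of finite type if and only if X' ⟶ S' is. -/
theorem result {X X' S S' : Scheme.{u}} (iX : X ⟶ X') (iS : S ⟶ S') (f : X ⟶ S) (f' : X' ⟶ S')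
    (hS : MoreMor.IsFiniteOrderThickening iS) (hc : IsPullback iX f f' iS) :
    LocallyOfFiniteType f ↔ LocallyOfFiniteType f' := by
  exact aux iX iS f f' hS hc

end Groth.Agent.S1309
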