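import Groth.Statements.S1310
import Mathlib
import Groth.Agent.Lead.ThickBC2
import Groth.Agent.S1309

set_option autoImplicit false
universe u
open FlatMor

namespace Groth.Agent.S1310

open AlgebraicGeometry CategoryTheory Limits in
theorem aux {X X' S S' : Scheme.{u}} (iX : X ⟶ X') (iS : S ⟶ S') (f : X ⟶ S) (f' : X' ⟶ S')
    (hS : MoreMor.IsFiniteOrderThickening iS) (hc : IsPullback iX f f' iS) :
    FormallyUnramified f ↔ FormallyUnramified f' := by
  constructor
  · intro h
    obtain ⟨n, hn⟩ := Groth.Agent.S1309.nilpotent_ker iS hS
    haveI := hS.1.1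
    refine Groth.Agent.Lead.ThickBC.lift_of_isPullback @FormallyUnramified
      RingHom.FormallyUnramified hc ?_ h
    intro V' U' e hφ
    obtain ⟨h1, h2, h3, h4⟩ := Groth.Agent.Lead.ThickBC.square_facts hc V' U' e
    exact Groth.Agent.Lead.ThickBC.formallyUnramified_of_nilpotent _ _ _ _ h1 h2 h3 n (hn V') h4 hφ
  · intro h
    exact MorphismProperty.of_isPullback hc h

open AlgebraicGeometry CategoryTheory Limits in
/-- Let S ⟶ S' be a finite order thickening and let X be the base change of a scheme X' over S' to S (so
X ⟶ X' is again a thickening). Then X ⟶ S is formally unramified if and only if X' ⟶ S' is. (The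
source states this as the vanishing of the sheaf of relative differentials; formal unramifiedness is
the equivalent phrasing available here.) -/
theorem result {X X' S S' : Scheme.{u}} (iX : X ⟶ X') (iS : S ⟶ S') (f : X ⟶ S) (f' : X' ⟶ S')
    (hS : MoreMor.IsFiniteOrderThickening iS) (hc : IsPullback iX f f' iS) :
    FormallyUnramified f ↔ FormallyUnramified f' := by
  exact aux iX iS f f' hS hc

end Groth.Agent.S1310
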