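import Groth.Statements.S1311
import Mathlib
import Groth.Agent.S1310
import Groth.Agent.S3862

set_option autoImplicit false
universe u
open FlatMor

namespace Groth.Agent.S1311

open AlgebraicGeometry CategoryTheory Limits in
theorem aux {X X' S S' : Scheme.{u}} (iX : X ⟶ X') (iS : S ⟶ S') (f : X ⟶ S) (f' : X' ⟶ S')
    (hS : MoreMor.IsFiniteOrderThickening iS) (hc : IsPullback iX f f' iS) :
    Mono f ↔ Mono f' := by
  constructor
  · intro h
    haveI := hS.1.1
    haveI : FormallyUnramified f := inferInstance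
    haveI : FormallyUnramified f' := (Groth.Agent.S1310.result iX iS f f' hS hc).mp inferInstance
    obtain ⟨n, hn⟩ := hS.2
    constructor
    intro T g₁ g₂ hg
    let j : pullback (g₁ ≫ f') iS ⟶ T := pullback.fst (g₁ ≫ f') iS
    have hnil : IsNilpotent j.ker := by
      refine ⟨n + 1, ?_⟩
      rw [Scheme.IdealSheafData.ker_fst_of_isClosedImmersion,
        ← Groth.Agent.S3862.comap_pow_succ, pow_succ, hn, zero_mul]
      simp
    have w1 : (j ≫ g₁) ≫ f' = pullback.snd (g₁ ≫ f') iS ≫ iS := by
      rw [Category.assoc]; exact pullback.condition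
    have w2 : (j ≫ g₂) ≫ f' = pullback.snd (g₁ ≫ f') iS ≫ iS := by
      rw [Category.assoc, ← hg]; exact pullback.condition
    have e : hc.lift (j ≫ g₁) (pullback.snd (g₁ ≫ f') iS) w1 =
        hc.lift (j ≫ g₂) (pullback.snd (g₁ ≫ f') iS) w2 := by
      rw [← cancel_mono f, hc.lift_snd, hc.lift_snd]
    have hig : j ≫ g₁ = j ≫ g₂ := by
      rw [← hc.lift_fst (j ≫ g₁) (pullback.snd (g₁ ≫ f') iS) w1, e, hc.lift_fst]
    exact FormallyUnramified.hom_ext j hnil f' hig hg
  · intro h
    exact MorphismProperty.of_isPullback (P := MorphismProperty.monomorphisms Scheme) hc h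

open AlgebraicGeometry CategoryTheory Limits in
/-- Let S ⟶ S' be a finite order thickening and let X be the base change of a scheme X' over S' to S (so
X ⟶ X' is again a thickening). Then X ⟶ S is a monomorphism if and only if X' ⟶ S' is. -/
theorem result {X X' S S' : Scheme.{u}} (iX : X ⟶ X') (iS : S ⟶ S') (f : X ⟶ S) (f' : X' ⟶ S')
    (hS : MoreMor.IsFiniteOrderThickening iS) (hc : IsPullback iX f f' iS) :
    Mono f ↔ Mono f' := by
  exact aux iX iS f f' hS hc

end Groth.Agent.S1311
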