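import Groth.Statements.S6025
import Groth.Agent.Helper1.DeltaComp
import Groth.Agent.Helper1.FunLES
import Groth.Agent.Helper1.CohTopAdj
import Groth.Agent.S0456

set_option autoImplicit false
universe u
open CategoryTheory CategoryTheory.Limits TopologicalSpace
open LocCohZ

namespace Groth.Agent.S6025

/-- Let X be a topological space, A a closed subset with open complement U and f : U → X the inclusion.
Then the functor ℋ^1_A is isomorphic to the cokernel of the unit F → f_* f⁻¹ F (so that 0 → ℋ^0_A(F)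
→ F → f_*(F|_U) → ℋ^1_A(F) → 0 is exact), and for every i ≥ 1 the functor ℋ^{i+1}_A is isomorphic to
F ↦ R^i f_*(F|_U). (Existence of isomorphisms of functors only; the maps of the four-term sequence
other than the kernel inclusion are not pinned.) -/
theorem result {X : TopCat.{u}} (U : Opens X) :
    Nonempty (LocCohZ.HZsh U 1 ≅
      cokernel (TopCat.Sheaf.pullbackPushforwardAdjunction AddCommGrpCat.{u} (CohCx.incl U)).unit) ∧
      ∀ i : ℕ, 1 ≤ i →
        Nonempty (LocCohZ.HZsh U (i + 1) ≅ CohTop.pull (CohCx.incl U) ⋙ CohTop.Rpush (CohCx.incl U) i) := by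
  classical
  let β : 𝟭 (CohTop.Ab X) ⟶ CohTop.pull (CohCx.incl U) ⋙ CohTop.push (CohCx.incl U) :=
    (TopCat.Sheaf.pullbackPushforwardAdjunction AddCommGrpCat.{u} (CohCx.incl U)).unit
  let α : LocCohZ.sectSuppF U ⟶ 𝟭 (CohTop.Ab X) :=
    { app := fun F => kernel.ι (β.app F)
      naturality := fun F G φ => by
        dsimp only [LocCohZ.sectSuppF]
        exact kernel.lift_ι _ _ _ }
  have w : α ≫ β = 0 := by
    ext F : 2
    exact kernel.condition (β.app F)
  have h : ∀ (I : CohTop.Ab X) [Injective I],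
      (Groth.Agent.Helper1.FunLES.sc α β w I).ShortExact := by
    intro I _
    have : TopCat.Sheaf.IsFlasque I := Groth.Agent.Lead.CohTopB.isFlasque_of_injective I
    exact
      { exact := ShortComplex.exact_of_f_is_kernel _ (kernelIsKernel (β.app I))
        mono_f := by
          change Mono (kernel.ι (β.app I))
          infer_instance
        epi_g := Groth.Agent.Helper1.CohTopAdj.epi_unit U I }
  have hG : ∀ (n : ℕ) (F : CohTop.Ab X), IsZero (((𝟭 (CohTop.Ab X)).rightDerived (n + 1)).obj F) :=
    fun n F => Groth.Agent.Helper1.FunLES.isZero_rightDerived_of_exact n F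
  refine ⟨Groth.Agent.Helper1.FunLES.nonempty_iso_cokernel α β w h (hG 0), ?_⟩
  intro i hi
  obtain ⟨k, rfl⟩ : ∃ k, i = k + 1 := ⟨i - 1, by omega⟩
  have e1 := Groth.Agent.Helper1.FunLES.isoOfIsZero α β w h (k + 1) (hG k) (hG (k + 1))
  have hR : ∀ S : ShortComplex (CohTop.Ab X), S.ShortExact →
      (S.map (CohTop.pull (CohCx.incl U))).ShortExact := fun S hS =>
    Groth.Agent.Helper1.DeltaFun.shortExact_map_of_exact _ S hS
  obtain ⟨e2⟩ := Groth.Agent.Helper1.DeltaFun.nonempty_iso_rightDerived_comp
    (CohTop.pull (CohCx.incl U)) hR (CohTop.push (CohCx.incl U))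
    (CohTop.pull (CohCx.incl U) ⋙ CohTop.push (CohCx.incl U)) (Iso.refl _) (by
      intro I _ n
      have : TopCat.Sheaf.IsFlasque I := Groth.Agent.Lead.CohTopB.isFlasque_of_injective I
      exact IsZero.of_iso (Groth.Agent.S0456.result (CohCx.incl U) (CohTop.restr I U) n)
        ((CohTop.Rpush (CohCx.incl U) (n + 1)).mapIso
          ((Groth.Agent.Helper1.CohTopAdj.pullIsoRestr U).app I))) (k + 1)
  exact ⟨e1.symm ≪≫ e2⟩

end Groth.Agent.S6025
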