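import Groth.Statements.S6023
import Groth.Agent.S6025
import Groth.Agent.Helper1.CohTopAdj
import Groth.Agent.Lead.CohTopB

set_option autoImplicit false
universe u
open CategoryTheory CategoryTheory.Limits TopologicalSpace
open LocCohZ

namespace Groth.Agent.S6023

/-- Let F be a flasque abelian sheaf on a topological space X. Then H^i_Z(V, F) = 0 for every locally
closed subset Z = V − W (W ⊆ V opens of X) and every i > 0, and ℋ^i_Z(F) = 0 for every closed subset
Z = X − U and every i > 0. (The sheaf assertion is stated for closed Z only.) -/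
theorem result {X : TopCat.{u}} (F : CohTop.Ab X) [TopCat.Sheaf.IsFlasque F] :
    (∀ (W V : Opens X) (h : W ≤ V) (i : ℕ), 0 < i → Subsingleton (LocCohZ.HZ F i h)) ∧
      ∀ (U : Opens X) (i : ℕ), 0 < i → IsZero ((LocCohZ.HZsh U i).obj F) := by
  classical
  have key : ∀ (V : Opens X) (n : ℕ) (G : CohTop.Ab X) [TopCat.Sheaf.IsFlasque G]
      (x : Abelian.Ext (CohCx.freeSheaf (Opens.grothendieckTopology X) V) G (n + 1)), x = 0 := by
    intro V n G _ x
    refine Groth.Agent.Lead.CohTopB.ext_eq_zero_of_flasque _ V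
      (fun G => (CohFree.homEquivSect (Opens.grothendieckTopology X) V G).toEquiv) ?_ n G x
    intro G G' φ g
    rfl
  refine ⟨?_, ?_⟩
  · intro W V h i hi
    obtain ⟨n, rfl⟩ : ∃ n, i = n + 1 := ⟨i - 1, by omega⟩
    refine subsingleton_of_forall_eq 0 fun x => ?_
    have hS := LocCohZ.zqSeq_shortExact h
    have h0 : (Abelian.Ext.mk₀ (LocCohZ.zqSeq h).g).comp x (zero_add _) = 0 := key V n F _
    obtain ⟨y, hy⟩ := Abelian.Ext.contravariant_sequence_exact₃ hS F x h0 (add_comm 1 n)
    cases n with
    | zero =>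
      obtain ⟨q, rfl⟩ := (Abelian.Ext.mk₀_bijective _ _).2 y
      have hF : TopCat.Sheaf.IsFlasque F := inferInstance
      have hsurj := (AddCommGrpCat.epi_iff_surjective _).1 (hF.epi (homOfLE h).op)
      obtain ⟨t, ht⟩ := hsurj (CohFree.evalGen (Opens.grothendieckTopology X) W F q)
      have hq : (LocCohZ.zqSeq h).f ≫ CohFree.ofSect (Opens.grothendieckTopology X) V F t = q := by
        apply (CohFree.homEquivSect (Opens.grothendieckTopology X) W F).injective
        rw [CohFree.homEquivSect_apply, CohFree.homEquivSect_apply, ← ht]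
        exact (CohFree.evalGen_freeSheafMap_comp (Opens.grothendieckTopology X) (homOfLE h) F
          (CohFree.ofSect (Opens.grothendieckTopology X) V F t)).trans
          (by rw [CohFree.evalGen_ofSect])
      rw [← hy, ← hq, ← Abelian.Ext.mk₀_comp_mk₀, ← Abelian.Ext.comp_assoc_of_second_deg_zero,
        hS.extClass_comp, Abelian.Ext.zero_comp]
      rfl
    | succ m =>
      have hy0 : y = 0 := key W m F y
      subst hy0
      rw [← hy]
      exact Abelian.Ext.comp_zero _ _ _ _ _
  · intro U i hi
    obtain ⟨e1, e2⟩ := Groth.Agent.S6025.result U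
    obtain ⟨n, rfl⟩ : ∃ n, i = n + 1 := ⟨i - 1, by omega⟩
    cases n with
    | zero =>
      obtain ⟨e1⟩ := e1
      refine IsZero.of_iso ?_ (e1.app F)
      have hepi := Groth.Agent.Helper1.CohTopAdj.epi_unit U F
      have : Epi (((evaluation (CohTop.Ab X) (CohTop.Ab X)).obj F).map
        (TopCat.Sheaf.pullbackPushforwardAdjunction AddCommGrpCat.{u} (CohCx.incl U)).unit) := hepi
      refine IsZero.of_iso (isZero_cokernel_of_epi _) (PreservesCokernel.iso
        ((evaluation (CohTop.Ab X) (CohTop.Ab X)).obj F)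
        (TopCat.Sheaf.pullbackPushforwardAdjunction AddCommGrpCat.{u} (CohCx.incl U)).unit)
    | succ m =>
      obtain ⟨e2⟩ := e2 (m + 1) (by omega)
      refine IsZero.of_iso ?_ (e2.app F)
      exact IsZero.of_iso (Groth.Agent.S0456.result (CohCx.incl U) (CohTop.restr F U) m)
        ((CohTop.Rpush (CohCx.incl U) (m + 1)).mapIso
          ((Groth.Agent.Helper1.CohTopAdj.pullIsoRestr U).app F))

end Groth.Agent.S6023
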