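import Groth.Statements.S6032
import Groth.Agent.Helper1.CechTilde
import Groth.Agent.Helper1.LocCohLow
import Groth.Agent.Helper1.SerreD
import Groth.Agent.S0464

set_option autoImplicit false
universe u
open CategoryTheory CategoryTheory.Limits TopologicalSpace AlgebraicGeometry
open LocCohZ

namespace Groth.Agent.S6032

/-- Let A be a commutative ring, f = (f_1, …, f_r) a finite family of elements of A with zero locus Y in
X = Spec A, and M an A-module with associated sheaf M~. For every i the group colim_n H^i(f^n, M)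
(direct limit of Koszul cohomology of the powers) is isomorphic to H^i_Y(X, M~). (Existence of an
additive isomorphism in each degree; the published statement has an isomorphism of ∂-functors in M.) -/
theorem result (A : Type u) [CommRing A] (fs : List A) (M : Type u)
    [AddCommGroup M] [Module A M] (i : ℕ) :
    Nonempty (CohIII.koszulHLim fs (ModuleCat.of A M) i ≃+
      LocCohZ.HZM (Spec (CommRingCat.of A)) (AlgebraicGeometry.tilde (R := CommRingCat.of A) (ModuleCat.of A M)) i
        (LocCoh.puncturedOpen A (Ideal.span {a | a ∈ fs}))) := by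
  classical
  open Groth.Agent.Helper1.CechTilde Groth.Agent.Helper1.CechAug Groth.Agent.Helper1.TildeLoc
    Groth.Agent.Helper1.LocCohLow in
  -- the open complement of `V(fs)` is the union of the basic opens
  have hU : LocCoh.puncturedOpen A (Ideal.span {a | a ∈ fs}) = iSup (UU fs) := by
    apply SetLike.coe_injective
    ext p
    rw [Opens.coe_iSup, Set.mem_iUnion]
    change (show PrimeSpectrum A from p) ∉ PrimeSpectrum.zeroLocus
      ((Ideal.span {a | a ∈ fs} : Ideal A) : Set A) ↔ _
    rw [PrimeSpectrum.zeroLocus_span, PrimeSpectrum.mem_zeroLocus, Set.not_subset]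
    constructor
    · rintro ⟨f, hf, hfp⟩
      obtain ⟨i, hi⟩ := List.mem_iff_get.1 hf
      refine ⟨⟨i⟩, ?_⟩
      change fs.get i ∉ (show PrimeSpectrum A from p).asIdeal
      rw [hi]
      exact hfp
    · rintro ⟨i, hi⟩
      exact ⟨fs.get i.down, List.get_mem fs i.down, hi⟩
  rw [hU]
  set F : CohTop.Ab (Spec (CommRingCat.of A)).carrier :=
    Coh.toAb (AlgebraicGeometry.tilde (R := CommRingCat.of A) (ModuleCat.of A M)) with hF
  have hvan : ∀ i : ℕ, Subsingleton (CohTop.HU F (i + 1) ⊤) := fun i =>
    Groth.Agent.Helper1.Serre.subsingleton_HU_of_isAffineOpen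
      (AlgebraicGeometry.tilde (R := CommRingCat.of A) (ModuleCat.of A M))
      (isAffineOpen_top (Spec (CommRingCat.of A))) i
  obtain ⟨e⟩ := nonempty_addEquiv_koszulHLim fs (ModuleCat.of A M) i
  have hW : ∀ j, UU fs j ≤ iSup (UU fs) := le_iSup (UU fs)
  rcases i with _ | _ | i
  · -- degree 0
    have e0 := h0EquivSheaf (UU fs) F (iSup (UU fs)) hW le_rfl
    have e1 := LocCohZ.sect0Equiv F (le_top : iSup (UU fs) ≤ ⊤)
    exact ⟨e.symm.trans (e0.trans e1.symm)⟩
  · -- degree 1
    have e0 := h1EquivSheaf (UU fs) F (iSup (UU fs)) hW le_rfl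
    have e1 := h1Equiv F (iSup (UU fs)) hvan
    exact ⟨e.symm.trans (e0.trans e1)⟩
  · -- degree ≥ 2
    have e1 := hSuccEquiv F (iSup (UU fs)) hvan i
    have h : ∀ (p : ℕ) (a : Fin (p + 1) → ULift.{u} (Fin fs.length)) (r : ℕ),
        Subsingleton (CohTop.HU F (r + 1) (iInf fun k => UU fs (a k))) := by
      intro p a r
      have haff : IsAffineOpen (X := Spec (CommRingCat.of A)) (iInf fun k => UU fs (a k)) := by
        have h1 : (iInf fun k => UU fs (a k)) =
            bO (R := CommRingCat.of A) (∏ k, fs.get (a k).down) :=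
          iInf_bO (fun k => fs.get (a k).down)
        rw [h1]
        exact IsAffineOpen.Spec_basicOpen (R := CommRingCat.of A) _
      exact Groth.Agent.Helper1.Serre.subsingleton_HU_of_isAffineOpen
        (AlgebraicGeometry.tilde (R := CommRingCat.of A) (ModuleCat.of A M)) haff r
    obtain ⟨e2⟩ := Groth.Agent.S0464.result F (UU fs) h (i + 1)
    have i1 := hSuccIso (UU fs) F.obj i
    exact ⟨e.symm.trans (i1.addCommGroupIsoToAddEquiv.trans (e2.trans e1.symm))⟩

end Groth.Agent.S6032
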