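import Groth.Statements.S6033
import Groth.Agent.Helper1.CechTilde
import Groth.Agent.S6032
import Groth.Agent.S6023

set_option autoImplicit false
universe u
open CategoryTheory CategoryTheory.Limits TopologicalSpace AlgebraicGeometry
open LocCohZ

namespace Groth.Agent.S6033

/-- Let A be a commutative ring such that the underlying space of X = Spec A is Noetherian. Then M~ is
flasque for every injective A-module M if and only if colim_n H^1(f^n, M) = 0 (direct limit of
Koszul cohomology of the powers) for every finite family f of elements of A and every injective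
A-module M; and in that case colim_n H^i(f^n, M) = 0 for all i > 0 as well. -/
theorem result (A : Type u) [CommRing A]
    [NoetherianSpace (PrimeSpectrum A)] :
    ((∀ (M : Type u) [AddCommGroup M] [Module A M], Module.Injective A M →
        TopCat.Sheaf.IsFlasque (Coh.toAb (AlgebraicGeometry.tilde (R := CommRingCat.of A) (ModuleCat.of A M)))) ↔
      ∀ (fs : List A) (M : Type u) [AddCommGroup M] [Module A M], Module.Injective A M →
        Subsingleton (CohIII.koszulHLim fs (ModuleCat.of A M) 1)) ∧
    ((∀ (M : Type u) [AddCommGroup M] [Module A M], Module.Injective A M →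
        TopCat.Sheaf.IsFlasque (Coh.toAb (AlgebraicGeometry.tilde (R := CommRingCat.of A) (ModuleCat.of A M)))) →
      ∀ (fs : List A) (M : Type u) [AddCommGroup M] [Module A M], Module.Injective A M →
        ∀ i : ℕ, 0 < i → Subsingleton (CohIII.koszulHLim fs (ModuleCat.of A M) i)) := by
  classical
  open Groth.Agent.Helper1.CechTilde Groth.Agent.Helper1.CechAug Groth.Agent.Helper1.TildeLoc in
  have partB : (∀ (M : Type u) [AddCommGroup M] [Module A M], Module.Injective A M →
        TopCat.Sheaf.IsFlasque (Coh.toAb (AlgebraicGeometry.tilde (R := CommRingCat.of A) (ModuleCat.of A M)))) →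
      ∀ (fs : List A) (M : Type u) [AddCommGroup M] [Module A M], Module.Injective A M →
        ∀ i : ℕ, 0 < i → Subsingleton (CohIII.koszulHLim fs (ModuleCat.of A M) i) := by
    intro hfl fs M _ _ hM i hi
    obtain ⟨e⟩ := Groth.Agent.S6032.result A fs M i
    haveI := hfl M hM
    haveI := (Groth.Agent.S6023.result
      (Coh.toAb (AlgebraicGeometry.tilde (R := CommRingCat.of A) (ModuleCat.of A M)))).1 _ _
      (le_top : LocCoh.puncturedOpen A (Ideal.span {a | a ∈ fs}) ≤ ⊤) i hi
    exact e.toEquiv.subsingleton
  refine ⟨⟨fun hfl fs M _ _ hM => partB hfl fs M hM 1 one_pos, ?_⟩, partB⟩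
  intro hk M _ _ hM
  set F : CohTop.Ab (Spec (CommRingCat.of A)).carrier :=
    Coh.toAb (AlgebraicGeometry.tilde (R := CommRingCat.of A) (ModuleCat.of A M)) with hF
  -- surjectivity from the whole space
  have hsurj : ∀ W : Opens (Spec (CommRingCat.of A)).carrier,
      Function.Surjective (F.obj.map (homOfLE (le_top : W ≤ ⊤)).op) := by
    intro W
    set W' : Set (PrimeSpectrum A) := W.carrier with hW'
    have hc : IsCompact W' :=
      TopologicalSpace.NoetherianSpace.isCompact _
    obtain ⟨t, ht⟩ := PrimeSpectrum.isCompact_isOpen_iff.1 ⟨hc, W.isOpen⟩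
    set fs : List A := t.toList with hfs
    have hWU : W = iSup (UU fs) := by
      apply SetLike.coe_injective
      ext p
      rw [Opens.coe_iSup, Set.mem_iUnion]
      change (show PrimeSpectrum A from p) ∈ W' ↔ _
      rw [← ht, Set.mem_compl_iff, PrimeSpectrum.mem_zeroLocus, Set.not_subset]
      constructor
      · rintro ⟨f, hf, hfp⟩
        have hf' : f ∈ fs := by
          rw [hfs, Finset.mem_toList]
          exact hf
        obtain ⟨i, hi⟩ := List.mem_iff_get.1 hf'
        refine ⟨⟨i⟩, ?_⟩
        change fs.get i ∉ (show PrimeSpectrum A from p).asIdeal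
        rw [hi]
        exact hfp
      · rintro ⟨i, hi⟩
        refine ⟨fs.get i.down, ?_, hi⟩
        exact Finset.mem_toList.1 (List.get_mem fs i.down)
    obtain ⟨e⟩ := nonempty_addEquiv_koszulHLim fs (ModuleCat.of A M) 1
    have hW : ∀ j, UU fs j ≤ W := by
      intro j
      rw [hWU]
      exact le_iSup (UU fs) j
    have e1 := h1EquivSheaf (UU fs) F W hW hWU.le
    haveI := hk fs M hM
    haveI : Subsingleton (F.obj.obj (Opposite.op W) ⧸
        (F.obj.map (homOfLE (le_top : W ≤ ⊤)).op).hom.range) :=
      (e1.symm.trans e).toEquiv.subsingleton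
    intro s
    have h0 : (QuotientAddGroup.mk s : F.obj.obj (Opposite.op W) ⧸
        (F.obj.map (homOfLE (le_top : W ≤ ⊤)).op).hom.range) = 0 := Subsingleton.elim _ _
    rw [QuotientAddGroup.eq_zero_iff] at h0
    obtain ⟨a, ha⟩ := h0
    exact ⟨a, ha⟩
  constructor
  intro U V i
  rw [AddCommGrpCat.epi_iff_surjective]
  intro s
  obtain ⟨a, ha⟩ := hsurj V.unop s
  refine ⟨F.obj.map (homOfLE (le_top : U.unop ≤ ⊤)).op a, ?_⟩
  rw [← ha, ← ConcreteCategory.comp_apply, ← F.obj.map_comp]
  rfl

end Groth.Agent.S6033
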