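import Groth.Statements.S11329
import Groth.Agent.S6033
import Groth.Agent.S5169

set_option autoImplicit false
universe u
open CategoryTheory AlgebraicGeometry Opposite
open Coherent

namespace Groth.Agent.S11329

/-- Let A be a Noetherian ring and I an injective A-module. Then the quasi-coherent sheaf I~ on Spec A
associated with I is flasque: for all opens U ⊆ V of Spec A the restriction map I~(V) → I~(U) is
surjective. -/
theorem result (A : Type u) [CommRing A] [IsNoetherianRing A]
    (I : Type u) [AddCommGroup I] [Module A I] [Module.Injective A I]
    (U V : (Spec (CommRingCat.of A)).Opens) (hUV : U ≤ V) :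
    Function.Surjective ((tilde (ModuleCat.of A I)).val.map (homOfLE hUV).op).hom := by
  have h1 := (Groth.Agent.S6033.result A).1.2
    (fun fs M _ _ hM => Groth.Agent.S5169.result A fs M hM 1 Nat.one_pos) I inferInstance
  have h2 := h1.epi (homOfLE hUV).op
  rw [AddCommGrpCat.epi_iff_surjective] at h2
  exact h2

end Groth.Agent.S11329
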