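import Groth.Statements.S5217
import Mathlib
import Groth.Agent.Helper2.EqRel2
import Groth.Agent.Helper2.ShfEpi
import Groth.Agent.S5218
open CategoryTheory Limits Opposite
open Groth.Agent.Helper2
-- import your own Groth.Agent.* helpers here

set_option autoImplicit false
open CategoryTheory CategoryTheory.Limits
universe w v₁ u₁
open ShfCat

namespace Groth.Agent.S5217

/-- In the category of sheaves of sets on a site, every equivalence relation is universally effective
(its quotient sheaf exists, the relation is the kernel pair of the quotient map, and that map is a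
universal effective epimorphism). Stated for sheaves valued in `Type w` whenever sheafification
exists. -/
theorem result {C : Type u₁} [Category.{v₁} C]
    (J : GrothendieckTopology C) [HasSheafify J (Type w)]
    {R X : Sheaf J (Type w)} (p₁ p₂ : R ⟶ X) [IsEquivalenceRelation p₁ p₂] :
    IsUniversallyEffectiveEquivalenceRelation p₁ p₂ := by
  obtain ⟨e⟩ := (inferInstance : IsEquivalenceRelation p₁ p₂).nonempty_equivalenceRelation
  have e' := EqRel.equivalenceRelationHom J e
  have hkp₀ := EqRel.isKernelPair_presheaf e'
  have hpo₀ : IsPushout p₁.hom p₂.hom (coequalizer.π p₁.hom p₂.hom) (coequalizer.π p₁.hom p₂.hom) :=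
    EqRel.isPushout_of_isColimit e'.r e'.reflexivity₁ e'.reflexivity₂
      (coequalizer.condition _ _) (coequalizerIsCoequalizer _ _)
  have hkp₁ := hkp₀.map (presheafToSheaf J (Type w))
  have hpo₁ := hpo₀.map (presheafToSheaf J (Type w))
  let adj := sheafificationAdjunction J (Type w)
  let cR := asIso (adj.counit.app R)
  let cX := asIso (adj.counit.app X)
  have n1 : (presheafToSheaf J (Type w)).map p₁.hom ≫ cX.hom = cR.hom ≫ p₁ :=
    adj.counit.naturality p₁
  have n2 : (presheafToSheaf J (Type w)).map p₂.hom ≫ cX.hom = cR.hom ≫ p₂ :=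
    adj.counit.naturality p₂
  let π : X ⟶ (presheafToSheaf J (Type w)).obj (coequalizer p₁.hom p₂.hom) :=
    cX.inv ≫ (presheafToSheaf J (Type w)).map (coequalizer.π p₁.hom p₂.hom)
  have n3 : (presheafToSheaf J (Type w)).map (coequalizer.π p₁.hom p₂.hom) ≫ (Iso.refl _).hom
      = cX.hom ≫ π := by
    simp [π]
  have hkp : IsKernelPair π p₁ p₂ := IsPullback.of_iso hkp₁ cR cX cX (Iso.refl _) n1 n2 n3 n3
  have hpo : IsPushout p₁ p₂ π π := IsPushout.of_iso hpo₁ cR cX cX (Iso.refl _) n1 n2 n3 n3
  have hepi : Epi π := by
    have : Epi ((presheafToSheaf J (Type w)).map (coequalizer.π p₁.hom p₂.hom)) := inferInstance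
    exact epi_comp _ _
  exact ⟨⟨{ toEquivalenceRelation := e
            B := _
            π := π
            isKernelPair := hkp
            isPushout := hpo
            universally_effectiveEpi_π := Groth.Agent.S5218.result J π }⟩⟩

end Groth.Agent.S5217
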