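import Groth.Statements.S12923
import Mathlib
import Groth.Agent.Helper6.HopfRey

set_option autoImplicit false
universe u v w
open HopfRep

namespace Groth.Agent.S12923

/-- Let `k` be a commutative ring, `A` a commutative Hopf algebra over `k`, flat as a `k`-module, `B` a
commutative `k`-algebra with a coaction of `A` that is an algebra map and admits a total integral (a
comodule map `α : A → B` with `α 1 = 1`), `C = B^A`, and `b` an ideal of `B` which is a subcomodule
(a closed subscheme of `Spec B` stable under the action). Then the image of `V(b)` under `Spec B →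
Spec C` is the closed set `V(b ∩ C)`. (The published statement assumes only that taking invariants
is exact on `(B, A)`-modules; a total integral, assumed here, gives that exactness.) -/
theorem result
    (k : Type u) [CommRing k] (A : Type v) [CommRing A] [HopfAlgebra k A] [Module.Flat k A]
    (B : Type w) [CommRing B] [Algebra k B] [HopfRep.Comod k A B] [GLin.IsCoactAlg k A B]
    (htame : ∃ α : A →ₗ[k] B, Hoch.IsComodHom A α ∧ α 1 = 1)
    (b : Ideal B) (hb : HopfRep.IsSubcomod (k := k) (A := A) (b.restrictScalars k)) :
    PrimeSpectrum.comap (algebraMap (GLin.invariants k A B) B) '' PrimeSpectrum.zeroLocus (b : Set B) =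
      PrimeSpectrum.zeroLocus ((b.comap (algebraMap (GLin.invariants k A B) B) : Ideal (GLin.invariants k A B)) : Set (GLin.invariants k A B)) := by
  obtain ⟨α, hα, hα1⟩ := htame
  apply Set.Subset.antisymm
  · rintro _ ⟨q, hq, rfl⟩
    rw [PrimeSpectrum.mem_zeroLocus] at hq ⊢
    intro x hx
    exact hq hx
  · intro p hp
    rw [PrimeSpectrum.mem_zeroLocus] at hp
    have hJ : Ideal.comap (algebraMap (GLin.invariants k A B) B)
        (b ⊔ Ideal.map (algebraMap (GLin.invariants k A B) B) p.asIdeal) ≤ p.asIdeal := by
      intro x hx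
      obtain ⟨β, hβ, y, hy, hxy⟩ := Submodule.mem_sup.1 hx
      have hEx : TameAct.reynolds k A B B α (algebraMap (GLin.invariants k A B) B x) =
          algebraMap (GLin.invariants k A B) B x :=
        Groth.Agent.Helper6.HopfRey.reynolds_of_fixed α hα1 _ x.2
      have hEβ_b : TameAct.reynolds k A B B α β ∈ b :=
        Groth.Agent.Helper6.HopfRey.reynolds_mem_of_isSubcomod α b hb β hβ
      have hEβ_inv : TameAct.reynolds k A B B α β ∈ GLin.invariants k A B :=
        Groth.Agent.Helper6.HopfRey.coact_reynolds α hα β
      obtain ⟨c', hc', e⟩ := Groth.Agent.Helper6.HopfRey.reynolds_mul_map_mem α hα p.asIdeal y hy 1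
      rw [one_mul] at e
      have h1 : (⟨TameAct.reynolds k A B B α β, hEβ_inv⟩ : GLin.invariants k A B) ∈ p.asIdeal := by
        apply hp
        show algebraMap (GLin.invariants k A B) B ⟨TameAct.reynolds k A B B α β, hEβ_inv⟩ ∈ b
        exact hEβ_b
      have h2 : x = ⟨TameAct.reynolds k A B B α β, hEβ_inv⟩ + c' := by
        apply Subtype.ext
        show (x : B) = TameAct.reynolds k A B B α β + (c' : B)
        have e' : (c' : B) = TameAct.reynolds k A B B α y := e
        rw [e', ← map_add, hxy]
        exact hEx.symm
      rw [h2]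
      exact p.asIdeal.add_mem h1 hc'
    obtain ⟨q, hq₁, hq₂, hq₃⟩ := Ideal.exists_le_prime_disjoint _ _
      (Ideal.disjoint_map_primeCompl_iff_comap_le.mpr hJ)
    refine ⟨⟨q, hq₁⟩, ?_, ?_⟩
    · rw [PrimeSpectrum.mem_zeroLocus]
      exact fun x hx => hq₂ (Ideal.mem_sup_left hx)
    · apply PrimeSpectrum.ext
      apply le_antisymm
      · exact Ideal.disjoint_map_primeCompl_iff_comap_le.mp hq₃
      · exact Ideal.map_le_iff_le_comap.mp (le_trans le_sup_right hq₂)

end Groth.Agent.S12923
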