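import Groth.Statements.S12926
import Mathlib

set_option autoImplicit false
universe u v
open HopfRep

namespace Groth.Agent.S12926

/-- Let `k` be a commutative ring and `A` a commutative bialgebra over `k`, flat as a `k`-module. If the
submodule `k · 1` of the regular comodule `A` has a complement `H` which is a subcomodule — the case
used when `A` is cosemisimple, i.e. every subcomodule of every comodule is a direct summand as a
comodule — then the trivial action of `Spec A` on `Spec k` is tame: there is a comodule map `α : A →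
k`, for the regular coaction on `A` and the trivial coaction `r ↦ r ⊗ 1` on `k`, with `α 1 = 1`. -/
theorem result
    (k : Type u) [CommRing k] (A : Type v) [CommRing A] [Bialgebra k A] [Module.Flat k A]
    (H : Submodule k A) (hH : HopfRep.IsSubcomod (k := k) (A := A) H)
    (hc : IsCompl (Submodule.span k {(1 : A)}) H) :
    ∃ α : A →ₗ[k] k, @Hoch.IsComodHom k _ A _ _ _ A _ _ _ k _ _ (HopfRep.Comod.trivial k A k) α ∧ α 1 = 1 := by
  let π : A →ₗ[k] (Submodule.span k {(1 : A)}) := Submodule.linearProjOfIsCompl _ H hc
  let α : A →ₗ[k] k := (Coalgebra.counit (R := k) (A := A)) ∘ₗ (Submodule.span k {(1 : A)}).subtype ∘ₗ π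
  have h1mem : (1 : A) ∈ Submodule.span k {(1 : A)} := Submodule.subset_span rfl
  have hα1 : α 1 = 1 := by
    show Coalgebra.counit (R := k) (A := A) ((π 1 : Submodule.span k {(1 : A)}) : A) = 1
    have : π 1 = ⟨1, h1mem⟩ := Submodule.linearProjOfIsCompl_apply_left hc ⟨1, h1mem⟩
    rw [this]
    exact Bialgebra.counit_one
  have hαH : α ∘ₗ H.subtype = 0 := by
    ext h
    show Coalgebra.counit (R := k) (A := A) ((π (h : A) : Submodule.span k {(1 : A)}) : A) = 0
    have : π (h : A) = 0 := Submodule.linearProjOfIsCompl_apply_right hc h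
    rw [this]
    simp
  refine ⟨α, ?_, hα1⟩
  unfold Hoch.IsComodHom
  ext a
  -- decompose a
  have hdec : a ∈ Submodule.span k {(1 : A)} ⊔ H := by rw [hc.sup_eq_top]; trivial
  obtain ⟨c, hc', h, hh, rfl⟩ := Submodule.mem_sup.1 hdec
  obtain ⟨r, rfl⟩ := Submodule.mem_span_singleton.1 hc'
  simp only [LinearMap.comp_apply, map_add, map_smul]
  congr 1
  · congr 1
    show (TensorProduct.mk k k A).flip 1 (α 1) = (LinearMap.rTensor A α) (Coalgebra.comul (R := k) (1 : A))
    rw [Bialgebra.comul_one, Algebra.TensorProduct.one_def, LinearMap.rTensor_tmul, hα1]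
    rfl
  · show (TensorProduct.mk k k A).flip 1 (α h) = (LinearMap.rTensor A α) (Coalgebra.comul (R := k) h)
    obtain ⟨y, hy⟩ := hH h hh
    have e1 : α h = 0 := LinearMap.congr_fun hαH ⟨h, hh⟩
    have e2 : (HopfRep.Comod.coact (k := k) (A := A) h : TensorProduct k A A) = Coalgebra.comul (R := k) h := rfl
    rw [e1, map_zero, ← e2, ← hy, ← LinearMap.comp_apply, ← LinearMap.rTensor_comp, hαH]
    simp

end Groth.Agent.S12926
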