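import Groth.Statements.S5504
import Groth.Agent.Helper2.RootD13
open Set RootPairing Module
open scoped Pointwise
open Groth.Agent.Helper2
-- import your own Groth.Agent.* helpers here

set_option autoImplicit false
open RootPairing
open scoped Pointwise
open RootD

namespace Groth.Agent.S5504

/-- Stated for the group generated by the simple reflections (rather than for the abstractly presented
group): if w = s_{α_1} ⋯ s_{α_m} is a word of minimal length in the simple reflections, then w(α_m)
is a negative root. -/
theorem result {ι M N : Type*} [AddCommGroup M] [AddCommGroup N]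
    (P : RootPairing ι ℤ M N) [Finite ι] (Δ : Set ι) (hΔ : RootD.IsSimpleSys P Δ)
    (l : List ι) (hl : ∀ a ∈ l, a ∈ Δ) (hne : l ≠ [])
    (hmin : ∀ l' : List ι, (∀ a ∈ l', a ∈ Δ) →
      (l'.map fun a => Equiv.reflection P a).prod = (l.map fun a => Equiv.reflection P a).prod → l.length ≤ l'.length) :
    -P.root ((l.map fun a => Equiv.reflection P a).prod • l.getLast hne) ∈ RootD.natSpan P Δ := by
  set α := l.getLast hne with hα
  set l₀ := l.dropLast with hl₀
  have hsplit : l = l₀ ++ [α] := (List.dropLast_append_getLast hne).symm
  have hαΔ : α ∈ Δ := hl α (List.getLast_mem hne)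
  have hl₀Δ : ∀ a ∈ l₀, a ∈ Δ := fun a ha => hl a (List.dropLast_subset l ha)
  have hw : (l.map fun a => Equiv.reflection P a).prod = RD13.wprod P l₀ * Equiv.reflection P α := by
    show RD13.wprod P l = _
    rw [hsplit, RD13.wprod_append, RD13.wprod_cons, RD13.wprod_nil, mul_one]
  have hroot : -P.root ((l.map fun a => Equiv.reflection P a).prod • α) = P.root (RD13.wprod P l₀ • α) := by
    rw [hw, mul_smul, RD3.root_smul P (RD13.wprod P l₀) (Equiv.reflection P α • α),
      RD3.root_smul P (Equiv.reflection P α) α, Equiv.reflection_smul, P.reflection_apply_self, smul_neg, neg_neg,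
      ← RD3.root_smul]
  rw [hroot]
  by_contra hneg
  obtain ⟨pre, c, suf, h1, h2⟩ := RD13.exists_split hΔ hαΔ l₀ hl₀Δ hneg
  have hconj := RD.aut_conj_reflection P (RD13.wprod P suf) α
  rw [h2] at hconj
  have hprod : RD13.wprod P (pre ++ suf) = RD13.wprod P l := by
    rw [hsplit, h1, RD13.wprod_append, RD13.wprod_append, RD13.wprod_append, RD13.wprod_cons, RD13.wprod_cons,
      RD13.wprod_nil, mul_one, ← hconj]
    have := RD4.reflection_mul_self P α
    group
    rw [mul_assoc, this, mul_one]
  have hlen := hmin (pre ++ suf) (by
    intro a ha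
    apply hl₀Δ
    rw [h1]
    rcases List.mem_append.mp ha with h | h
    · exact List.mem_append_left _ h
    · exact List.mem_append_right _ (List.mem_cons_of_mem _ h)) hprod
  have : l.length = pre.length + suf.length + 2 := by
    rw [hsplit, h1]; simp; omega
  rw [List.length_append] at hlen
  omega

end Groth.Agent.S5504
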