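import Groth.Statements.S5469
import Groth.Agent.Helper2.RootD6
open Set RootPairing Module
open scoped Pointwise
open Groth.Agent.Helper2
-- import your own Groth.Agent.* helpers here

set_option autoImplicit false
open RootPairing
open scoped Pointwise
open RootD

namespace Groth.Agent.S5469

/-- Two non-orthogonal roots of equal length (for the canonical form ℓ(x) = Σ_{u ∈ R^v} (u, x)²) are
conjugate under the Weyl group. -/
theorem result {ι M N : Type*} [AddCommGroup M] [AddCommGroup N]
    (P : RootPairing ι ℤ M N) [Finite ι] [Fintype ι] (i j : ι) (hno : ¬ P.IsOrthogonal i j)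
    (hl : P.RootForm (P.root i) (P.root i) = P.RootForm (P.root j) (P.root j)) :
    ∃ g : P.Aut, g ∈ P.weylGroup ∧ g • i = j := by
  have : Module.IsReflexive ℤ M := .of_isPerfPair P.toLinearMap
  rw [RD1.not_isOrthogonal_iff] at hno
  set p := P.pairing i j with hp
  have hq : P.pairing j i = p := by
    have h1 := RD6.pairing_mul_swap P i j
    rw [hl] at h1
    exact mul_right_cancel₀ (RD6.len_pos P j).ne' h1
  have hcw := P.coxeterWeightIn_mem_set_of_isCrystallographic i j
  rw [coxeterWeightIn, RD1.pairingIn_eq, RD1.pairingIn_eq, hq, ← hp] at hcw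
  simp only [mem_insert_iff, mem_singleton_iff] at hcw
  have hp_cases : p = 1 ∨ p = -1 ∨ p = 2 ∨ p = -2 := by
    have h1 : p * p ≤ 4 := by rcases hcw with h | h | h | h | h <;> omega
    have h2 : -2 ≤ p := by nlinarith
    have h3 : p ≤ 2 := by nlinarith
    have h4 : p ≠ 0 := hno
    interval_cases p
    · right; right; right; rfl
    · right; left; rfl
    · exact absurd rfl h4
    · left; rfl
    · right; right; left; rfl
  have hsi : ∀ a : ι, Equiv.reflection P a ∈ P.weylGroup := P.reflection_mem_weylGroup
  rcases hp_cases with h | h | h | h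
  · -- p = 1 : s_j s_i s_j
    refine ⟨Equiv.reflection P j * Equiv.reflection P i * Equiv.reflection P j,
      mul_mem (mul_mem (hsi j) (hsi i)) (hsi j), ?_⟩
    apply P.root.injective
    rw [RD3.root_smul, mul_smul, mul_smul, Equiv.reflection_smul, Equiv.reflection_smul, Equiv.reflection_smul,
      P.reflection_apply_root, ← hp, h, one_smul, map_sub, P.reflection_apply_self, P.reflection_apply_root,
      hq, h, one_smul, map_sub, map_neg, map_sub, P.reflection_apply_self, P.reflection_apply_root, ← hp, h]
    abel
  · -- p = -1 : s_i s_j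
    refine ⟨Equiv.reflection P i * Equiv.reflection P j, mul_mem (hsi i) (hsi j), ?_⟩
    apply P.root.injective
    rw [RD3.root_smul, mul_smul, Equiv.reflection_smul, Equiv.reflection_smul,
      P.reflection_apply_root, ← hp, h, map_sub, map_smul, P.reflection_apply_self, P.reflection_apply_root,
      hq, h]
    simp
  · -- p = 2 : i = j
    have : i = j := (P.pairing_two_two_iff i j).mp ⟨by rw [← hp, h], by rw [hq, h]⟩
    exact ⟨1, one_mem _, by rw [one_smul, this]⟩
  · -- p = -2 : root i = - root j
    have : P.root i = - P.root j := (P.pairing_neg_two_neg_two_iff i j).mp ⟨by rw [← hp, h], by rw [hq, h]⟩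
    refine ⟨Equiv.reflection P i, hsi i, ?_⟩
    apply P.root.injective
    rw [RD3.root_smul, Equiv.reflection_smul, P.reflection_apply_self, this, neg_neg]

end Groth.Agent.S5469
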