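import Groth.Statements.S5487
import Groth.Agent.Helper2.RootD6
open Set RootPairing Module
open scoped Pointwise
open Groth.Agent.Helper2
-- import your own Groth.Agent.* helpers here

set_option autoImplicit false
open RootD

namespace Groth.Agent.S5487

/-- For non-orthogonal roots α, β one has ℓ(α) ℓ(α^v) = ℓ(β) ℓ(β^v), where ℓ is the canonical quadratic
form of the datum and of its dual. -/
theorem result {ι M N : Type*} [AddCommGroup M] [AddCommGroup N]
    (P : RootPairing ι ℤ M N) [Finite ι] [Fintype ι] (i j : ι) (h : ¬ P.IsOrthogonal i j) :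
    P.RootForm (P.root i) (P.root i) * P.CorootForm (P.coroot i) (P.coroot i) =
      P.RootForm (P.root j) (P.root j) * P.CorootForm (P.coroot j) (P.coroot j) := by
  rw [RD1.not_isOrthogonal_iff] at h
  have h' : P.pairing j i ≠ 0 := by rwa [Ne, RD1.pairing_eq_zero_iff P j i]
  have h1 := RD6.pairing_mul_swap P i j
  have h2 := RD6.pairing_mul_swap P.flip i j
  simp only [pairing_flip] at h2
  change P.pairing i j * P.CorootForm (P.coroot i) (P.coroot i) =
    P.pairing j i * P.CorootForm (P.coroot j) (P.coroot j) at h2
  set a := P.RootForm (P.root i) (P.root i)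
  set b := P.RootForm (P.root j) (P.root j)
  set c := P.CorootForm (P.coroot i) (P.coroot i)
  set d := P.CorootForm (P.coroot j) (P.coroot j)
  have : (P.pairing i j * P.pairing j i) * (a * c) = (P.pairing i j * P.pairing j i) * (b * d) := by
    calc (P.pairing i j * P.pairing j i) * (a * c) = (P.pairing j i * a) * (P.pairing i j * c) := by ring
      _ = (P.pairing i j * b) * (P.pairing j i * d) := by rw [h1, h2]
      _ = (P.pairing i j * P.pairing j i) * (b * d) := by ring
  exact mul_left_cancel₀ (mul_ne_zero h h') this

end Groth.Agent.S5487
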