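import Groth.Statements.S5505
import Groth.Agent.Helper2.RootD1
open Set RootPairing Module
open Groth.Agent.Helper2
-- import your own Groth.Agent.* helpers here

set_option autoImplicit false
open RootD

namespace Groth.Agent.S5505

/-- A subset of roots which, together with its complement, is closed and symmetric contains with any
root every root not orthogonal to it; so it is a union of irreducible components. -/
theorem result {ι M N : Type*} [AddCommGroup M] [AddCommGroup N]
    (P : RootPairing ι ℤ M N) [Finite ι] (R' : Set ι) (hc : RootD.IsClosedSub P R')
    (hs : RootD.IsSymmSub P R') (hc' : RootD.IsClosedSub P R'ᶜ) (hs' : RootD.IsSymmSub P R'ᶜ)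
    (i j : ι) (hi : i ∈ R') (hij : ¬ P.IsOrthogonal i j) : j ∈ R' := by
  rw [RD1.not_isOrthogonal_iff] at hij
  rcases lt_or_gt_of_ne hij with h | h
  · -- pairing < 0 : sum is a root unless i = -j
    by_cases hne : P.root i = - P.root j
    · have : j = P.reflectionPerm i i := by
        apply P.root.injective
        rw [RD.root_neg, hne, neg_neg]
      rw [this]; exact hs hi
    · obtain ⟨k, hk⟩ := RD1.root_add_mem P h hne
      exact (RD1.same_part P R' hc hs hc' hs' i j k hk).1.mp hi
  · by_cases hne : i = j
    · rw [← hne]; exact hi
    · obtain ⟨k, hk⟩ := RD1.root_sub_mem P h hne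
      have hk' : P.root i = P.root k + P.root j := by rw [hk]; abel
      have := RD1.same_part P R' hc hs hc' hs' k j i hk'
      exact this.1.mp (this.2.mpr hi)

end Groth.Agent.S5505
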