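import Groth.Statements.S5506
import Groth.Agent.Helper2.RootD1
open Set RootPairing Module
open Groth.Agent.Helper2
-- import your own Groth.Agent.* helpers here

set_option autoImplicit false
open RootD

namespace Groth.Agent.S5506

/-- The class of a root under 'joined by a chain of pairwise non-orthogonal roots' is closed and
symmetric, and so is its complement; these classes are the irreducible components. -/
theorem result {ι M N : Type*} [AddCommGroup M] [AddCommGroup N]
    (P : RootPairing ι ℤ M N) [Finite ι] (i : ι) :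
    RootD.IsClosedSub P {j : ι | Relation.ReflTransGen (fun a b : ι => ¬ P.IsOrthogonal a b) i j} ∧
      RootD.IsSymmSub P {j : ι | Relation.ReflTransGen (fun a b : ι => ¬ P.IsOrthogonal a b) i j} ∧
      RootD.IsClosedSub P {j : ι | Relation.ReflTransGen (fun a b : ι => ¬ P.IsOrthogonal a b) i j}ᶜ ∧
      RootD.IsSymmSub P {j : ι | Relation.ReflTransGen (fun a b : ι => ¬ P.IsOrthogonal a b) i j}ᶜ := by
  have hnegrel : ∀ j : ι, ¬ P.IsOrthogonal j (P.reflectionPerm j j) := by
    intro j
    rw [RD1.not_isOrthogonal_iff, Ne, RD1.pairing_eq_zero_iff, RD1.pairing_neg_left, pairing_same]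
    norm_num
  have hsum : ∀ j1 j2 k : ι, P.root k = P.root j1 + P.root j2 →
      ¬ P.IsOrthogonal j1 k ∨ ¬ P.IsOrthogonal j2 k := by
    intro j1 j2 k hk
    have h2 : P.pairing j1 k + P.pairing j2 k = 2 := by
      have := congrArg (P.coroot' k) hk
      simp only [map_add, root_coroot'_eq_pairing, pairing_same] at this
      exact this.symm
    rw [RD1.not_isOrthogonal_iff, RD1.not_isOrthogonal_iff]
    by_contra hcon
    push Not at hcon
    rw [hcon.1, hcon.2] at h2
    norm_num at h2
  refine ⟨?_, ?_, ?_, ?_⟩
  · intro j1 j2 k h1 h2 hk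
    simp only [mem_ofPred_eq] at h1 h2 ⊢
    rcases hsum j1 j2 k hk with h | h
    · exact h1.tail h
    · exact h2.tail h
  · intro j hj
    simp only [mem_ofPred_eq] at hj ⊢
    exact hj.tail (hnegrel j)
  · intro j1 j2 k h1 h2 hk
    simp only [mem_compl_iff, mem_ofPred_eq] at h1 h2 ⊢
    intro hkk
    rcases hsum j1 j2 k hk with h | h
    · exact h1 (hkk.tail (RD1.not_isOrthogonal_symm P h))
    · exact h2 (hkk.tail (RD1.not_isOrthogonal_symm P h))
  · intro j hj
    simp only [mem_compl_iff, mem_ofPred_eq] at hj ⊢
    intro hjj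
    exact hj (hjj.tail (RD1.not_isOrthogonal_symm P (hnegrel j)))

end Groth.Agent.S5506
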