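import Groth.Statements.S5465
import Groth.Agent.Helper2.RootD9
open Set RootPairing Module
open scoped Pointwise
open Groth.Agent.Helper2
-- import your own Groth.Agent.* helpers here

set_option autoImplicit false
open RootD

namespace Groth.Agent.S5465

/-- A map from the roots to an abelian group that is odd and additive on pairs of roots whose sum is a
root extends uniquely to a homomorphism on the lattice generated by the roots. -/
theorem result {ι M N : Type*} [AddCommGroup M] [AddCommGroup N]
    (P : RootPairing ι ℤ M N) [Finite ι] {G : Type*} [AddCommGroup G] (f : ι → G)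
    (hneg : ∀ i : ι, f (P.reflectionPerm i i) = -f i)
    (hadd : ∀ i j k : ι, P.root k = P.root i + P.root j → f k = f i + f j) :
    ∃! φ : Submodule.span ℤ (Set.range P.root) →+ G,
      ∀ i : ι, φ ⟨P.root i, Submodule.subset_span (Set.mem_range_self i)⟩ = f i := by
  obtain ⟨Δ, hΔ⟩ := RD3.exists_simpleSys P
  set F : (ι →₀ ℤ) →ₗ[ℤ] G := Finsupp.linearCombination ℤ f with hF
  -- (*) f k = F (coef k)
  have hstar_pos : ∀ k ∈ posOf P Δ, f k = F (RD2.coef hΔ k) := by
    apply RD8.pos_induction_on hΔ (Q := fun k => f k = F (RD2.coef hΔ k))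
    · intro a ha
      rw [RD2.coef_simple hΔ ha, hF, Finsupp.linearCombination_single, one_smul]
    · intro k j a hk hj ha hsum ih
      rw [hadd j a k hsum, RD2.coef_add hΔ hsum, map_add, ih, RD2.coef_simple hΔ ha, hF,
        Finsupp.linearCombination_single, one_smul]
  have hstar : ∀ k, f k = F (RD2.coef hΔ k) := by
    intro k
    rcases (RD2.posOf_isPosSys hΔ).cover k with h | h
    · exact hstar_pos k h
    · have h1 := hstar_pos _ h
      rw [hneg, RD2.coef_neg, map_neg] at h1
      exact neg_injective h1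
  -- F vanishes on the kernel of LC
  have hker : ∀ c : ι →₀ ℤ, RD2.LC P c = 0 → F c = 0 := by
    intro c hc
    -- d = Σ c_i • coef i has support in Δ and LC d = 0
    set d : ι →₀ ℤ := c.sum (fun i z => z • RD2.coef hΔ i) with hd
    have hdsupp : ↑d.support ⊆ Δ := by
      classical
      intro a ha
      rw [hd] at ha
      have := Finsupp.support_sum ha
      simp only [Finset.mem_biUnion] at this
      obtain ⟨i, -, hi⟩ := this
      exact RD2.coef_supp hΔ i (Finsupp.support_smul hi)
    have hdlc : RD2.LC P d = 0 := by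
      rw [hd, map_finsuppSum]
      simp only [map_smul, RD2.coef_lc]
      rw [← hc, RD2.LC, Finsupp.linearCombination_apply]
    have hd0 : d = 0 := RD2.lc_unique P hΔ.linInd hdsupp (by simp) (by rw [hdlc, map_zero])
    have hFd : F d = F c := by
      rw [hd, map_finsuppSum]
      simp only [map_smul, ← hstar]
      rw [hF, Finsupp.linearCombination_apply]
    rw [← hFd, hd0, map_zero]
  have hsurj : ∀ x : Submodule.span ℤ (Set.range P.root), ∃ c : ι →₀ ℤ, RD2.LC P c = x.1 := by
    intro x
    obtain ⟨c, -, hc⟩ := RD9.exists_lc_of_mem_Q hΔ x.2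
    exact ⟨c, hc⟩
  choose cf hcf using hsurj
  have hwd : ∀ (x : Submodule.span ℤ (Set.range P.root)) (c : ι →₀ ℤ), RD2.LC P c = x.1 → F (cf x) = F c := by
    intro x c hc
    have : F (cf x - c) = 0 := hker _ (by rw [map_sub, hcf, hc, sub_self])
    rw [map_sub, sub_eq_zero] at this
    exact this
  refine ⟨AddMonoidHom.mk' (fun x => F (cf x)) ?_, ?_, ?_⟩
  · intro x y
    rw [← map_add]
    apply hwd
    rw [map_add, hcf, hcf]; rfl
  · intro i
    show F (cf _) = f i
    rw [hwd _ (Finsupp.single i 1) (by simp [RD2.LC]), hF, Finsupp.linearCombination_single, one_smul]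
  · intro ψ hψ
    ext ⟨x, hx⟩
    show ψ ⟨x, hx⟩ = F (cf ⟨x, hx⟩)
    refine Submodule.span_induction (p := fun x hx => ψ ⟨x, hx⟩ = F (cf ⟨x, hx⟩)) ?_ ?_ ?_ ?_ hx
    · rintro _ ⟨i, rfl⟩
      rw [hψ i, hwd _ (Finsupp.single i 1) (by simp [RD2.LC]), hF, Finsupp.linearCombination_single, one_smul]
    · have h0 : (⟨0, zero_mem _⟩ : Submodule.span ℤ (Set.range P.root)) = 0 := rfl
      rw [h0, map_zero, hwd 0 0 (by simp), map_zero]
    · intro a b ha hb iha ihb
      have hab : (⟨a + b, add_mem ha hb⟩ : Submodule.span ℤ (Set.range P.root)) = ⟨a, ha⟩ + ⟨b, hb⟩ := rfl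
      rw [hab, map_add, iha, ihb, ← map_add]
      symm
      apply hwd
      rw [map_add, hcf, hcf]; rfl
    · intro t a ha iha
      have hta : (⟨t • a, Submodule.smul_mem _ t ha⟩ : Submodule.span ℤ (Set.range P.root)) = t • ⟨a, ha⟩ := rfl
      rw [hta, map_zsmul, iha, ← map_smul]
      symm
      apply hwd
      rw [map_smul, hcf]; rfl

end Groth.Agent.S5465
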