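import Groth.Statements.S4853
import Groth.Agent.Helper2.ContentIdeal
open Function TensorProduct LinearMap
open Groth.Agent.Helper1.FreeNilp Groth.Agent.Helper2.TorReg Groth.Agent.Helper2.ContentIdeal
-- import your own Groth.Agent.* helpers here

set_option autoImplicit false
universe u
open TensorProduct
open EGA43

namespace Groth.Agent.S4853

/-- Let A be a commutative ring and M an A-module such that (A/J) ⊗_A M is free over A/J for some
nilpotent ideal J of A. Then among the ideals R of A such that (A/R) ⊗_A M is free over A/R there is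
a least one, R₀, which is also the least ideal R such that (A/R) ⊗_A M is flat over A/R; and for
every commutative A-algebra A', the module A' ⊗_A M is free over A' if and only if it is flat over
A', if and only if R₀ generates the zero ideal of A'. -/
theorem result {A : Type u} [CommRing A]
    (M : Type u) [AddCommGroup M] [Module A M]
    (J : Ideal A) (hJ : IsNilpotent J) (hfree : Module.Free (A ⧸ J) ((A ⧸ J) ⊗[A] M)) :
    ∃ R₀ : Ideal A,
      IsLeast {R : Ideal A | Module.Free (A ⧸ R) ((A ⧸ R) ⊗[A] M)} R₀ ∧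
      IsLeast {R : Ideal A | Module.Flat (A ⧸ R) ((A ⧸ R) ⊗[A] M)} R₀ ∧
      ∀ (A' : Type u) [CommRing A'] [Algebra A A'],
        (Module.Free A' (A' ⊗[A] M) ↔ Ideal.map (algebraMap A A') R₀ = ⊥) ∧
        (Module.Flat A' (A' ⊗[A] M) ↔ Ideal.map (algebraMap A A') R₀ = ⊥) := by
  obtain ⟨I, φ, hφ, hcoord⟩ := exists_presentation M J hJ hfree
  have hfreeiff : ∀ (A' : Type u) [CommRing A'] [Algebra A A'],
      (Module.Flat A' (A' ⊗[A] M) → Ideal.map (algebraMap A A') (content φ) = ⊥) ∧
      (Ideal.map (algebraMap A A') (content φ) = ⊥ → Module.Free A' (A' ⊗[A] M)) := by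
    intro A' _ _
    constructor
    · intro hflat
      exact map_eq_bot_of_ker_eq_bot φ A' (ker_eq_bot_of_flat φ A' hφ J hJ hcoord)
    · intro h
      exact free_of_ker_eq_bot φ A' hφ (ker_eq_bot_of_map_eq_bot φ A' hφ h)
  have hself : Ideal.map (algebraMap A (A ⧸ content φ)) (content φ) = ⊥ := by
    rw [Ideal.Quotient.algebraMap_eq, Ideal.map_quotient_self]
  have hle : ∀ R : Ideal A, Ideal.map (algebraMap A (A ⧸ R)) (content φ) = ⊥ → content φ ≤ R := by
    intro R h
    rw [Ideal.Quotient.algebraMap_eq, Ideal.map_eq_bot_iff_le_ker, Ideal.mk_ker] at h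
    exact h
  refine ⟨content φ, ⟨?_, ?_⟩, ⟨?_, ?_⟩, ?_⟩
  · exact (hfreeiff (A ⧸ content φ)).2 hself
  · intro R hR
    have hR' : Module.Free (A ⧸ R) ((A ⧸ R) ⊗[A] M) := hR
    exact hle R ((hfreeiff (A ⧸ R)).1 inferInstance)
  · have := (hfreeiff (A ⧸ content φ)).2 hself
    show Module.Flat (A ⧸ content φ) ((A ⧸ content φ) ⊗[A] M)
    infer_instance
  · intro R hR
    exact hle R ((hfreeiff (A ⧸ R)).1 hR)
  · intro A' _ _
    refine ⟨⟨fun h => (hfreeiff A').1 inferInstance, (hfreeiff A').2⟩,
      ⟨(hfreeiff A').1, fun h => ?_⟩⟩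
    have := (hfreeiff A').2 h
    infer_instance

end Groth.Agent.S4853
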