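import Groth.Statements.S3067
import Mathlib
import Groth.Agent.Helper2.TF7
open Groth.Agent.Helper2 Groth.Agent.Helper2.TF1
-- import your own Groth.Agent.* helpers here

set_option autoImplicit false
open CategoryTheory CategoryTheory.Limits Opposite
universe u
open ToposFin

namespace Groth.Agent.S3067

/-- In the topos of sheaves of sets on a small site that admits a generating family of quasi-compact
objects, let (g_i : Y_i → Y) be a jointly epimorphic family of morphisms with every Y_i coherent.
Then Y is quasi-separated if and only if every g_i is quasi-compact, and Y is quasi-separated if and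
only if every fibre product Y_i ×_Y Y_j is quasi-compact. -/
theorem result {C : Type u} [SmallCategory C] {J : GrothendieckTopology C} (hE : ToposFin.HasQCGenerators J) {Y : ToposFin.Sh J} {ι : Type u}
    (Yi : ι → ToposFin.Sh J) (g : ∀ i, Yi i ⟶ Y) (hg : Epi (Sigma.desc g)) (hY : ∀ i, ToposFin.IsCoherent (Yi i)) :
    (ToposFin.IsQS Y ↔ ∀ i, ToposFin.IsQCHom (g i)) ∧
    (ToposFin.IsQS Y ↔ ∀ i j, ToposFin.IsQC (pullback (g i) (g j))) := by
  have hg' := (epi_sigma_iff_ljs g).1 hg
  have h1 : ToposFin.IsQS Y ↔ ∀ i, ToposFin.IsQCHom (g i) := by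
    constructor
    · intro h i T t hT
      exact h _ _ (g i) t (hY i).1 hT
    · intro h
      exact isQS_of_cover Yi g hg' (fun i => (hY i).2) h
  refine ⟨h1, ?_⟩
  constructor
  · intro h i j
    exact h _ _ (g i) (g j) (hY i).1 (hY j).1
  · intro h
    rw [h1]
    intro i T t hT
    -- cover T by qc objects factoring through some Y_j
    have hc1 := ljs_pullback_fst t g hg'
    have hc2 : ∀ j, ∃ (κ : Type u) (K : κ → ToposFin.Sh J) (ρ : ∀ k, K k ⟶ pullback t (g j)),
        (∀ k, ToposFin.IsQC (K k)) ∧ LJS K ρ := by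
      intro j
      obtain ⟨κ, K, ρ, hK, hρ⟩ := hE (pullback t (g j))
      exact ⟨κ, K, ρ, hK, (epi_sigma_iff_ljs ρ).1 hρ⟩
    choose κ K ρ hK hρ using hc2
    have hc3 := hc1.comp K ρ hρ
    refine isQC_pullback_of_cover_right (g i) t hT _ hc3 ?_
    rintro ⟨j, k⟩
    have e : (ρ j k ≫ pullback.fst t (g j)) ≫ t = (ρ j k ≫ pullback.snd t (g j)) ≫ g j := by
      rw [Category.assoc, Category.assoc, pullback.condition]
    refine ToposQC.isQC_of_iso (pullback.congrHom rfl e) ?_
    refine ToposQC.isQC_of_iso (pullbackLeftPullbackSndIso (g i) (g j) _).symm ?_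
    exact (hY j).2 _ _ _ _ (h i j) (hK j k)

end Groth.Agent.S3067
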