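import Groth.Statements.S3056
import Mathlib
import Groth.Agent.Helper2.TF18
open Groth.Agent.Helper2 Groth.Agent.Helper2.TF1 Groth.Agent.Helper2.TF18
-- import your own Groth.Agent.* helpers here

set_option autoImplicit false
open CategoryTheory CategoryTheory.Limits Opposite
universe u
open ToposFin

namespace Groth.Agent.S3056

/-- For a small site (C, J) and an object X of C, X is quasi-compact as an object of the site (every
covering sieve contains finitely many arrows generating a covering sieve) if and only if the sheaf
associated to the presheaf represented by X is a quasi-compact object of the topos of sheaves of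
sets. -/
theorem result {C : Type u} [SmallCategory C] (J : GrothendieckTopology C) (X : C) :
    ToposFin.IsQCSite J X ↔ ToposFin.IsQC (ToposFin.eps J X) := by
  classical
  constructor
  · intro hX
    rw [isQC_iff]
    intro ι F π hπ
    obtain ⟨T, hT, hTx⟩ := hπ X ((eta J X).app (op X) (𝟙 X))
    obtain ⟨n, V, g, hg, hcov⟩ := hX T hT
    have h1 := fun k => hTx (g k) (hg k)
    choose i y hy using h1
    refine ⟨Finset.univ.image i, ?_⟩
    intro U x
    obtain ⟨T₁, hT₁, hx⟩ := eps_section_locally x
    choose h hh using hx
    refine ⟨Sieve.bind T₁ (fun W k' hk' => (Sieve.ofArrows V g).pullback (h k' hk')),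
      J.bind_covering hT₁ (fun W k' hk' => J.pullback_stable (h k' hk') hcov), ?_⟩
    intro W' m hm
    obtain ⟨W, a, k', hk', ha, rfl⟩ := hm
    -- ha : ofArrows V g (a ≫ h k' hk')
    obtain ⟨k, c, hc⟩ := (Sieve.mem_ofArrows_iff V g _).1 ha
    refine ⟨⟨i k, Finset.mem_image_of_mem i (Finset.mem_univ k)⟩, (F (i k)).obj.map c.op (y k), ?_⟩
    change (π (i k)).hom.app (op W') ((F (i k)).obj.map c.op (y k)) = _
    rw [map_app_apply, hy k, eta_map, Category.comp_id, eta_map, ← hc, op_comp, Functor.map_comp]
    change _ = (ToposFin.eps J X).obj.map a.op ((ToposFin.eps J X).obj.map k'.op x)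
    rw [← hh k' hk', eta_map]
  · intro hX S hS
    have h1 := ljs_eps_of_covering S hS
    obtain ⟨s, hs⟩ := (isQC_iff _).1 hX _ _ _ h1
    let e := s.equivFin.symm
    refine ⟨s.card, fun k => (e k).1.1, fun k => (e k).1.2.1, fun k => (e k).1.2.2, ?_⟩
    apply covering_of_ljs_eps
    refine hs.of_factor _ _ (fun i => ?_)
    obtain ⟨k, rfl⟩ := e.surjective i
    exact ⟨k, 𝟙 _, Category.id_comp _⟩

end Groth.Agent.S3056
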