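import Groth.Statements.S3069
import Mathlib
import Groth.Agent.Helper2.TF19
import Groth.Agent.S3056
open Groth.Agent.Helper2 Groth.Agent.Helper2.TF1 Groth.Agent.Helper2.TF18 Groth.Agent.Helper2.TF19
-- import your own Groth.Agent.* helpers here

set_option autoImplicit false
open CategoryTheory CategoryTheory.Limits Opposite
universe u
open ToposFin

namespace Groth.Agent.S3069

/-- Let (C, J) be a small site with fibre products in which every object is quasi-compact. Then for
every object X of C the associated sheaf of the representable presheaf of X is a coherent object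
(quasi-compact and quasi-separated) of the topos of sheaves of sets. -/
theorem result {C : Type u} [SmallCategory C] [HasPullbacks C]
    (J : GrothendieckTopology C) (hC : ∀ X : C, ToposFin.IsQCSite J X) (X : C) :
    ToposFin.IsCoherent (ToposFin.eps J X) := by
  have hqc : ∀ V : C, ToposFin.IsQC (ToposFin.eps J V) := fun V => (Groth.Agent.S3056.result J V).1 (hC V)
  refine ⟨hqc X, ?_⟩
  have hgen : ∀ F : ToposFin.Sh J, ∃ (ι : Type u) (a : ι → C) (π : ∀ i, ToposFin.eps J (a i) ⟶ F),
      Epi (Sigma.desc π) := by
    intro F
    exact ⟨Σ V : C, F.obj.obj (op V), fun i => i.1, fun i => secMap i.2,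
      (epi_sigma_iff_ljs _).2 (ljs_secMap F)⟩
  rw [isQS_iff_generators (fun V : C => ToposFin.eps J V) hqc hgen]
  intro V s
  rw [isQCHom_iff_generators (fun V : C => ToposFin.eps J V) hqc hgen]
  intro W t
  obtain ⟨n, Vk, k, h, hk, hkh⟩ := exists_finite_local_rep hC s
  obtain ⟨n', Wl, k', h', hk', hkh'⟩ := exists_finite_local_rep hC t
  refine isQC_of_finite_ljs _ _ (ljs_pullback_both s t _ hk _ hk') ?_
  rintro ⟨j, l⟩
  refine ToposQC.isQC_of_iso (pullback.congrHom (hkh j) (hkh' l)) ?_
  exact ToposQC.isQC_of_iso (isPullback_eps (h j) (h' l)).isoPullback.symm (hqc _)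

end Groth.Agent.S3069
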