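import Groth.Statements.S7661
import Mathlib

set_option autoImplicit false
universe u
open CategoryTheory CategoryTheory.Limits AlgebraicGeometry
open Variety

namespace Groth.Agent.S7661

/-- Let A be a ring, I an ideal, p_1, …, p_r prime ideals with I ⊄ p_i for all i, and let f̄ ∈ A/I. Then
f̄ lifts to an element f ∈ A with f ∉ p_i for all i. -/
theorem result (A : Type u) [CommRing A] (I : Ideal A)
    (s : Finset (Ideal A)) (hs : ∀ p ∈ s, p.IsPrime) (hI : ∀ p ∈ s, ¬ I ≤ p) (fbar : A ⧸ I) :
    ∃ f : A, Ideal.Quotient.mk I f = fbar ∧ ∀ p ∈ s, f ∉ p := by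
  classical
  induction s using Finset.strongInduction with
  | H s ih =>
    rcases s.eq_empty_or_nonempty with rfl | hne
    · obtain ⟨f, hf⟩ := Ideal.Quotient.mk_surjective fbar
      exact ⟨f, hf, by simp⟩
    · obtain ⟨q, hq⟩ := s.exists_minimal hne
      have hqs : q ∈ s := hq.1
      have hqp : q.IsPrime := hs q hqs
      obtain ⟨f, hf, hft⟩ := ih (s.erase q) (Finset.erase_ssubset hqs)
        (fun p hp => hs p (Finset.mem_of_mem_erase hp))
        (fun p hp => hI p (Finset.mem_of_mem_erase hp))
      by_cases hfq : f ∉ q
      · refine ⟨f, hf, fun p hp => ?_⟩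
        by_cases hpq : p = q
        · rw [hpq]; exact hfq
        · exact hft p (Finset.mem_erase.mpr ⟨hpq, hp⟩)
      · push Not at hfq
        have hnle : ∀ p ∈ s.erase q, ∃ y ∈ p, y ∉ q := by
          intro p hp
          have hne' : p ≠ q := (Finset.mem_erase.mp hp).1
          have hps : p ∈ s := (Finset.mem_erase.mp hp).2
          have : ¬ p ≤ q := fun hle => hne' (le_antisymm hle (hq.2 hps hle))
          exact SetLike.not_le_iff_exists.mp this
        choose y hy1 hy2 using hnle
        obtain ⟨x₀, hx₀I, hx₀q⟩ := SetLike.not_le_iff_exists.mp (hI q hqs)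
        let y' : Ideal A → A := fun p => if h : p ∈ s.erase q then y p h else 1
        have hy'q : ∀ p, y' p ∉ q := by
          intro p
          by_cases h : p ∈ s.erase q
          · simp only [y', dif_pos h]; exact hy2 p h
          · simp only [y', dif_neg h]
            exact fun h1 => hqp.ne_top ((Ideal.eq_top_iff_one _).mpr h1)
        set x := x₀ * ∏ p ∈ s.erase q, y' p with hx
        have hxI : x ∈ I := Ideal.mul_mem_right _ _ hx₀I
        have hxq : x ∉ q := by
          intro h
          rcases hqp.mem_or_mem h with h | h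
          · exact hx₀q h
          · obtain ⟨p, -, hp⟩ := (hqp.prod_mem_iff).mp h
            exact hy'q p hp
        have hxp : ∀ p ∈ s.erase q, x ∈ p := by
          intro p hp
          apply Ideal.mul_mem_left
          have hdvd : y' p ∣ ∏ p ∈ s.erase q, y' p := Finset.dvd_prod_of_mem y' hp
          obtain ⟨c, hc⟩ := hdvd
          rw [hc]
          apply Ideal.mul_mem_right
          simp only [y', dif_pos hp]; exact hy1 p hp
        refine ⟨f + x, ?_, fun p hp => ?_⟩
        · rw [map_add, hf, Ideal.Quotient.eq_zero_iff_mem.mpr hxI, add_zero]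
        · by_cases hpq : p = q
          · rw [hpq]
            intro h
            exact hxq ((Ideal.add_mem_iff_right _ hfq).mp h)
          · have hp' : p ∈ s.erase q := Finset.mem_erase.mpr ⟨hpq, hp⟩
            intro h
            exact hft p hp' ((Ideal.add_mem_iff_left _ (hxp p hp')).mp h)

end Groth.Agent.S7661
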