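import Groth.Statements.S0021
import Mathlib
import Groth.Agent.Helper1.Chev4

set_option autoImplicit false
universe u
open Coherent

namespace Groth.Agent.S0021

open AlgebraicGeometry in
/-- Let f : Y → X be finite and surjective with Y affine and X Noetherian. Then X is affine. -/
theorem result {Y X : Scheme.{u}} (f : Y ⟶ X) [IsFinite f]
    [Surjective f] [IsAffine Y] [IsNoetherian X] : IsAffine X := by
  classical
  have hK := Groth.Agent.Helper1.Chev.halfClass_H1 X
  -- all coherent modules have vanishing `H¹`
  have hall : ∀ M : X.Modules, Coh.IsCoh M → Subsingleton (Coh.HH X M 1) := by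
    intro M hM
    refine hK.core ⊤ ?_ M hM (Set.subset_univ _)
    intro Y₀ _ hirrY hB E hE
    have hint := Groth.Agent.Helper1.Dev.isIntegral_subscheme Y₀ hirrY
    have := Groth.Agent.Helper1.Dev.isNoetherian_of_isClosedImmersion
      (Scheme.IdealSheafData.vanishingIdeal Y₀).subschemeι
    -- an integral affine scheme over the generic point of `Y₀`
    obtain ⟨w, hw⟩ := f.surjective ((Scheme.IdealSheafData.vanishingIdeal Y₀).subschemeι
      (genericPoint (Scheme.IdealSheafData.vanishingIdeal Y₀).subscheme))
    let T : TopologicalSpace.Closeds Y := ⟨closure {w}, isClosed_closure⟩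
    have hirr : IsIrreducible (T : Set Y) := isIrreducible_singleton.closure
    haveI := Groth.Agent.Helper1.Dev.isIntegral_subscheme T hirr
    haveI : IsAffine (Scheme.IdealSheafData.vanishingIdeal T).subscheme :=
      isAffine_of_isAffineHom (Scheme.IdealSheafData.vanishingIdeal T).subschemeι
    have hjη : w = (Scheme.IdealSheafData.vanishingIdeal T).subschemeι
        (genericPoint (Scheme.IdealSheafData.vanishingIdeal T).subscheme) :=
      Groth.Agent.Helper1.Dev.eq_ι_genericPoint T w rfl
    have hgη : (CategoryTheory.CategoryStruct.comp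
        (Scheme.IdealSheafData.vanishingIdeal T).subschemeι f)
        (genericPoint (Scheme.IdealSheafData.vanishingIdeal T).subscheme) =
        (Scheme.IdealSheafData.vanishingIdeal Y₀).subschemeι
          (genericPoint (Scheme.IdealSheafData.vanishingIdeal Y₀).subscheme) := by
      rw [Scheme.Hom.comp_apply, ← hjη, hw]
    have hO := Groth.Agent.Helper1.Dev.isCoh_structureModule
      (Scheme.IdealSheafData.vanishingIdeal T).subscheme
    haveI : (Coh.structureModule
      (Scheme.IdealSheafData.vanishingIdeal T).subscheme).IsQuasicoherent := hO.1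
    have hG : Coh.IsCoh ((Scheme.Modules.pushforward
        (CategoryTheory.CategoryStruct.comp
          (Scheme.IdealSheafData.vanishingIdeal T).subschemeι f)).obj
        (Coh.structureModule (Scheme.IdealSheafData.vanishingIdeal T).subscheme)) :=
      Groth.Agent.S0019.result _ _ hO
    refine (Groth.Agent.Helper1.Dev.pushClass_halfClass _ hK).integral_main
      (Groth.Agent.Helper1.Dev.ideals_of_deep hK Y₀ hB
        (fun F r _ hr h => Groth.Agent.Helper1.Chev.root_H1 F r hr h) _ hG ?_ ?_ ?_)
      (fun E hE hs => Groth.Agent.Helper1.Dev.small_of_below Y₀ hB _ E hE hs) E hE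
    · rw [← hgη]
      exact Groth.Agent.Helper1.Chev.not_subsingleton_stalk_push_structure _ _
    · intro a ha m
      exact Groth.Agent.Helper1.Chev.smul_eq_zero_push _ _ _ hgη a ha m
    · intro J hJ
      exact Groth.Agent.Helper1.Chev.exists_deep _ _ J _ hJ
  apply Groth.Agent.Helper1.SerreCrit.isAffine_of_H1_ideals
  intro I i hi hI
  have hO := Groth.Agent.Helper1.Dev.isCoh_structureModule X
  haveI : (Coh.structureModule X).IsQuasicoherent := hO.1
  haveI : I.IsQuasicoherent := hI
  haveI := hi
  exact hall I ⟨hI, Groth.Agent.Helper4.QcohEpi.isFiniteType_of_mono i hO.2⟩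

end Groth.Agent.S0021
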