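import Groth.Statements.S9203
import Groth.Agent.Helper4.NApx10
import Mathlib

set_option autoImplicit false
universe u v
open CategoryTheory AlgebraicGeometry
open Lim

namespace Groth.Agent.S9203


/-- Suppose a scheme X is covered, as a topological space, by finitely many closed subschemes each of
which is affine: there are closed immersions Z_k → X, indexed by a finite type, with each Z_k affine
and whose images cover X. Then X is affine. -/
theorem result (X : Scheme.{u}) {κ : Type v} [Finite κ]
    (Z : κ → Scheme.{u}) (ι : ∀ k, Z k ⟶ X) [∀ k, IsClosedImmersion (ι k)] [∀ k, IsAffine (Z k)]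
    (hcov : ∀ x : X, ∃ k, x ∈ Set.range (ι k).base) : IsAffine X := by

  classical
  -- auxiliary: finite unions of affine closed subschemes are affine closed subschemes
  have aux : ∀ (n : ℕ) (Z' : Fin n → Scheme.{u}) (ι' : ∀ k, Z' k ⟶ X)
      (_ : ∀ k, IsClosedImmersion (ι' k)) (_ : ∀ k, IsAffine (Z' k)),
      ∃ (W : Scheme.{u}) (w : W ⟶ X), IsClosedImmersion w ∧ IsAffine W ∧
        Set.range w = ⋃ k, Set.range (ι' k) := by
    intro n
    induction n with
    | zero =>
      intro Z' ι' _ _
      refine ⟨(⊤ : X.IdealSheafData).subscheme, (⊤ : X.IdealSheafData).subschemeι,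
        inferInstance, ?_, ?_⟩
      · haveI : IsEmpty ((⊤ : X.IdealSheafData).subscheme) := by
          rw [← Set.range_eq_empty_iff (f := ((⊤ : X.IdealSheafData).subschemeι : _ → X)),
            Scheme.IdealSheafData.range_subschemeι]
          simp
        infer_instance
      · rw [Scheme.IdealSheafData.range_subschemeι]
        simp
    | succ n ih =>
      intro Z' ι' h1 h2
      obtain ⟨W₀, w₀, hw₀, hW₀, hr₀⟩ := ih (fun k => Z' k.castSucc) (fun k => ι' k.castSucc)
        (fun k => h1 _) (fun k => h2 _)
      haveI := hw₀
      haveI := hW₀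
      haveI := h1 (Fin.last n)
      haveI := h2 (Fin.last n)
      let z := ι' (Fin.last n)
      let J : X.IdealSheafData := w₀.ker * z.ker
      have hJ1 : J ≤ w₀.ker := by
        intro U
        show w₀.ker.ideal U * z.ker.ideal U ≤ w₀.ker.ideal U
        exact Ideal.mul_le_left
      have hJ2 : J ≤ z.ker := by
        intro U
        show w₀.ker.ideal U * z.ker.ideal U ≤ z.ker.ideal U
        exact Ideal.mul_le_right
      have hrange : Set.range J.subschemeι = Set.range w₀ ∪ Set.range z := by
        rw [Scheme.IdealSheafData.range_subschemeι]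
        show ((w₀.ker.support ⊔ z.ker.support : TopologicalSpace.Closeds X) : Set X) = _
        rw [TopologicalSpace.Closeds.coe_sup, Scheme.Hom.support_ker, Scheme.Hom.support_ker,
          w₀.isClosedEmbedding.isClosed_range.closure_eq,
          z.isClosedEmbedding.isClosed_range.closure_eq]
      let a : W₀ ⟶ J.subscheme := IsClosedImmersion.lift J.subschemeι w₀ (by
        rw [Scheme.IdealSheafData.ker_subschemeι]; exact hJ1)
      let b : Z' (Fin.last n) ⟶ J.subscheme := IsClosedImmersion.lift J.subschemeι z (by
        rw [Scheme.IdealSheafData.ker_subschemeι]; exact hJ2)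
      have ha : a ≫ J.subschemeι = w₀ := IsClosedImmersion.lift_fac _ _ _
      have hb : b ≫ J.subschemeι = z := IsClosedImmersion.lift_fac _ _ _
      haveI : IsClosedImmersion a := by
        haveI : IsClosedImmersion (a ≫ J.subschemeι) := by rw [ha]; infer_instance
        exact IsClosedImmersion.of_comp a J.subschemeι
      haveI : IsClosedImmersion b := by
        haveI : IsClosedImmersion (b ≫ J.subschemeι) := by rw [hb]; infer_instance
        exact IsClosedImmersion.of_comp b J.subschemeι
      haveI : Surjective (Limits.coprod.desc a b) := by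
        constructor
        intro y
        have hy : J.subschemeι y ∈ Set.range w₀ ∪ Set.range z := by
          rw [← hrange]; exact ⟨y, rfl⟩
        rcases hy with ⟨x, hx⟩ | ⟨x, hx⟩
        · refine ⟨(Limits.coprod.inl : W₀ ⟶ W₀ ⨿ Z' (Fin.last n)) x, ?_⟩
          apply J.subschemeι.isClosedEmbedding.injective
          have h5 : (Limits.coprod.inl ≫ Limits.coprod.desc a b ≫ J.subschemeι) x = w₀ x := by
            rw [Limits.coprod.inl_desc_assoc, ha]
          rw [Scheme.Hom.comp_apply, Scheme.Hom.comp_apply] at h5
          exact h5.trans hx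
        · refine ⟨(Limits.coprod.inr : Z' (Fin.last n) ⟶ W₀ ⨿ Z' (Fin.last n)) x, ?_⟩
          apply J.subschemeι.isClosedEmbedding.injective
          have h5 : (Limits.coprod.inr ≫ Limits.coprod.desc a b ≫ J.subschemeι) x = z x := by
            rw [Limits.coprod.inr_desc_assoc, hb]
          rw [Scheme.Hom.comp_apply, Scheme.Hom.comp_apply] at h5
          exact h5.trans hx
      refine ⟨J.subscheme, J.subschemeι, inferInstance,
        Groth.Agent.Helper4.NApx10.isAffine_of_finite_surjective (Limits.coprod.desc a b), ?_⟩
      rw [hrange, hr₀]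
      ext x
      simp only [Set.mem_union, Set.mem_iUnion]
      constructor
      · rintro (⟨k, hk⟩ | hk)
        · exact ⟨k.castSucc, hk⟩
        · exact ⟨Fin.last n, hk⟩
      · rintro ⟨k, hk⟩
        induction k using Fin.lastCases with
        | last => exact Or.inr hk
        | cast k => exact Or.inl ⟨k, hk⟩
  obtain ⟨n, ⟨e⟩⟩ := Finite.exists_equiv_fin κ
  obtain ⟨W, w, hw, hW, hr⟩ := aux n (fun k => Z (e.symm k)) (fun k => ι (e.symm k))
    (fun k => inferInstance) (fun k => inferInstance)
  haveI := hw
  haveI := hW
  haveI : Surjective w := by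
    constructor
    intro x
    obtain ⟨k, hk⟩ := hcov x
    have : x ∈ Set.range w := by
      rw [hr]
      refine Set.mem_iUnion.2 ⟨e k, ?_⟩
      have h6 : ∀ k' : κ, k' = k → x ∈ Set.range (ι k') := by
        rintro k' rfl; exact hk
      exact h6 _ (e.symm_apply_apply k)
    exact this
  exact Groth.Agent.Helper4.NApx10.isAffine_of_finite_surjective w

end Groth.Agent.S9203
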