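import Groth.Statements.S0411
import Mathlib

set_option autoImplicit false
universe u
open FlatMor

namespace Groth.Agent.S0411

theorem exists_basicOpen (R : Type*) [CommRing R] (W : TopologicalSpace.Opens (PrimeSpectrum R))
    (F : Finset (PrimeSpectrum R)) (hF : ∀ p ∈ F, p ∈ W) :
    ∃ s : R, (∀ p ∈ F, p ∈ PrimeSpectrum.basicOpen s) ∧ PrimeSpectrum.basicOpen s ≤ W := by
  classical
  rcases F.eq_empty_or_nonempty with rfl | ⟨p0, hp0⟩
  · exact ⟨0, by simp, by simp⟩
  set I := PrimeSpectrum.vanishingIdeal ((W : Set (PrimeSpectrum R))ᶜ) with hIdef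
  have hI : PrimeSpectrum.zeroLocus (I : Set R) = (W : Set (PrimeSpectrum R))ᶜ := by
    rw [hIdef, PrimeSpectrum.zeroLocus_vanishingIdeal_eq_closure, W.isOpen.isClosed_compl.closure_eq]
  have hnot : ¬ ((I : Set R) ⊆ ⋃ p ∈ (F : Set (PrimeSpectrum R)), (p.asIdeal : Set R)) := by
    rw [Ideal.subset_union_prime (f := fun p : PrimeSpectrum R => p.asIdeal) p0 p0
      (fun p _ _ _ => p.isPrime)]
    rintro ⟨p, hp, hIp⟩
    have : p ∈ PrimeSpectrum.zeroLocus (I : Set R) := hIp
    rw [hI] at this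
    exact this (hF p hp)
  obtain ⟨s, hsI, hs⟩ := Set.not_subset.mp hnot
  refine ⟨s, fun p hp hsp => hs (Set.mem_biUnion (Finset.mem_coe.mpr hp) hsp), ?_⟩
  intro q hq
  by_contra hqW
  have : q ∈ PrimeSpectrum.zeroLocus (I : Set R) := by rw [hI]; exact hqW
  exact hq (this hsI)

open AlgebraicGeometry CategoryTheory Limits in
/-- For a separated, locally quasi-finite morphism (locally of finite type with discrete fibres) to an
affine scheme, every finite set of points of the source lies in an affine open. -/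
theorem result {X Y : Scheme.{u}} (f : X ⟶ Y) [IsAffine Y] [IsSeparated f] [LocallyQuasiFinite f] [LocallyOfFiniteType f] (T : Finset ↑X) :
    ∃ U : X.Opens, IsAffineOpen U ∧ ∀ x ∈ T, x ∈ U := by
  classical
  have hex : ∀ x : X, ∃ U : X.Opens, IsAffineOpen U ∧ x ∈ U := fun x => by
    obtain ⟨_, ⟨U, hU, rfl⟩, hxU, -⟩ :=
      X.isBasis_affineOpens.exists_subset_of_mem_open (Set.mem_univ x) isOpen_univ
    exact ⟨U, hU, hxU⟩
  choose A hA hxA using hex
  let X' : X.Opens := T.sup A
  have hT : ∀ x ∈ T, x ∈ X' := fun x hx => (Finset.le_sup (f := A) hx) (hxA x)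
  have hX'c : IsCompact (X' : Set X) := by
    have : (X' : Set X) = ⋃ x ∈ T, (A x : Set X) := by
      simp only [X', TopologicalSpace.Opens.coe_finset_sup, Finset.sup_set_eq_biUnion]
      rfl
    rw [this]
    exact T.isCompact_biUnion fun x _ => (hA x).isCompact
  have : CompactSpace X' := isCompact_iff_compactSpace.mp hX'c
  let g : (X' : Scheme) ⟶ Y := X'.ι ≫ f
  have : QuasiCompact g := inferInstance
  have : IsAffine g.normalization := isAffine_of_isAffineHom g.fromNormalization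
  let j : (X' : Scheme) ⟶ Spec Γ(g.normalization, ⊤) := g.toNormalization ≫ g.normalization.isoSpec.hom
  have : IsOpenImmersion j := inferInstance
  let F : Finset (PrimeSpectrum Γ(g.normalization, ⊤)) :=
    T.attach.image fun x => j ⟨x.1, hT x.1 x.2⟩
  obtain ⟨s, hs1, hs2⟩ := exists_basicOpen _ j.opensRange F (by
    intro p hp
    obtain ⟨x, -, rfl⟩ := Finset.mem_image.mp hp
    exact ⟨_, rfl⟩)
  let D : (Spec Γ(g.normalization, ⊤)).Opens := PrimeSpectrum.basicOpen s
  have hD : IsAffineOpen D := IsAffineOpen.Spec_basicOpen s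
  have hjD : IsAffineOpen (j ⁻¹ᵁ D) := hD.preimage_of_isOpenImmersion j hs2
  refine ⟨X'.ι ''ᵁ (j ⁻¹ᵁ D), hjD.image_of_isOpenImmersion X'.ι, ?_⟩
  intro x hx
  refine ⟨⟨x, hT x hx⟩, ?_, rfl⟩
  exact hs1 _ (Finset.mem_image.mpr ⟨⟨x, hx⟩, Finset.mem_attach _ _, rfl⟩)

end Groth.Agent.S0411
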