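import Groth.Statements.S7658
import Groth.Agent.Helper5.EtOI2

set_option autoImplicit false
universe u
open CategoryTheory CategoryTheory.Limits AlgebraicGeometry
open Variety

namespace Groth.Agent.S7658

/-- A separated morphism of schemes f : X → Y such that X has an open covering on whose members f
restricts to open immersions, and such that no two distinct generic points of irreducible components
of X have the same image under f, is an open immersion. -/
theorem result {X Y : Scheme.{u}}
    (f : X ⟶ Y) [IsSeparated f]
    (hloc : ∀ x : X, ∃ U : X.Opens, x ∈ U ∧ IsOpenImmersion (U.ι ≫ f))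
    (hinj : ∀ ξ ξ' : X, closure ({ξ} : Set X) ∈ irreducibleComponents (X : Type u) → closure ({ξ'} : Set X) ∈ irreducibleComponents (X : Type u) →
      f.base ξ = f.base ξ' → ξ = ξ') :
    IsOpenImmersion f := by
  choose U hxU hU using hloc
  have hcov : iSup U = ⊤ := by
    rw [eq_top_iff]
    intro x _
    exact TopologicalSpace.Opens.mem_iSup.2 ⟨x, hxU x⟩
  have het : Etale f := by
    apply IsZariskiLocalAtSource.of_iSup_eq_top (P := @Etale) U hcov
    intro x
    have := hU x
    infer_instance
  apply Groth.Agent.Helper5.EtOI.isOpenImmersion_of_etale f hinj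
  intro ξ _
  have h1 : IsIso (((U ξ).ι ≫ f).residueFieldMap (⟨ξ, hxU ξ⟩ : (U ξ))) := by
    have := hU ξ
    infer_instance
  rw [Scheme.residueFieldMap_comp] at h1
  have h2 : IsIso ((U ξ).ι.residueFieldMap (⟨ξ, hxU ξ⟩ : (U ξ))) := by infer_instance
  exact @IsIso.of_isIso_comp_right _ _ _ _ _ _ _ h2 h1

end Groth.Agent.S7658
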