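import Groth.Statements.S0380
import Groth.Agent.Helper1.LocCohLocS

set_option autoImplicit false
universe u v
open LocCoh

namespace Groth.Agent.S0380

/-- Local cohomology with support in I vanishes above degree d on all modules exactly when, for every
prime p, local cohomology over A_p with support in I A_p vanishes above degree d on all A_p-modules. -/
theorem result (R : Type u) [CommRing R] [IsNoetherianRing R] (I : Ideal R) (d : ℕ) : LocCoh.CdLE R I d ↔ ∀ (p : Ideal R) [p.IsPrime], LocCoh.CdLE (Localization.AtPrime p) (I.map (algebraMap R (Localization.AtPrime p))) d := by
  constructor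
  · intro h p hp N _ _ i hi
    letI : Module R N := Module.compHom N (algebraMap R (Localization.AtPrime p))
    haveI : IsScalarTower R (Localization.AtPrime p) N :=
      IsScalarTower.of_algebraMap_smul (fun _ _ => rfl)
    haveI : IsNoetherianRing (Localization.AtPrime p) :=
      IsLocalization.isNoetherianRing p.primeCompl _ inferInstance
    obtain ⟨φ, -⟩ := Groth.Agent.Helper1.LocCohBase.exists_addEquiv
      (R' := Localization.AtPrime p) I N i
    have := h N i hi
    exact φ.toEquiv.subsingleton
  · intro h M _ _ i hi
    apply Module.subsingleton_of_localization_maximal (R := R)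
      (fun P _ => LocalizedModule P.primeCompl (LocCoh.H I i M))
      (fun P _ => LocalizedModule.mkLinearMap P.primeCompl (LocCoh.H I i M))
    intro P hP
    obtain ⟨e⟩ := Groth.Agent.Helper1.LocCohLocS.nonempty_localized_linearEquiv P.primeCompl I M i
    have := h P (LocalizedModule P.primeCompl M) i hi
    exact e.toEquiv.subsingleton

end Groth.Agent.S0380
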