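import Groth.Statements.S1570
import Mathlib
import Groth.Agent.S1567

set_option autoImplicit false
universe u
open CategoryTheory CategoryTheory.Limits AlgebraicGeometry
open Divisors

namespace Groth.Agent.S1570

/-- finitely generated ideal `K`, prime `p`: pointwise multipliers outside `p` can be made uniform. -/
theorem exists_uniform_mul {A : Type*} [CommRing A] (p : Ideal A) [p.IsPrime] (N K : Ideal A)
    (hK : K.FG) (h : ∀ b ∈ K, ∃ s, s ∉ p ∧ s * b ∈ N) :
    ∃ f, f ∉ p ∧ ∀ b ∈ K, f * b ∈ N := by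
  classical
  obtain ⟨S, rfl⟩ := hK
  have h' : ∀ b : A, ∃ s, s ∉ p ∧ (b ∈ S → s * b ∈ N) := by
    intro b
    by_cases hb : b ∈ S
    · obtain ⟨s, hs, hsb⟩ := h b (Ideal.subset_span hb)
      exact ⟨s, hs, fun _ => hsb⟩
    · exact ⟨1, by simpa using (Ideal.ne_top_iff_one p).mp (Ideal.IsPrime.ne_top ‹_›), fun h => absurd h hb⟩
  choose s hs hsb using h'
  refine ⟨∏ b ∈ S, s b, ?_, ?_⟩
  · intro hmem
    obtain ⟨b, -, hb⟩ := (Ideal.IsPrime.prod_mem_iff).mp hmem
    exact hs b hb
  · intro b hb
    induction hb using Submodule.span_induction with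
    | mem x hx =>
      obtain ⟨c, hc⟩ := Finset.dvd_prod_of_mem s hx
      rw [hc, mul_comm (s x) c, mul_assoc]
      exact Ideal.mul_mem_left _ _ (hsb x hx)
    | zero => simp
    | add x y _ _ hx hy => rw [mul_add]; exact add_mem hx hy
    | smul a x _ hx =>
      rw [smul_eq_mul, mul_left_comm]
      exact Ideal.mul_mem_left _ _ hx

theorem exists_away_principal {A : Type*} [CommRing A] [IsNoetherianRing A] (I : Ideal A)
    (p : Ideal A) [p.IsPrime]
    (B : Type*) [CommRing B] [Algebra A B] [IsLocalization.AtPrime B p]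
    (g : B) (hg : g ∈ nonZeroDivisors B) (hI : I.map (algebraMap A B) = Ideal.span {g}) :
    ∃ f, f ∉ p ∧ ∃ a ∈ I, (∀ b ∈ I, f * b ∈ Ideal.span {a}) ∧ (∀ c, a * c = 0 → f * c = 0) := by
  have hgI : g ∈ I.map (algebraMap A B) := by rw [hI]; exact Ideal.mem_span_singleton_self g
  obtain ⟨⟨⟨a, haI⟩, ⟨s, hs⟩⟩, hgs⟩ := (IsLocalization.mem_map_algebraMap_iff p.primeCompl B).mp hgI
  simp only at hgs
  have hsu : IsUnit (algebraMap A B s) := IsLocalization.map_units B ⟨s, hs⟩
  have hanzd : algebraMap A B a ∈ nonZeroDivisors B := by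
    rw [← hgs]
    exact mul_mem hg hsu.mem_nonZeroDivisors
  have hspan : Ideal.span {g} = Ideal.span {algebraMap A B a} := by
    rw [← hgs, Ideal.span_singleton_mul_right_unit hsu]
  -- first multiplier
  obtain ⟨f1, hf1, h1⟩ := exists_uniform_mul p (Ideal.span {a}) I (IsNoetherian.noetherian I) (by
    intro b hb
    have hbm : algebraMap A B b ∈ Ideal.span {algebraMap A B a} := by
      rw [← hspan, ← hI]; exact Ideal.mem_map_of_mem _ hb
    rw [Ideal.mem_span_singleton'] at hbm
    obtain ⟨z, hz⟩ := hbm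
    obtain ⟨c, ⟨t, ht⟩, rfl⟩ := IsLocalization.exists_mk'_eq p.primeCompl z
    have h2 : algebraMap A B (c * a) = algebraMap A B (t * b) := by
      rw [map_mul, map_mul, ← hz, ← mul_assoc, mul_comm (algebraMap A B t)]
      congr 1
      exact (IsLocalization.mk'_spec B c ⟨t, ht⟩).symm
    obtain ⟨⟨u, hu⟩, hu2⟩ := (IsLocalization.eq_iff_exists p.primeCompl B).mp h2
    simp only at hu2
    refine ⟨u * t, ?_, ?_⟩
    · exact fun hmem => (Ideal.IsPrime.mem_or_mem ‹_› hmem).elim hu ht
    · rw [mul_assoc, ← hu2, Ideal.mem_span_singleton']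
      exact ⟨u * c, by ring⟩)
  -- second multiplier
  obtain ⟨f2, hf2, h2⟩ := exists_uniform_mul p ⊥ (Submodule.annihilator (Ideal.span {a}))
    (IsNoetherian.noetherian _) (by
    intro c hc
    rw [Submodule.mem_annihilator_span_singleton, smul_eq_mul] at hc
    have h3 : algebraMap A B c = 0 := by
      have : algebraMap A B a * algebraMap A B c = 0 := by
        rw [← map_mul, mul_comm, hc, map_zero]
      exact (mul_left_mem_nonZeroDivisors_eq_zero_iff hanzd).mp this
    obtain ⟨⟨t, ht⟩, ht2⟩ := (IsLocalization.map_eq_zero_iff p.primeCompl B c).mp h3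
    exact ⟨t, ht, by simpa using ht2⟩)
  refine ⟨f1 * f2, fun hmem => (Ideal.IsPrime.mem_or_mem ‹_› hmem).elim hf1 hf2, a, haI, ?_, ?_⟩
  · intro b hb
    rw [mul_comm f1 f2, mul_assoc]
    exact Ideal.mul_mem_left _ _ (h1 b hb)
  · intro c hc
    have : f2 * c = 0 := by
      have := h2 c (by
        rw [Submodule.mem_annihilator_span_singleton, smul_eq_mul, mul_comm]; exact hc)
      simpa using this
    rw [mul_assoc, this, mul_zero]



/-- away from `f`: the ideal becomes principal generated by a nonzerodivisor. -/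
theorem away_principal {A : Type*} [CommRing A] (I : Ideal A) (f a : A) (ha : a ∈ I)
    (h1 : ∀ b ∈ I, f * b ∈ Ideal.span {a}) (h2 : ∀ c, a * c = 0 → f * c = 0)
    (B : Type*) [CommRing B] [Algebra A B] [IsLocalization.Away f B] :
    algebraMap A B a ∈ nonZeroDivisors B ∧
      I.map (algebraMap A B) = Ideal.span {algebraMap A B a} := by
  have hfu : IsUnit (algebraMap A B f) := IsLocalization.Away.algebraMap_isUnit f
  constructor
  · rw [mem_nonZeroDivisors_iff_right]
    intro z hz
    obtain ⟨c, ⟨t, ht⟩, rfl⟩ := IsLocalization.exists_mk'_eq (Submonoid.powers f) z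
    rw [IsLocalization.mk'_eq_zero_iff]
    have h3 : algebraMap A B (a * c) = 0 := by
      have := congrArg (· * algebraMap A B t) hz
      simp only [zero_mul] at this
      rw [mul_right_comm, IsLocalization.mk'_spec, ← map_mul, mul_comm] at this
      exact this
    obtain ⟨⟨m, hm⟩, hm2⟩ := (IsLocalization.map_eq_zero_iff (Submonoid.powers f) B _).mp h3
    simp only at hm2
    have h4 : f * (m * c) = 0 := h2 _ (by rw [← hm2]; ring)
    refine ⟨⟨f * m, mul_mem (Submonoid.mem_powers f) hm⟩, ?_⟩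
    simpa [mul_assoc] using h4
  · apply le_antisymm
    · rw [Ideal.map_le_iff_le_comap]
      intro b hb
      rw [Ideal.mem_comap]
      have := h1 b hb
      rw [Ideal.mem_span_singleton'] at this ⊢
      obtain ⟨c, hc⟩ := this
      obtain ⟨v, hv⟩ := hfu.exists_left_inv
      refine ⟨v * algebraMap A B c, ?_⟩
      rw [mul_assoc, ← map_mul, hc, map_mul, ← mul_assoc, hv, one_mul]
    · rw [Ideal.span_singleton_le_iff_mem]
      exact Ideal.mem_map_of_mem _ ha

/-- Let X be locally Noetherian and D a closed subscheme with ideal sheaf I. If for every point x of D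
the ideal generated by I in the local ring at x is generated by one nonzerodivisor, then D is an
effective Cartier divisor. -/
theorem result (X : Scheme.{u}) [IsLocallyNoetherian X]
    (D : X.IdealSheafData)
    (h : ∀ x ∈ D.support, ∀ (U : X.affineOpens) (hx : x ∈ (U : X.Opens)),
      ∃ g : X.presheaf.stalk x, g ∈ nonZeroDivisors (X.presheaf.stalk x) ∧
        (D.ideal U).map (X.presheaf.germ U x hx).hom = Ideal.span {g}) :
    BlowUp.IsEffCartierIdeal D := by
  intro x
  obtain ⟨_, ⟨U, hU, rfl⟩, hxU, -⟩ :=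
    X.isBasis_affineOpens.exists_subset_of_mem_open (Set.mem_univ x) isOpen_univ
  let U' : X.affineOpens := ⟨U, hU⟩
  have : IsNoetherianRing Γ(X, U) := IsLocallyNoetherian.component_noetherian U'
  have hmapeq : ∀ f : Γ(X, U), (X.presheaf.map (homOfLE (X.basicOpen_le f)).op).hom =
      algebraMap Γ(X, U) Γ(X, X.basicOpen f) := fun f => rfl
  by_cases hxD : x ∈ D.support
  · obtain ⟨g, hgnzd, hg⟩ := h x hxD U' hxU
    let _ := X.presheaf.algebra_section_stalk ⟨x, hxU⟩
    have hloc := hU.isLocalization_stalk ⟨x, hxU⟩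
    obtain ⟨f, hfp, a, haI, h1, h2⟩ := exists_away_principal (D.ideal U')
      (hU.primeIdealOf ⟨x, hxU⟩).asIdeal (X.presheaf.stalk x) g hgnzd hg
    have hxf : x ∈ X.basicOpen f :=
      (Groth.Agent.S1567.mem_basicOpen_iff_notMem_primeIdealOf hU x hxU f).mpr hfp
    have := hU.isLocalization_basicOpen f
    obtain ⟨h3, h4⟩ := away_principal (D.ideal U') f a haI h1 h2 Γ(X, X.basicOpen f)
    refine ⟨X.affineBasicOpen f, hxf, algebraMap Γ(X, U) Γ(X, X.basicOpen f) a, h3, ?_⟩
    exact (D.map_ideal_basicOpen U' f).symm.trans h4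
  · rw [D.mem_support_iff_of_mem (U := U') hxU,
      Groth.Agent.S1567.mem_zeroLocus_iff_le_primeIdealOf hU x hxU] at hxD
    obtain ⟨f, hfI, hfp⟩ := SetLike.not_le_iff_exists.mp hxD
    have hxf : x ∈ X.basicOpen f :=
      (Groth.Agent.S1567.mem_basicOpen_iff_notMem_primeIdealOf hU x hxU f).mpr hfp
    have := hU.isLocalization_basicOpen f
    refine ⟨X.affineBasicOpen (U := U') f, hxf, 1, one_mem _, ?_⟩
    rw [← D.map_ideal_basicOpen U' f, hmapeq f, Ideal.span_singleton_one]
    apply Ideal.eq_top_of_isUnit_mem _ (Ideal.mem_map_of_mem _ hfI)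
    exact IsLocalization.Away.algebraMap_isUnit f

end Groth.Agent.S1570
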