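import Groth.Statements.S4808
import Mathlib.RingTheory.LocalProperties.IntegrallyClosed

set_option autoImplicit false
universe u
open CategoryTheory AlgebraicGeometry
open Lim8

namespace Groth.Agent.S4808

theorem isIntegrallyClosed_sections {Y : Scheme.{u}} [IsIntegral Y]
    (hN : ∀ y : Y, IsIntegrallyClosed (Y.presheaf.stalk y)) (U : Y.Opens) (hU : IsAffineOpen U)
    [Nonempty U] : IsIntegrallyClosed Γ(Y, U) := by
  refine IsIntegrallyClosed.of_localization_maximal fun P _ hP => ?_
  let y : PrimeSpectrum Γ(Y, U) := ⟨P, hP.isPrime⟩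
  have hy : hU.fromSpec y ∈ U := by
    have := hU.range_fromSpec
    rw [← SetLike.mem_coe, ← this]
    exact ⟨y, rfl⟩
  letI := TopCat.Presheaf.algebra_section_stalk Y.presheaf ⟨hU.fromSpec y, hy⟩
  haveI : IsLocalization.AtPrime (Y.presheaf.stalk (hU.fromSpec y)) P :=
    hU.isLocalization_stalk' y hy
  haveI := hN (hU.fromSpec y)
  exact IsIntegrallyClosed.of_equiv (IsLocalization.algEquiv P.primeCompl
    (Y.presheaf.stalk (hU.fromSpec y)) (Localization.AtPrime P)).toRingEquiv

theorem frac_aux {Y : Scheme.{u}} [IsIntegral Y] (U : Y.Opens) (hU : IsAffineOpen U) [Nonempty U]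
    (η : Y) (hη : η = genericPoint Y) (hηU : η ∈ U) :
    @IsFractionRing Γ(Y, U) _ (Y.presheaf.stalk η) _ (Y.presheaf.germ U η hηU).hom.toAlgebra := by
  subst hη
  exact functionField_isFractionRing_of_isAffineOpen _ U hU

theorem app_bijective {Y' Y : Scheme.{u}} [IsIntegral Y'] [IsIntegral Y]
    (hN : ∀ y : Y, IsIntegrallyClosed (Y.presheaf.stalk y)) (u : Y' ⟶ Y) [IsFinite u]
    (hgen : u (genericPoint Y') = genericPoint Y)
    (hbir : IsIso (u.stalkMap (genericPoint Y')))
    (U : Y.Opens) (hU : IsAffineOpen U) [Nonempty U] : Function.Bijective (u.app U).hom := by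
  have hgU : genericPoint Y ∈ U :=
    ((genericPoint_spec Y).mem_open_set_iff U.isOpen).mpr (by simpa using ‹Nonempty U›)
  have hgU' : u (genericPoint Y') ∈ U := hgen ▸ hgU
  have hgU'' : genericPoint Y' ∈ u ⁻¹ᵁ U := hgU'
  haveI : Nonempty (u ⁻¹ᵁ U : Y'.Opens) := ⟨⟨_, hgU''⟩⟩
  have hcomm := u.germ_stalkMap U (genericPoint Y') hgU'
  have hcomm' : ∀ a, (u.stalkMap (genericPoint Y')).hom ((Y.presheaf.germ U _ hgU').hom a) =
      (Y'.presheaf.germ (u ⁻¹ᵁ U) _ hgU'').hom ((u.app U).hom a) := fun a => by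
    have := congrArg (fun f => f.hom a) hcomm
    simpa using this
  have hA := germ_injective_of_isIntegral (X := Y) _ hgU'
  have hB := germ_injective_of_isIntegral (X := Y') _ hgU''
  have hσ : Function.Bijective (u.stalkMap (genericPoint Y')).hom :=
    ConcreteCategory.bijective_of_isIso _
  refine ⟨fun a b hab => ?_, fun b => ?_⟩
  · apply hA
    apply hσ.1
    rw [hcomm', hcomm', hab]
  · haveI := isIntegrallyClosed_sections hN U hU
    letI : Algebra Γ(Y, U) (Y.presheaf.stalk (u (genericPoint Y'))) :=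
      (Y.presheaf.germ U _ hgU').hom.toAlgebra
    haveI : IsFractionRing Γ(Y, U) (Y.presheaf.stalk (u (genericPoint Y'))) :=
      frac_aux U hU _ hgen hgU'
    obtain ⟨p, hp, hpb⟩ := (u.finite_app U hU).to_isIntegral b
    obtain ⟨c, hc⟩ := hσ.2 ((Y'.presheaf.germ (u ⁻¹ᵁ U) _ hgU'').hom b)
    have hcint : IsIntegral Γ(Y, U) c := by
      refine ⟨p, hp, ?_⟩
      apply hσ.1
      rw [map_zero, Polynomial.hom_eval₂, hc]
      have : (u.stalkMap (genericPoint Y')).hom.comp
          (algebraMap Γ(Y, U) (Y.presheaf.stalk (u (genericPoint Y')))) =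
          (Y'.presheaf.germ (u ⁻¹ᵁ U) _ hgU'').hom.comp (u.app U).hom := by
        ext a
        exact hcomm' a
      rw [this, ← Polynomial.hom_eval₂, hpb, map_zero]
    obtain ⟨a, ha⟩ := IsIntegrallyClosed.algebraMap_eq_of_integral hcint
    refine ⟨a, hB ?_⟩
    rw [← hcomm', ← hc]
    exact congrArg _ ha

set_option backward.isDefEq.respectTransparency false in
theorem aux {Y' Y : Scheme.{u}} [IsIntegral Y'] [IsIntegral Y]
    (hN : ∀ y : Y, IsIntegrallyClosed (Y.presheaf.stalk y)) (u : Y' ⟶ Y) [IsFinite u]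
    (hgen : u (genericPoint Y') = genericPoint Y)
    (hbir : IsIso (u.stalkMap (genericPoint Y'))) : IsIso u := by
  rw [← MorphismProperty.isomorphisms.iff]
  refine HasAffineProperty.of_iSup_eq_top (P := MorphismProperty.isomorphisms Scheme)
    (fun i : {U : Y.affineOpens // Nonempty U.1} ↦ i.1) ?_ (fun i ↦ ⟨?_, ?_⟩)
  · rw [eq_top_iff]
    intro y _
    have hyV : y ∈ (Y.affineCover.f (Y.affineCover.idx y)).opensRange := Y.affineCover.covers y
    exact TopologicalSpace.Opens.mem_iSup.mpr
      ⟨⟨⟨_, isAffineOpen_opensRange (Y.affineCover.f (Y.affineCover.idx y))⟩, ⟨⟨y, hyV⟩⟩⟩, hyV⟩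
  · exact (IsAffineHom.isAffine_preimage (f := u) _ i.1.2 : IsAffineOpen (u ⁻¹ᵁ i.1.1))
  · rw [morphismRestrict_appTop]
    haveI : Nonempty i.1.1 := i.2
    have hV : (i.1.1.ι ''ᵁ ⊤) = i.1.1 := by simp
    haveI : Nonempty (i.1.1.ι ''ᵁ ⊤ : Y.Opens) := by rw [hV]; infer_instance
    have := app_bijective hN u hgen hbir (i.1.1.ι ''ᵁ ⊤) (by rw [hV]; exact i.1.2)
    refine IsIso.comp_isIso' ?_ inferInstance
    exact (ConcreteCategory.isIso_iff_bijective _).mpr this

/-- Let Y' and Y be integral schemes, Y normal (every local ring of Y is integrally closed), and u : Y'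
⟶ Y a finite morphism which is birational: u maps the generic point of Y' to the generic point of Y
and the stalk map of u at the generic point of Y', which is the induced homomorphism of function
fields, is an isomorphism. Then u is an isomorphism. -/
theorem result {Y' Y : Scheme.{u}} [IsIntegral Y'] [IsIntegral Y]
    (hN : ∀ y : Y, IsIntegrallyClosed (Y.presheaf.stalk y)) (u : Y' ⟶ Y) [IsFinite u]
    (hgen : u (genericPoint Y') = genericPoint Y)
    (hbir : IsIso (u.stalkMap (genericPoint Y'))) : IsIso u := by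
  exact aux hN u hgen hbir

end Groth.Agent.S4808
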