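import Groth.Statements.S2347
import Groth.Agent.S4808

set_option autoImplicit false
universe u
open CategoryTheory CategoryTheory.Limits AlgebraicGeometry
open EGA2

namespace Groth.Agent.S2347

theorem core {X X' U' : Scheme.{u}} [IsIntegral X] [IsIntegral X'] [IsIntegral U']
    (hN : ∀ x : X, IsIntegrallyClosed (X.presheaf.stalk x))
    (g : X' ⟶ X) [IsIntegralHom g] (s : U' ⟶ X') [IsOpenImmersion (s ≫ g)]
    (V : X.Opens) (hV : IsAffineOpen V) [Nonempty V] : Function.Bijective (g.app V).hom := by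
  have hgen : (s ≫ g) (genericPoint U') = genericPoint X := genericPoint_eq_of_isOpenImmersion _
  have hgV : genericPoint X ∈ V :=
    ((genericPoint_spec X).mem_open_set_iff V.isOpen).mpr (by simpa using ‹Nonempty V›)
  have hξV : (s ≫ g) (genericPoint U') ∈ V := hgen ▸ hgV
  have hξV' : g (s (genericPoint U')) ∈ V := hξV
  have hξV'' : s (genericPoint U') ∈ g ⁻¹ᵁ V := hξV
  haveI : Nonempty (g ⁻¹ᵁ V : X'.Opens) := ⟨⟨_, hξV''⟩⟩
  -- the maps
  let gA : Γ(X, V) →+* X.presheaf.stalk ((s ≫ g) (genericPoint U')) :=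
    (X.presheaf.germ V _ hξV).hom
  let σ : X.presheaf.stalk ((s ≫ g) (genericPoint U')) →+* U'.presheaf.stalk (genericPoint U') :=
    ((s ≫ g).stalkMap (genericPoint U')).hom
  let τ : Γ(X', g ⁻¹ᵁ V) →+* U'.presheaf.stalk (genericPoint U') :=
    (X'.presheaf.germ (g ⁻¹ᵁ V) _ hξV'' ≫ s.stalkMap (genericPoint U')).hom
  have hσ : Function.Bijective σ := ConcreteCategory.bijective_of_isIso _
  have hgA : Function.Injective gA := germ_injective_of_isIntegral (X := X) _ hξV
  have hcomm : ∀ a, τ ((g.app V).hom a) = σ (gA a) := fun a => by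
    have h1 := g.germ_stalkMap V (s (genericPoint U')) hξV'
    have h2 := Scheme.Hom.stalkMap_comp s g (genericPoint U')
    have : X.presheaf.germ V _ hξV ≫ (s ≫ g).stalkMap (genericPoint U') =
        g.app V ≫ X'.presheaf.germ (g ⁻¹ᵁ V) _ hξV'' ≫ s.stalkMap (genericPoint U') := by
      rw [h2]
      exact g.germ_stalkMap_assoc V (s (genericPoint U')) hξV' (s.stalkMap (genericPoint U'))
    exact (congrArg (fun f => f.hom a) this).symm
  letI : Algebra Γ(X, V) Γ(X', g ⁻¹ᵁ V) := (g.app V).hom.toAlgebra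
  haveI : Algebra.IsIntegral Γ(X, V) Γ(X', g ⁻¹ᵁ V) := ⟨g.isIntegral_app V hV⟩
  have hφ : Function.Injective (g.app V).hom := fun a b hab => by
    apply hgA
    apply hσ.1
    rw [← hcomm, ← hcomm, hab]
  have hτ : Function.Injective τ := by
    rw [RingHom.injective_iff_ker_eq_bot]
    apply Ideal.eq_bot_of_comap_eq_bot (R := Γ(X, V))
    rw [eq_bot_iff]
    intro a ha
    have : τ ((g.app V).hom a) = 0 := ha
    rw [hcomm] at this
    have h0 : a = 0 := by
      apply hgA
      apply hσ.1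
      rw [this, map_zero, map_zero]
    exact h0 ▸ Ideal.zero_mem _
  refine ⟨hφ, fun b => ?_⟩
  haveI := S4808.isIntegrallyClosed_sections hN V hV
  letI : Algebra Γ(X, V) (X.presheaf.stalk ((s ≫ g) (genericPoint U'))) := gA.toAlgebra
  haveI : IsFractionRing Γ(X, V) (X.presheaf.stalk ((s ≫ g) (genericPoint U'))) :=
    S4808.frac_aux V hV _ hgen hξV
  obtain ⟨p, hp, hpb⟩ := g.isIntegral_app V hV b
  obtain ⟨c, hc⟩ := hσ.2 (τ b)
  have hcint : IsIntegral Γ(X, V) c := by
    refine ⟨p, hp, ?_⟩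
    apply hσ.1
    rw [map_zero, Polynomial.hom_eval₂, hc]
    have : σ.comp (algebraMap Γ(X, V) (X.presheaf.stalk ((s ≫ g) (genericPoint U')))) =
        τ.comp (g.app V).hom := by
      ext a
      exact (hcomm a).symm
    rw [this, ← Polynomial.hom_eval₂, hpb, map_zero]
  obtain ⟨a, ha⟩ := IsIntegrallyClosed.algebraMap_eq_of_integral hcint
  refine ⟨a, hτ ?_⟩
  rw [hcomm, ← hc]
  exact congrArg _ ha

set_option backward.isDefEq.respectTransparency false in
theorem aux' {X X' U' : Scheme.{u}} [IsIntegral X] [IsIntegral X'] [IsIntegral U']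
    (hN : ∀ x : X, IsIntegrallyClosed (X.presheaf.stalk x))
    (g : X' ⟶ X) [IsIntegralHom g] (s : U' ⟶ X') [IsOpenImmersion (s ≫ g)] : IsIso g := by
  rw [← MorphismProperty.isomorphisms.iff]
  refine HasAffineProperty.of_iSup_eq_top (P := MorphismProperty.isomorphisms Scheme)
    (fun i : {V : X.affineOpens // Nonempty V.1} ↦ i.1) ?_ (fun i ↦ ⟨?_, ?_⟩)
  · rw [eq_top_iff]
    intro y _
    have hyV : y ∈ (X.affineCover.f (X.affineCover.idx y)).opensRange := X.affineCover.covers y
    exact TopologicalSpace.Opens.mem_iSup.mpr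
      ⟨⟨⟨_, isAffineOpen_opensRange (X.affineCover.f (X.affineCover.idx y))⟩, ⟨⟨y, hyV⟩⟩⟩, hyV⟩
  · exact (IsAffineHom.isAffine_preimage (f := g) _ i.1.2 : IsAffineOpen (g ⁻¹ᵁ i.1.1))
  · rw [morphismRestrict_appTop]
    haveI : Nonempty i.1.1 := i.2
    have hV : (i.1.1.ι ''ᵁ ⊤) = i.1.1 := by simp
    haveI : Nonempty (i.1.1.ι ''ᵁ ⊤ : X.Opens) := by rw [hV]; infer_instance
    have := core hN g s (i.1.1.ι ''ᵁ ⊤) (by rw [hV]; exact i.1.2)
    refine IsIso.comp_isIso' ?_ inferInstance
    exact (ConcreteCategory.isIso_iff_bijective _).mpr this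

theorem aux {X X' : Scheme.{u}} [IsIntegral X] [IsIntegral X'] (hX : Pi1.IsNormalScheme X)
    (g : X' ⟶ X) [IsIntegralHom g] (U : X.Opens) (hU : Dense (U : Set X)) (s : (U : Scheme.{u}) ⟶ X') (hs : s ≫ g = U.ι) :
    IsIso g := by
  haveI : Nonempty U := by
    obtain ⟨x, hx⟩ := hU.nonempty
    exact ⟨⟨x, hx⟩⟩
  haveI : IsOpenImmersion (s ≫ g) := hs ▸ inferInstance
  exact aux' (fun x => (hX x).2) g s

/-- Let X be an integral normal scheme, X' an integral scheme and g : X' → X an integral morphism. If g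
has a rational section (a morphism s from a dense open U of X to X' with g ∘ s the inclusion of U),
then g is an isomorphism. -/
theorem result {X X' : Scheme.{u}} [IsIntegral X] [IsIntegral X'] (hX : Pi1.IsNormalScheme X)
    (g : X' ⟶ X) [IsIntegralHom g] (U : X.Opens) (hU : Dense (U : Set X)) (s : (U : Scheme.{u}) ⟶ X') (hs : s ≫ g = U.ι) :
    IsIso g := by
  exact aux hX g U hU s hs

end Groth.Agent.S2347
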