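import Groth.Statements.S4372
import Mathlib
import Groth.Agent.S4368

set_option autoImplicit false
universe u
open RedSep

namespace Groth.Agent.S4372

open AlgebraicGeometry in
open CategoryTheory in
/-- the kernel of a morphism from a reduced scheme is the vanishing ideal of the closure of its
range -/
theorem ker_eq_vanishingIdeal {X Y : Scheme.{u}} [IsReduced X] (f : X ⟶ Y) :
    f.ker = Scheme.IdealSheafData.vanishingIdeal (.closure (Set.range f)) := by
  have h1 : f.ker = Scheme.IdealSheafData.vanishingIdeal
      (.closure (f '' (⊤ : TopologicalSpace.Closeds X))) := by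
    rw [← Scheme.IdealSheafData.map_vanishingIdeal, Scheme.IdealSheafData.vanishingIdeal_top,
      Scheme.nilradical_eq_bot, Scheme.IdealSheafData.map_bot]
  rw [h1]
  congr 1
  apply TopologicalSpace.Closeds.ext
  simp only [TopologicalSpace.Closeds.coe_closure, TopologicalSpace.Closeds.coe_top,
    Set.image_univ]

open AlgebraicGeometry in
open CategoryTheory in
theorem support_vanishingIdeal {X : Scheme.{u}} (C : TopologicalSpace.Closeds X) :
    (Scheme.IdealSheafData.vanishingIdeal C).support = C :=
  TopologicalSpace.Closeds.ext (Scheme.IdealSheafData.coe_support_vanishingIdeal C)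

open AlgebraicGeometry in
open CategoryTheory in
theorem isReduced_vanishingIdeal_subscheme {X : Scheme.{u}} (C : TopologicalSpace.Closeds X) :
    IsReduced (Scheme.IdealSheafData.vanishingIdeal C).subscheme := by
  rw [Groth.Agent.S4368.isReduced_subscheme_iff]
  rw [← Scheme.IdealSheafData.vanishingIdeal_support, support_vanishingIdeal]

open AlgebraicGeometry in
open CategoryTheory in
/-- Let h : Z -> X be an immersion with Z reduced (a reduced subscheme of X), and let W be the reduced
closed subscheme of X whose underlying space is the closure of h(Z). Then Z is an open subscheme of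
W: h factors as an open immersion Z -> W followed by the closed immersion W -> X. Stated as the
existence of such a factorization through a reduced scheme W closed-immersed onto the closure of the
image. -/
theorem result
    {Z X : Scheme.{u}} (h : Z ⟶ X) [IsImmersion h] [IsReduced Z] :
    ∃ (W : Scheme.{u}) (j : Z ⟶ W) (i : W ⟶ X), IsOpenImmersion j ∧ IsClosedImmersion i ∧
      IsReduced W ∧ Set.range i = closure (Set.range h) ∧ j ≫ i = h := by
  have hker : h.ker = Scheme.IdealSheafData.vanishingIdeal (.closure (Set.range h)) :=
    ker_eq_vanishingIdeal h
  have hred : IsReduced h.image := by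
    change IsReduced h.ker.subscheme
    rw [hker]
    exact isReduced_vanishingIdeal_subscheme _
  have hrange : Set.range h.imageι = closure (Set.range h) := by
    change Set.range h.ker.subschemeι = _
    rw [Scheme.IdealSheafData.range_subschemeι, hker, support_vanishingIdeal]
    rfl
  refine ⟨h.image, h.toImage, h.imageι, ?_, inferInstance, hred, hrange, h.toImage_imageι⟩
  -- the pullback square
  have hpb : IsPullback h.liftCoborder h.toImage h.coborderRange.ι h.imageι := by
    apply isPullback_of_isClosedImmersion
    · rw [h.liftCoborder_ι, h.toImage_imageι]
    · rw [← Scheme.IdealSheafData.ker_fst_of_isClosedImmersion]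
      have hPred : IsReduced (Limits.pullback h.coborderRange.ι h.imageι) :=
        isReduced_of_isOpenImmersion (Limits.pullback.snd h.coborderRange.ι h.imageι)
      rw [ker_eq_vanishingIdeal, ker_eq_vanishingIdeal]
      congr 2
      rw [Scheme.Pullback.range_fst, hrange]
      ext u
      simp only [Set.mem_preimage, Set.mem_range]
      constructor
      · intro hu
        have hu2 : (h.coborderRange.ι u) ∈ coborder (Set.range h) ∩ closure (Set.range h) :=
          ⟨u.2, hu⟩
        rw [coborder_inter_closure] at hu2
        obtain ⟨z, hz⟩ := hu2
        refine ⟨z, ?_⟩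
        apply h.coborderRange.ι.isOpenEmbedding.injective
        rw [← Scheme.Hom.comp_apply, h.liftCoborder_ι]
        exact hz
      · rintro ⟨z, rfl⟩
        rw [← Scheme.Hom.comp_apply, h.liftCoborder_ι]
        exact subset_closure ⟨z, rfl⟩
  exact MorphismProperty.of_isPullback (P := @IsOpenImmersion) hpb inferInstance

end Groth.Agent.S4372
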