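import Groth.Statements.S2358
import Groth.Agent.S2347
import Groth.Agent.S4372

set_option autoImplicit false
universe u
open CategoryTheory CategoryTheory.Limits AlgebraicGeometry
open EGA2

namespace Groth.Agent.S2358

theorem isIntegral_image {U X' : Scheme.{u}} [IsIntegral U] (s : U ⟶ X') : IsIntegral s.image := by
  have hker : s.ker = Scheme.IdealSheafData.vanishingIdeal (.closure (Set.range s)) :=
    S4372.ker_eq_vanishingIdeal s
  haveI hred : IsReduced s.image := by
    change IsReduced s.ker.subscheme
    rw [hker]
    exact S4372.isReduced_vanishingIdeal_subscheme _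
  have hrange : Set.range s.imageι = closure (Set.range s) := by
    change Set.range s.ker.subschemeι = _
    rw [Scheme.IdealSheafData.range_subschemeι, hker, S4372.support_vanishingIdeal]
    rfl
  have hdense : closure (Set.range s.toImage) = Set.univ := by
    rw [s.imageι.isEmbedding.isInducing.closure_eq_preimage_closure_image, ← Set.range_comp]
    have : (s.imageι : s.image → X') ∘ (s.toImage : U → s.image) = (s : U → X') := by
      funext x
      have h : (s.toImage ≫ s.imageι) x = s x := by rw [s.toImage_imageι]
      exact h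
    rw [this, ← hrange]
    exact Set.preimage_range _
  haveI : IrreducibleSpace s.image := by
    rw [irreducibleSpace_def]
    have h1 : IsIrreducible (Set.range s.toImage) := by
      rw [← Set.image_univ]
      exact (IrreducibleSpace.isIrreducible_univ U).image _ s.toImage.continuous.continuousOn
    have := h1.closure
    rwa [hdense] at this
  exact isIntegral_of_irreducibleSpace_of_isReduced _

theorem aux {X X' : Scheme.{u}} [IsIntegral X] (hX : Pi1.IsNormalScheme X)
    (g : X' ⟶ X) [IsIntegralHom g] (U : X.Opens) (hU : Dense (U : Set X)) (s : (U : Scheme.{u}) ⟶ X') (hs : s ≫ g = U.ι) :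
    ∃ s' : X ⟶ X', s' ≫ g = 𝟙 X ∧ U.ι ≫ s' = s := by
  haveI : Nonempty U := by
    obtain ⟨x, hx⟩ := hU.nonempty
    exact ⟨⟨x, hx⟩⟩
  haveI := isIntegral_image s
  have h1 : s.toImage ≫ (s.imageι ≫ g) = U.ι := by
    rw [← Category.assoc, s.toImage_imageι, hs]
  haveI : IsOpenImmersion (s.toImage ≫ (s.imageι ≫ g)) := h1 ▸ inferInstance
  haveI : IsIso (s.imageι ≫ g) := S2347.aux' (fun x => (hX x).2) (s.imageι ≫ g) s.toImage
  refine ⟨inv (s.imageι ≫ g) ≫ s.imageι, ?_, ?_⟩
  · rw [Category.assoc, IsIso.inv_hom_id]
  · rw [← h1]
    simp only [Category.assoc, IsIso.hom_inv_id_assoc]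
    exact s.toImage_imageι

/-- Let X be an integral normal scheme, g : X' → X an integral morphism, U a dense open of X and s : U →
X' a section of g over U. Then there is a section of g over all of X extending s. -/
theorem result {X X' : Scheme.{u}} [IsIntegral X] (hX : Pi1.IsNormalScheme X)
    (g : X' ⟶ X) [IsIntegralHom g] (U : X.Opens) (hU : Dense (U : Set X)) (s : (U : Scheme.{u}) ⟶ X') (hs : s ≫ g = U.ι) :
    ∃ s' : X ⟶ X', s' ≫ g = 𝟙 X ∧ U.ι ≫ s' = s := by
  exact aux hX g U hU s hs

end Groth.Agent.S2358
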