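import Groth.Statements.S18934
import Mathlib
import Groth.Agent.Helper9.SyntRoot
-- import your own Groth.Agent.* helpers here

set_option autoImplicit false
universe u
open Synt

namespace Groth.Agent.S18934

open Polynomial in
/-- Let p be a prime, A a commutative ring and a an element of A. Then the A-algebra A[T]/(T^p − a) is
syntomic and faithfully flat over A. This is the step of the source's proof showing that adjoining a
p-th root of any element is a covering for the syntomic topology. -/
theorem result (p : ℕ) [Fact p.Prime]
    (A : Type u) [CommRing A] (a : A) :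
    Synt.IsSyntomic A (AdjoinRoot (X ^ p - C a)) ∧ Module.FaithfullyFlat A (AdjoinRoot (X ^ p - C a)) := by
  have hmonic : (X ^ p - C a : A[X]).Monic :=
    Polynomial.monic_X_pow_sub_C a (Fact.out : p.Prime).ne_zero
  let pb := AdjoinRoot.powerBasis' hmonic
  haveI : Module.Free A (AdjoinRoot (X ^ p - C a)) := Module.Free.of_basis pb.basis
  haveI : Module.Finite A (AdjoinRoot (X ^ p - C a)) := pb.finite
  refine ⟨Groth.Agent.Helper9.SyntFin.isSyntomic_of_free_presentation 1
    (Groth.Agent.Helper9.SyntRoot.presAdjoinRoot _), ?_⟩
  by_cases hA : Nontrivial A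
  · have hdeg : (X ^ p - C a : A[X]).natDegree = p := Polynomial.natDegree_X_pow_sub_C
    haveI : Nonempty (Fin pb.dim) := by
      have : pb.dim = p := by rw [AdjoinRoot.powerBasis'_dim, hdeg]
      rw [this]
      exact ⟨⟨0, (Fact.out : p.Prime).pos⟩⟩
    exact Groth.Agent.Helper9.SyntRoot.faithfullyFlat_of_basis pb.basis
  · rw [not_nontrivial_iff_subsingleton] at hA
    exact ⟨fun m hm => absurd (Subsingleton.elim m ⊤) hm.ne_top⟩

end Groth.Agent.S18934
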