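import Groth.Statements.S1334
import Groth.Agent.Helper4.GeomFibBC
import Mathlib

set_option autoImplicit false
universe u
open FlatMor

namespace Groth.Agent.S1334


open AlgebraicGeometry CategoryTheory Limits in
/-- The function on the target counting the irreducible components of the geometric fibres (fibres base
changed to a separable closure of the residue field) is compatible with base change: for a cartesian
square it is obtained on the new base by composing with the map to the old base. (This expresses
that the count does not depend on the separably closed field used.) -/
theorem result {X Y X' Y' : Scheme.{u}} (f : X ⟶ Y) (f' : X' ⟶ Y') (g' : X' ⟶ X) (g : Y' ⟶ Y)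
    (hc : IsPullback g' f' f g) (y' : Y') :
    MoreMor.nGeomIrredComp f' y' = MoreMor.nGeomIrredComp f (g y') := by

  exact (Groth.Agent.Helper4.GeomFibBC.geomFiber_card_eq f f' g' g hc y').1

end Groth.Agent.S1334
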