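import Groth.Statements.S9186
import Groth.Agent.Lead.LimPullback
import Mathlib

set_option autoImplicit false
universe u
open CategoryTheory AlgebraicGeometry
open Lim

namespace Groth.Agent.S9186

open Limits in
/-- associativity of fibre products -/
lemma nonempty_iso_chain {A B X₀ Y₀ V : Scheme.{u}} (p : A ⟶ B) (f₀ : X₀ ⟶ Y₀) (g₀ : Y₀ ⟶ B)
    (v : V ⟶ Y₀) :
    Nonempty (pullback p (pullback.fst f₀ v ≫ f₀ ≫ g₀) ≅
      pullback (pullback.snd p (f₀ ≫ g₀) ≫ f₀) v) := by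
  refine ⟨?_⟩
  exact (pullbackLeftPullbackSndIso p (f₀ ≫ g₀) (pullback.fst f₀ v)).symm ≪≫
    pullbackRightPullbackFstIso f₀ v (pullback.snd p (f₀ ≫ g₀))

open Limits Groth.Agent.Lead.LimPullback in
set_option backward.isDefEq.respectTransparency false in
theorem aux {I : Type u} [SmallCategory I] [IsCofiltered I]
    (D : I ⥤ Scheme.{u}) (c : Limits.Cone D) (hc : Limits.IsLimit c)
    [∀ (i j : I) (f : i ⟶ j), IsAffineHom (D.map f)] (i₀ : I) [CompactSpace (D.obj i₀)]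
    [QuasiSeparatedSpace (D.obj i₀)] {X₀ Y₀ : Scheme.{u}} (f₀ : X₀ ⟶ Y₀) (g₀ : Y₀ ⟶ D.obj i₀)
    [CompactSpace X₀] [QuasiSeparatedSpace X₀] [CompactSpace Y₀] [QuasiSeparatedSpace Y₀]
    {X Y : Scheme.{u}} (f : X ⟶ Y) (g : Y ⟶ c.pt) (qY : Y ⟶ Y₀) (qX : X ⟶ X₀)
    (hY : IsPullback qY g g₀ (c.π.app i₀)) (hX : IsPullback qX f f₀ qY) [IsAffineHom f] :
    ∃ (i : I) (φ : i ⟶ i₀) (Xi Yi : Scheme.{u}) (fi : Xi ⟶ Yi) (gi : Yi ⟶ D.obj i) (pY : Yi ⟶ Y₀)
      (pX : Xi ⟶ X₀), IsPullback pY gi g₀ (D.map φ) ∧ IsPullback pX fi f₀ pY ∧ IsAffineHom fi := by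
  classical
  have hA : ∀ {i j : I} (f : i ⟶ j), IsAffineHom (D.map f) := fun f ↦ inferInstance
  have hπ : IsAffineHom (c.π.app i₀) := isAffineHom_π_app D c hc i₀
  let a₀ : X₀ ⟶ D.obj i₀ := f₀ ≫ g₀
  have hqY : IsAffineHom qY := MorphismProperty.of_isPullback (P := @IsAffineHom) hY.flip hπ
  have hP : IsPullback (f ≫ g) qX (c.π.app i₀) a₀ := (hX.paste_vert hY).flip
  let e : X ≅ pullback (c.π.app i₀) a₀ := hP.isoPullback
  have he2 : e.hom ≫ pullback.snd (c.π.app i₀) a₀ = qX := hP.isoPullback_hom_snd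
  let 𝒱 := Y₀.affineCover.finiteSubcover
  have h𝒱 : ∀ r, IsAffine (𝒱.X r) := fun r ↦ by
    dsimp [𝒱, Scheme.OpenCover.finiteSubcover]; infer_instance
  let t : ∀ r : 𝒱.I₀, pullback f₀ (𝒱.f r) ⟶ D.obj i₀ := fun r ↦ pullback.fst f₀ (𝒱.f r) ≫ f₀ ≫ g₀
  -- the limit pieces are affine
  have h1 : ∀ r, IsAffine (pullback (c.π.app i₀) (t r)) := by
    intro r
    obtain ⟨iso⟩ := nonempty_iso_chain (c.π.app i₀) f₀ g₀ (𝒱.f r)
    have haff : IsAffineHom (pullback.snd (c.π.app i₀) (f₀ ≫ g₀) ≫ f₀) := by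
      have e1 : pullback.snd (c.π.app i₀) (f₀ ≫ g₀) ≫ f₀ = e.inv ≫ f ≫ qY := by
        rw [← hX.w, ← Category.assoc, ← he2, Category.assoc, Category.assoc, e.inv_hom_id_assoc]
      rw [e1]
      infer_instance
    have : IsAffineHom (pullback.snd (pullback.snd (c.π.app i₀) (f₀ ≫ g₀) ≫ f₀) (𝒱.f r)) :=
      MorphismProperty.pullback_snd _ _ haff
    have : IsAffine (pullback (pullback.snd (c.π.app i₀) (f₀ ≫ g₀) ≫ f₀) (𝒱.f r)) :=
      isAffine_of_isAffineHom (pullback.snd (pullback.snd (c.π.app i₀) (f₀ ≫ g₀) ≫ f₀) (𝒱.f r))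
    exact .of_isIso iso.hom
  -- some stage piece is affine
  have h2 : ∀ r, ∃ l : Over i₀, IsAffine (pullback (D.map l.hom) (t r)) := by
    intro r
    have hTc : CompactSpace ↥(pullback f₀ (𝒱.f r)) := inferInstance
    have hTq : QuasiSeparatedSpace ↥(pullback f₀ (𝒱.f r)) :=
      quasiSeparatedSpace_of_quasiSeparated (pullback.fst f₀ (𝒱.f r))
    have hEA : ∀ {j k : Over i₀} (u : j ⟶ k), IsAffineHom ((pbDiag D i₀ (t r)).map u) :=
      fun u ↦ isAffineHom_pbDiag_map i₀ (t r) u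
    have hsnd : ∀ l : Over i₀, IsAffineHom (pullback.snd (D.map l.hom) (t r)) := fun l ↦
      MorphismProperty.pullback_snd _ _ (hA l.hom)
    have hEc : ∀ l : Over i₀, CompactSpace ↥((pbDiag D i₀ (t r)).obj l) := fun l ↦ by
      have := hsnd l
      exact QuasiCompact.compactSpace_of_compactSpace (pullback.snd (D.map l.hom) (t r))
    have hEq : ∀ l : Over i₀, QuasiSeparatedSpace ↥((pbDiag D i₀ (t r)).obj l) := fun l ↦ by
      have := hsnd l
      exact quasiSeparatedSpace_of_quasiSeparated (pullback.snd (D.map l.hom) (t r))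
    have hlim : IsAffine (pbCone D c i₀ (t r)).pt := h1 r
    obtain ⟨l, hl⟩ := Scheme.exists_isAffine_of_isLimit (pbDiag D i₀ (t r)) (pbCone D c i₀ (t r))
      (pbConeIsLimit i₀ (t r) hc)
    exact ⟨l, hl⟩
  choose l hl using h2
  have : Finite 𝒱.I₀ := inferInstance
  cases nonempty_fintype 𝒱.I₀
  obtain ⟨k, fk⟩ := IsCofiltered.inf_objs_exists (Finset.univ.image l)
  have hk : ∀ r, IsAffine (pullback (D.map k.hom) (t r)) := by
    intro r
    let u : k ⟶ l r := (fk (Finset.mem_image_of_mem l (Finset.mem_univ r))).some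
    have h3 : IsAffineHom ((pbDiag D i₀ (t r)).map u) := isAffineHom_pbDiag_map i₀ (t r) u
    have h4 : IsAffine ((pbDiag D i₀ (t r)).obj (l r)) := hl r
    exact isAffine_of_isAffineHom ((pbDiag D i₀ (t r)).map u)
  -- the stage `k`
  let fk' : pullback (D.map k.hom) a₀ ⟶ pullback (D.map k.hom) g₀ :=
    pullback.map (D.map k.hom) a₀ (D.map k.hom) g₀ (𝟙 _) f₀ (𝟙 _) (by simp) (by simp [a₀])
  have sqY : IsPullback (pullback.snd (D.map k.hom) g₀) (pullback.fst _ _) g₀ (D.map k.hom) :=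
    (IsPullback.of_hasPullback _ _).flip
  have sqX : IsPullback (pullback.snd (D.map k.hom) a₀) fk' f₀
      (pullback.snd (D.map k.hom) g₀) := by
    refine IsPullback.of_bot ?_ ?_ (IsPullback.of_hasPullback (D.map k.hom) g₀).flip
    · have : fk' ≫ pullback.fst (D.map k.hom) g₀ = pullback.fst (D.map k.hom) a₀ := by
        simp [fk']
      rw [this]
      exact (IsPullback.of_hasPullback (D.map k.hom) a₀).flip
    · simp [fk']
  refine ⟨k.left, k.hom, pullback (D.map k.hom) a₀, pullback (D.map k.hom) g₀, fk',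
    pullback.fst _ _, pullback.snd _ _, pullback.snd _ _, sqY, sqX, ?_⟩
  have hsndY : IsAffineHom (pullback.snd (D.map k.hom) g₀) :=
    MorphismProperty.pullback_snd _ _ (hA k.hom)
  let 𝒰 := 𝒱.pullback₁ (pullback.snd (D.map k.hom) g₀)
  rw [IsZariskiLocalAtTarget.iff_of_openCover (P := @IsAffineHom) 𝒰]
  intro r
  have hXr : IsAffine (𝒰.X r) := by
    have : IsAffineHom (pullback.snd (pullback.snd (D.map k.hom) g₀) (𝒱.f r)) :=
      MorphismProperty.pullback_snd _ _ hsndY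
    exact isAffine_of_isAffineHom (pullback.snd (pullback.snd (D.map k.hom) g₀) (𝒱.f r))
  have hsrc : IsAffine (pullback fk' (𝒰.f r)) := by
    obtain ⟨iso⟩ := nonempty_iso_chain (D.map k.hom) f₀ g₀ (𝒱.f r)
    have h5 : IsAffine (pullback (pullback.snd (D.map k.hom) (f₀ ≫ g₀) ≫ f₀) (𝒱.f r)) := by
      have := hk r
      exact .of_isIso iso.inv
    let iso1 : pullback fk' (pullback.fst (pullback.snd (D.map k.hom) g₀) (𝒱.f r)) ≅
        pullback (fk' ≫ pullback.snd (D.map k.hom) g₀) (𝒱.f r) :=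
      pullbackRightPullbackFstIso (pullback.snd (D.map k.hom) g₀) (𝒱.f r) fk'
    have e2 : fk' ≫ pullback.snd (D.map k.hom) g₀ = pullback.snd (D.map k.hom) (f₀ ≫ g₀) ≫ f₀ := by
      simp [fk', a₀]
    let iso2 : pullback (fk' ≫ pullback.snd (D.map k.hom) g₀) (𝒱.f r) ≅
        pullback (pullback.snd (D.map k.hom) (f₀ ≫ g₀) ≫ f₀) (𝒱.f r) :=
      pullback.congrHom e2 rfl
    exact .of_isIso (iso1 ≪≫ iso2).hom
  have h6 : IsAffine ((𝒰.pullback₁ fk').X r) := hsrc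
  exact isAffineHom_of_isAffine (Scheme.Cover.pullbackHom 𝒰 fk' r)

/-- Let S = lim S_i be a cofiltered limit of schemes with affine transition morphisms, S_{i₀} a
quasi-compact quasi-separated stage, f₀ : X₀ → Y₀ a morphism of quasi-compact quasi-separated
schemes over S_{i₀}, and f : X → Y its base change along S → S_{i₀} (base changes expressed by
pullback squares). If f is affine, then for some index i over i₀ the base change f_i : X_i → Y_i of
f₀ along S_i → S_{i₀} is affine. No finiteness hypothesis on f₀ is needed. -/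
theorem result {I : Type u} [SmallCategory I] [IsCofiltered I]
    (D : I ⥤ Scheme.{u}) (c : Limits.Cone D) (hc : Limits.IsLimit c)
    [∀ (i j : I) (f : i ⟶ j), IsAffineHom (D.map f)] (i₀ : I) [CompactSpace (D.obj i₀)]
    [QuasiSeparatedSpace (D.obj i₀)] {X₀ Y₀ : Scheme.{u}} (f₀ : X₀ ⟶ Y₀) (g₀ : Y₀ ⟶ D.obj i₀)
    [CompactSpace X₀] [QuasiSeparatedSpace X₀] [CompactSpace Y₀] [QuasiSeparatedSpace Y₀]
    {X Y : Scheme.{u}} (f : X ⟶ Y) (g : Y ⟶ c.pt) (qY : Y ⟶ Y₀) (qX : X ⟶ X₀)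
    (hY : IsPullback qY g g₀ (c.π.app i₀)) (hX : IsPullback qX f f₀ qY) [IsAffineHom f] :
    ∃ (i : I) (φ : i ⟶ i₀) (Xi Yi : Scheme.{u}) (fi : Xi ⟶ Yi) (gi : Yi ⟶ D.obj i) (pY : Yi ⟶ Y₀)
      (pX : Xi ⟶ X₀), IsPullback pY gi g₀ (D.map φ) ∧ IsPullback pX fi f₀ pY ∧ IsAffineHom fi := by
  exact aux D c hc i₀ f₀ g₀ f g qY qX hY hX

end Groth.Agent.S9186
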