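import Groth.Statements.S1529
import Mathlib.AlgebraicGeometry.Artinian
import Mathlib.RingTheory.Jacobson.Artinian

set_option autoImplicit false
universe u
open CategoryTheory CategoryTheory.Limits AlgebraicGeometry
open Variety

namespace Groth.Agent.S1529

theorem aux (k : Type u) [Field k] (X : Scheme.{u}) [X.Over (Spec (CommRingCat.of k))]
    [LocallyOfFiniteType (X ↘ (Spec (CommRingCat.of k)))] [QuasiCompact (X ↘ (Spec (CommRingCat.of k)))]
    (hdim : topologicalKrullDim X ≤ 0) :
    IsAffine X ∧ IsFinite (X ↘ (Spec (CommRingCat.of k))) := by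
  set f := X ↘ (Spec (CommRingCat.of k)) with hf
  haveI : IsLocallyNoetherian X := LocallyOfFiniteType.isLocallyNoetherian f
  haveI : IsLocallyArtinian X := IsLocallyArtinian.of_topologicalKrullDim_le_zero hdim
  haveI : CompactSpace X := QuasiCompact.compactSpace_of_compactSpace f
  haveI : DiscreteTopology X := inferInstance
  haveI : Finite X := finite_of_compact_of_discrete
  haveI hA : IsAffine X := inferInstance
  refine ⟨hA, ?_⟩
  rw [HasAffineProperty.iff_of_isAffine (P := @IsFinite)]
  refine ⟨hA, ?_⟩
  have hft : RingHom.FiniteType f.appTop.hom :=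
    (HasRingHomProperty.iff_of_isAffine (P := @LocallyOfFiniteType)).mp inferInstance
  let φ : k →+* Γ(X, ⊤) := f.appTop.hom.comp (Scheme.ΓSpecIso (CommRingCat.of k)).inv.hom
  have hφft : φ.FiniteType :=
    hft.comp (RingHom.FiniteType.of_surjective _
      (Scheme.ΓSpecIso (CommRingCat.of k)).symm.commRingCatIsoToRingEquiv.surjective)
  letI : Algebra k Γ(X, ⊤) := φ.toAlgebra
  haveI : Algebra.FiniteType k Γ(X, ⊤) := hφft
  haveI : IsArtinianRing Γ(X, ⊤) := inferInstance
  have hfin : Module.Finite k Γ(X, ⊤) := Module.finite_of_isArtinianRing k Γ(X, ⊤)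
  have hφfin : φ.Finite := hfin
  exact RingHom.Finite.of_comp_finite hφfin

/-- A scheme of finite type over a field whose underlying topological space has Krull dimension at most
zero is affine, and its structure morphism is finite. -/
theorem result (k : Type u) [Field k] (X : Scheme.{u}) [X.Over (Spec (CommRingCat.of k))]
    [LocallyOfFiniteType (X ↘ (Spec (CommRingCat.of k)))] [QuasiCompact (X ↘ (Spec (CommRingCat.of k)))]
    (hdim : topologicalKrullDim X ≤ 0) :
    IsAffine X ∧ IsFinite (X ↘ (Spec (CommRingCat.of k))) := by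
  exact aux k X hdim

end Groth.Agent.S1529
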