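import Groth.Statements.S9357
import Groth.Agent.Helper5.CompFib2
import Groth.Agent.Helper5.EqAt4
import Groth.Agent.Helper5.VarDim11

set_option autoImplicit false
universe u
open FibDim

namespace Groth.Agent.S9357

open AlgebraicGeometry CategoryTheory in
/-- Suppose both f : X → Y and g : Y → Z are morphisms locally of finite type. When the relative
dimension of f is at most d and that of g is at most e, the composite g ∘ f has relative dimension
at most d + e. Moreover, when f is flat of relative dimension exactly d and g is of relative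
dimension exactly e, the composite g ∘ f is of relative dimension exactly d + e (every nonempty
fibre equidimensional of that dimension). -/
theorem result {X Y Z : Scheme.{u}} (f : X ⟶ Y) (g : Y ⟶ Z) [LocallyOfFiniteType f] [LocallyOfFiniteType g] (d e : ℕ) :
    ((∀ x : ↑X, FlatMor.fibreDimAt f x ≤ d) → (∀ y : ↑Y, FlatMor.fibreDimAt g y ≤ e) →
        ∀ x : ↑X, FlatMor.fibreDimAt (f ≫ g) x ≤ (d + e : ℕ)) ∧
      (Cyc.HasRelDim f d → Cyc.HasRelDim g e → Flat f → Cyc.HasRelDim (f ≫ g) (d + e)) := by
  have hfd : ∀ {A B : Scheme.{u}} (q : A ⟶ B) [LocallyOfFiniteType q] (r : ℕ),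
      Cyc.HasRelDim q r → ∀ a : A, FlatMor.fibreDimAt q a = (r : WithBot ℕ∞) := by
    intro A B q _ r hq a
    have hft : LocallyOfFiniteType (q.fiberToSpecResidueField (q a)) :=
      inferInstanceAs (LocallyOfFiniteType (Limits.pullback.snd q (B.fromSpecResidueField _)))
    exact Groth.Agent.Helper5.VarDim.localDim_eq_of_components (B.residueField (q a))
      (q.fiberToSpecResidueField (q a)) (r : WithBot ℕ∞) (hq (q a)) (q.asFiber a)
  refine ⟨fun hd he x => ?_, fun hf hg hflat z T hT => ?_⟩
  · refine (Groth.Agent.Helper5.CompFib.fibreDimAt_comp f g x).1.trans ?_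
    have := add_le_add (hd x) (he (f x))
    exact_mod_cast this
  · obtain ⟨t₀, -, hdim⟩ := Groth.Agent.Helper5.EqAt.dim_component_fibre_eq (f ≫ g) z T hT
    rw [hdim, (Groth.Agent.Helper5.CompFib.fibreDimAt_comp f g t₀).2 (Flat.stalkMap f t₀),
      hfd f d hf t₀, hfd g e hg (f t₀)]
    push_cast
    rfl

end Groth.Agent.S9357
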