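import Groth.Statements.S2196
import Mathlib

set_option autoImplicit false
universe u v
open Disc

namespace Groth.Agent.S2196

section aux
open TensorProduct
variable {A : Type u} {B : Type v} [CommRing A] [CommRing B] [Algebra A B]

lemma smul_fromIdeal (f : B) (x : KaehlerDifferential.ideal A B) :
    f • KaehlerDifferential.fromIdeal A B x =
      KaehlerDifferential.fromIdeal A B ((f ⊗ₜ[A] (1 : B) : B ⊗[A] B) • x) := by
  have : (f ⊗ₜ[A] (1 : B) : B ⊗[A] B) = f • (1 : B ⊗[A] B) := by
    rw [Algebra.TensorProduct.one_def, TensorProduct.smul_tmul', smul_eq_mul, mul_one]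
  rw [map_smul, this, smul_assoc, one_smul]

lemma fromIdeal_eq_zero_iff (x : KaehlerDifferential.ideal A B) :
    KaehlerDifferential.fromIdeal A B x = 0 ↔ (x : B ⊗[A] B) ∈ KaehlerDifferential.ideal A B ^ 2 :=
  Ideal.toCotangent_eq_zero _ x

lemma lmul_mem_annihilator (s : B ⊗[A] B)
    (hs : s ∈ Submodule.annihilator (KaehlerDifferential.ideal A B)) :
    Algebra.TensorProduct.lmul' (S := B) A s ∈ Module.annihilator B (Ω[B⁄A]) := by
  rw [Module.mem_annihilator]
  intro ω
  obtain ⟨x, rfl⟩ := KaehlerDifferential.fromIdeal_surjective A B ω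
  rw [smul_fromIdeal, fromIdeal_eq_zero_iff]
  set y : B ⊗[A] B := (Algebra.TensorProduct.lmul' (S := B) A s) ⊗ₜ[A] (1 : B) with hy
  have hx : (x : B ⊗[A] B) ∈ KaehlerDifferential.ideal A B := x.2
  have hsx : s * (x : B ⊗[A] B) = 0 := by
    have := Submodule.mem_annihilator.1 hs x hx
    simpa using this
  have hys : y - s ∈ KaehlerDifferential.ideal A B := by
    rw [KaehlerDifferential.ideal, RingHom.mem_ker, map_sub, hy, Algebra.TensorProduct.lmul'_apply_tmul,
      mul_one, sub_self]
  have : ((y • x : KaehlerDifferential.ideal A B) : B ⊗[A] B) = (y - s) * x := by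
    rw [sub_mul, hsx, sub_zero]; rfl
  rw [this, pow_two]
  exact Ideal.mul_mem_mul hys hx

lemma exists_pow_mem [Algebra.FiniteType A B] (f : B) (hf : f ∈ Module.annihilator B (Ω[B⁄A])) :
    ∃ n : ℕ, f ^ n ∈ Disc.noetherDifferent A B := by
  classical
  set I := KaehlerDifferential.ideal A B with hI
  set f' : B ⊗[A] B := f ⊗ₜ[A] (1 : B) with hf'
  have hfin : Module.Finite (B ⊗[A] B) I := Module.Finite.iff_fg.2 (KaehlerDifferential.ideal_fg A B)
  let φ : Module.End (B ⊗[A] B) I := algebraMap (B ⊗[A] B) (Module.End (B ⊗[A] B) I) f'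
  have hφ : ∀ x : I, φ x = f' • x := fun x => rfl
  have hrange : LinearMap.range φ ≤ I • (⊤ : Submodule (B ⊗[A] B) I) := by
    rintro _ ⟨x, rfl⟩
    rw [hφ]
    have h0 : KaehlerDifferential.fromIdeal A B (f' • x) = 0 := by
      rw [← smul_fromIdeal]
      exact Module.mem_annihilator.1 hf _
    rw [fromIdeal_eq_zero_iff] at h0
    rw [Submodule.mem_smul_top_iff]
    rw [pow_two] at h0
    exact h0
  obtain ⟨p, hmonic, -, hcoeff, hp⟩ :=
    LinearMap.exists_monic_and_natDegree_eq_and_coeff_mem_pow_and_aeval_eq_zero (B ⊗[A] B) φ I hrange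
  rw [Polynomial.aeval_algebraMap_apply_eq_algebraMap_eval] at hp
  set s := Polynomial.eval f' p with hs
  have hsann : s ∈ Submodule.annihilator I := by
    rw [Submodule.mem_annihilator]
    intro x hx
    have := LinearMap.congr_fun hp ⟨x, hx⟩
    have h2 : s • (⟨x, hx⟩ : I) = 0 := this
    have := congrArg Subtype.val h2
    simpa using this
  refine ⟨p.natDegree, ?_⟩
  have hμ : Algebra.TensorProduct.lmul' (S := B) A s = f ^ p.natDegree := by
    have h1 : Algebra.TensorProduct.lmul' (S := B) A s =
        Polynomial.eval ((Algebra.TensorProduct.lmul' (S := B) A) f')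
          (p.map (Algebra.TensorProduct.lmul' (S := B) A).toRingHom) := by
      rw [hs, Polynomial.eval_map]
      exact (Polynomial.eval₂_hom (Algebra.TensorProduct.lmul' (S := B) A).toRingHom f').symm
    have h2 : p.map (Algebra.TensorProduct.lmul' (S := B) A).toRingHom = Polynomial.X ^ p.natDegree := by
      ext k
      rw [Polynomial.coeff_map, Polynomial.coeff_X_pow]
      by_cases hk : k = p.natDegree
      · rw [if_pos hk, hk, hmonic.coeff_natDegree, map_one]
      · rw [if_neg hk]
        rcases lt_or_gt_of_ne hk with hlt | hgt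
        · have h3 := hcoeff k
          have h4 : I ^ (p.natDegree - k) ≤ I := by
            apply Ideal.pow_le_self
            omega
          exact (RingHom.mem_ker).1 (h4 h3)
        · rw [Polynomial.coeff_eq_zero_of_natDegree_lt hgt, map_zero]
    rw [h1, h2, Polynomial.eval_pow, Polynomial.eval_X, hf', Algebra.TensorProduct.lmul'_apply_tmul, mul_one]
  rw [← hμ]
  exact Ideal.mem_map_of_mem _ hsann

end aux

/-- Let A -> B be a ring map of finite type and D its Noether different (the image in B of the
annihilator of the kernel of B tensor_A B -> B). Then a prime q of B contains D exactly when A -> B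
is not unramified at q. -/
theorem result {A : Type u} {B : Type v}
    [CommRing A] [CommRing B] [Algebra A B] [Algebra.FiniteType A B] :
    {q : PrimeSpectrum B | Disc.noetherDifferent A B ≤ q.asIdeal} =
      (Algebra.unramifiedLocus A B)ᶜ := by
  rw [Algebra.unramifiedLocus_eq_compl_support, compl_compl]
  ext q
  rw [Set.mem_setOf_eq, Module.mem_support_iff_of_finite]
  constructor
  · intro h f hf
    obtain ⟨n, hn⟩ := exists_pow_mem f hf
    exact q.isPrime.mem_of_pow_mem n (h hn)
  · intro h
    refine le_trans ?_ h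
    unfold Disc.noetherDifferent
    rw [Ideal.map_le_iff_le_comap]
    intro s hs
    exact lmul_mem_annihilator s hs

end Groth.Agent.S2196
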