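import Groth.Statements.S2215
import Mathlib
import Groth.Agent.Helper1.NoetherDiff

set_option autoImplicit false
universe u v
open Disc

namespace Groth.Agent.S2215

section aux
open TensorProduct Groth.Agent.Helper1.TraceEtale Groth.Agent.Helper1.NoetherDiff
variable {A : Type u} {B : Type v} [CommRing A] [CommRing B] [Algebra A B]

lemma ev_add (φ ψ : B →ₗ[A] A) (ξ : B ⊗[A] B) : ev (φ + ψ) ξ = ev φ ξ + ev ψ ξ := by
  induction ξ using TensorProduct.induction_on with
  | zero => simp
  | tmul x y => simp [add_smul]
  | add x y hx hy => rw [map_add, map_add, map_add, hx, hy]; abel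

/-- the `B`-linear map `ω → B` attached to an element of the annihilator -/
noncomputable def PhiOf {ι : Type*} [Fintype ι] [DecidableEq ι] (b : Module.Basis ι A B) (ξ : B ⊗[A] B)
    (hξ : ξ ∈ Submodule.annihilator (RingHom.ker (Algebra.TensorProduct.lmul' (S := B) A))) :
    Disc.Omega A B →ₗ[B] B where
  toFun l := ev l.toLinearMap ξ
  map_add' l l' := by
    rw [Disc.Omega.add_toLinearMap, ev_add]
  map_smul' s l := by
    rw [omega_smul_toLinearMap, RingHom.id_apply, smul_eq_mul]
    exact ((mem_annihilator_iff_ev b ξ).1 hξ s l.toLinearMap).symm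

end aux

/-- Special case: B finite free over A (the source allows flat quasi-finite maps of Noetherian rings).
Let omega = Hom_A(B, A) with its B-module structure through the argument and tau in omega the trace.
Then an element of B lies in the Noether different of B over A exactly when it is of the form
phi(tau) for some B-linear map phi : omega -> B. -/
theorem result {A : Type u} {B : Type v} [CommRing A]
    [CommRing B] [Algebra A B] [IsNoetherianRing A] [Module.Finite A B] [Module.Free A B] :
    (Disc.noetherDifferent A B : Set B) =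
      Set.range (fun φ : Disc.Omega A B →ₗ[B] B => φ (Disc.Omega.trace A B)) := by
  classical
  have := Module.Free.ChooseBasisIndex.fintype A B
  set b := Module.Free.chooseBasis A B
  have hsurj : Function.Surjective (Algebra.TensorProduct.lmul' (S := B) A) := by
    intro x
    exact ⟨x ⊗ₜ[A] 1, by simp⟩
  ext x
  constructor
  · intro hx
    have hx' : x ∈ Ideal.map (Algebra.TensorProduct.lmul' (S := B) A)
        (Submodule.annihilator (RingHom.ker (Algebra.TensorProduct.lmul' (S := B) A))) := hx
    rw [Ideal.mem_map_iff_of_surjective _ hsurj] at hx'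
    obtain ⟨ξ, hξ, rfl⟩ := hx'
    refine ⟨PhiOf b ξ hξ, ?_⟩
    change Groth.Agent.Helper1.TraceEtale.ev (Algebra.trace A B) ξ = _
    exact Groth.Agent.Helper1.NoetherDiff.ev_trace b ξ hξ
  · rintro ⟨Φ, rfl⟩
    have h1 := Groth.Agent.Helper1.NoetherDiff.ev_xi b Φ (Disc.Omega.trace A B)
    have h2 := Groth.Agent.Helper1.NoetherDiff.ev_trace b _ (Groth.Agent.Helper1.NoetherDiff.xi_mem b Φ)
    change Φ (Disc.Omega.trace A B) ∈ Ideal.map (Algebra.TensorProduct.lmul' (S := B) A)
        (Submodule.annihilator (RingHom.ker (Algebra.TensorProduct.lmul' (S := B) A)))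
    rw [← h1]
    change Groth.Agent.Helper1.TraceEtale.ev (Algebra.trace A B) _ ∈ _
    rw [h2]
    exact Ideal.mem_map_of_mem _ (Groth.Agent.Helper1.NoetherDiff.xi_mem b Φ)

end Groth.Agent.S2215
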