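import Groth.Statements.S6367
import Mathlib

set_option autoImplicit false
universe u
open scoped TensorProduct
open CAlg

namespace Groth.Agent.S6367

/-- Let 0 → M₁ → M₂ → M₃ → 0 be a short exact sequence of R-modules (f injective, g surjective, image of
f = kernel of g). If M₁ and M₃ are coherent — finitely generated with every finitely generated
submodule finitely presented — then so is M₂. -/
theorem result (R : Type u) [CommRing R] {M₁ M₂ M₃ : Type u}
    [AddCommGroup M₁] [Module R M₁] [AddCommGroup M₂] [Module R M₂] [AddCommGroup M₃] [Module R M₃]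
    (f : M₁ →ₗ[R] M₂) (g : M₂ →ₗ[R] M₃) (hf : Function.Injective f) (hg : Function.Surjective g)
    (hfg : LinearMap.range f = LinearMap.ker g)
    (h₁ : (Module.Finite R M₁ ∧ ∀ N : Submodule R M₁, N.FG → Module.FinitePresentation R N))
    (h₃ : (Module.Finite R M₃ ∧ ∀ N : Submodule R M₃, N.FG → Module.FinitePresentation R N)) :
    (Module.Finite R M₂ ∧ ∀ N : Submodule R M₂, N.FG → Module.FinitePresentation R N) := by
  obtain ⟨hfin₁, hcoh₁⟩ := h₁
  obtain ⟨hfin₃, hcoh₃⟩ := h₃
  have hex : Function.Exact f g := by
    rw [LinearMap.exact_iff]; exact hfg.symm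
  refine ⟨Module.Finite.of_exact hex hg, ?_⟩
  intro N hN
  -- image in M₃
  have hN₃ : (N.map g).FG := hN.map g
  haveI : Module.FinitePresentation R (N.map g) := hcoh₃ _ hN₃
  haveI : Module.Finite R N := Module.Finite.iff_fg.2 hN
  let l : N →ₗ[R] N.map g := g.submoduleMap N
  have hl : Function.Surjective l := g.submoduleMap_surjective N
  have hker : (LinearMap.ker l).FG := Module.FinitePresentation.fg_ker l hl
  -- the submodule of M₁
  let N₁ : Submodule R M₁ := N.comap f
  -- the map N₁ → ker l
  let φ : N₁ →ₗ[R] LinearMap.ker l :=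
    LinearMap.codRestrict (LinearMap.ker l)
      (LinearMap.codRestrict N (f ∘ₗ N₁.subtype) (fun x => x.2))
      (fun x => by
        rw [LinearMap.mem_ker]
        apply Subtype.ext
        change g (f x.1) = 0
        exact hex.apply_apply_eq_zero x.1)
  have hφinj : Function.Injective φ := by
    intro x y hxy
    apply Subtype.ext
    apply hf
    exact congrArg (fun z => ((z : LinearMap.ker l) : N).1) hxy
  have hφsurj : Function.Surjective φ := by
    rintro ⟨⟨y, hy⟩, hy'⟩
    rw [LinearMap.mem_ker] at hy'
    have hgy : g y = 0 := congrArg Subtype.val hy'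
    obtain ⟨x, rfl⟩ := (hex y).1 hgy
    exact ⟨⟨x, hy⟩, rfl⟩
  let e : N₁ ≃ₗ[R] LinearMap.ker l := LinearEquiv.ofBijective φ ⟨hφinj, hφsurj⟩
  have hN₁ : N₁.FG := by
    rw [← Module.Finite.iff_fg]
    haveI : Module.Finite R (LinearMap.ker l) := Module.Finite.iff_fg.2 hker
    exact Module.Finite.equiv e.symm
  haveI : Module.FinitePresentation R N₁ := hcoh₁ _ hN₁
  haveI : Module.FinitePresentation R (LinearMap.ker l) := Module.FinitePresentation.of_equiv e
  exact Module.finitePresentation_of_ker l hl

end Groth.Agent.S6367
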