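import Groth.Statements.S6366
import Mathlib
import Groth.Agent.S6367

set_option autoImplicit false
universe u
open scoped TensorProduct
open CAlg

namespace Groth.Agent.S6366

/-- coherent module (local abbreviation) -/
def Coh (R : Type u) [CommRing R] (M : Type u) [AddCommGroup M] [Module R M] : Prop :=
  Module.Finite R M ∧ ∀ N : Submodule R M, N.FG → Module.FinitePresentation R N

lemma coh_of_equiv {R : Type u} [CommRing R] {M M' : Type u} [AddCommGroup M] [Module R M]
    [AddCommGroup M'] [Module R M'] (e : M ≃ₗ[R] M') (h : Coh R M) : Coh R M' := by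
  obtain ⟨hfin, hcoh⟩ := h
  refine ⟨Module.Finite.equiv e, ?_⟩
  intro N hN
  haveI : Module.FinitePresentation R (N.map e.symm.toLinearMap) := hcoh _ (hN.map _)
  exact Module.FinitePresentation.of_equiv (e.symm.submoduleMap N).symm

lemma coh_quotient {R : Type u} [CommRing R] {M : Type u} [AddCommGroup M] [Module R M]
    (h : Coh R M) (K : Submodule R M) (hK : K.FG) : Coh R (M ⧸ K) := by
  obtain ⟨hfin, hcoh⟩ := h
  refine ⟨inferInstance, ?_⟩
  intro N' hN'
  set N : Submodule R M := N'.comap K.mkQ with hNdef
  have hmap : N.map K.mkQ = N' := Submodule.map_comap_eq_of_surjective K.mkQ_surjective N'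
  have hKN : K ≤ N := by
    intro x hx
    change K.mkQ x ∈ N'
    rw [Submodule.mkQ_apply, (Submodule.Quotient.mk_eq_zero K).2 hx]
    exact N'.zero_mem
  have hNfg : N.FG := by
    apply Submodule.fg_of_fg_map_of_fg_inf_ker K.mkQ
    · rw [hmap]; exact hN'
    · rw [Submodule.ker_mkQ, inf_eq_right.2 hKN]; exact hK
  haveI : Module.FinitePresentation R N := hcoh N hNfg
  let l : N →ₗ[R] N.map K.mkQ := K.mkQ.submoduleMap N
  have hl : Function.Surjective l := K.mkQ.submoduleMap_surjective N
  have hker : (LinearMap.ker l).FG := by
    apply Submodule.fg_of_fg_map_injective N.subtype N.injective_subtype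
    have : (LinearMap.ker l).map N.subtype = K := by
      ext x
      constructor
      · rintro ⟨y, hy, rfl⟩
        rw [SetLike.mem_coe, LinearMap.mem_ker] at hy
        have : K.mkQ y.1 = 0 := congrArg Subtype.val hy
        rwa [Submodule.mkQ_apply, Submodule.Quotient.mk_eq_zero] at this
      · intro hx
        refine ⟨⟨x, hKN hx⟩, ?_, rfl⟩
        rw [SetLike.mem_coe, LinearMap.mem_ker]
        apply Subtype.ext
        change K.mkQ x = 0
        rwa [Submodule.mkQ_apply, Submodule.Quotient.mk_eq_zero]
    rw [this]; exact hK
  have := Module.finitePresentation_of_surjective l hl hker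
  rwa [hmap] at this

lemma coh_pi {R : Type u} [CommRing R]
    (hR : ∀ I : Ideal R, I.FG → Module.FinitePresentation R I) (n : ℕ) : Coh R (Fin n → R) := by
  induction n with
  | zero =>
    refine ⟨inferInstance, ?_⟩
    intro N _
    haveI : Subsingleton N := inferInstance
    exact Module.finitePresentation_of_projective R N
  | succ n ih =>
    let f : R →ₗ[R] (Fin (n + 1) → R) := LinearMap.single R (fun _ => R) 0
    let g : (Fin (n + 1) → R) →ₗ[R] (Fin n → R) := LinearMap.pi (fun i => LinearMap.proj i.succ)
    have hf : Function.Injective f := Pi.single_injective (M := fun _ : Fin (n+1) => R) 0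
    have hg : Function.Surjective g := by
      intro w
      refine ⟨Fin.cons 0 w, ?_⟩
      ext i
      simp [g]
    have hfg : LinearMap.range f = LinearMap.ker g := by
      ext v
      constructor
      · rintro ⟨r, rfl⟩
        rw [LinearMap.mem_ker]
        ext i
        simp [f, g, Pi.single_apply, Fin.succ_ne_zero]
      · intro hv
        rw [LinearMap.mem_ker] at hv
        refine ⟨v 0, ?_⟩
        ext i
        refine Fin.cases ?_ (fun j => ?_) i
        · simp [f]
        · have := congrFun hv j
          simp [g] at this
          simp [f, Pi.single_apply, Fin.succ_ne_zero, this]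
    exact Groth.Agent.S6367.result R f g hf hg hfg ⟨inferInstance, fun N hN => hR N hN⟩ ih

/-- Let R be a coherent ring, i.e. every finitely generated ideal of R is finitely presented. Then an
R-module is coherent (finitely generated, and every finitely generated submodule is finitely
presented) if and only if it is finitely presented. -/
theorem result (R : Type u) [CommRing R]
    (hR : ∀ I : Ideal R, I.FG → Module.FinitePresentation R I) (M : Type u) [AddCommGroup M] [Module R M] :
    (Module.Finite R M ∧ ∀ N : Submodule R M, N.FG → Module.FinitePresentation R N) ↔ Module.FinitePresentation R M := by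
  constructor
  · rintro ⟨hfin, hcoh⟩
    haveI : Module.FinitePresentation R (⊤ : Submodule R M) := hcoh ⊤ hfin.1
    exact Module.FinitePresentation.of_equiv (Submodule.topEquiv (R := R) (M := M))
  · intro hfp
    obtain ⟨n, K, e, hK⟩ := Module.FinitePresentation.exists_fin R M
    exact coh_of_equiv e.symm (coh_quotient (coh_pi hR n) K hK)

end Groth.Agent.S6366
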