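import Groth.Statements.S7047
import Groth.Agent.Helper3.DRingIdeal
import Groth.Agent.Helper3.DRingH

set_option autoImplicit false
universe u
attribute [local instance] HasDerivedCategory.standard
open CategoryTheory
open DRing

namespace Groth.Agent.S7047

open Groth.Agent.Helper3.DRingLib

/-- For a commutative ring A and an object K of D(A), the set of elements f of A such that every
morphism from A_f (placed in degree 0) to any shift K[n] vanishes is a radical ideal of A. -/
theorem result {A : Type u} [CommRing A] (K : Dual.D A) :
    ∃ J : Ideal A, J.IsRadical ∧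
      (J : Set A) = {f : A | ∀ n : ℤ, Subsingleton (Dual.inD A (Localization.Away f) ⟶ K⟦n⟧)} := by
  classical
  let P : A → Prop := fun f => ∀ i : ℤ, Function.Bijective (seqOp f (Dual.HD A K i))
  have hP : ∀ f : A, (∀ n : ℤ, Subsingleton (Dual.inD A (Localization.Away f) ⟶ K⟦n⟧)) ↔ P f := by
    intro f
    have h1 : (∀ n : ℤ, Subsingleton (Dual.inD A (Localization.Away f) ⟶ K⟦n⟧)) ↔ DCf f K := by
      constructor
      · intro h n g
        have := h n
        exact Subsingleton.elim _ _
      · intro h n
        exact ⟨fun x y => by rw [h n x, h n y]⟩
    rw [h1, dcf_iff_homology]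
    exact forall_congr' fun i => dcf_module_iff_seq f _
  let J : Ideal A :=
    { carrier := {f | P f}
      zero_mem' := fun i => seqOp_bijective_of_pow_mem ∅ _ (by simp) 0 1 (by simp)
      add_mem' := by
        intro f g hf hg i
        refine seqOp_bijective_of_pow_mem {f, g} _ ?_ (f + g) 1 ?_
        · intro x hx
          rcases Finset.mem_insert.mp hx with rfl | hx
          · exact hf i
          · rw [Finset.mem_singleton] at hx; subst hx; exact hg i
        · rw [pow_one]
          refine Ideal.add_mem _ (Ideal.subset_span (by simp)) (Ideal.subset_span (by simp))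
      smul_mem' := by
        intro c f hf i
        refine seqOp_bijective_of_pow_mem {f} _ ?_ (c • f) 1 ?_
        · intro x hx
          rw [Finset.mem_singleton] at hx; subst hx; exact hf i
        · rw [pow_one, smul_eq_mul]
          exact Ideal.mul_mem_left _ c (Ideal.subset_span (by simp)) }
  refine ⟨J, ?_, ?_⟩
  · intro f hf
    obtain ⟨n, hn⟩ := hf
    intro i
    refine seqOp_bijective_of_pow_mem {f ^ n} _ ?_ f n ?_
    · intro x hx
      rw [Finset.mem_singleton] at hx; subst hx; exact hn i
    · exact Ideal.subset_span (by simp)
  · ext f
    exact (hP f).symm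

end Groth.Agent.S7047
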