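import Groth.Statements.S0379
import Groth.Agent.Helper1.FlatBC

set_option autoImplicit false
universe u v
open LocCoh

namespace Groth.Agent.S0379

/-- For a homomorphism of Noetherian rings A → B, if local cohomology with support in I vanishes above
degree d on all A-modules then local cohomology with support in IB vanishes above degree d on all
B-modules; if B is faithfully flat over A the converse holds too. -/
theorem result (A : Type u) [CommRing A] [IsNoetherianRing A] (B : Type u) [CommRing B] [IsNoetherianRing B] [Algebra A B] (I : Ideal A) (d : ℕ) : (LocCoh.CdLE A I d → LocCoh.CdLE B (I.map (algebraMap A B)) d) ∧ (Module.FaithfullyFlat A B → LocCoh.CdLE B (I.map (algebraMap A B)) d → LocCoh.CdLE A I d) := by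
  constructor
  · intro h N _ _ i hi
    letI : Module A N := Module.compHom N (algebraMap A B)
    haveI : IsScalarTower A B N := IsScalarTower.of_algebraMap_smul (fun _ _ => rfl)
    obtain ⟨φ, -⟩ := Groth.Agent.Helper1.LocCohBase.exists_addEquiv (R' := B) I N i
    have := h N i hi
    exact φ.toEquiv.subsingleton
  · intro hff h M _ _ i hi
    obtain ⟨e⟩ := Groth.Agent.Helper1.FlatBC.nonempty_linearEquiv B I M i
    have := h (TensorProduct A B M) i hi
    have : Subsingleton (TensorProduct A B (LocCoh.H I i M)) := e.toEquiv.subsingleton
    exact Module.FaithfullyFlat.lTensor_reflects_triviality A B (LocCoh.H I i M)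

end Groth.Agent.S0379
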