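import Groth.Statements.S1662
import Mathlib
import Groth.Agent.Lead.EffCartier
import Groth.Agent.Helper9.IdealComap

set_option autoImplicit false
universe u
open CategoryTheory CategoryTheory.Limits AlgebraicGeometry
open Divisors

namespace Groth.Agent.S1662

open TensorProduct
open Groth.Agent.Lead.EffCartier



/-- `t` nzd in `B`, `B/(t)` flat over `A`: then `t ⊗ 1` is a nonzerodivisor of `B ⊗_A A'`. -/
theorem nzd_tmul_one {A B A' : Type*} [CommRing A] [CommRing B] [CommRing A'] [Algebra A B]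
    [Algebra A A'] (t : B) (ht : t ∈ nonZeroDivisors B) [Module.Flat A (B ⧸ Ideal.span {t})] :
    (t ⊗ₜ[A] (1 : A')) ∈ nonZeroDivisors (B ⊗[A] A') := by
  let μ : B →ₗ[A] B := LinearMap.mulLeft A t
  let π : B →ₗ[A] (B ⧸ Ideal.span {t}) := (Ideal.Quotient.mkₐ A (Ideal.span {t})).toLinearMap
  have hπ : Function.Surjective π := Ideal.Quotient.mk_surjective
  have hμ : Function.Injective μ := by
    rw [injective_iff_map_eq_zero]
    intro b hb
    exact (mul_left_mem_nonZeroDivisors_eq_zero_iff ht).mp hb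
  have hex : Function.Exact μ π := by
    intro c
    change Ideal.Quotient.mk _ c = 0 ↔ _
    rw [Ideal.Quotient.eq_zero_iff_mem, Ideal.mem_span_singleton']
    constructor
    · rintro ⟨d, rfl⟩; exact ⟨d, by simp [μ, mul_comm]⟩
    · rintro ⟨d, rfl⟩; exact ⟨d, by simp [μ, mul_comm]⟩
  have hinj : Function.Injective (μ.rTensor A') := by
    rw [← LinearMap.lTensor_inj_iff_rTensor_inj]
    exact LinearMap.lTensor_injective_of_exact_of_flat π hπ μ hμ hex A'
  have hmul : ∀ z : B ⊗[A] A', (μ.rTensor A') z = (t ⊗ₜ[A] (1 : A')) * z := by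
    intro z
    induction z using TensorProduct.induction_on with
    | zero => simp
    | tmul b a => simp [μ, Algebra.TensorProduct.tmul_mul_tmul]
    | add x y hx hy => rw [map_add, hx, hy, mul_add]
  rw [mem_nonZeroDivisors_iff_right]
  intro z hz
  apply hinj
  rw [map_zero, hmul, mul_comm]
  exact hz

/-- nonzerodivisors along a pushout square of commutative rings. -/
theorem nzd_of_isPushout {A B A' C : CommRingCat.{u}} (φ : A ⟶ B) (ψ : A ⟶ A') (α : B ⟶ C)
    (β : A' ⟶ C) (h : IsPushout φ ψ α β) (t : B) (ht : t ∈ nonZeroDivisors B)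
    (hflat : ((Ideal.Quotient.mk (Ideal.span {t})).comp φ.hom).Flat) :
    α.hom t ∈ nonZeroDivisors C := by
  rw [ringHomFlat_quot_iff] at hflat
  let _ := φ.hom.toAlgebra
  let _ := ψ.hom.toAlgebra
  have h' := CommRingCat.isPushout_tensorProduct A B A'
  let e := h.isoIsPushout _ _ h'
  have he : α ≫ e.hom = CommRingCat.ofHom (Algebra.TensorProduct.includeLeftRingHom) :=
    h.inl_isoIsPushout_hom _ _ h'
  have h1 : e.hom.hom (α.hom t) = t ⊗ₜ[A] (1 : A') := by
    have := congrArg (fun F => F.hom t) he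
    simpa using this
  have h2 := nzd_tmul_one (A := A) (A' := A') t ht
  rw [mem_nonZeroDivisors_iff_right]
  intro z hz
  have h3 : e.hom.hom z * (t ⊗ₜ[A] (1 : A')) = 0 := by
    rw [← h1, ← map_mul, hz, map_zero]
  have h4 : e.hom.hom z = 0 := (mul_right_mem_nonZeroDivisors_eq_zero_iff h2).mp h3
  have hinj : Function.Injective e.hom.hom := (ConcreteCategory.bijective_of_isIso e.hom).1
  exact hinj (by rw [h4, map_zero])

/-- Let f : X → S, D an effective Cartier divisor on X such that D → S is flat, and g : S' → S any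
morphism. Then the inverse image of D in X ×_S S' is an effective Cartier divisor. -/
theorem result {X S S' : Scheme.{u}} (f : X ⟶ S) (D : X.IdealSheafData) (hD : BlowUp.IsEffCartierIdeal D)
    [Flat (D.subschemeι ≫ f)] (g : S' ⟶ S) :
    BlowUp.IsEffCartierIdeal (D.comap (pullback.fst f g)) := by
  intro x'
  have H : IsPullback (pullback.fst f g) (pullback.snd f g) f g := IsPullback.of_hasPullback f g
  obtain ⟨_, ⟨U, hU, rfl⟩, hsU, -⟩ :=
    S.isBasis_affineOpens.exists_subset_of_mem_open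
      (Set.mem_univ (f (pullback.fst f g x'))) isOpen_univ
  obtain ⟨W, hxW, hWU, t, ht, e⟩ :=
    exists_le_of_isEffCartier D hD (pullback.fst f g x') (f ⁻¹ᵁ U) hsU
  have hqx : pullback.snd f g x' ∈ g ⁻¹ᵁ U := by
    change g (pullback.snd f g x') ∈ U
    have h1 : (pullback.snd f g ≫ g) x' = (pullback.fst f g ≫ f) x' := by
      rw [pullback.condition]
    rw [Scheme.Hom.comp_apply, Scheme.Hom.comp_apply] at h1
    rw [h1]
    exact hsU
  obtain ⟨_, ⟨U', hU', rfl⟩, hs'U', hU'U⟩ :=
    S'.isBasis_affineOpens.exists_subset_of_mem_open hqx (g ⁻¹ᵁ U).2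
  have hUST : U' ≤ g ⁻¹ᵁ U := hU'U
  have hV' : IsAffineOpen (pullback.fst f g ⁻¹ᵁ W.1 ⊓ pullback.snd f g ⁻¹ᵁ U') := by
    have : IsAffine (U : Scheme.{u}) := hU
    have : IsAffine (U' : Scheme.{u}) := hU'
    have : IsAffine (W.1 : Scheme.{u}) := W.2
    exact .of_isIso (Scheme.Hom.isPullback_resLE H hUST hWU rfl).isoPullback.hom
  have hpush := (isIso_pushoutSection_iff H hUST hWU rfl).mp
    (isIso_pushoutSection_of_isAffineOpen H hUST hWU rfl hU hU' W.2)
  have k := flat_quot_of_flat f D ⟨U, hU⟩ W hWU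
  rw [e] at k
  have hnzd := nzd_of_isPushout _ _ _ _ hpush t ht k
  refine ⟨⟨_, hV'⟩, ⟨hxW, hs'U'⟩, _, hnzd, ?_⟩
  rw [Groth.Agent.Helper9.IdealComap.ideal_comap (pullback.fst f g) D W ⟨_, hV'⟩ inf_le_left, e,
    Ideal.map_span, Set.image_singleton]

end Groth.Agent.S1662
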