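import Groth.Statements.S1686
import Mathlib

set_option autoImplicit false
universe u
open CategoryTheory CategoryTheory.Limits AlgebraicGeometry TopologicalSpace
open SDiv

namespace Groth.Agent.S1686

theorem dim_affineOpen {Y : Scheme.{u}} {W : Y.Opens} (hW : IsAffineOpen W) :
    topologicalKrullDim (W : Set Y) = ringKrullDim Γ(Y, W) := by
  rw [← PrimeSpectrum.topologicalKrullDim_eq_ringKrullDim]
  exact IsHomeomorph.topologicalKrullDim_eq _ (Scheme.homeoOfIso hW.isoSpec).isHomeomorph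

theorem dim_nonneg_of_nonempty (X : Type*) [TopologicalSpace X] [Nonempty X] :
    0 ≤ topologicalKrullDim X := by
  rw [topologicalKrullDim]
  have : Nonempty (IrreducibleCloseds X) :=
    ⟨⟨closure {Classical.arbitrary X}, isIrreducible_singleton.closure, isClosed_closure⟩⟩
  exact Order.krullDim_nonneg

theorem lt_of_add_one_le {x y : WithBot ℕ∞} (h : x + 1 ≤ y) (hy : y ≠ ⊤) (hy0 : 0 ≤ y) :
    x < y := by
  induction x with
  | bot => exact lt_of_lt_of_le (WithBot.bot_lt_coe 0) hy0
  | coe a =>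
    induction y with
    | bot => simp at hy0
    | coe b =>
      have hb : b ≠ ⊤ := fun hb => hy (by rw [hb]; rfl)
      have h' : a + 1 ≤ b := by exact_mod_cast h
      have ha : a ≠ ⊤ := by
        rintro rfl
        simp at h'
        exact hb h'
      exact_mod_cast (ENat.add_one_le_iff ha).mp h'

theorem dim_mono_opens {X : Type*} [TopologicalSpace X] (W U : Set X) (h : W ⊆ U) :
    topologicalKrullDim W ≤ topologicalKrullDim U := by
  have : Topology.IsInducing (Set.inclusion h) := (Topology.IsEmbedding.inclusion h).isInducing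
  exact this.topologicalKrullDim_le

/-- Let D be the closed subscheme of an effective Cartier divisor on a scheme S and d a point of D with
image s in S. If the local dimension of S at s is finite, then the local dimension of D at d is
strictly smaller. -/
theorem result (S : Scheme.{u}) (𝓘 : S.IdealSheafData) (h𝓘 : BlowUp.IsEffCartierIdeal 𝓘) (d : ↥𝓘.subscheme)
    (hfin : FlatMor.localDim ↥S (𝓘.subschemeι d) ≠ ⊤) :
    FlatMor.localDim ↥𝓘.subscheme d < FlatMor.localDim ↥S (𝓘.subschemeι d) := by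
  set s := 𝓘.subschemeι d with hs
  have hkey : ∀ U : S.Opens, s ∈ U →
      FlatMor.localDim ↥𝓘.subscheme d + 1 ≤ topologicalKrullDim (U : Set S) := by
    intro U hsU
    obtain ⟨V, hsV, g, hgnzd, hg⟩ := h𝓘 s
    obtain ⟨f, hfle, hsf⟩ := V.2.exists_basicOpen_le (V := U) ⟨s, hsU⟩ hsV
    have hloc := V.2.isLocalization_basicOpen f
    let W : S.affineOpens := S.affineBasicOpen f
    have hWU : (W.1 : Set S) ⊆ U := hfle
    have hmapeq : (S.presheaf.map (homOfLE (S.basicOpen_le f)).op).hom =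
      algebraMap Γ(S, V.1) Γ(S, S.basicOpen f) := rfl
    have hidW : 𝓘.ideal W = Ideal.span {algebraMap Γ(S, V.1) Γ(S, S.basicOpen f) g} := by
      rw [← 𝓘.map_ideal_basicOpen V f, hmapeq, hg, Ideal.map_span, Set.image_singleton]
    have hg' : algebraMap Γ(S, V.1) Γ(S, S.basicOpen f) g ∈ nonZeroDivisors Γ(S, S.basicOpen f) :=
      IsLocalization.map_nonZeroDivisors_le (Submonoid.powers f) _
        (Submonoid.mem_map_of_mem _ hgnzd)
    -- the open neighbourhood of d
    have hdW : d ∈ 𝓘.subschemeι ⁻¹ᵁ W.1 := hsf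
    have haff : IsAffineOpen (𝓘.subschemeι ⁻¹ᵁ W.1) := W.2.preimage 𝓘.subschemeι
    have h1 : FlatMor.localDim ↥𝓘.subscheme d ≤
        topologicalKrullDim ((𝓘.subschemeι ⁻¹ᵁ W.1 : 𝓘.subscheme.Opens) : Set 𝓘.subscheme) :=
      iInf_le (fun U : {U : Opens 𝓘.subscheme // d ∈ U} => topologicalKrullDim (U.1 : Set 𝓘.subscheme))
        ⟨𝓘.subschemeι ⁻¹ᵁ W.1, hdW⟩
    rw [dim_affineOpen haff] at h1
    have h2 : ringKrullDim Γ(𝓘.subscheme, 𝓘.subschemeι ⁻¹ᵁ W.1) =
        ringKrullDim (Γ(S, W.1) ⧸ 𝓘.ideal W) :=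
      ringKrullDim_eq_of_ringEquiv (𝓘.subschemeObjIso W).commRingCatIsoToRingEquiv
    rw [h2, hidW] at h1
    have h3 := ringKrullDim_quotient_succ_le_of_nonZeroDivisor hg'
    have h4 : ringKrullDim Γ(S, S.basicOpen f) = topologicalKrullDim (W.1 : Set S) :=
      (dim_affineOpen W.2).symm
    calc FlatMor.localDim ↥𝓘.subscheme d + 1
        ≤ ringKrullDim (Γ(S, S.basicOpen f) ⧸ Ideal.span {algebraMap Γ(S, V.1) Γ(S, S.basicOpen f) g}) + 1 :=
          add_le_add_left h1 1
      _ ≤ ringKrullDim Γ(S, S.basicOpen f) := h3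
      _ = topologicalKrullDim (W.1 : Set S) := h4
      _ ≤ topologicalKrullDim (U : Set S) := dim_mono_opens _ _ hWU
  have h5 : FlatMor.localDim ↥𝓘.subscheme d + 1 ≤ FlatMor.localDim ↥S s :=
    le_iInf fun U => hkey U.1 U.2
  have h6 : (0 : WithBot ℕ∞) ≤ FlatMor.localDim ↥S s := by
    refine le_iInf fun U => ?_
    have : Nonempty (U.1 : Set S) := ⟨⟨s, U.2⟩⟩
    exact dim_nonneg_of_nonempty _
  exact lt_of_add_one_le h5 hfin h6

end Groth.Agent.S1686
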