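import Groth.Statements.S7543
import Mathlib

set_option autoImplicit false
universe u
open ConstrTop

namespace Groth.Agent.S7543

open Topology Set in
/-- induction principle: constructible sets are finite unions of differences of retrocompact opens -/
theorem sdiff_union_induction {X : Type u} [TopologicalSpace X]
    {P : ∀ s : Set X, IsConstructible s → Prop}
    (sdiff : ∀ (U V : Set X) (hUo : IsOpen U) (hUr : IsRetrocompact U) (hVo : IsOpen V)
      (hVr : IsRetrocompact V), P (U \ V) ((hUr.isConstructible hUo).sdiff (hVr.isConstructible hVo)))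
    (union : ∀ s hs t ht, P s hs → P t ht → P (s ∪ t) (hs.union ht))
    (s : Set X) (hs : IsConstructible s) : P s hs := by
  induction s, hs using BooleanSubalgebra.closure_sdiff_sup_induction with
  | isSublattice =>
    exact ⟨fun s hs t ht ↦ ⟨hs.1.union ht.1, hs.2.union ht.2⟩,
      fun s hs t ht ↦ ⟨hs.1.inter ht.1, hs.2.inter_isOpen ht.2 ht.1⟩⟩
  | bot_mem => exact ⟨isOpen_empty, .empty⟩
  | top_mem => exact ⟨isOpen_univ, .univ⟩
  | sdiff U hU V hV => exact sdiff U V hU.1 hU.2 hV.1 hV.2
  | sup s _ t _ hs' ht' => exact union _ _ _ _ hs' ht'

open Topology Set in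
/-- constructible sets are retrocompact -/
theorem isRetrocompact_of_isConstructible {X : Type u} [TopologicalSpace X] {s : Set X}
    (hs : IsConstructible s) : IsRetrocompact s := by
  induction s, hs using sdiff_union_induction with
  | sdiff U V hUo hUr hVo hVr =>
    intro K hKc hKo
    have : (U \ V) ∩ K = (U ∩ K) \ V := by
      ext x; simp only [mem_inter_iff, mem_sdiff]; tauto
    rw [this]
    exact (hUr hKc hKo).diff hVo
  | union s hs t ht ihs iht => exact ihs.union iht


open Topology Set in
/-- preimages of constructible sets under an inducing map with retrocompact range into a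
prespectral space are constructible -/
theorem isConstructible_preimage_of_isInducing {T Y : Type u} [TopologicalSpace T]
    [TopologicalSpace Y] [PrespectralSpace Y] {f : T → Y} (hf : IsInducing f)
    (hr : IsRetrocompact (range f)) {s : Set Y} (hs : IsConstructible s) :
    IsConstructible (f ⁻¹' s) := by
  refine hs.preimage hf.continuous fun V hVo hVr => ?_
  intro W hWc hWo
  obtain ⟨O, hOo, rfl⟩ := hf.isOpen_iff.mp hWo
  obtain ⟨Q, hQc, hQo, hWQ, hQO⟩ := PrespectralSpace.exists_isCompact_and_isOpen_between
    (hWc.image hf.continuous) hOo (by rintro _ ⟨x, hx, rfl⟩; exact hx)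
  have h1 : f ⁻¹' V ∩ f ⁻¹' O = f ⁻¹' (range f ∩ (V ∩ Q)) := by
    ext x
    simp only [mem_inter_iff, mem_preimage, mem_range, exists_apply_eq_apply, true_and]
    constructor
    · rintro ⟨h1, h2⟩
      exact ⟨h1, hWQ ⟨x, h2, rfl⟩⟩
    · rintro ⟨h1, h2⟩
      exact ⟨h1, hQO h2⟩
  rw [h1, hf.isCompact_preimage_iff inter_subset_left]
  exact hr (hVr hQc hQo) (hVo.inter hQo)

open Topology Set in
theorem prespectralSpace_of_isInducing {T Y : Type u} [TopologicalSpace T]
    [TopologicalSpace Y] [PrespectralSpace Y] {f : T → Y} (hf : IsInducing f)
    (hr : IsRetrocompact (range f)) : PrespectralSpace T := by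
  refine PrespectralSpace.of_isInducing f hf ⟨hf.continuous, fun Q hQo hQc => ?_⟩
  have : f ⁻¹' Q = f ⁻¹' (range f ∩ Q) := by
    ext x; simp
  rw [this, hf.isCompact_preimage_iff inter_subset_left]
  exact hr hQc hQo


open Topology Set in
theorem aux {X : Type u} [TopologicalSpace X] [PrespectralSpace X]
    (E : Set X) (hE : Topology.IsConstructible E) (F : Set E) (hF : Topology.IsConstructible F) :
    Topology.IsConstructible ((Subtype.val : E → X) '' F) := by
  revert F
  induction E, hE using sdiff_union_induction with
  | sdiff U V hUo hUr hVo hVr =>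
    intro F hF
    have hsub : U \ V ⊆ U := sdiff_subset
    have hcl : IsClosed (Subtype.val ⁻¹' (U \ V) : Set U) := by
      have : (Subtype.val ⁻¹' (U \ V) : Set U) = (Subtype.val ⁻¹' V)ᶜ := by
        ext x; simp [x.2]
      rw [this]
      exact (hVo.preimage continuous_subtype_val).isClosed_compl
    have hj : IsClosedEmbedding (Set.inclusion hsub) := IsClosedEmbedding.inclusion hsub hcl
    have hrange : (range (Set.inclusion hsub))ᶜ = (Subtype.val ⁻¹' V : Set U) := by
      ext x
      simp only [range_inclusion, mem_compl_iff, mem_ofPred_eq, mem_sdiff, not_and, not_not,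
        mem_preimage]
      exact ⟨fun h => h x.2, fun h _ => h⟩
    have h1 : IsConstructible (Set.inclusion hsub '' F) :=
      hF.image_of_isClosedEmbedding hj (by
        rw [hrange]; exact hVr.preimage_of_isOpenEmbedding hUo.isOpenEmbedding_subtypeVal)
    have h2 := h1.image_of_isOpenEmbedding hUo.isOpenEmbedding_subtypeVal (by simpa using hUr)
    rw [image_image] at h2
    exact h2
  | union s hs t ht ihs iht =>
    intro F hF
    have hst : IsConstructible (s ∪ t) := hs.union ht
    have hr : IsRetrocompact (range (Subtype.val : ↥(s ∪ t) → X)) := by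
      rw [Subtype.range_coe]; exact isRetrocompact_of_isConstructible hst
    haveI : PrespectralSpace ↥(s ∪ t) := prespectralSpace_of_isInducing IsInducing.subtypeVal hr
    have key : ∀ (a : Set X) (ha : IsConstructible a) (hsub : a ⊆ s ∪ t),
        IsConstructible (Set.inclusion hsub ⁻¹' F) := by
      intro a ha hsub
      refine isConstructible_preimage_of_isInducing (IsEmbedding.inclusion hsub).isInducing ?_ hF
      have : range (Set.inclusion hsub) = (Subtype.val ⁻¹' a : Set ↥(s ∪ t)) := by
        ext x; simp [range_inclusion]
      rw [this]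
      exact isRetrocompact_of_isConstructible
        (isConstructible_preimage_of_isInducing IsInducing.subtypeVal hr ha)
    have h1 := ihs _ (key s hs subset_union_left)
    have h2 := iht _ (key t ht subset_union_right)
    convert h1.union h2 using 1
    ext x
    simp only [mem_image, Subtype.exists, mem_union, exists_and_right, exists_eq_right,
      mem_preimage]
    constructor
    · rintro ⟨hx, hxF⟩
      rcases hx with hx | hx
      · exact Or.inl ⟨hx, hxF⟩
      · exact Or.inr ⟨hx, hxF⟩
    · rintro (⟨hx, hxF⟩ | ⟨hx, hxF⟩)
      · exact ⟨Or.inl hx, hxF⟩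
      · exact ⟨Or.inr hx, hxF⟩

/-- Let X be a topological space such that the quasi-compact opens form a basis for the topology. Let E
⊆ X be constructible in X and let F be a constructible subset of the subspace E. Then F, viewed in
X, is constructible in X. -/
theorem result {X : Type u} [TopologicalSpace X] [PrespectralSpace X]
    (E : Set X) (hE : Topology.IsConstructible E) (F : Set E) (hF : Topology.IsConstructible F) :
    Topology.IsConstructible ((Subtype.val : E → X) '' F) := by
  exact aux E hE F hF

end Groth.Agent.S7543
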