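import Groth.Statements.S7549
import Mathlib
import Groth.Agent.S7543

set_option autoImplicit false
universe u
open PtTop

namespace Groth.Agent.S7549

/-- a nonempty constructible subset of a Jacobson space contains a closed point -/
theorem exists_closedPoint_of_isConstructible {X : Type u} [TopologicalSpace X] [JacobsonSpace X]
    {E : Set X} (hE : Topology.IsConstructible E) (hne : E.Nonempty) :
    (E ∩ closedPoints X).Nonempty := by
  induction E, hE using Groth.Agent.S7543.sdiff_union_induction with
  | sdiff U V hUo hUr hVo hVr =>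
    exact nonempty_inter_closedPoints hne (hUo.isLocallyClosed.inter hVo.isClosed_compl.isLocallyClosed)
  | union s hs t ht ihs iht =>
    obtain ⟨x, hx | hx⟩ := hne
    · obtain ⟨y, hy, hy'⟩ := ihs ⟨x, hx⟩
      exact ⟨y, Or.inl hy, hy'⟩
    · obtain ⟨y, hy, hy'⟩ := iht ⟨x, hx⟩
      exact ⟨y, Or.inr hy, hy'⟩

theorem subset_of_preimage_subset_open {X : Type u} [TopologicalSpace X] [JacobsonSpace X]
    {U V : Set X} (hU : IsOpen U) (hV : IsOpen V)
    (h : (Subtype.val : closedPoints X → X) ⁻¹' U ⊆ Subtype.val ⁻¹' V) : U ⊆ V := by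
  by_contra hcon
  rw [Set.not_subset] at hcon
  obtain ⟨x, hxU, hxV⟩ := hcon
  obtain ⟨y, ⟨hyU, hyV⟩, hy⟩ := nonempty_inter_closedPoints (Z := U \ V) ⟨x, hxU, hxV⟩
    (hU.isLocallyClosed.inter hV.isClosed_compl.isLocallyClosed)
  exact hyV (h (a := ⟨y, hy⟩) hyU)

theorem isCompact_iff {X : Type u} [TopologicalSpace X] [JacobsonSpace X]
    {U : Set X} (hU : IsOpen U) :
    IsCompact U ↔ IsCompact ((Subtype.val : closedPoints X → X) ⁻¹' U) := by
  constructor
  · intro hc
    rw [isCompact_iff_finite_subcover]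
    intro ι W hWo hcov
    choose V hVo hVW using fun i => isOpen_induced_iff.mp (hWo i)
    have hUV : U ⊆ ⋃ i, V i := by
      refine subset_of_preimage_subset_open hU (isOpen_iUnion hVo) ?_
      rw [Set.preimage_iUnion]
      simpa [hVW] using hcov
    obtain ⟨t, ht⟩ := hc.elim_finite_subcover V hVo hUV
    refine ⟨t, ?_⟩
    intro x hx
    obtain ⟨i, hi, hxi⟩ := Set.mem_iUnion₂.mp (ht hx)
    refine Set.mem_iUnion₂.mpr ⟨i, hi, ?_⟩
    rw [← hVW i]
    exact hxi
  · intro hc
    rw [isCompact_iff_finite_subcover]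
    intro ι V hVo hcov
    obtain ⟨t, ht⟩ := hc.elim_finite_subcover (fun i => Subtype.val ⁻¹' V i)
      (fun i => (hVo i).preimage continuous_subtype_val) (by
        rw [← Set.preimage_iUnion]; exact Set.preimage_mono hcov)
    refine ⟨t, subset_of_preimage_subset_open hU (isOpen_biUnion fun i _ => hVo i) ?_⟩
    simpa only [Set.preimage_iUnion] using ht

theorem isRetrocompact_iff {X : Type u} [TopologicalSpace X] [JacobsonSpace X]
    {U : Set X} (hU : IsOpen U) :
    IsRetrocompact U ↔ IsRetrocompact ((Subtype.val : closedPoints X → X) ⁻¹' U) := by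
  constructor
  · intro hr K₀ hK₀c hK₀o
    obtain ⟨K, hKo, rfl⟩ := isOpen_induced_iff.mp hK₀o
    have hKc : IsCompact K := (isCompact_iff hKo).mpr hK₀c
    rw [← Set.preimage_inter]
    exact (isCompact_iff (hU.inter hKo)).mp (hr hKc hKo)
  · intro hr K hKc hKo
    have := hr ((isCompact_iff hKo).mp hKc) (hKo.preimage continuous_subtype_val)
    rw [← Set.preimage_inter] at this
    exact (isCompact_iff (hU.inter hKo)).mpr this

theorem aux {X : Type u} [TopologicalSpace X] [JacobsonSpace X] :
    (∀ U : Set X, IsOpen U →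
      (IsCompact U ↔ IsCompact ((Subtype.val : closedPoints X → X) ⁻¹' U)) ∧
      (IsRetrocompact U ↔ IsRetrocompact ((Subtype.val : closedPoints X → X) ⁻¹' U))) ∧
    (∀ E : Set X, Topology.IsConstructible E →
      Topology.IsConstructible ((Subtype.val : closedPoints X → X) ⁻¹' E)) ∧
    (∀ E E' : Set X, Topology.IsConstructible E → Topology.IsConstructible E' →
      ((Subtype.val : closedPoints X → X) ⁻¹' E ⊆ Subtype.val ⁻¹' E' ↔ E ⊆ E')) ∧
    (∀ F : Set (closedPoints X), Topology.IsConstructible F →
      ∃ E : Set X, Topology.IsConstructible E ∧ (Subtype.val : closedPoints X → X) ⁻¹' E = F) := by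
  refine ⟨fun U hU => ⟨isCompact_iff hU, isRetrocompact_iff hU⟩, ?_, ?_, ?_⟩
  · intro E hE
    exact hE.preimage continuous_subtype_val fun s hso hsr => (isRetrocompact_iff hso).mp hsr
  · intro E E' hE hE'
    constructor
    · intro h
      by_contra hcon
      rw [Set.not_subset] at hcon
      obtain ⟨x, hxE, hxE'⟩ := hcon
      obtain ⟨y, ⟨hyE, hyE'⟩, hy⟩ := exists_closedPoint_of_isConstructible (hE.sdiff hE')
        ⟨x, hxE, hxE'⟩
      exact hyE' (h (a := ⟨y, hy⟩) hyE)
    · intro h
      exact Set.preimage_mono h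
  · intro F hF
    induction hF using Topology.IsConstructible.empty_union_induction with
    | open_retrocompact W hWo hWr =>
      obtain ⟨U, hUo, rfl⟩ := isOpen_induced_iff.mp hWo
      exact ⟨U, ((isRetrocompact_iff hUo).mpr hWr).isConstructible hUo, rfl⟩
    | union s hs t ht ihs iht =>
      obtain ⟨E₁, h1, rfl⟩ := ihs
      obtain ⟨E₂, h2, rfl⟩ := iht
      exact ⟨E₁ ∪ E₂, h1.union h2, rfl⟩
    | compl s hs ihs =>
      obtain ⟨E₁, h1, rfl⟩ := ihs
      exact ⟨E₁ᶜ, h1.compl, rfl⟩

/-- Let X be a Jacobson space and X₀ ⊆ X the subspace of closed points. (a) For U ⊆ X open, U is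
quasi-compact if and only if U ∩ X₀ is quasi-compact, and U is retrocompact in X if and only if U ∩
X₀ is retrocompact in X₀. (b) The rule E ↦ E ∩ X₀ is an inclusion-preserving and
inclusion-reflecting bijection between the constructible subsets of X and the constructible subsets
of X₀. -/
theorem result {X : Type u} [TopologicalSpace X] [JacobsonSpace X] :
    (∀ U : Set X, IsOpen U →
      (IsCompact U ↔ IsCompact ((Subtype.val : closedPoints X → X) ⁻¹' U)) ∧
      (IsRetrocompact U ↔ IsRetrocompact ((Subtype.val : closedPoints X → X) ⁻¹' U))) ∧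
    (∀ E : Set X, Topology.IsConstructible E →
      Topology.IsConstructible ((Subtype.val : closedPoints X → X) ⁻¹' E)) ∧
    (∀ E E' : Set X, Topology.IsConstructible E → Topology.IsConstructible E' →
      ((Subtype.val : closedPoints X → X) ⁻¹' E ⊆ Subtype.val ⁻¹' E' ↔ E ⊆ E')) ∧
    (∀ F : Set (closedPoints X), Topology.IsConstructible F →
      ∃ E : Set X, Topology.IsConstructible E ∧ (Subtype.val : closedPoints X → X) ⁻¹' E = F) := by
  exact aux

end Groth.Agent.S7549
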