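import Groth.Statements.S5331


set_option autoImplicit false
universe u
open CategoryTheory CategoryTheory.Limits MonoidalCategory CartesianMonoidalCategory MonObj GrpObj AlgebraicGeometry
open SGA3

namespace Groth.Agent.S5331

/-- A group scheme whose unit section is a closed immersion is separated. -/
theorem isSeparated_of_isClosedImmersion_one (S : Scheme.{u}) (G : Over S) [GrpObj G]
    (hη : IsClosedImmersion η[G].left) : IsSeparated G.hom := by
  let d : G ⊗ G ⟶ G := (fst G G)⁻¹ * snd G G
  have hw : ∀ {T : Scheme.{u}} (a : T ⟶ (G ⊗ G).left) (t : T ⟶ S),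
      a ≫ d.left = t ≫ η[G].left → a ≫ (G ⊗ G).hom = t := by
    intro T a t h
    have h1 : d.left ≫ G.hom = (G ⊗ G).hom := Over.w d
    have h2 : η[G].left ≫ G.hom = 𝟙 S := Over.w η[G]
    rw [← h1, ← Category.assoc, h, Category.assoc, h2, Category.comp_id]
  have hkey : ∀ {T : Scheme.{u}} (a : T ⟶ (G ⊗ G).left) (t : T ⟶ S),
      a ≫ d.left = t ≫ η[G].left → a ≫ pullback.fst G.hom G.hom = a ≫ pullback.snd G.hom G.hom := by
    intro T a t h
    let T' : Over S := Over.mk t
    let a' : T' ⟶ G ⊗ G := Over.homMk a (hw a t h)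
    have h1 : a' ≫ d = 1 := by
      rw [Hom.one_def]
      ext
      exact h
    have h2 : (a' ≫ fst G G)⁻¹ * (a' ≫ snd G G) = 1 := by
      rw [← h1, MonObj.comp_mul, GrpObj.comp_inv]
    have h3 : a' ≫ fst G G = a' ≫ snd G G := inv_mul_eq_one.mp h2
    have := congrArg (fun f => f.left) h3
    exact this
  have hsq : IsPullback (pullback.diagonal G.hom) G.hom d.left η[G].left := by
    have hcomm : pullback.diagonal G.hom ≫ d.left = G.hom ≫ η[G].left := by
      have h1 : lift (𝟙 G) (𝟙 G) ≫ d = 1 := by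
        show lift (𝟙 G) (𝟙 G) ≫ ((fst G G)⁻¹ * snd G G) = 1
        rw [MonObj.comp_mul, GrpObj.comp_inv]
        simp
      have h2 : (lift (𝟙 G) (𝟙 G)).left = pullback.diagonal G.hom := by
        rw [Over.lift_left]
        apply pullback.hom_ext
        · rw [pullback.diagonal_fst, pullback.lift_fst]; rfl
        · rw [pullback.diagonal_snd, pullback.lift_snd]; rfl
      rw [← h2, ← Over.comp_left, h1, Hom.one_def]
      simp
    refine ⟨⟨hcomm⟩, ⟨PullbackCone.IsLimit.mk _ (fun s => s.fst ≫ pullback.fst G.hom G.hom)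
      (fun s => ?_) (fun s => ?_) (fun s m h1 h2 => ?_)⟩⟩
    · apply pullback.hom_ext
      · simp
      · rw [Category.assoc, Category.assoc, pullback.diagonal_snd, Category.comp_id]
        exact hkey s.fst s.snd s.condition
    · have := hw s.fst s.snd s.condition
      rw [Over.tensorObj_hom] at this
      rw [Category.assoc]; exact this
    · rw [← h1, Category.assoc, pullback.diagonal_fst, Category.comp_id]
  exact ⟨MorphismProperty.of_isPullback (P := @IsClosedImmersion) hsq.flip hη⟩

theorem aux (S : Scheme.{u}) [DiscreteTopology S] (G : Over S) [GrpObj G] :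
    IsSeparated G.hom := by
  apply isSeparated_of_isClosedImmersion_one
  -- η.left is a closed immersion: check locally over the opens G.hom ⁻¹ᵁ {s}
  let U : S → G.left.Opens := fun s => G.hom ⁻¹ᵁ ⟨{s}, isOpen_discrete _⟩
  have hU : iSup U = ⊤ := by
    rw [eq_top_iff]
    intro x _
    rw [TopologicalSpace.Opens.mem_iSup]
    exact ⟨G.hom x, rfl⟩
  have hη : η[G].left ≫ G.hom = 𝟙 S := Over.w η[G]
  rw [IsZariskiLocalAtTarget.iff_of_iSup_eq_top (P := @IsClosedImmersion) U hU]
  intro s
  have hsub : Subsingleton ↥(η[G].left ⁻¹ᵁ U s) := by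
    refine ⟨fun a b => Subtype.ext ?_⟩
    have ha : G.hom (η[G].left a.1) = s := a.2
    have hb : G.hom (η[G].left b.1) = s := b.2
    have h1 : ∀ t : S, G.hom (η[G].left t) = t := fun t => by
      show (η[G].left ≫ G.hom) t = t
      rw [hη]; rfl
    rw [h1] at ha hb
    rw [ha, hb]
  -- retraction
  have hrange : Set.range ((U s).ι ≫ G.hom) ⊆ Set.range (η[G].left ⁻¹ᵁ U s).ι := by
    rintro _ ⟨x, rfl⟩
    rw [Scheme.Opens.range_ι]
    show η[G].left (((U s).ι ≫ G.hom) x) ∈ U s
    show G.hom (η[G].left (G.hom x.1)) ∈ ({s} : Set S)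
    have h1 : ∀ t : S, G.hom (η[G].left t) = t := fun t => by
      show (η[G].left ≫ G.hom) t = t
      rw [hη]; rfl
    rw [h1]
    exact x.2
  let r : (U s : Scheme) ⟶ (η[G].left ⁻¹ᵁ U s : Scheme) :=
    IsOpenImmersion.lift (η[G].left ⁻¹ᵁ U s).ι ((U s).ι ≫ G.hom) hrange
  have hr : (η[G].left ∣_ U s) ≫ r = 𝟙 _ := by
    rw [← cancel_mono (η[G].left ⁻¹ᵁ U s).ι, Category.assoc, IsOpenImmersion.lift_fac,
      ← Category.assoc, morphismRestrict_ι, Category.assoc, hη]
    simp
  haveI : Subsingleton ((η[G].left ⁻¹ᵁ U s : S.Opens) : Scheme.{u}) := hsub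
  exact isClosedImmersion_of_comp_eq_id r (η[G].left ∣_ U s) hr

/-- Let S be a scheme whose underlying topological space is discrete. Then every S-group scheme is
separated over S. -/
theorem result (S : Scheme.{u}) [DiscreteTopology S] (G : Over S) [GrpObj G] :
    IsSeparated G.hom := by
  exact aux S G

end Groth.Agent.S5331
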