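import Groth.Statements.S2141
import Groth.Agent.Helper5.FtDim8

set_option autoImplicit false
universe u
open CAlg

namespace Groth.Agent.S2141

/-- Let `S` be of finite type over a field `k` and `𝔭` a prime of `S` whose residue field has
transcendence degree `r` over `k`. Then the local dimension of `Spec S` at `𝔭` equals `dim S_𝔭 + r`. -/
theorem result {k S : Type u} [Field k] [CommRing S] [Algebra k S] [Algebra.FiniteType k S]
    (p : Ideal S) [p.IsPrime] (r : ℕ) (hr : Algebra.trdeg k p.ResidueField = r) :
    FlatMor.localDim (PrimeSpectrum S) ⟨p, inferInstance⟩ = ringKrullDim (Localization.AtPrime p) + (r : WithBot ℕ∞) := by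
  have h1 := Groth.Agent.Helper5.FtDim.localDim_eq k S ⟨p, inferInstance⟩
  have h2 := PrimeSpectrum.height_eq_orderHeight (⟨p, inferInstance⟩ : PrimeSpectrum S)
  have h3 := Groth.Agent.Helper5.FtDim.ringKrullDim_quotient_eq_coheight
    (⟨p, inferInstance⟩ : PrimeSpectrum S)
  change p.height = _ at h2
  change ringKrullDim (S ⧸ p) = _ at h3
  obtain ⟨n, hn1, hn2⟩ := Groth.Agent.Helper5.FtDim.dim_eq_trdeg k (S ⧸ p) p.ResidueField
  have hnr : n = r := by
    rw [hr] at hn2
    exact_mod_cast hn2.symm
  rw [h1, WithBot.coe_add, ← h2, ← h3, hn1, hnr,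
    IsLocalization.AtPrime.ringKrullDim_eq_height p (Localization.AtPrime p)]

end Groth.Agent.S2141
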