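import Groth.Statements.S13606
import Mathlib

set_option autoImplicit false
universe u
open CategoryTheory AlgebraicGeometry
open SGA1

namespace Groth.Agent.S13606

open AlgebraicGeometry CategoryTheory in
theorem keyK {X : Scheme.{u}} {G : Type u} [Group G] (ρ : G →* Aut X) (P : X.Opens)
    (ρU : G →* Aut P.toScheme)
    (hρU : ∀ g : G, (ρU g).hom ≫ P.ι = P.ι ≫ (ρ g).hom) (g : G)
    (W : P.toScheme.Opens) (W' : X.Opens) (hle : W ≤ P.ι ⁻¹ᵁ W')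
    (h1 : W ≤ (ρU g).hom ⁻¹ᵁ W) (h2 : W' ≤ (ρ g).hom ⁻¹ᵁ W') :
    P.ι.appLE W' W hle ≫ (ρU g).hom.appLE W W h1 =
      (ρ g).hom.appLE W' W' h2 ≫ P.ι.appLE W' W hle := by
  rw [Scheme.Hom.appLE_comp_appLE, Scheme.Hom.appLE_comp_appLE]
  have := hρU g
  congr 1

set_option backward.isDefEq.respectTransparency false in
open AlgebraicGeometry CategoryTheory in
theorem main {X Y : Scheme.{u}} {G : Type u} [Group G] [Finite G]
    (ρ : G →* Aut X) (p : X ⟶ Y) (hp : SGA1.IsQuot ρ p) (U : Y.Opens)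
    (ρU : G →* Aut (p ⁻¹ᵁ U).toScheme)
    (hρU : ∀ g : G, (ρU g).hom ≫ (p ⁻¹ᵁ U).ι = (p ⁻¹ᵁ U).ι ≫ (ρ g).hom) :
    SGA1.IsQuot ρU (p ∣_ U) := by
  have hinv : ∀ g : G, (ρU g).hom ≫ (p ∣_ U) = p ∣_ U := by
    intro g
    rw [← cancel_mono U.ι, Category.assoc, morphismRestrict_ι, reassoc_of% (hρU g), hp.inv]
  -- common data for every open `V` of `U`
  have hdata : ∀ V : U.toScheme.Opens, ∃ (E : Γ(X, p ⁻¹ᵁ (U.ι ''ᵁ V)) ⟶
      Γ((p ⁻¹ᵁ U).toScheme, (p ∣_ U) ⁻¹ᵁ V)), Function.Bijective E.hom ∧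
      (∀ t : Γ(Y, U.ι ''ᵁ V), ((p ∣_ U).app V).hom t = E.hom ((p.app (U.ι ''ᵁ V)).hom t)) ∧
      ∀ (g : G) (s' : Γ(X, p ⁻¹ᵁ (U.ι ''ᵁ V))),
        ((ρU g).hom.appLE ((p ∣_ U) ⁻¹ᵁ V) ((p ∣_ U) ⁻¹ᵁ V)
          (SGA1.preimage_le_of_inv ρU (p ∣_ U) hinv g V)).hom (E.hom s') =
        E.hom (((ρ g).hom.appLE (p ⁻¹ᵁ (U.ι ''ᵁ V)) (p ⁻¹ᵁ (U.ι ''ᵁ V))
          (SGA1.preimage_le_of_inv ρ p hp.inv g (U.ι ''ᵁ V))).hom s') := by
    intro V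
    have e := image_morphismRestrict_preimage p U V
    have hle : (p ∣_ U) ⁻¹ᵁ V ≤ (p ⁻¹ᵁ U).ι ⁻¹ᵁ (p ⁻¹ᵁ (U.ι ''ᵁ V)) := by
      rw [← e]
      exact ((p ⁻¹ᵁ U).ι.preimage_image_eq _).ge
    have hE : (p ⁻¹ᵁ U).ι.appLE (p ⁻¹ᵁ (U.ι ''ᵁ V)) ((p ∣_ U) ⁻¹ᵁ V) hle =
        X.presheaf.map (eqToHom e).op := by
      rw [Scheme.Opens.ι_appLE]
      congr 1
    haveI : IsIso ((p ⁻¹ᵁ U).ι.appLE (p ⁻¹ᵁ (U.ι ''ᵁ V)) ((p ∣_ U) ⁻¹ᵁ V) hle) := by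
      rw [hE]
      infer_instance
    refine ⟨(p ⁻¹ᵁ U).ι.appLE (p ⁻¹ᵁ (U.ι ''ᵁ V)) ((p ∣_ U) ⁻¹ᵁ V) hle,
      ConcreteCategory.bijective_of_isIso _, ?_, ?_⟩
    · intro t
      have happ : (p ∣_ U).app V = p.app (U.ι ''ᵁ V) ≫
          (p ⁻¹ᵁ U).ι.appLE (p ⁻¹ᵁ (U.ι ''ᵁ V)) ((p ∣_ U) ⁻¹ᵁ V) hle := by
        rw [hE]
        exact morphismRestrict_app p U V
      rw [happ]
      rfl
    · intro g s'
      have := keyK ρ (p ⁻¹ᵁ U) ρU hρU g ((p ∣_ U) ⁻¹ᵁ V) (p ⁻¹ᵁ (U.ι ''ᵁ V)) hle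
        (SGA1.preimage_le_of_inv ρU (p ∣_ U) hinv g V)
        (SGA1.preimage_le_of_inv ρ p hp.inv g (U.ι ''ᵁ V))
      exact congrArg (fun φ => φ.hom s') this
  refine ⟨?_, hinv, ?_, ?_⟩
  · haveI := hp.affine
    exact MorphismProperty.of_isPullback (isPullback_morphismRestrict p U).flip inferInstance
  · intro V
    obtain ⟨E, hEbij, happ, -⟩ := hdata V
    intro t1 t2 h12
    have : E.hom ((p.app (U.ι ''ᵁ V)).hom t1) = E.hom ((p.app (U.ι ''ᵁ V)).hom t2) := by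
      rw [← happ t1, ← happ t2]
      exact h12
    exact hp.injective (U.ι ''ᵁ V) (hEbij.1 this)
  · intro V s
    obtain ⟨E, hEbij, happ, hK⟩ := hdata V
    obtain ⟨s', rfl⟩ := hEbij.2 s
    constructor
    · rintro ⟨t, ht⟩ g
      have ht' : E.hom ((p.app (U.ι ''ᵁ V)).hom t) = E.hom s' := (happ t).symm.trans ht
      have hs' : s' ∈ Set.range (p.app (U.ι ''ᵁ V)).hom := ⟨t, hEbij.1 ht'⟩
      have := (hp.range_iff (U.ι ''ᵁ V) s').mp hs' g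
      rw [hK g, this]
    · intro h
      have h' : ∀ g : G, ((ρ g).hom.appLE (p ⁻¹ᵁ (U.ι ''ᵁ V)) (p ⁻¹ᵁ (U.ι ''ᵁ V))
          (SGA1.preimage_le_of_inv ρ p hp.inv g (U.ι ''ᵁ V))).hom s' = s' :=
        fun g => hEbij.1 ((hK g s').symm.trans (h g))
      obtain ⟨t, ht⟩ := (hp.range_iff (U.ι ''ᵁ V) s').mpr h'
      exact ⟨t, (happ t).trans (congrArg E.hom ht)⟩

/-- Let a finite group G act on a scheme X and let p : X ⟶ Y be a quotient of X by G (affine,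
G-invariant, sections of O_Y over every open = G-invariant sections of O_X over its preimage). Then
for every open U ⊆ Y, U is the quotient of p⁻¹U by G: the restriction p⁻¹U ⟶ U of p is again a
quotient in the same sense, for the action ρU of G on the G-stable open p⁻¹U induced by ρ (pinned by
compatibility with the inclusion p⁻¹U ⟶ X). -/
theorem result {X Y : Scheme.{u}} {G : Type u} [Group G] [Finite G]
    (ρ : G →* Aut X) (p : X ⟶ Y) (hp : SGA1.IsQuot ρ p) (U : Y.Opens)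
    (ρU : G →* Aut (p ⁻¹ᵁ U).toScheme)
    (hρU : ∀ g : G, (ρU g).hom ≫ (p ⁻¹ᵁ U).ι = (p ⁻¹ᵁ U).ι ≫ (ρ g).hom) :
    SGA1.IsQuot ρU (p ∣_ U) := by
  exact main ρ p hp U ρU hρU

end Groth.Agent.S13606
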