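import Groth.Statements.S4370
import Mathlib
import Groth.Agent.S4368

set_option autoImplicit false
universe u
open RedSep

namespace Groth.Agent.S4370

open AlgebraicGeometry in
open CategoryTheory in
theorem isReduced_nilradical_subscheme (X : Scheme.{u}) : IsReduced X.nilradical.subscheme := by
  rw [Groth.Agent.S4368.result X X.nilradical X.support_nilradical]

open AlgebraicGeometry in
open CategoryTheory in
theorem surjective_nilradical_subschemeι (X : Scheme.{u}) : Surjective X.nilradical.subschemeι := by
  constructor
  rw [← Set.range_eq_univ, Scheme.IdealSheafData.range_subschemeι, X.support_nilradical]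
  rfl

open AlgebraicGeometry in
open CategoryTheory in
/-- a surjective closed immersion from a reduced scheme has kernel the nilradical -/
theorem ker_eq_nilradical {P X : Scheme.{u}} (i : P ⟶ X) [IsClosedImmersion i] [IsReduced P]
    [Surjective i] : i.ker = X.nilradical := by
  have h1 : IsIso i.toImage := inferInstance
  have h2 : IsReduced i.ker.subscheme := isReduced_of_isOpenImmersion (inv i.toImage)
  have hsupp : i.ker.support = ⊤ := by
    apply TopologicalSpace.Closeds.ext
    rw [Scheme.Hom.support_ker, TopologicalSpace.Closeds.coe_top]
    have : Set.range i = Set.univ := Set.range_eq_univ.mpr i.surjective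
    rw [this, closure_univ]
  exact (Groth.Agent.S4368.result X i.ker hsupp).mp h2

open AlgebraicGeometry in
open CategoryTheory in
/-- Let f : X -> Y be an open immersion and let g : X_red -> Y_red be the morphism of reduced schemes
induced by f, i.e. the morphism between the closed subschemes defined by the nilradicals whose
composite with the inclusion of Y_red in Y is the inclusion of X_red in X followed by f. Then g is
an open immersion. -/
theorem result
    {X Y : Scheme.{u}} (f : X ⟶ Y) [IsOpenImmersion f]
    (g : X.nilradical.subscheme ⟶ Y.nilradical.subscheme)
    (hg : g ≫ Y.nilradical.subschemeι = X.nilradical.subschemeι ≫ f) :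
    IsOpenImmersion g := by
  have := isReduced_nilradical_subscheme Y
  have := surjective_nilradical_subschemeι Y
  have hP : IsReduced (Limits.pullback f Y.nilradical.subschemeι) :=
    isReduced_of_isOpenImmersion (Limits.pullback.snd f Y.nilradical.subschemeι)
  let k : X.nilradical.subscheme ⟶ Limits.pullback f Y.nilradical.subschemeι :=
    Limits.pullback.lift X.nilradical.subschemeι g hg.symm
  have hk1 : k ≫ Limits.pullback.fst f Y.nilradical.subschemeι = X.nilradical.subschemeι :=
    Limits.pullback.lift_fst _ _ _
  have hk2 : k ≫ Limits.pullback.snd f Y.nilradical.subschemeι = g :=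
    Limits.pullback.lift_snd _ _ _
  have hker : X.nilradical.subschemeι.ker =
      (Limits.pullback.fst f Y.nilradical.subschemeι).ker := by
    rw [Scheme.IdealSheafData.ker_subschemeι, ker_eq_nilradical]
  have hiso : IsIso k := IsClosedImmersion.isIso_of_ker_eq _ _ k hk1 hker
  rw [← hk2]
  infer_instance

end Groth.Agent.S4370
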