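import Groth.Statements.S1827
import Mathlib
import Groth.Agent.Helper3.GorKos
import Groth.Agent.Helper3.GorPoly

set_option autoImplicit false
universe u
open scoped TensorProduct
open CategoryTheory
attribute [local instance] HasDerivedCategory.standard
open Goren

namespace Groth.Agent.S1827

/-- Let A be a Noetherian Gorenstein ring and A → B a local complete intersection homomorphism (finite
type, with a presentation whose kernel is Koszul-regular). Then B is a Gorenstein ring. -/
theorem result (A B : Type u) [CommRing A] [CommRing B] [Algebra A B] (hA : LocCoh.IsGorensteinRing A) (h : LCI.IsLCI A B) : LocCoh.IsGorensteinRing B := by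
  obtain ⟨-, n, f, hf, hK⟩ := h
  haveI := hA
  haveI : LocCoh.IsGorensteinRing (MvPolynomial (ULift.{u} (Fin n)) A) :=
    Groth.Agent.Helper3.GorPoly.gorenstein_mvPolynomial A (ULift.{u} (Fin n))
  haveI : LocCoh.IsGorensteinRing (MvPolynomial (Fin n) A) :=
    Groth.Agent.Helper7.SegGor.gorenstein_of_ringEquiv
      (MvPolynomial.renameEquiv A (Equiv.ulift : ULift.{u} (Fin n) ≃ Fin n)).toRingEquiv
  haveI := Groth.Agent.Helper3.GorKos.gorenstein_quot_of_kregIdeal (MvPolynomial (Fin n) A)
    (RingHom.ker f.toRingHom) hK
  exact Groth.Agent.Helper7.SegGor.gorenstein_of_ringEquiv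
    (RingHom.quotientKerEquivOfSurjective (f := f.toRingHom) hf)

end Groth.Agent.S1827
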