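import Groth.Statements.S0385
import Groth.Agent.Helper4.NApx9
import Groth.Agent.Helper4.NApx7
import Mathlib

set_option autoImplicit false
universe u
open FlatMor

namespace Groth.Agent.S0385


open AlgebraicGeometry CategoryTheory Limits in
/-- Zariski's Main Theorem in its finite-factorization form (Mathlib already has the open immersion into
the integral relative normalization; the content here is replacing integral by finite): a
quasi-finite separated morphism (locally of finite type, quasi-compact, with finite fibres) to a
quasi-compact quasi-separated scheme is a quasi-compact open immersion followed by a finite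
morphism. -/
theorem result {X S : Scheme.{u}} (f : X ⟶ S) [CompactSpace S] [QuasiSeparatedSpace S] [LocallyQuasiFinite f] [LocallyOfFiniteType f] [QuasiCompact f] [IsSeparated f] :
    ∃ (T : Scheme.{u}) (j : X ⟶ T) (π : T ⟶ S), IsOpenImmersion j ∧ QuasiCompact j ∧ IsFinite π ∧ j ≫ π = f := by

  obtain ⟨I, hP, hD, hN, D, c, hc, e, h1⟩ :=
    Groth.Agent.Helper4.NApx9.integral_limit_finite f.fromNormalization
  haveI : IsCofiltered Iᵒᵖ := Groth.Agent.Helper4.NApx0.isCofiltered_op_of_directed I
  haveI : IsConnected Iᵒᵖ := IsCofiltered.isConnected _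
  haveI : IsIso e.inv.left := (Over.forget S).map_isIso e.inv
  haveI : CompactSpace X := QuasiCompact.compactSpace_of_compactSpace f
  let E := D ⋙ Over.forget S
  let tE := Groth.Agent.Helper4.NApx1.strNat D
  let cE := (Over.forget S).mapCone c
  have hcE : IsLimit cE := isLimitOfPreserves (Over.forget S) hc
  haveI : ∀ {i j : Iᵒᵖ} (a : i ⟶ j), IsAffineHom (E.map a) := by
    intro i j a
    show IsAffineHom (D.map a).left
    haveI := h1 j
    haveI : IsAffineHom ((D.map a).left ≫ (D.obj j).hom) := by
      rw [Over.w]; haveI := h1 i; infer_instance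
    exact IsAffineHom.of_comp (D.map a).left (D.obj j).hom
  have hs : ∀ k, cE.π.app k ≫ tE.app k = c.pt.hom := fun k => Over.w (c.π.app k)
  let γ : X ⟶ cE.pt := f.toNormalization ≫ e.inv.left
  haveI : IsImmersion γ := by
    show IsImmersion (f.toNormalization ≫ e.inv.left)
    infer_instance
  have hγ : γ ≫ c.pt.hom = f := by
    show (f.toNormalization ≫ e.inv.left) ≫ c.pt.hom = f
    rw [Category.assoc, Over.w e.inv]; exact f.toNormalization_fromNormalization
  haveI : LocallyOfFiniteType (γ ≫ c.pt.hom) := by rw [hγ]; infer_instance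
  obtain ⟨k, hk⟩ := Groth.Agent.Helper4.NApx7.exists_immersion_stage E tE cE hcE c.pt.hom hs γ
  let g : X ⟶ (D.obj k).left := γ ≫ (c.π.app k).left
  haveI : IsImmersion g := hk
  haveI := h1 k
  haveI : QuasiSeparatedSpace (D.obj k).left :=
    quasiSeparatedSpace_of_quasiSeparated (D.obj k).hom
  haveI : QuasiCompact g := inferInstance
  refine ⟨g.image, g.toImage, g.imageι ≫ (D.obj k).hom, inferInstance, inferInstance,
    inferInstance, ?_⟩
  rw [Scheme.Hom.toImage_imageι_assoc]
  show (γ ≫ (c.π.app k).left) ≫ (D.obj k).hom = f
  exact (Category.assoc _ _ _).trans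
    ((congrArg (fun m => γ ≫ m) (Over.w (c.π.app k))).trans hγ)

end Groth.Agent.S0385
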