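import Groth.Statements.S2091
import Groth.Agent.Helper2.RegSmooth
import Groth.Agent.Helper1.FieldSmooth6

set_option autoImplicit false
universe u
open CAlg

namespace Groth.Agent.S2091

/-- Let `k` be a field of characteristic zero, `S` of finite type over `k` and `𝔮` a prime of `S`.
Smoothness of `S` over `k` at `𝔮` is equivalent to regularity of the local ring `S_𝔮`. -/
theorem result {k S : Type u} [Field k] [CharZero k] [CommRing S] [Algebra k S]
    [Algebra.FiniteType k S] (q : Ideal S) [q.IsPrime] :
    Algebra.IsSmoothAt k q ↔ IsRegularLocalRing (Localization.AtPrime q) := by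
  haveI : Algebra.IsGeometricallyReduced k q.ResidueField :=
    Groth.Agent.Helper1.FieldSmooth.isGeometricallyReduced_of_perfectField
  exact Groth.Agent.Helper2.RegSmooth.isSmoothAt_iff_isRegularLocalRing k S q

end Groth.Agent.S2091
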