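import Groth.Statements.S17770
import Mathlib
import Groth.Agent.Helper7.GrEC4
import Groth.Agent.Helper7.GrEC5

set_option autoImplicit false
universe u
open BigOperators
open GrLC

namespace Groth.Agent.S17770

/-- Let R = ⊕_{n ≥ 0} R_n be a Noetherian positively ℤ-graded ring which is standard graded (irrelevant
ideal generated by R_1), with R_0 Artinian, *local with unique homogeneous maximal ideal m, and of
Krull dimension d. Let M be a finitely generated graded R-module, H_M(n) = ℓ_{R_0}(M_n) its Hilbert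
function and P_M ∈ ℚ[X] its Hilbert polynomial, i.e. a polynomial with P_M(n) = H_M(n) for all
sufficiently large n (taken as given). Then for every integer n, H_M(n) − P_M(n) = Σ_{i = 0}^{d}
(−1)^i ℓ_{R_0}(H^i_m(M)_n), where H^i_m(M)_n are the homogeneous pieces of graded local cohomology
with support in m computed from any *injective resolution of M (their lengths are finite, and the
pieces vanish for i > d). -/
theorem result (R : Type u) [CommRing R] [IsNoetherianRing R] (𝒜 : ℤ → AddSubgroup R) [GradedRing 𝒜] (hpos : ∀ n : ℤ, n < 0 → 𝒜 n = ⊥) (hstd : Ideal.span (⋃ n ∈ Set.Ioi (0 : ℤ), (𝒜 n : Set R)) = Ideal.span ((𝒜 1 : AddSubgroup R) : Set R)) [IsArtinianRing (GrLC.deg0 𝒜)] (m : HomogeneousIdeal 𝒜) (hm : GrLC.IsStarLocal 𝒜 m) (d : ℕ) (hd : ringKrullDim R = d) (M : Type u) [AddCommGroup M] [Module R M] [Module.Finite R M] (ℳ : ℤ → AddSubgroup M) [DirectSum.Decomposition ℳ] [SetLike.GradedSMul 𝒜 ℳ] (E : GrLC.StarInjRes 𝒜 ℳ)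 (P : Polynomial ℚ) (hP : ∃ N : ℤ, ∀ n : ℤ, N ≤ n → P.eval (n : ℚ) = ((Module.length (GrLC.deg0 𝒜) (GrLC.comp 𝒜 ℳ n)).toNat : ℚ)) (n : ℤ) : ((Module.length (GrLC.deg0 𝒜) (GrLC.comp 𝒜 ℳ n)).toNat : ℚ) - P.eval (n : ℚ) = ∑ i ∈ Finset.range (d + 1), (-1 : ℚ) ^ i * ((Module.length (GrLC.deg0 𝒜) (E.Hcomp m i n)).toNat : ℚ) := by
  classical
  -- the irrelevant ideal
  let a : HomogeneousIdeal 𝒜 := ⟨Ideal.span (⋃ n ∈ Set.Ioi (0 : ℤ), (𝒜 n : Set R)),
    Ideal.homogeneous_span 𝒜 _ (fun x hx => by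
      simp only [Set.mem_iUnion, Set.mem_Ioi, SetLike.mem_coe, exists_prop] at hx
      obtain ⟨k, -, hk⟩ := hx
      exact ⟨k, hk⟩)⟩
  have ha : a.toIdeal = Ideal.span (⋃ n ∈ Set.Ioi (0 : ℤ), (𝒜 n : Set R)) := rfl
  let X : GrLC.GMod.{u} 𝒜 := GrLC.GMod.of 𝒜 M ℳ
  have hfX : Module.Finite R X.carrier := (inferInstance : Module.Finite R M)
  have hvan := Groth.Agent.Helper7.GrTopRE.topVan_of_dim 𝒜 a d hd
  have hdeg : P.degree < ((P.natDegree + 1 : ℕ) : WithBot ℕ) :=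
    lt_of_le_of_lt Polynomial.degree_le_natDegree (by exact_mod_cast Nat.lt_succ_self _)
  have hmain := Groth.Agent.Helper7.GrEC.main_irrel 𝒜 hpos a ha d hvan (P.natDegree + 1) X E P hdeg
    hP n
  -- transfer from the irrelevant ideal to the *maximal ideal
  obtain ⟨k, hk⟩ := Groth.Agent.Helper7.GrEC.exists_pow_le_irrel 𝒜 hpos a ha m hm
  have hle : a.toIdeal ≤ m.toIdeal := by
    rw [ha, Ideal.span_le]
    intro x hx
    simp only [Set.mem_iUnion, Set.mem_Ioi, SetLike.mem_coe, exists_prop] at hx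
    obtain ⟨j, hj, hxj⟩ := hx
    exact Groth.Agent.Helper7.GrStarLoc.mem_of_pos 𝒜 hpos m hm.1 hj hxj
  have hgam : ∀ i, GrLC.gam m.toIdeal (E.X i).carrier = GrLC.gam a.toIdeal (E.X i).carrier :=
    fun i => Groth.Agent.Helper7.GrEC.gam_eq_of_le_of_pow_le a.toIdeal m.toIdeal hle k hk _
  have hlen : ∀ i, Module.length (GrLC.deg0 𝒜) (E.Hcomp m i n) =
      Module.length (GrLC.deg0 𝒜) (E.Hcomp a i n) :=
    fun i => Groth.Agent.Helper7.GrEC.length_Hcomp_congr 𝒜 E m a hgam i n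
  simp only [hlen]
  exact hmain

end Groth.Agent.S17770
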