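import Groth.Statements.S17772
import Mathlib
import Groth.Agent.Helper7.GrHt1
import Groth.Agent.S17770

set_option autoImplicit false
universe u
open GrLC

namespace Groth.Agent.S17772

/-- Let R = ⊕_{n ≥ 0} R_n be a positively ℤ-graded ring which is standard graded (irrelevant ideal
generated by R_1), with R_0 Artinian, *local with unique homogeneous maximal ideal m, and
Cohen–Macaulay of Krull dimension d; let H_R(n) = ℓ_{R_0}(R_n) be its Hilbert function and P_R ∈
ℚ[X] its Hilbert polynomial (a polynomial agreeing with H_R for all large n, taken as given). Then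
the a-invariant of R, the largest degree in which H^d_m(R) is nonzero (computed from any *injective
resolution of R), equals the supremum of the integers n with P_R(n) ≠ H_R(n). (The published text
writes 'min' for this supremum; the set of such n is unbounded below whenever it is nonempty, e.g.
all n < 0 for a polynomial ring over a field, and the published one-line proof H_R(n) − P_R(n) =
(−1)^d ℓ(H^d_m(R)_n) identifies the set with the nonzero degrees of H^d_m(R), whose largest element
is a(R).) -/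
theorem result (R : Type u) [CommRing R] [LocCoh.IsCohenMacaulayRing R] (𝒜 : ℤ → AddSubgroup R) [GradedRing 𝒜] (hpos : ∀ n : ℤ, n < 0 → 𝒜 n = ⊥) (hstd : Ideal.span (⋃ n ∈ Set.Ioi (0 : ℤ), (𝒜 n : Set R)) = Ideal.span ((𝒜 1 : AddSubgroup R) : Set R)) [IsArtinianRing (GrLC.deg0 𝒜)] (m : HomogeneousIdeal 𝒜) (hm : GrLC.IsStarLocal 𝒜 m) (d : ℕ) (hd : ringKrullDim R = d) (I : GrLC.StarInjRes 𝒜 𝒜) (P : Polynomial ℚ) (hP : ∃ N : ℤ, ∀ n : ℤ, N ≤ n → P.eval (n : ℚ) = ((Module.length (GrLC.deg0 𝒜) (GrLC.comp 𝒜 𝒜 n)).toNat : ℚ)) : GrLC.endDeg (I.Hgr m d) = ⨆ (n : ℤ) (_ : P.eval (n : ℚ) ≠ ((Module.length (GrLC.deg0 𝒜) (GrLC.comp 𝒜 𝒜 n)).toNat : ℚ)), ((n : WithTop ℤ) : WithBot (WithTop ℤ)) := by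
  classical
  have hN : IsNoetherianRing R := inferInstance
  let X : GrLC.GMod.{u} 𝒜 := GrLC.GMod.of 𝒜 R 𝒜
  have hfX : Module.Finite R X.carrier := (inferInstance : Module.Finite R R)
  -- the Serre–Grothendieck formula
  have hform := fun n : ℤ => Groth.Agent.S17770.result R 𝒜 hpos hstd m hm d hd R 𝒜 I P hP n
  -- vanishing below `d`
  have hlow : ∀ i, i < d → ∀ n : ℤ,
      ((Module.length (GrLC.deg0 𝒜) (I.Hcomp m i n)).toNat : ℚ) = 0 := by
    intro i hi n
    have hss : Subsingleton (I.H m i) :=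
      Groth.Agent.Helper7.GrHt.subsingleton_H_of_lt 𝒜 hpos m hm d hd I i hi
    have : Subsingleton ↥(I.Hcomp m i n) := (Subtype.val_injective).subsingleton
    rw [Module.length_eq_zero_iff.mpr this]
    simp
  have hsum : ∀ n : ℤ, ∑ i ∈ Finset.range (d + 1), (-1 : ℚ) ^ i *
      ((Module.length (GrLC.deg0 𝒜) (I.Hcomp m i n)).toNat : ℚ) =
      (-1 : ℚ) ^ d * ((Module.length (GrLC.deg0 𝒜) (I.Hcomp m d n)).toNat : ℚ) := by
    intro n
    rw [Finset.sum_range_succ, Finset.sum_eq_zero, zero_add]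
    intro i hi
    rw [hlow i (Finset.mem_range.mp hi) n, mul_zero]
  have hfin : ∀ n : ℤ, Module.length (GrLC.deg0 𝒜) (I.Hcomp m d n) ≠ ⊤ :=
    fun n => Groth.Agent.Helper7.GrHt.length_Hcomp_ne_top 𝒜 hpos m hm X I d n
  have hiff : ∀ n : ℤ, I.Hgr m d n ≠ ⊥ ↔
      P.eval (n : ℚ) ≠ ((Module.length (GrLC.deg0 𝒜) (GrLC.comp 𝒜 𝒜 n)).toNat : ℚ) := by
    intro n
    have h1 := hform n
    rw [hsum n] at h1
    have hpow : ((-1 : ℚ) ^ d) ≠ 0 := pow_ne_zero _ (by norm_num)
    constructor
    · intro hne hPe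
      apply hne
      rw [hPe, sub_self] at h1
      have h2 : ((Module.length (GrLC.deg0 𝒜) (I.Hcomp m d n)).toNat : ℚ) = 0 := by
        rcases mul_eq_zero.mp h1.symm with h | h
        · exact absurd h hpow
        · exact h
      have h3 : (Module.length (GrLC.deg0 𝒜) (I.Hcomp m d n)).toNat = 0 := by exact_mod_cast h2
      have h4 : Module.length (GrLC.deg0 𝒜) (I.Hcomp m d n) = 0 := by
        rcases (ENat.toNat_eq_zero).mp h3 with h | h
        · exact h
        · exact absurd h (hfin n)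
      have h5 : Subsingleton ↥(I.Hcomp m d n) := Module.length_eq_zero_iff.mp h4
      rw [AddSubgroup.eq_bot_iff_forall]
      intro x hx
      have := h5.elim (⟨x, hx⟩ : ↥(I.Hcomp m d n)) 0
      exact congrArg Subtype.val this
    · intro hne hbot
      apply hne
      have hss : Subsingleton ↥(I.Hcomp m d n) := by
        refine ⟨fun x y => Subtype.ext ?_⟩
        have hx : (x : I.H m d) ∈ I.Hgr m d n := x.2
        have hy : (y : I.H m d) ∈ I.Hgr m d n := y.2
        rw [hbot, AddSubgroup.mem_bot] at hx hy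
        rw [hx, hy]
      rw [Module.length_eq_zero_iff.mpr hss] at h1
      simp only [ENat.toNat_zero, Nat.cast_zero, mul_zero] at h1
      linarith
  unfold GrLC.endDeg
  refine iSup_congr fun n => ?_
  exact iSup_congr_Prop (hiff n) (fun _ => rfl)

end Groth.Agent.S17772
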