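import Groth.Statements.S17771
import Mathlib
import Groth.Agent.Helper7.GrHt1
import Groth.Agent.Helper7.GrHP2
import Groth.Agent.S17772

set_option autoImplicit false
universe u
open GrLC

namespace Groth.Agent.S17771

/-- Let R = ⊕_{n ≥ 0} R_n be a positively ℤ-graded ring which is standard graded (irrelevant ideal
generated by R_1), with R_0 Artinian, *local with unique homogeneous maximal ideal m, and
Cohen–Macaulay of Krull dimension d. Then the a-invariant of R is at least −d: the end (largest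
nonzero degree) of the graded local cohomology module H^d_m(R), computed from any *injective
resolution of R in the graded category, is ≥ −d. (Equality holds exactly for polynomial rings
R_0[T_1, …, T_d]; that characterisation is not part of this statement.) -/
theorem result (R : Type u) [CommRing R] [LocCoh.IsCohenMacaulayRing R] (𝒜 : ℤ → AddSubgroup R) [GradedRing 𝒜] (hpos : ∀ n : ℤ, n < 0 → 𝒜 n = ⊥) (hstd : Ideal.span (⋃ n ∈ Set.Ioi (0 : ℤ), (𝒜 n : Set R)) = Ideal.span ((𝒜 1 : AddSubgroup R) : Set R)) [IsArtinianRing (GrLC.deg0 𝒜)] (m : HomogeneousIdeal 𝒜) (hm : GrLC.IsStarLocal 𝒜 m) (d : ℕ) (hd : ringKrullDim R = d) (I : GrLC.StarInjRes 𝒜 𝒜) : (((-(d : ℤ) : ℤ) : WithTop ℤ) : WithBot (WithTop ℤ)) ≤ GrLC.endDeg (I.Hgr m d) := by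
  classical
  have hN : IsNoetherianRing R := inferInstance
  let a : HomogeneousIdeal 𝒜 := Groth.Agent.Helper7.GrHt.irr 𝒜
  have ha : a.toIdeal = Ideal.span (⋃ n ∈ Set.Ioi (0 : ℤ), (𝒜 n : Set R)) := rfl
  let X : GrLC.GMod.{u} 𝒜 := GrLC.GMod.of 𝒜 R 𝒜
  have hfX : Module.Finite R X.carrier := (inferInstance : Module.Finite R R)
  -- the Hilbert polynomial
  obtain ⟨P, N, hPN⟩ := Groth.Agent.Helper7.GrEC.exists_hilbPoly 𝒜 hpos a ha (ha.trans hstd) X
  have hP : ∃ N : ℤ, ∀ n : ℤ, N ≤ n → P.eval (n : ℚ) =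
      ((Module.length (GrLC.deg0 𝒜) (GrLC.comp 𝒜 𝒜 n)).toNat : ℚ) := ⟨N, hPN⟩
  -- its degree
  have hdim : Module.supportDim R X.carrier ≤ (d : WithBot ℕ∞) := by
    have h1 : Module.supportDim R R = ringKrullDim R := Module.supportDim_self_eq_ringKrullDim R
    exact le_of_eq (h1.trans hd)
  have hdeg : P.degree < (d : WithBot ℕ) :=
    Groth.Agent.Helper7.GrEC.degree_lt_of_supportDim_le 𝒜 hpos a ha d X P ⟨N, hPN⟩ hdim
  -- the a-invariant as a supremum
  have hend := Groth.Agent.S17772.result R 𝒜 hpos hstd m hm d hd I P hP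
  by_contra hlt
  have hall : ∀ n : ℤ, -(d : ℤ) ≤ n → P.eval (n : ℚ) =
      ((Module.length (GrLC.deg0 𝒜) (GrLC.comp 𝒜 𝒜 n)).toNat : ℚ) := by
    intro n hn
    by_contra hne
    apply hlt
    rw [hend]
    have h1 : (((n : ℤ) : WithTop ℤ) : WithBot (WithTop ℤ)) ≤
        ⨆ (n : ℤ) (_ : P.eval (n : ℚ) ≠
          ((Module.length (GrLC.deg0 𝒜) (GrLC.comp 𝒜 𝒜 n)).toNat : ℚ)),
          ((n : WithTop ℤ) : WithBot (WithTop ℤ)) :=
      le_iSup₂ (f := fun (n : ℤ) (_ : P.eval (n : ℚ) ≠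
          ((Module.length (GrLC.deg0 𝒜) (GrLC.comp 𝒜 𝒜 n)).toNat : ℚ)) =>
          ((n : WithTop ℤ) : WithBot (WithTop ℤ))) n hne
    refine le_trans ?_ h1
    exact_mod_cast hn
  -- the Hilbert function vanishes in negative degrees
  have hneg : ∀ n : ℤ, n < 0 →
      ((Module.length (GrLC.deg0 𝒜) (GrLC.comp 𝒜 𝒜 n)).toNat : ℚ) = 0 := fun n hn =>
    Groth.Agent.Helper7.GrEC.hilb_eq_zero_of_eq_bot 𝒜 X n (hpos n hn)
  -- so `P` has `d` roots
  have hPz : P = 0 := by
    by_contra hP0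
    have hnd : P.natDegree < d := (Polynomial.natDegree_lt_iff_degree_lt hP0).mpr hdeg
    apply hP0
    refine Polynomial.eq_zero_of_natDegree_lt_card_of_eval_eq_zero P
      (f := fun i : Fin d => ((-((i : ℕ) + 1 : ℤ) : ℤ) : ℚ)) ?_ ?_ (by simpa using hnd)
    · intro i j hij
      have hij' : ((-((i : ℕ) + 1 : ℤ) : ℤ) : ℚ) = ((-((j : ℕ) + 1 : ℤ) : ℤ) : ℚ) := hij
      have h1 : (-((i : ℕ) + 1 : ℤ) : ℤ) = -((j : ℕ) + 1 : ℤ) := by exact_mod_cast hij'
      apply Fin.ext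
      omega
    · intro i
      have h1 : -(d : ℤ) ≤ -((i : ℕ) + 1 : ℤ) := by
        have := i.2
        omega
      rw [hall _ h1]
      exact hneg _ (by omega)
  -- contradiction in degree zero
  have h0 := hall 0 (by omega)
  rw [hPz, Polynomial.eval_zero] at h0
  have h1 : (Module.length (GrLC.deg0 𝒜) (GrLC.comp 𝒜 𝒜 0)).toNat = 0 := by exact_mod_cast h0.symm
  have hfin := Groth.Agent.Helper7.GrEC.length_comp_ne_top 𝒜 hpos 𝒜 0
  have h2 : Module.length (GrLC.deg0 𝒜) (GrLC.comp 𝒜 𝒜 0) = 0 := by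
    rcases (ENat.toNat_eq_zero).mp h1 with h | h
    · exact h
    · exact absurd h hfin
  have h3 : Subsingleton ↥(GrLC.comp 𝒜 𝒜 0) := Module.length_eq_zero_iff.mp h2
  have h4 : (1 : R) = 0 := by
    have := h3.elim (⟨1, (SetLike.GradedOne.one_mem : (1 : R) ∈ 𝒜 0)⟩ : ↥(GrLC.comp 𝒜 𝒜 0)) 0
    exact congrArg Subtype.val this
  have h5 : Subsingleton R := subsingleton_of_zero_eq_one h4.symm
  have h6 : ringKrullDim R = ⊥ := ringKrullDim_eq_bot_of_subsingleton
  rw [hd] at h6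
  exact absurd h6 (by simp)

end Groth.Agent.S17771
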