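import Groth.Statements.S18644
import Mathlib
import Groth.Agent.Helper7.GrPolyQ6
import Groth.Agent.Helper7.GrHP2
import Groth.Agent.S17772
import Groth.Agent.S17771

set_option autoImplicit false
universe u
open GrLC

namespace Groth.Agent.S18644

/-- Let R be a graded ring defined over a field k = R_0 which is Cohen–Macaulay and generated over k by
R_1, of dimension r. Then a(R) = −r holds exactly when R is isomorphic to the polynomial ring over k
in r variables. Here 'graded ring defined over a field' means R = ⊕_{n ≥ 0} R_n is Noetherian with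
R_0 a field, and m = R_+ is its unique graded maximal ideal. The a-invariant a(R) is the largest
degree in which the graded local cohomology H^n_m(R) (n = dim R, m = R_+), computed from a
*injective resolution of R in the graded category, is nonzero. (The inequality a(R) ≥ −r of the same
lemma is stated separately.) -/
theorem result (R : Type u) [CommRing R] [LocCoh.IsCohenMacaulayRing R] (𝒜 : ℤ → AddSubgroup R) [GradedRing 𝒜] (hpos : ∀ n : ℤ, n < 0 → 𝒜 n = ⊥) (h0 : IsField (GrLC.deg0 𝒜)) (m : HomogeneousIdeal 𝒜) (hm : GrLC.IsStarLocal 𝒜 m) (hmsp : m.toIdeal = Ideal.span (⋃ n ∈ Set.Ioi (0 : ℤ), (𝒜 n : Set R))) (hstd : Ideal.span (⋃ n ∈ Set.Ioi (0 : ℤ), (𝒜 n : Set R)) = Ideal.span ((𝒜 1 : AddSubgroup R) : Set R)) (r : ℕ) (hr : ringKrullDim R = r) (I : GrLC.StarInjRes 𝒜 𝒜) : GrLC.endDeg (I.Hgr m r) = (((-(r : ℤ) : ℤ) : WithTop ℤ) : WithBot (WithTop ℤ)) ↔ Nonempty (R ≃+* MvPolynomial (Fin r) (GrLC.deg0 𝒜)) := by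
    classical
    have hN : IsNoetherianRing R := inferInstance
    have hA : IsArtinianRing (GrLC.deg0 𝒜) :=
      Groth.Agent.Helper7.GrPolyQ.isArtinianRing_of_isField 𝒜 h0
    let X : GrLC.GMod.{u} 𝒜 := GrLC.GMod.of 𝒜 R 𝒜
    have hfX : Module.Finite R X.carrier := (inferInstance : Module.Finite R R)
    obtain ⟨P, N, hPN⟩ := Groth.Agent.Helper7.GrEC.exists_hilbPoly 𝒜 hpos m hmsp (hmsp.trans hstd) X
    have hP : ∃ N : ℤ, ∀ n : ℤ, N ≤ n → P.eval (n : ℚ) =
        ((Module.length (GrLC.deg0 𝒜) (GrLC.comp 𝒜 𝒜 n)).toNat : ℚ) := ⟨N, hPN⟩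
    have hdeg : P.degree < (r : WithBot ℕ) := by
      refine Groth.Agent.Helper7.GrEC.degree_lt_of_supportDim_le 𝒜 hpos m hmsp r X P ⟨N, hPN⟩ ?_
      have h1 : Module.supportDim R X.carrier = ringKrullDim R :=
        Module.supportDim_self_eq_ringKrullDim R
      rw [h1, hr]
    have hend := Groth.Agent.S17772.result R 𝒜 hpos hstd m hm r hr I P hP
    have hge := Groth.Agent.S17771.result R 𝒜 hpos hstd m hm r hr I
    have hmain := Groth.Agent.Helper7.GrPolyQ.main_conc 𝒜 hpos h0 m hm hmsp hstd r hr P hdeg hP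
    rw [← hmain]
    constructor
    · intro h n hn
      by_contra hne
      have h1 : ((n : WithTop ℤ) : WithBot (WithTop ℤ)) ≤ GrLC.endDeg (I.Hgr m r) := by
        rw [hend]
        exact le_iSup₂ (f := fun (n : ℤ)
          (_ : P.eval (n : ℚ) ≠ ((Module.length (GrLC.deg0 𝒜) (GrLC.comp 𝒜 𝒜 n)).toNat : ℚ)) =>
            ((n : WithTop ℤ) : WithBot (WithTop ℤ))) n hne
      rw [h] at h1
      have h2 : n ≤ -(r : ℤ) := by exact_mod_cast h1
      omega
    · intro h
      apply le_antisymm _ hge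
      rw [hend]
      refine iSup₂_le fun n hne => ?_
      have h2 : n ≤ -(r : ℤ) := by
        by_contra h3
        exact hne (h n (by omega))
      exact_mod_cast h2

end Groth.Agent.S18644
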