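import Groth.Statements.S5168
-- import your own Groth.Agent.* helpers here

set_option autoImplicit false
universe u
open InjHull

namespace Groth.Agent.S5168

/-- Let A be a Noetherian ring, J an ideal and H a J-power torsion A-module. Then H is injective if and
only if Hom_A(−, H) is exact on finite A-modules killed by a power of J, i.e. every linear map to H
from a submodule of such a module M extends to M. -/
theorem result (A : Type u) [CommRing A] [IsNoetherianRing A] (J : Ideal A) (H : Type u) [AddCommGroup H] [Module A H] (hH : LocCoh.IsPowerTorsion J H) : Module.Injective A H ↔ ∀ (M : Type u) [AddCommGroup M] [Module A M], Module.Finite A M → (∃ k : ℕ, (J ^ k) • (⊤ : Submodule A M) = ⊥) → ∀ (N : Submodule A M) (g : N →ₗ[A] H), ∃ g' : M →ₗ[A] H, g'.comp N.subtype = g := by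
  constructor
  · intro hinj M _ _ _ _ N g
    obtain ⟨h, hh⟩ := Module.Injective.extension_property A H N M N.subtype N.injective_subtype g
    exact ⟨h, hh⟩
  · intro hext
    apply Module.Baer.injective
    intro I g
    -- a uniform power of J kills g(I)
    have hk : ∃ k : ℕ, ∀ a ∈ J ^ k, ∀ x : I, a • g x = 0 := by
      have hfg : (⊤ : Submodule A I).FG := Module.Finite.fg_top
      obtain ⟨s, hs⟩ := hfg
      choose n hn using fun x : I => hH (g x)
      refine ⟨s.sup n, fun a ha x => ?_⟩
      have hx : x ∈ Submodule.span A (s : Set I) := by rw [hs]; trivial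
      induction hx using Submodule.span_induction with
      | mem y hy =>
        exact hn y a (Ideal.pow_le_pow_right (Finset.le_sup hy) ha)
      | zero => rw [map_zero, smul_zero]
      | add y z _ _ hy hz => rw [map_add, smul_add, hy, hz, add_zero]
      | smul r y _ hy => rw [map_smul, smul_comm, hy, smul_zero]
    obtain ⟨k, hk⟩ := hk
    obtain ⟨c, hc⟩ := Ideal.exists_pow_inf_eq_pow_smul J (I : Submodule A A)
    set n := c + k with hn
    -- g vanishes on J^n ∩ I
    have hvan : ∀ x : I, (x : A) ∈ J ^ n → g x = 0 := by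
      intro x hx
      have h1 : (x : A) ∈ J ^ n • (⊤ : Submodule A A) ⊓ (I : Submodule A A) := by
        refine ⟨?_, x.2⟩
        rw [smul_eq_mul, Ideal.mul_top]
        exact hx
      rw [hc n (by omega), show n - c = k by omega] at h1
      have h2 : ∀ z ∈ J ^ k • (J ^ c • (⊤ : Submodule A A) ⊓ (I : Submodule A A)),
          ∃ hz : z ∈ I, g ⟨z, hz⟩ = 0 := by
        intro z hz
        refine Submodule.smul_induction_on hz ?_ ?_
        · intro a ha y hy
          have hyI : y ∈ I := hy.2
          refine ⟨I.smul_mem a hyI, ?_⟩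
          have : (⟨a • y, I.smul_mem a hyI⟩ : I) = a • ⟨y, hyI⟩ := rfl
          rw [this, map_smul]
          exact hk a ha ⟨y, hyI⟩
        · rintro y z ⟨hyI, hy⟩ ⟨hzI, hz⟩
          refine ⟨I.add_mem hyI hzI, ?_⟩
          have : (⟨y + z, I.add_mem hyI hzI⟩ : I) = ⟨y, hyI⟩ + ⟨z, hzI⟩ := rfl
          rw [this, map_add, hy, hz, add_zero]
      obtain ⟨_, h3⟩ := h2 x h1
      exact h3
    -- the quotient A/J^n and the image of I
    let φ : I →ₗ[A] (A ⧸ J ^ n) := (Submodule.mkQ (J ^ n)).comp (Submodule.subtype I)
    have hker : LinearMap.ker φ ≤ LinearMap.ker g := by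
      intro x hx
      rw [LinearMap.mem_ker] at hx ⊢
      apply hvan
      have : Submodule.Quotient.mk (p := J ^ n) (x : A) = 0 := hx
      exact (Submodule.Quotient.mk_eq_zero _).1 this
    let gbar : LinearMap.range φ →ₗ[A] H :=
      ((LinearMap.ker φ).liftQ g hker).comp (LinearMap.quotKerEquivRange φ).symm.toLinearMap
    have hgbar : ∀ x : I, gbar ⟨φ x, LinearMap.mem_range_self φ x⟩ = g x := by
      intro x
      have : (LinearMap.quotKerEquivRange φ).symm ⟨φ x, LinearMap.mem_range_self φ x⟩ =
          Submodule.Quotient.mk x := by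
        rw [LinearEquiv.symm_apply_eq]
        rfl
      simp only [gbar, LinearMap.comp_apply, LinearEquiv.coe_coe, this, Submodule.liftQ_apply]
    have hkill : (J ^ n) • (⊤ : Submodule A (A ⧸ J ^ n)) = ⊥ := by
      rw [eq_bot_iff]
      intro z hz
      refine Submodule.smul_induction_on hz ?_ ?_
      · intro a ha y _
        obtain ⟨y, rfl⟩ := Submodule.Quotient.mk_surjective _ y
        rw [Submodule.mem_bot, ← Submodule.Quotient.mk_smul, Submodule.Quotient.mk_eq_zero, smul_eq_mul]
        exact Ideal.mul_mem_right _ _ ha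
      · intro y z hy hz
        exact Submodule.add_mem _ hy hz
    obtain ⟨g', hg'⟩ := hext (A ⧸ J ^ n) inferInstance ⟨n, hkill⟩ (LinearMap.range φ) gbar
    refine ⟨g'.comp (Submodule.mkQ (J ^ n)), fun x hx => ?_⟩
    have := LinearMap.congr_fun hg' ⟨φ ⟨x, hx⟩, LinearMap.mem_range_self φ _⟩
    rw [hgbar] at this
    exact this

end Groth.Agent.S5168
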