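import Groth.Statements.S11175
import Groth.Agent.Helper1.GorTopD
import Groth.Agent.Helper1.GorTopE
import Groth.Agent.Helper1.LocCohVanish

set_option autoImplicit false
universe u
open CategoryTheory
open Goren

namespace Groth.Agent.S11175

/-- A Noetherian local ring A with maximal ideal m is Gorenstein (A has finite injective dimension as a
module over itself) if and only if there is a natural number d such that the local cohomology
modules H^i_m(A) (direct limits of Ext^i(A/m^n, A)) vanish for all i ≠ d and H^d_m(A) is an
injective A-module. -/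
theorem result (A : Type u) [CommRing A] [IsLocalRing A] [IsNoetherianRing A] : LocCoh.IsGorensteinLocalRing A ↔ ∃ d : ℕ, (∀ i : ℕ, i ≠ d → Subsingleton (LocCoh.H (IsLocalRing.maximalIdeal A) i A)) ∧ Module.Injective A (LocCoh.H (IsLocalRing.maximalIdeal A) d A) := by
  open CategoryTheory IsLocalRing Groth.Agent.Helper1 Groth.Agent.Helper1.GorTop in
  constructor
  · intro hG
    -- the dimension is finite
    have hfin : (maximalIdeal A).height ≠ ⊤ :=
      Ideal.height_ne_top (Ideal.IsPrime.ne_top inferInstance)
    obtain ⟨n, hn⟩ := ENat.ne_top_iff_exists.mp hfin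
    have hdim : ringKrullDim A = (n : ℕ) := by
      rw [← IsLocalRing.maximalIdeal_height_eq_ringKrullDim, ← hn]
      rfl
    refine ⟨n, fun i hi => ?_, ?_⟩
    · rcases lt_or_gt_of_ne hi with h | h
      · -- below the depth
        have hcm : LocCoh.IsCohenMacaulayLocalRing A := Groth.Agent.Helper6.Bass.cm_of_gorenstein
        have hdepth : LocCoh.depth A A = n := by
          have h1 := hcm.supportDim_eq_depth
          rw [Module.supportDim_self_eq_ringKrullDim, hdim] at h1
          have : ((n : ℕ∞) : WithBot ℕ∞) = ((LocCoh.depth A A : ℕ∞) : WithBot ℕ∞) := h1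
          exact (WithBot.coe_injective this).symm
        have hIM : maximalIdeal A • (⊤ : Submodule A A) ≠ ⊤ :=
          Groth.Agent.Helper2.Depth.smul_top_ne_top A A
        exact (LocCohDepth.le_idealDepth_iff_lc (maximalIdeal A) A hIM n).1 hdepth.ge i h
      · have := LocCohVanish.isZero_lc_of_supportDim_lt (maximalIdeal A) A i (by
          rw [Module.supportDim_self_eq_ringKrullDim, hdim]
          exact_mod_cast h)
        exact ModuleCat.isZero_iff_subsingleton.1 this
    · obtain ⟨g, hg⟩ := exists_isInjectiveHull (R := A) n hdim
      exact hg.isInjective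
  · rintro ⟨d, hvan, hinj⟩
    have hK : KK (maximalIdeal A) d (ModuleCat.of A A) := by
      constructor
      · intro i
        by_cases hi : i = d
        · subst hi
          exact Module.injective_object_of_injective_module A _
        · exact (ModuleCat.isZero_iff_subsingleton.2 (hvan i hi)).injective
      · intro i hi
        exact ModuleCat.isZero_iff_subsingleton.2 (hvan i (by omega))
    have hN : LocCohDelta.IsTors (maximalIdeal A) (ModuleCat.of A (A ⧸ maximalIdeal A)) := by
      intro x
      refine ⟨1, fun a ha => ?_⟩
      rw [pow_one] at ha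
      exact Groth.Agent.Helper6.Bass.smul_quot_eq_zero (maximalIdeal A) a ha x
    have hext : ∀ i, d + 1 ≤ i → Subsingleton (Abelian.Ext
        (ModuleCat.of A (A ⧸ maximalIdeal A)) (ModuleCat.of A A) i) := by
      intro i hi
      obtain ⟨j, rfl⟩ : ∃ j, i = j + 1 := ⟨i - 1, by omega⟩
      refine ⟨fun x y => ?_⟩
      rw [ext_eq_zero (maximalIdeal A) j _ (KK_mono _ (by omega) hK) _ hN x,
        ext_eq_zero (maximalIdeal A) j _ (KK_mono _ (by omega) hK) _ hN y]
    exact { exists_hasInjectiveDimensionLT :=
      ⟨d + 1, Groth.Agent.Helper6.Bass.hasInjectiveDimensionLT_of_ext_residueField A d hext⟩ }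

end Groth.Agent.S11175
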