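import Groth.Statements.S5693
import Groth.Agent.Helper5.NeutM
import Groth.Agent.Helper7.PC

set_option autoImplicit false
universe u
open CategoryTheory CategoryTheory.Limits MonoidalCategory CartesianMonoidalCategory MonObj GrpObj AlgebraicGeometry
open FGA

namespace Groth.Agent.S5693

/-- Let S be a locally Noetherian scheme, G a commutative group scheme locally of finite type over S and
n ≥ 1 an integer. The set of points x of G for which n is the least positive integer such that the
n-th power morphism sends x into the union of the connected components of the identity of the fibres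
is locally constructible in G (the order function on the torsion-component set is locally
constructible). -/
theorem result (S : Scheme.{u}) [IsLocallyNoetherian S] (G : Over S) [GrpObj G]
    [IsCommMonObj G] [LocallyOfFiniteType G.hom] (n : ℕ) (hn : 0 < n) :
    Topology.IsLocallyConstructible {x : ↥G.left | ((𝟙 G : G ⟶ G) ^ n).left.base x ∈ SGA3x.neutralSet G ∧
      ∀ d : ℕ, 0 < d → d < n → ((𝟙 G : G ⟶ G) ^ d).left.base x ∉ SGA3x.neutralSet G} := by
  haveI : LocallyOfFinitePresentation G.hom :=
    LocallyOfFinitePresentation.iff_locallyOfFiniteType.mpr inferInstance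
  haveI : IsLocallyNoetherian G.left := LocallyOfFiniteType.isLocallyNoetherian G.hom
  haveI : QuasiSeparated G.hom := inferInstance
  have hN : Topology.IsLocallyConstructible (SGA3x.neutralSet G) :=
    Groth.Agent.Helper5.Neut.isLocallyConstructible_neutralSet G
  have hpre : ∀ d : ℕ, Topology.IsLocallyConstructible
      (((𝟙 G : G ⟶ G) ^ d).left.base ⁻¹' SGA3x.neutralSet G) :=
    fun d => Groth.Agent.Helper7.PC.lc_preimage _ hN
  have hset : {x : ↥G.left | ((𝟙 G : G ⟶ G) ^ n).left.base x ∈ SGA3x.neutralSet G ∧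
      ∀ d : ℕ, 0 < d → d < n → ((𝟙 G : G ⟶ G) ^ d).left.base x ∉ SGA3x.neutralSet G} =
      (((𝟙 G : G ⟶ G) ^ n).left.base ⁻¹' SGA3x.neutralSet G) ∩
        ⋂ d : Fin n, {x : ↥G.left | 0 < d.1 →
          x ∉ (((𝟙 G : G ⟶ G) ^ d.1).left.base ⁻¹' SGA3x.neutralSet G)} := by
    ext x
    simp only [Set.mem_setOf_eq, Set.mem_inter_iff, Set.mem_preimage, Set.mem_iInter]
    constructor
    · rintro ⟨h1, h2⟩
      exact ⟨h1, fun d hd0 => h2 d.1 hd0 d.2⟩
    · rintro ⟨h1, h2⟩
      exact ⟨h1, fun d hd0 hd1 => h2 ⟨d, hd1⟩ hd0⟩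
  rw [hset]
  refine (hpre n).inter ?_
  refine Topology.IsLocallyConstructible.iInter ?_
  intro d
  by_cases hd : 0 < d.1
  · have : {x : ↥G.left | 0 < d.1 →
        x ∉ (((𝟙 G : G ⟶ G) ^ d.1).left.base ⁻¹' SGA3x.neutralSet G)} =
        (((𝟙 G : G ⟶ G) ^ d.1).left.base ⁻¹' SGA3x.neutralSet G)ᶜ := by
      ext x; simp [hd]
    rw [this]
    intro x
    obtain ⟨U, hU, hUo, hc⟩ := hpre d.1 x
    exact ⟨U, hU, hUo, by rw [Set.preimage_compl]; exact hc.compl⟩
  · have : {x : ↥G.left | 0 < d.1 →
        x ∉ (((𝟙 G : G ⟶ G) ^ d.1).left.base ⁻¹' SGA3x.neutralSet G)} = Set.univ := by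
      ext x; simp [hd]
    rw [this]; exact Topology.IsLocallyConstructible.univ

end Groth.Agent.S5693
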