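import Groth.Statements.S8689
import Groth.Agent.Helper4.Newt7
import Mathlib

set_option autoImplicit false
universe u
open LambdaRing

namespace Groth.Agent.S8689


/-- Let K be a pre-λ-ring which is an algebra over the rationals (the meaning of characteristic zero
here), and suppose that its Adams operations satisfy ψ^k(1) = 1, ψ^k(xy) = ψ^k(x) ψ^k(y) and ψ^k ∘
ψ^{k'} = ψ^{kk'} for all k, k' ≥ 1. Then K is a λ-ring in the strict sense: λ_t(1) = 1 + t, λ^n(xy)
= P_n(λ^1 x, …; λ^1 y, …) and λ^j(λ^i x) = Q_{i,j}(λ^1 x, …) for the universal polynomials. -/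
theorem result (K : Type u) [CommRing K] [LambdaRing.LambdaOps K] [Algebra ℚ K]
    (h1 : ∀ k : ℕ, 1 ≤ k → LambdaRing.adamsOp k (1 : K) = 1)
    (hmul : ∀ k : ℕ, 1 ≤ k → ∀ x y : K, LambdaRing.adamsOp k (x * y) = LambdaRing.adamsOp k x * LambdaRing.adamsOp k y)
    (hcomp : ∀ k k' : ℕ, 1 ≤ k → 1 ≤ k' → ∀ x : K,
      LambdaRing.adamsOp k (LambdaRing.adamsOp k' x) = LambdaRing.adamsOp (k * k') x) :
    LambdaRing.IsSpecial K := by

  open Groth.Agent.Helper4.Newt in
  refine ⟨?_, ?_, ?_⟩
  · intro n hn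
    rw [lam_eq_newtInv]
    have e1 : newtInv (fun i => adamsOp i (1 : K)) n =
        newtInv (fun k => ∑ x ∈ ({()} : Finset Unit), (fun _ : Unit => (1 : K)) x ^ k) n := by
      apply newtInv_congr
      intro i hi _
      simp [h1 i hi]
    rw [e1, newtInv_psum]
    simp only [Finset.singleton_val, Multiset.map_singleton]
    rw [Multiset.esymm]
    have : Multiset.powersetCard n ({(1 : K)} : Multiset K) = 0 := by
      apply Multiset.powersetCard_eq_empty
      simp
      omega
    rw [this]
    simp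
  · intro n P hP x y
    rw [lam_eq_newtInv, mulPoly_eval n P hP (fun i => LambdaOps.lam i x) (fun i => LambdaOps.lam i y)]
    apply newtInv_congr
    intro i hi _
    rw [hmul i hi, adamsOp_eq_newt, adamsOp_eq_newt]
  · intro i j Q hQ x
    rw [lam_eq_newtInv, compPoly_eval i j Q hQ (fun i => LambdaOps.lam i x)]
    apply newtInv_congr
    intro m hm _
    let ψ : K →+* K := adamsHom m (h1 m hm) (hmul m hm)
    have hψ : ∀ y, ψ y = adamsOp m y := fun y => rfl
    rw [← hψ, lam_eq_newtInv x i, map_newtInv]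
    apply newtInv_congr
    intro l hl _
    rw [hψ, hcomp m l hm hl, adamsOp_eq_newt, Nat.mul_comm]

end Groth.Agent.S8689
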