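import Groth.Statements.S3074
import Mathlib
import Groth.Agent.Helper2.TF23
open Groth.Agent.Helper2 Groth.Agent.Helper2.TF1 Groth.Agent.Helper2.TF23
-- import your own Groth.Agent.* helpers here

set_option autoImplicit false
open CategoryTheory CategoryTheory.Limits Opposite
universe u
open ToposFin

namespace Groth.Agent.S3074

/-- For a topos of sheaves of sets on a small site: (1) a subobject of a quasi-separated object is
quasi-separated; (2) the coproduct of a small family (X_i) is quasi-separated if and only if every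
X_i is. -/
theorem result {C : Type u} [SmallCategory C] {J : GrothendieckTopology C} :
    (∀ {X Y : ToposFin.Sh J} (i : X ⟶ Y) [Mono i], ToposFin.IsQS Y → ToposFin.IsQS X) ∧
    ∀ {ι : Type u} (F : ι → ToposFin.Sh J), ToposFin.IsQS (∐ F) ↔ ∀ i, ToposFin.IsQS (F i) := by
  have h1 : ∀ {X Y : ToposFin.Sh J} (i : X ⟶ Y) [Mono i], ToposFin.IsQS Y → ToposFin.IsQS X :=
    fun i _ hY => isQS_of_isQSHom i (isQSHom_of_mono i) hY
  refine ⟨h1, ?_⟩
  intro ι F
  have hc := coproductIsCoproduct F
  have hljs : LJS F (Sigma.ι F) := cofan_ljs (Cofan.mk (∐ F) (Sigma.ι F)) hc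
  have hmono : ∀ i, Mono ((Cofan.mk (∐ F) (Sigma.ι F)).inj i) := fun i => by
    change Mono (Sigma.ι F i)
    infer_instance
  constructor
  · intro h i
    have : Mono (Sigma.ι F i) := inferInstance
    exact h1 (Sigma.ι F i) h
  · intro h
    refine isQS_of_cover F (Sigma.ι F) hljs h (fun i => ?_)
    have := hmono i
    exact isQCHom_inj (Cofan.mk (∐ F) (Sigma.ι F)) hc i

end Groth.Agent.S3074
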