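import Groth.Statements.S1040
import Groth.Agent.Helper4.DCoprodH
import Groth.Agent.Helper4.QcohLimits
import Groth.Agent.Helper4.SchAdj
import Mathlib

set_option autoImplicit false
universe u
open CategoryTheory CategoryTheory.Limits AlgebraicGeometry
attribute [local instance] HasDerivedCategory.standard
open Perf

namespace Groth.Agent.S1040


/-- Let X be a scheme and Kᵢ a family of objects of D(O_X) with quasi-coherent cohomology sheaves,
indexed by a small type, whose direct sum exists in D(O_X). Then ∐ Kᵢ has quasi-coherent cohomology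
sheaves. -/
theorem result (X : Scheme.{u}) {ι : Type u} (K : ι → DCoh.D X) (hK : ∀ i, DCoh.IsQCohD (K i)) [HasCoproduct K] :
    DCoh.IsQCohD (∐ K) := by

  haveI := Groth.Agent.Helper4.SchAdj.isGrothendieckAbelian_modules X
  haveI : HasExactColimitsOfShape (Discrete ι) X.Modules := inferInstance
  let K' : ι → CochainComplex X.Modules ℤ := fun j => DerivedCategory.Q.objPreimage (K j)
  let e : ∀ j, DerivedCategory.Q.obj (K' j) ≅ K j := fun j => DerivedCategory.Q.objObjPreimageIso (K j)
  have hc := Groth.Agent.Helper1.DCoprod.isColimitCofan K'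
  haveI : HasColimitsOfShape (Discrete ι) (DCoh.D X) :=
    Groth.Agent.Helper1.DCoprod.hasColimitsOfShape_discrete
  haveI : HasCoproduct (fun j => DerivedCategory.Q.obj (K' j)) := ⟨⟨_, hc⟩⟩
  let e1 : ∐ K ≅ ∐ (fun j => DerivedCategory.Q.obj (K' j)) := Sigma.mapIso (fun j => (e j).symm)
  let e2 : ∐ (fun j => DerivedCategory.Q.obj (K' j)) ≅
      DerivedCategory.Q.obj (Groth.Agent.Helper1.DCoprod.sig K') :=
    (coproductIsCoproduct _).coconePointUniqueUpToIso hc
  intro n
  have h1 : Coh.IsQCoh (DCoh.HD (DerivedCategory.Q.obj (Groth.Agent.Helper1.DCoprod.sig K')) n) := by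
    let e3 : DCoh.HD (DerivedCategory.Q.obj (Groth.Agent.Helper1.DCoprod.sig K')) n ≅
        colimit ((Groth.Agent.Helper1.DCoprod.fam K').homology n) :=
      (DerivedCategory.homologyFunctorFactors X.Modules n).app _ ≪≫
        Groth.Agent.Helper4.DCoprodH.sigHomologyIso K' n
    have h2 : (colimit ((Groth.Agent.Helper1.DCoprod.fam K').homology n)).IsQuasicoherent := by
      apply Groth.Agent.Helper4.QcohLimits.isQuasicoherent_colimit
      rintro ⟨j⟩
      have e4 : ((Groth.Agent.Helper1.DCoprod.fam K').homology n).obj ⟨j⟩ ≅ DCoh.HD (K j) n :=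
        Groth.Agent.Helper4.DCoprodH.famHomologyObjIso K' n j ≪≫
          ((DerivedCategory.homologyFunctorFactors X.Modules n).app (K' j)).symm ≪≫
          (DerivedCategory.homologyFunctor X.Modules n).mapIso (e j)
      exact (SheafOfModules.isQuasicoherent X.ringCatSheaf).prop_of_iso e4.symm (hK j n)
    exact (SheafOfModules.isQuasicoherent X.ringCatSheaf).prop_of_iso e3.symm h2
  exact (SheafOfModules.isQuasicoherent X.ringCatSheaf).prop_of_iso
    ((DerivedCategory.homologyFunctor X.Modules n).mapIso (e1 ≪≫ e2)).symm h1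

end Groth.Agent.S1040
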