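import Groth.Statements.S3288
import Mathlib
import Groth.Agent.Helper1.Lambda

set_option autoImplicit false
universe u
open Finset
open LambdaRing

namespace Groth.Agent.S3288

/-- In a λ-ring with positive structure having the splitting property, for a positive element e the
augmentation of λ^i(e) is the binomial coefficient C(ε(e), i). -/
theorem result (K : Type u) [CommRing K] [LambdaRing.LambdaOps K] (P : LambdaRing.PosStructure K) (hK : LambdaRing.HasSplitting K P) (e : K) (he : e ∈ P.pos)
    (i : ℕ) : P.aug (LambdaRing.LambdaOps.lam i e) = ((P.aug e).toNat.choose i : ℤ) := by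
  obtain ⟨C, hKC, hC⟩ := hK
  obtain ⟨L', hL', f, hext, s, hs, hsum⟩ := hC ⟨K, P⟩ hKC e he
  have hf : ∀ x : K, L'.posStr.aug (f x) = P.aug x := hext.aug_comp
  have hcard : P.aug e = Multiset.card s := by
    rw [← hf e]
    change L'.posStr.aug (f e) = _
    rw [← hsum]
    exact Groth.Agent.Helper1.Lambda.aug_sum_lines L'.posStr s hs
  have h1 : P.aug (LambdaRing.LambdaOps.lam i e) = L'.posStr.aug (LambdaRing.LambdaOps.lam i (f e)) := by
    rw [← hf, hext.isLambdaHom]
  rw [h1, ← Groth.Agent.Helper1.Lambda.coeff_lamSeries, ← PowerSeries.coeff_map]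
  change PowerSeries.coeff i (PowerSeries.map L'.posStr.aug (lamSeries (f e))) = _
  rw [← hsum, Groth.Agent.Helper1.Lambda.map_aug_lamSeries_sum L'.posStr s hs,
    Groth.Agent.Helper1.Lambda.coeff_one_add_X_pow, hcard]
  simp

end Groth.Agent.S3288
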