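import Groth.Statements.S3290
import Mathlib
import Groth.Agent.Helper1.LambdaGamma2

set_option autoImplicit false
universe u
open Finset
open LambdaRing

namespace Groth.Agent.S3290

/-- For a positive element e of augmentation m in a λ-ring with positive structure, the polynomials
Σ_{i=0}^{m} γ^i(e − m) t^(m−i) and Σ_{i=0}^{m} λ^i(e) (t − 1)^(m−i) are equal. -/
theorem result (K : Type u) [CommRing K] [LambdaRing.LambdaOps K] (P : LambdaRing.PosStructure K) (e : K) (he : e ∈ P.pos) :
    (∑ i ∈ range ((P.aug e).toNat + 1),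
        Polynomial.C (LambdaRing.gamma i (e - ((P.aug e).toNat : K))) * Polynomial.X ^ ((P.aug e).toNat - i)) =
      ∑ i ∈ range ((P.aug e).toNat + 1),
        Polynomial.C (LambdaRing.LambdaOps.lam i e) * (Polynomial.X - 1) ^ ((P.aug e).toNat - i) := by
  have hpos := P.aug_pos e he
  set m := (P.aug e).toNat with hmdef
  have hmz : (m : ℤ) = P.aug e := Int.toNat_of_nonneg hpos.le
  have hm : ∀ i, m < i → LambdaRing.LambdaOps.lam i e = 0 := by
    intro i hi
    apply P.lam_eq_zero e he i
    rw [← hmz]
    exact_mod_cast hi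
  have hg : ∀ i, LambdaRing.gamma i (e - (m : K)) = (Groth.Agent.Helper1.Lambda.Qpol e m).coeff i := by
    intro i
    rw [Groth.Agent.Helper1.Lambda.gamma_eq_coeff, Groth.Agent.Helper1.Lambda.subst_lamSeries_sub P e m hm,
      Polynomial.coeff_coe]
  simp only [hg]
  rw [Groth.Agent.Helper1.Lambda.sum_coeff_eq_reflect m _ (Groth.Agent.Helper1.Lambda.natDegree_Qpol e m)]
  unfold Groth.Agent.Helper1.Lambda.Qpol
  rw [Groth.Agent.Helper1.Lambda.reflect_sum]
  apply Finset.sum_congr rfl
  intro i hi
  have hi' : i ≤ m := by simpa [Nat.lt_succ_iff] using hi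
  rw [Polynomial.reflect_C_mul, Groth.Agent.Helper1.Lambda.reflect_term m i hi']

end Groth.Agent.S3290
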