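import Groth.Statements.S8982
import Groth.Agent.Helper4.NApx51
import Groth.Agent.Lead.ThickBC
import Mathlib

set_option autoImplicit false
universe u
open HTop

namespace Groth.Agent.S8982


open CategoryTheory CategoryTheory.Limits AlgebraicGeometry in
/-- The base change of an almost blow up square along an arbitrary morphism Y → X is an almost blow up
square over Y. The base-changed corners are introduced through fibre-product squares; the morphism
from the new exceptional corner to the new centre is the one compatible with them. -/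
theorem result {E Z X' X Y E₁ Z₁ X₁ : Scheme.{u}} {e : E ⟶ X'} {π : E ⟶ Z} {b : X' ⟶ X} {i : Z ⟶ X} (h : HTop.IsAlmostBlowUpSquare e π b i) (g : Y ⟶ X) {b₁ : X₁ ⟶ Y} {gX : X₁ ⟶ X'} (hX : IsPullback gX b₁ b g) {i₁ : Z₁ ⟶ Y} {gZ : Z₁ ⟶ Z} (hZ : IsPullback gZ i₁ i g) {e₁ : E₁ ⟶ X₁} {gE : E₁ ⟶ E} (hE : IsPullback gE e₁ e gX) {π₁ : E₁ ⟶ Z₁} (hπ : π₁ ≫ i₁ = e₁ ≫ b₁) : HTop.IsAlmostBlowUpSquare e₁ π₁ b₁ i₁ := by

  haveI := h.isClosedImmersion
  have hk : i₁.ker = i.ker.comap g := Groth.Agent.Lead.ThickBC.ker_eq_comap hZ.flip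
  have hjj : i₁.ker.comap b₁ = (i.ker.comap b).comap gX := by
    rw [hk, ← Scheme.IdealSheafData.comap_comp, ← Scheme.IdealSheafData.comap_comp, hX.w]
  have hcomm : gE ≫ π = π₁ ≫ gZ := by
    rw [← cancel_mono i, Category.assoc, Category.assoc, ← h.isPullback.w]
    calc gE ≫ e ≫ b = (gE ≫ e) ≫ b := (Category.assoc _ _ _).symm
      _ = (e₁ ≫ gX) ≫ b := by rw [hE.w]
      _ = e₁ ≫ b₁ ≫ g := by rw [Category.assoc, hX.w]
      _ = (π₁ ≫ i₁) ≫ g := by rw [hπ, Category.assoc]
      _ = π₁ ≫ gZ ≫ i := by rw [Category.assoc, hZ.w]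
  refine ⟨MorphismProperty.of_isPullback (P := @IsClosedImmersion) hZ h.isClosedImmersion,
    MorphismProperty.of_isPullback (P := @LocallyOfFinitePresentation) hZ h.finitePresentation_base,
    ?_, ?_,
    MorphismProperty.of_isPullback (P := @IsProper) hX h.isProper,
    MorphismProperty.of_isPullback (P := @LocallyOfFinitePresentation) hX h.finitePresentation,
    ?_⟩
  · have h1 : IsPullback e₁ (gE ≫ π) (gX ≫ b) i := hE.flip.paste_vert h.isPullback
    rw [hcomm, hX.w] at h1
    exact IsPullback.of_bot h1 hπ.symm hZ.flip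
  · rw [hjj]
    exact Groth.Agent.Helper4.NApx51.isLocPrincipal_comap _ h.locPrincipal gX
  · exact Groth.Agent.Helper4.NApx51.isBlowUp_baseChange i.ker b g b₁ gX hX h.locPrincipal
      h.isBlowUp i₁.ker hk

end Groth.Agent.S8982
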