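import Groth.Statements.S9220
import Groth.Agent.Lead.LimExistOver
import Groth.Agent.Lead.LimCompact
import Groth.Agent.Lead.IdealFG
import Mathlib

set_option autoImplicit false
universe u
open CategoryTheory AlgebraicGeometry
open Lim

namespace Groth.Agent.S9220

/-- Let S = lim S_i be a cofiltered limit of quasi-compact quasi-separated schemes with affine
transition morphisms, and let I be a quasi-coherent sheaf of ideals of finite type on S (its ideal
of sections on every affine open is finitely generated). Then for some index i there is a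
quasi-coherent sheaf of ideals of finite type I_i on S_i such that I = I_i · O_S, the pullback ideal
sheaf along S → S_i. -/
theorem result {I : Type u} [SmallCategory I] [IsCofiltered I]
    (D : I ⥤ Scheme.{u}) (c : Limits.Cone D) (hc : Limits.IsLimit c)
    [∀ (i j : I) (f : i ⟶ j), IsAffineHom (D.map f)] [∀ i, CompactSpace (D.obj i)]
    [∀ i, QuasiSeparatedSpace (D.obj i)] (J : c.pt.IdealSheafData)
    (hJ : ∀ U : c.pt.affineOpens, (J.ideal U).FG) :
    ∃ (i : I) (Ji : (D.obj i).IdealSheafData), (∀ U : (D.obj i).affineOpens, (Ji.ideal U).FG) ∧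
      Ji.comap (c.π.app i) = J := by
  have hA : ∀ {i j : I} (f : i ⟶ j), IsAffineHom (D.map f) := fun f ↦ inferInstance
  obtain ⟨i₀⟩ := IsCofiltered.nonempty (C := I)
  have hπ : IsAffineHom (c.π.app i₀) := isAffineHom_π_app D c hc i₀
  have hcpt : CompactSpace c.pt := QuasiCompact.compactSpace_of_compactSpace (c.π.app i₀)
  have hqs : QuasiSeparatedSpace c.pt := quasiSeparatedSpace_of_quasiSeparated (c.π.app i₀)
  have hlfp : LocallyOfFinitePresentation J.subschemeι :=
    Groth.Agent.Lead.IdealFG.lfp_subschemeι J hJ
  have : CompactSpace J.subscheme := QuasiCompact.compactSpace_of_compactSpace J.subschemeι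
  have : QuasiSeparatedSpace J.subscheme := quasiSeparatedSpace_of_quasiSeparated J.subschemeι
  obtain ⟨j, t, M, hM⟩ := Groth.Agent.Lead.LimExist.exists_model_prop_over hc
    @IsClosedImmersion i₀
    (fun k s X₀ f₀ _ _ _ h ↦
      Groth.Agent.Lead.LimCompact.isClosedImmersion_descends_of_compact hc k (𝟙 _) f₀ h)
    J.subschemeι inferInstance
  refine ⟨j, M.fi.ker, fun U ↦ Groth.Agent.Lead.IdealFG.ker_fg M.fi U, ?_⟩
  rw [Groth.Agent.Lead.IdealFG.comap_ker_of_isPullback M.sq, Scheme.IdealSheafData.ker_subschemeι]

end Groth.Agent.S9220
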