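import Groth.Statements.S18749
import Groth.Agent.Helper4.NApx23
import Mathlib

set_option autoImplicit false
universe u
open CategoryTheory CategoryTheory.Limits AlgebraicGeometry TopologicalSpace
open ModPair

namespace Groth.Agent.S18749


/-- Let (S, I_S), (T, J), (X, I) be schemes with quasi-coherent ideal sheaves of effective Cartier
divisors and f : X ⟶ S, g : T ⟶ S morphisms satisfying the modulus condition. Let Y₀ be the
scheme-theoretic image of pr₁⁻¹(X°) ∩ pr₂⁻¹(T°) in X ×_S T, let π : Y ⟶ Y₀ be a blowing up of Y₀ in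
the sum of the two ideal sheaves I, J pulled back to Y₀ (the intersection of the two pulled-back
divisors), and let K be an ideal sheaf on Y whose product with the exceptional ideal is the product
of the pull-backs of I and J to Y. Then K is the ideal sheaf of an effective Cartier divisor (the
divisor D_X + D_T − E), the projections Y ⟶ X and Y ⟶ T satisfy the modulus condition with respect
to K, and the interior of (Y, K) is the preimage of pr₁⁻¹(X°) ∩ pr₂⁻¹(T°). -/
theorem result {S T X Y : Scheme.{u}} (IS : S.IdealSheafData)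
    (J : T.IdealSheafData) (I : X.IdealSheafData) (hS : BlowUp.IsEffCartierIdeal IS)
    (hT : BlowUp.IsEffCartierIdeal J) (hX : BlowUp.IsEffCartierIdeal I)
    (f : X ⟶ S) (hf : ModPair.IsAmbient I IS f) (g : T ⟶ S) (hg : ModPair.IsAmbient J IS g)
    (π : Y ⟶ ModPair.mprod f g I J) (K : Y.IdealSheafData) (hY : ModPair.IsAmbProd f g I J π K) :
    BlowUp.IsEffCartierIdeal K ∧
      ModPair.IsAmbient K I (π ≫ ModPair.mprodι f g I J ≫ pullback.fst f g) ∧
      ModPair.IsAmbient K J (π ≫ ModPair.mprodι f g I J ≫ pullback.snd f g) ∧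
      ModPair.interior K = (π ≫ ModPair.mprodι f g I J) ⁻¹ᵁ ModPair.prodInterior f g I J := by

  classical
  obtain ⟨hπ, hKE⟩ := hY
  set ι₀ := ModPair.mprodι f g I J with hι₀
  set pr₁ := pullback.fst f g with hpr₁
  set pr₂ := pullback.snd f g with hpr₂
  set Ω := ModPair.prodInterior f g I J with hΩ
  set I' := I.comap (ι₀ ≫ pr₁) with hI'
  set J' := J.comap (ι₀ ≫ pr₂) with hJ'
  have hC : ModPair.prodCentre f g I J = I' ⊔ J' := rfl
  rw [hC] at hπ hKE
  set E := (I' ⊔ J').comap π with hE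
  have hEc : BlowUp.IsEffCartierIdeal E := hπ.1
  have hI'' : I'.comap π = I.comap (π ≫ ι₀ ≫ pr₁) := (Scheme.IdealSheafData.comap_comp I π (ι₀ ≫ pr₁)).symm
  have hJ'' : J'.comap π = J.comap (π ≫ ι₀ ≫ pr₂) := (Scheme.IdealSheafData.comap_comp J π (ι₀ ≫ pr₂)).symm
  set r₁ := π ≫ ι₀ ≫ pr₁ with hr₁
  set r₂ := π ≫ ι₀ ≫ pr₂ with hr₂
  rw [hI'', hJ''] at hKE
  -- quasi-compactness and density
  haveI q1 : QuasiCompact (pr₁ ⁻¹ᵁ ModPair.interior I).ι :=
    Groth.Agent.Helper4.NApx14.quasiCompact_preimage_interior_ι I hX pr₁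
  haveI q2 : QuasiCompact (pr₂ ⁻¹ᵁ ModPair.interior J).ι :=
    Groth.Agent.Helper4.NApx14.quasiCompact_preimage_interior_ι J hT pr₂
  haveI qΩ : QuasiCompact Ω.ι :=
    Groth.Agent.Helper4.NApx23.quasiCompact_inf_ι (pr₁ ⁻¹ᵁ ModPair.interior I) (pr₂ ⁻¹ᵁ ModPair.interior J)
  obtain ⟨dP, qP⟩ := Groth.Agent.Helper4.NApx23.toImage_dense Ω
  haveI := dP
  haveI := qP
  have hdom : IsSchemeTheoreticallyDominant (π ⁻¹ᵁ (ι₀ ⁻¹ᵁ Ω)).ι :=
    Groth.Agent.Helper4.NApx23.dominant_preimage_of_isBlowUp (ι₀ ⁻¹ᵁ Ω) (I' ⊔ J') π hπ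
  have hle1 : π ⁻¹ᵁ (ι₀ ⁻¹ᵁ Ω) ≤ r₁ ⁻¹ᵁ ModPair.interior I := by
    intro y hy
    have : ι₀ (π y) ∈ Ω := hy
    exact this.1
  have hle2 : π ⁻¹ᵁ (ι₀ ⁻¹ᵁ Ω) ≤ r₂ ⁻¹ᵁ ModPair.interior J := by
    intro y hy
    have : ι₀ (π y) ∈ Ω := hy
    exact this.2
  haveI d1 : IsSchemeTheoreticallyDominant (r₁ ⁻¹ᵁ ModPair.interior I).ι :=
    Groth.Agent.Helper4.NApx23.dominant_of_le _ _ hle1
  haveI d2 : IsSchemeTheoreticallyDominant (r₂ ⁻¹ᵁ ModPair.interior J).ι :=
    Groth.Agent.Helper4.NApx23.dominant_of_le _ _ hle2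
  have hIc : BlowUp.IsEffCartierIdeal (I.comap r₁) :=
    Groth.Agent.Helper4.NApx14.isEffCartierIdeal_comap I hX r₁
  have hJc : BlowUp.IsEffCartierIdeal (J.comap r₂) :=
    Groth.Agent.Helper4.NApx14.isEffCartierIdeal_comap J hT r₂
  have hIE : I.comap r₁ ≤ E := by
    rw [← hI'']
    exact Scheme.IdealSheafData.comap_mono π (show I' ≤ I' ⊔ J' from le_sup_left)
  have hJE : J.comap r₂ ≤ E := by
    rw [← hJ'']
    exact Scheme.IdealSheafData.comap_mono π (show J' ≤ I' ⊔ J' from le_sup_right)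
  -- local data
  have hloc : ∀ y : Y, ∃ C : Y.affineOpens, y ∈ C.1 ∧ ∃ k : Γ(Y, C.1),
      k ∈ nonZeroDivisors Γ(Y, C.1) ∧ K.ideal C = Ideal.span {k} ∧
        K.ideal C ≤ (I.comap r₁).ideal C ∧ K.ideal C ≤ (J.comap r₂).ideal C := by
    intro y
    obtain ⟨C, hyC, e, a, b, he, ha, hb, hEe, hIa, hJb⟩ :=
      Groth.Agent.Helper4.NApx23.exists_affine_three E (I.comap r₁) (J.comap r₂) hEc hIc hJc y
    have hmul : K.ideal C * E.ideal C = (I.comap r₁).ideal C * (J.comap r₂).ideal C := by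
      have := congrArg (fun L : Y.IdealSheafData => L.ideal C) hKE
      simpa using this
    obtain ⟨k, hk, hKk, h1, h2⟩ := Groth.Agent.Helper4.NApx23.local_ambProd (K.ideal C) (E.ideal C)
      ((I.comap r₁).ideal C) ((J.comap r₂).ideal C) e a b ha hb hEe hIa hJb (hIE C) (hJE C) hmul
    exact ⟨C, hyC, k, hk, hKk, h1, h2⟩
  choose W hyW k hk hKk hK1 hK2 using hloc
  have hsup : (⨆ y : Y, (W y).1) = ⊤ := by
    rw [eq_top_iff]
    intro y _
    exact TopologicalSpace.Opens.mem_iSup.mpr ⟨y, hyW y⟩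
  have hKI : K ≤ I.comap r₁ := Scheme.IdealSheafData.le_of_iSup_eq_top W hsup hK1
  have hKJ : K ≤ J.comap r₂ := Scheme.IdealSheafData.le_of_iSup_eq_top W hsup hK2
  refine ⟨fun y => ⟨W y, hyW y, k y, hk y, hKk y⟩, hKI, hKJ, ?_⟩
  -- interior
  have hKEle : K ≤ E := hKI.trans hIE
  have h1 : ModPair.interior K ≤ ModPair.interior (I.comap r₁) :=
    fun y hy h => hy (Scheme.IdealSheafData.support_antitone hKI h)
  have h2 : ModPair.interior K ≤ ModPair.interior (J.comap r₂) :=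
    fun y hy h => hy (Scheme.IdealSheafData.support_antitone hKJ h)
  have h3 : ModPair.interior (K * E) = ModPair.interior K ⊓ ModPair.interior E :=
    Groth.Agent.Helper4.NApx19.interior_mul K E
  have h4 : ModPair.interior (I.comap r₁ * J.comap r₂) =
      ModPair.interior (I.comap r₁) ⊓ ModPair.interior (J.comap r₂) :=
    Groth.Agent.Helper4.NApx19.interior_mul _ _
  have h5 : ModPair.interior K = ModPair.interior (I.comap r₁) ⊓ ModPair.interior (J.comap r₂) := by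
    apply le_antisymm (le_inf h1 h2)
    rw [← h4, ← hKE, h3]
    exact inf_le_left
  rw [h5, Groth.Agent.Helper4.NApx19.interior_comap, Groth.Agent.Helper4.NApx19.interior_comap]
  rfl

end Groth.Agent.S18749
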