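import Groth.Statements.S18750
import Groth.Agent.Helper4.NApx46
import Mathlib

set_option autoImplicit false
universe u
open CategoryTheory CategoryTheory.Limits AlgebraicGeometry TopologicalSpace
open ModPair

namespace Groth.Agent.S18750


/-- Let (S, I_S), (T, J), (X, I) be schemes with quasi-coherent ideal sheaves of effective Cartier
divisors and f : X ⟶ S, g : T ⟶ S morphisms satisfying the modulus condition, and let Y₀ be the
scheme-theoretic image of pr₁⁻¹(X°) ∩ pr₂⁻¹(T°) in X ×_S T. Then the ambient product exists: there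
are a blowing up π : Y ⟶ Y₀ of Y₀ in the sum of the two pulled-back moduli and an ideal sheaf K on Y
whose product with the exceptional ideal is the product of the pull-backs of I and J (the divisor
D_X + D_T − E exists). -/
theorem result {S T X : Scheme.{u}} (IS : S.IdealSheafData)
    (J : T.IdealSheafData) (I : X.IdealSheafData) (hS : BlowUp.IsEffCartierIdeal IS)
    (hT : BlowUp.IsEffCartierIdeal J) (hX : BlowUp.IsEffCartierIdeal I)
    (f : X ⟶ S) (hf : ModPair.IsAmbient I IS f) (g : T ⟶ S) (hg : ModPair.IsAmbient J IS g) :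
    ∃ (Y : Scheme.{u}) (π : Y ⟶ ModPair.mprod f g I J) (K : Y.IdealSheafData),
      ModPair.IsAmbProd f g I J π K := by

  obtain ⟨Y, π, hπ⟩ := Groth.Agent.Helper4.NApx45.exists_isBlowUp (ModPair.mprod f g I J)
    (ModPair.prodCentre f g I J)
  refine ⟨Y, π, (I.comap (ModPair.mprodι f g I J ≫ Limits.pullback.fst f g)).comap π ⊓
    (J.comap (ModPair.mprodι f g I J ≫ Limits.pullback.snd f g)).comap π, hπ, ?_⟩
  have hE := hπ.1
  have e : (ModPair.prodCentre f g I J).comap π =
      (I.comap (ModPair.mprodι f g I J ≫ Limits.pullback.fst f g)).comap π ⊔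
        (J.comap (ModPair.mprodι f g I J ≫ Limits.pullback.snd f g)).comap π := by
    unfold ModPair.prodCentre
    exact (Scheme.IdealSheafData.map_gc π).l_sup
  rw [e] at hE ⊢
  exact Groth.Agent.Helper4.NApx46.inf_mul_sup_sheaf _ _ hE

end Groth.Agent.S18750
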