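import Groth.Statements.S12472
import Groth.Agent.Helper1.SG4
import Groth.Agent.Helper1.SG5
import Groth.Agent.Helper1.RP10
import Groth.Agent.Helper1.TR34
import Groth.Agent.Helper1.CF3
import Groth.Agent.Helper1.PL3
import Groth.Agent.Helper4.QAffSec

set_option autoImplicit false
universe u
open CategoryTheory CategoryTheory.Limits AlgebraicGeometry TopologicalSpace Opposite
open scoped HomogeneousIdeal
open EGA2

namespace Groth.Agent.S12472

/-- Let Y be a scheme and L an invertible O_Y-module. Then L is very ample relative to the identity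
morphism of Y: there are a quasi-coherent O_Y-module E and a Y-immersion i of Y into the projective
bundle P(E) with L isomorphic to i^*O_{P(E)}(1). -/
theorem result (Y : Scheme.{u}) (L : Y.Modules) (hL : PicF.IsInvertible L) :
    RelProj.IsRelVeryAmple (𝟙 Y) L := by
  haveI hLq : L.IsQuasicoherent := Groth.Agent.Helper4.QAffSec.isQuasicoherent_of_isInvertible L hL
  obtain ⟨𝒮, j, hj⟩ : ∃ (𝒮 : RelProj.QCGrAlg Y) (j : L ⟶ 𝒮.toModule), RelProj.IsGrSymAlg L 𝒮 j :=
    ⟨_, _, Groth.Agent.Helper1.SG.isGrSymAlg_grAlg (Groth.Agent.Helper1.SY.isSymAlg_symAlg L)⟩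
  obtain ⟨P, p, chart, hP⟩ := Groth.Agent.Helper1.RP.exists_isRelProj 𝒮
  obtain ⟨O1, lam, hO1⟩ := Groth.Agent.Helper1.TRE.exists_isRelTwist 1 hP
  haveI : IsIso p := Groth.Agent.Helper1.PL.isIso_relProj_of_isInvertible hL hj p chart hP
  obtain ⟨φ, hφ⟩ : ∃ φ : L ⟶ (Scheme.Modules.pushforward p).obj O1,
      ∀ (U : Y.Opens) (hU : IsAffineOpen U) (e : Γ(L, U))
      (y : ↥(RelProj.emb p chart U hU ⁻¹ᵁ (p ⁻¹ᵁ U))),
      GrTwist.val (V := RelProj.emb p chart U hU ⁻¹ᵁ (p ⁻¹ᵁ U))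
          ((lam U hU).app (p ⁻¹ᵁ U) ((φ.app U) e)) y =
        algebraMap (𝒮.presheaf.obj (op U)) (GrTwist.Loc (𝒮.deg U hU) y.1)
          ((j.app U) e : 𝒮.presheaf.obj (op U)) :=
    ⟨Groth.Agent.Helper1.CF.can j hj.2 hP hO1, Groth.Agent.Helper1.CF.val_can j hj.2 hP hO1⟩
  haveI hiso : IsIso (((Scheme.Modules.pullbackPushforwardAdjunction p).homEquiv L O1).symm φ) :=
    Groth.Agent.Helper1.SG.isIso_adjoint_canonical hj hO1 hL φ hφ
  have e : L ≅ (Scheme.Modules.pullback (inv p)).obj O1 :=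
    ((Scheme.Modules.pullbackId Y).app L).symm ≪≫
    (Scheme.Modules.pullbackCongr (IsIso.inv_hom_id p).symm).app L ≪≫
    ((Scheme.Modules.pullbackComp (inv p) p).app L).symm ≪≫
    (Scheme.Modules.pullback (inv p)).mapIso
      (asIso (((Scheme.Modules.pullbackPushforwardAdjunction p).homEquiv L O1).symm φ))
  exact ⟨L, hLq, 𝒮, j, hj, P, p, chart, hP, O1, lam, hO1, inv p, inferInstance, IsIso.inv_hom_id p, ⟨e⟩⟩

end Groth.Agent.S12472
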