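import Groth.Statements.S4418
import Groth.Agent.Helper1.RPP4
import Groth.Agent.Helper1.TR34
import Groth.Agent.Helper4.PullRel

set_option autoImplicit false
universe u
open CategoryTheory CategoryTheory.Limits AlgebraicGeometry
open EGA2

namespace Groth.Agent.S4418

/-- Every projective morphism f : X → Y is quasi-projective (of finite type with an f-ample module) and
proper. -/
theorem result {X Y : Scheme.{u}} (f : X ⟶ Y) (hf : RelProj.IsProjective f) :
    RelProj.IsQuasiProjective f ∧ IsProper f := by
  obtain ⟨𝒮, P, p, chart, e, hgen, hft, hP, he⟩ := hf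
  haveI : IsProper p := Groth.Agent.Helper1.RPP.isProper_of_isRelProj 𝒮 hgen hft p chart hP
  have hprop : IsProper f := by rw [← he]; infer_instance
  obtain ⟨L, lam, hL⟩ := Groth.Agent.Helper1.TRE.exists_isRelTwist ((1 : ℕ) : ℤ) hP
  have hamp : RelAmple.IsRelAmple p L :=
    Groth.Agent.Helper1.RPP.isRelAmple_of_isRelTwist hgen hft hP Nat.one_pos hL
  have hamp' := Groth.Agent.Helper4.PullRel.isRelAmple_pullback_of_isQuasiAffine p e.hom
    (Groth.Agent.Helper4.PullAmple.isQuasiAffine_of_isAffineHom e.hom) L hamp
  rw [he] at hamp'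
  exact ⟨⟨inferInstance, inferInstance, _, hamp'⟩, hprop⟩

end Groth.Agent.S4418
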