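import Groth.Statements.S14401
import Mathlib
import Groth.Agent.S2279
import Groth.Agent.S2258

set_option autoImplicit false
universe u
open CategoryTheory AlgebraicGeometry
open Props

namespace Groth.Agent.S14401

/-- Let X be a Noetherian scheme all of whose local rings are integral domains. Then each irreducible
component of X is an open subset of X, and each point of X lies on exactly one irreducible component
(so the irreducible components of X are pairwise disjoint, open and closed, and coincide with the
connected components). (The published statement assumes X regular and Noetherian; its argument uses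
only that the local rings of X are domains, which is the hypothesis taken here.) -/
theorem result (X : Scheme.{u}) [AlgebraicGeometry.IsNoetherian X]
    (hX : ∀ x : X, IsDomain (X.presheaf.stalk x)) :
    (∀ Z ∈ irreducibleComponents (X : Type u), IsOpen Z) ∧
      ∀ x : X, ∃! Z, Z ∈ irreducibleComponents (X : Type u) ∧ x ∈ Z := by
  have hnil : ∀ x : X, (nilradical (X.presheaf.stalk x)).IsPrime := by
    intro x
    have := hX x
    rw [nilradical_eq_zero]
    exact Ideal.isPrime_bot
  have hdisj := (Groth.Agent.S2279.result X).mpr hnil
  constructor
  · intro Z hZ
    rw [isOpen_iff_forall_mem_open]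
    intro x hxZ
    obtain ⟨U, hxU, hUirr⟩ := Groth.Agent.S2258.result X x (hnil x)
    obtain ⟨Z', hZ', hUZ'⟩ := exists_mem_irreducibleComponents_subset_of_isIrreducible _ hUirr
    have heq : Z' = Z := by
      by_contra hne
      have := hdisj hZ' hZ hne
      exact (Set.disjoint_left.mp this) (hUZ' hxU) hxZ
    exact ⟨U, heq ▸ hUZ', U.isOpen, hxU⟩
  · intro x
    refine ⟨irreducibleComponent x, ⟨irreducibleComponent_mem_irreducibleComponents x,
      mem_irreducibleComponent⟩, ?_⟩
    rintro Z ⟨hZ, hxZ⟩
    by_contra hne
    have := hdisj hZ (irreducibleComponent_mem_irreducibleComponents x) hne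
    exact (Set.disjoint_left.mp this) hxZ mem_irreducibleComponent

end Groth.Agent.S14401
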