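import Groth.Statements.S0593
import Groth.Agent.Helper4.NApx10
import Mathlib

set_option autoImplicit false
universe u
open CategoryTheory AlgebraicGeometry
open Lim

namespace Groth.Agent.S0593


/-- If `f : X → S` is surjective and universally closed with `X` affine, then `S` is affine. -/
theorem result (X S : Scheme.{u}) (f : X ⟶ S)
    [IsAffine X] [Surjective f] [UniversallyClosed f] : IsAffine S := by

  haveI : CompactSpace S := by
    constructor
    rw [← Set.range_eq_univ.mpr f.surjective]
    exact isCompact_range f.continuous
  haveI : IsSeparated (f ≫ Limits.terminal.from S) := by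
    rw [Limits.terminal.comp_from]; infer_instance
  haveI : S.IsSeparated :=
    ⟨Groth.Agent.Helper4.NApx10.isSeparated_of_surjective_universallyClosed f
      (Limits.terminal.from S)⟩
  haveI : IsAffineHom f := by
    haveI : IsAffineHom (f ≫ Limits.terminal.from S) := by
      rw [Limits.terminal.comp_from]; infer_instance
    exact IsAffineHom.of_comp f (Limits.terminal.from S)
  haveI : IsIntegralHom f := IsIntegralHom.iff_universallyClosed_and_isAffineHom.mpr
    ⟨inferInstance, inferInstance⟩
  obtain ⟨I, hP, hD, hN, D, c, hc, e, h1⟩ :=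
    Groth.Agent.Helper4.NApx9.integral_limit_finite f
  haveI : IsCofiltered Iᵒᵖ := Groth.Agent.Helper4.NApx0.isCofiltered_op_of_directed I
  haveI : IsConnected Iᵒᵖ := IsCofiltered.isConnected _
  haveI : IsIso e.hom.left := (Over.forget S).map_isIso e.hom
  let E := D ⋙ Over.forget S
  let cE := (Over.forget S).mapCone c
  have hcE : Limits.IsLimit cE := Limits.isLimitOfPreserves (Over.forget S) hc
  haveI : ∀ {i j : Iᵒᵖ} (a : i ⟶ j), IsAffineHom (E.map a) := by
    intro i j a
    show IsAffineHom (D.map a).left
    haveI := h1 j
    haveI : IsAffineHom ((D.map a).left ≫ (D.obj j).hom) := by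
      rw [Over.w]; haveI := h1 i; infer_instance
    exact IsAffineHom.of_comp (D.map a).left (D.obj j).hom
  haveI : ∀ i, CompactSpace (E.obj i) := fun i => by
    show CompactSpace (D.obj i).left
    haveI := h1 i
    exact QuasiCompact.compactSpace_of_compactSpace (D.obj i).hom
  haveI : ∀ i, QuasiSeparatedSpace (E.obj i) := fun i => by
    show QuasiSeparatedSpace (D.obj i).left
    haveI := h1 i
    exact quasiSeparatedSpace_of_quasiSeparated (D.obj i).hom
  haveI : IsAffine cE.pt := by
    show IsAffine c.pt.left
    haveI : IsAffine (Over.mk f).left := by show IsAffine X; infer_instance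
    exact IsAffine.of_isIso e.hom.left
  obtain ⟨i, hi⟩ := Scheme.exists_isAffine_of_isLimit E cE hcE
  haveI : IsAffine (D.obj i).left := hi
  haveI := h1 i
  haveI : Surjective (D.obj i).hom := by
    haveI : Surjective ((c.π.app i).left ≫ (D.obj i).hom) := by
      have h3 : (c.π.app i).left ≫ (D.obj i).hom = c.pt.hom := Over.w (c.π.app i)
      have h4 : c.pt.hom = e.hom.left ≫ f := (Over.w e.hom).symm
      rw [h3, h4]; infer_instance
    exact Surjective.of_comp (c.π.app i).left (D.obj i).hom
  exact Groth.Agent.Helper4.NApx10.isAffine_of_finite_surjective (D.obj i).hom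

end Groth.Agent.S0593
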