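import Groth.Statements.S7396
import Groth.Agent.Helper4.NApx3
import Mathlib

set_option autoImplicit false
universe u
open CategoryTheory AlgebraicGeometry
open Lim

namespace Groth.Agent.S7396


/-- Let `f : X → S` be finite with `S` quasi-compact and quasi-separated. Then there are a morphism `f'
: X' → S` which is finite and of finite presentation and a closed immersion `X → X'` over `S`. -/
theorem result {X S : Scheme.{u}} (f : X ⟶ S) [IsFinite f]
    [CompactSpace S] [QuasiSeparatedSpace S] :
    ∃ (X' : Scheme.{u}) (f' : X' ⟶ S) (j : X ⟶ X'), IsFinite f' ∧ LocallyOfFinitePresentation f' ∧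
      IsClosedImmersion j ∧ j ≫ f' = f := by

  obtain ⟨I, hP, hD, hN, D, c, hc, e, h1, h2, h3⟩ :=
    Groth.Agent.Helper4.NApx3.finite_closedImm_limit f
  obtain ⟨i⟩ : Nonempty Iᵒᵖ := ⟨Opposite.op hN.some⟩
  haveI := h3 i
  haveI : IsIso e.inv.left := (Over.forget S).map_isIso e.inv
  refine ⟨(D.obj i).left, (D.obj i).hom, e.inv.left ≫ (c.π.app i).left, (h1 i).1, (h1 i).2,
    inferInstance, ?_⟩
  have h6 : (c.π.app i).left ≫ (D.obj i).hom = c.pt.hom := Over.w (c.π.app i)
  have h7 : e.inv.left ≫ c.pt.hom = f := Over.w e.inv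
  rw [Category.assoc, h6, h7]

end Groth.Agent.S7396
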