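import Groth.Statements.S9884
import Groth.Agent.Helper4.AlgSpDesc
import Mathlib

set_option autoImplicit false
universe u
open CategoryTheory CategoryTheory.Limits AlgebraicGeometry
open AlgSp

namespace Groth.Agent.S9884

/-- Let `a : F ⟶ G` be a map of fppf sheaves of sets over `S` which is representable by schemes, `b : H
⟶ G` a surjective map of sheaves, and `a' : H ×_G F ⟶ H` the base change of `a` along `b` (a
pullback square in sheaves). Let `P` be a property of morphisms of schemes stable under base change
and fppf local on the base. If `a'` has `P` in the representable sense, then so does `a`. (The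
published statement is for presheaves, with `b` inducing a surjection of fppf sheafifications; this
row is the case of sheaves.) -/
theorem result (S : Scheme.{u}) (F G H : AlgSp.Sp S) (a : F ⟶ G)
    (ha : AlgSp.Representable a) (b : H ⟶ G) [Sheaf.IsLocallySurjective b] (Q : AlgSp.Sp S) (b' : Q ⟶ F)
    (a' : Q ⟶ H) (sq : IsPullback b' a' a b) (P : MorphismProperty Scheme.{u}) [P.IsStableUnderBaseChange]
    [P.IsLocalAtTarget Scheme.fppfPrecoverage] (h : AlgSp.RepWith P a') : AlgSp.RepWith P a := by

  refine ⟨ha, ?_⟩
  intro T E ξ c e hE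
  show P e.left
  have hmem : Presheaf.imageSieve b.hom ((J S).uliftYonedaEquiv ξ) ∈ (J S) T :=
    Presheaf.imageSieve_mem (J S) b.hom _
  rw [GrothendieckTopology.mem_over_iff] at hmem
  obtain ⟨R, hR, hle⟩ := (Precoverage.mem_toGrothendieck_iff_of_isStableUnderComposition).1 hmem
  refine MorphismProperty.IsLocalAtTarget.of_forall_pullbackSnd (K := Scheme.fppfPrecoverage) hR ?_
  intro U g _ hg
  have hg' := hle _ _ hg
  rw [Sieve.overEquiv_iff] at hg'
  obtain ⟨x, hx⟩ := hg'
  let T' : Over S := Over.mk (g ≫ T.hom)
  let g' : T' ⟶ T := Over.homMk g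
  let h' : (yon S).obj T' ⟶ H := (J S).uliftYonedaEquiv.symm x
  have hh : h' ≫ b = (yon S).map g' ≫ ξ := by
    apply (J S).uliftYonedaEquiv.injective
    rw [GrothendieckTopology.uliftYonedaEquiv_comp,
      ← GrothendieckTopology.uliftYonedaEquiv_naturality]
    simpa [h'] using hx
  have hE' := IsPullback.of_hasPullback e g'
  obtain ⟨m, hm⟩ := Groth.Agent.Helper4.AlgSpDesc.cube sq hE hh hE'
  have hP : P (pullback.snd e g').left := h.property h' m _ hm
  have hsq : IsPullback (pullback.fst e g').left (pullback.snd e g').left e.left g :=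
    hE'.map (Over.forget S)
  have h3 : hsq.isoPullback.hom ≫ pullback.snd e.left g = (pullback.snd e g').left :=
    hsq.isoPullback_hom_snd
  have : P.RespectsIso := MorphismProperty.IsStableUnderBaseChange.respectsIso
  rw [← P.cancel_left_of_respectsIso hsq.isoPullback.hom, h3]
  exact hP

end Groth.Agent.S9884
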