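import Groth.Statements.S9885
import Groth.Agent.Helper4.AlgSpBasic
import Mathlib

set_option autoImplicit false
universe u
open CategoryTheory CategoryTheory.Limits AlgebraicGeometry
open AlgSp

namespace Groth.Agent.S9885

/-- Let `a : F ⟶ G` be a map of fppf sheaves of sets over `S` which is representable by schemes, flat,
locally of finite presentation and surjective (in the representable sense). Then `a` is surjective
as a map of sheaves (locally surjective). -/
theorem result (S : Scheme.{u}) (F G : AlgSp.Sp S) (a : F ⟶ G)
    (h₁ : AlgSp.RepWith @Flat a) (h₂ : AlgSp.RepWith @LocallyOfFinitePresentation a)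
    (h₃ : AlgSp.RepWith @Surjective a) : Sheaf.IsLocallySurjective a := by

  constructor
  intro T s
  let ξ : (yon S).obj T ⟶ G := (J S).uliftYonedaEquiv.symm s
  have ha := h₁.rep
  let V := ha.pullback ξ
  let fst : (yon S).obj V ⟶ F := ha.fst ξ
  let snd : V ⟶ T := ha.snd ξ
  have hpb : IsPullback fst ((yon S).map snd) a ξ := ha.isPullback ξ
  have hfl : Flat snd.left := h₁.property _ _ _ hpb
  have hfp : LocallyOfFinitePresentation snd.left := h₂.property _ _ _ hpb
  have hsj : Surjective snd.left := h₃.property _ _ _ hpb
  refine GrothendieckTopology.superset_covering _ ?_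
    (Groth.Agent.Helper4.AlgSpBasic.generate_singleton_mem_J snd)
  rw [Sieve.generate_le_iff]
  rintro _ _ ⟨⟩
  refine ⟨(J S).uliftYonedaEquiv fst, ?_⟩
  have h1 := GrothendieckTopology.uliftYonedaEquiv_comp (J S) fst a
  have h2 := GrothendieckTopology.uliftYonedaEquiv_naturality (J S) ξ snd
  rw [← hpb.w] at h2
  rw [← h1, ← h2]
  simp [ξ]

end Groth.Agent.S9885
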