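import Groth.Statements.S9952
import Groth.Agent.Helper4.AlgSpLocP2
import Mathlib

set_option autoImplicit false
universe u
open CategoryTheory CategoryTheory.Limits AlgebraicGeometry
open AlgSp

namespace Groth.Agent.S9952


set_option backward.isDefEq.respectTransparency.types false in
/-- If g ∘ f is locally of finite type then f is locally of finite type. -/
theorem result {S : Scheme.{u}} {X Y Z : AlgSp.Space S} (f : X ⟶ Y) (g : Y ⟶ Z)
    (h : AlgSp.LocP @LocallyOfFiniteType (f ≫ g).hom) : AlgSp.LocP @LocallyOfFiniteType f.hom := by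

  intro U V a b k ha hb comm
  obtain ⟨W, c, hce, hcs⟩ := Z.property.atlas
  have comm' : a ≫ (f ≫ g).hom = (yon S).map k ≫ (b ≫ g.hom) := by
    change a ≫ f.hom ≫ g.hom = _
    rw [← Category.assoc, comm, Category.assoc]
  obtain ⟨U', V', e, d, pfst, psnd, hee, hes, hpb, h1, h2, hbig⟩ :=
    Groth.Agent.Helper4.AlgSpLocP2.chart_base_change (f ≫ g).hom c hce hcs a (b ≫ g.hom) k comm'
  have hpe : Etale pfst.left := MorphismProperty.of_isPullback h1 hee
  have ha' : RepWith @Etale ((yon S).map pfst ≫ a) :=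
    Groth.Agent.Helper4.AlgSpSrc.repWith_comp _ ((repWith_yon_map_iff _ _).2 hpe) ha
  have hc' : ((yon S).map pfst ≫ a) ≫ (f ≫ g).hom = (yon S).map (psnd ≫ d) ≫ c := by
    rw [Category.assoc, (yon S).map_comp]; exact hbig.w.symm
  have hl : LocallyOfFiniteType (psnd ≫ d).left := h _ c (psnd ≫ d) ha' hce hc'
  have hl' : LocallyOfFiniteType (psnd.left ≫ d.left) := hl
  have hl'' : LocallyOfFiniteType psnd.left := locallyOfFiniteType_of_comp psnd.left d.left
  exact MorphismProperty.of_isPullback_of_descendsAlong (P := @LocallyOfFiniteType)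
    (Q := (@Surjective ⊓ @Flat ⊓ @LocallyOfFinitePresentation)) h1
    ⟨⟨hes, inferInstance⟩, inferInstance⟩ hl''

end Groth.Agent.S9952
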