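import Groth.Statements.S9959
import Groth.Agent.Helper4.AlgSpLocP2
import Groth.Agent.Helper4.SchLFP
import Mathlib

set_option autoImplicit false
universe u
open CategoryTheory CategoryTheory.Limits AlgebraicGeometry
open AlgSp

namespace Groth.Agent.S9959


set_option backward.isDefEq.respectTransparency.types false in
/-- Given X -> Y -> Z with X -> Z locally finitely presented and Y -> Z locally of finite type, X -> Y
is locally finitely presented (all three etale locally on source and target). -/
theorem result {S : Scheme.{u}} {X Y Z : AlgSp.Space S} (f : X ⟶ Y) (g : Y ⟶ Z)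
    (hX : AlgSp.LocP @LocallyOfFinitePresentation (f ≫ g).hom) (hY : AlgSp.LocP @LocallyOfFiniteType g.hom) :
    AlgSp.LocP @LocallyOfFinitePresentation f.hom := by

  intro U V a b k ha hb comm
  obtain ⟨W, c, hce, hcs⟩ := Z.property.atlas
  have comm' : a ≫ (f ≫ g).hom = (yon S).map k ≫ (b ≫ g.hom) := by
    change a ≫ f.hom ≫ g.hom = _
    rw [← Category.assoc, comm, Category.assoc]
  obtain ⟨U', V', e, d, pfst, psnd, hee, hes, hpb, h1, h2, hbig⟩ :=
    Groth.Agent.Helper4.AlgSpLocP2.chart_base_change (f ≫ g).hom c hce hcs a (b ≫ g.hom) k comm'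
  have hpe : Etale pfst.left := MorphismProperty.of_isPullback h1 hee
  have ha' : RepWith @Etale ((yon S).map pfst ≫ a) :=
    Groth.Agent.Helper4.AlgSpSrc.repWith_comp _ ((repWith_yon_map_iff _ _).2 hpe) ha
  have hb' : RepWith @Etale ((yon S).map e ≫ b) :=
    Groth.Agent.Helper4.AlgSpSrc.repWith_comp _ ((repWith_yon_map_iff _ _).2 hee) hb
  have hd : LocallyOfFiniteType d.left :=
    hY _ c d hb' hce (by rw [Category.assoc]; exact hpb.w.symm)
  have hc' : ((yon S).map pfst ≫ a) ≫ (f ≫ g).hom = (yon S).map (psnd ≫ d) ≫ c := by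
    rw [Category.assoc, (yon S).map_comp]; exact hbig.w.symm
  have hl : LocallyOfFinitePresentation (psnd ≫ d).left := hX _ c (psnd ≫ d) ha' hce hc'
  have hl' : LocallyOfFinitePresentation (psnd.left ≫ d.left) := hl
  have hl'' : LocallyOfFinitePresentation psnd.left :=
    Groth.Agent.Helper4.SchLFP.locallyOfFinitePresentation_of_comp psnd.left d.left
  exact MorphismProperty.of_isPullback_of_descendsAlong (P := @LocallyOfFinitePresentation)
    (Q := (@Surjective ⊓ @Flat ⊓ @LocallyOfFinitePresentation)) h1
    ⟨⟨hes, inferInstance⟩, inferInstance⟩ hl''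

end Groth.Agent.S9959
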