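import Groth.Statements.S1619
import Groth.Agent.Helper5.VarDim4

set_option autoImplicit false
universe u
open CategoryTheory CategoryTheory.Limits AlgebraicGeometry
attribute [local instance] Curv2.stalkAlgebra Curv2.resAlgebra
open Variety

namespace Groth.Agent.S1619

/-- Let X be irreducible and locally of finite type over a field k, with generic point ξ. If the residue
field of ξ has transcendence degree n over k then X has Krull dimension n. -/
theorem result (k : Type u) [Field k] (X : Scheme.{u}) [X.Over (Spec (CommRingCat.of k))] [LocallyOfFiniteType (X ↘ (Spec (CommRingCat.of k)))] [IrreducibleSpace X]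
    (n : ℕ) (hn : Algebra.trdeg k (X.residueField (genericPoint X)) = n) : topologicalKrullDim X = n := by
  obtain ⟨m, hm1, hm2, -⟩ := Groth.Agent.Helper5.VarDim.localDim_formula k
    (X ↘ (Spec (CommRingCat.of k))) (genericPoint X)
  have hn' : @Algebra.trdeg k (X.residueField (genericPoint X)) _ _
      (Groth.Agent.Helper5.VarDim.resHom k (X ↘ (Spec (CommRingCat.of k)))
        (genericPoint X)).toAlgebra = n := hn
  rw [hm1] at hn'
  have hmn : m = n := by exact_mod_cast hn'
  rw [← Groth.Agent.Helper5.VarDim.localDim_eq_dim_of_irreducible k
    (X ↘ (Spec (CommRingCat.of k))) (genericPoint X), hm2, hmn, ringKrullDim_stalk_eq_coheight]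
  have h0 : Order.coheight (genericPoint X) = 0 := by
    rw [Order.coheight_eq_zero]
    intro y hy
    exact genericPoint_specializes y
  rw [h0]
  simp

end Groth.Agent.S1619
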