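import Groth.Statements.S12579
import Groth.Agent.Helper6.TateAdele

set_option autoImplicit false
universe u v w
open FunFld

namespace Groth.Agent.S12579

/-- For a function field of one variable `K/k` and `u, v ∈ K`, the local residues `Res_P(u dv)` vanish
for almost all places `P` and `∑_P Res_P(u dv) = 0`; stated through Laurent expansions over `k` at
every place (so for function fields all of whose places are separable), the residue at `P` being the
trace to `k` of the coefficient of `X⁻¹`. -/
theorem result (k : Type u) (K : Type v) [Field k] [Field K] [Algebra k K] (hK : FunFld.IsFunctionField k K)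
    (F : FunFld.Place k K → Type w) [∀ P, Field (F P)] [∀ P, Algebra k (F P)] [∀ P, FiniteDimensional k (F P)]
    (φ : ∀ P, K →ₐ[k] LaurentSeries (F P)) (hφ : ∀ P, LocRes.IsExpansionAt P.1 (φ P))
    (u v : K) :
    (Function.support fun P => LocRes.locRes (φ P) u v).Finite ∧ ∑ᶠ P, LocRes.locRes (φ P) u v = 0 := by
  classical
  have hex : ∀ P : FunFld.Place k K, ∃ pl : Module.End k K, pl * pl = pl ∧
      LinearMap.range pl = Groth.Agent.Helper6.TateExp.OSub P.1 P.2.1 := by
    intro P
    obtain ⟨C, hC⟩ := Submodule.exists_isCompl (Groth.Agent.Helper6.TateExp.OSub P.1 P.2.1)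
    exact ⟨Submodule.projection _ _ hC, Submodule.isIdempotentElem_projection hC,
      Submodule.range_projection hC⟩
  choose pl hpl hrl using hex
  have hloc := fun P : FunFld.Place k K =>
    Groth.Agent.Helper6.TateExp.local_main P.1 P.2.1 (φ P) (hφ P) (pl P) (hpl P) (hrl P) u v
  have hlocv := fun P : FunFld.Place k K =>
    (Groth.Agent.Helper6.TateExp.local_main P.1 P.2.1 (φ P) (hφ P) (pl P) (hpl P) (hrl P) v u).1
  have hfin : ∀ z : K, {P : FunFld.Place k K | ¬ P.1 z ≤ 1}.Finite := fun z =>
    (Groth.Agent.Helper5.FF.mem_adele_iff _).mp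
      (Groth.Agent.Helper5.FF.range_diag_le_adele hK ⟨z, rfl⟩)
  obtain ⟨S, hSdef⟩ : ∃ S : Finset (FunFld.Place k K), S = ((hfin u).union (hfin v)).toFinset :=
    ⟨_, rfl⟩
  have hS : ∀ P, P ∉ S → P.1 u ≤ 1 ∧ P.1 v ≤ 1 := by
    intro P hP
    rw [hSdef, Set.Finite.mem_toFinset, Set.mem_union] at hP
    push Not at hP
    exact ⟨not_lt.mp hP.1, not_lt.mp hP.2⟩
  have hsum := Groth.Agent.Helper6.TateAdele.sum_tr_eq_zero hK pl hpl hrl u v S hS
    (fun P => (hloc P).1) hlocv
  have hsupp : (Function.support fun P => LocRes.locRes (φ P) u v) ⊆ (S : Set (FunFld.Place k K)) := by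
    intro P hP
    by_contra hPS
    apply hP
    have hPS' : P ∉ S := hPS
    show LocRes.locRes (φ P) u v = 0
    rw [← (hloc P).2, Groth.Agent.Helper6.TateAdele.comm_eq_zero_of_le (hpl P) (hrl P)
      (hS P hPS').1 (hS P hPS').2, Groth.Agent.Helper6.TateTr.tr_zero]
  refine ⟨S.finite_toSet.subset hsupp, ?_⟩
  rw [finsum_eq_sum_of_support_subset _ hsupp, ← hsum]
  exact Finset.sum_congr rfl fun P _ => ((hloc P).2).symm

end Groth.Agent.S12579
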