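import Groth.Statements.S10962
import Groth.Agent.Helper4.SN267
import Groth.Agent.Helper4.AmplePoints
import Groth.Agent.Helper4.AmpleLocal
import Groth.Agent.Helper9.ProjSp
import Groth.Agent.Helper1.VA10
import Groth.Agent.Helper1.PUP8
import Groth.Agent.Helper1.TwistAmple
import Groth.Agent.Lead.ProperFinA
import Mathlib

set_option autoImplicit false
universe u
open CategoryTheory CategoryTheory.Limits AlgebraicGeometry TopologicalSpace
open SDiv

namespace Groth.Agent.S10962


/-- Let R be a nonzero ring and n ≥ 1, and let X be projective n-space over R. For an integer d, the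
Serre twist O_X(d) is ample if and only if d > 0. (Ample is taken in the sense that X is
quasi-compact and covered by the affine open non-vanishing loci X_s of global sections s of positive
tensor powers; for the quasi-compact separated scheme X this agrees with the definition through
finitely many generating sections with quasi-affine non-vanishing loci. The published remark also
asserts that O_X(d) is very ample relative to R for d > 0; that clause is not part of this row.) -/
theorem result (R : Type u) [CommRing R] [Nontrivial R] (n : ℕ) (hn : 1 ≤ n) (d : ℤ) :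
    CohB1.IsAmple (Twist.twistProjSpace n R d) ↔ 0 < d := by

  classical
  have hcov := Groth.Agent.Helper1.PUP.hcovP (R := R) n
  haveI : CompactSpace (Proj (CohB1.polyGrading n R)) :=
    Groth.Agent.Helper1.VA.compactSpace_proj R n
  constructor
  · intro hA
    by_contra hd
    have hd' : d ≤ 0 := not_lt.mp hd
    -- a point of projective space
    obtain ⟨y⟩ : Nonempty (Spec (CommRingCat.of R)) := inferInstance
    obtain ⟨x, -⟩ := (Groth.Agent.Helper9.ProjSp.surjective_toSpec n R).surj y
    have hE : PicF.IsInvertible (Twist.twistProjSpace n R (-1)) :=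
      Groth.Agent.Helper1.TwistMul.isInvertible_twist (CohB1.polyGrading n R) hcov (-1)
    obtain ⟨N₀, hN₀⟩ := Groth.Agent.Helper4.AmplePoints.exists_sections_all_large_twists hA
      (Twist.twistProjSpace n R (-1)) hE {x} (Set.finite_singleton x)
    obtain ⟨s, hs⟩ := hN₀ N₀ le_rfl
    -- the tensor power is a twist
    have hpow : ∀ m : ℕ, Nonempty (CohB1.tensorPow (Twist.twistProjSpace n R d) m ≅
        Twist.twistProjSpace n R ((m : ℤ) * d)) := by
      intro m
      induction m with
      | zero =>
        obtain ⟨e⟩ := Groth.Agent.Helper1.TwistMul.nonempty_twist_zero_iso (CohB1.polyGrading n R)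
        have h0 : ((0 : ℕ) : ℤ) * d = 0 := by simp
        rw [h0]
        exact ⟨e.symm⟩
      | succ m ih =>
        obtain ⟨e⟩ := ih
        obtain ⟨e'⟩ := Groth.Agent.Helper1.TwistMul.nonempty_twist_tensor_twist_iso
          (CohB1.polyGrading n R) hcov
          ((m : ℤ) * d) d (((m + 1 : ℕ) : ℤ) * d) (by push_cast; ring)
        exact ⟨PicGrp.tensorModIso e (Iso.refl _) ≪≫ e'⟩
    obtain ⟨e1⟩ := hpow N₀
    obtain ⟨e2⟩ := Groth.Agent.Helper1.TwistMul.nonempty_twist_tensor_twist_iso
      (CohB1.polyGrading n R) hcov (-1) ((N₀ : ℤ) * d) (-1 + (N₀ : ℤ) * d) rfl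
    let ε : CohB1.tensorMod (Twist.twistProjSpace n R (-1))
        (CohB1.tensorPow (Twist.twistProjSpace n R d) N₀) ≅
        Twist.twistProjSpace n R (-1 + (N₀ : ℤ) * d) :=
      PicGrp.tensorModIso (Iso.refl _) e1 ≪≫ e2
    have hneg : -1 + (N₀ : ℤ) * d < 0 := by
      have : (N₀ : ℤ) * d ≤ 0 := mul_nonpos_of_nonneg_of_nonpos (Int.natCast_nonneg _) hd'
      omega
    haveI hsub : Subsingleton (Coh.HH (CohB1.ProjSpace n R)
        (Twist.twistProjSpace n R (-1 + (N₀ : ℤ) * d)) 0) :=
      Groth.Agent.S0844.result R n _ 0 (fun h => by omega) (fun h => by omega)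
    have hinvT : PicF.IsInvertible (Twist.twistProjSpace n R (-1 + (N₀ : ℤ) * d)) :=
      Groth.Agent.Helper1.TwistMul.isInvertible_twist (CohB1.polyGrading n R) hcov _
    have hzero : s ≫ ε.hom = 0 := by
      apply Groth.Agent.Helper4.AmpleLocal.unit_hom_ext
      have hsub' : Subsingleton ((Coh.toAb (Twist.twistProjSpace n R (-1 + (N₀ : ℤ) * d))).obj.obj
          (Opposite.op ⊤)) :=
        (Groth.Agent.Lead.ProperFinA.h0Equiv
          (Twist.twistProjSpace n R (-1 + (N₀ : ℤ) * d))).symm.toEquiv.subsingleton
      exact hsub'.elim _ _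
    have hx : x ∈ CohB1.genLocus _ (s ≫ ε.hom) := by
      rw [Groth.Agent.Helper4.AmpleIso.genLocus_comp_iso]
      exact hs rfl
    rw [hzero] at hx
    exact Groth.Agent.Helper4.AmpleFinite.notMem_genLocus_zero hinvT x hx
  · intro hd
    obtain ⟨m, rfl⟩ := Int.eq_ofNat_of_zero_le hd.le
    have hm : 0 < m := by exact_mod_cast hd
    exact Groth.Agent.Helper1.TwistMul.isAmple_twist (CohB1.polyGrading n R) hcov m hm

end Groth.Agent.S10962
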