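import Groth.Statements.S19434
import Groth.Agent.Helper1.HypCoh5

set_option autoImplicit false
universe u
open Coherent

namespace Groth.Agent.S19434

open CategoryTheory CategoryTheory.Limits AlgebraicGeometry in
/-- Let F be a field, d ≥ 1, k ≥ 1, P = P^{d+1}_F, and X ⊆ P a hypersurface of degree k: a closed
subscheme (ideal sheaf I) whose ideal sheaf is isomorphic, as an O_P-module, to O_P(-k) —
equivalently X is cut out by one nonzero form q of degree k, with homogeneous coordinate ring A =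
F[x_0, …, x_{d+1}]/(q), whose degree-m piece has dimension a(m) = C(m+d+1, d+1) - C(m-k+d+1, d+1) (a
binomial coefficient with a negative upper entry read as 0). For an integer n let O_X(n) denote the
O_P-module O_X ⊗ O_P(n). Then H^p(P, O_X(n)) vanishes for every p different from 0 and d, H^0(P,
O_X(n)) is a finite-dimensional F-vector space of dimension a(n), and H^d(P, O_X(n)) is
finite-dimensional of dimension a(k-2-d-n). Only the vanishing, the finiteness and the dimensions
are stated here; the identifications of H^0(P, O_X(n)) with A_n and of H^d(P, O_X(n)) with the dual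
of A_{k-2-d-n} are not. -/
theorem result (F : Type u) [Field F] (d k : ℕ)
    (hd : 1 ≤ d) (hk : 1 ≤ k) (I : (CohB1.ProjSpace (d + 1) F).IdealSheafData)
    (hI : Nonempty (ClSub.idealMod I ≅ Twist.twistProjSpace (d + 1) F (-(k : ℤ)))) (n : ℤ) :
    (∀ p : ℕ, p ≠ 0 → p ≠ d →
      Subsingleton (Coh.HH (CohB1.ProjSpace (d + 1) F)
        (CohB1.tensorMod (ClSub.quotMod I) (Twist.twistProjSpace (d + 1) F n)) p)) ∧
    (Module.Finite F (Coh.HH (CohB1.ProjSpace (d + 1) F)
        (CohB1.tensorMod (ClSub.quotMod I) (Twist.twistProjSpace (d + 1) F n)) 0) ∧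
      Module.finrank F (Coh.HH (CohB1.ProjSpace (d + 1) F)
        (CohB1.tensorMod (ClSub.quotMod I) (Twist.twistProjSpace (d + 1) F n)) 0) =
        (Nat.choose (n + ((d : ℤ) + 1)).toNat (d + 1) - Nat.choose (n - (k : ℤ) + ((d : ℤ) + 1)).toNat (d + 1))) ∧
    (Module.Finite F (Coh.HH (CohB1.ProjSpace (d + 1) F)
        (CohB1.tensorMod (ClSub.quotMod I) (Twist.twistProjSpace (d + 1) F n)) d) ∧
      Module.finrank F (Coh.HH (CohB1.ProjSpace (d + 1) F)
        (CohB1.tensorMod (ClSub.quotMod I) (Twist.twistProjSpace (d + 1) F n)) d) =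
        (Nat.choose (((k : ℤ) - 2 - (d : ℤ) - n) + ((d : ℤ) + 1)).toNat (d + 1) - Nat.choose (((k : ℤ) - 2 - (d : ℤ) - n) - (k : ℤ) + ((d : ℤ) + 1)).toNat (d + 1))) := by
  obtain ⟨e⟩ := hI
  refine ⟨fun p hp0 hpd => ?_, ?_, ?_⟩
  · rcases Nat.lt_or_ge d p with h | h
    · exact Groth.Agent.Helper1.HypCoh.subsingleton_X₃ F (d + 1) I (k : ℤ) e n p h
    · exact Groth.Agent.Helper1.HypCoh.subsingleton_X₃_mid F (d + 1) I (k : ℤ) e n p (by omega)
        (by omega) (by omega)
  · -- degree 0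
    haveI h11 := Groth.Agent.Helper1.HypCoh.subsingleton_X₁ F (d + 1) I (k : ℤ) e n (0 + 1) le_rfl
      (by omega)
    haveI h12 := Groth.Agent.Helper1.HypCoh.subsingleton_X₂ F (d + 1) I n (0 + 1) le_rfl (by omega)
    have hc := Groth.Agent.Helper1.HypCoh.count F (d + 1) I (k : ℤ) e n 0
      (Groth.Agent.Helper1.HypCoh.injective_zero F (d + 1) I n)
      (fun y => ⟨0, Subsingleton.elim _ _⟩)
    have h1 := Groth.Agent.Helper1.HypCoh.finrank_X₁_zero F (d + 1) I (k : ℤ) e n (by omega)
    have h2 := Groth.Agent.Helper1.HypCoh.finrank_X₂_zero F (d + 1) I n (by omega)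
    have z1 : Module.finrank F (Coh.HH (CohB1.ProjSpace (d + 1) F)
        (Groth.Agent.Helper1.HypCoh.T F (d + 1) I n).X₁ (0 + 1)) = 0 :=
      Module.finrank_zero_of_subsingleton
    have z2 : Module.finrank F (Coh.HH (CohB1.ProjSpace (d + 1) F)
        (Groth.Agent.Helper1.HypCoh.T F (d + 1) I n).X₂ (0 + 1)) = 0 :=
      Module.finrank_zero_of_subsingleton
    refine ⟨hc.1, ?_⟩
    have hc2 := hc.2
    rw [h1, h2, z1, z2] at hc2
    push_cast at hc2
    change Module.finrank F (Coh.HH (CohB1.ProjSpace (d + 1) F)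
      (Groth.Agent.Helper1.HypCoh.T F (d + 1) I n).X₃ 0) = _
    omega
  · -- degree d
    haveI h11 := Groth.Agent.Helper1.HypCoh.subsingleton_X₁ F (d + 1) I (k : ℤ) e n d hd
      (by omega)
    haveI h12 := Groth.Agent.Helper1.HypCoh.subsingleton_X₂ F (d + 1) I n d hd (by omega)
    have hc := Groth.Agent.Helper1.HypCoh.count F (d + 1) I (k : ℤ) e n d
      (fun x y _ => Subsingleton.elim _ _)
      (Groth.Agent.Helper1.HypCoh.surjective_of_vanishing F (d + 1) I n d
        (Groth.Agent.Helper1.HypCoh.subsingleton_X₃ F (d + 1) I (k : ℤ) e n (d + 1) le_rfl))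
    have h3 := Groth.Agent.Helper1.HypCoh.finrank_X₁_top F (d + 1) I (k : ℤ) e n (by omega)
    have h4 := Groth.Agent.Helper1.HypCoh.finrank_X₂_top F (d + 1) I n (by omega)
    have z1 : Module.finrank F (Coh.HH (CohB1.ProjSpace (d + 1) F)
        (Groth.Agent.Helper1.HypCoh.T F (d + 1) I n).X₁ d) = 0 :=
      Module.finrank_zero_of_subsingleton
    have z2 : Module.finrank F (Coh.HH (CohB1.ProjSpace (d + 1) F)
        (Groth.Agent.Helper1.HypCoh.T F (d + 1) I n).X₂ d) = 0 :=
      Module.finrank_zero_of_subsingleton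
    refine ⟨hc.1, ?_⟩
    have hc2 := hc.2
    rw [h3, h4, z1, z2] at hc2
    have e1 : ((k : ℤ) - 2 - (d : ℤ) - n) + ((d : ℤ) + 1) = (k : ℤ) - n - 1 := by ring
    have e2 : ((k : ℤ) - 2 - (d : ℤ) - n) - (k : ℤ) + ((d : ℤ) + 1) = -n - 1 := by ring
    rw [e1, e2]
    change Module.finrank F (Coh.HH (CohB1.ProjSpace (d + 1) F)
      (Groth.Agent.Helper1.HypCoh.T F (d + 1) I n).X₃ d) = _
    omega

end Groth.Agent.S19434
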