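import Groth.Statements.S9903
import Groth.Agent.Helper4.AlgSpLocal
import Mathlib

set_option autoImplicit false
universe u
open CategoryTheory CategoryTheory.Limits AlgebraicGeometry
open AlgSp

namespace Groth.Agent.S9903

theorem diag_bc {S : Scheme.{u}} (P : MorphismProperty Scheme.{u}) {X Y Q Z : Sp S} {f : X ⟶ Y}
    {g : Z ⟶ Y} {fst : Q ⟶ X} {snd : Q ⟶ Z} (sq : IsPullback fst snd f g)
    (h : RepWith P (pullback.diagonal f)) : RepWith P (pullback.diagonal snd) := by
  have i1 := repWith_isStableUnderBaseChange (S := S) P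
  have h' : (RepWith (S := S) P).diagonal f := h
  exact MorphismProperty.of_isPullback (P := (RepWith (S := S) P).diagonal) sq h'

set_option backward.isDefEq.respectTransparency.types false in
/-- (1) ⇔ (3): a morphism of algebraic spaces is separated (resp. quasi-separated) if and only if its
base change to every affine scheme over the target is. -/
theorem result {S : Scheme.{u}} {X Y : AlgSp.Space S} (f : X ⟶ Y) :
    (AlgSp.IsSeparatedMor f.hom ↔
      ∀ (Z : Over S), IsAffine Z.left → ∀ (g : (AlgSp.yon S).obj Z ⟶ Y.obj) (P : AlgSp.Sp S)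
        (fst : P ⟶ X.obj) (snd : P ⟶ (AlgSp.yon S).obj Z), IsPullback fst snd f.hom g →
        AlgSp.IsSeparatedMor snd) ∧
    (AlgSp.IsQuasiSeparatedMor f.hom ↔
      ∀ (Z : Over S), IsAffine Z.left → ∀ (g : (AlgSp.yon S).obj Z ⟶ Y.obj) (P : AlgSp.Sp S)
        (fst : P ⟶ X.obj) (snd : P ⟶ (AlgSp.yon S).obj Z), IsPullback fst snd f.hom g →
        AlgSp.IsQuasiSeparatedMor snd) := by

  refine ⟨⟨fun h Z _ g P fst snd sq => diag_bc _ sq h, fun h => ?_⟩,
    ⟨fun h Z _ g P fst snd sq => diag_bc _ sq h, fun h => ?_⟩⟩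
  · exact Groth.Agent.Helper4.AlgSpLocal.repWith_diagonal_of_affine @IsClosedImmersion
      X.property.diag f.hom h
  · exact Groth.Agent.Helper4.AlgSpLocal.repWith_diagonal_of_affine @QuasiCompact
      X.property.diag f.hom h

end Groth.Agent.S9903
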