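import Groth.Statements.S6439
import Mathlib

set_option autoImplicit false
open CategoryTheory
universe v u
open scoped TensorProduct
open FibCat

namespace Groth.Agent.S6439

open Bicategory in
theorem precomp_isEquivalence {B : Type*} [Bicategory B] {a b : B} (c : B) (f : a ⟶ b) (g : b ⟶ a) (η : f ≫ g ≅ 𝟙 a) (ε₀ : g ≫ f ≅ 𝟙 b) :
    (precomp c f).IsEquivalence := by
  let e1 : precomp c f ⋙ precomp c g ≅ 𝟭 (b ⟶ c) :=
    (associatorNatIsoRight g f c).symm ≪≫ (precomposing b b c).mapIso ε₀ ≪≫ leftUnitorNatIso b c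
  let e2 : precomp c g ⋙ precomp c f ≅ 𝟭 (a ⟶ c) :=
    (associatorNatIsoRight f g c).symm ≪≫ (precomposing a a c).mapIso η ≪≫ leftUnitorNatIso a c
  exact (CategoryTheory.Equivalence.mk (precomp c f) (precomp c g) e1.symm e2).isEquivalence_functor

open Bicategory in
theorem postcomp_isEquivalence {B : Type*} [Bicategory B] {a b : B} (c : B) (f : a ⟶ b) (g : b ⟶ a) (η : f ≫ g ≅ 𝟙 a) (ε₀ : g ≫ f ≅ 𝟙 b) :
    (postcomp c f).IsEquivalence := by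
  let e1 : postcomp c f ⋙ postcomp c g ≅ 𝟭 (c ⟶ a) :=
    (associatorNatIsoLeft c f g) ≪≫ (postcomposing c a a).mapIso η ≪≫ rightUnitorNatIso c a
  let e2 : postcomp c g ⋙ postcomp c f ≅ 𝟭 (c ⟶ b) :=
    (associatorNatIsoLeft c g f) ≪≫ (postcomposing c b b).mapIso ε₀ ≪≫ rightUnitorNatIso c b
  exact (CategoryTheory.Equivalence.mk (postcomp c f) (postcomp c g) e1.symm e2).isEquivalence_functor

/-- For categories fibred in groupoids over `C` and equivalences `φ : 𝒮₁ ⟶ 𝒮₂`, `ψ : 𝒮₃ ⟶ 𝒮₄` over `C`,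
the functor `α ↦ ψ ∘ α ∘ φ` between the categories of functors over `C` is an equivalence of
categories. -/
theorem result {C : Type u} [Category.{v} C] {𝒮₁ 𝒮₂ 𝒮₃ 𝒮₄ : BasedCategory.{v, max u v} C}
    (h₁ : FibCat.IsFibGrpd 𝒮₁.p) (h₂ : FibCat.IsFibGrpd 𝒮₂.p) (h₃ : FibCat.IsFibGrpd 𝒮₃.p) (h₄ : FibCat.IsFibGrpd 𝒮₄.p)
    (φ : 𝒮₁ ⟶ 𝒮₂) (ψ : 𝒮₃ ⟶ 𝒮₄) (hφ : FibCat.IsEquivOver φ) (hψ : FibCat.IsEquivOver ψ) :
    (Bicategory.precomp 𝒮₃ φ ⋙ Bicategory.postcomp 𝒮₁ ψ).IsEquivalence := by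
  obtain ⟨φ', ⟨η₁⟩, ⟨ε₁⟩⟩ := hφ
  obtain ⟨ψ', ⟨η₂⟩, ⟨ε₂⟩⟩ := hψ
  haveI := precomp_isEquivalence 𝒮₃ φ φ' η₁ ε₁
  haveI := postcomp_isEquivalence 𝒮₁ ψ ψ' η₂ ε₂
  infer_instance

end Groth.Agent.S6439
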