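import Groth.Statements.S12787
import Mathlib
import Groth.Agent.Helper6.FpTools

set_option autoImplicit false
open CategoryTheory AlgebraicGeometry
universe u
open AlgSt

namespace Groth.Agent.S12787

open Groth.Agent.Helper3 FibCat in

/-- A category fibred in groupoids over `(Sch/S)` which is representable by an algebraic space is fibred
in setoids. -/
theorem result {S : Scheme.{u}} {𝒳 : AlgSt.Cat S}
    (h𝒳 : FibCat.IsFibGrpd 𝒳.p) (hr : AlgSt.RepByAlgSp 𝒳) :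
    FibCat.IsFibSetoid 𝒳.p := by
  obtain ⟨F, e, he⟩ := hr
  obtain ⟨K, hK, -, -⟩ := EquivOver.symm he
  obtain ⟨i1, i2, -⟩ := (Groth.Agent.Helper6.FpTools.isEquivOver_iff K).1 hK
  refine ⟨h𝒳, ?_⟩
  intro U a b
  refine ⟨fun φ ψ => ?_⟩
  apply Functor.Fiber.hom_ext
  change φ.1 = ψ.1
  apply K.toFunctor.map_injective
  haveI : 𝒳.p.IsHomLift (𝟙 U) φ.1 := φ.2
  haveI : 𝒳.p.IsHomLift (𝟙 U) ψ.1 := ψ.2
  haveI h1 : (AlgSt.ofSp F.obj).p.IsHomLift (𝟙 U) (K.map φ.1) :=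
    (BasedFunctor.isHomLift_iff K (𝟙 U) φ.1).2 φ.2
  haveI h2 : (AlgSt.ofSp F.obj).p.IsHomLift (𝟙 U) (K.map ψ.1) :=
    (BasedFunctor.isHomLift_iff K (𝟙 U) ψ.1).2 ψ.2
  apply Stk.EltObj.hom_ext
  exact (CategoryTheory.IsHomLift.fac' (AlgSt.ofSp F.obj).p (𝟙 U) (K.map φ.1)).trans
    (CategoryTheory.IsHomLift.fac' (AlgSt.ofSp F.obj).p (𝟙 U) (K.map ψ.1)).symm

end Groth.Agent.S12787
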