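import Groth.Statements.S1681
import Groth.Agent.S1682
import Mathlib

set_option autoImplicit false
universe u
open CategoryTheory CategoryTheory.Limits AlgebraicGeometry TopologicalSpace
open SDiv

namespace Groth.Agent.S1681

/-- A maximal point lying in an affine open lies in the basic open of every nonzerodivisor. -/
theorem mem_basicOpen_of_maximal {Y : Scheme.{u}} (x : Y) (hx : ∀ y : Y, y ⤳ x → y = x)
    (V : Y.Opens) (hV : IsAffineOpen V) (hxV : x ∈ V) (f : Γ(Y, V))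
    (hf : f ∈ nonZeroDivisors Γ(Y, V)) : x ∈ Y.basicOpen f := by
  obtain ⟨p, hp⟩ : x ∈ Set.range hV.fromSpec := by rw [hV.range_fromSpec]; exact hxV
  have hmin : p.asIdeal ∈ minimalPrimes Γ(Y, V) := by
    refine ⟨⟨p.2, bot_le⟩, ?_⟩
    rintro q ⟨hq, -⟩ hqp
    let q' : PrimeSpectrum Γ(Y, V) := ⟨q, hq⟩
    have h1 : q' ⤳ p := (PrimeSpectrum.le_iff_specializes q' p).1 hqp
    have h2 : hV.fromSpec q' ⤳ hV.fromSpec p := h1.map hV.fromSpec.continuous
    rw [hp] at h2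
    have h3 := hx _ h2
    rw [← hp] at h3
    have h4 : q' = p := hV.fromSpec.isOpenEmbedding.injective h3
    rw [← h4]
  have hfp : f ∉ p.asIdeal := fun h =>
    Set.disjoint_left.1 (Ideal.disjoint_nonZeroDivisors_of_mem_minimalPrimes hmin) h hf
  have h5 : p ∈ hV.fromSpec ⁻¹ᵁ Y.basicOpen f := by
    rw [hV.fromSpec_preimage_basicOpen]
    exact hfp
  rw [← hp]
  exact h5

/-- A maximal point does not lie in the support of an effective Cartier ideal. -/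
theorem not_mem_support_of_maximal {Y : Scheme.{u}} (𝓙 : Y.IdealSheafData)
    (h𝓙 : BlowUp.IsEffCartierIdeal 𝓙) (x : Y) (hx : ∀ y : Y, y ⤳ x → y = x) :
    x ∉ 𝓙.support := by
  obtain ⟨V, hxV, f, hf, hVf⟩ := h𝓙 x
  intro hmem
  rw [Scheme.IdealSheafData.mem_support_iff_of_mem hxV, Scheme.mem_zeroLocus_iff] at hmem
  have h1 := hmem f (by rw [hVf]; exact Ideal.mem_span_singleton_self f)
  exact h1 (mem_basicOpen_of_maximal x hx V.1 V.2 hxV f hf)

/-- Let b : X' ⟶ X be a blowing-up of X along the quasi-coherent ideal sheaf 𝓘. Then b restricts to a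
bijection from the maximal points of X' (points with no proper generization) onto the maximal points
of X not lying in the support of 𝓘. -/
theorem result {X X' : Scheme.{u}} (𝓘 : X.IdealSheafData) (b : X' ⟶ X) (hb : BlowUp.IsBlowUp b 𝓘) :
    Set.BijOn (fun x' => b x') {x' : ↥X' | ∀ y : ↥X', y ⤳ x' → y = x'}
      {x : ↥X | (∀ y : ↥X, y ⤳ x → y = x) ∧ x ∉ 𝓘.support} := by
  set U : X.Opens := 𝓘.support.compl with hU
  have hiso : IsIso (b ∣_ U) := Groth.Agent.S1682.result 𝓘 b hb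
  let e : (b ⁻¹ᵁ U : Scheme.{u}) ≃ₜ (U : Scheme.{u}) := (b ∣_ U).homeomorph
  have he : ∀ y, (e y).1 = b y.1 := fun y => morphismRestrict_base_coe b U y
  have hmemU' : ∀ x' : X', (∀ y : X', y ⤳ x' → y = x') → x' ∈ b ⁻¹ᵁ U := by
    intro x' hx'
    have h1 := not_mem_support_of_maximal (𝓘.comap b) hb.1 x' hx'
    rw [Scheme.IdealSheafData.support_comap] at h1
    exact h1
  refine ⟨?_, ?_, ?_⟩
  · intro x' hx'
    have hx'U := hmemU' x' hx'
    refine ⟨?_, hx'U⟩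
    intro y hy
    have hyU : y ∈ U := hy.mem_open U.2 hx'U
    have h1 : (⟨y, hyU⟩ : U) ⤳ e ⟨x', hx'U⟩ := by
      rw [subtype_specializes_iff]
      change y ⤳ (e ⟨x', hx'U⟩).1
      rw [he]; exact hy
    have h2 : e.symm ⟨y, hyU⟩ ⤳ e.symm (e ⟨x', hx'U⟩) := h1.map e.symm.continuous
    rw [e.symm_apply_apply] at h2
    have h2' : (e.symm ⟨y, hyU⟩).1 ⤳ x' :=
      (subtype_specializes_iff (p := fun z => z ∈ b ⁻¹ᵁ U) _ _).1 h2
    have h3 := hx' _ h2'
    have h4 : e.symm ⟨y, hyU⟩ = ⟨x', hx'U⟩ := Subtype.ext h3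
    have h5 : (⟨y, hyU⟩ : U) = e ⟨x', hx'U⟩ := by rw [← h4, e.apply_symm_apply]
    have h6 := congrArg Subtype.val h5
    rw [he] at h6
    exact h6
  · intro x₁ hx₁ x₂ hx₂ h12
    have h1 := hmemU' x₁ hx₁
    have h2 := hmemU' x₂ hx₂
    have h3 : e ⟨x₁, h1⟩ = e ⟨x₂, h2⟩ := Subtype.ext (by rw [he, he]; exact h12)
    exact congrArg Subtype.val (e.injective h3)
  · rintro x ⟨hx, hxU⟩
    have hxU' : x ∈ U := hxU
    refine ⟨(e.symm ⟨x, hxU'⟩).1, ?_, ?_⟩
    · intro y hy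
      have hyU : y ∈ b ⁻¹ᵁ U := hy.mem_open (b ⁻¹ᵁ U).2 (e.symm ⟨x, hxU'⟩).2
      have h1 : (⟨y, hyU⟩ : (b ⁻¹ᵁ U)) ⤳ e.symm ⟨x, hxU'⟩ := by
        rw [subtype_specializes_iff]; exact hy
      have h2 : e ⟨y, hyU⟩ ⤳ e (e.symm ⟨x, hxU'⟩) := h1.map e.continuous
      rw [e.apply_symm_apply] at h2
      have h2' : (e ⟨y, hyU⟩).1 ⤳ x :=
        (subtype_specializes_iff (p := fun z => z ∈ U) _ _).1 h2
      have h3 := hx _ h2'
      have h4 : e ⟨y, hyU⟩ = ⟨x, hxU'⟩ := Subtype.ext h3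
      have h5 : (⟨y, hyU⟩ : (b ⁻¹ᵁ U)) = e.symm ⟨x, hxU'⟩ := by rw [← h4, e.symm_apply_apply]
      exact congrArg Subtype.val h5
    · change b (e.symm ⟨x, hxU'⟩).1 = x
      rw [← he, e.apply_symm_apply]

end Groth.Agent.S1681
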