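import Groth.Statements.S1571
import Mathlib

set_option autoImplicit false
universe u
open CategoryTheory CategoryTheory.Limits AlgebraicGeometry
open Divisors

namespace Groth.Agent.S1571

theorem compl_inf_eq_basicOpen {S : Scheme.{u}} (D : S.IdealSheafData) (V : S.affineOpens)
    (g : Γ(S, V.1)) (hg : D.ideal V = Ideal.span {g}) :
    D.support.compl ⊓ V.1 = S.basicOpen g := by
  ext x
  simp only [TopologicalSpace.Opens.coe_inf, Set.mem_inter_iff, SetLike.mem_coe]
  constructor
  · rintro ⟨hx1, hxV⟩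
    have hx1' : x ∉ D.support := hx1
    rw [D.mem_support_iff_of_mem (U := V) hxV, hg, Scheme.zeroLocus_span,
      Scheme.zeroLocus_singleton] at hx1'
    simpa using hx1'
  · intro hx
    have hxV : x ∈ V.1 := S.basicOpen_le g hx
    refine ⟨?_, hxV⟩
    change x ∉ D.support
    rw [D.mem_support_iff_of_mem (U := V) hxV, hg, Scheme.zeroLocus_span,
      Scheme.zeroLocus_singleton]
    simpa using hx

/-- The open complement of an effective Cartier divisor is an affine open immersion and is
scheme-theoretically dense. -/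
theorem result (S : Scheme.{u}) (D : S.IdealSheafData) (hD : BlowUp.IsEffCartierIdeal D) :
    IsAffineHom (Scheme.Opens.ι (X := S) D.support.compl) ∧ IsSchemeTheoreticallyDominant (Scheme.Opens.ι (X := S) D.support.compl) := by
  set U : S.Opens := D.support.compl with hU
  have key : ∀ (V : S.affineOpens) (g : Γ(S, V.1)), D.ideal V = Ideal.span {g} →
      U.ι ''ᵁ (U.ι ⁻¹ᵁ V.1) = S.basicOpen g := by
    intro V g hg
    rw [Scheme.Hom.image_preimage_eq_opensRange_inf, Scheme.Opens.opensRange_ι]
    exact compl_inf_eq_basicOpen D V g hg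
  have haff : IsAffineHom U.ι := by
    apply isAffineHom_of_forall_exists_isAffineOpen
    intro x
    obtain ⟨V, hxV, g, -, hg⟩ := hD x
    refine ⟨V.1, hxV, V.2, ?_⟩
    rw [← U.ι.isAffineOpen_iff_of_isOpenImmersion, key V g hg]
    exact V.2.basicOpen g
  refine ⟨haff, ⟨?_⟩⟩
  choose V hxV g hgnzd hg using hD
  refine Scheme.IdealSheafData.ext_of_iSup_eq_top V ?_ ?_
  · exact top_le_iff.mp (fun x _ ↦ by simpa using ⟨x, hxV x⟩)
  · intro x
    rw [Scheme.Hom.ker_apply]
    simp only [Scheme.IdealSheafData.ideal_bot, Pi.bot_apply]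
    rw [eq_bot_iff]
    intro a ha
    rw [RingHom.mem_ker, Scheme.Opens.ι_app] at ha
    have hle : S.basicOpen (g x) ≤ U.ι ''ᵁ (U.ι ⁻¹ᵁ (V x).1) := (key (V x) (g x) (hg x)).ge
    have h0 : S.presheaf.map (homOfLE (S.basicOpen_le (g x))).op a = 0 := by
      have : homOfLE (S.basicOpen_le (g x)) = homOfLE hle ≫
          homOfLE (x := U.ι ''ᵁ U.ι ⁻¹ᵁ (V x).1) (Set.image_preimage_subset _ _) := rfl
      rw [this, op_comp, Functor.map_comp, CommRingCat.comp_apply]
      erw [ha]
      exact map_zero _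
    obtain ⟨n, hn⟩ := exists_pow_mul_eq_zero_of_res_basicOpen_eq_zero_of_isAffineOpen S (V x).2 a
      (g x) h0
    have hnzd : (g x) ^ n ∈ nonZeroDivisors Γ(S, (V x).1) := pow_mem (hgnzd x) n
    exact (mul_left_mem_nonZeroDivisors_eq_zero_iff hnzd).mp hn

end Groth.Agent.S1571
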