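import Groth.Statements.S1680
import Mathlib
import Groth.Agent.Helper9.IdealComap

set_option autoImplicit false
universe u
open CategoryTheory CategoryTheory.Limits AlgebraicGeometry TopologicalSpace
open SDiv

namespace Groth.Agent.S1680

/-- a flat ring map preserves nonzerodivisors. -/
theorem nzd_of_flat {A B : Type u} [CommRing A] [CommRing B] (φ : A →+* B) (hφ : φ.Flat) (t : A)
    (ht : t ∈ nonZeroDivisors A) : φ t ∈ nonZeroDivisors B := by
  let _ := φ.toAlgebra
  have hflat : Module.Flat A B := hφ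
  have hreg : IsSMulRegular B t := Module.Flat.isSMulRegular_of_nonZeroDivisors ht
  rw [mem_nonZeroDivisors_iff_right]
  intro z hz
  apply hreg
  change t • z = t • (0 : B)
  rw [smul_zero, Algebra.smul_def, mul_comm]
  exact hz

/-- The inverse image of an effective Cartier ideal along a flat morphism is effective Cartier. -/
theorem isEffCartier_comap_of_flat {X Y : Scheme.{u}} (h : Y ⟶ X) [Flat h] (J : X.IdealSheafData)
    (hJ : BlowUp.IsEffCartierIdeal J) : BlowUp.IsEffCartierIdeal (J.comap h) := by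
  intro y
  obtain ⟨W, hyW, t, ht, e⟩ := hJ (h y)
  obtain ⟨_, ⟨V, hV, rfl⟩, hyV, hVW⟩ :=
    Y.isBasis_affineOpens.exists_subset_of_mem_open (show y ∈ ((h ⁻¹ᵁ W.1 : Y.Opens) : Set Y) from hyW)
      (h ⁻¹ᵁ W.1).2
  have hVW' : V ≤ h ⁻¹ᵁ W.1 := hVW
  have hflat := HasRingHomProperty.appLE (P := @Flat) h inferInstance W ⟨V, hV⟩ hVW'
  refine ⟨⟨V, hV⟩, hyV, (h.appLE W.1 V hVW').hom t, nzd_of_flat _ hflat t ht, ?_⟩
  rw [Groth.Agent.Helper9.IdealComap.ideal_comap h J W ⟨V, hV⟩ hVW', e, Ideal.map_span,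
    Set.image_singleton]

/-- Let g : X₁ ⟶ X₂ be a flat morphism, 𝓘 a quasi-coherent ideal sheaf on X₂ and b : X₂' ⟶ X₂ a
blowing-up of X₂ along 𝓘. Then the base change X₁ ×_{X₂} X₂' ⟶ X₁ is a blowing-up of X₁ along the
inverse image ideal of 𝓘. -/
theorem result {X₁ X₂ X₂' : Scheme.{u}} (g : X₁ ⟶ X₂) [Flat g] (𝓘 : X₂.IdealSheafData) (b : X₂' ⟶ X₂)
    (hb : BlowUp.IsBlowUp b 𝓘) : BlowUp.IsBlowUp (pullback.fst g b) (𝓘.comap g) := by
  obtain ⟨hb1, hb2⟩ := hb
  constructor
  · rw [← Scheme.IdealSheafData.comap_comp, pullback.condition, Scheme.IdealSheafData.comap_comp]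
    exact isEffCartier_comap_of_flat (pullback.snd g b) _ hb1
  · intro Y h hY
    rw [← Scheme.IdealSheafData.comap_comp] at hY
    obtain ⟨k, hk, hkuniq⟩ := hb2 Y (h ≫ g) hY
    refine ⟨pullback.lift h k hk.symm, pullback.lift_fst _ _ _, ?_⟩
    intro l hl
    apply pullback.hom_ext
    · rw [hl, pullback.lift_fst]
    · rw [pullback.lift_snd]
      apply hkuniq
      rw [Category.assoc, ← pullback.condition, ← Category.assoc, hl]

end Groth.Agent.S1680
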