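import Groth.Statements.S1702
import Mathlib
import Groth.Agent.Lead.EffCartier

set_option autoImplicit false
universe u
open CategoryTheory CategoryTheory.Limits AlgebraicGeometry TopologicalSpace
open SDiv

namespace Groth.Agent.S1702

open Groth.Agent.Lead.EffCartier

/-- common small affine on which both ideals are principal by nonzerodivisors. -/
theorem exists_common {X : Scheme.{u}} (𝓘₁ 𝓘₂ : X.IdealSheafData)
    (h₁ : BlowUp.IsEffCartierIdeal 𝓘₁) (h₂ : BlowUp.IsEffCartierIdeal 𝓘₂)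
    (x : X) (O : X.Opens) (hxO : x ∈ O) :
    ∃ W : X.affineOpens, x ∈ W.1 ∧ W.1 ≤ O ∧ ∃ g1 g2 : Γ(X, W.1),
      g1 ∈ nonZeroDivisors Γ(X, W.1) ∧ g2 ∈ nonZeroDivisors Γ(X, W.1) ∧
      𝓘₁.ideal W = Ideal.span {g1} ∧ 𝓘₂.ideal W = Ideal.span {g2} := by
  obtain ⟨W1, hxW1, hW1O, g1, hg1, hI1⟩ := exists_le_of_isEffCartier 𝓘₁ h₁ x O hxO
  obtain ⟨W2, hxW2, hW21, g2, hg2, hI2⟩ := exists_le_of_isEffCartier 𝓘₂ h₂ x W1.1 hxW1
  obtain ⟨h1, h2⟩ := principal_res 𝓘₁ W1 W2 hW21 g1 hg1 hI1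
  exact ⟨W2, hxW2, hW21.trans hW1O, _, g2, h1, hg2, h2, hI2⟩

/-- Let f : X ⟶ S be a morphism and 𝓘₁, 𝓘₂ ideal sheaves of effective Cartier divisors on X whose closed
subschemes are flat over S. Then the product ideal 𝓘₁𝓘₂ (the sum of the divisors) is again the ideal
of an effective Cartier divisor flat over S. -/
theorem result {X S : Scheme.{u}} (f : X ⟶ S) (𝓘₁ 𝓘₂ : X.IdealSheafData)
    (h₁ : (BlowUp.IsEffCartierIdeal 𝓘₁ ∧ Flat (𝓘₁.subschemeι ≫ f))) (h₂ : (BlowUp.IsEffCartierIdeal 𝓘₂ ∧ Flat (𝓘₂.subschemeι ≫ f))) : (BlowUp.IsEffCartierIdeal (𝓘₁ * 𝓘₂) ∧ Flat ((𝓘₁ * 𝓘₂).subschemeι ≫ f)) := by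
  obtain ⟨hc1, hf1⟩ := h₁
  obtain ⟨hc2, hf2⟩ := h₂
  have hmul : ∀ (W : X.affineOpens) (g1 g2 : Γ(X, W.1)), 𝓘₁.ideal W = Ideal.span {g1} →
      𝓘₂.ideal W = Ideal.span {g2} → (𝓘₁ * 𝓘₂).ideal W = Ideal.span {g1 * g2} := by
    intro W g1 g2 e1 e2
    rw [Scheme.IdealSheafData.ideal_mul, Pi.mul_apply, e1, e2,
      Ideal.span_singleton_mul_span_singleton]
  constructor
  · intro x
    obtain ⟨W, hxW, -, g1, g2, hg1, hg2, e1, e2⟩ := exists_common 𝓘₁ 𝓘₂ hc1 hc2 x ⊤ trivial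
    exact ⟨W, hxW, g1 * g2, mul_mem hg1 hg2, hmul W g1 g2 e1 e2⟩
  · apply flat_of_flat_quot
    intro x _
    obtain ⟨_, ⟨U, hU, rfl⟩, hfxU, -⟩ :=
      S.isBasis_affineOpens.exists_subset_of_mem_open (Set.mem_univ (f x)) isOpen_univ
    obtain ⟨W, hxW, hWU, g1, g2, hg1, hg2, e1, e2⟩ :=
      exists_common 𝓘₁ 𝓘₂ hc1 hc2 x (f ⁻¹ᵁ U) hfxU
    refine ⟨⟨U, hU⟩, W, hxW, hWU, ?_⟩
    have k1 := flat_quot_of_flat f 𝓘₁ ⟨U, hU⟩ W hWU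
    have k2 := flat_quot_of_flat f 𝓘₂ ⟨U, hU⟩ W hWU
    rw [e1, ringHomFlat_quot_iff] at k1
    rw [e2, ringHomFlat_quot_iff] at k2
    rw [hmul W g1 g2 e1 e2, ringHomFlat_quot_iff]
    let _ := (f.appLE U W.1 hWU).hom.toAlgebra
    exact flat_quot_mul g1 g2 hg1

end Groth.Agent.S1702
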