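import Groth.Statements.S1683
import Mathlib
import Groth.Agent.Lead.EffCartier
import Groth.Agent.Helper9.IdealComap
import Groth.Agent.S1567
import Groth.Agent.S1570
import Groth.Agent.S1571
import Groth.Agent.S1680
import Groth.Agent.S1682
import Groth.Agent.S1702

set_option autoImplicit false
universe u
open CategoryTheory CategoryTheory.Limits AlgebraicGeometry TopologicalSpace
open SDiv

namespace Groth.Agent.S1683

open Groth.Agent.Lead.EffCartier Groth.Agent.Helper9.IdealComap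

theorem exists_affine_pair {X Y : Scheme.{u}} (h : Y ⟶ X) (y : Y) (O : X.Opens) (hO : h y ∈ O)
    (O' : Y.Opens) (hO' : y ∈ O') :
    ∃ (U : X.affineOpens) (V : Y.affineOpens), U.1 ≤ O ∧ V.1 ≤ O' ∧ y ∈ V.1 ∧ V.1 ≤ h ⁻¹ᵁ U.1 := by
  obtain ⟨_, ⟨U, hU, rfl⟩, hxU, hUO⟩ :=
    X.isBasis_affineOpens.exists_subset_of_mem_open hO O.2
  have hy : y ∈ ((h ⁻¹ᵁ U ⊓ O' : Y.Opens) : Set Y) := ⟨hxU, hO'⟩
  obtain ⟨_, ⟨V, hV, rfl⟩, hyV, hVU⟩ :=
    Y.isBasis_affineOpens.exists_subset_of_mem_open hy (h ⁻¹ᵁ U ⊓ O').2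
  exact ⟨⟨U, hU⟩, ⟨V, hV⟩, hUO, fun z hz => (hVU hz).2, hyV, fun z hz => (hVU hz).1⟩

theorem comap_mul {X Y : Scheme.{u}} (h : Y ⟶ X) (𝓘 𝓙 : X.IdealSheafData) :
    (𝓘 * 𝓙).comap h = 𝓘.comap h * 𝓙.comap h := by
  have hex : ∀ y : Y, ∃ (U : X.affineOpens) (V : Y.affineOpens), y ∈ V.1 ∧ V.1 ≤ h ⁻¹ᵁ U.1 := by
    intro y
    obtain ⟨U, V, -, -, h1, h2⟩ := exists_affine_pair h y ⊤ trivial ⊤ trivial
    exact ⟨U, V, h1, h2⟩
  choose U V hyV hVU using hex
  refine Scheme.IdealSheafData.ext_of_iSup_eq_top V ?_ ?_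
  · exact top_le_iff.mp (fun y _ ↦ by simpa using ⟨y, hyV y⟩)
  · intro y
    rw [ideal_comap h _ (U y) (V y) (hVU y), Scheme.IdealSheafData.ideal_mul, Pi.mul_apply,
      Scheme.IdealSheafData.ideal_mul, Pi.mul_apply,
      ideal_comap h _ (U y) (V y) (hVU y), ideal_comap h _ (U y) (V y) (hVU y), Ideal.map_mul]


/-- algebra: if `I * J = (t)` with `t` a nonzerodivisor and `p` prime, then there are `a ∈ I`, `b ∈ J`,
`c ∉ p` with `a * b = c * t`. -/
theorem exists_mul_eq {A : Type*} [CommRing A] (I J : Ideal A) (t : A) (ht : t ∈ nonZeroDivisors A)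
    (e : I * J = Ideal.span {t}) (p : Ideal A) [hp : p.IsPrime] :
    ∃ a ∈ I, ∃ b ∈ J, ∃ c, c ∉ p ∧ a * b = c * t := by
  by_contra hcon
  push Not at hcon
  have hle : I * J ≤ p * Ideal.span {t} := by
    rw [Ideal.mul_le]
    intro a ha b hb
    have hab : a * b ∈ Ideal.span {t} := e ▸ Ideal.mul_mem_mul ha hb
    obtain ⟨c, hc⟩ := Ideal.mem_span_singleton'.mp hab
    have hcp : c ∈ p := by
      by_contra hcp
      exact hcon a ha b hb c hcp hc.symm
    rw [← hc]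
    exact Ideal.mul_mem_mul hcp (Ideal.mem_span_singleton_self t)
  have htmem : t ∈ p * Ideal.span {t} := hle (e ▸ Ideal.mem_span_singleton_self t)
  obtain ⟨c, hcp, hc⟩ := Ideal.mem_mul_span_singleton.mp htmem
  have h0 : (c - 1) * t = 0 := by rw [sub_mul, hc, one_mul, sub_self]
  have h1 : c - 1 = 0 := (mul_right_mem_nonZeroDivisors_eq_zero_iff ht).mp h0
  have : c = 1 := sub_eq_zero.mp h1
  exact hp.ne_top ((Ideal.eq_top_iff_one p).mpr (this ▸ hcp))

theorem isEffCartier_of_mul {X : Scheme.{u}} (𝓘 𝓙 : X.IdealSheafData)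
    (h : BlowUp.IsEffCartierIdeal (𝓘 * 𝓙)) : BlowUp.IsEffCartierIdeal 𝓘 := by
  intro x
  obtain ⟨V, hxV, t, ht, e⟩ := h x
  rw [Scheme.IdealSheafData.ideal_mul, Pi.mul_apply] at e
  obtain ⟨a, ha, b, hb, c, hcp, habc⟩ := exists_mul_eq (𝓘.ideal V) (𝓙.ideal V) t ht e
    (V.2.primeIdealOf ⟨x, hxV⟩).asIdeal
  have hxc : x ∈ X.basicOpen c :=
    (Groth.Agent.S1567.mem_basicOpen_iff_notMem_primeIdealOf V.2 x hxV c).mpr hcp
  have := V.2.isLocalization_basicOpen c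
  have h1 : ∀ a' ∈ 𝓘.ideal V, c * a' ∈ Ideal.span {a} := by
    intro a' ha'
    have hab : a' * b ∈ Ideal.span {t} := e ▸ Ideal.mul_mem_mul ha' hb
    obtain ⟨d, hd⟩ := Ideal.mem_span_singleton'.mp hab
    rw [Ideal.mem_span_singleton']
    refine ⟨d, ?_⟩
    have h0 : (d * a - c * a') * t = 0 := by
      have : (d * a - c * a') * t = (d * t) * a - a' * (c * t) := by ring
      rw [this, hd, ← habc]; ring
    exact sub_eq_zero.mp ((mul_right_mem_nonZeroDivisors_eq_zero_iff ht).mp h0)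
  have h2 : ∀ z, a * z = 0 → c * z = 0 := by
    intro z hz
    have h0 : (c * z) * t = 0 := by
      have : (c * z) * t = (c * t) * z := by ring
      rw [this, ← habc]
      have : a * b * z = (a * z) * b := by ring
      rw [this, hz, zero_mul]
    exact (mul_right_mem_nonZeroDivisors_eq_zero_iff ht).mp h0
  obtain ⟨h3, h4⟩ := Groth.Agent.S1570.away_principal (𝓘.ideal V) c a ha h1 h2 Γ(X, X.basicOpen c)
  refine ⟨X.affineBasicOpen c, hxc, algebraMap Γ(X, V.1) Γ(X, X.basicOpen c) a, h3, ?_⟩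
  exact (𝓘.map_ideal_basicOpen V c).symm.trans h4

theorem isEffCartier_of_mul' {X : Scheme.{u}} (𝓘 𝓙 : X.IdealSheafData)
    (h : BlowUp.IsEffCartierIdeal (𝓘 * 𝓙)) : BlowUp.IsEffCartierIdeal 𝓙 := by
  rw [mul_comm] at h
  exact isEffCartier_of_mul 𝓙 𝓘 h


theorem flat_appLE_of_le_compl_support {X' X'' : Scheme.{u}} (𝓙' : X'.IdealSheafData) (b' : X'' ⟶ X')
    (hb' : BlowUp.IsBlowUp b' 𝓙') (W' : X'.affineOpens) (D : X''.affineOpens)
    (e : D.1 ≤ b' ⁻¹ᵁ W'.1)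
    (hD : D.1 ≤ b' ⁻¹ᵁ 𝓙'.support.compl) : (b'.appLE W'.1 D.1 e).hom.Flat := by
  have : IsIso (b' ∣_ 𝓙'.support.compl) := Groth.Agent.S1682.result 𝓙' b' hb'
  have h1 : Flat (D.1.ι ≫ b') := by
    have : D.1.ι ≫ b' = X''.homOfLE hD ≫ (b' ∣_ 𝓙'.support.compl) ≫ Scheme.Opens.ι (X := X') 𝓙'.support.compl := by
      rw [morphismRestrict_ι, ← Category.assoc, Scheme.homOfLE_ι]
    rw [this]; infer_instance
  have h2 : Flat (b'.resLE W'.1 D.1 e) := by
    apply MorphismProperty.of_postcomp (W := @Flat) (W' := @IsOpenImmersion) _ W'.1.ι inferInstance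
    rw [Scheme.Hom.resLE_comp_ι]; exact h1
  have : IsAffine W'.1.toScheme := W'.2
  have : IsAffine D.1.toScheme := D.2
  have h3 := Scheme.Hom.flat_appTop (b'.resLE W'.1 D.1 e)
  rw [Scheme.Hom.appTop, Scheme.Hom.resLE_app_top] at h3
  rw [CommRingCat.hom_comp, RingHom.Flat.respectsIso.cancel_left_isIso, CommRingCat.hom_comp,
    RingHom.Flat.respectsIso.cancel_right_isIso] at h3
  exact h3

theorem isEffCartier_comap_blowUp {X' X'' : Scheme.{u}} (𝓙' : X'.IdealSheafData) (b' : X'' ⟶ X')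
    (hb' : BlowUp.IsBlowUp b' 𝓙') (E' : X'.IdealSheafData) (hE' : BlowUp.IsEffCartierIdeal E') :
    BlowUp.IsEffCartierIdeal (E'.comap b') := by
  intro x
  obtain ⟨W', hxW', t, ht, eE⟩ := hE' (b' x)
  obtain ⟨V, hxV, hVW, s, hs, eJ⟩ := exists_le_of_isEffCartier (𝓙'.comap b') hb'.1 x (b' ⁻¹ᵁ W'.1) hxW'
  refine ⟨V, hxV, (b'.appLE W'.1 V.1 hVW).hom t, ?_, ?_⟩
  · -- nonzerodivisor
    have hDs : X''.basicOpen s ≤ b' ⁻¹ᵁ 𝓙'.support.compl := by
      rw [← Groth.Agent.S1571.compl_inf_eq_basicOpen (𝓙'.comap b') V s eJ]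
      intro z hz
      have hz1 : z ∉ (𝓙'.comap b').support := hz.1
      rw [Scheme.IdealSheafData.support_comap] at hz1
      exact hz1
    have hDW : X''.basicOpen s ≤ b' ⁻¹ᵁ W'.1 := (X''.basicOpen_le s).trans hVW
    have hflat := flat_appLE_of_le_compl_support 𝓙' b' hb' W' (X''.affineBasicOpen s) hDW hDs
    have hnzd := Groth.Agent.S1680.nzd_of_flat _ hflat t ht
    have := V.2.isLocalization_basicOpen s
    have hinj : Function.Injective (algebraMap Γ(X'', V.1) Γ(X'', X''.basicOpen s)) :=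
      IsLocalization.injective (M := Submonoid.powers s) Γ(X'', X''.basicOpen s)
        (Submonoid.powers_le.mpr hs)
    rw [mem_nonZeroDivisors_iff_right]
    intro z hz
    apply hinj
    rw [map_zero]
    apply (mem_nonZeroDivisors_iff_right.mp hnzd)
    have hcomp : (b'.appLE W'.1 (X''.basicOpen s) hDW).hom t =
        algebraMap Γ(X'', V.1) Γ(X'', X''.basicOpen s) ((b'.appLE W'.1 V.1 hVW).hom t) := by
      have := Scheme.Hom.appLE_map b' hVW (homOfLE (X''.basicOpen_le s)).op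
      rw [← this]
      rfl
    change algebraMap Γ(X'', V.1) Γ(X'', X''.basicOpen s) z * (b'.appLE W'.1 (X''.basicOpen s) hDW).hom t = 0
    rw [hcomp, ← map_mul, hz, map_zero]
  · rw [ideal_comap b' E' W' V hVW, eE, Ideal.map_span, Set.image_singleton]


theorem isEffCartier_mul {X : Scheme.{u}} (𝓘₁ 𝓘₂ : X.IdealSheafData)
    (h1 : BlowUp.IsEffCartierIdeal 𝓘₁) (h2 : BlowUp.IsEffCartierIdeal 𝓘₂) :
    BlowUp.IsEffCartierIdeal (𝓘₁ * 𝓘₂) := by
  intro x
  obtain ⟨W, hxW, -, g1, g2, hg1, hg2, e1, e2⟩ :=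
    Groth.Agent.S1702.exists_common 𝓘₁ 𝓘₂ h1 h2 x ⊤ trivial
  refine ⟨W, hxW, g1 * g2, mul_mem hg1 hg2, ?_⟩
  rw [Scheme.IdealSheafData.ideal_mul, Pi.mul_apply, e1, e2,
    Ideal.span_singleton_mul_span_singleton]

/-- Let 𝓘, 𝓙 be quasi-coherent ideal sheaves on X, b : X' ⟶ X a blowing-up along 𝓘 and b' : X'' ⟶ X' a
blowing-up along the inverse image ideal of 𝓙. Then b' ≫ b : X'' ⟶ X is a blowing-up of X along the
product ideal 𝓘𝓙. -/
theorem result {X X' X'' : Scheme.{u}} (𝓘 𝓙 : X.IdealSheafData) (b : X' ⟶ X) (hb : BlowUp.IsBlowUp b 𝓘)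
    (b' : X'' ⟶ X') (hb' : BlowUp.IsBlowUp b' (𝓙.comap b)) : BlowUp.IsBlowUp (b' ≫ b) (𝓘 * 𝓙) := by
  constructor
  · rw [comap_mul, Scheme.IdealSheafData.comap_comp, Scheme.IdealSheafData.comap_comp]
    exact isEffCartier_mul _ _ (isEffCartier_comap_blowUp (𝓙.comap b) b' hb' _ hb.1) hb'.1
  · intro Y g hg
    rw [comap_mul] at hg
    have hgI := isEffCartier_of_mul _ _ hg
    have hgJ := isEffCartier_of_mul' _ _ hg
    obtain ⟨h, hh, hhuniq⟩ := hb.2 Y g hgI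
    have hJ' : BlowUp.IsEffCartierIdeal ((𝓙.comap b).comap h) := by
      rw [← Scheme.IdealSheafData.comap_comp, hh]; exact hgJ
    obtain ⟨h', hh', hh'uniq⟩ := hb'.2 Y h hJ'
    refine ⟨h', ?_, ?_⟩
    · change h' ≫ b' ≫ b = g
      rw [← Category.assoc, hh', hh]
    · intro k hk
      apply hh'uniq
      apply hhuniq
      rw [Category.assoc]; exact hk

end Groth.Agent.S1683
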