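import Groth.Statements.S8851
import Mathlib
import Groth.Agent.S1683

set_option autoImplicit false
universe u
open CategoryTheory CategoryTheory.Limits AlgebraicGeometry TopologicalSpace
open SDiv

namespace Groth.Agent.S8851

open Groth.Agent.Lead.EffCartier Groth.Agent.S1683

/-- Let X be a reduced scheme, 𝓘 a quasi-coherent ideal sheaf on X and b : X' ⟶ X a blowing up of X in
𝓘. Then X' is reduced. -/
theorem result {X X' : Scheme.{u}} [IsReduced X] (𝓘 : X.IdealSheafData) (b : X' ⟶ X)
    (hb : BlowUp.IsBlowUp b 𝓘) : IsReduced X' := by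
  have hiso : IsIso (b ∣_ 𝓘.support.compl) := Groth.Agent.S1682.result 𝓘 b hb
  have hstalk : ∀ x : X', _root_.IsReduced (X'.presheaf.stalk x) := by
    intro x
    obtain ⟨V, hxV, t, ht, eJ⟩ := hb.1 x
    -- the basic open `D(t)` is reduced
    have hDs : X'.basicOpen t ≤ b ⁻¹ᵁ 𝓘.support.compl := by
      rw [← Groth.Agent.S1571.compl_inf_eq_basicOpen (𝓘.comap b) V t eJ]
      intro z hz
      have hz1 : z ∉ (𝓘.comap b).support := hz.1
      rw [Scheme.IdealSheafData.support_comap] at hz1
      exact hz1
    have hoi : IsOpenImmersion ((X'.basicOpen t).ι ≫ b) := by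
      have : (X'.basicOpen t).ι ≫ b = X'.homOfLE hDs ≫ (b ∣_ 𝓘.support.compl) ≫
          Scheme.Opens.ι (X := X) 𝓘.support.compl := by
        rw [morphismRestrict_ι, ← Category.assoc, Scheme.homOfLE_ι]
      rw [this]; infer_instance
    have hredD : IsReduced (X'.basicOpen t).toScheme :=
      isReduced_of_isOpenImmersion ((X'.basicOpen t).ι ≫ b)
    have hredΓ : _root_.IsReduced Γ(X', X'.basicOpen t) := by
      have h1 : _root_.IsReduced Γ((X'.basicOpen t).toScheme, ⊤) := inferInstance
      exact isReduced_of_injective (X'.basicOpen t).topIso.inv.hom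
        ((X'.basicOpen t).topIso.symm.commRingCatIsoToRingEquiv.injective)
    have := V.2.isLocalization_basicOpen t
    have hinj : Function.Injective (algebraMap Γ(X', V.1) Γ(X', X'.basicOpen t)) :=
      IsLocalization.injective (M := Submonoid.powers t) Γ(X', X'.basicOpen t)
        (Submonoid.powers_le.mpr ht)
    have hredV : _root_.IsReduced Γ(X', V.1) := isReduced_of_injective _ hinj
    let _ := X'.presheaf.algebra_section_stalk ⟨x, hxV⟩
    have hloc := V.2.isLocalization_stalk ⟨x, hxV⟩
    exact isReduced_localizationPreserves (V.2.primeIdealOf ⟨x, hxV⟩).asIdeal.primeCompl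
      (X'.presheaf.stalk x) hredV
  exact isReduced_of_isReduced_stalk X'

end Groth.Agent.S8851
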