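import Groth.Statements.S1397
import Mathlib
import Groth.Agent.Lead.QAff

set_option autoImplicit false
universe u
open FlatMor

namespace Groth.Agent.S1397

open AlgebraicGeometry CategoryTheory Limits in
/-- Ind-quasi-affine morphisms are stable under composition. -/
theorem result {X Y Z : Scheme.{u}} (f : X ⟶ Y) (g : Y ⟶ Z) (hf : MoreMor.IsIndQuasiAffineHom f) (hg : MoreMor.IsIndQuasiAffineHom g) :
    MoreMor.IsIndQuasiAffineHom (f ≫ g) := by
  rw [Groth.Agent.Lead.QAff.isIndQuasiAffineHom_iff] at hf hg ⊢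
  intro W hW U hUW hU
  -- compact open V between f(U) and g⁻¹ W
  obtain ⟨V0, hV0c, hV0o, hKV, hVW⟩ := PrespectralSpace.exists_isCompact_and_isOpen_between
    (K := f '' (U : Set X)) (U := ((g ⁻¹ᵁ W : Y.Opens) : Set Y)) (hU.image f.continuous)
    (g ⁻¹ᵁ W).2 (by
      rintro _ ⟨x, hx, rfl⟩
      exact hUW hx)
  set V : Y.Opens := ⟨V0, hV0o⟩ with hVdef
  have hUV : U ≤ f ⁻¹ᵁ V := fun x hx => hKV ⟨x, hx, rfl⟩
  have hVqa : (V : Scheme.{u}).IsQuasiAffine := hg W hW V hVW hV0c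
  refine Groth.Agent.Lead.QAff.opens_isQuasiAffine_of_forall_exists U hU fun x hx ↦ ?_
  obtain ⟨_, ⟨_, ⟨s₁, hs₁, rfl⟩, rfl⟩, hxs, -⟩ := (Scheme.IsQuasiAffine.isBasis_basicOpen
    (V : Scheme.{u})).exists_subset_of_mem_open (Set.mem_univ (⟨f x, hUV hx⟩ : V)) isOpen_univ
  set s : Γ(Y, V) := V.topIso.hom s₁ with hs
  have hbs : V.ι ''ᵁ ((V : Scheme.{u}).basicOpen s₁) = Y.basicOpen s := by
    have := Scheme.Opens.ι_image_basicOpen_topIso_inv (U := V) s
    rw [← this]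
    congr 2
    exact (V.topIso.hom_inv_id_apply s₁).symm
  have hsaff : IsAffineOpen (Y.basicOpen s) := by
    rw [← hbs]; exact hs₁.image_of_isOpenImmersion V.ι
  have hfxs : f x ∈ Y.basicOpen s := by
    rw [← hbs]; exact ⟨⟨f x, hUV hx⟩, hxs, rfl⟩
  set r : Γ(X, U) := X.presheaf.map (homOfLE hUV).op (f.app V s) with hr
  have hbo : X.basicOpen r = U ⊓ f ⁻¹ᵁ (Y.basicOpen s) := by
    rw [hr, Scheme.basicOpen_res, Scheme.preimage_basicOpen]
  refine ⟨r, ?_, ?_⟩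
  · rw [hbo]; exact ⟨hx, hfxs⟩
  · refine hf (Y.basicOpen s) hsaff (X.basicOpen r) ?_ (isCompact_basicOpen X hU r)
    rw [hbo]
    exact inf_le_right

end Groth.Agent.S1397
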