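import Groth.Statements.S1400
import Mathlib
import Groth.Agent.Lead.QAff2

set_option autoImplicit false
universe u
open FlatMor

namespace Groth.Agent.S1400

open AlgebraicGeometry CategoryTheory Limits in
/-- The base change of an ind-quasi-affine morphism is ind-quasi-affine. -/
theorem result {X S X' S' : Scheme.{u}} (f : X ⟶ S) (f' : X' ⟶ S') (g' : X' ⟶ X) (g : S' ⟶ S)
    (hc : IsPullback g' f' f g) (hf : MoreMor.IsIndQuasiAffineHom f) : MoreMor.IsIndQuasiAffineHom f' := by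
  rw [Groth.Agent.Lead.QAff.isIndQuasiAffineHom_iff] at hf ⊢
  intro V' hV' U' hUV' hU'
  refine Groth.Agent.Lead.QAff.opens_isQuasiAffine_of_forall_exists U' hU' fun x hx ↦ ?_
  obtain ⟨W, hW, hxW⟩ : ∃ W : S.Opens, IsAffineOpen W ∧ g (f' x) ∈ W := by
    obtain ⟨_, ⟨W, hW, rfl⟩, hxW, -⟩ := (S.isBasis_affineOpens).exists_subset_of_mem_open
      (Set.mem_univ (g (f' x))) isOpen_univ
    exact ⟨W, hW, hxW⟩
  have hfx : f' x ∈ V' ⊓ g ⁻¹ᵁ W := ⟨hUV' hx, hxW⟩
  obtain ⟨s, hsle, hxs⟩ := hV'.exists_basicOpen_le (V := V' ⊓ g ⁻¹ᵁ W) ⟨f' x, hfx⟩ (hUV' hx)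
  have hsaff : IsAffineOpen (S'.basicOpen s) := hV'.basicOpen s
  set r : Γ(X', U') := X'.presheaf.map (homOfLE hUV').op (f'.app V' s) with hr
  have hbo : X'.basicOpen r = U' ⊓ f' ⁻¹ᵁ (S'.basicOpen s) := by
    rw [hr, Scheme.basicOpen_res, Scheme.preimage_basicOpen]
  have hrc : IsCompact (X'.basicOpen r : Set X') := isCompact_basicOpen X' hU' r
  refine ⟨r, ?_, ?_⟩
  · rw [hbo]; exact ⟨hx, hxs⟩
  · -- compact open U of X between g'(D(r)) and f⁻¹ W
    obtain ⟨U0, hU0c, hU0o, hKU, hUW⟩ := PrespectralSpace.exists_isCompact_and_isOpen_between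
      (K := g' '' (X'.basicOpen r : Set X')) (U := ((f ⁻¹ᵁ W : X.Opens) : Set X))
      (hrc.image g'.continuous) (f ⁻¹ᵁ W).2 (by
        rintro _ ⟨y, hy, rfl⟩
        rw [hbo] at hy
        have h1 : g (f' y) ∈ W := (hsle hy.2).2
        have h2 : f (g' y) = g (f' y) := by
          rw [← Scheme.Hom.comp_apply, ← Scheme.Hom.comp_apply, hc.w]
        change f (g' y) ∈ W
        rw [h2]; exact h1)
    set U : X.Opens := ⟨U0, hU0o⟩ with hUdef
    have hUqa : (U : Scheme.{u}).IsQuasiAffine := hf W hW U hUW hU0c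
    have hbig := Groth.Agent.Lead.QAff.isQuasiAffine_of_isPullback_affine hc (US := W)
      (UT := S'.basicOpen s) (UX := U) hW hsaff (fun y hy => (hsle hy).2) hUW hUqa
    refine Groth.Agent.Lead.QAff.opens_isQuasiAffine_of_le ?_ hrc hbig
    intro y hy
    refine ⟨hKU ⟨y, hy, rfl⟩, ?_⟩
    rw [hbo] at hy
    exact hy.2

end Groth.Agent.S1400
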