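import Groth.Statements.S1399
import Mathlib
import Groth.Agent.Lead.QAff

set_option autoImplicit false
universe u
open FlatMor

namespace Groth.Agent.S1399

open AlgebraicGeometry CategoryTheory Limits in
/-- If g ∘ f is ind-quasi-affine then so is f. -/
theorem result {X Y Z : Scheme.{u}} (f : X ⟶ Y) (g : Y ⟶ Z) (h : MoreMor.IsIndQuasiAffineHom (f ≫ g)) :
    MoreMor.IsIndQuasiAffineHom f := by
  rw [Groth.Agent.Lead.QAff.isIndQuasiAffineHom_iff] at h ⊢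
  intro V hV U hUV hU
  refine Groth.Agent.Lead.QAff.opens_isQuasiAffine_of_forall_exists U hU fun x hx ↦ ?_
  -- affine open around g (f x)
  obtain ⟨W, hW, hxW⟩ : ∃ W : Z.Opens, IsAffineOpen W ∧ g (f x) ∈ W := by
    obtain ⟨_, ⟨W, hW, rfl⟩, hxW, -⟩ := (Z.isBasis_affineOpens).exists_subset_of_mem_open
      (Set.mem_univ (g (f x))) isOpen_univ
    exact ⟨W, hW, hxW⟩
  have hfx : f x ∈ V ⊓ g ⁻¹ᵁ W := ⟨hUV hx, hxW⟩
  obtain ⟨s, hsle, hxs⟩ := hV.exists_basicOpen_le (V := V ⊓ g ⁻¹ᵁ W) ⟨f x, hfx⟩ (hUV hx)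
  set r : Γ(X, U) := X.presheaf.map (homOfLE hUV).op (f.app V s) with hr
  have hbo : X.basicOpen r = U ⊓ f ⁻¹ᵁ (Y.basicOpen s) := by
    rw [hr, Scheme.basicOpen_res, Scheme.preimage_basicOpen]
  refine ⟨r, ?_, ?_⟩
  · rw [hbo]; exact ⟨hx, hxs⟩
  · refine h W hW (X.basicOpen r) ?_ (isCompact_basicOpen X hU r)
    rw [hbo]
    intro y hy
    exact (hsle hy.2).2

end Groth.Agent.S1399
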