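import Groth.Statements.S1127
import Mathlib
import Groth.Agent.Lead.QAff4

set_option autoImplicit false
open CategoryTheory CategoryTheory.Limits AlgebraicGeometry Opposite
universe u
open Desc

namespace Groth.Agent.S1127

/-- If the base change of a morphism along a quasi-compact, flat, surjective morphism is quasi-affine
(quasi-compact, with quasi-affine preimages of affine opens), then the morphism is quasi-affine.
(The published statement is the fpqc-local form; stated here for a single quasi-compact flat
surjective base change, from which that form follows by Zariski-locality on the target.) -/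
theorem result :
    MorphismProperty.DescendsAlong (fun _ _ f => Mor2.IsQuasiAffine f : MorphismProperty Scheme.{u})
      (@Surjective ⊓ @Flat ⊓ @QuasiCompact : MorphismProperty Scheme.{u}) := by
  refine ⟨fun {A X Y Z fst snd f g} sq hQ hP => ?_⟩
  have hqc : QuasiCompact g :=
    MorphismProperty.of_isPullback_of_descendsAlong (P := @QuasiCompact)
      (Q := (@Surjective ⊓ @Flat ⊓ @QuasiCompact : MorphismProperty Scheme.{u})) sq hQ hP.1
  have h1 : MoreMor.IsIndQuasiAffineHom fst := (Groth.Agent.S1398.result fst).2 hP
  have h2 : MoreMor.IsIndQuasiAffineHom g :=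
    MorphismProperty.of_isPullback_of_descendsAlong (P := Groth.Agent.Lead.QAff.indQA)
      (Q := (@Surjective ⊓ @Flat ⊓ @QuasiCompact : MorphismProperty Scheme.{u})) sq hQ h1
  rw [Groth.Agent.Lead.QAff.isIndQuasiAffineHom_iff] at h2
  refine ⟨hqc, fun V hV => ?_⟩
  exact h2 V hV (g ⁻¹ᵁ V) le_rfl (hqc.isCompact_preimage _ V.2 hV.isCompact)

end Groth.Agent.S1127
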