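import Groth.Statements.S12446
import Mathlib
import Groth.Agent.Helper6.Caten
import Groth.Agent.Helper6.Caten2

set_option autoImplicit false
universe u
open CategoryTheory AlgebraicGeometry
open Props

namespace Groth.Agent.S12446

open AlgebraicGeometry CategoryTheory Groth.Agent.Helper6.Caten in
theorem range_stalk (X : Scheme.{u}) (x : X) :
    Set.range (mapEmb (X.fromSpecStalk x) (X.fromSpecStalk x).isEmbedding.isInducing) =
      {Z : TopologicalSpace.IrreducibleCloseds X | x ∈ (Z : Set X)} :=
  range_mapEmb_of_generizations _ _ x Scheme.range_fromSpecStalk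

open AlgebraicGeometry CategoryTheory Groth.Agent.Helper6.Caten in
theorem ordConnected_stalk (X : Scheme.{u}) (x : X) :
    (Set.range (mapEmb (X.fromSpecStalk x)
      (X.fromSpecStalk x).isEmbedding.isInducing)).OrdConnected := by
  rw [range_stalk]
  apply IsUpperSet.ordConnected
  intro Z Z' hZZ' hx
  exact hZZ' hx

open AlgebraicGeometry CategoryTheory Groth.Agent.Helper6.Caten in
theorem main (X : Scheme.{u}) :
    PtTop.IsCatenarySpace X ↔ ∀ x : X, CAlg.IsCatenary (X.presheaf.stalk x) := by
  constructor
  · intro hX x
    rw [isCatenary_iff_isCatenarySpace]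
    exact Cat.of_embedding _ (ordConnected_stalk X x) hX
  · intro h
    refine Cat.of_cover (ι := X)
      (Q := fun x => TopologicalSpace.IrreducibleCloseds (Spec (X.presheaf.stalk x)))
      (fun x => mapEmb (X.fromSpecStalk x) (X.fromSpecStalk x).isEmbedding.isInducing)
      (fun x => ordConnected_stalk X x)
      (fun x => (isCatenary_iff_isCatenarySpace _).mp (h x)) ?_
    intro T T' hTT'
    obtain ⟨x, hx⟩ := T.isIrreducible.1
    refine ⟨x, ?_, ?_⟩
    · rw [range_stalk]
      exact hx
    · rw [range_stalk]
      exact hTT' hx

/-- For a scheme X, the underlying topological space of X is catenary if and only if for every point x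
the local ring O_{X,x} is a catenary ring. -/
theorem result (X : Scheme.{u}) :
    PtTop.IsCatenarySpace X ↔ ∀ x : X, CAlg.IsCatenary (X.presheaf.stalk x) := by
  exact main X

end Groth.Agent.S12446
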