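import Groth.Statements.S12459
import Mathlib
import Groth.Agent.Helper6.Caten
import Groth.Agent.Helper6.Caten2
import Groth.Agent.Helper6.Caten4
import Groth.Agent.S12446

set_option autoImplicit false
universe u
open CategoryTheory AlgebraicGeometry
open Props

namespace Groth.Agent.S12459

open AlgebraicGeometry CategoryTheory Groth.Agent.Helper6.Caten in
theorem dir1 (S : Scheme.{u}) [IsLocallyNoetherian S]
    (H : ∀ (X : Scheme.{u}) (f : X ⟶ S), LocallyOfFiniteType f → PtTop.IsCatenarySpace X) (s : S) :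
    CAlg.IsUniversallyCatenary (S.presheaf.stalk s) := by
  refine ⟨inferInstance, ?_⟩
  intro C _ _ hC
  obtain ⟨_, ⟨U, hU, rfl⟩, hsU, -⟩ :=
    S.isBasis_affineOpens.exists_subset_of_mem_open (Set.mem_univ s) isOpen_univ
  letI : Algebra Γ(S, U) (S.presheaf.stalk s) :=
    TopCat.Presheaf.algebra_section_stalk S.presheaf ⟨s, hsU⟩
  haveI : IsLocalization.AtPrime (S.presheaf.stalk s) (hU.primeIdealOf ⟨s, hsU⟩).asIdeal :=
    hU.isLocalization_stalk ⟨s, hsU⟩
  refine isCatenary_of_finiteType_over_localization (A := Γ(S, U)) (R := S.presheaf.stalk s)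
    (hU.primeIdealOf ⟨s, hsU⟩).asIdeal.primeCompl ?_
  intro B _ _ hB
  rw [isCatenary_iff_isCatenarySpace]
  have h1 : LocallyOfFiniteType (Spec.map (CommRingCat.ofHom (algebraMap Γ(S, U) B))) := by
    rw [HasRingHomProperty.Spec_iff (P := @LocallyOfFiniteType)]
    exact RingHom.finiteType_algebraMap.mpr hB
  haveI := hU.isOpenImmersion_fromSpec
  exact H (Spec (.of B)) (Spec.map (CommRingCat.ofHom (algebraMap Γ(S, U) B)) ≫ hU.fromSpec)
    inferInstance

open AlgebraicGeometry CategoryTheory Groth.Agent.Helper6.Caten in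
theorem dir2 (S : Scheme.{u})
    (H : ∀ s : S, CAlg.IsUniversallyCatenary (S.presheaf.stalk s))
    (X : Scheme.{u}) (f : X ⟶ S) [LocallyOfFiniteType f] : PtTop.IsCatenarySpace X := by
  rw [Groth.Agent.S12446.main]
  intro x
  obtain ⟨_, ⟨U, hU, rfl⟩, hsU, -⟩ :=
    S.isBasis_affineOpens.exists_subset_of_mem_open (Set.mem_univ (f x)) isOpen_univ
  obtain ⟨_, ⟨V, hV, rfl⟩, hxV, hVU⟩ :=
    X.isBasis_affineOpens.exists_subset_of_mem_open (show x ∈ f ⁻¹ᵁ U from hsU) (f ⁻¹ᵁ U).isOpen
  have hφ : (f.appLE U V hVU).hom.FiniteType := f.finiteType_appLE hU hV hVU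
  letI : Algebra Γ(S, U) Γ(X, V) := (f.appLE U V hVU).hom.toAlgebra
  letI : Algebra Γ(S, U) (S.presheaf.stalk (f x)) :=
    TopCat.Presheaf.algebra_section_stalk S.presheaf ⟨f x, hsU⟩
  letI : Algebra Γ(X, V) (X.presheaf.stalk x) :=
    TopCat.Presheaf.algebra_section_stalk X.presheaf ⟨x, hxV⟩
  letI : Algebra (S.presheaf.stalk (f x)) (X.presheaf.stalk x) := (f.stalkMap x).hom.toAlgebra
  letI : Algebra Γ(S, U) (X.presheaf.stalk x) :=
    ((algebraMap Γ(X, V) (X.presheaf.stalk x)).comp (algebraMap Γ(S, U) Γ(X, V))).toAlgebra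
  haveI : IsScalarTower Γ(S, U) Γ(X, V) (X.presheaf.stalk x) :=
    IsScalarTower.of_algebraMap_eq fun _ => rfl
  haveI : IsScalarTower Γ(S, U) (S.presheaf.stalk (f x)) (X.presheaf.stalk x) := by
    refine IsScalarTower.of_algebraMap_eq fun a => ?_
    show X.presheaf.germ V x hxV (f.appLE U V hVU a) =
      f.stalkMap x (S.presheaf.germ U (f x) hsU a)
    simp only [Scheme.Hom.germ_stalkMap_apply, Scheme.Hom.appLE,
      homOfLE_leOfHom, CommRingCat.hom_comp, RingHom.coe_comp, Function.comp_apply,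
      X.presheaf.germ_res_apply]
  haveI : Algebra.FiniteType Γ(S, U) Γ(X, V) := hφ
  haveI := hV.isLocalization_stalk ⟨x, hxV⟩
  exact isCatenary_localization_of_finiteType (A := Γ(S, U)) (B := Γ(X, V))
    (R := S.presheaf.stalk (f x)) (T := X.presheaf.stalk x) (hV.primeIdealOf ⟨x, hxV⟩).asIdeal
    (fun C _ _ hC => (H (f x)).2 C hC)

/-- For a locally Noetherian scheme S, the scheme S is universally catenary — every scheme X locally of
finite type over S has catenary underlying topological space — if and only if all local rings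
O_{S,s} are universally catenary rings. (Schemes X over S are taken in the universe of S.) -/
theorem result (S : Scheme.{u}) [IsLocallyNoetherian S] :
    (∀ (X : Scheme.{u}) (f : X ⟶ S), LocallyOfFiniteType f → PtTop.IsCatenarySpace X) ↔
      ∀ s : S, CAlg.IsUniversallyCatenary (S.presheaf.stalk s) := by
  exact ⟨fun H s => dir1 S H s, fun H X f hf => dir2 S H X f⟩

end Groth.Agent.S12459
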