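import Groth.Statements.S9604
import Mathlib

set_option autoImplicit false
universe u
open CAlg

namespace Groth.Agent.S9604


/-- Let R be a ring and I, J ideals of R with I^c ⊆ J and J^d ⊆ I for some integers c, d > 0. Then for
an R-module, being complete in the I-adic topology is equivalent to being complete in the J-adic
topology. -/
theorem result {R : Type u} [CommRing R] (I J : Ideal R) (c d : ℕ) (hc : 0 < c) (hd : 0 < d) (hI : I ^ c ≤ J) (hJ : J ^ d ≤ I) (M : Type u) [AddCommGroup M] [Module R M] :
    IsAdicComplete I M ↔ IsAdicComplete J M := by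

  -- symmetric statement
  have main : ∀ (I J : Ideal R) (c d : ℕ), 0 < c → 0 < d → I ^ c ≤ J → J ^ d ≤ I →
      IsAdicComplete I M → IsAdicComplete J M := by
    intro I J c d hc hd hI hJ hcomp
    have hJI : ∀ n, (J ^ (d * n) • ⊤ : Submodule R M) ≤ I ^ n • ⊤ := by
      intro n
      apply Submodule.smul_mono_left
      rw [pow_mul]
      exact Ideal.pow_right_mono hJ n
    have hIJ : ∀ n, (I ^ (c * n) • ⊤ : Submodule R M) ≤ J ^ n • ⊤ := by
      intro n
      apply Submodule.smul_mono_left
      rw [pow_mul]
      exact Ideal.pow_right_mono hI n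
    have hmono : ∀ {m n : ℕ}, m ≤ n → (J ^ n • ⊤ : Submodule R M) ≤ J ^ m • ⊤ :=
      fun h => Submodule.smul_mono_left (Ideal.pow_le_pow_right h)
    have h1 : IsHausdorff J M := by
      rw [isHausdorff_iff]
      intro x hx
      apply hcomp.toIsHausdorff.haus
      intro n
      rw [SModEq.sub_mem, sub_zero]
      have := hx (d * n)
      rw [SModEq.sub_mem, sub_zero] at this
      exact hJI n this
    have h2 : IsPrecomplete J M := by
      rw [isPrecomplete_iff]
      intro f hf
      have hg : ∀ {m n : ℕ}, m ≤ n → f (d * m) ≡ f (d * n) [SMOD (I ^ m • ⊤ : Submodule R M)] := by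
        intro m n hmn
        rw [SModEq.sub_mem]
        apply hJI m
        rw [← SModEq.sub_mem]
        exact hf (Nat.mul_le_mul_left d hmn)
      obtain ⟨L, hL⟩ := hcomp.toIsPrecomplete.prec hg
      refine ⟨L, fun n => ?_⟩
      have e1 : f n ≡ f (d * (c * n)) [SMOD (J ^ n • ⊤ : Submodule R M)] := by
        apply hf
        calc n = 1 * (1 * n) := by ring
          _ ≤ d * (c * n) := Nat.mul_le_mul hd (Nat.mul_le_mul hc le_rfl)
      have e2 : f (d * (c * n)) ≡ L [SMOD (J ^ n • ⊤ : Submodule R M)] := by
        rw [SModEq.sub_mem]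
        apply hIJ n
        rw [← SModEq.sub_mem]
        exact hL (c * n)
      exact e1.trans e2
    exact { toIsHausdorff := h1, toIsPrecomplete := h2 }
  exact ⟨main I J c d hc hd hI hJ, main J I d c hd hc hJ hI⟩

end Groth.Agent.S9604
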