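import Groth.Statements.S1685
import Mathlib
import Groth.Agent.Lead.EffCartier
import Groth.Agent.Lead.SubStalk
import Groth.Agent.Helper2.RegCM

set_option autoImplicit false
universe u
open CategoryTheory CategoryTheory.Limits AlgebraicGeometry TopologicalSpace
open SDiv

namespace Groth.Agent.S1685

open Groth.Agent.Lead.EffCartier Groth.Agent.Lead.SubStalk Groth.Agent.Helper2
open Pointwise

/-- Algebraic core: a surjection `R → S` of Noetherian local rings with kernel generated by a
nonzerodivisor of the maximal ideal drops dimension and depth by one. -/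
theorem dim_depth_quot {R S : Type u} [CommRing R] [CommRing S] [IsLocalRing R] [IsLocalRing S]
    [IsNoetherianRing R] (ψ : R →+* S) (hψ : Function.Surjective ψ) (t : R)
    (ht : t ∈ IsLocalRing.maximalIdeal R) (hnzd : t ∈ nonZeroDivisors R)
    (hker : RingHom.ker ψ = Ideal.span {t}) :
    ringKrullDim S + 1 = ringKrullDim R ∧ LocCoh.depth S S + 1 = LocCoh.depth R R := by
  have hNS : IsNoetherianRing S := isNoetherianRing_of_surjective R S ψ hψ
  constructor
  · have e : (R ⧸ Ideal.span {t}) ≃+* S :=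
      (Ideal.quotEquivOfEq hker.symm).trans (RingHom.quotientKerEquivOfSurjective hψ)
    rw [← ringKrullDim_eq_of_ringEquiv e]
    exact ringKrullDim_quotient_span_singleton_succ_eq_ringKrullDim_of_mem_nonZeroDivisors hnzd ht
  · let _ := ψ.toAlgebra
    have hloc : IsLocalHom (algebraMap R S) := hψ.isLocalHom ψ
    have hfin : Module.Finite R S := Module.Finite.of_surjective (Algebra.linearMap R S) hψ
    have h1 : LocCoh.depth R S = LocCoh.depth S S := RegCM.depth_eq_of_isLocalHom R S S
    have hkerL : LinearMap.ker (Algebra.linearMap R S) = t • (⊤ : Submodule R R) := by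
      ext z
      rw [LinearMap.mem_ker, Algebra.linearMap_apply]
      change ψ z = 0 ↔ _
      rw [← RingHom.mem_ker, hker, ← Submodule.ideal_span_singleton_smul, smul_eq_mul,
        Ideal.mul_top]
    let e : S ≃ₗ[R] QuotSMulTop t R :=
      (LinearMap.quotKerEquivOfSurjective (Algebra.linearMap R S) hψ).symm.trans
        (Submodule.quotEquivOfEq _ _ hkerL)
    have h2 : LocCoh.depth R S = LocCoh.depth R (QuotSMulTop t R) :=
      DepthCM.idealDepth_congr _ e
    have h3 : LocCoh.depth R (QuotSMulTop t R) + 1 = LocCoh.depth R R :=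
      DepthCM.idealDepth_quotSMulTop (IsLocalRing.maximalIdeal R) R (Depth.smul_top_ne_top R R) t ht
        (Module.Flat.isSMulRegular_of_nonZeroDivisors hnzd)
    rw [← h1, h2, h3]

theorem min_pred_le {k : ℕ} {a : WithBot ℕ∞} {e : ℕ∞} {a' : WithBot ℕ∞} {e' : ℕ∞}
    (ha : a + 1 = a') (he : e + 1 = e') (h : min (k : WithBot ℕ∞) a' ≤ (e' : WithBot ℕ∞)) :
    min ((k - 1 : ℕ) : WithBot ℕ∞) a ≤ (e : WithBot ℕ∞) := by
  subst ha he
  induction a with
  | bot => simp
  | coe a =>
    rcases k with _ | k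
    · simp
    · have h' : min ((k + 1 : ℕ) : ℕ∞) (a + 1) ≤ e + 1 := by exact_mod_cast h
      have h'' : min (k : ℕ∞) a + 1 ≤ e + 1 := by
        rw [← min_add_add_right]; exact_mod_cast h'
      have h3 : min (k : ℕ∞) a ≤ e := by
        rcases eq_or_ne e ⊤ with rfl | hne
        · exact le_top
        · exact (ENat.add_le_add_iff_right (by simp)).mp h''
      simp only [Nat.add_sub_cancel]
      exact_mod_cast h3

/-- Let X be a locally Noetherian scheme all of whose local rings satisfy Serre's condition (S_k), and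
let D be the closed subscheme of an effective Cartier divisor. Then all local rings of D satisfy
(S_{k-1}). -/
theorem result (X : Scheme.{u}) [IsLocallyNoetherian X] (k : ℕ)
    (hX : ∀ x : ↥X, min (k : WithBot ℕ∞) (ringKrullDim (X.presheaf.stalk x)) ≤
      ((LocCoh.depth (X.presheaf.stalk x) (X.presheaf.stalk x) : ℕ∞) : WithBot ℕ∞))
    (𝓘 : X.IdealSheafData) (h𝓘 : BlowUp.IsEffCartierIdeal 𝓘) (d : ↥𝓘.subscheme) :
    min ((k - 1 : ℕ) : WithBot ℕ∞) (ringKrullDim (𝓘.subscheme.presheaf.stalk d)) ≤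
      ((LocCoh.depth (𝓘.subscheme.presheaf.stalk d) (𝓘.subscheme.presheaf.stalk d) : ℕ∞) : WithBot ℕ∞) := by
  obtain ⟨W, hxW, g, hg, e⟩ := h𝓘 (𝓘.subschemeι d)
  have hker := ker_stalkMap_subschemeι 𝓘 d W hxW
  rw [e, Ideal.map_span, Set.image_singleton] at hker
  have hxsupp : 𝓘.subschemeι d ∈ 𝓘.support := by
    have : 𝓘.subschemeι d ∈ Set.range 𝓘.subschemeι := ⟨d, rfl⟩
    rw [𝓘.range_subschemeι] at this
    exact this
  let _ := X.presheaf.algebra_section_stalk ⟨𝓘.subschemeι d, hxW⟩
  have hloc := W.2.isLocalization_stalk ⟨𝓘.subschemeι d, hxW⟩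
  have hgp : g ∈ (W.2.primeIdealOf ⟨𝓘.subschemeι d, hxW⟩).asIdeal := by
    have h1 := (𝓘.mem_support_iff_of_mem (U := W) hxW).mp hxsupp
    rw [Groth.Agent.S1567.mem_zeroLocus_iff_le_primeIdealOf W.2 _ hxW, e] at h1
    exact h1 (Ideal.mem_span_singleton_self g)
  have hm : algebraMap Γ(X, W.1) (X.presheaf.stalk (𝓘.subschemeι d)) g ∈
      IsLocalRing.maximalIdeal (X.presheaf.stalk (𝓘.subschemeι d)) :=
    (IsLocalization.AtPrime.to_map_mem_maximal_iff _
      (W.2.primeIdealOf ⟨𝓘.subschemeι d, hxW⟩).asIdeal g).mpr hgp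
  have hnzd : algebraMap Γ(X, W.1) (X.presheaf.stalk (𝓘.subschemeι d)) g ∈
      nonZeroDivisors (X.presheaf.stalk (𝓘.subschemeι d)) :=
    IsLocalization.map_nonZeroDivisors_le
      (W.2.primeIdealOf ⟨𝓘.subschemeι d, hxW⟩).asIdeal.primeCompl _
      (Submonoid.mem_map_of_mem _ hg)
  have hsurj : Function.Surjective (𝓘.subschemeι.stalkMap d).hom :=
    𝓘.subschemeι.stalkMap_surjective d
  obtain ⟨h1, h2⟩ := dim_depth_quot (𝓘.subschemeι.stalkMap d).hom hsurj _ hm hnzd hker
  exact min_pred_le h1 h2 (hX (𝓘.subschemeι d))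

end Groth.Agent.S1685
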