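import Groth.Statements.S9972
import Groth.Agent.Helper4.AlgSpPB

set_option autoImplicit false
universe u
open CategoryTheory CategoryTheory.Limits AlgebraicGeometry
open AlgSp

namespace Groth.Agent.S9972

/-- Two morphisms to an algebraic space separated over B that agree on an open subspace whose scheme
theoretic closure is everything are equal. -/
theorem result {S : Scheme.{u}} {U X Y B : AlgSp.Space S} (q : Y ⟶ B)
    (hq : AlgSp.IsSeparatedMor q.hom) (f g : X ⟶ Y) (hfg : f ≫ q = g ≫ q) (j : U ⟶ X)
    (hj : AlgSp.RepWith @IsOpenImmersion j.hom) (hcl : AlgSp.IsSchImage j.hom (𝟙 X.obj)) (heq : j ≫ f = j ≫ g) :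
    f = g := by
  have hD : AlgSp.IsAlgSpace (pullback q.hom q.hom) :=
    Groth.Agent.Helper4.AlgSpPB.isAlgSpace_of_isPullback B.property.diag Y.property Y.property
      q.hom q.hom _ _ (IsPullback.of_hasPullback q.hom q.hom)
  have hfg' : f.hom ≫ q.hom = g.hom ≫ q.hom := congrArg (fun k => k.hom) hfg
  have heq' : j.hom ≫ f.hom = j.hom ≫ g.hom := congrArg (fun k => k.hom) heq
  let m : X.obj ⟶ pullback q.hom q.hom := pullback.lift f.hom g.hom hfg'
  have sqE : IsPullback (pullback.fst m (pullback.diagonal q.hom)) (pullback.snd m (pullback.diagonal q.hom))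
      m (pullback.diagonal q.hom) := IsPullback.of_hasPullback _ _
  have hE : AlgSp.IsAlgSpace (pullback m (pullback.diagonal q.hom)) :=
    Groth.Agent.Helper4.AlgSpPB.isAlgSpace_of_isPullback hD.diag X.property Y.property _ _ _ _ sqE
  have hci : AlgSp.RepWith @IsClosedImmersion (pullback.fst m (pullback.diagonal q.hom)) := by
    have i1 := AlgSp.repWith_isStableUnderBaseChange (S := S) @IsClosedImmersion
    exact MorphismProperty.of_isPullback sqE.flip hq
  have hfac : ∃ f'' : U.obj ⟶ pullback m (pullback.diagonal q.hom),
      f'' ≫ pullback.fst m (pullback.diagonal q.hom) = j.hom := by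
    refine ⟨pullback.lift j.hom (j.hom ≫ f.hom) ?_, pullback.lift_fst _ _ _⟩
    apply pullback.hom_ext
    · rw [Category.assoc, pullback.lift_fst, Category.assoc, pullback.diagonal_fst, Category.comp_id]
    · rw [Category.assoc, pullback.lift_snd, Category.assoc, pullback.diagonal_snd, Category.comp_id,
        heq']
  obtain ⟨k, hk⟩ := hcl.2.2 _ hE hci hfac
  have h1 : pullback.fst m (pullback.diagonal q.hom) ≫ f.hom =
      pullback.snd m (pullback.diagonal q.hom) := by
    have := congrArg (fun t => t ≫ pullback.fst q.hom q.hom) sqE.w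
    simp only [Category.assoc, pullback.diagonal_fst, Category.comp_id] at this
    rw [← this, pullback.lift_fst]
  have h2 : pullback.fst m (pullback.diagonal q.hom) ≫ g.hom =
      pullback.snd m (pullback.diagonal q.hom) := by
    have := congrArg (fun t => t ≫ pullback.snd q.hom q.hom) sqE.w
    simp only [Category.assoc, pullback.diagonal_snd, Category.comp_id] at this
    rw [← this, pullback.lift_snd]
  have h3 : f.hom = g.hom := by
    calc f.hom = (k ≫ pullback.fst m (pullback.diagonal q.hom)) ≫ f.hom := by rw [hk, Category.id_comp]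
      _ = (k ≫ pullback.fst m (pullback.diagonal q.hom)) ≫ g.hom := by
        rw [Category.assoc, h1, Category.assoc, h2]
      _ = g.hom := by rw [hk, Category.id_comp]
  exact ObjectProperty.hom_ext _ h3

end Groth.Agent.S9972
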