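import Groth.Statements.S10860
import Mathlib

set_option autoImplicit false
universe u
open Mor

namespace Groth.Agent.S10860

open CategoryTheory AlgebraicGeometry in
/-- For a proper morphism f : X → Y, the set V of points of Y with finite fibre is open, and f
restricted over V is finite (stated as the existence of an open subscheme of Y whose underlying set
is exactly V and over which f is finite). -/
theorem result {X Y : Scheme.{u}} (f : X ⟶ Y) [IsProper f] :
    ∃ U : Y.Opens, (U : Set Y) = {y : Y | (f.base ⁻¹' {y}).Finite} ∧ IsFinite (f ∣_ U) := by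
  have bar : ∀ (V : Y.Opens) [IsFinite (f ∣_ V)] (y : Y) (hy : y ∈ V), (f ⁻¹' {y}).Finite := by
    intro V _ y hy
    have : Finite ((f ∣_ V).fiber ⟨y, hy⟩) := inferInstance
    have h2 : ((f ∣_ V) ⁻¹' {⟨y, hy⟩}).Finite := ((f ∣_ V).fiberHomeo ⟨y, hy⟩).finite_iff.mp this
    refine (h2.image (f ⁻¹ᵁ V).ι).subset ?_
    intro x hx
    have hx' : f x = y := hx
    have hxV : x ∈ f ⁻¹ᵁ V := by
      change f x ∈ V
      rw [hx']; exact hy
    refine ⟨⟨x, hxV⟩, ?_, rfl⟩
    change (f ∣_ V) ⟨x, hxV⟩ = ⟨y, hy⟩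
    apply Subtype.ext
    have := morphismRestrict_ι f V
    have h3 := congrArg (fun g : (f ⁻¹ᵁ V : Scheme) ⟶ Y => g ⟨x, hxV⟩) this
    simp only [Scheme.Hom.comp_apply] at h3
    exact h3.trans hx'
  choose V hyV hV using fun y : {y : Y // (f ⁻¹' {y}).Finite} ↦
    exists_isFinite_morphismRestrict_of_finite_preimage_singleton f y.1 y.2
  let 𝒰 := Scheme.Opens.iSupOpenCover V
  have hfin : IsFinite (f ∣_ ⨆ y, V y) := by
    refine (IsZariskiLocalAtTarget.iff_of_openCover (P := @IsFinite) 𝒰).mpr fun y ↦ ?_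
    refine (MorphismProperty.arrow_mk_iso_iff @IsFinite
      ((morphismRestrictRestrict ..).symm ≪≫ morphismRestrictOpensRange ..)).mp ?_
    have : Scheme.Opens.ι _ ''ᵁ (𝒰.f y).opensRange = V y := by
      simp only [Scheme.Opens.iSupOpenCover, 𝒰, ← Scheme.Hom.opensRange_comp, Scheme.homOfLE_ι,
        Scheme.Opens.opensRange_ι]
    convert! hV y
  refine ⟨⨆ y, V y, ?_, hfin⟩
  ext y
  simp only [TopologicalSpace.Opens.coe_iSup, Set.mem_iUnion, SetLike.mem_coe, Set.mem_setOf_eq]
  constructor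
  · rintro ⟨y', hy'⟩
    have h1 := hV y'
    exact bar (V y') y hy'
  · intro hy
    exact ⟨⟨y, hy⟩, hyV _⟩

end Groth.Agent.S10860
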