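import Groth.Statements.S4941
import Mathlib
import Groth.Agent.Helper2.OpenAt
open Groth.Agent.Helper2
open CategoryTheory.Limits
-- import your own Groth.Agent.* helpers here

set_option autoImplicit false
open CategoryTheory AlgebraicGeometry
universe u v w
open EGA43

namespace Groth.Agent.S4941

open CategoryTheory.Limits in
/-- Let v : Y₁ ⟶ Y be a surjective morphism of schemes whose underlying map is closed, f : X ⟶ Y a
morphism and x a point of X. If the base change f₁ : X ×_Y Y₁ ⟶ Y₁ is open at every point of X ×_Y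
Y₁ lying over x, then f is open at x. -/
theorem result {X Y Y₁ : Scheme.{u}} (v : Y₁ ⟶ Y)
    (hv : IsClosedMap v.base) [Surjective v] (f : X ⟶ Y) (x : X)
    (h : ∀ x₁ : ↥(pullback f v), (pullback.fst f v).base x₁ = x → EGA43.IsOpenAt (pullback.snd f v).base x₁) :
    EGA43.IsOpenAt f.base x := by
  intro U hU
  obtain ⟨U', hU'U, hU'o, hxU'⟩ := mem_nhds_iff.mp hU
  refine Filter.mem_of_superset ?_ (Set.image_mono hU'U)
  have key : (pullback.snd f v).base '' ((pullback.fst f v).base ⁻¹' U') =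
      v.base ⁻¹' (f.base '' U') :=
    Scheme.image_preimage_eq_of_isPullback (IsPullback.of_hasPullback f v) U'
  have h1 : ∀ y₁, v.base y₁ = f.base x → v.base ⁻¹' (f.base '' U') ∈ nhds y₁ := by
    intro y₁ hy₁
    obtain ⟨x₁, hx₁1, hx₁2⟩ := Scheme.Pullback.exists_preimage_pullback x y₁ hy₁.symm
    have := h x₁ hx₁1 ((pullback.fst f v).base ⁻¹' U')
      ((hU'o.preimage (pullback.fst f v).continuous).mem_nhds (by
        rw [Set.mem_preimage, hx₁1]; exact hxU'))
    rw [key, hx₁2] at this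
    exact this
  set W₁ := interior (v.base ⁻¹' (f.base '' U')) with hW₁
  have h2 : v.base ⁻¹' {f.base x} ⊆ W₁ := fun y₁ hy₁ => mem_interior_iff_mem_nhds.mpr (h1 y₁ hy₁)
  have hWo : IsOpen (v.base '' W₁ᶜ)ᶜ := (hv _ isOpen_interior.isClosed_compl).isOpen_compl
  have hyW : f.base x ∈ (v.base '' W₁ᶜ)ᶜ := by
    rintro ⟨y₁, hy₁, hy₁y⟩
    exact hy₁ (h2 hy₁y)
  refine Filter.mem_of_superset (hWo.mem_nhds hyW) ?_
  intro y' hy'
  obtain ⟨y₁', rfl⟩ := v.surjective y'
  have : y₁' ∈ W₁ := by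
    by_contra hc
    exact hy' ⟨y₁', hc, rfl⟩
  have h3 : y₁' ∈ v.base ⁻¹' (f.base '' U') := interior_subset this
  exact h3

end Groth.Agent.S4941
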