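import Groth.Statements.S4942
import Mathlib
import Groth.Agent.Helper2.OpenAt
import Groth.Agent.S4941
open Groth.Agent.Helper2
open CategoryTheory.Limits
-- import your own Groth.Agent.* helpers here

set_option autoImplicit false
open CategoryTheory AlgebraicGeometry
universe u v w
open EGA43

namespace Groth.Agent.S4942

open CategoryTheory.Limits in
/-- Let v : Y₁ ⟶ Y be a universally closed surjective morphism of schemes, f : X ⟶ Y a morphism and x a
point of X. If the base change f₁ : X ×_Y Y₁ ⟶ Y₁ is universally open at every point of X ×_Y Y₁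
lying over x, then f is universally open at x. -/
theorem result {X Y Y₁ : Scheme.{u}} (v : Y₁ ⟶ Y)
    [UniversallyClosed v] [Surjective v] (f : X ⟶ Y) (x : X)
    (h : ∀ x₁ : ↥(pullback f v), (pullback.fst f v).base x₁ = x → EGA43.IsUnivOpenAt (pullback.snd f v) x₁) :
    EGA43.IsUnivOpenAt f x := by
  intro Y' g x' hx'
  set f' := pullback.snd f g with hf'
  set v' := pullback.snd v g with hv'
  have hv'c : IsClosedMap v'.base := v'.isClosedMap
  apply Groth.Agent.S4941.result v' hv'c f' x'
  intro z hz
  let a : pullback f' v' ⟶ pullback f v :=
    pullback.lift (pullback.fst f' v' ≫ pullback.fst f g) (pullback.snd f' v' ≫ pullback.fst v g) (by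
      rw [Category.assoc, Category.assoc, pullback.condition, ← Category.assoc, pullback.condition,
        Category.assoc, pullback.condition (f := v)])
  have ha1 : a ≫ pullback.fst f v = pullback.fst f' v' ≫ pullback.fst f g := pullback.lift_fst _ _ _
  have ha2 : a ≫ pullback.snd f v = pullback.snd f' v' ≫ pullback.fst v g := pullback.lift_snd _ _ _
  have hbig : IsPullback (a ≫ pullback.fst f v) (pullback.snd f' v') f (pullback.fst v g ≫ v) := by
    rw [ha1, pullback.condition (f := v)]
    exact (IsPullback.of_hasPullback f' v').paste_horiz (IsPullback.of_hasPullback f g)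
  have hsq : IsPullback a (pullback.snd f' v') (pullback.snd f v) (pullback.fst v g) :=
    IsPullback.of_right hbig ha2 (IsPullback.of_hasPullback f v)
  have hz1 : (pullback.fst f v).base (a.base z) = x := by
    rw [← Scheme.Hom.comp_apply, ha1, Scheme.Hom.comp_apply, hz, hx']
  exact OpenAt.isOpenAt_of_isPullback (h (a.base z) hz1) hsq z rfl

end Groth.Agent.S4942
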