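import Groth.Statements.S9948
import Groth.Agent.Helper4.SDClasses
import Groth.Agent.Helper4.AlgSpLocPBC
import Groth.Agent.Helper4.AlgSpLocP
import Mathlib

set_option autoImplicit false
universe u
open CategoryTheory CategoryTheory.Limits AlgebraicGeometry
open AlgSp

namespace Groth.Agent.S9948


/-- Representable clause, for the listed classes P: for f representable by schemes, P etale locally on
the source-and-target agrees with P in the representable sense. -/
theorem result {S : Scheme.{u}} (P : MorphismProperty Scheme.{u})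
    (hP : P = @LocallyOfFiniteType ∨ P = @LocallyOfFinitePresentation ∨ P = @Flat ∨ P = @Smooth ∨ P = @Etale ∨
      (∀ ⦃A B : Scheme.{u}⦄ (g : A ⟶ B), P g ↔ (LocallyQuasiFinite g ∧ LocallyOfFiniteType g)) ∨
      (∀ ⦃A B : Scheme.{u}⦄ (g : A ⟶ B), P g ↔ (LocallyOfFiniteType g ∧ FormallyUnramified g)))
    {X Y : AlgSp.Space S} (f : X ⟶ Y) (hf : AlgSp.Representable f.hom) :
    AlgSp.LocP P f.hom ↔ AlgSp.RepWith P f.hom := by

  have hG := Groth.Agent.Helper4.SDClasses.good_of_listed P hP
  have := hG.bc
  have := hG.comp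
  constructor
  · intro hloc
    refine ⟨hf, ?_⟩
    intro U V g fst snd sq
    have h1 : AlgSp.LocP P ((AlgSp.yon S).map snd) :=
      Groth.Agent.Helper4.AlgSpLocPBC.locP_of_isPullback P hG.etale_le hG.sd X.property Y.property
        f.hom g fst ((AlgSp.yon S).map snd) sq hloc
    exact AlgSp.locP_yon_map h1
  · intro hrep
    exact Groth.Agent.Helper4.AlgSpLocP.locP_of_repWith P P (fun _ h => h) hG.etale_le f.hom hrep

end Groth.Agent.S9948
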