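import Groth.Statements.S10273
import Groth.Agent.Helper4.AlgSpLocPBC
import Groth.Agent.Helper4.SDClasses
import Groth.Agent.S9903
import Groth.Agent.S9917
import Groth.Agent.S9923
import Groth.Agent.Helper4.AlgSpQC
import Groth.Agent.Helper4.AlgSpQC2
import Groth.Agent.Helper4.AlgSpUC
import Groth.Agent.Helper5.AlgSpAffBC

set_option autoImplicit false
universe u
open CategoryTheory CategoryTheory.Limits AlgebraicGeometry
open AlgSp

namespace Groth.Agent.S10273

/-- (1) ⇔ (3): properness of a morphism of algebraic spaces can be tested after base change to affine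
schemes over the target. -/
theorem result {S : Scheme.{u}} {X Y : AlgSp.Space S} (f : X ⟶ Y) :
    AlgSp.IsProperMor f.hom ↔
      ∀ (Z : Over S), IsAffine Z.left → ∀ (g : (AlgSp.yon S).obj Z ⟶ Y.obj) (P : AlgSp.Sp S) (fst : P ⟶ X.obj)
        (snd : P ⟶ (AlgSp.yon S).obj Z), IsPullback fst snd f.hom g → AlgSp.IsProperMor snd := by
  have hG := Groth.Agent.Helper4.SDClasses.good_lft.{u}
  have := hG.bc
  have := hG.comp
  constructor
  · rintro ⟨h1, ⟨h2, h3⟩, h4⟩ Z hZ g P fst snd sq
    refine ⟨Groth.Agent.S9903.diag_bc _ sq h1, ⟨?_, ?_⟩, ?_⟩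
    · exact Groth.Agent.Helper4.AlgSpLocPBC.locP_of_isPullback @LocallyOfFiniteType
        (fun g hg => hG.etale_le g hg) (fun e h he hs hP => hG.sd e h he hs hP)
        X.property Y.property f.hom g fst snd sq h2
    · exact Groth.Agent.Helper4.AlgSpQC.isQuasiCompactMor_of_isPullback sq h3
    · exact Groth.Agent.Helper4.AlgSpUC.univSp_of_isPullback _ sq h4
  · intro H
    refine ⟨(Groth.Agent.S9903.result f).1.2 (fun Z hZ g P fst snd sq => (H Z hZ g P fst snd sq).1),
      ⟨?_, ?_⟩, ?_⟩
    · exact Groth.Agent.Helper5.AlgSpAffBC.locP_of_affine_base_change @LocallyOfFiniteType hG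
        X.property Y.property f.hom (fun Z hZ g P fst snd sq => (H Z hZ g P fst snd sq).2.1.1)
    · refine (Groth.Agent.S9917.result f).2 (fun Z hZ g P fst snd sq => ?_)
      have : IsAffine Z.left := hZ
      exact (H Z hZ g P fst snd sq).2.1.2 (AlgSp.IsAlgSpace.yon_obj Z)
        (Groth.Agent.Helper4.AlgSpQC2.isQuasiCompactSp_yon Z) (𝟙 _) (𝟙 _) snd IsPullback.of_id_fst
    · refine (Groth.Agent.S9923.result f).2 (fun Z hZ g P fst snd sq => ?_)
      exact (H Z hZ g P fst snd sq).2.2 (AlgSp.IsAlgSpace.yon_obj Z) (𝟙 _) (𝟙 _) snd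
        IsPullback.of_id_fst

end Groth.Agent.S10273
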