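import Groth.Statements.S10271
import Groth.Agent.Helper5.AlgSpFin
import Groth.Agent.S10273

set_option autoImplicit false
universe u
open CategoryTheory CategoryTheory.Limits AlgebraicGeometry
open AlgSp

namespace Groth.Agent.S10271

/-- A morphism of algebraic spaces is finite if and only if it is affine and proper. -/
theorem result {S : Scheme.{u}} {X Y : AlgSp.Space S} (f : X ⟶ Y) :
    AlgSp.IsFiniteMor f.hom ↔ (AlgSp.IsAffineMor f.hom ∧ AlgSp.IsProperMor f.hom) := by
  constructor
  · intro h
    refine ⟨Groth.Agent.Helper5.AlgSpFin.isAffineMor_of_isFiniteMor f.hom h, ?_⟩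
    exact (Groth.Agent.S10273.result f).2
      (Groth.Agent.Helper5.AlgSpFin.isProperMor_snd_of_isFiniteMor f.hom h)
  · rintro ⟨ha, hp⟩
    exact Groth.Agent.Helper5.AlgSpFin.isFiniteMor_of_affine_proper X.property Y.property f.hom ha hp

end Groth.Agent.S10271
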