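import Groth.Statements.S10272
import Groth.Agent.Helper5.AlgSpAff
import Groth.Agent.S10270
import Groth.Agent.S10271

set_option autoImplicit false
universe u
open CategoryTheory CategoryTheory.Limits AlgebraicGeometry
open AlgSp

namespace Groth.Agent.S10272

/-- If g is separated and the composite of f and g is finite (resp. integral) then f is finite (resp.
integral). -/
theorem result {S : Scheme.{u}} {X Y Z : AlgSp.Space S} (f : X ⟶ Y) (g : Y ⟶ Z)
    (hg : AlgSp.IsSeparatedMor g.hom) :
    (AlgSp.IsFiniteMor (f ≫ g).hom → AlgSp.IsFiniteMor f.hom) ∧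
    (AlgSp.IsIntegralMor (f ≫ g).hom → AlgSp.IsIntegralMor f.hom) := by
  constructor
  · intro h
    have h1 := (Groth.Agent.S10271.result (f ≫ g)).1 h
    have ha := Groth.Agent.Helper5.AlgSpAff.isAffineMor_of_comp_separated f.hom g.hom hg h1.1
    have hp := Groth.Agent.Helper5.AlgSpProper.isProperMor_of_comp_separated X.property
      Y.property Z.property f.hom g.hom hg h1.2
    exact (Groth.Agent.S10271.result f).2 ⟨ha, hp⟩
  · intro h
    have h1 := (Groth.Agent.S10270.result (f ≫ g)).1 h
    have ha := Groth.Agent.Helper5.AlgSpAff.isAffineMor_of_comp_separated f.hom g.hom hg h1.1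
    have hp := Groth.Agent.Helper5.AlgSpProper.isUnivClosedMor_of_comp_separated X.property
      Y.property Z.property.diag f.hom g.hom hg h1.2
    exact (Groth.Agent.S10270.result f).2 ⟨ha, hp⟩

end Groth.Agent.S10272
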