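import Groth.Statements.S7663
import Groth.Agent.Helper5.KA4

set_option autoImplicit false
universe u
open CategoryTheory CategoryTheory.Limits AlgebraicGeometry
open Variety

namespace Groth.Agent.S7663

/-- Let K be a field and A, B ⊆ K subrings with fraction field K, with A Noetherian of dimension one.
Then A ⊗ B → K is not surjective (equivalently, the subring generated by A and B is not K) if and
only if some discrete valuation ring O ⊆ K with fraction field K contains both A and B. -/
theorem result (K : Type u) [Field K]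
    (A : Subring K) [IsFractionRing A K] (B : Subring K) [IsFractionRing B K] [IsNoetherianRing A] (hdim : ringKrullDim A = 1) :
    A ⊔ B ≠ ⊤ ↔ ∃ O : ValuationSubring K, IsDiscreteValuationRing O ∧ A ≤ O.toSubring ∧ B ≤ O.toSubring := by
  classical
  constructor
  · intro hne
    have hKD : Ring.KrullDimLE 1 A := Ring.krullDimLE_iff.2 (by rw [hdim]; rfl)
    letI : Algebra A (A ⊔ B : Subring K) := (Subring.inclusion (le_sup_left : A ≤ A ⊔ B)).toAlgebra
    haveI : IsScalarTower A (A ⊔ B : Subring K) K := IsScalarTower.of_algebraMap_eq (fun _ => rfl)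
    have hC : Function.Injective (algebraMap (A ⊔ B : Subring K) K) := Subtype.val_injective
    have hnf : ¬ IsField (A ⊔ B : Subring K) := by
      intro hf
      apply hne
      rw [eq_top_iff]
      intro z _
      obtain ⟨p, q, hq, rfl⟩ := IsFractionRing.div_surjective (A := A) z
      have hq0 : (q : K) ≠ 0 := by
        have := nonZeroDivisors.ne_zero hq
        intro h
        exact this (Subtype.ext h)
      have hqC : (q : K) ∈ A ⊔ B := (le_sup_left : A ≤ A ⊔ B) q.2
      have hpC : (p : K) ∈ A ⊔ B := (le_sup_left : A ≤ A ⊔ B) p.2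
      obtain ⟨b', hb'⟩ := hf.mul_inv_cancel (a := (⟨(q : K), hqC⟩ : (A ⊔ B : Subring K)))
        (fun h => hq0 (congrArg Subtype.val h))
      have hb'' : (q : K) * (b' : K) = 1 := congrArg Subtype.val hb'
      have hinv : (b' : K) = (q : K)⁻¹ := eq_inv_of_mul_eq_one_right hb''
      have : algebraMap A K p / algebraMap A K q = (p : K) * (b' : K) := by
        rw [hinv, div_eq_mul_inv]
        rfl
      rw [this]
      exact Subring.mul_mem _ hpC b'.2
    obtain ⟨O, hO, hmem⟩ := Groth.Agent.Helper5.KA.exists_dvr A K (A ⊔ B : Subring K) hC hnf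
    refine ⟨O, hO, ?_, ?_⟩
    · intro x hx
      exact hmem ⟨x, (le_sup_left : A ≤ A ⊔ B) hx⟩
    · intro x hx
      exact hmem ⟨x, (le_sup_right : B ≤ A ⊔ B) hx⟩
  · rintro ⟨O, hO, hA, hB⟩ htop
    have hOtop : O.toSubring = ⊤ := by
      rw [eq_top_iff, ← htop]
      exact sup_le hA hB
    obtain ⟨ϖ, hϖ⟩ := IsDiscreteValuationRing.exists_irreducible O
    apply hϖ.not_isUnit
    have hϖ0 : (ϖ : K) ≠ 0 := fun h => hϖ.ne_zero (Subtype.ext h)
    have hmem : (ϖ : K)⁻¹ ∈ O := by
      have : (ϖ : K)⁻¹ ∈ O.toSubring := by rw [hOtop]; trivial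
      exact this
    exact isUnit_iff_exists_inv.2 ⟨⟨(ϖ : K)⁻¹, hmem⟩, Subtype.ext (mul_inv_cancel₀ hϖ0)⟩

end Groth.Agent.S7663
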