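import Groth.Statements.S12792
import Mathlib
import Groth.Agent.Helper6.StkFp

set_option autoImplicit false
open CategoryTheory
universe w v u
open Stk

namespace Groth.Agent.S12792

/-- For categories `𝒳`, `𝒴` over `C` that are stacks in groupoids for the topology `J`, a category `𝒮`
over `C` that is a prestack in groupoids for `J`, and functors `F : 𝒳 ⟶ 𝒮`, `G : 𝒴 ⟶ 𝒮` over `C`,
the 2-fibre product `𝒳 ×_𝒮 𝒴` over `C` is a stack in groupoids for `J`. (The published statement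
takes `𝒮` a stack in groupoids as well; its proof uses only that morphisms of `𝒮` glue uniquely,
which is the hypothesis made here.) -/
theorem result {C : Type u} [Category.{v} C] (J : GrothendieckTopology C) {𝒳 𝒴 𝒮 : BasedCategory.{v, max u v} C}
    (F : 𝒳 ⥤ᵇ 𝒮) (G : 𝒴 ⥤ᵇ 𝒮) (h𝒳 : Stk.IsStack J 𝒳) (h𝒴 : Stk.IsStack J 𝒴) (h𝒮 : Stk.IsPrestack J 𝒮) :
    Stk.IsStack J (FibCat.fp F G) := by
  refine ⟨Groth.Agent.Helper6.FpTools.isFibGrpd_fp F G h𝒳.1 h𝒴.1 h𝒮.1, fun U R hR => ?_⟩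
  haveI : (Stk.restr (Stk.sieveIncl R) 𝒳).IsEquivalence := h𝒳.2 R hR
  haveI : (Stk.restr (Stk.sieveIncl R) 𝒴).IsEquivalence := h𝒴.2 R hR
  haveI : (Stk.restr (Stk.sieveIncl R) 𝒮).Full := (h𝒮.2 R hR).1
  haveI : (Stk.restr (Stk.sieveIncl R) 𝒮).Faithful := (h𝒮.2 R hR).2
  exact Groth.Agent.Helper6.StkFp.restr_fp_isEquivalence (Stk.sieveIncl R) F G

end Groth.Agent.S12792
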