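import Groth.Statements.S12846
import Groth.Agent.Helper6.ChartCmp

set_option autoImplicit false
open CategoryTheory AlgebraicGeometry
universe u
open AlgSt

namespace Groth.Agent.S12846

theorem pass_down (P : Scheme.{u} → Prop)
    (hP : ∀ (U : Scheme.{u}) (R : Presieve U), R ∈ Scheme.precoverage @Smooth U →
      (P U ↔ ∀ ⦃V : Scheme.{u}⦄ (g : V ⟶ U), R g → P V))
    {U V : Scheme.{u}} (h : V ⟶ U) (hs : Smooth h) (hU : P U) : P V := by
  let X : Bool → Scheme.{u} := fun b => cond b V U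
  let f : ∀ b, X b ⟶ U := fun b => match b with
    | true => h
    | false => 𝟙 U
  have hR : Presieve.ofArrows X f ∈ Scheme.precoverage @Smooth U := by
    refine (Scheme.ofArrows_mem_precoverage_iff _).2 ⟨fun x => ⟨false, x, rfl⟩, fun b => ?_⟩
    cases b
    · change Smooth (𝟙 U)
      infer_instance
    · exact hs
  exact (hP U _ hR).1 hU (f true) (Presieve.ofArrows.mk true)

theorem pass_up (P : Scheme.{u} → Prop)
    (hP : ∀ (U : Scheme.{u}) (R : Presieve U), R ∈ Scheme.precoverage @Smooth U →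
      (P U ↔ ∀ ⦃V : Scheme.{u}⦄ (g : V ⟶ U), R g → P V))
    {U V : Scheme.{u}} (h : V ⟶ U) (hs : Smooth h) (hsurj : Function.Surjective h) (hV : P V) :
    P U := by
  have hR : Presieve.singleton h ∈ Scheme.precoverage @Smooth U :=
    (Scheme.singleton_mem_precoverage_iff _ _).2 ⟨hsurj, hs⟩
  refine (hP U _ hR).2 (fun W g hg => ?_)
  cases hg
  exact hV

/-- (1) ⇔ (2): suppose `P`, a property of schemes, is local for the smooth topology (for every jointly
surjective family of smooth morphisms `V_i ⟶ U`, `U` has `P` if and only if every `V_i` has `P`) and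
`𝒳` an algebraic stack over `S`. Then every scheme `U` admitting a smooth `U ⟶ 𝒳` has `P` if and
only if some scheme `U` admitting a surjective smooth `U ⟶ 𝒳` has `P`. -/
theorem result {S : Scheme.{u}} {𝒳 : AlgSt.Cat S}
    (h𝒳 : AlgSt.IsAlgStack Scheme.fppfPrecoverage 𝒳) (P : Scheme.{u} → Prop)
    (hP : ∀ (U : Scheme.{u}) (R : Presieve U), R ∈ Scheme.precoverage @Smooth U →
      (P U ↔ ∀ ⦃V : Scheme.{u}⦄ (g : V ⟶ U), R g → P V)) :
    AlgSt.SmoothLocally P 𝒳 ↔
      ∃ (U : Over S) (x : FibCat.overCat U ⥤ᵇ 𝒳),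
        AlgSt.RepByAlgSpWith (AlgSp.LocP @Smooth) x ∧ AlgSt.RepByAlgSpWith AlgSp.IsSurjectiveMor x ∧ P U.left := by
  constructor
  · intro h
    obtain ⟨U₀, u, hu₁, hu₂⟩ := h𝒳.atlas
    exact ⟨U₀, u, hu₁, hu₂, h U₀ u hu₁⟩
  · rintro ⟨U, x, hx₁, hx₂, hPU⟩ U' x' hx'
    obtain ⟨V, h₁, h₂, k1, k2, ks, -⟩ :=
      Groth.Agent.Helper6.ChartCmp.compare @Smooth @Smooth x x' hx₁ hx'
    exact pass_up P hP h₁.left k1 (ks hx₂) (pass_down P hP h₂.left k2 hPU)

end Groth.Agent.S12846
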