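import Groth.Statements.S12772
import Groth.Agent.Helper6.SpAtlas
import Groth.Agent.S12796
import Groth.Agent.Helper6.AlgStSpMap
import Groth.Agent.Helper6.AlgStDiagIff

set_option autoImplicit false
open CategoryTheory AlgebraicGeometry
universe u
open AlgSt

namespace Groth.Agent.S12772

theorem isDM_ofSp {S : Scheme.{u}} (F : AlgSp.Space S) :
    AlgSt.IsDM Scheme.fppfPrecoverage (AlgSt.ofSp F.obj) := by
  obtain ⟨V₀, u, hue, hus, huQ⟩ := Groth.Agent.Helper6.SpAtlas.exists_etale_atlas F.obj F.property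
  have hF : AlgSt.RepByAlgSp (AlgSt.ofSp F.obj) :=
    ⟨F, BasedFunctor.id _, Groth.Agent.Helper6.FpTools.isEquivOver_id _⟩
  refine ⟨⟨?_, ?_, ⟨V₀, u, ?_, hus⟩⟩, ⟨V₀, u, hue, hus⟩⟩
  · exact (Groth.Agent.S12796.result _ _).2 ((isSheaf_iff_isSheaf_of_type _ _).1 F.obj.property)
  · exact Groth.Agent.Helper6.AlgStDiagIff.backward (fun U G =>
      Groth.Agent.Helper6.AlgStSpMap.repByAlgSp1_of_repByAlgSp
        (Groth.Agent.Helper6.AlgStDiagIff.repByAlgSp_overCat U) hF G)
  · exact huQ _ Groth.Agent.Helper4.SDClasses.good_smooth.comp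
      Groth.Agent.Helper4.SDClasses.good_smooth.etale_le

/-- Every category fibred in groupoids over `(Sch/S)` that is representable by an algebraic space is in
fact a Deligne-Mumford stack over `S`. (In particular the category of sections of an algebraic space
over `S`, and the category of schemes over a given scheme over `S`, are Deligne-Mumford stacks.) -/
theorem result {S : Scheme.{u}} {𝒳 : AlgSt.Cat S}
    (h𝒳 : FibCat.IsFibGrpd 𝒳.p) (hr : AlgSt.RepByAlgSp 𝒳) :
    AlgSt.IsDM Scheme.fppfPrecoverage 𝒳 := by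
  obtain ⟨F, e, he⟩ := hr
  exact (Groth.Agent.Helper6.AlgStInv.isDM_iff_of_isEquivOver _ e he).1 (isDM_ofSp F)

end Groth.Agent.S12772
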