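import Groth.Statements.S12856
import Groth.Agent.Helper6.QcChart

set_option autoImplicit false
open CategoryTheory AlgebraicGeometry
universe u
open AlgSt

namespace Groth.Agent.S12856

set_option backward.isDefEq.respectTransparency.types false in
theorem qcsp_yon {S : Scheme.{u}} (U₀ : Over S) (h : CompactSpace ↥U₀.left) :
    AlgSp.IsQuasiCompactSp ((AlgSp.yon S).obj U₀) :=
  ⟨U₀, 𝟙 _, AlgSp.repWith_id _ U₀, AlgSp.repWith_id _ U₀, h⟩

/-- (2) ⇔ (4): an algebraic stack `𝒳` over `S` admits a surjective smooth morphism from an affine scheme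
if and only if it admits a surjective smooth morphism from a quasi-compact algebraic space. -/
theorem result {S : Scheme.{u}} {𝒳 : AlgSt.Cat S}
    (h𝒳 : AlgSt.IsAlgStack Scheme.fppfPrecoverage 𝒳) :
    AlgSt.IsQuasiCompact 𝒳 ↔
      ∃ (U : AlgSp.Space S) (x : AlgSt.ofSp U.obj ⥤ᵇ 𝒳), AlgSp.IsQuasiCompactSp U.obj ∧
        AlgSt.RepByAlgSpWith (AlgSp.LocP @Smooth) x ∧ AlgSt.RepByAlgSpWith AlgSp.IsSurjectiveMor x := by
  constructor
  · rintro ⟨U₀, x, hU, h1, h2⟩
    haveI := hU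
    refine ⟨⟨(AlgSp.yon S).obj U₀, AlgSp.IsAlgSpace.yon_obj U₀⟩,
      BasedFunctor.comp (AlgSt.toOverCat U₀) x, qcsp_yon U₀ inferInstance, ?_, ?_⟩
    · exact Groth.Agent.Helper6.ChartOver.rep_equiv_comp _ _
        (Groth.Agent.Helper6.AlgStEquiv.isEquivOver_toOverCat U₀) x h1
    · exact Groth.Agent.Helper6.ChartOver.rep_equiv_comp _ _
        (Groth.Agent.Helper6.AlgStEquiv.isEquivOver_toOverCat U₀) x h2
  · rintro ⟨U, x, ⟨V, p, hpe, hps, hVc⟩, h1, h2⟩
    exact Groth.Agent.Helper6.QcChart.isQuasiCompact_of_compact_chart h𝒳.isStack.1 _ hVc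
      (Groth.Agent.Helper6.SmLoc.comp_atlasChart_smooth h𝒳.isStack.1 U p hpe x h1)
      (Groth.Agent.Helper6.SmLoc.comp_atlasChart_surj h𝒳.isStack.1 U p hpe hps x h2)

end Groth.Agent.S12856
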