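import Groth.Statements.S12959
import Groth.Agent.Helper6.OfComp

set_option autoImplicit false
universe u
open CategoryTheory AlgebraicGeometry
open AlgSt

namespace Groth.Agent.S12959

open AlgSp in
theorem isQuasiSeparatedMor_comp' {S : Scheme.{u}} {X Y Z : Sp S} (f : X ⟶ Y) (g : Y ⟶ Z)
    (hf : IsQuasiSeparatedMor f) (hg : IsQuasiSeparatedMor g) : IsQuasiSeparatedMor (f ≫ g) := by
  have i1 := repWith_isStableUnderBaseChange (S := S) @QuasiCompact
  have i2 := (repWith_isMultiplicative (S := S) @QuasiCompact).toIsStableUnderComposition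
  have i3 : (RepWith (S := S) @QuasiCompact).RespectsIso :=
    MorphismProperty.IsStableUnderBaseChange.respectsIso
  have h1 : (RepWith (S := S) @QuasiCompact).diagonal f := hf
  have h2 : (RepWith (S := S) @QuasiCompact).diagonal g := hg
  exact MorphismProperty.comp_mem (RepWith (S := S) @QuasiCompact).diagonal f g h1 h2


/-- If the composite of f : 𝒳 → 𝒴 and g : 𝒴 → 𝒵 (morphisms of algebraic stacks) is quasi-separated and
the diagonal of g is quasi-separated (as a morphism representable by algebraic spaces), then f is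
quasi-separated. -/
theorem result
    (S : Scheme.{u}) (𝒳 : AlgSt.Cat S) (𝒴 : AlgSt.Cat S) (𝒵 : AlgSt.Cat S)
    (h𝒳 : AlgSt.IsAlgStack Scheme.fppfPrecoverage 𝒳)
    (h𝒴 : AlgSt.IsAlgStack Scheme.fppfPrecoverage 𝒴)
    (h𝒵 : AlgSt.IsAlgStack Scheme.fppfPrecoverage 𝒵)
    (f : 𝒳 ⥤ᵇ 𝒴) (g : 𝒴 ⥤ᵇ 𝒵) :
    AlgSt.IsQuasiSeparatedMor (BasedFunctor.comp f g) →
      AlgSt.RepByAlgSpWith AlgSp.IsQuasiSeparatedMor (FibCat.diag g) → AlgSt.IsQuasiSeparatedMor f := by
  intro h hs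
  have hdg := Groth.Agent.Helper6.OfComp.repByAlgSp1_diag h𝒴 h𝒵 g
  have h3 : AlgSt.IsQuasiSeparatedMor (FibCat.diag g) :=
    (Groth.Agent.Helper6.DiagRep.qs_iff (FibCat.diag g) hdg).2 hs
  exact Groth.Agent.Helper6.OfComp.diag_of_comp h𝒳.isStack.1 h𝒴.isStack.1 h𝒵.isStack.1 _
    (fun X Y Z hX hY hZ a b ha hb =>
      ⟨Groth.Agent.Helper4.AlgSpQC.isQuasiCompactMor_comp hY hZ.diag a b ha.1 hb.1,
        isQuasiSeparatedMor_comp' a b ha.2 hb.2⟩)
    (Groth.Agent.Helper6.LocalFppf.inf Groth.Agent.Helper6.LocalFppf.quasiCompact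
      Groth.Agent.Helper6.LocalFppf.quasiSeparated) f g h h3

end Groth.Agent.S12959
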