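import Groth.Statements.S12982
import Mathlib
import Groth.Agent.Helper6.AlgStInv

set_option autoImplicit false
universe u
open CategoryTheory AlgebraicGeometry
open AlgSt

namespace Groth.Agent.S12982

open Groth.Agent.Helper6.FpTools Groth.Agent.Helper6.AlgStInv in
theorem isQuasiCompact_of_isEquivOver {S : Scheme.{u}} {𝒳 𝒳' : AlgSt.Cat S} (E : 𝒳 ⥤ᵇ 𝒳')
    (hE : FibCat.IsEquivOver E) (h : AlgSt.IsQuasiCompact 𝒳) : AlgSt.IsQuasiCompact 𝒳' := by
  obtain ⟨U, x, hU, h1, h2⟩ := h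
  exact ⟨U, BasedFunctor.comp x E, hU, (repByAlgSpWith_comp_equiv _ x E hE).1 h1,
    (repByAlgSpWith_comp_equiv _ x E hE).1 h2⟩

/-- The base change of a quasi-compact morphism of algebraic stacks along any morphism of algebraic
stacks is quasi-compact (quasi-compact: base change to any quasi-compact algebraic stack is
quasi-compact). -/
theorem result
    (S : Scheme.{u}) (𝒳 : AlgSt.Cat S) (𝒴 : AlgSt.Cat S) (𝒴' : AlgSt.Cat S)
    (h𝒳 : AlgSt.IsAlgStack Scheme.fppfPrecoverage 𝒳)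
    (h𝒴 : AlgSt.IsAlgStack Scheme.fppfPrecoverage 𝒴)
    (h𝒴' : AlgSt.IsAlgStack Scheme.fppfPrecoverage 𝒴')
    (f : 𝒳 ⥤ᵇ 𝒴) (g : 𝒴' ⥤ᵇ 𝒴) :
    AlgSt.IsQuasiCompactMor Scheme.fppfPrecoverage f → AlgSt.IsQuasiCompactMor Scheme.fppfPrecoverage (FibCat.fpFst g f) := by
  intro hf 𝒵 h𝒵 hqc z
  exact isQuasiCompact_of_isEquivOver (Groth.Agent.Helper6.FpTools.pasteLeft z g f)
    (Groth.Agent.Helper6.FpTools.isEquivOver_pasteLeft z g f) (hf 𝒵 h𝒵 hqc (BasedFunctor.comp z g))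

end Groth.Agent.S12982
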