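import Groth.Statements.S12795
import Mathlib
import Groth.Agent.Helper6.StkPost
import Groth.Agent.Helper3.FibGrpd

set_option autoImplicit false
open CategoryTheory
universe w v u
open Stk

namespace Groth.Agent.S12795

/-- Let `𝒳` be a stack in groupoids over `C` for the topology `J` and `Q` a property of objects of `𝒳`
such that (1) for every morphism `y ⟶ x` of `𝒳` whose target satisfies `Q`, `y` is isomorphic, by an
isomorphism lying over an identity, to an object satisfying `Q`, and (3) for every covering sieve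
`R` on `U` and every object `x` over `U`: if every source of a morphism to `x` lying over an arrow
of `R` is isomorphic over an identity to an object satisfying `Q`, then so is `x`. Then the full
subcategory of `𝒳` on `Q`, with the restricted structure functor, is a stack in groupoids for `J`.
(The published statement has a further condition (2), fullness of the subcategory, which is built
into the full subcategory here; and its word isomorphic is read as isomorphic by an isomorphism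
lying over an identity; the published statement is for stacks that are not necessarily in groupoids,
this row treats stacks in groupoids.) -/
theorem result {C : Type u} [Category.{v} C] (J : GrothendieckTopology C) {𝒳 : BasedCategory.{v, max u v} C}
    (h𝒳 : Stk.IsStack J 𝒳) (Q : ObjectProperty 𝒳.obj)
    (h1 : ∀ ⦃y x : 𝒳.obj⦄ (φ : y ⟶ x), Q x → ∃ (y' : 𝒳.obj) (e : y ≅ y'), Q y' ∧ 𝒳.p.IsHomLift (𝟙 (𝒳.p.obj y)) e.hom)
    (h3 : ∀ ⦃U : C⦄ (R : Sieve U), R ∈ J U → ∀ (x : 𝒳.obj), 𝒳.p.obj x = U →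
      (∀ ⦃V : C⦄ (f : V ⟶ U), R f → ∀ (y : 𝒳.obj) (φ : y ⟶ x), 𝒳.p.IsHomLift f φ →
        ∃ (y' : 𝒳.obj) (e : y ≅ y'), Q y' ∧ 𝒳.p.IsHomLift (𝟙 V) e.hom) →
      ∃ (x' : 𝒳.obj) (e : x ≅ x'), Q x' ∧ 𝒳.p.IsHomLift (𝟙 U) e.hom) :
    Stk.IsStack J (BasedCategory.ofFunctor (Q.ι ⋙ 𝒳.p)) := by
  obtain ⟨hfg, hst⟩ := h𝒳
  let I : BasedCategory.ofFunctor (Q.ι ⋙ 𝒳.p) ⥤ᵇ 𝒳 := { toFunctor := Q.ι, w := rfl }
  haveI : I.toFunctor.Full := inferInstanceAs Q.ι.Full
  haveI : I.toFunctor.Faithful := inferInstanceAs Q.ι.Faithful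
  -- fibred in groupoids
  have hfgQ : FibCat.IsFibGrpd (BasedCategory.ofFunctor (Q.ι ⋙ 𝒳.p)).p := by
    refine ⟨?_, ?_⟩
    · intro x V f
      change V ⟶ 𝒳.p.obj x.obj at f
      obtain ⟨y, φ, hφ⟩ := hfg.exists_lift (x := x.obj) f
      haveI := hφ
      obtain ⟨y', e, hy', he⟩ := h1 φ x.property
      have hyV : 𝒳.p.obj y = V := IsHomLift.domain_eq 𝒳.p f φ
      haveI he' : 𝒳.p.IsHomLift (𝟙 V) e.hom := by rw [← hyV]; exact he
      haveI : 𝒳.p.IsHomLift (𝟙 V) e.inv := IsHomLift.lift_id_inv 𝒳.p V e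
      let m : (⟨y', hy'⟩ : Q.FullSubcategory) ⟶ x := ObjectProperty.homMk (e.inv ≫ φ)
      refine ⟨⟨y', hy'⟩, m, ?_⟩
      have hm : 𝒳.p.IsHomLift f (I.map m) := by
        change 𝒳.p.IsHomLift f (e.inv ≫ φ)
        infer_instance
      exact @BasedFunctor.isHomLift_map _ _ _ _ I _ _ _ _ f m hm
    · intro y x φ
      haveI : 𝒳.p.IsStronglyCartesian ((BasedCategory.ofFunctor (Q.ι ⋙ 𝒳.p)).p.map φ) (I.map φ) :=
        hfg.isStronglyCartesian φ.hom
      exact Groth.Agent.Helper6.StkPost.isStronglyCartesian_of_map I _ φ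
  refine ⟨hfgQ, fun U R hR => ?_⟩
  haveI : (Stk.resSieve R 𝒳).IsEquivalence := hst R hR
  obtain ⟨hfull, hfaith⟩ := Groth.Agent.Helper6.StkPost.resSieve_full_faithful I R
  refine { faithful := hfaith, full := hfull, essSurj := ⟨fun D => ?_⟩ }
  obtain ⟨X, ⟨iso⟩⟩ := Functor.EssSurj.mem_essImage (F := Stk.resSieve R 𝒳) (BasedFunctor.comp D I)
  -- the object over the identity is isomorphic to an object satisfying `Q`
  have hX0 : 𝒳.p.obj (X.obj (Over.mk (𝟙 U))) = U := X.w_obj _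
  obtain ⟨x₀, e₀, hx₀, he₀⟩ := h3 R hR (X.obj (Over.mk (𝟙 U))) hX0 (by
    intro V f hf y φ hφ
    haveI := hφ
    let af : (Stk.sieveCat R).obj := ⟨Over.mk f, hf⟩
    let t : Over.mk f ⟶ Over.mk (𝟙 U) := Over.homMk f (by simp)
    haveI hl0 : (FibCat.overCat U).p.IsHomLift f t :=
      Functor.IsHomLift.map (p := (FibCat.overCat U).p) t
    haveI hl1 : 𝒳.p.IsHomLift f (X.map t) :=
      @BasedFunctor.preserves_isHomLift _ _ _ _ X _ _ _ _ f t hl0
    haveI := Groth.Agent.Helper3.FibGrpd.isStronglyCartesian hfg f (X.map t)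
    have e1 : f = 𝟙 _ ≫ f := (Category.id_comp _).symm
    let c : y ⟶ X.obj (Over.mk f) := Functor.IsStronglyCartesian.map 𝒳.p f (X.map t) e1 φ
    haveI lc : 𝒳.p.IsHomLift (𝟙 V) c :=
      Functor.IsStronglyCartesian.map_isHomLift 𝒳.p f (X.map t) e1 φ
    haveI : IsIso c := @Groth.Agent.Helper3.FibGrpd.isIso_of_lift_id _ _ _ _ _ hfg V _ _ c lc
    let d : X.obj (Over.mk f) ⟶ (D.obj af).obj := iso.hom.toNatTrans.app af
    haveI ld : 𝒳.p.IsHomLift (𝟙 V) d := iso.hom.isHomLift' af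
    haveI : IsIso d := @Groth.Agent.Helper3.FibGrpd.isIso_of_lift_id _ _ _ _ _ hfg V _ _ d ld
    refine ⟨(D.obj af).obj, asIso c ≪≫ asIso d, (D.obj af).property, ?_⟩
    change 𝒳.p.IsHomLift (𝟙 V) (c ≫ d)
    infer_instance)
  haveI := he₀
  have H : ∀ a : (FibCat.overCat U).obj, ∃ (x' : (BasedCategory.ofFunctor (Q.ι ⋙ 𝒳.p)).obj)
      (e : I.obj x' ≅ X.obj a), 𝒳.p.IsHomLift (𝟙 ((FibCat.overCat U).p.obj a)) e.hom := by
    intro a
    let t : a ⟶ Over.mk (𝟙 U) := Over.homMk (U := (a : Over U)) (a : Over U).hom (by simp)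
    obtain ⟨y', e', hy', he'⟩ := h1 (X.map t ≫ e₀.hom) hx₀
    have ha : 𝒳.p.obj (X.obj a) = (FibCat.overCat U).p.obj a := X.w_obj a
    haveI he'' : 𝒳.p.IsHomLift (𝟙 ((FibCat.overCat U).p.obj a)) e'.hom := by rw [← ha]; exact he'
    refine ⟨⟨y', hy'⟩, e'.symm, ?_⟩
    exact IsHomLift.lift_id_inv 𝒳.p _ e'
  let X' : FibCat.overCat U ⥤ᵇ BasedCategory.ofFunctor (Q.ι ⋙ 𝒳.p) :=
    Groth.Agent.Helper6.StkLift.liftBased I X H
  let isoX : BasedFunctor.comp X' I ≅ X := Groth.Agent.Helper6.StkLift.liftBasedIso I X H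
  let iso' : (Bicategory.postcomp (Stk.sieveCat R)
        (show BasedCategory.ofFunctor (Q.ι ⋙ 𝒳.p) ⟶ 𝒳 from I)).obj
          ((Stk.resSieve R (BasedCategory.ofFunctor (Q.ι ⋙ 𝒳.p))).obj X') ≅
      (Bicategory.postcomp (Stk.sieveCat R)
        (show BasedCategory.ofFunctor (Q.ι ⋙ 𝒳.p) ⟶ 𝒳 from I)).obj D :=
    (Stk.resSieve R 𝒳).mapIso isoX ≪≫ iso
  exact ⟨X', ⟨(Bicategory.postcomp (Stk.sieveCat R)
    (show BasedCategory.ofFunctor (Q.ι ⋙ 𝒳.p) ⟶ 𝒳 from I)).preimageIso iso'⟩⟩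

end Groth.Agent.S12795
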