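import Groth.Statements.S9400
import Groth.Agent.Helper4.Japanese
import Mathlib

set_option autoImplicit false
universe u
open CAlg

namespace Groth.Agent.S9400


/-- Being a Nagata ring can be checked on a finite cover of Spec R by principal opens. -/
theorem result (R : Type u) [CommRing R]
    {ι : Type u} [Finite ι] (f : ι → R) (hf : Ideal.span (Set.range f) = ⊤)
    (h : ∀ i, CAlg.IsNagata (Localization.Away (f i))) : CAlg.IsNagata R := by

  classical
  cases nonempty_fintype ι
  refine ⟨?_, ?_⟩
  · refine AlgebraicGeometry.isNoetherianRing_of_away (Finset.univ.image f) ?_ ?_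
    · rw [Finset.coe_image, Finset.coe_univ, Set.image_univ]; exact hf
    · rintro ⟨s, hs⟩
      obtain ⟨i, -, rfl⟩ := Finset.mem_image.mp hs
      exact (h i).1
  · intro p hp
    let ι' := {i : ι // f i ∉ p}
    let g : ι' → R ⧸ p := fun i => Ideal.Quotient.mk p (f i.1)
    have hspan : Ideal.span (Set.range g) = ⊤ := by
      have h1 : Ideal.span (Set.range (fun i => Ideal.Quotient.mk p (f i))) = ⊤ := by
        have := congrArg (Ideal.map (Ideal.Quotient.mk p)) hf
        rw [Ideal.map_span, Ideal.map_top, ← Set.range_comp] at this
        exact this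
      rw [eq_top_iff, ← h1, Ideal.span_le]
      rintro _ ⟨i, rfl⟩
      by_cases hi : f i ∈ p
      · have : Ideal.Quotient.mk p (f i) = 0 := Ideal.Quotient.eq_zero_iff_mem.mpr hi
        simp only [this]; exact zero_mem _
      · exact Ideal.subset_span ⟨⟨i, hi⟩, rfl⟩
    have hq : ∀ i : ι', (p.map (algebraMap R (Localization.Away (f i.1)))).IsPrime := fun i =>
      IsLocalization.isPrime_of_isPrime_disjoint (Submonoid.powers (f i.1)) _ p hp (by
        rw [Set.disjoint_left]
        rintro _ ⟨n, rfl⟩ hn
        exact i.2 (hp.mem_of_pow_mem n hn))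
    haveI : ∀ i : ι', IsLocalization.Away (g i)
        (Localization.Away (f i.1) ⧸ p.map (algebraMap R (Localization.Away (f i.1)))) := fun i => by
      have : IsLocalization (Algebra.algebraMapSubmonoid (R ⧸ p) (Submonoid.powers (f i.1)))
        (Localization.Away (f i.1) ⧸ p.map (algebraMap R (Localization.Away (f i.1)))) :=
        inferInstance
      have e : Algebra.algebraMapSubmonoid (R ⧸ p) (Submonoid.powers (f i.1)) =
          Submonoid.powers (g i) := by
        change Submonoid.map _ _ = _
        rw [Submonoid.map_powers]; rfl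
      rw [e] at this
      exact this
    refine Groth.Agent.Helper4.Japanese.isN2_of_span_eq_top (R ⧸ p) g hspan
      (fun i => Localization.Away (f i.1) ⧸ p.map (algebraMap R (Localization.Away (f i.1)))) ?_
    intro i
    exact (h i.1).2 _

end Groth.Agent.S9400
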