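import Groth.Statements.S10278
import Groth.Agent.Helper5.AlgSpProper

set_option autoImplicit false
universe u
open CategoryTheory CategoryTheory.Limits AlgebraicGeometry
open AlgSp

namespace Groth.Agent.S10278

/-- Over a separated Y -> B, a morphism X -> Y from a space universally closed (resp. proper) over B is
universally closed with closed image (resp. proper). -/
theorem result {S : Scheme.{u}} {X Y B : AlgSp.Space S} (f : X ⟶ Y) (p : X ⟶ B)
    (q : Y ⟶ B) (comm : f ≫ q = p) (hq : AlgSp.IsSeparatedMor q.hom) :
    (AlgSp.IsUnivClosedMor p.hom →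
      AlgSp.IsUnivClosedMor f.hom ∧ IsClosed (Set.range (AlgSp.Points.map f.hom))) ∧
    (AlgSp.IsProperMor p.hom → AlgSp.IsProperMor f.hom) := by
  subst comm
  constructor
  · intro hp
    have h1 := Groth.Agent.Helper5.AlgSpProper.isUnivClosedMor_of_comp_separated X.property
      Y.property B.property.diag f.hom q.hom hq hp
    refine ⟨h1, ?_⟩
    have hc : IsClosedMap (AlgSp.Points.map f.hom) :=
      h1 Y.property (𝟙 _) (𝟙 _) f.hom IsPullback.of_id_fst
    exact hc.isClosed_range
  · intro hp
    exact Groth.Agent.Helper5.AlgSpProper.isProperMor_of_comp_separated X.property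
      Y.property B.property f.hom q.hom hq hp

end Groth.Agent.S10278
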