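import Groth.Statements.S9926
import Groth.Agent.Helper4.AlgSpSep
import Groth.Agent.Helper4.AlgSpDesc2
import Mathlib

set_option autoImplicit false
universe u
open CategoryTheory CategoryTheory.Limits AlgebraicGeometry
open AlgSp

namespace Groth.Agent.S9926


/-- Let B be an algebraic space and f : X -> Y a morphism over B that is surjective and universally
closed. Quasi-separatedness of X over B forces quasi-separatedness of Y over B, and likewise for
separatedness. (The published lemma also has absolute versions; this row states the versions over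
B.) -/
theorem result {S : Scheme.{u}} {X Y B : AlgSp.Space S} (f : X ⟶ Y) (p : X ⟶ B)
    (q : Y ⟶ B) (comm : f ≫ q = p) (hs : AlgSp.IsSurjectiveMor f.hom) (hc : AlgSp.IsUnivClosedMor f.hom) :
    (AlgSp.IsQuasiSeparatedMor p.hom → AlgSp.IsQuasiSeparatedMor q.hom) ∧
    (AlgSp.IsSeparatedMor p.hom → AlgSp.IsSeparatedMor q.hom) := by

  subst comm
  have hXX : IsAlgSpace (pullback (f.hom ≫ q.hom) (f.hom ≫ q.hom)) :=
    Groth.Agent.Helper4.AlgSpPB.isAlgSpace_of_isPullback B.property.diag X.property X.property
      _ _ _ _ (IsPullback.of_hasPullback _ _)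
  have hYY : IsAlgSpace (pullback q.hom q.hom) :=
    Groth.Agent.Helper4.AlgSpPB.isAlgSpace_of_isPullback B.property.diag Y.property Y.property
      _ _ _ _ (IsPullback.of_hasPullback _ _)
  have hF := Groth.Agent.Helper4.AlgSpSep.isUnivClosedMor_pullback_map X.property Y.property
    f.hom q.hom hc
  have hcd := pullback.comp_diagonal f.hom q.hom
  have hrepΔ : Representable (pullback.diagonal q.hom) :=
    Groth.Agent.Helper4.AlgSpDesc2.representable_diagonal Y.property.diag q.hom
  constructor
  · intro hp
    have hp' : RepWith @QuasiCompact (pullback.diagonal (f.hom ≫ q.hom)) := hp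
    have h1 : IsQuasiCompactMor (pullback.diagonal (f.hom ≫ q.hom)) :=
      Groth.Agent.Helper4.AlgSpQC.isQuasiCompactMor_of_repWith _ hp'
    have h2 := Groth.Agent.Helper4.AlgSpUC.isQuasiCompactMor_of_isUnivClosedMor hXX hYY _ hF
    have h3 := Groth.Agent.Helper4.AlgSpQC.isQuasiCompactMor_comp hXX hYY.diag _ _ h1 h2
    rw [← hcd] at h3
    have h4 : IsQuasiCompactMor (pullback.diagonal q.hom) :=
      Groth.Agent.Helper4.AlgSpSep.isQuasiCompactMor_of_surjective_triangle Y.property hYY.diag
        f.hom _ hs h3
    exact Groth.Agent.Helper4.AlgSpQC.repWith_of_isQuasiCompactMor _ hrepΔ h4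
  · intro hp
    have hp' : RepWith @IsClosedImmersion (pullback.diagonal (f.hom ≫ q.hom)) := hp
    have h1 : IsUnivClosedMor (pullback.diagonal (f.hom ≫ q.hom)) :=
      Groth.Agent.Helper4.AlgSpPtsDesc.isUnivClosedMor_of_repWith _
        (Groth.Agent.Helper4.AlgSpSrc.repWith_mono (fun g hg => by
          have : IsClosedImmersion g := hg
          infer_instance) hp')
    have h3 := Groth.Agent.Helper4.AlgSpSrc.isUnivClosedMor_comp hXX hYY.diag _ _ h1 hF
    rw [← hcd] at h3
    have h4 : IsUnivClosedMor (pullback.diagonal q.hom) :=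
      Groth.Agent.Helper4.AlgSpSep.univClosed_of_precomp_isSurjectiveMor f.hom _ hs h3
    have h5 : RepWith @UniversallyClosed (pullback.diagonal q.hom) :=
      Groth.Agent.Helper4.AlgSpPtsDesc.repWith_univClosed_of_isUnivClosedMor _ hrepΔ h4
    obtain ⟨hlft, hmono, -, -⟩ := Groth.Agent.Helper4.AlgSpDiag.diagonal_properties Y.property q.hom
    refine ⟨hrepΔ, ?_⟩
    intro T E ξ c e sq
    have a1 : LocallyOfFiniteType e.left := hlft.property _ _ _ sq
    have a2 : Mono e.left := hmono.property _ _ _ sq
    have a3 : UniversallyClosed e.left := h5.property _ _ _ sq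
    show IsClosedImmersion e.left
    rw [IsClosedImmersion.iff_isProper_and_mono]
    exact ⟨{ }, a2⟩

end Groth.Agent.S9926
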