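import Groth.Statements.S10760
import Groth.Agent.S10278
import Groth.Agent.S10279
import Groth.Agent.S10276
import Groth.Agent.S9926
import Groth.Agent.S9925
import Groth.Agent.S10192
import Groth.Agent.S10193
import Groth.Agent.Helper5.ProperImg1

set_option autoImplicit false
universe u
open CategoryTheory CategoryTheory.Limits AlgebraicGeometry
open AlgSp

namespace Groth.Agent.S10760

/-- Let f : X ⟶ Y be a morphism of algebraic spaces over S that is locally of finite type, and let i : Z
⟶ X, i' : Z' ⟶ X be closed subspaces (representable closed immersions) with the same image in |X|.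
If the composite Z ⟶ Y is proper, then so is Z' ⟶ Y. (That properness of every closed subspace with
support T implies properness of the reduced one, and that this implies properness of some closed
subspace with support T, is immediate.) -/
theorem result {S : Scheme.{u}} {X Y Z Z' : AlgSp.Space S}
    (f : X ⟶ Y) (hf : AlgSp.LocP @LocallyOfFiniteType f.hom)
    (i : Z ⟶ X) (i' : Z' ⟶ X)
    (hi : AlgSp.RepWith @IsClosedImmersion i.hom) (hi' : AlgSp.RepWith @IsClosedImmersion i'.hom)
    (heq : Set.range (AlgSp.Points.map i.hom) = Set.range (AlgSp.Points.map i'.hom))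
    (hZ : AlgSp.IsProperMor (i ≫ f).hom) :
    AlgSp.IsProperMor (i' ≫ f).hom := by
  have hTc := Groth.Agent.Helper5.ProperImg.isClosed_range_of_closedImmersion X.property i.hom hi
  obtain ⟨W, w, hw1, hw2, hw3⟩ := Groth.Agent.S10192.result X _ hTc
  obtain ⟨k, hk⟩ := (Groth.Agent.S10193.result i hi hw3 w).2 (by rw [hw2])
  obtain ⟨k', hk'⟩ := (Groth.Agent.S10193.result i' hi' hw3 w).2 (by rw [hw2, heq])
  have hwp : AlgSp.IsProperMor w.hom :=
    Groth.Agent.Helper5.AlgSpProper.isProperMor_of_closedImmersion _ hw1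
  have hkp : AlgSp.IsProperMor k.hom :=
    (Groth.Agent.S10278.result k w i hk
      (Groth.Agent.Helper5.AlgSpProper.isSeparatedMor_of_closedImmersion _ hi)).2 hwp
  have hWY : AlgSp.IsProperMor (w ≫ f).hom := by
    rw [← hk, Category.assoc]
    exact Groth.Agent.S10276.result k (i ≫ f) hkp hZ
  have hinj := Groth.Agent.Helper5.ProperImg.points_injective_of_closedImmersion Z'.property
    X.property i'.hom hi'
  have hk's : AlgSp.IsSurjectiveMor k'.hom :=
    Groth.Agent.Helper5.ProperImg.isSurjectiveMor_of_range_eq k'.hom i'.hom w.hom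
      (by rw [← hk']; rfl) hinj (by rw [hw2, heq])
  have hk'c : AlgSp.IsUnivClosedMor k'.hom :=
    ((Groth.Agent.S10278.result k' w i' hk'
      (Groth.Agent.Helper5.AlgSpProper.isSeparatedMor_of_closedImmersion _ hi')).1 hwp.2.2).1
  have hcomm : k' ≫ (i' ≫ f) = w ≫ f := by rw [← Category.assoc, hk']
  have huc : AlgSp.IsUnivClosedMor (i' ≫ f).hom :=
    Groth.Agent.S10279.result k' (w ≫ f) (i' ≫ f) hcomm hWY.2.2 hk's
  have hsep := (Groth.Agent.S9926.result k' (w ≫ f) (i' ≫ f) hcomm hk's hk'c).2 hWY.1
  have hip := Groth.Agent.Helper5.AlgSpProper.isProperMor_of_closedImmersion i'.hom hi'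
  exact ⟨hsep, ⟨Groth.Agent.Helper4.AlgSpLocPComp.locP_comp _ Groth.Agent.Helper4.SDClasses.good_lft
    X.property i'.hom f.hom hip.2.1.1 hf, Groth.Agent.S9925.result _ huc⟩, huc⟩

end Groth.Agent.S10760
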