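import Groth.Statements.S9335
import Mathlib.AlgebraicGeometry.Noetherian

set_option autoImplicit false
universe u
open QFin

namespace Groth.Agent.S9335

open AlgebraicGeometry CategoryTheory in
theorem isLocallyNoetherian_of_lft {X Y : Scheme.{u}} (g : X ⟶ Y) [LocallyOfFiniteType g]
    [IsAffine Y] [IsNoetherianRing Γ(Y, ⊤)] : IsLocallyNoetherian X := by
  rw [isLocallyNoetherian_iff_of_affine_openCover X.affineCover]
  intro i
  have h1 : LocallyOfFiniteType (X.affineCover.f i ≫ g) := inferInstance
  rw [HasRingHomProperty.iff_of_isAffine (P := @LocallyOfFiniteType)] at h1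
  algebraize [(X.affineCover.f i ≫ g).appTop.hom]
  exact Algebra.FiniteType.isNoetherianRing Γ(Y, ⊤) _

open AlgebraicGeometry CategoryTheory in
theorem noetherianSpace_fiber {X S : Scheme.{u}} (f : X ⟶ S) [LocallyOfFiniteType f] [QuasiCompact f]
    (s : S) : TopologicalSpace.NoetherianSpace (f.fiber s) := by
  haveI : LocallyOfFiniteType (f.fiberToSpecResidueField s) :=
    MorphismProperty.pullback_snd _ _ inferInstance
  haveI : IsNoetherianRing Γ(Spec (S.residueField s), ⊤) :=
    isNoetherianRing_of_ringEquiv _ (Scheme.ΓSpecIso (S.residueField s)).symm.commRingCatIsoToRingEquiv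
  haveI : IsLocallyNoetherian (f.fiber s) := isLocallyNoetherian_of_lft (f.fiberToSpecResidueField s)
  haveI : IsNoetherian (f.fiber s) := ⟨⟩
  infer_instance

open AlgebraicGeometry CategoryTheory in
theorem aux {X S : Scheme.{u}} (f : X ⟶ S) [LocallyOfFiniteType f] [QuasiCompact f] (s : S) :
    {x : ↑X | f.base x = s ∧ f.QuasiFiniteAt x}.Finite := by
  haveI := noetherianSpace_fiber f s
  let D : Set (f.fiber s) := {y | IsOpen ({y} : Set (f.fiber s))}
  have hD : D.Finite := by
    haveI : TopologicalSpace.NoetherianSpace D := inferInstance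
    haveI : CompactSpace D := TopologicalSpace.NoetherianSpace.compactSpace D
    haveI : DiscreteTopology D := by
      rw [discreteTopology_iff_isOpen_singleton]
      intro ⟨y, hy⟩
      have : ({⟨y, hy⟩} : Set D) = Subtype.val ⁻¹' ({y} : Set (f.fiber s)) := by
        ext ⟨z, hz⟩; simp
      rw [this]
      exact hy.preimage continuous_subtype_val
    exact Set.finite_coe_iff.mp (finite_of_compact_of_discrete)
  refine (hD.image (f.fiberι s)).subset ?_
  rintro x ⟨hx, hq⟩
  subst hx
  refine ⟨f.asFiber x, ?_, f.fiberι_asFiber x⟩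
  exact Scheme.Hom.quasiFiniteAt_iff_isOpen_singleton_asFiber.mp hq

open AlgebraicGeometry CategoryTheory in
/-- If f : X → S is of finite type and s ∈ S, then f is quasi-finite at only finitely many points of the
fibre over s. -/
theorem result {X S : Scheme.{u}} (f : X ⟶ S) [LocallyOfFiniteType f] [QuasiCompact f] (s : S) :
    {x : ↑X | f.base x = s ∧ f.QuasiFiniteAt x}.Finite := by
  exact aux f s

end Groth.Agent.S9335
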