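import Groth.Statements.S10564
import Groth.Agent.Helper5.RedDesc

set_option autoImplicit false
universe u
open CategoryTheory CategoryTheory.Limits AlgebraicGeometry
open AlgSp

namespace Groth.Agent.S10564

/-- For a smooth morphism f : X ⟶ Y of algebraic spaces over S, reducedness of Y implies reducedness of
X, and when f is moreover surjective, reducedness of X implies reducedness of Y. -/
theorem result {S : Scheme.{u}} {X Y : AlgSp.Space S} (f : X ⟶ Y) (hf : AlgSp.LocP @Smooth f.hom) :
    (AlgSp.IsReducedSp Y.obj → AlgSp.IsReducedSp X.obj) ∧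
    (AlgSp.IsSurjectiveMor f.hom → AlgSp.IsReducedSp X.obj → AlgSp.IsReducedSp Y.obj) := by
  refine ⟨fun hY => Groth.Agent.Helper5.RedDesc.isReducedSp_of_smooth X.property f.hom hf hY,
    fun hs hX => ?_⟩
  refine Groth.Agent.Helper5.RedDesc.isReducedSp_of_flat_surjective Y.property f.hom ?_ hs hX
  intro U V a b h ha hb hcomm
  have : Smooth h.left := hf a b h ha hb hcomm
  show Flat h.left
  infer_instance

end Groth.Agent.S10564
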