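import Groth.Statements.S6880
import Mathlib
import Groth.Agent.Helper6.HomKer
import Groth.Agent.Helper9.ReflKer
import Groth.Agent.Helper9.DepthKer
import Groth.Agent.Helper1.SerreFlatU

set_option autoImplicit false
universe u
open CAlg

namespace Groth.Agent.S6880

/-- Let `R` be a Noetherian domain and `M` a finite reflexive `R`-module. For a prime `𝔭` with
`depth(R_𝔭) ≥ 2` one has `depth(M_𝔭) ≥ 2`; and if `R` has `(S_2)` then `M` has `(S_2)`. -/
theorem result (R : Type u) [CommRing R] [IsDomain R] [IsNoetherianRing R] (M : Type u)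
    [AddCommGroup M] [Module R M] [Module.Finite R M] [Module.IsReflexive R M] :
    (∀ (p : Ideal R) [p.IsPrime], 2 ≤ LocCoh.depth (Localization.AtPrime p) (Localization.AtPrime p) →
      2 ≤ LocCoh.depth (Localization.AtPrime p) (LocalizedModule p.primeCompl M)) ∧
    (LocCoh.HasSk 2 R R → LocCoh.HasSk 2 R M) := by
  open Groth.Agent.Helper9.DepthKer Groth.Agent.Helper9.ReflKer LocCoh Module in
  classical
  obtain ⟨n, m, ι, u, hι, hex⟩ :=
    Groth.Agent.Helper9.ReflKer.exists_ker_presentation (A := R) M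
  -- numerics
  have hnum : ∀ (k : ℕ), (k = 1 ∨ k = 2) → ∀ (d D : WithBot ℕ∞), d ≤ D → ∀ (δ γ : ℕ∞),
      (1 ≤ δ → 1 ≤ γ) → (2 ≤ δ → 2 ≤ γ) → min (k : WithBot ℕ∞) D ≤ (δ : WithBot ℕ∞) →
      min (k : WithBot ℕ∞) d ≤ (γ : WithBot ℕ∞) := by
    intro k hk d D hdD δ γ h1 h2 h
    have h3 : min (k : WithBot ℕ∞) d ≤ (δ : WithBot ℕ∞) := le_trans (min_le_min le_rfl hdD) h
    induction d using WithBot.recBotCoe with
    | bot => simp
    | coe e' =>
      have h4 : min (k : WithBot ℕ∞) (e' : WithBot ℕ∞) = ((min (k : ℕ∞) e' : ℕ∞) : WithBot ℕ∞) := by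
        rw [WithBot.coe_min]; rfl
      rw [h4] at h3 ⊢
      rw [WithBot.coe_le_coe] at h3 ⊢
      have h5 : min (k : ℕ∞) e' ≤ k := min_le_left _ _
      obtain ⟨j, hj⟩ : ∃ j : ℕ, min (k : ℕ∞) e' = j := by
        have : min (k : ℕ∞) e' ≠ ⊤ := ne_top_of_le_ne_top (ENat.natCast_ne_top k) h5
        exact ⟨(min (k : ℕ∞) e').toNat, (ENat.natCast_toNat this).symm⟩
      rw [hj] at h3 h5 ⊢
      have hjk : j ≤ k := by exact_mod_cast h5
      have hj2 : j ≤ 2 := by rcases hk with rfl | rfl <;> omega
      interval_cases j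
      · simp
      · exact_mod_cast h1 (by exact_mod_cast h3)
      · exact_mod_cast h2 (by exact_mod_cast h3)
  have key : ∀ (p : Ideal R) [p.IsPrime],
      (Module.supportDim (Localization.AtPrime p) (LocalizedModule p.primeCompl M) ≤
        Module.supportDim (Localization.AtPrime p) (LocalizedModule p.primeCompl R)) ∧
      (1 ≤ LocCoh.depth (Localization.AtPrime p) (LocalizedModule p.primeCompl R) →
        1 ≤ LocCoh.depth (Localization.AtPrime p) (LocalizedModule p.primeCompl M)) ∧
      (2 ≤ LocCoh.depth (Localization.AtPrime p) (LocalizedModule p.primeCompl R) →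
        2 ≤ LocCoh.depth (Localization.AtPrime p) (LocalizedModule p.primeCompl M)) := by
    intro p _
    obtain ⟨u', ⟨e'⟩⟩ := Groth.Agent.Helper9.ReflKer.exists_loc_ker_equiv p ι u hι hex
    refine ⟨?_, ?_, ?_⟩
    · rw [Module.supportDim_eq_of_equiv e']
      exact (Module.supportDim_le_of_injective (LinearMap.ker u').subtype
        (Submodule.subtype_injective _)).trans
          (Groth.Agent.Helper6.HomKer.supportDim_pi_le _ n)
    · intro h
      unfold LocCoh.depth at h ⊢
      rw [Groth.Agent.Helper9.ReflKer.idealDepth_congr _ e']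
      exact depth_ker_one u' (one_le_idealDepth_pi _ _ n h)
    · intro h
      unfold LocCoh.depth at h ⊢
      rw [Groth.Agent.Helper9.ReflKer.idealDepth_congr _ e']
      have h1 : 1 ≤ idealDepth (IsLocalRing.maximalIdeal (Localization.AtPrime p))
          (LocalizedModule p.primeCompl R) := le_trans (by norm_num) h
      exact depth_ker_two u' (two_le_idealDepth_pi _ _ n h) (one_le_idealDepth_pi _ _ m h1)
  refine ⟨?_, ?_⟩
  · intro p _ h
    rw [← Groth.Agent.Helper1.SerreFlatU.depth_self] at h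
    exact (key p).2.2 h
  · intro hA p _
    have hAp := hA p
    exact hnum 2 (Or.inr rfl) _ _ (key p).1 _ _ (key p).2.1 (key p).2.2 hAp

end Groth.Agent.S6880
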