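import Groth.Statements.S10260
import Groth.Agent.Helper5.QfSch12

set_option autoImplicit false
universe u
open CategoryTheory CategoryTheory.Limits AlgebraicGeometry
open AlgSp

namespace Groth.Agent.S10260

/-- A locally quasi-finite separated morphism of algebraic spaces is representable by schemes. -/
theorem result {S : Scheme.{u}} {X Y : AlgSp.Space S} (f : X ⟶ Y)
    (hqf : AlgSp.LocP (@LocallyQuasiFinite ⊓ @LocallyOfFiniteType) f.hom) (hsep : AlgSp.IsSeparatedMor f.hom) :
    AlgSp.Representable f.hom := by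
  intro Z g
  have sq : IsPullback (pullback.fst f.hom g) (pullback.snd f.hom g) f.hom g :=
    IsPullback.of_hasPullback _ _
  have hP : IsAlgSpace (pullback f.hom g) :=
    Groth.Agent.Helper4.AlgSpPB.isAlgSpace_of_isPullback Y.property.diag X.property
      (IsAlgSpace.yon_obj Z) f.hom g _ _ sq
  have hG := Groth.Agent.Helper4.SDClasses.good_lqf.{u}
  have hqf' : LocP (@LocallyQuasiFinite ⊓ @LocallyOfFiniteType) (pullback.snd f.hom g) :=
    haveI := hG.bc
    haveI := hG.comp
    Groth.Agent.Helper4.AlgSpLocPBC.locP_of_isPullback _ hG.etale_le hG.sd X.property Y.property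
      f.hom g _ _ sq hqf
  have hsep' : IsSeparatedMor (pullback.snd f.hom g) :=
    Groth.Agent.Helper5.AlgSpProper.isSeparatedMor_of_isPullback sq hsep
  have hrep := Groth.Agent.Helper5.QfSch.isRepresentable_of_separated_lqf hP
    (pullback.snd f.hom g) hqf' hsep'
  obtain ⟨W, ⟨r⟩⟩ := hrep.has_representation
  let e : (yon S).obj W ≅ pullback f.hom g := isoOfRepresentableBy r
  obtain ⟨i, hi⟩ := (yon S).map_surjective (e.hom ≫ pullback.snd f.hom g)
  refine ⟨W, i, e.hom ≫ pullback.fst f.hom g, ?_⟩
  rw [hi]
  exact IsPullback.of_iso sq e.symm (Iso.refl _) (Iso.refl _) (Iso.refl _) (by simp) (by simp)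
    (by simp) (by simp)

end Groth.Agent.S10260
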