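import Groth.Statements.S10613
import Groth.Agent.S10260
import Groth.Agent.S10621
import Groth.Agent.Helper5.SrcEt
import Groth.Agent.Helper5.AlgSpUnram
import Groth.Agent.Helper5.GpdSep2
import Groth.Agent.Helper5.UnramLqf
import Groth.Agent.Helper4.AlgSpInj

set_option autoImplicit false
universe u
open CategoryTheory CategoryTheory.Limits AlgebraicGeometry
open AlgSp

namespace Groth.Agent.S10613

/-- For a morphism f : X ⟶ Y of algebraic spaces over S, these four conditions on f are equivalent: (a)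
unramified plus monomorphism; (b) unramified plus universally injective; (c) a monomorphism that is
locally of finite type; (d) universally injective, locally of finite type and formally unramified
(lifting sense). In that case f is representable by schemes, separated and locally quasi-finite.
(Unramified is the etale-local condition locally of finite type and formally unramified on charts;
monomorphisms are taken in fppf sheaves.) -/
theorem result {S : Scheme.{u}} {X Y : AlgSp.Space S} (f : X ⟶ Y) :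
    ((AlgSp.LocP (@LocallyOfFiniteType ⊓ @FormallyUnramified) f.hom ∧ Mono f.hom) ↔
      (AlgSp.LocP (@LocallyOfFiniteType ⊓ @FormallyUnramified) f.hom ∧ AlgSp.IsUnivInjectiveMor f.hom)) ∧
    ((AlgSp.LocP (@LocallyOfFiniteType ⊓ @FormallyUnramified) f.hom ∧ Mono f.hom) ↔
      (AlgSp.LocP @LocallyOfFiniteType f.hom ∧ Mono f.hom)) ∧
    ((AlgSp.LocP (@LocallyOfFiniteType ⊓ @FormallyUnramified) f.hom ∧ Mono f.hom) ↔
      (AlgSp.IsUnivInjectiveMor f.hom ∧ AlgSp.LocP @LocallyOfFiniteType f.hom ∧ AlgSp.IsFormallyUnramifiedMor f.hom)) ∧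
    (AlgSp.LocP @LocallyOfFiniteType f.hom ∧ Mono f.hom →
      AlgSp.Representable f.hom ∧ AlgSp.IsSeparatedMor f.hom ∧
        AlgSp.LocP (@LocallyQuasiFinite ⊓ @LocallyOfFiniteType) f.hom) := by
  have hX := X.property
  have hY := Y.property
  have cyc := Groth.Agent.Helper4.AlgSpInj.univInjective_cycle hX f.hom
  have split : AlgSp.LocP (@LocallyOfFiniteType ⊓ @FormallyUnramified) f.hom ↔
      AlgSp.LocP @LocallyOfFiniteType f.hom ∧ AlgSp.LocP @FormallyUnramified f.hom :=
    ⟨fun h => ⟨fun _ _ a b c ha hb e => (h a b c ha hb e).1,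
      fun _ _ a b c ha hb e => (h a b c ha hb e).2⟩,
      fun h _ _ a b c ha hb e => ⟨h.1 a b c ha hb e, h.2 a b c ha hb e⟩⟩
  have mono_ui : Mono f.hom → AlgSp.IsUnivInjectiveMor f.hom := fun hm =>
    cyc.1 (fun K _ str a b hab => (cancel_mono f.hom).1 hab)
  have ui_mono : AlgSp.LocP (@LocallyOfFiniteType ⊓ @FormallyUnramified) f.hom →
      AlgSp.IsUnivInjectiveMor f.hom → Mono f.hom := by
    intro hu hi
    have hd := Groth.Agent.Helper5.AlgSpUnram.repWith_openImmersion_diagonal_of_unram hX hY f.hom hu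
    have hs := cyc.2.1 hi
    have hs' : AlgSp.RepWith @Surjective (pullback.diagonal f.hom) :=
      Groth.Agent.Helper4.AlgSpPts.repWith_surjective_of_isSurjectiveMor _ hd.rep hs
    have : IsIso (pullback.diagonal f.hom) :=
      Groth.Agent.Helper5.AlgSpIso.isIso_of_openImmersion_surjective _ hd hs'
    exact (pullback.isIso_diagonal_iff f.hom).1 this
  have mono_lft_unram : AlgSp.LocP @LocallyOfFiniteType f.hom → Mono f.hom →
      AlgSp.LocP (@LocallyOfFiniteType ⊓ @FormallyUnramified) f.hom := by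
    intro hl hm
    haveI : IsIso (pullback.diagonal f.hom) := (pullback.isIso_diagonal_iff f.hom).2 hm
    exact Groth.Agent.Helper5.AlgSpUnram.locP_unram_of_diagonal_openImmersion hX f.hom hl
      (MorphismProperty.of_isIso _ _)
  have fu := (Groth.Agent.S10621.result f).1
  refine ⟨⟨fun h => ⟨h.1, mono_ui h.2⟩, fun h => ⟨h.1, ui_mono h.1 h.2⟩⟩,
    ⟨fun h => ⟨(split.1 h.1).1, h.2⟩, fun h => ⟨mono_lft_unram h.1 h.2, h.2⟩⟩,
    ⟨fun h => ⟨mono_ui h.2, (split.1 h.1).1, fu.2 (split.1 h.1).2⟩,
      fun h => ⟨split.2 ⟨h.2.1, fu.1 h.2.2⟩, ui_mono (split.2 ⟨h.2.1, fu.1 h.2.2⟩) h.1⟩⟩, ?_⟩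
  rintro ⟨hl, hm⟩
  haveI := hm
  have hu := mono_lft_unram hl hm
  have hsep := Groth.Agent.Helper5.GpdSep.isSeparatedMor_of_mono f.hom
  have hqf : AlgSp.LocP (@LocallyQuasiFinite ⊓ @LocallyOfFiniteType) f.hom :=
    Groth.Agent.Helper5.SrcEt.locP_mono (fun g hg => by
      haveI := hg.1
      haveI := hg.2
      exact ⟨Groth.Agent.Helper5.UnramLqf.locallyQuasiFinite_of_unramified g, hg.1⟩) _ hu
  exact ⟨Groth.Agent.S10260.result f hqf hsep, hsep, hqf⟩

end Groth.Agent.S10613
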