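import Groth.Statements.S9933
import Groth.Agent.Helper4.AlgSpDiag
import Mathlib

set_option autoImplicit false
universe u
open CategoryTheory CategoryTheory.Limits AlgebraicGeometry
open AlgSp

namespace Groth.Agent.S9933

/-- `a` is a composite of a base change of `Δ_b` and a base change of `a ≫ b`. -/
theorem cancel {S : Scheme.{u}} (Q : MorphismProperty (Sp S)) [Q.IsStableUnderBaseChange]
    [Q.IsStableUnderComposition] {Z Y X : Sp S} (a : Z ⟶ Y) (b : Y ⟶ X)
    (hd : Q (pullback.diagonal b)) (hab : Q (a ≫ b)) : Q a := by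
  have key := pullback_lift_diagonal_isPullback a b
  have h1 : Q (pullback.lift (𝟙 Z) a (by simp) : Z ⟶ pullback (a ≫ b) b) :=
    MorphismProperty.of_isPullback key hd
  have h2 : Q (pullback.snd (a ≫ b) b) := MorphismProperty.pullback_snd _ _ hab
  have hfac : (pullback.lift (𝟙 Z) a (by simp) : Z ⟶ pullback (a ≫ b) b) ≫
      pullback.snd (a ≫ b) b = a := pullback.lift_snd _ _ _
  rw [← hfac]
  exact Q.comp_mem _ _ h1 h2

set_option backward.isDefEq.respectTransparency.types false in
/-- Permanence for Z -> Y -> X: the five representable finiteness/separation properties of Z -> X pass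
to Z -> Y, and a closed immersion Z -> X with Y -> X separated gives a closed immersion Z -> Y. -/
theorem result {S : Scheme.{u}} {Z Y X : AlgSp.Space S} (a : Z ⟶ Y) (b : Y ⟶ X) :
    ((AlgSp.Representable (a ≫ b).hom ∧ AlgSp.RepWith @LocallyOfFiniteType (a ≫ b).hom ∧
        AlgSp.RepWith (@LocallyQuasiFinite ⊓ @LocallyOfFiniteType) (a ≫ b).hom ∧
        AlgSp.RepWith @IsSeparated (a ≫ b).hom ∧
        AlgSp.RepWith (MorphismProperty.monomorphisms Scheme.{u}) (a ≫ b).hom) →
      (AlgSp.Representable a.hom ∧ AlgSp.RepWith @LocallyOfFiniteType a.hom ∧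
        AlgSp.RepWith (@LocallyQuasiFinite ⊓ @LocallyOfFiniteType) a.hom ∧
        AlgSp.RepWith @IsSeparated a.hom ∧
        AlgSp.RepWith (MorphismProperty.monomorphisms Scheme.{u}) a.hom)) ∧
    (AlgSp.RepWith @IsClosedImmersion (a ≫ b).hom → AlgSp.IsSeparatedMor b.hom →
      AlgSp.RepWith @IsClosedImmersion a.hom) := by

  obtain ⟨h1, h2, h3, h4⟩ :=
    Groth.Agent.Helper4.AlgSpDiag.diagonal_properties Y.property b.hom
  have hab : (a ≫ b).hom = a.hom ≫ b.hom := rfl
  rw [hab]
  have j1 := repWith_isStableUnderBaseChange (S := S) @LocallyOfFiniteType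
  have j2 := repWith_isStableUnderBaseChange (S := S) (MorphismProperty.monomorphisms Scheme.{u})
  have j3 := repWith_isStableUnderBaseChange (S := S) @IsSeparated
  have j4 := repWith_isStableUnderBaseChange (S := S)
    ((@LocallyQuasiFinite ⊓ @LocallyOfFiniteType : MorphismProperty Scheme.{u}))
  have j5 := repWith_isStableUnderBaseChange (S := S) @IsClosedImmersion
  have i1 : (RepWith (S := S) @LocallyOfFiniteType).IsStableUnderComposition :=
    MorphismProperty.relative_isStableUnderComposition _
  have i2 : (RepWith (S := S) (MorphismProperty.monomorphisms Scheme.{u})).IsStableUnderComposition :=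
    MorphismProperty.relative_isStableUnderComposition _
  have i3 : (RepWith (S := S) @IsSeparated).IsStableUnderComposition :=
    MorphismProperty.relative_isStableUnderComposition _
  have i4 : (RepWith (S := S) ((@LocallyQuasiFinite ⊓ @LocallyOfFiniteType :
      MorphismProperty Scheme.{u}))).IsStableUnderComposition :=
    MorphismProperty.relative_isStableUnderComposition _
  have i5 : (RepWith (S := S) @IsClosedImmersion).IsStableUnderComposition :=
    MorphismProperty.relative_isStableUnderComposition _
  have h5 : RepWith ((@LocallyQuasiFinite ⊓ @LocallyOfFiniteType : MorphismProperty Scheme.{u}))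
      (pullback.diagonal b.hom) := by
    refine ⟨h1.rep, ?_⟩
    intro T E ξ c e sq
    exact ⟨h4.property ξ c e sq, h1.property ξ c e sq⟩
  constructor
  · rintro ⟨g0, g1, g2, g3, g4⟩
    exact ⟨cancel (Representable (S := S)) a.hom b.hom h1.rep g0, cancel _ a.hom b.hom h1 g1,
      cancel _ a.hom b.hom h5 g2, cancel _ a.hom b.hom h3 g3, cancel _ a.hom b.hom h2 g4⟩
  · intro g hb
    exact cancel _ a.hom b.hom hb g

end Groth.Agent.S9933
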