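import Groth.Statements.S0117
import Mathlib
import Groth.Agent.Lead.EtThick

set_option autoImplicit false
open CategoryTheory CategoryTheory.Limits AlgebraicGeometry Opposite
universe u
open EtBase

namespace Groth.Agent.S0117

theorem aux {S S₀ : Scheme.{u}} (i : S₀ ⟶ S) [IsClosedImmersion i] [Surjective i]
    (X Y : Over S) [AlgebraicGeometry.Etale X.hom] :
    Function.Bijective (fun φ : Y ⟶ X => (Over.pullback i).map φ) := by
  let j : pullback Y.hom i ⟶ Y.left := pullback.fst Y.hom i
  haveI : IsClosedImmersion j := inferInstanceAs (IsClosedImmersion (pullback.fst Y.hom i))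
  haveI : Surjective j := inferInstanceAs (Surjective (pullback.fst Y.hom i))
  constructor
  · intro φ ψ h
    have h' : ((Over.pullback i).map φ).left ≫ pullback.fst X.hom i =
        ((Over.pullback i).map ψ).left ≫ pullback.fst X.hom i := by
      have := congrArg (fun t => t.left) h
      dsimp only at this
      rw [this]
    have h1 : j ≫ φ.left = j ≫ ψ.left := by
      have e1 : ((Over.pullback i).map φ).left ≫ pullback.fst X.hom i = j ≫ φ.left :=
        pullback.lift_fst _ _ _
      have e2 : ((Over.pullback i).map ψ).left ≫ pullback.fst X.hom i = j ≫ ψ.left :=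
        pullback.lift_fst _ _ _
      rw [← e1, ← e2, h']
    have h2 : φ.left ≫ X.hom = ψ.left ≫ X.hom := by rw [Over.w φ, Over.w ψ]
    apply Over.OverMorphism.ext
    exact Groth.Agent.Lead.EtThick.hom_ext_of_surjective j X.hom φ.left ψ.left h1 h2
  · intro φ₀
    have hw : φ₀.left ≫ pullback.snd X.hom i = pullback.snd Y.hom i := Over.w φ₀
    have h : (φ₀.left ≫ pullback.fst X.hom i) ≫ X.hom = pullback.snd Y.hom i ≫ i := by
      rw [Category.assoc, pullback.condition, ← Category.assoc, hw]
    obtain ⟨a, ha1, ha2⟩ :=
      Groth.Agent.Lead.EtThick.exists_lift i X.hom Y.hom (φ₀.left ≫ pullback.fst X.hom i) h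
    refine ⟨Over.homMk a ha1, ?_⟩
    apply Over.OverMorphism.ext
    apply pullback.hom_ext
    · have e1 : ((Over.pullback i).map (Over.homMk a ha1 : Y ⟶ X)).left ≫ pullback.fst X.hom i =
          pullback.fst Y.hom i ≫ a := pullback.lift_fst _ _ _
      exact e1.trans ha2
    · have e2 : ((Over.pullback i).map (Over.homMk a ha1 : Y ⟶ X)).left ≫ pullback.snd X.hom i =
          pullback.snd Y.hom i := pullback.lift_snd _ _ _
      exact e2.trans hw.symm

/-- Topological invariance of étale morphisms, first-order form — for X étale over S and any S-scheme Y,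
base change to a closed subscheme S₀ with the same underlying space gives a bijection between
S-morphisms Y → X and S₀-morphisms of the base changes. -/
theorem result {S S₀ : Scheme.{u}} (i : S₀ ⟶ S) [IsClosedImmersion i] [Surjective i]
    (X Y : Over S) [AlgebraicGeometry.Etale X.hom] :
    Function.Bijective (fun φ : Y ⟶ X => (Over.pullback i).map φ) := by
  exact aux i X Y

end Groth.Agent.S0117
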