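import Groth.Statements.S13709
import Mathlib

set_option autoImplicit false
universe u
open CategoryTheory CategoryTheory.Limits AlgebraicGeometry
open ZeroCyc

namespace Groth.Agent.S13709

/-- Let f : X → Y be a quasi-compact morphism of schemes and g : Y' → Y a faithfully flat morphism, i.e.
flat and surjective, with no quasi-compactness assumption on g. If the base change X ×_Y Y' → Y' of
f along g is a homeomorphism on underlying spaces, then so is f. -/
theorem result {X Y Y' : Scheme.{u}} (f : X ⟶ Y) (g : Y' ⟶ Y)
    [Flat g] [Surjective g] [QuasiCompact f] (h : IsHomeomorph (pullback.snd f g).base) :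
    IsHomeomorph f.base := by
  have hcomm : ∀ z : ↑(pullback f g), f (pullback.fst f g z) = g (pullback.snd f g z) := by
    intro z
    have := pullback.condition (f := f) (g := g)
    have h2 := congrArg (fun φ : pullback f g ⟶ Y => φ z) this
    simpa using h2
  have hsnd : IsHomeomorph (pullback.snd f g) := h
  rw [isHomeomorph_iff_continuous_isClosedMap_bijective]
  refine ⟨f.continuous, ?_, ?_, ?_⟩
  · show IsClosedMap f
    rw [isClosedMap_iff_specializingMap]
    intro x y hxy
    obtain ⟨y', rfl⟩ := g.surjective y
    obtain ⟨y0', hy0, hgy0⟩ := (Flat.generalizingMap g) hxy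
    obtain ⟨z0, hz0x, hz0y⟩ := Scheme.Pullback.exists_preimage_pullback x y0' hgy0.symm
    obtain ⟨z, hz⟩ := hsnd.surjective y'
    have hspec : z0 ⤳ z := by
      rw [← hsnd.isInducing.specializes_iff, hz0y, hz]
      exact hy0
    refine ⟨pullback.fst f g z, ?_, ?_⟩
    · show x ⤳ pullback.fst f g z
      rw [← hz0x]
      exact hspec.map (pullback.fst f g).continuous
    · rw [hcomm, hz]
  · intro x1 x2 hx
    obtain ⟨y', hy'⟩ := g.surjective (f x1)
    obtain ⟨z1, hz1x, hz1y⟩ := Scheme.Pullback.exists_preimage_pullback x1 y' hy'.symm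
    obtain ⟨z2, hz2x, hz2y⟩ := Scheme.Pullback.exists_preimage_pullback x2 y'
      (by rw [hy']; exact hx.symm)
    have : z1 = z2 := hsnd.injective (by rw [hz1y, hz2y])
    rw [← hz1x, ← hz2x, this]
  · intro y
    obtain ⟨y', rfl⟩ := g.surjective y
    obtain ⟨z, hz⟩ := hsnd.surjective y'
    exact ⟨pullback.fst f g z, by rw [← hz]; exact hcomm z⟩

end Groth.Agent.S13709
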