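import Groth.Statements.S12776
import Mathlib
import Groth.Agent.Helper3.TwoYoneda
import Groth.Agent.Helper6.FpPaste

set_option autoImplicit false
open CategoryTheory AlgebraicGeometry
universe u
open AlgSt

namespace Groth.Agent.S12776

open Groth.Agent.Helper3 Groth.Agent.Helper6.FpTools FibCat in
theorem hom_ext_of_repByAlgSp {S : Scheme.{u}} {𝒲 : AlgSt.Cat S} (hr : AlgSt.RepByAlgSp 𝒲)
    {U : Over S} {a b : 𝒲.obj} (φ ψ : a ⟶ b) (hφ : 𝒲.p.IsHomLift (𝟙 U) φ)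
    (hψ : 𝒲.p.IsHomLift (𝟙 U) ψ) : φ = ψ := by
  obtain ⟨F, e, he⟩ := hr
  obtain ⟨K, hK, -, -⟩ := EquivOver.symm he
  obtain ⟨i1, i2, -⟩ := (isEquivOver_iff K).1 hK
  apply K.toFunctor.map_injective
  haveI h1 : (AlgSt.ofSp F.obj).p.IsHomLift (𝟙 U) (K.map φ) :=
    (BasedFunctor.isHomLift_iff K (𝟙 U) φ).2 hφ
  haveI h2 : (AlgSt.ofSp F.obj).p.IsHomLift (𝟙 U) (K.map ψ) :=
    (BasedFunctor.isHomLift_iff K (𝟙 U) ψ).2 hψ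
  apply Stk.EltObj.hom_ext
  exact (CategoryTheory.IsHomLift.fac' (AlgSt.ofSp F.obj).p (𝟙 U) (K.map φ)).trans
    (CategoryTheory.IsHomLift.fac' (AlgSt.ofSp F.obj).p (𝟙 U) (K.map ψ)).symm

/-- For categories `𝒳`, `𝒴` fibred in groupoids over `(Sch/S)`, any 1-morphism `f : 𝒳 ⟶ 𝒴` that is
representable by algebraic spaces is faithful on fibre categories; for categories fibred in
groupoids this is the same as `f` being faithful, which is how it is stated here. -/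
theorem result {S : Scheme.{u}} {𝒳 𝒴 : AlgSt.Cat S}
    (h𝒳 : FibCat.IsFibGrpd 𝒳.p) (h𝒴 : FibCat.IsFibGrpd 𝒴.p) (f : 𝒳 ⥤ᵇ 𝒴) (hf : AlgSt.RepByAlgSp1 f) :
    f.toFunctor.Faithful := by
  open Groth.Agent.Helper3 Groth.Agent.Helper6.FpTools FibCat in
  apply FibGrpd.faithful_of_fiber f h𝒳 h𝒴
  intro U
  refine ⟨fun {a b} φ ψ hφψ => ?_⟩
  have h1 : f.map φ.1 = f.map ψ.1 := congrArg Subtype.val hφψ
  haveI := TwoYoneda.evalAtId_isEquivalence_of_isFibGrpd U h𝒴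
  obtain ⟨ŷ, ⟨j⟩⟩ := Functor.EssSurj.mem_essImage (F := FibCat.evalAtId 𝒴 U) ((FibCat.fiberFunctor f U).obj b)
  let j' : ŷ.obj (Over.mk (𝟙 U)) ≅ f.obj b.1 := Functor.Fiber.fiberInclusion.mapIso j
  have lj : 𝒴.p.IsHomLift (𝟙 U) j'.hom := j.hom.2
  haveI hφl : 𝒳.p.IsHomLift (𝟙 U) φ.1 := φ.2
  haveI hψl : 𝒳.p.IsHomLift (𝟙 U) ψ.1 := ψ.2
  haveI : IsIso φ.1 := FibGrpd.isIso_of_lift_id h𝒳 (U := U) φ.1
  let φi : a.1 ≅ b.1 := asIso φ.1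
  haveI : 𝒳.p.IsHomLift (𝟙 U) φi.hom := hφl
  have lφi : 𝒳.p.IsHomLift (𝟙 U) φi.inv := inferInstance
  have lfφi : 𝒴.p.IsHomLift (𝟙 U) (f.map φi.inv) := inferInstance
  let i : ŷ.obj (Over.mk (𝟙 U)) ≅ f.obj a.1 := j' ≪≫ (f.toFunctor.mapIso φi).symm
  have li : 𝒴.p.IsHomLift (𝟙 U) i.hom := lift_id_comp' _ _ lj lfφi
  let A : (FibCat.fp ŷ f).obj := ⟨⟨Over.mk (𝟙 U), a.1, i⟩, li⟩
  let B : (FibCat.fp ŷ f).obj := ⟨⟨Over.mk (𝟙 U), b.1, j'⟩, lj⟩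
  have w1 : ŷ.map (𝟙 (Over.mk (𝟙 U))) ≫ j'.hom = i.hom ≫ f.map φ.1 := by
    change _ = (j'.hom ≫ f.map φi.inv) ≫ f.map φi.hom
    rw [Category.assoc, ← f.toFunctor.map_comp, Iso.inv_hom_id, f.toFunctor.map_id, Category.comp_id]
    have : ŷ.map (𝟙 (Over.mk (𝟙 U))) = 𝟙 _ := ŷ.toFunctor.map_id _
    rw [this, Category.id_comp]
  have w2 : ŷ.map (𝟙 (Over.mk (𝟙 U))) ≫ j'.hom = i.hom ≫ f.map ψ.1 := by
    rw [← h1]; exact w1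
  let Φ : A ⟶ B := ObjectProperty.homMk ⟨𝟙 _, φ.1, w1⟩
  let Ψ : A ⟶ B := ObjectProperty.homMk ⟨𝟙 _, ψ.1, w2⟩
  have hΦ : (FibCat.fp ŷ f).p.IsHomLift (𝟙 U) Φ :=
    Fp.isHomLift_of_fst ŷ f _ Φ (IsHomLift.id (p := (FibCat.overCat U).p) rfl)
  have hΨ : (FibCat.fp ŷ f).p.IsHomLift (𝟙 U) Ψ :=
    Fp.isHomLift_of_fst ŷ f _ Ψ (IsHomLift.id (p := (FibCat.overCat U).p) rfl)
  have key : Φ = Ψ := hom_ext_of_repByAlgSp (hf U ŷ) Φ Ψ hΦ hΨ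
  apply Functor.Fiber.hom_ext
  exact congrArg (fun t => t.hom.snd) key

end Groth.Agent.S12776
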