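import Groth.Statements.S12715
import Mathlib.Tactic
import Mathlib.RingTheory.Derivation.Basic

set_option autoImplicit false
universe u v
open CategoryTheory
open ArtFun

namespace Groth.Agent.S12715

/-- For Λ Noetherian with a finite map to the field k and S a complete local Noetherian Λ-algebra with
residue field k (through a surjective map S → k over Λ), the space of Λ-derivations S → k is
finite-dimensional over k. -/
theorem result {Λ : Type u} {k : Type u} [CommRing Λ] [Field k] [Algebra Λ k]
    [IsNoetherianRing Λ] [Module.Finite Λ k]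
    (S : Type u) [CommRing S] [Algebra Λ S] [IsLocalRing S] [IsNoetherianRing S]
    [IsAdicComplete (IsLocalRing.maximalIdeal S) S] [Algebra S k] [IsScalarTower Λ S k]
    (hres : Function.Surjective (algebraMap S k)) :
    Module.Finite k (Derivation Λ S k) := by
  classical
  -- the kernel of S → k is the maximal ideal
  have hker : ∀ a : S, a ∈ IsLocalRing.maximalIdeal S → algebraMap S k a = 0 := by
    intro a ha
    have hmax : (RingHom.ker (algebraMap S k)).IsMaximal :=
      RingHom.ker_isMaximal_of_surjective (algebraMap S k) hres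
    rw [← IsLocalRing.eq_maximalIdeal hmax, RingHom.mem_ker] at ha
    exact ha
  have hker' : ∀ a : S, algebraMap S k a = 0 → a ∈ IsLocalRing.maximalIdeal S := by
    intro a ha
    have hmax : (RingHom.ker (algebraMap S k)).IsMaximal :=
      RingHom.ker_isMaximal_of_surjective (algebraMap S k) hres
    rw [← IsLocalRing.eq_maximalIdeal hmax, RingHom.mem_ker]
    exact ha
  -- generators
  obtain ⟨sx, hsx⟩ := (IsNoetherian.noetherian (IsLocalRing.maximalIdeal S) : (IsLocalRing.maximalIdeal S).FG)
  obtain ⟨sy, hsy⟩ := (Module.Finite.fg_top : (⊤ : Submodule Λ k).FG)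
  choose lift hlift using hres
  let Φ : Derivation Λ S k →ₗ[k] ((sx → k) × (sy → k)) :=
    { toFun := fun D => (fun i => D i.1, fun j => D (lift j.1))
      map_add' := fun D D' => rfl
      map_smul' := fun c D => rfl }
  apply Module.Finite.of_injective Φ
  rw [← LinearMap.ker_eq_bot, LinearMap.ker_eq_bot']
  intro D hD
  have hD1 : ∀ x ∈ sx, D x = 0 := fun x hx => congrFun (congrArg Prod.fst hD) ⟨x, hx⟩
  have hD2 : ∀ y ∈ sy, D (lift y) = 0 := fun y hy => congrFun (congrArg Prod.snd hD) ⟨y, hy⟩
  -- D vanishes on the maximal ideal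
  have hDm : ∀ a ∈ IsLocalRing.maximalIdeal S, D a = 0 := by
    intro a ha
    rw [← hsx] at ha
    induction ha using Submodule.span_induction with
    | mem x hx => exact hD1 x hx
    | zero => exact map_zero D
    | add x y _ _ hx hy => rw [map_add, hx, hy, add_zero]
    | smul c x hxm hx =>
      rw [smul_eq_mul, Derivation.leibniz, hx, smul_zero, zero_add]
      have : x ∈ IsLocalRing.maximalIdeal S := by rw [← hsx]; exact hxm
      rw [Algebra.smul_def, hker x this, zero_mul]
  apply Derivation.ext
  intro s
  have hs : algebraMap S k s ∈ Submodule.span Λ (sy : Set k) := by rw [hsy]; trivial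
  obtain ⟨c, -, hc⟩ := Submodule.mem_span_finset.1 hs
  have hmem : s - ∑ y ∈ sy, c y • lift y ∈ IsLocalRing.maximalIdeal S := by
    apply hker'
    rw [map_sub, map_sum, ← hc, sub_eq_zero]
    apply Finset.sum_congr rfl
    intro y _
    have h1 : algebraMap S k (c y • lift y) = c y • algebraMap S k (lift y) :=
      map_smul (IsScalarTower.toAlgHom Λ S k) (c y) (lift y)
    rw [h1, hlift]
  have h0 := hDm _ hmem
  rw [map_sub, sub_eq_zero] at h0
  rw [h0, map_sum]
  change _ = (0 : k)
  apply Finset.sum_eq_zero
  intro y hy
  rw [D.map_smul, hD2 y hy, smul_zero]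

end Groth.Agent.S12715
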