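import Groth.Statements.S0376
import Groth.Agent.Helper6.Coext4
import Groth.Agent.Helper6.Ratliff1
import Groth.Agent.S11185

set_option autoImplicit false
universe u v
open CategoryTheory
attribute [local instance] HasDerivedCategory.standard
open Dual

namespace Groth.Agent.S0376

/-- A complete Noetherian local ring has a dualizing complex. -/
theorem result (A : Type u) [CommRing A] [IsLocalRing A] [IsNoetherianRing A] [IsAdicComplete (IsLocalRing.maximalIdeal A) A] : ∃ ω : Dual.D A, Dual.IsDualizing A ω := by
  obtain ⟨Λ, _, n, f, hΛ, hf⟩ :=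
    Groth.Agent.S0580.result A (IsLocalRing.maximalIdeal A).fg_of_isNoetherianRing
  have hreg : IsRegularRing Λ := by
    rcases hΛ with h | h
    · exact Groth.Agent.Helper6.Ratliff.isRegularRing_of_isField Λ h
    · obtain ⟨hd, hdvr, -⟩ := h
      infer_instance
  have hloc : IsLocalRing Λ := by
    rcases hΛ with h | h
    · letI := h.toField
      infer_instance
    · obtain ⟨hd, hdvr, -⟩ := h
      infer_instance
  haveI : IsRegularRing (MvPowerSeries (Fin n) Λ) :=
    Groth.Agent.Helper2.PSReg.isRegularRing_mvPowerSeries Λ n
  letI : Algebra (MvPowerSeries (Fin n) Λ) A := f.toAlgebra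
  haveI : Module.Finite (MvPowerSeries (Fin n) Λ) A :=
    Module.Finite.of_surjective (Algebra.linearMap (MvPowerSeries (Fin n) Λ) A) hf
  have hω := Groth.Agent.S11185.result (MvPowerSeries (Fin n) Λ) (fun p => inferInstance)
    ringKrullDim_lt_top
  exact Groth.Agent.Helper6.Coext.exists_dualizing_of_finite _ hω

end Groth.Agent.S0376
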