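import Groth.Statements.S0005
import Groth.Agent.Helper6.PurF
import Groth.Agent.Helper8.PurExtC
import Groth.Agent.Helper8.PurDescA
import Groth.Agent.Helper8.FEtFF

set_option autoImplicit false
universe u
open FEt

namespace Groth.Agent.S0005

open CategoryTheory AlgebraicGeometry in
/-- Purity for finite étale covers, global form: let X be a Noetherian scheme all of whose local rings
are regular and U ⊆ X an open subscheme such that every point of X outside U has local ring of Krull
dimension at least 2. Then restriction of finite étale covers from X to U is an equivalence of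
categories. -/
theorem result (X : Scheme.{u}) [IsNoetherian X]
    (hreg : ∀ x : X, IsRegularLocalRing (X.presheaf.stalk x)) (U : X.Opens)
    (hU : ∀ x : X, x ∉ U → (2 : WithBot ℕ∞) ≤ ringKrullDim (X.presheaf.stalk x)) :
    (FEt.restrict U.ι).IsEquivalence := by
  have hpur : ∀ x : X, x ∉ U → FEt.PurityHolds (X.presheaf.stalk x) := fun x hx => by
    have := hreg x
    exact Groth.Agent.Helper6.PurF.main _ (hU x hx)
  have hess : (FEt.restrict U.ι).EssSurj := Groth.Agent.Helper8.PurExt.main U hpur
  have hd : ∀ y : X, y ∉ Set.range U.ι →
      (2 : ℕ∞) ≤ LocCoh.depth (X.presheaf.stalk y) (X.presheaf.stalk y) := by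
    intro y hy
    have := hreg y
    have : IsDomain (X.presheaf.stalk y) :=
      Groth.Agent.Lead.RegLocal.isDomain_of_isRegularLocalRing _
    have : IsIntegrallyClosed (X.presheaf.stalk y) :=
      Groth.Agent.Helper4.RegNormal.isIntegrallyClosed_of_isRegularLocalRing _
    apply Groth.Agent.Helper7.ZNPur.two_le_depth_of_normal
    apply hU
    intro hyU
    exact hy ⟨⟨y, hyU⟩, rfl⟩
  obtain ⟨hfull, hfaith⟩ := Groth.Agent.Helper8.FEtFF.main U.ι
    (Groth.Agent.Helper8.PurDesc.hasH_of_depth U.ι hd)
  exact { faithful := hfaith, full := hfull, essSurj := hess }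

end Groth.Agent.S0005
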