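import Groth.Statements.S11172
import Groth.Agent.Helper6.LcD8
import Groth.Agent.Helper6.LcD10
import Groth.Agent.Helper6.LD6

set_option autoImplicit false
universe u
open CategoryTheory
attribute [local instance] HasDerivedCategory.standard
open Dual

namespace Groth.Agent.S11172

open CategoryTheory CategoryTheory.Limits in

/-- Let A be a Noetherian local ring with maximal ideal m and residue field k, ω a normalized dualizing
complex (maps k → ω[i] in D(A) vanish for i ≠ 0), k → E an injective hull of k, and M a finite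
A-module. For every natural number i the local cohomology module H^i_m(M) (the direct limit of
Ext^i(A/m^n, M)) is A-linearly isomorphic to Hom_A(Hom_{D(A)}(M, ω[−i]), E), the E-dual of the
A-module of maps M → ω[−i] in D(A). Existence of an isomorphism only; A is not assumed complete. -/
theorem result (A : Type u) [CommRing A] [IsLocalRing A] [IsNoetherianRing A] (ω : Dual.D A) (hω : Dual.IsDualizing A ω) (hn : Dual.IsNormalized A ω) (E : Type u) [AddCommGroup E] [Module A E] (f : IsLocalRing.ResidueField A →ₗ[A] E) (hf : InjHull.IsInjectiveHull f) (M : Type u) [AddCommGroup M] [Module A M] [Module.Finite A M] (i : ℕ) : Nonempty (LocCoh.H (IsLocalRing.maximalIdeal A) i M ≃ₗ[A] ((Dual.inD A M ⟶ ω⟦(-(i : ℤ))⟧) →ₗ[A] E)) := by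
  have hb : ∃ a b : ℤ, ∀ j : ℤ, (j < a ∨ b < j) → Subsingleton (Dual.HD A (Dual.inD A M) j) :=
    ⟨0, 0, fun j hj => by
      rcases hj with h | h
      · exact Groth.Agent.Helper3.DRingLib.subsingleton_HD_of_isGE _ 0 j h
      · exact Groth.Agent.Helper3.DRingLib.subsingleton_HD_of_isLE _ 0 j h⟩
  obtain ⟨φ⟩ := Groth.Agent.Helper6.LcD.main ω hω hn E f hf (Dual.inD A M) hb
    (fun j => Groth.Agent.Helper6.LD.finite_HD_inD M j) (i : ℤ)
  obtain ⟨β⟩ := Groth.Agent.Helper6.LcD.bridge (IsLocalRing.maximalIdeal A) M i
  exact ⟨β ≪≫ₗ φ⟩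

end Groth.Agent.S11172
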