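import Groth.Statements.S0455
import Groth.Agent.Helper1.CohTopCech

set_option autoImplicit false
universe u
open CategoryTheory
open CohTop

namespace Groth.Agent.S0455

open TopologicalSpace CategoryTheory.Limits in
/-- If F is a flasque abelian sheaf on X, then for any family of opens the Cech cohomology groups of F
in positive degree are zero. -/
theorem result {X : TopCat.{u}} (F : CohTop.Ab X) [TopCat.Sheaf.IsFlasque F]
    {ι : Type u} (U : ι → Opens X) (p : ℕ) : IsZero (CohTop.cechH F.obj U (p + 1)) := by
  open Groth.Agent.Lead.CohTopB Groth.Agent.Helper1.Cech Groth.Agent.Helper1.CechTop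
    Groth.Agent.Helper1.CohTopExt Groth.Agent.Helper1.CohTopCech CategoryTheory.Abelian in
  have key := cech_iso_of_class U (fun G => TopCat.Sheaf.IsFlasque G) (by
    intro S hS h1 hI
    have : TopCat.Sheaf.IsFlasque S.X₁ := h1
    have : TopCat.Sheaf.IsFlasque S.X₂ := isFlasque_of_injective _
    refine ⟨TopCat.Sheaf.IsFlasque.of_shortExact_of_isFlasque₁₂ hS, ?_⟩
    intro m x
    refine shortExact_sections hS _ ?_
    have hepi : Epi (S.g.1.app (Opposite.op (prodU U x))) := TopCat.Sheaf.IsFlasque.epi_of_shortExact hS
    exact (AddCommGrpCat.epi_iff_surjective _).1 hepi) (p + 1) F inferInstance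
  obtain ⟨e⟩ := key
  refine IsZero.of_iso ?_ e
  have : Subsingleton ((HUSeq (iSup U) (p + 1)).obj F) :=
    subsingleton_of_forall_eq 0 (fun x =>
      ext_eq_zero_of_flasque (freeU (iSup U)) (iSup U) (homEquiv (iSup U))
        (fun φ g => homEquiv_comp (iSup U) φ g) p F x)
  exact AddCommGrpCat.isZero_of_subsingleton _

end Groth.Agent.S0455
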