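import Groth.Statements.S1820
import Mathlib
import Groth.Agent.Helper9.RHB3
-- import your own Groth.Agent.* helpers here

set_option autoImplicit false
universe u
open CategoryTheory
attribute [local instance] HasDerivedCategory.standard
open Dual2

namespace Groth.Agent.S1820

/-- For φ flat of finite type (a perfect ring map). Let R → A be a ring map between Noetherian rings
which is flat and of finite type, where φ^!(K) is formed from a presentation ψ : R[x_1, …, x_n] → A
as RHom_P(A, K ⊗^L_R P)[n], assuming the derived base change to P exists and taking for RHom_P(A, −)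
a right adjoint of restriction of scalars along ψ; let W be a complex of A-modules representing
ω_{A/R} = φ^!(R). Assuming the derived base change D(R) → D(A) and the derived tensor product −
⊗^L_A W exist, for every K in D(R) there is an isomorphism φ^!(K) ≅ (K ⊗^L_R A) ⊗^L_A W. -/
theorem result (R A : Type u) [CommRing R] [CommRing A] [IsNoetherianRing R] [IsNoetherianRing A] [Algebra R A] [Module.Flat R A] (n : ℕ) (ψ : MvPolynomial (Fin n) R →ₐ[R] A) (hψ : Function.Surjective ψ) [DRing.HasLBaseChange (algebraMap R (MvPolynomial (Fin n) R))] (Rψ : Dual.D (MvPolynomial (Fin n) R) ⥤ Dual.D A) (adj : DRing.restrictD ψ.toRingHom ⊣ Rψ) (W : DRing.Cx A) (hW : Nonempty (DRing.toD W ≅ Dual2.shriekVia n Rψ (Dual.inD R R))) [DRing.HasLBaseChange (algebraMap R A)] [DRing.HasLTensorCx A W] (K : Dual.D R) : Nonempty (Dual2.shriekVia n Rψ K ≅ (DRing.LTensorCx A W).obj ((DRing.LBaseChange (algebraMap R A)).obj K)) := by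
  have := Groth.Agent.Helper6.HasLBC.hasLBaseChange ψ.toRingHom
  have hW' : Nonempty (DRing.toD W ≅
      (Rψ.obj (DTen.unit (MvPolynomial (Fin n) R)))⟦(n : ℤ)⟧) := by
    obtain ⟨hW⟩ := hW
    exact ⟨hW ≪≫ (CategoryTheory.shiftFunctor _ (n : ℤ)).mapIso
      (Rψ.mapIso (Groth.Agent.Helper9.RHB3.lbcUnit (algebraMap R (MvPolynomial (Fin n) R))
        (Groth.Agent.Helper6.LBCAdj.adj _)))⟩
  obtain ⟨e1⟩ := Groth.Agent.Helper9.RHB3.shriek_formula R A n ψ hψ Rψ adj W hW'
    ((DRing.LBaseChange (algebraMap R (MvPolynomial (Fin n) R))).obj K)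
  obtain ⟨c1⟩ := Groth.Agent.Helper9.SV1.lbc_comp (algebraMap R (MvPolynomial (Fin n) R))
    ψ.toRingHom (algebraMap R A) (by
      ext a
      exact (ψ.commutes a).symm)
  exact ⟨e1 ≪≫ (DRing.LTensorCx A W).mapIso (c1.app K).symm⟩

end Groth.Agent.S1820
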