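import Groth.Statements.S9341
import Groth.Agent.Lead.FtPts

set_option autoImplicit false
universe u
open FtPts

namespace Groth.Agent.S9341

open AlgebraicGeometry CategoryTheory in
theorem aux1 (S : Scheme.{u}) (Z : Set ↑S) (hZ : IsLocallyClosed Z) (hne : Z.Nonempty) :
    (Z ∩ {s : ↑S | LocallyOfFiniteType (S.fromSpecResidueField s)}).Nonempty := by
  obtain ⟨W, C, hW, hC, rfl⟩ := hZ
  obtain ⟨z, hzW, hzC⟩ := hne
  obtain ⟨U, hU, hzU, hUW⟩ := exists_isAffineOpen_mem_and_subset (x := z) (U := ⟨W, hW⟩) hzW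
  haveI : CompactSpace ↥U := isCompact_iff_compactSpace.mp hU.isCompact
  have hcl : IsClosed ((Subtype.val : ↥U → S) ⁻¹' C) := hC.preimage continuous_subtype_val
  obtain ⟨x, hxC, hx⟩ := hcl.exists_closed_singleton ⟨⟨z, hzU⟩, hzC⟩
  refine ⟨x.1, ⟨hUW x.2, hxC⟩, ?_⟩
  exact Groth.Agent.Lead.FtPts.ft_of_isClosed_in_open S U x hx

open AlgebraicGeometry CategoryTheory in
theorem aux (S : Scheme.{u}) :
    (∀ Z : Set ↑S, IsLocallyClosed Z → Z.Nonempty →
        (Z ∩ {s : ↑S | LocallyOfFiniteType (S.fromSpecResidueField s)}).Nonempty) ∧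
      ∀ Z : Set ↑S, IsClosed Z →
        Z ⊆ closure (Z ∩ {s : ↑S | LocallyOfFiniteType (S.fromSpecResidueField s)}) := by
  refine ⟨aux1 S, fun Z hZ z hz => ?_⟩
  rw [mem_closure_iff]
  intro N hN hzN
  obtain ⟨s, ⟨hsZ, hsN⟩, hs⟩ := aux1 S (Z ∩ N) (hZ.isLocallyClosed.inter hN.isLocallyClosed) ⟨z, hz, hzN⟩
  exact ⟨s, hsN, hsZ, hs⟩

open AlgebraicGeometry CategoryTheory in
/-- Every nonempty locally closed subset of a scheme S contains a finite type point of S; in particular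
for a closed subset Z the finite type points lying in Z are dense in Z. -/
theorem result (S : Scheme.{u}) :
    (∀ Z : Set ↑S, IsLocallyClosed Z → Z.Nonempty →
        (Z ∩ {s : ↑S | LocallyOfFiniteType (S.fromSpecResidueField s)}).Nonempty) ∧
      ∀ Z : Set ↑S, IsClosed Z →
        Z ⊆ closure (Z ∩ {s : ↑S | LocallyOfFiniteType (S.fromSpecResidueField s)}) := by
  exact aux S

end Groth.Agent.S9341
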