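import Groth.Statements.S12794
import Mathlib
import Groth.Agent.Helper6.StkLift
import Groth.Agent.Helper3.TwoYoneda
import Groth.Agent.Helper6.StkTools

set_option autoImplicit false
open CategoryTheory
universe w v u
open Stk

namespace Groth.Agent.S12794

theorem exists_iso_of_locally {C : Type u} [Category.{v} C] (J : GrothendieckTopology C)
    {𝒳 𝒴 : BasedCategory.{v, max u v} C}
    (h𝒳 : Stk.IsStack J 𝒳) (h𝒴 : Stk.IsStack J 𝒴) (F : 𝒳 ⥤ᵇ 𝒴) [F.toFunctor.Full] [F.toFunctor.Faithful]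
    (y : 𝒴.obj) (R : Sieve (𝒴.p.obj y)) (hR : R ∈ J (𝒴.p.obj y))
    (hloc : ∀ ⦃V : C⦄ (f : V ⟶ 𝒴.p.obj y), R f →
      ∃ (x : 𝒳.obj) (φ : F.obj x ⟶ y), 𝒴.p.IsHomLift f φ) :
    ∃ (x : 𝒳.obj) (e : F.obj x ≅ y), 𝒴.p.IsHomLift (𝟙 (𝒴.p.obj y)) e.hom := by
  obtain ⟨hfg𝒳, hst𝒳⟩ := h𝒳
  obtain ⟨hfg𝒴, hst𝒴⟩ := h𝒴
  -- the functor of `y`
  haveI := Groth.Agent.Helper3.TwoYoneda.evalAtId_isEquivalence_of_isFibGrpd (𝒳 := 𝒴) (𝒴.p.obj y) hfg𝒴
  obtain ⟨Y, ⟨ε⟩⟩ := Functor.EssSurj.mem_essImage (F := FibCat.evalAtId 𝒴 (𝒴.p.obj y))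
    (⟨y, rfl⟩ : 𝒴.p.Fiber (𝒴.p.obj y))
  haveI hε : 𝒴.p.IsHomLift (𝟙 (𝒴.p.obj y)) ε.hom.1 := ε.hom.2
  -- the local data
  have H : ∀ a : (Stk.sieveCat R).obj, ∃ (x : 𝒳.obj)
      (e : F.obj x ≅ (BasedFunctor.comp (Stk.sieveIncl R) Y).obj a),
      𝒴.p.IsHomLift (𝟙 ((Stk.sieveCat R).p.obj a)) e.hom := by
    intro a
    obtain ⟨x, φ, hφ⟩ := hloc a.obj.hom a.property
    haveI := hφ
    let t : a.obj ⟶ Over.mk (𝟙 (𝒴.p.obj y)) := Over.homMk a.obj.hom (by simp)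
    let l : Y.obj a.obj ⟶ y := Y.map t ≫ ε.hom.1
    haveI hl0 : (FibCat.overCat (𝒴.p.obj y)).p.IsHomLift a.obj.hom t :=
      Functor.IsHomLift.map (p := (FibCat.overCat (𝒴.p.obj y)).p) t
    haveI hl1 : 𝒴.p.IsHomLift a.obj.hom (Y.map t) :=
      @BasedFunctor.preserves_isHomLift _ _ _ _ Y _ _ _ _ a.obj.hom t hl0
    haveI hl : 𝒴.p.IsHomLift a.obj.hom l := by
      exact @IsHomLift.comp_lift_id_right _ _ _ _ 𝒴.p _ _ _ _ _ a.obj.hom (Y.map t) hl1 ε.hom.1 hε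
    haveI := Groth.Agent.Helper3.FibGrpd.isStronglyCartesian hfg𝒴 a.obj.hom l
    let θ : F.obj x ⟶ Y.obj a.obj :=
      Functor.IsStronglyCartesian.map 𝒴.p a.obj.hom l (Category.id_comp _).symm φ
    haveI hθ : 𝒴.p.IsHomLift (𝟙 a.obj.left) θ :=
      Functor.IsStronglyCartesian.map_isHomLift 𝒴.p a.obj.hom l (Category.id_comp _).symm φ
    haveI : IsIso θ := @Groth.Agent.Helper3.FibGrpd.isIso_of_lift_id _ _ _ _ _ hfg𝒴 a.obj.left _ _ θ hθ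
    exact ⟨x, @asIso _ _ _ _ θ this, hθ⟩
  let D : Stk.sieveCat R ⥤ᵇ 𝒳 :=
    Groth.Agent.Helper6.StkLift.liftBased F (BasedFunctor.comp (Stk.sieveIncl R) Y) H
  let iso1 : BasedFunctor.comp D F ≅ BasedFunctor.comp (Stk.sieveIncl R) Y :=
    Groth.Agent.Helper6.StkLift.liftBasedIso F (BasedFunctor.comp (Stk.sieveIncl R) Y) H
  -- effectivity in `𝒳`
  haveI : (Stk.resSieve R 𝒳).IsEquivalence := hst𝒳 R hR
  obtain ⟨X, ⟨iso2⟩⟩ := Functor.EssSurj.mem_essImage (F := Stk.resSieve R 𝒳) D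
  let iso3 : (Stk.resSieve R 𝒴).obj (BasedFunctor.comp X F) ≅ (Stk.resSieve R 𝒴).obj Y :=
    (Bicategory.postcomp (Stk.sieveCat R) (show 𝒳 ⟶ 𝒴 from F)).mapIso iso2 ≪≫ iso1
  haveI : (Stk.resSieve R 𝒴).IsEquivalence := hst𝒴 R hR
  let iso4 : BasedFunctor.comp X F ≅ Y := (Stk.resSieve R 𝒴).preimageIso iso3
  let iso5 := (FibCat.evalAtId 𝒴 (𝒴.p.obj y)).mapIso iso4 ≪≫ ε
  refine ⟨X.obj (Over.mk (𝟙 (𝒴.p.obj y))), Functor.Fiber.fiberInclusion.mapIso iso5, ?_⟩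
  exact iso5.hom.2

/-- Let `𝒳`, `𝒴` be stacks in groupoids over `C` for the topology `J` and `F : 𝒳 ⟶ 𝒴` a functor over `C`
whose underlying functor is fully faithful. Then `F` is an equivalence over `C` if and only if every
object `y` of `𝒴` is locally in the essential image: there is a covering sieve `R` of the object
under `y` such that for every arrow `f` of `R` some object `x` of `𝒳` has a morphism `F x ⟶ y` lying
over `f` (equivalently, the pullback of `y` along `f` is isomorphic in its fibre to an object in the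
image of `F`). (The published statement is for stacks over the site, not necessarily in groupoids,
and 1-morphisms of stacks; this row treats stacks in groupoids.) -/
theorem result {C : Type u} [Category.{v} C] (J : GrothendieckTopology C) {𝒳 𝒴 : BasedCategory.{v, max u v} C}
    (h𝒳 : Stk.IsStack J 𝒳) (h𝒴 : Stk.IsStack J 𝒴) (F : 𝒳 ⥤ᵇ 𝒴) [F.toFunctor.Full] [F.toFunctor.Faithful] :
    FibCat.IsEquivOver F ↔
      ∀ y : 𝒴.obj, ∃ R ∈ J (𝒴.p.obj y), ∀ ⦃V : C⦄ (f : V ⟶ 𝒴.p.obj y), R f →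
        ∃ (x : 𝒳.obj) (φ : F.obj x ⟶ y), 𝒴.p.IsHomLift f φ := by
  constructor
  · intro hF y
    obtain ⟨x, e, he⟩ := Groth.Agent.Helper3.EquivOver.exists_iso hF y
    haveI := he
    refine ⟨⊤, J.top_mem _, fun V f _ => ?_⟩
    have hx : 𝒳.p.obj x = 𝒴.p.obj y :=
      (F.w_obj x).symm.trans (IsHomLift.domain_eq 𝒴.p (𝟙 (𝒴.p.obj y)) e.hom)
    obtain ⟨x', ψ, hψ⟩ := Groth.Agent.Helper3.FibGrpd.exists_lift' h𝒳.1 hx f
    haveI := hψ
    refine ⟨x', F.map ψ ≫ e.hom, ?_⟩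
    haveI : 𝒴.p.IsHomLift f (F.map ψ) := inferInstance
    infer_instance
  · intro h
    apply Groth.Agent.Helper3.EquivOver.isEquivOver_of F
    intro y
    obtain ⟨R, hR, hloc⟩ := h y
    exact exists_iso_of_locally J h𝒳 h𝒴 F y R hR hloc

end Groth.Agent.S12794
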