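import Groth.Statements.S6414

set_option autoImplicit false
open CategoryTheory
universe v₁ u₁ v₂ u₂ v₃ u₃
open FibCat

namespace Groth.Agent.S6414

/-- A morphism that is strongly cartesian with respect to `F : 𝒜 ⥤ ℬ` and whose image is strongly
cartesian with respect to `G : ℬ ⥤ 𝒞` is strongly cartesian with respect to `F ⋙ G`. -/
theorem result {𝒜 : Type u₁} [Category.{v₁} 𝒜] {ℬ : Type u₂} [Category.{v₂} ℬ] {𝒞 : Type u₃} [Category.{v₃} 𝒞] (F : 𝒜 ⥤ ℬ) (G : ℬ ⥤ 𝒞) {x y : 𝒜} (φ : x ⟶ y)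
    [F.IsStronglyCartesian (F.map φ) φ] [G.IsStronglyCartesian (G.map (F.map φ)) (F.map φ)] :
    (F ⋙ G).IsStronglyCartesian ((F ⋙ G).map φ) φ := by
  refine { toIsHomLift := inferInstance, universal_property' := ?_ }
  intro a' g φ' hφ'
  -- the equation encoded by `hφ'`
  have e1 : G.map (F.map φ') = g ≫ G.map (F.map φ) :=
    (IsHomLift.eq_of_isHomLift (F ⋙ G) (g ≫ (F ⋙ G).map φ) φ').symm
  -- step 1: lift along `G`
  haveI h1 : G.IsHomLift (g ≫ G.map (F.map φ)) (F.map φ') := by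
    rw [← e1]; infer_instance
  obtain ⟨h, ⟨hh1, hh2⟩, hhuniq⟩ :=
    Functor.IsStronglyCartesian.universal_property' (p := G) (f := G.map (F.map φ))
      (φ := F.map φ) g (F.map φ')
  have e2 : G.map h = g := (IsHomLift.eq_of_isHomLift G g h).symm
  -- step 2: lift along `F`
  haveI h2 : F.IsHomLift (h ≫ F.map φ) φ' := by
    rw [hh2]; infer_instance
  obtain ⟨χ, ⟨hχ1, hχ2⟩, hχuniq⟩ :=
    Functor.IsStronglyCartesian.universal_property' (p := F) (f := F.map φ) (φ := φ) h φ'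
  have e3 : F.map χ = h := (IsHomLift.eq_of_isHomLift F h χ).symm
  refine ⟨χ, ⟨?_, hχ2⟩, ?_⟩
  · have : (F ⋙ G).map χ = g := by rw [Functor.comp_map, e3, e2]
    rw [← this]; infer_instance
  · rintro χ' ⟨hχ'1, hχ'2⟩
    have e4 : G.map (F.map χ') = g :=
      (IsHomLift.eq_of_isHomLift (F ⋙ G) g χ').symm
    have e5 : F.map χ' = h := by
      apply hhuniq
      refine ⟨?_, ?_⟩
      · rw [← e4]; infer_instance
      · rw [← F.map_comp, hχ'2]
    apply hχuniq
    refine ⟨?_, hχ'2⟩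
    rw [← e5]; infer_instance

end Groth.Agent.S6414
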