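import Groth.Statements.S6416
import Mathlib
import Groth.Agent.S6414

set_option autoImplicit false
open CategoryTheory
universe v₁ u₁ v₂ u₂ v₃ u₃
open scoped TensorProduct
open FibCat

namespace Groth.Agent.S6416

/-- The composite of two functors fibred in groupoids is fibred in groupoids. -/
theorem result {𝒜 : Type u₁} [Category.{v₁} 𝒜] {ℬ : Type u₂} [Category.{v₂} ℬ] {𝒞 : Type u₃} [Category.{v₃} 𝒞] (F : 𝒜 ⥤ ℬ) (G : ℬ ⥤ 𝒞) (hF : FibCat.IsFibGrpd F) (hG : FibCat.IsFibGrpd G) : FibCat.IsFibGrpd (F ⋙ G) := by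
  have key : ∀ {a b : 𝒜} {c d : ℬ} (ψ : c ⟶ d) (φ : a ⟶ b), F.IsHomLift ψ φ →
      ∀ {U V : 𝒞} (f : U ⟶ V), G.IsHomLift f ψ → (F ⋙ G).IsHomLift f φ := by
    intro a b c d ψ φ hφ U V f hψ
    cases hφ
    cases hψ
    exact Functor.IsHomLift.map (p := F ⋙ G) φ
  refine ⟨?_, ?_⟩
  · intro x V f
    obtain ⟨y', ψ, hψ⟩ := hG.exists_lift (x := F.obj x) f
    obtain ⟨y, φ, hφ⟩ := hF.exists_lift (x := x) ψ
    exact ⟨y, φ, key ψ φ hφ f hψ⟩
  · intro y x φ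
    haveI := hF.isStronglyCartesian φ
    haveI := hG.isStronglyCartesian (F.map φ)
    exact Groth.Agent.S6414.result F G φ

end Groth.Agent.S6416
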