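import Groth.Statements.S3082
import Mathlib

set_option autoImplicit false
universe u
open scoped TensorProduct
open CategoryTheory
open SGA4

namespace Groth.Agent.S3082

/-- Let (C, J) be a small site and G a set of objects of C such that each object of C has a covering
family whose members all lie in G. Then the sheafifications of the presheaves represented by the
members of G form a detecting family in the category Sh(C, J) of set-valued sheaves on (C, J): any
morphism of sheaves that is bijective on sections over each member of G is an isomorphism. -/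
theorem result {C : Type u} [SmallCategory C] (J : GrothendieckTopology C) (G : Set C)
    (hG : ∀ X : C, ∃ (ι : Type u) (Y : ι → C) (f : ∀ i, Y i ⟶ X), Sieve.ofArrows Y f ∈ J X ∧ ∀ i, Y i ∈ G) :
    (ObjectProperty.ofObj fun X : G => (presheafToSheaf J (Type u)).obj (yoneda.obj (X : C))).IsDetecting := by
  intro A B f hf
  let adj := sheafificationAdjunction J (Type u)
  let e : ∀ (Z : C) (S : Sheaf J (Type u)),
      ((presheafToSheaf J (Type u)).obj (yoneda.obj Z) ⟶ S) ≃ S.obj.obj (Opposite.op Z) :=
    fun Z S => (adj.homEquiv (yoneda.obj Z) S).trans yonedaEquiv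
  have he : ∀ (Z : C) (φ : (presheafToSheaf J (Type u)).obj (yoneda.obj Z) ⟶ A),
      e Z B (φ ≫ f) = f.hom.app (Opposite.op Z) (e Z A φ) := by
    intro Z φ
    simp only [e, Equiv.trans_apply]
    rw [adj.homEquiv_naturality_right, yonedaEquiv_comp]
    rfl
  have hA : Presieve.IsSheaf J A.obj := (isSheaf_iff_isSheaf_of_type J A.obj).1 A.property
  have hB : Presieve.IsSheaf J B.obj := (isSheaf_iff_isSheaf_of_type J B.obj).1 B.property
  -- bijectivity on members of `G`
  have hbij : ∀ X : C, X ∈ G → Function.Bijective (f.hom.app (Opposite.op X)) := by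
    intro X hX
    have h1 := hf _ (ObjectProperty.ofObj_apply
      (fun X : G => (presheafToSheaf J (Type u)).obj (yoneda.obj (X : C))) ⟨X, hX⟩)
    constructor
    · intro x x' hxx'
      have h2 := (h1 ((e X B).symm (f.hom.app _ x))).unique
        (y₁ := (e X A).symm x) (y₂ := (e X A).symm x')
        (by apply (e X B).injective; rw [he]; simp)
        (by apply (e X B).injective; rw [he, hxx']; simp)
      simpa using h2
    · intro y
      obtain ⟨h', hh', -⟩ := h1 ((e X B).symm y)
      refine ⟨e X A h', ?_⟩
      rw [← he, hh', Equiv.apply_symm_apply]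
  have hnat : ∀ {X Y : C} (g : Y ⟶ X) (x : A.obj.obj (Opposite.op X)),
      f.hom.app (Opposite.op Y) (A.obj.map g.op x) = B.obj.map g.op (f.hom.app (Opposite.op X) x) :=
    fun g x => ConcreteCategory.congr_hom (f.hom.naturality g.op) x
  -- injectivity everywhere
  have hinj : ∀ X : C, Function.Injective (f.hom.app (Opposite.op X)) := by
    intro X x x' hxx'
    obtain ⟨ι, Y, s, hcov, hY⟩ := hG X
    refine (hA _ hcov).isSeparatedFor.ext ?_
    intro Z g hg
    obtain ⟨i, q, rfl⟩ := (Sieve.mem_ofArrows_iff Y s g).1 hg
    rw [op_comp, Functor.map_comp]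
    change A.obj.map q.op (A.obj.map (s i).op x) = A.obj.map q.op (A.obj.map (s i).op x')
    congr 1
    apply (hbij (Y i) (hY i)).1
    rw [hnat, hnat, hxx']
  -- surjectivity everywhere
  have hsurj : ∀ X : C, Function.Surjective (f.hom.app (Opposite.op X)) := by
    intro X y
    obtain ⟨ι, Y, s, hcov, hY⟩ := hG X
    have hsh : (Presieve.ofArrows Y s).IsSheafFor A.obj := by
      rw [Presieve.isSheafFor_iff_generate]
      exact hA _ hcov
    rw [Presieve.isSheafFor_arrows_iff] at hsh
    choose x hx using fun i => (hbij (Y i) (hY i)).2 (B.obj.map (s i).op y)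
    obtain ⟨t, ht, -⟩ := hsh x (by
      intro i j Z gi gj hcomm
      apply hinj Z
      rw [hnat, hnat, hx, hx]
      change (B.obj.map (s i).op ≫ B.obj.map gi.op) y = (B.obj.map (s j).op ≫ B.obj.map gj.op) y
      rw [← Functor.map_comp, ← Functor.map_comp, ← op_comp, ← op_comp, hcomm])
    refine ⟨t, ?_⟩
    refine (hB _ hcov).isSeparatedFor.ext ?_
    intro Z g hg
    obtain ⟨i, q, rfl⟩ := (Sieve.mem_ofArrows_iff Y s g).1 hg
    rw [op_comp, Functor.map_comp]
    change B.obj.map q.op (B.obj.map (s i).op (f.hom.app _ t)) = B.obj.map q.op (B.obj.map (s i).op y)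
    congr 1
    rw [← hnat, ht, hx]
  have h1 : ∀ X : Cᵒᵖ, IsIso (f.hom.app X) := fun X =>
    (isIso_iff_bijective _).2 ⟨hinj X.unop, hsurj X.unop⟩
  have h2 : IsIso f.hom := NatIso.isIso_of_isIso_app _
  have h3 : IsIso ((sheafToPresheaf J (Type u)).map f) := h2
  exact isIso_of_reflects_iso f (sheafToPresheaf J (Type u))

end Groth.Agent.S3082
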