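import Groth.Statements.S6464
import Mathlib

set_option autoImplicit false
universe u v
open scoped TensorProduct
open CycAlg

namespace Groth.Agent.S6464

/-- Let (M, N, φ, ψ) be a 2-periodic complex over a ring R with M and N of finite length. Then its
cohomology modules have finite length and e_R(M, N, φ, ψ) = length_R(M) − length_R(N). (The case M =
N, where the conclusion reads e_R(M, φ, ψ) = 0, is the special case and is not restated.) -/
theorem result {R : Type u} [CommRing R] {M N : Type v} [AddCommGroup M] [Module R M] [AddCommGroup N] [Module R N] (φ : M →ₗ[R] N) (ψ : N →ₗ[R] M) (h : CycAlg.IsPeriodic φ ψ) (hM : Module.length R M < ⊤) (hN : Module.length R N < ⊤) : CycAlg.FinCoh R φ ψ ∧ CycAlg.herbrand R φ ψ = ((Module.length R M).toNat : ℤ) - ((Module.length R N).toNat : ℤ) := by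
  obtain ⟨h1, h2⟩ := h
  have aux : ∀ {X Y : Type v} [AddCommGroup X] [Module R X] [AddCommGroup Y] [Module R Y]
      (f : X →ₗ[R] Y), Module.length R X =
        Module.length R (LinearMap.ker f) + Module.length R (LinearMap.range f) := by
    intro X Y _ _ _ _ f
    refine Module.length_eq_add_of_exact (LinearMap.ker f).subtype f.rangeRestrict
      (Submodule.injective_subtype _) f.surjective_rangeRestrict ?_
    intro x
    constructor
    · intro hx
      have : f x = 0 := congrArg Subtype.val hx
      exact ⟨⟨x, this⟩, rfl⟩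
    · rintro ⟨y, rfl⟩
      apply Subtype.ext
      exact y.2
  have aux2 : ∀ {X Y : Type v} [AddCommGroup X] [Module R X] [AddCommGroup Y] [Module R Y]
      (f : X →ₗ[R] Y) (g : Y →ₗ[R] X), f ∘ₗ g = 0 →
      Module.length R (LinearMap.ker f) =
        Module.length R (LinearMap.range g) + Module.length R (CycAlg.perH f g) := by
    intro X Y _ _ _ _ f g hfg
    have hle : LinearMap.range g ≤ LinearMap.ker f := by
      rintro _ ⟨y, rfl⟩
      exact LinearMap.congr_fun hfg y
    rw [← (Submodule.submoduleOfEquivOfLe hle).length_eq]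
    exact Module.length_eq_add_of_exact
      ((LinearMap.range g).submoduleOf (LinearMap.ker f)).subtype
      ((LinearMap.range g).submoduleOf (LinearMap.ker f)).mkQ
      (Submodule.injective_subtype _) (Submodule.mkQ_surjective _)
      (LinearMap.exact_subtype_mkQ _)
  have e1 := aux φ
  have e2 := aux ψ
  have e3 := aux2 φ ψ h1
  have e4 := aux2 ψ φ h2
  generalize Module.length R M = lM at *
  generalize Module.length R N = lN at *
  generalize Module.length R (LinearMap.ker φ) = k at *
  generalize Module.length R (LinearMap.ker ψ) = k' at *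
  generalize Module.length R (LinearMap.range φ) = rφ at *
  generalize Module.length R (LinearMap.range ψ) = rψ at *
  unfold CycAlg.FinCoh CycAlg.herbrand
  generalize Module.length R (CycAlg.perH φ ψ) = h0 at *
  generalize Module.length R (CycAlg.perH ψ φ) = h1' at *
  have hk : k ≠ ⊤ := ne_top_of_le_ne_top hM.ne (e1 ▸ le_self_add)
  have hrφ : rφ ≠ ⊤ := ne_top_of_le_ne_top hM.ne (e1 ▸ le_add_self)
  have hk' : k' ≠ ⊤ := ne_top_of_le_ne_top hN.ne (e2 ▸ le_self_add)
  have hrψ : rψ ≠ ⊤ := ne_top_of_le_ne_top hN.ne (e2 ▸ le_add_self)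
  have hh0 : h0 ≠ ⊤ := ne_top_of_le_ne_top hk (e3 ▸ le_add_self)
  have hh1 : h1' ≠ ⊤ := ne_top_of_le_ne_top hk' (e4 ▸ le_add_self)
  lift lM to ℕ using hM.ne
  lift lN to ℕ using hN.ne
  lift k to ℕ using hk
  lift k' to ℕ using hk'
  lift rφ to ℕ using hrφ
  lift rψ to ℕ using hrψ
  lift h0 to ℕ using hh0
  lift h1' to ℕ using hh1
  refine ⟨⟨ENat.natCast_lt_top _, ENat.natCast_lt_top _⟩, ?_⟩
  simp only [ENat.toNat_natCast]
  norm_cast at e1 e2 e3 e4
  omega

end Groth.Agent.S6464
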