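import Groth.Statements.S9264
import Mathlib

set_option autoImplicit false
universe u
attribute [local instance] HasDerivedCategory.standard
open CategoryTheory
open DerCA

namespace Groth.Agent.S9264


/-- The cohomology of the extended alternating Cech complex of a module M with respect to f_1, ..., f_r
vanishes in degrees outside [0, r]. -/
theorem result (R : Type u) [CommRing R] (fs : List R)
    (M : ModuleCat.{u} R) (q : ℤ) (hq : q < 0 ∨ (fs.length : ℤ) < q) :
    Limits.IsZero (DerCA.extCechH fs M q) := by

  have key : ∀ (fs : List R) (n : ℤ), (n < 0 ∨ (fs.length : ℤ) < n) →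
      Limits.IsZero ((DerCA.extCech M fs).X n) := by
    intro fs
    induction fs with
    | nil =>
      intro n hn
      have hn0 : n ≠ 0 := by
        rcases hn with h | h
        · omega
        · simp at h; omega
      exact HomologicalComplex.isZero_single_obj_X (ComplexShape.up ℤ) 0 M n hn0
    | cons f fs ih =>
      intro n hn
      have h1 : n < 0 ∨ (fs.length : ℤ) < n := by
        rcases hn with h | h
        · exact Or.inl h
        · right; simp at h; omega
      have h2 : n - 1 < 0 ∨ (fs.length : ℤ) < n - 1 := by
        rcases hn with h | h
        · left; omega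
        · right; simp at h; omega
      refine Limits.IsZero.of_iso ?_
        (DerCA.mappingCoconeXIso (DerCA.locCxUnit (Submonoid.powers f) (DerCA.extCech M fs)) n)
      have hz1 := ih n h1
      have hz2 : Limits.IsZero (((DerCA.locCx (Submonoid.powers f)).obj (DerCA.extCech M fs)).X (n - 1)) :=
        (DerCA.locFunctor (Submonoid.powers f)).map_isZero (ih (n - 1) h2)
      rw [Limits.IsZero.iff_id_eq_zero]
      apply Limits.biprod.hom_ext
      · rw [Category.id_comp, Limits.zero_comp]; exact hz1.eq_of_tgt _ _
      · rw [Category.id_comp, Limits.zero_comp]; exact hz2.eq_of_tgt _ _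
  exact ShortComplex.isZero_homology_of_isZero_X₂ _ (key fs q hq)

end Groth.Agent.S9264
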