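import Groth.Statements.S14451
import Mathlib
import Groth.Agent.Helper9.AdjExtMap
-- import your own Groth.Agent.* helpers here

set_option autoImplicit false
universe u
open CategoryTheory CategoryTheory.Limits AlgebraicGeometry
open EtCore

namespace Groth.Agent.S14451

/-- Let f : X ⟶ Y be a morphism of schemes and F an abelian sheaf on the small étale site of X whose
higher direct images R^q f_* F vanish for all q > 0. Then for every p the canonical map H^p(Y, f_*
F) → H^p(X, F) (pull back along f, then apply the counit f⁻¹ f_* F ⟶ F) is bijective. (Exactness of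
f⁻¹, which always holds, is carried as an instance hypothesis.) -/
theorem result {X Y : Scheme.{u}} (f : X ⟶ Y)
    [PreservesFiniteLimits (EtCoh.pull f)] (F : EtCoh.Ab X)
    (hR : ∀ q : ℕ, 0 < q → IsZero ((EtCoh.Rpush f q).obj F)) (p : ℕ) :
    Function.Bijective (EtLim.HofPush f F p) := by
  classical
  have hA : Groth.Agent.Helper9.AdjExtMap.Acyc (EtCoh.push f) F := fun q => hR (q + 1) (Nat.succ_pos q)
  have hφ := Groth.Agent.Helper9.AdjExtMap.bijective.{u + 1} (EtCoh.pullPushAdj f) p F hA
    ((constantSheaf Y.smallEtaleTopology AddCommGrpCat.{u + 1}).obj (AddCommGrpCat.of (ULift ℤ)))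
  have hpre : Function.Bijective (fun e : Abelian.Ext.{u + 1}
      ((EtCoh.pull f).obj ((constantSheaf Y.smallEtaleTopology AddCommGrpCat.{u + 1}).obj
        (AddCommGrpCat.of (ULift ℤ)))) F p =>
      (Abelian.Ext.mk₀ (EtCore.pullConst f ℤ).inv).comp e (zero_add p)) := by
    refine Function.bijective_iff_has_inverse.2
      ⟨fun e => (Abelian.Ext.mk₀ (EtCore.pullConst f ℤ).hom).comp e (zero_add p), ?_, ?_⟩
    · intro e
      show (Abelian.Ext.mk₀ _).comp ((Abelian.Ext.mk₀ _).comp e _) _ = e
      rw [← Abelian.Ext.comp_assoc_of_second_deg_zero, Abelian.Ext.mk₀_comp_mk₀,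
        Iso.hom_inv_id, Abelian.Ext.mk₀_id_comp]
    · intro e
      show (Abelian.Ext.mk₀ _).comp ((Abelian.Ext.mk₀ _).comp e _) _ = e
      rw [← Abelian.Ext.comp_assoc_of_second_deg_zero, Abelian.Ext.mk₀_comp_mk₀,
        Iso.inv_hom_id, Abelian.Ext.mk₀_id_comp]
  have key : ⇑(EtLim.HofPush f F p) = (fun e : Abelian.Ext.{u + 1}
      ((EtCoh.pull f).obj ((constantSheaf Y.smallEtaleTopology AddCommGrpCat.{u + 1}).obj
        (AddCommGrpCat.of (ULift ℤ)))) F p =>
      (Abelian.Ext.mk₀ (EtCore.pullConst f ℤ).inv).comp e (zero_add p)) ∘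
      (Groth.Agent.Helper9.AdjExtMap.φ.{u + 1} (EtCoh.pullPushAdj f) _ F p) := by
    funext ζ
    show ((Abelian.Ext.mk₀ (EtCore.pullConst f ℤ).inv).comp
      (ζ.mapExactFunctor (EtCoh.pull f)) (zero_add p)).comp
        (Abelian.Ext.mk₀ ((EtCoh.pullPushAdj f).counit.app F)) (add_zero p) = _
    rw [Abelian.Ext.comp_assoc_of_third_deg_zero]
    rfl
  rw [key]
  exact hpre.comp hφ

end Groth.Agent.S14451
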