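import Groth.Statements.S13607
import Mathlib

set_option autoImplicit false
open CategoryTheory CategoryTheory.Limits Opposite
universe w v u
open ARSys

namespace Groth.Agent.S13607

theorem killed_of_target {C : Type u} [Category.{v} C] [Abelian C] {A : Type w} [CommRing A]
    [Linear A C] (I : Ideal A) {P Q : C} (hQ : ARSys.KilledBy I Q) (φ : P ⟶ Q) :
    ARSys.HomKilledBy I φ := by
  intro a ha
  have h1 : a • φ = φ ≫ (a • 𝟙 Q) := by rw [Linear.comp_smul, Category.comp_id]
  rw [h1, hQ a ha, comp_zero]

theorem killed_mono {C : Type u} [Category.{v} C] [Abelian C] {A : Type w} [CommRing A]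
    [Linear A C] {I I' : Ideal A} (h : I' ≤ I) {Q : C} (hQ : ARSys.KilledBy I Q) :
    ARSys.KilledBy I' Q := fun a ha => hQ a (h ha)

theorem quot_cancel {C : Type u} [Category.{v} C] [Abelian C] {A : Type w} [CommRing A]
    [Linear A C] (I : Ideal A) {P Q T : C} (p : P ⟶ Q) (hp : ARSys.IsQuot I p)
    (hT : ARSys.KilledBy I T) (g₁ g₂ : Q ⟶ T) (h : p ≫ g₁ = p ≫ g₂) : g₁ = g₂ := by
  obtain ⟨ψ, _, hψ⟩ := hp.2 T (p ≫ g₁) (killed_of_target I hT _)
  rw [hψ g₁ rfl, hψ g₂ h.symm]

/-- In an abelian category linear over a commutative ring A with an ideal J, let X be a J-adic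
projective system indexed by the natural numbers and Y a projective system whose n-th term is killed
by J^(n+1) for every n. Then for every r, every morphism from the translate X[r] to Y factors
uniquely through the canonical translation map X[r] ⟶ X: there is exactly one morphism g : X ⟶ Y
whose n-th component, precomposed with the transition map X_(n+r) ⟶ X_n, is the n-th component of
the given morphism. In particular morphisms X ⟶ Y up to translation are the same as morphisms X ⟶ Y.
(The published statement is for systems of finitely generated modules over a Noetherian ring, and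
for systems of sheaves of modules on the small etale site; this row states it in any linear abelian
category, which is all the argument uses.) -/
theorem result {C : Type u} [Category.{v} C] [Abelian C] {A : Type w} [CommRing A] [Linear A C]
    (J : Ideal A) (X Y : ARSys.PS C) (hX : ARSys.IsAdic J X) (hY : ARSys.TermKilled J Y) (r : ℕ)
    (f : (ARSys.shift C r).obj X ⟶ Y) :
    ∃! g : X ⟶ Y, ∀ n : ℕ, f.app (op n) = ARSys.shiftMap X r n ≫ g.app (op n) := by
  obtain ⟨hXk, hXq⟩ := hX
  -- components
  have hex : ∀ n : ℕ, ∃! ψ : X.obj (op n) ⟶ Y.obj (op n),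
      ARSys.tr X (Nat.le_add_right n r) ≫ ψ = f.app (op n) := fun n =>
    (hXq n (n + r) (Nat.le_add_right n r)).2 _ (f.app (op n)) (killed_of_target _ (hY n) _)
  choose gg hgg hguniq using hex
  have hnat : ∀ (n m : ℕ) (h : n ≤ m), ARSys.tr X h ≫ gg n = gg m ≫ ARSys.tr Y h := by
    intro n m h
    have hYm : ARSys.KilledBy (J ^ (m + 1)) (Y.obj (op n)) :=
      killed_mono (Ideal.pow_le_pow_right (by omega)) (hY n)
    apply quot_cancel (J ^ (m + 1)) _ (hXq m (m + r) (Nat.le_add_right m r)) hYm
    have hggm : ARSys.tr X (Nat.le_add_right m r) ≫ gg m = f.app (op m) := hgg m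
    have hggn : ARSys.tr X (Nat.le_add_right n r) ≫ gg n = f.app (op n) := hgg n
    rw [← Category.assoc, ← Category.assoc, hggm]
    have hfn := f.naturality (homOfLE h).op
    have h1 : ARSys.tr X (Nat.le_add_right m r) ≫ ARSys.tr X h
        = ((ARSys.shift C r).obj X).map (homOfLE h).op ≫ ARSys.tr X (Nat.le_add_right n r) := by
      show X.map (homOfLE (Nat.le_add_right m r)).op ≫ X.map (homOfLE h).op
        = X.map (homOfLE (Nat.add_le_add_right h r)).op ≫ X.map (homOfLE (Nat.le_add_right n r)).op
      rw [← X.map_comp, ← X.map_comp]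
      rfl
    rw [h1]
    refine (Category.assoc _ _ _).trans ?_
    refine (congrArg (fun z => ((ARSys.shift C r).obj X).map (homOfLE h).op ≫ z) hggn).trans ?_
    exact hfn
  let g : X ⟶ Y :=
    { app := fun n => gg n.unop
      naturality := by
        intro a b φ
        have hle : b.unop ≤ a.unop := leOfHom φ.unop
        exact hnat b.unop a.unop hle }
  refine ⟨g, fun n => (hgg n).symm, ?_⟩
  intro g' hg'
  ext ⟨n⟩
  exact hguniq n (g'.app (op n)) (hg' n).symm

end Groth.Agent.S13607
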