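import Groth.Statements.S2172
import Groth.Agent.Helper6.GraphLap

set_option autoImplicit false
open Finset
open Models

namespace Groth.Agent.S2172

/-- Let A be a symmetric integer n by n matrix with non-negative off-diagonal entries killing an integer
vector m with positive entries, such that no proper non-empty index set is orthogonal to its
complement. Write e for the number of index pairs i < j where A i j > 0, and let l be a prime
dividing none of the nonzero entries of A and none of the m i. Then the l-torsion subgroup of the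
cokernel of A on Z^n has at most l^(1 - n + e) elements, i.e. F_l-dimension at most 1 - n + e (the
exponent is written with truncated subtraction; e + 1 is never smaller than n here). -/
theorem result {n : ℕ} (A : Matrix (Fin n) (Fin n) ℤ)
    (m : Fin n → ℤ) (hsymm : A.IsSymm) (hA : ∀ i j, i ≠ j → 0 ≤ A i j) (hm : ∀ i, 0 < m i)
    (hAm : A.mulVec m = 0)
    (hconn : ∀ I : Finset (Fin n), I.Nonempty → I ≠ univ → ∃ i ∈ I, ∃ j ∉ I, A i j ≠ 0)
    (ℓ : ℕ) (hℓ : ℓ.Prime) (hℓA : ∀ i j, A i j ≠ 0 → ¬ ((ℓ : ℤ) ∣ A i j))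
    (hℓm : ∀ i, ¬ ((ℓ : ℤ) ∣ m i)) :
    Nat.card (Submodule.torsionBy ℤ ((Fin n → ℤ) ⧸ LinearMap.range (Matrix.mulVecLin A)) (ℓ : ℤ))
      ≤ ℓ ^ ((univ.filter fun p : Fin n × Fin n => p.1 < p.2 ∧ 0 < A p.1 p.2).card + 1 - n) := by
  have : Fact ℓ.Prime := ⟨hℓ⟩
  rcases Nat.eq_zero_or_pos n with hn0 | hn
  · subst hn0
    have h1 : Nat.card (Submodule.torsionBy ℤ
        ((Fin 0 → ℤ) ⧸ LinearMap.range (Matrix.mulVecLin A)) (ℓ : ℤ)) ≤ 1 :=
      Finite.card_le_one_iff_subsingleton.2 inferInstance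
    exact h1.trans (Nat.one_le_pow _ _ hℓ.pos)
  · have h1 := Groth.Agent.Helper6.GraphLap.card_torsion_mul_le ℓ A m hAm hn hℓm
    have hcast : ∀ a : ℤ, ((a : ZMod ℓ) = 0) ↔ (ℓ : ℤ) ∣ a := fun a =>
      ZMod.intCast_zmod_eq_zero_iff_dvd a ℓ
    have hAmb : Matrix.mulVec (A.map (Int.cast : ℤ → ZMod ℓ)) (fun i => ((m i : ℤ) : ZMod ℓ)) = 0 := by
      rw [Groth.Agent.Helper6.GraphLap.map_cast_mulVec, hAm]
      funext i
      simp
    have h2 := Groth.Agent.Helper6.GraphLap.finrank_ker_add_le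
      (A.map (Int.cast : ℤ → ZMod ℓ)) (fun i => ((m i : ℤ) : ZMod ℓ))
      (fun p : Fin n × Fin n => p.1 < p.2 ∧ 0 < A p.1 p.2) hn (hsymm.map _)
      (fun i => by rw [Ne, hcast]; exact hℓm i) hAmb
      (fun a b h => h.1)
      (fun a b h => by
        rw [Matrix.map_apply, Ne, hcast]
        exact hℓA a b (ne_of_gt h.2))
      (fun a b hab hP => by
        have h3 : ¬ 0 < A a b := fun h => hP ⟨hab, h⟩
        have h4 : A a b = 0 := le_antisymm (not_lt.1 h3) (hA a b (ne_of_lt hab))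
        rw [Matrix.map_apply, h4, Int.cast_zero])
      (fun u hu => Groth.Agent.Helper6.GraphLap.const_of_edges A hsymm hA hconn u
        (fun a b hab hpos => hu a b ⟨hab, hpos⟩))
    obtain ⟨E, hE⟩ : ∃ E, E = (univ.filter fun p : Fin n × Fin n =>
      p.1 < p.2 ∧ 0 < A p.1 p.2).card := ⟨_, rfl⟩
    obtain ⟨d, hd⟩ : ∃ d, d = Module.finrank (ZMod ℓ)
      (LinearMap.ker (A.map (Int.cast : ℤ → ZMod ℓ)).mulVecLin) := ⟨_, rfl⟩
    rw [← hE] at h2 ⊢
    rw [← hd] at h1 h2
    have h3 : d ≤ (E + 1 - n) + 1 := by omega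
    have h4 : ℓ ^ d ≤ ℓ ^ (E + 1 - n) * ℓ := by
      rw [← pow_succ]
      exact Nat.pow_le_pow_right hℓ.pos h3
    exact Nat.le_of_mul_le_mul_right (h1.trans h4) hℓ.pos

end Groth.Agent.S2172
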