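import Groth.Statements.S2179
import Groth.Agent.Helper1.Models

set_option autoImplicit false
open Finset
open Models Models.NumericalType

namespace Groth.Agent.S2179

/-- For a numerical type T, the map Z^n -> Z^n multiplying the i-th coordinate by w i induces a
well-defined injective homomorphism from Pic(T), the cokernel of (a i j / w i), to the cokernel of
the matrix a. -/
theorem result {n : ℕ} (T : Models.NumericalType n) :
    ∃ f : T.Pic →+ T.CokerA, Function.Injective f ∧
      ∀ x : Fin n → ℤ, f (Submodule.Quotient.mk x) = Submodule.Quotient.mk (fun i => T.w i * x i) := by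
  classical
  -- multiplication by w
  let W : (Fin n → ℤ) →ₗ[ℤ] (Fin n → ℤ) :=
    { toFun := fun x i => T.w i * x i
      map_add' := by intro x y; ext i; simp [mul_add]
      map_smul' := by intro c x; ext i; simp; ring }
  have hW : ∀ x i, W x i = T.w i * x i := fun x i => rfl
  have key : ∀ y : Fin n → ℤ, W (T.picMatrix.mulVec y) = T.a.mulVec y := by
    intro y
    ext i
    rw [hW]
    simp only [Matrix.mulVec, dotProduct, Models.NumericalType.picMatrix]
    rw [Finset.mul_sum]
    apply Finset.sum_congr rfl
    intro j _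
    rw [← mul_assoc, Int.mul_ediv_cancel' (T.w_dvd i j)]
  have hle : LinearMap.range (Matrix.mulVecLin T.picMatrix) ≤
      (LinearMap.range (Matrix.mulVecLin T.a)).comap W := by
    rintro _ ⟨y, rfl⟩
    simp only [Submodule.mem_comap, Matrix.mulVecLin_apply, LinearMap.mem_range]
    exact ⟨y, (key y).symm⟩
  let f : T.Pic →ₗ[ℤ] T.CokerA := Submodule.mapQ _ _ W hle
  refine ⟨f.toAddMonoidHom, ?_, ?_⟩
  · rw [injective_iff_map_eq_zero]
    intro x hx
    obtain ⟨x, rfl⟩ := Submodule.Quotient.mk_surjective _ x
    have hx' : (Submodule.Quotient.mk (W x) : T.CokerA) = 0 := hx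
    rw [Submodule.Quotient.mk_eq_zero] at hx' ⊢
    obtain ⟨y, hy⟩ := hx'
    refine ⟨y, ?_⟩
    simp only [Matrix.mulVecLin_apply] at hy ⊢
    ext i
    have h1 : W (T.picMatrix.mulVec y) i = W x i := by rw [key, hy]
    rw [hW, hW] at h1
    exact mul_left_cancel₀ (T.w_pos i).ne' h1
  · intro x
    rfl

end Groth.Agent.S2179
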