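import Groth.Statements.S19560
import Mathlib
-- import your own Groth.Agent.* helpers here

set_option autoImplicit false
universe u
open W4c1limliniiii

namespace Groth.Agent.S19560

open Polynomial in
/-- Let k be an algebraically closed field of characteristic p (a prime or zero) and let F, G be
polynomials spanning a base-point-free pencil V of degree d (a two-dimensional space of polynomials
of degree at most d containing one of degree d and with no common zero in k), so that V encodes a
degree-d self-map F/G of the projective line up to automorphisms of the target. Suppose the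
Wronskian W = F′G − FG′ is non-zero and vanishes at the point a to order exactly e − 1 with e ≥ 1,
and that p = 0 or e − 1 < p. Then the map is tamely ramified at a with index e: the largest order of
vanishing at a of a non-zero member of V is e, and p does not divide e. (The hypothesis W ≠ 0 makes
the order of vanishing meaningful; for W = 0 the map is inseparable.) -/
theorem result
    (k : Type u) [Field k] [IsAlgClosed k] (p : ℕ) [CharP k p]
    (d : ℕ) (F G : k[X]) (hV : W4c1limliniiii.IsPencil d (Submodule.span k {F, G}))
    (hW : Polynomial.wronskian F G ≠ 0) (a : k) (e : ℕ)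
    (he : (Polynomial.wronskian F G).rootMultiplicity a + 1 = e) (hp : p = 0 ∨ e - 1 < p) :
    W4c1limliniiii.HasRamIdx (Submodule.span k {F, G}) a e ∧ ¬ p ∣ e := by
  classical
  obtain ⟨_, hfin, _, hbpf⟩ := hV
  obtain ⟨s0, hs0V, hs0a⟩ := hbpf a
  obtain ⟨α, β, rfl⟩ := Submodule.mem_span_pair.mp hs0V
  -- the member vanishing at a
  obtain ⟨s1, hs1⟩ : ∃ s1 : Polynomial k, s1 = Polynomial.C (G.eval a) * F - Polynomial.C (F.eval a) * G :=
    ⟨_, rfl⟩
  have hs1V : s1 ∈ Submodule.span k ({F, G} : Set (Polynomial k)) := by
    rw [hs1, ← Polynomial.smul_eq_C_mul, ← Polynomial.smul_eq_C_mul]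
    exact Submodule.sub_mem _ (Submodule.smul_mem _ _ (Submodule.subset_span (by simp)))
      (Submodule.smul_mem _ _ (Submodule.subset_span (by simp)))
  have hs1a : s1.eval a = 0 := by
    rw [hs1]
    simp only [Polynomial.eval_sub, Polynomial.eval_mul, Polynomial.eval_C]
    ring
  have hs0a' : α * F.eval a + β * G.eval a ≠ 0 := by
    simpa [Polynomial.eval_add, Polynomial.eval_smul] using hs0a
  have hW01 : Polynomial.wronskian (α • F + β • G) s1 =
      Polynomial.C (-(α * F.eval a + β * G.eval a)) * Polynomial.wronskian F G := by
    rw [hs1]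
    unfold Polynomial.wronskian
    simp only [Polynomial.smul_eq_C_mul, Polynomial.derivative_add, Polynomial.derivative_sub,
      Polynomial.derivative_C_mul, Polynomial.C_neg, Polynomial.C_add, Polynomial.C_mul]
    ring
  have hCne : Polynomial.C (-(α * F.eval a + β * G.eval a)) ≠ 0 :=
    Polynomial.C_ne_zero.mpr (neg_ne_zero.mpr hs0a')
  have hW01ne : Polynomial.wronskian (α • F + β • G) s1 ≠ 0 := by
    rw [hW01]
    exact mul_ne_zero hCne hW
  have hs1ne : s1 ≠ 0 := by
    intro h
    rw [h, Polynomial.wronskian_zero_right] at hW01ne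
    exact hW01ne rfl
  have hrm : Polynomial.rootMultiplicity a (Polynomial.wronskian (α • F + β • G) s1) = e - 1 := by
    rw [hW01, Polynomial.rootMultiplicity_mul (mul_ne_zero hCne hW), Polynomial.rootMultiplicity_C,
      zero_add]
    omega
  obtain ⟨m, hm⟩ : ∃ m, m = Polynomial.rootMultiplicity a s1 := ⟨_, rfl⟩
  have hm1 : 1 ≤ m := by
    rw [hm]
    exact (Polynomial.rootMultiplicity_pos hs1ne).mpr hs1a
  obtain ⟨q, hq, hqnd⟩ := s1.exists_eq_pow_rootMultiplicity_mul_and_not_dvd hs1ne a
  rw [← hm] at hq
  have hqa : q.eval a ≠ 0 := by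
    rw [Polynomial.dvd_iff_isRoot] at hqnd
    exact hqnd
  obtain ⟨m', hm'⟩ : ∃ m', m = m' + 1 := ⟨m - 1, by omega⟩
  have hder : Polynomial.derivative s1 = (Polynomial.X - Polynomial.C a) ^ m' *
      (Polynomial.C (m : k) * q + (Polynomial.X - Polynomial.C a) * Polynomial.derivative q) := by
    rw [hq, Polynomial.derivative_mul, Polynomial.derivative_X_sub_C_pow, hm', Nat.add_sub_cancel]
    ring
  have hkey : Polynomial.wronskian (α • F + β • G) s1 = (Polynomial.X - Polynomial.C a) ^ m' *
      (Polynomial.C (m : k) * ((α • F + β • G) * q) + (Polynomial.X - Polynomial.C a) *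
        ((α • F + β • G) * Polynomial.derivative q - Polynomial.derivative (α • F + β • G) * q)) := by
    have hpow : (Polynomial.X - Polynomial.C a) ^ m =
        (Polynomial.X - Polynomial.C a) ^ m' * (Polynomial.X - Polynomial.C a) := by
      rw [hm', pow_succ]
    unfold Polynomial.wronskian
    rw [hder]
    conv_lhs => rw [hq, hpow]
    ring
  have hmk : (m : k) ≠ 0 := by
    intro hmk0
    have hdvd : (Polynomial.X - Polynomial.C a) ^ m ∣ Polynomial.wronskian (α • F + β • G) s1 := by
      have hpow : (Polynomial.X - Polynomial.C a) ^ m =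
          (Polynomial.X - Polynomial.C a) ^ m' * (Polynomial.X - Polynomial.C a) := by
        rw [hm', pow_succ]
      rw [hkey, hmk0, Polynomial.C_0, zero_mul, zero_add, hpow]
      exact mul_dvd_mul_left _ (dvd_mul_right _ _)
    have hle := (Polynomial.le_rootMultiplicity_iff hW01ne).mpr hdvd
    rw [hrm] at hle
    have hpm : p ∣ m := (CharP.cast_eq_zero_iff k p m).mp hmk0
    rcases hp with hp0 | hp1
    · rw [hp0, zero_dvd_iff] at hpm
      omega
    · have := Nat.le_of_dvd (by omega) hpm
      omega
  have hme : m = e := by
    have hu : (Polynomial.C (m : k) * ((α • F + β • G) * q) + (Polynomial.X - Polynomial.C a) *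
        ((α • F + β • G) * Polynomial.derivative q - Polynomial.derivative (α • F + β • G) * q)).eval a
        ≠ 0 := by
      rw [Polynomial.eval_add, Polynomial.eval_mul, Polynomial.eval_C, Polynomial.eval_mul,
        Polynomial.eval_mul (p := Polynomial.X - Polynomial.C a), Polynomial.eval_sub (p := Polynomial.X),
        Polynomial.eval_X, Polynomial.eval_C, sub_self, zero_mul, add_zero]
      exact mul_ne_zero hmk (mul_ne_zero hs0a hqa)
    have h1 := hrm
    rw [hkey, Polynomial.rootMultiplicity_mul (by rw [← hkey]; exact hW01ne),
      Polynomial.rootMultiplicity_X_sub_C_pow, Polynomial.rootMultiplicity_eq_zero hu] at h1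
    omega
  refine ⟨⟨⟨s1, hs1V, hs1ne, by rw [← hm, hme]⟩, ?_⟩, ?_⟩
  · intro s hsV hs0
    by_cases hsa : s.eval a = 0
    · obtain ⟨lam, mu, rfl⟩ := Submodule.mem_span_pair.mp hsV
      have hrel : lam * F.eval a + mu * G.eval a = 0 := by
        simpa [Polynomial.eval_add, Polynomial.eval_smul] using hsa
      have e1 : Polynomial.C (F.eval a) * (lam • F + mu • G) = Polynomial.C (-mu) * s1 := by
        rw [hs1]
        simp only [Polynomial.smul_eq_C_mul]
        have : Polynomial.C lam * Polynomial.C (F.eval a) = - (Polynomial.C mu * Polynomial.C (G.eval a)) := by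
          rw [← Polynomial.C_mul, ← Polynomial.C_mul, ← Polynomial.C_neg]
          congr 1
          linear_combination hrel
        rw [Polynomial.C_neg]
        linear_combination F * this
      have e2 : Polynomial.C (G.eval a) * (lam • F + mu • G) = Polynomial.C lam * s1 := by
        rw [hs1]
        simp only [Polynomial.smul_eq_C_mul]
        have : Polynomial.C lam * Polynomial.C (F.eval a) = - (Polynomial.C mu * Polynomial.C (G.eval a)) := by
          rw [← Polynomial.C_mul, ← Polynomial.C_mul, ← Polynomial.C_neg]
          congr 1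
          linear_combination hrel
        linear_combination G * this
      have hFG : F.eval a ≠ 0 ∨ G.eval a ≠ 0 := by
        by_contra hcon
        push Not at hcon
        apply hs0a'
        rw [hcon.1, hcon.2]
        ring
      have hrmeq : ∀ (c c' : k), c ≠ 0 → Polynomial.C c * (lam • F + mu • G) = Polynomial.C c' * s1 →
          Polynomial.rootMultiplicity a (lam • F + mu • G) = m := by
        intro c c' hc hcc'
        have hc' : c' ≠ 0 := by
          rintro rfl
          rw [Polynomial.C_0, zero_mul] at hcc'
          rcases mul_eq_zero.mp hcc' with h | h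
          · exact hc (Polynomial.C_eq_zero.mp h)
          · exact hs0 h
        have h1 : Polynomial.rootMultiplicity a (Polynomial.C c * (lam • F + mu • G)) =
            Polynomial.rootMultiplicity a (Polynomial.C c' * s1) := by rw [hcc']
        rw [Polynomial.rootMultiplicity_mul (mul_ne_zero (Polynomial.C_ne_zero.mpr hc) hs0),
          Polynomial.rootMultiplicity_mul (mul_ne_zero (Polynomial.C_ne_zero.mpr hc') hs1ne),
          Polynomial.rootMultiplicity_C, Polynomial.rootMultiplicity_C, zero_add, zero_add] at h1
        rw [h1, hm]
      rcases hFG with h | h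
      · rw [hrmeq _ _ h e1, hme]
      · rw [hrmeq _ _ h e2, hme]
    · rw [Polynomial.rootMultiplicity_eq_zero hsa]
      exact Nat.zero_le _
  · rw [← hme]
    intro hpm
    exact hmk ((CharP.cast_eq_zero_iff k p m).mpr hpm)

end Groth.Agent.S19560
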