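import Groth.Statements.S13045
import Mathlib

set_option autoImplicit false
universe u
open FrobAlg

namespace Groth.Agent.S13045

open TensorProduct in
theorem pi_lTensor_injective_free {R : Type u} [CommRing R] {ι : Type} (T : ι → Type u)
    [∀ i, AddCommGroup (T i)] [∀ i, Module R (T i)] (J : Type u) :
    Function.Injective (LinearMap.pi fun i =>
      LinearMap.lTensor (J →₀ R) (LinearMap.proj i : (Π i, T i) →ₗ[R] T i)) := by
  classical
  rw [injective_iff_map_eq_zero]
  intro x hx
  have hxi : ∀ i, LinearMap.lTensor (J →₀ R) (LinearMap.proj i : (Π i, T i) →ₗ[R] T i) x = 0 := by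
    intro i
    have := congrFun hx i
    simpa using this
  have key : ∀ (x : (J →₀ R) ⊗[R] (Π i, T i)) (j : J) (i : ι),
      (TensorProduct.finsuppScalarLeft R (Π i, T i) J x j) i
        = TensorProduct.finsuppScalarLeft R (T i) J
            (LinearMap.lTensor (J →₀ R) (LinearMap.proj i : (Π i, T i) →ₗ[R] T i) x) j := by
    intro x j i
    induction x using TensorProduct.induction_on with
    | zero => simp
    | tmul p n => simp
    | add a b ha hb => simp only [map_add, Finsupp.add_apply, Pi.add_apply, ha, hb]
  apply (TensorProduct.finsuppScalarLeft R (Π i, T i) J).injective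
  rw [map_zero]
  ext j i
  rw [key, hxi]
  simp

open TensorProduct in
theorem pi_lTensor_injective {R : Type u} [CommRing R] {ι : Type} (T : ι → Type u)
    [∀ i, AddCommGroup (T i)] [∀ i, Module R (T i)]
    (M : Type u) [AddCommGroup M] [Module R M] [Module.Projective R M] :
    Function.Injective (LinearMap.pi fun i =>
      LinearMap.lTensor M (LinearMap.proj i : (Π i, T i) →ₗ[R] T i)) := by
  obtain ⟨s, hs⟩ := (Module.projective_def' (R := R) (P := M)).mp inferInstance
  rw [injective_iff_map_eq_zero]
  intro x hx
  have hxi : ∀ i, LinearMap.lTensor M (LinearMap.proj i : (Π i, T i) →ₗ[R] T i) x = 0 := by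
    intro i
    have := congrFun hx i
    simpa using this
  have h1 : LinearMap.rTensor (Π i, T i) s x = 0 := by
    apply pi_lTensor_injective_free T M
    rw [map_zero]
    funext i
    simp only [LinearMap.pi_apply, Pi.zero_apply]
    rw [← LinearMap.comp_apply, LinearMap.lTensor_comp_rTensor, ← LinearMap.rTensor_comp_lTensor,
      LinearMap.comp_apply, hxi, map_zero]
  have h2 : LinearMap.rTensor (Π i, T i) (Finsupp.linearCombination R id) (LinearMap.rTensor (Π i, T i) s x) = x := by
    rw [← LinearMap.comp_apply, ← LinearMap.rTensor_comp, hs, LinearMap.rTensor_id, LinearMap.id_apply]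
  rw [← h2, h1, map_zero]

open TensorProduct in
/-- Let p be a prime, R a commutative ring of characteristic p and A a commutative R-algebra of
characteristic p, with Frobenius twists A^{p^i/R} = R ⊗_{F^i,R} A, relative Frobenius maps F_i :
A^{p^{i+1}/R} → A^{p^i/R} and preperfection A^{p^∞/R} = lim_i A^{p^i/R} ⊆ Π_i A^{p^i/R}. For every
projective R-module M the natural map M ⊗_R A^{p^∞/R} → Π_i (M ⊗_R A^{p^i/R}), m ⊗ x ↦ (m ⊗ x_i)_i,
is injective; in particular the base change map M ⊗_R lim_i A^{p^i/R} → lim_i (M ⊗_R A^{p^i/R}) is
injective. (The published statement is phrased for a projective R-algebra R′ in place of M; the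
printed argument is the module statement given here.) -/
theorem result
    (p : ℕ) [Fact p.Prime] (R : Type u) [CommRing R] [CharP R p]
    (A : Type u) [CommRing A] [Algebra R A] [CharP A p]
    (M : Type u) [AddCommGroup M] [Module R M] [Module.Projective R M] :
    Function.Injective
      (LinearMap.pi fun i : ℕ =>
        LinearMap.lTensor M
          (((Pi.evalAlgHom R (fun k => W4c1imperftorsors.Twist p R A k) i).comp
            (W4c1imperftorsors.prePerf p R A).val).toLinearMap) :
        M ⊗[R] ↥(W4c1imperftorsors.prePerf p R A) →ₗ[R] (Π i : ℕ, M ⊗[R] W4c1imperftorsors.Twist p R A i)) := by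
  have hflat : Function.Injective (LinearMap.lTensor M
      ((W4c1imperftorsors.prePerf p R A).val.toLinearMap)) :=
    Module.Flat.lTensor_preserves_injective_linearMap _ Subtype.val_injective
  have hpi := pi_lTensor_injective (R := R) (fun k => W4c1imperftorsors.Twist p R A k) M
  have heq : (LinearMap.pi fun i : ℕ =>
        LinearMap.lTensor M
          (((Pi.evalAlgHom R (fun k => W4c1imperftorsors.Twist p R A k) i).comp
            (W4c1imperftorsors.prePerf p R A).val).toLinearMap) :
        M ⊗[R] ↥(W4c1imperftorsors.prePerf p R A) →ₗ[R] (Π i : ℕ, M ⊗[R] W4c1imperftorsors.Twist p R A i))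
      = (LinearMap.pi fun i => LinearMap.lTensor M
          (LinearMap.proj i : (Π i, W4c1imperftorsors.Twist p R A i) →ₗ[R] _)) ∘ₗ
        (LinearMap.lTensor M ((W4c1imperftorsors.prePerf p R A).val.toLinearMap)) := by
    apply LinearMap.ext
    intro x
    funext i
    simp only [LinearMap.pi_apply, LinearMap.comp_apply]
    rw [← LinearMap.comp_apply, ← LinearMap.lTensor_comp]
    rfl
  rw [heq]
  exact hpi.comp hflat

end Groth.Agent.S13045
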