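import Groth.Statements.S12123
import Mathlib

set_option autoImplicit false
universe u
open EGA41

namespace Groth.Agent.S12123

theorem isClopen_of_compact_open {X : Type*} [TopologicalSpace X] {U : Set X} (hU : IsOpen U) (hc : IsCompact U) :
    IsClopen ((WithTopology.ofTopology : WithConstructibleTopology X → X) ⁻¹' U) := by
  constructor
  · rw [← isOpen_compl_iff, WithConstructibleTopology.isOpen_iff]
    have : IsCompact (Uᶜ)ᶜ := by rwa [compl_compl]
    exact IsCompact.isOpen_constructibleTopology_of_isClosed this hU.isClosed_compl
  · rw [WithConstructibleTopology.isOpen_iff]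
    exact IsCompact.isOpen_constructibleTopology_of_isOpen hc hU

open AlgebraicGeometry in
theorem exists_clopen_sep (X : Scheme.{u}) (x y : WithConstructibleTopology X) (hxy : x ≠ y) :
    ∃ U : Set (WithConstructibleTopology X), IsClopen U ∧ x ∈ U ∧ y ∈ Uᶜ := by
  have hne : x.ofTopology ≠ y.ofTopology := fun h => hxy (WithTopology.ofTopology_injective _ h)
  have key : ∀ a b : X, ∀ U : Set X, IsOpen U → a ∈ U → b ∉ U →
      ∃ V : Set X, IsOpen V ∧ IsCompact V ∧ a ∈ V ∧ b ∉ V := by
    intro a b U hU ha hb
    obtain ⟨V, hV, haV, hVU⟩ := (TopologicalSpace.Opens.isBasis_iff_nbhd.1 X.isBasis_affineOpens)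
      (show a ∈ (⟨U, hU⟩ : X.Opens) from ha)
    exact ⟨V, V.isOpen, (show IsAffineOpen V from hV).isCompact, haV, fun h => hb (hVU h)⟩
  obtain ⟨U, hU, hx⟩ := exists_isOpen_xor'_mem hne
  rcases hx with ⟨h1, h2⟩ | ⟨h1, h2⟩
  · obtain ⟨V, hV, hVc, ha, hb⟩ := key _ _ U hU h1 h2
    exact ⟨_, isClopen_of_compact_open hV hVc, ha, hb⟩
  · obtain ⟨V, hV, hVc, ha, hb⟩ := key _ _ U hU h1 h2
    refine ⟨_, (isClopen_of_compact_open hV hVc).compl, hb, ?_⟩
    rw [compl_compl]
    exact ha

open AlgebraicGeometry Topology in
/-- Let X be a quasi-separated scheme and X^cons its underlying set with the constructible topology,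
generated by the quasi-compact open subsets and their complements (for X quasi-separated this is the
topology whose open sets are the ind-constructible subsets). Then X^cons is a Hausdorff, locally
compact, totally disconnected space. (The published statement also asserts that X^cons is Hausdorff
only if X is quasi-separated; for the topology used here that converse fails when X is not
quasi-separated, where the two constructible topologies differ, so it is not part of this row.) -/
theorem result (X : Scheme.{u}) [QuasiSeparatedSpace X] :
    T2Space (WithConstructibleTopology X) ∧ LocallyCompactSpace (WithConstructibleTopology X) ∧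
      TotallyDisconnectedSpace (WithConstructibleTopology X) := by
  have hsep := exists_clopen_sep X
  haveI hT2 : T2Space (WithConstructibleTopology X) := by
    refine ⟨fun x y hxy => ?_⟩
    obtain ⟨U, hU, hx, hy⟩ := hsep x y hxy
    exact ⟨U, Uᶜ, hU.2, hU.1.isOpen_compl, hx, hy, disjoint_compl_right⟩
  haveI hTS : TotallySeparatedSpace (WithConstructibleTopology X) :=
    totallySeparatedSpace_iff_exists_isClopen.2 hsep
  haveI hW : WeaklyLocallyCompactSpace (WithConstructibleTopology X) := by
    refine ⟨fun x => ?_⟩
    obtain ⟨V, hV, hxV, -⟩ := (TopologicalSpace.Opens.isBasis_iff_nbhd.1 X.isBasis_affineOpens)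
      (show x.ofTopology ∈ (⊤ : X.Opens) from trivial)
    have hVaff : IsAffineOpen V := hV
    refine ⟨(WithTopology.ofTopology : WithConstructibleTopology X → X) ⁻¹' V, ?_,
      (isClopen_of_compact_open V.isOpen hVaff.isCompact).2.mem_nhds hxV⟩
    haveI : IsAffine (V : Scheme.{u}) := hVaff
    let f : WithConstructibleTopology (V : Scheme.{u}) → X := fun z => (z.ofTopology : V).1
    have hf : Continuous[_, constructibleTopology X] f := by
      rw [continuous_generateFrom_iff]
      intro b hb
      have hqc : ∀ W : Set X, IsOpen W → IsCompact W →
          IsClopen ((WithTopology.ofTopology : WithConstructibleTopology (V : Scheme.{u}) → V) ⁻¹'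
            ((Subtype.val : V → X) ⁻¹' W)) := by
        intro W hW hWc
        apply isClopen_of_compact_open (hW.preimage continuous_subtype_val)
        have h1 : IsCompact ((V : Set X) ∩ W) :=
          QuasiSeparatedSpace.inter_isCompact _ _ V.isOpen hVaff.isCompact hW hWc
        rw [Topology.IsInducing.subtypeVal.isCompact_iff]
        convert h1 using 1
        ext z
        simp only [Set.mem_image, Set.mem_preimage, Subtype.exists, exists_and_right, exists_eq_right,
          Set.mem_inter_iff, SetLike.mem_coe]
        constructor
        · rintro ⟨h, hz⟩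
          exact ⟨h, hz⟩
        · rintro ⟨h, hz⟩
          exact ⟨h, hz⟩
      rcases hb with hb | hb
      · exact (hqc b hb.1 hb.2).2
      · have := (hqc bᶜ hb.1.isOpen_compl hb.2).1.isOpen_compl
        convert this using 1
        ext z
        constructor
        · intro h h'
          exact h' h
        · intro h
          by_contra h'
          exact h h'
    have hj : Continuous (fun z => WithTopology.toTopology (constructibleTopology X) (f z)) :=
      @Continuous.comp _ _ _ _ (constructibleTopology X) _ _ _
        (WithTopology.continuous_toTopology (constructibleTopology X)) hf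
    have hr : (WithTopology.ofTopology : WithConstructibleTopology X → X) ⁻¹' V =
        Set.range (fun z => WithTopology.toTopology (constructibleTopology X) (f z)) := by
      ext z
      constructor
      · intro hz
        exact ⟨WithTopology.toTopology _ ⟨z.ofTopology, hz⟩, rfl⟩
      · rintro ⟨w, rfl⟩
        exact (w.ofTopology : V).2
    rw [hr]
    exact isCompact_range hj
  exact ⟨hT2, inferInstance, inferInstance⟩

end Groth.Agent.S12123
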