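import Groth.Statements.S12807
import Mathlib

set_option autoImplicit false
open CategoryTheory CategoryTheory.Limits
universe v₃ u₃ v₂ u₂ v u
open FibCat

namespace Groth.Agent.S12807

/-- Let `u : C ⥤ D` be a functor and `𝒮` a category over `D` whose structure functor is a fibred
category. Then the 2-fibre product `C ×_D 𝒮` of `u` and the structure functor (triples `(U, y, u U ≅
p y)`), with its first projection, is a fibred category over `C`. (The published statement uses the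
strict fibre product, pairs with `u U = p y`; for `𝒮` fibred over `D` it is equivalent over `C` to
the 2-fibre product used here.) -/
theorem result {C : Type u} [Category.{v} C] {D : Type u₂} [Category.{v₂} D] (u : C ⥤ D)
    (𝒮 : BasedCategory.{v₃, u₃} D) [𝒮.p.IsFibered] :
    (CategoricalPullback.π₁ u 𝒮.p).IsFibered := by
  apply Functor.IsFibered.of_exists_isStronglyCartesian
  intro a R f
  change R ⟶ a.fst at f
  -- a cartesian lift of `u f ≫ iso`
  obtain ⟨y', ψ, hψ⟩ := IsPreFibered.exists_isCartesian 𝒮.p (a := a.snd) rfl (u.map f ≫ a.iso.hom)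
  haveI := hψ
  haveI hψs : 𝒮.p.IsStronglyCartesian (u.map f ≫ a.iso.hom) ψ := inferInstance
  have hy' : 𝒮.p.obj y' = u.obj R := IsHomLift.domain_eq 𝒮.p (u.map f ≫ a.iso.hom) ψ
  have hfac : 𝒮.p.map ψ = eqToHom hy' ≫ (u.map f ≫ a.iso.hom) := by
    have := IsHomLift.fac' 𝒮.p (u.map f ≫ a.iso.hom) ψ
    rw [this]; simp
  let b : CategoricalPullback u 𝒮.p := ⟨R, y', eqToIso hy'.symm⟩
  let φ : b ⟶ a := ⟨f, ψ, by
    change u.map f ≫ a.iso.hom = eqToHom hy'.symm ≫ 𝒮.p.map ψ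
    rw [hfac]; simp⟩
  refine ⟨b, φ, ?_⟩
  haveI hlift : (CategoricalPullback.π₁ u 𝒮.p).IsHomLift f φ :=
    Functor.IsHomLift.map (p := CategoricalPullback.π₁ u 𝒮.p) φ
  refine { toIsHomLift := hlift, universal_property' := ?_ }
  intro a' g φ' hφ'
  change a'.fst ⟶ R at g
  have hφ'1 : φ'.fst = g ≫ f :=
    (@IsHomLift.eq_of_isHomLift _ _ _ _ (CategoricalPullback.π₁ u 𝒮.p) a' a (g ≫ f) φ' hφ').symm
  -- the second component
  have hw := φ'.w
  have hbase : 𝒮.p.map φ'.snd = (a'.iso.inv ≫ u.map g) ≫ (u.map f ≫ a.iso.hom) := by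
    have : 𝒮.p.map φ'.snd = a'.iso.inv ≫ u.map φ'.fst ≫ a.iso.hom := by
      rw [hw]; simp
    rw [this, hφ'1]
    simp
  let χ₂ : a'.snd ⟶ y' := Functor.IsStronglyCartesian.map 𝒮.p (u.map f ≫ a.iso.hom) ψ hbase φ'.snd
  have hχ₂ : χ₂ ≫ ψ = φ'.snd := Functor.IsStronglyCartesian.fac 𝒮.p (u.map f ≫ a.iso.hom) ψ hbase φ'.snd
  haveI lχ₂ : 𝒮.p.IsHomLift (a'.iso.inv ≫ u.map g) χ₂ :=
    Functor.IsStronglyCartesian.map_isHomLift 𝒮.p (u.map f ≫ a.iso.hom) ψ hbase φ'.snd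
  have hχ₂map : 𝒮.p.map χ₂ = (a'.iso.inv ≫ u.map g) ≫ eqToHom hy'.symm := by
    have := IsHomLift.fac' 𝒮.p (a'.iso.inv ≫ u.map g) χ₂
    rw [this]; simp
  let χ : a' ⟶ b := ⟨g, χ₂, by
    change u.map g ≫ eqToHom hy'.symm = a'.iso.hom ≫ 𝒮.p.map χ₂
    rw [hχ₂map]; simp⟩
  refine ⟨χ, ⟨?_, ?_⟩, ?_⟩
  · exact Functor.IsHomLift.map (p := CategoricalPullback.π₁ u 𝒮.p) χ
  · apply CategoricalPullback.hom_ext
    · exact hφ'1.symm
    · exact hχ₂
  · rintro χ' ⟨hχ'l, hχ'⟩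
    have h1 : χ'.fst = g :=
      (@IsHomLift.eq_of_isHomLift _ _ _ _ (CategoricalPullback.π₁ u 𝒮.p) a' b g χ' hχ'l).symm
    have h2 : χ'.snd ≫ ψ = φ'.snd := congrArg CategoricalPullback.Hom.snd hχ'
    have hw' := χ'.w
    have h3 : 𝒮.p.map χ'.snd = (a'.iso.inv ≫ u.map g) ≫ eqToHom hy'.symm := by
      change u.map χ'.fst ≫ eqToHom hy'.symm = a'.iso.hom ≫ 𝒮.p.map χ'.snd at hw'
      rw [← h1, Category.assoc, hw']; simp
    haveI : 𝒮.p.IsHomLift (a'.iso.inv ≫ u.map g) χ'.snd := by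
      apply IsHomLift.of_fac' 𝒮.p _ _ rfl hy'
      rw [h3]; simp
    have := Functor.IsStronglyCartesian.map_uniq 𝒮.p (u.map f ≫ a.iso.hom) ψ hbase φ'.snd χ'.snd h2
    apply CategoricalPullback.hom_ext
    · exact h1
    · exact this

end Groth.Agent.S12807
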