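import Groth.Statements.S18589
import Groth.Agent.Helper9.WittHomog
-- import your own Groth.Agent.* helpers here

set_option autoImplicit false
open CAlg

namespace Groth.Agent.S18589

/-- For a prime p and every natural number n, the n-th Witt addition polynomial over the integers (the
polynomial S_n with (x + y)_n = S_n(x_0, y_0, …, x_n, y_n) for p-typical Witt vectors x, y) is
weighted homogeneous of weighted degree p ^ n for the grading in which the variables x_i and y_i
have weight p ^ i. -/
theorem result (p : ℕ) [Fact p.Prime] (n : ℕ) :
    MvPolynomial.IsWeightedHomogeneous (fun i : Fin 2 × ℕ => p ^ i.2) (WittVector.wittAdd p n) (p ^ n) := by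
  have h := Groth.Agent.Helper9.wittStructureInt_isWeightedHomogeneous p
    (MvPolynomial.X (0 : Fin 2) + MvPolynomial.X 1 : MvPolynomial (Fin 2) ℤ)
    (fun i : Fin 2 × ℕ => p ^ i.2) 1 ?_ n
  · rw [one_mul] at h
    exact h
  · intro m
    rw [map_add, MvPolynomial.bind₁_X_right, MvPolynomial.bind₁_X_right]
    exact (Groth.Agent.Helper9.rename_wittPolynomial_isWeightedHomogeneous p _ 0 1
      (fun i => (one_mul _).symm) m).add
      (Groth.Agent.Helper9.rename_wittPolynomial_isWeightedHomogeneous p _ 1 1
      (fun i => (one_mul _).symm) m)

end Groth.Agent.S18589
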