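import Groth.Statements.S3435
import Mathlib

set_option autoImplicit false
universe u
open EGA41

namespace Groth.Agent.S3435

lemma kd_ext {R S M : Type*} [CommRing R] [CommRing S] [Algebra R S] [AddCommGroup M] [Module R M]
    [Module S M] [IsScalarTower R S M] (f f' : Ω[S⁄R] →ₗ[S] M)
    (h : ∀ s, f (KaehlerDifferential.D R S s) = f' (KaehlerDifferential.D R S s)) : f = f' :=
  Derivation.liftKaehlerDifferential_unique f f' (Derivation.ext h)

open TensorProduct in
/-- Let Λ → A → B → C be ring homomorphisms. The homomorphism Ω_{B/Λ} ⊗_B C → Ω_{B/A} ⊗_B C maps the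
imperfection module Υ_{C/B/Λ} (the kernel of Ω_{B/Λ} ⊗_B C → Ω_{C/Λ}) onto the imperfection module
Υ_{C/B/A} (the kernel of Ω_{B/A} ⊗_B C → Ω_{C/A}): every element of Υ_{C/B/A} is the image of some
element of Υ_{C/B/Λ}. -/
theorem result (Λ A B C : Type u) [CommRing Λ] [CommRing A] [CommRing B] [CommRing C]
    [Algebra Λ A] [Algebra Λ B] [Algebra Λ C] [Algebra A B] [Algebra A C] [Algebra B C]
    [IsScalarTower Λ A B] [IsScalarTower Λ A C] [IsScalarTower Λ B C] [IsScalarTower A B C] :
    ∀ ω ∈ EGA41.imperfection A B C, ∃ η ∈ EGA41.imperfection Λ B C,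
      (KaehlerDifferential.map Λ A B B).baseChange C η = ω := by
  intro ω hω
  -- lift ω
  have hsurj : Function.Surjective ((KaehlerDifferential.map Λ A B B).baseChange C) :=
    LinearMap.baseChange_surjective C (KaehlerDifferential.map_surjective Λ A B)
  obtain ⟨η', hη'⟩ := hsurj ω
  -- compatibility of the two vertical maps
  have hsq0 : ((KaehlerDifferential.map Λ A C C).restrictScalars B) ∘ₗ (KaehlerDifferential.map Λ Λ B C) =
      (KaehlerDifferential.map A A B C) ∘ₗ (KaehlerDifferential.map Λ A B B) := by
    apply kd_ext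
    intro b
    simp only [LinearMap.comp_apply, LinearMap.restrictScalars_apply, KaehlerDifferential.map_D]
    rfl
  have hsq : ∀ t : C ⊗[B] Ω[B⁄Λ],
      KaehlerDifferential.map Λ A C C (KaehlerDifferential.mapBaseChange Λ B C t) =
        KaehlerDifferential.mapBaseChange A B C ((KaehlerDifferential.map Λ A B B).baseChange C t) := by
    intro t
    induction t using TensorProduct.induction_on with
    | zero => simp
    | add x y hx hy => simp only [map_add, hx, hy]
    | tmul c x =>
      rw [LinearMap.baseChange_tmul, KaehlerDifferential.mapBaseChange_tmul,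
        KaehlerDifferential.mapBaseChange_tmul, map_smul]
      congr 1
      exact congrArg (fun g => g x) hsq0
  have hx : KaehlerDifferential.mapBaseChange Λ B C η' ∈
      LinearMap.ker (KaehlerDifferential.map Λ A C C) := by
    rw [LinearMap.mem_ker, hsq, hη']
    exact hω
  rw [← KaehlerDifferential.range_mapBaseChange] at hx
  obtain ⟨θ, hθ⟩ := hx
  -- the map C ⊗[A] Ω[A/Λ] → C ⊗[B] Ω[B/Λ]
  let f : Ω[A⁄Λ] →ₗ[A] C ⊗[B] Ω[B⁄Λ] :=
    ((TensorProduct.mk B C (Ω[B⁄Λ]) 1).restrictScalars A) ∘ₗ (KaehlerDifferential.map Λ Λ A B)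
  let g : C ⊗[A] Ω[A⁄Λ] →ₗ[C] C ⊗[B] Ω[B⁄Λ] := LinearMap.liftBaseChange C f
  have h10 : ((KaehlerDifferential.map Λ Λ B C).restrictScalars A) ∘ₗ (KaehlerDifferential.map Λ Λ A B) =
      KaehlerDifferential.map Λ Λ A C := by
    apply kd_ext
    intro a
    simp only [LinearMap.comp_apply, LinearMap.restrictScalars_apply, KaehlerDifferential.map_D]
    rw [← IsScalarTower.algebraMap_apply]
  have hg1 : ∀ t, KaehlerDifferential.mapBaseChange Λ B C (g t) =
      KaehlerDifferential.mapBaseChange Λ A C t := by
    intro t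
    induction t using TensorProduct.induction_on with
    | zero => simp
    | add x y hx hy => simp only [map_add, hx, hy]
    | tmul c x =>
      show KaehlerDifferential.mapBaseChange Λ B C (LinearMap.liftBaseChange C f (c ⊗ₜ[A] x)) = _
      rw [LinearMap.liftBaseChange_tmul, map_smul, KaehlerDifferential.mapBaseChange_tmul]
      congr 1
      show KaehlerDifferential.mapBaseChange Λ B C ((1 : C) ⊗ₜ[B] KaehlerDifferential.map Λ Λ A B x) = _
      rw [KaehlerDifferential.mapBaseChange_tmul, one_smul]
      exact congrArg (fun g => g x) h10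
  have h20 : ((KaehlerDifferential.map Λ A B B).restrictScalars A) ∘ₗ (KaehlerDifferential.map Λ Λ A B) =
      0 := by
    apply kd_ext
    intro a
    simp only [LinearMap.comp_apply, LinearMap.restrictScalars_apply, KaehlerDifferential.map_D,
      LinearMap.zero_apply]
    simp
  have hg2 : ∀ t, (KaehlerDifferential.map Λ A B B).baseChange C (g t) = 0 := by
    intro t
    induction t using TensorProduct.induction_on with
    | zero => simp
    | add x y hx hy => simp only [map_add, hx, hy, add_zero]
    | tmul c x =>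
      show (KaehlerDifferential.map Λ A B B).baseChange C (LinearMap.liftBaseChange C f (c ⊗ₜ[A] x)) = _
      rw [LinearMap.liftBaseChange_tmul, map_smul]
      show c • (KaehlerDifferential.map Λ A B B).baseChange C
        ((1 : C) ⊗ₜ[B] KaehlerDifferential.map Λ Λ A B x) = 0
      rw [LinearMap.baseChange_tmul]
      have : KaehlerDifferential.map Λ A B B (KaehlerDifferential.map Λ Λ A B x) = 0 :=
        congrArg (fun g => g x) h20
      rw [this, TensorProduct.tmul_zero, smul_zero]
  refine ⟨η' - g θ, ?_, ?_⟩
  · show η' - g θ ∈ LinearMap.ker (KaehlerDifferential.mapBaseChange Λ B C)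
    rw [LinearMap.mem_ker, map_sub, hg1, hθ, sub_self]
  · rw [map_sub, hg2, sub_zero, hη']

end Groth.Agent.S3435
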