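import Groth.Statements.S0193
import Mathlib
import Groth.Agent.Lead.CSA5

set_option autoImplicit false
universe u v w
open scoped TensorProduct
open Curves

namespace Groth.Agent.S0193

open Module Matrix MulOpposite Groth.Agent.Lead.CSA

section

variable {k : Type u} [Field k] {R : Type v} [Ring R] [Algebra k R] {R' : Type w} [Ring R']
  [Algebra k R']

/-- A module over `R'` viewed as a module over `R` along an algebra isomorphism. -/
def Vtw (_e : R ≃ₐ[k] R') (V' : Type*) : Type _ := V'

variable (e : R ≃ₐ[k] R') (V' : Type*) [AddCommGroup V'] [Module k V'] [Module R' V']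
  [IsScalarTower k R' V']

instance : AddCommGroup (Vtw e V') := inferInstanceAs (AddCommGroup V')
instance : Module k (Vtw e V') := inferInstanceAs (Module k V')
instance : Module R (Vtw e V') := Module.compHom V' (e : R →+* R')

omit [Module k V'] [IsScalarTower k R' V'] in
theorem Vtw.smul_def (r : R) (v : Vtw e V') : r • v = (show V' from (e r • (show V' from v))) := rfl

instance : IsScalarTower k R (Vtw e V') :=
  ⟨fun c r v => by
    change e (c • r) • (show V' from v) = c • (e r • (show V' from v))
    rw [map_smul, smul_assoc]⟩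

instance : SMulCommClass R k (Vtw e V') :=
  ⟨fun r c v => by
    change e r • (c • (show V' from v)) = c • (e r • (show V' from v))
    rw [← algebraMap_smul R' c (show V' from v), ← mul_smul, ← Algebra.commutes, mul_smul,
      algebraMap_smul]⟩

theorem isSimpleModule_Vtw [IsSimpleModule R' V'] : IsSimpleModule R (Vtw e V') := by
  have h := (isSimpleModule_iff_toSpanSingleton_surjective (R := R') (M := V')).1 inferInstance
  rw [isSimpleModule_iff_toSpanSingleton_surjective]
  refine ⟨h.1, fun v hv w => ?_⟩
  obtain ⟨r', hr'⟩ := h.2 v hv w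
  refine ⟨e.symm r', ?_⟩
  rw [LinearMap.toSpanSingleton_apply] at hr' ⊢
  rw [Vtw.smul_def, AlgEquiv.apply_symm_apply]
  exact hr'

/-- `End_R(Vtw e V') ≅ End_{R'}(V')`. -/
def endVtwEquiv : Module.End R (Vtw e V') ≃ₐ[k] Module.End R' V' where
  toFun f :=
    { toFun := fun v => f v
      map_add' := fun v w => map_add f v w
      map_smul' := fun r' v => by
        have h1 : (show Vtw e V' from r' • v) = (e.symm r') • (show Vtw e V' from v) := by
          rw [Vtw.smul_def, AlgEquiv.apply_symm_apply]
        have h2 := map_smul f (e.symm r') (show Vtw e V' from v)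
        rw [← h1] at h2
        rw [RingHom.id_apply]
        refine h2.trans ?_
        rw [Vtw.smul_def, AlgEquiv.apply_symm_apply] }
  invFun g :=
    { toFun := fun v => g v
      map_add' := fun v w => map_add g v w
      map_smul' := fun r v => by
        rw [RingHom.id_apply, Vtw.smul_def, Vtw.smul_def]
        exact map_smul g (e r) _ }
  left_inv f := rfl
  right_inv g := rfl
  map_mul' f g := rfl
  map_add' f g := rfl
  commutes' c := rfl

end

/-- If matrix algebras of positive size over two finite central skew fields are isomorphic as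
k-algebras, the skew fields are isomorphic. -/
theorem result (k : Type u) [Field k]
    (D : Type v) [DivisionRing D] [Algebra k D] [Algebra.IsCentral k D] [FiniteDimensional k D]
    (D' : Type w) [DivisionRing D'] [Algebra k D'] [Algebra.IsCentral k D'] [FiniteDimensional k D']
    (n m : ℕ) (hn : n ≠ 0) (hm : m ≠ 0)
    (e : Matrix (Fin n) (Fin n) D ≃ₐ[k] Matrix (Fin m) (Fin m) D') :
    Nonempty (D ≃ₐ[k] D') := by
  classical
  have : NeZero n := ⟨hn⟩
  have : NeZero m := ⟨hm⟩
  have : IsArtinianRing (Matrix (Fin n) (Fin n) D) :=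
    IsArtinianRing.of_finite k (Matrix (Fin n) (Fin n) D)
  have hV : IsSimpleModule (Matrix (Fin n) (Fin n) D) (Fin n → D) := isSimpleModule_vec hn
  have hV' : IsSimpleModule (Matrix (Fin m) (Fin m) D') (Fin m → D') := isSimpleModule_vec hm
  have hVtw : IsSimpleModule (Matrix (Fin n) (Fin n) D) (Vtw e (Fin m → D')) :=
    isSimpleModule_Vtw e (Fin m → D')
  have h1 : IsSimpleModule (Matrix (Fin n) (Fin n) D)
      (⊤ : Submodule (Matrix (Fin n) (Fin n) D) (Fin n → D)) :=
    IsSimpleModule.congr Submodule.topEquiv
  have h2 : IsSimpleModule (Matrix (Fin n) (Fin n) D)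
      (⊤ : Submodule (Matrix (Fin n) (Fin n) D) (Vtw e (Fin m → D'))) :=
    IsSimpleModule.congr Submodule.topEquiv
  obtain ⟨σ⟩ := simple_iso' (⊤ : Submodule (Matrix (Fin n) (Fin n) D) (Fin n → D))
    (⊤ : Submodule (Matrix (Fin n) (Fin n) D) (Vtw e (Fin m → D')))
  let τ : (Fin n → D) ≃ₗ[Matrix (Fin n) (Fin n) D] (Vtw e (Fin m → D')) :=
    Submodule.topEquiv.symm.trans (σ.trans Submodule.topEquiv)
  let E : Dᵐᵒᵖ ≃ₐ[k] D'ᵐᵒᵖ :=
    (endVecEquiv (k := k) hn).trans ((τ.conjAlgEquiv k).trans
      ((endVtwEquiv e (Fin m → D')).trans (endVecEquiv (k := k) hm).symm))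
  exact ⟨AlgEquiv.unop E⟩

end Groth.Agent.S0193
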