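import Groth.Statements.S0190
import Mathlib
import Groth.Agent.Lead.TensorIdeal

set_option autoImplicit false
universe u v w
open scoped TensorProduct
open Curves

namespace Groth.Agent.S0190

/-- The tensor product of a simple algebra with a finite central simple algebra is simple. -/
theorem result (k : Type u) [Field k] (A : Type v) [Ring A] [Algebra k A]
    [IsSimpleRing A] (A' : Type w) [Ring A'] [Algebra k A']
    [Algebra.IsCentral k A'] [IsSimpleRing A'] [FiniteDimensional k A'] :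
    IsSimpleRing (A ⊗[k] A') := by
  classical
  have hnt : Nontrivial (A ⊗[k] A') := by
    refine ⟨⟨0, 1, fun h => ?_⟩⟩
    let b := Module.Basis.ofVectorSpace k A
    have h1 : Groth.Agent.Lead.TensorIdeal.coords (K := A') b (0 : A ⊗[k] A') =
        Groth.Agent.Lead.TensorIdeal.coords (K := A') b ((1 : A) ⊗ₜ[k] (1 : A')) := by
      rw [h]; rfl
    have hne : b.repr (1 : A) ≠ 0 := fun h0 => one_ne_zero (b.repr.map_eq_zero_iff.1 h0)
    obtain ⟨i, hi⟩ := Finsupp.support_nonempty_iff.2 hne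
    have h2 := DFunLike.congr_fun h1 i
    rw [map_zero, Finsupp.zero_apply, Groth.Agent.Lead.TensorIdeal.coords_tmul] at h2
    have h3 : b.repr (1 : A) i ≠ 0 := Finsupp.mem_support_iff.1 hi
    have h4 : (1 : A') = 0 := by
      have := congrArg (fun z => (b.repr (1 : A) i)⁻¹ • z) h2
      simp only [smul_zero, smul_smul, inv_mul_cancel₀ h3, one_smul] at this
      exact this.symm
    exact one_ne_zero h4
  apply IsSimpleRing.of_eq_bot_or_eq_top
  intro I
  let J : TwoSidedIdeal A := TwoSidedIdeal.mk' {a : A | a ⊗ₜ[k] (1 : A') ∈ I}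
    (by
      change (0 : A) ⊗ₜ[k] (1 : A') ∈ I
      rw [TensorProduct.zero_tmul]; exact I.zero_mem)
    (by
      intro a a' ha ha'
      change (a + a') ⊗ₜ[k] (1 : A') ∈ I
      rw [TensorProduct.add_tmul]; exact I.add_mem ha ha')
    (by
      intro a ha
      change (-a) ⊗ₜ[k] (1 : A') ∈ I
      rw [TensorProduct.neg_tmul]; exact I.neg_mem ha)
    (by
      intro a a' ha'
      change (a * a') ⊗ₜ[k] (1 : A') ∈ I
      have : (a * a') ⊗ₜ[k] (1 : A') = (a ⊗ₜ[k] (1 : A')) * (a' ⊗ₜ[k] (1 : A')) := by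
        rw [Algebra.TensorProduct.tmul_mul_tmul, one_mul]
      rw [this]; exact I.mul_mem_left _ _ ha')
    (by
      intro a a' ha
      change (a * a') ⊗ₜ[k] (1 : A') ∈ I
      have : (a * a') ⊗ₜ[k] (1 : A') = (a ⊗ₜ[k] (1 : A')) * (a' ⊗ₜ[k] (1 : A')) := by
        rw [Algebra.TensorProduct.tmul_mul_tmul, one_mul]
      rw [this]; exact I.mul_mem_right _ _ ha)
  have hJmem : ∀ a : A, a ∈ J ↔ a ⊗ₜ[k] (1 : A') ∈ I := fun a => TwoSidedIdeal.mem_mk' _ _ _ _ _ _ _
  have hI := Groth.Agent.Lead.TensorIdeal.ideal_eq_span I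
  rcases eq_bot_or_eq_top J with hJ | hJ
  · left
    rw [hI, eq_bot_iff, TwoSidedIdeal.span_le]
    rintro _ ⟨a, ha, rfl⟩
    have : a ∈ J := (hJmem a).2 ha
    rw [hJ] at this
    have ha0 : a = 0 := this
    rw [ha0]
    change (0 : A) ⊗ₜ[k] (1 : A') ∈ (⊥ : TwoSidedIdeal (A ⊗[k] A'))
    rw [TensorProduct.zero_tmul]
    exact (⊥ : TwoSidedIdeal (A ⊗[k] A')).zero_mem
  · right
    have h1 : (1 : A) ∈ J := by rw [hJ]; trivial
    have h2 : (1 : A ⊗[k] A') ∈ I := (hJmem 1).1 h1
    rw [eq_top_iff]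
    intro x _
    have := I.mul_mem_left x 1 h2
    rwa [mul_one] at this

end Groth.Agent.S0190
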