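import Groth.Statements.S0200
import Mathlib
import Groth.Agent.Lead.CSA7
import Groth.Agent.S0190

set_option autoImplicit false
universe u v w
open scoped TensorProduct
open Curves

namespace Groth.Agent.S0200

open Groth.Agent.Lead.CSA

/-- Universe-polymorphic transport of centrality along an algebra equivalence. -/
theorem isCentral_of_algEquiv' {K : Type u} [Field K] {B : Type v} {C : Type w} [Ring B] [Ring C]
    [Algebra K B] [Algebra K C] (e : C ≃ₐ[K] B) [hB : Algebra.IsCentral K B] :
    Algebra.IsCentral K C := by
  constructor
  intro z hz
  have hz' : e z ∈ Subalgebra.center K B := by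
    rw [Subalgebra.mem_center_iff]
    intro b
    have := (Subalgebra.mem_center_iff.mp hz) (e.symm b)
    have h2 := congrArg e this
    simpa using h2
  obtain ⟨r, hr⟩ := hB.out hz'
  refine ⟨r, ?_⟩
  apply e.injective
  rw [← hr]
  simp [Algebra.ofId_apply]

/-- A k-algebra is finite central simple exactly when its base change to the separable closure of k is a
matrix algebra of positive size. -/
theorem result (k : Type u) [Field k] (A : Type v) [Ring A] [Algebra k A] :
    (Algebra.IsCentral k A ∧ IsSimpleRing A ∧ FiniteDimensional k A) ↔
      Curves.Splits k A (SeparableClosure k) := by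
  constructor
  · rintro ⟨hc, hs, hf⟩
    have h1 : Algebra.IsCentral (SeparableClosure k) ((SeparableClosure k) ⊗[k] A) :=
      isCentral_baseChange k (SeparableClosure k) A
    have h2 : IsSimpleRing ((SeparableClosure k) ⊗[k] A) :=
      Groth.Agent.S0190.result k (SeparableClosure k) A
    exact exists_algEquiv_matrix_of_isSepClosed (SeparableClosure k) ((SeparableClosure k) ⊗[k] A)
  · rintro ⟨n, hn, ⟨e⟩⟩
    have : NeZero n := ⟨hn⟩
    have h0 : Algebra.IsCentral (SeparableClosure k) (Matrix (Fin n) (Fin n) (SeparableClosure k)) :=
      inferInstance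
    have h1 : Algebra.IsCentral (SeparableClosure k) ((SeparableClosure k) ⊗[k] A) :=
      isCentral_of_algEquiv' e
    have h2 : IsSimpleRing ((SeparableClosure k) ⊗[k] A) :=
      IsSimpleRing.of_ringEquiv e.symm.toRingEquiv inferInstance
    have h3 : Module.Finite (SeparableClosure k) ((SeparableClosure k) ⊗[k] A) :=
      Module.Finite.equiv e.symm.toLinearEquiv
    exact ⟨isCentral_of_baseChange k (SeparableClosure k) A h1,
      isSimpleRing_of_baseChange k (SeparableClosure k) A h2,
      finite_of_baseChange k (SeparableClosure k) A h3⟩

end Groth.Agent.S0200
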