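import Groth.Statements.S0201
import Mathlib
import Groth.Agent.Lead.CSA8
import Groth.Agent.S0200

set_option autoImplicit false
universe u v w
open scoped TensorProduct
open Curves

namespace Groth.Agent.S0201

open Groth.Agent.Lead.CSA

/-- Every finite central simple algebra over k is split by a finite Galois extension of k. -/
theorem result (k : Type u) [Field k] (A : Type v) [Ring A] [Algebra k A]
    [Algebra.IsCentral k A] [IsSimpleRing A] [FiniteDimensional k A] :
    ∃ (k' : Type u) (_ : Field k') (_ : Algebra k k'), FiniteDimensional k k' ∧
      IsGalois k k' ∧ Curves.Splits k A k' := by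
  classical
  obtain ⟨n, hn, ⟨e⟩⟩ := (Groth.Agent.S0200.result k A).mp ⟨inferInstance, inferInstance, inferInstance⟩
  let b := Module.finBasis k A
  let S : Set (SeparableClosure k) :=
    Set.range (fun x : Fin (Module.finrank k A) × Fin n × Fin n => e (1 ⊗ₜ b x.1) x.2.1 x.2.2)
  have hSfin : Finite S := Set.finite_range _
  let F : IntermediateField k (SeparableClosure k) := IntermediateField.adjoin k S
  have hFfin : FiniteDimensional k F :=
    IntermediateField.finiteDimensional_adjoin (fun x _ => Algebra.IsIntegral.isIntegral x)
  let F' : IntermediateField k (SeparableClosure k) :=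
    IntermediateField.normalClosure k F (SeparableClosure k)
  have hF'fin : FiniteDimensional k F' := inferInstance
  have hF'gal : IsGalois k F' := inferInstance
  refine ⟨F', inferInstance, inferInstance, hF'fin, hF'gal, ?_⟩
  refine splits_of_entries_mem k A (SeparableClosure k) n e F' b hn ?_
  intro i p q
  exact IntermediateField.le_normalClosure F (IntermediateField.subset_adjoin k S ⟨(i, p, q), rfl⟩)

end Groth.Agent.S0201
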