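import Groth.Statements.S0188
import Mathlib
import Groth.Agent.Lead.CSA4
import Groth.Agent.S0190

set_option autoImplicit false
universe u v w
open scoped TensorProduct
open Curves

namespace Groth.Agent.S0188

open Groth.Agent.Lead.CSA MulOpposite Module

/-- For a simple subalgebra B of a finite central simple algebra A with centralizer C, dim A = dim B ·
dim C. -/
theorem result (k : Type u) [Field k] (A : Type v) [Ring A] [Algebra k A]
    [Algebra.IsCentral k A] [IsSimpleRing A] [FiniteDimensional k A]
    (B : Subalgebra k A) [IsSimpleRing B] :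
    Module.finrank k A = Module.finrank k B * Module.finrank k (Subalgebra.centralizer k (B : Set A)) := by
  have : IsSimpleRing (B ⊗[k] Aᵐᵒᵖ) := Groth.Agent.S0190.result k B Aᵐᵒᵖ
  have h := finrank_end_mul_finrank (k := k) (R := B ⊗[k] Aᵐᵒᵖ) (M := Tw B.val)
  have hC : finrank k (Subalgebra.centralizer k (B : Set A)) =
      finrank k (Module.End (B ⊗[k] Aᵐᵒᵖ) (Tw B.val)) := (centralizerLinearEquivEnd B).finrank_eq
  have hS : finrank k (B ⊗[k] Aᵐᵒᵖ) = finrank k B * finrank k A := by
    rw [Module.finrank_tensorProduct, ← (MulOpposite.opLinearEquiv k (M := A)).finrank_eq]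
  have hM : finrank k (Tw B.val) = finrank k A := rfl
  have hA : 0 < finrank k A := Module.finrank_pos
  rw [← hC, hS, hM] at h
  have h2 : finrank k A * (finrank k B * finrank k (Subalgebra.centralizer k (B : Set A))) =
      finrank k A * finrank k A := by
    rw [← pow_two, ← h]
    ring
  exact (Nat.eq_of_mul_eq_mul_left hA h2).symm

end Groth.Agent.S0188
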