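import Groth.Statements.S0196
import Mathlib
import Groth.Agent.S0188

set_option autoImplicit false
universe u v w
open scoped TensorProduct
open Curves

namespace Groth.Agent.S0196

open Module

/-- A finite-dimensional subalgebra of a division algebra is a simple ring. -/
theorem isSimpleRing_subalgebra {k : Type u} [Field k] {D : Type v} [DivisionRing D] [Algebra k D]
    [FiniteDimensional k D] (L : Subalgebra k D) : IsSimpleRing L := by
  apply IsSimpleRing.of_eq_bot_or_eq_top
  intro I
  by_cases h : I = ⊥
  · exact Or.inl h
  · right
    have hex : ∃ x ∈ I, x ≠ 0 := by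
      by_contra hcon
      apply h
      rw [eq_bot_iff]
      intro x hx
      by_contra hx0
      exact hcon ⟨x, hx, hx0⟩
    obtain ⟨x, hxI, hx0⟩ := hex
    let m : L →ₗ[k] L := LinearMap.mulLeft k x
    have hinj : Function.Injective m := by
      intro a b hab
      have : x * a = x * b := hab
      exact mul_left_cancel₀ hx0 this
    have hsurj : Function.Surjective m := LinearMap.surjective_of_injective hinj
    obtain ⟨y, hy⟩ := hsurj 1
    have hxy : x * y = 1 := hy
    rw [eq_top_iff]
    intro z _
    have h1 : x * y * z ∈ I := I.mul_mem_right _ _ (I.mul_mem_right _ _ hxI)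
    rwa [hxy, one_mul] at h1

/-- In a finite central skew field D over k, a maximal commutative k-subalgebra L satisfies dim D = (dim
L)^2. -/
theorem result (k : Type u) [Field k]
    (D : Type v) [DivisionRing D] [Algebra k D] [Algebra.IsCentral k D] [FiniteDimensional k D]
    (L : Subalgebra k D) (hcomm : ∀ x ∈ L, ∀ y ∈ L, x * y = y * x)
    (hmax : ∀ L' : Subalgebra k D, (∀ x ∈ L', ∀ y ∈ L', x * y = y * x) → L ≤ L' → L' = L) :
    Module.finrank k D = Module.finrank k L ^ 2 := by
  have hsimple : IsSimpleRing L := isSimpleRing_subalgebra L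
  have hC : Subalgebra.centralizer k (L : Set D) = L := by
    apply le_antisymm
    · intro c hc
      have hcL : ∀ y ∈ L, y * c = c * y := (Subalgebra.mem_centralizer_iff k).1 hc
      have hcomm' : ∀ a ∈ ((L : Set D) ∪ {c}), ∀ b ∈ ((L : Set D) ∪ {c}), a * b = b * a := by
        rintro a (ha | ha) b (hb | hb)
        · exact hcomm a ha b hb
        · rw [Set.mem_singleton_iff] at hb
          rw [hb]; exact hcL a ha
        · rw [Set.mem_singleton_iff] at ha
          rw [ha]; exact (hcL b hb).symm
        · rw [Set.mem_singleton_iff] at ha hb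
          rw [ha, hb]
      have hmc := Algebra.isMulCommutative_adjoin k hcomm'
      have hL' := hmax (Algebra.adjoin k ((L : Set D) ∪ {c}))
        (fun x hx y hy => by
          have := hmc.is_comm.comm (⟨x, hx⟩ : Algebra.adjoin k ((L : Set D) ∪ {c})) ⟨y, hy⟩
          exact congrArg Subtype.val this)
        (fun x hx => Algebra.subset_adjoin (Or.inl hx))
      rw [← hL']
      exact Algebra.subset_adjoin (Or.inr rfl)
    · intro x hx
      rw [Subalgebra.mem_centralizer_iff]
      intro y hy
      exact hcomm y hy x hx
  have h := Groth.Agent.S0188.result k D L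
  rw [hC] at h
  rw [h, pow_two]

end Groth.Agent.S0196
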