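import Groth.Statements.S0187
import Mathlib
import Groth.Agent.Lead.CSA3
import Groth.Agent.S0190

set_option autoImplicit false
universe u v w
open scoped TensorProduct
open Curves

namespace Groth.Agent.S0187

open Groth.Agent.Lead.CSA MulOpposite

/-- In a finite central simple algebra the centralizer of a simple subalgebra is again simple. -/
theorem result (k : Type u) [Field k] (A : Type v) [Ring A] [Algebra k A]
    [Algebra.IsCentral k A] [IsSimpleRing A] [FiniteDimensional k A]
    (B : Subalgebra k A) [IsSimpleRing B] :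
    IsSimpleRing (Subalgebra.centralizer k (B : Set A)) := by
  have : IsSimpleRing (B ⊗[k] Aᵐᵒᵖ) := Groth.Agent.S0190.result k B Aᵐᵒᵖ
  have : IsArtinianRing (B ⊗[k] Aᵐᵒᵖ) := IsArtinianRing.of_finite k (B ⊗[k] Aᵐᵒᵖ)
  have : Module.Finite (B ⊗[k] Aᵐᵒᵖ) (Tw B.val) :=
    Module.Finite.of_restrictScalars_finite k (B ⊗[k] Aᵐᵒᵖ) (Tw B.val)
  have : Nontrivial (Tw B.val) := inferInstanceAs (Nontrivial A)
  have h := isSimpleRing_end (R := B ⊗[k] Aᵐᵒᵖ) (M := Tw B.val)
  exact IsSimpleRing.of_ringEquiv (centralizerEquivEnd B).symm h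

end Groth.Agent.S0187
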