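import Groth.Statements.S0189
import Mathlib
import Groth.Agent.S0187
import Groth.Agent.S0188

set_option autoImplicit false
universe u v w
open scoped TensorProduct
open Curves

namespace Groth.Agent.S0189

open Module

/-- Double centralizer: a simple subalgebra of a finite central simple algebra is the centralizer of its
centralizer. -/
theorem result (k : Type u) [Field k] (A : Type v) [Ring A] [Algebra k A]
    [Algebra.IsCentral k A] [IsSimpleRing A] [FiniteDimensional k A]
    (B : Subalgebra k A) [IsSimpleRing B] :
    Subalgebra.centralizer k (Subalgebra.centralizer k (B : Set A) : Set A) = B := by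
  have hCs : IsSimpleRing (Subalgebra.centralizer k (B : Set A)) := Groth.Agent.S0187.result k A B
  have h1 := Groth.Agent.S0188.result k A B
  have h2 := Groth.Agent.S0188.result k A (Subalgebra.centralizer k (B : Set A))
  have hle : B ≤ Subalgebra.centralizer k (Subalgebra.centralizer k (B : Set A) : Set A) := by
    intro b hb
    rw [Subalgebra.mem_centralizer_iff]
    intro c hc
    exact ((Subalgebra.mem_centralizer_iff k).1 hc b hb).symm
  have hC : 0 < finrank k (Subalgebra.centralizer k (B : Set A)) := Module.finrank_pos
  have hdim : finrank k B =
      finrank k (Subalgebra.centralizer k (Subalgebra.centralizer k (B : Set A) : Set A)) := by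
    have h3 : finrank k (Subalgebra.centralizer k (B : Set A)) * finrank k B =
        finrank k (Subalgebra.centralizer k (B : Set A)) *
        finrank k (Subalgebra.centralizer k (Subalgebra.centralizer k (B : Set A) : Set A)) := by
      rw [← h2, h1, mul_comm]
    exact Nat.eq_of_mul_eq_mul_left hC h3
  symm
  apply Subalgebra.toSubmodule_injective
  exact Submodule.eq_of_le_of_finrank_eq (Subalgebra.toSubmodule.monotone hle) hdim

end Groth.Agent.S0189
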