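import Groth.Statements.S0198
import Mathlib
import Groth.Agent.S0189
import Groth.Agent.S0196

set_option autoImplicit false
universe u v w
open scoped TensorProduct
open Curves

namespace Groth.Agent.S0198

open Module

theorem lemmaA {k : Type u} {Z : Type v} {C : Type w} [Field k] [Field Z] [Algebra k Z]
    [Algebra.IsSeparable k Z]
    [Ring C] [IsDomain C] [Algebra Z C] [Algebra k C] [IsScalarTower k Z C]
    (x : C) (hx : IsSeparable Z x) (y : C) (hy : y ∈ Algebra.adjoin Z {x}) : IsSeparable k y := by
  have hint : IsIntegral Z x := hx.isIntegral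
  have : Fact (Irreducible (minpoly Z x)) := ⟨minpoly.irreducible hint⟩
  let f : AdjoinRoot (minpoly Z x) →ₐ[Z] C :=
    Ideal.Quotient.liftₐ (Ideal.span {minpoly Z x}) (Polynomial.aeval x) (by
      intro a ha
      rw [Ideal.mem_span_singleton] at ha
      obtain ⟨b, rfl⟩ := ha
      rw [map_mul, minpoly.aeval, zero_mul])
  have hf_root : f (AdjoinRoot.root _) = x := by
    have : f (AdjoinRoot.root _) = Polynomial.aeval x (Polynomial.X : Polynomial Z) := rfl
    rw [this, Polynomial.aeval_X]
  have hrange : Algebra.adjoin Z {x} ≤ f.range := by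
    apply Algebra.adjoin_le
    intro c hc
    rw [Set.mem_singleton_iff] at hc
    subst hc
    exact ⟨_, hf_root⟩
  obtain ⟨e, rfl⟩ := hrange hy
  have hroot : IsSeparable Z (AdjoinRoot.root (minpoly Z x)) := by
    unfold IsSeparable at hx ⊢
    rw [AdjoinRoot.minpoly_root (minpoly.ne_zero hint), (minpoly.monic hint).leadingCoeff]
    simpa using hx
  have hEsep : Algebra.IsSeparable Z (AdjoinRoot (minpoly Z x)) := by
    constructor
    intro e
    have he : e ∈ Algebra.adjoin Z ({AdjoinRoot.root (minpoly Z x)} : Set (AdjoinRoot (minpoly Z x))) := by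
      rw [AdjoinRoot.adjoinRoot_eq_top]; trivial
    induction he using Algebra.adjoin_induction with
    | mem c hc =>
      rw [Set.mem_singleton_iff] at hc
      subst hc
      exact hroot
    | algebraMap r => exact isSeparable_algebraMap r
    | add a b ha hb iha ihb => exact Field.isSeparable_add iha ihb
    | mul a b ha hb iha ihb => exact Field.isSeparable_mul iha ihb
  have hEsep' : Algebra.IsSeparable k (AdjoinRoot (minpoly Z x)) :=
    Algebra.IsSeparable.trans k Z _
  have hinj : Function.Injective (f.restrictScalars k) := RingHom.injective f.toRingHom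
  have h := minpoly.algHom_eq (f.restrictScalars k) hinj e
  change (minpoly k ((f.restrictScalars k) e)).Separable
  rw [h]
  exact Algebra.IsSeparable.isSeparable k e

theorem lemmaB {k : Type u} {C : Type w} [Field k] [DivisionRing C] [Algebra k C]
    [FiniteDimensional k C]
    (hZsep : ∀ z ∈ Subring.center C, IsSeparable k z) (hnc : Subring.center C ≠ ⊤) :
    ∃ x : C, x ∉ Subring.center C ∧
      ∀ y ∈ Algebra.adjoin k ((Subring.center C : Set C) ∪ {x}), IsSeparable k y := by
  classical
  let Z : Subring C := Subring.center C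
  let φ : k →+* Z := (algebraMap k C).codRestrict Z (fun r => by
    rw [Subring.mem_center_iff]
    intro c
    exact (Algebra.commutes r c).symm)
  letI : Algebra k Z := φ.toAlgebra
  have : IsScalarTower k Z C := IsScalarTower.of_algebraMap_eq (fun r => rfl)
  have : Module.Finite Z C := Module.Finite.of_restrictScalars_finite k Z C
  have : Algebra.IsAlgebraic Z C := Algebra.IsAlgebraic.of_finite Z C
  have hsepZ : Algebra.IsSeparable k Z := by
    constructor
    intro z
    have h := minpoly.algHom_eq (IsScalarTower.toAlgHom k Z C) Subtype.val_injective z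
    unfold IsSeparable
    rw [← h]
    exact hZsep z.1 z.2
  obtain ⟨x, hxZ, hxsep⟩ := JacobsonNoether.exists_separable_and_not_isCentral C hnc
  refine ⟨x, hxZ, ?_⟩
  intro y hy
  apply lemmaA (k := k) (Z := Z) x hxsep y
  have hle : Algebra.adjoin k ((Subring.center C : Set C) ∪ {x}) ≤
      (Algebra.adjoin Z {x}).restrictScalars k := by
    apply Algebra.adjoin_le
    rintro c (hc | hc)
    · exact (Algebra.adjoin Z {x}).algebraMap_mem ⟨c, hc⟩
    · rw [Set.mem_singleton_iff] at hc
      subst hc
      exact Algebra.self_mem_adjoin_singleton Z c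
  exact hle hy

section step

variable {k : Type u} [Field k] {D : Type v} [DivisionRing D] [Algebra k D]
  [Algebra.IsCentral k D] [FiniteDimensional k D]

theorem step (L : Subalgebra k D) (hcomm : ∀ x ∈ L, ∀ y ∈ L, x * y = y * x)
    (hsep : ∀ x ∈ L, IsSeparable k x)
    (hC : Subalgebra.centralizer k (L : Set D) ≠ L) :
    ∃ L' : Subalgebra k D, (∀ x ∈ L', ∀ y ∈ L', x * y = y * x) ∧
      (∀ x ∈ L', IsSeparable k x) ∧ L < L' := by
  classical
  set C : Subalgebra k D := Subalgebra.centralizer k (L : Set D) with hCdef
  have hLC : L ≤ C := by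
    intro x hx
    rw [hCdef, Subalgebra.mem_centralizer_iff]
    intro y hy
    exact hcomm y hy x hx
  haveI : IsSimpleRing L := Groth.Agent.S0196.isSimpleRing_subalgebra L
  have hDCT : Subalgebra.centralizer k (C : Set D) = L := Groth.Agent.S0189.result k D L
  letI : DivisionRing C := divisionRingOfFiniteDimensional k C
  have hZne : Subring.center C ≠ ⊤ := by
    intro hZ
    apply hC
    apply le_antisymm _ hLC
    intro c hc
    rw [← hDCT, Subalgebra.mem_centralizer_iff]
    intro y hy
    have h1 : (⟨c, hc⟩ : C) ∈ Subring.center C := by rw [hZ]; trivial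
    rw [Subring.mem_center_iff] at h1
    have := h1 ⟨y, hy⟩
    exact congrArg Subtype.val this
  have hsepC : ∀ c : C, IsSeparable k (c : D) → IsSeparable k c := by
    intro c hc
    have h := minpoly.algHom_eq C.val Subtype.val_injective c
    unfold IsSeparable at hc ⊢
    rw [← h]
    exact hc
  have hsepC' : ∀ c : C, IsSeparable k c → IsSeparable k (c : D) := by
    intro c hc
    have h := minpoly.algHom_eq C.val Subtype.val_injective c
    unfold IsSeparable at hc ⊢
    rw [← h] at hc
    exact hc
  have hZL : ∀ z ∈ Subring.center C, (z : D) ∈ L := by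
    intro z hz
    rw [← hDCT, Subalgebra.mem_centralizer_iff]
    intro y hy
    rw [Subring.mem_center_iff] at hz
    have := hz ⟨y, hy⟩
    exact congrArg Subtype.val this
  have hLZ : ∀ l (hl : l ∈ L), (⟨l, hLC hl⟩ : C) ∈ Subring.center C := by
    intro l hl
    rw [Subring.mem_center_iff]
    intro c
    apply Subtype.ext
    have hc : (c : D) ∈ Subalgebra.centralizer k (L : Set D) := c.2
    rw [Subalgebra.mem_centralizer_iff] at hc
    exact (hc l hl).symm
  have hZsep : ∀ z ∈ Subring.center C, IsSeparable k z := fun z hz =>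
    hsepC z (hsep _ (hZL z hz))
  obtain ⟨x, hxZ, hx⟩ := lemmaB (k := k) (C := C) hZsep hZne
  set T : Subalgebra k C := Algebra.adjoin k ((Subring.center C : Set C) ∪ {x}) with hT
  have hTcomm : ∀ a ∈ T, ∀ b ∈ T, a * b = b * a := by
    have hcomm' : ∀ a ∈ ((Subring.center C : Set C) ∪ {x}),
        ∀ b ∈ ((Subring.center C : Set C) ∪ {x}), a * b = b * a := by
      rintro a (ha | ha) b (hb | hb)
      · exact ((Subring.mem_center_iff.mp ha) b).symm
      · exact ((Subring.mem_center_iff.mp ha) b).symm
      · exact (Subring.mem_center_iff.mp hb) a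
      · rw [Set.mem_singleton_iff] at ha hb
        rw [ha, hb]
    have hmc := Algebra.isMulCommutative_adjoin k hcomm'
    intro a ha b hb
    have := hmc.is_comm.comm (⟨a, ha⟩ : T) ⟨b, hb⟩
    exact congrArg Subtype.val this
  refine ⟨T.map C.val, ?_, ?_, ?_⟩
  · rintro _ ⟨a, ha, rfl⟩ _ ⟨b, hb, rfl⟩
    have := hTcomm a ha b hb
    exact congrArg Subtype.val this
  · rintro _ ⟨a, ha, rfl⟩
    exact hsepC' a (hx a ha)
  · refine lt_of_le_of_ne ?_ ?_
    · intro l hl
      exact ⟨⟨l, hLC hl⟩, Algebra.subset_adjoin (Or.inl (hLZ l hl)), rfl⟩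
    · intro heq
      apply hxZ
      have hxL : (x : D) ∈ L := by
        rw [heq]
        exact ⟨x, Algebra.subset_adjoin (Or.inr rfl), rfl⟩
      exact hLZ _ hxL

end step

/-- A finite central skew field over k contains a maximal commutative subalgebra that is separable over
k. -/
theorem result (k : Type u) [Field k]
    (D : Type v) [DivisionRing D] [Algebra k D] [Algebra.IsCentral k D] [FiniteDimensional k D] :
    ∃ L : Subalgebra k D, (∀ x ∈ L, ∀ y ∈ L, x * y = y * x) ∧
      (∀ L' : Subalgebra k D, (∀ x ∈ L', ∀ y ∈ L', x * y = y * x) → L ≤ L' → L' = L) ∧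
      Algebra.IsSeparable k L := by
  classical
  let P : Subalgebra k D → Prop := fun L =>
    (∀ x ∈ L, ∀ y ∈ L, x * y = y * x) ∧ (∀ x ∈ L, IsSeparable k x)
  have key : ∀ m : ℕ, ∀ L : Subalgebra k D, P L → finrank k D - finrank k L = m →
      ∃ L₀, P L₀ ∧ ∀ L', P L' → L₀ ≤ L' → L' = L₀ := by
    intro m
    induction m using Nat.strong_induction_on with
    | _ m ih =>
      intro L hL hm
      by_cases hmax : ∀ L', P L' → L ≤ L' → L' = L
      · exact ⟨L, hL, hmax⟩
      · push Not at hmax
        obtain ⟨L', hL', hle, hne⟩ := hmax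
        have hlt : finrank k L < finrank k L' :=
          Submodule.finrank_lt_finrank_of_lt
            (show Subalgebra.toSubmodule L < Subalgebra.toSubmodule L' from
              lt_of_le_of_ne hle (fun h => hne (Subalgebra.toSubmodule_injective h).symm))
        have hle' : finrank k L' ≤ finrank k D := Submodule.finrank_le (Subalgebra.toSubmodule L')
        exact ih (finrank k D - finrank k L') (by omega) L' hL' rfl
  have hbot : P ⊥ := by
    refine ⟨?_, ?_⟩
    · rintro x hx y hy
      obtain ⟨a, rfl⟩ := Algebra.mem_bot.mp hx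
      exact Algebra.commutes a y
    · rintro x hx
      obtain ⟨a, rfl⟩ := Algebra.mem_bot.mp hx
      exact isSeparable_algebraMap a
  obtain ⟨L, ⟨hLcomm, hLsep⟩, hLmax⟩ := key _ ⊥ hbot rfl
  have hCL : Subalgebra.centralizer k (L : Set D) = L := by
    by_contra hne
    obtain ⟨L', h1, h2, h3⟩ := step L hLcomm hLsep hne
    exact (ne_of_lt h3) (hLmax L' ⟨h1, h2⟩ h3.le).symm
  refine ⟨L, hLcomm, ?_, ?_⟩
  · intro L' hL' hle
    apply le_antisymm _ hle
    intro x hx
    rw [← hCL, Subalgebra.mem_centralizer_iff]
    intro y hy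
    exact hL' y (hle hy) x hx
  · constructor
    intro x
    have h := minpoly.algHom_eq L.val Subtype.val_injective x
    unfold IsSeparable
    rw [← h]
    exact hLsep x.1 x.2

end Groth.Agent.S0198
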