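import Groth.Statements.S0194
import Mathlib
import Groth.Agent.S0187
import Groth.Agent.S0188
import Groth.Agent.S0190

set_option autoImplicit false
universe u v w
open scoped TensorProduct
open Curves

namespace Groth.Agent.S0194

open Module

/-- A central simple subalgebra B of a finite central simple algebra A, together with its centralizer C,
decomposes A as B ⊗ C. -/
theorem result (k : Type u) [Field k] (A : Type v) [Ring A] [Algebra k A]
    [Algebra.IsCentral k A] [IsSimpleRing A] [FiniteDimensional k A]
    (B : Subalgebra k A) [IsSimpleRing B] [Algebra.IsCentral k B] :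
    Function.Bijective (Algebra.TensorProduct.lift B.val (Subalgebra.centralizer k (B : Set A)).val
      (fun x y => y.2 x.1 x.2)) := by
  have hCs : IsSimpleRing (Subalgebra.centralizer k (B : Set A)) := Groth.Agent.S0187.result k A B
  have h1 : IsSimpleRing ((Subalgebra.centralizer k (B : Set A)) ⊗[k] B) :=
    Groth.Agent.S0190.result k (Subalgebra.centralizer k (B : Set A)) B
  have h2 : IsSimpleRing (B ⊗[k] (Subalgebra.centralizer k (B : Set A))) :=
    IsSimpleRing.of_ringEquiv
      (Algebra.TensorProduct.comm k (Subalgebra.centralizer k (B : Set A)) B).toRingEquiv h1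
  set φ := Algebra.TensorProduct.lift B.val (Subalgebra.centralizer k (B : Set A)).val
      (fun x y => y.2 x.1 x.2) with hφ
  have hinj : Function.Injective φ := RingHom.injective φ.toRingHom
  have hdim : finrank k (B ⊗[k] (Subalgebra.centralizer k (B : Set A))) = finrank k A := by
    rw [Module.finrank_tensorProduct, ← Groth.Agent.S0188.result k A B]
  exact ⟨hinj, (LinearMap.injective_iff_surjective_of_finrank_eq_finrank
    (f := φ.toLinearMap) hdim).1 hinj⟩

end Groth.Agent.S0194
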