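import Groth.Statements.S16235
import Mathlib

set_option autoImplicit false
universe u
open CAlg

namespace Groth.Agent.S16235

/-- Let A be a Noetherian commutative ring and x_1, …, x_r a regular sequence on A (each x_i a
non-zero-divisor on A/(x_1, …, x_{i-1})) generating an ideal I ≠ A. Then the height of I, the
infimum of the heights of the minimal primes over I, equals r. -/
theorem result (A : Type u) [CommRing A] [IsNoetherianRing A]
    (r : ℕ) (x : Fin r → A) (hx : RingTheory.Sequence.IsWeaklyRegular A (List.ofFn x))
    (hI : Ideal.span (Set.range x) ≠ ⊤) :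
    (Ideal.span (Set.range x)).height = r := by
  classical
  have hset : Set.range x = {a | a ∈ List.ofFn x} := by
    ext a; simp [List.mem_ofFn]
  apply le_antisymm
  · obtain ⟨P, hP⟩ := Ideal.nonempty_minimalPrimes hI
    rw [Ideal.height_eq_inf_minimalPrimes]
    refine (iInf₂_le P hP).trans ?_
    refine (Ideal.height_le_card_of_mem_minimalPrimes_span (Set.finite_range x) hP).trans ?_
    have : (Set.range x).ncard ≤ r := by
      have := Set.ncard_image_le (f := x) (s := Set.univ) Set.finite_univ
      rw [Set.image_univ] at this
      simpa using this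
    exact_mod_cast this
  · rw [Ideal.height_eq_inf_minimalPrimes]
    refine le_iInf₂ fun P hP => ?_
    have hPprime : P.IsPrime := hP.1.1
    have hle : Ideal.span (Set.range x) ≤ P := hP.1.2
    have mem : ∀ a ∈ List.ofFn x, a ∈ P := by
      intro a ha
      apply hle
      apply Ideal.subset_span
      rw [hset]; exact ha
    set S := Localization.AtPrime P
    have reg := RingTheory.Sequence.IsWeaklyRegular.isRegular_of_isLocalization_of_mem S P hx mem
    have hdim := ringKrullDim_add_length_eq_ringKrullDim_of_isRegular _ reg
    rw [IsLocalization.AtPrime.ringKrullDim_eq_height P S] at hdim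
    have hnt : Nontrivial (S ⧸ Ideal.ofList ((List.ofFn x).map (algebraMap A S))) := by
      apply Ideal.Quotient.nontrivial_iff.mpr
      intro htop
      apply reg.2
      rw [htop]
      simp
    have h0 : (0 : WithBot ℕ∞) ≤ ringKrullDim (S ⧸ Ideal.ofList ((List.ofFn x).map (algebraMap A S))) :=
      ringKrullDim_nonneg_of_nontrivial
    have hlen : ((List.ofFn x).map (algebraMap A S)).length = r := by simp
    rw [hlen] at hdim
    have : ((r : ℕ∞) : WithBot ℕ∞) ≤ (P.height : WithBot ℕ∞) := by
      rw [← hdim]
      calc ((r : ℕ∞) : WithBot ℕ∞) = 0 + (r : WithBot ℕ∞) := by simp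
        _ ≤ _ := add_le_add_left h0 _
    exact_mod_cast this

end Groth.Agent.S16235
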