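import Groth.Statements.S12724
import Groth.Agent.Helper6.ArtFunPullback

set_option autoImplicit false
universe u v
open CategoryTheory
open ArtFun

namespace Groth.Agent.S12724

open Groth.Agent.Helper6

/-- For functors, condition (S1) on a functor F on Artinian local Λ-algebras with residue field k
(surjectivity of F(A₁ ×_A A₂) → F(A₁) ×_{F(A)} F(A₂) for A₂ → A surjective) is equivalent to the
same condition restricted to small extensions A₂ → A. -/
theorem result {Λ : Type u} {k : Type u} [CommRing Λ] [Field k] [Algebra Λ k]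
    [IsNoetherianRing Λ] [Module.Finite Λ k]
    (F : ArtFun.Art Λ k ⥤ Type v) : ArtFun.S1 F ↔ ArtFun.Hbar F := by
  constructor
  · intro h1 B A A' A'' p' p'' f' f'' h hs
    exact h1 p' p'' f' f'' h hs.1
  · intro hbar B A A' A'' p' p'' f' f'' h hf''
    have key := surjective_induction_smallExt
      (fun (A A'' : ArtFun.Art Λ k) (f'' : A'' ⟶ A) => Function.Surjective f'' ∧
        ∀ (A' : ArtFun.Art Λ k) (f' : A' ⟶ A) (B : ArtFun.Art Λ k) (p' : B ⟶ A') (p'' : B ⟶ A'')
          (h : ArtFun.Art.IsFibreProd p' p'' f' f''), Function.Surjective (ArtFun.cmp F h))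
      ?_ ?_ ?_ f'' hf''
    · exact key.2 A' f' B p' p'' h
    · -- isomorphisms
      intro A A'' e he
      refine ⟨surjective_of_isIso e, ?_⟩
      intro A' f' B p' p'' h y
      obtain ⟨⟨a', a''⟩, hy⟩ := y
      have hy' : F.map f' a' = F.map e a'' := hy
      obtain ⟨l, hl1, hl2⟩ := IsFibreProd.exists_hom_lift h (𝟙 A') (f' ≫ inv e)
        (by rw [Category.id_comp, Category.assoc, IsIso.inv_hom_id, Category.comp_id])
      refine ⟨F.map l a', Subtype.ext (Prod.ext ?_ ?_)⟩
      · change F.map p' (F.map l a') = a'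
        rw [← Functor.map_comp_apply, hl1, Functor.map_id_apply]
      · change F.map p'' (F.map l a') = a''
        rw [← Functor.map_comp_apply, hl2, Functor.map_comp_apply, hy', ← Functor.map_comp_apply,
          IsIso.hom_inv_id, Functor.map_id_apply]
    · -- small extensions
      intro A A'' p hp
      exact ⟨hp.1, fun A' f' B p' p'' h => hbar p' p'' f' p h hp⟩
    · -- composites
      intro A B₀ C p q hp hq
      refine ⟨surjective_comp p q hp.1 hq.1, ?_⟩
      intro A' f' B p' p'' h y
      obtain ⟨⟨a', c⟩, hy⟩ := y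
      have hy' : F.map f' a' = F.map (p ≫ q) c := hy
      -- the intermediate fibre product
      have hB₁ := pb_isFibreProd f' q hq.1
      obtain ⟨r, hr1, hr2⟩ := IsFibreProd.exists_hom_lift hB₁ p' (p'' ≫ p)
        (by rw [h.w, Category.assoc])
      have hr1' : ∀ b, (pbFst f' q hq.1) (r b) = p' b := fun b =>
        congrArg (fun t : B ⟶ A' => t.toAlgHom b) hr1
      have hr2' : ∀ b, (pbSnd f' q hq.1) (r b) = p (p'' b) := fun b =>
        congrArg (fun t : B ⟶ B₀ => t.toAlgHom b) hr2
      have hsq : ArtFun.Art.IsFibreProd r p'' (pbSnd f' q hq.1) p :=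
        { w := hr2
          inj := fun b₁ b₂ h1 h2 => by
            apply h.inj _ _ _ h2
            rw [← hr1', ← hr1', h1]
          surj := fun x c hx => by
            have hx' : f' ((pbFst f' q hq.1) x) = (p ≫ q) c := by
              rw [hB₁.w_apply x, hx]; rfl
            obtain ⟨b, hb1, hb2⟩ := h.surj _ c hx'
            refine ⟨b, ?_, hb2⟩
            apply hB₁.inj
            · rw [hr1', hb1]
            · rw [hr2', hb2, hx] }
      have hy'' : F.map f' a' = F.map q (F.map p c) := by
        rw [hy', Functor.map_comp_apply]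
      obtain ⟨z₁, hz₁⟩ := hq.2 A' f' _ _ _ hB₁ ⟨(a', F.map p c), hy''⟩
      have hz₁1 : F.map (pbFst f' q hq.1) z₁ = a' := congrArg (fun t => t.1.1) hz₁
      have hz₁2 : F.map (pbSnd f' q hq.1) z₁ = F.map p c := congrArg (fun t => t.1.2) hz₁
      obtain ⟨z, hz⟩ := hp.2 _ _ B r p'' hsq ⟨(z₁, c), hz₁2⟩
      have hz1 : F.map r z = z₁ := congrArg (fun t => t.1.1) hz
      have hz2 : F.map p'' z = c := congrArg (fun t => t.1.2) hz
      refine ⟨z, Subtype.ext (Prod.ext ?_ hz2)⟩
      change F.map p' z = a'
      rw [← hr1, Functor.map_comp_apply, hz1, hz₁1]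

end Groth.Agent.S12724
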