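import Groth.Statements.S12720
import Groth.Agent.Helper6.ArtFunFormal

set_option autoImplicit false
universe u v
open CategoryTheory
open ArtFun

namespace Groth.Agent.S12720

open Groth.Agent.Helper6

/-- For functors, let F be a functor on Artinian local Λ-algebras with residue field k with F(k) a
point, and ξ a versal family of F over a complete local Noetherian R with residue field k. Then
every formal element η of F over a complete local Noetherian S with residue field k is induced from
ξ: there is a morphism g : R → S (over Λ, compatible with the augmentations) such that the family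
obtained from ξ by composing with g has formal element η. -/
theorem result {Λ : Type u} {k : Type u} [CommRing Λ] [Field k] [Algebra Λ k]
    [IsNoetherianRing Λ] [Module.Finite Λ k]
    {F : ArtFun.Art Λ k ⥤ Type v} (h0 : ArtFun.H0 F)
    (R : ArtFun.CRing Λ k) (ξ : ArtFun.Family R.carrier R.res F) (hξ : ArtFun.IsVersal ξ)
    (S : ArtFun.CRing Λ k) (η : ArtFun.FormalElt F S) :
    ∃ (g : R.carrier →ₐ[Λ] S.carrier) (hg : S.res.comp g = R.res), (ξ.along g hg).toFormalElt = η := by
  classical
  have hsurj0 := surjective_app_of_isVersal ξ hξ h0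
  have hstep : ∀ (n : ℕ) (prev : {φ : ArtFun.HomSet R.carrier R.res (S.trunc n) // ξ.app _ φ = η.elt n}),
      ∃ ψ : ArtFun.HomSet R.carrier R.res (S.trunc (n + 1)),
        ξ.app _ ψ = η.elt (n + 1) ∧ ArtFun.HomSet.map (S.truncMap n) ψ = prev.1 := by
    intro n prev
    have hc : F.map (S.truncMap n) (η.elt (n + 1)) = ξ.app _ prev.1 := (η.compat n).trans prev.2.symm
    obtain ⟨ψ, h1, h2⟩ := hξ (S.truncMap n) (truncMap_surjective S n) prev.1 (η.elt (n + 1)) hc
    exact ⟨ψ, h2, h1⟩
  let seq : ∀ n : ℕ, {φ : ArtFun.HomSet R.carrier R.res (S.trunc n) // ξ.app _ φ = η.elt n} := fun n =>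
    Nat.rec (motive := fun n => {φ : ArtFun.HomSet R.carrier R.res (S.trunc n) // ξ.app _ φ = η.elt n})
      ⟨Classical.choose (hsurj0 _ (η.elt 0)), Classical.choose_spec (hsurj0 _ (η.elt 0))⟩
      (fun n prev => ⟨Classical.choose (hstep n prev), (Classical.choose_spec (hstep n prev)).1⟩) n
  have hseq : ∀ n, ArtFun.HomSet.map (S.truncMap n) (seq (n + 1)).1 = (seq n).1 := fun n =>
    (Classical.choose_spec (hstep n (seq n))).2
  obtain ⟨g, hg⟩ := CRing.exists_algHom_lift S (fun n => (seq n).1.1)
    (fun n => congrArg Subtype.val (hseq n))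
  have hres : S.res.comp g = R.res := by
    have h1 : S.res = (S.trunc 0).res.comp (S.truncHom 0).1 := (S.truncHom 0).2.symm
    rw [h1, AlgHom.comp_assoc, hg 0]
    exact (seq 0).1.2
  refine ⟨g, hres, ?_⟩
  apply ArtFun.FormalElt.ext'
  intro n
  change ξ.app _ ⟨(S.truncHom n).1.comp g, _⟩ = η.elt n
  rw [← (seq n).2]
  congr 1
  exact Subtype.ext (hg n)

end Groth.Agent.S12720
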