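import Groth.Statements.S4544
import Mathlib
import Groth.Prelude.Def_Exal
import Groth.Prelude.Def_Exal2
import Groth.Agent.Helper2.AdicFS2
import Groth.Agent.Helper2.ExalQuot
open Groth.Agent.Helper2
open TensorProduct
attribute [local instance] Exal.opModule Exal.isCentralScalar_opModule
-- import your own Groth.Agent.* helpers here

set_option autoImplicit false
universe u
open EGA41

namespace Groth.Agent.S4544

open TensorProduct in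
/-- Let B (𝔟-adic) be a formally smooth topological A-algebra over A (𝔞-adic), the structure map being
continuous (a power of 𝔞 maps into 𝔟); squares of open ideals of B are then open. For every open
ideal 𝔄 of B (an ideal containing a power of 𝔟), Ω_{B/A} ⊗_B (B/𝔄) = Ω_{B/A}/𝔄Ω_{B/A} is a
projective (B/𝔄)-module. -/
theorem result {A B : Type u} [CommRing A] [CommRing B] [Algebra A B]
    (𝔞 : Ideal A) (𝔟 : Ideal B) (hAB : ∃ k : ℕ, (𝔞 ^ k).map (algebraMap A B) ≤ 𝔟)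
    (h : EGA41.IsFormallySmoothAdic A 𝔞 B 𝔟) (𝔄 : Ideal B) (h𝔄 : ∃ n : ℕ, 𝔟 ^ n ≤ 𝔄) :
    Module.Projective (B ⧸ 𝔄) ((B ⧸ 𝔄) ⊗[B] Ω[B⁄A]) := by
  obtain ⟨k, hk⟩ := hAB
  obtain ⟨n, hn⟩ := h𝔄
  refine Module.Projective.of_lifting_property'' (fun f hf => ?_)
  -- the derivation `b ↦ 1 ⊗ d b`
  let D' : Derivation A B ((B ⧸ 𝔄) ⊗[B] Ω[B⁄A]) :=
    (TensorProduct.mk B (B ⧸ 𝔄) Ω[B⁄A] 1).compDer (KaehlerDifferential.D A B)
  have hD' : ∀ b, D' b = (1 : B ⧸ 𝔄) ⊗ₜ[B] KaehlerDifferential.D A B b := fun b => rfl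
  -- the projection between the trivial extensions
  let π₀ : TrivSqZeroExt (B ⧸ 𝔄) (((B ⧸ 𝔄) ⊗[B] Ω[B⁄A]) →₀ (B ⧸ 𝔄)) →
      TrivSqZeroExt (B ⧸ 𝔄) ((B ⧸ 𝔄) ⊗[B] Ω[B⁄A]) :=
    fun y => TrivSqZeroExt.inl y.fst + TrivSqZeroExt.inr (f y.snd)
  have hπfst : ∀ y, (π₀ y).fst = y.fst := fun y => by simp [π₀]
  have hπsnd : ∀ y, (π₀ y).snd = f y.snd := fun y => by simp [π₀]
  have π1 : π₀ 1 = 1 := by
    apply TrivSqZeroExt.ext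
    · rw [hπfst, TrivSqZeroExt.fst_one, TrivSqZeroExt.fst_one]
    · rw [hπsnd, TrivSqZeroExt.snd_one, TrivSqZeroExt.snd_one, map_zero]
  have π0 : π₀ 0 = 0 := by
    apply TrivSqZeroExt.ext
    · rw [hπfst, TrivSqZeroExt.fst_zero, TrivSqZeroExt.fst_zero]
    · rw [hπsnd, TrivSqZeroExt.snd_zero, TrivSqZeroExt.snd_zero, map_zero]
  have πmul : ∀ x y, π₀ (x * y) = π₀ x * π₀ y := fun x y => by
    apply TrivSqZeroExt.ext
    · rw [hπfst, TrivSqZeroExt.fst_mul, TrivSqZeroExt.fst_mul, hπfst, hπfst]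
    · rw [hπsnd, TrivSqZeroExt.snd_mul, TrivSqZeroExt.snd_mul, hπfst, hπfst, hπsnd, hπsnd, map_add,
        op_smul_eq_smul, op_smul_eq_smul, map_smul, map_smul]
  have πadd : ∀ x y, π₀ (x + y) = π₀ x + π₀ y := fun x y => by
    apply TrivSqZeroExt.ext
    · rw [hπfst, TrivSqZeroExt.fst_add, TrivSqZeroExt.fst_add, hπfst, hπfst]
    · rw [hπsnd, TrivSqZeroExt.snd_add, TrivSqZeroExt.snd_add, hπsnd, hπsnd, map_add]
  have πalg : ∀ a : A, π₀ (TrivSqZeroExt.inl (algebraMap A (B ⧸ 𝔄) a)) =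
      TrivSqZeroExt.inl (algebraMap A (B ⧸ 𝔄) a) := fun a => by
    apply TrivSqZeroExt.ext
    · rw [hπfst, TrivSqZeroExt.fst_inl, TrivSqZeroExt.fst_inl]
    · rw [hπsnd, TrivSqZeroExt.snd_inl, TrivSqZeroExt.snd_inl, map_zero]
  let π : Exal.Ext.TrivCarrier A (B ⧸ 𝔄) (((B ⧸ 𝔄) ⊗[B] Ω[B⁄A]) →₀ (B ⧸ 𝔄)) →ₐ[A]
      Exal.Ext.TrivCarrier A (B ⧸ 𝔄) ((B ⧸ 𝔄) ⊗[B] Ω[B⁄A]) :=
    { toFun := π₀
      map_one' := π1
      map_mul' := πmul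
      map_zero' := π0
      map_add' := πadd
      commutes' := πalg }
  have hπsurj : Function.Surjective π := by
    intro y
    obtain ⟨x, hx⟩ := hf (TrivSqZeroExt.snd (y : TrivSqZeroExt (B ⧸ 𝔄) ((B ⧸ 𝔄) ⊗[B] Ω[B⁄A])))
    refine ⟨(TrivSqZeroExt.inl (TrivSqZeroExt.fst (y : TrivSqZeroExt (B ⧸ 𝔄) ((B ⧸ 𝔄) ⊗[B] Ω[B⁄A]))) +
      TrivSqZeroExt.inr x : TrivSqZeroExt (B ⧸ 𝔄) _), ?_⟩
    apply TrivSqZeroExt.ext
    · change (π₀ _).fst = _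
      rw [hπfst]; simp
    · change (π₀ _).snd = _
      rw [hπsnd]; simp [hx]
  have hsq : ∀ x y : TrivSqZeroExt (B ⧸ 𝔄) (((B ⧸ 𝔄) ⊗[B] Ω[B⁄A]) →₀ (B ⧸ 𝔄)),
      π₀ x = 0 → π₀ y = 0 → x * y = 0 := by
    intro x y hx0 hy0
    have hx1 : x.fst = 0 := by rw [← hπfst, hx0, TrivSqZeroExt.fst_zero]
    have hy1 : y.fst = 0 := by rw [← hπfst, hy0, TrivSqZeroExt.fst_zero]
    apply TrivSqZeroExt.ext
    · rw [TrivSqZeroExt.fst_mul, hx1, zero_mul, TrivSqZeroExt.fst_zero]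
    · rw [TrivSqZeroExt.snd_mul, op_smul_eq_smul, hx1, hy1, zero_smul, zero_smul, add_zero,
        TrivSqZeroExt.snd_zero]
  have hπnil : IsNilpotent (RingHom.ker (π : Exal.Ext.TrivCarrier A (B ⧸ 𝔄) (((B ⧸ 𝔄) ⊗[B] Ω[B⁄A]) →₀ (B ⧸ 𝔄)) →+*
      Exal.Ext.TrivCarrier A (B ⧸ 𝔄) ((B ⧸ 𝔄) ⊗[B] Ω[B⁄A]))) := by
    refine ⟨2, ?_⟩
    rw [Ideal.zero_eq_bot, eq_bot_iff, pow_two, Ideal.mul_le]
    intro x hx y hy
    exact hsq x y hx hy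
  -- the algebra map `B → R ⊕ M`
  let g₀ : B →+* TrivSqZeroExt (B ⧸ 𝔄) ((B ⧸ 𝔄) ⊗[B] Ω[B⁄A]) := Exal.Ext.derivationHom (C := B ⧸ 𝔄) D'
  have hg₀ : ∀ b, g₀ b = TrivSqZeroExt.inl (algebraMap B (B ⧸ 𝔄) b) + TrivSqZeroExt.inr (D' b) := fun b => rfl
  let g : B →ₐ[A] Exal.Ext.TrivCarrier A (B ⧸ 𝔄) ((B ⧸ 𝔄) ⊗[B] Ω[B⁄A]) :=
    { toFun := g₀
      map_one' := map_one g₀
      map_mul' := map_mul g₀
      map_zero' := map_zero g₀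
      map_add' := map_add g₀
      commutes' := fun a => by
        change g₀ (algebraMap A B a) = TrivSqZeroExt.inl (algebraMap A (B ⧸ 𝔄) a)
        rw [hg₀, Derivation.map_algebraMap, TrivSqZeroExt.inr_zero, add_zero,
          ← IsScalarTower.algebraMap_apply] }
  have hker𝔄 : RingHom.ker (algebraMap B (B ⧸ 𝔄)) = 𝔄 := by
    rw [Ideal.Quotient.algebraMap_eq, Ideal.mk_ker]
  have hgcont : ∃ m : ℕ, ∀ x ∈ 𝔟 ^ m, g x = 0 := by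
    refine ⟨n * 2, fun x hx => ?_⟩
    have hx2 : x ∈ 𝔄 ^ 2 := by
      have : 𝔟 ^ (n * 2) ≤ 𝔄 ^ 2 := by
        rw [pow_mul]
        exact Ideal.pow_right_mono hn 2
      exact this hx
    have hx1 : x ∈ 𝔄 := Ideal.pow_le_self two_ne_zero hx2
    change g₀ x = 0
    rw [hg₀, hD', Ideal.Quotient.algebraMap_eq, Ideal.Quotient.eq_zero_iff_mem.2 hx1,
      ExalQuot.one_tmul_D_eq_zero A B (B ⧸ 𝔄) x (by rw [hker𝔄]; exact hx2), TrivSqZeroExt.inl_zero,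
      TrivSqZeroExt.inr_zero, add_zero]
  have hE : ∃ m : ℕ, (𝔞 ^ m).map (algebraMap A
      (Exal.Ext.TrivCarrier A (B ⧸ 𝔄) (((B ⧸ 𝔄) ⊗[B] Ω[B⁄A]) →₀ (B ⧸ 𝔄)))) = ⊥ := by
    refine ⟨k * n, ?_⟩
    rw [eq_bot_iff, Ideal.map_le_iff_le_comap]
    intro a ha
    rw [Ideal.mem_comap]
    have h1 : algebraMap A B a ∈ 𝔄 := by
      have h2 : (𝔞 ^ (k * n)).map (algebraMap A B) ≤ 𝔟 ^ n := by
        rw [pow_mul, Ideal.map_pow]
        exact Ideal.pow_right_mono hk n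
      exact hn (h2 (Ideal.mem_map_of_mem _ ha))
    change (TrivSqZeroExt.inl (algebraMap A (B ⧸ 𝔄) a) : TrivSqZeroExt (B ⧸ 𝔄) _) ∈ (⊥ : Ideal _)
    rw [IsScalarTower.algebraMap_apply A B (B ⧸ 𝔄), Ideal.Quotient.algebraMap_eq,
      Ideal.Quotient.eq_zero_iff_mem.2 h1, TrivSqZeroExt.inl_zero]
    exact Ideal.zero_mem _
  obtain ⟨v, hv⟩ := AdicFS.lift_of_surjective 𝔞 𝔟 h hE π hπsurj hπnil g hgcont
  -- extract the derivation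
  let v₀ : B → TrivSqZeroExt (B ⧸ 𝔄) (((B ⧸ 𝔄) ⊗[B] Ω[B⁄A]) →₀ (B ⧸ 𝔄)) := fun b => v b
  have hv₀ : ∀ b, π₀ (v₀ b) = g₀ b := fun b => congrArg (fun φ => φ b) hv
  have hv₀fst : ∀ b, (v₀ b).fst = Ideal.Quotient.mk 𝔄 b := fun b => by
    rw [← hπfst, hv₀, hg₀]
    simp
  have hv₀snd : ∀ b, f (v₀ b).snd = D' b := fun b => by
    rw [← hπsnd, hv₀, hg₀]
    simp
  have hv₀mul : ∀ x y, v₀ (x * y) = v₀ x * v₀ y := fun x y => map_mul v x y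
  have hv₀add : ∀ x y, v₀ (x + y) = v₀ x + v₀ y := fun x y => map_add v x y
  have hv₀alg : ∀ a : A, v₀ (algebraMap A B a) = TrivSqZeroExt.inl (algebraMap A (B ⧸ 𝔄) a) :=
    fun a => v.commutes a
  let d₀ : B →ₗ[A] (((B ⧸ 𝔄) ⊗[B] Ω[B⁄A]) →₀ (B ⧸ 𝔄)) :=
    { toFun := fun b => (v₀ b).snd
      map_add' := fun x y => by rw [hv₀add, TrivSqZeroExt.snd_add]
      map_smul' := fun a b => by
        rw [Algebra.smul_def, hv₀mul, hv₀alg, TrivSqZeroExt.snd_mul, TrivSqZeroExt.fst_inl,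
          TrivSqZeroExt.snd_inl, smul_zero, add_zero, RingHom.id_apply, algebraMap_smul] }
  let d : Derivation A B (((B ⧸ 𝔄) ⊗[B] Ω[B⁄A]) →₀ (B ⧸ 𝔄)) := Derivation.mk' d₀ (by
    intro x y
    change (v₀ (x * y)).snd = x • (v₀ y).snd + y • (v₀ x).snd
    rw [hv₀mul, TrivSqZeroExt.snd_mul, op_smul_eq_smul, hv₀fst, hv₀fst,
      ← Ideal.Quotient.algebraMap_eq, algebraMap_smul, algebraMap_smul])
  have hd : ∀ b, f (d b) = D' b := hv₀snd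
  refine ⟨d.liftKaehlerDifferential.liftBaseChange (B ⧸ 𝔄), ?_⟩
  apply LinearMap.ext
  intro t
  refine ExalQuot.tensor_kaehler_ext
    ((f.comp (d.liftKaehlerDifferential.liftBaseChange (B ⧸ 𝔄))).toAddMonoidHom)
    (LinearMap.id : (B ⧸ 𝔄) ⊗[B] Ω[B⁄A] →ₗ[B ⧸ 𝔄] (B ⧸ 𝔄) ⊗[B] Ω[B⁄A]).toAddMonoidHom (fun c b => ?_) t
  change f (d.liftKaehlerDifferential.liftBaseChange (B ⧸ 𝔄) (c ⊗ₜ[B] KaehlerDifferential.D A B b)) =
    c ⊗ₜ[B] KaehlerDifferential.D A B b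
  rw [LinearMap.liftBaseChange_tmul, Derivation.liftKaehlerDifferential_comp_D, map_smul, hd, hD',
    smul_tmul', smul_eq_mul, mul_one]

end Groth.Agent.S4544
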