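import Groth.Statements.S17764
import Mathlib

set_option autoImplicit false
universe u
open InjHull

namespace Groth.Agent.S17764

/-- Let R be a commutative ring and M an R-module which is torsion-free (no nonzero element of R kills a
nonzero element of M) and divisible (multiplication by every nonzero element of R is surjective on
M). Then M is an injective R-module. (Over a ring with zero divisors the two hypotheses force M =
0.) -/
theorem result (R : Type u) [CommRing R] (M : Type u) [AddCommGroup M] [Module R M] [NoZeroSMulDivisors R M] (hdiv : ∀ r : R, r ≠ 0 → Function.Surjective (fun m : M => r • m)) : Module.Injective R M := by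
  apply Module.Baer.injective
  intro I g
  by_cases hI : ∀ x : I, (x : R) = 0
  · refine ⟨0, fun x hx => ?_⟩
    have : (⟨x, hx⟩ : I) = 0 := Subtype.ext (hI ⟨x, hx⟩)
    rw [this, map_zero, LinearMap.zero_apply]
  · push Not at hI
    obtain ⟨a, ha⟩ := hI
    obtain ⟨m₀, hm₀⟩ := hdiv (a : R) ha (g a)
    have hm₀' : (a : R) • m₀ = g a := hm₀
    refine ⟨LinearMap.toSpanSingleton R M m₀, fun b hb => ?_⟩
    rw [LinearMap.toSpanSingleton_apply]
    -- a • (g b - b • m₀) = 0
    have h1 : (a : R) • g ⟨b, hb⟩ = b • g a := by
      have e1 : (a : R) • (⟨b, hb⟩ : I) = b • a := by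
        apply Subtype.ext
        simp [mul_comm]
      rw [← map_smul, e1, map_smul]
    have h2 : (a : R) • (g ⟨b, hb⟩ - b • m₀) = 0 := by
      rw [smul_sub, h1, ← hm₀', smul_smul, smul_smul, mul_comm, sub_self]
    rcases (NoZeroSMulDivisors.eq_zero_or_eq_zero_of_smul_eq_zero h2) with h | h
    · exact absurd h ha
    · exact (sub_eq_zero.1 h).symm

end Groth.Agent.S17764
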