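import Groth.Statements.S0186
import Mathlib
import Groth.Agent.Lead.CSA2
import Groth.Agent.S0190

set_option autoImplicit false
universe u v w
open scoped TensorProduct
open Curves

namespace Groth.Agent.S0186

open Groth.Agent.Lead.CSA MulOpposite

/-- Two algebra maps from a simple algebra into a finite central simple algebra differ by conjugation by
a unit. -/
theorem result (k : Type u) [Field k] (A : Type v) [Ring A] [Algebra k A]
    [Algebra.IsCentral k A] [IsSimpleRing A] [FiniteDimensional k A]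
    (B : Type w) [Ring B] [Algebra k B] [IsSimpleRing B] (f g : B →ₐ[k] A) :
    ∃ x : Aˣ, ∀ b : B, f b = (x : A) * g b * (x⁻¹ : Aˣ) := by
  classical
  have hfinj : Function.Injective f := RingHom.injective f.toRingHom
  have : FiniteDimensional k B := FiniteDimensional.of_injective f.toLinearMap hfinj
  have : IsSimpleRing (B ⊗[k] Aᵐᵒᵖ) := Groth.Agent.S0190.result k B Aᵐᵒᵖ
  have : IsArtinianRing (B ⊗[k] Aᵐᵒᵖ) := IsArtinianRing.of_finite k (B ⊗[k] Aᵐᵒᵖ)
  have hne := nonempty_linearEquiv_of_finrank_eq (k := k) (R := B ⊗[k] Aᵐᵒᵖ)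
    (M₁ := Tw f) (M₂ := Tw g) rfl
  obtain ⟨e⟩ := hne
  set u : A := (Tw.of g).symm (e (Tw.of f 1)) with hu
  set w : A := (Tw.of f).symm (e.symm (Tw.of g 1)) with hw
  have he : ∀ x : A, e (Tw.of f x) = Tw.of g (u * x) := by
    intro x
    have h1 : Tw.of f x = ((1 : B) ⊗ₜ[k] (op x)) • Tw.of f 1 := by
      rw [Tw.smul_tmul]
      simp
    rw [h1, map_smul, Tw.smul_tmul]
    simp [hu]
  have hes : ∀ x : A, e.symm (Tw.of g x) = Tw.of f (w * x) := by
    intro x
    have h1 : Tw.of g x = ((1 : B) ⊗ₜ[k] (op x)) • Tw.of g 1 := by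
      rw [Tw.smul_tmul]
      simp
    rw [h1, map_smul, Tw.smul_tmul]
    simp [hw]
  have hb : ∀ b : B, u * f b = g b * u := by
    intro b
    have h1 : Tw.of f (f b) = (b ⊗ₜ[k] (1 : Aᵐᵒᵖ)) • Tw.of f 1 := by
      rw [Tw.smul_tmul]
      simp
    have h2 := he (f b)
    rw [h1, map_smul, Tw.smul_tmul] at h2
    have h3 := (Tw.of g).injective h2
    simp only [unop_one, mul_one] at h3
    rw [← h3, hu]
  have huw : u * w = 1 := by
    have h1 : e (e.symm (Tw.of g 1)) = Tw.of g 1 := e.apply_symm_apply _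
    rw [hes 1, mul_one, he w] at h1
    exact (Tw.of g).injective h1
  have hwu : w * u = 1 := by
    have h1 : e.symm (e (Tw.of f 1)) = Tw.of f 1 := e.symm_apply_apply _
    rw [he 1, mul_one, hes u] at h1
    exact (Tw.of f).injective h1
  refine ⟨⟨w, u, hwu, huw⟩, fun b => ?_⟩
  change f b = w * g b * u
  rw [mul_assoc, ← hb b, ← mul_assoc, hwu, one_mul]

end Groth.Agent.S0186
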