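import Groth.Statements.S16001
import Mathlib

set_option autoImplicit false
universe u
open FrobAlg

namespace Groth.Agent.S16001

theorem pow_eq_zero_of_mem {C : Type u} [CommRing C] (J : Ideal C) (hJ : J ^ 2 = ⊥) (p : ℕ)
    (hp : 2 ≤ p) (j : C) (hj : j ∈ J) : j ^ p = 0 := by
  have h2 : j ^ 2 = 0 := by
    have : j ^ 2 ∈ J ^ 2 := Ideal.pow_mem_pow hj 2
    rw [hJ] at this
    exact this
  obtain ⟨k, rfl⟩ := Nat.exists_eq_add_of_le hp
  rw [pow_add, h2, zero_mul]

open TensorProduct in
theorem relFrob_tmul (p : ℕ) [Fact p.Prime] (A : Type u) [CommRing A] [CharP A p]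
    (B : Type u) [CommRing B] [Algebra A B] [CharP B p] (b : B) (a : A) :
    FrobAlg.relFrob p A B (b ⊗ₜ[A] (FrobAlg.toTwist p A a)) = b ^ p * algebraMap A B a := by
  simp [FrobAlg.relFrob, FrobAlg.frobHom, FrobAlg.inclHom, FrobAlg.toTarget, FrobAlg.toTwist]
  rfl

open TensorProduct in
theorem main_nontrivial (p : ℕ) [Fact p.Prime] (A : Type u) [CommRing A] [CharP A p]
    (B : Type u) [CommRing B] [Algebra A B] [CharP B p]
    (h : Function.Bijective (FrobAlg.relFrob p A B))
    (C : Type u) [CommRing C] [Algebra A C] [CharP C p] (J : Ideal C) (hJ : J ^ 2 = ⊥) :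
    Function.Bijective ((Ideal.Quotient.mkₐ A J).comp : (B →ₐ[A] C) → B →ₐ[A] C ⧸ J) := by
  have hp2 : 2 ≤ p := (Fact.out : p.Prime).two_le
  constructor
  · -- injective
    intro f₁ f₂ hf
    have hmk : ∀ b, f₁ b - f₂ b ∈ J := by
      intro b
      have := AlgHom.congr_fun hf b
      simp only [AlgHom.comp_apply, Ideal.Quotient.mkₐ_eq_mk] at this
      exact Ideal.Quotient.eq.mp this
    have hpow : ∀ b, f₁ b ^ p = f₂ b ^ p := by
      intro b
      have h1 : f₁ b = f₂ b + (f₁ b - f₂ b) := by ring
      rw [h1, add_pow_char, pow_eq_zero_of_mem J hJ p hp2 _ (hmk b), add_zero]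
    have hcomp : ∀ t : FrobAlg.BaseChange p A B,
        f₁ (FrobAlg.relFrob p A B t) = f₂ (FrobAlg.relFrob p A B t) := by
      intro t
      induction t using TensorProduct.induction_on with
      | zero => simp
      | tmul b a =>
        have : a = FrobAlg.toTwist p A ((FrobAlg.toTwist p A).symm a) := by simp
        rw [this, relFrob_tmul, map_mul, map_mul, map_pow, map_pow, hpow, AlgHom.commutes,
          AlgHom.commutes]
      | add x y hx hy => rw [map_add, map_add, map_add, hx, hy]
    ext b
    obtain ⟨t, rfl⟩ := h.2 b
    exact hcomp t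
  · -- surjective
    intro g
    -- Frobenius of C killing J, as an algebra map to the Frobenius target
    have hkill : ∀ j : C, j ∈ J → FrobAlg.frobHom p A C j = 0 := by
      intro j hj
      change FrobAlg.toTarget p A C (frobenius C p j) = 0
      rw [frobenius_def, pow_eq_zero_of_mem J hJ p hp2 j hj, map_zero]
    let φ : (C ⧸ J) →ₐ[A] FrobAlg.Target p A C := Ideal.Quotient.liftₐ J (FrobAlg.frobHom p A C) hkill
    have hφ : ∀ c : C, (FrobAlg.toTarget p A C).symm (φ (Ideal.Quotient.mk J c)) = c ^ p := fun c => rfl
    let ψ : FrobAlg.BaseChange p A B →ₐ[A] FrobAlg.Target p A C :=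
      Algebra.TensorProduct.lift (φ.comp g) (FrobAlg.inclHom p A C) (fun _ _ => Commute.all _ _)
    let e : FrobAlg.BaseChange p A B ≃+* B := RingEquiv.ofBijective (FrobAlg.relFrob p A B) h
    let f₀ : B →+* C := ((FrobAlg.toTarget p A C).symm : FrobAlg.Target p A C →+* C).comp
      ((ψ : FrobAlg.BaseChange p A B →+* FrobAlg.Target p A C).comp (e.symm : B →+* _))
    have hψ_tmul : ∀ (b : B) (a : A), (FrobAlg.toTarget p A C).symm (ψ (b ⊗ₜ[A] FrobAlg.toTwist p A a)) =
        (FrobAlg.toTarget p A C).symm (φ (g b)) * algebraMap A C a := by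
      intro b a
      simp only [ψ, Algebra.TensorProduct.lift_tmul, AlgHom.comp_apply, map_mul]
      rfl
    have hkey : ∀ t : FrobAlg.BaseChange p A B,
        Ideal.Quotient.mk J ((FrobAlg.toTarget p A C).symm (ψ t)) = g (FrobAlg.relFrob p A B t) := by
      intro t
      induction t using TensorProduct.induction_on with
      | zero => simp
      | tmul b a =>
        have : a = FrobAlg.toTwist p A ((FrobAlg.toTwist p A).symm a) := by simp
        rw [this, hψ_tmul, relFrob_tmul, map_mul, map_mul, map_pow, AlgHom.commutes]
        congr 1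
        obtain ⟨c, hc⟩ := Ideal.Quotient.mk_surjective (g b)
        rw [← hc, hφ, map_pow]
      | add x y hx hy => rw [map_add, map_add, map_add, map_add, map_add, hx, hy]
    have hcomm : ∀ a : A, f₀ (algebraMap A B a) = algebraMap A C a := by
      intro a
      have h1 : e.symm (algebraMap A B a) = (1 : B) ⊗ₜ[A] FrobAlg.toTwist p A a := by
        rw [RingEquiv.symm_apply_eq]
        have : e ((1 : B) ⊗ₜ[A] FrobAlg.toTwist p A a) =
            FrobAlg.relFrob p A B ((1 : B) ⊗ₜ[A] FrobAlg.toTwist p A a) := rfl
        rw [this, relFrob_tmul, one_pow, one_mul]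
      change (FrobAlg.toTarget p A C).symm (ψ (e.symm (algebraMap A B a))) = _
      rw [h1, hψ_tmul, map_one, map_one, map_one, one_mul]
    let f : B →ₐ[A] C := { f₀ with commutes' := hcomm }
    refine ⟨f, ?_⟩
    ext b
    change Ideal.Quotient.mk J ((FrobAlg.toTarget p A C).symm (ψ (e.symm b))) = g b
    rw [hkey]
    congr 1
    exact e.apply_symm_apply b

/-- Let A be a commutative ring of prime characteristic p and B a commutative A-algebra of
characteristic p such that the relative Frobenius B ⊗_{A,Frob} A → B, b ⊗ a ↦ b^p a, is bijective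
(that is, Spec B → Spec A is relatively perfect; no finiteness condition is imposed). Then B is
formally étale over A. (The source proves that every perfect algebraic stack over an algebraic space
of characteristic p is formally étale over it; this is the case of an affine scheme over an affine
base.) -/
theorem result (p : ℕ) [Fact p.Prime] (A : Type u) [CommRing A] [CharP A p]
    (B : Type u) [CommRing B] [Algebra A B] [CharP B p]
    (h : Function.Bijective (FrobAlg.relFrob p A B)) : Algebra.FormallyEtale A B := by
  rw [Algebra.FormallyEtale.iff_comp_bijective]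
  intro C _ _ J hJ
  rcases subsingleton_or_nontrivial C with hC | hC
  · constructor
    · intro f₁ f₂ _
      ext b
      exact Subsingleton.elim _ _
    · intro g
      let f : B →ₐ[A] C :=
        { toFun := fun _ => 0
          map_one' := Subsingleton.elim _ _
          map_mul' := fun _ _ => Subsingleton.elim _ _
          map_zero' := rfl
          map_add' := fun _ _ => Subsingleton.elim _ _
          commutes' := fun _ => Subsingleton.elim _ _ }
      refine ⟨f, ?_⟩
      ext b
      exact Subsingleton.elim _ _
  · have hp0 : ((p : ℕ) : C) = 0 := by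
      have : ((p : ℕ) : A) = 0 := CharP.cast_eq_zero A p
      rw [← map_natCast (algebraMap A C), this, map_zero]
    haveI : CharP C p := by
      have := CharP.ringChar_of_prime_eq_zero (R := C) (Fact.out : p.Prime) hp0
      rw [← this]
      exact ringChar.charP C
    exact main_nontrivial p A B h C J hJ

end Groth.Agent.S16001
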