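import Groth.Statements.S6485
import Mathlib
import Groth.Agent.Helper2.GenericDet
open MvPolynomial Groth.Agent.Helper2.GenericDet
-- import your own Groth.Agent.* helpers here

set_option autoImplicit false
universe u
open IntMult

namespace Groth.Agent.S6485

/-- Let k be a field and n ≥ 1. Then the determinant of the generic matrix (x_{ij})_{1 ≤ i, j ≤ n} is an
irreducible element of the polynomial ring k[x_{ij}] (Mathlib's Matrix.mvPolynomialX is the generic
matrix over MvPolynomial (Fin n × Fin n) k). -/
theorem result (k : Type u) [Field k] (n : ℕ) (hn : 1 ≤ n) : Irreducible (Matrix.mvPolynomialX (Fin n) (Fin n) k).det := by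
  have hD0 : D k n ≠ 0 := Matrix.det_mvPolynomialX_ne_zero (Fin n) k
  show Irreducible (D k n)
  rw [irreducible_iff]
  constructor
  · intro hu
    obtain ⟨c, hc, hDc⟩ := (MvPolynomial.isUnit_iff_eq_C_of_isReduced).1 hu
    let w : Fin n × Fin n := (⟨0, hn⟩, ⟨0, hn⟩)
    apply z_D_ne (k := k) w
    rw [hDc]
    simp [z]
  · intro f g hfg
    have hf0 : f ≠ 0 := by
      rintro rfl
      rw [zero_mul] at hfg
      exact hD0 hfg
    have hg0 : g ≠ 0 := by
      rintro rfl
      rw [mul_zero] at hfg
      exact hD0 hfg
    have hdeg : ∀ v, z v f = f ∨ z v g = g := by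
      intro v
      have h1 := degreeOf_mul_eq (n := v) hf0 hg0
      have h2 := degreeOf_D_le (k := k) v
      rw [hfg, h1] at h2
      rcases Nat.eq_zero_or_pos (degreeOf v f) with h | h
      · left; exact z_eq_self_of_degreeOf h
      · right; apply z_eq_self_of_degreeOf; omega
    have hunit : ∀ p : MvPolynomial (Fin n × Fin n) k, p ≠ 0 → (∀ v, z v p = p) → IsUnit p := by
      intro p hp0 hp
      rw [eq_C_of_forall_z hp]
      apply IsUnit.map
      rw [isUnit_iff_ne_zero]
      intro h0
      apply hp0
      rw [eq_C_of_forall_z hp, h0, map_zero]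
    by_cases hG : ∀ v, z v f = f
    · left; exact hunit f hf0 hG
    by_cases hF : ∀ v, z v g = g
    · right; exact hunit g hg0 hF
    exfalso
    push Not at hG hF
    obtain ⟨x, hx⟩ := hG
    obtain ⟨y, hy⟩ := hF
    have hxF : z x g = g := (hdeg x).resolve_left hx
    have hyG : z y f = f := (hdeg y).resolve_right hy
    have hxy : x ≠ y := by rintro rfl; exact hy hxF
    by_cases hrc : x.1 = y.1 ∨ x.2 = y.2
    · rcases split_pair hfg x y hxy hrc hyG hxF with h | h
      · exact hx h
      · exact hy h
    · push Not at hrc
      let w : Fin n × Fin n := (x.1, y.2)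
      have hwx : x ≠ w := by
        intro h
        have h' : x.2 = w.2 := congrArg Prod.snd h
        exact hrc.2 h'
      have hwy : w ≠ y := by
        intro h
        have h' : w.1 = y.1 := congrArg Prod.fst h
        exact hrc.1 h'
      have hw : z w f = f ∧ z w g = g := by
        rcases hdeg w with h | h
        · refine ⟨h, ?_⟩
          rcases split_pair hfg x w hwx (Or.inl rfl) h hxF with h' | h'
          · exact absurd h' hx
          · exact h'
        · refine ⟨?_, h⟩
          rcases split_pair hfg w y hwy (Or.inr rfl) hyG h with h' | h'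
          · exact h'
          · exact absurd h' hy
      apply z_D_ne (k := k) w
      rw [hfg, map_mul, hw.1, hw.2]

end Groth.Agent.S6485
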