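import Groth.Statements.S15162
import Mathlib
import Groth.Agent.Helper7.GL2Z

set_option autoImplicit false
open Matrix
open BddFin

namespace Groth.Agent.S15162

/-- Let Γ be a finite subgroup of GL_2(ℤ) acting on ℤ² by matrix multiplication. If every element of Γ
has a non-zero fixed vector in ℤ², then there is a non-zero vector of ℤ² fixed by all of Γ. -/
theorem result
    (Γ : Subgroup (Matrix.GeneralLinearGroup (Fin 2) ℤ)) [Finite Γ]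
    (h : ∀ γ ∈ Γ, ∃ v : Fin 2 → ℤ, v ≠ 0 ∧ (γ : Matrix (Fin 2) (Fin 2) ℤ) *ᵥ v = v) :
    ∃ v : Fin 2 → ℤ, v ≠ 0 ∧ ∀ γ ∈ Γ, (γ : Matrix (Fin 2) (Fin 2) ℤ) *ᵥ v = v := by
  classical
  have hfin : ∀ γ ∈ Γ, ∃ n : ℕ, 0 < n ∧ (γ : Matrix (Fin 2) (Fin 2) ℤ) ^ n = 1 := by
    intro γ hγ
    have hfo : IsOfFinOrder (⟨γ, hγ⟩ : Γ) := isOfFinOrder_of_finite _
    obtain ⟨n, hn, hpow⟩ := hfo.exists_pow_eq_one
    refine ⟨n, hn, ?_⟩
    have h1 : γ ^ n = 1 := by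
      have := congrArg Subtype.val hpow
      simpa using this
    have h2 := congrArg (fun u : Matrix.GeneralLinearGroup (Fin 2) ℤ => (u : Matrix (Fin 2) (Fin 2) ℤ)) h1
    simpa using h2
  have hdet1 : ∀ γ ∈ Γ, (γ : Matrix (Fin 2) (Fin 2) ℤ).det = 1 → γ = 1 := by
    intro γ hγ hd
    obtain ⟨v, hv, hfix⟩ := h γ hγ
    obtain ⟨n, hn, hpow⟩ := hfin γ hγ
    apply Units.ext
    exact Groth.Agent.Helper7.GL2Z.eq_one_of_det_one _ hd v hv hfix n hn hpow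
  have hdetpm : ∀ γ : Matrix.GeneralLinearGroup (Fin 2) ℤ,
      (γ : Matrix (Fin 2) (Fin 2) ℤ).det = 1 ∨ (γ : Matrix (Fin 2) (Fin 2) ℤ).det = -1 := by
    intro γ
    have hu : IsUnit (γ : Matrix (Fin 2) (Fin 2) ℤ).det := by
      rw [← Matrix.isUnit_iff_isUnit_det]; exact γ.isUnit
    exact Int.isUnit_iff.mp hu
  by_cases hall : ∀ γ ∈ Γ, (γ : Matrix (Fin 2) (Fin 2) ℤ).det = 1
  · refine ⟨![1, 0], ?_, fun γ hγ => ?_⟩
    · intro h0
      have := congrFun h0 0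
      simp at this
    · rw [hdet1 γ hγ (hall γ hγ)]; simp
  · push Not at hall
    obtain ⟨γ₀, hγ₀, hd₀⟩ := hall
    have hd₀' : (γ₀ : Matrix (Fin 2) (Fin 2) ℤ).det = -1 := (hdetpm γ₀).resolve_left hd₀
    obtain ⟨v, hv, hfix⟩ := h γ₀ hγ₀
    refine ⟨v, hv, fun γ hγ => ?_⟩
    rcases hdetpm γ with hd | hd
    · rw [hdet1 γ hγ hd]; simp
    · have hmul : γ * γ₀ ∈ Γ := Γ.mul_mem hγ hγ₀
      have hdm : ((γ * γ₀ : Matrix.GeneralLinearGroup (Fin 2) ℤ) : Matrix (Fin 2) (Fin 2) ℤ).det = 1 := by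
        rw [Units.val_mul, Matrix.det_mul, hd, hd₀']; norm_num
      have h1 := hdet1 _ hmul hdm
      have h2 : (γ : Matrix (Fin 2) (Fin 2) ℤ) *ᵥ v =
          ((γ * γ₀ : Matrix.GeneralLinearGroup (Fin 2) ℤ) : Matrix (Fin 2) (Fin 2) ℤ) *ᵥ v := by
        rw [Units.val_mul, ← Matrix.mulVec_mulVec, hfix]
      rw [h2, h1]; simp

end Groth.Agent.S15162
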