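import Groth.Statements.S15013
import Mathlib
import Groth.Agent.Helper1.TorsionFreeEmb
import Groth.Agent.Helper1.TorCrit

set_option autoImplicit false
universe u
open CategoryTheory
open TFCurv

namespace Groth.Agent.S15013

/-- Let O be a one-dimensional Noetherian local domain with algebraically closed residue field whose
integral closure O~ in its fraction field K is a finite O-module, and let w be a canonical ideal of
O, taken here as a nonzero finitely generated O-submodule of K whose injective dimension as an
O-module is at most one. Then Ext^i_O(M, w) vanishes for all i ≥ 1 and every finitely generated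
torsion-free O-module M. -/
theorem result (O : Type u) [CommRing O] [IsDomain O] [IsNoetherianRing O] [IsLocalRing O] (hdim : ringKrullDim O = 1) [IsAlgClosed (IsLocalRing.ResidueField O)] (K : Type u) [Field K] [Algebra O K] [IsFractionRing O K] (hfin : Module.Finite O ↥(integralClosure O K)) (ω : Submodule O K) (hω0 : ω ≠ ⊥) (hωfg : ω.FG) (hωinj : HasInjectiveDimensionLT (ModuleCat.of O ↥ω) 2) (M : Type u) [AddCommGroup M] [Module O M] [Module.Finite O M] [NoZeroSMulDivisors O M] (i : ℕ) (hi : 1 ≤ i) : Subsingleton (Abelian.Ext (ModuleCat.of O M) (ModuleCat.of O ↥ω) i) := by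
  classical
  by_cases h2 : 2 ≤ i
  · exact HasInjectiveDimensionLT.subsingleton (ModuleCat.of O ↥ω) 2 i h2 (ModuleCat.of O M)
  · obtain rfl : i = 1 := by omega
    obtain ⟨n, g, hg⟩ := Groth.Agent.Helper1.TorsionFreeEmb.exists_injective_pi (D := O) (M := M)
      (fun d m hd hdm => (smul_eq_zero.1 hdm).resolve_left hd)
    have hT := Groth.Agent.Helper1.TorLib.scOfLinear_shortExact g (LinearMap.range g).mkQ hg
      (Submodule.mkQ_surjective _) (LinearMap.exact_map_mkQ_range g)
    have hP : Projective (ModuleCat.of O (Fin n → O)) :=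
      (IsProjective.iff_projective _).1 inferInstance
    have h0 : ∀ x : Abelian.Ext (ModuleCat.of O M) (ModuleCat.of O ↥ω) 1, x = 0 := by
      intro x₁
      have hsub := HasInjectiveDimensionLT.subsingleton (ModuleCat.of O ↥ω) 2 2 le_rfl
        (ModuleCat.of O ((Fin n → O) ⧸ LinearMap.range g))
      obtain ⟨x₂, hx₂⟩ := Abelian.Ext.contravariant_sequence_exact₁ hT (ModuleCat.of O ↥ω) x₁
        (add_comm 1 1) (@Subsingleton.elim _ hsub _ _)
      have hx₂0 : x₂ = 0 :=
        Abelian.Ext.eq_zero_of_projective (P := ModuleCat.of O (Fin n → O)) x₂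
      rw [← hx₂, hx₂0, Abelian.Ext.comp_zero]
      rfl
    exact ⟨fun x y => by rw [h0 x, h0 y]⟩

end Groth.Agent.S15013
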