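import Groth.Statements.S2465
import Mathlib
import Groth.Agent.Helper1.PBasis5

set_option autoImplicit false
universe u
open EGA41

namespace Groth.Agent.S2465

/-- Let p be a prime, B a ring of characteristic p, A → B injective with image containing all p-th
powers, (x_α) a p-basis of B over A, and L a B-module. (i) An additive derivation D : A → L extends
to a derivation of B if and only if D vanishes on the elements of A mapping to p-th powers. (ii) In
that case, for every family (y_α) in L there is a unique derivation D' of B into L extending D with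
D'(x_α) = y_α for all α. -/
theorem result (p : ℕ) [Fact p.Prime] {A B : Type u} [CommRing A] [CommRing B] [Algebra A B] [CharP B p]
    (hinj : Function.Injective (algebraMap A B)) (hpow : ∀ b : B, b ^ p ∈ Set.range (algebraMap A B))
    {ι : Type u} (x : ι → B) (hx : EGA41.IsPBasis p A x)
    (L : Type u) [AddCommGroup L] [Module B L] [Module A L] [IsScalarTower A B L] (D : Derivation ℤ A L) :
    ((∃ D' : Derivation ℤ B L, ∀ a : A, D' (algebraMap A B a) = D a) ↔ ∀ (a : A) (b : B), algebraMap A B a = b ^ p → D a = 0) ∧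
    ((∀ (a : A) (b : B), algebraMap A B a = b ^ p → D a = 0) →
      ∀ y : ι → L, ∃! D' : Derivation ℤ B L, (∀ a : A, D' (algebraMap A B a) = D a) ∧ ∀ i, D' (x i) = y i) := by
  have hcondP : (∀ (a : A) (b : B), algebraMap A B a = b ^ p → D a = 0) →
      Groth.Agent.Helper1.PBasis.PowCond p (Groth.Agent.Helper1.PBasis.TwD.fstHom (B := B) D) := by
    intro hcond z a ha
    rw [Groth.Agent.Helper1.PBasis.TwD.fstHom_apply] at ha
    apply Groth.Agent.Helper1.PBasis.TwD.ext
    · rw [Groth.Agent.Helper1.PBasis.TwD.algebraMap_apply, Groth.Agent.Helper1.PBasis.TwD.fst_mk,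
        Groth.Agent.Helper1.PBasis.TwD.fst_pow, ha]
    · rw [Groth.Agent.Helper1.PBasis.TwD.algebraMap_apply, Groth.Agent.Helper1.PBasis.TwD.snd_mk,
        Groth.Agent.Helper1.PBasis.TwD.snd_pow, hcond a _ ha, ← Nat.cast_smul_eq_nsmul B,
        CharP.cast_eq_zero, zero_smul]
  have h2 : (∀ (a : A) (b : B), algebraMap A B a = b ^ p → D a = 0) →
      ∀ y : ι → L, ∃! D' : Derivation ℤ B L, (∀ a : A, D' (algebraMap A B a) = D a) ∧ ∀ i, D' (x i) = y i := by
    intro hcond y
    have hP := hcondP hcond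
    set z : ι → Groth.Agent.Helper1.PBasis.TwD (B := B) D :=
      fun i => Groth.Agent.Helper1.PBasis.TwD.mk D (x i) (y i) with hz
    have hqz : ∀ i, Groth.Agent.Helper1.PBasis.TwD.fstHom (B := B) D (z i) = x i := by
      intro i
      rw [Groth.Agent.Helper1.PBasis.TwD.fstHom_apply, hz, Groth.Agent.Helper1.PBasis.TwD.fst_mk]
    obtain ⟨v, hv⟩ := Groth.Agent.Helper1.PBasis.exists_lift p hinj hpow x hx _ hP z hqz
    have hid := Groth.Agent.Helper1.PBasis.comp_eq_id p hinj hpow x hx _ z hqz v hv
    have hfst : ∀ b, (v b).fst = b := fun b => AlgHom.congr_fun hid b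
    refine ⟨Groth.Agent.Helper1.PBasis.derivOfSection D v hfst, ⟨?_, ?_⟩, ?_⟩
    · intro a
      rw [Groth.Agent.Helper1.PBasis.derivOfSection_apply, AlgHom.commutes,
        Groth.Agent.Helper1.PBasis.TwD.algebraMap_apply, Groth.Agent.Helper1.PBasis.TwD.snd_mk]
    · intro i
      rw [Groth.Agent.Helper1.PBasis.derivOfSection_apply, hv, hz, Groth.Agent.Helper1.PBasis.TwD.snd_mk]
    · rintro D₂ ⟨h2a, h2x⟩
      have hvv : Groth.Agent.Helper1.PBasis.sectionOfDeriv D D₂ h2a = v := by
        apply Groth.Agent.Helper1.PBasis.lift_unique p hinj hpow x hx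
        intro i
        rw [hv]
        change Groth.Agent.Helper1.PBasis.TwD.mk D (x i) (D₂ (x i)) = _
        rw [h2x]
      apply Derivation.ext
      intro b
      rw [Groth.Agent.Helper1.PBasis.derivOfSection_apply, ← hvv]
      change D₂ b = (Groth.Agent.Helper1.PBasis.TwD.mk D b (D₂ b)).snd
      rw [Groth.Agent.Helper1.PBasis.TwD.snd_mk]
  refine ⟨⟨?_, ?_⟩, h2⟩
  · rintro ⟨D', hD'⟩ a b hab
    rw [← hD', hab, Derivation.leibniz_pow, ← Nat.cast_smul_eq_nsmul B, CharP.cast_eq_zero, zero_smul]
  · intro hcond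
    obtain ⟨D', ⟨h1, -⟩, -⟩ := h2 hcond (fun _ => 0)
    exact ⟨D', h1⟩

end Groth.Agent.S2465
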