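import Groth.Statements.S2221
import Mathlib
import Groth.Agent.S2215

set_option autoImplicit false
universe u
open Disc

namespace Groth.Agent.S2221

/-- Affine finite free case: let A be a Noetherian ring and B an A-algebra which is finite free as an
A-module, and suppose omega = Hom_A(B, A) is an invertible B-module. Then the different of B over A
(the b with b omega inside B Trace) equals the Noether different of B over A. -/
theorem result {A B : Type u} [CommRing A]
    [CommRing B] [Algebra A B] [IsNoetherianRing A] [Module.Finite A B] [Module.Free A B]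
    [Module.Invertible B (Disc.Omega A B)] :
    Disc.differentSet A B = (Disc.noetherDifferent A B : Set B) := by
  classical
  rw [Groth.Agent.S2215.result]
  ext x
  constructor
  · intro hx
    -- surjectivity of the contraction
    obtain ⟨z, hz⟩ := (Module.Invertible.bijective (R := B) (M := Disc.Omega A B)).2 1
    have key : ∀ z : TensorProduct B (Module.Dual B (Disc.Omega A B)) (Disc.Omega A B),
        ∃ Ψ : Disc.Omega A B →ₗ[B] B, Ψ (Disc.Omega.trace A B) = x * contractLeft B (Disc.Omega A B) z := by
      intro z
      induction z using TensorProduct.induction_on with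
      | zero => exact ⟨0, by simp⟩
      | tmul Φ l =>
        obtain ⟨c, hc⟩ := hx l.toLinearMap
        refine ⟨c • Φ, ?_⟩
        have h1 : x • l = c • Disc.Omega.trace A B := by
          apply Disc.Omega.toLinearMap_injective
          apply LinearMap.ext
          intro y
          rw [Disc.Omega.smul_toLinearMap_apply, Disc.Omega.smul_toLinearMap_apply]
          exact hc y
        rw [contractLeft_apply, LinearMap.smul_apply, smul_eq_mul, ← smul_eq_mul (a := x), ← map_smul, h1,
          map_smul, smul_eq_mul]
      | add z₁ z₂ h₁ h₂ =>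
        obtain ⟨Ψ₁, h₁⟩ := h₁
        obtain ⟨Ψ₂, h₂⟩ := h₂
        exact ⟨Ψ₁ + Ψ₂, by rw [LinearMap.add_apply, h₁, h₂, map_add, mul_add]⟩
    obtain ⟨Ψ, hΨ⟩ := key z
    rw [hz, mul_one] at hΨ
    exact ⟨Ψ, hΨ⟩
  · rintro ⟨Φ, rfl⟩
    intro φ
    -- the endomorphism m ↦ Φ m • ⟨φ⟩ is a scalar
    let E : Module.End B (Disc.Omega A B) := Φ.smulRight (⟨φ⟩ : Disc.Omega A B)
    obtain ⟨r, hr⟩ := (Module.Invertible.toModuleEnd_bijective B (Disc.Omega A B)).2 E
    refine ⟨r, ?_⟩
    intro y
    have h1 : r • Disc.Omega.trace A B = Φ (Disc.Omega.trace A B) • (⟨φ⟩ : Disc.Omega A B) := by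
      have := LinearMap.congr_fun hr (Disc.Omega.trace A B)
      simpa [E] using this
    have h2 := congrArg (fun l : Disc.Omega A B => l.toLinearMap y) h1
    simp only [Disc.Omega.smul_toLinearMap_apply] at h2
    exact h2.symm

end Groth.Agent.S2221
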