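import Groth.Statements.S1990
import Mathlib
import Groth.Agent.Helper7.DomValC

set_option autoImplicit false
universe u
open EtAlg

namespace Groth.Agent.S1990

/-- Let K be the fraction field of a discrete valuation ring A, and K ⊂ L ⊂ M finite separable
extensions. If L/K is tamely ramified (resp. unramified) with respect to A and M/L is tamely
ramified (resp. unramified) with respect to every valuation subring of L dominating A, then M/K is
tamely ramified (resp. unramified) with respect to A. -/
theorem result (A K : Type u) [CommRing A] [IsDomain A] [IsDiscreteValuationRing A] [Field K] [Algebra A K] [IsFractionRing A K] (L M : Type u) [Field L] [Field M]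
    [Algebra K L] [Algebra K M] [Algebra L M] [IsScalarTower K L M] [FiniteDimensional K M] [Algebra.IsSeparable K M] :
    (EtRam.IsTamelyRamified A ((algebraMap K L).comp (algebraMap A K)) →
      (∀ (V : ValuationSubring L), EtRam.Dominates A ((algebraMap K L).comp (algebraMap A K)) V →
        EtRam.IsTamelyRamified V ((algebraMap L M).comp V.subtype)) →
      EtRam.IsTamelyRamified A ((algebraMap K M).comp (algebraMap A K))) ∧
    (EtRam.IsUnramifiedExt A ((algebraMap K L).comp (algebraMap A K)) →
      (∀ (V : ValuationSubring L), EtRam.Dominates A ((algebraMap K L).comp (algebraMap A K)) V →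
        EtRam.IsUnramifiedExt V ((algebraMap L M).comp V.subtype)) →
      EtRam.IsUnramifiedExt A ((algebraMap K M).comp (algebraMap A K))) := by
  refine ⟨?_, ?_⟩
  · intro h1 h2 W hW
    obtain ⟨hV, htow, hl1, hl2, hl3, hdV, hdW, hinj, hne⟩ :=
      Groth.Agent.Helper7.DomVal.tower_package (L := L) W hW
    intro hloc
    letI algAV : Algebra A (W.comap (algebraMap L M)) :=
      (RingHom.codRestrict ((algebraMap K L).comp (algebraMap A K)) (W.comap (algebraMap L M))
        hV.1).toAlgebra
    letI algVW : Algebra (W.comap (algebraMap L M)) W :=
      (RingHom.codRestrict ((algebraMap L M).comp (W.comap (algebraMap L M)).subtype) W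
        (Groth.Agent.Helper7.DomVal.dominates_over (algebraMap L M) W).1).toAlgebra
    letI algAW : Algebra A W :=
      (RingHom.codRestrict ((algebraMap K M).comp (algebraMap A K)) W hW.1).toAlgebra
    haveI := htow
    haveI := hl1
    haveI := hl2
    haveI := hdV
    haveI := hdW
    have t1 : Groth.Agent.Helper7.DomVal.TameAt A (W.comap (algebraMap L M)) := h1 _ hV
    have t2 : Groth.Agent.Helper7.DomVal.TameAt (W.comap (algebraMap L M)) W :=
      h2 _ hV W (Groth.Agent.Helper7.DomVal.dominates_over (algebraMap L M) W)
    exact Groth.Agent.Helper7.DomVal.tameAt_comp hinj hne t1 t2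
  · intro h1 h2 W hW
    obtain ⟨hV, htow, hl1, hl2, hl3, hdV, hdW, hinj, hne⟩ :=
      Groth.Agent.Helper7.DomVal.tower_package (L := L) W hW
    intro hloc
    letI algAV : Algebra A (W.comap (algebraMap L M)) :=
      (RingHom.codRestrict ((algebraMap K L).comp (algebraMap A K)) (W.comap (algebraMap L M))
        hV.1).toAlgebra
    letI algVW : Algebra (W.comap (algebraMap L M)) W :=
      (RingHom.codRestrict ((algebraMap L M).comp (W.comap (algebraMap L M)).subtype) W
        (Groth.Agent.Helper7.DomVal.dominates_over (algebraMap L M) W).1).toAlgebra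
    letI algAW : Algebra A W :=
      (RingHom.codRestrict ((algebraMap K M).comp (algebraMap A K)) W hW.1).toAlgebra
    haveI := htow
    haveI := hl1
    haveI := hl2
    have t1 : Groth.Agent.Helper7.DomVal.UnramAt A (W.comap (algebraMap L M)) := h1 _ hV
    have t2 : Groth.Agent.Helper7.DomVal.UnramAt (W.comap (algebraMap L M)) W :=
      h2 _ hV W (Groth.Agent.Helper7.DomVal.dominates_over (algebraMap L M) W)
    exact Groth.Agent.Helper7.DomVal.unramAt_comp t1 t2

end Groth.Agent.S1990
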