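import Groth.Statements.S18467
import Mathlib
-- import your own Groth.Agent.* helpers here

set_option autoImplicit false
universe u
open Hopf

namespace Groth.Agent.S18467

theorem char_sum_zero {G : Type*} [CommGroup G] [Fintype G] {R : Type*} [CommRing R] (φ : G → R)
    (hφ : ∀ m n, φ (m * n) = φ m * φ n) (g : G) (hg : IsUnit (φ g - 1)) : ∑ m, φ m = 0 := by
  have h1 : ∑ m, φ m = φ g * ∑ m, φ m := by
    rw [Finset.mul_sum, ← Equiv.sum_comp (Equiv.mulLeft g) φ]
    refine Finset.sum_congr rfl fun m _ => ?_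
    rw [Equiv.coe_mulLeft, hφ]
  have h2 : (φ g - 1) * ∑ m, φ m = 0 := by
    rw [sub_mul, one_mul, ← h1, sub_self]
  exact (hg.mul_right_eq_zero).mp h2

/-- Let p be a prime and R a commutative ring containing an element u with u(p − 1) = 1, and let χ be a
homomorphism from the group of units of ℤ/p to the group of units of R such that χ(m) − 1 is a unit
of R for every m ≠ 1. For 0 ≤ i < p − 1 put e_i = u · Σ_m χ(m)^{−i} [m] in the group algebra
R[(ℤ/p)ˣ]. Then the e_i are idempotents, e_i e_j = 0 for i ≠ j, and Σ_i e_i = 1. (The published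
statement is for algebras over the subring of the p-adic integers generated over ℤ by the values of
the Teichmüller character χ and by 1/(p(p − 1)); the hypotheses on R and χ here are the properties
of that situation which the computation uses, so the row is stated for every such pair.) -/
theorem result
    (p : ℕ) [Fact p.Prime] (R : Type u) [CommRing R] (u : R) (hu : u * ((p - 1 : ℕ) : R) = 1)
    (χ : (ZMod p)ˣ →* Rˣ) (hχ : ∀ m : (ZMod p)ˣ, m ≠ 1 → IsUnit ((χ m : R) - 1)) :
    CompleteOrthogonalIdempotents (fun i : Fin (p - 1) =>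
      u • ∑ m : (ZMod p)ˣ, ((χ m⁻¹ : Rˣ) : R) ^ (i : ℕ) • MonoidAlgebra.of R (ZMod p)ˣ m) := by
  classical
  have hcard : Fintype.card (ZMod p)ˣ = p - 1 := ZMod.card_units p
  -- the twisted characters
  set ψ : ℕ → (ZMod p)ˣ → R := fun i m => ((χ m⁻¹ : Rˣ) : R) ^ i with hψ
  have hψmul : ∀ i m n, ψ i (m * n) = ψ i m * ψ i n := by
    intro i m n
    simp only [hψ]
    rw [mul_inv, map_mul, Units.val_mul, mul_pow]
  -- a generator
  obtain ⟨g, hg⟩ := IsCyclic.exists_generator (α := (ZMod p)ˣ)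
  have hord : orderOf g = p - 1 := by
    rw [orderOf_eq_card_of_forall_mem_zpowers hg, Nat.card_eq_fintype_card, hcard]
  rw [CompleteOrthogonalIdempotents.iff_ortho_complete]
  constructor
  · intro i j hij
    show (u • ∑ m : (ZMod p)ˣ, ψ i m • MonoidAlgebra.of R (ZMod p)ˣ m) *
      (u • ∑ m : (ZMod p)ˣ, ψ j m • MonoidAlgebra.of R (ZMod p)ˣ m) = 0
    rw [smul_mul_smul_comm, Finset.sum_mul_sum]
    have h1 : ∀ m : (ZMod p)ˣ, ∑ n : (ZMod p)ˣ,
        (ψ i m • MonoidAlgebra.of R (ZMod p)ˣ m) * (ψ j n • MonoidAlgebra.of R (ZMod p)ˣ n) =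
        ∑ k : (ZMod p)ˣ, (ψ i m * ψ j m⁻¹ * ψ j k) • MonoidAlgebra.of R (ZMod p)ˣ k := by
      intro m
      rw [← Equiv.sum_comp (Equiv.mulLeft m⁻¹)
        (fun n => (ψ i m • MonoidAlgebra.of R (ZMod p)ˣ m) * (ψ j n • MonoidAlgebra.of R (ZMod p)ˣ n))]
      refine Finset.sum_congr rfl fun k _ => ?_
      rw [Equiv.coe_mulLeft, smul_mul_smul_comm, ← map_mul, mul_inv_cancel_left, hψmul, mul_assoc]
    rw [Finset.sum_congr rfl (fun m _ => h1 m), Finset.sum_comm]
    have h2 : ∀ k : (ZMod p)ˣ, ∑ m : (ZMod p)ˣ, (ψ i m * ψ j m⁻¹ * ψ j k) • MonoidAlgebra.of R (ZMod p)ˣ k =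
        ((∑ m : (ZMod p)ˣ, ψ i m * ψ j m⁻¹) * ψ j k) • MonoidAlgebra.of R (ZMod p)ˣ k := by
      intro k
      rw [← Finset.sum_smul, Finset.sum_mul]
    rw [Finset.sum_congr rfl (fun k _ => h2 k)]
    have hS : ∑ m : (ZMod p)ˣ, ψ i m * ψ j m⁻¹ = 0 := by
      apply char_sum_zero (fun m => ψ i m * ψ j m⁻¹) _ g
      · -- unit
        have hne : g ^ (j : ℕ) * (g ^ (i : ℕ))⁻¹ ≠ 1 := by
          intro h
          have h3 : g ^ (j : ℕ) = g ^ (i : ℕ) := by
            rw [mul_inv_eq_one] at h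
            exact h
          have hi : (i : ℕ) ∈ Set.Iio (orderOf g) := by rw [hord]; exact i.isLt
          have hj : (j : ℕ) ∈ Set.Iio (orderOf g) := by rw [hord]; exact j.isLt
          have := pow_injOn_Iio_orderOf hj hi h3
          exact hij (Fin.ext this.symm)
        have h4 := hχ _ hne
        have h5 : ((χ (g ^ (j : ℕ) * (g ^ (i : ℕ))⁻¹) : Rˣ) : R) = ψ i g * ψ j g⁻¹ := by
          simp only [hψ, inv_inv]
          rw [map_mul, map_pow, ← inv_pow, map_pow, Units.val_mul, Units.val_pow_eq_pow_val,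
            Units.val_pow_eq_pow_val, mul_comm]
        rw [h5] at h4
        exact h4
      · intro m n
        show ψ i (m * n) * ψ j (m * n)⁻¹ = ψ i m * ψ j m⁻¹ * (ψ i n * ψ j n⁻¹)
        rw [mul_inv, hψmul, hψmul]
        ring
    rw [hS]
    simp
  · show ∑ i : Fin (p - 1), u • ∑ m : (ZMod p)ˣ, ψ (i : ℕ) m • MonoidAlgebra.of R (ZMod p)ˣ m = 1
    rw [← Finset.smul_sum, Finset.sum_comm]
    have h1 : ∀ m : (ZMod p)ˣ, ∑ i : Fin (p - 1), ψ (i : ℕ) m • MonoidAlgebra.of R (ZMod p)ˣ m =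
        (if m = 1 then ((p - 1 : ℕ) : R) else 0) • MonoidAlgebra.of R (ZMod p)ˣ m := by
      intro m
      rw [← Finset.sum_smul]
      congr 1
      simp only [hψ]
      rw [Fin.sum_univ_eq_sum_range (fun i => ((χ m⁻¹ : Rˣ) : R) ^ i) (p - 1)]
      split_ifs with hm
      · subst hm
        simp
      · have hm' : m⁻¹ ≠ 1 := by simpa using hm
        have hunit := hχ m⁻¹ hm'
        have hpow : ((χ m⁻¹ : Rˣ) : R) ^ (p - 1) = 1 := by
          rw [← Units.val_pow_eq_pow_val, ← map_pow, ← hcard, pow_card_eq_one, map_one, Units.val_one]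
        have h3 := mul_neg_geom_sum ((χ m⁻¹ : Rˣ) : R) (p - 1)
        rw [hpow, sub_self] at h3
        have h4 : (((χ m⁻¹ : Rˣ) : R) - 1) * ∑ i ∈ Finset.range (p - 1), ((χ m⁻¹ : Rˣ) : R) ^ i = 0 := by
          linear_combination -h3
        exact (hunit.mul_right_eq_zero).mp h4
    rw [Finset.sum_congr rfl (fun m _ => h1 m)]
    rw [Finset.sum_eq_single (1 : (ZMod p)ˣ)]
    · rw [if_pos rfl, smul_smul, hu, one_smul]
      rfl
    · intro m _ hm
      rw [if_neg hm, zero_smul]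
    · intro h
      exact absurd (Finset.mem_univ _) h

end Groth.Agent.S18467
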