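import Groth.Statements.S18468
import Mathlib
import Groth.Agent.Helper9.PowConv
import Groth.Agent.S18467
-- import your own Groth.Agent.* helpers here

set_option autoImplicit false
universe u
open OortTate

namespace Groth.Agent.S18468

/-- the action of the units of `ZMod p` on `A` by power maps -/
noncomputable def phi (p : ℕ) [Fact p.Prime] (R : Type u) [CommRing R]
    (A : Type u) [CommRing A] [HopfAlgebra R A]
    (hp : (WithConv.toConv (AlgHom.id R A)) ^ p = 1) : (ZMod p)ˣ →* Module.End R A where
  toFun m := (SGA3b.powConv R A (m : ZMod p).val).toLinearMap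
  map_one' := by
    have : ((1 : (ZMod p)ˣ) : ZMod p).val = 1 := by
      rw [Units.val_one]
      have : Fact (1 < p) := ⟨(Fact.out : p.Prime).one_lt⟩
      exact ZMod.val_one p
    rw [this, Groth.Agent.Helper9.PowConv.powConv_one]
    rfl
  map_mul' m n := by
    rw [Units.val_mul, ZMod.val_mul, Groth.Agent.Helper9.PowConv.powConv_mod R A p hp,
      Groth.Agent.Helper9.PowConv.powConv_mul]
    rfl


/-- Let p be a prime, R a commutative ring containing u with u(p − 1) = 1, and χ a homomorphism from the
units of ℤ/p to the units of R such that χ(m) − 1 is a unit for every m ≠ 1 (the situation of an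
algebra over the subring Λ_p of the p-adic integers generated by the Teichmüller values and 1/(p(p −
1)), with χ the Teichmüller character, which is the published setting). Let A be a commutative Hopf
algebra over R such that the p-th convolution power of the identity of A is the neutral element ε
followed by the unit (the affine group G = Spec A is killed by p), so that for a unit m of ℤ/p the
power map [m] of A depends only on m. For 0 ≤ i < p − 1 let I_i ⊆ A be the submodule of those f with
ε(f) = 0 and [m]f = χ(m)^i f for every m. Then the augmentation ideal ker ε is the internal direct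
sum of the I_i (the family is independent and its supremum is ker ε), and each I_i is the image of
ker ε under the averaging operator u Σ_m χ(m)^{−i}[m]. (The published statement is for the Hopf
algebra of a group scheme of order p over a Λ_p-algebra, which is commutative and killed by p; the
hypotheses here are what the argument uses.) -/
theorem result
    (p : ℕ) [Fact p.Prime] (R : Type u) [CommRing R] (u : R) (hu : u * ((p - 1 : ℕ) : R) = 1)
    (χ : (ZMod p)ˣ →* Rˣ) (hχ : ∀ m : (ZMod p)ˣ, m ≠ 1 → IsUnit ((χ m : R) - 1))
    (A : Type u) [CommRing A] [HopfAlgebra R A]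
    (hp : (WithConv.toConv (AlgHom.id R A)) ^ p = 1) :
    iSupIndep (fun i : Fin (p - 1) => OortTate.eigenAug R A p χ (i : ℕ)) ∧
      (⨆ i : Fin (p - 1), OortTate.eigenAug R A p χ (i : ℕ)) =
        LinearMap.ker (Bialgebra.counitAlgHom R A).toLinearMap ∧
      ∀ i : Fin (p - 1), OortTate.eigenAug R A p χ (i : ℕ) =
        Submodule.map (OortTate.proj R A p u χ (i : ℕ))
          (LinearMap.ker (Bialgebra.counitAlgHom R A).toLinearMap) := by
  classical
  have hcard : Fintype.card (ZMod p)ˣ = p - 1 := ZMod.card_units p
  -- the algebra map from the group algebra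
  set Φ : MonoidAlgebra R (ZMod p)ˣ →ₐ[R] Module.End R A :=
    MonoidAlgebra.lift R (Module.End R A) (ZMod p)ˣ (phi p R A hp) with hΦ
  have hΦe : ∀ i : ℕ, Φ (u • ∑ m : (ZMod p)ˣ, ((χ m⁻¹ : Rˣ) : R) ^ i • MonoidAlgebra.of R (ZMod p)ˣ m)
      = OortTate.proj R A p u χ i := by
    intro i
    rw [map_smul, map_sum]
    unfold OortTate.proj
    congr 1
    refine Finset.sum_congr rfl fun m _ => ?_
    rw [map_smul, hΦ, MonoidAlgebra.lift_of]
    rfl
  have hcoi := (Groth.Agent.S18467.result p R u hu χ hχ).map Φ.toRingHom
  have hcoi' : CompleteOrthogonalIdempotents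
      (fun i : Fin (p - 1) => OortTate.proj R A p u χ (i : ℕ)) := by
    convert hcoi using 1
    funext i
    exact (hΦe i).symm
  -- membership
  have hmem : ∀ (i : ℕ) (f : A), f ∈ OortTate.eigenAug R A p χ i ↔
      Coalgebra.counit (R := R) f = 0 ∧
        ∀ m : (ZMod p)ˣ, SGA3b.powConv R A (m : ZMod p).val f = (((χ m : Rˣ) : R) ^ i) • f := by
    intro i f
    unfold OortTate.eigenAug
    rw [Submodule.mem_inf, LinearMap.mem_ker, Submodule.mem_iInf]
    simp only [Module.End.mem_eigenspace_iff]
    rfl
  -- (1) proj fixes eigenvectors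
  have h1 : ∀ (i : ℕ) (f : A), f ∈ OortTate.eigenAug R A p χ i → OortTate.proj R A p u χ i f = f := by
    intro i f hf
    obtain ⟨_, hf2⟩ := (hmem i f).mp hf
    unfold OortTate.proj
    rw [LinearMap.smul_apply, LinearMap.sum_apply]
    have : ∀ m : (ZMod p)ˣ, ((((χ m⁻¹ : Rˣ) : R) ^ i) •
        (SGA3b.powConv R A (m : ZMod p).val).toLinearMap) f = f := by
      intro m
      rw [LinearMap.smul_apply, AlgHom.toLinearMap_apply, hf2 m, smul_smul, ← mul_pow,
        ← Units.val_mul, ← map_mul, inv_mul_cancel, map_one, Units.val_one, one_pow, one_smul]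
    rw [Finset.sum_congr rfl (fun m _ => this m), Finset.sum_const, Finset.card_univ, hcard,
      ← Nat.cast_smul_eq_nsmul R, smul_smul, hu, one_smul]
  -- (2) proj maps augmentation ideal into eigenspace
  have h2 : ∀ (i : ℕ) (g : A), Coalgebra.counit (R := R) g = 0 →
      OortTate.proj R A p u χ i g ∈ OortTate.eigenAug R A p χ i := by
    intro i g hg
    rw [hmem]
    constructor
    · unfold OortTate.proj
      rw [LinearMap.smul_apply, LinearMap.sum_apply, map_smul, map_sum]
      have : ∀ m : (ZMod p)ˣ, Coalgebra.counit (R := R) (((((χ m⁻¹ : Rˣ) : R) ^ i) •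
          (SGA3b.powConv R A (m : ZMod p).val).toLinearMap) g) = 0 := by
        intro m
        rw [LinearMap.smul_apply, map_smul, AlgHom.toLinearMap_apply,
          Groth.Agent.Helper9.PowConv.counit_powConv, hg, smul_zero]
      rw [Finset.sum_congr rfl (fun m _ => this m), Finset.sum_const_zero, smul_zero]
    · intro m
      have hm : (phi p R A hp m) * OortTate.proj R A p u χ i =
          (((χ m : Rˣ) : R) ^ i) • OortTate.proj R A p u χ i := by
        unfold OortTate.proj
        rw [mul_smul_comm, Finset.mul_sum, smul_comm (((χ m : Rˣ) : R) ^ i) u]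
        congr 1
        rw [Finset.smul_sum]
        rw [← Equiv.sum_comp (Equiv.mulLeft m)
          (fun k => (((χ m : Rˣ) : R) ^ i) • ((((χ k⁻¹ : Rˣ) : R) ^ i) •
            (SGA3b.powConv R A (k : ZMod p).val).toLinearMap))]
        refine Finset.sum_congr rfl fun n _ => ?_
        rw [Equiv.coe_mulLeft, mul_smul_comm, smul_smul, ← mul_pow, ← Units.val_mul, ← map_mul,
          mul_inv_rev, mul_comm m, mul_assoc, inv_mul_cancel, mul_one]
        congr 1
        exact ((phi p R A hp).map_mul m n).symm
      have := congrArg (fun F : Module.End R A => F g) hm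
      exact this
  refine ⟨?_, ?_, ?_⟩
  · -- independence
    intro i
    rw [Submodule.disjoint_def]
    intro x hx hx'
    have hker : (⨆ j, ⨆ (_ : j ≠ i), OortTate.eigenAug R A p χ (j : ℕ)) ≤
        LinearMap.ker (OortTate.proj R A p u χ (i : ℕ)) := by
      refine iSup₂_le fun j hj y hy => ?_
      rw [LinearMap.mem_ker, ← h1 (j : ℕ) y hy]
      have := hcoi'.ortho (Ne.symm hj)
      exact congrArg (fun F : Module.End R A => F y) this
    have := hker hx'
    rw [LinearMap.mem_ker, h1 (i : ℕ) x hx] at this
    exact this
  · apply le_antisymm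
    · refine iSup_le fun i => ?_
      unfold OortTate.eigenAug
      exact inf_le_left
    · intro g hg
      have hg' : Coalgebra.counit (R := R) g = 0 := hg
      have hsum := congrArg (fun F : Module.End R A => F g) hcoi'.complete
      simp only [LinearMap.sum_apply, Module.End.one_apply] at hsum
      rw [← hsum]
      refine Submodule.sum_mem _ fun i _ => ?_
      exact (le_iSup (fun i : Fin (p - 1) => OortTate.eigenAug R A p χ (i : ℕ)) i) (h2 (i : ℕ) g hg')
  · intro i
    apply le_antisymm
    · intro f hf
      refine ⟨f, ?_, h1 (i : ℕ) f hf⟩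
      exact ((hmem (i : ℕ) f).mp hf).1
    · rintro _ ⟨g, hg, rfl⟩
      exact h2 (i : ℕ) g hg

end Groth.Agent.S18468
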