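import Groth.Statements.S13453
import Mathlib

set_option autoImplicit false
universe u
open W4c1hilbpn

namespace Groth.Agent.S13453

open MvPolynomial

/-- the exponent of `x^a * (monomial β in y,z)`. -/
noncomputable def phi (a : ℕ) (β : Fin 2 →₀ ℕ) : Fin 3 →₀ ℕ :=
  Finsupp.mapDomain Fin.succ β + Finsupp.single 0 a

theorem phi_zero (a : ℕ) (β : Fin 2 →₀ ℕ) : phi a β 0 = a := by
  unfold phi
  rw [Finsupp.add_apply, Finsupp.mapDomain_notin_range, Finsupp.single_eq_same, zero_add]
  rintro ⟨i, hi⟩
  exact Fin.succ_ne_zero i hi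

theorem phi_succ (a : ℕ) (β : Fin 2 →₀ ℕ) (i : Fin 2) : phi a β i.succ = β i := by
  unfold phi
  rw [Finsupp.add_apply, Finsupp.mapDomain_apply (Fin.succ_injective 2),
    Finsupp.single_eq_of_ne (Fin.succ_ne_zero i), add_zero]

theorem mem_of_support {k : Type u} [Field k] {σ : Type*} (J : Ideal (MvPolynomial σ k))
    (p : MvPolynomial σ k) (h : ∀ β ∈ p.support, monomial β (1 : k) ∈ J) : p ∈ J := by
  rw [p.as_sum]
  apply Ideal.sum_mem
  intro β hβ
  have : monomial β (coeff β p) = C (coeff β p) * monomial β (1 : k) := by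
    rw [C_mul_monomial, mul_one]
  rw [this]
  exact J.mul_mem_left _ (h β hβ)

theorem mem_sliceX_iff {k : Type u} [Field k] (I : Ideal (MvPolynomial (Fin 3) k)) (hI : IsMonomial I)
    (a : ℕ) (f : MvPolynomial (Fin 2) k) :
    f ∈ sliceX I a ↔ ∀ β ∈ f.support, phi a β ∈ exps I := by
  have hmem : ∀ g : MvPolynomial (Fin 2) k, g ∈ sliceX I a ↔ rename Fin.succ g * X 0 ^ a ∈ I := by
    intro g
    unfold sliceX
    rw [Ideal.mem_comap, Submodule.mem_colon_singleton, smul_eq_mul]
    rfl
  have hmono : ∀ β : Fin 2 →₀ ℕ, rename Fin.succ (monomial β (1 : k)) * X 0 ^ a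
      = monomial (phi a β) (1 : k) := by
    intro β
    rw [rename_monomial, X_pow_eq_monomial, monomial_mul, mul_one]
    rfl
  constructor
  · intro hf β hβ
    rw [hmem] at hf
    apply hI _ hf
    rw [mem_support_iff]
    have : coeff (phi a β) (rename Fin.succ f * X 0 ^ a) = coeff β f := by
      rw [X_pow_eq_monomial]
      unfold phi
      rw [coeff_mul_monomial, mul_one, coeff_rename_mapDomain _ (Fin.succ_injective 2)]
    rw [this]
    exact mem_support_iff.mp hβ
  · intro h
    apply mem_of_support
    intro β hβ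
    rw [hmem, hmono]
    exact h β hβ

open W4c1hilbpn in
/-- Let k be an infinite field, S = k[x,y,z] with variables ordered x > y > z, and I a strongly stable
ideal of finite colength; write I_i for the ideal of polynomials f in k[y,z] with x^i f in I (so I
is the direct sum of the x^i I_i). Then each I_i is a strongly stable ideal of k[y,z] (with y > z)
and the ideal quotient (I_i : y) is contained in I_{i+1}. -/
theorem result (k : Type u) [Field k] [Infinite k]
    (I : Ideal (MvPolynomial (Fin 3) k)) (hI : IsStronglyStable I) [Module.Finite k (MvPolynomial (Fin 3) k ⧸ I)] (i : ℕ) :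
    IsStronglyStable (sliceX I i) ∧
      (sliceX I i).colon {(MvPolynomial.X 0 : MvPolynomial (Fin 2) k)} ≤ sliceX I (i + 1) := by
  have hmono := hI.1
  have hslice_mono : ∀ a, IsMonomial (sliceX I a) := by
    intro a f hf β hβ
    rw [mem_sliceX_iff I hmono] at hf ⊢
    intro γ hγ
    classical
    rw [MvPolynomial.support_monomial, if_neg one_ne_zero, Finset.mem_singleton] at hγ
    subst hγ
    exact hf γ hβ
  refine ⟨⟨hslice_mono i, ?_⟩, ?_⟩
  · intro β hβ i' j' hij hpos
    have hi' : i' = 0 := by
      have := j'.2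
      have h2 : (i' : ℕ) < j' := hij
      exact Fin.ext (by simp only [Fin.val_zero]; omega)
    have hj' : j' = 1 := by
      have := j'.2
      have h2 : (i' : ℕ) < j' := hij
      exact Fin.ext (by simp only [Fin.val_one]; omega)
    subst hi' hj'
    have hβ' : phi i β ∈ exps I := by
      have : MvPolynomial.monomial β (1 : k) ∈ sliceX I i := hβ
      rw [mem_sliceX_iff I hmono] at this
      classical
      apply this β
      rw [MvPolynomial.support_monomial, if_neg one_ne_zero, Finset.mem_singleton]
    have h3 := hI.2 (phi i β) hβ' 1 2 (by decide) (by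
      have := phi_succ i β 1
      rw [show (Fin.succ (1 : Fin 2) : Fin 3) = 2 from rfl] at this
      rw [this]; exact hpos)
    change MvPolynomial.monomial _ (1 : k) ∈ sliceX I i
    rw [mem_sliceX_iff I hmono]
    intro γ hγ
    classical
    rw [MvPolynomial.support_monomial, if_neg one_ne_zero, Finset.mem_singleton] at hγ
    subst hγ
    convert h3 using 1
    ext l
    have h0 := phi_zero i β
    have h1 := phi_succ i β 0
    have h2 := phi_succ i β 1
    have g0 := phi_zero i (β - Finsupp.single 1 1 + Finsupp.single 0 1)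
    have g1 := phi_succ i (β - Finsupp.single 1 1 + Finsupp.single 0 1) 0
    have g2 := phi_succ i (β - Finsupp.single 1 1 + Finsupp.single 0 1) 1
    rw [show (Fin.succ (0 : Fin 2) : Fin 3) = 1 from rfl] at h1 g1
    rw [show (Fin.succ (1 : Fin 2) : Fin 3) = 2 from rfl] at h2 g2
    fin_cases l
    · simp only [Fin.zero_eta, Finsupp.coe_add, Finsupp.coe_tsub, Pi.add_apply, Pi.sub_apply]
      rw [g0, h0]; simp
    · simp only [Fin.mk_one, Finsupp.coe_add, Finsupp.coe_tsub, Pi.add_apply, Pi.sub_apply]
      rw [g1, h1]; simp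
    · simp only [Fin.reduceFinMk, Finsupp.coe_add, Finsupp.coe_tsub, Pi.add_apply, Pi.sub_apply]
      rw [g2, h2]; simp
  · intro f hf
    rw [Submodule.mem_colon_singleton, smul_eq_mul] at hf
    rw [mem_sliceX_iff I hmono] at hf ⊢
    intro β hβ
    have h1 : β + Finsupp.single 0 1 ∈ (f * MvPolynomial.X 0).support := by
      rw [MvPolynomial.support_mul_X]
      exact Finset.mem_map_of_mem _ hβ
    have h2 := hf _ h1
    have h3 := hI.2 _ h2 0 1 (by decide) (by
      have := phi_succ i (β + Finsupp.single 0 1) 0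
      rw [show (Fin.succ (0 : Fin 2) : Fin 3) = 1 from rfl] at this
      rw [this]; simp)
    convert h3 using 1
    ext l
    have h0 := phi_zero (i + 1) β
    have h1' := phi_succ (i + 1) β 0
    have h2' := phi_succ (i + 1) β 1
    have g0 := phi_zero i (β + Finsupp.single 0 1)
    have g1 := phi_succ i (β + Finsupp.single 0 1) 0
    have g2 := phi_succ i (β + Finsupp.single 0 1) 1
    rw [show (Fin.succ (0 : Fin 2) : Fin 3) = 1 from rfl] at h1' g1
    rw [show (Fin.succ (1 : Fin 2) : Fin 3) = 2 from rfl] at h2' g2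
    fin_cases l
    · simp only [Fin.zero_eta, Finsupp.coe_add, Finsupp.coe_tsub, Pi.add_apply, Pi.sub_apply]
      rw [g0, h0]; simp
    · simp only [Fin.mk_one, Finsupp.coe_add, Finsupp.coe_tsub, Pi.add_apply, Pi.sub_apply]
      rw [g1, h1']; simp
    · simp only [Fin.reduceFinMk, Finsupp.coe_add, Finsupp.coe_tsub, Pi.add_apply, Pi.sub_apply]
      rw [g2, h2']; simp

end Groth.Agent.S13453
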