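import Groth.Statements.S3824
import Mathlib

set_option autoImplicit false
universe u
open QReg16

namespace Groth.Agent.S3824

section aux
open MvPolynomial

variable {S : Type u} [CommRing S] {c : ℕ}

/-- linear substitution attached to a matrix -/
noncomputable def sig (m : Matrix (Fin c) (Fin c) S) :
    MvPolynomial (Fin c) S →ₐ[S] MvPolynomial (Fin c) S :=
  aeval (fun i => ∑ j, C (m i j) * X j)

lemma sig_X (m : Matrix (Fin c) (Fin c) S) (i : Fin c) :
    sig m (X i) = ∑ j, C (m i j) * X j := by
  simp [sig]

lemma sig_comp (a b : Matrix (Fin c) (Fin c) S) (p : MvPolynomial (Fin c) S) :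
    sig a (sig b p) = sig (b * a) p := by
  have : (sig a).comp (sig b) = sig (b * a) := by
    apply MvPolynomial.algHom_ext
    intro i
    rw [AlgHom.comp_apply, sig_X, sig_X, map_sum]
    have hh : ∀ j, sig a (C (b i j) * X j) = ∑ k, C (b i j * a j k) * X k := by
      intro j
      rw [map_mul, sig_X, Finset.mul_sum]
      have h1 : sig a (C (b i j)) = C (b i j) := (sig a).commutes (b i j)
      rw [h1]
      apply Finset.sum_congr rfl
      intro k _
      rw [C_mul]; ring
    simp_rw [hh]
    rw [Finset.sum_comm]
    apply Finset.sum_congr rfl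
    intro k _
    rw [← Finset.sum_mul, ← map_sum, Matrix.mul_apply]
  exact congrArg (fun g => g p) this

lemma sig_one (p : MvPolynomial (Fin c) S) : sig (1 : Matrix (Fin c) (Fin c) S) p = p := by
  have : sig (1 : Matrix (Fin c) (Fin c) S) = AlgHom.id S _ := by
    apply MvPolynomial.algHom_ext
    intro i
    rw [sig_X, AlgHom.id_apply]
    rw [Finset.sum_eq_single i]
    · simp
    · intro j _ hj
      rw [Matrix.one_apply_ne hj.symm]; simp
    · intro h; exact absurd (Finset.mem_univ i) h
  rw [this, AlgHom.id_apply]

lemma sig_isHomogeneous (m : Matrix (Fin c) (Fin c) S) {p : MvPolynomial (Fin c) S} {n : ℕ}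
    (hp : p.IsHomogeneous n) : (sig m p).IsHomogeneous n := by
  have := hp.aeval (S := S) (fun i => ∑ j, C (m i j) * X j) (n := 1)
    (fun i => IsHomogeneous.sum _ _ _ (fun j _ => isHomogeneous_C_mul_X _ _))
  rw [one_mul] at this
  exact this

lemma eval_sig (m : Matrix (Fin c) (Fin c) S) (f : Fin c → S) (p : MvPolynomial (Fin c) S) :
    eval f (sig m p) = eval (fun i => ∑ j, m i j * f j) p := by
  have : (eval f : MvPolynomial (Fin c) S →+* S).comp (sig m).toRingHom =
      (eval (fun i => ∑ j, m i j * f j) : MvPolynomial (Fin c) S →+* S) := by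
    apply MvPolynomial.ringHom_ext
    · intro r
      simp [sig]
    · intro i
      simp [sig]
  exact congrArg (fun g => g p) this

lemma map_sig {T : Type u} [CommRing T] (φ : S →+* T) (m : Matrix (Fin c) (Fin c) S)
    (p : MvPolynomial (Fin c) S) :
    map φ (sig m p) = sig (m.map φ) (map φ p) := by
  have : (map φ : MvPolynomial (Fin c) S →+* MvPolynomial (Fin c) T).comp (sig m).toRingHom =
      ((sig (m.map φ)).toRingHom).comp (map φ) := by
    apply MvPolynomial.ringHom_ext
    · intro r
      simp [sig]
    · intro i
      simp [sig]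
  exact congrArg (fun g => g p) this

end aux

/-- Let f_1, …, f_n be a quasi-regular sequence in a ring A and f'_1, …, f'_n another sequence of the
same length generating the same ideal. Then (f'_i) is quasi-regular. -/
theorem result {A : Type u} [CommRing A] {n : ℕ} (f f' : Fin n → A)
    (hf : CAlgX.IsQuasiRegular f) (h : Ideal.span (Set.range f') = Ideal.span (Set.range f)) :
    CAlgX.IsQuasiRegular f' := by
  classical
  -- matrices
  have hm : ∀ i, ∃ c : Fin n → A, ∑ j, c j * f j = f' i := by
    intro i
    have : f' i ∈ Ideal.span (Set.range f) := by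
      rw [← h]; exact Ideal.subset_span ⟨i, rfl⟩
    exact (Ideal.mem_span_range_iff_exists_fun).1 this
  have hn : ∀ j, ∃ c : Fin n → A, ∑ i, c i * f' i = f j := by
    intro j
    have : f j ∈ Ideal.span (Set.range f') := by
      rw [h]; exact Ideal.subset_span ⟨j, rfl⟩
    exact (Ideal.mem_span_range_iff_exists_fun).1 this
  choose m hm using hm
  choose nn hnn using hn
  let M : Matrix (Fin n) (Fin n) A := Matrix.of m
  let N : Matrix (Fin n) (Fin n) A := Matrix.of nn
  have hMf : (fun i => ∑ j, M i j * f j) = f' := by
    funext i; exact hm i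
  -- N * M ≡ 1 mod J
  have hNM : ∀ j k, (N * M) j k - (1 : Matrix (Fin n) (Fin n) A) j k ∈ Ideal.span (Set.range f) := by
    intro j k
    let T : MvPolynomial (Fin n) A :=
      ∑ k, MvPolynomial.C ((N * M) j k - (1 : Matrix (Fin n) (Fin n) A) j k) * MvPolynomial.X k
    have hT : T.IsHomogeneous 1 :=
      MvPolynomial.IsHomogeneous.sum _ _ _ (fun k _ => MvPolynomial.isHomogeneous_C_mul_X _ _)
    have hev : MvPolynomial.eval f T = 0 := by
      simp only [T, map_sum, map_mul, MvPolynomial.eval_C, MvPolynomial.eval_X, sub_mul,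
        Finset.sum_sub_distrib]
      rw [sub_eq_zero]
      have h1 : ∑ k, (1 : Matrix (Fin n) (Fin n) A) j k * f k = f j := by
        rw [Finset.sum_eq_single j]
        · simp
        · intro k _ hk
          rw [Matrix.one_apply_ne hk.symm, zero_mul]
        · intro hh; exact absurd (Finset.mem_univ j) hh
      rw [h1]
      simp only [Matrix.mul_apply, Finset.sum_mul]
      rw [Finset.sum_comm]
      rw [← hnn j]
      apply Finset.sum_congr rfl
      intro i _
      rw [← hm i, Finset.mul_sum]
      apply Finset.sum_congr rfl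
      intro k _
      simp only [N, M, Matrix.of_apply]
      ring
    have := hf 1 T hT (by rw [hev]; exact Ideal.zero_mem _) (Finsupp.single k 1)
    have hc : MvPolynomial.coeff (Finsupp.single k 1) T =
        (N * M) j k - (1 : Matrix (Fin n) (Fin n) A) j k := by
      simp only [T, MvPolynomial.coeff_sum, MvPolynomial.coeff_C_mul, MvPolynomial.coeff_X']
      rw [Finset.sum_eq_single k]
      · simp
      · intro b _ hb
        have : Finsupp.single b 1 ≠ Finsupp.single k 1 := by
          intro e
          have := Finsupp.single_left_injective (one_ne_zero) e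
          exact hb this
        rw [if_neg this, mul_zero]
      · intro hh; exact absurd (Finset.mem_univ k) hh
    rw [hc] at this
    exact this
  let φ := Ideal.Quotient.mk (Ideal.span (Set.range f))
  have hNMbar : N.map φ * M.map φ = 1 := by
    ext j k
    have := hNM j k
    rw [← Matrix.map_mul, Matrix.map_apply]
    have h1 : (1 : Matrix (Fin n) (Fin n) (A ⧸ Ideal.span (Set.range f))) j k =
        φ ((1 : Matrix (Fin n) (Fin n) A) j k) := by
      by_cases hjk : j = k
      · subst hjk; simp
      · rw [Matrix.one_apply_ne hjk, Matrix.one_apply_ne hjk, map_zero]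
    rw [h1]
    exact (Ideal.Quotient.eq).2 this
  have hMNbar : M.map φ * N.map φ = 1 := mul_eq_one_comm.1 hNMbar
  -- main argument
  intro d P hP hev e
  have hQ : (sig M P).IsHomogeneous d := sig_isHomogeneous M hP
  have hevQ : MvPolynomial.eval f (sig M P) ∈ Ideal.span (Set.range f) ^ (d + 1) := by
    rw [eval_sig, hMf, ← h]; exact hev
  have hQc := hf d (sig M P) hQ hevQ
  have hQ0 : MvPolynomial.map φ (sig M P) = 0 := by
    ext e'
    rw [MvPolynomial.coeff_map, MvPolynomial.coeff_zero]
    exact Ideal.Quotient.eq_zero_iff_mem.2 (hQc e')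
  rw [map_sig] at hQ0
  have hP0 : MvPolynomial.map φ P = 0 := by
    rw [← sig_one (MvPolynomial.map φ P), ← hMNbar, ← sig_comp, hQ0, map_zero]
  have := congrArg (MvPolynomial.coeff e) hP0
  rw [MvPolynomial.coeff_map, MvPolynomial.coeff_zero] at this
  rw [h]
  exact Ideal.Quotient.eq_zero_iff_mem.1 this

end Groth.Agent.S3824
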