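import Groth.Statements.S5802
import Groth.Agent.Helper1.QuasiReg2
open RingTheory.Sequence Groth.Agent.Helper1.QuasiReg
-- import your own Groth.Agent.* helpers here

set_option autoImplicit false
universe u
open EGA41

namespace Groth.Agent.S5802

/-- First assertion: case M = A: in a ring A, every A-regular sequence (f_i)_{1 ≤ i ≤ c} is
quasi-regular, i.e. the canonical surjection (A/J)[T_1, ..., T_c] → gr_J(A), J = f_1 A + ... + f_c
A, is bijective. -/
theorem result (A : Type u) [CommRing A] (c : ℕ) (f : Fin c → A)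
    (hf : RingTheory.Sequence.IsWeaklyRegular A (List.ofFn f)) : CAlgX.IsQuasiRegular f := by
  apply isQuasiRegular_of_regular
  intro i y hy
  have h1 := (isWeaklyRegular_iff_Fin _ _).mp hf ⟨i.val, by simp⟩
  rw [isSMulRegular_quotient_iff_mem_of_smul_mem] at h1
  have hI : ∀ z : A, z ∈ (Ideal.ofList ((List.ofFn f).take i) • ⊤ : Submodule A A) ↔
      z ∈ Ideal.span (f '' {j | j < i}) := by
    intro z
    rw [smul_eq_mul, Ideal.mul_top]
    have : {x | x ∈ (List.ofFn f).take i} = f '' {j | j < i} := by
      ext x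
      simp only [Set.mem_ofPred_eq, Set.mem_image]
      constructor
      · intro ha
        obtain ⟨j, hj, rfl⟩ := (mem_take_ofFn_iff f i x).mp ha
        exact ⟨j, hj, rfl⟩
      · rintro ⟨j, hj, rfl⟩
        exact (mem_take_ofFn_iff f i _).mpr ⟨j, hj, rfl⟩
    unfold Ideal.ofList
    rw [this]
  rw [← hI] at hy ⊢
  apply h1
  have h2 : (List.ofFn f)[(⟨i.val, by simp⟩ : Fin (List.ofFn f).length)] = f i := by
    simp
  rw [h2, smul_eq_mul]
  exact hy

end Groth.Agent.S5802
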