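import Groth.Statements.S5452
import Groth.Agent.Helper2.RootD5
open Set RootPairing Module
open scoped Pointwise
open Groth.Agent.Helper2
-- import your own Groth.Agent.* helpers here

set_option autoImplicit false
open RootPairing
open scoped Pointwise
open RootD

namespace Groth.Agent.S5452

/-- The Weyl group of a root datum acts faithfully on the set of roots. -/
theorem result {ι M N : Type*} [AddCommGroup M] [AddCommGroup N]
    (P : RootPairing ι ℤ M N) [Finite ι] :
    Function.Injective P.weylGroupToPerm := by
  rw [injective_iff_map_eq_one]
  rintro ⟨g, hg⟩ h
  have hfix : ∀ i : ι, g • i = i := by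
    intro i
    have := DFunLike.congr_fun h i
    exact this
  have := RD5.aut_eq_one P g (fun m => ⟨1, one_pos, by rw [one_smul]; exact RD5.sub_mem_Q_of_mem_weylGroup P hg m⟩) hfix
  exact Subtype.ext this

end Groth.Agent.S5452
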