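import Groth.Statements.S10722
import Mathlib
import Groth.Agent.Helper5.GlueFT

set_option autoImplicit false
universe u
open TensorProduct
open EtAlg

namespace Groth.Agent.S10722

/-- Glueing along a glueing pair detects finite type morphisms of affine schemes, stated for coordinate
rings. Let `(R → R', f)` be a glueing pair and `φ : A → B` a homomorphism of `R`-algebras with `A`,
`B` glueable as `R`-modules (so `Spec A`, `Spec B` are affine and glueable over `Spec R`). Then `φ`
is of finite type if and only if `A_f → B_f` and `R' ⊗_R A → R' ⊗_R B` are. -/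
theorem result (R : Type u) [CommRing R] (R' : Type u) [CommRing R'] [Algebra R R'] (f : R)
    (hRR' : EtGlue.IsGlueingPair R R' f) (A B : Type u) [CommRing A] [Algebra R A] [CommRing B] [Algebra R B]
    (hA : EtGlue.IsGlueable R R' f A) (hB : EtGlue.IsGlueable R R' f B) (φ : A →ₐ[R] B) :
    φ.toRingHom.FiniteType ↔ (Localization.awayMap φ.toRingHom (algebraMap R A f)).FiniteType ∧ (Algebra.TensorProduct.map (AlgHom.id R R') φ).toRingHom.FiniteType := by
  constructor
  · intro h
    exact ⟨RingHom.localization_away_map_finiteType _ _ _ _ _ _ h, Groth.Agent.Helper5.GlueFT.ft_lTensor R R' A B φ h⟩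
  · rintro ⟨h1, h2⟩
    classical
    obtain ⟨S1, hS1⟩ := Groth.Agent.Helper5.GlueFT.away_ft φ.toRingHom (algebraMap R A f) h1
    obtain ⟨S2, hS2⟩ := Groth.Agent.Helper5.GlueFT.tensor_gens R R' A B φ h2
    obtain ⟨T, hT⟩ : ∃ T, T = (Algebra.TensorProduct.map (AlgHom.id R R') φ).toRingHom := ⟨_, rfl⟩
    rw [← hT] at hS2
    letI := φ.toRingHom.toAlgebra
    letI := T.toAlgebra
    have hT' : ∀ z : R' ⊗[R] A, algebraMap (R' ⊗[R] A) (R' ⊗[R] B) z = T z := fun _ => rfl
    have hφ' : ∀ a : A, algebraMap A B a = φ a := fun _ => rfl
    obtain ⟨B', hB'⟩ : ∃ B' : Subalgebra A B, B' = Algebra.adjoin A ((S1 ∪ S2 : Finset B) : Set B) := ⟨_, rfl⟩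
    have hS1B' : Algebra.adjoin A (S1 : Set B) ≤ B' := by
      rw [hB']; apply Algebra.adjoin_mono; simp
    have hS2B' : ∀ b ∈ S2, b ∈ B' := by
      intro b hb; rw [hB']; apply Algebra.subset_adjoin; simp [hb]
    let N : Submodule R B :=
      { carrier := B'
        add_mem' := fun ha hb => B'.add_mem ha hb
        zero_mem' := B'.zero_mem
        smul_mem' := by
          intro c x hx
          have : c • x = algebraMap A B (algebraMap R A c) * x := by
            rw [hφ', AlgHom.commutes, Algebra.smul_def]
          rw [this]
          exact B'.mul_mem (B'.algebraMap_mem _) hx }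
    have hN : ∀ b, b ∈ N ↔ b ∈ B' := fun _ => Iff.rfl
    have htop : N = ⊤ := by
      apply Groth.Agent.Helper5.GluePair.eq_top_of_torsion_of_surjective hRR'.1
      · intro b
        obtain ⟨m, hm⟩ := hS1 b
        refine ⟨m, ?_⟩
        rw [hN]
        apply hS1B'
        have : f ^ m • b = φ.toRingHom (algebraMap R A f) ^ m * b := by
          change f ^ m • b = φ (algebraMap R A f) ^ m * b
          rw [AlgHom.commutes, Algebra.smul_def, map_pow]
        rw [this]; exact hm
      · -- surjectivity
        have hmul : ∀ x y : R' ⊗[R] B, x ∈ LinearMap.range (LinearMap.lTensor R' N.subtype) →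
            y ∈ LinearMap.range (LinearMap.lTensor R' N.subtype) →
            x * y ∈ LinearMap.range (LinearMap.lTensor R' N.subtype) := by
          rintro _ _ ⟨w, rfl⟩ ⟨w', rfl⟩
          induction w with
          | zero => rw [map_zero, zero_mul]; exact Submodule.zero_mem _
          | add a b ha hb => rw [map_add, add_mul]; exact Submodule.add_mem _ ha hb
          | tmul r b =>
            induction w' with
            | zero => rw [map_zero, mul_zero]; exact Submodule.zero_mem _
            | add a b' ha hb => rw [map_add, mul_add]; exact Submodule.add_mem _ ha hb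
            | tmul r' b' =>
              refine ⟨(r * r') ⊗ₜ[R] ⟨b.1 * b'.1, B'.mul_mem b.2 b'.2⟩, ?_⟩
              simp
        have hT_mem : ∀ z : R' ⊗[R] A, T z ∈ LinearMap.range (LinearMap.lTensor R' N.subtype) := by
          intro z
          induction z with
          | zero => rw [map_zero]; exact Submodule.zero_mem _
          | add a b ha hb => rw [map_add]; exact Submodule.add_mem _ ha hb
          | tmul r a =>
            refine ⟨r ⊗ₜ[R] ⟨φ a, B'.algebraMap_mem a⟩, ?_⟩
            rw [hT]; simp
        intro y
        have hy : y ∈ Algebra.adjoin (R' ⊗[R] A) ((fun b => (1 : R') ⊗ₜ[R] b) '' (S2 : Set B)) := by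
          rw [hS2]; trivial
        change y ∈ LinearMap.range (LinearMap.lTensor R' N.subtype)
        induction hy using Algebra.adjoin_induction with
        | mem x hx =>
          obtain ⟨b, hb, rfl⟩ := hx
          exact ⟨(1 : R') ⊗ₜ[R] ⟨b, hS2B' b hb⟩, by simp⟩
        | algebraMap z => rw [hT']; exact hT_mem z
        | add x y _ _ hx hy => exact Submodule.add_mem _ hx hy
        | mul x y _ _ hx hy => exact hmul x y hx hy
    have hB'top : B' = ⊤ := by
      rw [eq_top_iff]
      intro b _
      have : b ∈ N := by rw [htop]; trivial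
      exact this
    change Algebra.FiniteType A B
    refine ⟨⟨S1 ∪ S2, ?_⟩⟩
    rw [← hB', hB'top]

end Groth.Agent.S10722
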