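import Groth.Statements.S11268
import Mathlib

set_option autoImplicit false
open W4bk4grassmannian

namespace Groth.Agent.S11268

open W4bk4grassmannian in
/-- Let τ < w in I(d,n), the strictly increasing maps Fin d → Fin n ordered entrywise. Then there is a
Schubert divisor φ of w, i.e. φ < w with Σ_t (φ_t - t) + 1 = Σ_t (w_t - t), such that τ ≤ φ: every
proper Schubert subvariety of X(w) lies in a Schubert divisor of X(w). -/
theorem result (d n : ℕ) (τ w : Idx d n) (h : τ < w) :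
    ∃ φ ∈ divisors w, τ ≤ φ := by
  classical
  have hle : ∀ t, τ.1 t ≤ w.1 t := fun t => h.le t
  have hex : ∃ t, τ.1 t < w.1 t := by
    by_contra hcon
    push Not at hcon
    exact h.not_ge (fun t => hcon t)
  -- minimal index
  have hex' : ∃ k : ℕ, ∃ hk : k < d, τ.1 ⟨k, hk⟩ < w.1 ⟨k, hk⟩ := by
    obtain ⟨t, ht⟩ := hex
    exact ⟨t.val, t.isLt, ht⟩
  obtain ⟨hk0, hlt0⟩ := Nat.find_spec hex'
  have hmin : ∀ (k : ℕ) (hk : k < d), k < Nat.find hex' → τ.1 ⟨k, hk⟩ = w.1 ⟨k, hk⟩ := by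
    intro k hk hlt
    have := Nat.find_min hex' hlt
    push Not at this
    exact le_antisymm (hle _) (this hk)
  obtain ⟨t₀, ht₀⟩ : ∃ t₀ : Fin d, t₀ = ⟨Nat.find hex', hk0⟩ := ⟨_, rfl⟩
  rw [← ht₀] at hlt0
  have hmin' : ∀ t : Fin d, t < t₀ → τ.1 t = w.1 t := by
    intro t ht
    exact hmin t.val t.isLt (by rw [ht₀] at ht; exact ht)
  have hge : ∀ (a : Fin d → Fin n), StrictMono a → ∀ (k : ℕ) (hk : k < d), k ≤ (a ⟨k, hk⟩).val := by
    intro a ha k
    induction k with
    | zero => intro _; exact Nat.zero_le _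
    | succ k ih =>
      intro hk
      have h1 := ih (Nat.lt_of_succ_lt hk)
      have h2 : a ⟨k, Nat.lt_of_succ_lt hk⟩ < a ⟨k + 1, hk⟩ := ha (by simp [Fin.lt_def])
      rw [Fin.lt_def] at h2
      omega
  have hwpos : t₀.val < (w.1 t₀).val := by
    have := hge τ.1 τ.2 t₀.val t₀.isLt
    have h2 : (τ.1 t₀).val < (w.1 t₀).val := hlt0
    exact lt_of_le_of_lt this h2
  have hlt1 : (w.1 t₀).val - 1 < n := lt_of_le_of_lt (Nat.sub_le _ _) (w.1 t₀).isLt
  let φf : Fin d → Fin n := fun t => if t = t₀ then ⟨(w.1 t₀).val - 1, hlt1⟩ else w.1 t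
  have hφ0 : φf t₀ = ⟨(w.1 t₀).val - 1, hlt1⟩ := by simp [φf]
  have hφne : ∀ t, t ≠ t₀ → φf t = w.1 t := by intro t ht; simp [φf, ht]
  have hφmono : StrictMono φf := by
    intro a b hab
    by_cases ha : a = t₀
    · have hb : b ≠ t₀ := by rintro rfl; exact absurd (ha ▸ hab) (lt_irrefl _)
      rw [hφne b hb, ha, hφ0, Fin.lt_def]
      have : w.1 t₀ < w.1 b := w.2 (ha ▸ hab)
      rw [Fin.lt_def] at this
      simp only
      omega
    · by_cases hb : b = t₀
      · rw [hφne a ha, hb, hφ0, Fin.lt_def]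
        have h1 : τ.1 a = w.1 a := hmin' a (hb ▸ hab)
        have h2 : τ.1 a < τ.1 t₀ := τ.2 (hb ▸ hab)
        have h3 : (τ.1 t₀).val < (w.1 t₀).val := hlt0
        rw [h1, Fin.lt_def] at h2
        simp only
        omega
      · rw [hφne a ha, hφne b hb]
        exact w.2 hab
  refine ⟨⟨φf, hφmono⟩, ⟨?_, ?_⟩, ?_⟩
  · -- φ < w
    refine lt_of_le_of_ne ?_ ?_
    · intro t
      change φf t ≤ w.1 t
      by_cases ht : t = t₀
      · rw [ht, hφ0, Fin.le_def]; simp only; omega
      · rw [hφne t ht]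
    · intro heq
      have : φf t₀ = w.1 t₀ := congrFun (congrArg Subtype.val heq) t₀
      rw [hφ0, Fin.ext_iff] at this
      simp only at this
      omega
  · -- codeg
    change (Finset.univ.sum fun t : Fin d => (φf t).val - t.val) + 1 =
      Finset.univ.sum fun t : Fin d => (w.1 t).val - t.val
    rw [← Finset.add_sum_erase _ _ (Finset.mem_univ t₀), ← Finset.add_sum_erase _ _ (Finset.mem_univ t₀)]
    have hrest : ∑ x ∈ Finset.univ.erase t₀, ((φf x).val - x.val) =
        ∑ x ∈ Finset.univ.erase t₀, ((w.1 x).val - x.val) := by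
      apply Finset.sum_congr rfl
      intro x hx
      rw [hφne x (Finset.ne_of_mem_erase hx)]
    rw [hrest, hφ0]
    simp only
    omega
  · intro t
    change τ.1 t ≤ φf t
    by_cases ht : t = t₀
    · rw [ht, hφ0, Fin.le_def]
      have h3 : (τ.1 t₀).val < (w.1 t₀).val := hlt0
      simp only
      omega
    · rw [hφne t ht]; exact hle t

end Groth.Agent.S11268
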