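import Groth.Statements.S6273
import Mathlib

set_option autoImplicit false
universe u
open CAlg

namespace Groth.Agent.S6273

/-- Let R be a ring, S ⊆ R a multiplicative subset and A = S⁻¹R. If the image of Spec(A) → Spec(R) is
closed, then the localization map R → A is surjective; in particular A is isomorphic to R/I for the
ideal I = ker(R → A). -/
theorem result {R : Type u} [CommRing R] (S : Submonoid R) (A : Type u) [CommRing A] [Algebra R A] [IsLocalization S A] (hcl : IsClosed (Set.range (PrimeSpectrum.comap (algebraMap R A)))) : Function.Surjective (algebraMap R A) := by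
  have key : ∀ s ∈ S, ∃ r : R, algebraMap R A (r * s) = 1 := by
    intro s hs
    by_contra hcon
    have hne : Ideal.span {s} ⊔ RingHom.ker (algebraMap R A) ≠ ⊤ := by
      intro htop
      have h1 : (1 : R) ∈ Ideal.span {s} ⊔ RingHom.ker (algebraMap R A) := htop ▸ Submodule.mem_top
      rw [Submodule.mem_sup] at h1
      obtain ⟨y, hy, z, hz, hyz⟩ := h1
      rw [Ideal.mem_span_singleton'] at hy
      obtain ⟨a, rfl⟩ := hy
      apply hcon
      refine ⟨a, ?_⟩
      have : algebraMap R A (a * s + z) = 1 := by rw [hyz, map_one]
      rw [map_add, RingHom.mem_ker.mp hz, add_zero] at this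
      exact this
    obtain ⟨m, hm, hle⟩ := Ideal.exists_le_maximal _ hne
    have hmem : (⟨m, hm.isPrime⟩ : PrimeSpectrum R) ∈
        PrimeSpectrum.zeroLocus (RingHom.ker (algebraMap R A) : Set R) := by
      intro x hx
      exact hle (Submodule.mem_sup_right hx)
    rw [← PrimeSpectrum.closure_range_comap, hcl.closure_eq,
      PrimeSpectrum.localization_comap_range A S] at hmem
    have hsm : s ∈ m := hle (Submodule.mem_sup_left (Ideal.mem_span_singleton_self s))
    exact Set.disjoint_left.mp hmem hs hsm
  intro a
  obtain ⟨x, s, rfl⟩ := IsLocalization.exists_mk'_eq S a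
  obtain ⟨r, hr⟩ := key s.1 s.2
  refine ⟨x * r, ?_⟩
  rw [IsLocalization.eq_mk'_iff_mul_eq, ← map_mul, mul_assoc, map_mul, hr, mul_one]

end Groth.Agent.S6273
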