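import Groth.Statements.S4861
import Groth.Agent.Helper2.NoethDom
-- import your own Groth.Agent.* helpers here

set_option autoImplicit false
universe u
open EGA43

namespace Groth.Agent.S4861

/-- For a Noetherian integral domain B the following are equivalent (and hence equivalent to: the
fraction field of B is a finitely generated B-algebra; the generic point of Spec B is open): a) the
localization B_f is a field for some nonzero f; e) Spec B is finite; f) B is semi-local (finitely
many maximal ideals) of Krull dimension at most 1. -/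
theorem result (B : Type u) [CommRing B] [IsDomain B]
    [IsNoetherianRing B] :
    [∃ f : B, f ≠ 0 ∧ IsField (Localization.Away f),
      Finite (PrimeSpectrum B),
      Finite (MaximalSpectrum B) ∧ ringKrullDim B ≤ 1].TFAE := by
  classical
  tfae_have 1 → 2 := by
    rintro ⟨f, hf0, hfield⟩
    have hnontriv : Nontrivial (Localization.Away f) := hfield.nontrivial
    -- every nonzero prime contains f
    have hcontains : ∀ P : Ideal B, P.IsPrime → P ≠ ⊥ → f ∈ P := by
      intro P hP hP0
      by_contra hfP
      have hdisj : Disjoint (Submonoid.powers f : Set B) (P : Set B) := by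
        rw [Set.disjoint_left]
        rintro _ ⟨n, rfl⟩ hmem
        exact hfP (hP.mem_of_pow_mem n hmem)
      have hprime := IsLocalization.isPrime_of_isPrime_disjoint (Submonoid.powers f) (Localization.Away f) P hP hdisj
      have hbot : Ideal.map (algebraMap B (Localization.Away f)) P = ⊥ := by
        by_contra hne
        exact (Ring.not_isField_iff_exists_prime.mpr ⟨_, hne, hprime⟩) hfield
      have hcomap := IsLocalization.under_map_of_isPrime_disjoint (Submonoid.powers f) (Localization.Away f) hP hdisj
      rw [hbot] at hcomap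
      apply hP0
      rw [← hcomap]
      rw [eq_bot_iff]
      intro y hy
      rw [Ideal.mem_comap, Ideal.mem_bot] at hy
      have hinj : Function.Injective (algebraMap B (Localization.Away f)) :=
        IsLocalization.injective _ (powers_le_nonZeroDivisors_of_noZeroDivisors hf0)
      rw [Ideal.mem_bot]
      exact hinj (by rw [hy, map_zero])
    set T0 := (Ideal.span {f}).minimalPrimes with hT0
    have hT0fin : T0.Finite := Ideal.finite_minimalPrimes_of_isNoetherianRing B _
    have hall : ∀ P : Ideal B, P.IsPrime → P ≠ ⊥ → P ∈ T0 := by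
      intro P hP hP0
      set T := hT0fin.toFinset.filter (fun Q => ¬ P ≤ Q) with hT
      obtain ⟨Q', hQ'prime, hQ'0, hQ'P, hQ'T, hQ'small⟩ := Groth.Agent.Helper2.NoethDom.exists_small_prime B P hP0 T (by
        intro Q hQ
        rw [hT, Finset.mem_filter, Set.Finite.mem_toFinset] at hQ
        exact ⟨hQ.1.1.1, hQ.2⟩)
      have hfQ' : f ∈ Q' := hcontains Q' hQ'prime hQ'0
      have hle : Ideal.span {f} ≤ Q' := (Ideal.span_singleton_le_iff_mem Q').mpr hfQ'
      obtain ⟨Q'', hQ''min, hQ''le⟩ := Ideal.exists_minimalPrimes_le hle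
      have hQ''0 : Q'' ≠ ⊥ := by
        intro h
        have : f ∈ Q'' := hQ''min.1.2 (Ideal.mem_span_singleton_self f)
        rw [h] at this
        exact hf0 ((Submodule.mem_bot B).mp this)
      have heq : Q'' = Q' := by
        rcases lt_or_eq_of_le hQ''le with h | h
        · exact absurd (hQ'small Q'' hQ''min.1.1 h) hQ''0
        · exact h
      have hQ'T0 : Q' ∈ T0 := heq ▸ hQ''min
      have hPQ' : P ≤ Q' := by
        by_contra hn
        apply hQ'T
        rw [hT, Finset.mem_filter, Set.Finite.mem_toFinset]
        exact ⟨hQ'T0, hn⟩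
      have : P = Q' := le_antisymm hPQ' hQ'P
      rw [this]; exact hQ'T0
    have hsub : (Set.univ : Set (PrimeSpectrum B)) ⊆ (fun p => p.asIdeal) ⁻¹' (insert ⊥ T0) := by
      intro p _
      by_cases h : p.asIdeal = ⊥
      · left; exact h
      · right; exact hall p.asIdeal p.isPrime h
    have hfin : (Set.univ : Set (PrimeSpectrum B)).Finite := by
      apply Set.Finite.subset _ hsub
      apply Set.Finite.preimage
      · intro p _ q _ h; exact PrimeSpectrum.ext h
      · exact hT0fin.insert ⊥
    exact Set.finite_univ_iff.mp hfin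
  tfae_have 2 → 3 := by
    intro hfin
    constructor
    · exact Finite.of_injective (fun m : MaximalSpectrum B => m.toPrimeSpectrum)
        MaximalSpectrum.toPrimeSpectrum_injective
    · rw [← Nat.cast_one, ← Ring.krullDimLE_iff, Ring.krullDimLE_one_iff_of_isPrime_bot]
      intro I hI0 hIprime
      obtain ⟨M, hMmax, hIM⟩ := Ideal.exists_le_maximal I hIprime.ne_top
      have hM0 : M ≠ ⊥ := fun h => hI0 (le_bot_iff.mp (h ▸ hIM))
      have hMprime : M.IsPrime := hMmax.isPrime
      -- the finite set of primes not containing M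
      have hfinset : {Q : Ideal B | Q.IsPrime ∧ ¬ M ≤ Q}.Finite := by
        have : {Q : Ideal B | Q.IsPrime ∧ ¬ M ≤ Q} ⊆ Set.range (fun p : PrimeSpectrum B => p.asIdeal) := by
          rintro Q ⟨hQ, _⟩
          exact ⟨⟨Q, hQ⟩, rfl⟩
        exact (Set.finite_range _).subset this
      obtain ⟨Q', hQ'prime, hQ'0, hQ'M, hQ'T, hQ'small⟩ := Groth.Agent.Helper2.NoethDom.exists_small_prime B M hM0 hfinset.toFinset (by
        intro Q hQ
        rw [Set.Finite.mem_toFinset] at hQ
        exact hQ)
      have hMQ' : M ≤ Q' := by
        by_contra hn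
        apply hQ'T
        rw [Set.Finite.mem_toFinset]
        exact ⟨hQ'prime, hn⟩
      have hQ'eq : Q' = M := le_antisymm hQ'M hMQ'
      rcases lt_or_eq_of_le hIM with h | h
      · rw [← hQ'eq] at h
        exact absurd (hQ'small I hIprime h) hI0
      · rw [h]; exact hMmax
  tfae_have 3 → 1 := by
    rintro ⟨hfin, hdim⟩
    rw [← Nat.cast_one, ← Ring.krullDimLE_iff, Ring.krullDimLE_one_iff_of_isPrime_bot] at hdim
    have : Fintype (MaximalSpectrum B) := Fintype.ofFinite _
    -- choose a nonzero element in each nonzero maximal ideal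
    have hchoose : ∀ m : MaximalSpectrum B, ∃ x : B, x ≠ 0 ∧ (m.asIdeal ≠ ⊥ → x ∈ m.asIdeal) := by
      intro m
      by_cases h : m.asIdeal = ⊥
      · exact ⟨1, one_ne_zero, fun h' => absurd h h'⟩
      · obtain ⟨x, hx, hx0⟩ := Submodule.exists_mem_ne_zero_of_ne_bot h
        exact ⟨x, hx0, fun _ => hx⟩
    choose x hx0 hxm using hchoose
    set f := ∏ m, x m with hf
    have hf0 : f ≠ 0 := Finset.prod_ne_zero_iff.mpr (fun m _ => hx0 m)
    refine ⟨f, hf0, ?_⟩
    have hdom : IsDomain (Localization.Away f) :=
      IsLocalization.isDomain_localization (M := Submonoid.powers f)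
        (powers_le_nonZeroDivisors_of_noZeroDivisors hf0)
    by_contra hnf
    obtain ⟨q, hq0, hqprime⟩ := Ring.not_isField_iff_exists_prime.mp hnf
    set P := q.comap (algebraMap B (Localization.Away f)) with hP
    have hPprime : P.IsPrime := Ideal.comap_isPrime _ q
    have hfP : f ∉ P := by
      intro h
      rw [hP, Ideal.mem_comap] at h
      have hunit : IsUnit (algebraMap B (Localization.Away f) f) := IsLocalization.Away.algebraMap_isUnit f
      exact hqprime.ne_top (Ideal.eq_top_of_isUnit_mem _ h hunit)
    have hP0 : P ≠ ⊥ := by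
      intro h
      apply hq0
      have := IsLocalization.map_under (Submonoid.powers f) (Localization.Away f) q
      rw [← this]
      show Ideal.map _ P = ⊥
      rw [h, Ideal.map_bot]
    have hPmax := hdim P hP0 hPprime
    apply hfP
    have hmem : x ⟨P, hPmax⟩ ∈ P := hxm ⟨P, hPmax⟩ hP0
    rw [hf]
    exact Ideal.mem_of_dvd P (Finset.dvd_prod_of_mem x (Finset.mem_univ _)) hmem
  tfae_finish

end Groth.Agent.S4861
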