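import Groth.Statements.S3815
import Groth.Agent.Helper1.PrinParts

set_option autoImplicit false
universe u
open scoped TensorProduct
open scoped BigOperators
open PP16

namespace Groth.Agent.S3815

/-- Let B be an A-algebra, M and N two B-modules and D : M → N an A-linear map. Let P^n(M) = P^n_{B/A}
⊗_B M, the tensor product formed with the B-module structure of P^n_{B/A} through d^n, regarded as a
B-module through the first factor of P^n_{B/A}, with d^n_M : M → P^n(M), m ↦ 1 ⊗ m. Then D is a
differential operator of order at most n relative to A (order defined through iterated commutators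
with multiplication by elements of B) if and only if there is exactly one additive map u : P^n(M) →
N which is B-linear for the first-factor structure and satisfies u(1 ⊗ m) = D(m) for all m ∈ M. -/
theorem result (n : ℕ) (A B : Type u) [CommRing A] [CommRing B] [Algebra A B]
    (M N : Type u) [AddCommGroup M] [Module A M] [Module B M] [IsScalarTower A B M]
    [AddCommGroup N] [Module A N] [Module B N] [IsScalarTower A B N] (D : M →ₗ[A] N) :
    Diff16.IsDiffOpLE A B M N n D ↔
      ∃! u : PP16.PM n A B M →+ N,
        (∀ (b : B) (t : PP16.PM n A B M), u (algebraMap B (PP16.P n A B) b • t) = b • u t) ∧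
          ∀ m : M, u (PP16.dM n A B M m) = D m := by
  classical
  constructor
  · intro hD
    have hvan : ∀ t ∈ (KaehlerDifferential.ideal A B) ^ (n + 1),
        Groth.Agent.Helper1.PrinParts.Psi D t = 0 := by
      intro t ht
      ext m
      rw [Groth.Agent.Helper1.PrinParts.Psi_eq_linearize, LinearMap.zero_apply]
      exact Groth.Agent.Helper1.DiffOp.linearize_vanish' n _
        (Groth.Agent.Helper1.PrinParts.isDiffOpLE_rho_comp n D hD m) t ht
    obtain ⟨u, hu⟩ := Groth.Agent.Helper1.PrinParts.exists_u n D hvan
    have hlin : ∀ (b : B) (t : PP16.PM n A B M),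
        u (algebraMap B (PP16.P n A B) b • t) = b • u t := by
      intro b t
      induction t using TensorProduct.induction_on with
      | zero => rw [smul_zero, map_zero, smul_zero]
      | tmul p m =>
        obtain ⟨t, rfl⟩ := Groth.Agent.Helper1.PrinParts.cls_surjective n p
        rw [TensorProduct.smul_tmul', Groth.Agent.Helper1.PrinParts.algebraMap_smul_cls, hu, hu,
          Groth.Agent.Helper1.PrinParts.Psi_mul_left]
      | add x y hx hy => rw [smul_add, map_add, map_add, hx, hy, smul_add]
    have hd : ∀ m : M, u (PP16.dM n A B M m) = D m := by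
      intro m
      have : PP16.dM n A B M m =
          Groth.Agent.Helper1.PrinParts.cls n ((1 : B) ⊗ₜ[A] (1 : B)) ⊗ₜ[B] m := by
        rw [Groth.Agent.Helper1.PrinParts.cls_one]; rfl
      rw [this, hu, Groth.Agent.Helper1.PrinParts.Psi_tmul, one_smul, one_smul]
    refine ⟨u, ⟨hlin, hd⟩, ?_⟩
    rintro v ⟨hvlin, hvd⟩
    apply AddMonoidHom.ext
    intro t
    induction t using TensorProduct.induction_on with
    | zero => rw [map_zero, map_zero]
    | tmul p m =>
      obtain ⟨t, rfl⟩ := Groth.Agent.Helper1.PrinParts.cls_surjective n p
      rw [Groth.Agent.Helper1.PrinParts.eq_Psi_of n D v hvlin hvd, hu]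
    | add x y hx hy => rw [map_add, map_add, hx, hy]
  · rintro ⟨u, ⟨hlin, hd⟩, -⟩
    apply Groth.Agent.Helper1.PrinParts.isDiffOpLE_of_rho
    intro m
    apply Groth.Agent.Helper1.DiffOp.isDiffOpLE_of_linearize_vanish
    intro t ht
    rw [← Groth.Agent.Helper1.PrinParts.Psi_eq_linearize,
      ← Groth.Agent.Helper1.PrinParts.eq_Psi_of n D u hlin hd t m,
      Groth.Agent.Helper1.PrinParts.cls_eq_zero n ht, TensorProduct.zero_tmul, map_zero]

end Groth.Agent.S3815
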