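import Groth.Statements.S9684
import Groth.Agent.Helper5.UCat5

set_option autoImplicit false
universe u
open CategoryTheory CategoryTheory.Limits AlgebraicGeometry
open Cyc

namespace Groth.Agent.S9684

/-- Let S be a locally Noetherian scheme whose local rings are universally catenary, δ a dimension
function on S, and f : X ⟶ S locally of finite type. Then the function δ_X(x) = δ(f x) + trdeg_{κ(f
x)} κ(x) is a dimension function on X. -/
theorem result {X S : Scheme.{u}} (f : X ⟶ S)
    [LocallyOfFiniteType f] (δ : ↥S → ℤ) (hS : Cyc.IsSetup S δ) (δX : ↥X → ℤ)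
    (hδ : Cyc.DeltaCompat f δX δ) : Cyc.IsDimFun X δX := by
  obtain ⟨hN, hUC, hdim⟩ := hS
  intro x y hsp hne
  obtain ⟨a, c, n, e, ha, hc, hn, he, hsum⟩ :=
    Groth.Agent.Helper5.UCat.scheme_dimension_equality f hUC y x hsp
  obtain ⟨n', hn', hδy⟩ := hδ y
  obtain ⟨e', he', hδx⟩ := hδ x
  have hnn : n' = n := by
    have : (n' : Cardinal.{u}) = (n : Cardinal.{u}) := hn'.symm.trans hn
    exact_mod_cast this
  have hee : e' = e := by
    have : (e' : Cardinal.{u}) = (e : Cardinal.{u}) := he'.symm.trans he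
    exact_mod_cast this
  subst hnn hee
  have hbase := Groth.Agent.Helper5.UCat.dimFun_sub_eq δ hdim (f x) (f y) (hsp.map f.continuous) c hc
  have hdiff : δX x = δX y + a := by
    rw [hδx, hδy, hbase]
    have : ((a + n' : ℕ) : ℤ) = ((c + e' : ℕ) : ℤ) := by exact_mod_cast hsum
    push_cast at this
    linarith
  have hyx : y < x := by
    refine lt_of_le_not_ge (Scheme.le_iff_specializes.2 hsp) ?_
    intro h
    exact hne ((Scheme.le_iff_specializes.1 h).antisymm hsp).eq.symm
  have ha1 : 1 ≤ a := by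
    have h1 : (1 : WithBot ℕ∞) ≤ Order.krullDim ↥(Set.Icc y x) := by
      rw [Order.one_le_krullDim_iff]
      exact ⟨⟨y, le_rfl, hyx.le⟩, ⟨x, hyx.le, le_rfl⟩, hyx⟩
    rw [ha] at h1
    exact_mod_cast h1
  have ha1' : (1 : ℤ) ≤ (a : ℤ) := by exact_mod_cast ha1
  refine ⟨by rw [hdiff]; linarith, ?_⟩
  intro himm
  have ha2 : a ≤ 1 := by
    have h1 : Order.krullDim ↥(Set.Icc y x) ≤ 1 := by
      rw [Order.krullDim_le_one_iff]
      intro z
      rcases himm z.1 (Scheme.le_iff_specializes.1 z.2.2) (Scheme.le_iff_specializes.1 z.2.1)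
        with h | h
      · right
        intro b _
        show b.1 ≤ z.1
        rw [h]
        exact b.2.2
      · left
        intro b _
        show z.1 ≤ b.1
        rw [h]
        exact b.2.1
    rw [ha] at h1
    exact_mod_cast h1
  have : a = 1 := le_antisymm ha2 ha1
  rw [hdiff, this]
  rfl

end Groth.Agent.S9684
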