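import Groth.Statements.S5671
import Groth.Agent.Helper2.Grade
open Groth.Agent.Helper2 RingTheory.Sequence IsLocalRing Pointwise Module CategoryTheory Abelian
-- import your own Groth.Agent.* helpers here

set_option autoImplicit false
universe u
open CategoryTheory
open Dual

namespace Groth.Agent.S5671

/-- First assertion, in the local-algebra form to which its proof reduces it: let `A` be a regular local
ring of dimension `n`, `p ≥ 0`, and `M` a finite `A`-module whose support has dimension at most `n -
p`. Then `Ext^i_A(M, A) = 0` for every `i < p`. (The geometric statement: on a nonsingular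
`n`-dimensional variety the sheaves `Ext^i(F, L)` vanish for `i < p` when `F` is coherent with
support of dimension `≤ n - p` and `L` is locally free.) -/
theorem result (A : Type u) [CommRing A] [IsRegularLocalRing A] (M : Type u) [AddCommGroup M] [Module A M] [Module.Finite A M] (p : ℕ) (hdim : Module.supportDim A M + p ≤ ringKrullDim A) (i : ℕ) (hi : i < p) : Subsingleton (Abelian.Ext (ModuleCat.of A M) (ModuleCat.of A A) i) := by
  rcases subsingleton_or_nontrivial M with hs | hnt
  · have hz : Limits.IsZero (ModuleCat.of A M) := ModuleCat.isZero_of_subsingleton _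
    refine subsingleton_of_forall_eq 0 (fun e => ?_)
    have : e = (Ext.mk₀ (𝟙 (ModuleCat.of A M))).comp e (zero_add i) := (Ext.mk₀_id_comp e).symm
    rw [this, hz.eq_of_src (𝟙 _) 0, Ext.mk₀_zero, Ext.zero_comp]
  · have hcm := RegCM.cm_of_isRegularLocalRing A
    rw [← Module.supportDim_self_eq_ringKrullDim] at hdim
    obtain ⟨xs, h1, h2, h3⟩ := Groth.Agent.Helper2.Grade.grade_ge A A hcm M p hdim
    refine DepthRees.ext_subsingleton_of_weaklyRegular (Module.annihilator A M) (ModuleCat.of A M) 1
      ?_ xs (ModuleCat.of A A) h2 h1 i (by omega)
    intro a ha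
    simpa using ha

end Groth.Agent.S5671
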