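import Groth.Statements.S14765
import Groth.Agent.Helper8.ValChainC

set_option autoImplicit false
universe u
open CategoryTheory CategoryTheory.Limits AlgebraicGeometry
open Subtr

namespace Groth.Agent.S14765

/-- Let V be a valuation ring and f : X ⟶ Spec V any morphism of schemes. The following are equivalent:
(a) after every base change, every ordered pair of points of the target (a point and a
specialization of it) lifts to an ordered pair of points of the source; (b) every ordered pair of
points of Spec V lifts to an ordered pair of points of X; (c) every point of Spec V is the image of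
a point of X lying in the closure of the generic fibre; (d) the pair formed by the closed point and
the generic point of Spec V lifts to points x, x' of X with x a specialization of x'; (e) there are
a valuation ring W and a morphism Spec W ⟶ X whose composite with f is surjective; (f) there is a
closed subscheme Z of X such that Z ⟶ Spec V is flat and surjective. (The published list also
contains subtrusiveness and universal subtrusiveness, which add submersiveness for the constructible
topology, and the lifting of arbitrary chains of points; this row omits those items and keeps the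
lifting property alone in (a).) -/
theorem result (V : Type u) [CommRing V] [IsDomain V] [ValuationRing V]
    {X : Scheme.{u}} (f : X ⟶ Spec (CommRingCat.of V)) :
    List.TFAE [
      Subtr.UnivSSubtrusive f,
      Subtr.IsSSubtrusive f,
      ∀ y : Spec (CommRingCat.of V), ∃ x : X,
        x ∈ closure (f ⁻¹' {(⟨⊥, Ideal.isPrime_bot⟩ : PrimeSpectrum V)}) ∧ f x = y,
      ∃ x x' : X, x' ⤳ x ∧ f x = IsLocalRing.closedPoint V ∧
        f x' = (⟨⊥, Ideal.isPrime_bot⟩ : PrimeSpectrum V),
      ∃ (W : Type u) (_ : CommRing W) (_ : IsDomain W) (_ : ValuationRing W)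
        (g : Spec (CommRingCat.of W) ⟶ X), Surjective (g ≫ f),
      ∃ (Z : Scheme.{u}) (i : Z ⟶ X), IsClosedImmersion i ∧ Flat (i ≫ f) ∧ Surjective (i ≫ f)] := by
  tfae_have 1 → 2 := fun h => MorphismProperty.universally_le _ _ h
  tfae_have 2 → 4 := by
    intro h
    have hs : (⟨⊥, Ideal.isPrime_bot⟩ : PrimeSpectrum V) ⤳ IsLocalRing.closedPoint V :=
      (PrimeSpectrum.le_iff_specializes _ _).mp (by show (⊥ : Ideal V) ≤ _; exact bot_le)
    obtain ⟨x, x', hxx, hx, hx'⟩ := h hs
    exact ⟨x, x', hxx, hx, hx'⟩
  tfae_have 4 → 5 := by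
    rintro ⟨x, x', hxx, hx, hx'⟩
    obtain ⟨W, i1, i2, i3, g, -, hs⟩ :=
      Groth.Agent.Helper8.ValChain.exists_valuation_hom_surjective f hxx hx hx'
    exact ⟨W, i1, i2, i3, g, hs⟩
  tfae_have 5 → 1 := by
    rintro ⟨W, i1, i2, i3, g, hs⟩
    haveI := hs
    haveI := Groth.Agent.Helper8.ValChain.flat_of_surjective_valuationRing (g ≫ f)
    exact Groth.Agent.Helper8.ValChain.univSSubtrusive_of_comp g f
      (Groth.Agent.Helper8.ValChain.univSSubtrusive_of_flat_surjective (g ≫ f))
  tfae_have 5 → 3 := by
    rintro ⟨W, i1, i2, i3, g, hs⟩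
    haveI := hs
    obtain ⟨h0, h1⟩ := Groth.Agent.Helper8.ValChain.closure_of_surjective f g
    intro y
    obtain ⟨Q, hQ1, hQ2⟩ := h1 y
    have hsub : ({g (⊥ : PrimeSpectrum W)} : Set X) ⊆
        f ⁻¹' {(⟨⊥, Ideal.isPrime_bot⟩ : PrimeSpectrum V)} :=
      Set.singleton_subset_iff.mpr h0
    exact ⟨g Q, closure_mono hsub hQ1, hQ2⟩
  tfae_have 3 → 4 := by
    intro h
    obtain ⟨x, hx1, hx2⟩ := h (IsLocalRing.closedPoint V)
    obtain ⟨x', hxx, hx'⟩ :=
      Groth.Agent.Helper8.ValChain.exists_specializes_of_mem_closure f x hx1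
    exact ⟨x, x', hxx, hx2, hx'⟩
  tfae_have 4 → 6 := by
    rintro ⟨x, x', hxx, hx, hx'⟩
    obtain ⟨W, i1, i2, i3, g, hg, hs⟩ :=
      Groth.Agent.Helper8.ValChain.exists_valuation_hom_surjective f hxx hx hx'
    haveI := hs
    obtain ⟨h0, h1⟩ := Groth.Agent.Helper8.ValChain.closure_of_surjective f g
    refine ⟨_, (Scheme.IdealSheafData.vanishingIdeal
      (⟨closure {x'}, isClosed_closure⟩ : TopologicalSpace.Closeds X)).subschemeι, inferInstance,
      Groth.Agent.Helper8.ValChain.flat_closure f x' hx', ⟨fun y => ?_⟩⟩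
    obtain ⟨Q, hQ1, hQ2⟩ := h1 y
    rw [hg] at hQ1
    have : g Q ∈ Set.range (Scheme.IdealSheafData.vanishingIdeal
        (⟨closure {x'}, isClosed_closure⟩ : TopologicalSpace.Closeds X)).subschemeι := by
      rw [Scheme.IdealSheafData.range_subschemeι,
        Scheme.IdealSheafData.coe_support_vanishingIdeal]
      exact hQ1
    obtain ⟨z, hz⟩ := this
    exact ⟨z, by rw [Scheme.Hom.comp_apply, hz]; exact hQ2⟩
  tfae_have 6 → 1 := by
    rintro ⟨Z, i, _, hfl, hs⟩
    exact Groth.Agent.Helper8.ValChain.univSSubtrusive_of_comp i f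
      (Groth.Agent.Helper8.ValChain.univSSubtrusive_of_flat_surjective (i ≫ f))
  tfae_finish

end Groth.Agent.S14765
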