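import Groth.Statements.S14766
import Groth.Agent.Lead.ProConsLib7

set_option autoImplicit false
universe u
open CategoryTheory CategoryTheory.Limits AlgebraicGeometry
open Subtr

namespace Groth.Agent.S14766

theorem eq_bot_or_closed (V : Type u) [CommRing V] [IsDomain V] [IsDiscreteValuationRing V]
    (p : Spec (CommRingCat.of V)) : p = (⊥ : PrimeSpectrum V) ∨ p = IsLocalRing.closedPoint V := by
  by_cases h : p.asIdeal = ⊥
  · left; exact PrimeSpectrum.ext h
  · right
    apply PrimeSpectrum.ext
    have : p.asIdeal.IsMaximal := Ideal.IsPrime.isMaximal (PrimeSpectrum.isPrime p) h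
    exact IsLocalRing.eq_maximalIdeal this

theorem aux (V : Type u) [CommRing V] [IsDomain V]
    [IsDiscreteValuationRing V] {X : Scheme.{u}} (f : X ⟶ Spec (CommRingCat.of V)) :
    Topology.IsQuotientMap f ↔ Subtr.IsSSubtrusive f := by
  let η : Spec (CommRingCat.of V) := (⊥ : PrimeSpectrum V)
  let s : Spec (CommRingCat.of V) := IsLocalRing.closedPoint V
  have hηs : η ⤳ s := IsLocalRing.specializes_closedPoint _
  have hne : η ≠ s := by
    intro h
    have h1 : (⊥ : Ideal V) = IsLocalRing.maximalIdeal V := congrArg PrimeSpectrum.asIdeal h
    exact IsDiscreteValuationRing.not_a_field V h1.symm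
  have hsclosed : IsClosed ({s} : Set (Spec (CommRingCat.of V))) :=
    IsLocalRing.isClosed_singleton_closedPoint V
  constructor
  · intro hq y y' hy'y
    have hsurj : Function.Surjective f := hq.surjective
    by_cases heq : y' = y
    · subst heq
      obtain ⟨x, hx⟩ := hsurj y'
      exact ⟨x, x, specializes_rfl, hx, hx⟩
    · have hy' : y' = η := by
        rcases eq_bot_or_closed V y' with h | h
        · exact h
        · exfalso
          apply heq
          have : y ∈ closure ({y'} : Set (Spec (CommRingCat.of V))) := hy'y.mem_closed isClosed_closure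
            (subset_closure rfl)
          rw [h, hsclosed.closure_eq] at this
          rw [h]; exact this.symm
      have hy : y = s := by
        rcases eq_bot_or_closed V y with h | h
        · exfalso; exact heq (hy'.trans h.symm)
        · exact h
      subst hy' hy
      have hnotopen : ¬ IsOpen ({s} : Set (Spec (CommRingCat.of V))) := fun ho =>
        hne (hηs.mem_open ho rfl)
      have hnotopen' : ¬ IsOpen (f ⁻¹' ({s} : Set (Spec (CommRingCat.of V)))) := fun ho =>
        hnotopen (hq.isOpen_preimage.mp ho)
      have hpre : f ⁻¹' ({s} : Set (Spec (CommRingCat.of V))) = (f ⁻¹' ({η} : Set (Spec (CommRingCat.of V))))ᶜ := by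
        ext x
        simp only [Set.mem_preimage, Set.mem_singleton_iff, Set.mem_compl_iff]
        rcases eq_bot_or_closed V (f x) with h | h
        · constructor
          · intro h'; exact absurd (h.symm.trans h') hne
          · intro h'; exact absurd h h'
        · constructor
          · intro _ h'; exact hne (h'.symm.trans h)
          · intro _; exact h
      have hnotclosed : ¬ IsClosed (f ⁻¹' ({η} : Set (Spec (CommRingCat.of V)))) := fun hc =>
        hnotopen' (hpre ▸ hc.isOpen_compl)
      have : ∃ x ∈ closure (f ⁻¹' ({η} : Set (Spec (CommRingCat.of V)))),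
          x ∉ f ⁻¹' ({η} : Set (Spec (CommRingCat.of V))) := by
        by_contra hcon
        push Not at hcon
        exact hnotclosed (closure_subset_iff_isClosed.mp hcon)
      obtain ⟨x, hxcl, hxn⟩ := this
      have hpro : ProCons.IsProConstructible (f.base ⁻¹' ({η} : Set (Spec (CommRingCat.of V)))) :=
        Groth.Agent.Helper7.PC.pro_preimage f {η} (Groth.Agent.Lead.ProConsLib.pro_singleton
          (X := Spec (CommRingCat.of V)) η)
      obtain ⟨x', hx', hx'x⟩ :=
        Groth.Agent.Lead.ProConsLib.exists_specializes_of_mem_closure hpro hxcl
      refine ⟨x, x', hx'x, ?_, hx'⟩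
      rcases eq_bot_or_closed V (f x) with h | h
      · exact absurd h hxn
      · exact h
  · intro hf
    have hsurj : Function.Surjective f := by
      intro y
      obtain ⟨x, _, _, hx, _⟩ := hf (specializes_refl y)
      exact ⟨x, hx⟩
    rw [Topology.isQuotientMap_iff]
    refine ⟨.of_isOpen_preimage_iff_isOpen fun U =>
      ⟨fun hU => ?_, fun hU => hU.preimage f.continuous⟩, hsurj⟩
    have hgen : s ∈ U → η ∈ U := by
      intro hs
      obtain ⟨x, x', hx'x, hx, hx'⟩ := hf hηs
      have : x' ∈ f ⁻¹' U := hx'x.mem_open hU (by change f x ∈ U; rw [hx]; exact hs)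
      change f x' ∈ U at this
      rwa [hx'] at this
    by_cases hs : s ∈ U
    · have : U = Set.univ := by
        rw [Set.eq_univ_iff_forall]
        intro p
        rcases eq_bot_or_closed V p with h | h
        · rw [h]; exact hgen hs
        · rw [h]; exact hs
      rw [this]; exact isOpen_univ
    · by_cases hη : η ∈ U
      · have : U = ({s} : Set (Spec (CommRingCat.of V)))ᶜ := by
          ext p
          simp only [Set.mem_compl_iff, Set.mem_singleton_iff]
          rcases eq_bot_or_closed V p with h | h
          · rw [h]; exact ⟨fun _ => hne, fun _ => hη⟩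
          · rw [h]; exact ⟨fun h' => absurd h' hs, fun h' => absurd rfl h'⟩
        rw [this]; exact hsclosed.isOpen_compl
      · have : U = ∅ := by
          rw [Set.eq_empty_iff_forall_notMem]
          intro p
          rcases eq_bot_or_closed V p with h | h
          · rw [h]; exact hη
          · rw [h]; exact hs
        rw [this]; exact isOpen_empty

/-- Let V be a discrete valuation ring and f : X ⟶ Spec V any morphism of schemes. Then the underlying
continuous map of f is a quotient map (f is submersive) if and only if every ordered pair of points
of Spec V lifts to an ordered pair of points of X. -/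
theorem result (V : Type u) [CommRing V] [IsDomain V]
    [IsDiscreteValuationRing V] {X : Scheme.{u}} (f : X ⟶ Spec (CommRingCat.of V)) :
    Topology.IsQuotientMap f ↔ Subtr.IsSSubtrusive f := by
  exact aux V f

end Groth.Agent.S14766
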