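import Groth.Statements.S7476
import Mathlib
import Groth.Agent.Lead.HCovVal

set_option autoImplicit false
universe w u
open HTop

namespace Groth.Agent.S7476

open CategoryTheory CategoryTheory.Limits AlgebraicGeometry in
theorem hasValLift_singleton_univ.{w1, w2} {X Y : Scheme.{u}} (f : X ⟶ Y)
    (h : HTop.HasValLift (PreZeroHypercover.singleton.{w1} f)) :
    HTop.HasValLift (PreZeroHypercover.singleton.{w2} f) := by
  intro V _ _ g
  obtain ⟨W, hW1, hW2, φ, hφ, j, ℓ, hℓ⟩ := h V g
  exact ⟨W, hW1, hW2, φ, hφ, PUnit.unit, ℓ, hℓ⟩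

open CategoryTheory CategoryTheory.Limits AlgebraicGeometry in
/-- Let f : X -> Y be a quasi-compact morphism of schemes. Then the one-member family of f is a V
covering if and only if every morphism from the spectrum of a valuation ring to Y lifts to X after
an extension of valuation rings; and the latter holds if and only if for every morphism Z -> Y and
every specialization z' ⤳ z of points of Z there is a specialization w' ⤳ w of points of Z x_Y X
mapping to z' ⤳ z. -/
theorem result {X Y : Scheme.{u}} (f : X ⟶ Y) [QuasiCompact f] : (HTop.IsVCover (PreZeroHypercover.singleton f) ↔ HTop.HasValLift (PreZeroHypercover.singleton f)) ∧ (HTop.HasValLift (PreZeroHypercover.singleton f) ↔ ∀ (Z : Scheme.{u}) (g : Z ⟶ Y) (z' z : Z), z' ⤳ z → ∃ w' w : ↑(pullback g f), w' ⤳ w ∧ pullback.fst g f w' = z' ∧ pullback.fst g f w = z) := by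
  refine ⟨⟨fun h => hasValLift_singleton_univ f (Groth.Agent.Lead.HCov.hasValLift_of_isVCover _ h),
    fun h => Groth.Agent.Lead.HCov.isVCover_singleton_of_hasValLift f
      (hasValLift_singleton_univ f h)⟩, ?_⟩
  exact Groth.Agent.Lead.HCov.hasValLift_singleton_iff f

end Groth.Agent.S7476
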