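import Groth.Statements.S7477
import Mathlib
import Groth.Agent.Lead.QuotSL
import Groth.Agent.Lead.HCovVal

set_option autoImplicit false
universe w u
open HTop

namespace Groth.Agent.S7477

open CategoryTheory CategoryTheory.Limits AlgebraicGeometry in
theorem aux {X : Scheme.{u}} (E : PreZeroHypercover.{u} X) (hE : HTop.IsVCover E) : SGA1.UnivSubmersive (Sigma.desc E.f) := by
  intro P Y i₁ g f' hP
  show Topology.IsQuotientMap f'
  have key : ∀ U : Y.affineOpens, ∃ (G : Scheme.{u}) (σ : G ⟶ (U.1 : Scheme.{u})) (h : G ⟶ P),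
      Topology.IsQuotientMap σ ∧ h ≫ f' = σ ≫ U.1.ι := by
    intro U
    obtain ⟨G, hG, hr⟩ := Groth.Agent.Lead.HCov.isVCover_pullback g E hE U
    haveI := hG.finite_index
    haveI := hG.isAffine_obj
    haveI : IsAffine (U.1 : Scheme.{u}) := U.2
    let σ : ∐ G.X ⟶ (U.1 : Scheme.{u}) := Sigma.desc G.f
    have hr' : ∀ k : G.I₀, ∃ (i : E.I₀) (r : G.X k ⟶ pullback g (E.f i)),
        r ≫ pullback.fst g (E.f i) = G.f k ≫ U.1.ι := fun k => hr k
    choose i r hr using hr'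
    have hcomm : ∀ k, (G.f k ≫ U.1.ι) ≫ g =
        (r k ≫ pullback.snd g (E.f (i k)) ≫ Sigma.ι E.X (i k)) ≫ Sigma.desc E.f := by
      intro k
      calc (G.f k ≫ U.1.ι) ≫ g = (r k ≫ pullback.fst g (E.f (i k))) ≫ g := by rw [hr k]
        _ = r k ≫ pullback.snd g (E.f (i k)) ≫ E.f (i k) := by
            rw [Category.assoc, pullback.condition]
        _ = (r k ≫ pullback.snd g (E.f (i k)) ≫ Sigma.ι E.X (i k)) ≫ Sigma.desc E.f := by
            simp only [Category.assoc, Sigma.ι_desc]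
    let hk : ∀ k, G.X k ⟶ P := fun k => hP.lift _ _ (hcomm k)
    have hk1 : ∀ k, hk k ≫ f' = G.f k ≫ U.1.ι := fun k => hP.lift_fst _ _ _
    refine ⟨∐ G.X, σ, Sigma.desc hk, ?_, ?_⟩
    · have hσ : HTop.HasValLift (PreZeroHypercover.singleton.{0} σ) := by
        intro V _ _ a
        obtain ⟨W, hW1, hW2, φ, hφ, j, ℓ, hℓ⟩ := hG.lift V a
        refine ⟨W, hW1, hW2, φ, hφ, PUnit.unit, ℓ ≫ Sigma.ι G.X j, ?_⟩
        show (ℓ ≫ Sigma.ι G.X j) ≫ σ = _
        rw [Category.assoc, Sigma.ι_desc]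
        exact hℓ
      haveI : QuasiCompact σ := HasAffineProperty.iff_of_isAffine.mpr (by infer_instance)
      apply Groth.Agent.Lead.QuotSL.isQuotientMap_of_specializations_lift
      intro y' y hy
      obtain ⟨w', w, hw, hw', hw''⟩ :=
        (Groth.Agent.Lead.HCov.hasValLift_singleton_iff σ).mp hσ _ (𝟙 _) y' y hy
      refine ⟨(pullback.snd (𝟙 (U.1 : Scheme.{u})) σ) w', (pullback.snd (𝟙 (U.1 : Scheme.{u})) σ) w,
        hw.map (pullback.snd (𝟙 (U.1 : Scheme.{u})) σ).continuous, ?_, ?_⟩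
      · rw [← Scheme.Hom.comp_apply, ← pullback.condition, Scheme.Hom.comp_apply, hw']; rfl
      · rw [← Scheme.Hom.comp_apply, ← pullback.condition, Scheme.Hom.comp_apply, hw'']; rfl
    · apply Sigma.hom_ext
      intro k
      rw [Sigma.ι_desc_assoc, hk1, Sigma.ι_desc_assoc]
  rw [Topology.isQuotientMap_iff]
  refine ⟨.of_isOpen_preimage_iff_isOpen fun s => ⟨fun hs => ?_, fun hs => hs.preimage f'.continuous⟩,
    ?_⟩
  swap
  · intro y
    obtain ⟨U, hU, hyU, -⟩ := exists_isAffineOpen_mem_and_subset (x := y) (U := ⊤) trivial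
    obtain ⟨G, σ, h, hσ, hh⟩ := key ⟨U, hU⟩
    obtain ⟨x, hx⟩ := hσ.surjective ⟨y, hyU⟩
    refine ⟨h x, ?_⟩
    rw [← Scheme.Hom.comp_apply, hh, Scheme.Hom.comp_apply, hx]
    rfl
  · rw [isOpen_iff_forall_mem_open]
    intro y hy
    obtain ⟨U, hU, hyU, -⟩ := exists_isAffineOpen_mem_and_subset (x := y) (U := ⊤) trivial
    obtain ⟨G, σ, h, hσ, hh⟩ := key ⟨U, hU⟩
    have h1 : IsOpen (σ ⁻¹' (U.ι ⁻¹' s)) := by
      have : σ ⁻¹' (U.ι ⁻¹' s) = h ⁻¹' (f' ⁻¹' s) := by
        rw [← Set.preimage_comp, ← Set.preimage_comp, ← TopCat.coe_comp, ← TopCat.coe_comp,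
          ← Scheme.Hom.comp_base, ← Scheme.Hom.comp_base, hh]
      rw [this]
      exact hs.preimage h.continuous
    have h2 : IsOpen (U.ι ⁻¹' s) := hσ.isOpen_preimage.mp h1
    refine ⟨U.ι '' (U.ι ⁻¹' s), ?_, U.ι.isOpenEmbedding.isOpenMap _ h2, ⟨⟨y, hyU⟩, hy, rfl⟩⟩
    rintro _ ⟨z, hz, rfl⟩
    exact hz

open CategoryTheory CategoryTheory.Limits AlgebraicGeometry in
/-- If {f_i : X_i -> X} is a V covering (indexed by a type in the universe of X), then the morphism from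
the coproduct of the X_i to X induced by the f_i is universally submersive. -/
theorem result {X : Scheme.{u}} (E : PreZeroHypercover.{u} X) (hE : HTop.IsVCover E) : SGA1.UnivSubmersive (Sigma.desc E.f) := by
  exact aux E hE

end Groth.Agent.S7477
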