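import Groth.Statements.S8980
import Mathlib
import Groth.Agent.Lead.HCovFlat

set_option autoImplicit false
universe u
open HTop

namespace Groth.Agent.S8980

open CategoryTheory CategoryTheory.Limits AlgebraicGeometry in
/-- V covers transfer along refinements -/
theorem isVCover_of_hom.{w1, w2} {T : Scheme.{u}} (𝒲 : PreZeroHypercover.{w1} T)
    (E : PreZeroHypercover.{w2} T) (φ : 𝒲.Hom E) (h : HTop.IsVCover 𝒲) : HTop.IsVCover E := by
  intro U
  obtain ⟨F, hF, hr⟩ := h U
  exact ⟨F, hF, hr.of_hom φ⟩

open CategoryTheory CategoryTheory.Limits AlgebraicGeometry in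
theorem aux {T : Scheme.{u}} (E : PreZeroHypercover.{u} T) (hE : ∀ i, LocallyOfFinitePresentation (E.f i)) : HTop.IsHCover E ↔ HTop.IsHCover (PreZeroHypercover.singleton.{0} (Sigma.desc E.f)) := by
  constructor
  · rintro ⟨-, hV⟩
    refine ⟨fun _ => IsZariskiLocalAtSource.sigmaDesc (P := @LocallyOfFinitePresentation) hE, ?_⟩
    exact isVCover_of_hom E _
      { s₀ := fun _ => PUnit.unit
        h₀ := fun i => Sigma.ι E.X i
        w₀ := fun i => Sigma.ι_desc _ _ } hV
  · rintro ⟨-, hV⟩
    refine ⟨hE, ?_⟩
    have hV' : HTop.IsVCover (PreZeroHypercover.singleton.{u} (Sigma.desc E.f)) :=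
      isVCover_of_hom (PreZeroHypercover.singleton.{0} (Sigma.desc E.f))
        (PreZeroHypercover.singleton.{u} (Sigma.desc E.f))
        { s₀ := fun _ => PUnit.unit
          h₀ := fun _ => 𝟙 _
          w₀ := fun _ => Category.id_comp _ } hV
    let 𝒮 : Scheme.Cover Scheme.fpqcPrecoverage (∐ E.X) :=
      (AlgebraicGeometry.sigmaOpenCover E.X).weaken Scheme.zariskiPrecoverage_le_fpqcPrecoverage
    have hS : HTop.IsVCover 𝒮.toPreZeroHypercover := Groth.Agent.Lead.HCov.isVCover_of_fpqc 𝒮
    have hbind := Groth.Agent.Lead.HCov.isVCover_bind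
      (PreZeroHypercover.singleton.{u} (Sigma.desc E.f)) hV'
      (fun _ => 𝒮.toPreZeroHypercover) (fun _ => hS)
    refine isVCover_of_hom ((PreZeroHypercover.singleton.{u} (Sigma.desc E.f)).bind
        (fun _ => 𝒮.toPreZeroHypercover)) E
      { s₀ := fun p => p.2
        h₀ := fun p => 𝟙 _
        w₀ := fun p => ?_ } hbind
    show 𝟙 _ ≫ E.f p.2 = Sigma.ι E.X p.2 ≫ Sigma.desc E.f
    rw [Category.id_comp, Sigma.ι_desc]

open CategoryTheory CategoryTheory.Limits AlgebraicGeometry in
/-- A family of morphisms T_i → T, indexed by a type in the universe of T and all locally of finite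
presentation, is an h covering if and only if the one-member family given by the induced morphism
from the coproduct of the T_i to T is an h covering. (The published statement also lists, as a
further equivalent condition, that some h covering refines the family; that equivalence is immediate
from the definitions and is not restated here.) -/
theorem result {T : Scheme.{u}} (E : PreZeroHypercover.{u} T) (hE : ∀ i, LocallyOfFinitePresentation (E.f i)) : HTop.IsHCover E ↔ HTop.IsHCover (PreZeroHypercover.singleton.{0} (Sigma.desc E.f)) := by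
  exact aux E hE

end Groth.Agent.S8980
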