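import Groth.Statements.S5057
import Mathlib

set_option autoImplicit false
open CategoryTheory CategoryTheory.Limits AlgebraicGeometry
universe u
open scoped TensorProduct
open Hensel

namespace Groth.Agent.S5057

/-- Let i : S₀ ⟶ S be a closed immersion such that for every finite morphism g : S' ⟶ S every
open-closed subset of S' ×_S S₀ is the inverse image under the first projection of exactly one
open-closed subset of S'. Then for every finite morphism g : S' ⟶ S, every open subset of S'
containing the image of S' ×_S S₀ is all of S'. -/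
theorem result {S S₀ : Scheme.{u}} (i : S₀ ⟶ S) [IsClosedImmersion i]
    (ha : ∀ (S' : Scheme.{u}) (g : S' ⟶ S), IsFinite g →
      ∀ V : Set ↥(pullback g i), IsClopen V → ∃! U : Set ↥S', IsClopen U ∧ (pullback.fst g i).base ⁻¹' U = V)
    {S' : Scheme.{u}} (g : S' ⟶ S) [IsFinite g] (U : Set ↥S') (hU : IsOpen U)
    (hU₀ : Set.range (pullback.fst g i).base ⊆ U) : U = Set.univ := by
  classical
  let Z : TopologicalSpace.Closeds ↥S' := ⟨Uᶜ, hU.isClosed_compl⟩
  let I := Scheme.IdealSheafData.vanishingIdeal Z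
  let j : I.subscheme ⟶ S' := I.subschemeι
  have hrange : Set.range j = Uᶜ := by
    rw [Scheme.IdealSheafData.range_subschemeι, Scheme.IdealSheafData.coe_support_vanishingIdeal]
    rfl
  haveI : IsFinite (j ≫ g) := inferInstance
  have hempty : IsEmpty ↥(pullback (j ≫ g) i) := by
    refine ⟨fun z => ?_⟩
    have h1 : g (j (pullback.fst (j ≫ g) i z)) = i (pullback.snd (j ≫ g) i z) := by
      have := congrArg (fun φ : pullback (j ≫ g) i ⟶ S => φ z) (pullback.condition (f := j ≫ g) (g := i))
      simpa using this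
    obtain ⟨w, hw, -⟩ := Scheme.Pullback.exists_preimage_pullback
      (j (pullback.fst (j ≫ g) i z)) (pullback.snd (j ≫ g) i z) h1
    have h2 : j (pullback.fst (j ≫ g) i z) ∈ U := hU₀ ⟨w, hw⟩
    have h3 : j (pullback.fst (j ≫ g) i z) ∈ Uᶜ := hrange ▸ Set.mem_range_self _
    exact h3 h2
  obtain ⟨U', -, huniq⟩ := ha I.subscheme (j ≫ g) inferInstance ∅ isClopen_empty
  have e1 := huniq ∅ ⟨isClopen_empty, Set.eq_empty_of_isEmpty _⟩
  have e2 := huniq Set.univ ⟨isClopen_univ, Set.eq_empty_of_isEmpty _⟩
  have h4 : (Set.univ : Set ↥I.subscheme) = ∅ := e2.trans e1.symm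
  have h5 : IsEmpty ↥I.subscheme := Set.univ_eq_empty_iff.mp h4
  have h6 : Uᶜ = ∅ := by
    rw [← hrange]
    exact Set.range_eq_empty _
  exact Set.compl_empty_iff.mp h6

end Groth.Agent.S5057
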