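import Groth.Statements.S17593
import Mathlib
import Groth.Agent.Helper3.NearClosed
import Groth.Agent.S0387
import Groth.Agent.Helper8.FlatLocMod

set_option autoImplicit false
universe u
open Hensel

namespace Groth.Agent.S17593

/-- Suppose (A, I) is a Henselian pair, and R is an A-algebra of finite presentation for which A → R is
flat at each prime of R that contains IR. Then there is an étale R-algebra R' such that R/IR →
R'/IR' is bijective and A → R' is flat. -/
theorem result (A : Type u) [CommRing A] (I : Ideal A) [HenselianRing A I]
    (R : Type u) [CommRing R] [Algebra A R] [Algebra.FinitePresentation A R]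
    (h : ∀ (p : Ideal R) [p.IsPrime], I.map (algebraMap A R) ≤ p → Module.Flat A (Localization.AtPrime p))
    : ∃ (R' : Type u) (_ : CommRing R') (_ : Algebra R R') (_ : Algebra A R') (_ : IsScalarTower A R R'),
      Algebra.Etale R R' ∧
      Function.Bijective (Ideal.quotientMap ((I.map (algebraMap A R)).map (algebraMap R R'))
        (algebraMap R R') Ideal.le_comap_map) ∧ Module.Flat A R' := by
  classical
  have hopen : IsOpen {q : PrimeSpectrum R |
      Module.Flat A (LocalizedModule q.asIdeal.primeCompl R)} :=
    Groth.Agent.S0387.result (R := A) (S := R) (M := R)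
  have hsub : PrimeSpectrum.zeroLocus ((I.map (algebraMap A R) : Ideal R) : Set R) ⊆
      {q : PrimeSpectrum R | Module.Flat A (LocalizedModule q.asIdeal.primeCompl R)} := by
    intro p hp
    exact (Groth.Agent.Helper8.FlatLocMod.flat_locMod_iff p.asIdeal).2 (h p.asIdeal hp)
  obtain ⟨j, hj, hjU⟩ := Groth.Agent.Helper3.NearClosed.exists_sub_one_mem_basicOpen_subset
    (I.map (algebraMap A R)) _ hopen hsub
  refine ⟨Localization.Away j, inferInstance, inferInstance, inferInstance, inferInstance,
    inferInstance, ?_, ?_⟩
  · exact Groth.Agent.Helper3.NearClosed.quotientMap_away_bijective _ j hj _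
  · refine Module.flat_of_isLocalized_maximal (R := A) (S := Localization.Away j)
      (M := Localization.Away j) (Mₚ := fun P _ => Localization.AtPrime P)
      (f := fun P _ => Algebra.linearMap (Localization.Away j) (Localization.AtPrime P)) ?_
    intro P hP
    haveI : P.IsPrime := hP.isPrime
    set q : Ideal R := P.comap (algebraMap R (Localization.Away j)) with hq
    haveI : q.IsPrime := Ideal.comap_isPrime _ _
    haveI hloc : IsLocalization.AtPrime (Localization.AtPrime P) q :=
      IsLocalization.isLocalization_isLocalization_atPrime_isLocalization (Submonoid.powers j)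
        (Localization.AtPrime P) P
    have hjq : (⟨q, inferInstance⟩ : PrimeSpectrum R) ∈ PrimeSpectrum.basicOpen j := by
      show j ∉ q
      intro hjq
      have : algebraMap R (Localization.Away j) j ∈ P := hjq
      exact hP.ne_top (Ideal.eq_top_of_isUnit_mem _ this (IsLocalization.Away.algebraMap_isUnit j))
    have hflat : Module.Flat A (Localization.AtPrime q) := (Groth.Agent.Helper8.FlatLocMod.flat_locMod_iff q).1 (hjU hjq)
    have e : Localization.AtPrime q ≃ₐ[R] Localization.AtPrime P :=
      IsLocalization.algEquiv q.primeCompl _ _
    have eA : Localization.AtPrime q ≃ₗ[A] Localization.AtPrime P :=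
      e.toLinearEquiv.restrictScalars A
    exact Module.Flat.of_linearEquiv eA.symm

end Groth.Agent.S17593
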