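import Groth.Statements.S0353
import Mathlib
import Groth.Agent.Helper7.CartierSch
import Groth.Agent.S14588

set_option autoImplicit false
universe u v
open CategoryTheory MonoidalCategory CartesianMonoidalCategory MonObj GrpObj AlgebraicGeometry
open GrpSch

namespace Groth.Agent.S0353

/-- A group scheme locally of finite type over a field of characteristic zero is smooth over the field. -/
theorem result (K : Type u) [Field K] (G : Over (Spec (CommRingCat.of K))) [GrpObj G] [CharZero K] [LocallyOfFiniteType G.hom] : Smooth G.hom := by
  haveI : CharZero (AlgebraicClosure K) :=
    charZero_of_injective_algebraMap (algebraMap K (AlgebraicClosure K)).injective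
  haveI : LocallyOfFiniteType
      (Red.bc (Spec.map (CommRingCat.ofHom (algebraMap K (AlgebraicClosure K)))) G).hom := by
    change LocallyOfFiniteType (Limits.pullback.snd G.hom _)
    infer_instance
  exact Groth.Agent.S14588.result K G (IsLocalRing.closedPoint (AlgebraicClosure K))
    (Groth.Agent.Helper7.CartierSch.isReduced_stalk
      (Red.bc (Spec.map (CommRingCat.ofHom (algebraMap K (AlgebraicClosure K)))) G))

end Groth.Agent.S0353
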