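import Groth.Statements.S17941
import Mathlib
import Groth.Agent.Helper8.MultCrvDual
open Groth.Agent.Helper8.MC

set_option autoImplicit false
universe u
open MultCrv

namespace Groth.Agent.S17941

/-- Let R be a discrete valuation ring, n ≥ 1, A = R[X]/(X^n), and 0 → M' → M → M'' → 0 a short exact
sequence of finitely generated A-modules with M and M'' torsion-free as R-modules (so M' is as
well). Then the A-dual sequence 0 → Hom_A(M'', A) → Hom_A(M, A) → Hom_A(M', A) → 0 is exact; the
content is that every A-linear form on M' extends to M, i.e. restriction of forms along M' → M is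
surjective. (Statement at a closed point of the sheaf statement on a primitive multiple curve of
multiplicity n, whose local rings are of the form R[X]/(X^n) with R the local ring of the reduced
smooth curve; stated for every discrete valuation ring R.) -/
theorem result (R : Type u) [CommRing R] [IsDomain R] [IsDiscreteValuationRing R] (n : ℕ) (hn : 1 ≤ n) (M' M M'' : Type u) [AddCommGroup M'] [Module (MultCrv.Rn R n) M'] [AddCommGroup M] [Module (MultCrv.Rn R n) M] [Module R M] [IsScalarTower R (MultCrv.Rn R n) M] [Module.Finite (MultCrv.Rn R n) M] [Module.IsTorsionFree R M] [AddCommGroup M''] [Module (MultCrv.Rn R n) M''] [Module R M''] [IsScalarTower R (MultCrv.Rn R n) M''] [Module.Finite (MultCrv.Rn R n) M''] [Module.IsTorsionFree R M''] (f : M' →ₗ[MultCrv.Rn R n] M) (g : M →ₗ[MultCrv.Rn R n] M'') (hf : Function.Injective f) (hg : Function.Surjective g) (hfg : LinearMap.range f = LinearMap.ker g) : Function.Surjective (f.dualMap : Module.Dual (MultCrv.Rn R n) M →ₗ[MultCrv.Rn R n] Module.Dual (MultCrv.Rn R n) M') := by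
  letI : Module R M' := Module.compHom M' (algebraMap R (MultCrv.Rn R n))
  haveI : IsScalarTower R (MultCrv.Rn R n) M' := ⟨fun r a x => by
    show (r • a) • x = algebraMap R (MultCrv.Rn R n) r • (a • x)
    rw [← mul_smul]
    congr 1
    exact Algebra.smul_def r a⟩
  have hfin'' : Module.Finite R M'' := finite_of_tower R n M''
  have hfree : Module.Free R M'' := Module.free_of_finite_type_torsion_free'
  obtain ⟨s, hs⟩ := Module.projective_lifting_property (g.restrictScalars R) LinearMap.id hg
  have hs' : ∀ v, g (s v) = v := fun v => LinearMap.congr_fun hs v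
  have hmem : ∀ u : M, u - s (g u) ∈ LinearMap.range (f.restrictScalars R) := by
    intro u
    have : u - s (g u) ∈ LinearMap.range f := by
      rw [hfg, LinearMap.mem_ker, map_sub, hs', sub_self]
    exact this
  let e := LinearEquiv.ofInjective (f.restrictScalars R) hf
  let q : M →ₗ[R] LinearMap.range (f.restrictScalars R) :=
    LinearMap.codRestrict _ (LinearMap.id - s.comp (g.restrictScalars R)) hmem
  let ρ : M →ₗ[R] M' := e.symm.toLinearMap.comp q
  have hρ : ∀ u', ρ (f u') = u' := by
    intro u'
    have h1 : q (f u') = e u' := by
      apply Subtype.ext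
      show f u' - s (g (f u')) = f u'
      have : g (f u') = 0 := by
        have : f u' ∈ LinearMap.ker g := hfg ▸ LinearMap.mem_range_self f u'
        exact this
      rw [this, map_zero, sub_zero]
    show e.symm (q (f u')) = u'
    rw [h1, e.symm_apply_apply]
  intro l
  let μ₀ : M →ₗ[R] R := ((tr R hn).comp (l.restrictScalars R)).comp ρ
  refine ⟨lam μ₀, ?_⟩
  apply LinearMap.ext
  intro u'
  rw [LinearMap.dualMap_apply, lam_apply]
  conv_rhs => rw [← lam_tr hn l, lam_apply]
  refine Finset.sum_congr rfl fun j _ => ?_
  congr 1
  show tr R hn (l (ρ (MultCrv.z R n ^ (n - 1 - j) • f u'))) = _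
  rw [← map_smul f, hρ]
  rfl

end Groth.Agent.S17941
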