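import Groth.Statements.S9334
import Groth.Agent.S9335
import Groth.Agent.Helper1.SchemeTop

set_option autoImplicit false
universe u
open QFin

namespace Groth.Agent.S9334

open AlgebraicGeometry CategoryTheory in
theorem aux {X S : Scheme.{u}} (f : X ⟶ S) [LocallyOfFiniteType f] (x : X) :
    f.QuasiFiniteAt x ↔
      (IsClosed ({f.asFiber x} : Set ↑(f.fiber (f.base x))) ∧
        ∀ x' : ↑(f.fiber (f.base x)), x' ⤳ f.asFiber x → x' = f.asFiber x) := by
  rw [Scheme.Hom.quasiFiniteAt_iff_isOpen_singleton_asFiber]
  constructor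
  · intro hop
    refine ⟨isClosed_singleton_of_isLocallyClosed_singleton hop.isLocallyClosed, ?_⟩
    intro x' hx'
    exact hx'.mem_open hop rfl
  · rintro ⟨hcl, hgen⟩
    haveI : LocallyOfFiniteType (f.fiberToSpecResidueField (f x)) :=
      MorphismProperty.pullback_snd _ _ inferInstance
    haveI : IsNoetherianRing Γ(Spec (S.residueField (f x)), ⊤) :=
      isNoetherianRing_of_ringEquiv _
        (Scheme.ΓSpecIso (S.residueField (f x))).symm.commRingCatIsoToRingEquiv
    haveI : IsLocallyNoetherian (f.fiber (f x)) :=
      Groth.Agent.S9335.isLocallyNoetherian_of_lft (f.fiberToSpecResidueField (f x))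
    refine Groth.Agent.Helper1.SchemeTop.isOpen_of_locallyNoetherian
      (Groth.Agent.Helper1.SchemeTop.nhds_noetherian (f.fiber (f x))) hcl ?_
    intro a b hba ha
    rw [Set.mem_singleton_iff] at ha ⊢
    subst ha
    exact hgen b hba

open AlgebraicGeometry CategoryTheory in
/-- Let f : X → S be locally of finite type, x ∈ X, and write s = f x. The morphism f is quasi-finite at
x exactly when x is a closed point of the fibre X_s and no point x' ≠ x of X_s specializes to x. -/
theorem result {X S : Scheme.{u}} (f : X ⟶ S) [LocallyOfFiniteType f] (x : X) :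
    f.QuasiFiniteAt x ↔
      (IsClosed ({f.asFiber x} : Set ↑(f.fiber (f.base x))) ∧
        ∀ x' : ↑(f.fiber (f.base x)), x' ⤳ f.asFiber x → x' = f.asFiber x) := by
  exact aux f x

end Groth.Agent.S9334
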