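import Groth.Statements.S9682
import Groth.Agent.S9334

set_option autoImplicit false
universe u
open CategoryTheory CategoryTheory.Limits AlgebraicGeometry
open Mor

namespace Groth.Agent.S9682

theorem generic_iff {T : Type*} [TopologicalSpace T] [QuasiSober T] [T0Space T] (x : T) :
    closure {x} ∈ irreducibleComponents T ↔ ∀ x', x' ⤳ x → x' = x := by
  constructor
  · intro H x' hx'
    have h1 : closure {x} ⊆ closure {x'} := specializes_iff_closure_subset.mp hx'
    have h2 : closure {x'} ⊆ closure {x} := H.2 isIrreducible_singleton.closure h1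
    exact (hx'.antisymm (specializes_iff_closure_subset.mpr h2)).eq
  · intro H
    refine ⟨isIrreducible_singleton.closure, ?_⟩
    intro Z hZ hxZ
    obtain ⟨z, hz⟩ := QuasiSober.sober hZ.closure isClosed_closure
    have hzx : z ⤳ x := by
      rw [specializes_iff_mem_closure, hz.def]
      exact subset_closure (hxZ (subset_closure rfl))
    have := H z hzx
    subst this
    calc Z ⊆ closure Z := subset_closure
      _ = closure {z} := hz.def.symm

/-- S9334 on the level of `X` -/
theorem qfAt_iff {X Y : Scheme.{u}} (f : X ⟶ Y) [LocallyOfFiniteType f] (x : X) :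
    f.QuasiFiniteAt x ↔
      (∀ x'' : X, f x'' = f x → x ⤳ x'' → x'' = x) ∧ (∀ x' : X, f x' = f x → x' ⤳ x → x' = x) := by
  rw [Groth.Agent.S9334.result]
  have hspec : ∀ a b : f.fiber (f x), a ⤳ b ↔ f.fiberι (f x) a ⤳ f.fiberι (f x) b := fun a b =>
    ((f.fiberι (f x)).isEmbedding.toIsInducing.specializes_iff).symm
  have hmem : ∀ a : f.fiber (f x), f (f.fiberι (f x) a) = f x := fun a =>
    (f.range_fiberι (f x)).le ⟨a, rfl⟩
  constructor
  · rintro ⟨hcl, hgen⟩
    constructor
    · intro x'' hx'' hsp
      let a : f.fiber (f x) := (f.fiberHomeo (f x)).symm ⟨x'', hx''⟩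
      have ha : f.fiberι (f x) a = x'' := f.fiberι_fiberHomeo_symm _ _
      have hsp' : f.asFiber x ⤳ a := by
        rw [hspec, ha, f.fiberι_asFiber]; exact hsp
      have := hsp'.mem_closed hcl rfl
      rw [Set.mem_singleton_iff] at this
      rw [← ha, this, f.fiberι_asFiber]
    · intro x' hx' hsp
      let a : f.fiber (f x) := (f.fiberHomeo (f x)).symm ⟨x', hx'⟩
      have ha : f.fiberι (f x) a = x' := f.fiberι_fiberHomeo_symm _ _
      have hsp' : a ⤳ f.asFiber x := by
        rw [hspec, ha, f.fiberι_asFiber]; exact hsp
      have := hgen a hsp'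
      rw [← ha, this, f.fiberι_asFiber]
  · rintro ⟨h1, h2⟩
    constructor
    · rw [← closure_subset_iff_isClosed]
      intro b hb
      have hsp : f.asFiber x ⤳ b := specializes_iff_mem_closure.mpr hb
      rw [hspec, f.fiberι_asFiber] at hsp
      have := h1 _ (hmem b) hsp
      rw [Set.mem_singleton_iff]
      apply (f.fiberι (f x)).isEmbedding.injective
      rw [this, f.fiberι_asFiber]
    · intro a hsp
      rw [hspec, f.fiberι_asFiber] at hsp
      have := h2 _ (hmem a) hsp
      apply (f.fiberι (f x)).isEmbedding.injective
      rw [this, f.fiberι_asFiber]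

theorem aux {X Y : Scheme.{u}} (f : X ⟶ Y)
    [LocallyOfFiniteType f] (η : Y) (hη : closure {η} ∈ irreducibleComponents ↥Y) :
    ((∀ x : X, f.base x = η → closure {x} ∈ irreducibleComponents ↥X) ↔
      (∀ x : X, f.base x = η → f.QuasiFiniteAt x)) ∧
    ((∀ x : X, f.base x = η → closure {x} ∈ irreducibleComponents ↥X) ↔
      (∀ x : X, f.base x = η → closure {x} ∈ irreducibleComponents ↥X → f.QuasiFiniteAt x)) := by
  have hη' := (generic_iff η).mp hη
  have K : ∀ x x' : X, f x = η → x' ⤳ x → f x' = η := by
    intro x x' hx hsp
    have := hsp.map f.continuous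
    rw [hx] at this
    exact hη' _ this
  have h12 : (∀ x : X, f.base x = η → closure {x} ∈ irreducibleComponents ↥X) →
      (∀ x : X, f.base x = η → f.QuasiFiniteAt x) := by
    intro H x hx
    rw [qfAt_iff]
    constructor
    · intro x'' hx'' hsp
      have := (generic_iff x'').mp (H x'' (hx''.trans hx)) x hsp
      exact this.symm
    · intro x' _ hsp
      exact (generic_iff x).mp (H x hx) x' hsp
  refine ⟨⟨h12, ?_⟩, ⟨fun H x hx _ => h12 H x hx, ?_⟩⟩
  · intro H x hx
    rw [generic_iff]
    intro x' hsp
    have hx' := K x x' hx hsp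
    exact ((qfAt_iff f x).mp (H x hx)).2 x' (hx'.trans hx.symm) hsp
  · intro H x hx
    obtain ⟨z, hz⟩ := QuasiSober.sober (isIrreducible_irreducibleComponent (x := x))
      (isClosed_of_mem_irreducibleComponents _ (irreducibleComponent_mem_irreducibleComponents x))
    have hzx : z ⤳ x := by
      rw [specializes_iff_mem_closure, hz.def]
      exact mem_irreducibleComponent
    have hGz : closure {z} ∈ irreducibleComponents ↥X := by
      rw [hz.def]; exact irreducibleComponent_mem_irreducibleComponents x
    have hfz : f z = η := K x z hx hzx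
    have hq := H z hfz hGz
    have := ((qfAt_iff f z).mp hq).1 x (hx.trans hfz.symm) hzx
    rw [this]; exact hGz

/-- Take f : X ⟶ Y locally of finite type and η the generic point of some irreducible component of Y.
Three conditions turn out to coincide: (1) each point of X mapping to η is the generic point of some
irreducible component of X; (2) f is quasi-finite at every point over η; (3) f is quasi-finite at
each point over η that is generic in some irreducible component of X. Stated as (1) iff (2) together
with (1) iff (3). -/
theorem result {X Y : Scheme.{u}} (f : X ⟶ Y)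
    [LocallyOfFiniteType f] (η : Y) (hη : closure {η} ∈ irreducibleComponents ↥Y) :
    ((∀ x : X, f.base x = η → closure {x} ∈ irreducibleComponents ↥X) ↔
      (∀ x : X, f.base x = η → f.QuasiFiniteAt x)) ∧
    ((∀ x : X, f.base x = η → closure {x} ∈ irreducibleComponents ↥X) ↔
      (∀ x : X, f.base x = η → closure {x} ∈ irreducibleComponents ↥X → f.QuasiFiniteAt x)) := by
  exact aux f η hη

end Groth.Agent.S9682
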