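import Groth.Statements.S4603
import Groth.Agent.Lead.QcClosure
import Groth.Agent.S9682

set_option autoImplicit false
universe u
open AlgebraicGeometry CategoryTheory
open EGA41

namespace Groth.Agent.S4603

/-- every point is a specialization of a maximal point -/
theorem exists_maximal_specializes {T : Type*} [TopologicalSpace T] [QuasiSober T] [T0Space T]
    (x : T) : ∃ η : T, (∀ x' : T, x' ⤳ η → x' = η) ∧ η ⤳ x := by
  obtain ⟨z, hz⟩ := QuasiSober.sober (isIrreducible_irreducibleComponent (x := x))
    (isClosed_of_mem_irreducibleComponents _ (irreducibleComponent_mem_irreducibleComponents x))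
  refine ⟨z, ?_, ?_⟩
  · rw [← Groth.Agent.S9682.generic_iff, hz.def]
    exact irreducibleComponent_mem_irreducibleComponents x
  · rw [specializes_iff_mem_closure, hz.def]
    exact mem_irreducibleComponent

theorem aux {X Y : Scheme.{u}} (f : X ⟶ Y) [QuasiCompact f] :
    [IsDominant f,
     ∀ y : Y, (∀ y' : Y, y' ⤳ y → y' = y) → y ∈ Set.range f.base,
     ∀ y : Y, (∀ y' : Y, y' ⤳ y → y' = y) → ∃ x : X, (∀ x' : X, x' ⤳ x → x' = x) ∧ f.base x = y].TFAE := by
  tfae_have 1 → 2 := by
    intro hdom y hy
    have hd : DenseRange f.base := (isDominant_iff f).mp hdom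
    obtain ⟨x, hx⟩ := Groth.Agent.Lead.QcClosure.exists_specializes_of_mem_closure_range f y (hd y)
    exact ⟨x, hy _ hx⟩
  tfae_have 2 → 3 := by
    intro H y hy
    obtain ⟨x₀, hx₀⟩ := H y hy
    obtain ⟨x, hxmax, hxsp⟩ := exists_maximal_specializes x₀
    refine ⟨x, hxmax, ?_⟩
    have := hxsp.map f.continuous
    rw [hx₀] at this
    exact hy _ this
  tfae_have 3 → 1 := by
    intro H
    rw [isDominant_iff]
    intro y
    obtain ⟨η, hηmax, hηsp⟩ := exists_maximal_specializes y
    obtain ⟨x, -, hx⟩ := H η hηmax
    exact hηsp.mem_closed isClosed_closure (subset_closure ⟨x, hx⟩)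
  tfae_finish

/-- Let f : X → Y be quasi-compact. The following are equivalent: f is dominant; the fibre of f over
every maximal point of Y (a point with no proper generization, i.e. the generic point of an
irreducible component) is nonempty; every maximal point of Y is the image of a maximal point of X. -/
theorem result {X Y : Scheme.{u}} (f : X ⟶ Y) [QuasiCompact f] :
    [IsDominant f,
     ∀ y : Y, (∀ y' : Y, y' ⤳ y → y' = y) → y ∈ Set.range f.base,
     ∀ y : Y, (∀ y' : Y, y' ⤳ y → y' = y) → ∃ x : X, (∀ x' : X, x' ⤳ x → x' = x) ∧ f.base x = y].TFAE := by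
  exact aux f

end Groth.Agent.S4603
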