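import Groth.Statements.S9672
import Groth.Agent.S4603

set_option autoImplicit false
universe u
open CategoryTheory CategoryTheory.Limits AlgebraicGeometry
open Mor

namespace Groth.Agent.S9672

theorem aux {X Y : Scheme.{u}} (f : Y ⟶ X)
    [QuasiCompact f] [QuasiSeparated f] (x' : ↥f.normalization)
    (hx' : closure {x'} ∈ irreducibleComponents ↥f.normalization) :
    ∃ y : Y, closure {y} ∈ irreducibleComponents ↥Y ∧ f.toNormalization.base y = x' := by
  have htfae := Groth.Agent.S4603.result f.toNormalization
  have hdom : IsDominant f.toNormalization := inferInstance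
  have h13 := (htfae.out 0 2).mp hdom
  obtain ⟨y, hy, hyx⟩ := h13 x' ((Groth.Agent.S9682.generic_iff x').mp hx')
  exact ⟨y, (Groth.Agent.S9682.generic_iff y).mpr hy, hyx⟩

/-- Let f : Y ⟶ X be quasi-compact and quasi-separated, and write X' for the normalization of X relative
to Y. If x' ∈ X' is the generic point of some irreducible component of X', then there is a point y ∈
Y that is generic in an irreducible component of Y and is sent to x' by the canonical morphism Y ⟶
X'. -/
theorem result {X Y : Scheme.{u}} (f : Y ⟶ X)
    [QuasiCompact f] [QuasiSeparated f] (x' : ↥f.normalization)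
    (hx' : closure {x'} ∈ irreducibleComponents ↥f.normalization) :
    ∃ y : Y, closure {y} ∈ irreducibleComponents ↥Y ∧ f.toNormalization.base y = x' := by
  exact aux f x' hx'

end Groth.Agent.S9672
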