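import Groth.Statements.S8773
import Mathlib

set_option autoImplicit false
universe u
open PureExt

namespace Groth.Agent.S8773


/-- If `L → M → N` is a universally exact sequence of `R`-modules (exact after tensoring with any
module) then the inclusion of the image of `M → N` into `N` is universally injective. -/
theorem result (R : Type u) [CommRing R]
    {L M N : Type u} [AddCommGroup L] [Module R L] [AddCommGroup M] [Module R M] [AddCommGroup N] [Module R N]
    (f : L →ₗ[R] M) (g : M →ₗ[R] N)
    (h : ∀ (Q : Type u) [AddCommGroup Q] [Module R Q], Function.Exact (f.rTensor Q) (g.rTensor Q)) :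
    CAlgX.UniversallyInjective R (LinearMap.range g).subtype := by

  intro Q _ _
  -- g ∘ f = 0
  have hgf : ∀ x, g (f x) = 0 := by
    intro x
    have h1 := (h R (f.rTensor R ((TensorProduct.rid R L).symm x))).mpr ⟨_, rfl⟩
    simp only [TensorProduct.rid_symm_apply, LinearMap.rTensor_tmul] at h1
    have := congrArg (TensorProduct.rid R N) h1
    simpa using this
  rw [injective_iff_map_eq_zero]
  intro z hz
  have hsurj : Function.Surjective (g.rangeRestrict.rTensor Q) :=
    LinearMap.rTensor_surjective Q g.surjective_rangeRestrict
  obtain ⟨w, rfl⟩ := hsurj z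
  have hw : g.rTensor Q w = 0 := by
    rw [← hz, ← LinearMap.comp_apply, ← LinearMap.rTensor_comp]
    rfl
  obtain ⟨v, rfl⟩ := (h Q w).mp hw
  rw [← LinearMap.comp_apply, ← LinearMap.rTensor_comp]
  have : g.rangeRestrict ∘ₗ f = 0 := by
    apply LinearMap.ext
    intro x
    apply Subtype.ext
    simp [hgf x]
  rw [this, LinearMap.rTensor_zero, LinearMap.zero_apply]

end Groth.Agent.S8773
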