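import Groth.Statements.S13152
import Mathlib
import Groth.Agent.Helper9.TorsorProps
import Groth.Agent.Helper5.NormChar3

set_option autoImplicit false
universe u
open CategoryTheory AlgebraicGeometry
open NonAbH1

namespace Groth.Agent.S13152

/-- Let X be a normal integral scheme (integral, with every local ring an integrally closed domain), G
an X-group scheme which is finite and flat over X, and Y an X-scheme with an action of G making it a
G-torsor for the fppf topology. If Y acquires a section over the spectrum of the local ring of X at
its generic point (the function field of X), then Y has a section over X; in other words the map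
from isomorphism classes of fppf G-torsors over X to those over the function field has trivial
kernel. (The published statement assumes moreover that all schemes are Noetherian and that G is
commutative, and is phrased as injectivity of H¹(X, G) → H¹(K(X), G); these extra assumptions are
not needed for the trivial-kernel assertion stated here.) -/
theorem result {X : Scheme.{u}} [IsIntegral X]
    (hX : Pi1.IsNormalScheme X) (G : Over X) [GrpObj G] [IsFinite G.hom] [Flat G.hom]
    (Y : Over X) (a : AlgGrp.Action G Y) (hY : NonAbH1.IsTorsorFor Scheme.fppfPrecoverage a)
    (hgen : NonAbH1.HasSectionOver Y (X.fromSpecStalk (genericPoint X))) :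
    NonAbH1.HasSectionOver Y (𝟙 X) := by
  classical
  obtain ⟨σ, hσ⟩ := hgen
  -- the torsor is finite over `X`
  have hY' : NonAbH1.IsTorsorFor Scheme.fpqcPrecoverage a := by
    obtain ⟨h1, R, hR, hsec⟩ := hY
    exact ⟨h1, R, Scheme.fppfPrecoverage_le_fpqcPrecoverage _ hR, hsec⟩
  haveI hfin : IsFinite Y.hom := Groth.Agent.Helper9.TorsorProps.isFinite a hY' inferInstance
  -- the generic point as `gen`
  have hg : X.fromSpecStalk (genericPoint X) =
      Groth.Agent.Helper5.NormGen.gen (X := X) X.functionField (RingHom.id _) := by
    unfold Groth.Agent.Helper5.NormGen.gen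
    have : CommRingCat.ofHom (RingHom.id X.functionField) = 𝟙 _ := rfl
    rw [this, Spec.map_id]
    exact (Category.id_comp _).symm
  haveI hqc0 : QuasiCompact (X.fromSpecStalk (genericPoint X)) := by
    refine ⟨fun U _ _ => ?_⟩
    exact (Set.toFinite _).isCompact
  haveI hqs0 : QuasiSeparated (X.fromSpecStalk (genericPoint X)) := inferInstance
  haveI hqc : QuasiCompact (Groth.Agent.Helper5.NormGen.gen (X := X) X.functionField
      (RingHom.id _)) := by rw [← hg]; exact hqc0
  haveI hqs : QuasiSeparated (Groth.Agent.Helper5.NormGen.gen (X := X) X.functionField
      (RingHom.id _)) := by rw [← hg]; exact hqs0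
  -- the normalization of `X` in its function field is `X`
  haveI hiso : IsIso (Groth.Agent.Helper5.NormGen.gen (X := X) X.functionField
      (RingHom.id _)).fromNormalization := by
    refine IsZariskiLocalAtTarget.of_iSup_eq_top (P := MorphismProperty.isomorphisms Scheme)
      (fun W : X.affineOpens => (W.1 : X.Opens)) (iSup_affineOpens_eq_top X) ?_
    intro W
    by_cases hne : Nonempty (W.1 : X.Opens)
    · exact Groth.Agent.Helper5.NormChar.isIso_morphismRestrict_of_closed (X := X) X.functionField
        (RingHom.id _) (RingHom.Finite.id _) Function.bijective_id W.1 W.2 hne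
        (fun x _ => (hX x).2)
    · haveI : IsEmpty ((W.1 : X.Opens) : Scheme.{u}) := not_nonempty_iff.mp hne
      show IsIso _
      infer_instance
  -- the section
  have H : Groth.Agent.Helper5.NormGen.gen (X := X) X.functionField (RingHom.id _) = σ ≫ Y.hom := by
    rw [← hg]; exact hσ.symm
  refine ⟨inv (Groth.Agent.Helper5.NormGen.gen (X := X) X.functionField
      (RingHom.id _)).fromNormalization ≫
    (Groth.Agent.Helper5.NormGen.gen (X := X) X.functionField
      (RingHom.id _)).normalizationDesc σ Y.hom H, ?_⟩
  rw [Category.assoc, Scheme.Hom.normalizationDesc_comp, IsIso.inv_hom_id]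

end Groth.Agent.S13152
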