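import Groth.Statements.S14695
import Mathlib
import Groth.Agent.Helper8.PushGen
import Groth.Agent.S13152

set_option autoImplicit false
universe u
open CategoryTheory AlgebraicGeometry
open NonAbH1

namespace Groth.Agent.S14695

/-- In the case where the morphism Y → X is the identity of X: let X be a normal integral scheme
(integral, with every local ring an integrally closed domain), G and G' X-group schemes which are
finite and flat over X, and g : G → G' a homomorphism which becomes an isomorphism after base change
to the spectrum of the function field of X. If an fppf G-torsor P over X becomes trivial after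
extension of the structure group along g — there is an fppf G'-torsor P' over X with a g-equivariant
X-morphism P → P', and P' has a section over X — then P has a section over X. (The published
statement takes G, G' commutative and all schemes Noetherian, allows also composition with the
pull-back along a morphism Y → X admitting a rational section, and is phrased as injectivity of
H¹(X, G) → H¹(Y, G'_Y); this row is the case where Y → X is the identity of X, as the trivial-kernel
assertion the argument establishes, for which commutativity and the Noetherian condition are not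
needed.) -/
theorem result {X : Scheme.{u}} [IsIntegral X]
    (hX : Pi1.IsNormalScheme X) (G G' : Over X) [GrpObj G] [GrpObj G']
    [IsFinite G.hom] [Flat G.hom] [IsFinite G'.hom] [Flat G'.hom]
    (g : G ⟶ G') [IsMonHom g]
    (hg : IsIso ((Over.pullback (X.fromSpecStalk (genericPoint X))).map g))
    (P : Over X) (a : AlgGrp.Action G P) (hP : NonAbH1.IsTorsorFor Scheme.fppfPrecoverage a)
    (P' : Over X) (a' : AlgGrp.Action G' P') (hP' : NonAbH1.IsTorsorFor Scheme.fppfPrecoverage a')
    (hpush : NonAbH1.IsPushforwardAlongSch g a a') (htriv : NonAbH1.HasSectionOver P' (𝟙 X)) :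
    NonAbH1.HasSectionOver P (𝟙 X) := by
  classical
  obtain ⟨f, hf⟩ := hpush
  obtain ⟨σ', hσ'⟩ := htriv
  obtain ⟨hps, R, hR, hsec⟩ := hP
  have hR' := Scheme.fppfPrecoverage_le_fpqcPrecoverage _ hR
  obtain ⟨-, hjs, -⟩ := hR'
  rw [Scheme.jointlySurjectivePrecoverage, Presieve.mem_comap_jointlySurjectivePrecoverage_iff]
    at hjs
  obtain ⟨U, t, ht, u, hu⟩ := hjs (genericPoint X)
  obtain ⟨s, hs⟩ := hsec t ht
  -- the residue field point of the covering factors through the generic point
  have hpt : (U.fromSpecResidueField u ≫ t) (IsLocalRing.closedPoint _) = genericPoint X := by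
    rw [Scheme.Hom.comp_apply, Scheme.fromSpecResidueField_apply]
    exact hu
  obtain ⟨τ, hτ⟩ : ∃ τ : Spec (U.residueField u) ⟶ Spec (X.presheaf.stalk (genericPoint X)),
      τ ≫ X.fromSpecStalk (genericPoint X) = U.fromSpecResidueField u ≫ t := by
    generalize genericPoint X = x at hpt
    subst hpt
    exact ⟨Spec.map (Scheme.stalkClosedPointTo _), Scheme.Spec_stalkClosedPointTo_fromSpecStalk _⟩
  letI : Field (X.presheaf.stalk (genericPoint X)) := inferInstanceAs (Field X.functionField)
  haveI : Subsingleton (Spec (X.presheaf.stalk (genericPoint X))) :=
    inferInstanceAs (Subsingleton (Spec (CommRingCat.of (X.presheaf.stalk (genericPoint X)))))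
  haveI : IsIntegral (Spec (X.presheaf.stalk (genericPoint X))) :=
    inferInstanceAs (IsIntegral (Spec (CommRingCat.of (X.presheaf.stalk (genericPoint X)))))
  haveI : Flat τ := inferInstance
  haveI : Surjective τ := ⟨fun y => ⟨IsLocalRing.closedPoint _, Subsingleton.elim _ _⟩⟩
  have hgen : NonAbH1.HasSectionOver P (X.fromSpecStalk (genericPoint X)) :=
    Groth.Agent.Helper8.PushGen.hasSectionOver_of_push g a a' hps hP'.1 f hf _ hg τ
      (U.fromSpecResidueField u ≫ s) (by rw [Category.assoc, hs, hτ]) σ' hσ'
  exact Groth.Agent.S13152.result hX G P a ⟨hps, R, hR, hsec⟩ hgen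

end Groth.Agent.S14695
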