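import Groth.Statements.S13997
import Mathlib
import Groth.Agent.Helper6.NilFT

set_option autoImplicit false
universe u
open FlatMor

namespace Groth.Agent.S13997

open AlgebraicGeometry in
theorem appLE_congr_hom {X Y : Scheme.{u}} {f g : X ⟶ Y} (h : f = g) (U : Y.Opens) (V : X.Opens)
    (e : V ≤ f ⁻¹ᵁ U) : f.appLE U V e = g.appLE U V (h ▸ e) := by
  subst h
  rfl

open AlgebraicGeometry CategoryTheory in
/-- Consider a commutative square of schemes F₀ ≫ j = i ≫ F in which i : Y₀ ⟶ Y and j : X₀ ⟶ X are
closed immersions surjective on points whose ideals are locally nilpotent (nilpotent on every affine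
open), and suppose moreover that the ideal of i is of finite type (finitely generated on every
affine open of Y). Then F : Y ⟶ X is locally of finite type if and only if F₀ : Y₀ ⟶ X₀ is. The
square is not assumed cartesian and the ideal of j need not be of finite type. (The published
statement also asserts the version for morphisms of finite type; that version follows from this one,
because quasi-compactness of a morphism transfers along closed immersions surjective on points, and
it is not restated here.) -/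
theorem result {X X₀ Y Y₀ : Scheme.{u}}
    (F : Y ⟶ X) (F₀ : Y₀ ⟶ X₀) (i : Y₀ ⟶ Y) (j : X₀ ⟶ X)
    (hi : MoreMor.IsThickening i) (hj : MoreMor.IsThickening j)
    (hinil : ∀ U : Y.affineOpens, IsNilpotent (i.ker.ideal U))
    (hjnil : ∀ U : X.affineOpens, IsNilpotent (j.ker.ideal U))
    (hfg : ∀ U : Y.affineOpens, (i.ker.ideal U).FG)
    (w : F₀ ≫ j = i ≫ F) :
    LocallyOfFiniteType F ↔ LocallyOfFiniteType F₀ := by
  obtain ⟨hi1, hi2⟩ := hi
  obtain ⟨hj1, hj2⟩ := hj
  haveI := hi1
  haveI := hj1
  constructor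
  · intro h
    haveI := h
    have h1 : LocallyOfFiniteType (i ≫ F) := inferInstance
    rw [← w] at h1
    exact locallyOfFiniteType_of_comp F₀ j
  · intro h
    rw [HasRingHomProperty.iff_appLE (P := @LocallyOfFiniteType)]
    intro U V e
    have hU₀ : IsAffineOpen (j ⁻¹ᵁ U.1) := U.2.preimage j
    have hV₀ : IsAffineOpen (i ⁻¹ᵁ V.1) := V.2.preimage i
    have e₀ : i ⁻¹ᵁ V.1 ≤ F₀ ⁻¹ᵁ (j ⁻¹ᵁ U.1) := by
      intro y hy
      have h1 : F (i y) ∈ U.1 := e hy
      have h2 : (F₀ ≫ j) y = (i ≫ F) y := by rw [w]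
      show j (F₀ y) ∈ U.1
      have h3 : j (F₀ y) = F (i y) := h2
      rw [h3]
      exact h1
    have h0 := (HasRingHomProperty.iff_appLE (P := @LocallyOfFiniteType)).1 h ⟨_, hU₀⟩ ⟨_, hV₀⟩ e₀
    have hsq : F.appLE U V e ≫ i.app V = j.app U ≫ F₀.appLE (j ⁻¹ᵁ U.1) (i ⁻¹ᵁ V.1) e₀ := by
      rw [i.app_eq_appLE, Scheme.Hom.appLE_comp_appLE, ← Scheme.Hom.comp_appLE F₀ j U.1 _ e₀]
      exact (Groth.Agent.S13997.appLE_congr_hom w _ _ _).symm
    apply Groth.Agent.Helper6.NilFT.ringHom_finiteType_of_comp (F.appLE U V e).hom (i.app V).hom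
      (i.app_surjective V V.2)
    · rw [← Scheme.Hom.ker_apply]
      exact hfg V
    · rw [← Scheme.Hom.ker_apply]
      exact hinil V
    · rw [← CommRingCat.hom_comp, hsq, CommRingCat.hom_comp]
      exact RingHom.FiniteType.comp h0
        (RingHom.FiniteType.of_surjective _ (j.app_surjective U U.2))

end Groth.Agent.S13997
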