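import Groth.Statements.S1989
import Mathlib
import Groth.Agent.Helper7.DomValC

set_option autoImplicit false
universe u
open EtAlg

namespace Groth.Agent.S1989

/-- Let K be the fraction field of a discrete valuation ring A, and K ⊂ L ⊂ M finite separable
extensions. If M is tamely ramified, respectively unramified, with respect to A, then so is L. -/
theorem result (A K : Type u) [CommRing A] [IsDomain A] [IsDiscreteValuationRing A] [Field K] [Algebra A K] [IsFractionRing A K] (L M : Type u) [Field L] [Field M]
    [Algebra K L] [Algebra K M] [Algebra L M] [IsScalarTower K L M] [FiniteDimensional K M] [Algebra.IsSeparable K M] :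
    (EtRam.IsTamelyRamified A ((algebraMap K M).comp (algebraMap A K)) →
      EtRam.IsTamelyRamified A ((algebraMap K L).comp (algebraMap A K))) ∧
    (EtRam.IsUnramifiedExt A ((algebraMap K M).comp (algebraMap A K)) →
      EtRam.IsUnramifiedExt A ((algebraMap K L).comp (algebraMap A K))) := by
  have hcomp : (algebraMap K M).comp (algebraMap A K) =
      (algebraMap L M).comp ((algebraMap K L).comp (algebraMap A K)) := by
    rw [← RingHom.comp_assoc, ← IsScalarTower.algebraMap_eq K L M]
  have hdom : ∀ W : ValuationSubring M,
      EtRam.Dominates A ((algebraMap K L).comp (algebraMap A K)) (W.comap (algebraMap L M)) →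
      EtRam.Dominates A ((algebraMap K M).comp (algebraMap A K)) W := by
    intro W hV
    rw [hcomp]
    refine ⟨fun a => hV.1 a, fun a ha => ?_⟩
    have := hV.2 a ha
    rw [Groth.Agent.Helper7.DomVal.valuation_comap_lt_one_iff] at this
    exact this
  refine ⟨?_, ?_⟩
  · intro h V hV
    obtain ⟨W, rfl⟩ := Groth.Agent.Helper7.DomVal.exists_extension (algebraMap L M) V
    have hW := hdom W hV
    obtain ⟨hV', htow, hl1, hl2, hl3, hdV, hdW, hinj, hne⟩ :=
      Groth.Agent.Helper7.DomVal.tower_package (L := L) W hW
    intro hloc
    letI algAV : Algebra A (W.comap (algebraMap L M)) :=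
      (RingHom.codRestrict ((algebraMap K L).comp (algebraMap A K)) (W.comap (algebraMap L M))
        hV.1).toAlgebra
    letI algVW : Algebra (W.comap (algebraMap L M)) W :=
      (RingHom.codRestrict ((algebraMap L M).comp (W.comap (algebraMap L M)).subtype) W
        (Groth.Agent.Helper7.DomVal.dominates_over (algebraMap L M) W).1).toAlgebra
    letI algAW : Algebra A W :=
      (RingHom.codRestrict ((algebraMap K M).comp (algebraMap A K)) W hW.1).toAlgebra
    haveI := htow
    haveI := hl2
    haveI := hl3
    haveI := hdV
    haveI := hdW
    have t : Groth.Agent.Helper7.DomVal.TameAt A W := h W hW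
    exact Groth.Agent.Helper7.DomVal.tameAt_bot hinj hne t
  · intro h V hV
    obtain ⟨W, rfl⟩ := Groth.Agent.Helper7.DomVal.exists_extension (algebraMap L M) V
    have hW := hdom W hV
    obtain ⟨hV', htow, hl1, hl2, hl3, hdV, hdW, hinj, hne⟩ :=
      Groth.Agent.Helper7.DomVal.tower_package (L := L) W hW
    intro hloc
    letI algAV : Algebra A (W.comap (algebraMap L M)) :=
      (RingHom.codRestrict ((algebraMap K L).comp (algebraMap A K)) (W.comap (algebraMap L M))
        hV.1).toAlgebra
    letI algVW : Algebra (W.comap (algebraMap L M)) W :=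
      (RingHom.codRestrict ((algebraMap L M).comp (W.comap (algebraMap L M)).subtype) W
        (Groth.Agent.Helper7.DomVal.dominates_over (algebraMap L M) W).1).toAlgebra
    letI algAW : Algebra A W :=
      (RingHom.codRestrict ((algebraMap K M).comp (algebraMap A K)) W hW.1).toAlgebra
    haveI := htow
    haveI := hl2
    haveI := hl3
    haveI := hdV
    haveI := hdW
    have t : Groth.Agent.Helper7.DomVal.UnramAt A W := h W hW
    exact Groth.Agent.Helper7.DomVal.unramAt_bot hne t

end Groth.Agent.S1989
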