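import Groth.Statements.S8933
import Groth.Agent.Helper4.KDerAdj
import Mathlib

set_option autoImplicit false
universe u
open CategoryTheory CategoryTheory.Limits
attribute [local instance] HasDerivedCategory.standard
open LocCoh

namespace Groth.Agent.S8933


/-- For a ring A, a finitely generated ideal I and a complex K of A-modules such that multiplication by
some f ∈ I is bijective on every term of K, the object RΓ_I(K) of D(A) is zero; here RΓ_I is the
right derived functor of the I-power torsion functor, assumed to exist. -/
theorem result (A : Type u) [CommRing A] (I : Ideal A) (hI : I.FG) [DRing.HasRgammaI I] (K : CochainComplex (ModuleCat.{u} A) ℤ) (f : A) (hf : f ∈ I) (hK : ∀ n : ℤ, Function.Bijective (fun x : K.X n => f • x)) : IsZero ((DRing.RgammaI I).obj (DerivedCategory.Q.obj K)) := by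

  classical
  open DerivedCategory Groth.Agent.Helper1 in
  -- resolution
  obtain ⟨J, ι, hJ, hι, -, -⟩ := Groth.Agent.Helper4.KInjRes.exists_resolution K
  haveI := hJ
  haveI := hι
  set R := DRing.RgammaI I with hR
  let β := (DRing.gammaIKh I).totalRightDerivedUnit DerivedCategory.Qh
    (HomotopyCategory.quasiIso (ModuleCat.{u} A) (ComplexShape.up ℤ))
  -- multiplication by f
  let μK : K ⟶ K := f • 𝟙 K
  let μJ : J ⟶ J := f • 𝟙 J
  have hcomm : ι ≫ μJ = μK ≫ ι := by
    simp [μK, μJ, Linear.comp_smul, Linear.smul_comp]
  have hμK : IsIso μK := by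
    have : ∀ n, IsIso (μK.f n) := fun n => by
      rw [ConcreteCategory.isIso_iff_bijective]
      have := hK n
      convert this using 1
      ext x
      simp [μK]
    exact HomologicalComplex.Hom.isIso_of_components _
  let XJ : (Groth.Agent.Helper1.KInjDer.P (ModuleCat.{u} A)).FullSubcategory :=
    ⟨(HomotopyCategory.quotient _ _).obj J, CochainComplex.IsKInjective.rightOrthogonal J⟩
  have hβ : IsIso (β.app XJ.obj) := Groth.Agent.Helper4.KDerAdj.isIso_β_app R β XJ
  have h1 : IsIso (DerivedCategory.Q.map ι) := by
    rw [DerivedCategory.isIso_Q_map_iff_quasiIso]; infer_instance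
  have h2 : IsIso (R.map (DerivedCategory.Q.map μJ)) := by
    have e : R.map (DerivedCategory.Q.map ι) ≫ R.map (DerivedCategory.Q.map μJ) =
        R.map (DerivedCategory.Q.map μK) ≫ R.map (DerivedCategory.Q.map ι) := by
      rw [← R.map_comp, ← R.map_comp, ← Functor.map_comp, ← Functor.map_comp, hcomm]
    have : IsIso (R.map (DerivedCategory.Q.map ι) ≫ R.map (DerivedCategory.Q.map μJ)) := by
      rw [e]; infer_instance
    exact IsIso.of_isIso_comp_left (R.map (DerivedCategory.Q.map ι)) _
  have hnat := β.naturality ((HomotopyCategory.quotient _ _).map μJ)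
  have h3 : IsIso (DerivedCategory.Q.map
      (((DRing.gammaI I).mapHomologicalComplex (ComplexShape.up ℤ)).map μJ)) := by
    have h4 : IsIso ((DRing.gammaIKh I).map ((HomotopyCategory.quotient _ _).map μJ) ≫
        β.app XJ.obj) := by
      rw [hnat]
      exact IsIso.comp_isIso' hβ h2
    haveI := hβ
    haveI := h4
    exact IsIso.of_isIso_comp_right ((DRing.gammaIKh I).map ((HomotopyCategory.quotient _ _).map μJ))
      (β.app XJ.obj)
  set G := ((DRing.gammaI I).mapHomologicalComplex (ComplexShape.up ℤ)).obj J with hG
  set φ : G ⟶ G := ((DRing.gammaI I).mapHomologicalComplex (ComplexShape.up ℤ)).map μJ with hφ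
  have hq : QuasiIso φ := (DerivedCategory.isIso_Q_map_iff_quasiIso _ φ).1 h3
  have hφf : ∀ (q : ℤ) (y : G.X q), (φ.f q).hom y = f • y := by
    intro q y
    exact Subtype.ext rfl
  have hacyc : ∀ q, IsZero (G.homology q) := by
    intro q
    have hiso : IsIso (HomologicalComplex.homologyMap φ q) := inferInstance
    have hinj : Function.Injective (HomologicalComplex.homologyMap φ q).hom :=
      ((ConcreteCategory.isIso_iff_bijective _).1 hiso).1
    have hsurj : Function.Surjective (G.homologyπ q).hom :=
      (ModuleCat.epi_iff_surjective _).1 inferInstance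
    have hmono : Function.Injective (G.iCycles q).hom :=
      (ModuleCat.mono_iff_injective _).1 inferInstance
    have e1 : ∀ (m : ℕ) (z : G.cycles q),
        (HomologicalComplex.homologyMap φ q).hom^[m] ((G.homologyπ q).hom z) =
          (G.homologyπ q).hom ((HomologicalComplex.cyclesMap φ q).hom^[m] z) := by
      intro m
      induction m with
      | zero => intro z; rfl
      | succ m ih =>
        intro z
        rw [Function.iterate_succ_apply', Function.iterate_succ_apply', ih]
        have := congrArg (fun t => t.hom ((HomologicalComplex.cyclesMap φ q).hom^[m] z))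
          (HomologicalComplex.homologyπ_naturality φ q)
        simp only [ModuleCat.hom_comp, LinearMap.comp_apply] at this
        exact this
    have e2 : ∀ (m : ℕ) (z : G.cycles q),
        (G.iCycles q).hom ((HomologicalComplex.cyclesMap φ q).hom^[m] z) =
          f ^ m • (G.iCycles q).hom z := by
      intro m
      induction m with
      | zero => intro z; simp
      | succ m ih =>
        intro z
        rw [Function.iterate_succ_apply']
        have := congrArg (fun t => t.hom ((HomologicalComplex.cyclesMap φ q).hom^[m] z))
          (HomologicalComplex.cyclesMap_i φ q)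
        simp only [ModuleCat.hom_comp, LinearMap.comp_apply] at this
        rw [this, ih, hφf, pow_succ', mul_smul]
    rw [ModuleCat.isZero_iff_subsingleton]
    refine ⟨fun x y => ?_⟩
    suffices h0 : ∀ x : G.homology q, x = 0 by rw [h0 x, h0 y]
    intro x
    obtain ⟨z, rfl⟩ := hsurj x
    obtain ⟨n, hn⟩ := ((G.iCycles q).hom z).2
    have hz : (HomologicalComplex.cyclesMap φ q).hom^[n] z = 0 := by
      apply hmono
      rw [e2, map_zero]
      apply Subtype.ext
      exact hn (f ^ n) (Ideal.pow_mem_pow hf n)
    have h0 : (HomologicalComplex.homologyMap φ q).hom^[n] ((G.homologyπ q).hom z) = 0 := by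
      rw [e1, hz, map_zero]
    have hinjn : Function.Injective ((HomologicalComplex.homologyMap φ q).hom^[n]) :=
      hinj.iterate n
    have hz0 : ∀ n : ℕ, (HomologicalComplex.homologyMap φ q).hom^[n] 0 = 0 := by
      intro n
      induction n with
      | zero => rfl
      | succ n ih => rw [Function.iterate_succ_apply', ih, map_zero]
    apply hinjn
    rw [h0, hz0]
  have hGz : IsZero (DerivedCategory.Q.obj G) := by
    have hq0 : QuasiIso (0 : G ⟶ G) := by
      rw [quasiIso_iff]
      intro q
      rw [quasiIsoAt_iff_isIso_homologyMap]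
      exact ⟨⟨0, (hacyc q).eq_of_src _ _, (hacyc q).eq_of_tgt _ _⟩⟩
    have : IsIso (DerivedCategory.Q.map (0 : G ⟶ G)) := by
      rw [DerivedCategory.isIso_Q_map_iff_quasiIso]; exact hq0
    exact IsZero.of_mono_eq_zero (DerivedCategory.Q.map (0 : G ⟶ G)) (Functor.map_zero _ _ _)
  haveI := hβ
  exact hGz.of_iso ((asIso (R.map (DerivedCategory.Q.map ι))) ≪≫ (asIso (β.app XJ.obj)).symm)

end Groth.Agent.S8933
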