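import Groth.Statements.S0356
import Groth.Agent.Helper1.CechTilde
import Groth.Agent.Helper1.LocCohLow
import Groth.Agent.Helper1.SerreD
import Groth.Agent.Helper1.HHonHU
import Groth.Agent.Helper1.KoszulLC
import Groth.Agent.S0464

set_option autoImplicit false
universe u v
open CategoryTheory AlgebraicGeometry
open LocCoh

namespace Groth.Agent.S0356

/-- Let R be a Noetherian ring, I an ideal, M an R-module and U = Spec R ∖ V(I) the punctured open. For
every p ≥ 1, the cohomology group H^p(U, M̃|_U) of the restriction to U of the quasi-coherent sheaf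
associated with M is isomorphic to the local cohomology H^(p+1)_I(M). (The published statement also
gives a four-term exact sequence in low degrees, which is not stated here; here R is Noetherian.) -/
theorem result (R : Type u) [CommRing R] [IsNoetherianRing R] (I : Ideal R) (M : Type u) [AddCommGroup M] [Module R M] (p : ℕ) (hp : 1 ≤ p) : Nonempty (Coh.HH (↑(LocCoh.puncturedOpen R I)) ((AlgebraicGeometry.tilde (R := CommRingCat.of R) (ModuleCat.of R M)).restrict (LocCoh.puncturedOpen R I).ι) p ≃+ LocCoh.H I (p + 1) M) := by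
  classical
  open Groth.Agent.Helper1.CechTilde Groth.Agent.Helper1.CechAug Groth.Agent.Helper1.TildeLoc
    Groth.Agent.Helper1.LocCohLow TopologicalSpace in
  obtain ⟨p', rfl⟩ : ∃ p', p = p' + 1 := ⟨p - 1, by omega⟩
  obtain ⟨S, hS⟩ := (IsNoetherian.noetherian I : I.FG)
  have hI : I = Ideal.span {a | a ∈ S.toList} := by
    rw [← hS]
    congr 1
    ext a
    simp
  generalize S.toList = fs at hI
  subst hI
  -- the open complement of `V(fs)` is the union of the basic opens
  have hU : LocCoh.puncturedOpen R (Ideal.span {a | a ∈ fs}) = iSup (UU fs) := by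
    apply SetLike.coe_injective
    ext q
    rw [Opens.coe_iSup, Set.mem_iUnion]
    change (show PrimeSpectrum R from q) ∉ PrimeSpectrum.zeroLocus
      ((Ideal.span {a | a ∈ fs} : Ideal R) : Set R) ↔ _
    rw [PrimeSpectrum.zeroLocus_span, PrimeSpectrum.mem_zeroLocus, Set.not_subset]
    constructor
    · rintro ⟨f, hf, hfp⟩
      obtain ⟨i, hi⟩ := List.mem_iff_get.1 hf
      refine ⟨⟨i⟩, ?_⟩
      change fs.get i ∉ (show PrimeSpectrum R from q).asIdeal
      rw [hi]
      exact hfp
    · rintro ⟨i, hi⟩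
      exact ⟨fs.get i.down, List.get_mem fs i.down, hi⟩
  obtain ⟨e0⟩ := Groth.Agent.Helper1.HHonHU.nonempty_HHon_HU (Spec (CommRingCat.of R))
    (AlgebraicGeometry.tilde (R := CommRingCat.of R) (ModuleCat.of R M))
    (LocCoh.puncturedOpen R (Ideal.span {a | a ∈ fs})) (p' + 1)
  suffices hsuff : Nonempty (CohTop.HU (Coh.toAb (AlgebraicGeometry.tilde (R := CommRingCat.of R)
      (ModuleCat.of R M))) (p' + 1) (LocCoh.puncturedOpen R (Ideal.span {a | a ∈ fs})) ≃+
      LocCoh.H (Ideal.span {a | a ∈ fs}) (p' + 1 + 1) M) by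
    obtain ⟨e1⟩ := hsuff
    exact ⟨e0.trans e1⟩
  clear e0
  rw [hU]
  set F : CohTop.Ab (Spec (CommRingCat.of R)).carrier :=
    Coh.toAb (AlgebraicGeometry.tilde (R := CommRingCat.of R) (ModuleCat.of R M)) with hF
  obtain ⟨e⟩ := nonempty_addEquiv_koszulHLim fs (ModuleCat.of R M) (p' + 2)
  have h : ∀ (p : ℕ) (a : Fin (p + 1) → ULift.{u} (Fin fs.length)) (r : ℕ),
      Subsingleton (CohTop.HU F (r + 1) (iInf fun k => UU fs (a k))) := by
    intro p a r
    have haff : IsAffineOpen (X := Spec (CommRingCat.of R)) (iInf fun k => UU fs (a k)) := by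
      have h1 : (iInf fun k => UU fs (a k)) =
          bO (R := CommRingCat.of R) (∏ k, fs.get (a k).down) :=
        iInf_bO (fun k => fs.get (a k).down)
      rw [h1]
      exact IsAffineOpen.Spec_basicOpen (R := CommRingCat.of R) _
    exact Groth.Agent.Helper1.Serre.subsingleton_HU_of_isAffineOpen
      (AlgebraicGeometry.tilde (R := CommRingCat.of R) (ModuleCat.of R M)) haff r
  obtain ⟨e2⟩ := Groth.Agent.S0464.result F (UU fs) h (p' + 1)
  have i1 := hSuccIso (UU fs) F.obj p'
  obtain ⟨e3⟩ := Groth.Agent.Helper1.Koszul.nonempty_lc_equiv_koszulHLim fs M (p' + 2)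
  exact ⟨e2.symm.trans (i1.symm.addCommGroupIsoToAddEquiv.trans (e.trans e3.symm.toAddEquiv))⟩

end Groth.Agent.S0356
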