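import Groth.Statements.S6160
import Mathlib

set_option autoImplicit false
universe u
open scoped TensorProduct
open CategoryTheory
open ModSite

namespace Groth.Agent.S6160

open CategoryTheory.Limits in
/-- Ringed topos of sheaves on a small site; u : A -> B a morphism of sheaves of rings: the
restriction-of-scalars functor from B-Modules to A-Modules commutes with all u-small limits and
colimits and is conservative. -/
theorem result {C : Type u} [SmallCategory C]
    {J : GrothendieckTopology C} {A B : Sheaf J RingCat.{u}} (φ : A ⟶ B) :
    PreservesLimitsOfSize.{u, u} (SheafOfModules.restrictScalars.{u} φ) ∧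
    PreservesColimitsOfSize.{u, u} (SheafOfModules.restrictScalars.{u} φ) ∧
    (SheafOfModules.restrictScalars.{u} φ).ReflectsIsomorphisms := by
  let e : SheafOfModules.restrictScalars.{u} φ ⋙ SheafOfModules.toSheaf.{u} A ≅
      SheafOfModules.toSheaf.{u} B := Iso.refl _
  have hlim : ∀ R : Sheaf J RingCat.{u},
      Limits.PreservesLimitsOfSize.{u, u} (SheafOfModules.toSheaf.{u} R) := by
    intro R
    have : Limits.PreservesLimitsOfSize.{u, u}
        (SheafOfModules.toSheaf.{u} R ⋙ sheafToPresheaf J AddCommGrpCat.{u}) :=
      (inferInstance : Limits.PreservesLimitsOfSize.{u, u}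
        (SheafOfModules.forget.{u} R ⋙ PresheafOfModules.toPresheaf R.obj))
    exact Limits.preservesLimits_of_reflects_of_preserves _ (sheafToPresheaf _ _)
  have hcolim : ∀ R : Sheaf J RingCat.{u},
      Limits.PreservesColimitsOfSize.{u, u} (SheafOfModules.toSheaf.{u} R) := by
    intro R
    constructor
    intro K _
    constructor
    intro D
    let S := PresheafOfModules.sheafification.{u} (𝟙 R.obj)
    let e' : D ≅ (D ⋙ SheafOfModules.forget R) ⋙ S :=
      Functor.isoWhiskerLeft D
        (asIso (PresheafOfModules.sheafificationAdjunction (𝟙 R.obj)).counit).symm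
    have h0 : Limits.PreservesColimit ((D ⋙ SheafOfModules.forget R) ⋙ S)
        (SheafOfModules.toSheaf.{u} R) := by
      have h1 : Limits.PreservesColimit (D ⋙ SheafOfModules.forget R)
          (S ⋙ SheafOfModules.toSheaf.{u} R) :=
        (inferInstance : Limits.PreservesColimit (D ⋙ SheafOfModules.forget R)
          (PresheafOfModules.toPresheaf R.obj ⋙ presheafToSheaf J AddCommGrpCat.{u}))
      let c := Limits.colimit.cocone (D ⋙ SheafOfModules.forget R)
      have hc : Limits.IsColimit c := Limits.colimit.isColimit _
      have hSc : Limits.IsColimit (S.mapCocone c) := Limits.isColimitOfPreserves S hc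
      refine Limits.preservesColimit_of_preserves_colimit_cocone hSc ?_
      exact Limits.IsColimit.ofIsoColimit
        (Limits.isColimitOfPreserves (S ⋙ SheafOfModules.toSheaf.{u} R) hc)
        (Limits.Cocone.ext (Iso.refl _) (by intro j; simp))
    exact Limits.preservesColimit_of_iso_diagram _ e'.symm
  refine ⟨?_, ?_, ?_⟩
  · have := hlim A
    have := hlim B
    have : Limits.ReflectsLimitsOfSize.{u, u} (SheafOfModules.toSheaf.{u} A) :=
      Limits.reflectsLimits_of_reflectsIsomorphisms
    have : Limits.PreservesLimitsOfSize.{u, u}
        (SheafOfModules.restrictScalars.{u} φ ⋙ SheafOfModules.toSheaf.{u} A) :=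
      Limits.preservesLimits_of_natIso e.symm
    exact Limits.preservesLimits_of_reflects_of_preserves
      (SheafOfModules.restrictScalars.{u} φ) (SheafOfModules.toSheaf.{u} A)
  · have := hcolim A
    have := hcolim B
    have : Limits.ReflectsColimitsOfSize.{u, u} (SheafOfModules.toSheaf.{u} A) :=
      Limits.reflectsColimits_of_reflectsIsomorphisms
    have : Limits.PreservesColimitsOfSize.{u, u}
        (SheafOfModules.restrictScalars.{u} φ ⋙ SheafOfModules.toSheaf.{u} A) :=
      Limits.preservesColimits_of_natIso e.symm
    exact Limits.preservesColimits_of_reflects_of_preserves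
      (SheafOfModules.restrictScalars.{u} φ) (SheafOfModules.toSheaf.{u} A)
  · have : (SheafOfModules.restrictScalars.{u} φ ⋙ SheafOfModules.toSheaf.{u} A).ReflectsIsomorphisms := by
      constructor
      intro X Y f hf
      have : IsIso ((SheafOfModules.toSheaf.{u} B).map f) := hf
      exact isIso_of_reflects_iso f (SheafOfModules.toSheaf.{u} B)
    exact reflectsIsomorphisms_of_comp _ (SheafOfModules.toSheaf.{u} A)

end Groth.Agent.S6160
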