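import Groth.Statements.S18020
import Mathlib
-- import your own Groth.Agent.* helpers here

set_option autoImplicit false
open W4c5stacksedinertia

namespace Groth.Agent.S18020

open W4c5stacksedinertia in
/-- In the rational vector space K with basis the isomorphism classes of finite groups (the class of a
group standing for its classifying groupoid), the inertia operator, which sends the class of a
finite group to the sum over its conjugacy classes of the classes of the centralizers of
representatives, preserves the subspace spanned by the classes of groups of order at most `n`. -/
theorem result (n : ℕ) (v : K) (hv : v ∈ Kle n) :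
    inertia v ∈ Kle n := by
  have hcard : ∀ (G : Type) [Group G] [Finite G], (Idx.of G).card = Nat.card G := by
    intro G _ _
    have h1 : Nonempty ((Quotient.out (s := FinGrp.setoid) (Idx.of G)).carrier ≃*
        (FinGrp.of G).carrier) := Quotient.mk_out (s := FinGrp.setoid) (FinGrp.of G)
    obtain ⟨e⟩ := h1
    have h2 : Nat.card (Idx.of G).rep = Nat.card (FinGrp.of G).carrier :=
      Nat.card_congr e.toEquiv
    have h3 : Nat.card (FinGrp.of G).carrier = Nat.card G := by
      show Nat.card (Fin (Nat.card G)) = Nat.card G
      simp
    exact h2.trans h3
  have hsub : ∀ (i : Idx), i.card ≤ n → inertiaROf 1 i.rep ∈ Kle n := by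
    intro i hi
    unfold inertiaROf
    apply finsum_induction (p := fun x => x ∈ Kle n)
    · exact (Kle n).zero_mem
    · intro x y hx hy; exact (Kle n).add_mem hx hy
    · intro O
      unfold cl Kle
      apply Finsupp.single_mem_supported
      show (Idx.of _).card ≤ n
      rw [hcard]
      exact (Subgroup.card_le_card_group _).trans hi
  unfold inertia inertiaR
  rw [Finsupp.linearCombination_apply]
  apply Submodule.sum_mem
  intro i hi
  apply Submodule.smul_mem
  apply hsub
  have := (Finsupp.mem_supported ℚ v).mp hv
  exact this hi

end Groth.Agent.S18020
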