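import Groth.Statements.S7037
import Groth.Agent.Helper6.LTenCxCompute
import Groth.Agent.Helper6.TenFin
import Groth.Agent.Helper6.TenCxQis
import Groth.Agent.Helper3.DRing1

set_option autoImplicit false
universe u
open CategoryTheory CategoryTheory.Limits
attribute [local instance] HasDerivedCategory.standard
open DRing

namespace Groth.Agent.S7037

/-- Let R be a commutative ring, K a pseudo-coherent object of D(R), and L a cochain complex of
R-modules which is pseudo-coherent as an object of D(R); assume the derived tensor product - ⊗^L_R L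
exists on D(R). Then K ⊗^L_R L is pseudo-coherent. -/
theorem result (R : Type u) [CommRing R] (K : Dual.D R) (hK : DRing.IsPseudoCoherent' R K)
    (L : DRing.Cx R) (hL : DRing.IsPseudoCoherent' R (DRing.toD L)) [DRing.HasLTensorCx R L] :
    DRing.IsPseudoCoherent' R ((DRing.LTensorCx R L).obj K) := by
  obtain ⟨E', b, hE', fE', ⟨eK⟩⟩ := hK
  obtain ⟨F, b', hF, fF, ⟨eL⟩⟩ := hL
  have pE : ∀ i, Module.Projective R (E'.X i) := fun i => by
    have := (fE' i).2
    infer_instance
  have pF : ∀ i, Module.Projective R (F.X i) := fun i => by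
    have := (fF i).2
    infer_instance
  haveI : E'.IsKProjective :=
    Groth.Agent.Helper3.DRingLib.isKProjective_of_vanishesAbove E' b hE' pE
  haveI : F.IsKProjective :=
    Groth.Agent.Helper3.DRingLib.isKProjective_of_vanishesAbove F b' hF pF
  obtain ⟨f, hf⟩ := Groth.Agent.Helper6.KProjQ.Q_map_surjective F L eL.hom
  have hqf : QuasiIso f := by
    rw [← DerivedCategory.isIso_Q_map_iff_quasiIso, hf]
    infer_instance
  have hkf : Groth.Agent.Helper6.TenCx.KFlat E' :=
    Groth.Agent.Helper6.TenCx.kflat_of_boundedAbove_flat E' b hE' (fun i => by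
      have := pE i
      infer_instance)
  have hq : QuasiIso (MonoidalCategory.whiskerLeft E' f) := Groth.Agent.Helper6.TenCx.quasiIso_whiskerLeft hkf f hqf
  haveI : IsIso (DerivedCategory.Q.map (MonoidalCategory.whiskerLeft E' f)) :=
    (DerivedCategory.isIso_Q_map_iff_quasiIso (ModuleCat.{u} R) _).mpr hq
  refine ⟨MonoidalCategory.tensorObj E' F, b + b', Groth.Agent.Helper6.TenFin.vanishesAbove_tensor E' F b b' hE' hF,
    fun i => ⟨Groth.Agent.Helper6.TenFin.finite_X E' F b b' hE' hF (fun i => (fE' i).1)
      (fun i => (fF i).1) i,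
      Groth.Agent.Helper6.TenFin.free_X E' F (fun i => (fE' i).2) (fun i => (fF i).2) i⟩, ⟨?_⟩⟩
  exact asIso (DerivedCategory.Q.map (MonoidalCategory.whiskerLeft E' f)) ≪≫
    (Groth.Agent.Helper6.LTenCxCompute.ltcIso L E').symm ≪≫ (DRing.LTensorCx R L).mapIso eK

end Groth.Agent.S7037
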