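import Groth.Statements.S19229
import Mathlib
-- import your own Groth.Agent.* helpers here

set_option autoImplicit false
universe u v
open SigmaLin

namespace Groth.Agent.S19229

/-- Let k be a field with a ring endomorphism σ, V a finite-dimensional k-vector space and T : V → V an
additive map with T (c • v) = σ c • T v. If some iterate of T sends v to 0 and v lies in the
k-linear span of the image of every iterate of T, then v = 0. In other words the union of the
kernels of the iterates of T and the intersection of the spans of their images meet only in 0. -/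
theorem result
    (k : Type u) [Field k] (σ : k →+* k)
    (V : Type v) [AddCommGroup V] [Module k V] [FiniteDimensional k V] (T : V →ₛₗ[σ] V) (v : V)
    (hnil : ∃ n : ℕ, (⇑T)^[n] v = 0)
    (hss : ∀ n : ℕ, v ∈ Submodule.span k (Set.range ((⇑T)^[n]))) : v = 0 := by
  classical
  obtain ⟨N, hN⟩ := hnil
  set I : ℕ → Submodule k V := fun n => Submodule.span k (Set.range ((⇑T)^[n])) with hI
  -- antitone
  have hanti : ∀ n, I (n + 1) ≤ I n := by
    intro n
    apply Submodule.span_mono
    rintro _ ⟨w, rfl⟩
    exact ⟨T w, by rw [Function.iterate_succ_apply]⟩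
  have hanti' : Antitone I := antitone_nat_of_succ_le hanti
  -- stabilization
  obtain ⟨n₀, hn₀⟩ := IsArtinian.monotone_stabilizes
    (⟨fun n => OrderDual.toDual (I n), fun a b hab => hanti' hab⟩ : ℕ →o (Submodule k V)ᵒᵈ)
  have hstab : ∀ m, n₀ ≤ m → I n₀ = I m := fun m hm => hn₀ m hm
  -- T maps I n into I (n+1)
  have hTmap : ∀ n x, x ∈ I n → T x ∈ I (n + 1) := by
    intro n x hx
    induction hx using Submodule.span_induction with
    | mem y hy =>
      obtain ⟨w, rfl⟩ := hy
      apply Submodule.subset_span
      exact ⟨w, by rw [Function.iterate_succ_apply']⟩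
    | zero => rw [map_zero]; exact zero_mem _
    | add y z _ _ hy hz => rw [map_add]; exact add_mem hy hz
    | smul c y _ hy => rw [map_smulₛₗ]; exact Submodule.smul_mem _ _ hy
  set J : Submodule k V := I n₀ with hJ
  have hTJ : ∀ x ∈ J, T x ∈ J := by
    intro x hx
    have := hTmap n₀ x hx
    rwa [← hstab (n₀ + 1) (Nat.le_succ _)] at this
  -- basis of J
  set r := Module.finrank k J with hr
  let b : Module.Basis (Fin r) k J := Module.finBasis k J
  let c : Fin r → J := fun i => ⟨T (b i : V), hTJ _ (b i).2⟩
  have hspan : ⊤ ≤ Submodule.span k (Set.range c) := by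
    rintro ⟨x, hx⟩ -
    -- x ∈ I (n₀+1)
    have hx' : x ∈ I (n₀ + 1) := by rw [← hstab (n₀ + 1) (Nat.le_succ _)]; exact hx
    -- general claim
    have key : ∀ y ∈ I (n₀ + 1), ∀ hy : y ∈ J, (⟨y, hy⟩ : J) ∈ Submodule.span k (Set.range c) := by
      intro y hy
      induction hy using Submodule.span_induction with
      | mem y hy' =>
        intro hyJ
        obtain ⟨w, rfl⟩ := hy'
        have hw : (⇑T)^[n₀] w ∈ J := Submodule.subset_span ⟨w, rfl⟩
        have hrep := b.sum_repr ⟨(⇑T)^[n₀] w, hw⟩
        have e : (⟨(⇑T)^[n₀ + 1] w, hyJ⟩ : J) =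
            ∑ i, σ (b.repr ⟨(⇑T)^[n₀] w, hw⟩ i) • c i := by
          apply Subtype.ext
          show (⇑T)^[n₀ + 1] w = _
          rw [Function.iterate_succ_apply']
          have h1 : ((⇑T)^[n₀] w) = ∑ i, (b.repr ⟨(⇑T)^[n₀] w, hw⟩ i) • (b i : V) := by
            have := congrArg (fun z : J => (z : V)) hrep
            simp only [Submodule.coe_sum, Submodule.coe_smul] at this
            exact this.symm
          conv_lhs => rw [h1]
          rw [map_sum]
          simp only [map_smulₛₗ, Submodule.coe_sum, Submodule.coe_smul, c]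
        rw [e]
        exact Submodule.sum_mem _ (fun i _ => Submodule.smul_mem _ _ (Submodule.subset_span ⟨i, rfl⟩))
      | zero => intro _; exact zero_mem _
      | add y z hy1 hz1 hy hz =>
        intro hyz
        have hyJ : y ∈ J := by rw [hstab (n₀ + 1) (Nat.le_succ _)]; exact hy1
        have hzJ : z ∈ J := by rw [hstab (n₀ + 1) (Nat.le_succ _)]; exact hz1
        have : (⟨y + z, hyz⟩ : J) = ⟨y, hyJ⟩ + ⟨z, hzJ⟩ := rfl
        rw [this]
        exact add_mem (hy hyJ) (hz hzJ)
      | smul a y hy1 hy =>
        intro hay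
        have hyJ : y ∈ J := by rw [hstab (n₀ + 1) (Nat.le_succ _)]; exact hy1
        have : (⟨a • y, hay⟩ : J) = a • ⟨y, hyJ⟩ := rfl
        rw [this]
        exact Submodule.smul_mem _ _ (hy hyJ)
    exact key x hx' hx
  have hli : LinearIndependent k c :=
    linearIndependent_of_top_le_span_of_card_eq_finrank hspan (by simp [hr])
  -- injectivity of T on J
  have hinj : ∀ x ∈ J, T x = 0 → x = 0 := by
    intro x hx hTx
    have hrep := b.sum_repr ⟨x, hx⟩
    have h1 : x = ∑ i, (b.repr ⟨x, hx⟩ i) • (b i : V) := by
      have := congrArg (fun z : J => (z : V)) hrep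
      simp only [Submodule.coe_sum, Submodule.coe_smul] at this
      exact this.symm
    have h2 : ∑ i, σ (b.repr ⟨x, hx⟩ i) • c i = 0 := by
      apply Subtype.ext
      simp only [Submodule.coe_sum, Submodule.coe_smul, c, Submodule.coe_zero]
      rw [← hTx]
      conv_rhs => rw [h1]
      rw [map_sum]
      simp only [map_smulₛₗ]
    have h3 := Fintype.linearIndependent_iff.1 hli _ h2
    have h4 : ∀ i, b.repr ⟨x, hx⟩ i = 0 := fun i => (map_eq_zero σ).1 (h3 i)
    rw [h1]
    simp [h4]
  -- conclusion
  have hvJ : v ∈ J := hss n₀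
  have main : ∀ n, ∀ x ∈ J, (⇑T)^[n] x = 0 → x = 0 := by
    intro n
    induction n with
    | zero => intro x _ hx; simpa using hx
    | succ n ih =>
      intro x hx hTx
      rw [Function.iterate_succ_apply] at hTx
      exact hinj x hx (ih (T x) (hTJ x hx) hTx)
  exact main N v hvJ hN

end Groth.Agent.S19229
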