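import Groth.Statements.S19232
import Mathlib
-- import your own Groth.Agent.* helpers here

set_option autoImplicit false
universe u v
open SigmaLin

namespace Groth.Agent.S19232

/-- Let k be a field with a ring endomorphism σ, and assume that for every n and every tuple (b_0, …,
b_n) of elements of k, not all zero, the equation x = Σ_{i=0}^{n} σ^{i+1}(x) σ^{i}(b_{n-i}) has a
nonzero solution x in k. Let V be a finite-dimensional k-vector space, T : V → V additive with T (c
• v) = σ c • T v, and e ∈ V a vector no iterate of T sends to 0. Then the k-span of the orbit e, T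
e, T² e, … contains a nonzero vector v with T v = v. -/
theorem result
    (k : Type u) [Field k] (σ : k →+* k)
    (V : Type v) [AddCommGroup V] [Module k V] [FiniteDimensional k V] (T : V →ₛₗ[σ] V)
    (h2 : ∀ (n : ℕ) (b : Fin (n + 1) → k), b ≠ 0 →
      ∃ x : k, x ≠ 0 ∧ x = ∑ i : Fin (n + 1), (⇑σ)^[i.val + 1] x * (⇑σ)^[i.val] (b (Fin.rev i)))
    (e : V) (he : ∀ m : ℕ, (⇑T)^[m] e ≠ 0) :
    ∃ v ∈ Submodule.span k (Set.range (fun m : ℕ => (⇑T)^[m] e)), v ≠ 0 ∧ T v = v := by
  classical
  set E : ℕ → V := fun m => (⇑T)^[m] e with hE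
  have hE0 : E 0 = e := rfl
  have hEsucc : ∀ m, T (E m) = E (m + 1) := fun m => by
    simp only [hE, Function.iterate_succ_apply']
  -- find the first dependency
  have hex : ∃ m : ℕ, ¬ LinearIndependent k (fun i : Fin (m + 1) => E i) := by
    refine ⟨Module.finrank k V, fun hli => ?_⟩
    have := hli.fintype_card_le_finrank
    simp at this
  have hm0 : ¬ (¬ LinearIndependent k (fun i : Fin (0 + 1) => E i)) := by
    rw [not_not]
    have : (fun i : Fin (0 + 1) => E i) = fun _ => e := by
      funext i
      have : (i : ℕ) = 0 := by omega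
      rw [this, hE0]
    rw [this]
    have hsub : Subsingleton (Fin (0 + 1)) := by rw [zero_add]; infer_instance
    exact LinearIndependent.of_subsingleton (0 : Fin (0 + 1)) (he 0)
  set m₀ := Nat.find hex with hm₀
  have hm₀spec : ¬ LinearIndependent k (fun i : Fin (m₀ + 1) => E i) := Nat.find_spec hex
  have hm₀pos : 0 < m₀ := by
    rcases Nat.eq_zero_or_pos m₀ with h | h
    · rw [h] at hm₀spec; exact absurd hm₀spec hm0
    · exact h
  obtain ⟨n, hn⟩ : ∃ n, m₀ = n + 1 := ⟨m₀ - 1, by omega⟩
  have hli : LinearIndependent k (fun i : Fin (n + 1) => E i) := by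
    by_contra hcon
    have := Nat.find_min hex (m := n) (by omega)
    exact this hcon
  have hdep : E (n + 1) ∈ Submodule.span k (Set.range (fun i : Fin (n + 1) => E i)) := by
    by_contra hcon
    apply hm₀spec
    rw [hn]
    have : (fun i : Fin (n + 1 + 1) => E i) = Fin.snoc (fun i : Fin (n + 1) => E i) (E (n + 1)) := by
      funext i
      refine Fin.lastCases ?_ (fun j => ?_) i
      · simp
      · simp
    rw [this, linearIndependent_finSnoc]
    exact ⟨hli, hcon⟩
  obtain ⟨a, ha⟩ := (Submodule.mem_span_range_iff_exists_fun k).mp hdep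
  set a' : ℕ → k := fun m => if h : m < n + 1 then a ⟨m, h⟩ else 0 with ha'
  have ha'E : E (n + 1) = ∑ i ∈ Finset.range (n + 1), a' i • E i := by
    rw [← ha, Finset.sum_range]
    refine Finset.sum_congr rfl fun i _ => ?_
    have hi : (i : ℕ) < n + 1 := i.2
    simp only [ha', hi, dif_pos]
  have ane : a ≠ 0 := by
    rintro rfl
    simp at ha
    exact he (n + 1) ha.symm
  obtain ⟨x, hx0, hx⟩ := h2 n a ane
  set X : ℕ → k := fun i =>
    ∑ j ∈ Finset.range (i + 1), (⇑σ)^[j + 1] x * (⇑σ)^[j] (a' (i - j)) with hX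
  have hX0 : X 0 = σ x * a' 0 := by simp [hX]
  have hXsucc : ∀ i, X (i + 1) = σ (X i) + σ x * a' (i + 1) := by
    intro i
    simp only [hX]
    rw [Finset.sum_range_succ' _ (i + 1), map_sum]
    congr 1
    · refine Finset.sum_congr rfl fun j hj => ?_
      rw [map_mul, ← Function.iterate_succ_apply' σ, ← Function.iterate_succ_apply' σ]
      have : i + 1 - (j + 1) = i - j := by omega
      rw [this]
  have hXn : X n = x := by
    conv_rhs => rw [hx]
    simp only [hX]
    rw [Finset.sum_range]
    refine Finset.sum_congr rfl fun j _ => ?_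
    congr 2
    have hj : n - (j : ℕ) < n + 1 := by omega
    simp only [ha', hj, dif_pos]
    congr 1
    apply Fin.ext
    simp [Fin.val_rev]
  set v : V := ∑ i ∈ Finset.range (n + 1), X i • E i with hv
  have hTv : T v = v := by
    have h1 : T v = ∑ i ∈ Finset.range (n + 1), σ (X i) • E (i + 1) := by
      rw [hv, map_sum]
      refine Finset.sum_congr rfl fun i _ => ?_
      rw [map_smulₛₗ, hEsucc]
    rw [h1, Finset.sum_range_succ, hXn, ha'E, Finset.sum_range_succ' (fun i => a' i • E i) n,
      hv, Finset.sum_range_succ' (fun i => X i • E i) n, hX0]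
    simp only [hXsucc, add_smul, mul_smul, Finset.sum_add_distrib, Finset.smul_sum, smul_add]
    abel
  refine ⟨v, ?_, ?_, hTv⟩
  · exact Submodule.sum_mem _ fun i _ => Submodule.smul_mem _ _ (Submodule.subset_span ⟨i, rfl⟩)
  · intro hv0
    have h3 : ∑ i : Fin (n + 1), X i • E i = 0 := by
      rw [← Finset.sum_range (fun i => X i • E i)]
      exact hv0
    have h4 := Fintype.linearIndependent_iff.1 hli (fun i => X i) h3 ⟨n, by omega⟩
    simp only at h4
    rw [hXn] at h4
    exact hx0 h4

end Groth.Agent.S19232
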