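import Groth.Statements.S19230
import Mathlib
import Groth.Agent.S19229
-- import your own Groth.Agent.* helpers here

set_option autoImplicit false
universe u v
open SigmaLin

namespace Groth.Agent.S19230

/-- Let k be a field, σ a surjective ring endomorphism of k, V a finite-dimensional k-vector space and T
: V → V additive with T (c • v) = σ c • T v. Then the set of vectors killed by some iterate of T is
a k-subspace on which a single iterate of T vanishes, it is a complement of the intersection over n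
of the k-spans of the images of the n-th iterates, and T restricts to a bijection of that
intersection onto itself. -/
theorem result
    (k : Type u) [Field k] (σ : k →+* k) (hσ : Function.Surjective σ)
    (V : Type v) [AddCommGroup V] [Module k V] [FiniteDimensional k V] (T : V →ₛₗ[σ] V) :
    (∃ W : Submodule k V, (W : Set V) = {v : V | ∃ n : ℕ, (⇑T)^[n] v = 0} ∧
      (∃ N : ℕ, ∀ v ∈ W, (⇑T)^[N] v = 0) ∧
      IsCompl W (⨅ n : ℕ, Submodule.span k (Set.range ((⇑T)^[n])))) ∧
    Set.BijOn (⇑T) (⋂ n : ℕ, (Submodule.span k (Set.range ((⇑T)^[n])) : Set V))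
      (⋂ n : ℕ, (Submodule.span k (Set.range ((⇑T)^[n])) : Set V)) := by
  classical
  set I : ℕ → Submodule k V := fun n => Submodule.span k (Set.range ((⇑T)^[n])) with hI
  have hTn_smul : ∀ n (c : k) (v : V), (⇑T)^[n] (c • v) = (⇑σ)^[n] c • (⇑T)^[n] v := by
    intro n
    induction n with
    | zero => intro c v; rfl
    | succ n ih =>
      intro c v
      rw [Function.iterate_succ_apply', ih, map_smulₛₗ, Function.iterate_succ_apply',
        Function.iterate_succ_apply']
  have hTn_add : ∀ n (v w : V), (⇑T)^[n] (v + w) = (⇑T)^[n] v + (⇑T)^[n] w := by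
    intro n
    induction n with
    | zero => intro v w; rfl
    | succ n ih => intro v w; simp only [Function.iterate_succ_apply', ih, map_add]
  have hTn_zero : ∀ n, (⇑T)^[n] (0:V) = 0 := by
    intro n
    induction n with
    | zero => rfl
    | succ n ih => rw [Function.iterate_succ_apply', ih, map_zero]
  have hTn_neg : ∀ n (v : V), (⇑T)^[n] (-v) = -(⇑T)^[n] v := by
    intro n
    induction n with
    | zero => intro v; rfl
    | succ n ih => intro v; simp only [Function.iterate_succ_apply', ih, map_neg]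
  have hTn_sub : ∀ n (v w : V), (⇑T)^[n] (v - w) = (⇑T)^[n] v - (⇑T)^[n] w := by
    intro n v w
    rw [sub_eq_add_neg, hTn_add, hTn_neg, ← sub_eq_add_neg]
  have hσn : ∀ n, Function.Surjective ((⇑σ)^[n]) := fun n => hσ.iterate n
  have hIn : ∀ n (x : V), x ∈ I n → ∃ u, (⇑T)^[n] u = x := by
    intro n x hx
    induction hx using Submodule.span_induction with
    | mem y hy => exact hy
    | zero => exact ⟨0, hTn_zero n⟩
    | add y z _ _ hy hz =>
      obtain ⟨u, rfl⟩ := hy
      obtain ⟨w, rfl⟩ := hz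
      exact ⟨u + w, hTn_add n u w⟩
    | smul c y _ hy =>
      obtain ⟨u, rfl⟩ := hy
      obtain ⟨c', rfl⟩ := hσn n c
      exact ⟨c' • u, hTn_smul n c' u⟩
  have hmemI : ∀ n (u : V), (⇑T)^[n] u ∈ I n := fun n u => Submodule.subset_span ⟨u, rfl⟩
  have hanti1 : ∀ n, I (n + 1) ≤ I n := by
    intro n
    apply Submodule.span_mono
    rintro _ ⟨w, rfl⟩
    exact ⟨T w, by rw [Function.iterate_succ_apply]⟩
  have hanti : Antitone I := antitone_nat_of_succ_le hanti1
  obtain ⟨M, hM⟩ := IsArtinian.monotone_stabilizes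
    (⟨fun n => OrderDual.toDual (I n), fun a b hab => hanti hab⟩ : ℕ →o (Submodule k V)ᵒᵈ)
  have hstab : ∀ m, M ≤ m → I M = I m := fun m hm => hM m hm
  have hinf : (⨅ n, I n) = I M := by
    apply le_antisymm (iInf_le _ M)
    refine le_iInf fun n => ?_
    rcases le_total n M with h | h
    · exact hanti h
    · rw [← hstab n h]
  have hTmap : ∀ n x, x ∈ I n → T x ∈ I (n + 1) := by
    intro n x hx
    obtain ⟨u, rfl⟩ := hIn n x hx
    have : T ((⇑T)^[n] u) = (⇑T)^[n + 1] u := by rw [Function.iterate_succ_apply']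
    rw [this]
    exact hmemI (n + 1) u
  -- the nilpotent part
  let W : Submodule k V :=
    { carrier := {v : V | ∃ n : ℕ, (⇑T)^[n] v = 0}
      add_mem' := by
        rintro a b ⟨n, hn⟩ ⟨m, hm⟩
        refine ⟨n + m, ?_⟩
        rw [hTn_add]
        have h1 : (⇑T)^[n + m] a = 0 := by
          rw [add_comm, Function.iterate_add_apply, hn, hTn_zero]
        have h2 : (⇑T)^[n + m] b = 0 := by
          rw [Function.iterate_add_apply, hm, hTn_zero]
        rw [h1, h2, add_zero]
      zero_mem' := ⟨0, rfl⟩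
      smul_mem' := by
        rintro c a ⟨n, hn⟩
        exact ⟨n, by rw [hTn_smul, hn, smul_zero]⟩ }
  have hWmem : ∀ v : V, v ∈ W ↔ ∃ n : ℕ, (⇑T)^[n] v = 0 := fun v => Iff.rfl
  have hdisj : ∀ x : V, x ∈ W → x ∈ (⨅ n, I n) → x = 0 := by
    intro x hxW hxI
    exact Groth.Agent.S19229.result k σ V T x hxW (fun n => (Submodule.mem_iInf _).mp hxI n)
  -- uniform bound
  have hbound : ∃ N : ℕ, ∀ v ∈ W, (⇑T)^[N] v = 0 := by
    obtain ⟨s, hs⟩ := (IsNoetherian.noetherian W : W.FG)
    have hsW : ∀ x ∈ s, ∃ n : ℕ, (⇑T)^[n] x = 0 := by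
      intro x hx
      have : x ∈ W := by rw [← hs]; exact Submodule.subset_span hx
      exact this
    choose! n hn using hsW
    refine ⟨s.sup n, fun v hv => ?_⟩
    rw [← hs] at hv
    induction hv using Submodule.span_induction with
    | mem x hx =>
      have hle : n x ≤ s.sup n := Finset.le_sup hx
      obtain ⟨d, hd⟩ := Nat.exists_eq_add_of_le hle
      rw [hd, add_comm, Function.iterate_add_apply, hn x hx, hTn_zero]
    | zero => exact hTn_zero _
    | add y z _ _ hy hz => rw [hTn_add, hy, hz, add_zero]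
    | smul c y _ hy => rw [hTn_smul, hy, smul_zero]
  have hcompl : IsCompl W (⨅ n, I n) := by
    rw [isCompl_iff, Submodule.disjoint_def, codisjoint_iff, Submodule.eq_top_iff']
    refine ⟨hdisj, fun v => ?_⟩
    have h1 : (⇑T)^[M] v ∈ I (M + M) := by
      rw [← hstab (M + M) (Nat.le_add_right M M)]
      exact hmemI M v
    obtain ⟨u, hu⟩ := hIn (M + M) _ h1
    rw [Function.iterate_add_apply] at hu
    rw [Submodule.mem_sup]
    refine ⟨v - (⇑T)^[M] u, ⟨M, ?_⟩, (⇑T)^[M] u, ?_, by abel⟩
    · rw [hTn_sub, hu, sub_self]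
    · rw [hinf]; exact hmemI M u
  refine ⟨⟨W, rfl, hbound, hcompl⟩, ?_⟩
  have hset : (⋂ n : ℕ, (I n : Set V)) = ((⨅ n, I n : Submodule k V) : Set V) := by
    rw [Submodule.coe_iInf]
  rw [hset]
  refine ⟨?_, ?_, ?_⟩
  · intro x hx
    rw [SetLike.mem_coe, Submodule.mem_iInf] at hx ⊢
    intro m
    rcases m with _ | m
    · have : I 0 = ⊤ := by
        rw [hI]
        simp only [Function.iterate_zero, Set.range_id, Submodule.span_univ]
      rw [this]; exact Submodule.mem_top
    · exact hTmap m x (hx m)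
  · intro x hx y hy hxy
    have h1 : x - y ∈ (⨅ n, I n) := Submodule.sub_mem _ hx hy
    have h2 : x - y ∈ W := ⟨1, by
      rw [Function.iterate_one, map_sub, hxy, sub_self]⟩
    exact sub_eq_zero.mp (hdisj _ h2 h1)
  · intro y hy
    rw [SetLike.mem_coe, Submodule.mem_iInf] at hy
    obtain ⟨u, hu⟩ := hIn (M + 1) y (hy (M + 1))
    refine ⟨(⇑T)^[M] u, ?_, ?_⟩
    · rw [SetLike.mem_coe, hinf]; exact hmemI M u
    · rw [← hu, Function.iterate_succ_apply']

end Groth.Agent.S19230
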