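import Groth.Statements.S19233
import Mathlib
import Groth.Agent.Helper9.SigmaLin
-- import your own Groth.Agent.* helpers here

set_option autoImplicit false
universe u v
open SigmaLin

namespace Groth.Agent.S19233

/-- Let k be a field with a ring endomorphism σ such that (i) for every n and every tuple (b_0, …, b_n)
in k, not all zero, the equation x = Σ_{i=0}^{n} σ^{i+1}(x) σ^{i}(b_{n-i}) has a nonzero solution x
in k, and (ii) for every c in k there is y in k with σ(y) − y + c = 0. Let V be a finite-dimensional
k-vector space and T : V → V additive with T (c • v) = σ c • T v, such that the image of T spans V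
over k. Then V admits a k-basis consisting of vectors fixed by T, and the map v ↦ v − T v is
surjective. -/
theorem result
    (k : Type u) [Field k] (σ : k →+* k)
    (V : Type v) [AddCommGroup V] [Module k V] [FiniteDimensional k V] (T : V →ₛₗ[σ] V)
    (h1 : Submodule.span k (Set.range ⇑T) = ⊤)
    (h2 : ∀ (n : ℕ) (b : Fin (n + 1) → k), b ≠ 0 →
      ∃ x : k, x ≠ 0 ∧ x = ∑ i : Fin (n + 1), (⇑σ)^[i.val + 1] x * (⇑σ)^[i.val] (b (Fin.rev i)))
    (h3 : ∀ c : k, ∃ y : k, σ y - y + c = 0) :
    (∃ b : Module.Basis (Fin (Module.finrank k V)) k V, ∀ i, T (b i) = b i) ∧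
    Function.Surjective (fun v : V => v - T v) := by
  classical
  set d := Module.finrank k V with hd
  -- build a linearly independent family of fixed vectors of any size ≤ d
  have hfam : ∀ j : ℕ, j ≤ d → ∃ f : Fin j → V, LinearIndependent k f ∧ ∀ i, T (f i) = f i := by
    intro j
    induction j with
    | zero =>
      intro _
      exact ⟨fun i => i.elim0, linearIndependent_empty_type, fun i => i.elim0⟩
    | succ j ih =>
      intro hj
      obtain ⟨f, hli, hfix⟩ := ih (by omega)
      have hne : Submodule.span k (Set.range f) ≠ ⊤ := by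
        intro htop
        have h5 := finrank_span_eq_card hli
        rw [htop, finrank_top, Fintype.card_fin] at h5
        omega
      obtain ⟨w, hw, hwF⟩ := Helper9.SigmaLin.exists_fixed_notMem T h1 h2 h3 f hfix hne
      refine ⟨Fin.snoc f w, linearIndependent_finSnoc.mpr ⟨hli, hwF⟩, fun i => ?_⟩
      refine Fin.lastCases ?_ (fun i' => ?_) i
      · simpa using hw
      · simpa using hfix i'
  obtain ⟨f, hli, hfix⟩ := hfam d le_rfl
  have hsp : Submodule.span k (Set.range f) = ⊤ :=
    hli.span_eq_top_of_card_eq_finrank' (by rw [Fintype.card_fin])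
  let b : Module.Basis (Fin d) k V := Module.Basis.mk hli hsp.ge
  have hb : ∀ i, b i = f i := fun i => by
    simp [b]
  refine ⟨⟨b, fun i => by rw [hb, hfix]⟩, ?_⟩
  intro u
  choose y hy using fun i => h3 (b.repr u i)
  refine ⟨∑ i, y i • b i, ?_⟩
  show (∑ i, y i • b i) - T (∑ i, y i • b i) = u
  rw [map_sum]
  simp only [map_smulₛₗ, hb, hfix]
  rw [← Finset.sum_sub_distrib]
  conv_rhs => rw [← b.sum_repr u]
  refine Finset.sum_congr rfl fun i _ => ?_
  rw [← sub_smul, hb]
  congr 1
  have := hy i
  linear_combination -this

end Groth.Agent.S19233
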