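import Groth.Statements.S19234
import Mathlib
import Groth.Agent.S19230
import Groth.Agent.S19233
-- import your own Groth.Agent.* helpers here

set_option autoImplicit false
universe u v
open SigmaLin

namespace Groth.Agent.S19234

/-- Let k be a field with a surjective ring endomorphism σ such that (i) for every n and every tuple
(b_0, …, b_n) in k, not all zero, the equation x = Σ_{i=0}^{n} σ^{i+1}(x) σ^{i}(b_{n-i}) has a
nonzero solution x in k, and (ii) for every c in k there is y with σ(y) − y + c = 0. Let V be a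
finite-dimensional k-vector space and T : V → V additive with T (c • v) = σ c • T v (no further
condition on T). Then v ↦ v − T v is surjective on V, and the intersection over n of the k-spans of
the images of the iterates of T (the part of V on which T is bijective) admits a k-basis of vectors
fixed by T; in particular the fixed vectors of T span that intersection over k. -/
theorem result
    (k : Type u) [Field k] (σ : k →+* k) (hσ : Function.Surjective σ)
    (V : Type v) [AddCommGroup V] [Module k V] [FiniteDimensional k V] (T : V →ₛₗ[σ] V)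
    (h2 : ∀ (n : ℕ) (b : Fin (n + 1) → k), b ≠ 0 →
      ∃ x : k, x ≠ 0 ∧ x = ∑ i : Fin (n + 1), (⇑σ)^[i.val + 1] x * (⇑σ)^[i.val] (b (Fin.rev i)))
    (h3 : ∀ c : k, ∃ y : k, σ y - y + c = 0) :
    Function.Surjective (fun v : V => v - T v) ∧
    ∃ b : Module.Basis (Fin (Module.finrank k ↥(⨅ n : ℕ, Submodule.span k (Set.range ((⇑T)^[n]))))) k ↥(⨅ n : ℕ, Submodule.span k (Set.range ((⇑T)^[n]))),
      ∀ i, T (b i : V) = (b i : V) := by
  classical
  obtain ⟨⟨W, hW, ⟨N, hN⟩, hcompl⟩, hbij⟩ := Groth.Agent.S19230.result k σ hσ V T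
  set J : Submodule k V := ⨅ n : ℕ, Submodule.span k (Set.range ((⇑T)^[n])) with hJ
  have hset : (⋂ n : ℕ, (Submodule.span k (Set.range ((⇑T)^[n])) : Set V)) = (J : Set V) := by
    rw [hJ, Submodule.coe_iInf]
  rw [hset] at hbij
  have hTJ : ∀ x : J, T (x : V) ∈ J := fun x => hbij.mapsTo x.2
  let TJ : J →ₛₗ[σ] J := (T.domRestrict J).codRestrict J hTJ
  have hTJval : ∀ x : J, ((TJ x : J) : V) = T (x : V) := fun x => rfl
  have hspan : Submodule.span k (Set.range ⇑TJ) = ⊤ := by
    rw [eq_top_iff]
    rintro ⟨y, hy⟩ -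
    obtain ⟨x, hx, hxy⟩ := hbij.surjOn hy
    exact Submodule.subset_span ⟨⟨x, hx⟩, Subtype.ext hxy⟩
  obtain ⟨⟨b, hb⟩, hsurjJ⟩ := Groth.Agent.S19233.result k σ J TJ hspan h2 h3
  refine ⟨?_, b, fun i => ?_⟩
  · -- surjectivity
    have hnil : ∀ (n : ℕ) (w : V), (⇑T)^[n] w = 0 → ∃ u : V, u - T u = w := by
      intro n
      induction n with
      | zero =>
        intro w hw
        exact ⟨0, by simpa using hw.symm⟩
      | succ n ih =>
        intro w hw
        rw [Function.iterate_succ_apply] at hw
        obtain ⟨u', hu'⟩ := ih (T w) hw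
        refine ⟨w + u', ?_⟩
        rw [map_add]
        have : w + u' - (T w + T u') = w + (u' - T u') - T w := by abel
        rw [this, hu']
        abel
    intro v
    have hv : v ∈ W ⊔ J := by rw [hcompl.sup_eq_top]; exact Submodule.mem_top
    obtain ⟨w, hw, j, hj, rfl⟩ := Submodule.mem_sup.mp hv
    obtain ⟨uw, huw⟩ := hnil N w (hN w hw)
    obtain ⟨uj, huj⟩ := hsurjJ ⟨j, hj⟩
    have huj' : (uj : V) - T (uj : V) = j := by
      have := congrArg Subtype.val huj
      simpa [hTJval] using this
    refine ⟨uw + uj, ?_⟩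
    show uw + (uj : V) - T (uw + (uj : V)) = w + j
    rw [map_add, ← huw, ← huj']
    abel
  · have := congrArg Subtype.val (hb i)
    rw [hTJval] at this
    exact this

end Groth.Agent.S19234
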