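import Groth.Statements.S19235
import Mathlib
import Groth.Agent.S19234
-- import your own Groth.Agent.* helpers here

set_option autoImplicit false
universe u v
open SigmaLin

namespace Groth.Agent.S19235

/-- Let p be a prime number and R a local ring whose maximal ideal is generated by p and in which p^n =
0 for some n. Let σ be a ring endomorphism of R and σ̄ the induced endomorphism of the residue field
k = R/(p); assume σ̄ is surjective, that for every m and every tuple (b_0, …, b_m) in k, not all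
zero, the equation x = Σ_{i=0}^{m} σ̄^{i+1}(x) σ̄^{i}(b_{m-i}) has a nonzero solution x in k, and
that for every c in k there is y with σ̄(y) − y + c = 0. Let M be a finitely generated R-module and
T : M → M additive with T (r • m) = σ r • T m. Then the map m ↦ m − T m is surjective on M. -/
theorem result
    (p : ℕ) [Fact p.Prime] (R : Type u) [CommRing R] [IsLocalRing R]
    (hmax : IsLocalRing.maximalIdeal R = Ideal.span {(p : R)}) (n : ℕ) (hn : (p : R) ^ n = 0)
    (σ : R →+* R) (σbar : IsLocalRing.ResidueField R →+* IsLocalRing.ResidueField R)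
    (hσbar : ∀ r : R, σbar (IsLocalRing.residue R r) = IsLocalRing.residue R (σ r))
    (hsurj : Function.Surjective σbar)
    (h2 : ∀ (n : ℕ) (b : Fin (n + 1) → IsLocalRing.ResidueField R), b ≠ 0 →
      ∃ x : IsLocalRing.ResidueField R, x ≠ 0 ∧ x = ∑ i : Fin (n + 1), (⇑σbar)^[i.val + 1] x * (⇑σbar)^[i.val] (b (Fin.rev i)))
    (h3 : ∀ c : IsLocalRing.ResidueField R, ∃ y : IsLocalRing.ResidueField R, σbar y - y + c = 0)
    (M : Type v) [AddCommGroup M] [Module R M] [Module.Finite R M] (T : M →ₛₗ[σ] M) :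
    Function.Surjective (fun m : M => m - T m) := by
  classical
  letI instMod : Module (IsLocalRing.ResidueField R)
      (M ⧸ (IsLocalRing.maximalIdeal R) • (⊤ : Submodule R M)) :=
    inferInstanceAs (Module (R ⧸ (IsLocalRing.maximalIdeal R))
      (M ⧸ (IsLocalRing.maximalIdeal R) • (⊤ : Submodule R M)))
  have hsmul : ∀ (r : R) (m : M), (IsLocalRing.residue R r) •
      (((IsLocalRing.maximalIdeal R) • (⊤ : Submodule R M)).mkQ m) =
      ((IsLocalRing.maximalIdeal R) • (⊤ : Submodule R M)).mkQ (r • m) :=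
    fun r m => rfl
  have hσ𝔪 : ∀ r ∈ IsLocalRing.maximalIdeal R, σ r ∈ IsLocalRing.maximalIdeal R := by
    intro r hr
    rw [← IsLocalRing.residue_eq_zero_iff] at hr ⊢
    rw [← hσbar, hr, map_zero]
  have hNT : (IsLocalRing.maximalIdeal R) • (⊤ : Submodule R M) ≤
      ((IsLocalRing.maximalIdeal R) • (⊤ : Submodule R M)).comap T := by
    rw [Submodule.smul_le]
    intro r hr m _
    rw [Submodule.mem_comap, map_smulₛₗ]
    exact Submodule.smul_mem_smul (hσ𝔪 r hr) Submodule.mem_top
  -- the induced semilinear map on V = M / 𝔪 M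
  let Tq0 : (M ⧸ (IsLocalRing.maximalIdeal R) • (⊤ : Submodule R M)) →ₛₗ[σ]
      (M ⧸ (IsLocalRing.maximalIdeal R) • (⊤ : Submodule R M)) :=
    ((IsLocalRing.maximalIdeal R) • (⊤ : Submodule R M)).mapQ
      ((IsLocalRing.maximalIdeal R) • (⊤ : Submodule R M)) T hNT
  have hTq0 : ∀ m : M, Tq0 (((IsLocalRing.maximalIdeal R) • (⊤ : Submodule R M)).mkQ m) =
      ((IsLocalRing.maximalIdeal R) • (⊤ : Submodule R M)).mkQ (T m) := fun m => rfl
  let Tq : (M ⧸ (IsLocalRing.maximalIdeal R) • (⊤ : Submodule R M)) →ₛₗ[σbar]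
      (M ⧸ (IsLocalRing.maximalIdeal R) • (⊤ : Submodule R M)) :=
    { toFun := Tq0
      map_add' := fun x y => map_add Tq0 x y
      map_smul' := by
        intro c x
        obtain ⟨r, rfl⟩ := IsLocalRing.residue_surjective c
        obtain ⟨m, rfl⟩ := Submodule.mkQ_surjective _ x
        rw [hsmul, hTq0, hTq0, map_smulₛₗ, hσbar]
        rfl }
  have hTq : ∀ m : M, Tq (((IsLocalRing.maximalIdeal R) • (⊤ : Submodule R M)).mkQ m) =
      ((IsLocalRing.maximalIdeal R) • (⊤ : Submodule R M)).mkQ (T m) := fun m => rfl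
  haveI hfin : Module.Finite (IsLocalRing.ResidueField R)
      (M ⧸ (IsLocalRing.maximalIdeal R) • (⊤ : Submodule R M)) := by
    have h1 : Module.Finite R (M ⧸ (IsLocalRing.maximalIdeal R) • (⊤ : Submodule R M)) :=
      inferInstance
    obtain ⟨s, hs⟩ := h1.fg_top
    refine ⟨⟨s, ?_⟩⟩
    rw [eq_top_iff]
    intro x hxtop
    clear hxtop
    have hx : x ∈ Submodule.span R (s : Set (M ⧸ (IsLocalRing.maximalIdeal R) • (⊤ : Submodule R M))) := by
      rw [hs]; trivial
    induction hx using Submodule.span_induction with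
    | mem y hy => exact Submodule.subset_span hy
    | zero => exact Submodule.zero_mem _
    | add y z _ _ hy hz => exact Submodule.add_mem _ hy hz
    | smul r y _ hy =>
      obtain ⟨m, rfl⟩ := Submodule.mkQ_surjective _ y
      have : r • ((IsLocalRing.maximalIdeal R) • (⊤ : Submodule R M)).mkQ m =
          (IsLocalRing.residue R r) • ((IsLocalRing.maximalIdeal R) • (⊤ : Submodule R M)).mkQ m := by
        rw [hsmul, map_smul]
      rw [this]
      exact Submodule.smul_mem _ _ hy
  have hS := (Groth.Agent.S19234.result (IsLocalRing.ResidueField R) σbar hsurj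
    (M ⧸ (IsLocalRing.maximalIdeal R) • (⊤ : Submodule R M)) Tq h2 h3).1
  -- (*) every m₀ is (u₀ - T u₀) + p • m₁
  have hstar : ∀ m₀ : M, ∃ u₀ m₁ : M, m₀ = (u₀ - T u₀) + (p : R) • m₁ := by
    intro m₀
    obtain ⟨v, hv⟩ := hS (((IsLocalRing.maximalIdeal R) • (⊤ : Submodule R M)).mkQ m₀)
    obtain ⟨u₀, rfl⟩ := Submodule.mkQ_surjective _ v
    have hv' : ((IsLocalRing.maximalIdeal R) • (⊤ : Submodule R M)).mkQ (u₀ - T u₀) =
        ((IsLocalRing.maximalIdeal R) • (⊤ : Submodule R M)).mkQ m₀ := by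
      rw [map_sub, ← hTq]; exact hv
    have hmem : m₀ - (u₀ - T u₀) ∈ (IsLocalRing.maximalIdeal R) • (⊤ : Submodule R M) := by
      rw [← Submodule.ker_mkQ ((IsLocalRing.maximalIdeal R) • (⊤ : Submodule R M)),
        LinearMap.mem_ker, map_sub, hv', sub_self]
    rw [hmax, Submodule.ideal_span_singleton_smul, Submodule.mem_smul_pointwise_iff_exists] at hmem
    obtain ⟨m₁, _, hm₁⟩ := hmem
    exact ⟨u₀, m₁, by rw [hm₁]; abel⟩
  have hTp : ∀ (e : ℕ) (u : M), T ((p : R) ^ e • u) = (p : R) ^ e • T u := by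
    intro e u
    rw [map_smulₛₗ, map_pow, map_natCast]
  have hind : ∀ j : ℕ, j ≤ n → ∀ m₁ : M, ∃ u : M, u - T u = (p : R) ^ (n - j) • m₁ := by
    intro j
    induction j with
    | zero =>
      intro _ m₁
      exact ⟨0, by rw [Nat.sub_zero, hn, zero_smul, map_zero, sub_zero]⟩
    | succ j ih =>
      intro hj m₁
      obtain ⟨u₀, m₂, hm⟩ := hstar m₁
      obtain ⟨u₁, hu₁⟩ := ih (by omega) m₂
      refine ⟨(p : R) ^ (n - (j + 1)) • u₀ + u₁, ?_⟩
      have hpow : (p : R) ^ (n - j) = (p : R) ^ (n - (j + 1)) * (p : R) := by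
        rw [← pow_succ]; congr 1; omega
      rw [map_add, hTp, hm, smul_add, smul_smul, ← hpow, ← hu₁, smul_sub]
      abel
  intro m
  obtain ⟨u, hu⟩ := hind n le_rfl m
  exact ⟨u, by simpa using hu⟩

end Groth.Agent.S19235
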