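import Groth.Statements.S6977
import Groth.Agent.Helper6.FibreGl
import Groth.Agent.Helper6.LBCFlatCx
import Groth.Agent.Helper6.LBCFibreGlobal
import Groth.Agent.Helper1.RegGlobalDim
import Groth.Agent.Helper3.DRingTor6
import Groth.Agent.Helper3.DRingRestr

set_option autoImplicit false
universe u
open CategoryTheory CategoryTheory.Limits
attribute [local instance] HasDerivedCategory.standard
open DRing TensorProduct DerivedCategory Groth.Agent.Helper3.DRingLib Groth.Agent.Helper6.LBCCompute Groth.Agent.Helper6.LBCFlatCx Groth.Agent.Helper6.LBCFibreGlobal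
attribute [local instance] Algebra.TensorProduct.rightAlgebra

namespace Groth.Agent.S6977

/-- Let A → B be a flat local homomorphism of local commutative rings such that B/m_A B is a regular
local ring of dimension d, and assume the derived base change D(A) → D(κ_A) to the residue field of
A exists. Let a, b be integers and K a pseudo-coherent object of D(B) such that H^i((K regarded in
D(A)) ⊗^L_A κ_A) = 0 for every i outside [a, b]. Then K is perfect as an object of D(B) and has tor
amplitude in [a - d, b] over B. -/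
theorem result {A B : Type u} [CommRing A] [CommRing B] [IsLocalRing A]
    [IsLocalRing B] [Algebra A B] [IsLocalHom (algebraMap A B)] [Module.Flat A B] (d : ℕ)
    [IsRegularLocalRing (B ⧸ (IsLocalRing.maximalIdeal A).map (algebraMap A B))]
    (hd : ringKrullDim (B ⧸ (IsLocalRing.maximalIdeal A).map (algebraMap A B)) = d)
    [DRing.HasLBaseChange (IsLocalRing.residue A)] (a b : ℤ) (K : Dual.D B) (hK : DRing.IsPseudoCoherent' B K)
    (h : ∀ i : ℤ, (i < a ∨ b < i) → Subsingleton (Dual.HD (IsLocalRing.ResidueField A)
      ((DRing.LBaseChange (IsLocalRing.residue A)).obj ((DRing.restrictD (algebraMap A B)).obj K)) i)) :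
    DRing.IsPerfect B K ∧ DRing.HasTorAmplitudeIn B (a - d) b K := by
  classical
  obtain ⟨E, b₀, hv, hff, ⟨e⟩⟩ := hK
  have hf : DRing.TermwiseFlat E := fun i => by
    have := (hff i).2
    infer_instance
  -- the restricted complex is bounded above and termwise flat over `A`
  have hv' : DRing.VanishesAbove ((rCx (algebraMap A B)).obj E) b₀ := fun i hi =>
    (rF (algebraMap A B)).map_isZero (hv i hi)
  have hf' : DRing.TermwiseFlat ((rCx (algebraMap A B)).obj E) := fun i => by
    letI : Module A (E.X i) := Module.compHom (E.X i) (algebraMap A B)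
    haveI : IsScalarTower A B (E.X i) := IsScalarTower.of_algebraMap_smul (fun r m => rfl)
    haveI : Module.Flat B (E.X i) := hf i
    exact Module.Flat.trans A B (E.X i)
  obtain ⟨i0⟩ := nonempty_lbcIso_of_flat (IsLocalRing.residue A)
    ((rCx (algebraMap A B)).obj E) b₀ hv' hf'
  -- exactness of the fibre over the residue field of `A`
  have hfib : ∀ i : ℤ, (i < a ∨ b < i) →
      ((bcCx A (IsLocalRing.ResidueField A)).obj ((rCx (algebraMap A B)).obj E)).ExactAt i := by
    intro i hi
    have h1 := h i hi
    have h2 : IsZero ((DerivedCategory.homologyFunctor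
        (ModuleCat.{u} (IsLocalRing.ResidueField A)) i).obj
        ((DRing.LBaseChange (IsLocalRing.residue A)).obj
          ((DRing.restrictD (algebraMap A B)).obj K))) :=
      ModuleCat.isZero_of_subsingleton _
    apply exactAt_of_isZero
    refine h2.of_iso ((DerivedCategory.homologyFunctor _ i).mapIso ?_)
    exact i0.symm ≪≫ (DRing.LBaseChange (IsLocalRing.residue A)).mapIso
      ((rDToD (algebraMap A B) E).symm ≪≫ (DRing.restrictD (algebraMap A B)).mapIso e)
  -- the fibre ring
  let I : Ideal A := IsLocalRing.maximalIdeal A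
  let e1 : (B ⧸ I.map (algebraMap A B)) ≃+* ((IsLocalRing.ResidueField A) ⊗[A] B) :=
    ((Algebra.TensorProduct.quotIdealMapEquivTensorQuot B I).toRingEquiv).trans
      (Algebra.TensorProduct.comm A B (A ⧸ I)).toRingEquiv
  haveI : IsRegularLocalRing ((IsLocalRing.ResidueField A) ⊗[A] B) :=
    IsRegularLocalRing.of_ringEquiv e1
  have hdim : ringKrullDim ((IsLocalRing.ResidueField A) ⊗[A] B) = d := by
    rw [← ringKrullDim_eq_of_ringEquiv e1]
    exact hd
  have hgl : ∀ (M : Type u) [AddCommGroup M] [Module ((IsLocalRing.ResidueField A) ⊗[A] B) M],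
      HasProjectiveDimensionLT (ModuleCat.of ((IsLocalRing.ResidueField A) ⊗[A] B) M) (d + 1) :=
    fun M _ _ => Groth.Agent.Helper1.TorLib.hasProjectiveDimensionLT_of_isRegularLocalRing d hdim _
  -- the map to the residue field of `B`
  have hle : I.map (algebraMap A B) ≤ RingHom.ker (IsLocalRing.residue B) := by
    rw [Ideal.map_le_iff_le_comap]
    intro x hx
    rw [Ideal.mem_comap, RingHom.mem_ker, IsLocalRing.residue_eq_zero_iff]
    exact map_nonunit (algebraMap A B) x hx
  let χ0 : (B ⧸ I.map (algebraMap A B)) →+* IsLocalRing.ResidueField B :=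
    Ideal.Quotient.lift _ (IsLocalRing.residue B) (fun x hx => hle hx)
  let χ : ((IsLocalRing.ResidueField A) ⊗[A] B) →+* IsLocalRing.ResidueField B :=
    χ0.comp e1.symm.toRingHom
  have hχ : χ.comp (algebraMap B ((IsLocalRing.ResidueField A) ⊗[A] B)) =
      Ideal.Quotient.mk (IsLocalRing.maximalIdeal B) := by
    ext x
    have h3 : e1 (Ideal.Quotient.mk _ x) =
        algebraMap B ((IsLocalRing.ResidueField A) ⊗[A] B) x := by
      rfl
    show χ0 (e1.symm (algebraMap B _ x)) = _
    rw [← h3, RingEquiv.symm_apply_apply]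
    rfl
  have hta : DRing.HasTorAmplitudeIn B (a - d) b (DRing.toD E) := by
    apply hasTorAmplitudeIn_of_fibres E b₀ hv hff (a - d) b
    intro m hm i hi
    obtain rfl := IsLocalRing.eq_maximalIdeal hm
    have h4 := Groth.Agent.Helper6.FibreGl.exactAt_of_fibre (A := A) (B := B)
      (IsLocalRing.ResidueField A) χ d hgl E b₀ hv hf a b hfib i hi
    exact exactAt_of_iso (bcCxFCongr hχ E) i h4
  have hK' : DRing.HasTorAmplitudeIn B (a - d) b K := hasTorAmplitudeIn_of_iso e _ _ hta
  refine ⟨?_, hK'⟩
  rw [isPerfect_iff_pc_and_torDim]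
  exact ⟨⟨E, b₀, hv, hff, ⟨e⟩⟩, a - d, b, hK'⟩

end Groth.Agent.S6977
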