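import Groth.Statements.S4664
import Mathlib

set_option autoImplicit false
open CategoryTheory AlgebraicGeometry
universe u
open FBase

namespace Groth.Agent.S4664

open CategoryTheory.Limits in
/-- common field point: for `y : Spec K → Y` and surjective `g : Y' → Y` there is a field `L`
with `a : Spec L → Spec K`, `b : Spec L → Y'` and `a ≫ y = b ≫ g` -/
theorem exists_common_field {Y Y' : Scheme.{u}} (g : Y' ⟶ Y) [Surjective g]
    (K : Type u) [Field K] (y : Spec (CommRingCat.of K) ⟶ Y) :
    ∃ (L : Type u) (_ : Field L) (a : Spec (CommRingCat.of L) ⟶ Spec (CommRingCat.of K))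
      (b : Spec (CommRingCat.of L) ⟶ Y'), a ≫ y = b ≫ g := by
  have hs : Surjective (pullback.fst y g) := inferInstance
  obtain ⟨pt, -⟩ := (pullback.fst y g).surjective (default : Spec (CommRingCat.of K))
  refine ⟨(pullback y g).residueField pt, inferInstance,
    (pullback y g).fromSpecResidueField pt ≫ pullback.fst y g,
    (pullback y g).fromSpecResidueField pt ≫ pullback.snd y g, ?_⟩
  rw [Category.assoc, Category.assoc, pullback.condition]

open CategoryTheory.Limits in
/-- Let f : X → Y and g : Y' → Y be morphisms of schemes with g surjective, and let f' : X ×_Y Y' → Y'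
be the base change of f. If every fibre of f' is geometrically irreducible, then every fibre of f is
geometrically irreducible. -/
theorem result {X Y Y' : Scheme.{u}} (f : X ⟶ Y)
    (g : Y' ⟶ Y) [Surjective g] [GeometricallyIrreducible (pullback.snd f g)] : GeometricallyIrreducible f := by
  refine ⟨geometrically_iff_of_isClosedUnderIsomorphisms.mpr fun K _ y ↦ ?_⟩
  obtain ⟨L, _, a, b, hab⟩ := exists_common_field g K y
  have h1 : IrreducibleSpace ↥(pullback (pullback.snd f g) b) :=
    pullback_of_geometrically
      (GeometricallyIrreducible.geometrically_irreducibleSpace (f := pullback.snd f g)) L b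
  have h2 : IrreducibleSpace ↥(pullback f (b ≫ g)) :=
    (pullbackLeftPullbackSndIso f g b).hom.homeomorph.irreducibleSpace_iff.mp h1
  rw [← hab] at h2
  have h3 : IrreducibleSpace ↥(pullback (pullback.snd f y) a) :=
    (pullbackLeftPullbackSndIso f y a).hom.homeomorph.irreducibleSpace_iff.mpr h2
  have hsa : Surjective a := by
    constructor
    intro z
    have : Nonempty ↥(Spec (CommRingCat.of L)) := inferInstance
    obtain ⟨w⟩ := this
    exact ⟨w, Subsingleton.elim _ _⟩
  have h4 : Surjective (pullback.fst (pullback.snd f y) a) := inferInstance
  have h5 : IsIrreducible (Set.range (pullback.fst (pullback.snd f y) a)) := by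
    rw [← Set.image_univ]
    exact (IrreducibleSpace.isIrreducible_univ _).image _
      (pullback.fst (pullback.snd f y) a).continuous.continuousOn
  rw [(pullback.fst (pullback.snd f y) a).surjective.range_eq] at h5
  exact (irreducibleSpace_def _).mpr h5

end Groth.Agent.S4664
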