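import Groth.Statements.S4463
import Groth.Agent.S2431
import Groth.Agent.S1340
import Groth.Agent.Lead.ProperFinB

set_option autoImplicit false
universe u
open Coherent

namespace Groth.Agent.S4463

open AlgebraicGeometry CategoryTheory in
/-- Stein factorisation. Let Y be locally Noetherian and f : X → Y proper, and let X → Y' → Y be its
Stein factorisation, Y' being the spectrum of the O_Y-algebra f_* O_X (realised here as the relative
normalization of Y in X, which is that spectrum because f_* O_X is integral over O_Y for f
universally closed). Then for every point y of Y the fibre of Y' → Y at y is finite, the map X_y →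
Y'_y induced on fibres is surjective, and two points of X_y have the same image if and only if they
lie in the same connected component of X_y: the connected components of X_y are in bijection with
the points of Y'_y. -/
theorem result {X Y : Scheme.{u}} (f : X ⟶ Y) [IsProper f]
    [IsLocallyNoetherian Y] (y : Y) :
    Finite ↥(f.fromNormalization.fiber y) ∧
    Function.Surjective (CohIII.fiberMapOver f.toNormalization f f.fromNormalization
        f.toNormalization_fromNormalization y).base ∧
    ∀ x x' : ↥(f.fiber y),
      (CohIII.fiberMapOver f.toNormalization f f.fromNormalization f.toNormalization_fromNormalization y).base x =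
        (CohIII.fiberMapOver f.toNormalization f f.fromNormalization f.toNormalization_fromNormalization y).base x' ↔
      connectedComponent x = connectedComponent x' := by
  classical
  let f' := f.toNormalization
  let ν := f.fromNormalization
  have w : f' ≫ ν = f := f.toNormalization_fromNormalization
  haveI : IsFinite ν := Groth.Agent.Lead.ProperFinB.main f
  haveI : IsLocallyNoetherian f.normalization := LocallyOfFiniteType.isLocallyNoetherian ν
  haveI : IsProper (f' ≫ ν) := by rw [w]; infer_instance
  haveI : IsProper f' := IsProper.of_comp f' ν
  have hconn : ∀ y' : f.normalization, ConnectedSpace (f'.fiber y') :=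
    (Groth.Agent.S2431.result f' (fun U => Groth.Agent.S1340.result f U)).1
  have hcomp : ∀ a : X, f a = ν (f' a) := by
    intro a
    have := congrArg (fun g : X ⟶ Y => g.base a) w.symm
    simpa using this
  set φ := CohIII.fiberMapOver f.toNormalization f f.fromNormalization
    f.toNormalization_fromNormalization y with hφ
  have hφι : φ ≫ ν.fiberι y = f.fiberι y ≫ f' := by
    simp only [hφ, CohIII.fiberMapOver, Scheme.Hom.fiberι]
    exact CategoryTheory.Limits.pullback.lift_fst _ _ _
  have hφpt : ∀ x : f.fiber y, ν.fiberι y (φ x) = f' (f.fiberι y x) := by
    intro x
    have := congrArg (fun g : f.fiber y ⟶ f.normalization => g.base x) hφι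
    simpa using this
  have hinj : Function.Injective (ν.fiberι y) := (ν.fiberι y).isEmbedding.injective
  haveI : DiscreteTopology (ν.fiber y) := inferInstance
  have hνι : ∀ z : ν.fiber y, ν (ν.fiberι y z) = y := fun z =>
    (ν.range_fiberι y).le ⟨z, rfl⟩
  refine ⟨inferInstance, ?_, ?_⟩
  · intro z
    obtain ⟨x₀⟩ := (hconn (ν.fiberι y z)).toNonempty
    have h1 : f' (f'.fiberι _ x₀) = ν.fiberι y z :=
      (f'.range_fiberι (ν.fiberι y z)).le ⟨x₀, rfl⟩
    have hx : f (f'.fiberι _ x₀) ∈ ({y} : Set Y) := by
      rw [Set.mem_singleton_iff, hcomp, h1, hνι]
    refine ⟨(f.fiberHomeo y).symm ⟨_, hx⟩, hinj ?_⟩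
    rw [hφpt, Scheme.Hom.fiberι_fiberHomeo_symm]
    exact h1
  · intro x x'
    constructor
    · intro h
      apply connectedComponent_eq
      set y' := ν.fiberι y (φ x) with hy'
      let T : Set (f.fiber y) := (f.fiberι y) ⁻¹' (f' ⁻¹' {y'})
      have hT : _root_.IsPreconnected T := by
        rw [← (f.fiberι y).isEmbedding.toIsInducing.isPreconnected_image]
        have : f.fiberι y '' T = Set.range (f'.fiberι y') := by
          rw [Set.image_preimage_eq_inter_range, f'.range_fiberι, f.range_fiberι]
          apply Set.inter_eq_left.mpr
          intro a ha
          have ha' : f' a = y' := ha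
          show f a = y
          rw [hcomp, ha', hy', hνι]
        rw [this]
        haveI := hconn y'
        exact isPreconnected_range (f'.fiberι y').continuous
      have hxT : x ∈ T := by
        show f' (f.fiberι y x) = y'
        rw [← hφpt]
      have hx'T : x' ∈ T := by
        show f' (f.fiberι y x') = y'
        rw [← hφpt, ← h]
      exact (hT.subset_connectedComponent hxT) hx'T
    · intro h
      have hx' : x' ∈ connectedComponent x := by
        rw [h]; exact mem_connectedComponent
      have := φ.continuous.image_connectedComponent_subset x ⟨x', hx', rfl⟩
      rw [connectedComponent_eq_singleton] at this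
      exact this.symm

end Groth.Agent.S4463
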