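import Groth.Statements.S4464
import Groth.Agent.S2421
import Groth.Agent.Helper1.UniLocal1

set_option autoImplicit false
universe u
open Coherent

namespace Groth.Agent.S4464

open AlgebraicGeometry CategoryTheory in
/-- Let X and Y be locally Noetherian integral schemes, f : X → Y a proper dominant morphism, and
suppose that the algebraic closure of the function field R(Y) in R(X) is purely inseparable over
R(Y): every element of R(X) satisfying a nonzero polynomial over R(Y) has a p^e-th power coming from
R(Y), p being the characteristic exponent. Then for every point y of Y whose local ring is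
unibranch, the fibre X_y is connected and nonempty. -/
theorem result {X Y : Scheme.{u}} [IsIntegral X]
    [IsIntegral Y] [IsLocallyNoetherian X] [IsLocallyNoetherian Y] (f : X ⟶ Y) [IsProper f]
    (hdom : f.base (genericPoint X) ⤳ genericPoint Y)
    (hrad : ∀ x : X.functionField,
      (∃ q : Polynomial Y.functionField, q ≠ 0 ∧
        Polynomial.eval₂ (CohIII.stalkToFunctionField f (genericPoint Y) hdom) x q = 0) →
      ∃ e : ℕ, x ^ (ringExpChar X.functionField ^ e) ∈
        Set.range (CohIII.stalkToFunctionField f (genericPoint Y) hdom))
    (y : Y) (hy : CAlg2.IsUnibranch (Y.presheaf.stalk y)) :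
    ConnectedSpace ↥(f.fiber y) := by
  classical
  have hgen : genericPoint Y ⤳ y := (genericPoint_spec Y).specializes (Set.mem_univ y)
  have hy' : f.base (genericPoint X) ⤳ y := hdom.trans hgen
  have hdomeq : f.base (genericPoint X) = genericPoint Y :=
    (hdom.antisymm ((genericPoint_spec Y).specializes (Set.mem_univ _))).eq
  have hcard := Groth.Agent.S2421.result f hdomeq y hy'
  letI : Algebra Y.functionField X.functionField :=
    (CohIII.stalkToFunctionField f (genericPoint Y) hdom).toAlgebra
  letI : Algebra (Y.presheaf.stalk y) X.functionField :=
    (CohIII.stalkToFunctionField f y hy').toAlgebra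
  haveI : IsScalarTower (Y.presheaf.stalk y) Y.functionField X.functionField := by
    apply IsScalarTower.of_algebraMap_eq'
    simp only [RingHom.algebraMap_toAlgebra]
    unfold CohIII.stalkToFunctionField
    rw [RingHom.comp_assoc]
    congr 1
    rw [← CommRingCat.hom_comp, TopCat.Presheaf.stalkSpecializes_comp]
  have hloc : IsLocalRing (integralClosure (Y.presheaf.stalk y) X.functionField) :=
    Groth.Agent.Helper1.UniLocal.isLocalRing_integralClosure hy (K := Y.functionField)
      (L := X.functionField) (by
      intro x hx
      obtain ⟨q, hq0, hq⟩ := hx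
      exact hrad x ⟨q, hq0, hq⟩)
  have hsub : Subsingleton (MaximalSpectrum (CohIII.integralClosureStalk f y hy')) := by
    constructor
    intro a b
    apply MaximalSpectrum.ext
    exact (hloc.eq_maximalIdeal a.isMaximal).trans (hloc.eq_maximalIdeal b.isMaximal).symm
  have hle : Cardinal.mk (_root_.ConnectedComponents (f.fiber y)) ≤ 1 :=
    hcard.trans (Cardinal.le_one_iff_subsingleton.mpr hsub)
  haveI : Subsingleton (_root_.ConnectedComponents (f.fiber y)) :=
    Cardinal.le_one_iff_subsingleton.mp hle
  have hsurj : ∃ x : X, f.base x = y := by
    have hcl : IsClosed (Set.range f.base) := f.isClosedMap.isClosed_range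
    have hmem : genericPoint Y ∈ Set.range f.base := ⟨genericPoint X, hdomeq⟩
    have : y ∈ Set.range f.base := hgen.mem_closed hcl hmem
    exact this
  obtain ⟨x₀, hx₀⟩ := hsurj
  haveI : Nonempty (f.fiber y) := ⟨(f.fiberHomeo y).symm ⟨x₀, hx₀⟩⟩
  haveI : PreconnectedSpace (f.fiber y) := by
    rw [preconnectedSpace_iff_connectedComponent]
    intro x
    ext z
    simp only [Set.mem_univ, iff_true]
    have : connectedComponent x = connectedComponent z :=
      ConnectedComponents.coe_eq_coe.mp (Subsingleton.elim _ _)
    rw [this]
    exact mem_connectedComponent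
  exact ⟨inferInstance⟩

end Groth.Agent.S4464
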