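import Groth.Statements.S3694
import Mathlib.AlgebraicGeometry.Morphisms.FlatDescent
import Mathlib.AlgebraicGeometry.Morphisms.UniversallyInjective
import Mathlib.AlgebraicGeometry.Morphisms.Etale

set_option autoImplicit false
universe u
open SGA1

namespace Groth.Agent.S3694

open AlgebraicGeometry CategoryTheory CategoryTheory.Limits in
theorem aux {X Y : Scheme.{u}} (f : X ⟶ Y) [Etale f] [UniversallyInjective f] :
    IsOpenImmersion f := by
  -- f is a monomorphism
  haveI : Surjective (pullback.diagonal f) := (UniversallyInjective.iff_diagonal f).mp inferInstance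
  haveI : IsOpenImmersion (pullback.diagonal f) := inferInstance
  haveI : IsIso (pullback.diagonal f) :=
    (isIso_iff_isOpenImmersion_and_surjective _).mpr ⟨inferInstance, inferInstance⟩
  haveI : Mono f := (pullback.isIso_diagonal_iff f).mp inferInstance
  -- the open image
  let U : Y.Opens := ⟨Set.range f, f.isOpenMap.isOpen_range⟩
  have hr : Set.range f ⊆ Set.range U.ι := by simp [U]
  let f' : X ⟶ U := IsOpenImmersion.lift U.ι f hr
  have hf' : f' ≫ U.ι = f := IsOpenImmersion.lift_fac _ _ _
  haveI : Mono f' := mono_of_mono_fac hf'
  haveI : Etale f' := by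
    haveI : Etale (f' ≫ U.ι) := by rw [hf']; infer_instance
    exact Etale.of_comp f' U.ι
  haveI : Surjective f' := ⟨fun ⟨x, ⟨y, hy⟩⟩ =>
    ⟨y, by apply U.ι.injective; simp [← Scheme.Hom.comp_apply, f', hy]⟩⟩
  haveI : IsOpenImmersion (pullback.fst f' f') := inferInstance
  have : IsOpenImmersion f' :=
    MorphismProperty.of_pullback_fst_of_descendsAlong
      (P := @IsOpenImmersion) (Q := @Surjective ⊓ @Flat ⊓ @LocallyOfFinitePresentation) (f := f')
      (g := f') ⟨⟨inferInstance, inferInstance⟩, inferInstance⟩ inferInstance
  rw [← hf']
  infer_instance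

open AlgebraicGeometry CategoryTheory CategoryTheory.Limits in
/-- A morphism which is etale and universally injective (radicial) is an open immersion. (The converse
is immediate.) -/
theorem result {X Y : Scheme.{u}} (f : X ⟶ Y) [Etale f] [UniversallyInjective f] :
    IsOpenImmersion f := by
  exact aux f

end Groth.Agent.S3694
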