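import Groth.Statements.S1108
import Groth.Agent.Lead.ResPropC
import Groth.Agent.Helper4.AmpleBasis

set_option autoImplicit false
universe u
open CategoryTheory AlgebraicGeometry
open Perf

namespace Groth.Agent.S1108

/-- A scheme X admitting an ample invertible O_X-module has the resolution property: every
quasi-coherent O_X-module of finite type is a quotient of a finite locally free O_X-module. -/
theorem result (X : Scheme.{u}) (L : X.Modules) (hL : CohB1.IsAmple L) : PerfAux.HasResolutionProperty X := by
  have hqs := Groth.Agent.Helper4.AmpleBasis.quasiSeparatedSpace_of_isAmple hL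
  obtain ⟨hinv, hc, hch⟩ := hL
  have hch' : ∀ x : X, ∃ (M : X.Modules) (ρ : Coh.structureModule X ⟶ M), True ∧
      PicF.IsInvertible M ∧ x ∈ CohB1.genLocus M ρ ∧ IsAffineOpen (CohB1.genLocus M ρ) := by
    intro x
    obtain ⟨n, s, hx, ha⟩ := hch x
    exact ⟨CohB1.tensorPow L (n + 1), s, trivial,
      Groth.Agent.Helper4.TensorInv.isInvertible_tensorPow hinv (n + 1), hx, ha⟩
  intro F hF hFT
  have : F.IsQuasicoherent := hF
  obtain ⟨K, N, π, hπ, hN⟩ :=
    Groth.Agent.Lead.ResProp.exists_epi_of_charts F hFT (fun _ => True) hch'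
  exact ⟨_, π, Groth.Agent.Lead.ResProp.isFinLocFree_biproduct K N
    (fun j => Groth.Agent.Lead.Ref1K.isFinLocFree_of_isInvertible _ (hN j).1), hπ⟩

end Groth.Agent.S1108
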