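import Groth.Statements.S1615
import Mathlib

set_option autoImplicit false
universe u
open CategoryTheory CategoryTheory.Limits AlgebraicGeometry
open Constr

namespace Groth.Agent.S1615

/-- For a graded ring A, quasi-compactness of Proj A is equivalent to the existence of finitely many
homogeneous elements of positive degree generating an ideal whose radical contains the irrelevant
ideal A_+. -/
theorem result {R A : Type u} [CommRing R] [CommRing A] [Algebra R A] (𝒜 : ℕ → Submodule R A) [GradedAlgebra 𝒜] :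
    CompactSpace ↥(Proj 𝒜) ↔ ∃ s : Finset A, (∀ f ∈ s, ∃ d : ℕ, 0 < d ∧ f ∈ 𝒜 d) ∧
      (HomogeneousIdeal.irrelevant 𝒜).toIdeal ≤ (Ideal.span (s : Set A)).radical := by
  classical
  constructor
  · intro hc
    -- every point lies in D₊(f) with f homogeneous of positive degree
    have hpt : ∀ x : Proj 𝒜, ∃ f : {f : A // ∃ d : ℕ, 0 < d ∧ f ∈ 𝒜 d},
        x ∈ Proj.basicOpen 𝒜 f.1 := by
      intro x
      have hx := x.not_irrelevant_le
      obtain ⟨a, ha, hax⟩ := SetLike.not_le_iff_exists.mp hx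
      have hhom := x.asHomogeneousIdeal.isHomogeneous
      have : ∃ i, (DirectSum.decompose 𝒜 a i : A) ∉ x.asHomogeneousIdeal.toIdeal := by
        by_contra hcon
        push Not at hcon
        apply hax
        rw [← HomogeneousIdeal.mem_iff]
        exact (hhom.mem_iff).mpr hcon
      obtain ⟨i, hi⟩ := this
      have hi0 : i ≠ 0 := by
        rintro rfl
        apply hi
        have h0 := (HomogeneousIdeal.mem_irrelevant_iff 𝒜 a).mp ha
        rw [GradedRing.proj_apply] at h0
        rw [h0]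
        exact Ideal.zero_mem _
      refine ⟨⟨(DirectSum.decompose 𝒜 a i : A), i, Nat.pos_of_ne_zero hi0, SetLike.coe_mem _⟩, ?_⟩
      rw [Proj.mem_basicOpen]
      exact hi
    have hcov : (Set.univ : Set (Proj 𝒜)) ⊆ ⋃ f : {f : A // ∃ d : ℕ, 0 < d ∧ f ∈ 𝒜 d},
        ((Proj.basicOpen 𝒜 f.1 : (Proj 𝒜).Opens) : Set (Proj 𝒜)) := by
      intro x _
      obtain ⟨f, hf⟩ := hpt x
      exact Set.mem_iUnion.mpr ⟨f, hf⟩
    obtain ⟨t, ht⟩ := isCompact_univ.elim_finite_subcover _
      (fun f : {f : A // ∃ d : ℕ, 0 < d ∧ f ∈ 𝒜 d} => (Proj.basicOpen 𝒜 f.1).2) hcov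
    refine ⟨t.image Subtype.val, ?_, ?_⟩
    · intro f hf
      obtain ⟨g, -, rfl⟩ := Finset.mem_image.mp hf
      exact g.2
    · have hhom : (Ideal.span ((t.image Subtype.val : Finset A) : Set A)).IsHomogeneous 𝒜 := by
        apply Ideal.homogeneous_span
        intro x hx
        obtain ⟨g, -, rfl⟩ := Finset.mem_image.mp (Finset.mem_coe.mp hx)
        obtain ⟨d, -, hd⟩ := g.2
        exact ⟨d, hd⟩
      rw [hhom.radical_eq]
      apply le_sInf
      rintro J ⟨hJhom, hJle, hJprime⟩
      by_contra hcon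
      let x : Proj 𝒜 := (⟨⟨J, hJhom⟩, hJprime, hcon⟩ : ProjectiveSpectrum 𝒜)
      obtain ⟨g, hg, hxg⟩ : ∃ g ∈ t, x ∈ Proj.basicOpen 𝒜 g.1 := by
        have := ht (Set.mem_univ x)
        simpa using this
      rw [Proj.mem_basicOpen] at hxg
      apply hxg
      apply hJle
      apply Ideal.subset_span
      exact Finset.mem_coe.mpr (Finset.mem_image.mpr ⟨g, hg, rfl⟩)
  · rintro ⟨s, hs, hle⟩
    constructor
    have hcov : (Set.univ : Set (Proj 𝒜)) = ⋃ f ∈ s, ((Proj.basicOpen 𝒜 f : (Proj 𝒜).Opens) : Set (Proj 𝒜)) := by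
      symm
      rw [Set.eq_univ_iff_forall]
      intro x
      by_contra hcon
      simp only [Set.mem_iUnion, SetLike.mem_coe, Proj.mem_basicOpen, not_exists, not_not] at hcon
      apply x.not_irrelevant_le
      intro a ha
      have h1 : Ideal.span (s : Set A) ≤ x.asHomogeneousIdeal.toIdeal := by
        rw [Ideal.span_le]
        intro f hf
        exact hcon f (Finset.mem_coe.mp hf)
      have h2 : (Ideal.span (s : Set A)).radical ≤ x.asHomogeneousIdeal.toIdeal :=
        x.isPrime.radical_le_iff.mpr h1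
      exact h2 (hle ha)
    rw [hcov]
    apply s.finite_toSet.isCompact_biUnion
    intro f hf
    obtain ⟨d, hd, hfd⟩ := hs f hf
    exact (Proj.isAffineOpen_basicOpen 𝒜 f hfd hd).isCompact

end Groth.Agent.S1615
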