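import Groth.Statements.S3584
import Groth.Agent.Helper1.TwistAmple
import Groth.Agent.S1615

set_option autoImplicit false
universe u
open CategoryTheory CategoryTheory.Limits AlgebraicGeometry
open EGA2

namespace Groth.Agent.S3584

/-- Let S be a graded ring whose irrelevant ideal S_+ is generated by finitely many elements of degree
one. Then the twisting sheaf O_X(1) on X = Proj S is ample (X is quasi-compact and covered by the
affine non-vanishing loci of sections of the positive powers of O_X(1)). -/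
theorem result {R A : Type u} [CommRing R] [CommRing A] [Algebra R A] (𝒜 : ℕ → Submodule R A) [GradedAlgebra 𝒜]
    (s : Finset A) (hs1 : ∀ f ∈ s, f ∈ 𝒜 1)
    (hs : (HomogeneousIdeal.irrelevant 𝒜).toIdeal = Ideal.span (s : Set A)) :
    CohB1.IsAmple (Twist.twist 𝒜 1) := by
  have hcov : (⨆ f : 𝒜 1, Proj.basicOpen 𝒜 (f : A)) = ⊤ := by
    apply Proj.iSup_basicOpen_eq_top 𝒜 (fun f : 𝒜 1 => (f : A))
    rw [hs]
    apply Ideal.span_mono
    intro x hx
    exact ⟨⟨x, hs1 x hx⟩, rfl⟩
  haveI : CompactSpace (Proj 𝒜) := (Groth.Agent.S1615.result 𝒜).mpr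
    ⟨s, fun f hf => ⟨1, Nat.one_pos, hs1 f hf⟩, hs.le.trans Ideal.le_radical⟩
  have := Groth.Agent.Helper1.TwistMul.isAmple_twist 𝒜 hcov 1 Nat.one_pos
  simpa using this

end Groth.Agent.S3584
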