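import Groth.Statements.S5002
import Mathlib

set_option autoImplicit false
universe u
open PP16

namespace Groth.Agent.S5002

/-- Suppose A is a commutative ring and B is a finite-type A-algebra. For each n, the ring of principal
parts of order n of B over A is then finitely generated as a B-module, where B acts via the first
factor. -/
theorem result (n : ℕ) (A B : Type u) [CommRing A] [CommRing B] [Algebra A B]
    [Algebra.FiniteType A B] : Module.Finite B (PP16.P n A B) := by
  classical
  have hint : Algebra.IsIntegral B (PP16.P n A B) := by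
    refine ⟨fun x => ?_⟩
    obtain ⟨t, rfl⟩ := Ideal.Quotient.mk_surjective x
    induction t using TensorProduct.induction_on with
    | zero => rw [map_zero]; exact isIntegral_zero
    | add x y hx hy => rw [map_add]; exact hx.add hy
    | tmul b c =>
      have h1 : (b ⊗ₜ[A] c : TensorProduct A B B) =
          (b ⊗ₜ[A] (1 : B)) * ((c ⊗ₜ[A] (1 : B)) + ((1 : B) ⊗ₜ[A] c - c ⊗ₜ[A] (1 : B))) := by
        rw [add_sub_cancel, Algebra.TensorProduct.tmul_mul_tmul, mul_one, one_mul]
      rw [h1, map_mul, map_add]
      have hb : ∀ b : B, IsIntegral B (Ideal.Quotient.mk (KaehlerDifferential.ideal A B ^ (n + 1))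
          (b ⊗ₜ[A] (1 : B))) := fun b => isIntegral_algebraMap (x := b)
      refine (hb b).mul ((hb c).add ?_)
      apply IsIntegral.of_pow (n := n + 1) (Nat.succ_pos n)
      rw [← map_pow]
      have : ((1 : B) ⊗ₜ[A] c - c ⊗ₜ[A] (1 : B)) ^ (n + 1) ∈ KaehlerDifferential.ideal A B ^ (n + 1) :=
        Ideal.pow_mem_pow (KaehlerDifferential.one_smul_sub_smul_one_mem_ideal A c) _
      rw [Ideal.Quotient.eq_zero_iff_mem.2 this]
      exact isIntegral_zero
  have hft0 : Algebra.FiniteType B (TensorProduct A B B) := inferInstance
  have hft : Algebra.FiniteType B (PP16.P n A B) :=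
    Algebra.FiniteType.of_surjective
      (Ideal.Quotient.mkₐ B ((KaehlerDifferential.ideal A B) ^ (n + 1)))
      (Ideal.Quotient.mkₐ_surjective B _)
  exact Algebra.IsIntegral.finite

end Groth.Agent.S5002
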