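import Groth.Statements.S3806
import Mathlib
import Groth.Agent.Helper1.PPBaseChange

set_option autoImplicit false
universe u
open scoped TensorProduct
attribute [local instance] PP16.mapAlgebra PP16.isScalarTower_mapAlgebra
open PP16

namespace Groth.Agent.S3806

/-- Let A → A' be a ring map, B an A-algebra and B' = B ⊗_A A'. Then the canonical map P^n_{B/A} ⊗_B B'
→ P^n_{B'/A'} induced by functoriality of principal parts is an isomorphism; that is, the square B →
P^n_{B/A}, B → B', with P^n_{B'/A'} in the corner, is a pushout of rings. -/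
theorem result (n : ℕ) (A B A' B' : Type u) [CommRing A] [CommRing B] [Algebra A B]
    [CommRing A'] [CommRing B'] [Algebra A' B'] [Algebra A A'] [Algebra B B'] [Algebra A B']
    [IsScalarTower A A' B'] [IsScalarTower A B B'] [Algebra.IsPushout A B A' B'] :
    Algebra.IsPushout B (PP16.P n A B) B' (PP16.P n A' B') := by
  classical
  rw [← CommRingCat.isPushout_iff_isPushout]
  have hw : ∀ b : B, algebraMap (PP16.P n A B) (PP16.P n A' B') (algebraMap B (PP16.P n A B) b) =
      algebraMap B' (PP16.P n A' B') (algebraMap B B' b) := fun b =>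
    PP16.map_algebraMap n A B A' B' b
  have key : ∀ (s : CategoryTheory.Limits.PushoutCocone
      (CommRingCat.ofHom (algebraMap B (PP16.P n A B))) (CommRingCat.ofHom (algebraMap B B'))),
      ∃ γ : PP16.P n A' B' →+* s.pt, (∀ p, γ (PP16.map n A B A' B' p) = s.inl.hom p) ∧
        (∀ b', γ (algebraMap B' (PP16.P n A' B') b') = s.inr.hom b') := by
    intro s
    apply Groth.Agent.Helper1.PPBaseChange.exists_lift n A B A' B' s.inl.hom s.inr.hom
    intro b
    have := congr($(s.condition).hom b)
    simpa using this
  choose γ hγ1 hγ2 using key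
  have heq : CategoryTheory.CategoryStruct.comp (CommRingCat.ofHom (algebraMap B (PP16.P n A B)))
      (CommRingCat.ofHom (algebraMap (PP16.P n A B) (PP16.P n A' B'))) =
      CategoryTheory.CategoryStruct.comp (CommRingCat.ofHom (algebraMap B B'))
        (CommRingCat.ofHom (algebraMap B' (PP16.P n A' B'))) := by
    ext b
    exact hw b
  refine ⟨⟨heq⟩, ⟨CategoryTheory.Limits.PushoutCocone.IsColimit.mk heq
    (fun s => CommRingCat.ofHom (γ s)) ?_ ?_ ?_⟩⟩
  · intro s
    apply CommRingCat.hom_ext
    apply RingHom.ext
    intro p
    exact hγ1 s p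
  · intro s
    apply CommRingCat.hom_ext
    apply RingHom.ext
    intro b'
    exact hγ2 s b'
  · intro s m hm1 hm2
    apply CommRingCat.hom_ext
    apply Groth.Agent.Helper1.PPBaseChange.lift_unique n A B A' B'
    · intro p
      have := congr($(hm1).hom p)
      rw [CommRingCat.hom_ofHom, hγ1]
      exact this
    · intro b'
      have := congr($(hm2).hom b')
      rw [CommRingCat.hom_ofHom, hγ2]
      exact this

end Groth.Agent.S3806
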