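import Groth.Statements.S5134
import Groth.Agent.Lead.ModDict19
import Groth.Agent.Helper4.FPGlue
import Mathlib

set_option autoImplicit false
open CategoryTheory AlgebraicGeometry
universe u
open SGA1

namespace Groth.Agent.S5134

/-- For g : S' ⟶ S flat, surjective and quasi-compact and F a quasi-coherent module on S, if the
pullback of F to S' is of finite presentation then F is of finite presentation. -/
theorem result {S S' : Scheme.{u}} (g : S' ⟶ S) [Flat g] [Surjective g] [QuasiCompact g]
    (F : S.Modules) (hF : Coh.IsQCoh F)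
    (h : CohB1.IsFP ((Scheme.Modules.pullback g).obj F)) : CohB1.IsFP F := by
  haveI : F.IsQuasicoherent := hF
  haveI : SheafOfModules.IsFinitePresentation (R := S'.ringCatSheaf)
    ((Scheme.Modules.pullback g).obj F) := h
  haveI : ((Scheme.Modules.pullback g).obj F).IsQuasicoherent := inferInstance
  apply Groth.Agent.Helper4.FPGlue.isFinitePresentation_of_fp_sections F
  intro x
  obtain ⟨_, ⟨U, hU : IsAffineOpen U, rfl⟩, hxU, -⟩ :=
    S.isBasis_affineOpens.exists_subset_of_mem_open (Set.mem_univ x) isOpen_univ
  refine ⟨U, hU, hxU, ?_⟩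
  have h1 := Groth.Agent.Lead.ModDict.fp_secF_of_fp_pullback g F
    (fun hV => Groth.Agent.Lead.ModDict.fp_secF hV _ h) hU
  haveI : Module.FinitePresentation ↑Γ(S, U)
    ↑(moduleSpecΓFunctor.obj (F.restrict hU.fromSpec)) := h1
  exact Module.FinitePresentation.of_equiv (Groth.Agent.Helper4.SecDict.sectionsEquiv hU F).symm

end Groth.Agent.S5134
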