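import Groth.Statements.S1177
import Groth.Agent.Lead.ModDict19
import Groth.Agent.Helper4.FinLocFree5
import Groth.Agent.S5134
import Mathlib

set_option autoImplicit false
open CategoryTheory CategoryTheory.Limits AlgebraicGeometry Opposite
universe u
open Desc

namespace Groth.Agent.S1177

/-- Let g : X' ⟶ X be quasi-compact, flat and surjective and F a quasi-coherent O_X-module. If the
pullback g^*F is a finite locally free O_{X'}-module, then F is finite locally free. -/
theorem result {X X' : Scheme.{u}} (g : X' ⟶ X) [QuasiCompact g] [Flat g] [Surjective g]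
    (F : X.Modules) [F.IsQuasicoherent] (h : FlatMod.IsFinLocFree ((Scheme.Modules.pullback g).obj F)) :
    FlatMod.IsFinLocFree F := by
  haveI : ((Scheme.Modules.pullback g).obj F).IsQuasicoherent :=
    Groth.Agent.Helper4.FinLocFree4.isQuasicoherent_of_isFinLocFree _ h
  have hfp' := Groth.Agent.Helper4.FinLocFree2.isFinitePresentation_of_isFinLocFree _ h
  have hfp : SheafOfModules.IsFinitePresentation (R := X.ringCatSheaf) F :=
    Groth.Agent.S5134.result g F inferInstance hfp'
  have hflat' : ∀ {V : X'.Opens} (hV : IsAffineOpen V),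
      Module.Flat Γ(X', V) ((Groth.Agent.Lead.ModDict.secF hV).obj
        ((Scheme.Modules.pullback g).obj F)) := by
    intro V hV
    have h1 : Module.Flat Γ(X', V) Γ((Scheme.Modules.pullback g).obj F, V) := by
      apply Groth.Agent.Helper4.FinLocFree5.flat_sections_of_flat_stalks _ hV
      intro y _
      haveI := Groth.Agent.Helper4.FinLocFree2.free_stalk_of_isFinLocFree _ h y
      infer_instance
    haveI := h1
    exact Module.Flat.of_linearEquiv
      (Groth.Agent.Helper4.SecDict.sectionsEquiv hV ((Scheme.Modules.pullback g).obj F)).symm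
  intro x
  obtain ⟨U, hU, hx⟩ := Groth.Agent.Helper4.QcohLimits.exists_affine_nhd x
  have h2 := Groth.Agent.Lead.ModDict.flat_secF_of_flat_pullback g F hflat' hU
  haveI : Module.Flat ↑Γ(X, U) ↑(moduleSpecΓFunctor.obj (F.restrict hU.fromSpec)) := h2
  have h3 : Module.Flat Γ(X, U) Γ(F, U) :=
    Module.Flat.of_linearEquiv (Groth.Agent.Helper4.SecDict.sectionsEquiv hU F)
  have hflat : Module.Flat (X.presheaf.stalk x) (F.presheaf.stalk x) := by
    letI := Groth.Agent.Helper4.StalkDict.sectionModStalk F x hx
    letI := X.presheaf.algebra_section_stalk ⟨x, hx⟩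
    haveI := hU.isLocalization_stalk ⟨x, hx⟩
    haveI := Groth.Agent.Helper4.StalkDict.isLocalizedModule_germ hU F x hx
    haveI : IsScalarTower Γ(X, U) (X.presheaf.stalk x) (F.presheaf.stalk x) :=
      IsScalarTower.of_algebraMap_smul (fun r m => rfl)
    exact Module.Flat.of_isLocalizedModule (X.presheaf.stalk x)
      (hU.primeIdealOf ⟨x, hx⟩).asIdeal.primeCompl
      (Groth.Agent.Helper4.StalkDict.germLin F x hx)
  exact Groth.Agent.Helper4.FinLocFree2.exists_isFreeAlong_of_fp_of_flat_stalk F hfp x hflat

end Groth.Agent.S1177
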