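import Groth.Statements.S9427
import Groth.Agent.Helper4.UnivThick2
import Mathlib

set_option autoImplicit false
universe u
open OmegaSh

namespace Groth.Agent.S9427


/-- Let R → A → B be ring maps with A → B formally unramified, and let B' → B be a universal first order
thickening of B relative to A (B a B'-algebra through it). Then A → B' is formally unramified, and
base changing to B the natural B'-linear map B' ⊗_A Ω_{A/R} → Ω_{B'/R} gives a bijection B ⊗_{B'}
(B' ⊗_A Ω_{A/R}) → B ⊗_{B'} Ω_{B'/R}. -/
theorem result
    (R : Type u) [CommRing R] (A : Type u) [CommRing A] [Algebra R A] (B : Type u) [CommRing B]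
    [Algebra A B] [Algebra.FormallyUnramified A B] (B' : Type u) [CommRing B'] [Algebra A B']
    [Algebra R B'] [IsScalarTower R A B'] [Algebra B' B] [IsScalarTower A B' B]
    (h : OmegaSh.IsUnivThickeningRing A B B' (IsScalarTower.toAlgHom A B' B)) :
    Algebra.FormallyUnramified A B' ∧
      Function.Bijective ((KaehlerDifferential.mapBaseChange R A B').baseChange B) := by

  have hFU : Algebra.FormallyUnramified A B' := Helper4.UnivThick2.formallyUnramified h
  refine ⟨hFU, ?_, ?_⟩
  · -- injectivity via a left inverse
    let M := TensorProduct B' B (TensorProduct A B' (Ω[A⁄R]))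
    let d : A →+ M :=
      { toFun := fun a => (1 : B) ⊗ₜ[B'] ((1 : B') ⊗ₜ[A] KaehlerDifferential.D R A a)
        map_zero' := by simp
        map_add' := by intro x y; simp [TensorProduct.tmul_add] }
    have hd : ∀ x y, d (x * y) = algebraMap A B x • d y + algebraMap A B y • d x := by
      intro x y
      change (1 : B) ⊗ₜ[B'] ((1 : B') ⊗ₜ[A] KaehlerDifferential.D R A (x * y)) =
        algebraMap A B x • ((1 : B) ⊗ₜ[B'] ((1 : B') ⊗ₜ[A] KaehlerDifferential.D R A y)) +
        algebraMap A B y • ((1 : B) ⊗ₜ[B'] ((1 : B') ⊗ₜ[A] KaehlerDifferential.D R A x))
      rw [Derivation.leibniz, TensorProduct.tmul_add, TensorProduct.tmul_add]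
      have key : ∀ (a : A) (w : Ω[A⁄R]), (1 : B) ⊗ₜ[B'] ((1 : B') ⊗ₜ[A] (a • w)) =
          algebraMap A B a • ((1 : B) ⊗ₜ[B'] ((1 : B') ⊗ₜ[A] w)) := by
        intro a w
        rw [TensorProduct.tmul_smul, ← algebraMap_smul B' a ((1 : B') ⊗ₜ[A] w),
          TensorProduct.tmul_smul, ← algebraMap_smul B (algebraMap A B' a),
          ← IsScalarTower.algebraMap_apply]
      rw [key, key]
    obtain ⟨δ, hδ, hδd⟩ := Helper4.UnivThick2.exists_derivation_extension h M d hd
    let _ : Module R M := Module.compHom M (algebraMap R B')
    have hRsmul : ∀ (r : R) (m : M), r • m = algebraMap R B' r • m := fun r m => rfl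
    have : IsScalarTower R B' M := ⟨fun r b m => by
      rw [hRsmul, Algebra.smul_def, mul_smul]⟩
    have hB'smul : ∀ (b : B') (m : M), b • m = algebraMap B' B b • m := fun b m =>
      (algebraMap_smul B b m).symm
    have hπ : ∀ b : B', (IsScalarTower.toAlgHom A B' B) b = algebraMap B' B b := fun b => rfl
    have hdR : ∀ r : R, d (algebraMap R A r) = 0 := by
      intro r
      change (1 : B) ⊗ₜ[B'] ((1 : B') ⊗ₜ[A] KaehlerDifferential.D R A (algebraMap R A r)) = 0
      rw [Derivation.map_algebraMap, TensorProduct.tmul_zero, TensorProduct.tmul_zero]
    have hδ1 : δ 1 = 0 := by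
      have := hδ 1 1
      simp only [mul_one, map_one, one_smul] at this
      exact left_eq_add.mp this
    let δ' : Derivation R B' M :=
      { toFun := δ
        map_add' := map_add δ
        map_smul' := by
          intro r x
          rw [Algebra.smul_def, hδ, RingHom.id_apply, IsScalarTower.algebraMap_apply R A B' r,
            hδd, hdR, smul_zero, add_zero, hπ, ← hB'smul, ← IsScalarTower.algebraMap_apply, hRsmul]
        map_one_eq_zero' := hδ1
        leibniz' := by
          intro x y
          change δ (x * y) = x • δ y + y • δ x
          rw [hδ, hπ, hπ, hB'smul x, hB'smul y] }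
    let Ψ : TensorProduct B' B (Ω[B'⁄R]) →ₗ[B] M := δ'.liftKaehlerDifferential.liftBaseChange B
    have hΨ : ∀ m, Ψ ((KaehlerDifferential.mapBaseChange R A B').baseChange B m) = m := by
      intro m
      induction m using TensorProduct.induction_on with
      | zero => simp
      | add x y hx hy => rw [map_add, map_add, hx, hy]
      | tmul b z =>
        induction z using TensorProduct.induction_on with
        | zero => simp
        | add x y hx hy => rw [TensorProduct.tmul_add, map_add, map_add, hx, hy]
        | tmul b' w =>
          have hspan : w ∈ Submodule.span A (Set.range (KaehlerDifferential.D R A)) := by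
            rw [KaehlerDifferential.span_range_derivation]; trivial
          revert b b'
          induction hspan using Submodule.span_induction with
          | mem w hw =>
            obtain ⟨a, rfl⟩ := hw
            intro b b'
            rw [LinearMap.baseChange_tmul, KaehlerDifferential.mapBaseChange_tmul,
              KaehlerDifferential.map_D, LinearMap.liftBaseChange_tmul, map_smul,
              Derivation.liftKaehlerDifferential_comp_D]
            change b • b' • δ (algebraMap A B' a) = _
            rw [hδd]
            change b • b' • ((1 : B) ⊗ₜ[B'] ((1 : B') ⊗ₜ[A] KaehlerDifferential.D R A a)) = _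
            rw [← TensorProduct.tmul_smul, TensorProduct.smul_tmul', TensorProduct.smul_tmul',
              smul_eq_mul, mul_one, smul_eq_mul, mul_one]
          | zero => intro b b'; simp
          | add x y _ _ hx hy =>
            intro b b'
            rw [TensorProduct.tmul_add, TensorProduct.tmul_add, map_add, map_add, hx, hy]
          | smul a x _ hx =>
            intro b b'
            rw [TensorProduct.tmul_smul, TensorProduct.smul_tmul']
            exact hx b (a • b')
    exact Function.LeftInverse.injective hΨ
  · have hsub : Subsingleton (Ω[B'⁄A]) := inferInstance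
    have hs : Function.Surjective (KaehlerDifferential.mapBaseChange R A B') := by
      intro x
      exact ((KaehlerDifferential.exact_mapBaseChange_map R A B') x).mp (Subsingleton.elim _ _)
    intro y
    obtain ⟨z, hz⟩ := LinearMap.lTensor_surjective B
      (g := (KaehlerDifferential.mapBaseChange R A B').restrictScalars B') hs y
    exact ⟨z, hz⟩

end Groth.Agent.S9427
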