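import Groth.Statements.S1434
import Mathlib

set_option autoImplicit false
universe u
open FlatMor

namespace Groth.Agent.S1434

open AlgebraicGeometry CategoryTheory Limits in
theorem mul_eq_zero_of_mem_ker {T T' : Scheme.{u}} (t : T ⟶ T') [IsClosedImmersion t]
    (h : t.ker * t.ker = ⊥) (W : T'.Opens) (s1 s2 : Γ(T', W))
    (h1 : t.app W s1 = 0) (h2 : t.app W s2 = 0) : s1 * s2 = 0 := by
  apply TopCat.Sheaf.eq_of_locally_eq' T'.sheaf
    (fun V : {V : T'.affineOpens // V.1 ≤ W} => V.1.1) W (fun V => homOfLE V.2)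
  · intro x hx
    obtain ⟨_, ⟨V, hV, rfl⟩, hxV, hVW⟩ :=
      T'.isBasis_affineOpens.exists_subset_of_mem_open hx W.isOpen
    exact TopologicalSpace.Opens.mem_iSup.mpr ⟨⟨⟨V, hV⟩, hVW⟩, hxV⟩
  · rintro ⟨V, hVW⟩
    show T'.presheaf.map (homOfLE hVW).op (s1 * s2) = T'.presheaf.map (homOfLE hVW).op 0
    rw [map_zero, map_mul]
    have key : ∀ s : Γ(T', W), t.app W s = 0 →
        T'.presheaf.map (homOfLE hVW).op s ∈ t.ker.ideal V := by
      intro s hs
      rw [Scheme.Hom.ker_apply, RingHom.mem_ker]
      have := congr($(t.naturality (homOfLE hVW).op) s)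
      simp only [CommRingCat.comp_apply] at this
      change (t.app V) (T'.presheaf.map (homOfLE hVW).op s) = 0
      rw [this, hs, map_zero]
    have hmem : T'.presheaf.map (homOfLE hVW).op s1 * T'.presheaf.map (homOfLE hVW).op s2 ∈
        (t.ker * t.ker).ideal V := by
      rw [Scheme.IdealSheafData.ideal_mul]
      exact Ideal.mul_mem_mul (key s1 h1) (key s2 h2)
    rw [h] at hmem
    simpa using hmem

open AlgebraicGeometry CategoryTheory Limits in
/-- Part (1), for a closed subscheme: let Z ⊂ X be the closed subscheme cut out by an ideal sheaf I and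
Z' the one cut out by I², its first order infinitesimal neighbourhood. Given a first order
thickening T → T', a morphism a : T → Z and a morphism b : T' → X compatible with them, there is a
unique morphism T' → Z' through which b factors (compatibility with a is then automatic). -/
theorem result {X T T' : Scheme.{u}} (I : X.IdealSheafData) (t : T ⟶ T') (ht : MoreMor.IsFirstOrderThickening t)
    (a : T ⟶ I.subscheme) (b : T' ⟶ X) (w : a ≫ I.subschemeι = t ≫ b) :
    ∃! a' : T' ⟶ (I ^ 2).subscheme, a' ≫ (I ^ 2).subschemeι = b := by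
  obtain ⟨⟨hci, -⟩, hsq⟩ := ht
  have hker : (I ^ 2).subschemeι.ker ≤ b.ker := by
    rw [Scheme.IdealSheafData.ker_subschemeι]
    apply Scheme.IdealSheafData.le_ofIdeals_iff.mpr
    intro U
    rw [Scheme.IdealSheafData.ideal_pow]
    show (I.ideal U) ^ 2 ≤ _
    rw [pow_two, Ideal.mul_le]
    intro r hr s hs
    rw [RingHom.mem_ker, map_mul]
    have hz : ∀ r ∈ I.ideal U, t.app (b ⁻¹ᵁ U) ((b.app U).hom r) = 0 := by
      intro r hr
      have h1 : (I.subschemeι.app U).hom r = 0 := by
        rw [← RingHom.mem_ker, Scheme.IdealSheafData.ker_subschemeι_app]; exact hr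
      have h2 := Scheme.Hom.congr_app w U
      rw [Scheme.Hom.comp_app, Scheme.Hom.comp_app] at h2
      have h3 := congr($(h2) r)
      simp only [CommRingCat.comp_apply] at h3
      have h4 : (I.subschemeι.app U) r = 0 := h1
      rw [h4, map_zero] at h3
      have hinj := (ConcreteCategory.bijective_of_isIso
        (T.presheaf.map (eqToHom (by rw [w]) :
          (a ≫ I.subschemeι) ⁻¹ᵁ U.1 ⟶ (t ≫ b) ⁻¹ᵁ U.1).op)).1
      apply hinj
      refine Eq.trans ?_ (map_zero _).symm
      exact h3.symm
    exact mul_eq_zero_of_mem_ker t hsq _ _ _ (hz r hr) (hz s hs)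
  refine ⟨IsClosedImmersion.lift (I ^ 2).subschemeι b hker, IsClosedImmersion.lift_fac _ _ _, ?_⟩
  intro a'' ha''
  rw [← cancel_mono (I ^ 2).subschemeι, ha'', IsClosedImmersion.lift_fac]

end Groth.Agent.S1434
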