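import Groth.Statements.S1488
import Groth.Agent.Helper4.SN504
import Groth.Agent.Lead.FSmAppLE
import Mathlib

set_option autoImplicit false
universe u
open FlatMor

namespace Groth.Agent.S1488


open AlgebraicGeometry CategoryTheory Limits in
/-- A morphism f : X → S is smooth if and only if it is locally of finite presentation and formally
smooth, i.e. has the lifting property against first order thickenings of affine schemes (rings in
the same universe). -/
theorem result {X S : Scheme.{u}} (f : X ⟶ S) :
    Smooth f ↔ LocallyOfFinitePresentation f ∧ MoreMor.IsFormallySmoothHom f := by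

  constructor
  · intro h
    exact ⟨inferInstance, Groth.Agent.Helper4.SN504.formallySmooth_of_smooth f⟩
  · rintro ⟨h1, h2⟩
    refine ⟨fun {V} hV {U} hU e => ?_⟩
    have hfs := Groth.Agent.Lead.FSmAppLE.formallySmooth_appLE f h2 U V hU hV e
    have hfp := h1.finitePresentation_appLE hV hU e
    exact @Algebra.Smooth.mk _ _ _ _ (_) hfs hfp

end Groth.Agent.S1488
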