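import Groth.Statements.S13055
import Mathlib
import Groth.Agent.Helper6.ZetaPoly

set_option autoImplicit false
universe u
open CategoryTheory AlgebraicGeometry
open Zeta

namespace Groth.Agent.S13055

/-- Let X be a scheme of finite type over a finite field k with q elements and P = a_d y^d + ⋯ + a_0 ∈
ℤ[y] with N_m = P(q^m) for every m ≥ 1 (X is of polynomial count). Then Z(X, t) = ∏_{i = 0}^{d} (1 −
q^i t)^{−a_i}; stated cleared of denominators, with the factors of positive exponent moved to the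
left. -/
theorem result {k : Type u} [Field k] [Finite k] {X : Scheme.{u}}
    (f : X ⟶ Spec (CommRingCat.of k)) [LocallyOfFiniteType f] [QuasiCompact f] (P : Polynomial ℤ)
    (hP : ∀ m : ℕ, 1 ≤ m → (Zeta.nPts f m : ℤ) = P.eval ((Nat.card k : ℤ) ^ m)) :
    Zeta.zetaFun f * ∏ i ∈ Finset.range (P.natDegree + 1),
        (1 - PowerSeries.C ((Nat.card k : ℚ) ^ i) * PowerSeries.X) ^ (P.coeff i).toNat =
      ∏ i ∈ Finset.range (P.natDegree + 1),
        (1 - PowerSeries.C ((Nat.card k : ℚ) ^ i) * PowerSeries.X) ^ (-P.coeff i).toNat := by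
  have hL : Zeta.logZeta f = Groth.Agent.Helper6.ZetaPS.LZ (Zeta.degCount f) := by
    unfold Zeta.logZeta Groth.Agent.Helper6.ZetaPS.LZ Zeta.nPts
    rfl
  have hZ : Zeta.zetaFun f = PowerSeries.subst (Groth.Agent.Helper6.ZetaPS.LZ (Zeta.degCount f))
      (PowerSeries.exp ℚ) := by
    unfold Zeta.zetaFun
    rw [hL]
  rw [hZ]
  exact Groth.Agent.Helper6.ZetaPoly.zeta_of_polycount (Zeta.degCount f) (Nat.card k) P
    (fun m hm => hP m hm)

end Groth.Agent.S13055
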