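import Groth.Statements.S0008
import Groth.Agent.Helper1.SerreC

set_option autoImplicit false
universe u
open Coherent

namespace Groth.Agent.S0008

open AlgebraicGeometry in
/-- For a ring A, an A-module M and elements f_1, …, f_n generating the unit ideal, the Čech cohomology
of the associated module on Spec A with respect to the covering by the basic opens D(f_i) vanishes
in every positive degree. -/
theorem result (A : Type u) [CommRing A] (M : ModuleCat.{u} A)
    (n : ℕ) (f : ULift.{u} (Fin n) → A) (hf : Ideal.span (Set.range f) = ⊤) (p : ℕ) (hp : 0 < p) :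
    CategoryTheory.Limits.IsZero (CohB1.cechH (fun i => PrimeSpectrum.basicOpen (f i)) (tilde (R := CommRingCat.of A) M) p) := by
  obtain ⟨q, rfl⟩ : ∃ q, p = q + 1 := ⟨p - 1, by omega⟩
  let R := CommRingCat.of A
  have hU : IsAffineOpen (⊤ : (Spec R).Opens) := isAffineOpen_top (Spec R)
  let g : ULift.{u} (Fin n) → Γ(Spec R, ⊤) := fun i => (Scheme.ΓSpecIso R).inv (f i)
  have hg : Ideal.span (Set.range g) = ⊤ := by
    have h1 : Set.range g = (Scheme.ΓSpecIso R).commRingCatIsoToRingEquiv.symm '' Set.range f := by
      rw [← Set.range_comp]; rfl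
    rw [h1, ← Ideal.map_span, hf]
    exact Ideal.map_top _
  have key := Groth.Agent.Helper1.Serre.isZero_cechH (tilde (R := R) M) hU g hg q
  have hfam : Groth.Agent.Helper1.Serre.bV g = fun i => PrimeSpectrum.basicOpen (f i) := by
    funext i
    refine (basicOpen_eq_of_affine' (R := R) (g i)).trans ?_
    congr 1
    exact congrFun (congrArg (fun φ => (φ.hom : _ → _)) (Scheme.ΓSpecIso R).inv_hom_id) (f i)
  rw [hfam] at key
  exact key

end Groth.Agent.S0008
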