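import Groth.Statements.S0015
-- import your own Groth.Agent.* helpers here

set_option autoImplicit false
universe u
open Coherent

namespace Groth.Agent.S0015

open AlgebraicGeometry in
/-- Let X be quasi-compact and quasi-separated and P a property of opens of X. If P holds for affine
opens, and P(U ∪ V) follows from P(U), P(V), P(U ∩ V) whenever U is quasi-compact open and V affine
open, then P holds for every quasi-compact open, in particular for X. -/
theorem result (X : Scheme.{u}) [CompactSpace X] [QuasiSeparatedSpace X]
    (P : X.Opens → Prop) (h₁ : ∀ U : X.Opens, IsAffineOpen U → P U)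
    (h₂ : ∀ U V : X.Opens, IsCompact (U : Set X) → IsAffineOpen V → P U → P V → P (U ⊓ V) →
      P (U ⊔ V))
    (U : X.Opens) (hU : IsCompact (U : Set X)) : P U := by
  classical
  -- Step 1: finite unions of basic opens of an affine open satisfy P
  have key : ∀ (A : X.Opens) (hA : IsAffineOpen A) (n : ℕ) (s : Finset Γ(X, A)), s.card ≤ n →
      P (⨆ f ∈ s, X.basicOpen f) := by
    intro A hA n
    induction n with
    | zero =>
      intro s hs
      have : s = ∅ := by simpa using hs
      subst this
      simp only [Finset.notMem_empty, iSup_false, iSup_bot]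
      have := h₁ (X.basicOpen (0 : Γ(X, A))) (hA.basicOpen 0)
      rwa [Scheme.basicOpen_zero] at this
    | succ n ih =>
      intro s hs
      induction s using Finset.induction_on with
      | empty =>
        simp only [Finset.notMem_empty, iSup_false, iSup_bot]
        have := h₁ (X.basicOpen (0 : Γ(X, A))) (hA.basicOpen 0)
        rwa [Scheme.basicOpen_zero] at this
      | insert f s hfs _ =>
        rw [Finset.card_insert_of_notMem hfs] at hs
        have hs' : s.card ≤ n := by omega
        rw [Finset.iSup_insert, sup_comm]
        have hcpt : IsCompact ((⨆ g ∈ s, X.basicOpen g : X.Opens) : Set X) := by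
          rw [TopologicalSpace.Opens.coe_iSup]
          simp only [TopologicalSpace.Opens.coe_iSup]
          exact s.finite_toSet.isCompact_biUnion fun g _ => (hA.basicOpen g).isCompact
        refine h₂ _ _ hcpt (hA.basicOpen f) (ih s hs') (h₁ _ (hA.basicOpen f)) ?_
        have : (⨆ g ∈ s, X.basicOpen g) ⊓ X.basicOpen f =
            ⨆ g ∈ s.image (· * f), X.basicOpen g := by
          rw [Finset.iSup_finset_image, iSup_inf_eq]
          congr 1; ext1 g
          rw [iSup_inf_eq]
          congr 1; ext1 _
          rw [Scheme.basicOpen_mul]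
        rw [this]
        exact ih _ (Finset.card_image_le.trans hs')
  -- Step 2: compact opens inside an affine open satisfy P
  have key2 : ∀ (A : X.Opens) (hA : IsAffineOpen A) (W : X.Opens), W ≤ A →
      IsCompact (W : Set X) → P W := by
    intro A hA W hWA hW
    have hcov : ∀ x : W, ∃ f : Γ(X, A), X.basicOpen f ≤ W ∧ (x : X) ∈ X.basicOpen f :=
      fun x => hA.exists_basicOpen_le x (hWA x.2)
    choose f hf1 hf2 using hcov
    obtain ⟨t, ht⟩ := hW.elim_finite_subcover (fun x : W => (X.basicOpen (f x) : Set X))
      (fun x => (X.basicOpen (f x)).isOpen) (fun x hx => Set.mem_iUnion.2 ⟨⟨x, hx⟩, hf2 ⟨x, hx⟩⟩)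
    have hW' : W = ⨆ g ∈ t.image f, X.basicOpen g := by
      apply le_antisymm
      · intro x hx
        obtain ⟨i, hi⟩ := Set.mem_iUnion.1 (ht hx)
        obtain ⟨hit, hxi⟩ := Set.mem_iUnion.1 hi
        rw [Finset.iSup_finset_image]
        exact TopologicalSpace.Opens.mem_iSup.2 ⟨i, TopologicalSpace.Opens.mem_iSup.2 ⟨hit, hxi⟩⟩
      · rw [Finset.iSup_finset_image]
        exact iSup₂_le fun i _ => hf1 i
    rw [hW']
    exact key A hA _ _ le_rfl
  -- Step 3: induction over compact opens
  refine compact_open_induction_on (P := P) U hU ?_ ?_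
  · exact h₁ ⊥ (isAffineOpen_bot X)
  · intro S hS V hPS
    refine h₂ S V hS V.2 hPS (h₁ _ V.2) ?_
    refine key2 V V.2 _ inf_le_right ?_
    exact QuasiSeparatedSpace.inter_isCompact _ _ S.2 hS V.1.2 V.2.isCompact

end Groth.Agent.S0015
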