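import Groth.Statements.S0018
import Groth.Agent.Helper4.CohFP
import Mathlib

set_option autoImplicit false
universe u
open Coherent

namespace Groth.Agent.S0018


open AlgebraicGeometry in
/-- On a locally Noetherian scheme an O_X-module is quasi-coherent of finite type if and only if it is
of finite presentation. (Either condition is what 'coherent' means there.) -/
theorem result (X : Scheme.{u}) [IsLocallyNoetherian X] (M : X.Modules) :
    Coh.IsCoh M ↔ CohB1.IsFP M := by

  constructor
  · rintro ⟨hq, hM⟩
    exact Groth.Agent.Helper4.CohFP.isFP_of_isCoh M hq hM
  · intro h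
    obtain ⟨σ, hσ⟩ := SheafOfModules.IsFinitePresentation.exists_quasicoherentData (R := X.ringCatSheaf) M
    have h1 : SheafOfModules.IsQuasicoherent (R := X.ringCatSheaf) M :=
      { nonempty_quasicoherentData := ⟨σ⟩ }
    have h3 : σ.localGeneratorsData.IsFiniteType := by
      constructor
      intro i
      have h4 := hσ.isFinite_presentation i
      have h5 : Finite (σ.presentation i).generators.I :=
        SheafOfModules.GeneratingSections.IsFiniteType.finite
      exact ⟨h5⟩
    have h2 : SheafOfModules.IsFiniteType (R := X.ringCatSheaf) M :=
      { exists_localGeneratorsData := ⟨σ.localGeneratorsData, h3⟩ }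
    exact ⟨h1, h2⟩

end Groth.Agent.S0018
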