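import Groth.Statements.S0024
import Groth.Agent.Helper1.ProjH05

set_option autoImplicit false
universe u
open Coherent

namespace Groth.Agent.S0024

open AlgebraicGeometry CategoryTheory in
/-- Special case d = 0, q = 0: the map R → Γ(P^n_R, O) induced by the structure morphism P^n_R → Spec R
is an isomorphism (global functions on projective space are the degree-zero part R of the polynomial
ring). -/
theorem result (n : ℕ) (R : Type u) [CommRing R] :
    IsIso (CohB1.ProjSpace.toSpec n R).appTop := by
  have hbij : Function.Bijective (Coh.toGlobal (CohB1.ProjSpace.toSpec n R)) :=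
    Groth.Agent.Helper1.ProjTop.toGlobal_bijective n R
  have hΓ : Function.Bijective ((Scheme.ΓSpecIso (CommRingCat.of R)).hom.hom) :=
    ConcreteCategory.bijective_of_isIso (Scheme.ΓSpecIso (CommRingCat.of R)).hom
  have h2 : ∀ x, (CohB1.ProjSpace.toSpec n R).appTop.hom x =
      Coh.toGlobal (CohB1.ProjSpace.toSpec n R)
        ((Scheme.ΓSpecIso (CommRingCat.of R)).hom.hom x) := by
    intro x
    have h3 : (Scheme.ΓSpecIso (CommRingCat.of R)).inv.hom
        ((Scheme.ΓSpecIso (CommRingCat.of R)).hom.hom x) = x :=
      CategoryTheory.Iso.hom_inv_id_apply (Scheme.ΓSpecIso (CommRingCat.of R)) x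
    show _ = (CohB1.ProjSpace.toSpec n R).appTop.hom
      ((Scheme.ΓSpecIso (CommRingCat.of R)).inv.hom
        ((Scheme.ΓSpecIso (CommRingCat.of R)).hom.hom x))
    rw [h3]
  have h1 : Function.Bijective ((CohB1.ProjSpace.toSpec n R).appTop.hom) := by
    have : ((CohB1.ProjSpace.toSpec n R).appTop.hom : _ → _) =
        (Coh.toGlobal (CohB1.ProjSpace.toSpec n R)) ∘
          ((Scheme.ΓSpecIso (CommRingCat.of R)).hom.hom) := funext h2
    rw [this]
    exact hbij.comp hΓ
  exact (ConcreteCategory.isIso_iff_bijective _).2 h1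

end Groth.Agent.S0024
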