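import Groth.Statements.S0027
import Groth.Agent.Helper1.Dev16

set_option autoImplicit false
universe u
open Coherent

namespace Groth.Agent.S0027

open AlgebraicGeometry CategoryTheory CategoryTheory.Limits in
/-- Let X be a nonempty Noetherian scheme and P an isomorphism-invariant property of O_X-modules such
that (1) in a short exact sequence of coherent modules, P for the two outer terms implies P for the
middle term, and (2) P holds for the direct image of every quasi-coherent ideal sheaf of every
integral closed subscheme of X. Then P holds for every coherent O_X-module. (Nonemptiness of X is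
needed for the zero module; the published statement leaves it implicit.) -/
theorem result (X : Scheme.{u}) [IsNoetherian X] [Nonempty X]
    (P : X.Modules → Prop) (hP : ∀ M N : X.Modules, Nonempty (M ≅ N) → P M → P N)
    (h₁ : ∀ S : ShortComplex X.Modules, S.ShortExact → Coh.IsCoh S.X₁ → Coh.IsCoh S.X₂ →
      Coh.IsCoh S.X₃ → P S.X₁ → P S.X₃ → P S.X₂)
    (h₂ : ∀ (Z : Scheme.{u}) (i : Z ⟶ X), IsClosedImmersion i → IsIntegral Z →
      ∀ (I : Z.Modules) (ι : I ⟶ Coh.structureModule Z), Mono ι → Coh.IsQCoh I →
        P ((Coh.push i).obj I))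
    (M : X.Modules) (hM : Coh.IsCoh M) : P M := by
  -- `P` holds for the zero modules
  have hzero : ∀ N : X.Modules, Limits.IsZero N → P N := by
    intro N hN
    obtain ⟨x⟩ := ‹Nonempty X›
    let Y : TopologicalSpace.Closeds X := ⟨closure {x}, isClosed_closure⟩
    have hint := Groth.Agent.Helper1.Dev.isIntegral_subscheme Y (isIrreducible_singleton.closure)
    have hz := Groth.Agent.Lead.PerfLib.isZero_freeMod_zero
      (Scheme.IdealSheafData.vanishingIdeal Y).subscheme
    have h := h₂ _ (Scheme.IdealSheafData.vanishingIdeal Y).subschemeι inferInstance hint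
      _ 0 ⟨fun _ _ _ => hz.eq_of_tgt _ _⟩ (Groth.Agent.Helper1.Dev.isCoh_of_isZero hz).1
    exact hP _ _ ⟨(Functor.map_isZero _ hz).iso hN⟩ h
  have hK : Groth.Agent.Helper1.Dev.HalfClass (P : ObjectProperty X.Modules) :=
    { iso := fun e h => hP _ _ ⟨e⟩ h
      zero := hzero
      ext := h₁ }
  refine hK.core ⊤ ?_ M hM (Set.subset_univ _)
  intro Y _ hirrY hB E hE
  have hint := Groth.Agent.Helper1.Dev.isIntegral_subscheme Y hirrY
  have := Groth.Agent.Helper1.Dev.isNoetherian_of_isClosedImmersion
    (Scheme.IdealSheafData.vanishingIdeal Y).subschemeι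
  exact (Groth.Agent.Helper1.Dev.pushClass_halfClass
    (Scheme.IdealSheafData.vanishingIdeal Y).subschemeι hK).integral_main
    (fun I ι hι hI => h₂ _ _ inferInstance hint I ι hι hI)
    (fun E hE hs => Groth.Agent.Helper1.Dev.small_of_below Y hB _ E hE hs) E hE

end Groth.Agent.S0027
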