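import Groth.Statements.S0043
import Groth.Agent.Helper1.QAffAcyc

set_option autoImplicit false
universe u
open Coherent

namespace Groth.Agent.S0043

open AlgebraicGeometry in
/-- If X is quasi-affine and H^p(X, O_X) = 0 for all p > 0, then X is affine. -/
theorem result (X : Scheme.{u}) [X.IsQuasiAffine]
    (h : ∀ p : ℕ, 0 < p → Subsingleton (Coh.HH X (Coh.structureModule X) p)) : IsAffine X := by
  letI : X.Over (Spec (CommRingCat.of Γ(X, ⊤))) := ⟨X.toSpecΓ⟩
  haveI : IsOpenImmersion (X ↘ Spec (CommRingCat.of Γ(X, ⊤))) :=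
    inferInstanceAs (IsOpenImmersion X.toSpecΓ)
  haveI : QuasiCompact (X ↘ Spec (CommRingCat.of Γ(X, ⊤))) := by
    haveI : CompactSpace X := inferInstance
    exact HasAffineProperty.iff_of_isAffine.mpr ‹CompactSpace X›
  have htop : Function.Bijective (((X ↘ Spec (CommRingCat.of Γ(X, ⊤))).appTop.hom.comp
      (Scheme.ΓSpecIso (CommRingCat.of Γ(X, ⊤))).inv.hom : Γ(X, ⊤) →+* Γ(X, ⊤))) := by
    have : ((X ↘ Spec (CommRingCat.of Γ(X, ⊤))).appTop.hom.comp
        (Scheme.ΓSpecIso (CommRingCat.of Γ(X, ⊤))).inv.hom : Γ(X, ⊤) →+* Γ(X, ⊤)) =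
        RingHom.id _ := by
      ext a
      change ((X.toSpecΓ.appTop).hom.comp (Scheme.ΓSpecIso (CommRingCat.of Γ(X, ⊤))).inv.hom) a = a
      rw [Scheme.toSpecΓ_appTop]
      exact CategoryTheory.Iso.inv_hom_id_apply (Scheme.ΓSpecIso (CommRingCat.of Γ(X, ⊤))) a
    rw [this]
    exact Function.bijective_id
  have hsurj := Groth.Agent.Helper1.QAffAcyc.surjective_of_acyclic Γ(X, ⊤) X htop h
  haveI : CategoryTheory.Epi X.toSpecΓ.base := by
    rw [TopCat.epi_iff_surjective]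
    exact hsurj
  haveI : CategoryTheory.IsIso X.toSpecΓ := IsOpenImmersion.isIso X.toSpecΓ
  exact ⟨inferInstance⟩

end Groth.Agent.S0043
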