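import Groth.Statements.S0045
import Groth.Agent.Helper4.AffineIso
import Mathlib

set_option autoImplicit false
universe u
open Coherent

namespace Groth.Agent.S0045


open AlgebraicGeometry CategoryTheory in
/-- On a Noetherian scheme, any increasing sequence of quasi-coherent submodules of a coherent module is
eventually constant. -/
theorem result (X : Scheme.{u}) [IsNoetherian X] (M : X.Modules)
    (hM : Coh.IsCoh M) (F : ℕ →o Subobject M) (hF : ∀ n, Coh.IsQCoh ((F n : Subobject M) : X.Modules)) :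
    ∃ n : ℕ, ∀ m : ℕ, n ≤ m → F m = F n := by

  obtain ⟨hMq, hMf⟩ := hM
  have hA : ∀ U : X.affineOpens, IsAffineOpen U.1 := fun U => U.2
  have hmono : ∀ (U : X.Opens) (hU : IsAffineOpen U) (n m : ℕ) (hnm : n ≤ m),
      LinearMap.range (Groth.Agent.Helper4.AffineDict.affModMap (F n).arrow U hU).hom ≤
      LinearMap.range (Groth.Agent.Helper4.AffineDict.affModMap (F m).arrow U hU).hom := by
    intro U hU n m hnm
    have h1 : (F n).arrow = Subobject.ofLE _ _ (F.monotone hnm) ≫ (F m).arrow :=
      (Subobject.ofLE_arrow _).symm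
    rw [h1, Groth.Agent.Helper4.AffineIso.affModMap_comp, ModuleCat.hom_comp]
    exact LinearMap.range_comp_le_range _ _
  have key : ∀ U : X.affineOpens, ∃ n : ℕ, ∀ m, n ≤ m →
      LinearMap.range (Groth.Agent.Helper4.AffineDict.affModMap (F n).arrow U.1 (hA U)).hom =
      LinearMap.range (Groth.Agent.Helper4.AffineDict.affModMap (F m).arrow U.1 (hA U)).hom := by
    intro U
    haveI : IsNoetherianRing Γ(X, U.1) := IsLocallyNoetherian.component_noetherian U
    haveI := Groth.Agent.Helper4.AffineDict.finite_affMod M hMq hMf U.1 (hA U)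
    haveI : IsNoetherian Γ(X, U.1) (Groth.Agent.Helper4.AffineDict.affMod M U.1 (hA U)) :=
      isNoetherian_of_isNoetherianRing_of_finite _ _
    let S : ℕ →o Submodule Γ(X, U.1) (Groth.Agent.Helper4.AffineDict.affMod M U.1 (hA U)) :=
      ⟨fun n => LinearMap.range
        (Groth.Agent.Helper4.AffineDict.affModMap (F n).arrow U.1 (hA U)).hom,
        fun n m hnm => hmono U.1 (hA U) n m hnm⟩
    exact monotone_stabilizes_iff_noetherian.mpr inferInstance S
  choose N hN using key
  obtain ⟨t, ht⟩ : ∃ t : Finset X.affineOpens, ∀ x : X, ∃ U ∈ t, x ∈ U.1 := by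
    have hcov : (Set.univ : Set X) ⊆ ⋃ U : X.affineOpens, (U.1 : Set X) := by
      intro x _
      have hx : x ∈ (⨆ i : X.affineOpens, (i : X.Opens)) := by
        rw [iSup_affineOpens_eq_top]; trivial
      obtain ⟨U, hU⟩ := TopologicalSpace.Opens.mem_iSup.mp hx
      exact Set.mem_iUnion.mpr ⟨U, hU⟩
    obtain ⟨t, ht⟩ := isCompact_univ.elim_finite_subcover
      (fun U : X.affineOpens => (U.1 : Set X)) (fun U => U.1.isOpen) hcov
    refine ⟨t, fun x => ?_⟩
    obtain ⟨U, hU, hx⟩ := Set.mem_iUnion₂.mp (ht (Set.mem_univ x))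
    exact ⟨U, hU, hx⟩
  refine ⟨t.sup N, fun m hm => ?_⟩
  have hle : F (t.sup N) ≤ F m := F.monotone hm
  refine le_antisymm ?_ hle
  have hj : IsIso (Subobject.ofLE _ _ hle) := by
    apply Groth.Agent.Helper4.AffineIso.isIso_of_isIso_restrict
    intro x
    obtain ⟨U, hUt, hxU⟩ := ht x
    refine ⟨U.1, hxU, Groth.Agent.Helper4.AffineIso.isIso_restrict_of_affModMap_bijective
      (hF _) (hF _) _ U.1 (hA U) ⟨?_, ?_⟩⟩
    · exact Groth.Agent.Helper4.AffineDict.affModMap_injective _ U.1 (hA U)
    · intro y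
      have hNU : N U ≤ t.sup N := Finset.le_sup hUt
      have h1 := hN U (t.sup N) hNU
      have h2 := hN U m (le_trans hNU hm)
      have h3 : (Groth.Agent.Helper4.AffineDict.affModMap (F m).arrow U.1 (hA U)).hom y ∈
          LinearMap.range
            (Groth.Agent.Helper4.AffineDict.affModMap (F (t.sup N)).arrow U.1 (hA U)).hom := by
        rw [← h1, h2]
        exact LinearMap.mem_range_self _ y
      obtain ⟨z, hz⟩ := h3
      refine ⟨z, ?_⟩
      apply Groth.Agent.Helper4.AffineDict.affModMap_injective (F m).arrow U.1 (hA U)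
      rw [← hz]
      have h4 : (F (t.sup N)).arrow = Subobject.ofLE _ _ hle ≫ (F m).arrow :=
        (Subobject.ofLE_arrow _).symm
      rw [h4, Groth.Agent.Helper4.AffineIso.affModMap_comp, ModuleCat.hom_comp]
      rfl
  exact Subobject.le_of_comm (inv (Subobject.ofLE _ _ hle)) (by simp)

end Groth.Agent.S0045
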