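import Groth.Statements.S0046
import Groth.Agent.Helper4.AffineDict
import Mathlib

set_option autoImplicit false
universe u
open Coherent

namespace Groth.Agent.S0046


open AlgebraicGeometry CategoryTheory in
/-- On a locally Noetherian scheme, a quasi-coherent submodule of a coherent module is coherent. (The
statement about quotients is omitted.) -/
theorem result (X : Scheme.{u}) [IsLocallyNoetherian X]
    (M N : X.Modules) (i : N ⟶ M) [Mono i] (hM : Coh.IsCoh M) (hN : Coh.IsQCoh N) : Coh.IsCoh N := by

  obtain ⟨hMq, hMf⟩ := hM
  refine ⟨hN, ?_⟩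
  apply Groth.Agent.Helper4.AffineDict.isFT_of_affine_local
  intro U
  haveI : IsNoetherianRing Γ(X, U.1) := IsLocallyNoetherian.component_noetherian U
  have hfinM := Groth.Agent.Helper4.AffineDict.finite_affMod M hMq hMf U.1 U.2
  have hinj := Groth.Agent.Helper4.AffineDict.affModMap_injective i U.1 U.2
  have hfinN : Module.Finite Γ(X, U.1) (Groth.Agent.Helper4.AffineDict.affMod N U.1 U.2) :=
    Module.Finite.of_injective (Groth.Agent.Helper4.AffineDict.affModMap i U.1 U.2).hom hinj
  exact Groth.Agent.Helper4.AffineDict.exists_generatingSections_restrict_of_finite_affMod N hN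
    U.1 U.2 hfinN

end Groth.Agent.S0046
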