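import Groth.Statements.S0063


set_option autoImplicit false
open CategoryTheory CategoryTheory.Limits AlgebraicGeometry Opposite
universe u
open EtBase

namespace Groth.Agent.S0063

/-- Rigidity of maps into an unramified separated scheme — two maps from a connected scheme over the
base that agree at one point, including on residue fields, coincide. -/
theorem result {X S Y : Scheme.{u}} (π : X ⟶ S)
    [FormallyUnramified π] [LocallyOfFiniteType π] [IsSeparated π]
    (h : Y ⟶ S) [ConnectedSpace Y] (f g : Y ⟶ X) (hf : f ≫ π = h) (hg : g ≫ π = h)
    (y : Y) (hy : Y.fromSpecResidueField y ≫ f = Y.fromSpecResidueField y ≫ g) : f = g := by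
  have hfg : f ≫ π = g ≫ π := hf.trans hg.symm
  let φ : Y ⟶ pullback π π := pullback.lift f g hfg
  have hΔ : IsOpenImmersion (pullback.diagonal π) := inferInstance
  have hΔ' : IsClosedImmersion (pullback.diagonal π) := inferInstance
  let W : Set Y := φ ⁻¹' Set.range (pullback.diagonal π)
  have hWo : IsOpen W := (pullback.diagonal π).isOpenEmbedding.isOpen_range.preimage φ.continuous
  have hWc : IsClosed W := (pullback.diagonal π).isClosedEmbedding.isClosed_range.preimage φ.continuous
  have hyW : y ∈ W := by
    show φ y ∈ Set.range (pullback.diagonal π)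
    have hpt : Nonempty (Spec (Y.residueField y)) := inferInstance
    obtain ⟨t⟩ := hpt
    have e1 : Y.fromSpecResidueField y ≫ φ =
        (Y.fromSpecResidueField y ≫ f) ≫ pullback.diagonal π := by
      apply pullback.hom_ext
      · simp only [φ, Category.assoc, pullback.diagonal_fst, Category.comp_id]
        rw [pullback.lift_fst]
      · simp only [φ, Category.assoc, pullback.diagonal_snd, Category.comp_id]
        rw [pullback.lift_snd, hy]
    have e2 : φ y = pullback.diagonal π ((Y.fromSpecResidueField y ≫ f) t) := by
      have := congrArg (fun ψ : Spec (Y.residueField y) ⟶ pullback π π => ψ t) e1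
      simpa using this
    exact ⟨_, e2.symm⟩
  have hW : W = Set.univ := IsClopen.eq_univ ⟨hWc, hWo⟩ ⟨y, hyW⟩
  have hU : Set.range φ ⊆ Set.range (pullback.diagonal π) := by
    rintro _ ⟨z, rfl⟩
    have : z ∈ W := hW ▸ Set.mem_univ z
    exact this
  let ψ : Y ⟶ X := IsOpenImmersion.lift (pullback.diagonal π) φ hU
  have hψ : ψ ≫ pullback.diagonal π = φ := IsOpenImmersion.lift_fac _ _ _
  have e3 : f = ψ := by
    have := congrArg (· ≫ pullback.fst π π) hψ
    simp only [φ, Category.assoc, pullback.diagonal_fst, Category.comp_id] at this
    rw [pullback.lift_fst] at this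
    exact this.symm
  have e4 : g = ψ := by
    have := congrArg (· ≫ pullback.snd π π) hψ
    simp only [φ, Category.assoc, pullback.diagonal_snd, Category.comp_id] at this
    rw [pullback.lift_snd] at this
    exact this.symm
  rw [e3, e4]

end Groth.Agent.S0063
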