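import Groth.Statements.S0074
import Mathlib
import Groth.Agent.Helper9.EtStrictHensSect
import Groth.Agent.Helper9.EtStalkExact
-- import your own Groth.Agent.* helpers here

set_option autoImplicit false
open CategoryTheory CategoryTheory.Limits AlgebraicGeometry Opposite
universe u
open EtBase

namespace Groth.Agent.S0074

/-- On the spectrum of a strictly henselian local ring, global sections of an abelian étale sheaf map
bijectively onto the stalk at the geometric closed point. -/
theorem result (R : Type u) [CommRing R] [HenselianLocalRing R]
    [IsSepClosed (IsLocalRing.ResidueField R)] (F : EtCoh.Ab (Spec (CommRingCat.of R))) :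
    Function.Bijective ((Scheme.pointSmallEtale
      (Spec.map (CommRingCat.ofHom (IsLocalRing.residue R)))).toPresheafFiber
        (EtCoh.top (Spec (CommRingCat.of R)))
        (Over.homMk (Spec.map (CommRingCat.ofHom (IsLocalRing.residue R))) (Category.comp_id _)) F.obj) := by
  have inst1 := Groth.Agent.Helper9.EtStalkExact.preservesFilteredColimits_forget_ab.{u}
  exact Groth.Agent.Helper9.EtStrictHensSect.bijective_toPresheafFiber R F.obj

end Groth.Agent.S0074
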