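import Groth.Statements.S0077
import Mathlib
import Groth.Agent.Lead.LangK

set_option autoImplicit false
universe u
open EtBase

namespace Groth.Agent.S0077

open Groth.Agent.Lead.Lang

/-- the semilinear map attached to `F`. -/
noncomputable def mkΦ {k V : Type u} [Field k] (p : ℕ) [Fact p.Prime] [CharP k p]
    [AddCommGroup V] [Module k V] (F : V →+ V)
    (hF : ∀ (c : k) (v : V), F (c • v) = c ^ p • F v) : V →ₛₗ[frobenius k p] V where
  toFun := F
  map_add' := F.map_add
  map_smul' c v := by rw [hF]; rfl

theorem key (n : ℕ) : ∀ {k V : Type u} [Field k] [IsAlgClosed k] (p : ℕ) [Fact p.Prime] [CharP k p]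
    [AddCommGroup V] [Module k V] [FiniteDimensional k V] (Φ : V →ₛₗ[frobenius k p] V),
    Module.finrank k V = n → Function.Surjective fun v => Φ v - v := by
  induction n using Nat.strong_induction_on with
  | _ n ih =>
    intro k V _ _ p _ _ _ _ _ Φ hn
    have hp2 : 2 ≤ p := (Fact.out : p.Prime).two_le
    have hσ : ∀ a : k, frobenius k p a = a ^ p := fun a => rfl
    by_cases hinj : Function.Injective Φ
    · intro z
      exact exists_sub_eq hp2 hσ Φ hinj z
    · -- kernel nonzero
      let K : Submodule k V := LinearMap.ker Φ
      have hK : K ≠ ⊥ := by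
        intro h
        apply hinj
        exact LinearMap.ker_eq_bot.mp h
      have hKstable : K ≤ K.comap Φ := by
        intro x hx
        rw [Submodule.mem_comap]
        have : Φ x = 0 := hx
        rw [this]
        exact K.zero_mem
      let Φbar : (V ⧸ K) →ₛₗ[frobenius k p] (V ⧸ K) := K.mapQ K Φ hKstable
      have hlt : Module.finrank k (V ⧸ K) < n := by
        rw [← hn]
        have h1 := Submodule.finrank_quotient_add_finrank K
        have h2 : 0 < Module.finrank k K := by
          rw [Module.finrank_pos_iff]
          exact Submodule.nontrivial_iff_ne_bot.mpr hK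
        omega
      have hsurj := ih _ hlt p Φbar rfl
      intro w
      obtain ⟨ubar, hu⟩ := hsurj (Submodule.Quotient.mk w)
      obtain ⟨u, rfl⟩ := Submodule.Quotient.mk_surjective K ubar
      have h1 : Φbar (Submodule.Quotient.mk u) = Submodule.Quotient.mk (Φ u) := rfl
      simp only [h1] at hu
      rw [← Submodule.Quotient.mk_sub, Submodule.Quotient.eq] at hu
      -- κ := Φ u - u - w ∈ K
      set κ := Φ u - u - w with hκ
      have hΦκ : Φ κ = 0 := hu
      refine ⟨u + κ, ?_⟩
      simp only [map_add, hΦκ, add_zero]
      rw [hκ]
      abel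

/-- First half — on a finite-dimensional vector space over an algebraically closed field of
characteristic p, any additive p-semilinear map F has F − id surjective. -/
theorem result {k V : Type u} [Field k] [IsAlgClosed k] (p : ℕ) [Fact p.Prime] [CharP k p]
    [AddCommGroup V] [Module k V] [FiniteDimensional k V] (F : V →+ V)
    (hF : ∀ (c : k) (v : V), F (c • v) = c ^ p • F v) :
    Function.Surjective fun v => F v - v := by
  exact key _ p (mkΦ p F hF) rfl

end Groth.Agent.S0077
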