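import Groth.Statements.S0078
import Mathlib

set_option autoImplicit false
universe u
open EtBase

namespace Groth.Agent.S0078

/-- the semilinear map attached to `F`. -/
noncomputable def mkΦ {k V : Type u} [Field k] (p : ℕ) [Fact p.Prime] [CharP k p]
    [AddCommGroup V] [Module k V] (F : V →+ V)
    (hF : ∀ (c : k) (v : V), F (c • v) = c ^ p • F v) : V →ₛₗ[frobenius k p] V where
  toFun := F
  map_add' := F.map_add
  map_smul' c v := by rw [hF]; rfl

theorem card_fixed_field_le {k : Type u} [Field k] (p : ℕ) [Fact p.Prime] :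
    Finite {c : k | c ^ p = c} ∧ Nat.card {c : k | c ^ p = c} ≤ p := by
  classical
  have hp : 1 < p := (Fact.out : p.Prime).one_lt
  let P : Polynomial k := Polynomial.X ^ p - Polynomial.X
  have hP : P ≠ 0 := FiniteField.X_pow_card_sub_X_ne_zero k hp
  have hsub : {c : k | c ^ p = c} ⊆ (P.roots.toFinset : Set k) := by
    intro c hc
    simp only [Finset.mem_coe, Multiset.mem_toFinset, Polynomial.mem_roots hP]
    simp [P, Polynomial.IsRoot, hc.out]
  have hfin : ({c : k | c ^ p = c}).Finite := (Finset.finite_toSet _).subset hsub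
  refine ⟨hfin, ?_⟩
  calc Nat.card {c : k | c ^ p = c} = ({c : k | c ^ p = c}).ncard := Nat.card_coe_set_eq _
    _ ≤ (P.roots.toFinset : Set k).ncard := Set.ncard_le_ncard hsub (Finset.finite_toSet _)
    _ = P.roots.toFinset.card := Set.ncard_coe_finset _
    _ ≤ Multiset.card P.roots := Multiset.toFinset_card_le _
    _ ≤ P.natDegree := Polynomial.card_roots' P
    _ = p := FiniteField.X_pow_card_sub_X_natDegree_eq k hp

/-- Second half — for such an F the fixed vectors F v = v form a finite set of size at most p ^ dim V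
(an F_p-space of dimension at most dim V). -/
theorem result {k V : Type u} [Field k] [IsAlgClosed k] (p : ℕ) [Fact p.Prime] [CharP k p]
    [AddCommGroup V] [Module k V] [FiniteDimensional k V] (F : V →+ V)
    (hF : ∀ (c : k) (v : V), F (c • v) = c ^ p • F v) :
    Set.Finite {v : V | F v = v} ∧ Nat.card {v : V | F v = v} ≤ p ^ Module.finrank k V := by
  classical
  let Φ := mkΦ p F hF
  have hΦ : ∀ v, Φ v = F v := fun _ => rfl
  obtain ⟨b, hbs, hspan, hli⟩ := exists_linearIndependent k {v : V | F v = v}
  have hbfin : Finite b := hli.finite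
  have hbcard : Nat.card b ≤ Module.finrank k V := by
    have : Fintype b := Fintype.ofFinite b
    rw [Nat.card_eq_fintype_card]
    exact hli.fintype_card_le_finrank
  obtain ⟨hTfin, hTcard⟩ := card_fixed_field_le (k := k) p
  -- coordinates of a fixed vector
  have hmem : ∀ v : {v : V | F v = v}, (v : V) ∈ Submodule.span k (Set.range (Subtype.val : b → V)) := by
    intro v
    rw [Subtype.range_coe, hspan]
    exact Submodule.subset_span v.2
  let c : {v : V | F v = v} → (b → k) := fun v i => hli.repr ⟨v, hmem v⟩ i
  have hcsum : ∀ v : {v : V | F v = v}, (v : V) = ∑ i ∈ (hli.repr ⟨v, hmem v⟩).support, c v i • (i : V) := by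
    intro v
    have := hli.linearCombination_repr ⟨v, hmem v⟩
    rw [Finsupp.linearCombination_apply, Finsupp.sum] at this
    exact this.symm
  have hcfix : ∀ (v : {v : V | F v = v}) (i : b), c v i ^ p = c v i := by
    intro v i
    -- apply F to the expansion
    have h1 : F v = ∑ j ∈ (hli.repr ⟨v, hmem v⟩).support, (c v j) ^ p • (j : V) := by
      conv_lhs => rw [hcsum v]
      rw [← hΦ, map_sum]
      apply Finset.sum_congr rfl
      intro j _
      rw [hΦ, hF, hbs j.2]
    have h2 : ∑ j ∈ (hli.repr ⟨v, hmem v⟩).support, ((c v j) ^ p - c v j) • (j : V) = 0 := by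
      simp only [sub_smul, Finset.sum_sub_distrib]
      rw [← h1, ← hcsum v, v.2, sub_self]
    by_cases hi : i ∈ (hli.repr ⟨v, hmem v⟩).support
    · have := linearIndependent_iff'.mp hli _ (fun j => (c v j) ^ p - c v j) h2 i hi
      exact sub_eq_zero.mp this
    · have h0 : c v i = 0 := Finsupp.notMem_support_iff.mp hi
      rw [h0, zero_pow (Fact.out : p.Prime).ne_zero]
  let g : {v : V | F v = v} → (b → {a : k | a ^ p = a}) := fun v i => ⟨c v i, hcfix v i⟩
  have hg : Function.Injective g := by
    intro v w hvw
    apply Subtype.ext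
    have hc : hli.repr ⟨v, hmem v⟩ = hli.repr ⟨w, hmem w⟩ := by
      ext i
      have := congrFun hvw i
      exact congrArg Subtype.val this
    rw [hcsum v, hcsum w]
    simp only [c]
    rw [hc]
  have hfin : Finite {v : V | F v = v} := Finite.of_injective g hg
  refine ⟨Set.toFinite _, ?_⟩
  calc Nat.card {v : V | F v = v} ≤ Nat.card (b → {a : k | a ^ p = a}) :=
        Nat.card_le_card_of_injective g hg
    _ = Nat.card {a : k | a ^ p = a} ^ Nat.card b := Nat.card_fun
    _ ≤ p ^ Nat.card b := Nat.pow_le_pow_left hTcard _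
    _ ≤ p ^ Module.finrank k V := Nat.pow_le_pow_right (Fact.out : p.Prime).pos hbcard

end Groth.Agent.S0078
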