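import Groth.Statements.S0095
import Groth.Agent.S0094
import Groth.Agent.Helper4.GeomConnSch

set_option autoImplicit false
open CategoryTheory CategoryTheory.Limits AlgebraicGeometry Opposite
universe u
open EtBase

namespace Groth.Agent.S0095

/-- For a scheme over a separably closed field k and a field extension K of k, global sections of an
abelian étale sheaf do not change under base change to K (the source proves this for sheaves of
sets; the abelian case is stated). -/
theorem result {k K : Type u} [Field k] [IsSepClosed k] [Field K] [Algebra k K]
    {S : Scheme.{u}} (a : S ⟶ Spec (CommRingCat.of k))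
    [EtCoh.BCCont (pullback.fst a (Spec.map (CommRingCat.ofHom (algebraMap k K))))]
    (F : EtCoh.Ab S) :
    Function.Bijective (((EtCoh.pullPushAdj
      (pullback.fst a (Spec.map (CommRingCat.ofHom (algebraMap k K))))).unit.app F).hom.app
        (op (EtCoh.top S))) := by
  have hg : GeometricallyConnected (Spec.map (CommRingCat.ofHom (algebraMap k K))) :=
    Groth.Agent.Helper4.GeomConnSch.geometricallyConnected_Spec_of_isSepClosed (k := k) K
  have hf : GeometricallyConnected
      (pullback.fst a (Spec.map (CommRingCat.ofHom (algebraMap k K)))) := inferInstance
  have hflat : Flat (Spec.map (CommRingCat.ofHom (algebraMap k K))) := by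
    rw [HasRingHomProperty.Spec_iff (P := @Flat)]
    show (algebraMap k K).Flat
    rw [RingHom.flat_algebraMap_iff]
    infer_instance
  have hflat' : Flat (pullback.fst a (Spec.map (CommRingCat.ofHom (algebraMap k K)))) :=
    inferInstance
  have hqc : QuasiCompact (pullback.fst a (Spec.map (CommRingCat.ofHom (algebraMap k K)))) :=
    inferInstance
  exact Groth.Agent.S0094.result
    (pullback.fst a (Spec.map (CommRingCat.ofHom (algebraMap k K))))
    (fun Ω _ _ s => pullback_of_geometrically hf.1 Ω s) F

end Groth.Agent.S0095
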