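import Groth.Statements.S0097
import Mathlib
import Groth.Agent.Lead.FinUnram

set_option autoImplicit false
open CategoryTheory CategoryTheory.Limits AlgebraicGeometry Opposite
universe u
open EtBase

namespace Groth.Agent.S0097

open Groth.Agent.Lead.FinUnram in
/-- chart-level statement: there is `r ∈ Γ(S, V)` not vanishing at `s` with `f.app (D(r))` surjective -/
theorem exists_basicOpen_surjective {X S : Scheme.{u}} (f : X ⟶ S) [IsFinite f]
    [FormallyUnramified f] (x : X)
    (hx : f.base ⁻¹' {f x} = {x}) (hκ : Function.Surjective (f.residueFieldMap x))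
    (V : S.Opens) (hV : IsAffineOpen V) (hsV : f x ∈ V) :
    ∃ r : Γ(S, V), f x ∈ S.basicOpen r ∧ Function.Surjective (f.app (S.basicOpen r)) := by
  have hU : IsAffineOpen (f ⁻¹ᵁ V) := hV.preimage f
  have hxU : x ∈ f ⁻¹ᵁ V := hsV
  let φ := (f.appLE V (f ⁻¹ᵁ V) le_rfl).hom
  let _ : Algebra Γ(S, V) Γ(X, f ⁻¹ᵁ V) := φ.toAlgebra
  have hfin : Module.Finite Γ(S, V) Γ(X, f ⁻¹ᵁ V) := by
    have h1 : φ.IsIntegral := by
      have := IsIntegralHom.isIntegral_app f V hV
      rwa [Scheme.Hom.app_eq_appLE] at this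
    have h2 : φ.FiniteType :=
      HasRingHomProperty.appLE (P := @LocallyOfFiniteType) f inferInstance ⟨V, hV⟩ ⟨_, hU⟩ le_rfl
    exact RingHom.IsIntegral.to_finite h1 h2
  have hunr : Algebra.FormallyUnramified Γ(S, V) Γ(X, f ⁻¹ᵁ V) :=
    HasRingHomProperty.appLE (P := @FormallyUnramified) f inferInstance ⟨V, hV⟩ ⟨_, hU⟩ le_rfl
  set p := (hV.primeIdealOf ⟨f x, hsV⟩).asIdeal with hp
  set q := (hU.primeIdealOf ⟨x, hxU⟩).asIdeal with hq
  have hqp : q.comap (algebraMap Γ(S, V) Γ(X, f ⁻¹ᵁ V)) = p :=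
    congr($(IsAffineOpen.comap_primeIdealOf_appLE V hV _ hU le_rfl hxU).1)
  have : q.LiesOver p := ⟨hqp.symm⟩
  have hprimes : p.primesOver Γ(X, f ⁻¹ᵁ V) = {q} := by
    ext q'
    simp only [Set.mem_singleton_iff]
    constructor
    · rintro ⟨hq'prime, hq'over⟩
      let y : PrimeSpectrum Γ(X, f ⁻¹ᵁ V) := ⟨q', hq'prime⟩
      have h1 : f (hU.fromSpec y) = hV.fromSpec (Spec.map (f.appLE V (f ⁻¹ᵁ V) le_rfl) y) := by
        rw [← Scheme.Hom.comp_apply, ← Scheme.Hom.comp_apply, IsAffineOpen.SpecMap_appLE_fromSpec]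
      have h2 : Spec.map (f.appLE V (f ⁻¹ᵁ V) le_rfl) y = hV.primeIdealOf ⟨f x, hsV⟩ := by
        apply PrimeSpectrum.ext
        change q'.comap φ = p
        exact hq'over.over.symm
      rw [h2, hV.fromSpec_primeIdealOf] at h1
      have h3 : hU.fromSpec y ∈ f.base ⁻¹' {f x} := h1
      rw [hx] at h3
      have h4 : hU.fromSpec y = hU.fromSpec (hU.primeIdealOf ⟨x, hxU⟩) := by
        rw [hU.fromSpec_primeIdealOf]; exact h3
      have h5 := hU.fromSpec.isOpenEmbedding.injective h4
      exact congr($(h5).asIdeal)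
    · rintro rfl
      exact ⟨inferInstance, inferInstance⟩
  let _ := Localization.AtPrime.algebraOfLiesOver p q
  have hunrq : Algebra.IsUnramifiedAt Γ(S, V) q :=
    Algebra.FormallyUnramified.comp _ Γ(X, f ⁻¹ᵁ V) _
  have hκ' : Function.Surjective (IsLocalRing.ResidueField.map (f.stalkMap x).hom) := hκ
  rw [residue_surjective_iff] at hκ'
  let e := IsAffineOpen.arrowStalkMapIso f V hV _ hU le_rfl hxU
  let eL : S.presheaf.stalk (f x) ≅ CommRingCat.of (Localization.AtPrime p) :=
    Arrow.leftFunc.mapIso e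
  let eR : X.presheaf.stalk x ≅ CommRingCat.of (Localization.AtPrime q) :=
    Arrow.rightFunc.mapIso e
  have hw : f.stalkMap x ≫ eR.hom = eL.hom ≫ CommRingCat.ofHom
      (algebraMap (Localization.AtPrime p) (Localization.AtPrime q)) := e.hom.w.symm
  have hloc : ∀ b : Localization.AtPrime q, ∃ a : Localization.AtPrime p,
      algebraMap (Localization.AtPrime p) (Localization.AtPrime q) a - b ∈
        IsLocalRing.maximalIdeal (Localization.AtPrime q) := by
    intro b
    obtain ⟨a1, ha1⟩ := hκ' (eR.inv.hom b)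
    refine ⟨eL.hom.hom a1, ?_⟩
    have h1 : algebraMap (Localization.AtPrime p) (Localization.AtPrime q) (eL.hom.hom a1) =
        eR.hom.hom ((f.stalkMap x).hom a1) := by
      have := congr($(hw).hom a1)
      exact this.symm
    have h2 : b = eR.hom.hom (eR.inv.hom b) := by
      have : (eR.inv ≫ eR.hom) = 𝟙 _ := eR.inv_hom_id
      exact congr($(this).hom b).symm
    have h2' : eR.hom.hom ((f.stalkMap x).hom a1) - b =
        eR.hom.hom ((f.stalkMap x).hom a1 - eR.inv.hom b) := by
      rw [map_sub, ← h2]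
    rw [h1, h2']
    set c := (f.stalkMap x).hom a1 - eR.inv.hom b with hc
    rw [IsLocalRing.mem_maximalIdeal, mem_nonunits_iff] at ha1 ⊢
    intro hu
    apply ha1
    have h3 : c = eR.inv.hom (eR.hom.hom c) := by
      have : (eR.hom ≫ eR.inv) = 𝟙 _ := eR.hom_inv_id
      exact congr($(this).hom c).symm
    rw [h3]
    exact hu.map _
  have Hres : Function.Surjective (algebraMap p.ResidueField q.ResidueField) := by
    intro z
    obtain ⟨b, rfl⟩ := IsLocalRing.residue_surjective z
    obtain ⟨a, ha⟩ := hloc b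
    refine ⟨IsLocalRing.residue _ a, ?_⟩
    rw [IsLocalRing.ResidueField.algebraMap_residue]
    rw [← IsLocalRing.residue_eq_zero_iff, map_sub] at ha
    exact sub_eq_zero.mp ha
  have Hsurj := Localization.localRingHom_surjective_of_primesOver_eq_singleton hprimes Hres
  obtain ⟨r, hrp, hr⟩ := exists_awayMap_surjective hprimes Hsurj
  have hr' := hr r dvd_rfl
  refine ⟨r, ?_, ?_⟩
  · have h1 : hV.primeIdealOf ⟨f x, hsV⟩ ∈ hV.fromSpec ⁻¹ᵁ (S.basicOpen r) := by
      rw [hV.fromSpec_preimage_basicOpen]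
      exact hrp
    have h2 : hV.fromSpec (hV.primeIdealOf ⟨f x, hsV⟩) ∈ S.basicOpen r := h1
    rwa [hV.fromSpec_primeIdealOf] at h2
  · have e : f ⁻¹ᵁ S.basicOpen r = X.basicOpen (φ r) := by
      rw [Scheme.preimage_basicOpen]
      congr 1
      simp only [φ, Scheme.Hom.app_eq_appLE]
    have hloc1 : IsLocalization.Away r Γ(S, S.basicOpen r) := hV.isLocalization_basicOpen r
    have hloc2 : IsLocalization.Away (φ r) Γ(X, X.basicOpen (φ r)) :=
      hU.isLocalization_basicOpen (φ r)
    let g : Γ(S, S.basicOpen r) →+* Γ(X, X.basicOpen (φ r)) :=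
      (f.app (S.basicOpen r) ≫ X.presheaf.map (eqToHom e.symm).op).hom
    have hg : g.comp (algebraMap Γ(S, V) Γ(S, S.basicOpen r)) =
        (algebraMap Γ(X, f ⁻¹ᵁ V) Γ(X, X.basicOpen (φ r))).comp φ := by
      have aux : ∀ (D : X.Opens) (e : f ⁻¹ᵁ S.basicOpen r = D) (le : D ≤ f ⁻¹ᵁ V),
          S.presheaf.map (homOfLE (S.basicOpen_le r)).op ≫ f.app (S.basicOpen r) ≫
            X.presheaf.map (eqToHom e.symm).op =
          f.appLE V (f ⁻¹ᵁ V) le_rfl ≫ X.presheaf.map (homOfLE le).op := by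
        intro D e le
        subst e
        rw [Scheme.Hom.app_eq_appLE]
        simp only [Scheme.Hom.map_appLE, Scheme.Hom.appLE_map]
      have := aux _ e (X.basicOpen_le _)
      exact congr($(this).hom)
    have hsurj := surjective_of_awayMap_surjective φ r g hg hr'
    intro y
    obtain ⟨a, ha⟩ := hsurj ((X.presheaf.map (eqToHom e.symm).op).hom y)
    refine ⟨a, ?_⟩
    have hinj : Function.Injective (X.presheaf.map (eqToHom e.symm).op).hom :=
      (ConcreteCategory.bijective_of_isIso (X.presheaf.map (eqToHom e.symm).op)).injective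
    apply hinj
    exact ha

/-- A finite unramified morphism whose fibre over a point s is a single point with the same residue
field is a closed immersion over an open neighbourhood of s. -/
theorem result {X S : Scheme.{u}} (f : X ⟶ S) [IsFinite f] [FormallyUnramified f] (s : S) (x : X)
    (hx : f.base ⁻¹' {s} = {x}) (hκ : Function.Surjective (f.residueFieldMap x)) :
    ∃ U : S.Opens, s ∈ U ∧ IsClosedImmersion (f ∣_ U) := by
  have hfx : f x = s := by
    have : x ∈ f.base ⁻¹' {s} := by rw [hx]; rfl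
    exact this
  subst hfx
  obtain ⟨V, hV, hsV⟩ : ∃ V : S.Opens, IsAffineOpen V ∧ f x ∈ V := by
    obtain ⟨_, ⟨V, hV, rfl⟩, hyV, -⟩ :=
      (S.isBasis_affineOpens).exists_subset_of_mem_open (Set.mem_univ (f x)) isOpen_univ
    exact ⟨V, hV, hyV⟩
  obtain ⟨r, hr1, hr2⟩ := exists_basicOpen_surjective f x hx hκ V hV hsV
  refine ⟨S.basicOpen r, hr1, ?_⟩
  have hD : IsAffineOpen (S.basicOpen r) := hV.basicOpen r
  have : IsAffine (S.basicOpen r).toScheme := hD
  have : IsAffine (f ⁻¹ᵁ S.basicOpen r).toScheme := hD.preimage f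
  apply IsClosedImmersion.of_surjective_of_isAffine
  have h1 : ∀ (U' : S.Opens) (e : U' = S.basicOpen r), Function.Surjective (f.app U') := by
    rintro _ rfl; exact hr2
  have h2 := h1 ((S.basicOpen r).ι ''ᵁ ⊤) (by simp)
  have h3 : Function.Surjective (f.app ((S.basicOpen r).ι ''ᵁ ⊤) ≫
      X.presheaf.map (eqToHom (image_morphismRestrict_preimage f (S.basicOpen r) ⊤)).op) := by
    intro y
    obtain ⟨y', hy'⟩ := (ConcreteCategory.bijective_of_isIso
      (X.presheaf.map (eqToHom (image_morphismRestrict_preimage f (S.basicOpen r) ⊤)).op)).surjective y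
    obtain ⟨a, ha⟩ := h2 y'
    exact ⟨a, by rw [← hy', ← ha]; rfl⟩
  have h4 := morphismRestrict_appTop f (S.basicOpen r)
  intro y
  obtain ⟨a, ha⟩ := h3 y
  exact ⟨a, by rw [← ha]; exact congr($(h4).hom a)⟩

end Groth.Agent.S0097
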