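import Groth.Statements.S0098
import Mathlib
import Groth.Agent.S0097

set_option autoImplicit false
open CategoryTheory CategoryTheory.Limits AlgebraicGeometry Opposite
universe u
open EtBase

namespace Groth.Agent.S0098

/-- A finite étale morphism whose fibre over a point s is a single point with the same residue field is
an isomorphism over an open neighbourhood of s. -/
theorem result {X S : Scheme.{u}} (f : X ⟶ S) [IsFinite f] [AlgebraicGeometry.Etale f] (s : S) (x : X)
    (hx : f.base ⁻¹' {s} = {x}) (hκ : Function.Surjective (f.residueFieldMap x)) :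
    ∃ U : S.Opens, s ∈ U ∧ IsIso (f ∣_ U) := by
  obtain ⟨U, hsU, hcl⟩ := Groth.Agent.S0097.result f s x hx hκ
  have hfx : f x = s := by
    have : x ∈ f.base ⁻¹' {s} := by rw [hx]; rfl
    exact this
  have hxU : x ∈ f ⁻¹ᵁ U := by
    change f x ∈ U
    rw [hfx]; exact hsU
  have : IsOpenImmersion (f ∣_ U) := IsOpenImmersion.of_flat_of_mono _
  let W : U.toScheme.Opens := (f ∣_ U).opensRange
  refine ⟨U.ι ''ᵁ W, ?_, ?_⟩
  · refine ⟨⟨s, hsU⟩, ?_, rfl⟩
    refine ⟨⟨x, hxU⟩, ?_⟩
    apply Subtype.ext
    rw [morphismRestrict_base_coe]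
    exact hfx
  · have h1 : IsIso ((f ∣_ U) ∣_ W) := by
      rw [isIso_iff_isOpenImmersion_and_surjective]
      refine ⟨inferInstance, ⟨?_⟩⟩
      intro w
      obtain ⟨y, hy⟩ := w.2
      have hyW : y ∈ (f ∣_ U) ⁻¹ᵁ W := by
        change (f ∣_ U) y ∈ W
        rw [hy]; exact w.2
      refine ⟨⟨y, hyW⟩, ?_⟩
      apply Subtype.ext
      rw [morphismRestrict_base_coe]
      exact hy
    exact ((MorphismProperty.isomorphisms Scheme).arrow_mk_iso_iff
      (morphismRestrictRestrict f U W)).mp h1

end Groth.Agent.S0098
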