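import Groth.Statements.S0099
import Groth.Agent.Helper4.EtCartan
import Groth.Agent.Helper6.CF1
import Mathlib

set_option autoImplicit false
open CategoryTheory CategoryTheory.Limits AlgebraicGeometry Opposite
universe u
open EtBase

namespace Groth.Agent.S0099


/-- On a quasi-compact quasi-separated scheme, étale cohomology in each degree commutes with filtered
colimits of abelian sheaves (stated for small filtered index categories). -/
theorem result (X : Scheme.{u}) [CompactSpace X] [QuasiSeparatedSpace X] (n : ℕ)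
    (J : Type u) [SmallCategory J] [IsFiltered J] :
    PreservesColimitsOfShape J (EtCoh.HF X n) := by

  classical
  -- the statement for big index categories
  have big : ∀ (Λ : Type (u + 1)) [SmallCategory Λ] [IsFiltered Λ],
      PreservesColimitsOfShape Λ (EtCoh.HF X n) := by
    intro Λ _ _
    obtain ⟨hT1, hT2⟩ := Groth.Agent.Helper4.EtCartan.top_mem (X := X)
    have hqc2 : Groth.Agent.Helper4.SecQC.QC2 X.smallEtaleTopology (EtCoh.top X) :=
      @Groth.Agent.Helper4.EtGeom.qc2 _ _ hT1 hT2
    have h0 : ∀ D : Λ ⥤ EtCoh.Ab X,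
        Groth.Agent.Helper6.CF.Surj
          ((constantSheaf X.smallEtaleTopology AddCommGrpCat.{u + 1}).obj
            (AddCommGrpCat.of (ULift ℤ))) 0 D ∧
        Groth.Agent.Helper6.CF.Inj
          ((constantSheaf X.smallEtaleTopology AddCommGrpCat.{u + 1}).obj
            (AddCommGrpCat.of (ULift ℤ))) 0 D := by
      intro D
      constructor
      · intro x
        obtain ⟨l, y₀, hy₀⟩ := Groth.Agent.Helper4.SecQC.surj_QC2 D (colimit.isColimit D) hqc2
          (Sheaf.H.equiv₀ (colimit D) Groth.Agent.Helper4.EtCartan.hT x)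
        refine ⟨l, (Sheaf.H.equiv₀ (D.obj l) Groth.Agent.Helper4.EtCartan.hT).symm y₀, ?_⟩
        have := Sheaf.H.equiv₀_symm_naturality (hT := Groth.Agent.Helper4.EtCartan.hT)
          (colimit.ι D l) y₀
        refine this.trans ?_
        apply (Sheaf.H.equiv₀ (colimit D) Groth.Agent.Helper4.EtCartan.hT).injective
        rw [AddEquiv.apply_symm_apply]
        exact hy₀
      · intro l y hy
        have h1 := Sheaf.H.equiv₀_naturality (hT := Groth.Agent.Helper4.EtCartan.hT)
          (colimit.ι D l) y
        have hy' : Sheaf.H.map (colimit.ι D l) 0 y = 0 := hy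
        rw [hy', map_zero] at h1
        obtain ⟨m, a, ha⟩ := Groth.Agent.Helper4.SecQC.inj_QC1 D (colimit.isColimit D) hqc2.qc1
          (Sheaf.H.equiv₀ (D.obj l) Groth.Agent.Helper4.EtCartan.hT y) 0 (by
            rw [map_zero]; exact h1)
        refine ⟨m, a, ?_⟩
        apply (Sheaf.H.equiv₀ (D.obj m) Groth.Agent.Helper4.EtCartan.hT).injective
        have h2 := Sheaf.H.equiv₀_naturality (hT := Groth.Agent.Helper4.EtCartan.hT) (D.map a) y
        rw [map_zero]
        refine h2.symm.trans ?_
        rw [ha, map_zero]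
    have hv : ∀ (q : ℕ) (I : Λ ⥤ EtCoh.Ab X), (∀ l, Injective (I.obj l)) →
        ∀ x : Abelian.Ext.{u + 1} ((constantSheaf X.smallEtaleTopology AddCommGrpCat.{u + 1}).obj
            (AddCommGrpCat.of (ULift ℤ))) (colimit I) (q + 1), x = 0 := by
      intro q I hI x
      exact Groth.Agent.Helper4.EtCartan.cartan q (colimit I)
        (Groth.Agent.Helper4.EtCartan.acyc_colimit I (colimit.isColimit I)
          (fun l => Groth.Agent.Helper4.EtCartan.acyc_injective (I.obj l))) x
    have hall := Groth.Agent.Helper6.CF.all (Λ := Λ) _ h0 hv n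
    exact Groth.Agent.Helper6.CF.preserves _ n hall
  haveI : IsFiltered (AsSmall.{u + 1} J) :=
    IsFiltered.of_equivalence (AsSmall.equiv : J ≌ AsSmall.{u + 1} J)
  haveI := big (AsSmall.{u + 1} J)
  exact preservesColimitsOfShape_of_equiv (AsSmall.equiv : J ≌ AsSmall.{u + 1} J).symm _

end Groth.Agent.S0099
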