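import Groth.Statements.S0116
import Mathlib

set_option autoImplicit false
open CategoryTheory CategoryTheory.Limits AlgebraicGeometry Opposite
universe u
open EtBase

namespace Groth.Agent.S0116

lemma noeth_of_faithfullyFlat {A B : Type u} [CommRing A] [CommRing B] (φ : A →+* B)
    (h : φ.FaithfullyFlat) [IsNoetherianRing B] : IsNoetherianRing A := by
  algebraize [φ]
  have hff : Module.FaithfullyFlat A B := h
  rw [isNoetherianRing_iff, isNoetherian_iff'] at *
  let e : Ideal A ↪o Ideal B := OrderEmbedding.ofMapLEIff (Ideal.map (algebraMap A B))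
    (fun I J => ⟨fun hIJ => by
      rw [← Ideal.comap_map_eq_self_of_faithfullyFlat (B := B) I,
        ← Ideal.comap_map_eq_self_of_faithfullyFlat (B := B) J]
      exact Ideal.comap_mono hIJ, fun hIJ => Ideal.map_mono hIJ⟩)
  exact e.wellFoundedGT

set_option backward.isDefEq.respectTransparency.types false in
lemma aux {X Y : Scheme.{u}} (f : X ⟶ Y) [Surjective f] [Flat f] [LocallyOfFinitePresentation f]
    [IsLocallyNoetherian X] [IsAffine Y] : IsLocallyNoetherian Y := by
  obtain ⟨V', hV, e⟩ := f.isOpenMap.exists_opens_image_eq_of_prespectralSpace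
    f.continuous (by simp [Set.range_eq_univ.mpr f.surjective]) isOpen_univ isCompact_univ
  let V : X.Opens := V'
  have : CompactSpace V := isCompact_iff_compactSpace.mp hV
  obtain ⟨W, p, hsurj, hP, hW⟩ :=
    (V : Scheme.{u}).exists_hom_isAffine_of_isZariskiLocalAtSource @IsLocalIso
  have hflat : Flat p := IsLocalIso.le_of_isZariskiLocalAtSource @Flat _ _ _ hP
  have hlft : LocallyOfFiniteType p := IsLocalIso.le_of_isZariskiLocalAtSource @LocallyOfFiniteType _ _ _ hP
  have hWn : IsLocallyNoetherian W := LocallyOfFiniteType.isLocallyNoetherian (p ≫ V.ι)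
  let q : W ⟶ Y := p ≫ V.ι ≫ f
  have hqflat : Flat q := inferInstance
  have hqsurj : Surjective q := by
    refine ⟨fun y => ?_⟩
    have hy : y ∈ f '' (V : Set X) := by rw [e]; trivial
    obtain ⟨x, hx, rfl⟩ := hy
    obtain ⟨w, hw⟩ := hsurj.surj ⟨x, hx⟩
    refine ⟨w, ?_⟩
    simp only [q, Scheme.Hom.comp_apply, hw]
    rfl
  have hff : q.appTop.hom.FaithfullyFlat :=
    (Flat.flat_and_surjective_iff_faithfullyFlat_of_isAffine q).mp ⟨hqflat, hqsurj⟩
  have : IsNoetherianRing Γ(W, ⊤) :=
    IsLocallyNoetherian.component_noetherian ⟨⊤, isAffineOpen_top W⟩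
  have : IsNoetherianRing Γ(Y, ⊤) := noeth_of_faithfullyFlat _ hff
  exact isLocallyNoetherian_of_isOpenImmersion Y.isoSpec.hom

/-- If f : X → Y is surjective, flat and locally of finite presentation and X is locally Noetherian,
then Y is locally Noetherian. (This is the descent half of the statement that, for such f, X is
locally Noetherian if and only if Y is; the ascent half is the fact that a scheme locally of finite
type over a locally Noetherian scheme is locally Noetherian, and is not stated here.) -/
theorem result {X Y : Scheme.{u}} (f : X ⟶ Y) [Surjective f] [Flat f] [LocallyOfFinitePresentation f]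
    [IsLocallyNoetherian X] : IsLocallyNoetherian Y := by
  rw [isLocallyNoetherian_iff_openCover Y.affineCover]
  intro i
  have : IsLocallyNoetherian (pullback f (Y.affineCover.f i)) :=
    isLocallyNoetherian_of_isOpenImmersion (pullback.fst f (Y.affineCover.f i))
  exact aux (pullback.snd f (Y.affineCover.f i))

end Groth.Agent.S0116
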