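import Groth.Statements.S0119
import Mathlib
import Groth.Agent.Helper1.EtRed

set_option autoImplicit false
open CategoryTheory CategoryTheory.Limits AlgebraicGeometry Opposite
universe u
open EtBase

namespace Groth.Agent.S0119

open TensorProduct in
theorem reduced_of_etale_local {A B : Type u} [CommRing A] [CommRing B] [Algebra A B]
    [Algebra.Etale A B] (q : Ideal B) [q.IsPrime] (p : Ideal A) [p.IsPrime]
    (hpq : q.comap (algebraMap A B) = p)
    [_root_.IsReduced (Localization.AtPrime p)] : _root_.IsReduced (Localization.AtPrime q) := by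
  have hC : _root_.IsReduced (Localization.AtPrime p ⊗[A] B) :=
    Groth.Agent.Helper1.EtRed.isReduced_of_etale (Localization.AtPrime p) _
  have key : ∀ b : B, IsNilpotent b → ∃ a : p.primeCompl, a • b = 0 := by
    intro b hb
    have h1 : IsNilpotent ((1 : Localization.AtPrime p) ⊗ₜ[A] b) := by
      obtain ⟨n, hn⟩ := hb
      refine ⟨n, ?_⟩
      rw [Algebra.TensorProduct.tmul_pow, hn, tmul_zero]
    have h2 : (1 : Localization.AtPrime p) ⊗ₜ[A] b = 0 := hC.eq_zero _ h1
    exact (IsLocalizedModule.eq_zero_iff p.primeCompl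
      (TensorProduct.mk A (Localization.AtPrime p) B 1)).mp h2
  constructor
  intro z hz
  obtain ⟨b, s, rfl⟩ := IsLocalization.exists_mk'_eq q.primeCompl z
  obtain ⟨n, hn⟩ := hz
  rw [← IsLocalization.mk'_pow, IsLocalization.mk'_eq_zero_iff] at hn
  obtain ⟨t, ht⟩ := hn
  have hnil : IsNilpotent ((t : B) * b) := by
    refine ⟨n + 1, ?_⟩
    rw [mul_pow, pow_succ b n, ← mul_assoc, pow_succ (t : B) n, mul_assoc ((t:B)^n), ht]
    simp
  obtain ⟨a, ha⟩ := key _ hnil
  rw [IsLocalization.mk'_eq_zero_iff]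
  have hmem : algebraMap A B (a : A) * (t : B) ∈ q.primeCompl := by
    refine Submonoid.mul_mem _ ?_ t.2
    intro h
    have : (a : A) ∈ q.comap (algebraMap A B) := h
    rw [hpq] at this
    exact a.2 this
  refine ⟨⟨_, hmem⟩, ?_⟩
  rw [Submonoid.smul_def, Algebra.smul_def] at ha
  simpa [mul_assoc] using ha

/-- Let f : X → Y be an étale morphism of schemes with Y locally Noetherian, and let x ∈ X. Then the
local ring O_{X,x} is reduced if and only if the local ring O_{Y,f(x)} is reduced. -/
theorem result {X Y : Scheme.{u}} (f : X ⟶ Y) [AlgebraicGeometry.Etale f]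
    [IsLocallyNoetherian Y] (x : X) :
    _root_.IsReduced (X.presheaf.stalk x) ↔ _root_.IsReduced (Y.presheaf.stalk (f.base x)) := by
  constructor
  · intro h
    algebraize [(f.stalkMap x).hom]
    have : IsLocalHom (algebraMap (Y.presheaf.stalk (f x)) (X.presheaf.stalk x)) :=
      inferInstanceAs <| IsLocalHom (f.stalkMap x).hom
    have : Module.Flat (Y.presheaf.stalk (f x)) (X.presheaf.stalk x) := by
      have := Flat.stalkMap f x
      rwa [← RingHom.flat_algebraMap_iff, RingHom.algebraMap_toAlgebra]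
    have : Module.FaithfullyFlat (Y.presheaf.stalk (f x)) (X.presheaf.stalk x) :=
      Module.FaithfullyFlat.of_flat_of_isLocalHom
    exact isReduced_of_injective (algebraMap (Y.presheaf.stalk (f x)) (X.presheaf.stalk x))
      (FaithfulSMul.algebraMap_injective _ _)
  · intro h
    obtain ⟨V, hV, hyV⟩ : ∃ V : Y.Opens, IsAffineOpen V ∧ f x ∈ V := by
      obtain ⟨_, ⟨V, hV, rfl⟩, hyV, -⟩ :=
        (Y.isBasis_affineOpens).exists_subset_of_mem_open (Set.mem_univ (f x)) isOpen_univ
      exact ⟨V, hV, hyV⟩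
    obtain ⟨U, hU, hxU, hUV⟩ : ∃ U : X.Opens, IsAffineOpen U ∧ x ∈ U ∧ U ≤ f ⁻¹ᵁ V := by
      obtain ⟨_, ⟨U, hU, rfl⟩, hxU, hUV⟩ :=
        (X.isBasis_affineOpens).exists_subset_of_mem_open (show x ∈ (f ⁻¹ᵁ V : Set X) from hyV)
          (f ⁻¹ᵁ V).isOpen
      exact ⟨U, hU, hxU, hUV⟩
    have het : RingHom.Etale (f.appLE V U hUV).hom :=
      HasRingHomProperty.appLE (P := @Etale) f ‹_› ⟨V, hV⟩ ⟨U, hU⟩ hUV
    let e := IsAffineOpen.arrowStalkMapIso f V hV U hU hUV hxU
    let := (f.appLE V U hUV).hom.toAlgebra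
    have : Algebra.Etale Γ(Y, V) Γ(X, U) := het
    have h0 : _root_.IsReduced ↑(Arrow.mk (Scheme.Hom.stalkMap f x)).left := h
    have h1 : _root_.IsReduced (Localization.AtPrime (hV.primeIdealOf ⟨f x, hUV hxU⟩).asIdeal) :=
      isReduced_of_injective (inv e.hom.left).hom
        (ConcreteCategory.bijective_of_isIso (inv e.hom.left)).injective
    have h2 : _root_.IsReduced (Localization.AtPrime (hU.primeIdealOf ⟨x, hxU⟩).asIdeal) :=
      reduced_of_etale_local _ (hV.primeIdealOf ⟨f x, hUV hxU⟩).asIdeal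
        congr($(IsAffineOpen.comap_primeIdealOf_appLE V hV U hU hUV hxU).1)
    have h3 : _root_.IsReduced ↑(Arrow.mk
          (CommRingCat.ofHom
            (Localization.localRingHom (hV.primeIdealOf ⟨f x, hUV hxU⟩).asIdeal
              (hU.primeIdealOf ⟨x, hxU⟩).asIdeal
              (CommRingCat.Hom.hom (Scheme.Hom.appLE f V U hUV))
              congr($(IsAffineOpen.comap_primeIdealOf_appLE V hV U hU hUV hxU).1).symm))).right := h2
    exact isReduced_of_injective e.hom.right.hom
        (ConcreteCategory.bijective_of_isIso e.hom.right).injective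

end Groth.Agent.S0119
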