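import Groth.Statements.S0127
import Groth.Agent.Helper4.StrataD
import Mathlib

set_option autoImplicit false
universe u
open CategoryTheory CategoryTheory.Limits AlgebraicGeometry Opposite
open EtPBC

namespace Groth.Agent.S0127


/-- Abelian case: if F is a constructible abelian sheaf on Y_et and f : X -> Y is any morphism of
schemes, then f^* F is constructible on X_et. -/
theorem result {X Y : Scheme.{u}} (f : X ⟶ Y) [EtCoh.BCCont f]
    (F : EtCoh.Ab Y) (hF : EtPBC.IsConstructible F) :
    EtPBC.IsConstructible ((EtCoh.pull f).obj F) := by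

  intro U hU
  rw [← Groth.Agent.Helper4.StrataB.strat_iff]
  haveI : QuasiSeparatedSpace ↥(U : Set X) :=
    (isQuasiSeparated_iff_quasiSeparatedSpace _ U.2).1 hU.isQuasiSeparated
  refine Groth.Agent.Helper4.StrataD.strat_of_local _ U hU.isCompact ?_
  intro x hx
  obtain ⟨V, hV, hxV, -⟩ := (TopologicalSpace.Opens.isBasis_iff_nbhd.1 Y.isBasis_affineOpens)
    (show f x ∈ (⊤ : Y.Opens) from trivial)
  have hx' : x ∈ U ⊓ f ⁻¹ᵁ V := ⟨hx, hxV⟩
  obtain ⟨W, hW, hxW, hWU⟩ := (TopologicalSpace.Opens.isBasis_iff_nbhd.1 X.isBasis_affineOpens) hx'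
  refine ⟨W, hW, hxW, hWU.trans inf_le_left, ?_⟩
  exact Groth.Agent.Helper4.StrataB.strat_pull f F V W (hWU.trans inf_le_right)
    ((Groth.Agent.Helper4.StrataB.strat_iff F _).2 (hF V hV))

end Groth.Agent.S0127
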