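import Groth.Statements.S0128
import Groth.Agent.Helper4.StrataD
import Mathlib

set_option autoImplicit false
universe u
open CategoryTheory CategoryTheory.Limits AlgebraicGeometry Opposite
open EtPBC

namespace Groth.Agent.S0128


/-- (1) iff (3), abelian case: for X quasi-compact and quasi-separated, F is constructible iff X itself
admits a finite partition into constructible locally closed strata along which F becomes finite
locally constant. -/
theorem result (X : Scheme.{u}) [CompactSpace X] [QuasiSeparatedSpace X]
    (F : EtCoh.Ab X) :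
    EtPBC.IsConstructible F ↔ EtPBC.AdaptedStrata F (Set.univ : Set X) := by

  constructor
  · intro hF
    rw [← Groth.Agent.Helper4.StrataB.strat_iff]
    haveI : QuasiSeparatedSpace ↥((⊤ : X.Opens) : Set X) :=
      (isQuasiSeparated_iff_quasiSeparatedSpace _ (⊤ : X.Opens).2).1
        (IsQuasiSeparated.of_quasiSeparatedSpace _)
    have h := Groth.Agent.Helper4.StrataD.strat_of_local F (⊤ : X.Opens)
      (by rw [TopologicalSpace.Opens.coe_top]; exact isCompact_univ) (by
        intro x _
        obtain ⟨W, hW, hxW, hWU⟩ := (TopologicalSpace.Opens.isBasis_iff_nbhd.1 X.isBasis_affineOpens)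
          (show x ∈ (⊤ : X.Opens) from trivial)
        exact ⟨W, hW, hxW, hWU, (Groth.Agent.Helper4.StrataB.strat_iff F _).2 (hF W hW)⟩)
    rw [TopologicalSpace.Opens.coe_top] at h
    exact h
  · intro h U hU
    rw [← Groth.Agent.Helper4.StrataB.strat_iff] at h ⊢
    have h' : Groth.Agent.Helper4.StrataB.Strat F ((⊤ : X.Opens) : Set X) := by
      rw [TopologicalSpace.Opens.coe_top]
      exact h
    have h2 := Groth.Agent.Helper4.StrataB.strat_pull (𝟙 X) F ⊤ U le_top h'
    exact Groth.Agent.Helper4.StrataC.strat_of_iso ((Groth.Agent.Helper9.EtRetr.pullId X).app F) h2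

end Groth.Agent.S0128
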