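import Groth.Statements.S0129
import Groth.Agent.Helper4.StrataD
import Mathlib

set_option autoImplicit false
universe u
open CategoryTheory CategoryTheory.Limits AlgebraicGeometry Opposite
open EtPBC

namespace Groth.Agent.S0129


/-- Abelian case: if X is covered by opens U_i and the restriction of F to each U_i is constructible,
then F is constructible. -/
theorem result {X : Scheme.{u}} (F : EtCoh.Ab X) {ι : Type u} (U : ι → X.Opens)
    (hU : ⨆ i, U i = ⊤) [∀ i, EtCoh.BCCont (U i).ι]
    (h : ∀ i, EtPBC.IsConstructible ((EtCoh.pull (U i).ι).obj F)) :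
    EtPBC.IsConstructible F := by

  intro V hV
  rw [← Groth.Agent.Helper4.StrataB.strat_iff]
  haveI : QuasiSeparatedSpace ↥(V : Set X) :=
    (isQuasiSeparated_iff_quasiSeparatedSpace _ V.2).1 hV.isQuasiSeparated
  refine Groth.Agent.Helper4.StrataD.strat_of_local _ V hV.isCompact ?_
  intro x hx
  have hx1 : x ∈ ⨆ i, U i := by rw [hU]; trivial
  obtain ⟨i, hxi⟩ := TopologicalSpace.Opens.mem_iSup.1 hx1
  have hx' : x ∈ V ⊓ U i := ⟨hx, hxi⟩
  obtain ⟨W, hW, hxW, hWU⟩ := (TopologicalSpace.Opens.isBasis_iff_nbhd.1 X.isBasis_affineOpens) hx'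
  refine ⟨W, hW, hxW, hWU.trans inf_le_left, ?_⟩
  have hWi : W ≤ (U i).ι.opensRange := by
    rw [Scheme.Opens.opensRange_ι]
    exact hWU.trans inf_le_right
  have hW' : IsAffineOpen ((U i).ι ⁻¹ᵁ W) := hW.preimage_of_isOpenImmersion (U i).ι hWi
  have h1 := (Groth.Agent.Helper4.StrataB.strat_iff _ _).2 (h i _ hW')
  have h2 := Groth.Agent.Helper4.StrataC.strat_push (U i).ι F _ h1
  have h3 : (U i).ι '' (((U i).ι ⁻¹ᵁ W : (U i).toScheme.Opens) : Set (U i).toScheme) = (W : Set X) := by
    rw [Scheme.Hom.coe_preimage, Set.image_preimage_eq_inter_range, Scheme.Opens.range_ι]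
    exact Set.inter_eq_left.2 (hWU.trans inf_le_right)
  rw [h3] at h2
  exact h2

end Groth.Agent.S0129
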