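import Groth.Statements.S0130
import Groth.Agent.Helper4.StrataF
import Mathlib

set_option autoImplicit false
universe u
open CategoryTheory CategoryTheory.Limits AlgebraicGeometry Opposite
open EtPBC

namespace Groth.Agent.S0130


/-- Abelian case: X quasi-compact and quasi-separated, T_i -> X immersions with constructible images
covering X, and F pulled back to each T_i constructible; then F is constructible. -/
theorem result (X : Scheme.{u}) [CompactSpace X] [QuasiSeparatedSpace X]
    (F : EtCoh.Ab X) {ι : Type u} (T : ι → Scheme.{u}) (g : ∀ i, T i ⟶ X) [∀ i, IsImmersion (g i)]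
    [∀ i, EtCoh.BCCont (g i)]
    (hc : ∀ i, Topology.IsConstructible (Set.range (g i)))
    (hcov : (⋃ i, Set.range (g i)) = Set.univ)
    (h : ∀ i, EtPBC.IsConstructible ((EtCoh.pull (g i)).obj F)) :
    EtPBC.IsConstructible F := by

  classical
  open Groth.Agent.Helper4.StrataB Groth.Agent.Helper4.StrataE Groth.Agent.Helper4.StrataF
    Groth.Agent.Helper4.ConsTop Groth.Agent.Helper4.FlcPull in
  obtain ⟨t, ht⟩ := exists_finite_cover (fun i => Set.range (g i)) hc hcov
  let e : Fin t.card ≃ t := t.equivFin.symm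
  haveI : ∀ i, CompactSpace (T i) := fun i => compactSpace_of_isConstructible_range (g i) (hc i)
  haveI : ∀ i, QuasiSeparatedSpace (T i) := fun i => quasiSeparatedSpace_of_quasiSeparated (g i)
  choose κ hκ S q h1 h2 h3 h4 h5 using
    fun l : Fin t.card => strat_univ_of_isConstructible _ (h (e l).1)
  haveI : ∀ l, Finite (κ l) := hκ
  haveI : ∀ l k, IsImmersion (q l k) := h1
  apply isConstructible_of_strat_univ
  refine strat_of_cover F (A := Σ l, κ l) (fun a => S a.1 a.2) (fun a => q a.1 a.2 ≫ g (e a.1).1)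
    (fun a => ?_) ?_ (fun a => ?_)
  · rw [Scheme.Hom.comp_base, TopCat.coe_comp, Set.range_comp]
    exact isConstructible_image (g (e a.1).1).isEmbedding (hc _)
      (isConstructible_of_cIn_univ (h2 a.1 a.2))
  · apply Set.eq_univ_of_forall
    intro x
    have hx : x ∈ ⋃ i ∈ t, Set.range (g i) := by rw [ht]; trivial
    simp only [Set.mem_iUnion] at hx
    obtain ⟨i, hi, hxi⟩ := hx
    obtain ⟨l, hl⟩ := e.surjective ⟨i, hi⟩
    have hxl : x ∈ Set.range (g (e l).1) := by rw [hl]; exact hxi
    obtain ⟨y, rfl⟩ := hxl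
    have hy : y ∈ ⋃ k, Set.range (q l k) := by rw [h4 l]; trivial
    obtain ⟨k, w, hw⟩ := Set.mem_iUnion.1 hy
    refine Set.mem_iUnion.2 ⟨⟨l, k⟩, w, ?_⟩
    show (q l k ≫ g (e l).1) w = g (e l).1 y
    rw [Scheme.Hom.comp_apply, hw]
  · exact flc_of_iso (pullCompObj _ _ F) (h5 a.1 a.2)

end Groth.Agent.S0130
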