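import Groth.Statements.S0132
import Groth.Agent.Helper4.LcExtD
import Groth.Agent.Helper4.StrataG
import Mathlib

set_option autoImplicit false
universe u
open CategoryTheory CategoryTheory.Limits AlgebraicGeometry Opposite
open EtPBC

namespace Groth.Agent.S0132


/-- Let X be a scheme and n > 0 an integer. In a short exact sequence of abelian sheaves on X_ét whose
middle term is killed by n (so that it is a short exact sequence of sheaves of Z/n-modules) and
whose outer terms are constructible, the middle term is constructible. (The analogous statement
without the torsion hypothesis on the middle term is not asserted here.) -/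
theorem result {X : Scheme.{u}} (S : ShortComplex (EtCoh.Ab X)) (hS : S.ShortExact)
    (n : ℕ) (hn : 0 < n) (h2n : EtCoh.KilledBy n S.X₂)
    (h1 : EtPBC.IsConstructible S.X₁) (h3 : EtPBC.IsConstructible S.X₃) :
    EtPBC.IsConstructible S.X₂ := by

  open Groth.Agent.Helper4.StrataB Groth.Agent.Helper4.StrataG Groth.Agent.Helper4.FlcPull in
  intro U hU
  rw [← strat_iff]
  refine strat_of_common ((strat_iff S.X₁ _).2 (h1 U hU)) ((strat_iff S.X₃ _).2 (h3 U hU)) ?_
  intro T g k1 k3
  exact Groth.Agent.Helper4.LcExtD.flc_ext (S.map (EtCoh.pull g)) (hS.map_of_exact (EtCoh.pull g)) k1 k3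

end Groth.Agent.S0132
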