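import Groth.Statements.S0152
import Mathlib
import Groth.Agent.Lead.Spectral

set_option autoImplicit false
universe u
open EtPBC

namespace Groth.Agent.S0152

open Groth.Agent.Lead.Spectral

/-- Let X be a spectral space and Z a closed subset such that Z meets the closure of every point of X in
a connected (nonempty) set. If Z is the disjoint union of two closed subsets Z_1, Z_2 then X is the
disjoint union of closed subsets X_1, X_2 with Z_i = Z ∩ X_i. -/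
theorem result (X : Type u) [TopologicalSpace X] [SpectralSpace X]
    (Z : Set X) (hZ : IsClosed Z)
    (hconn : ∀ x : X, IsConnected (Z ∩ closure {x}))
    (Z₁ Z₂ : Set X) (h₁ : IsClosed Z₁) (h₂ : IsClosed Z₂) (hdisj : Disjoint Z₁ Z₂) (hunion : Z₁ ∪ Z₂ = Z) :
    ∃ X₁ X₂ : Set X, IsClosed X₁ ∧ IsClosed X₂ ∧ Disjoint X₁ X₂ ∧ X₁ ∪ X₂ = Set.univ ∧
      Z₁ = Z ∩ X₁ ∧ Z₂ = Z ∩ X₂ := by
  classical
  have hdisj' : ∀ z, z ∈ Z₁ → z ∈ Z₂ → False := fun z h1 h2 =>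
    (Set.disjoint_iff.1 hdisj) ⟨h1, h2⟩
  -- dichotomy
  have hdich : ∀ x : X, (Z ∩ closure {x} ⊆ Z₁) ∨ (Z ∩ closure {x} ⊆ Z₂) := by
    intro x
    by_contra hcon
    rw [not_or] at hcon
    obtain ⟨hc1, hc2⟩ := hcon
    rw [Set.not_subset] at hc1 hc2
    obtain ⟨a, ha, ha1⟩ := hc1
    obtain ⟨b, hb, hb2⟩ := hc2
    have ha2 : a ∈ Z₂ := by
      have : a ∈ Z₁ ∪ Z₂ := by rw [hunion]; exact ha.1
      exact this.resolve_left ha1
    have hb1 : b ∈ Z₁ := by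
      have : b ∈ Z₁ ∪ Z₂ := by rw [hunion]; exact hb.1
      exact this.resolve_right hb2
    have hpre := (hconn x).isPreconnected
    rw [isPreconnected_closed_iff] at hpre
    obtain ⟨c, -, hc1, hc2⟩ := hpre Z₁ Z₂ h₁ h₂
      (by rw [hunion]; exact Set.inter_subset_left) ⟨b, hb, hb1⟩ ⟨a, ha, ha2⟩
    exact hdisj' c hc1 hc2
  have hnot : ∀ x : X, ¬ ((Z ∩ closure {x} ⊆ Z₁) ∧ (Z ∩ closure {x} ⊆ Z₂)) := by
    rintro x ⟨h1, h2⟩
    obtain ⟨a, ha⟩ := (hconn x).nonempty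
    exact hdisj' a (h1 ha) (h2 ha)
  have hsep : ∀ x : X, ¬ ((closure {x} ∩ Z₁).Nonempty ∧ (closure {x} ∩ Z₂).Nonempty) := by
    rintro x ⟨⟨a, hac, ha1⟩, ⟨b, hbc, hb2⟩⟩
    have haZ : a ∈ Z ∩ closure {x} := ⟨by rw [← hunion]; exact Or.inl ha1, hac⟩
    have hbZ : b ∈ Z ∩ closure {x} := ⟨by rw [← hunion]; exact Or.inr hb2, hbc⟩
    rcases hdich x with h | h
    · exact hdisj' b (h hbZ) hb2
    · exact hdisj' a ha1 (h haZ)
  obtain ⟨U₁, U₂, hU₁, hU₂, hZU₁, hZU₂, hUd⟩ := exists_disjoint_open_of_closed h₁ h₂ hsep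
  have hX1U : ∀ x, Z ∩ closure {x} ⊆ Z₁ → x ∈ U₁ := by
    intro x hx
    obtain ⟨a, ha⟩ := (hconn x).nonempty
    have haU : a ∈ U₁ := hZU₁ (hx ha)
    have : (U₁ ∩ {x}).Nonempty := mem_closure_iff.1 ha.2 U₁ hU₁ haU
    obtain ⟨y, hy1, hy2⟩ := this
    rw [Set.mem_singleton_iff] at hy2
    rwa [hy2] at hy1
  have hX2U : ∀ x, Z ∩ closure {x} ⊆ Z₂ → x ∈ U₂ := by
    intro x hx
    obtain ⟨a, ha⟩ := (hconn x).nonempty
    have haU : a ∈ U₂ := hZU₂ (hx ha)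
    have : (U₂ ∩ {x}).Nonempty := mem_closure_iff.1 ha.2 U₂ hU₂ haU
    obtain ⟨y, hy1, hy2⟩ := this
    rw [Set.mem_singleton_iff] at hy2
    rwa [hy2] at hy1
  have hUd' : ∀ x, x ∈ U₁ → x ∈ U₂ → False := fun x h1 h2 => (Set.disjoint_iff.1 hUd) ⟨h1, h2⟩
  have hX1 : {x | Z ∩ closure {x} ⊆ Z₁} = U₂ᶜ := by
    ext x
    constructor
    · intro hx hx2
      exact hUd' x (hX1U x hx) hx2
    · intro hx
      rcases hdich x with h | h
      · exact h
      · exact absurd (hX2U x h) hx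
  have hX2 : {x | Z ∩ closure {x} ⊆ Z₂} = U₁ᶜ := by
    ext x
    constructor
    · intro hx hx1
      exact hUd' x hx1 (hX2U x hx)
    · intro hx
      rcases hdich x with h | h
      · exact absurd (hX1U x h) hx
      · exact h
  refine ⟨{x | Z ∩ closure {x} ⊆ Z₁}, {x | Z ∩ closure {x} ⊆ Z₂}, ?_, ?_, ?_, ?_, ?_, ?_⟩
  · rw [hX1]; exact hU₂.isClosed_compl
  · rw [hX2]; exact hU₁.isClosed_compl
  · rw [Set.disjoint_iff]
    rintro x ⟨h1, h2⟩
    exact hnot x ⟨h1, h2⟩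
  · ext x
    simp only [Set.mem_union, Set.mem_ofPred_eq, Set.mem_univ, iff_true]
    exact hdich x
  · ext z
    constructor
    · intro hz
      have hzZ : z ∈ Z := by rw [← hunion]; exact Or.inl hz
      refine ⟨hzZ, ?_⟩
      rcases hdich z with h | h
      · exact h
      · exact absurd (h ⟨hzZ, subset_closure rfl⟩) (fun h2 => hdisj' z hz h2)
    · rintro ⟨hzZ, hz⟩
      exact hz ⟨hzZ, subset_closure rfl⟩
  · ext z
    constructor
    · intro hz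
      have hzZ : z ∈ Z := by rw [← hunion]; exact Or.inr hz
      refine ⟨hzZ, ?_⟩
      rcases hdich z with h | h
      · exact absurd (h ⟨hzZ, subset_closure rfl⟩) (fun h1 => hdisj' z h1 hz)
      · exact h
    · rintro ⟨hzZ, hz⟩
      exact hz ⟨hzZ, subset_closure rfl⟩

end Groth.Agent.S0152
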