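import Groth.Statements.S0161
import Mathlib
import Groth.Agent.Helper9.StalkBC5
import Groth.Agent.Helper9.PushEpiAb
import Groth.Agent.Helper9.LocalBFin
import Groth.Agent.Helper9.PropBOfLocal
-- import your own Groth.Agent.* helpers here

set_option autoImplicit false
universe u
open CategoryTheory CategoryTheory.Limits AlgebraicGeometry Opposite
open EtPBC

namespace Groth.Agent.S0161

/-- For a finite morphism f : X -> Y, cohomology commutes with base change: for every cartesian square
and torsion abelian F on X_et and every q, g^* R^q f_* F ≅ R^q f'_* g'^* F (abstract-isomorphism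
form). -/
theorem result {X Y : Scheme.{u}} (f : X ⟶ Y) [IsFinite f] [EtCoh.BCCont f] :
    EtPBC.CohCommutesWithBC f := by
  intro X' Y' f' g' g _ _ _ h F _ q
  haveI hf' : IsFinite f' := MorphismProperty.of_isPullback h inferInstance
  rcases Nat.eq_zero_or_pos q with rfl | hq
  · haveI : (EtCoh.push f).IsRightAdjoint := (EtCoh.pullPushAdj f).isRightAdjoint
    haveI : (EtCoh.push f').IsRightAdjoint := (EtCoh.pullPushAdj f').isRightAdjoint
    haveI := Groth.Agent.Helper9.StalkBC5.main f g f' g' h F
    exact ⟨(EtCoh.pull g).mapIso ((EtCoh.push f).rightDerivedZeroIsoSelf.app F) ≪≫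
      asIso (EtCoh.baseChange0 f g f' g' h.w F) ≪≫
      ((EtCoh.push f').rightDerivedZeroIsoSelf.app ((EtCoh.pull g').obj F)).symm⟩
  · have h1 : IsZero ((EtCoh.Rpush f q).obj F) :=
      Groth.Agent.Helper9.PushEpiAb.isZero_Rpush
        (Groth.Agent.Helper9.LocalB.propB_of_isFinite f) F q hq
    have h2 : IsZero ((EtCoh.Rpush f' q).obj ((EtCoh.pull g').obj F)) :=
      Groth.Agent.Helper9.PushEpiAb.isZero_Rpush
        (Groth.Agent.Helper9.LocalB.propB_of_isFinite f') _ q hq
    haveI : (EtCoh.pull g).IsLeftAdjoint := (EtCoh.pullPushAdj g).isLeftAdjoint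
    have h3 : IsZero ((EtCoh.pull g).obj ((EtCoh.Rpush f q).obj F)) :=
      Functor.map_isZero (EtCoh.pull g) h1
    exact ⟨h3.iso h2⟩

end Groth.Agent.S0161
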