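import Groth.Statements.S0179
import Mathlib
import Groth.Agent.Lead.Spectral3

set_option autoImplicit false
universe u
open EtPBC

namespace Groth.Agent.S0179

open Groth.Agent.Lead.Spectral

/-- For a spectral space X with set of closed points X_0, the following are equivalent: (1) any open
cover of X admits a refinement by finitely many pairwise disjoint open-and-closed pieces; (2) the
map from X_0 to the space of connected components pi_0(X) is a bijection. -/
theorem result (X : Type u) [TopologicalSpace X] [SpectralSpace X] :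
    (∀ (ι : Type u) (U : ι → Set X), (∀ i, IsOpen (U i)) → (⋃ i, U i) = Set.univ →
      ∃ (n : ℕ) (V : Fin n → Set X), (∀ k, IsClopen (V k)) ∧
        Pairwise (fun k l => Disjoint (V k) (V l)) ∧ (⋃ k, V k) = Set.univ ∧ ∀ k, ∃ i, V k ⊆ U i) ↔
    Function.Bijective (fun x : {x : X // IsClosed ({x} : Set X)} => _root_.ConnectedComponents.mk x.1) := by
  classical
  constructor
  · intro H
    refine ⟨?_, surjective_closedPoints⟩
    rintro ⟨z₁, hz₁⟩ ⟨z₂, hz₂⟩ h
    change ConnectedComponents.mk z₁ = ConnectedComponents.mk z₂ at h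
    by_contra hne
    have hne' : z₁ ≠ z₂ := fun e => hne (Subtype.ext e)
    obtain ⟨n, V, hVc, -, hVu, hVU⟩ := H (ULift Bool)
      (fun b => if b.down then ({z₁} : Set X)ᶜ else ({z₂} : Set X)ᶜ)
      (by
        intro b
        by_cases hb : b.down
        · simp only [hb, if_true]; exact hz₁.isOpen_compl
        · simp only [hb]; exact hz₂.isOpen_compl)
      (by
        ext z
        simp only [Set.mem_iUnion, Set.mem_univ, iff_true]
        by_cases hz : z = z₁
        · exact ⟨⟨false⟩, by simp [hz, hne']⟩
        · exact ⟨⟨true⟩, by simp [hz]⟩)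
    have h1 : z₁ ∈ ⋃ k, V k := by rw [hVu]; trivial
    obtain ⟨k, hk⟩ := Set.mem_iUnion.1 h1
    obtain ⟨b, hb⟩ := hVU k
    have hz₂c : z₂ ∈ connectedComponent z₁ := by
      rw [← ConnectedComponents.coe_eq_coe']
      exact h.symm
    have hz₂V : z₂ ∈ V k := (hVc k).connectedComponent_subset hk hz₂c
    by_cases hb' : b.down
    · have := hb hk
      simp only [hb', if_true] at this
      exact this rfl
    · have := hb hz₂V
      simp only [hb'] at this
      exact this rfl
  · intro hbij ι U hU hUu
    have hW : ∀ x : X, ∃ W : Set X, IsClopen W ∧ x ∈ W ∧ ∃ i, W ⊆ U i := by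
      intro x
      obtain ⟨z, hz, hzc⟩ := IsClosed.exists_closed_singleton
        (isClosed_connectedComponent (x := x)) ⟨x, mem_connectedComponent⟩
      have hzu : z ∈ ⋃ i, U i := by rw [hUu]; trivial
      obtain ⟨i, hi⟩ := Set.mem_iUnion.1 hzu
      have hsub : connectedComponent x ⊆ U i := by
        intro y hy
        obtain ⟨z', hz', hz'c⟩ := IsClosed.exists_closed_singleton
          (isClosed_closure (s := ({y} : Set X))) ⟨y, subset_closure rfl⟩
        have hz'comp : z' ∈ connectedComponent x := by
          rw [connectedComponent_eq hy]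
          exact closure_singleton_subset_connectedComponent y hz'
        have heq : (⟨z', hz'c⟩ : {x : X // IsClosed ({x} : Set X)}) = ⟨z, hzc⟩ := hbij.1 (by
          change ConnectedComponents.mk z' = ConnectedComponents.mk z
          rw [ConnectedComponents.coe_eq_coe, ← connectedComponent_eq hz'comp,
            ← connectedComponent_eq hz])
        have hzz : z' = z := congrArg Subtype.val heq
        rw [hzz] at hz'
        exact mem_of_mem_closure_singleton (hU i) hz' hi
      obtain ⟨W, hW1, hW2, hW3⟩ := exists_isClopen_of_connectedComponent_subset x (hU i) hsub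
      exact ⟨W, hW1, hW2, i, hW3⟩
    choose W hWc hxW hWU using hW
    obtain ⟨t, ht⟩ := isCompact_univ.elim_finite_subcover W (fun x => (hWc x).2)
      (fun x _ => Set.mem_iUnion.2 ⟨x, hxW x⟩)
    let e : Fin t.card ≃ t := t.equivFin.symm
    let f : Fin t.card → Set X := fun k => W (e k)
    refine ⟨t.card, disjointed f, ?_, ?_, ?_, ?_⟩
    · intro k
      exact disjointedRec (p := fun s => IsClopen s) (fun s i hs => hs.diff (hWc _)) (hWc _)
    · exact disjoint_disjointed f
    · rw [iUnion_disjointed]
      apply Set.eq_univ_of_univ_subset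
      intro x hx
      obtain ⟨y, hy⟩ := Set.mem_iUnion.1 (ht hx)
      obtain ⟨hyt, hxy⟩ := Set.mem_iUnion.1 hy
      refine Set.mem_iUnion.2 ⟨e.symm ⟨y, hyt⟩, ?_⟩
      change x ∈ W (e (e.symm ⟨y, hyt⟩))
      rw [Equiv.apply_symm_apply]
      exact hxy
    · intro k
      obtain ⟨i, hi⟩ := hWU (e k)
      exact ⟨i, (disjointed_subset f k).trans hi⟩

end Groth.Agent.S0179
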