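import Groth.Statements.S0180
import Mathlib
import Groth.Agent.Lead.Spectral3
import Groth.Agent.S0152

set_option autoImplicit false
universe u
open EtPBC

namespace Groth.Agent.S0180

open Groth.Agent.Lead.Spectral

/-- Final assertion: if X is spectral, the set X_0 of closed points is closed, and every point of X
specializes to exactly one closed point, then X_0 -> pi_0(X) is bijective (so X satisfies the
equivalent conditions of the lemma; such X are called w-local). -/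
theorem result (X : Type u) [TopologicalSpace X]
    [SpectralSpace X] (h0 : IsClosed {x : X | IsClosed ({x} : Set X)})
    (huniq : ∀ x : X, ∃! z : X, IsClosed ({z} : Set X) ∧ x ⤳ z) :
    Function.Bijective (fun x : {x : X // IsClosed ({x} : Set X)} => _root_.ConnectedComponents.mk x.1) := by
  classical
  refine ⟨?_, surjective_closedPoints⟩
  rintro ⟨z₁, hz₁⟩ ⟨z₂, hz₂⟩ h
  change ConnectedComponents.mk z₁ = ConnectedComponents.mk z₂ at h
  by_contra hne
  have hne' : z₁ ≠ z₂ := fun e => hne (Subtype.ext e)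
  obtain ⟨U, hU, hz₁U, hUsub⟩ :=
    (PrespectralSpace.isTopologicalBasis (X := X)).exists_subset_of_mem_open
      (show z₁ ∈ ({z₂} : Set X)ᶜ from hne') hz₂.isOpen_compl
  have hz₂U : z₂ ∉ U := fun h => hUsub h rfl
  set X₀ : Set X := {x : X | IsClosed ({x} : Set X)} with hX₀
  have hCC : CClosed (X₀ ∩ U) := (cclosed_of_isClosed h0).inter (cclosed_of_isCompact_isOpen hU.2 hU.1)
  have hZ₁ : IsClosed (X₀ ∩ U) := by
    rw [← isOpen_compl_iff, isOpen_iff_forall_mem_open]
    intro y hy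
    have hgen : ∀ w ∈ X₀ ∩ U, y ∉ closure ({w} : Set X) := by
      rintro w ⟨hw0, hwU⟩ hyw
      have hw0' : IsClosed ({w} : Set X) := hw0
      rw [hw0'.closure_eq, Set.mem_singleton_iff] at hyw
      apply hy
      rw [hyw]
      exact ⟨hw0, hwU⟩
    obtain ⟨O, hO, hyO, hOd⟩ := exists_open_nhds_disjoint hCC hgen
    exact ⟨O, fun z hz hz' => (Set.disjoint_iff.1 hOd) ⟨hz, hz'⟩, hO, hyO⟩
  have hZ₂ : IsClosed (X₀ ∩ Uᶜ) := h0.inter hU.1.isClosed_compl
  have hconn : ∀ x : X, IsConnected (X₀ ∩ closure {x}) := by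
    intro x
    obtain ⟨z, ⟨hz1, hz2⟩, hz3⟩ := huniq x
    have : X₀ ∩ closure {x} = {z} := by
      ext w
      constructor
      · rintro ⟨hw1, hw2⟩
        exact hz3 w ⟨hw1, specializes_iff_mem_closure.2 hw2⟩
      · intro hw
        rw [Set.mem_singleton_iff] at hw
        rw [hw]
        exact ⟨hz1, specializes_iff_mem_closure.1 hz2⟩
    rw [this]
    exact isConnected_singleton
  obtain ⟨X₁, X₂, hX₁, hX₂, hX₁₂, hXu, hZX₁, hZX₂⟩ := Groth.Agent.S0152.result X X₀ h0 hconn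
    (X₀ ∩ U) (X₀ ∩ Uᶜ) hZ₁ hZ₂
    (by
      rw [Set.disjoint_iff]
      rintro z ⟨⟨_, h1⟩, ⟨_, h2⟩⟩
      exact h2 h1)
    (by
      ext z
      constructor
      · rintro (⟨h1, _⟩ | ⟨h1, _⟩) <;> exact h1
      · intro hz
        by_cases hzU : z ∈ U
        · exact Or.inl ⟨hz, hzU⟩
        · exact Or.inr ⟨hz, hzU⟩)
  have hX₁eq : X₁ = X₂ᶜ := by
    ext z
    constructor
    · intro h1 h2
      exact (Set.disjoint_iff.1 hX₁₂) ⟨h1, h2⟩
    · intro h2
      have : z ∈ X₁ ∪ X₂ := by rw [hXu]; trivial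
      exact this.resolve_right h2
  have hX₁clopen : IsClopen X₁ := ⟨hX₁, by rw [hX₁eq]; exact hX₂.isOpen_compl⟩
  have hz₁X₁ : z₁ ∈ X₁ := by
    have : z₁ ∈ X₀ ∩ U := ⟨hz₁, hz₁U⟩
    rw [hZX₁] at this
    exact this.2
  have hz₂X₂ : z₂ ∈ X₂ := by
    have : z₂ ∈ X₀ ∩ Uᶜ := ⟨hz₂, hz₂U⟩
    rw [hZX₂] at this
    exact this.2
  have hsub := hX₁clopen.connectedComponent_subset hz₁X₁
  have hz₂c : z₂ ∈ connectedComponent z₁ := by
    rw [← ConnectedComponents.coe_eq_coe']
    exact h.symm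
  exact (Set.disjoint_iff.1 hX₁₂) ⟨hsub hz₂c, hz₂X₂⟩

end Groth.Agent.S0180
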