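import Groth.Statements.S0181
import Groth.Agent.Helper6.ConsM

set_option autoImplicit false
universe u
open CategoryTheory CategoryTheory.Limits AlgebraicGeometry Opposite
open EtPBC

namespace Groth.Agent.S0181

/-- (2): on a quasi-compact quasi-separated X, if F = colim F_j is a filtered colimit of constructible
abelian sheaves and F is itself constructible, then the ind-object (F_j) is essentially constant
with value F: there are i and s : F -> F_i splitting F_i -> F such that for every j the transition
F_j -> F_k, for some k beyond i and j, equals F_j -> F -> F_i -> F_k. -/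
theorem result (X : Scheme.{u}) [CompactSpace X] [QuasiSeparatedSpace X]
    {J : Type u} [SmallCategory J] [IsFiltered J] (D : J ⥤ EtCoh.Ab X)
    (c : Cocone D) (hc : IsColimit c)
    (hD : ∀ j, EtPBC.IsConstructible (D.obj j)) (hF : EtPBC.IsConstructible c.pt) :
    ∃ (i : J) (s : c.pt ⟶ D.obj i), s ≫ c.ι.app i = 𝟙 c.pt ∧
      ∀ j : J, ∃ (k : J) (a : i ⟶ k) (b : j ⟶ k), D.map b = c.ι.app j ≫ s ≫ D.map a := by
  have : IsFiltered (AsSmall.{u + 1} J) :=
    IsFiltered.of_equivalence (AsSmall.equiv : J ≌ AsSmall.{u + 1} J)
  have key : ∀ G : EtCoh.Ab X, EtPBC.IsConstructible G → Groth.Agent.Helper6.CptObj.IsCpt J G :=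
    fun G hG => Groth.Agent.Helper6.CptObj.isCpt_of_equivalence
      (AsSmall.equiv : J ≌ AsSmall.{u + 1} J)
      (Groth.Agent.Helper6.ConsM.isCpt_of_isConstructible (AsSmall.{u + 1} J) G hG)
  exact Groth.Agent.Helper6.CptObj.essentially_constant D c hc (fun j => key _ (hD j))
    (key _ hF)

end Groth.Agent.S0181
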