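import Groth.Statements.S0195
import Mathlib
import Groth.Agent.Helper7.BrauerEmb

set_option autoImplicit false
universe u v w
open scoped TensorProduct
open Curves

namespace Groth.Agent.S0195

/-- A finite extension k' of k splits a finite central simple algebra A exactly when some algebra
similar to A contains k' with dim equal to [k':k]^2. Uses Mathlib's bundled CSA and Brauer
equivalence. -/
theorem result (k : Type u) [Field k] (A : CSA.{u, u} k)
    (k' : Type u) [Field k'] [Algebra k k'] [FiniteDimensional k k'] :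
    Curves.Splits k A k' ↔ ∃ (B : CSA.{u, u} k) (_ : k' →ₐ[k] B), IsBrauerEquivalent A B ∧
      Module.finrank k B = Module.finrank k k' ^ 2 := by
  constructor
  · intro h
    obtain ⟨B, _, _, _, _, _, j, hdim, a, b, ha, hb, ⟨e⟩⟩ :=
      Groth.Agent.Helper7.BrauerEmb.exists_embedding_of_splits k k' A h
    exact ⟨{ toAlgCat := AlgCat.of k B }, j, ⟨a, b, ha, hb, ⟨e⟩⟩, hdim⟩
  · rintro ⟨B, j, ⟨n, m, hn, hm, ⟨e⟩⟩, hdim⟩
    have h1 : Curves.Splits k B k' :=
      Groth.Agent.Helper7.BrauerMax.splits_of_selfCentralizing j hdim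
    exact Groth.Agent.Helper7.BrauerSplit.splits_of_brauer m n hm hn e.symm h1

end Groth.Agent.S0195
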