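import Groth.Statements.S0197
import Mathlib

set_option autoImplicit false
universe u v w
open scoped TensorProduct
open Curves

namespace Groth.Agent.S0197

open Module Matrix

/-- column vectors as a module over `D` via an algebra map into a matrix ring. -/
def W {k : Type u} [Field k] {D : Type u} [Ring D] [Algebra k D] {k' : Type u} [Field k']
    [Algebra k k'] {n : ℕ} (_ρ : D →ₐ[k] Matrix (Fin n) (Fin n) k') : Type u := Fin n → k'

section
variable {k : Type u} [Field k] {D : Type u} [Ring D] [Algebra k D] {k' : Type u} [Field k']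
    [Algebra k k'] {n : ℕ} (ρ : D →ₐ[k] Matrix (Fin n) (Fin n) k')

instance : AddCommGroup (W ρ) := inferInstanceAs (AddCommGroup (Fin n → k'))
instance : Module k (W ρ) := inferInstanceAs (Module k (Fin n → k'))
instance : Module D (W ρ) := Module.compHom (Fin n → k') (ρ : D →+* Matrix (Fin n) (Fin n) k')

instance : IsScalarTower k D (W ρ) :=
  ⟨fun c d w => by
    change ρ (c • d) *ᵥ (show Fin n → k' from w) = c • (ρ d *ᵥ (show Fin n → k' from w))
    rw [map_smul, Matrix.smul_mulVec]⟩

theorem finrank_W [FiniteDimensional k k'] : finrank k (W ρ) = n * finrank k k' := by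
  change finrank k (Fin n → k') = _
  rw [Module.finrank_pi_fintype]
  simp

end

/-- If a finite central skew field D has dimension d^2, the degree of any finite splitting field of D is
divisible by d. -/
theorem result (k : Type u) [Field k]
    (D : Type u) [DivisionRing D] [Algebra k D] [Algebra.IsCentral k D] [FiniteDimensional k D]
    (d : ℕ) (hd : Module.finrank k D = d ^ 2)
    (k' : Type u) [Field k'] [Algebra k k'] [FiniteDimensional k k'] (hs : Curves.Splits k D k') :
    d ∣ Module.finrank k k' := by
  obtain ⟨n, hn, ⟨e⟩⟩ := hs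
  let ρ : D →ₐ[k] Matrix (Fin n) (Fin n) k' :=
    (e.restrictScalars k).toAlgHom.comp Algebra.TensorProduct.includeRight
  have h1 : finrank k D * finrank D (W ρ) = finrank k (W ρ) := Module.finrank_mul_finrank k D (W ρ)
  rw [finrank_W, hd] at h1
  have h2 : n * n = d ^ 2 := by
    have h3 : finrank k' (Matrix (Fin n) (Fin n) k') = n * n := by
      rw [Module.finrank_matrix]; simp
    have h4 : finrank k' (k' ⊗[k] D) = finrank k D := Module.finrank_baseChange
    rw [← h3, ← e.toLinearEquiv.finrank_eq, h4, hd]
  have hnd : n = d := by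
    rw [← pow_two] at h2
    exact Nat.pow_left_injective (n := 2) (by norm_num) h2
  subst hnd
  have hn0 : 0 < n := Nat.pos_of_ne_zero hn
  refine ⟨finrank D (W ρ), ?_⟩
  have h5 : n * (n * finrank D (W ρ)) = n * finrank k k' := by
    rw [← h1, pow_two, mul_assoc]
  exact (Nat.eq_of_mul_eq_mul_left hn0 h5).symm

end Groth.Agent.S0197
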