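import Groth.Statements.S0207
import Groth.Agent.Helper6.ASFinB
import Groth.Agent.S0469

set_option autoImplicit false
universe u
open CategoryTheory CategoryTheory.Limits AlgebraicGeometry
open Curves

namespace Groth.Agent.S0207

/-- On a quasi-compact quasi-separated scheme of dimension d on which the prime p is zero, étale
cohomology with Z/p coefficients vanishes from degree d+2 on. -/
theorem result (p : ℕ) [Fact p.Prime] (S : Scheme.{u}) [CompactSpace S] [QuasiSeparatedSpace S]
    (hp : (p : Γ(S, ⊤)) = 0) (d : ℕ) (hd : topologicalKrullDim S = d) (q : ℕ) (hq : 2 + d ≤ q) :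
    Subsingleton (EtCoh.H S (EtCoh.const S (ZMod p)) q) := by
  rcases isEmpty_or_nonempty S with hE | hN
  · exact Groth.Agent.Helper6.ASFinB.subsingleton_H_of_isEmpty S _ q
  · have hp' : p.Prime := Fact.out
    have : Nonempty (⊤ : S.Opens) := ⟨⟨Classical.arbitrary S, trivial⟩⟩
    have : Nontrivial Γ(S, ⊤) := Scheme.component_nontrivial S ⊤
    have hc : CharP Γ(S, ⊤) p := (CharP.charP_iff_prime_eq_zero hp').2 hp
    obtain ⟨m, rfl⟩ : ∃ m, q = m + 2 := ⟨q - 2, by omega⟩
    have hsp : SpectralSpace ↑S.toTopCat :=
      { toT0Space := inferInstanceAs (T0Space S)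
        toCompactSpace := inferInstanceAs (CompactSpace S)
        toQuasiSober := inferInstanceAs (QuasiSober S)
        toQuasiSeparatedSpace := inferInstanceAs (QuasiSeparatedSpace S)
        toPrespectralSpace := inferInstanceAs (PrespectralSpace S) }
    have h1 : Subsingleton (Coh.HH S (Coh.structureModule S) (m + 1)) :=
      Groth.Agent.S0469.result (X := S.toTopCat) d hd.le
        (Coh.toAb (Coh.structureModule S)) (m + 1) (by omega)
    have h2 : Subsingleton (Coh.HH S (Coh.structureModule S) (m + 2)) :=
      Groth.Agent.S0469.result (X := S.toTopCat) d hd.le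
        (Coh.toAb (Coh.structureModule S)) (m + 2) (by omega)
    apply Groth.Agent.Helper6.ASFinB.subsingleton_const p (m + 2)
    intro x
    exact Groth.Agent.Helper6.ZarEpsB.ext_X₁_eq_zero (Groth.Agent.Helper6.ASKerB.hSK (S := S) p) _
      (m + 1)
      (fun x₂ => (Groth.Agent.Helper6.UnivZarE.Phi S (m + 2)).injective (Subsingleton.elim _ _))
      (fun x₃ => ⟨0, by
        rw [CategoryTheory.Abelian.Ext.zero_comp]
        exact (Groth.Agent.Helper6.UnivZarE.Phi S (m + 1)).injective (Subsingleton.elim _ _)⟩) x

end Groth.Agent.S0207
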