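import Groth.Statements.S0235
import Groth.Agent.Helper4.QAffSec
import Mathlib

set_option autoImplicit false
universe u
open CategoryTheory CategoryTheory.Limits AlgebraicGeometry
open Curves

namespace Groth.Agent.S0235


/-- For a finite morphism π : X → Y and an invertible module L on X, every point y of Y has an open
neighbourhood V such that L is trivial on the preimage of V. -/
theorem result {X Y : Scheme.{u}} (π : X ⟶ Y) [IsFinite π]
    (L : X.Modules) (hL : PicF.IsInvertible L) (y : Y) :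
    ∃ V : Y.Opens, y ∈ V ∧ Nonempty (L.restrict (π ⁻¹ᵁ V).ι ≅ Coh.structureModule (↑(π ⁻¹ᵁ V))) := by

  classical
  obtain ⟨V₀, hV₀, hyV₀, -⟩ := exists_isAffineOpen_mem_and_subset (X := Y) (x := y) (U := ⊤) trivial
  have hU₀ : IsAffineOpen (π ⁻¹ᵁ V₀) := hV₀.preimage π
  have hZ : (π ⁻¹' {y}).Finite := π.finite_preimage_singleton y
  have hZU : π ⁻¹' {y} ⊆ (π ⁻¹ᵁ V₀ : X.Opens) := by
    intro x hx
    have : π x = y := hx
    change π x ∈ V₀
    rw [this]; exact hyV₀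
  obtain ⟨g, hg, hfree⟩ := Groth.Agent.Helper4.FinLocFree7.exists_basicOpen_free_of_finite hU₀ 1 L
    (Groth.Agent.Helper4.QAffSec.isFinLocFreeOfRank_one_of_isInvertible L hL) _ hZ hZU
  have hC : IsClosed (π '' ((X.basicOpen g : Set X)ᶜ)) :=
    π.isClosedMap _ (X.basicOpen g).isOpen.isClosed_compl
  refine ⟨⟨(π '' ((X.basicOpen g : Set X)ᶜ))ᶜ, hC.isOpen_compl⟩, ?_, ?_⟩
  · rintro ⟨x, hx, hxy⟩
    exact hx (hg hxy)
  · have hle : π ⁻¹ᵁ ⟨(π '' ((X.basicOpen g : Set X)ᶜ))ᶜ, hC.isOpen_compl⟩ ≤ X.basicOpen g := by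
      intro x hx
      by_contra hxg
      exact hx ⟨x, hxg, rfl⟩
    obtain ⟨i⟩ := hfree.of_le hle
    exact ⟨i ≪≫ Groth.Agent.Helper4.QAffSec.freeOneIso _⟩

end Groth.Agent.S0235
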