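import Groth.Statements.S0237
import Mathlib
import Groth.Agent.Lead.FEtEq

set_option autoImplicit false
universe u
open Pi1

namespace Groth.Agent.S0237

open AlgebraicGeometry CategoryTheory in
/-- If a morphism of schemes has dense image, pulling back finite etale covers along it is faithful. -/
theorem result {X Y : Scheme.{u}} (f : X ⟶ Y)
    (h : DenseRange f.base) : (FEt.restrict f).Faithful := by
  constructor
  intro Y1 Y2 φ ψ hφψ
  obtain ⟨E, hE, hsub, himp⟩ := Groth.Agent.Lead.FEtEq.exists_clopen f φ ψ hφψ
  apply himp
  have het : Etale Y1.hom := Y1.prop.2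
  have hopen : IsOpenMap Y1.hom := Y1.hom.isOpenMap
  have hdense : Dense (Y1.hom ⁻¹' (Set.range f)) := Dense.preimage h hopen
  have : Dense E := hdense.mono hsub
  rw [← hE.1.closure_eq]
  exact this.closure_eq

end Groth.Agent.S0237
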