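import Groth.Statements.S0243
import Mathlib
import Groth.Agent.Lead.FEtEq

set_option autoImplicit false
universe u
open Pi1

namespace Groth.Agent.S0243

open AlgebraicGeometry CategoryTheory CategoryTheory.Limits in
/-- If a closed subscheme meets every connected component of the ambient scheme, restricting finite
etale covers to it is a faithful functor. -/
theorem result {X Y : Scheme.{u}} (i : Y ⟶ X) [IsClosedImmersion i]
    (h : ∀ x : X, (connectedComponent x ∩ Set.range i.base).Nonempty) :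
    (FEt.restrict i).Faithful := by
  constructor
  intro Y1 Y2 φ ψ hφψ
  obtain ⟨E, hE, hsub, himp⟩ := Groth.Agent.Lead.FEtEq.exists_clopen i φ ψ hφψ
  apply himp
  have het : Etale Y1.hom := Y1.prop.2
  have hfin : IsFinite Y1.hom := Y1.prop.1
  have hopen : IsOpenMap Y1.hom := Y1.hom.isOpenMap
  have hclosed : IsClosedMap Y1.hom := Y1.hom.isClosedMap
  by_contra hne
  obtain ⟨y, hy⟩ := (Set.ne_univ_iff_exists_notMem E).mp hne
  have hT : IsClopen (Y1.hom '' Eᶜ) := ⟨hclosed _ hE.compl.1, hopen _ hE.compl.2⟩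
  have hyT : Y1.hom y ∈ Y1.hom '' Eᶜ := ⟨y, hy, rfl⟩
  have hcc : connectedComponent (Y1.hom y) ⊆ Y1.hom '' Eᶜ :=
    hT.connectedComponent_subset hyT
  obtain ⟨x, hx1, hx2⟩ := h (Y1.hom y)
  obtain ⟨y', hy', hy'x⟩ := hcc hx1
  apply hy'
  apply hsub
  change Y1.hom y' ∈ Set.range i
  rw [hy'x]
  exact hx2

end Groth.Agent.S0243
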