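import Groth.Statements.S0252
import Mathlib
import Groth.Agent.Helper3.Pi0B

set_option autoImplicit false
universe u
open scoped TensorProduct
open Pi1

namespace Groth.Agent.S0252

open AlgebraicGeometry CategoryTheory CategoryTheory.Limits in
/-- Let f be a morphism between quasi-compact quasi-separated schemes such that base change of finite
etale covers along f is an equivalence. Then the induced map on connected components is a
homeomorphism. -/
theorem result {X Y : Scheme.{u}} [CompactSpace X] [QuasiSeparatedSpace X] [CompactSpace Y] [QuasiSeparatedSpace Y]
    (f : X ⟶ Y) (h : (FEt.restrict f).IsEquivalence) :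
    IsHomeomorph f.continuous.connectedComponentsMap := by
  exact Groth.Agent.Helper3.Pi0B.s0252 f h

end Groth.Agent.S0252
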