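import Groth.Statements.S0253
import Mathlib

set_option autoImplicit false
universe u
open Pi1

namespace Groth.Agent.S0253

open Polynomial IsLocalRing

theorem general (R : Type u) [CommRing R] [IsDomain R] [IsLocalRing R] [IsIntegrallyClosed R]
    (K : Type u) [Field K] [Algebra R K] [IsFractionRing R K] [IsSepClosed K]
    (a : R) (ha : a ∈ maximalIdeal R) (ha0 : a ≠ 0) : IsAlgClosed (ResidueField R) := by
  apply IsAlgClosed.of_exists_root
  intro P hPmonic hPirr
  obtain ⟨Q, hQmap, hQdeg, hQmonic⟩ := lifts_and_natDegree_eq_and_monic
    ((mem_lifts P).2 (map_surjective (residue R) residue_surjective P)) hPmonic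
  -- the two lifts
  let Q' : R[X] := Q + C a * X
  have hdeg2 : 1 < Q.natDegree → Q'.Monic := by
    intro h
    refine hQmonic.add_of_left ?_
    calc (C a * X).degree ≤ 1 := by
          refine (degree_C_mul_X_le a)
      _ < Q.degree := by
          rw [degree_eq_natDegree hQmonic.ne_zero]; exact_mod_cast h
  by_cases hd : Q.natDegree ≤ 1
  · -- degree ≤ 1: P has degree ≤ 1, irreducible so degree 1
    have hP1 : P.natDegree ≤ 1 := hQdeg ▸ hd
    have hP0 : P.natDegree ≠ 0 := fun h0 => by
      have := hPirr.natDegree_pos
      omega
    have : P.degree = 1 := by
      rw [degree_eq_natDegree hPmonic.ne_zero]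
      have : P.natDegree = 1 := by omega
      rw [this]; rfl
    obtain ⟨x, hx⟩ := exists_root_of_degree_eq_one this
    exact ⟨x, hx⟩
  · rw [not_le] at hd
    have hQ'monic := hdeg2 hd
    have hQ'map : Q'.map (residue R) = P := by
      simp only [Q', Polynomial.map_add, Polynomial.map_mul, map_C, map_X, hQmap]
      rw [(residue_eq_zero_iff a).2 ha, C_0, zero_mul, add_zero]
    have hQirr : Irreducible Q := hQmonic.irreducible_of_irreducible_map (residue R) Q
      (by rw [hQmap]; exact hPirr)
    have hQ'irr : Irreducible Q' := hQ'monic.irreducible_of_irreducible_map (residue R) Q'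
      (by rw [hQ'map]; exact hPirr)
    have hQK : Irreducible (Q.map (algebraMap R K)) :=
      (hQmonic.irreducible_iff_irreducible_map_fraction_map (K := K)).1 hQirr
    have hQ'K : Irreducible (Q'.map (algebraMap R K)) :=
      (hQ'monic.irreducible_iff_irreducible_map_fraction_map (K := K)).1 hQ'irr
    -- at least one of them is separable
    have hinj : Function.Injective (algebraMap R K) := IsFractionRing.injective R K
    have hder : derivative (Q.map (algebraMap R K)) ≠ 0 ∨
        derivative (Q'.map (algebraMap R K)) ≠ 0 := by
      by_contra hcon
      rw [not_or, not_not, not_not] at hcon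
      obtain ⟨h1, h2⟩ := hcon
      have : derivative (Q'.map (algebraMap R K)) - derivative (Q.map (algebraMap R K)) =
          C (algebraMap R K a) := by
        simp only [Q', Polynomial.map_add, Polynomial.map_mul, map_C, map_X, derivative_add,
          derivative_mul, derivative_C, derivative_X, zero_mul, zero_add, mul_one,
          add_sub_cancel_left]
      rw [h1, h2, sub_zero] at this
      have h3 : algebraMap R K a = 0 := by
        have := congrArg (fun q => coeff q 0) this
        simpa using this.symm
      exact ha0 (hinj (by rw [h3, map_zero]))
    have hdeg1 : Q.natDegree = 1 := by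
      rcases hder with h | h
      · have hsep := (separable_iff_derivative_ne_zero hQK).2 h
        have := IsSepClosed.degree_eq_one_of_irreducible K hQK hsep
        have h2 : (Q.map (algebraMap R K)).natDegree = 1 :=
          natDegree_eq_of_degree_eq_some (n := 1) (by rw [this]; rfl)
        rwa [hQmonic.natDegree_map] at h2
      · have hsep := (separable_iff_derivative_ne_zero hQ'K).2 h
        have := IsSepClosed.degree_eq_one_of_irreducible K hQ'K hsep
        have h2 : (Q'.map (algebraMap R K)).natDegree = 1 :=
          natDegree_eq_of_degree_eq_some (n := 1) (by rw [this]; rfl)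
        rw [hQ'monic.natDegree_map] at h2
        have h3 : Q'.natDegree = Q.natDegree := by
          apply natDegree_add_eq_left_of_degree_lt
          calc (C a * X).degree ≤ 1 := degree_C_mul_X_le a
            _ < Q.degree := by
              rw [degree_eq_natDegree hQmonic.ne_zero]; exact_mod_cast hd
        omega
    omega

open AlgebraicGeometry CategoryTheory CategoryTheory.Limits in
/-- Let A be an integrally closed domain whose fraction field is separably closed. Then the residue
field at any nonzero prime ideal of A is algebraically closed. -/
theorem result (A : Type u) [CommRing A] [IsDomain A] [IsIntegrallyClosed A] [IsSepClosed (FractionRing A)]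
    (p : Ideal A) [p.IsPrime] (hp : p ≠ ⊥) : IsAlgClosed p.ResidueField := by
  obtain ⟨a, hap, ha0⟩ := Submodule.exists_mem_ne_zero_of_ne_bot hp
  have : IsIntegrallyClosed (Localization.AtPrime p) :=
    isIntegrallyClosed_of_isLocalization _ p.primeCompl p.primeCompl_le_nonZeroDivisors
  refine general (Localization.AtPrime p) (FractionRing A) (algebraMap A _ a) ?_ ?_
  · exact (IsLocalization.AtPrime.to_map_mem_maximal_iff _ p a).2 hap
  · intro h
    apply ha0
    exact (IsLocalization.injective (Localization.AtPrime p) p.primeCompl_le_nonZeroDivisors)
      (by rw [h, map_zero])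

end Groth.Agent.S0253
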