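import Groth.Statements.S0254
import Mathlib
import Groth.Agent.S0253

set_option autoImplicit false
universe u
open Pi1

namespace Groth.Agent.S0254

open Polynomial IsLocalRing

theorem hens_claim (A : Type u) [CommRing A] [IsDomain A] [IsLocalRing A] [IsIntegrallyClosed A]
    (K : Type u) [Field K] [Algebra A K] [IsFractionRing A K] [IsSepClosed K] :
    ∀ n : ℕ, ∀ f : A[X], f.Monic → f.natDegree = n → ∀ a₀ : A, f.eval a₀ ∈ maximalIdeal A →
      IsUnit (f.derivative.eval a₀) → ∃ a : A, f.IsRoot a ∧ a - a₀ ∈ maximalIdeal A := by
  intro n
  induction n using Nat.strong_induction_on with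
  | _ n ih =>
    intro f hf hn a₀ h1 h2
    have hinj : Function.Injective (algebraMap A K) := IsFractionRing.injective A K
    by_cases hirr : Irreducible f
    · have hK : Irreducible (f.map (algebraMap A K)) :=
        (hf.irreducible_iff_irreducible_map_fraction_map (K := K)).1 hirr
      by_cases hder : derivative (f.map (algebraMap A K)) = 0
      · exfalso
        rw [derivative_map] at hder
        have : derivative f = 0 := by
          apply map_injective _ hinj
          rw [hder, Polynomial.map_zero]
        rw [this, eval_zero] at h2
        exact not_isUnit_zero h2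
      · have hsep := (separable_iff_derivative_ne_zero hK).2 hder
        have hdeg := IsSepClosed.degree_eq_one_of_irreducible K hK hsep
        have h3 : (f.map (algebraMap A K)).natDegree = 1 :=
          natDegree_eq_of_degree_eq_some (n := 1) (by rw [hdeg]; rfl)
        rw [hf.natDegree_map] at h3
        have h4 := hf.eq_X_add_C h3
        refine ⟨-(f.coeff 0), ?_, ?_⟩
        · rw [IsRoot.def]
          conv_lhs => rw [h4]
          simp
        · have : f.eval a₀ = a₀ + f.coeff 0 := by
            conv_lhs => rw [h4]
            simp
          rw [this] at h1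
          have h5 : -(f.coeff 0) - a₀ = -(a₀ + f.coeff 0) := by ring
          rw [h5]
          exact neg_mem h1
    · have hne1 : f ≠ 1 := by
        rintro rfl
        rw [eval_one] at h1
        exact (Ideal.ne_top_iff_one _).1 (maximalIdeal.isMaximal A).ne_top h1
      rw [hf.irreducible_iff_natDegree] at hirr
      rw [not_and] at hirr
      have hirr' := hirr hne1
      simp only [not_forall] at hirr'
      obtain ⟨g, h, hg, hh, hgh, hdeg⟩ := hirr'
      rw [not_or] at hdeg
      obtain ⟨hg0, hh0⟩ := hdeg
      have hsum : g.natDegree + h.natDegree = n := by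
        rw [← hn, ← hgh, hg.natDegree_mul hh]
      have hev : g.eval a₀ * h.eval a₀ ∈ maximalIdeal A := by
        rw [← eval_mul, hgh]; exact h1
      have hder : (derivative f).eval a₀ =
          (derivative g).eval a₀ * h.eval a₀ + g.eval a₀ * (derivative h).eval a₀ := by
        rw [← hgh, derivative_mul, eval_add, eval_mul, eval_mul]
      rcases (Ideal.IsPrime.mem_or_mem inferInstance hev) with hgm | hhm
      · have hu : IsUnit ((derivative g).eval a₀ * h.eval a₀) := by
          by_contra hnu
          have h6 : (derivative g).eval a₀ * h.eval a₀ ∈ maximalIdeal A :=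
            (mem_maximalIdeal _).2 hnu
          have h7 : (derivative f).eval a₀ ∈ maximalIdeal A := by
            rw [hder]
            exact Ideal.add_mem _ h6 (Ideal.mul_mem_right _ _ hgm)
          exact (mem_maximalIdeal _).1 h7 h2
        obtain ⟨a, ha, ha'⟩ := ih g.natDegree (by omega) g hg rfl a₀ hgm
          (isUnit_of_mul_isUnit_left hu)
        refine ⟨a, ?_, ha'⟩
        rw [IsRoot.def, ← hgh, eval_mul, ha.eq_zero, zero_mul]
      · have hu : IsUnit (g.eval a₀ * (derivative h).eval a₀) := by
          by_contra hnu
          have h6 : g.eval a₀ * (derivative h).eval a₀ ∈ maximalIdeal A :=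
            (mem_maximalIdeal _).2 hnu
          have h7 : (derivative f).eval a₀ ∈ maximalIdeal A := by
            rw [hder]
            exact Ideal.add_mem _ (Ideal.mul_mem_left _ _ hhm) h6
          exact (mem_maximalIdeal _).1 h7 h2
        obtain ⟨a, ha, ha'⟩ := ih h.natDegree (by omega) h hh rfl a₀ hhm
          (isUnit_of_mul_isUnit_right hu)
        refine ⟨a, ?_, ha'⟩
        rw [IsRoot.def, ← hgh, eval_mul, ha.eq_zero, mul_zero]

theorem sepClosed_of_ringEquiv (k k' : Type u) [Field k] [Field k'] (e : k ≃+* k')
    [IsSepClosed k] : IsSepClosed k' := by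
  apply IsSepClosed.of_exists_root
  intro p hpm hpirr hpsep
  have hsep : (p.map (e.symm : k' →+* k)).Separable := hpsep.map
  have hdeg : (p.map (e.symm : k' →+* k)).degree ≠ 0 := by
    rw [degree_map]
    exact (degree_pos_of_irreducible hpirr).ne'
  obtain ⟨x, hx⟩ := IsSepClosed.exists_root _ hdeg hsep
  refine ⟨e x, ?_⟩
  have := congrArg e hx.eq_zero
  rw [map_zero, eval_map, ← RingEquiv.coe_toRingHom e, hom_eval₂] at this
  simpa [eval₂_eq_eval_map] using this

open AlgebraicGeometry CategoryTheory CategoryTheory.Limits in
/-- An integrally closed local domain whose fraction field is separably closed is henselian with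
separably closed residue field (i.e. strictly henselian). -/
theorem result (A : Type u) [CommRing A] [IsDomain A] [IsLocalRing A] [IsIntegrallyClosed A]
    [IsSepClosed (FractionRing A)] :
    HenselianLocalRing A ∧ IsSepClosed (IsLocalRing.ResidueField A) := by
  refine ⟨⟨fun f hf a₀ h1 h2 =>
    hens_claim A (FractionRing A) f.natDegree f hf rfl a₀ h1 h2⟩, ?_⟩
  by_cases hm : maximalIdeal A = ⊥
  · -- A is a field
    have hfield : IsField A := isField_iff_maximalIdeal_eq.2 hm
    have hbij1 : Function.Bijective (residue A) := by
      refine ⟨?_, residue_surjective⟩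
      rw [injective_iff_map_eq_zero]
      intro a ha
      have := (residue_eq_zero_iff a).1 ha
      rwa [hm, Ideal.mem_bot] at this
    have hbij2 : Function.Bijective (algebraMap A (FractionRing A)) :=
      ⟨IsFractionRing.injective A _, (IsFractionRing.surjective_iff_isField).2 hfield⟩
    let e1 := RingEquiv.ofBijective _ hbij1
    let e2 := RingEquiv.ofBijective _ hbij2
    exact sepClosed_of_ringEquiv (FractionRing A) _ (e2.symm.trans e1)
  · obtain ⟨a, ham, ha0⟩ := Submodule.exists_mem_ne_zero_of_ne_bot hm
    have := Groth.Agent.S0253.general A (FractionRing A) a ham ha0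
    infer_instance

end Groth.Agent.S0254
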