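import Groth.Statements.S0267
import Mathlib
import Groth.Agent.Helper2.Gal9
open CategoryTheory PreGaloisCategory Limits Groth.Agent.Helper2.Gal1 Groth.Agent.Helper2.Gal2 Groth.Agent.Helper2.Gal3 Groth.Agent.Helper2.Gal4 Groth.Agent.Helper2.Gal8 Groth.Agent.Helper2.Gal9
-- import your own Groth.Agent.* helpers here

set_option autoImplicit false
universe u v
open Pi1

namespace Groth.Agent.S0267

open CategoryTheory CategoryTheory.Limits in
/-- For an exact functor H between Galois categories, H is fully faithful exactly when it carries
connected objects to connected objects (both are equivalent to surjectivity of the induced map on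
fundamental groups). -/
theorem result {C : Type u} [Category.{v} C]
    [GaloisCategory C] {D : Type u} [Category.{v} D] [GaloisCategory D]
    (H : C ⥤ D) [PreservesFiniteLimits H] [PreservesFiniteColimits H] :
    (H.Full ∧ H.Faithful) ↔
      ∀ X : C, PreGaloisCategory.IsConnected X → PreGaloisCategory.IsConnected (H.obj X) := by
  let F' := GaloisCategory.getFiberFunctor D
  let F := GaloisCategory.getFiberFunctor C
  haveI : FiberFunctor (H ⋙ F') := fiberFunctor_comp H F' F
  constructor
  · rintro ⟨hfull, -⟩ X hX
    haveI := pretransitive_of_full H F' X
    obtain ⟨x⟩ := nonempty_fiber_of_isConnected (H ⋙ F') X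
    haveI : Nonempty (F'.obj (H.obj X)) := ⟨x⟩
    exact isConnected_of_pretransitive F' (H.obj X)
  · intro h
    have hsurj : Function.Surjective (Pi1X.autWhisker H F') := by
      apply surjective_of_pretransitive
      intro X hX
      haveI := h X hX
      infer_instance
    exact ⟨full_of_surjective H F' hsurj, faithful_of_fiberFunctor H F'⟩

end Groth.Agent.S0267
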