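import Groth.Statements.S0283
import Groth.Agent.Lead.EtBC

set_option autoImplicit false
universe u
open Pi1

namespace Groth.Agent.S0283

open AlgebraicGeometry CategoryTheory CategoryTheory.Limits in
theorem result' {X Y : Scheme.{u}} (f : X ⟶ Y) [IsIntegralHom f] [UniversallyInjective f] [Surjective f] :
    (FEt.restrict f).Full ∧ (FEt.restrict f).Faithful := by
  have key : ∀ (Y1 Y2 : FEt.Cat Y) (φ : Y1 ⟶ Y2),
      (((FEt.restrict f).map φ).left : pullback Y1.hom f ⟶ pullback Y2.hom f) ≫ pullback.fst Y2.hom f
        = pullback.fst Y1.hom f ≫ φ.left := by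
    intro Y1 Y2 φ
    simp only [FEt.restrict, MorphismProperty.Over.pullback]
    exact pullback.lift_fst _ _ _
  have key2 : ∀ (Y1 Y2 : FEt.Cat Y) (ψ : (FEt.restrict f).obj Y1 ⟶ (FEt.restrict f).obj Y2),
      ((ψ.left : pullback Y1.hom f ⟶ pullback Y2.hom f) ≫ pullback.snd Y2.hom f
        = pullback.snd Y1.hom f) := by
    intro Y1 Y2 ψ
    exact Over.w ψ.hom
  constructor
  · constructor
    intro Y1 Y2 ψ
    haveI : Etale Y2.hom := Y2.prop.2
    haveI : Surjective (pullback.fst Y1.hom f) := inferInstance
    haveI : UniversallyClosed (pullback.fst Y1.hom f) := inferInstance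
    haveI : UniversallyInjective (pullback.fst Y1.hom f) :=
      MorphismProperty.pullback_fst (P := @UniversallyInjective) Y1.hom f ‹_›
    let ψl : pullback Y1.hom f ⟶ pullback Y2.hom f := ψ.left
    have hψ : ψl ≫ pullback.snd Y2.hom f = pullback.snd Y1.hom f := key2 Y1 Y2 ψ
    obtain ⟨φ, hφ1, hφ2⟩ := Groth.Agent.Lead.EtBC.exists_descent Y2.hom Y1.hom (pullback.fst Y1.hom f)
      (ψl ≫ pullback.fst Y2.hom f) (by
        rw [Category.assoc, pullback.condition, ← Category.assoc, hψ, pullback.condition])
    refine ⟨MorphismProperty.Over.homMk φ hφ1, ?_⟩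
    ext
    show (((FEt.restrict f).map (MorphismProperty.Over.homMk φ hφ1)).left :
      pullback Y1.hom f ⟶ pullback Y2.hom f) = ψl
    apply pullback.hom_ext
    · exact (key Y1 Y2 _).trans hφ2
    · exact (key2 Y1 Y2 _).trans hψ.symm
  · constructor
    intro Y1 Y2 φ ψ h
    haveI : Etale Y2.hom := Y2.prop.2
    haveI : Surjective (pullback.fst Y1.hom f) := inferInstance
    have h1 : pullback.fst Y1.hom f ≫ φ.left = pullback.fst Y1.hom f ≫ ψ.left := by
      rw [← key, ← key, h]
    ext
    exact Groth.Agent.Lead.EtThick.hom_ext_of_surjective (pullback.fst Y1.hom f) Y2.hom φ.left ψ.left h1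
      (by rw [MorphismProperty.Over.w, MorphismProperty.Over.w])

open AlgebraicGeometry CategoryTheory CategoryTheory.Limits in
/-- Let f : X → Y be a morphism of schemes which is integral, universally injective and surjective (that
is, a universal homeomorphism). Then base change along f, from finite étale covers of Y to finite
étale covers of X, is a full and faithful functor. -/
theorem result {X Y : Scheme.{u}} (f : X ⟶ Y) [IsIntegralHom f] [UniversallyInjective f] [Surjective f] :
    (FEt.restrict f).Full ∧ (FEt.restrict f).Faithful := by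
  exact result' f

end Groth.Agent.S0283
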