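import Groth.Statements.S0288
import Groth.Agent.Helper5.UnrGu6

set_option autoImplicit false
universe u
open Pi1

namespace Groth.Agent.S0288

open AlgebraicGeometry CategoryTheory CategoryTheory.Limits in
/-- Let X be a normal integral scheme with function field K, L a finite field extension of K and Y -> X
the normalization of X in Spec L. If Y -> X is unramified (formally unramified and locally of finite
type), then it is etale, and finite. -/
theorem result {X : Scheme.{u}} [IsIntegral X] (hX : Pi1.IsNormalScheme X) (L : Type u) [Field L]
    [Algebra X.functionField L] [FiniteDimensional X.functionField L]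
    [QuasiCompact (Spec.map (CommRingCat.ofHom (algebraMap X.functionField L)) ≫ X.fromSpecStalk (genericPoint X))]
    [QuasiSeparated (Spec.map (CommRingCat.ofHom (algebraMap X.functionField L)) ≫ X.fromSpecStalk (genericPoint X))]
    [FormallyUnramified (Spec.map (CommRingCat.ofHom (algebraMap X.functionField L)) ≫ X.fromSpecStalk (genericPoint X)).fromNormalization]
    [LocallyOfFiniteType (Spec.map (CommRingCat.ofHom (algebraMap X.functionField L)) ≫ X.fromSpecStalk (genericPoint X)).fromNormalization] :
    Etale (Spec.map (CommRingCat.ofHom (algebraMap X.functionField L)) ≫ X.fromSpecStalk (genericPoint X)).fromNormalization ∧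
    IsFinite (Spec.map (CommRingCat.ofHom (algebraMap X.functionField L)) ≫ X.fromSpecStalk (genericPoint X)).fromNormalization := by
  haveI : IsIntegral (Spec (CommRingCat.of L)) := inferInstance
  refine Groth.Agent.Helper5.UnrGu.s0288_gen hX _ ?_
  have hne : Nonempty (Spec (CommRingCat.of L)) := inferInstance
  obtain ⟨z⟩ := hne
  refine ⟨z, ?_⟩
  have h1 : (Spec.map (CommRingCat.ofHom (algebraMap X.functionField L)) ≫
      X.fromSpecStalk (genericPoint X)) z ∈ Set.range (X.fromSpecStalk (genericPoint X)) := by
    rw [Scheme.Hom.comp_apply]
    exact ⟨_, rfl⟩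
  rw [Scheme.range_fromSpecStalk] at h1
  exact (h1.antisymm (genericPoint_specializes _)).eq

end Groth.Agent.S0288
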