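import Groth.Statements.S0294
import Mathlib

set_option autoImplicit false
universe u
open Pi1

namespace Groth.Agent.S0294

open AlgebraicGeometry CategoryTheory CategoryTheory.Limits in
/-- For a finite étale cover Y of a scheme X and a point ξ : Spec Ω → X with values in a field Ω, the
fibre of Y over ξ (the set of Ω-valued points of Y lying over ξ) is finite. -/
theorem result {X : Scheme.{u}} {Ω : Type u} [Field Ω] (ξ : Spec (CommRingCat.of Ω) ⟶ X) (Y : FEt.Cat X) :
    Finite (FEt.fiberObj ξ Y) := by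
  have hfin : IsFinite Y.hom := Y.prop.1
  set P := pullback Y.hom ξ with hP
  have hsnd : IsFinite (pullback.snd Y.hom ξ) := inferInstance
  have : IsAffine P := isAffine_of_isAffineHom (pullback.snd Y.hom ξ)
  -- the algebra structure
  let φ : CommRingCat.of Ω ⟶ Γ(P, ⊤) :=
    (Scheme.ΓSpecIso (CommRingCat.of Ω)).inv ≫ (pullback.snd Y.hom ξ).appTop
  letI : Algebra Ω Γ(P, ⊤) := φ.hom.toAlgebra
  have hfinite : Module.Finite Ω Γ(P, ⊤) := by
    have h1 : (pullback.snd Y.hom ξ).appTop.hom.Finite :=
      (HasAffineProperty.iff_of_isAffine (P := @IsFinite)).mp hsnd |>.2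
    have h2 : φ.hom.Finite := by
      change ((pullback.snd Y.hom ξ).appTop.hom.comp (Scheme.ΓSpecIso (CommRingCat.of Ω)).inv.hom).Finite
      exact RingHom.Finite.comp h1
        (RingHom.Finite.of_surjective _ (ConcreteCategory.bijective_of_isIso
          (Scheme.ΓSpecIso (CommRingCat.of Ω)).inv).2)
    exact h2
  -- the injection
  let F : FEt.fiberObj ξ Y → (Γ(P, ⊤) →ₐ[Ω] Ω) := fun s =>
    { toRingHom := ((pullback.lift s.1 (𝟙 _) (by rw [s.2, Category.id_comp]) :
        Spec (CommRingCat.of Ω) ⟶ P).appTop ≫ (Scheme.ΓSpecIso (CommRingCat.of Ω)).hom).hom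
      commutes' := by
        intro r
        change ((pullback.lift s.1 (𝟙 _) _ : Spec (CommRingCat.of Ω) ⟶ P).appTop ≫
          (Scheme.ΓSpecIso (CommRingCat.of Ω)).hom).hom (φ.hom r) = r
        rw [← CommRingCat.comp_apply]
        have : φ ≫ (pullback.lift s.1 (𝟙 _) (by rw [s.2, Category.id_comp]) :
            Spec (CommRingCat.of Ω) ⟶ P).appTop ≫ (Scheme.ΓSpecIso (CommRingCat.of Ω)).hom = 𝟙 _ := by
          simp only [φ, Category.assoc]
          rw [← Scheme.Hom.comp_appTop_assoc, pullback.lift_snd]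
          simp
        rw [this]
        rfl }
  apply Finite.of_injective F
  intro s t hst
  apply Subtype.ext
  have h1 : (pullback.lift s.1 (𝟙 _) (by rw [s.2, Category.id_comp]) :
      Spec (CommRingCat.of Ω) ⟶ P) = pullback.lift t.1 (𝟙 _) (by rw [t.2, Category.id_comp]) := by
    apply ext_of_isAffine
    have h2 := congrArg (fun g : Γ(P, ⊤) →ₐ[Ω] Ω => (g : Γ(P, ⊤) →+* Ω)) hst
    rw [← cancel_mono (Scheme.ΓSpecIso (CommRingCat.of Ω)).hom]
    ext x
    exact congrFun (congrArg DFunLike.coe h2) x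
  have := congrArg (· ≫ pullback.fst Y.hom ξ) h1
  simp only [pullback.lift_fst] at this
  exact this

end Groth.Agent.S0294
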