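import Groth.Statements.S0309
import Mathlib
import Groth.Agent.S5170
import Groth.Agent.Helper6.MatlisBidual

set_option autoImplicit false
universe u v
open Matlis

namespace Groth.Agent.S0309

/-- Over an Artinian local ring with E an injective hull of the residue field, the evaluation map from a
finite module M to its double E-dual Hom(Hom(M, E), E) is bijective. -/
theorem result (R : Type u) [CommRing R] [IsLocalRing R] [IsArtinianRing R] (E : Type u) [AddCommGroup E] [Module R E] (f : IsLocalRing.ResidueField R →ₗ[R] E) (hf : InjHull.IsInjectiveHull f) (M : Type u) [AddCommGroup M] [Module R M] [Module.Finite R M] : Function.Bijective (LinearMap.applyₗ : M →ₗ[R] (M →ₗ[R] E) →ₗ[R] E) := by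
  have hM : IsFiniteLength R M := by
    rw [isFiniteLength_iff_isNoetherian_isArtinian]
    exact ⟨inferInstance, inferInstance⟩
  have h1 : Module.length R (M →ₗ[R] E) = Module.length R M :=
    Groth.Agent.S5170.result R E f hf M hM
  have hfin : Module.length R M ≠ ⊤ := Module.length_ne_top_iff.mpr hM
  have hM' : IsFiniteLength R (M →ₗ[R] E) := by
    rw [← Module.length_ne_top_iff, h1]
    exact hfin
  have h2 : Module.length R ((M →ₗ[R] E) →ₗ[R] E) = Module.length R (M →ₗ[R] E) :=
    Groth.Agent.S5170.result R E f hf (M →ₗ[R] E) hM'
  exact Groth.Agent.Helper6.MatlisBidual.bijective_of_injective_of_length_eq _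
    (Groth.Agent.Helper6.MatlisBidual.applyₗ_injective f hf M) (h2.trans h1) hfin

end Groth.Agent.S0309
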