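import Groth.Statements.S0319
import Mathlib
import Groth.Agent.Lead.DepthExt

set_option autoImplicit false
universe u v
open CategoryTheory
open LocCoh

namespace Groth.Agent.S0319

/-- Part (1): =(2): for a finite module M over a Noetherian ring and an ideal I with IM ≠ M, the I-depth
of M is the least i with Ext^i(R/I, M) nonzero. (Close to Mathlib's Rees criterion; kept at low
weight to pin our depth to Mathlib's Ext.) -/
theorem result (R : Type u) [CommRing R] [IsNoetherianRing R] (I : Ideal R) (M : Type u) [AddCommGroup M] [Module R M] [Module.Finite R M] (hIM : I • (⊤ : Submodule R M) ≠ ⊤) (n : ℕ) : LocCoh.idealDepth I M = n ↔ ((∀ i : ℕ, i < n → Subsingleton (Abelian.Ext (ModuleCat.of R (R ⧸ I)) (ModuleCat.of R M) i)) ∧ Nontrivial (Abelian.Ext (ModuleCat.of R (R ⧸ I)) (ModuleCat.of R M) n)) := by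
  have key := Groth.Agent.Lead.DepthExt.le_idealDepth_iff I M hIM
  have hne := Groth.Agent.Helper2.DepthCM.idealDepth_ne_top I M hIM
  obtain ⟨d, hd⟩ := ENat.ne_top_iff_exists.mp hne
  rw [← hd] at key ⊢
  simp only [Nat.cast_le, Nat.cast_inj] at key ⊢
  constructor
  · rintro rfl
    refine ⟨(key d).mp le_rfl, ?_⟩
    by_contra hnt
    rw [not_nontrivial_iff_subsingleton] at hnt
    have : d + 1 ≤ d := (key (d + 1)).mpr (fun i hi => by
      rcases Nat.lt_succ_iff_lt_or_eq.mp hi with h | rfl
      · exact (key d).mp le_rfl i h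
      · exact hnt)
    omega
  · rintro ⟨h1, h2⟩
    have hle : n ≤ d := (key n).mpr h1
    by_contra hne'
    have hlt : n + 1 ≤ d := by omega
    have := (key (n + 1)).mp hlt n (Nat.lt_succ_self n)
    exact not_subsingleton _ this

end Groth.Agent.S0319
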