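import Groth.Statements.S0321
import Mathlib
import Groth.Agent.Lead.DepthExt2

set_option autoImplicit false
universe u v
open LocCoh

namespace Groth.Agent.S0321

lemma enatA (n : ℕ) (hn1 : 1 ≤ n) (x : ℕ∞) (h : (n : ℕ∞) ≤ x - 1) : ((n + 1 : ℕ) : ℕ∞) ≤ x := by
  induction x using ENat.recTopCoe with
  | top => exact le_top
  | coe d =>
    have h' : (n : ℕ∞) ≤ ((d - 1 : ℕ) : ℕ∞) := by
      refine h.trans (le_of_eq ?_)
      norm_cast
    have : n ≤ d - 1 := by exact_mod_cast h'
    exact_mod_cast (by omega : n + 1 ≤ d)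

lemma enatB (j : ℕ) (x : ℕ∞) (h : ((j + 1 : ℕ) : ℕ∞) ≤ x + 1) : (j : ℕ∞) ≤ x := by
  induction x using ENat.recTopCoe with
  | top => exact le_top
  | coe d =>
    have : j + 1 ≤ d + 1 := by exact_mod_cast h
    exact_mod_cast (by omega : j ≤ d)

open CategoryTheory Abelian in
theorem aux (R : Type u) [CommRing R] [IsNoetherianRing R] (I : Ideal R) (N' : Type u) [AddCommGroup N'] [Module R N'] [Module.Finite R N'] (N : Type u) [AddCommGroup N] [Module R N] [Module.Finite R N] (N'' : Type u) [AddCommGroup N''] [Module R N''] [Module.Finite R N''] (f : N' →ₗ[R] N) (g : N →ₗ[R] N'') (hf : Function.Injective f) (hg : Function.Surjective g) (hfg : Function.Exact f g) : min (LocCoh.idealDepth I N') (LocCoh.idealDepth I N'') ≤ LocCoh.idealDepth I N ∧ min (LocCoh.idealDepth I N) (LocCoh.idealDepth I N' - 1) ≤ LocCoh.idealDepth I N'' ∧ min (LocCoh.idealDepth I N) (LocCoh.idealDepth I N'' + 1) ≤ LocCoh.idealDepth I N' := by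
  let S : ShortComplex (ModuleCat.{u} R) :=
    ShortComplex.mk (ModuleCat.ofHom f) (ModuleCat.ofHom g) (by
      ext x; exact hfg.apply_apply_eq_zero x)
  have hS : S.ShortExact := by
    refine ShortComplex.ShortExact.mk' ?_ ?_ ?_
    · rw [ShortComplex.ShortExact.moduleCat_exact_iff_function_exact]; exact hfg
    · rw [ModuleCat.mono_iff_injective]; exact hf
    · rw [ModuleCat.epi_iff_surjective]; exact hg
  set Q := ModuleCat.of R (R ⧸ I) with hQ
  have k' := Groth.Agent.Lead.DepthExt.le_idealDepth_iff' I N'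
  have k := Groth.Agent.Lead.DepthExt.le_idealDepth_iff' I N
  have k'' := Groth.Agent.Lead.DepthExt.le_idealDepth_iff' I N''
  refine ⟨?_, ?_, ?_⟩
  · rw [← ENat.forall_natCast_le_iff_le]
    intro n hn
    rw [le_min_iff] at hn
    rw [k]
    intro i hi
    have h1 := (k' n).mp hn.1 i hi
    have h2 := (k'' n).mp hn.2 i hi
    refine subsingleton_of_forall_eq 0 fun x => ?_
    have hx : x.comp (Ext.mk₀ S.g) (add_zero i) = 0 := Subsingleton.elim _ _
    obtain ⟨y, hy⟩ := Ext.covariant_sequence_exact₂ Q hS x hx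
    rw [← hy, Subsingleton.elim y 0, Ext.zero_comp]
  · rw [← ENat.forall_natCast_le_iff_le]
    intro n hn
    rw [le_min_iff] at hn
    rw [k'']
    intro i hi
    have h1 := (k n).mp hn.1 i hi
    have h2 : Subsingleton (Ext Q (ModuleCat.of R N') (i + 1)) := by
      have : ((n + 1 : ℕ) : ℕ∞) ≤ LocCoh.idealDepth I N' :=
        enatA n (by omega) _ hn.2
      exact (k' (n + 1)).mp this (i + 1) (by omega)
    refine subsingleton_of_forall_eq 0 fun x => ?_
    have hx : x.comp hS.extClass rfl = 0 := Subsingleton.elim _ _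
    obtain ⟨y, hy⟩ := Ext.covariant_sequence_exact₃ Q hS x rfl hx
    rw [← hy, Subsingleton.elim y 0, Ext.zero_comp]
  · rw [← ENat.forall_natCast_le_iff_le]
    intro n hn
    rw [le_min_iff] at hn
    rw [k']
    intro i hi
    have h1 := (k n).mp hn.1 i hi
    refine subsingleton_of_forall_eq 0 fun x => ?_
    have hx : x.comp (Ext.mk₀ S.f) (add_zero i) = 0 := Subsingleton.elim _ _
    rcases i with _ | j
    · have : Mono S.f := hS.mono_f
      exact Ext.postcomp_mk₀_injective_of_mono Q S.f (by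
        rw [map_zero]; exact hx)
    · have h2 : Subsingleton (Ext Q (ModuleCat.of R N'') j) := by
        have h3 : (((j + 1) + 1 : ℕ) : ℕ∞) ≤ LocCoh.idealDepth I N'' + 1 :=
          le_trans (by exact_mod_cast (by omega : j + 1 + 1 ≤ n)) hn.2
        have h4 : ((j + 1 : ℕ) : ℕ∞) ≤ LocCoh.idealDepth I N'' := enatB (j + 1) _ h3
        exact (k'' (j + 1)).mp h4 j (Nat.lt_succ_self j)
      obtain ⟨y, hy⟩ := Ext.covariant_sequence_exact₁ Q hS x hx rfl
      rw [← hy, Subsingleton.elim y 0, Ext.zero_comp]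

/-- Depth inequalities along a short exact sequence 0 → N' → N → N'' → 0 of finite modules over a
Noetherian ring: depth N ≥ min(depth N', depth N''), depth N'' ≥ min(depth N, depth N' − 1), depth
N' ≥ min(depth N, depth N'' + 1). -/
theorem result (R : Type u) [CommRing R] [IsNoetherianRing R] (I : Ideal R) (N' : Type u) [AddCommGroup N'] [Module R N'] [Module.Finite R N'] (N : Type u) [AddCommGroup N] [Module R N] [Module.Finite R N] (N'' : Type u) [AddCommGroup N''] [Module R N''] [Module.Finite R N''] (f : N' →ₗ[R] N) (g : N →ₗ[R] N'') (hf : Function.Injective f) (hg : Function.Surjective g) (hfg : Function.Exact f g) : min (LocCoh.idealDepth I N') (LocCoh.idealDepth I N'') ≤ LocCoh.idealDepth I N ∧ min (LocCoh.idealDepth I N) (LocCoh.idealDepth I N' - 1) ≤ LocCoh.idealDepth I N'' ∧ min (LocCoh.idealDepth I N) (LocCoh.idealDepth I N'' + 1) ≤ LocCoh.idealDepth I N' := by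
  exact aux R I N' N N'' f g hf hg hfg

end Groth.Agent.S0321
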