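import Groth.Statements.S0322
import Mathlib
import Groth.Agent.Helper2.DepthCM3

set_option autoImplicit false
universe u v
open LocCoh

namespace Groth.Agent.S0322

open Groth.Agent.Helper2 Groth.Agent.Helper2.DepthRees Groth.Agent.Helper2.DepthCM
  Groth.Agent.Helper2.DepthCM2 Groth.Agent.Helper2.DepthCM3 RingTheory.Sequence IsLocalRing Module in
theorem aux (R : Type u) [CommRing R] [IsLocalRing R] [IsNoetherianRing R] (I : Ideal R) (hI : I ≠ ⊤) (M : Type u) [AddCommGroup M] [Module R M] [Module.Finite R M] (hM : LocCoh.IsCohenMacaulayModule R M) : Module.supportDim R M = Module.supportDim R (M ⧸ (I • (⊤ : Submodule R M))) + ((LocCoh.idealDepth I M : ℕ∞) : WithBot ℕ∞) := by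
  have hnt := cm_nontrivial hM
  have hIm : I ≤ maximalIdeal R := IsLocalRing.le_maximalIdeal hI
  have hIM : I • (⊤ : Submodule R M) ≠ ⊤ := by
    intro h
    apply Depth.smul_top_ne_top R M
    exact eq_top_iff.2 (h.symm.le.trans (Submodule.smul_mono_left hIm))
  obtain ⟨xs, hreg, hxs, hmax, hlen⟩ := exists_length_eq_idealDepth I M hIM
  have hxsm : ∀ x ∈ xs, x ∈ maximalIdeal R := fun x hx => hIm (hxs x hx)
  have hN := cm_quot_ofList M hM xs hxsm hreg
  have hNnt := cm_nontrivial hN
  have hzd : ∀ r ∈ I, ¬ IsSMulRegular (M ⧸ Ideal.ofList xs • (⊤ : Submodule R M)) r := by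
    intro r hr hcon
    apply hmax r hr
    rw [isWeaklyRegular_append_iff]
    exact ⟨hreg, (isWeaklyRegular_singleton_iff _ r).2 hcon⟩
  obtain ⟨p₀, hp₀⟩ := associatedPrimes.nonempty R (M ⧸ Ideal.ofList xs • (⊤ : Submodule R M))
  have hex : ∃ p' ∈ associatedPrimes R (M ⧸ Ideal.ofList xs • (⊤ : Submodule R M)), I ≤ p' := by
    rcases Ass.exists_le_assPrime_or_le R (M ⧸ Ideal.ofList xs • (⊤ : Submodule R M))
      I p₀ (fun x hx _ => hzd x hx) with h | h
    · exact ⟨p₀, hp₀, h⟩
    · exact h
  obtain ⟨p', hp', hle⟩ := hex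
  have hp'prime := hp'.isPrime
  have hdimp : ringKrullDim (R ⧸ p') = supportDim R (M ⧸ Ideal.ofList xs • (⊤ : Submodule R M)) :=
    cm_dim_quot_ass _ hN p' hp'
  have hsum : supportDim R (M ⧸ Ideal.ofList xs • (⊤ : Submodule R M)) + xs.length = supportDim R M :=
    supportDim_add_length_eq_supportDim_of_isRegular xs
      (IsRegular.of_isWeaklyRegular_of_mem_maximalIdeal M hxsm hreg)
  -- dim (M/IM) = dim (M / xs M)
  have hp'supp : (⟨p', hp'prime⟩ : PrimeSpectrum R) ∈
      Module.support R (M ⧸ Ideal.ofList xs • (⊤ : Submodule R M)) := by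
    rw [Module.mem_support_iff_of_finite, ← Submodule.annihilator_top]
    exact IsAssociatedPrime.annihilator_le hp'
  have hkey : supportDim R (M ⧸ (I • (⊤ : Submodule R M))) =
      supportDim R (M ⧸ Ideal.ofList xs • (⊤ : Submodule R M)) := by
    apply le_antisymm
    · -- support containment
      have hsub : Module.support R (M ⧸ (I • (⊤ : Submodule R M))) ⊆
          Module.support R (M ⧸ Ideal.ofList xs • (⊤ : Submodule R M)) := by
        intro q hq
        rw [Module.support_quotient] at hq ⊢
        exact ⟨hq.1, fun a ha => hq.2 (ofList_le xs hxs ha)⟩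
      unfold supportDim
      exact Order.krullDim_le_of_strictMono (fun q => ⟨q.1, hsub q.2⟩) (fun a b h => h)
    · rw [← hdimp]
      refine SuppDim.dim_quot_le_supportDim R _ ⟨p', hp'prime⟩ ?_
      rw [Module.support_quotient]
      rw [Module.support_quotient] at hp'supp
      exact ⟨hp'supp.1, fun a ha => hle ha⟩
  rw [hkey, ← hlen, ← hsum]
  rfl

/-- For a finite Cohen–Macaulay module M over a Noetherian local ring and a proper ideal I, the I-depth
of M equals dim Supp(M) minus dim Supp(M/IM); stated additively. -/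
theorem result (R : Type u) [CommRing R] [IsLocalRing R] [IsNoetherianRing R] (I : Ideal R) (hI : I ≠ ⊤) (M : Type u) [AddCommGroup M] [Module R M] [Module.Finite R M] (hM : LocCoh.IsCohenMacaulayModule R M) : Module.supportDim R M = Module.supportDim R (M ⧸ (I • (⊤ : Submodule R M))) + ((LocCoh.idealDepth I M : ℕ∞) : WithBot ℕ∞) := by
  exact aux R I hI M hM

end Groth.Agent.S0322
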