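import Groth.Statements.S0331
import Groth.Agent.Helper1.LocCohFinite
import Groth.Agent.Helper1.LocCohProjAnn

set_option autoImplicit false
universe u v
open LocCoh

namespace Groth.Agent.S0331

/-- Over a Noetherian ring, if H^i_I(R) is finitely generated for i ≤ n, then so is H^i_I(M) for i ≤ n
for every finite module M that becomes finite projective after inverting any single element of I. -/
theorem result (R : Type u) [CommRing R] [IsNoetherianRing R] (I : Ideal R) (n : ℕ) (hR : ∀ i : ℕ, i ≤ n → Module.Finite R (LocCoh.H I i R)) (M : Type u) [AddCommGroup M] [Module R M] [Module.Finite R M] (hM : ∀ f ∈ I, Module.Projective (Localization.Away f) (LocalizedModule (Submonoid.powers f) M)) (i : ℕ) (hi : i ≤ n) : Module.Finite R (LocCoh.H I i M) := by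
  classical
  have h1 : ∀ j : ℕ, j ≤ n → ∃ m : ℕ, ∀ a ∈ I ^ m,
      ∀ x : (localCohomology I j).obj (ModuleCat.of R M), a • x = 0 := by
    intro j hj
    haveI : Module.Finite R ((localCohomology I j).obj (ModuleCat.of R R)) := hR j hj
    obtain ⟨k, hk⟩ := Groth.Agent.Helper1.LocCohFinite.exists_pow_smul_eq_zero I
      (Groth.Agent.Helper1.LocCohTors.isPowerTorsion I j (ModuleCat.of R R))
    exact Groth.Agent.Helper1.LocCohProjAnn.main I I le_rfl j k hk M hM
  choose! m hm using h1
  refine Groth.Agent.Helper1.LocCohFinite.finite_of_annihilated I n M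
    (I ^ ((Finset.range (n + 1)).sup m + 1)) ?_ ?_ i hi
  · rw [Ideal.radical_pow I (Nat.succ_ne_zero _)]
    exact Ideal.le_radical
  · intro j hj a ha x
    refine hm j hj a (Ideal.pow_le_pow_right ?_ ha) x
    exact (Finset.le_sup (f := m) (Finset.mem_range.2 (by omega))).trans (Nat.le_succ _)

end Groth.Agent.S0331
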