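import Groth.Statements.S0347
import Mathlib

set_option autoImplicit false
universe u v
open CategoryTheory MonoidalCategory CartesianMonoidalCategory MonObj GrpObj AlgebraicGeometry
open GrpSch

namespace Groth.Agent.S0347

/-- the shear isomorphism `(g,h) ↦ (g, g h)` -/
noncomputable def shear {C : Type*} [Category C] [CartesianMonoidalCategory C] (G : C) [GrpObj G] :
    G ⊗ G ≅ G ⊗ G where
  hom := lift (fst G G) μ
  inv := lift (fst G G) (lift (fst G G ≫ ι) (snd G G) ≫ μ)
  hom_inv_id := by
    apply CartesianMonoidalCategory.hom_ext
    · simp
    · simp only [Category.assoc, lift_snd, Category.id_comp]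
      rw [comp_lift_assoc, ← Category.assoc, lift_fst, lift_snd]
      rw [lift_inv_left_eq]
      simp
  inv_hom_id := by
    apply CartesianMonoidalCategory.hom_ext
    · simp
    · simp only [Category.assoc, lift_snd, Category.id_comp]
      rw [← eq_lift_inv_left]

/-- The multiplication map of a group scheme over a field is an open map of topological spaces. -/
theorem result (K : Type u) [Field K] (G : Over (Spec (CommRingCat.of K))) [GrpObj G] : IsOpenMap (μ[G].left : (G ⊗ G).left ⟶ G.left) := by
  have h1 : μ[G] = (shear G).hom ≫ snd G G := by simp [shear]
  have h2 : μ[G].left = (shear G).hom.left ≫ (snd G G).left := by rw [h1]; rfl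
  have : Subsingleton (Spec (CommRingCat.of K)) :=
    inferInstanceAs (Subsingleton (PrimeSpectrum K))
  have hG : UniversallyOpen G.hom := inferInstance
  have hs : UniversallyOpen (snd G G).left := by
    rw [Over.snd_left]; infer_instance
  have hiso : IsIso (shear G).hom.left := inferInstance
  have : UniversallyOpen ((shear G).hom.left ≫ (snd G G).left) := inferInstance
  rw [h2]
  exact Scheme.Hom.isOpenMap _

end Groth.Agent.S0347
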