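import Groth.Statements.S0349
import Mathlib
import Groth.Agent.Helper2.GrpTrans
open Groth.Agent.Helper2.GrpTrans CategoryTheory.Limits
-- import your own Groth.Agent.* helpers here

set_option autoImplicit false
universe u v
open CategoryTheory MonoidalCategory CartesianMonoidalCategory MonObj GrpObj AlgebraicGeometry
open GrpSch

namespace Groth.Agent.S0349

/-- An irreducible group scheme over a field is quasi-compact. -/
theorem result (K : Type u) [Field K] (G : Over (Spec (CommRingCat.of K))) [GrpObj G] [IrreducibleSpace G.left] : CompactSpace G.left := by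
  obtain ⟨U, hU, hne⟩ : ∃ U : G.left.Opens, IsAffineOpen U ∧ (U : Set G.left).Nonempty := by
    obtain ⟨x⟩ : Nonempty G.left := inferInstance
    obtain ⟨_, ⟨U, hU, rfl⟩, hx, -⟩ := G.left.isBasis_affineOpens.exists_subset_of_mem_open
      (Set.mem_univ x) isOpen_univ
    exact ⟨U, hU, ⟨x, hx⟩⟩
  have hd : Dense (U : Set G.left) := U.2.dense hne
  -- the compact set
  let j := pullback.map (U.ι ≫ G.hom) (U.ι ≫ G.hom) G.hom G.hom U.ι U.ι (𝟙 _)
    (by simp) (by simp)
  haveI : IsAffine (U : Scheme) := hU
  have hr : Set.range j = (fst G G).left ⁻¹' (U : Set G.left) ∩ (snd G G).left ⁻¹' (U : Set G.left) := by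
    have := Scheme.Pullback.range_map (U.ι ≫ G.hom) (U.ι ≫ G.hom) G.hom G.hom U.ι U.ι (𝟙 _)
      (by simp) (by simp)
    rw [Scheme.Opens.range_ι] at this
    exact this
  have hc : IsCompact (Set.range j) := isCompact_range j.continuous
  have huniv : μ[G].left '' (Set.range j) = Set.univ := by
    rw [Set.eq_univ_iff_forall]
    intro g
    obtain ⟨z, h1, h2, h3⟩ := exists_mul_mem G U U hd hd g
    exact ⟨z, by rw [hr]; exact ⟨h2, h3⟩, h1⟩
  have := hc.image μ[G].left.continuous
  rw [huniv] at this
  exact ⟨this⟩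

end Groth.Agent.S0349
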