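import Groth.Statements.S0355
import Mathlib
import Groth.Agent.Helper2.HS6
open Groth.Agent.Helper2
-- import your own Groth.Agent.* helpers here

set_option autoImplicit false
universe u v
open CategoryTheory MonoidalCategory CartesianMonoidalCategory MonObj GrpObj AlgebraicGeometry
open GrpSch

namespace Groth.Agent.S0355

/-- Let G be a group scheme over a field K. Then the connected component of the identity point of G, as
a subset of the underlying topological space of G, is irreducible and quasi-compact. The published
statement is stronger: it also makes this component a flat closed subgroup scheme and proves it
geometrically irreducible; only the topological part is asserted here. -/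
theorem result (K : Type u) [Field K] (G : Over (Spec (CommRingCat.of K))) [GrpObj G] : IsIrreducible (connectedComponent (η[G].left (IsLocalRing.closedPoint K))) ∧ IsCompact (connectedComponent (η[G].left (IsLocalRing.closedPoint K))) := by
  let pt : ↥(𝟙_ (Over (Spec (CommRingCat.of K)))).left := IsLocalRing.closedPoint K
  have h1 := HS6.connectedComponent_eq G (irreducibleComponent (η[G].left pt))
    (irreducibleComponent_mem_irreducibleComponents _) pt mem_irreducibleComponent
  have h2 := HS6.isCompact_C0 G (irreducibleComponent (η[G].left pt))
    (irreducibleComponent_mem_irreducibleComponents _) pt mem_irreducibleComponent
  change IsIrreducible (connectedComponent (η[G].left pt)) ∧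
    IsCompact (connectedComponent (η[G].left pt))
  rw [h1]
  exact ⟨isIrreducible_irreducibleComponent, h2⟩

end Groth.Agent.S0355
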