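import Groth.Statements.S0358
import Mathlib
import Groth.Agent.Helper6.FlatDepthI
import Groth.Agent.Helper6.CMIdealDepth
import Groth.Agent.Helper2.DepthLocHom

set_option autoImplicit false
universe u v
open LocCoh

namespace Groth.Agent.S0358

/-- For a flat local homomorphism R → S of Noetherian local rings whose closed fibre S/m_R S is
Cohen–Macaulay, and a proper ideal I of S, the I-depth of S is at least dim(S/m_R S) − dim(S/(m_R S
+ I)); stated additively. -/
theorem result (R : Type u) [CommRing R] [IsLocalRing R] [IsNoetherianRing R] (S : Type u) [CommRing S] [IsLocalRing S] [IsNoetherianRing S] [Algebra R S] [IsLocalHom (algebraMap R S)] [Module.Flat R S] (hCM : LocCoh.IsCohenMacaulayLocalRing (S ⧸ (IsLocalRing.maximalIdeal R).map (algebraMap R S))) (I : Ideal S) (hI : I ≠ ⊤) : ringKrullDim (S ⧸ (IsLocalRing.maximalIdeal R).map (algebraMap R S)) ≤ ringKrullDim (S ⧸ ((IsLocalRing.maximalIdeal R).map (algebraMap R S) ⊔ I)) + ((LocCoh.idealDepth I S : ℕ∞) : WithBot ℕ∞) :=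 by
  open Groth.Agent.Helper2 Groth.Agent.Helper6 IsLocalRing in
  have hIm : I ≤ maximalIdeal S := IsLocalRing.le_maximalIdeal hI
  set J : Ideal S := (maximalIdeal R).map (algebraMap R S) with hJ
  have hJm : J ≤ maximalIdeal S := IsLocalRing.map_maximalIdeal_le (algebraMap R S)
  have hJtop : J ≠ ⊤ := fun h => (maximalIdeal.isMaximal S).ne_top (top_le_iff.mp (h ▸ hJm))
  haveI : Nontrivial (S ⧸ J) := Ideal.Quotient.nontrivial_iff.mpr hJtop
  haveI : IsLocalRing (S ⧸ J) := hCM.toIsLocalRing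
  haveI : IsLocalHom (algebraMap S (S ⧸ J)) :=
    IsLocalHom.of_surjective _ Ideal.Quotient.mk_surjective
  -- `S/J` is a CM `S`-module
  have hne : LocCoh.depth S (S ⧸ J) ≠ ⊤ :=
    DepthCM.idealDepth_ne_top (maximalIdeal S) _ (Depth.smul_top_ne_top S _)
  obtain ⟨n, hn⟩ := ENat.ne_top_iff_exists.mp hne
  have hdepth : LocCoh.depth (S ⧸ J) (S ⧸ J) = n :=
    DepthLocHom.key S (S ⧸ J) n (S ⧸ J) hn.symm
  have hCMmod : LocCoh.IsCohenMacaulayModule S (S ⧸ J) := by
    unfold LocCoh.IsCohenMacaulayModule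
    rw [Module.supportDim_quotient_eq_ringKrullDim, ← hn, ← hdepth,
      ← Module.supportDim_self_eq_ringKrullDim]
    exact hCM.supportDim_eq_depth
  have key := CMIdealDepth.cm_supportDim_le I hI n (S ⧸ J) hCMmod hn.symm
  rw [Module.supportDim_quotient_eq_ringKrullDim] at key
  -- the dimension of the quotient by `I`
  have hdim : Module.supportDim S ((S ⧸ J) ⧸ I • (⊤ : Submodule S (S ⧸ J))) =
      ringKrullDim (S ⧸ (J ⊔ I)) := by
    rw [ringKrullDim_quotient, Module.supportDim, Module.support_quotient,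
      Module.support_eq_zeroLocus, Ideal.annihilator_quotient, PrimeSpectrum.zeroLocus_sup]
  rw [hdim] at key
  -- compare the `I`-depths
  have hIX : I • (⊤ : Submodule S (S ⧸ J)) ≠ ⊤ := by
    intro h
    apply Depth.smul_top_ne_top S (S ⧸ J)
    exact eq_top_iff.2 (h.symm.le.trans (Submodule.smul_mono_left hIm))
  have hneI : LocCoh.idealDepth I (S ⧸ J) ≠ ⊤ := DepthCM.idealDepth_ne_top I _ hIX
  obtain ⟨k, hk⟩ := ENat.ne_top_iff_exists.mp hneI
  have heq : (EGA4.mB R S • (⊤ : Submodule S S)) = J := by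
    rw [smul_eq_mul, Ideal.mul_top]
  have hk' : (k : ℕ∞) ≤ LocCoh.idealDepth I (EGA4.FibMod R S S) := by
    rw [DepthCM.idealDepth_congr I (Submodule.quotEquivOfEq _ _ heq), hk]
  have hle := FlatDepthI.idealDepth_ge_fib (A := R) (B := S) I hI k S hk'
  rw [hk] at hle
  refine key.trans (add_le_add le_rfl ?_)
  exact_mod_cast hle

end Groth.Agent.S0358
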