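import Groth.Statements.S0388
import Mathlib
import Groth.Agent.Helper3.SteinG5

set_option autoImplicit false
universe u
open scoped TensorProduct
open FlatMor

namespace Groth.Agent.S0388

open AlgebraicGeometry CategoryTheory Limits in
/-- Stein factorization, general form: let f : X → S be a proper morphism and X → S′ → S its
factorization through the normalization S′ of S in X. Then the morphism X → S′ has geometrically
connected fibres, and for every open U of S′ the induced map O_{S′}(U) → O_X(U ×_{S′} X) is an
isomorphism, that is, O_{S′} → (X → S′)_* O_X is an isomorphism. (That X → S′ is proper and that S′
→ S is integral also hold, but are not part of this statement.) -/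
theorem result {X S : Scheme.{u}} (f : X ⟶ S) [IsProper f] :
    GeometricallyConnected f.toNormalization ∧ ∀ U : f.normalization.Opens, IsIso (f.toNormalization.app U) := by
  have hw : f.toNormalization ≫ f.fromNormalization = f := f.toNormalization_fromNormalization
  haveI : IsProper (f.toNormalization ≫ f.fromNormalization) := by rw [hw]; infer_instance
  haveI : IsProper f.toNormalization := IsProper.of_comp f.toNormalization f.fromNormalization
  haveI : Surjective f.toNormalization := inferInstance
  exact ⟨Groth.Agent.Helper3.SteinG.geometricallyConnected_of_isIso_app f.toNormalization
    (fun U => Groth.Agent.S1340.result f U), fun U => Groth.Agent.S1340.result f U⟩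

end Groth.Agent.S0388
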