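import Groth.Statements.S0392
import Groth.Agent.Helper2.FibreCrit
open Function TensorProduct LinearMap IsLocalRing Groth.Agent.Helper2.FibreCrit
-- import your own Groth.Agent.* helpers here

set_option autoImplicit false
universe u
open FlatMor

namespace Groth.Agent.S0392

open TensorProduct in
/-- Fibrewise criterion of flatness, Noetherian local form: for local homomorphisms R → S → S' of
Noetherian local rings and a nonzero finite S'-module M that is flat over R and whose reduction
modulo the maximal ideal of R is flat over the corresponding fibre ring of S, the ring S is flat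
over R and M is flat over S. -/
theorem result {R S S' M : Type u} [CommRing R] [CommRing S] [CommRing S'] [IsLocalRing R] [IsLocalRing S] [IsLocalRing S']
    [IsNoetherianRing R] [IsNoetherianRing S] [IsNoetherianRing S'] [Algebra R S] [Algebra S S'] [Algebra R S'] [IsScalarTower R S S']
    [IsLocalHom (algebraMap R S)] [IsLocalHom (algebraMap S S')]
    [AddCommGroup M] [Module S' M] [Module S M] [Module R M] [IsScalarTower S S' M] [IsScalarTower R S M]
    [Module.Finite S' M] [Nontrivial M] [Module.Flat R M]
    (h : Module.Flat (S ⧸ ((IsLocalRing.maximalIdeal R).map (algebraMap R S))) ((S ⧸ ((IsLocalRing.maximalIdeal R).map (algebraMap R S))) ⊗[S] M)) :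
    Module.Flat R S ∧ Module.Flat S M := by
  have hI : (maximalIdeal R).map (algebraMap R S) ≠ ⊤ := by
    intro htop
    have hle : (maximalIdeal R).map (algebraMap R S) ≤ maximalIdeal S := by
      rw [Ideal.map_le_iff_le_comap]
      intro x hx
      exact (mem_maximalIdeal _).2
        (fun hu => (mem_maximalIdeal x).1 hx (isUnit_of_map_unit _ x hu))
    rw [htop, top_le_iff] at hle
    exact Ideal.IsPrime.ne_top inferInstance hle
  have hflat : Module.Flat S M :=
    Groth.Agent.Helper2.LocCrit2.flat_of_quotient (R := S) (S := S') _ hI
      (rTensor_map_injective (maximalIdeal R)) h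
  refine ⟨?_, hflat⟩
  have hff : Module.FaithfullyFlat S M := by
    refine ⟨?_⟩
    intro 𝔫 h𝔫 htop
    have h𝔫' : 𝔫 = maximalIdeal S := IsLocalRing.eq_maximalIdeal h𝔫
    subst h𝔫'
    have hle : (maximalIdeal S).map (algebraMap S S') ≤ Ideal.jacobson ⊥ := by
      refine le_trans ?_ (IsLocalRing.maximalIdeal_le_jacobson _)
      rw [Ideal.map_le_iff_le_comap]
      intro x hx
      exact (mem_maximalIdeal _).2
        (fun hu => (mem_maximalIdeal x).1 hx (isUnit_of_map_unit _ x hu))
    have key : ∀ x ∈ (maximalIdeal S • ⊤ : Submodule S M),
        x ∈ ((maximalIdeal S).map (algebraMap S S') • ⊤ : Submodule S' M) := by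
      intro x hx
      induction hx using Submodule.smul_induction_on' with
      | smul r hr n hn =>
        rw [← algebraMap_smul S' r n]
        exact Submodule.smul_mem_smul (Ideal.mem_map_of_mem _ hr) trivial
      | add x _ y _ hx hy => exact add_mem hx hy
    have htop' : (⊤ : Submodule S' M) ≤ (maximalIdeal S).map (algebraMap S S') • ⊤ := by
      intro x _
      exact key x (by rw [htop]; trivial)
    have := Submodule.eq_bot_of_le_smul_of_le_jacobson_bot _ (⊤ : Submodule S' M)
      (Module.Finite.fg_top) htop' hle
    exact top_ne_bot this
  exact flat_of_faithfullyFlat_module (R := R) (S := S) (M := M)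

end Groth.Agent.S0392
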