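import Groth.Statements.S0395
import Mathlib
import Groth.Agent.Helper2.FlatFibre
-- import your own Groth.Agent.* helpers here

set_option autoImplicit false
universe u
open FlatMor

namespace Groth.Agent.S0395

open TensorProduct nonZeroDivisors in
/-- For a flat local homomorphism R → S of Noetherian local rings and an element f of S that is regular
on the fibre ring S/mS, the quotient of S by f is again R-flat and f is regular on S. -/
theorem result {R S : Type u} [CommRing R] [CommRing S] [IsLocalRing R] [IsLocalRing S] [IsNoetherianRing R] [IsNoetherianRing S] [Algebra R S] [IsLocalHom (algebraMap R S)] [Module.Flat R S]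
    (f : S) (hf : Ideal.Quotient.mk ((IsLocalRing.maximalIdeal R).map (algebraMap R S)) f ∈ nonZeroDivisors (S ⧸ ((IsLocalRing.maximalIdeal R).map (algebraMap R S)))) :
    Module.Flat R (S ⧸ Ideal.span {f}) ∧ f ∈ nonZeroDivisors S := by
  have hf' : ∀ z : S, f • z ∈ ((IsLocalRing.maximalIdeal R).map (algebraMap R S) • ⊤ : Submodule S S) →
      z ∈ ((IsLocalRing.maximalIdeal R).map (algebraMap R S) • ⊤ : Submodule S S) := by
    intro z hz
    rw [smul_eq_mul, Ideal.mul_top] at hz ⊢
    rw [← Ideal.Quotient.eq_zero_iff_mem] at hz ⊢
    rw [smul_eq_mul, map_mul] at hz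
    exact (mem_nonZeroDivisors_iff.1 hf).1 _ hz
  constructor
  · refine Groth.Agent.Helper2.FlatFibre.flat_quot (A := R) (B := S) (N := S) f hf'
      (Submodule.mkQ (Ideal.span {f})) (Submodule.mkQ_surjective _) ?_
    intro x
    rw [Submodule.mkQ_apply, Submodule.Quotient.mk_eq_zero, Ideal.mem_span_singleton']
    simp [mul_comm]
  · have := Groth.Agent.Helper2.FlatFibre.regular (A := R) (B := S) (N := S) f hf'
    rw [mem_nonZeroDivisors_iff_right]
    intro x hx
    apply this
    simpa [mul_comm] using hx

end Groth.Agent.S0395
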