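import Groth.Statements.S0396
import Groth.Agent.Helper2.AdicFlat
open TensorProduct Function LinearMap Groth.Agent.Helper2.AdicFlat
-- import your own Groth.Agent.* helpers here

set_option autoImplicit false
universe u
open FlatMor

namespace Groth.Agent.S0396

open TensorProduct in
/-- For a map of Noetherian rings R → S, an ideal I of R and a finite S-module M such that M/IⁿM is flat
over R/Iⁿ for every n ≥ 1, the localization of M at any prime of S containing IS is flat over R. -/
theorem result {R S M : Type u} [CommRing R] [CommRing S] [IsNoetherianRing R] [IsNoetherianRing S] [Algebra R S]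
    [AddCommGroup M] [Module R M] [Module S M] [IsScalarTower R S M] [Module.Finite S M] (I : Ideal R)
    (h : ∀ n : ℕ, 0 < n → Module.Flat (R ⧸ I ^ n) ((R ⧸ I ^ n) ⊗[R] M))
    (q : Ideal S) [q.IsPrime] (hq : I.map (algebraMap R S) ≤ q) :
    Module.Flat R (LocalizedModule q.primeCompl M) := by
  have hT : ∀ k, 0 < k → TorsionFlat (I ^ k) (LocalizedModule q.primeCompl M) := by
    intro k hk
    have := h k hk
    exact (torsionFlat_of_flat (I ^ k) M).localized q.primeCompl
  have hle : I.map (algebraMap R (Localization.AtPrime q)) ≤ Ideal.jacobson ⊥ := by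
    refine le_trans ?_ (IsLocalRing.maximalIdeal_le_jacobson _)
    rw [IsScalarTower.algebraMap_eq R S (Localization.AtPrime q), ← Ideal.map_map]
    refine (Ideal.map_mono hq).trans ?_
    rw [Localization.AtPrime.map_eq_maximalIdeal]
  refine Groth.Agent.Helper1.FlatKrull.flat_of_ker_le_iInf (A := R)
    (B := Localization.AtPrime q) (I.map (algebraMap R (Localization.AtPrime q))) hle ?_
  intro J x hx n
  exact mem_smul_top_of_mem_range I J n x (mem_range_of_torsionFlat I _ hT J x hx n)

end Groth.Agent.S0396
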