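import Groth.Statements.S0397
import Groth.Agent.Lead.Nilpotent

set_option autoImplicit false
universe u
open FlatMor

namespace Groth.Agent.S0397

/-- Over a local ring whose maximal ideal is nilpotent, every flat module (not necessarily finitely
generated) is free. -/
theorem result {R M : Type u} [CommRing R] [IsLocalRing R] (hR : IsNilpotent (IsLocalRing.maximalIdeal R))
    [AddCommGroup M] [Module R M] [Module.Flat R M] : Module.Free R M := by
  classical
  open TensorProduct IsLocalRing in
  let w := Module.Free.chooseBasis (ResidueField R) ((ResidueField R) ⊗[R] M)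
  obtain ⟨v, eq⟩ := (TensorProduct.mk_surjective R M (IsLocalRing.ResidueField R)
    Ideal.Quotient.mk_surjective).comp_left w
  have eq' : ⇑(TensorProduct.mk R (IsLocalRing.ResidueField R) M 1) ∘ v = ⇑w := eq
  have hli : LinearIndependent R v :=
    Module.IsLocalRing.linearIndependent_of_flat _ (eq' ▸ w.linearIndependent)
  have hsp : Submodule.span R (Set.range v) = ⊤ := by
    apply Groth.Agent.Lead.eq_top_of_sup_smul_top_of_isNilpotent (IsLocalRing.maximalIdeal R) hR
    have hN : (Submodule.span R (Set.range v)).map
        (TensorProduct.mk R (IsLocalRing.ResidueField R) M 1) = ⊤ := by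
      rw [Submodule.map_span, ← Submodule.restrictScalars_span R (IsLocalRing.ResidueField R)
        Ideal.Quotient.mk_surjective, Submodule.restrictScalars_eq_top_iff,
        ← w.span_eq, ← Set.range_comp]
      congr 1
      rw [← eq']
    intro x _
    have hx : TensorProduct.mk R (IsLocalRing.ResidueField R) M 1 x ∈
        (Submodule.span R (Set.range v)).map
          (TensorProduct.mk R (IsLocalRing.ResidueField R) M 1) := by
      rw [hN]; trivial
    obtain ⟨n, hn, hnx⟩ := hx
    have hker : x - n ∈ LinearMap.ker
        (TensorProduct.mk R (R ⧸ IsLocalRing.maximalIdeal R) M 1) := by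
      rw [LinearMap.mem_ker, map_sub, sub_eq_zero]
      exact hnx.symm
    rw [LinearMap.ker_tensorProductMk] at hker
    have : x = n + (x - n) := by abel
    rw [this]
    exact Submodule.add_mem_sup hn hker
  exact Module.Free.of_basis (Module.Basis.mk hli hsp.ge)

end Groth.Agent.S0397
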