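import Groth.Statements.S0398
import Mathlib
import Groth.Agent.S4853
-- import your own Groth.Agent.* helpers here

set_option autoImplicit false
universe u
open FlatMor

namespace Groth.Agent.S0398

open TensorProduct in
/-- For an injective ring map R → S with R Artinian and an R-module M, if S ⊗ M is flat over S then M is
flat over R. -/
theorem result {R S M : Type u} [CommRing R] [CommRing S] [IsArtinianRing R] [Algebra R S] (hinj : Function.Injective (algebraMap R S))
    [AddCommGroup M] [Module R M] [Module.Flat S (S ⊗[R] M)] : Module.Flat R M := by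
  apply Module.flat_of_localized_maximal
  intro P hP
  have hPp : P.IsPrime := hP.isPrime
  let R_P := Localization.AtPrime P
  let S_P := Localization (Algebra.algebraMapSubmonoid S P.primeCompl)
  let M_P := LocalizedModule P.primeCompl M
  have hJ : IsNilpotent (IsLocalRing.maximalIdeal R_P) := by
    rw [← IsLocalRing.jacobson_eq_maximalIdeal ⊥ bot_ne_top]
    exact IsArtinianRing.isNilpotent_jacobson_bot
  have hfree : Module.Free (R_P ⧸ IsLocalRing.maximalIdeal R_P)
      ((R_P ⧸ IsLocalRing.maximalIdeal R_P) ⊗[R_P] M_P) := by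
    let _ : Field (R_P ⧸ IsLocalRing.maximalIdeal R_P) := Ideal.Quotient.field _
    exact Module.Free.of_divisionRing _ _
  obtain ⟨R₀, -, -, hR₀⟩ := Groth.Agent.S4853.result (A := R_P) M_P
    (IsLocalRing.maximalIdeal R_P) hJ hfree
  -- flatness after base change to S_P
  have e1 : R_P ⊗[R] M ≃ₗ[R_P] M_P :=
    (IsLocalizedModule.isBaseChange P.primeCompl R_P
      (LocalizedModule.mkLinearMap P.primeCompl M)).equiv
  have e2 : S_P ⊗[R_P] M_P ≃ₗ[S_P] S_P ⊗[R_P] (R_P ⊗[R] M) :=
    TensorProduct.AlgebraTensorModule.congr (LinearEquiv.refl S_P S_P) e1.symm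
  have e3 : S_P ⊗[R_P] (R_P ⊗[R] M) ≃ₗ[S_P] S_P ⊗[R] M :=
    TensorProduct.AlgebraTensorModule.cancelBaseChange R R_P S_P S_P M
  have e4 : S_P ⊗[S] (S ⊗[R] M) ≃ₗ[S_P] S_P ⊗[R] M :=
    TensorProduct.AlgebraTensorModule.cancelBaseChange R S S_P S_P M
  have hflatSP : Module.Flat S_P (S_P ⊗[R_P] M_P) :=
    Module.Flat.of_linearEquiv (e2.trans (e3.trans e4.symm))
  have h1 : Ideal.map (algebraMap R_P S_P) R₀ = ⊥ := (hR₀ S_P).2.1 hflatSP
  have hinjP : Function.Injective (algebraMap R_P S_P) :=
    localizationAlgebra_injective R_P S_P hinj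
  have h2 : R₀ = ⊥ := (Ideal.map_eq_bot_iff_of_injective hinjP).1 h1
  have h3 : Module.Free R_P (R_P ⊗[R_P] M_P) := (hR₀ R_P).1.2 (by rw [h2]; simp)
  have h4 : Module.Flat R_P M_P :=
    Module.Flat.of_linearEquiv (TensorProduct.lid R_P M_P).symm
  exact (Module.flat_iff_of_isLocalization R_P P.primeCompl M_P).1 h4

end Groth.Agent.S0398
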