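import Groth.Statements.S0399
import Groth.Agent.Helper2.RegFlat
open TensorProduct Function LinearMap Groth.Agent.Helper2.TorReg Groth.Agent.Helper2.GrFlatCrit Groth.Agent.Helper2.ContentIdeal Groth.Agent.Helper2.RegFlat
-- import your own Groth.Agent.* helpers here

set_option autoImplicit false
universe u
open FlatMor

namespace Groth.Agent.S0399

open TensorProduct in
/-- For a ring A, a module M and an element f that is a nonzerodivisor on A and on M, if M_f is flat
over A_f and M/fM is flat over A/fA then M is flat over A (the source's companion statement for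
faithful flatness is not stated). -/
theorem result {A M : Type u} [CommRing A] [AddCommGroup M] [Module A M] (f : A) (hA : f ∈ nonZeroDivisors A) (hM : IsSMulRegular M f)
    [Module.Flat (Localization.Away f) (LocalizedModule (Submonoid.powers f) M)]
    [Module.Flat (A ⧸ Ideal.span {f}) ((A ⧸ Ideal.span {f}) ⊗[A] M)] : Module.Flat A M := by
  rw [Module.Flat.iff_rTensor_injective']
  intro 𝔞
  rw [← muI_injective_iff]
  have hflat : Module.Flat A (LocalizedModule (Submonoid.powers f) M) :=
    Module.Flat.trans A (Localization.Away f) _
  have h𝔞 : IsSMulRegular 𝔞 f := by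
    intro a b hab
    apply Subtype.ext
    have h2 : f * (a : A) = f * (b : A) := congrArg Subtype.val hab
    exact (mem_nonZeroDivisors_iff_right.1 hA |> fun _ => by
      have h3 : (a : A) * f = (b : A) * f := by rw [mul_comm, h2, mul_comm]
      exact (IsRegular.right (isRegular_iff_mem_nonZeroDivisors.2 hA)) h3)
  have hreg := isSMulRegular_tensor f hM 𝔞 h𝔞
  rw [injective_iff_map_eq_zero]
  intro x hx
  have h1 : lTensor 𝔞 (LocalizedModule.mkLinearMap (Submonoid.powers f) M) x = 0 := by
    have hinj : Injective (muI (M := LocalizedModule (Submonoid.powers f) M) 𝔞) := by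
      rw [muI_injective_iff]
      exact Module.Flat.rTensor_preserves_injective_linearMap _ Subtype.val_injective
    apply hinj
    rw [map_zero, muI_natural, hx, map_zero]
  obtain ⟨c, hc⟩ := (IsLocalizedModule.eq_zero_iff (Submonoid.powers f)
    (lTensor 𝔞 (LocalizedModule.mkLinearMap (Submonoid.powers f) M))).1 h1
  obtain ⟨_, k, rfl⟩ := c
  have hk : IsSMulRegular (𝔞 ⊗[A] M) (f ^ k) := hreg.pow k
  apply hk
  show f ^ k • x = f ^ k • 0
  rw [smul_zero]
  exact hc

end Groth.Agent.S0399
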