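import Groth.Statements.S0401
import Mathlib

set_option autoImplicit false
universe u
open FlatMor

namespace Groth.Agent.S0401

/-- For a finite type ring map R → S quasi-finite at a prime q lying over p, the dimension of S_q is at
most the dimension of R_p. -/
theorem result {R S : Type u} [CommRing R] [CommRing S] [Algebra R S] [Algebra.FiniteType R S] (q : Ideal S) [q.IsPrime] [Algebra.QuasiFiniteAt R q] :
    ringKrullDim (Localization.AtPrime q) ≤ ringKrullDim (Localization.AtPrime (q.under R)) := by
  let φ : Localization.AtPrime (q.under R) →+* Localization.AtPrime q :=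
    Localization.localRingHom (q.under R) q (algebraMap R S) rfl
  have hφ : ∀ r : R, φ (algebraMap R (Localization.AtPrime (q.under R)) r)
      = algebraMap R (Localization.AtPrime q) r := by
    intro r
    rw [Localization.localRingHom_to_map, IsScalarTower.algebraMap_apply R S (Localization.AtPrime q)]
  have hQF : Algebra.QuasiFinite R (Localization.AtPrime q) := ‹Algebra.QuasiFiniteAt R q›
  unfold ringKrullDim
  apply Order.krullDim_le_of_strictMono (PrimeSpectrum.comap φ)
  intro P1 P2 h
  have hle : PrimeSpectrum.comap φ P1 ≤ PrimeSpectrum.comap φ P2 := by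
    intro x hx
    exact h.le hx
  refine lt_of_le_of_ne hle ?_
  intro heq
  have hu : P1.asIdeal.under R = P2.asIdeal.under R := by
    ext r
    simp only [Ideal.under, Ideal.mem_comap]
    rw [← hφ r]
    have := congrArg (fun P : PrimeSpectrum _ => algebraMap R (Localization.AtPrime (q.under R)) r ∈ P.asIdeal) heq
    simpa using this
  have : P1.asIdeal = P2.asIdeal :=
    Algebra.QuasiFinite.eq_of_le_of_under_eq (R := R) P1.asIdeal P2.asIdeal h.le hu
  exact h.ne (PrimeSpectrum.ext this)

end Groth.Agent.S0401
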