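import Groth.Statements.S0417
import Groth.Agent.Lead.FibreCI
import Groth.Agent.Lead.Thickening

set_option autoImplicit false
universe u
open FlatMor

namespace Groth.Agent.S0417

open AlgebraicGeometry CategoryTheory Limits in
theorem isIso_residueFieldMap {S S' : Scheme.{u}} (i : S' ⟶ S) [IsClosedImmersion i] (s' : S') :
    IsIso (i.residueFieldMap s') := by
  rw [ConcreteCategory.isIso_iff_bijective]
  refine ⟨RingHom.injective (i.residueFieldMap s').hom, ?_⟩
  have h1 := Scheme.residue_residueFieldMap i s'
  have h2 : Function.Surjective (i.stalkMap s' ≫ S'.residue s').hom := by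
    rw [CommRingCat.hom_comp]
    exact (Ideal.Quotient.mk_surjective).comp (i.stalkMap_surjective s')
  rw [← h1, CommRingCat.hom_comp] at h2
  change Function.Surjective (i.residueFieldMap s').hom
  rw [RingHom.coe_comp] at h2
  exact Function.Surjective.of_comp h2

open AlgebraicGeometry CategoryTheory Limits in
theorem aux {X S S' : Scheme.{u}} (f : X ⟶ S) (i : S' ⟶ S) [IsClosedImmersion i] (hi : Function.Bijective i)
    [LocallyOfFiniteType f] [QuasiCompact f] [IsClosedImmersion (pullback.snd f i)] : IsClosedImmersion f := by
  haveI : Surjective i := ⟨hi.2⟩
  haveI : Surjective (pullback.fst f i) := MorphismProperty.pullback_fst (P := @Surjective) _ _ ‹_›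
  have hcomp : pullback.fst f i ≫ f = pullback.snd f i ≫ i := pullback.condition
  haveI : IsClosedImmersion (pullback.fst f i ≫ f) := hcomp ▸ inferInstance
  haveI : UniversallyInjective f :=
    Groth.Agent.Lead.universallyInjective_of_comp_surjective (pullback.fst f i) f
  haveI : UniversallyClosed f := UniversallyClosed.of_comp_surjective (pullback.fst f i) f
  haveI : IsSeparated f := by
    constructor
    have hsurj : Surjective (pullback.diagonal f) := (UniversallyInjective.iff_diagonal (f := f)).mp ‹_›
    apply IsClosedImmersion.of_isPreimmersion
    rw [hsurj.surj.range_eq]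
    exact isClosed_univ
  haveI : IsProper f := {}
  haveI : IsFinite f := IsFinite.of_isProper_of_locallyQuasiFinite f
  apply Groth.Agent.Lead.FibreCI.isClosedImmersion_of_isFinite_of_fiber f
  intro s
  obtain ⟨s', rfl⟩ := hi.2 s
  haveI := isIso_residueFieldMap i s'
  have hfac : (inv (Spec.map (i.residueFieldMap s')) ≫ S'.fromSpecResidueField s') ≫ i =
      S.fromSpecResidueField (i s') := by
    rw [Category.assoc, IsIso.inv_comp_eq]
    exact (Scheme.Hom.SpecMap_residueFieldMap_fromSpecResidueField i s').symm
  have hbig : IsPullback (f.fiberι (i s')) (f.fiberToSpecResidueField (i s')) f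
      ((inv (Spec.map (i.residueFieldMap s')) ≫ S'.fromSpecResidueField s') ≫ i) := by
    rw [hfac]
    exact IsPullback.of_hasPullback _ _
  have hright : IsPullback (pullback.fst f i) (pullback.snd f i) f i :=
    IsPullback.of_hasPullback _ _
  have hleft := IsPullback.of_right' hbig hright
  exact MorphismProperty.of_isPullback (P := @IsClosedImmersion) hleft inferInstance

open AlgebraicGeometry CategoryTheory Limits in
/-- Let i : S' → S be a closed immersion that is bijective on points and f : X → S a morphism of finite
type (locally of finite type and quasi-compact) whose base change X ×_S S' → S' is a closed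
immersion. Then f is a closed immersion. The published statement alternatively allows S' → S of
finite presentation in place of the finite-type hypothesis on f; only the first alternative is
stated. -/
theorem result {X S S' : Scheme.{u}} (f : X ⟶ S) (i : S' ⟶ S) [IsClosedImmersion i] (hi : Function.Bijective i)
    [LocallyOfFiniteType f] [QuasiCompact f] [IsClosedImmersion (pullback.snd f i)] : IsClosedImmersion f := by
  exact aux f i hi

end Groth.Agent.S0417
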