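import Groth.Statements.S0425
import Groth.Agent.Lead.WeaklyEtale
import Mathlib.AlgebraicGeometry.Morphisms.FlatMono

set_option autoImplicit false
universe u
open FlatMor

namespace Groth.Agent.S0425

open AlgebraicGeometry CategoryTheory Limits in
/-- A weakly étale universal homeomorphism is an isomorphism. -/
theorem result {X Y : Scheme.{u}} (f : X ⟶ Y) [WeaklyEtale f] (h : FlatMor.IsUnivHomeo f) : IsIso f := by
  have hfst : IsHomeomorph (pullback.fst f f) := h _ _ _ (IsPullback.of_hasPullback f f)
  have hf : IsHomeomorph f := h (𝟙 X) (𝟙 Y) f (IsPullback.of_id_snd)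
  have hcomp : ∀ x, (pullback.fst f f) ((pullback.diagonal f) x) = x := fun x => by
    rw [← Scheme.Hom.comp_apply, pullback.diagonal_fst]; rfl
  have hsurjΔ : Function.Surjective (pullback.diagonal f) := fun z =>
    ⟨pullback.fst f f z, hfst.injective (hcomp _)⟩
  have : Surjective (pullback.diagonal f) := ⟨hsurjΔ⟩
  have : QuasiCompact (pullback.diagonal f) := by
    refine ⟨fun U hU hUc => ?_⟩
    have : (pullback.diagonal f) ⁻¹' U = (pullback.fst f f) '' U := by
      ext x
      constructor
      · intro hx; exact ⟨_, hx, hcomp x⟩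
      · rintro ⟨z, hz, rfl⟩
        obtain ⟨x, rfl⟩ := hsurjΔ z
        rw [hcomp]; exact hz
    rw [this]
    exact hUc.image hfst.continuous
  have : IsIso (pullback.diagonal f) := Flat.isIso_of_surjective_of_mono _
  have : Mono f := (pullback.isIso_diagonal_iff f).mp inferInstance
  have : Surjective f := ⟨hf.surjective⟩
  have : QuasiCompact f := ⟨fun U hU hc ↦ hf.homeomorph.isCompact_preimage.mpr hc⟩
  exact Flat.isIso_of_surjective_of_mono f

end Groth.Agent.S0425
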