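import Groth.Statements.S0433
import Groth.Agent.Lead.SchPushoutF
import Mathlib

set_option autoImplicit false
universe u
open FlatMor

namespace Groth.Agent.S0433

open AlgebraicGeometry CategoryTheory Limits in
/-- For a surjective ring map A' → A and any ring map B → A, the spectra of A, A', B and of the fibre
product ring B ×_A A' form a pushout square of schemes. -/
theorem result {A A' B : Type u} [CommRing A] [CommRing A'] [CommRing B] (p : A' →+* A) (hp : Function.Surjective p) (q : B →+* A) :
    IsPushout (Spec.map (CommRingCat.ofHom p)) (Spec.map (CommRingCat.ofHom q))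
      (Spec.map (pullback.snd (CommRingCat.ofHom q) (CommRingCat.ofHom p)))
      (Spec.map (pullback.fst (CommRingCat.ofHom q) (CommRingCat.ofHom p))) := by
  refine Groth.Agent.Lead.SchPushout.spec_isPushout
    (pullback.fst (CommRingCat.ofHom q) (CommRingCat.ofHom p))
    (pullback.snd (CommRingCat.ofHom q) (CommRingCat.ofHom p))
    (CommRingCat.ofHom q) (CommRingCat.ofHom p) pullback.condition ?_ ?_ hp
  · intro x y h1 h2
    obtain ⟨x₁, x₂, hx, rfl⟩ := Limits.Concrete.pullbackMk_surjective
      (CommRingCat.ofHom q) (CommRingCat.ofHom p) x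
    obtain ⟨y₁, y₂, hy, rfl⟩ := Limits.Concrete.pullbackMk_surjective
      (CommRingCat.ofHom q) (CommRingCat.ofHom p) y
    rw [Limits.Concrete.pullbackMk_fst, Limits.Concrete.pullbackMk_fst] at h1
    rw [Limits.Concrete.pullbackMk_snd, Limits.Concrete.pullbackMk_snd] at h2
    subst h1 h2
    rfl
  · intro b a' h
    exact ⟨Limits.Concrete.pullbackMk (CommRingCat.ofHom q) (CommRingCat.ofHom p) b a' h,
      Limits.Concrete.pullbackMk_fst _ _ _ _ _, Limits.Concrete.pullbackMk_snd _ _ _ _ _⟩

end Groth.Agent.S0433
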