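import Groth.Statements.S0443
import Mathlib

set_option autoImplicit false
universe u
open FlatMor

namespace Groth.Agent.S0443

open AlgebraicGeometry CategoryTheory Limits in
/-- For a finite morphism π : X → Y and a point x of X that is the only point of its fibre, the induced
homomorphism of local rings O_{Y,π(x)} → O_{X,x} is finite. (The published lemma has further parts,
not stated here.) -/
theorem result {X Y : Scheme.{u}} (π : X ⟶ Y) [IsFinite π] (x : X) (hx : ∀ x' : ↑X, π x' = π x → x' = x) :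
    (π.stalkMap x).hom.Finite := by
  obtain ⟨V, hV, hsV⟩ : ∃ V : Y.Opens, IsAffineOpen V ∧ π x ∈ V := by
    obtain ⟨_, ⟨V, hV, rfl⟩, hyV, -⟩ :=
      (Y.isBasis_affineOpens).exists_subset_of_mem_open (Set.mem_univ (π x)) isOpen_univ
    exact ⟨V, hV, hyV⟩
  have hU : IsAffineOpen (π ⁻¹ᵁ V) := hV.preimage π
  have hxU : x ∈ π ⁻¹ᵁ V := hsV
  let φ := (π.appLE V (π ⁻¹ᵁ V) le_rfl).hom
  let _ : Algebra Γ(Y, V) Γ(X, π ⁻¹ᵁ V) := φ.toAlgebra
  have hfin : Module.Finite Γ(Y, V) Γ(X, π ⁻¹ᵁ V) := by
    have h1 : φ.IsIntegral := by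
      have := IsIntegralHom.isIntegral_app π V hV
      rwa [Scheme.Hom.app_eq_appLE] at this
    have h2 : φ.FiniteType :=
      HasRingHomProperty.appLE (P := @LocallyOfFiniteType) π inferInstance ⟨V, hV⟩ ⟨_, hU⟩ le_rfl
    exact RingHom.IsIntegral.to_finite h1 h2
  set p := (hV.primeIdealOf ⟨π x, hsV⟩).asIdeal with hp
  set q := (hU.primeIdealOf ⟨x, hxU⟩).asIdeal with hq
  have hqp : q.comap (algebraMap Γ(Y, V) Γ(X, π ⁻¹ᵁ V)) = p :=
    congr($(IsAffineOpen.comap_primeIdealOf_appLE V hV _ hU le_rfl hxU).1)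
  have : q.LiesOver p := ⟨hqp.symm⟩
  have hprimes : p.primesOver Γ(X, π ⁻¹ᵁ V) = {q} := by
    ext q'
    simp only [Set.mem_singleton_iff]
    constructor
    · rintro ⟨hq'prime, hq'over⟩
      let y : PrimeSpectrum Γ(X, π ⁻¹ᵁ V) := ⟨q', hq'prime⟩
      have h1 : π (hU.fromSpec y) = hV.fromSpec (Spec.map (π.appLE V (π ⁻¹ᵁ V) le_rfl) y) := by
        rw [← Scheme.Hom.comp_apply, ← Scheme.Hom.comp_apply, IsAffineOpen.SpecMap_appLE_fromSpec]
      have h2 : Spec.map (π.appLE V (π ⁻¹ᵁ V) le_rfl) y = hV.primeIdealOf ⟨π x, hsV⟩ := by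
        apply PrimeSpectrum.ext
        change q'.comap φ = p
        exact hq'over.over.symm
      rw [h2, hV.fromSpec_primeIdealOf] at h1
      have h3 := hx _ h1
      have h4 : hU.fromSpec y = hU.fromSpec (hU.primeIdealOf ⟨x, hxU⟩) := by
        rw [hU.fromSpec_primeIdealOf]; exact h3
      have h5 := hU.fromSpec.isOpenEmbedding.injective h4
      exact congr($(h5).asIdeal)
    · rintro rfl
      exact ⟨inferInstance, inferInstance⟩
  let _ := Localization.AtPrime.algebraOfLiesOver p q
  have hfinloc := Localization.finite_of_primesOver_eq_singleton hprimes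
  let e := IsAffineOpen.arrowStalkMapIso π V hV _ hU le_rfl hxU
  let eL : Y.presheaf.stalk (π x) ≅ CommRingCat.of (Localization.AtPrime p) :=
    Arrow.leftFunc.mapIso e
  let eR : X.presheaf.stalk x ≅ CommRingCat.of (Localization.AtPrime q) :=
    Arrow.rightFunc.mapIso e
  have hw : π.stalkMap x ≫ eR.hom = eL.hom ≫ CommRingCat.ofHom
      (algebraMap (Localization.AtPrime p) (Localization.AtPrime q)) := e.hom.w.symm
  have hw' : π.stalkMap x = eL.hom ≫ CommRingCat.ofHom
      (algebraMap (Localization.AtPrime p) (Localization.AtPrime q)) ≫ eR.inv := by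
    rw [← Category.assoc, ← hw, Category.assoc, eR.hom_inv_id, Category.comp_id]
  rw [hw']
  simp only [CommRingCat.hom_comp, CommRingCat.hom_ofHom]
  refine RingHom.Finite.comp (RingHom.Finite.comp ?_ ?_) ?_
  · exact RingHom.Finite.of_surjective _ (ConcreteCategory.bijective_of_isIso eR.inv).surjective
  · exact (RingHom.finite_algebraMap).mpr hfinloc
  · exact RingHom.Finite.of_surjective _ (ConcreteCategory.bijective_of_isIso eL.hom).surjective

end Groth.Agent.S0443
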