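import Groth.Statements.S0474
import Groth.Agent.Helper1.Brown

set_option autoImplicit false
universe v u u'
open CategoryTheory
open CohDer

namespace Groth.Agent.S0474

open CategoryTheory.Limits in
/-- Let D be a compactly generated triangulated category with direct sums and F : D ⥤ D' an exact
functor of (pre)triangulated categories commuting with direct sums. Then F is a left adjoint. (The
source also shows the adjoint is exact; we only assert existence.) -/
theorem result {D : Type u} [Category.{v} D] [Preadditive D] [Limits.HasZeroObject D] [HasShift D ℤ]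
    [∀ n : ℤ, (shiftFunctor D n).Additive] [Pretriangulated D] [IsTriangulated D] [HasCoproducts.{v} D]
    {D' : Type u'} [Category.{v} D'] [Preadditive D'] [Limits.HasZeroObject D'] [HasShift D' ℤ]
    [∀ n : ℤ, (shiftFunctor D' n).Additive] [Pretriangulated D']
    (hD : CohDer.IsCompactlyGenerated D) (F : D ⥤ D') [F.CommShift ℤ] [F.IsTriangulated]
    [∀ (ι : Type v), PreservesColimitsOfShape (Discrete ι) F] : F.IsLeftAdjoint := by
  open Pretriangulated.Opposite in
  apply Functor.isLeftAdjoint_of_rightAdjointObjIsDefined_eq_top
  ext Y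
  simp only [Pi.top_apply, Prop.top_eq_true, iff_true]
  rw [Functor.rightAdjointObjIsDefined_iff]
  obtain ⟨ι, E, hc, hg⟩ := hD
  haveI : Limits.HasColimitsOfShape (Discrete ℕ) D :=
    Limits.hasColimitsOfShape_of_equivalence
      (Discrete.equivalence (Equiv.ulift : ULift.{v} ℕ ≃ ℕ))
  let H : Dᵒᵖ ⥤ AddCommGrpCat.{v} := F.op ⋙ preadditiveYoneda.obj Y
  haveI : H.IsHomological := by
    dsimp only [H]
    infer_instance
  haveI hP : ∀ (κ : Type v), Limits.PreservesLimitsOfShape (Discrete κ) H := fun κ => by
    haveI : Limits.PreservesColimitsOfShape (Discrete κ)ᵒᵖ F :=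
      Limits.preservesColimitsOfShape_of_equiv (Discrete.opposite κ).symm F
    haveI : Limits.PreservesLimitsOfShape (Discrete κ) F.op :=
      Limits.preservesLimitsOfShape_op (Discrete κ) F
    dsimp only [H]
    infer_instance
  haveI : Limits.PreservesLimitsOfShape (Discrete ℕ) H :=
    Limits.preservesLimitsOfShape_of_equiv
      (Discrete.equivalence (Equiv.ulift : ULift.{v} ℕ ≃ ℕ)) H
  exact Groth.Agent.Helper1.Brown.representable H E hc hg

end Groth.Agent.S0474
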