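import Groth.Statements.S0478
import Groth.Agent.Helper4.KInjRes
import Groth.Agent.Helper9.DProd
import Mathlib

set_option autoImplicit false
universe v u
open CategoryTheory
open CohDer

namespace Groth.Agent.S0478


open CategoryTheory.Limits in
/-- For a Grothendieck abelian category A the derived category D(A) has all products indexed by small
types. The published statement also computes them as termwise products of K-injective
representatives, which is not asserted here. -/
theorem result {A : Type u} [Category.{v} A] [Abelian A] [IsGrothendieckAbelian.{v} A]
    [HasDerivedCategory.{v} A] : HasProducts.{v} (DerivedCategory A) := by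

  intro T
  constructor
  intro F
  let K : T → DerivedCategory A := fun t => F.obj ⟨t⟩
  have hex : ∀ t, ∃ (I : CochainComplex A ℤ), I.IsKInjective ∧
      Nonempty (DerivedCategory.Q.obj I ≅ K t) := fun t => by
    obtain ⟨I, f, hI, hf, -, -⟩ := Groth.Agent.Helper4.KInjRes.exists_resolution
      (DerivedCategory.Q.objPreimage (K t))
    haveI := hf
    exact ⟨I, hI, ⟨(asIso (DerivedCategory.Q.map f)).symm ≪≫
      DerivedCategory.Q.objObjPreimageIso (K t)⟩⟩
  choose I hI hiso using hex
  haveI : HasLimit (Discrete.functor (F.obj ∘ Discrete.mk)) :=
    Groth.Agent.Helper9.DProd.hasProduct_of_iso I hI K (fun t => (hiso t).some)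
  exact hasLimit_of_iso (Discrete.natIsoFunctor (F := F)).symm

end Groth.Agent.S0478
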