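import Groth.Statements.S0480


set_option autoImplicit false
universe v u
open CategoryTheory
open CohDer

namespace Groth.Agent.S0480

open CochainComplex HomComplex in
theorem homotopy_zero_iff_ext {A : Type u} [Category.{v} A] [Abelian A]
    {K L : CochainComplex A ℤ} (f : K ⟶ L) :
    Nonempty (Homotopy f 0) ↔ ∃ g : mappingCone (𝟙 K) ⟶ L, mappingCone.inr (𝟙 K) ≫ g = f := by
  constructor
  · rintro ⟨h⟩
    obtain ⟨α, hα⟩ := Cochain.equivHomotopy f 0 h
    rw [Cochain.ofHom_zero, add_zero] at hα
    refine ⟨mappingCone.desc (𝟙 K) α f (by rw [← hα, Category.id_comp]), ?_⟩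
    simp
  · rintro ⟨g, rfl⟩
    refine ⟨(Cochain.equivHomotopy _ 0).symm
      ⟨(mappingCone.inl (𝟙 K)).comp (Cochain.ofHom g) (add_zero _), ?_⟩⟩
    rw [Cochain.ofHom_zero, add_zero, δ_comp_ofHom, mappingCone.δ_inl, Category.id_comp,
      ← Cochain.ofHom_comp]

open CategoryTheory.Limits in
/-- In an abelian category, if the product of a family of K-injective cochain complexes exists (it is
then the termwise product), it is again K-injective. -/
theorem result {A : Type u} [Category.{v} A] [Abelian A] {T : Type v} (I : T → CochainComplex A ℤ)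
    [HasProduct I] (h : ∀ t, (I t).IsKInjective) : (∏ᶜ I).IsKInjective := by
  refine ⟨fun {K} f hK => ?_⟩
  rw [homotopy_zero_iff_ext]
  have : ∀ t, ∃ g : CochainComplex.mappingCone (𝟙 K) ⟶ I t,
      CochainComplex.mappingCone.inr (𝟙 K) ≫ g = f ≫ Pi.π I t := fun t =>
    (homotopy_zero_iff_ext _).1 ((h t).nonempty_homotopy_zero (f ≫ Pi.π I t) hK)
  choose g hg using this
  refine ⟨Pi.lift g, ?_⟩
  apply Pi.hom_ext
  intro t
  simp [hg]

end Groth.Agent.S0480
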