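import Groth.Statements.S0481


set_option autoImplicit false
universe v u
open CategoryTheory
open CohDer

namespace Groth.Agent.S0481

open CategoryTheory.Limits in
/-- Let u : A ⥤ B be right adjoint to an exact additive functor w : B ⥤ A between abelian categories.
Then u applied termwise sends K-injective complexes to K-injective complexes. -/
theorem result {A : Type u} [Category.{v} A] [Abelian A]
    {B : Type u} [Category.{v} B] [Abelian B] (u : A ⥤ B) (w : B ⥤ A) (adj : w ⊣ u)
    [u.Additive] [w.Additive] [PreservesFiniteLimits w] [PreservesFiniteColimits w]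
    (I : CochainComplex A ℤ) (h : I.IsKInjective) :
    CochainComplex.IsKInjective ((u.mapHomologicalComplex (ComplexShape.up ℤ)).obj I) := by
  refine ⟨fun {K} f hK => ?_⟩
  have hK' : ((w.mapHomologicalComplex (ComplexShape.up ℤ)).obj K).Acyclic := by
    intro i
    exact (hK i).map w
  let counitI : (w.mapHomologicalComplex (ComplexShape.up ℤ)).obj
      ((u.mapHomologicalComplex (ComplexShape.up ℤ)).obj I) ⟶ I :=
    { f := fun n => adj.counit.app (I.X n)
      comm' := by
        intro i j _
        exact (adj.counit.naturality (I.d i j)).symm }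
  let unitK : K ⟶ (u.mapHomologicalComplex (ComplexShape.up ℤ)).obj
      ((w.mapHomologicalComplex (ComplexShape.up ℤ)).obj K) :=
    { f := fun n => adj.unit.app (K.X n)
      comm' := by
        intro i j _
        exact (adj.unit.naturality (K.d i j)).symm }
  obtain ⟨h0⟩ := h.nonempty_homotopy_zero
    ((w.mapHomologicalComplex (ComplexShape.up ℤ)).map f ≫ counitI) hK'
  have h1 := (u.mapHomotopy h0).compLeft unitK
  refine ⟨(Homotopy.ofEq ?_).trans (h1.trans (Homotopy.ofEq ?_))⟩
  · ext n
    have key : ∀ {X : B} {Y : A} (g : X ⟶ u.obj Y),
        g = adj.unit.app X ≫ u.map (w.map g) ≫ u.map (adj.counit.app Y) := by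
      intro X Y g
      simp
    simp only [HomologicalComplex.comp_f, Functor.mapHomologicalComplex_map_f, unitK, counitI,
      Functor.map_comp]
    exact key (f.f n)
  · ext n
    simp

end Groth.Agent.S0481
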