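import Groth.Statements.S0495
import Mathlib.Dynamics.Newton
import Mathlib.RingTheory.KrullDimension.Zero

set_option autoImplicit false
universe u
open Hensel

namespace Groth.Agent.S0495

/-- A local ring whose Krull dimension is zero is henselian. -/
theorem result (R : Type u) [CommRing R] [IsLocalRing R]
    (h : ringKrullDim R = 0) : HenselianLocalRing R := by
  have hdim : Ring.KrullDimLE 0 R := ringKrullDimZero_iff_ringKrullDim_eq_zero.mpr h
  refine ⟨fun f _ a₀ h₁ h₂ => ?_⟩
  have hnil : IsNilpotent (Polynomial.aeval a₀ f) := by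
    rw [Polynomial.coe_aeval_eq_eval]
    exact Ring.KrullDimLE.isNilpotent_iff_mem_maximalIdeal.mpr h₁
  have hunit : IsUnit (Polynomial.aeval a₀ (Polynomial.derivative f)) := by
    rwa [Polynomial.coe_aeval_eq_eval]
  obtain ⟨r, ⟨hr1, hr2⟩, -⟩ := Polynomial.existsUnique_nilpotent_sub_and_aeval_eq_zero hnil hunit
  refine ⟨r, ?_, ?_⟩
  · rwa [Polynomial.coe_aeval_eq_eval] at hr2
  · have : IsNilpotent (r - a₀) := by
      rw [← neg_sub]; exact hr1.neg
    exact Ring.KrullDimLE.isNilpotent_iff_mem_maximalIdeal.mp this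

end Groth.Agent.S0495
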