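import Groth.Statements.S0496
import Mathlib

set_option autoImplicit false
universe u
open Hensel

namespace Groth.Agent.S0496

open Polynomial IsLocalRing

/-- If `f = g * h` is monic over a local ring and the reductions of `g`, `h` have degrees `1` and
`n - 1`, then all coefficients of `g` of index `≥ 2` are nilpotent. -/
theorem coeff_nilpotent (R : Type u) [CommRing R] [IsLocalRing R] (f g h : R[X]) (hf : f.Monic)
    (hfgh : f = g * h) (hg : (g.map (residue R)).natDegree = 1)
    (hh : (h.map (residue R)).natDegree + 1 = f.natDegree) (i : ℕ) (hi : 2 ≤ i) :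
    IsNilpotent (g.coeff i) := by
  rw [nilpotent_iff_mem_prime]
  intro p hp
  have hpm : p ≤ maximalIdeal R := le_maximalIdeal hp.ne_top
  let D := R ⧸ p
  let mk := Ideal.Quotient.mk p
  let fac : D →+* ResidueField R := Ideal.Quotient.factor hpm
  have hfac : fac.comp mk = residue R := by
    ext x; rfl
  have hmul : g.map mk * h.map mk = f.map mk := by rw [← Polynomial.map_mul, ← hfgh]
  have hfm : (f.map mk).Monic := hf.map mk
  have hne : g.map mk ≠ 0 ∧ h.map mk ≠ 0 := by
    constructor
    · intro h0; rw [h0, zero_mul] at hmul; exact hfm.ne_zero hmul.symm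
    · intro h0; rw [h0, mul_zero] at hmul; exact hfm.ne_zero hmul.symm
  have hdeg : (g.map mk).natDegree + (h.map mk).natDegree = f.natDegree := by
    rw [← natDegree_mul hne.1 hne.2, hmul, hf.natDegree_map]
  have h1 : (g.map (residue R)).natDegree ≤ (g.map mk).natDegree := by
    rw [← hfac, ← Polynomial.map_map]; exact natDegree_map_le
  have h2 : (h.map (residue R)).natDegree ≤ (h.map mk).natDegree := by
    rw [← hfac, ← Polynomial.map_map]; exact natDegree_map_le
  have h3 : (g.map mk).natDegree = 1 := by omega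
  have h4 : (g.map mk).coeff i = 0 := coeff_eq_zero_of_natDegree_lt (by omega)
  rw [coeff_map] at h4
  exact Ideal.Quotient.eq_zero_iff_mem.1 h4

/-- A polynomial whose coefficients of index `≥ 2` are nilpotent and whose linear coefficient is a
unit has a root congruent to `-g₀/g₁` modulo nilpotents. -/
theorem exists_root (R : Type u) [CommRing R] (g : R[X]) (hu : IsUnit (g.coeff 1))
    (hnil : ∀ i, 2 ≤ i → IsNilpotent (g.coeff i)) :
    ∃ r : R, g.eval r = 0 ∧ IsNilpotent (g.coeff 1 * r + g.coeff 0) := by
  obtain ⟨v, hv⟩ := hu.exists_right_inv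
  let x : R := -(g.coeff 0) * v
  let π := Ideal.Quotient.mk (nilradical R)
  have hdeg : (g.map π).natDegree ≤ 1 := by
    rw [natDegree_le_iff_coeff_eq_zero]
    intro i hi
    rw [coeff_map, Ideal.Quotient.eq_zero_iff_mem, mem_nilradical]
    exact hnil i (by omega)
  have hform := eq_X_add_C_of_natDegree_le_one hdeg
  simp only [coeff_map] at hform
  have key : ∀ y : R, π (g.eval y) = π (g.coeff 1 * y + g.coeff 0) := by
    intro y
    have : π (g.eval y) = (g.map π).eval (π y) := by rw [eval_map, eval₂_at_apply]
    rw [this, hform]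
    simp
  have keyd : ∀ y : R, π (g.derivative.eval y) = π (g.coeff 1) := by
    intro y
    have : π (g.derivative.eval y) = (g.map π).derivative.eval (π y) := by
      rw [derivative_map, eval_map, eval₂_at_apply]
    rw [this, hform]
    simp
  have hx : g.coeff 1 * x + g.coeff 0 = 0 := by
    simp only [x]
    calc g.coeff 1 * (-(g.coeff 0) * v) + g.coeff 0 = -(g.coeff 0) * (g.coeff 1 * v) + g.coeff 0 := by
          ring
      _ = 0 := by rw [hv]; ring
  have hnx : IsNilpotent (aeval x g) := by
    rw [coe_aeval_eq_eval, ← mem_nilradical, ← Ideal.Quotient.eq_zero_iff_mem]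
    change π _ = 0
    rw [key, hx, map_zero]
  have hux : IsUnit (aeval x (derivative g)) := by
    rw [coe_aeval_eq_eval]
    have hn : IsNilpotent (g.derivative.eval x - g.coeff 1) := by
      rw [← mem_nilradical, ← Ideal.Quotient.eq_zero_iff_mem]
      change π _ = 0
      rw [map_sub, keyd, sub_self]
    have : g.derivative.eval x = g.coeff 1 + (g.derivative.eval x - g.coeff 1) := by ring
    rw [this]
    exact hn.isUnit_add_left_of_commute hu (Commute.all _ _)
  obtain ⟨r, ⟨hr1, hr2⟩, -⟩ := existsUnique_nilpotent_sub_and_aeval_eq_zero hnx hux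
  rw [coe_aeval_eq_eval] at hr2
  refine ⟨r, hr2, ?_⟩
  rw [← mem_nilradical, ← Ideal.Quotient.eq_zero_iff_mem]
  change π _ = 0
  rw [← key, hr2, map_zero]

/-- If every factorization of the reduction of a monic polynomial into two coprime factors over the
residue field lifts to a factorization over the local ring, then the local ring is henselian. -/
theorem result (R : Type u) [CommRing R] [IsLocalRing R]
    (h : ∀ f : Polynomial R, f.Monic →
      ∀ g₀ h₀ : Polynomial (IsLocalRing.ResidueField R), IsCoprime g₀ h₀ →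
      Polynomial.map (IsLocalRing.residue R) f = g₀ * h₀ →
      ∃ g h : Polynomial R, f = g * h ∧ Polynomial.map (IsLocalRing.residue R) g = g₀ ∧
        Polynomial.map (IsLocalRing.residue R) h = h₀) :
    HenselianLocalRing R := by
  refine ⟨fun f hf a₀ h₁ h₂ => ?_⟩
  set k := ResidueField R
  set fb := f.map (residue R) with hfb
  set ab : k := residue R a₀ with hab
  have hroot : fb.IsRoot ab := by
    rw [IsRoot.def, hfb, eval_map, eval₂_at_apply]
    exact (residue_eq_zero_iff _).2 h₁
  have hder : fb.derivative.eval ab ≠ 0 := by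
    rw [hfb, derivative_map, eval_map, eval₂_at_apply]
    intro h0
    exact ((mem_maximalIdeal _).1 ((residue_eq_zero_iff _).1 h0)) h₂
  set g₀ : k[X] := X - C ab with hg₀
  set h₀ : k[X] := fb /ₘ (X - C ab) with hh₀
  have hfact : fb = g₀ * h₀ := (mul_divByMonic_eq_iff_isRoot.2 hroot).symm
  have hh₀ab : h₀.eval ab ≠ 0 := by
    have : fb.derivative.eval ab = h₀.eval ab := by
      rw [hfact, derivative_mul, hg₀]
      simp
    rwa [this] at hder
  have hcop : IsCoprime g₀ h₀ := by
    rw [(irreducible_X_sub_C ab).coprime_iff_not_dvd, dvd_iff_isRoot]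
    exact hh₀ab
  obtain ⟨g, hh, hfgh, hgmap, hhmap⟩ := h f hf g₀ h₀ hcop hfact
  have hgdeg : (g.map (residue R)).natDegree = 1 := by rw [hgmap, hg₀, natDegree_X_sub_C]
  have hfbdeg : fb.natDegree = f.natDegree := hf.natDegree_map _
  have hg₀ne : g₀ ≠ 0 := X_sub_C_ne_zero ab
  have hh₀ne : h₀ ≠ 0 := by
    rintro h0
    rw [h0, eval_zero] at hh₀ab
    exact hh₀ab rfl
  have hhdeg : (hh.map (residue R)).natDegree + 1 = f.natDegree := by
    rw [hhmap, ← hfbdeg, hfact, natDegree_mul hg₀ne hh₀ne, hg₀, natDegree_X_sub_C]; ring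
  have hnil := coeff_nilpotent R f g hh hf hfgh hgdeg hhdeg
  have hc1 : residue R (g.coeff 1) = 1 := by
    rw [← coeff_map, hgmap, hg₀]; simp
  have hc0 : residue R (g.coeff 0) = -ab := by
    rw [← coeff_map, hgmap, hg₀]; simp
  have hu : IsUnit (g.coeff 1) := by
    by_contra hnu
    have := (residue_eq_zero_iff _).2 ((mem_maximalIdeal _).2 hnu)
    rw [hc1] at this
    exact one_ne_zero this
  obtain ⟨r, hr, hrn⟩ := exists_root R g hu hnil
  refine ⟨r, ?_, ?_⟩
  · rw [IsRoot.def, hfgh, eval_mul, hr, zero_mul]
  · have h5 : residue R (g.coeff 1 * r + g.coeff 0) = 0 := by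
      rw [residue_eq_zero_iff]
      by_contra hnm
      have hunit : IsUnit (g.coeff 1 * r + g.coeff 0) := by
        by_contra hnu
        exact hnm ((mem_maximalIdeal _).2 hnu)
      obtain ⟨n, hn⟩ := hrn
      have := hunit.pow n
      rw [hn] at this
      exact not_isUnit_zero this
    rw [map_add, map_mul, hc1, hc0, one_mul] at h5
    rw [← residue_eq_zero_iff, map_sub]
    exact h5 ▸ (by ring_nf; rfl)

end Groth.Agent.S0496
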