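import Groth.Statements.S0498
import Mathlib

set_option autoImplicit false
universe u
open Hensel

namespace Groth.Agent.S0498

open Polynomial IsLocalRing

/-- Core lemma: `g` with `g.coeff 0 ∈ m`, `g.coeff 1` a unit has a root in `m`. -/
theorem core (R : Type u) [CommRing R] [HenselianLocalRing R] (g : R[X])
    (h0 : residue R (g.coeff 0) = 0) (h1 : residue R (g.coeff 1) ≠ 0) :
    ∃ s : R, g.eval s = 0 ∧ residue R s = 0 := by
  classical
  set n := g.natDegree with hn
  set c := g.coeff with hc
  have hn1 : 1 ≤ n := by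
    by_contra hlt
    have : c 1 = 0 := coeff_eq_zero_of_natDegree_lt (by omega)
    rw [this, map_zero] at h1
    exact h1 rfl
  obtain ⟨m, hm⟩ : ∃ m, n = m + 1 := ⟨n - 1, by omega⟩
  let q : R[X] := ∑ i ∈ Finset.range n, C (c (i + 1) * c 0 ^ i) * X ^ (n - 1 - i)
  let p : R[X] := X ^ n + q
  have hqdeg : q.degree < (n : WithBot ℕ) := by
    rw [← mem_degreeLT]
    refine Submodule.sum_mem _ fun i hi => ?_
    rw [mem_degreeLT]
    refine lt_of_le_of_lt (degree_C_mul_X_pow_le _ _) ?_
    rw [Finset.mem_range] at hi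
    exact_mod_cast (by omega : n - 1 - i < n)
  have hpmonic : p.Monic := monic_X_pow_add hqdeg
  -- reduction of p
  have hpmap : p.map (residue R) = X ^ m * (X + C (residue R (c 1))) := by
    simp only [p, q, Polynomial.map_add, Polynomial.map_pow, map_X, Polynomial.map_sum,
      Polynomial.map_mul, map_C, map_mul, map_pow, h0]
    rw [Finset.sum_eq_single 0]
    · simp only [pow_zero, mul_one, zero_add, Nat.sub_zero]
      rw [hm]
      simp only [Nat.add_sub_cancel]
      ring
    · intro b _ hb
      simp [zero_pow hb]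
    · intro h
      exact absurd (Finset.mem_range.2 (by omega)) h
  have H0 : ∀ f : R[X], f.Monic → ∀ a₀ : ResidueField R, aeval a₀ f = 0 →
      aeval a₀ (derivative f) ≠ 0 → ∃ a : R, f.IsRoot a ∧ residue R a = a₀ :=
    ((HenselianLocalRing.TFAE R).out 0 1).1 ‹HenselianLocalRing R›
  have H := H0 p hpmonic (-(residue R (c 1)))
  have e1 : aeval (-(residue R (c 1))) p = 0 := by
    rw [aeval_def, ← eval_map]
    change eval _ (p.map (residue R)) = 0
    rw [hpmap]
    simp
  have e2 : aeval (-(residue R (c 1))) (derivative p) ≠ 0 := by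
    rw [aeval_def, ← eval_map, ← derivative_map]
    change eval _ (derivative (p.map (residue R))) ≠ 0
    rw [hpmap, derivative_mul]
    simp only [eval_add, eval_mul, eval_pow, eval_X, eval_C, neg_add_cancel, mul_zero, zero_add,
      derivative_add, derivative_X, derivative_C, add_zero, mul_one]
    exact pow_ne_zero _ (neg_ne_zero.2 h1)
  obtain ⟨V, hV, hVres⟩ := H e1 e2
  have hVunit : IsUnit V := by
    by_contra hnu
    have : residue R V = 0 := (residue_eq_zero_iff V).2 ((mem_maximalIdeal V).2 hnu)
    rw [this] at hVres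
    exact h1 (neg_eq_zero.1 hVres.symm)
  obtain ⟨u, hu⟩ := hVunit.exists_right_inv
  refine ⟨c 0 * u, ?_, by rw [map_mul, h0, zero_mul]⟩
  have key : g.eval (c 0 * u) = c 0 * u ^ n * p.eval V := by
    rw [eval_eq_sum_range, ← hn, Finset.sum_range_succ']
    simp only [p, q, eval_add, eval_pow, eval_X, eval_finsetSum, eval_mul, eval_C]
    rw [mul_add, Finset.mul_sum, add_comm]
    congr 1
    · rw [mul_assoc, ← mul_pow, mul_comm u V, hu]; simp [hc]
    · refine Finset.sum_congr rfl fun i hi => ?_
      rw [Finset.mem_range] at hi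
      have : u ^ n = u ^ (i + 1) * u ^ (n - 1 - i) := by
        rw [← pow_add]; congr 1; omega
      rw [this]
      have h2 : u ^ (n - 1 - i) * V ^ (n - 1 - i) = 1 := by
        rw [← mul_pow, mul_comm u V, hu, one_pow]
      calc g.coeff (i + 1) * (c 0 * u) ^ (i + 1)
          = c (i + 1) * c 0 ^ (i + 1) * u ^ (i + 1) * 1 := by rw [mul_pow, hc]; ring
        _ = c (i + 1) * c 0 ^ (i + 1) * u ^ (i + 1) * (u ^ (n - 1 - i) * V ^ (n - 1 - i)) := by
            rw [h2]
        _ = _ := by ring
  rw [key, hV.eq_zero, mul_zero]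

/-- Over a henselian local ring, a simple root in the residue field of the reduction of an arbitrary
polynomial (monic or not) lifts to a root in the ring. -/
theorem result (R : Type u) [CommRing R] [HenselianLocalRing R]
    (f : Polynomial R) (a₀ : IsLocalRing.ResidueField R)
    (h₁ : Polynomial.eval₂ (IsLocalRing.residue R) a₀ f = 0)
    (h₂ : Polynomial.eval₂ (IsLocalRing.residue R) a₀ (Polynomial.derivative f) ≠ 0) :
    ∃ a : R, Polynomial.IsRoot f a ∧ IsLocalRing.residue R a = a₀ := by
  obtain ⟨a', rfl⟩ := residue_surjective a₀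
  rw [eval₂_at_apply] at h₁ h₂
  obtain ⟨s, hs, hs0⟩ := core R (taylor a' f) (by rwa [taylor_coeff_zero])
    (by rwa [taylor_coeff_one])
  refine ⟨s + a', ?_, by rw [map_add, hs0, zero_add]⟩
  rw [taylor_eval] at hs
  exact hs

end Groth.Agent.S0498
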