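import Groth.Statements.S0501
import Groth.Agent.Helper1.HensUniv

set_option autoImplicit false
universe u
open Hensel

namespace Groth.Agent.S0501

/-- Let `S` be a henselian local ring over a ring `R`, let `A` be an étale `R`-algebra with a prime `q`,
and let `τ` be a ring map from the residue field of `q` to the residue field of `S` compatible with
the two structure maps from `R`. Then there is exactly one `R`-algebra map from `A` to `S` pulling
the maximal ideal back to `q` and inducing `τ`. -/
theorem result (R : Type u) [CommRing R]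
    (S : Type u) [CommRing S] [HenselianLocalRing S] [Algebra R S]
    (A : Type u) [CommRing A] [Algebra R A] [Algebra.Etale R A] (q : Ideal A) [q.IsPrime]
    (τ : q.ResidueField →+* IsLocalRing.ResidueField S)
    (hτ : τ.comp (algebraMap R q.ResidueField) = (IsLocalRing.residue S).comp (algebraMap R S)) :
    ∃! f : A →ₐ[R] S, Ideal.comap f.toRingHom (IsLocalRing.maximalIdeal S) = q ∧
      ∀ a : A, IsLocalRing.residue S (f a) = τ (algebraMap A q.ResidueField a) := by
  open Groth.Agent.Helper1.Hens IsLocalRing in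
  classical
  let γ : A →ₐ[R] q.ResidueField := IsScalarTower.toAlgHom R A q.ResidueField
  have hγ : ∀ a, γ a = algebraMap A q.ResidueField a := fun a => rfl
  have hpt : ∀ a, a ∈ pt γ ↔ a ∈ q := fun a => by
    rw [mem_pt, hγ, Ideal.algebraMap_residueField_eq_zero]
  have hτ' : ∀ r, τ (algebraMap R q.ResidueField r) = residue S (algebraMap R S r) :=
    fun r => congr($hτ r)
  let χ : Loc γ →ₐ[R] S := liftLoc τ hτ' γ
  have hχ : ∀ x, residue S (χ x) = τ (γLoc γ x) := residue_liftLoc τ hτ' γ
  let f : A →ₐ[R] S := χ.comp (IsScalarTower.toAlgHom R A (Loc γ))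
  have hf : ∀ a, residue S (f a) = τ (algebraMap A q.ResidueField a) := by
    intro a
    change residue S (χ (algebraMap A (Loc γ) a)) = _
    rw [hχ, γLoc_algebraMap, hγ]
  have hmem : ∀ (g : A →ₐ[R] S), (∀ a, residue S (g a) = τ (algebraMap A q.ResidueField a)) →
      ∀ a, g a ∈ maximalIdeal S ↔ a ∈ q := by
    intro g hg a
    rw [← residue_eq_zero_iff, hg, map_eq_zero, Ideal.algebraMap_residueField_eq_zero]
  have hcomap : ∀ (g : A →ₐ[R] S), (∀ a, residue S (g a) = τ (algebraMap A q.ResidueField a)) →
      Ideal.comap g.toRingHom (maximalIdeal S) = q := by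
    intro g hg
    ext a
    rw [Ideal.mem_comap]
    exact hmem g hg a
  refine ⟨f, ⟨hcomap f hf, hf⟩, ?_⟩
  rintro f' ⟨-, hf'2⟩
  have hunit : ∀ y : (pt γ).primeCompl, IsUnit (f' (y : A)) := by
    intro y
    have hy : (y : A) ∉ q := fun h => y.2 ((hpt _).2 h)
    rw [← hmem f' hf'2] at hy
    by_contra hu
    exact hy ((mem_maximalIdeal _).2 hu)
  let χ' : Loc γ →ₐ[R] S := IsLocalization.liftAlgHom (M := (pt γ).primeCompl) (f := f') hunit
  have hχ'A : ∀ a, χ' (algebraMap A (Loc γ) a) = f' a := fun a => by
    simp [χ']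
  have hχ' : ∀ x, residue S (χ' x) = τ (γLoc γ x) := by
    have : (residue S).comp χ'.toRingHom = τ.comp (γLoc γ).toRingHom := by
      apply IsLocalization.ringHom_ext (pt γ).primeCompl
      ext a
      change residue S (χ' (algebraMap A (Loc γ) a)) = τ (γLoc γ (algebraMap A (Loc γ) a))
      rw [hχ'A, hf'2, γLoc_algebraMap, hγ]
    intro x
    exact congr($this x)
  have h1 : χ' = χ := liftLoc_unique τ hτ' γ χ' hχ'
  ext a
  change f' a = χ (algebraMap A (Loc γ) a)
  rw [← h1, hχ'A]

end Groth.Agent.S0501
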