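import Groth.Statements.S0502
import Mathlib

set_option autoImplicit false
universe u
open Hensel

namespace Groth.Agent.S0502

/-- A local ring `R` is henselian as soon as every étale `R`-algebra having a prime over the maximal
ideal with trivial residue field extension admits an `R`-algebra retraction to `R`. -/
theorem result (R : Type u) [CommRing R] [IsLocalRing R]
    (h : ∀ (S : Type u) [CommRing S] [Algebra R S] [Algebra.Etale R S] (q : Ideal S) [q.IsPrime],
      q.LiesOver (IsLocalRing.maximalIdeal R) → Function.Surjective (algebraMap R q.ResidueField) →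
      Nonempty (S →ₐ[R] R)) :
    HenselianLocalRing R := by
  open Polynomial IsLocalRing in
  classical
  refine { is_henselian := fun f hf a₀ h₁ h₂ => ?_ }
  -- division by X - a₀
  set hq := f /ₘ (X - C a₀) with hq_def
  have hdiv : f = (X - C a₀) * hq + C (f.eval a₀) := by
    have := Polynomial.modByMonic_add_div f (X - C a₀)
    rw [Polynomial.modByMonic_X_sub_C_eq_C_eval] at this
    rw [hq_def]
    conv_lhs => rw [← this]
    ring
  have hder : f.derivative.eval a₀ = hq.eval a₀ := by
    conv_lhs => rw [hdiv]
    simp
  let P : StandardEtalePair R := ⟨f, hf, f.derivative * hq, ⟨hq, 0, 1, by simp⟩⟩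
  -- the point
  have hmap : P.HasMap (residue R a₀) := by
    refine ⟨?_, ?_⟩
    · change aeval (residue R a₀) f = 0
      have : aeval (residue R a₀) f = residue R (f.eval a₀) := by
        rw [← Polynomial.eval₂_hom]
        rfl
      rw [this]
      exact (residue_eq_zero_iff _).2 h₁
    · change IsUnit (aeval (residue R a₀) (f.derivative * hq))
      have : aeval (residue R a₀) (f.derivative * hq) = residue R ((f.derivative * hq).eval a₀) := by
        rw [← Polynomial.eval₂_hom]
        rfl
      rw [this, eval_mul, ← hder]
      exact (h₂.mul h₂).map _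
  let φ : P.Ring →ₐ[R] ResidueField R := P.lift (residue R a₀) hmap
  have hφsurj : Function.Surjective φ := by
    intro z
    obtain ⟨r, rfl⟩ := residue_surjective z
    exact ⟨algebraMap R P.Ring r, φ.commutes r⟩
  let q : Ideal P.Ring := RingHom.ker φ.toRingHom
  haveI hqmax : q.IsMaximal := RingHom.ker_isMaximal_of_surjective φ.toRingHom hφsurj
  have hlies : q.LiesOver (maximalIdeal R) := by
    constructor
    ext r
    rw [Ideal.under_def, Ideal.mem_comap]
    change _ ↔ φ (algebraMap R P.Ring r) = 0
    rw [φ.commutes]
    exact (residue_eq_zero_iff r).symm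
  have hsurj : Function.Surjective (algebraMap R q.ResidueField) := by
    intro z
    obtain ⟨s, rfl⟩ := Ideal.algebraMap_residueField_surjective q z
    obtain ⟨r, hr⟩ := residue_surjective (φ s)
    refine ⟨r, ?_⟩
    rw [IsScalarTower.algebraMap_apply R P.Ring q.ResidueField, ← sub_eq_zero, ← map_sub,
      Ideal.algebraMap_residueField_eq_zero]
    change φ (algebraMap R P.Ring r - s) = 0
    rw [map_sub, φ.commutes, sub_eq_zero]
    exact hr
  obtain ⟨σ⟩ := h P.Ring q hlies hsurj
  refine ⟨σ P.X, ?_, ?_⟩
  · have h1 : aeval (σ P.X) f = 0 := by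
      have := P.hasMap_X.1
      change aeval P.X f = 0 at this
      rw [Polynomial.aeval_algHom_apply, this, map_zero]
    rw [IsRoot]
    simpa using h1
  · have h2 : IsUnit (aeval (σ P.X) (f.derivative * hq)) := by
      have := P.hasMap_X.2
      change IsUnit (aeval P.X (f.derivative * hq)) at this
      rw [Polynomial.aeval_algHom_apply]
      exact this.map σ
    have h3 : IsUnit (hq.eval (σ P.X)) := by
      rw [map_mul] at h2
      have := isUnit_of_mul_isUnit_right h2
      simpa using this
    have h1 : f.eval (σ P.X) = 0 := by
      have := P.hasMap_X.1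
      change aeval P.X f = 0 at this
      have h4 : aeval (σ P.X) f = 0 := by
        rw [Polynomial.aeval_algHom_apply, this, map_zero]
      simpa using h4
    have h5 : (σ P.X - a₀) * hq.eval (σ P.X) = - f.eval a₀ := by
      have := congrArg (Polynomial.eval (σ P.X)) hdiv
      rw [h1] at this
      simp only [eval_add, eval_mul, eval_sub, eval_X, eval_C] at this
      linear_combination -this
    obtain ⟨u, hu⟩ := h3
    have h6 : σ P.X - a₀ = - f.eval a₀ * ↑u⁻¹ := by
      rw [← h5, ← hu, mul_assoc, Units.mul_inv, mul_one]
    rw [h6]
    exact Ideal.mul_mem_right _ _ (neg_mem h₁)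

end Groth.Agent.S0502
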