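import Groth.Statements.S0514
import Groth.Agent.Helper1.HensRed

set_option autoImplicit false
universe u
open Hensel

namespace Groth.Agent.S0514

/-- A local ring is reduced exactly when its henselization is reduced. -/
theorem result (R : Type u) [CommRing R] [IsLocalRing R] (S : Type u) [CommRing S] [IsLocalRing S]
    [Algebra R S] [IsLocalHom (algebraMap R S)] [Hensel.IsHenselization R S] :
    IsReduced R ↔ IsReduced S := by
  exact Groth.Agent.Helper1.Hens.isReduced_iff_of_isHenselization R S

end Groth.Agent.S0514
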