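import Groth.Statements.S0535
import Mathlib

set_option autoImplicit false
universe u
open Hensel

namespace Groth.Agent.S0535

open TensorProduct

section
variable {R : Type u} [CommRing R] (I : Ideal R) (P : Type u) [AddCommGroup P] [Module R P]

/-- `x ↦ 1 ⊗ x` as an `R`-linear map. -/
noncomputable def π : P →ₗ[R] (R ⧸ I) ⊗[R] P := TensorProduct.mk R (R ⧸ I) P 1

theorem π_surjective : Function.Surjective (π I P) := by
  intro z
  induction z using TensorProduct.induction_on with
  | zero => exact ⟨0, map_zero _⟩
  | tmul r x =>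
    obtain ⟨r, rfl⟩ := Ideal.Quotient.mk_surjective r
    refine ⟨r • x, ?_⟩
    simp only [π, TensorProduct.mk_apply, TensorProduct.tmul_smul]
    rw [TensorProduct.smul_tmul']
    congr 1
    rw [Algebra.smul_def, mul_one]; rfl
  | add a b ha hb =>
    obtain ⟨x, rfl⟩ := ha
    obtain ⟨y, rfl⟩ := hb
    exact ⟨x + y, map_add _ _ _⟩

theorem π_eq_zero {x : P} (hx : π I P x = 0) : x ∈ I • (⊤ : Submodule R P) := by
  have := congrArg (TensorProduct.quotTensorEquivQuotSMul P I) hx
  rw [π, TensorProduct.mk_apply, TensorProduct.quotTensorEquivQuotSMul_mk_one_tmul, map_zero,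
    Submodule.Quotient.mk_eq_zero] at this
  exact this

/-- An endomorphism of a finite module which is the identity modulo `I ≤ Jac` is bijective. -/
theorem bijective_of_id_mod [Module.Finite R P] (hI : I ≤ Ideal.jacobson ⊥) (φ : P →ₗ[R] P)
    (hφ : ∀ x, π I P (φ x) = π I P x) : Function.Bijective φ := by
  have hsurj : Function.Surjective φ := by
    rw [← LinearMap.range_eq_top, ← top_le_iff]
    apply Submodule.le_of_le_smul_of_le_jacobson_bot Module.Finite.fg_top hI
    intro x _
    have h1 : x - φ x ∈ I • (⊤ : Submodule R P) := by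
      apply π_eq_zero
      rw [map_sub, hφ, sub_self]
    have h2 : x = φ x + (x - φ x) := by abel
    rw [h2]
    exact Submodule.add_mem_sup (LinearMap.mem_range_self φ x) h1
  exact OrzechProperty.bijective_of_surjective_endomorphism φ hsurj

end

/-- If `R` is Henselian at `I` and two finitely generated projective `R`-modules become isomorphic after
base change to `R/I`, then they are isomorphic. -/
theorem result (R : Type u) [CommRing R] (I : Ideal R)
    [HenselianRing R I] (P₁ P₂ : Type u) [AddCommGroup P₁] [Module R P₁] [AddCommGroup P₂]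
    [Module R P₂] [Module.Finite R P₁] [Module.Projective R P₁] [Module.Finite R P₂]
    [Module.Projective R P₂]
    (e : TensorProduct R (R ⧸ I) P₁ ≃ₗ[R ⧸ I] TensorProduct R (R ⧸ I) P₂) :
    Nonempty (P₁ ≃ₗ[R] P₂) := by
  have hI : I ≤ Ideal.jacobson ⊥ := HenselianRing.jac
  let eR : (R ⧸ I) ⊗[R] P₁ ≃ₗ[R] (R ⧸ I) ⊗[R] P₂ := e.restrictScalars R
  obtain ⟨g, hg⟩ := Module.projective_lifting_property (π I P₂) (eR.toLinearMap ∘ₗ π I P₁)
    (π_surjective I P₂)
  obtain ⟨h, hh⟩ := Module.projective_lifting_property (π I P₁) (eR.symm.toLinearMap ∘ₗ π I P₂)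
    (π_surjective I P₁)
  have hg' : ∀ x, π I P₂ (g x) = eR (π I P₁ x) := fun x => LinearMap.congr_fun hg x
  have hh' : ∀ y, π I P₁ (h y) = eR.symm (π I P₂ y) := fun y => LinearMap.congr_fun hh y
  have b1 : Function.Bijective (h ∘ₗ g) := bijective_of_id_mod I P₁ hI _ fun x => by
    rw [LinearMap.comp_apply, hh', hg', LinearEquiv.symm_apply_apply]
  have b2 : Function.Bijective (g ∘ₗ h) := bijective_of_id_mod I P₂ hI _ fun y => by
    rw [LinearMap.comp_apply, hg', hh', LinearEquiv.apply_symm_apply]
  have hginj : Function.Injective g := by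
    have := b1.1
    rw [LinearMap.coe_comp] at this
    exact Function.Injective.of_comp this
  have hgsurj : Function.Surjective g := by
    have := b2.2
    rw [LinearMap.coe_comp] at this
    exact Function.Surjective.of_comp this
  exact ⟨LinearEquiv.ofBijective g ⟨hginj, hgsurj⟩⟩

end Groth.Agent.S0535
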