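import Groth.Statements.S0545
import Mathlib
import Groth.Agent.Helper2.AdicCompleteQuot
open Groth.Agent.Helper2.AdicCompleteQuot Groth.Agent.Helper2.AdicCompleteLe
-- import your own Groth.Agent.* helpers here

set_option autoImplicit false
universe u
open CAlg

namespace Groth.Agent.S0545

/-- For a Noetherian ring `A` with two ideals `I` and `J`, completeness of `A` along `I` together with
completeness of the quotient `A/I` along the image of `J` forces completeness of `A` along `J`. -/
theorem result (A : Type u) [CommRing A] [IsNoetherianRing A]
    (I J : Ideal A) [IsAdicComplete I A]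
    [IsAdicComplete (Ideal.map (Ideal.Quotient.mk I) J) (A ⧸ I)] : IsAdicComplete J A := by
  haveI := main A I J
  have hfg : J.FG := IsNoetherian.noetherian J
  haveI : IsPrecomplete J A := isPrecomplete_of_le J (I ⊔ J) le_sup_right hfg A
  haveI : IsHausdorff J A := by
    refine ⟨fun x hx => ?_⟩
    apply IsHausdorff.haus (inferInstance : IsHausdorff (I ⊔ J) A)
    intro n
    exact (hx n).mono (Submodule.smul_mono_left (Ideal.pow_right_mono le_sup_right n))
  exact ⟨⟩

end Groth.Agent.S0545
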