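import Groth.Statements.S0559
import Groth.Agent.Lead.RegLocal

set_option autoImplicit false
universe u
open CAlg

namespace Groth.Agent.S0559

open IsLocalRing RingTheory.Sequence Groth.Agent.Lead.RegLocal
open scoped Pointwise

lemma smul_top_eq_span {R : Type u} [CommRing R] (r : R) :
    (r • (⊤ : Submodule R R)) = Ideal.span {r} := by
  ext y
  rw [Submodule.mem_smul_pointwise_iff_exists, Ideal.mem_span_singleton']
  constructor
  · rintro ⟨a, -, rfl⟩
    exact ⟨a, by rw [smul_eq_mul, mul_comm]⟩
  · rintro ⟨a, rfl⟩
    exact ⟨a, trivial, by rw [smul_eq_mul, mul_comm]⟩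

theorem weak : ∀ (d : ℕ) (R : Type u) [CommRing R] [IsRegularLocalRing R],
    ringKrullDim R = d → ∀ (x : Fin d → R),
    Ideal.span (Set.range x) = IsLocalRing.maximalIdeal R →
    IsWeaklyRegular R (List.ofFn x) := by
  intro d
  induction d with
  | zero =>
    intro R _ _ _ x _
    simp
  | succ d ih =>
    intro R _ _ hd x hx
    have hreg : (maximalIdeal R).spanFinrank = ringKrullDim R :=
      IsRegularLocalRing.spanFinrank_maximalIdeal
    have hrank : (maximalIdeal R).spanFinrank = d + 1 := by
      rw [hd] at hreg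
      exact_mod_cast hreg
    have hx0m : x 0 ∈ maximalIdeal R := by
      rw [← hx]; exact Ideal.subset_span ⟨0, rfl⟩
    set tail : Fin d → R := fun i => x i.succ with htail
    have hx02 : x 0 ∉ maximalIdeal R ^ 2 := by
      intro h
      -- then m ≤ span (range tail) ⊔ m • m, so m = span (range tail)
      have hle : maximalIdeal R ≤ Ideal.span (Set.range tail) ⊔ maximalIdeal R • maximalIdeal R := by
        rw [← hx, Ideal.span_le]
        rintro _ ⟨i, rfl⟩
        refine Fin.cases ?_ (fun j => ?_) i
        · apply Ideal.mem_sup_right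
          rw [hx, smul_eq_mul, ← pow_two]
          exact h
        · apply Ideal.mem_sup_left
          exact Ideal.subset_span ⟨j, rfl⟩
      have hle' : maximalIdeal R ≤ Ideal.span (Set.range tail) :=
        Submodule.le_of_le_smul_of_le_jacobson_bot (maximalIdeal R).fg_of_isNoetherianRing
          (IsLocalRing.maximalIdeal_le_jacobson _) hle
      have heq : maximalIdeal R = Ideal.span (Set.range tail) := by
        apply le_antisymm hle'
        rw [Ideal.span_le]
        rintro _ ⟨j, rfl⟩
        rw [← hx]; exact Ideal.subset_span ⟨j.succ, rfl⟩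
      have h1 : (Ideal.span (Set.range tail)).spanFinrank ≤ (Set.range tail).ncard :=
        Submodule.spanFinrank_span_le_ncard_of_finite (Set.finite_range tail)
      have h2 : (Set.range tail).ncard ≤ d := by
        have := Set.ncard_image_le (f := tail) (Set.finite_univ (α := Fin d))
        simpa [Set.image_univ] using this
      rw [← heq] at h1
      omega
    have hdom : IsDomain R := isDomain_of_isRegularLocalRing R
    have hx0ne : x 0 ≠ 0 := by
      rintro h
      apply hx02
      rw [h]; exact Ideal.zero_mem _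
    have hx0reg : IsSMulRegular R (x 0) := by
      rw [isSMulRegular_iff_right_eq_zero_of_smul]
      intro y hy
      rcases mul_eq_zero.mp hy with h | h
      · exact absurd h hx0ne
      · exact h
    obtain ⟨hR', hdim', hl, hspan⟩ := quotient_isRegularLocalRing hx0m hx02
    have hd' : ringKrullDim (R ⧸ Ideal.span {x 0}) = d := by
      rw [hd] at hdim'
      have h1 : ringKrullDim (R ⧸ Ideal.span {x 0}) ≠ ⊥ := ringKrullDim_ne_bot
      obtain ⟨e, he⟩ := WithBot.ne_bot_iff_exists.mp h1
      rw [← he] at hdim' ⊢
      have h2 : ((e + 1 : ℕ∞) : WithBot ℕ∞) = ((d + 1 : ℕ) : WithBot ℕ∞) := by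
        exact_mod_cast hdim'
      have h3 : e + 1 = ((d + 1 : ℕ) : ℕ∞) := by exact_mod_cast h2
      have h4 : e = (d : ℕ∞) := by
        have : e + 1 = (d : ℕ∞) + 1 := by rw [h3]; push_cast; rfl
        exact (ENat.add_left_injective_of_ne_top (by simp)) this
      rw [h4]; rfl
    set mk := Ideal.Quotient.mk (Ideal.span {x 0}) with hmk
    have hgen : Ideal.span (Set.range (fun i => mk (tail i))) =
        maximalIdeal (R ⧸ Ideal.span {x 0}) := by
      have hI : Ideal.span {x 0} ≠ ⊤ := by
        intro h
        have : Ideal.span {x 0} ≤ maximalIdeal R := (Ideal.span_singleton_le_iff_mem _).mpr hx0m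
        rw [h] at this
        exact (maximalIdeal.isMaximal R).ne_top (top_le_iff.mp this)
      obtain ⟨hl', hmax⟩ := quotient_local hI
      rw [← hmax, ← hx, Ideal.map_span]
      apply le_antisymm
      · apply Ideal.span_mono
        rintro _ ⟨i, rfl⟩
        exact ⟨x i.succ, ⟨i.succ, rfl⟩, rfl⟩
      · rw [Ideal.span_le]
        rintro _ ⟨_, ⟨i, rfl⟩, rfl⟩
        refine Fin.cases ?_ (fun j => ?_) i
        · have : mk (x 0) = 0 := by
            rw [hmk, Ideal.Quotient.eq_zero_iff_mem]
            exact Ideal.mem_span_singleton_self _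
          rw [this]; exact Ideal.zero_mem _
        · exact Ideal.subset_span ⟨j, rfl⟩
    have hih := ih (R ⧸ Ideal.span {x 0}) hd' (fun i => mk (tail i)) hgen
    rw [List.ofFn_succ, isWeaklyRegular_cons_iff]
    refine ⟨hx0reg, ?_⟩
    have h1 : IsWeaklyRegular (R ⧸ Ideal.span {x 0}) (List.ofFn tail) := by
      rw [← isWeaklyRegular_map_algebraMap_iff (R ⧸ Ideal.span {x 0}) (R ⧸ Ideal.span {x 0})]
      rw [List.map_ofFn]
      exact hih
    let e : (R ⧸ Ideal.span {x 0}) ≃ₗ[R] QuotSMulTop (x 0) R :=
      Submodule.quotEquivOfEq _ _ (smul_top_eq_span (x 0)).symm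
    exact (e.isWeaklyRegular_congr _).mp h1

/-- In a regular local ring of dimension `d`, any `d` elements generating the maximal ideal form a
regular sequence. -/
theorem result (R : Type u) [CommRing R]
    [IsRegularLocalRing R] (d : ℕ) (hd : ringKrullDim R = d) (x : Fin d → R)
    (hx : Ideal.span (Set.range x) = IsLocalRing.maximalIdeal R) :
    RingTheory.Sequence.IsRegular R (List.ofFn x) := by
  rw [IsLocalRing.isRegular_iff_isWeaklyRegular_of_subset_maximalIdeal]
  · exact weak d R hd x hx
  · intro r hr
    rw [List.mem_ofFn] at hr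
    obtain ⟨i, rfl⟩ := hr
    rw [← hx]
    exact Ideal.subset_span ⟨i, rfl⟩

end Groth.Agent.S0559
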