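import Groth.Statements.S0560
import Groth.Agent.Lead.RegLocal

set_option autoImplicit false
universe u
open CAlg

namespace Groth.Agent.S0560

open IsLocalRing Groth.Agent.Lead.RegLocal

/-- Lifting generators: `spanFinrank m ≤ spanFinrank (m/(x)) + 1`. -/
lemma spanFinrank_le_quotient_succ {R : Type u} [CommRing R] [IsLocalRing R] [IsNoetherianRing R]
    {x : R} (hx : x ∈ maximalIdeal R) :
    (maximalIdeal R).spanFinrank ≤
      ((maximalIdeal R).map (Ideal.Quotient.mk (Ideal.span {x}))).spanFinrank + 1 := by
  classical
  set mk := Ideal.Quotient.mk (Ideal.span {x}) with hmk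
  set m' := (maximalIdeal R).map mk with hm'
  have hfg : m'.FG := m'.fg_of_isNoetherianRing
  have hGfin : (Submodule.generators m').Finite := Submodule.FG.finite_generators hfg
  have hGspan : Submodule.span _ (Submodule.generators m') = m' := Submodule.span_generators m'
  have hGcard : (Submodule.generators m').ncard = m'.spanFinrank :=
    Submodule.FG.generators_ncard hfg
  -- choose lifts
  let lift : (R ⧸ Ideal.span {x}) → R := fun y => (Ideal.Quotient.mk_surjective y).choose
  have hlift : ∀ y, mk (lift y) = y := fun y => (Ideal.Quotient.mk_surjective y).choose_spec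
  set T : Set R := insert x (lift '' Submodule.generators m') with hT
  have hTfin : T.Finite := (hGfin.image lift).insert x
  have hspan : Ideal.span T = maximalIdeal R := by
    apply le_antisymm
    · rw [Ideal.span_le]
      rintro t (rfl | ⟨y, hy, rfl⟩)
      · exact hx
      · -- lift y ∈ m since mk (lift y) = y ∈ m' = map mk m
        have hy' : mk (lift y) ∈ m' := by
          rw [hlift, ← hGspan]; exact Submodule.subset_span hy
        have : lift y ∈ Ideal.comap mk m' := hy'
        rw [hm', Ideal.comap_map_of_surjective mk Ideal.Quotient.mk_surjective] at this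
        have hker : Ideal.comap mk ⊥ ≤ maximalIdeal R := by
          rw [← RingHom.ker_eq_comap_bot, hmk, Ideal.mk_ker]
          exact (Ideal.span_singleton_le_iff_mem _).mpr hx
        exact (sup_le le_rfl hker) this
    · -- m ≤ span T
      intro z hz
      have hz' : mk z ∈ m' := Ideal.mem_map_of_mem mk hz
      have h1 : m' ≤ (Ideal.span T).map mk := by
        rw [← hGspan]
        change Ideal.span _ ≤ _
        rw [Ideal.span_le]
        intro y hy
        have : y = mk (lift y) := (hlift y).symm
        rw [this]
        apply Ideal.mem_map_of_mem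
        exact Ideal.subset_span (Set.mem_insert_of_mem _ ⟨y, hy, rfl⟩)
      have h2 := h1 hz'
      have h3 : z ∈ Ideal.comap mk ((Ideal.span T).map mk) := h2
      rw [Ideal.comap_map_of_surjective mk Ideal.Quotient.mk_surjective] at h3
      have hker : Ideal.comap mk ⊥ ≤ Ideal.span T := by
        rw [← RingHom.ker_eq_comap_bot, hmk, Ideal.mk_ker]
        exact (Ideal.span_singleton_le_iff_mem _).mpr (Ideal.subset_span (Set.mem_insert _ _))
      exact (sup_le le_rfl hker) h3
  rw [← hspan]
  have h1 := Submodule.spanFinrank_span_le_ncard_of_finite (R := R) hTfin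
  have h2 : T.ncard ≤ (lift '' Submodule.generators m').ncard + 1 :=
    Set.ncard_insert_le _ _
  have h3 : (lift '' Submodule.generators m').ncard ≤ (Submodule.generators m').ncard :=
    Set.ncard_image_le hGfin
  have h4 : (Ideal.span T).spanFinrank ≤ T.ncard := h1
  omega

/-- Regularity of a Noetherian local ring can be checked after dividing out one nonzerodivisor lying in
the maximal ideal: if that quotient is a regular local ring, so is the original ring. -/
theorem result (R : Type u) [CommRing R] [IsLocalRing R]
    [IsNoetherianRing R] (x : R) (hx : x ∈ IsLocalRing.maximalIdeal R) (hreg : x ∈ nonZeroDivisors R)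
    [IsRegularLocalRing (R ⧸ Ideal.span ({x} : Set R))] : IsRegularLocalRing R := by
  apply IsRegularLocalRing.of_spanFinrank_maximalIdeal_le
  have hI : Ideal.span {x} ≠ ⊤ := by
    intro h
    have : Ideal.span {x} ≤ maximalIdeal R := (Ideal.span_singleton_le_iff_mem _).mpr hx
    rw [h] at this
    exact (maximalIdeal.isMaximal R).ne_top (top_le_iff.mp this)
  obtain ⟨hl, hmax⟩ := quotient_local hI
  have hle := spanFinrank_le_quotient_succ hx
  rw [hmax] at hle
  have hdim := ringKrullDim_quotient_span_singleton_succ_eq_ringKrullDim_of_mem_nonZeroDivisors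
    hreg hx
  have hr : (maximalIdeal (R ⧸ Ideal.span {x})).spanFinrank = ringKrullDim (R ⧸ Ideal.span {x}) :=
    IsRegularLocalRing.spanFinrank_maximalIdeal
  rw [← hdim, ← hr]
  exact_mod_cast hle

end Groth.Agent.S0560
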