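import Groth.Statements.S0579
import Mathlib

set_option autoImplicit false
universe u
open CAlg

namespace Groth.Agent.S0579

open IsLocalRing

lemma formallySmooth_rat (k : Type u) [Field k] [CharZero k] : Algebra.FormallySmooth ℚ k := by
  obtain ⟨ι, v, hv⟩ := exists_isTranscendenceBasis' ℚ k
  have halg : Algebra.IsAlgebraic (IntermediateField.adjoin ℚ (Set.range v)) k :=
    hv.isAlgebraic_field
  have : Algebra.IsSeparable (IntermediateField.adjoin ℚ (Set.range v)) k :=
    inferInstance
  exact Algebra.FormallySmooth.of_algebraicIndependent_of_isSeparable hv.1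

lemma formallySmooth_int (k : Type u) [Field k] [CharZero k] : Algebra.FormallySmooth ℤ k := by
  have h1 : Algebra.FormallySmooth ℤ ℚ := .of_isLocalization (nonZeroDivisors ℤ)
  have h2 := formallySmooth_rat k
  exact .comp ℤ ℚ k

/-- A local ring which is complete with respect to its maximal ideal and whose residue field has
characteristic zero admits a coefficient field: there is a ring homomorphism from the residue field
to the ring which is a section of the residue map. -/
theorem result (R : Type u) [CommRing R] [IsLocalRing R]
    [IsAdicComplete (IsLocalRing.maximalIdeal R) R] [CharZero (IsLocalRing.ResidueField R)] :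
    ∃ s : IsLocalRing.ResidueField R →+* R, (IsLocalRing.residue R).comp s = RingHom.id _ := by
  have hfs : Algebra.FormallySmooth ℤ (ResidueField R) := formallySmooth_int _
  obtain ⟨g, hg⟩ := Algebra.FormallySmooth.exists_mkₐ_comp_eq_of_isAdicComplete
    (R := ℤ) (A := ResidueField R) (S := R) (I := maximalIdeal R)
    (AlgHom.id ℤ (ResidueField R))
  refine ⟨g.toRingHom, ?_⟩
  ext x
  exact congr($hg x)

end Groth.Agent.S0579
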