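import Groth.Statements.S0610
import Groth.Agent.Helper4.SN548
import Groth.Agent.Helper4.SN543
import Groth.Agent.Helper4.SN542
import Mathlib

set_option autoImplicit false
universe u
open AlgebraicGeometry CategoryTheory
open Zeta

namespace Groth.Agent.S0610


/-- Weil conjectures for curves, in elementary form (rationality of the zeta function with numerator of
degree 2g, the functional equation and the Riemann hypothesis, packaged as a point-count formula):
let k be a finite field with q elements and C a smooth, proper, geometrically irreducible curve over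
k of genus g, the genus being pinned down by #H¹(C, O_C) = q^g (equivalent to dim_k H¹(C, O_C) = g).
Then there are complex numbers α_1, …, α_{2g}, each an algebraic integer with |α_i|² = q, and a
permutation σ of the indices with α_{σ(i)} · α_i = q for all i, such that for every finite extension
k' of k the number of k'-points of C equals q^{[k':k]} + 1 − Σ_i α_i^{[k':k]}. -/
theorem result {k : Type u} [Field k] [Finite k] {C : Scheme.{u}}
    (f : C ⟶ Spec (CommRingCat.of k)) (hC : Curve.IsSmoothProperCurve k C f)
    [GeometricallyIrreducible f] (g : ℕ)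
    (hg : Nat.card (Coh.HH C (Coh.structureModule C) 1) = Nat.card k ^ g) :
    ∃ α : Fin (2 * g) → ℂ, (∀ i, IsIntegral ℤ (α i)) ∧ (∀ i, ‖α i‖ ^ 2 = Nat.card k) ∧
      (∃ σ : Equiv.Perm (Fin (2 * g)), ∀ i, α (σ i) * α i = Nat.card k) ∧
      ∀ (k' : Type u) [Field k'] [Algebra k k'] [Finite k'],
        (SgaExt.pointCount f k' : ℂ) =
          (Nat.card k : ℂ) ^ Module.finrank k k' + 1 - ∑ i, α i ^ Module.finrank k k' := by

  letI : C.Over (Spec (CommRingCat.of k)) := ⟨f⟩
  obtain ⟨hp, hs, hi, hdim⟩ := hC
  haveI := hi
  letI := Curv2.stalkAlgebra k C (genericPoint C)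
  have hgi : GeometricallyIrreducible (C ↘ (Spec (CommRingCat.of k))) :=
    (inferInstance : GeometricallyIrreducible f)
  have hK := Groth.Agent.Helper4.SN541.isFunctionField k C hp hs hgi hdim
  have h2 := Groth.Agent.Helper4.SN548.genus_eq k C hp hs hgi hdim g hg
  subst h2
  obtain ⟨α, hint, hnorm, hpair, hN⟩ := Groth.Agent.Helper4.SN542.exists_weil_numbers hK
  refine ⟨α, hint, fun i => by exact_mod_cast hnorm i, ⟨Fin.revPerm, fun i => ?_⟩, ?_⟩
  · rw [Fin.revPerm_apply, mul_comm]
    exact hpair i
  · intro k' _ _ _
    haveI : FiniteDimensional k k' := Module.Finite.of_finite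
    have hn : 0 < Module.finrank k k' := Module.finrank_pos
    have h1 : SgaExt.pointCount f k' = Groth.Agent.Helper6.FFZeta.Ns k C.functionField
        (Module.finrank k k') :=
      Groth.Agent.Helper4.SN543.pointCount_eq_Ns k C k' hp hs hgi hdim
    rw [h1, hN _ hn]
    ring

end Groth.Agent.S0610
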