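import Groth.Statements.S0619
import Groth.Agent.Helper4.SN548
import Groth.Agent.Helper4.SN543
import Groth.Agent.Helper4.SN542
import Mathlib

set_option autoImplicit false
universe u
open AlgebraicGeometry CategoryTheory
open Zeta

namespace Groth.Agent.S0619


/-- For a geometrically connected smooth proper curve of genus g over a finite field k with q elements
and a finite extension k' of degree n, |#C(k') − (qⁿ + 1)| ≤ 2g·q^(n/2). -/
theorem result {k : Type u} [Field k] [Finite k] {C : Scheme.{u}}
    (f : C ⟶ Spec (CommRingCat.of k)) (hC : Curve.IsSmoothProperCurve k C f)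
    [GeometricallyIrreducible f] (g : ℕ)
    (hg : Nat.card (Coh.HH C (Coh.structureModule C) 1) = Nat.card k ^ g)
    (k' : Type u) [Field k'] [Algebra k k'] [Finite k'] :
    |(SgaExt.pointCount f k' : ℝ) - ((Nat.card k : ℝ) ^ Module.finrank k k' + 1)| ≤
      2 * g * (Nat.card k : ℝ) ^ ((Module.finrank k k' : ℝ) / 2) := by

  letI : C.Over (Spec (CommRingCat.of k)) := ⟨f⟩
  obtain ⟨hp, hs, hi, hdim⟩ := hC
  haveI := hi
  letI := Curv2.stalkAlgebra k C (genericPoint C)
  have hgi : GeometricallyIrreducible (C ↘ (Spec (CommRingCat.of k))) :=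
    (inferInstance : GeometricallyIrreducible f)
  have hK := Groth.Agent.Helper4.SN541.isFunctionField k C hp hs hgi hdim
  haveI : FiniteDimensional k k' := Module.Finite.of_finite
  have hn : 0 < Module.finrank k k' := Module.finrank_pos
  have h1 : SgaExt.pointCount f k' = Groth.Agent.Helper6.FFZeta.Ns k C.functionField
      (Module.finrank k k') :=
    Groth.Agent.Helper4.SN543.pointCount_eq_Ns k C k' hp hs hgi hdim
  have h2 := Groth.Agent.Helper4.SN548.genus_eq k C hp hs hgi hdim g hg
  have h3 := Groth.Agent.Helper4.SN542.abs_Ns_sub_le hK (Module.finrank k k') hn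
  rw [h1, h2]
  refine h3.trans (le_of_eq ?_)
  congr 1
  have hq0 : (0 : ℝ) ≤ Nat.card k := Nat.cast_nonneg _
  rw [Real.sqrt_eq_rpow, ← Real.rpow_natCast, ← Real.rpow_mul hq0]
  congr 1
  ring

end Groth.Agent.S0619
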