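import Groth.Statements.S0625
import Groth.Agent.Helper6.ClLiftC
import Groth.Agent.S0624

set_option autoImplicit false
open CategoryTheory CategoryTheory.Limits AlgebraicGeometry Opposite
universe u
open EtCore

namespace Groth.Agent.S0625

/-- Let X be an affine integral normal scheme whose function field is separably closed and Z -> X a
closed immersion. Every surjective finite etale morphism V -> Z has a section. -/
theorem result {V Z X : Scheme.{u}} [IsAffine X] [IsIntegral X]
    (hN : ∀ x : X, IsIntegrallyClosed (X.presheaf.stalk x)) [IsSepClosed X.functionField]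
    (i : Z ⟶ X) [IsClosedImmersion i] (φ : V ⟶ Z) [AlgebraicGeometry.Etale φ] [IsFinite φ] [Surjective φ] :
    ∃ s : Z ⟶ V, s ≫ φ = 𝟙 Z := by
  have hZ : IsAffine Z := isAffine_of_isAffineHom i
  have hV : IsAffine V := isAffine_of_isAffineHom φ
  obtain ⟨ι, hfin, W, e, he⟩ := Groth.Agent.S0624.result hN i φ
  have hcm : IsClosedMap (e.hom ≫ φ) := (e.hom ≫ φ).isClosedMap
  refine Groth.Agent.Helper6.ClLiftC.exists_section_of_clopen_cover φ W ?_ ?_
    (fun k => Sigma.ι (fun k => (W k : Scheme.{u})) k ≫ e.hom) (fun k => by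
      rw [Category.assoc]
      exact he k)
  · intro k
    have h1 : (W k : Set Z) = (e.hom ≫ φ) '' Set.range (Sigma.ι (fun k => (W k : Scheme.{u})) k) := by
      ext z
      constructor
      · intro hz
        refine ⟨_, ⟨⟨z, hz⟩, rfl⟩, ?_⟩
        rw [← Scheme.Hom.comp_apply, he k]
        rfl
      · rintro ⟨_, ⟨y, rfl⟩, rfl⟩
        rw [← Scheme.Hom.comp_apply, he k]
        exact y.2
    rw [h1]
    exact hcm _ (Groth.Agent.Helper6.ClLiftC.isClosed_range_sigmaι _ k)
  · intro z
    obtain ⟨v, rfl⟩ := φ.surjective z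
    obtain ⟨⟨k, y⟩, hy⟩ := (sigmaMk (fun k => (W k : Scheme.{u}))).surjective (e.inv v)
    rw [sigmaMk_mk] at hy
    refine ⟨k, ?_⟩
    have h2 : φ v = (W k).ι y := by
      rw [← he k, Scheme.Hom.comp_apply, Scheme.Hom.comp_apply, hy, ← Scheme.Hom.comp_apply e.inv,
        e.inv_hom_id]
      rfl
    rw [h2]
    exact y.2

end Groth.Agent.S0625
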