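import Groth.Statements.S0643


set_option autoImplicit false
universe u
open EtCore

namespace Groth.Agent.S0643

open Polynomial in
/-- Let A be a ring, assumed nonzero here (the published statement does not say so; over the zero ring
no polynomial has positive degree in Lean's sense), and a, b elements generating the unit ideal such
that some positive power of a is congruent to 1 modulo b. Then there is a monic polynomial P of
positive degree over A such that in B = A[y]/(P) the element a - b y is a unit. -/
theorem result (A : Type u) [CommRing A] [Nontrivial A] (a b : A) (hab : IsCoprime a b)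
    (hroot : ∃ n : ℕ, 0 < n ∧ a ^ n - 1 ∈ Ideal.span ({b} : Set A)) :
    ∃ P : A[X], P.Monic ∧ 0 < P.natDegree ∧
      IsUnit (algebraMap A (AdjoinRoot P) a - algebraMap A (AdjoinRoot P) b * AdjoinRoot.root P) := by
  classical
  obtain ⟨n, hn, hmem⟩ := hroot
  obtain ⟨m, rfl⟩ : ∃ m, n = m + 1 := ⟨n - 1, by omega⟩
  obtain ⟨c, hc⟩ := Ideal.mem_span_singleton'.mp hmem
  obtain ⟨u, v, huv⟩ := (hab.pow : IsCoprime (a ^ m) (b ^ m))
  set q : A[X] := C (-(c * u)) * X ^ m + C (-(c * v)) with hq_def
  have hq : q.degree < ((m + 1 : ℕ) : WithBot ℕ) := by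
    have h1 : (C (-(c * u)) * X ^ m : A[X]).degree ≤ (m : WithBot ℕ) :=
      degree_C_mul_X_pow_le m _
    have h2 : (C (-(c * v)) : A[X]).degree ≤ (m : WithBot ℕ) :=
      le_trans degree_C_le (by exact_mod_cast Nat.zero_le m)
    have h3 : q.degree ≤ (m : WithBot ℕ) := (degree_add_le _ _).trans (max_le h1 h2)
    exact lt_of_le_of_lt h3 (by exact_mod_cast Nat.lt_succ_self m)
  have hmonic : (X ^ (m + 1) + q).Monic := monic_X_pow_add hq
  have hdeg : (X ^ (m + 1) + q).natDegree = m + 1 := by
    have : (X ^ (m + 1) + q).degree = ((m + 1 : ℕ) : WithBot ℕ) := by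
      rw [degree_add_eq_left_of_degree_lt (by rwa [degree_X_pow]), degree_X_pow]
    exact natDegree_eq_of_degree_eq_some this
  refine ⟨X ^ (m + 1) + q, hmonic, by omega, ?_⟩
  set P : A[X] := X ^ (m + 1) + q with hP
  rw [AdjoinRoot.algebraMap_eq]
  set t := AdjoinRoot.root P with ht
  set α := AdjoinRoot.of P with hα
  rw [← Ideal.span_singleton_eq_top]
  rw [Ideal.eq_top_iff_one, ← Ideal.Quotient.eq_zero_iff_mem]
  set φ := Ideal.Quotient.mk (Ideal.span {α a - α b * t}) with hφ
  have h1 : φ (α a) = φ (α b) * φ t := by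
    have : φ (α a - α b * t) = 0 :=
      Ideal.Quotient.eq_zero_iff_mem.mpr (Ideal.subset_span rfl)
    rw [map_sub, map_mul, sub_eq_zero] at this
    exact this
  have h2 : t ^ (m + 1) + (α (-(c * u)) * t ^ m + α (-(c * v))) = 0 := by
    have := AdjoinRoot.eval₂_root P
    rw [hP, hq_def] at this
    rw [eval₂_add, eval₂_add, eval₂_mul, eval₂_pow, eval₂_pow, eval₂_C, eval₂_C, eval₂_X] at this
    exact this
  have h3 : α a ^ (m + 1) - 1 = α c * α b := by
    have := congrArg α hc
    simpa using this.symm
  have h4 : α u * α a ^ m + α v * α b ^ m = 1 := by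
    have := congrArg α huv
    simpa using this
  have h5 : φ (α b) ^ (m + 1) * φ (t ^ (m + 1) + (α (-(c * u)) * t ^ m + α (-(c * v)))) = 0 := by
    rw [h2, map_zero, mul_zero]
  have h6 : φ (α a) ^ (m + 1) - 1 = φ (α c) * φ (α b) := by
    have := congrArg φ h3
    simpa using this
  have h7 : φ (α u) * φ (α a) ^ m + φ (α v) * φ (α b) ^ m = 1 := by
    have := congrArg φ h4
    simpa using this
  simp only [map_add, map_mul, map_pow, map_neg] at h5
  have h8 : φ (α a) ^ (m + 1) - φ (α c) * φ (α b) *
      (φ (α u) * φ (α a) ^ m + φ (α v) * φ (α b) ^ m) = 0 := by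
    rw [h1]
    linear_combination h5
  rw [h7, mul_one] at h8
  rw [map_one]
  linear_combination h8 - h6

end Groth.Agent.S0643
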