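import Groth.Statements.S0652
import Mathlib
import Groth.Agent.Helper9.EtRecollement
-- import your own Groth.Agent.* helpers here

set_option autoImplicit false
open CategoryTheory CategoryTheory.Limits AlgebraicGeometry Opposite
universe u
open EtCore

namespace Groth.Agent.S0652

/-- For an open immersion j : U -> X and an abelian sheaf F on the small etale site of U, an abelian
sheaf G on X is isomorphic to j_! F as soon as G restricts to a sheaf isomorphic to F on U and has
vanishing stalks at every geometric point of X not in U. (Continuity of the composition functor of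
etale sites, which always holds, is carried as an instance hypothesis.) -/
theorem result {U X : Scheme.{u}} (j : U ⟶ X) [IsOpenImmersion j]
    [AlgebraicGeometry.Etale j] [EtShriek.JCont j] (F : EtCoh.Ab U) (G : EtCoh.Ab X)
    (hres : Nonempty ((EtShriek.restrAlong j).obj G ≅ F))
    (hzero : ∀ (Ω : Type u) [Field Ω] [IsSepClosed Ω] (ξ : Spec (CommRingCat.of Ω) ⟶ X),
      Set.range ξ.base ⊆ (Set.range j.base)ᶜ → IsZero ((EtCoh.stalk ξ).obj G)) :
    Nonempty (G ≅ (EtShriek.extZero j).obj F) := by
  have inst1 := Groth.Agent.Helper9.EtStalkExact.preservesFilteredColimits_forget_ab.{u}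
  obtain ⟨e⟩ := hres
  have key : ∀ (Ω : Type u) [Field Ω] [IsSepClosed Ω] (ξ : Spec (CommRingCat.of Ω) ⟶ X),
      Function.Bijective ((EtCoh.stalk ξ).map ((EtShriek.extZeroAdj j).counit.app G)) := by
    intro Ω _ _ ξ
    by_cases hξ : ξ.base default ∈ Set.range j.base
    · have hr : Set.range ξ ⊆ Set.range j := by
        rintro _ ⟨p, rfl⟩
        rw [Subsingleton.elim p default]
        exact hξ
      have hfac : IsOpenImmersion.lift j ξ hr ≫ j = ξ := IsOpenImmersion.lift_fac j ξ hr
      have := Groth.Agent.Helper9.EtRecollement.isIso_stalk_map_counit j G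
        (IsOpenImmersion.lift j ξ hr)
      rw [hfac] at this
      exact (ConcreteCategory.isIso_iff_bijective _).1 this
    · have hsub : Set.range ξ.base ⊆ (Set.range j.base)ᶜ := by
        rintro _ ⟨p, rfl⟩
        rw [Subsingleton.elim p default]
        exact hξ
      have hd : Disjoint (Set.range ξ.base) (Set.range j.base) :=
        Set.disjoint_left.2 (fun x hx hx' => hsub hx hx')
      have h1 : Subsingleton ↑((EtCoh.stalk ξ).obj G) :=
        AddCommGrpCat.subsingleton_of_isZero (hzero Ω ξ hsub)
      have h2 : Subsingleton ↑((EtCoh.stalk ξ).obj ((EtShriek.extZero j).obj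
          ((EtShriek.restrAlong j).obj G))) :=
        AddCommGrpCat.subsingleton_of_isZero
          (Groth.Agent.Helper9.EtShriekStalkZero.isZero_stalk_extZero j ξ _ hd)
      exact ⟨fun a b _ => @Subsingleton.elim _ h2 a b, fun y => ⟨0, @Subsingleton.elim _ h1 _ _⟩⟩
  have hm : Mono ((EtShriek.extZeroAdj j).counit.app G) := by
    rw [Groth.Agent.Helper9.EtStalkExact.mono_iff_stalks]
    exact fun Ω _ _ ξ => (key Ω ξ).1
  have he : Epi ((EtShriek.extZeroAdj j).counit.app G) := by
    rw [Groth.Agent.Helper9.EtStalkExact.epi_iff_stalks]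
    exact fun Ω _ _ ξ => (key Ω ξ).2
  have hiso : IsIso ((EtShriek.extZeroAdj j).counit.app G) := isIso_of_mono_of_epi _
  exact ⟨(asIso ((EtShriek.extZeroAdj j).counit.app G)).symm ≪≫ (EtShriek.extZero j).mapIso e⟩

end Groth.Agent.S0652
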