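import Groth.Statements.S0676
import Groth.Agent.Lead.EtaleLift
import Groth.Agent.Lead.EtaleProd

set_option autoImplicit false
open CategoryTheory CategoryTheory.Limits AlgebraicGeometry Opposite Topology
universe u
open ProEtW

namespace Groth.Agent.S0676

open scoped TensorProduct

section
variable {A : Type u} [CommRing A] (I : Ideal A) {S : Type u} [CommRing S] [Algebra A S]
  {Bb : Type u} [CommRing Bb] [Algebra (A ⧸ I) Bb]

/-- The zero locus of `I` lies in the image of `Spec S`, when `S/IS` is faithfully flat over `A/I`. -/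
lemma zeroLocus_subset_range [Module.FaithfullyFlat (A ⧸ I) Bb]
    (e : ((A ⧸ I) ⊗[A] S) ≃ₐ[A ⧸ I] Bb) :
    PrimeSpectrum.zeroLocus (I : Set A) ⊆ Set.range (PrimeSpectrum.comap (algebraMap A S)) := by
  intro p hp
  rw [PrimeSpectrum.mem_zeroLocus] at hp
  have hker : RingHom.ker (Ideal.Quotient.mk I) ≤ p.asIdeal := by rw [Ideal.mk_ker]; exact hp
  have hprime : (p.asIdeal.map (Ideal.Quotient.mk I)).IsPrime :=
    Ideal.map_isPrime_of_surjective Ideal.Quotient.mk_surjective hker
  obtain ⟨qb, hqb⟩ := PrimeSpectrum.comap_surjective_of_faithfullyFlat (A := A ⧸ I) (B := Bb)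
    ⟨p.asIdeal.map (Ideal.Quotient.mk I), hprime⟩
  -- the map S → Bb
  let ψ : S →+* Bb := (e : ((A ⧸ I) ⊗[A] S) →+* Bb).comp
    (Algebra.TensorProduct.includeRight (R := A) (A := A ⧸ I) (B := S)).toRingHom
  have hψ : ∀ a : A, ψ (algebraMap A S a) = algebraMap (A ⧸ I) Bb (Ideal.Quotient.mk I a) := by
    intro a
    show e ((1 : A ⧸ I) ⊗ₜ[A] (algebraMap A S a)) = _
    rw [Algebra.algebraMap_eq_smul_one, ← TensorProduct.smul_tmul, ← Algebra.algebraMap_eq_smul_one]
    have : (algebraMap A (A ⧸ I) a) ⊗ₜ[A] (1 : S) =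
        algebraMap (A ⧸ I) ((A ⧸ I) ⊗[A] S) (Ideal.Quotient.mk I a) := rfl
    rw [this, e.commutes]
  refine ⟨PrimeSpectrum.comap ψ qb, ?_⟩
  ext a
  have h1 : (Ideal.Quotient.mk I a ∈ p.asIdeal.map (Ideal.Quotient.mk I)) ↔ a ∈ p.asIdeal := by
    constructor
    · intro h
      have : a ∈ Ideal.comap (Ideal.Quotient.mk I) (p.asIdeal.map (Ideal.Quotient.mk I)) := h
      rw [Ideal.comap_map_of_surjective _ Ideal.Quotient.mk_surjective,
        ← RingHom.ker_eq_comap_bot] at this
      exact (sup_le le_rfl hker) this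
    · exact Ideal.mem_map_of_mem _
  have h2 : ∀ x : A ⧸ I, algebraMap (A ⧸ I) Bb x ∈ qb.asIdeal ↔
      x ∈ p.asIdeal.map (Ideal.Quotient.mk I) := by
    intro x
    have := congrArg PrimeSpectrum.asIdeal hqb
    simp only [PrimeSpectrum.comap_asIdeal] at this
    rw [← this]
    rfl
  show ψ (algebraMap A S a) ∈ qb.asIdeal ↔ a ∈ p.asIdeal
  rw [hψ, h2, h1]

end

/-- If every faithfully flat etale A-algebra has an A-algebra retraction, then the same holds for the
quotient ring A/I for every ideal I. -/
theorem result (A : Type u) [CommRing A]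
    (h : ProEtW.HasEtaleRetractions A) (I : Ideal A) :
    ProEtW.HasEtaleRetractions (A ⧸ I) := by
  intro Bb _ _ hff het
  obtain ⟨S, _, _, hS, ⟨e⟩⟩ := Groth.Agent.Lead.EtaleLift.exists_etale_lift A I Bb
  -- the image of Spec S is open and contains V(I)
  have hopen : IsOpen (Set.range (PrimeSpectrum.comap (algebraMap A S))) :=
    (PrimeSpectrum.isOpenMap_comap_of_hasGoingDown_of_finitePresentation
      (R := A) (S := S)).isOpen_range
  have hVI := zeroLocus_subset_range I e
  obtain ⟨J, hJ⟩ := (PrimeSpectrum.isClosed_iff_zeroLocus_ideal _).mp hopen.isClosed_compl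
  have hIJ : I ⊔ J = ⊤ := by
    rw [← PrimeSpectrum.zeroLocus_empty_iff_eq_top, PrimeSpectrum.zeroLocus_sup, ← hJ]
    rw [Set.eq_empty_iff_forall_notMem]
    rintro p ⟨hp1, hp2⟩
    exact hp2 (hVI hp1)
  obtain ⟨i, hi, j, hj, hij⟩ := Submodule.mem_sup.mp ((Ideal.eq_top_iff_one _).mp hIJ)
  haveI : Algebra.Etale A (S × Localization.Away i) :=
    Groth.Agent.Lead.EtaleProd.etale_prod A S (Localization.Away i)
  haveI : Module.FaithfullyFlat A (S × Localization.Away i) := by
    apply Module.FaithfullyFlat.of_comap_surjective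
    intro p
    by_cases hp : p ∈ Set.range (PrimeSpectrum.comap (algebraMap A S))
    · obtain ⟨q, rfl⟩ := hp
      refine ⟨PrimeSpectrum.comap (RingHom.fst S (Localization.Away i)) q, ?_⟩
      ext a
      rfl
    · have hpJ : p ∈ PrimeSpectrum.zeroLocus (J : Set A) := by rw [← hJ]; exact hp
      rw [PrimeSpectrum.mem_zeroLocus] at hpJ
      have hip : i ∉ p.asIdeal := by
        intro hi'
        have : (1 : A) ∈ p.asIdeal := by
          rw [← hij]; exact p.asIdeal.add_mem hi' (hpJ hj)
        exact p.2.ne_top ((Ideal.eq_top_iff_one _).mpr this)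
      have hpi : p ∈ Set.range (PrimeSpectrum.comap (algebraMap A (Localization.Away i))) := by
        rw [PrimeSpectrum.localization_away_comap_range (Localization.Away i) i]
        exact hip
      obtain ⟨q, rfl⟩ := hpi
      refine ⟨PrimeSpectrum.comap (RingHom.snd S (Localization.Away i)) q, ?_⟩
      ext a
      rfl
  obtain ⟨r⟩ := h (S × Localization.Away i) inferInstance inferInstance
  -- r (0, 1) ∈ I
  have h01 : r ((0 : S), (1 : Localization.Away i)) ∈ I := by
    have hx : ((0 : S), (1 : Localization.Away i)) =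
        i • ((0 : S), (IsLocalization.mk' (Localization.Away i) (1 : A)
          (⟨i, Submonoid.mem_powers i⟩ : Submonoid.powers i))) := by
      ext
      · simp
      · simp only [Prod.smul_snd]
        rw [Algebra.smul_def, mul_comm]
        have := IsLocalization.mk'_spec (Localization.Away i) (1 : A)
          (⟨i, Submonoid.mem_powers i⟩ : Submonoid.powers i)
        simpa using this.symm
    rw [hx, map_smul, smul_eq_mul]
    exact Ideal.mul_mem_right _ _ hi
  have h10 : Ideal.Quotient.mk I (r ((1 : S), (0 : Localization.Away i))) = 1 := by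
    have : ((1 : S), (0 : Localization.Away i)) = 1 - ((0 : S), (1 : Localization.Away i)) := by
      ext <;> simp
    rw [this, map_sub, map_one, map_sub, map_one, Ideal.Quotient.eq_zero_iff_mem.mpr h01, sub_zero]
  let ρ : S →ₐ[A] A ⧸ I :=
    { toFun := fun s => Ideal.Quotient.mk I (r (s, 0))
      map_one' := h10
      map_mul' := fun s s' => by
        rw [← map_mul, ← map_mul]
        congr 2
        ext <;> simp
      map_zero' := by
        have : ((0 : S), (0 : Localization.Away i)) = 0 := rfl
        rw [this, map_zero, map_zero]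
      map_add' := fun s s' => by
        rw [← map_add, ← map_add]
        congr 2
        ext <;> simp
      commutes' := fun a => by
        have : (algebraMap A S a, (0 : Localization.Away i)) =
            a • ((1 : S), (0 : Localization.Away i)) := by
          ext
          · simp [Algebra.smul_def]
          · simp
        rw [this, map_smul, smul_eq_mul, map_mul, h10, mul_one]
        rfl }
  exact ⟨(Algebra.TensorProduct.lift (AlgHom.id (A ⧸ I) (A ⧸ I)) ρ
    (fun x y => Commute.all _ _)).comp e.symm.toAlgHom⟩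

end Groth.Agent.S0676
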