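import Groth.Statements.S0701
import Mathlib

set_option autoImplicit false
open CategoryTheory CategoryTheory.Limits AlgebraicGeometry Opposite Topology
universe u
open ProEtW

namespace Groth.Agent.S0701

/-- If no two distinct primes of `B` are comparable, then `Spec B` is Hausdorff. -/
theorem t2_of_incomparable (B : Type u) [CommRing B]
    (h : ∀ q q' : PrimeSpectrum B, q.asIdeal ≤ q'.asIdeal → q = q') :
    T2Space (PrimeSpectrum B) := by
  -- separation of a pair with `f ∈ q`, `f ∉ q'`
  have key : ∀ q q' : PrimeSpectrum B, ∀ f : B, f ∈ q.asIdeal → f ∉ q'.asIdeal →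
      ∃ u v : Set (PrimeSpectrum B), IsOpen u ∧ IsOpen v ∧ q ∈ u ∧ q' ∈ v ∧ Disjoint u v := by
    intro q q' f hfq hfq'
    -- the multiplicative set {s * f^n : s ∉ q}
    let T : Submonoid B :=
      { carrier := {t | ∃ s : B, s ∉ q.asIdeal ∧ ∃ n : ℕ, t = s * f ^ n}
        one_mem' := ⟨1, fun h1 => q.2.ne_top ((Ideal.eq_top_iff_one _).mpr h1), 0, by simp⟩
        mul_mem' := by
          rintro a b ⟨s, hs, n, rfl⟩ ⟨s', hs', n', rfl⟩
          refine ⟨s * s', ?_, n + n', by ring⟩
          intro hmem
          rcases q.2.mem_or_mem hmem with h1 | h1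
          · exact hs h1
          · exact hs' h1 }
    have h0 : (0 : B) ∈ T := by
      by_contra h0
      have hdisj : Disjoint ((⊥ : Ideal B) : Set B) (T : Set B) := by
        rw [Set.disjoint_left]
        intro x hx hxT
        have : x = 0 := by simpa using hx
        rw [this] at hxT
        exact h0 hxT
      obtain ⟨P, hP, -, hPT⟩ := Ideal.exists_le_prime_disjoint (⊥ : Ideal B) T hdisj
      have hPq : P ≤ q.asIdeal := by
        intro x hx
        by_contra hxq
        have : x ∈ T := ⟨x, hxq, 0, by simp⟩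
        exact Set.disjoint_left.mp hPT hx this
      have hEq : (⟨P, hP⟩ : PrimeSpectrum B) = q := h ⟨P, hP⟩ q hPq
      have hfP : f ∈ P := by
        have : P = q.asIdeal := congrArg PrimeSpectrum.asIdeal hEq
        rw [this]; exact hfq
      have hfT : f ∈ T := ⟨1, fun h1 => q.2.ne_top ((Ideal.eq_top_iff_one _).mpr h1), 1, by simp⟩
      exact Set.disjoint_left.mp hPT hfP hfT
    obtain ⟨s, hs, n, hsn⟩ := h0
    refine ⟨PrimeSpectrum.basicOpen s, PrimeSpectrum.basicOpen f,
      (PrimeSpectrum.basicOpen s).2, (PrimeSpectrum.basicOpen f).2, hs, hfq', ?_⟩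
    rw [Set.disjoint_left]
    intro z hzs hzf
    have hzs' : s ∉ z.asIdeal := hzs
    have hzf' : f ∉ z.asIdeal := hzf
    have : s * f ^ n ∈ z.asIdeal := by rw [← hsn]; exact z.asIdeal.zero_mem
    rcases z.2.mem_or_mem this with h1 | h1
    · exact hzs' h1
    · exact hzf' (z.2.mem_of_pow_mem n h1)
  refine ⟨fun q q' hne => ?_⟩
  have hnle : ¬ q.asIdeal ≤ q'.asIdeal := fun hle => hne (h q q' hle)
  obtain ⟨f, hfq, hfq'⟩ := Set.not_subset.mp hnle
  exact key q q' f hfq hfq'

/-- Let Spec A be profinite (quasi-compact, Hausdorff, totally disconnected) and A -> B a ring map such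
that two distinct primes of B over the same prime of A are never comparable. Then Spec B is
profinite. -/
theorem result (A B : Type u) [CommRing A] [CommRing B]
    [Algebra A B] [T2Space (PrimeSpectrum A)] [TotallyDisconnectedSpace (PrimeSpectrum A)]
    (h : ∀ q q' : PrimeSpectrum B, q.asIdeal.comap (algebraMap A B) = q'.asIdeal.comap (algebraMap A B) →
      q.asIdeal ≤ q'.asIdeal → q = q') :
    ProEtW.IsProfinite (PrimeSpectrum B) := by
  have hT2 : T2Space (PrimeSpectrum B) := by
    apply t2_of_incomparable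
    intro q q' hle
    apply h q q' _ hle
    have hle' : PrimeSpectrum.comap (algebraMap A B) q ≤ PrimeSpectrum.comap (algebraMap A B) q' :=
      Ideal.comap_mono hle
    have hsp := (PrimeSpectrum.le_iff_specializes _ _).mp hle'
    have heq := hsp.eq
    exact congrArg PrimeSpectrum.asIdeal heq
  refine ⟨inferInstance, hT2, ?_⟩
  infer_instance

end Groth.Agent.S0701
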