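import Groth.Statements.S0702
import Groth.Agent.S0701

set_option autoImplicit false
open CategoryTheory CategoryTheory.Limits AlgebraicGeometry Opposite Topology
universe u
open ProEtW

namespace Groth.Agent.S0702

/-- Let Spec A be profinite and A -> B induce algebraic extensions of residue fields at all primes. Then
Spec B is profinite. -/
theorem result (A B : Type u) [CommRing A] [CommRing B]
    [Algebra A B] [T2Space (PrimeSpectrum A)] [TotallyDisconnectedSpace (PrimeSpectrum A)]
    (h : ProEtW.AlgebraicResidueExtensions A B) :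
    ProEtW.IsProfinite (PrimeSpectrum B) := by
  apply Groth.Agent.S0701.result A B
  intro q q' hcomap hle
  by_contra hne
  have hnle : ¬ q'.asIdeal ≤ q.asIdeal := by
    intro h'
    exact hne (PrimeSpectrum.ext (le_antisymm hle h'))
  obtain ⟨x, hxq', hxq⟩ := Set.not_subset.mp hnle
  haveI := q.2
  have halg := h q.asIdeal
  set p := q.asIdeal.comap (algebraMap A B) with hp
  have hx0 : Ideal.Quotient.mk q.asIdeal x ≠ 0 := by
    intro h0
    exact hxq (Ideal.Quotient.eq_zero_iff_mem.mp h0)
  have hxnzd : Ideal.Quotient.mk q.asIdeal x ∈ nonZeroDivisors (B ⧸ q.asIdeal) :=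
    mem_nonZeroDivisors_of_ne_zero hx0
  obtain ⟨r, hr0, hdvd⟩ := (halg.isAlgebraic (Ideal.Quotient.mk q.asIdeal x)).exists_nonzero_dvd hxnzd
  obtain ⟨a, rfl⟩ := Ideal.Quotient.mk_surjective r
  obtain ⟨y, hy⟩ := hdvd
  obtain ⟨y, rfl⟩ := Ideal.Quotient.mk_surjective y
  have hmap : algebraMap (A ⧸ p) (B ⧸ q.asIdeal) (Ideal.Quotient.mk p a) =
      Ideal.Quotient.mk q.asIdeal (algebraMap A B a) := rfl
  rw [hmap, ← map_mul, Ideal.Quotient.eq] at hy
  have haq' : algebraMap A B a ∈ q'.asIdeal := by
    have h1 : algebraMap A B a - x * y ∈ q'.asIdeal := hle hy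
    have h2 : x * y ∈ q'.asIdeal := Ideal.mul_mem_right _ _ hxq'
    have := q'.asIdeal.add_mem h1 h2
    simpa using this
  have hap : a ∈ p := by
    rw [hcomap]
    exact haq'
  exact hr0 (Ideal.Quotient.eq_zero_iff_mem.mpr hap)

end Groth.Agent.S0702
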