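import Groth.Statements.S0706
import Mathlib

set_option autoImplicit false
open CategoryTheory CategoryTheory.Limits AlgebraicGeometry Opposite Topology
universe u
open ProEtW

namespace Groth.Agent.S0706

/-- Let f be an element and I an ideal of A, and Z the intersection of D(f) and V(I) in Spec A. There is
a multiplicative subset S of A for which the image of Spec(S^{-1}A) in Spec A consists precisely of
the points having a specialization in Z. -/
theorem result (A : Type u) [CommRing A] (f : A) (I : Ideal A) :
    ∃ S : Submonoid A,
      Set.range (PrimeSpectrum.comap (algebraMap A (Localization S))) =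
        {x | ∃ z : PrimeSpectrum A,
          z ∈ (PrimeSpectrum.basicOpen f : Set (PrimeSpectrum A)) ∩ PrimeSpectrum.zeroLocus I ∧ x ⤳ z} := by
  let Z : Set (PrimeSpectrum A) :=
    (PrimeSpectrum.basicOpen f : Set (PrimeSpectrum A)) ∩ PrimeSpectrum.zeroLocus I
  let S : Submonoid A :=
    { carrier := {s | ∀ z ∈ Z, s ∉ z.asIdeal}
      one_mem' := by
        intro z _ h
        exact z.2.ne_top ((Ideal.eq_top_iff_one _).mpr h)
      mul_mem' := by
        intro a b ha hb z hz h
        rcases z.2.mem_or_mem h with h | h
        · exact ha z hz h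
        · exact hb z hz h }
  refine ⟨S, ?_⟩
  rw [PrimeSpectrum.localization_comap_range (Localization S) S]
  ext p
  simp only [Set.mem_setOf_eq]
  constructor
  · intro hdisj
    by_contra hcon
    push Not at hcon
    -- no point of Z contains p
    have hsub : PrimeSpectrum.zeroLocus ((p.asIdeal ⊔ I : Ideal A) : Set A) ⊆
        PrimeSpectrum.zeroLocus {f} := by
      intro z hz
      rw [PrimeSpectrum.mem_zeroLocus] at hz
      have hpz : p.asIdeal ≤ z.asIdeal := le_trans le_sup_left hz
      have hIz : I ≤ z.asIdeal := le_trans le_sup_right hz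
      by_contra hfz
      have hfz' : f ∉ z.asIdeal := by
        intro h
        apply hfz
        rw [PrimeSpectrum.mem_zeroLocus]
        simpa using h
      have hzZ : z ∈ Z := ⟨hfz', by rw [PrimeSpectrum.mem_zeroLocus]; exact hIz⟩
      exact hcon z hzZ ((PrimeSpectrum.le_iff_specializes p z).mp hpz)
    have hfrad : f ∈ (p.asIdeal ⊔ I).radical := by
      rw [← PrimeSpectrum.vanishingIdeal_zeroLocus_eq_radical]
      rw [PrimeSpectrum.mem_vanishingIdeal]
      intro z hz
      have := hsub hz
      rw [PrimeSpectrum.mem_zeroLocus] at this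
      exact this (Set.mem_singleton f)
    obtain ⟨n, hn⟩ := hfrad
    obtain ⟨a, ha, i, hi, hai⟩ := Submodule.mem_sup.mp hn
    have haS : a ∈ S := by
      intro z hz haz
      have hfz : f ∉ z.asIdeal := hz.1
      have hiz : i ∈ z.asIdeal := by
        have := hz.2
        rw [PrimeSpectrum.mem_zeroLocus] at this
        exact this hi
      have : f ^ n ∈ z.asIdeal := by
        rw [← hai]
        exact z.asIdeal.add_mem haz hiz
      exact hfz (z.2.mem_of_pow_mem n this)
    exact Set.disjoint_left.mp hdisj haS ha
  · rintro ⟨z, hz, hpz⟩
    rw [Set.disjoint_left]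
    intro s hs hsp
    have hle : p.asIdeal ≤ z.asIdeal := (PrimeSpectrum.le_iff_specializes p z).mpr hpz
    exact hs z hz (hle hsp)

end Groth.Agent.S0706
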