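import Groth.Statements.S0738
import Mathlib

set_option autoImplicit false
open Topology
universe u
open ProEtW

namespace Groth.Agent.S0738

open Topology TopologicalSpace

theorem quasiSeparated_of_isClosed (X : Type u) [TopologicalSpace X] [SpectralSpace X]
    (Y : Set X) (hY : IsClosed Y) : QuasiSeparatedSpace ↥Y := by
  have hemb : IsClosedEmbedding ((↑) : Y → X) := hY.isClosedEmbedding_subtypeVal
  -- every compact open of Y is the preimage of a compact open of X
  have key : ∀ U : Set Y, IsOpen U → IsCompact U →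
      ∃ W : Set X, IsOpen W ∧ IsCompact W ∧ U = (↑) ⁻¹' W := by
    intro U hU hUc
    obtain ⟨U', hU', rfl⟩ := isOpen_induced_iff.1 hU
    obtain ⟨S, hS, rfl⟩ := (PrespectralSpace.isTopologicalBasis (X := X)).open_eq_sUnion hU'
    have hc : IsCompact (((↑) : Y → X) '' (((↑) : Y → X) ⁻¹' ⋃₀ S)) :=
      hUc.image continuous_subtype_val
    obtain ⟨t, ht⟩ := hc.elim_finite_subcover (fun i : S => (i : Set X))
      (fun i => (hS i.2).1) (by
        rintro _ ⟨y, hy, rfl⟩
        obtain ⟨s, hs, hys⟩ := hy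
        exact Set.mem_iUnion.2 ⟨⟨s, hs⟩, hys⟩)
    refine ⟨⋃ i ∈ t, (i : Set X), isOpen_biUnion fun i _ => (hS i.2).1,
      t.isCompact_biUnion fun i _ => (hS i.2).2, ?_⟩
    ext y
    constructor
    · intro hy
      exact ht ⟨y, hy, rfl⟩
    · intro hy
      simp only [Set.mem_preimage, Set.mem_iUnion] at hy
      obtain ⟨i, _, hyi⟩ := hy
      exact ⟨i, i.2, hyi⟩
  constructor
  intro U V hU hUc hV hVc
  obtain ⟨W, hW, hWc, rfl⟩ := key U hU hUc
  obtain ⟨W', hW', hWc', rfl⟩ := key V hV hVc
  rw [← Set.preimage_inter]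
  exact hemb.isCompact_preimage (QuasiSeparatedSpace.inter_isCompact W W' hW hWc hW' hWc')

theorem spectral_of_isClosed (X : Type u) [TopologicalSpace X] [SpectralSpace X]
    (Y : Set X) (hY : IsClosed Y) : SpectralSpace ↥Y := by
  have hemb : IsClosedEmbedding ((↑) : Y → X) := hY.isClosedEmbedding_subtypeVal
  have h1 : CompactSpace Y := isCompact_iff_compactSpace.1 hY.isCompact
  have h2 : QuasiSober Y := hemb.quasiSober
  have h3 : QuasiSeparatedSpace Y := quasiSeparated_of_isClosed X Y hY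
  have h4 : PrespectralSpace Y := PrespectralSpace.of_isClosedEmbedding _ hemb
  exact {}

/-- A closed subset of a w-local spectral space is w-local (with the subspace topology). -/
theorem result (X : Type u) [TopologicalSpace X] (hX : ProEtW.IsWLocal X)
    (Y : Set X) (hY : IsClosed Y) : ProEtW.IsWLocal ↥Y := by
  obtain ⟨hsp, hcl, huniq⟩ := hX
  have hemb : IsClosedEmbedding ((↑) : Y → X) := hY.isClosedEmbedding_subtypeVal
  have hpt : ∀ y : Y, IsClosed ({y} : Set Y) ↔ IsClosed ({(y : X)} : Set X) := by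
    intro y
    rw [hemb.isClosed_iff_image_isClosed, Set.image_singleton]
  refine ⟨spectral_of_isClosed X Y hY, ?_, ?_⟩
  · have : {y : Y | IsClosed ({y} : Set Y)} = ((↑) : Y → X) ⁻¹' {x : X | IsClosed ({x} : Set X)} := by
      ext y
      exact hpt y
    rw [this]
    exact hcl.preimage continuous_subtype_val
  · intro y
    obtain ⟨z, ⟨hz1, hz2⟩, hz3⟩ := huniq y
    have hzY : z ∈ Y := hz2.mem_closed hY y.2
    refine ⟨⟨z, hzY⟩, ⟨(hpt _).2 hz1, (subtype_specializes_iff _ _).2 hz2⟩, ?_⟩
    rintro w ⟨hw1, hw2⟩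
    apply Subtype.ext
    exact hz3 w ⟨(hpt w).1 hw1, (subtype_specializes_iff _ _).1 hw2⟩

end Groth.Agent.S0738
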