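import Groth.Statements.S0785
import Mathlib
import Groth.Agent.Helper2.DepthLocHom

set_option autoImplicit false
universe u
open Desc

namespace Groth.Agent.S0785

open Groth.Agent.Helper2 RingTheory.Sequence IsLocalRing Pointwise TensorProduct

section
variable (A B : Type u) [CommRing A] [CommRing B] [IsLocalRing A]
    [IsLocalRing B] [IsNoetherianRing A] [IsNoetherianRing B] [Algebra A B]
    [IsLocalHom (algebraMap A B)] [Module.Flat A B]

lemma depth_zero (hm : (maximalIdeal A).map (algebraMap A B) = maximalIdeal B)
    (M : Type u) [AddCommGroup M] [Module A M] [Module.Finite A M] [Nontrivial M]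
    [Nontrivial (B ⊗[A] M)]
    (h0 : LocCoh.depth A M = 0) : LocCoh.depth B (B ⊗[A] M) = 0 := by
  rw [Depth.depth_eq_zero_iff] at h0 ⊢
  have hass := Ass.maximalIdeal_mem_ass_of_forall_not_regular A M h0
  rw [AssociatedPrimes.mem_iff, isAssociatedPrime_iff] at hass
  obtain ⟨-, z, hz⟩ := hass
  have hz0 : z ≠ 0 := by
    rintro rfl
    have : (1 : A) ∈ maximalIdeal A := by
      rw [hz, Submodule.mem_colon_singleton]; simp
    exact (Ideal.ne_top_iff_one _).mp (IsLocalRing.maximalIdeal.isMaximal A).ne_top this
  have hmz : ∀ a ∈ maximalIdeal A, a • z = 0 := by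
    intro a ha
    rw [hz, Submodule.mem_colon_singleton, Submodule.mem_bot] at ha
    exact ha
  have hff : Module.FaithfullyFlat A B := Module.FaithfullyFlat.of_flat_of_isLocalHom
  have hw0 : (1 : B) ⊗ₜ[A] z ≠ 0 := by
    intro h
    apply hz0
    apply Module.FaithfullyFlat.tensorProduct_mk_injective (A := A) (B := B) M
    simpa using h
  have hkill : ∀ b ∈ maximalIdeal B, b • ((1 : B) ⊗ₜ[A] z) = 0 := by
    intro b hb
    rw [← hm, Ideal.map] at hb
    induction hb using Submodule.span_induction with
    | mem x hx =>
      obtain ⟨a, ha, rfl⟩ := hx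
      rw [TensorProduct.smul_tmul', smul_eq_mul, mul_one, Algebra.algebraMap_eq_smul_one,
        TensorProduct.smul_tmul, hmz a ha, TensorProduct.tmul_zero]
    | zero => simp
    | add x y _ _ hx hy => rw [add_smul, hx, hy, add_zero]
    | smul c x _ hx => rw [smul_eq_mul, mul_smul, hx, smul_zero]
  intro b hb hreg
  apply hw0
  apply hreg
  simp only [smul_zero]
  exact hkill b hb

lemma key3 (hm : (maximalIdeal A).map (algebraMap A B) = maximalIdeal B) :
    ∀ (n : ℕ) (M : Type u) [AddCommGroup M] [Module A M] [Module.Finite A M] [Nontrivial M],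
      LocCoh.depth A M = n → LocCoh.depth B (B ⊗[A] M) = n := by
  have hff : Module.FaithfullyFlat A B := Module.FaithfullyFlat.of_flat_of_isLocalHom
  intro n
  induction n with
  | zero =>
    intro M _ _ _ _ h
    exact depth_zero A B hm M h
  | succ n ih =>
    intro M _ _ _ _ h
    have hIM := Depth.smul_top_ne_top A M
    have hIMB := Depth.smul_top_ne_top B (B ⊗[A] M)
    obtain ⟨rs, h1, h2, h3, h4⟩ := DepthCM.exists_length_eq_idealDepth (maximalIdeal A) M hIM
    have h4' : (rs.length : ℕ∞) = ((n + 1 : ℕ) : ℕ∞) := h4.trans h
    have hlen : rs.length = n + 1 := by exact_mod_cast h4'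
    match rs, hlen with
    | x :: rs', _ =>
      have hxm : x ∈ maximalIdeal A := h2 x List.mem_cons_self
      have hxreg : IsSMulRegular M x := ((isWeaklyRegular_cons_iff M x rs').1 h1).1
      have hd' := DepthCM.idealDepth_quotSMulTop (maximalIdeal A) M hIM x hxm hxreg
      have hdA : LocCoh.depth A (QuotSMulTop x M) = n := by
        have : LocCoh.idealDepth (maximalIdeal A) (QuotSMulTop x M) + 1 = (n : ℕ∞) + 1 := by
          rw [hd']; exact_mod_cast h
        exact ENat.add_left_injective_of_ne_top (by simp) this
      have hym : algebraMap A B x ∈ maximalIdeal B := by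
        rw [IsLocalRing.mem_maximalIdeal, mem_nonunits_iff] at hxm ⊢
        exact fun hu => hxm (isUnit_of_map_unit (algebraMap A B) x hu)
      have hyreg : IsSMulRegular (B ⊗[A] M) (algebraMap A B x) :=
        IsSMulRegular.of_flat_of_isBaseChange (TensorProduct.isBaseChange A M B) hxreg
      have hdB := DepthCM.idealDepth_quotSMulTop (maximalIdeal B) (B ⊗[A] M) hIMB _ hym hyreg
      have hnt : Nontrivial (QuotSMulTop x M) :=
        nontrivial_quotSMulTop_of_mem_maximalIdeal M hxm
      have := ih (QuotSMulTop x M) hdA
      have e := QuotSMulTop.algebraMapTensorEquivTensorQuotSMulTop (r := x) M B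
      show LocCoh.idealDepth (maximalIdeal B) (B ⊗[A] M) = _
      rw [← hdB, DepthCM.idealDepth_congr (maximalIdeal B) e]
      show LocCoh.depth B (B ⊗[A] QuotSMulTop x M) + 1 = _
      rw [this]
      push_cast
      rfl

theorem depth_eq_of_flat (hm : (maximalIdeal A).map (algebraMap A B) = maximalIdeal B) :
    LocCoh.depth A A = LocCoh.depth B B := by
  have hIM := Depth.smul_top_ne_top A A
  have hne := DepthCM.idealDepth_ne_top (maximalIdeal A) A hIM
  obtain ⟨n, hn⟩ := ENat.ne_top_iff_exists.mp hne
  have h1 : LocCoh.depth A A = n := hn.symm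
  have h2 := key3 A B hm n A h1
  have e : B ⊗[A] A ≃ₗ[B] B := TensorProduct.AlgebraTensorModule.rid A B B
  rw [h1, ← h2]
  exact DepthCM.idealDepth_congr (maximalIdeal B) e

end

/-- Let A → B be a local homomorphism of Noetherian local rings which is etale in the sense that B is
the localization at a prime of an etale A-algebra. Then A and B have the same depth. -/
theorem result (A B : Type u) [CommRing A] [CommRing B] [IsLocalRing A] [IsLocalRing B]
    [IsNoetherianRing A] [IsNoetherianRing B] [Algebra A B] [IsLocalHom (algebraMap A B)]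
    (E : Type u) [CommRing E] [Algebra A E] [Algebra.Etale A E] (P : Ideal E) [P.IsPrime]
    [Algebra E B] [IsScalarTower A E B] [IsLocalization.AtPrime B P] :
    LocCoh.depth A A = LocCoh.depth B B := by
  have : Module.Flat E B := IsLocalization.flat B P.primeCompl
  have : Module.Flat A E := inferInstance
  have : Module.Flat A B := Module.Flat.trans A E B
  have : Algebra.FormallyUnramified E B := Algebra.FormallyUnramified.of_isLocalization P.primeCompl
  have : Algebra.FormallyUnramified A B := Algebra.FormallyUnramified.comp A E B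
  have : Algebra.EssFiniteType E B := Algebra.EssFiniteType.of_isLocalization B P.primeCompl
  have : Algebra.EssFiniteType A B := Algebra.EssFiniteType.comp A E B
  exact depth_eq_of_flat A B Algebra.FormallyUnramified.map_maximalIdeal

end Groth.Agent.S0785
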