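import Groth.Statements.S0820
import Mathlib
import Groth.Agent.Helper1.Chev1

set_option autoImplicit false
universe u
open Coherent

namespace Groth.Agent.S0820

open CategoryTheory AlgebraicGeometry in
/-- Let f : Y → X be finite and surjective with X locally Noetherian, and let i : Z → X be a closed
immersion from an integral scheme, ξ the image of the generic point of Z. Then some coherent
O_Y-module F has f_* F supported exactly on i(Z), with the stalk of f_* F at ξ killed by every
element of 𝔪_{X,ξ}, the maximal ideal of O_{X,ξ}. -/
theorem result {Y X : Scheme.{u}} (f : Y ⟶ X) [IsFinite f]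
    [Surjective f] [IsLocallyNoetherian X] (Z : Scheme.{u}) (i : Z ⟶ X) [IsClosedImmersion i] [IsIntegral Z] :
    ∃ F : Y.Modules, Coh.IsCoh F ∧ CohB1.support ((Coh.push f).obj F) = Set.range ⇑i ∧
      ∀ a ∈ IsLocalRing.maximalIdeal (X.presheaf.stalk (i (genericPoint Z))),
        ∀ m : ↑(((Coh.push f).obj F).presheaf.stalk (i (genericPoint Z))), a • m = 0 := by
  classical
  obtain ⟨w, hw⟩ := f.surjective (i (genericPoint Z))
  haveI : IsLocallyNoetherian Y := LocallyOfFiniteType.isLocallyNoetherian f
  let T : TopologicalSpace.Closeds Y := ⟨closure {w}, isClosed_closure⟩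
  have hirr : IsIrreducible (T : Set Y) := isIrreducible_singleton.closure
  haveI := Groth.Agent.Helper1.Dev.isIntegral_subscheme T hirr
  have hjη : w = (Scheme.IdealSheafData.vanishingIdeal T).subschemeι
      (genericPoint (Scheme.IdealSheafData.vanishingIdeal T).subscheme) :=
    Groth.Agent.Helper1.Dev.eq_ι_genericPoint T w rfl
  have hgη : ((Scheme.IdealSheafData.vanishingIdeal T).subschemeι ≫ f)
      (genericPoint (Scheme.IdealSheafData.vanishingIdeal T).subscheme) = i (genericPoint Z) := by
    rw [Scheme.Hom.comp_apply, ← hjη, hw]
  have hrange : Set.range ((Scheme.IdealSheafData.vanishingIdeal T).subschemeι ≫ f) =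
      Set.range ⇑i := by
    have h1 : Set.range ((Scheme.IdealSheafData.vanishingIdeal T).subschemeι ≫ f) =
        f '' (T : Set Y) := by
      rw [← Groth.Agent.Helper1.Dev.range_ι_vanishingIdeal T, ← Set.range_comp]
      rfl
    have h2 : f '' (T : Set Y) = closure {i (genericPoint Z)} := by
      have := f.isClosedMap.closure_image_eq_of_continuous f.continuous {w}
      rw [Set.image_singleton, hw] at this
      exact this.symm
    have h3 : closure {i (genericPoint Z)} = Set.range ⇑i := by
      have := i.isClosedEmbedding.closure_image_eq {genericPoint Z}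
      rw [Set.image_singleton] at this
      rw [this, (genericPoint_spec Z).def, Set.image_univ]
    rw [h1, h2, h3]
  have hcl : IsClosed (Set.range ((Scheme.IdealSheafData.vanishingIdeal T).subschemeι ≫ f)) := by
    rw [hrange]
    exact i.isClosedEmbedding.isClosed_range
  have e : (Coh.push f).obj ((Coh.push (Scheme.IdealSheafData.vanishingIdeal T).subschemeι).obj
      (Coh.structureModule _)) ≅
      (Scheme.Modules.pushforward ((Scheme.IdealSheafData.vanishingIdeal T).subschemeι ≫ f)).obj
        (Coh.structureModule _) :=
    (Scheme.Modules.pushforwardComp (Scheme.IdealSheafData.vanishingIdeal T).subschemeι f).app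
        (Coh.structureModule _)
  refine ⟨(Coh.push (Scheme.IdealSheafData.vanishingIdeal T).subschemeι).obj
    (Coh.structureModule _), Groth.Agent.Helper1.Dev.isCoh_push _ _
      (Groth.Agent.Helper1.Dev.isCoh_structureModule _), ?_, ?_⟩
  · rw [Groth.Agent.Helper1.Dev.support_eq_of_iso e, ← hrange]
    ext x
    constructor
    · intro hx
      by_contra hnot
      exact hx (Groth.Agent.Lead.PushStalk.subsingleton_stalk_of_notMem_range _ _ hcl x hnot)
    · rintro ⟨y, rfl⟩
      exact Groth.Agent.Helper1.Chev.not_subsingleton_stalk_push_structure _ y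
  · intro a ha m
    exact Groth.Agent.Helper1.Chev.smul_eq_zero_of_iso e _ a
      (fun m' => Groth.Agent.Helper1.Chev.smul_eq_zero_push _ _ _ hgη a ha m') m

end Groth.Agent.S0820
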