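import Groth.Statements.S0832
import Groth.Agent.Helper1.FormD

set_option autoImplicit false
universe u
open Formal2

namespace Groth.Agent.S0832

open Groth.Agent.Helper1

open CategoryTheory AlgebraicGeometry Opposite in
/-- First assertion, for the ideal sheaf I·O_X of an ideal I of a base ring A. Let X be a Noetherian
scheme over Spec A and (F_n) a coherent formal module for I such that some fixed power I^c
annihilates every F_n. Then (F_n) is isomorphic to the system (M/I^nM) of a coherent O_X-module M. -/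
theorem result (A : Type u) [CommRing A] (I : Ideal A) (X : Scheme.{u})
    [X.Over (Spec (CommRingCat.of A))] [IsNoetherian X] (F : ℕᵒᵖ ⥤ X.Modules) (hF : Formal.IsCohFormal I F)
    (hc : ∃ c : ℕ, ∀ n : ℕ, Formal.KilledBy (I ^ c) (F.obj (op n))) :
    ∃ M : X.Modules, Coh.IsCoh M ∧ Nonempty (Formal.completion I M ≅ F) := by
  classical
  obtain ⟨c, hc⟩ := hc
  have hq : ∀ {n m : ℕ} (h : n ≤ m), Form.IsQuot (I ^ (n + 1)) (ARSys.tr F h) :=
    fun h => Form.isQuot_tr_of_isCohFormal hF h
  -- the transition map `F_k ⟶ F_c` is an isomorphism for `c ≤ k`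
  have hiso : ∀ {k : ℕ} (h : c ≤ k), IsIso (ARSys.tr F h) := fun {k} h =>
    (hq h).isIso_of_killedBy (Form.killedBy_mono (Ideal.pow_le_pow_right (Nat.le_succ c)) (hc k))
  refine ⟨F.obj (op c), hF.1 c, ?_⟩
  let ρ : ∀ n : ℕ, F.obj (op c) ⟶ F.obj (op n) := fun n =>
    haveI := hiso (Nat.le_add_left c n)
    inv (ARSys.tr F (Nat.le_add_left c n)) ≫ ARSys.tr F (Nat.le_add_right n c)
  have hρ : ∀ n, Form.IsQuot (I ^ (n + 1)) (ρ n) := fun n => by
    haveI := hiso (Nat.le_add_left c n)
    exact (hq (Nat.le_add_right n c)).iso_comp _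
  have hcomp : ∀ n, ρ (n + 1) ≫ F.map (homOfLE (Nat.le_add_right n 1)).op = ρ n := by
    intro n
    haveI := hiso (Nat.le_add_left c n)
    haveI := hiso (Nat.le_add_left c (n + 1))
    have hk : n + c ≤ n + 1 + c := by omega
    have e1 : ARSys.tr F (Nat.le_add_right (n + 1) c) ≫ F.map (homOfLE (Nat.le_add_right n 1)).op =
        ARSys.tr F hk ≫ ARSys.tr F (Nat.le_add_right n c) := by
      change F.map _ ≫ F.map _ = F.map _ ≫ F.map _
      rw [← F.map_comp, ← F.map_comp]
      rfl
    have e2 : ARSys.tr F (Nat.le_add_left c (n + 1)) =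
        ARSys.tr F hk ≫ ARSys.tr F (Nat.le_add_left c n) := (Form.tr_comp F _ _).symm
    change (inv (ARSys.tr F (Nat.le_add_left c (n + 1))) ≫ ARSys.tr F (Nat.le_add_right (n + 1) c)) ≫
      F.map (homOfLE (Nat.le_add_right n 1)).op =
      inv (ARSys.tr F (Nat.le_add_left c n)) ≫ ARSys.tr F (Nat.le_add_right n c)
    rw [Category.assoc, e1, IsIso.inv_comp_eq, e2, Category.assoc, IsIso.hom_inv_id_assoc]
  obtain ⟨e, -⟩ := Form.exists_completion_iso (F.obj (op c)) F ρ hρ hcomp
  exact ⟨e⟩

end Groth.Agent.S0832
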