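import Groth.Statements.S0847
import Groth.Agent.Helper1.ProjNoeth2
import Groth.Agent.Helper1.GM12
import Groth.Agent.Helper1.SV1
import Groth.Agent.Lead.Ref1B

set_option autoImplicit false
universe u
open Coherent

namespace Groth.Agent.S0847

open CategoryTheory AlgebraicGeometry in
/-- Let A be a Noetherian graded ring (graded by ℕ as an R-algebra), X = Proj A, F a coherent O_X-module
and p > 0. Then the twists F(d) = F ⊗ O_X(d) have vanishing H^p for every sufficiently large d. -/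
theorem result {R A : Type u} [CommRing R] [CommRing A] [Algebra R A]
    (𝒜 : ℕ → Submodule R A) [GradedAlgebra 𝒜] [IsNoetherianRing A] (F : (Proj 𝒜).Modules) (hF : Coh.IsCoh F)
    (p : ℕ) (hp : 0 < p) :
    ∃ d₀ : ℤ, ∀ d : ℤ, d₀ ≤ d → Subsingleton (Coh.HH (Proj 𝒜) (Twist.twistBy 𝒜 F d) p) := by
  classical
  obtain ⟨e, he, hloc⟩ := Groth.Agent.Helper1.ProjNoeth.exists_hloc 𝒜
  have hloc1 : ∀ x : Proj 𝒜, ∃ b : A, b ∈ 𝒜 e ∧ x ∈ Proj.basicOpen 𝒜 b := fun x => by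
    simpa using hloc 1 x
  haveI := Groth.Agent.Helper1.ProjNoeth.compactSpace_proj 𝒜
  haveI : Algebra.FiniteType (𝒜 0) A := Groth.Agent.Helper1.ProjNoeth.finiteType_zero 𝒜
  have hamp := Groth.Agent.Helper1.TwistMul.isAmple_twist' 𝒜 e he hloc1
  have hcohT : ∀ ρ : ℤ, Coh.IsCoh (Twist.twist 𝒜 ρ) := fun ρ =>
    ⟨Groth.Agent.Helper1.TwistIso.isQuasicoherent_twist 𝒜 ρ,
      Groth.Agent.Helper1.GMF.isFiniteType_twist 𝒜 ρ⟩
  have hcoh : ∀ ρ : ℕ, Coh.IsCoh (CohB1.tensorMod F (Twist.twist 𝒜 (ρ : ℤ))) := fun ρ =>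
    Groth.Agent.Lead.Ref1B.isCoh_tensorMod F _ hF (hcohT ρ)
  choose n₀ hn₀ using fun ρ : ℕ => Groth.Agent.Helper1.SV.serre_vanishing (𝒜 0)
    (Proj.toSpecZero 𝒜) hamp _ (hcoh ρ)
  refine ⟨(((Finset.range e).sup n₀ : ℕ) : ℤ) * (e : ℤ), fun d hd => ?_⟩
  have he' : (0 : ℤ) < (e : ℤ) := by exact_mod_cast he
  have hdiv := Int.emod_add_mul_ediv d (e : ℤ)
  have hρ0 : 0 ≤ d % (e : ℤ) := Int.emod_nonneg d he'.ne'
  have hρlt : d % (e : ℤ) < (e : ℤ) := Int.emod_lt_of_pos d he'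
  obtain ⟨ρ, hρ⟩ := Int.eq_ofNat_of_zero_le hρ0
  have hm0 : (((Finset.range e).sup n₀ : ℕ) : ℤ) ≤ d / (e : ℤ) := by
    rw [Int.le_ediv_iff_mul_le he']
    exact hd
  obtain ⟨m, hm⟩ := Int.eq_ofNat_of_zero_le (le_trans (Int.natCast_nonneg _) hm0)
  have hρe : ρ < e := by
    rw [hρ] at hρlt
    exact_mod_cast hρlt
  have hmn : n₀ ρ ≤ m := by
    have h1 : n₀ ρ ≤ (Finset.range e).sup n₀ := Finset.le_sup (Finset.mem_range.2 hρe)
    have h2 : (((Finset.range e).sup n₀ : ℕ) : ℤ) ≤ (m : ℤ) := by rw [← hm]; exact hm0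
    exact h1.trans (by exact_mod_cast h2)
  have hd' : d = (ρ : ℤ) + (m : ℤ) * (e : ℤ) := by
    rw [← hρ, ← hm, mul_comm]; exact hdiv.symm
  obtain ⟨μ⟩ := Groth.Agent.Helper1.TwistMul.nonempty_twist_tensor_twist_iso_right 𝒜 (ρ : ℤ)
    ((m : ℤ) * (e : ℤ)) d hd' (Groth.Agent.Helper1.ProjNoeth.cover 𝒜 e hloc1 m)
  obtain ⟨τ⟩ := Groth.Agent.Helper1.ProjNoeth.nonempty_twist_iso_tensorPow 𝒜 e hloc1 m
  have iso : CohB1.tensorMod (CohB1.tensorMod F (Twist.twist 𝒜 (ρ : ℤ)))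
      (CohB1.tensorPow (Twist.twist 𝒜 (e : ℤ)) m) ≅ Twist.twistBy 𝒜 F d :=
    PicGrp.tensorModIso (Iso.refl _) τ.symm ≪≫ Groth.Agent.Lead.Ref1B.assoc _ _ _ ≪≫
      PicGrp.tensorModIso (Iso.refl F) μ
  exact Groth.Agent.Helper1.SerreCrit.subsingleton_HH_of_iso iso p (hn₀ ρ m hmn p hp)

end Groth.Agent.S0847
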