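import Groth.Statements.S0849
import Groth.Agent.Helper1.GamZ2
import Groth.Agent.Helper1.PN1

set_option autoImplicit false
universe u
open Coherent

namespace Groth.Agent.S0849

open CategoryTheory AlgebraicGeometry Opposite in
/-- Let A be a Noetherian graded ring generated by its degree-one part over its degree-zero part (graded
by ℕ as an R-algebra), M a finite graded A-module, and X = Proj A. Then the natural map from M_n to
the global sections of the sheaf M(n)~ (m ↦ m/1) is bijective for all sufficiently large n. -/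
theorem result {R A : Type u} [CommRing R] [CommRing A] [Algebra R A]
    (𝒜 : ℕ → Submodule R A) [GradedAlgebra 𝒜] [IsNoetherianRing A] (hgen : ∀ i : ℕ, 𝒜 (i + 1) = 𝒜 1 * 𝒜 i)
    (M : Type u) [AddCommGroup M] [Module R M] [Module A M] [IsScalarTower R A M] [Module.Finite A M]
    (ℳ : ℕ → Submodule R M) [DirectSum.Decomposition ℳ] [SetLike.GradedSMul 𝒜 ℳ] :
    ∃ n₀ : ℕ, ∀ n : ℕ, n₀ ≤ n → Function.Bijective (fun m : ℳ n => GrTilde.globalOf 𝒜 ℳ m) := by
  classical
  have hirr1 : (HomogeneousIdeal.irrelevant 𝒜).toIdeal = Ideal.span (𝒜 1 : Set A) :=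
    Groth.Agent.Helper1.PN.irrelevant_eq_span 𝒜 (fun i => (hgen i).symm)
  have hfg : (Ideal.span (𝒜 1 : Set A)).FG := IsNoetherian.noetherian _
  obtain ⟨T, hT1, hTspan⟩ := (Submodule.fg_span_iff_fg_span_finset_subset (𝒜 1 : Set A)).1 hfg
  let g : Fin (T.card + 1) → A := Fin.cons 0 (fun i => ((T.equivFin.symm i : T) : A))
  have hg1 : ∀ i, g i ∈ 𝒜 1 := by
    intro i
    refine Fin.cases ?_ (fun j => ?_) i
    · exact zero_mem _
    · exact hT1 (T.equivFin.symm j).2
  have hrange : Set.range g = insert 0 (T : Set A) := by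
    ext a
    constructor
    · rintro ⟨i, rfl⟩
      refine Fin.cases ?_ (fun j => ?_) i
      · exact Set.mem_insert _ _
      · exact Set.mem_insert_of_mem _ (T.equivFin.symm j).2
    · intro ha
      rcases ha with rfl | ha
      · exact ⟨0, rfl⟩
      · refine ⟨Fin.succ (T.equivFin ⟨a, ha⟩), ?_⟩
        show ((T.equivFin.symm (T.equivFin ⟨a, ha⟩) : T) : A) = a
        rw [Equiv.symm_apply_apply]
  have hirr : (HomogeneousIdeal.irrelevant 𝒜).toIdeal = Ideal.span (Set.range g) := by
    rw [hirr1, hrange, Ideal.span_insert_zero]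
    exact hTspan
  exact Groth.Agent.Helper1.GamZ.exists_bound_bijective 𝒜 ℳ g hg1 hirr

end Groth.Agent.S0849
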