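import Groth.Statements.S0862
import Groth.Agent.Helper4.FiltSecB
import Groth.Agent.Helper6.CF1
import Groth.Agent.Helper9.Cartan
import Mathlib

set_option autoImplicit false
universe u
open CategoryTheory
open CohSite

namespace Groth.Agent.S0862


open Opposite CategoryTheory.Limits in
/-- Let C be a site with fibre products, B a class of objects and Cov a class of finite covering
families such that (1) for a family in Cov over U, U and all iterated fibre products of its members
lie in B, and (2) every covering sieve of a member of B contains a family from Cov. Then for every U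
in B, every p and every filtered diagram of abelian sheaves, colim_i H^p(U, F_i) -> H^p(U, colim_i
F_i) is an isomorphism (phrased: H^p(U, -) preserves the colimit). -/
theorem result {C : Type u} [SmallCategory C] [HasPullbacks C]
    (J : GrothendieckTopology C) (B : Set C) (Cov : ∀ (U : C) (ι : Type u), (ι → Over U) → Prop)
    (h1 : ∀ (U : C) (ι : Type u) (Y : ι → Over U), Cov U ι Y → Finite ι ∧ U ∈ B ∧
      Sieve.ofArrows (fun i => (Y i).left) (fun i => (Y i).hom) ∈ J U ∧
      ∀ (p : ℕ) (a : Fin (p + 1) → ι), (∏ᶜ fun k => Y (a k)).left ∈ B)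
    (h2 : ∀ U ∈ B, ∀ T ∈ J U, ∃ (ι : Type u) (Y : ι → Over U), Cov U ι Y ∧ ∀ i, T.arrows (Y i).hom)
    (U : C) (hU : U ∈ B) (p : ℕ) (I : Type u) [SmallCategory I] [IsFiltered I]
    (F : I ⥤ Sheaf J AddCommGrpCat.{u}) :
    PreservesColimit F ((Sheaf.cohomologyPresheafFunctor J p).flip.obj (op U)) := by

  classical
  have h1' : ∀ (U : C) (ι : Type u) (Y : ι → Over U), Cov U ι Y → U ∈ B ∧
      Sieve.ofArrows (fun i => (Y i).left) (fun i => (Y i).hom) ∈ J U ∧
      ∀ (p : ℕ) (a : Fin (p + 1) → ι), (∏ᶜ fun k => Y (a k)).left ∈ B :=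
    fun U ι Y h => (h1 U ι Y h).2
  have nat : ∀ {F G : Sheaf J AddCommGrpCat.{u}} (φ : CohCx.freeSheaf J U ⟶ F) (ψ : F ⟶ G),
      CohFree.homEquivSect J U G (φ ≫ ψ) =
        ψ.hom.app (Opposite.op U) (CohFree.homEquivSect J U F φ) := fun φ ψ => rfl
  have hall := Groth.Agent.Helper6.CF.all (Λ := I) (CohCx.freeSheaf J U) ?_ ?_ p
  · exact (Groth.Agent.Helper6.CF.preserves (CohCx.freeSheaf J U) p hall).preservesColimit
  · intro D
    refine Groth.Agent.Helper6.CF.base _ D ?_ ?_
    · intro x
      obtain ⟨l, y, hy⟩ := Groth.Agent.Helper4.FiltSecB.surj_B D (colimit.isColimit D) B Cov h1 h2 hU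
        (CohFree.homEquivSect J U _ x)
      refine ⟨l, (CohFree.homEquivSect J U _).symm y, ?_⟩
      apply (CohFree.homEquivSect J U _).injective
      rw [nat, AddEquiv.apply_symm_apply]
      exact hy
    · intro l y hy
      obtain ⟨m, a, ha⟩ := Groth.Agent.Helper4.FiltSecB.inj_B D (colimit.isColimit D) B Cov h1 h2 hU
        (CohFree.homEquivSect J U _ y) (by
          have := congrArg (CohFree.homEquivSect J U _) hy
          rw [map_zero, nat] at this
          exact this)
      refine ⟨m, a, ?_⟩
      apply (CohFree.homEquivSect J U _).injective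
      rw [map_zero, nat]
      exact ha
  · intro q D hD x
    have hacyc : Groth.Agent.Helper9.Cartan.CechAcyc J Cov (colimit D) := by
      intro U' ι Y hY p'
      exact Groth.Agent.Helper4.FiltSecB.isZero_cechH D (colimit.isColimit D) B Cov h1 h2 Y hY p'
        (fun l => Groth.Agent.Helper9.CechEdgeC.isZero_cechH_injective (D.obj l) p')
    haveI := Groth.Agent.Helper9.Cartan.main J B Cov h1' h2 q (colimit D) hacyc U hU
    exact Subsingleton.elim (α := CohSite.HU (colimit D) (q + 1) U) _ _

end Groth.Agent.S0862
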