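import Groth.Statements.S3090
import Mathlib
import Groth.Agent.Helper9.AdjExtMap
import Groth.Agent.Helper1.SiteAcyc
-- import your own Groth.Agent.* helpers here

set_option autoImplicit false
universe u
open CategoryTheory
open CohSite

namespace Groth.Agent.S3090

open CategoryTheory.Limits in
/-- Let C and D be small sites, D having finite limits, and u : D ⥤ C a continuous functor which
preserves finite limits and sends coverings to coverings (so that u defines a morphism of sites, and
of the associated topoi). If F is a flasque (totally acyclic) abelian sheaf on C, then its direct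
image V ↦ F(u(V)) is a flasque abelian sheaf on D. -/
theorem result {C D : Type u} [SmallCategory C] [SmallCategory D]
    [HasFiniteLimits D] (J : GrothendieckTopology C) (K : GrothendieckTopology D) (u : D ⥤ C)
    (hu : CoverPreserving K J u) [PreservesFiniteLimits u] [u.IsContinuous K J]
    (F : Sheaf J AddCommGrpCat.{u}) (hF : CohCx.IsTotallyAcyclic F) :
    CohCx.IsTotallyAcyclic ((CohSite.push J K u).obj F) := by
  classical
  intro K' p
  haveI : RepresentablyFlat u := flat_of_preservesFiniteLimits u
  haveI : ReflectsLimits (forget AddCommGrpCat.{u}) := reflectsLimits_of_reflectsIsomorphisms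
  haveI : PreservesFiniteLimits (u.sheafPullback AddCommGrpCat.{u} K J) :=
    Functor.sheafPullbackConstruction.preservesFiniteLimits u AddCommGrpCat.{u} K J
  haveI : (u.sheafPullback AddCommGrpCat.{u} K J).Additive :=
    (u.sheafAdjunctionContinuous AddCommGrpCat.{u} K J).left_adjoint_additive
  haveI : PreservesFiniteColimits (u.sheafPullback AddCommGrpCat.{u} K J) := by
    have : PreservesColimitsOfSize.{0, 0} (u.sheafPullback AddCommGrpCat.{u} K J) :=
      (u.sheafAdjunctionContinuous AddCommGrpCat.{u} K J).leftAdjoint_preservesColimits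
    exact PreservesColimitsOfSize.preservesFiniteColimits _
  have hA : Groth.Agent.Helper9.AdjExtMap.Acyc (CohSite.push J K u) F :=
    fun q => Groth.Agent.Helper1.SiteCoh.isZero_Rpush_of_isTotallyAcyclic J K u hF q
  have hφ := Groth.Agent.Helper9.AdjExtMap.bijective.{u}
    (u.sheafAdjunctionContinuous AddCommGrpCat.{u} K J) (p + 1) F hA
    ((presheafToSheaf K AddCommGrpCat.{u}).obj (K'.obj ⋙ AddCommGrpCat.free.{u}))
  -- the comparison of left adjoints
  let adj1 := (Sheaf.adjunction K AddCommGrpCat.adj.{u}).comp
    (u.sheafAdjunctionContinuous AddCommGrpCat.{u} K J)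
  let adj2 := (u.sheafAdjunctionContinuous (Type u) K J).comp
    (Sheaf.adjunction J AddCommGrpCat.adj.{u})
  let isoR : u.sheafPushforwardContinuous AddCommGrpCat.{u} K J ⋙
      sheafCompose K (forget AddCommGrpCat.{u}) ≅
      sheafCompose J (forget AddCommGrpCat.{u}) ⋙ u.sheafPushforwardContinuous (Type u) K J :=
    Iso.refl _
  let e : (u.sheafPullback AddCommGrpCat.{u} K J).obj
      ((presheafToSheaf K AddCommGrpCat.{u}).obj (K'.obj ⋙ AddCommGrpCat.free.{u})) ≅
      (presheafToSheaf J AddCommGrpCat.{u}).obj
        (((u.sheafPullback (Type u) K J).obj K').obj ⋙ AddCommGrpCat.free.{u}) :=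
    ((adj1.ofNatIsoRight isoR).leftAdjointUniq adj2).app K'
  have hsub : Subsingleton (CohCx.HK ((u.sheafPullback (Type u) K J).obj K') F (p + 1)) := hF _ p
  constructor
  intro x y
  apply hφ.1
  have h1 : (Abelian.Ext.mk₀ e.inv).comp
      (Groth.Agent.Helper9.AdjExtMap.φ.{u} (u.sheafAdjunctionContinuous AddCommGrpCat.{u} K J)
        _ F (p + 1) x) (zero_add _) =
      (Abelian.Ext.mk₀ e.inv).comp
      (Groth.Agent.Helper9.AdjExtMap.φ.{u} (u.sheafAdjunctionContinuous AddCommGrpCat.{u} K J)
        _ F (p + 1) y) (zero_add _) := hsub.elim _ _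
  have h2 := congrArg (fun z => (Abelian.Ext.mk₀ e.hom).comp z (zero_add _)) h1
  simp only [← Abelian.Ext.comp_assoc_of_second_deg_zero, Abelian.Ext.mk₀_comp_mk₀,
    Iso.hom_inv_id, Abelian.Ext.mk₀_id_comp] at h2
  exact h2

end Groth.Agent.S3090
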