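import Groth.Statements.S0868
import Groth.Agent.Helper4.HDUsec
import Mathlib

set_option autoImplicit false
universe u
open CategoryTheory
open CohTop

namespace Groth.Agent.S0868


open TopologicalSpace Opposite in
/-- Let K be an object of the derived category of abelian sheaves on X and B a basis of opens such that
H^p(U, H^q(K)) = 0 for all p > 0, all q and all U in B. Then for U in B and every q, H^q(U, K) (maps
from the free abelian sheaf on U to K[q]) is isomorphic to the sections of the cohomology sheaf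
H^q(K) over U. -/
theorem result {X : TopCat.{u}}
    [HasDerivedCategory.{u} (CohTop.Ab X)] (K : DerivedCategory (CohTop.Ab X))
    (B : Set (Opens X)) (hB : Opens.IsBasis B)
    (h : ∀ U ∈ B, ∀ (p : ℕ) (q : ℤ), Subsingleton (CohTop.HU (CohCx.HD K q) (p + 1) U))
    (U : Opens X) (hU : U ∈ B) (q : ℤ) :
    Nonempty (CohCx.HDU K q U ≃+ (CohCx.HD K q).obj.obj (op U)) := by

  have hB' : ∀ W : Opens X, ∃ (ι : Type u) (Y : ι → Opens X) (f : ∀ i, Y i ⟶ W),
      CategoryTheory.Sieve.ofArrows Y f ∈ Opens.grothendieckTopology X W ∧ ∀ i, Y i ∈ B := by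
    intro W
    refine ⟨{V : Opens X // V ∈ B ∧ V ≤ W}, fun V => V.1, fun V => CategoryTheory.homOfLE V.2.2,
      ?_, fun V => V.2.1⟩
    intro x hx
    obtain ⟨V, hVB, hxV, hVW⟩ := (TopologicalSpace.Opens.isBasis_iff_nbhd.1 hB) hx
    exact ⟨V, CategoryTheory.homOfLE hVW,
      ⟨V, 𝟙 _, CategoryTheory.homOfLE hVW, ⟨(⟨V, hVB, hVW⟩ : {V : Opens X // V ∈ B ∧ V ≤ W})⟩, rfl⟩,
      hxV⟩
  haveI := Groth.Agent.Helper9.LCProd1.hasProduct_nat (Groth.Agent.Helper9.LC6.En K)
  have hac : ∀ G, Groth.Agent.Helper4.HDUsec.𝒢 (J := Opens.grothendieckTopology X) B G → ∀ p,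
      Groth.Agent.Helper9.LC2.Acyc G ((DerivedCategory.homologyFunctor _ p).obj K) := by
    rintro G ⟨W, hW, rfl⟩ p
    apply Groth.Agent.Helper9.LC6.acyc_of_subsingleton_ext.{u}
    intro n
    exact h W hW n p
  have bij := Groth.Agent.Helper9.LC7.bijective_homologyMap
    (Groth.Agent.Helper4.HDUsec.𝒢 (J := Opens.grothendieckTopology X) B)
    (Groth.Agent.Helper4.HDUsec.isSeparating_𝒢 B hB') K hac
    (CohCx.freeSheaf (Opens.grothendieckTopology X) U) ⟨U, hU, rfl⟩ q
  obtain ⟨e⟩ := Groth.Agent.Helper4.HDUsec.nonempty_addEquiv_of_bijective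
    (CohCx.freeSheaf (Opens.grothendieckTopology X) U) K q bij
  exact ⟨e.trans (Groth.Agent.Helper1.SiteCoh.homAddEquiv U _)⟩

end Groth.Agent.S0868
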