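import Groth.Statements.S0871
import Mathlib
import Groth.Agent.Helper9.TopShriekFree
-- import your own Groth.Agent.* helpers here

set_option autoImplicit false
universe u
open CategoryTheory
open CohTop

namespace Groth.Agent.S0871

open TopologicalSpace CategoryTheory.Limits in
/-- For an object K of the derived category of abelian sheaves on X and an open U, H^p(U, K) is
isomorphic to H^p(U, K|_U), where K|_U is the image of K under the functor on derived categories
induced by the (exact) restriction to U. Exactness of restriction is assumed through instance
arguments (true, but not recorded by Mathlib in this generality). -/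
theorem result {X : TopCat.{u}} (U : Opens X)
    [HasDerivedCategory.{u} (CohTop.Ab X)] [HasDerivedCategory.{u} (CohTop.Ab (TopCat.of U))]
    [PreservesFiniteLimits (CohTop.restrFunctor U)] [PreservesFiniteColimits (CohTop.restrFunctor U)]
    (K : DerivedCategory (CohTop.Ab X)) (p : ℤ) :
    Nonempty (CohCx.HDU K p U ≃+ CohCx.HDU ((CohTop.restrFunctor U).mapDerivedCategory.obj K) p ⊤) := by
  exact ⟨(Groth.Agent.Helper9.DerivedAdjHom.homAddCongr
    ((DerivedCategory.singleFunctor (CohTop.Ab X) 0).mapIso
      (Groth.Agent.Helper9.TopShriekFree.shriekFreeIso U)).symm (Iso.refl _)).trans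
    (Groth.Agent.Helper9.DerivedAdjHom.homShiftAddEquiv (Groth.Agent.Helper9.TopShriek.jadj U)
      (CohCx.freeSheaf (Opens.grothendieckTopology (TopCat.of U)) ⊤) K p)⟩

end Groth.Agent.S0871
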