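import Groth.Statements.S0874
import Groth.Agent.Helper4.HDUloc
import Groth.Agent.Helper4.MilnorInj
import Mathlib

set_option autoImplicit false
universe u
open CategoryTheory
open CohTop

namespace Groth.Agent.S0874


open TopologicalSpace CategoryTheory.Limits in
/-- Let (K_n) be an inverse system in D(Ab X), the derived category of sheaves of abelian groups on X,
with derived limit L (through maps a_n : L -> K_n), x a point and m an integer. Suppose there are an
index n(x) and a fundamental system of open neighbourhoods U of x such that (1) the inverse system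
H^{m-1}(U, K_n) has vanishing R^1 lim and (2) for every n >= n(x), the transition map from H^m(U,
K_n) to H^m(U, K_{n(x)}) is one-to-one. Then a_{n(x)} induces an injection of stalks at x, from
H^m(L) into H^m(K_{n(x)}). -/
theorem result {X : TopCat.{u}} [HasDerivedCategory.{u} (CohTop.Ab X)]
    (K : ℕ → DerivedCategory (CohTop.Ab X)) (t : ∀ n, K (n + 1) ⟶ K n) [HasProduct K]
    (L : DerivedCategory (CohTop.Ab X)) (a : ∀ n, L ⟶ K n) (hL : CohCx.IsRlimVia K t L a)
    (x : X) (m : ℤ) (nx : ℕ)
    (h : ∀ V : Opens X, x ∈ V → ∃ U : Opens X, x ∈ U ∧ U ≤ V ∧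
      CohCx.LimOneIsZero (fun n => CohCx.HDU (K n) (m - 1) U)
        (fun n => Preadditive.rightComp _ ((shiftFunctor _ (m - 1)).map (t n))) ∧
      ∀ k : ℕ, Function.Injective
        (Preadditive.rightComp _ ((shiftFunctor _ m).map (CohCx.transition K t nx k)) :
          CohCx.HDU (K (nx + k)) m U → CohCx.HDU (K nx) m U)) :
    Function.Injective ((TopCat.Presheaf.stalkFunctor AddCommGrpCat.{u} x).map
      ((DerivedCategory.homologyFunctor (CohTop.Ab X) m).map (a nx)).hom) := by

  let F := (DerivedCategory.homologyFunctor (CohTop.Ab X) m).obj L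
  let G := (DerivedCategory.homologyFunctor (CohTop.Ab X) m).obj (K nx)
  let ψ : F ⟶ G := (DerivedCategory.homologyFunctor (CohTop.Ab X) m).map (a nx)
  change Function.Injective ((TopCat.Presheaf.stalkFunctor AddCommGrpCat.{u} x).map ψ.hom)
  rw [injective_iff_map_eq_zero]
  intro g hg
  obtain ⟨V, hxV, s, rfl⟩ := TopCat.Presheaf.exists_germ_eq F.obj g
  rw [TopCat.Presheaf.stalkFunctor_map_germ_apply V x hxV ψ.hom s] at hg
  have hg' : TopCat.Presheaf.germ G.obj V x hxV (ψ.hom.app (Opposite.op V) s) = TopCat.Presheaf.germ G.obj V x hxV 0 := by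
    exact hg.trans (map_zero _).symm
  obtain ⟨W, hxW, iU, iV, hW⟩ := TopCat.Presheaf.germ_eq G.obj x hxV hxV _ _ hg'
  have hs' : ψ.hom.app (Opposite.op W) (F.obj.map iU.op s) = 0 := by
    have hn := CategoryTheory.NatTrans.naturality_apply ψ.hom iU.op s
    rw [hn, hW, map_zero]
  obtain ⟨S, hS, hSY⟩ := Groth.Agent.Helper4.HDUloc.exists_sieve L (K nx) (a nx) W m
    (F.obj.map iU.op s) hs'
  obtain ⟨W', g', hg', hxW'⟩ := hS x hxW
  obtain ⟨U, hxU, hUW', h1, h2⟩ := h W' hxW'
  have hzero := hSY U (CategoryTheory.homOfLE hUW' ≫ g') (S.downward_closed hg' _)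
    (fun y hy => Groth.Agent.Helper4.MilnorInj.eq_zero_of_stage hL _ m nx h1 h2 y hy)
  have e1 := TopCat.Presheaf.germ_res_apply F.obj iU x hxW s
  have e2 := TopCat.Presheaf.germ_res_apply F.obj (CategoryTheory.homOfLE hUW' ≫ g') x hxU
    (F.obj.map iU.op s)
  rw [← e1, ← e2]
  exact (congrArg _ hzero).trans (map_zero _)

end Groth.Agent.S0874
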