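import Groth.Statements.S0875
import Groth.Agent.Helper4.HDUstalk
import Groth.Agent.Helper4.LCgen
import Groth.Agent.Helper4.LClocal
import Mathlib

set_option autoImplicit false
universe u
open CategoryTheory
open CohTop

namespace Groth.Agent.S0875


open TopologicalSpace CategoryTheory.Limits in
/-- Let E be an object of the derived category of abelian sheaves on X. Assume every point x has a
function p(x, -) and a fundamental system of open neighbourhoods U with H^p(U, H^{m-p}(E)) = 0 for
all m and all p > p(x, m). Then E is a derived limit of the tower of its truncations τ_{≥ -n} E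
through the canonical maps E -> τ_{≥ -n} E (equivalently, E -> R lim τ_{≥ -n} E is an isomorphism).
The existence of the countable product of the truncations is assumed. -/
theorem result {X : TopCat.{u}}
    [HasDerivedCategory.{u} (CohTop.Ab X)] (E : DerivedCategory (CohTop.Ab X))
    [HasProduct (CohCx.truncTower E)]
    (h : ∀ x : X, ∃ p : ℤ → ℤ, ∀ V : Opens X, x ∈ V → ∃ U : Opens X, x ∈ U ∧ U ≤ V ∧
      ∀ (m : ℤ) (k : ℕ), p m < k → Subsingleton (CohTop.HU (CohCx.HD E (m - k)) k U)) :
    CohCx.IsRlimVia (CohCx.truncTower E) (CohCx.truncTowerMap E) E (CohCx.toTruncTower E) := by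

  open Groth.Agent.Helper9.LC6 in
  refine Groth.Agent.Helper4.LCgen.isRlimVia_of_mono E (En E) (sE E) (τE E) (τE_sE E)
    (fun n p hp => Groth.Agent.Helper9.LC2.isIso_homologyMap_truncGEπ E _ p hp) ?_
  intro q R a hR
  let n₀ : ℕ := (-q).toNat
  refine ⟨n₀, by omega, ?_⟩
  haveI : ∀ x : X, Mono ((TopCat.Presheaf.stalkFunctor AddCommGrpCat.{u} x).map
      ((DerivedCategory.homologyFunctor (CohTop.Ab X) q).map (a n₀)).hom) := by
    intro x
    rw [AddCommGrpCat.mono_iff_injective]
    obtain ⟨p, hp⟩ := h x
    let N : ℕ := (p q - q).toNat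
    have hinj := Groth.Agent.Helper4.HDUstalk.stalk_injective_of_local R _ (a (n₀ + N)) x q (by
      intro V hxV
      obtain ⟨U, hxU, hUV, hU⟩ := hp V hxV
      refine ⟨U, hxU, hUV, fun y hy => ?_⟩
      have hv : ∀ (m : ℤ) (k : ℕ), p m < k → Subsingleton (CategoryTheory.Abelian.Ext.{u}
          (CohCx.freeSheaf (Opens.grothendieckTopology X) U)
          ((DerivedCategory.homologyFunctor _ (m - k)).obj E) k) :=
        fun m k hk => hU m k hk
      exact Groth.Agent.Helper4.MilnorInj.eq_zero_of_stage hR _ q (n₀ + N)
        (Groth.Agent.Helper4.LClocal.limOneIsZero E (En E) (sE E) (τE E) (τE_sE E)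
          (fun n => inferInstance)
          (fun n p hp => Groth.Agent.Helper9.LC2.isIso_homologyMap_truncGEπ E _ p hp)
          (CohCx.freeSheaf (Opens.grothendieckTopology X) U) p hv (q - 1))
        (Groth.Agent.Helper4.LClocal.injective_comp_transition E (En E) (sE E) (τE E) (τE_sE E)
          (fun n => inferInstance)
          (fun n p hp => Groth.Agent.Helper9.LC2.isIso_homologyMap_truncGEπ E _ p hp)
          (CohCx.freeSheaf (Opens.grothendieckTopology X) U) p hv (n₀ + N) q
            (by push_cast; omega)) y hy)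
    have hcomp : a (n₀ + N) ≫ CohCx.transition (En E) (sE E) n₀ N = a n₀ :=
      Groth.Agent.Helper4.MilnorInj.a_comp_transition hR n₀ N
    haveI : IsIso ((DerivedCategory.homologyFunctor (CohTop.Ab X) q).map
        (CohCx.transition (En E) (sE E) n₀ N)) :=
      Groth.Agent.Helper4.LCgen.isIso_homology_transition E (En E) (sE E) (τE E) (τE_sE E)
        (fun n p hp => Groth.Agent.Helper9.LC2.isIso_homologyMap_truncGEπ E _ p hp) n₀ q (by omega) N
    let Φ : CohTop.Ab X ⥤ AddCommGrpCat.{u} :=
      TopCat.Sheaf.forget AddCommGrpCat.{u} X ⋙ TopCat.Presheaf.stalkFunctor AddCommGrpCat.{u} x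
    change Function.Injective (Φ.map ((DerivedCategory.homologyFunctor (CohTop.Ab X) q).map (a n₀)))
    rw [← hcomp, Functor.map_comp, Functor.map_comp]
    haveI : IsIso (Φ.map ((DerivedCategory.homologyFunctor (CohTop.Ab X) q).map
        (CohCx.transition (En E) (sE E) n₀ N))) := inferInstance
    have h2 : Function.Injective (Φ.map ((DerivedCategory.homologyFunctor (CohTop.Ab X) q).map
        (CohCx.transition (En E) (sE E) n₀ N))) :=
      ((ConcreteCategory.isIso_iff_bijective _).1 this).1
    exact h2.comp hinj
  exact TopCat.Presheaf.mono_of_stalk_mono _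

end Groth.Agent.S0875
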