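import Groth.Statements.S0876
import Groth.Agent.Helper4.MVles
import Mathlib

set_option autoImplicit false
universe u
open CategoryTheory
open CohSite

namespace Groth.Agent.S0876


open CategoryTheory.Limits in
/-- As a long exact sequence of cohomology groups rather than a triangle of complexes: let S be a
Mayer-Vietoris square of a site, with corners X₁ (playing the role of the intersection), X₂, X₃ and
X₄ (the union). For every object K of the derived category of abelian sheaves there are connecting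
homomorphisms H^n(X₁, K) -> H^{n+1}(X₄, K) which together with the restriction maps (sum into
H^n(X₂, K) ⊕ H^n(X₃, K), difference out of it) form a long exact sequence ... -> H^n(X₄, K) ->
H^n(X₂, K) ⊕ H^n(X₃, K) -> H^n(X₁, K) -> H^{n+1}(X₄, K) -> .... Here H^n(U, K) is the group of maps
from the free abelian sheaf on U to K[n]. -/
theorem result {C : Type u} [SmallCategory C] {J : GrothendieckTopology C}
    [HasWeakSheafify J (Type u)] [HasDerivedCategory.{u} (Sheaf J AddCommGrpCat.{u})]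
    (S : J.MayerVietorisSquare) (K : DerivedCategory (Sheaf J AddCommGrpCat.{u})) :
    ∃ δ : ∀ n : ℤ, CohCx.HDU K n S.X₁ →+ CohCx.HDU K (n + 1) S.X₄,
      ∀ n : ℤ,
        (ComposableArrows.mk₂
          (AddCommGrpCat.ofHom ((CohCx.HDUres K n S.f₂₄).prod (CohCx.HDUres K n S.f₃₄)))
          (AddCommGrpCat.ofHom ((CohCx.HDUres K n S.f₁₂).coprod (-(CohCx.HDUres K n S.f₁₃))))).Exact ∧
        (ComposableArrows.mk₂
          (AddCommGrpCat.ofHom ((CohCx.HDUres K n S.f₁₂).coprod (-(CohCx.HDUres K n S.f₁₃))))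
          (AddCommGrpCat.ofHom (δ n))).Exact ∧
        (ComposableArrows.mk₂ (AddCommGrpCat.ofHom (δ n))
          (AddCommGrpCat.ofHom ((CohCx.HDUres K (n + 1) S.f₂₄).prod (CohCx.HDUres K (n + 1) S.f₃₄)))).Exact := by

  classical
  let hS := S.shortComplex_shortExact
  let Tr := hS.singleTriangle
  have hT : Tr ∈ distTriang _ := hS.singleTriangle_distinguished
  let SF := DerivedCategory.singleFunctor (Sheaf J AddCommGrpCat.{u}) 0
  let P := CohCx.freeSheaf J S.X₂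
  let Q := CohCx.freeSheaf J S.X₃
  let i₂ : P ⟶ S.shortComplex.X₂ := (biprod.inl : P ⟶ P ⊞ Q)
  let i₃ : Q ⟶ S.shortComplex.X₂ := (biprod.inr : Q ⟶ P ⊞ Q)
  let p₂ : S.shortComplex.X₂ ⟶ P := (biprod.fst : P ⊞ Q ⟶ P)
  let p₃ : S.shortComplex.X₂ ⟶ Q := (biprod.snd : P ⊞ Q ⟶ Q)
  have hid0 : p₂ ≫ i₂ + p₃ ≫ i₃ = 𝟙 S.shortComplex.X₂ := biprod.total
  have h1₂0 : S.shortComplex.f ≫ p₂ = CohCx.freeSheafMap J S.f₁₂ := biprod.lift_fst _ _
  have h1₃0 : S.shortComplex.f ≫ p₃ = -CohCx.freeSheafMap J S.f₁₃ := biprod.lift_snd _ _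
  have h2₂0 : i₂ ≫ S.shortComplex.g = CohCx.freeSheafMap J S.f₂₄ := biprod.inl_desc _ _
  have h2₃0 : i₃ ≫ S.shortComplex.g = CohCx.freeSheafMap J S.f₃₄ := biprod.inr_desc _ _
  let ι₂ : SF.obj P ⟶ Tr.obj₂ := SF.map i₂
  let ι₃ : SF.obj Q ⟶ Tr.obj₂ := SF.map i₃
  let π₂ : Tr.obj₂ ⟶ SF.obj P := SF.map p₂
  let π₃ : Tr.obj₂ ⟶ SF.obj Q := SF.map p₃
  have hid : π₂ ≫ ι₂ + π₃ ≫ ι₃ = 𝟙 Tr.obj₂ := by
    have := congrArg SF.map hid0
    rw [Functor.map_add, Functor.map_comp, Functor.map_comp, SF.map_id] at this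
    exact this
  have h1₂ : Tr.mor₁ ≫ π₂ = SF.map (CohCx.freeSheafMap J S.f₁₂) :=
    (SF.map_comp _ _).symm.trans (congrArg SF.map h1₂0)
  have h1₃ : Tr.mor₁ ≫ π₃ = -SF.map (CohCx.freeSheafMap J S.f₁₃) :=
    (SF.map_comp _ _).symm.trans ((congrArg SF.map h1₃0).trans (SF.map_neg))
  have h2₂ : ι₂ ≫ Tr.mor₂ = SF.map (CohCx.freeSheafMap J S.f₂₄) :=
    (SF.map_comp _ _).symm.trans (congrArg SF.map h2₂0)
  have h2₃ : ι₃ ≫ Tr.mor₂ = SF.map (CohCx.freeSheafMap J S.f₃₄) :=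
    (SF.map_comp _ _).symm.trans (congrArg SF.map h2₃0)
  have hι1 : ι₂ ≫ π₂ = 𝟙 _ :=
    (SF.map_comp _ _).symm.trans ((congrArg SF.map (biprod.inl_fst : i₂ ≫ p₂ = 𝟙 P)).trans
        (SF.map_id _))
  have hι2 : ι₃ ≫ π₃ = 𝟙 _ :=
    (SF.map_comp _ _).symm.trans ((congrArg SF.map (biprod.inr_snd : i₃ ≫ p₃ = 𝟙 Q)).trans
        (SF.map_id _))
  have hι3 : ι₂ ≫ π₃ = 0 :=
    (SF.map_comp _ _).symm.trans ((congrArg SF.map (biprod.inl_snd : i₂ ≫ p₃ = 0)).trans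
        (SF.map_zero _ _))
  have hι4 : ι₃ ≫ π₂ = 0 :=
    (SF.map_comp _ _).symm.trans ((congrArg SF.map (biprod.inr_fst : i₃ ≫ p₂ = 0)).trans
        (SF.map_zero _ _))
  refine ⟨fun n => Groth.Agent.Helper4.MVtri.δ Tr K n, fun n => ?_⟩
  obtain ⟨c1, c2, c3, c4, c5, c6⟩ := Groth.Agent.Helper4.MVles.les hT K ι₂ ι₃ π₂ π₃ hid hι1 hι2
    hι3 hι4 (SF.map (CohCx.freeSheafMap J S.f₁₂)) (SF.map (CohCx.freeSheafMap J S.f₁₃))
    (SF.map (CohCx.freeSheafMap J S.f₂₄)) (SF.map (CohCx.freeSheafMap J S.f₃₄)) h1₂ h1₃ h2₂ h2₃ n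
  refine ⟨?_, ?_, ?_⟩
  · have w : (AddCommGrpCat.ofHom ((CohCx.HDUres K n S.f₂₄).prod (CohCx.HDUres K n S.f₃₄))) ≫
        (AddCommGrpCat.ofHom ((CohCx.HDUres K n S.f₁₂).coprod (-(CohCx.HDUres K n S.f₁₃)))) = 0 := by
      ext ψ
      exact c1 ψ
    refine ComposableArrows.exact₂_mk _ w ?_
    rw [ShortComplex.ab_exact_iff]
    rintro ⟨φ₂, φ₃⟩ hφ
    obtain ⟨ψ, hψ2, hψ3⟩ := c2 φ₂ φ₃ hφ
    exact ⟨ψ, Prod.ext hψ2 hψ3⟩
  · have w : (AddCommGrpCat.ofHom ((CohCx.HDUres K n S.f₁₂).coprod (-(CohCx.HDUres K n S.f₁₃)))) ≫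
        (AddCommGrpCat.ofHom (Groth.Agent.Helper4.MVtri.δ Tr K n)) = 0 := by
      ext ⟨φ₂, φ₃⟩
      exact c3 φ₂ φ₃
    refine ComposableArrows.exact₂_mk _ w ?_
    rw [ShortComplex.ab_exact_iff]
    intro x hx
    obtain ⟨φ₂, φ₃, hφ⟩ := c4 x hx
    exact ⟨(φ₂, φ₃), hφ⟩
  · have w : (AddCommGrpCat.ofHom (Groth.Agent.Helper4.MVtri.δ Tr K n)) ≫
        (AddCommGrpCat.ofHom ((CohCx.HDUres K (n + 1) S.f₂₄).prod
          (CohCx.HDUres K (n + 1) S.f₃₄))) = 0 := by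
      ext x
      · exact (c5 x).1
      · exact (c5 x).2
    refine ComposableArrows.exact₂_mk _ w ?_
    rw [ShortComplex.ab_exact_iff]
    intro y hy
    have hy' : (SF.map (CohCx.freeSheafMap J S.f₂₄) ≫ y, SF.map (CohCx.freeSheafMap J S.f₃₄) ≫ y) =
        ((0, 0) : (SF.obj P ⟶ K⟦n + 1⟧) × (SF.obj Q ⟶ K⟦n + 1⟧)) := hy
    exact c6 y (Prod.ext_iff.1 hy').1 (Prod.ext_iff.1 hy').2

end Groth.Agent.S0876
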