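import Groth.Statements.S0881
import Groth.Agent.Helper4.HDUinj
import Groth.Agent.Helper4.HDUmono
import Groth.Agent.Helper4.LCgen
import Groth.Agent.Helper4.LClocal
import Mathlib

set_option autoImplicit false
universe u
open CategoryTheory
open CohSite

namespace Groth.Agent.S0881


open CategoryTheory.Limits in
/-- Take an object E of the derived category of abelian sheaves on a site together with a class B of
objects covering every object, and suppose every V in B has a function p(V, -) such that every
covering sieve of V contains a covering family {V_i -> V} with H^p(V_i, H^{m-p}(E)) = 0 for all m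
and all p > p(V, m). Then E is a derived limit of the tower τ_{≥ -n} E through the canonical maps
(the existence of the product of the truncations is assumed). -/
theorem result {C : Type u} [SmallCategory C]
    {J : GrothendieckTopology C} [HasDerivedCategory.{u} (Sheaf J AddCommGrpCat.{u})]
    (E : DerivedCategory (Sheaf J AddCommGrpCat.{u})) [HasProduct (CohCx.truncTower E)] (B : Set C)
    (hB : ∀ U : C, ∃ (ι : Type u) (Y : ι → C) (f : ∀ i, Y i ⟶ U), Sieve.ofArrows Y f ∈ J U ∧ ∀ i, Y i ∈ B)
    (h : ∀ V ∈ B, ∃ p : ℤ → ℤ, ∀ T ∈ J V, ∃ (ι : Type u) (Y : ι → C) (f : ∀ i, Y i ⟶ V),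
      (∀ i, T.arrows (f i)) ∧ Sieve.ofArrows Y f ∈ J V ∧
      ∀ (i : ι) (m : ℤ) (k : ℕ), p m < k → Subsingleton (CohSite.HU (CohCx.HD E (m - k)) k (Y i))) :
    CohCx.IsRlimVia (CohCx.truncTower E) (CohCx.truncTowerMap E) E (CohCx.toTruncTower E) := by

  open Groth.Agent.Helper9.LC6 in
  refine Groth.Agent.Helper4.LCgen.isRlimVia_of_mono E (En E) (sE E) (τE E) (τE_sE E)
    (fun n p hp => Groth.Agent.Helper9.LC2.isIso_homologyMap_truncGEπ E _ p hp) ?_
  intro q R a hR
  let n₀ : ℕ := (-q).toNat
  refine ⟨n₀, by omega, ?_⟩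
  apply Groth.Agent.Helper4.HDUmono.mono_of_injective_on B hB
  intro V hV
  obtain ⟨p, hp⟩ := h V hV
  -- a later stage where injectivity holds
  let N : ℕ := (p q - q).toNat
  have hinj : Function.Injective
      (((DerivedCategory.homologyFunctor _ q).map (a (n₀ + N))).hom.app (Opposite.op V)) := by
    apply Groth.Agent.Helper4.HDUinj.injective_sections_of_local R _ (a (n₀ + N)) V q
    intro T hT
    obtain ⟨ι, Y, f, hfT, hcov, hY⟩ := hp T hT
    refine ⟨ι, Y, f, hfT, hcov, fun i y hy => ?_⟩
    have hv : ∀ (m : ℤ) (k : ℕ), p m < k → Subsingleton (CategoryTheory.Abelian.Ext.{u}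
        (CohCx.freeSheaf J (Y i)) ((DerivedCategory.homologyFunctor _ (m - k)).obj E) k) :=
      fun m k hk => hY i m k hk
    exact Groth.Agent.Helper4.MilnorInj.eq_zero_of_stage hR _ q (n₀ + N)
      (Groth.Agent.Helper4.LClocal.limOneIsZero E (En E) (sE E) (τE E) (τE_sE E)
        (fun n => inferInstance)
        (fun n p hp => Groth.Agent.Helper9.LC2.isIso_homologyMap_truncGEπ E _ p hp)
        (CohCx.freeSheaf J (Y i)) p hv (q - 1))
      (Groth.Agent.Helper4.LClocal.injective_comp_transition E (En E) (sE E) (τE E) (τE_sE E)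
        (fun n => inferInstance)
        (fun n p hp => Groth.Agent.Helper9.LC2.isIso_homologyMap_truncGEπ E _ p hp)
        (CohCx.freeSheaf J (Y i)) p hv (n₀ + N) q (by push_cast; omega)) y hy
  -- transfer to stage n₀
  have hcomp : a (n₀ + N) ≫ CohCx.transition (En E) (sE E) n₀ N = a n₀ :=
    Groth.Agent.Helper4.MilnorInj.a_comp_transition hR n₀ N
  haveI : IsIso ((DerivedCategory.homologyFunctor _ q).map (CohCx.transition (En E) (sE E) n₀ N)) :=
    Groth.Agent.Helper4.LCgen.isIso_homology_transition E (En E) (sE E) (τE E) (τE_sE E)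
      (fun n p hp => Groth.Agent.Helper9.LC2.isIso_homologyMap_truncGEπ E _ p hp) n₀ q (by omega) N
  rw [← hcomp, Functor.map_comp]
  let ψ := (DerivedCategory.homologyFunctor (Sheaf J AddCommGrpCat.{u}) q).map
    (CohCx.transition (En E) (sE E) n₀ N)
  have e : ∀ z, (CategoryTheory.inv ψ).hom.app (Opposite.op V) (ψ.hom.app (Opposite.op V) z) = z := by
    intro z
    have h1 := congrArg (fun φ => φ.hom.app (Opposite.op V) z) (CategoryTheory.IsIso.hom_inv_id ψ)
    exact h1
  intro x y hxy
  apply hinj
  have hxy' : ψ.hom.app (Opposite.op V) (((DerivedCategory.homologyFunctor _ q).map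
      (a (n₀ + N))).hom.app (Opposite.op V) x) = ψ.hom.app (Opposite.op V)
      (((DerivedCategory.homologyFunctor _ q).map (a (n₀ + N))).hom.app (Opposite.op V) y) := hxy
  rw [← e (((DerivedCategory.homologyFunctor _ q).map (a (n₀ + N))).hom.app (Opposite.op V) x),
    hxy', e]

end Groth.Agent.S0881
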