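import Groth.Statements.S0883
import Groth.Agent.Helper4.PushGE
import Mathlib

set_option autoImplicit false
universe u
open CategoryTheory
open CohTop

namespace Groth.Agent.S0883


open TopologicalSpace in
/-- Part (1) (abelian sheaves; the assertion about Rf_* K is not included): given a continuous map f : X
-> Y, a basis B of opens of Y and an object K of the derived category of abelian sheaves on X such
that H^i(f^{-1}V, K) = 0 for all i < 0 and V in B. Then H^i(f^{-1}V, K) = 0 for i < 0 and every open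
V of Y, and the presheaf V ↦ H^0(f^{-1}V, K) is a sheaf on Y. -/
theorem result {X Y : TopCat.{u}} (f : X ⟶ Y)
    [HasDerivedCategory.{u} (CohTop.Ab X)] (B : Set (Opens Y)) (hB : Opens.IsBasis B)
    (K : DerivedCategory (CohTop.Ab X))
    (h : ∀ V ∈ B, ∀ i : ℤ, i < 0 → Subsingleton (CohCx.HDU K i ((Opens.map f).obj V))) :
    (∀ (V : Opens Y) (i : ℤ), i < 0 → Subsingleton (CohCx.HDU K i ((Opens.map f).obj V))) ∧
    Presheaf.IsSheaf (Opens.grothendieckTopology Y) ((Opens.map f).op ⋙ CohCx.HDUPresheaf K 0) := by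

  obtain ⟨I, hI, ⟨e⟩⟩ := Groth.Agent.Helper4.HDUrep.exists_kinj_rep K
  have eqv : ∀ (i : ℤ) (U : Opens X), CohCx.HDU K i U ≃ CohCx.HDU (DerivedCategory.Q.obj I) i U :=
    fun i U => ((shiftFunctor _ i).mapIso e).homToEquiv
  have h' : ∀ V ∈ B, ∀ i : ℤ, i < 0 →
      Subsingleton (CohCx.HDU (DerivedCategory.Q.obj I) i ((Opens.map f).obj V)) := by
    intro V hV i hi
    haveI := h V hV i hi
    exact (eqv i _).symm.subsingleton
  have hN := Groth.Agent.Helper4.PushGE.isZero_homology f I B hB h'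
  obtain ⟨M', α, hα, hM', hM'0⟩ :=
    Groth.Agent.Helper4.PushGE.exists_res (A := CohTop.Ab Y) (Groth.Agent.Helper4.PushShf.M f I) hN
  letI : HasDerivedCategory (CohTop.Ab Y) := HasDerivedCategory.standard _
  refine ⟨?_, ?_⟩
  · intro V i hi
    haveI := Groth.Agent.Helper4.PushGE.subsingleton_neg f I M' α V i hi
    exact (eqv i _).subsingleton
  · have hs := Groth.Agent.Helper4.PushGE.isSheaf_zero f I M' α
    let e1 : CohCx.HDUPresheaf K 0 ≅ CohCx.HDUPresheaf (DerivedCategory.Q.obj I) 0 :=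
      Functor.isoWhiskerLeft _ (preadditiveYoneda.mapIso ((shiftFunctor _ (0 : ℤ)).mapIso e))
    exact (Presheaf.isSheaf_of_iso_iff (Functor.isoWhiskerLeft (Opens.map f).op e1)).2 hs

end Groth.Agent.S0883
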