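import Groth.Statements.S0894
import Mathlib
import Groth.Agent.Helper9.SRSplit
-- import your own Groth.Agent.* helpers here

set_option autoImplicit false
universe u
open CategoryTheory
open Hyper

namespace Groth.Agent.S0894

open Opposite in
/-- For a hypercovering K of an object X of a site with fibre products (a simplicial semi-representable
object over X; coskeleta are assumed to exist): (1) for each n the family K_n is a covering of X,
and (2) every face map d_i : K_{n+1} -> K_n is a covering morphism of semi-representable objects. -/
theorem result {C : Type u} [SmallCategory C] [Limits.HasPullbacks C]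
    (J : GrothendieckTopology C) (X : C) (K : SimplicialObject (Limits.FormalCoproduct.{u} (Over X)))
    [∀ (n : ℕ) (F : (SimplexCategory.Truncated n)ᵒᵖ ⥤ Limits.FormalCoproduct.{u} (Over X)),
      (SimplexCategory.Truncated.inclusion n).op.HasRightKanExtension F]
    (hK : Hyper.IsHypercovering J X K) :
    (∀ n : ℕ, Sieve.ofArrows (fun i => ((K.obj (op (SimplexCategory.mk n))).obj i).left)
      (fun i => ((K.obj (op (SimplexCategory.mk n))).obj i).hom) ∈ J X) ∧
    ∀ (n : ℕ) (i : Fin (n + 2)), Hyper.IsSRCovering (J.over X) (K.δ i) := by
  refine ⟨fun n => ?_, fun n i => ?_⟩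
  · let s : K.obj (op (SimplexCategory.mk 0)) ⟶ K.obj (op (SimplexCategory.mk n)) :=
      K.map (SimplexCategory.const (SimplexCategory.mk n) (SimplexCategory.mk 0) 0).op
    refine J.superset_covering ?_ hK.1
    rw [Sieve.ofArrows, Sieve.generate_le_iff]
    rintro V _ ⟨i⟩
    have h : ((K.obj (op (SimplexCategory.mk 0))).obj i).hom =
        (s.φ i).left ≫ ((K.obj (op (SimplexCategory.mk n))).obj (s.f i)).hom := (Over.w (s.φ i)).symm
    rw [h]
    exact Sieve.downward_closed _
      (Sieve.ofArrows_mk (fun i => ((K.obj (op (SimplexCategory.mk n))).obj i).left)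
        (fun i => ((K.obj (op (SimplexCategory.mk n))).obj i).hom) (s.f i)) _
  · by_cases hi : i = Fin.last (n + 1)
    · subst hi
      refine Groth.Agent.Helper9.SRSplit.isSRCovering_of_section _ _ (K.σ (Fin.last n)) ?_
      rw [← Fin.succ_last]
      exact SimplicialObject.δ_comp_σ_succ K
    · obtain ⟨j, rfl⟩ := Fin.exists_castSucc_eq.2 hi
      exact Groth.Agent.Helper9.SRSplit.isSRCovering_of_section _ _ (K.σ j)
        (SimplicialObject.δ_comp_σ_self K)

end Groth.Agent.S0894
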