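import Groth.Statements.S0905
import Mathlib
import Groth.Agent.Helper9.WContr
import Groth.Agent.Helper1.SiteCoh
-- import your own Groth.Agent.* helpers here

set_option autoImplicit false
universe u
open CategoryTheory
open CohSite

namespace Groth.Agent.S0905

open Opposite CategoryTheory.Limits in
/-- Parts (1) and (2), for a weakly contractible object U of a site (one over which every epimorphism of
sheaves of sets is surjective on sections): (1) the functor F ↦ F(U) from abelian sheaves to abelian
groups preserves finite colimits (it is exact, finite limits being automatic), and (2) H^p(U, F) = 0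
for every abelian sheaf F and every p > 0. (Part (3) about torsors is not included.) -/
theorem result {C : Type u} [SmallCategory C] (J : GrothendieckTopology C)
    (U : C) (hU : CohSite.IsWeaklyContractible J U) :
    PreservesFiniteColimits (sheafToPresheaf J AddCommGrpCat.{u} ⋙ (evaluation Cᵒᵖ AddCommGrpCat.{u}).obj (op U)) ∧
    ∀ (F : Sheaf J AddCommGrpCat.{u}) (p : ℕ), Subsingleton (CohSite.HU F (p + 1) U) := by
  have hUw : ∀ (P Q : Sheaf J (Type u)) (ψ : P ⟶ Q), Epi ψ →
      Function.Surjective (ψ.hom.app (op U)) := hU
  have hlim : PreservesFiniteLimits (Groth.Agent.Helper9.WContr.Γ J U) := inferInstance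
  have hcolim : PreservesFiniteColimits (Groth.Agent.Helper9.WContr.Γ J U) :=
    (Functor.preservesFiniteColimits_iff_forall_exact_map_and_epi _).2 (fun T hT =>
      ⟨((Functor.preservesFiniteLimits_iff_forall_exact_map_and_mono _).1 hlim T hT).1, by
        haveI := hT.epi_g
        exact Groth.Agent.Helper9.WContr.epi_map_of_weaklyContractible J U hUw T.g⟩)
  refine ⟨hcolim, ?_⟩
  haveI : Projective (Groth.Agent.Helper1.SiteCoh.freeY J U) := by
    constructor
    intro F G g φ hφ
    have hsurj : Function.Surjective (φ.hom.app (op U)) := by
      have := Groth.Agent.Helper9.WContr.epi_map_of_weaklyContractible J U hUw φ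
      exact (AddCommGrpCat.epi_iff_surjective _).1 this
    obtain ⟨t, ht⟩ := hsurj (Groth.Agent.Helper1.SiteCoh.homEquiv U G g)
    refine ⟨(Groth.Agent.Helper1.SiteCoh.homEquiv U F).symm t, ?_⟩
    apply (Groth.Agent.Helper1.SiteCoh.homEquiv U G).injective
    rw [Groth.Agent.Helper1.SiteCoh.homEquiv_comp, Equiv.apply_symm_apply]
    exact ht
  intro F p
  change Subsingleton (Abelian.Ext (Groth.Agent.Helper1.SiteCoh.freeY J U) F (p + 1))
  exact subsingleton_of_forall_eq 0 fun x => Abelian.Ext.eq_zero_of_projective x

end Groth.Agent.S0905
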