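import Groth.Statements.S0916
import Mathlib
import Groth.Agent.Helper9.LTM3
import Groth.Agent.Helper9.LTM5
import Groth.Agent.Helper9.StalkTensor5
import Groth.Agent.Helper9.KFlat8
-- import your own Groth.Agent.* helpers here

set_option autoImplicit false
universe u
open CategoryTheory
attribute [local instance] HasDerivedCategory.standard
open DCoh

namespace Groth.Agent.S0916

open AlgebraicGeometry CategoryTheory.Limits in
/-- Flatness of an O_X-module F (all stalks flat) is equivalent to the following Tor-vanishing: for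
every O_X-module G the sheaf Tor_1(F, G), i.e. H^{-1} of F ⊗^L G, vanishes; the existence of the
derived tensor product with every G is assumed (hypothesis hL). -/
theorem result {X : Scheme.{u}} (F : X.Modules) (hL : ∀ G : X.Modules, DCoh.HasLTensorMod G) :
    FlatMod.IsFlat F ↔ ∀ (G : X.Modules) [DCoh.HasLTensorMod G],
      IsZero (DCoh.HD ((DCoh.LTensorMod G).obj (DCoh.inD X F)) (-1)) := by
  let E : CochainComplex X.Modules ℤ :=
    (HomologicalComplex.single X.Modules (ComplexShape.up ℤ) 0).obj F
  have e₀ : DCoh.toD X E ≅ DCoh.inD X F :=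
    ((DerivedCategory.singleFunctorIsoCompQ X.Modules 0).app F).symm
  constructor
  · intro hF G _
    have hKF : DCoh.IsKFlat E :=
      @Groth.Agent.Helper9.KFlat8.isKFlat_single _ _ _ X.sheaf F
        (Groth.Agent.Helper9.StalkTensor3.isFlat_of_stalkwise F hF)
    exact (Groth.Agent.Helper9.LTM2.isZero_homology_tensF G E (-1)
      (HomologicalComplex.isZero_single_obj_X (ComplexShape.up ℤ) 0 F (-1) (by simp))).of_iso
      (Groth.Agent.Helper9.LTM1.hdIso G E hKF e₀ (-1))
  · intro h
    have hE : E.IsStrictlyLE 0 := by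
      rw [CochainComplex.isStrictlyLE_iff]
      intro i hi
      exact HomologicalComplex.isZero_single_obj_X (ComplexShape.up ℤ) 0 F i (by omega)
    obtain ⟨P, q, hq, hKF, hfl, hP⟩ :=
      @Groth.Agent.Helper9.KFlatB2.exists_flat_resolution_le _ _ _ X.sheaf E 0 hE
    have hq' : IsIso (DerivedCategory.Q.map q) :=
      (DerivedCategory.isIso_Q_map_iff_quasiIso _ q).2 hq
    have e : DCoh.toD X P ≅ DCoh.inD X F := @asIso _ _ _ _ (DerivedCategory.Q.map q) hq' ≪≫ e₀
    have hex : ∀ G : X.Modules, IsZero
        ((Groth.Agent.Helper9.LTM4.tens (O := X.sheaf) G P).homology (-1)) := by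
      intro G
      haveI := hL G
      exact (h G).of_iso (Groth.Agent.Helper9.LTM1.hdIso G P hKF e (-1)).symm
    exact Groth.Agent.Helper9.StalkTensor5.stalkwise_of_isFlat F
      (@Groth.Agent.Helper9.LTM5.isFlat_of_resolution _ _ _ X.sheaf F P hP q hq hfl hex)

end Groth.Agent.S0916
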