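import Groth.Statements.S0917
import Groth.Agent.Helper1.HtpyKill

set_option autoImplicit false
universe v u
open CategoryTheory
open CohDer

namespace Groth.Agent.S0917

/-- In a Grothendieck abelian category A, given a small family (K_i) of acyclic cochain complexes, there
are an endofunctor N of the category of cochain complexes and a natural transformation j from the
identity to N such that for every complex M: each component of j_M is a monomorphism, j_M is a
quasi-isomorphism, and for every i and every morphism w : K_i -> M the composite w ≫ j_M is
homotopic to zero. -/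
theorem result {A : Type u} [Category.{v} A] [Abelian A]
    [IsGrothendieckAbelian.{v} A] {ι : Type v} (K : ι → CochainComplex A ℤ)
    (hK : ∀ i (n : ℤ), Limits.IsZero ((K i).homology n)) :
    ∃ (N : CochainComplex A ℤ ⥤ CochainComplex A ℤ) (j : 𝟭 _ ⟶ N),
      ∀ M : CochainComplex A ℤ, (∀ n : ℤ, Mono ((j.app M).f n)) ∧ QuasiIso (j.app M) ∧
        ∀ (i : ι) (w : K i ⟶ M), Nonempty (Homotopy (w ≫ j.app M) 0) := by
  have h1 : ∀ (J : Type (max v v)), Limits.HasColimitsOfShape (Discrete J) A := fun J => inferInstance
  have h2 : ∀ (J : Type (max v v)), HasExactColimitsOfShape (Discrete J) A := fun J => inferInstance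
  refine ⟨Groth.Agent.Helper1.HtpyKill.N K, Groth.Agent.Helper1.HtpyKill.j K, fun M => ?_⟩
  exact Groth.Agent.Helper1.HtpyKill.main K
    (fun i n => (HomologicalComplex.exactAt_iff_isZero_homology _ _).2 (hK i n)) M

end Groth.Agent.S0917
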