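import Groth.Statements.S0919
import Mathlib

set_option autoImplicit false
universe v u
open CategoryTheory
open CohDer

namespace Groth.Agent.S0919

open CategoryTheory.Limits Opposite

open CategoryTheory.Limits in
/-- Let A be a Grothendieck abelian category and F a contravariant functor from A to sets (a functor on
the opposite category). Then F is representable if and only if F turns all small colimits of A into
limits, i.e. preserves small limits as a functor on the opposite category. -/
theorem result {A : Type u} [Category.{v} A] [Abelian A]
    [IsGrothendieckAbelian.{v} A] (F : Aᵒᵖ ⥤ Type v) :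
    F.IsRepresentable ↔ PreservesLimitsOfSize.{v, v} F := by
  constructor
  · intro h
    exact preservesLimits_of_natIso (F.reprW)
  · intro h
    have hsep : (ObjectProperty.singleton (op (separator A))).IsCoseparating :=
      (isCoseparator_op_iff _).2 (isSeparator_separator A)
    have hadj : F.IsRightAdjoint :=
      isRightAdjoint_of_preservesLimits_of_isCoseparating hsep F
    let L := F.leftAdjoint
    let adj : L ⊣ F := Adjunction.ofIsRightAdjoint F
    have e1 := adj.corepresentableBy PUnit.{v+1}
    let Z := L.obj PUnit.{v+1}
    have e2 : F.CorepresentableBy Z :=
      e1.ofIso (Functor.isoWhiskerLeft F Coyoneda.punitIso ≪≫ F.rightUnitor)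
    refine ⟨Z.unop, ⟨?_⟩⟩
    exact
      { homEquiv := fun {X} => (opEquiv _ _).symm.trans (e2.homEquiv (Y := op X))
        homEquiv_comp := by
          intro X X' f g
          exact e2.homEquiv_comp f.op g.op }

end Groth.Agent.S0919
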