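import Groth.Statements.S0922
import Groth.Agent.Helper4.SchAdj
import Mathlib

set_option autoImplicit false
universe u
open CategoryTheory
attribute [local instance] HasDerivedCategory.standard
open DCoh

namespace Groth.Agent.S0922


open AlgebraicGeometry in
/-- For morphisms of schemes f : X → Y and g : Y → Z, the composite Rg_* ∘ Rf_* of total right derived
direct image functors is isomorphic to R(g ∘ f)_* as functors D(O_X) → D(O_Z). Existence of the
three derived functors is assumed (as instance binders) and only the existence of an isomorphism of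
functors is asserted. The published statement is for ringed spaces; stated here for schemes. -/
theorem result {X Y Z : Scheme.{u}} (f : X ⟶ Y) (g : Y ⟶ Z)
    [DCoh.HasRpush f] [DCoh.HasRpush g] [DCoh.HasRpush (f ≫ g)] :
    Nonempty (DCoh.Rpush f ⋙ DCoh.Rpush g ≅ DCoh.Rpush (f ≫ g)) := by

  haveI := Groth.Agent.Helper9.Lpull1.hasLpull f
  haveI := Groth.Agent.Helper9.Lpull1.hasLpull g
  haveI := Groth.Agent.Helper9.Lpull1.hasLpull (f ≫ g)
  let a := ((Groth.Agent.Helper4.SchAdj.adj g).comp (Groth.Agent.Helper4.SchAdj.adj f)).ofNatIsoLeft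
    (Groth.Agent.Helper9.Lpull3.lpullComp f g)
  exact ⟨a.rightAdjointUniq (Groth.Agent.Helper4.SchAdj.adj (f ≫ g))⟩

end Groth.Agent.S0922
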