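import Groth.Statements.S0931
import Groth.Agent.Helper4.HDUshf
import Mathlib

set_option autoImplicit false
universe u
open CategoryTheory
open CohSite

namespace Groth.Agent.S0931


/-- Let K be an object of the derived category of abelian sheaves on a site and q an integer. Then the
sheafification of the presheaf U ↦ H^q(U, K) is isomorphic to the q-th cohomology sheaf H^q(K). -/
theorem result {C : Type u} [SmallCategory C] {J : GrothendieckTopology C}
    [HasDerivedCategory.{u} (Sheaf J AddCommGrpCat.{u})] (K : DerivedCategory (Sheaf J AddCommGrpCat.{u}))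
    (q : ℤ) :
    Nonempty ((presheafToSheaf J AddCommGrpCat.{u}).obj (CohCx.HDUPresheaf K q) ≅ CohCx.HD K q) := by

  obtain ⟨I, hI, ⟨e⟩⟩ := Groth.Agent.Helper4.HDUrep.exists_kinj_rep K
  obtain ⟨i⟩ := Groth.Agent.Helper4.HDUshf.nonempty_iso_homology I q
  let e1 : CohCx.HDUPresheaf K q ≅ CohCx.HDUPresheaf (DerivedCategory.Q.obj I) q :=
    Functor.isoWhiskerLeft _ (preadditiveYoneda.mapIso ((shiftFunctor _ q).mapIso e))
  exact ⟨(presheafToSheaf J AddCommGrpCat.{u}).mapIso e1 ≪≫ i ≪≫
    ((DerivedCategory.homologyFunctorFactors _ q).app I).symm ≪≫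
    (DerivedCategory.homologyFunctor _ q).mapIso e.symm⟩

end Groth.Agent.S0931
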