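import Groth.Statements.S0935
import Groth.Agent.Helper4.SchAdj
import Groth.Agent.Helper4.RDerTri
import Mathlib

set_option autoImplicit false
universe u
open CategoryTheory
attribute [local instance] HasDerivedCategory.standard
open DCoh

namespace Groth.Agent.S0935


open AlgebraicGeometry CategoryTheory.Limits in
/-- Let f : X → Y be a morphism of schemes and (K_n)_{n ≥ 0} an inverse system in D(O_X) with derived
limit L. Then Rf_*L is a derived limit of the system (Rf_*K_n). Here Rf_* is the total right derived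
functor of f_* under its existence binder, and the two countable products ∏ K_n and ∏ Rf_*K_n are
assumed to exist. (The published statement is for morphisms of ringed spaces; stated here for
schemes.) -/
theorem result {X Y : Scheme.{u}} (f : X ⟶ Y) [DCoh.HasRpush f]
    (K : ℕ → DCoh.D X) (t : ∀ n, K (n + 1) ⟶ K n) [HasProduct K] [HasProduct fun n => (DCoh.Rpush f).obj (K n)]
    (L : DCoh.D X) (hL : DCoh.IsRlim K t L) :
    DCoh.IsRlim (fun n => (DCoh.Rpush f).obj (K n)) (fun n => (DCoh.Rpush f).map (t n)) ((DCoh.Rpush f).obj L) := by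

  obtain ⟨a, c, hT⟩ := hL
  haveI := Groth.Agent.Helper4.SchAdj.isGrothendieckAbelian_modules X
  haveI := Groth.Agent.Helper9.Lpull1.hasLpull f
  have adj := Groth.Agent.Helper4.SchAdj.adj f
  haveI : (DCoh.Rpush f).IsRightAdjoint := adj.isRightAdjoint
  haveI : PreservesLimitsOfSize.{0, 0} (DCoh.Rpush f) := adj.rightAdjoint_preservesLimits
  haveI : (DCoh.Rpush f).Additive := Functor.additive_of_preserves_binary_products _
  obtain ⟨c', hT'⟩ := Groth.Agent.Helper4.RDerTri.exists_distinguished_map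
    (Scheme.Modules.pushforward f) (DCoh.Rpush f)
    ((DCoh.pushKh f).totalRightDerivedUnit DerivedCategory.Qh
      (HomotopyCategory.quasiIso X.Modules (ComplexShape.up ℤ))) _ hT
  let e : (DCoh.Rpush f).obj (∏ᶜ K) ≅ ∏ᶜ fun n => (DCoh.Rpush f).obj (K n) :=
    PreservesProduct.iso (DCoh.Rpush f) K
  have he : ∀ n, e.hom ≫ Pi.π (fun n => (DCoh.Rpush f).obj (K n)) n =
      (DCoh.Rpush f).map (Pi.π K n) := fun n => by
    simp [e, PreservesProduct.iso_hom]
  have hT'' : Pretriangulated.Triangle.mk ((DCoh.Rpush f).map a)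
      ((DCoh.Rpush f).map (Pi.lift fun n => Pi.π K n - Pi.π K (n + 1) ≫ t n)) c' ∈
      Pretriangulated.distinguishedTriangles := hT'
  refine ⟨(DCoh.Rpush f).map a ≫ e.hom, e.inv ≫ c', ?_⟩
  refine Pretriangulated.isomorphic_distinguished _ hT'' _
    (Pretriangulated.Triangle.isoMk _ _ (Iso.refl _) e.symm e.symm ?_ ?_ ?_)
  · change ((DCoh.Rpush f).map a ≫ e.hom) ≫ e.inv = 𝟙 _ ≫ (DCoh.Rpush f).map a
    simp
  · change (Pi.lift fun n => Pi.π (fun n => (DCoh.Rpush f).obj (K n)) n -
        Pi.π (fun n => (DCoh.Rpush f).obj (K n)) (n + 1) ≫ (DCoh.Rpush f).map (t n)) ≫ e.inv =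
      e.inv ≫ (DCoh.Rpush f).map (Pi.lift fun n => Pi.π K n - Pi.π K (n + 1) ≫ t n)
    rw [← cancel_mono e.hom, Category.assoc, Category.assoc, Iso.inv_hom_id, Category.comp_id]
    apply Pi.hom_ext
    intro n
    rw [Category.assoc, Category.assoc, Pi.lift_π, he, ← Functor.map_comp, Pi.lift_π,
      Functor.map_sub, Functor.map_comp, Preadditive.comp_sub, ← he, ← he, Iso.inv_hom_id_assoc,
      Category.assoc, Iso.inv_hom_id_assoc]
  · change (e.inv ≫ c') ≫ (shiftFunctor _ (1 : ℤ)).map (𝟙 _) = e.inv ≫ c'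
    simp

end Groth.Agent.S0935
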