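import Groth.Statements.S0938
import Groth.Agent.Helper4.FFSummand
import Mathlib

set_option autoImplicit false
universe u
open CategoryTheory
open Coh

namespace Groth.Agent.S0938


open AlgebraicGeometry CategoryTheory.Limits in
/-- For a scheme X with R = Γ(X, O_X), the full subcategory of O_X-modules which are retracts of a
finite free O_X-module is equivalent to the full subcategory of R-modules which are finite and
projective (existence of an equivalence of categories). The published statement is for ringed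
spaces; stated here for schemes. -/
theorem result {X : Scheme.{u}} :
    Nonempty ((ObjectProperty.FullSubcategory fun M : X.Modules =>
        ∃ (n : ℕ) (i : M ⟶ FlatMod.freeMod X n) (r : FlatMod.freeMod X n ⟶ M), i ≫ r = 𝟙 M) ≌
      (ObjectProperty.FullSubcategory fun N : ModuleCat.{u} (Γ(X, ⊤)) =>
        Module.Finite (Γ(X, ⊤)) N ∧ Module.Projective (Γ(X, ⊤)) N)) := by

  classical
  let P : ObjectProperty X.Modules := fun M =>
    ∃ (n : ℕ) (i : M ⟶ FlatMod.freeMod X n) (r : FlatMod.freeMod X n ⟶ M), i ≫ r = 𝟙 M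
  let Q : ObjectProperty (ModuleCat.{u} Γ(X, ⊤)) := fun N =>
    Module.Finite Γ(X, ⊤) N ∧ Module.Projective Γ(X, ⊤) N
  change Nonempty (P.FullSubcategory ≌ Q.FullSubcategory)
  have hX : Limits.IsTerminal (⊤ : X.Opens) := Limits.isTerminalTop
  let G : X.Modules ⥤ ModuleCat.{u} Γ(X, ⊤) :=
    Groth.Agent.Helper4.FFSummand.ev X.ringCatSheaf (⊤ : X.Opens)
  let φ : ∀ n : ℕ, FlatMod.freeMod X n ≅ (∐ fun _ : ULift.{u} (Fin n) => Coh.structureModule X) :=
    fun n => (Limits.Sigma.reindex (Equiv.ulift : ULift.{u} (Fin n) ≃ Fin n)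
      (fun _ : Fin n => Coh.structureModule X)).symm
  have key : ∀ M : X.Modules, P M →
      ∃ (n : ℕ) (i : M ⟶ (∐ fun _ : ULift.{u} (Fin n) => Coh.structureModule X))
        (p : (∐ fun _ : ULift.{u} (Fin n) => Coh.structureModule X) ⟶ M), i ≫ p = 𝟙 M := by
    rintro M ⟨n, i, r, h⟩
    refine ⟨n, i ≫ (φ n).hom, (φ n).inv ≫ r, ?_⟩
    rw [Category.assoc, Iso.hom_inv_id_assoc, h]
  have hPQ : ∀ M : P.FullSubcategory, Q (G.obj M.obj) := by
    intro M
    obtain ⟨n, i, p, h⟩ := key M.obj M.property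
    exact Groth.Agent.Helper4.FFSummand.finite_projective_of_summand (R := X.ringCatSheaf)
      (⊤ : X.Opens) (I := ULift.{u} (Fin n)) i p h
  let F : P.FullSubcategory ⥤ Q.FullSubcategory := Q.lift (P.ι ⋙ G) hPQ
  have hbij : ∀ M N : P.FullSubcategory, Function.Bijective (fun f : M.obj ⟶ N.obj => G.map f) := by
    intro M N
    obtain ⟨n, i, p, h⟩ := key M.obj M.property
    exact Groth.Agent.Helper4.FFSummand.bijective_of_summand (R := X.ringCatSheaf) hX N.obj
      (I := ULift.{u} (Fin n)) i p h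
  haveI : F.Faithful := ⟨fun {M N} f g hfg => by
    apply ObjectProperty.hom_ext
    apply (hbij M N).1
    exact congrArg (fun k => k.hom) hfg⟩
  haveI : F.Full := ⟨fun {M N} f => by
    obtain ⟨g, hg⟩ := (hbij M N).2 f.hom
    exact ⟨ObjectProperty.homMk g, ObjectProperty.hom_ext _ hg⟩⟩
  haveI : F.EssSurj := ⟨fun N => by
    let N' : ModuleCat.{u} (X.ringCatSheaf.obj.obj (Opposite.op (⊤ : X.Opens))) := N.obj
    haveI : Module.Finite (X.ringCatSheaf.obj.obj (Opposite.op (⊤ : X.Opens))) N' :=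
      N.property.1
    haveI : Module.Projective (X.ringCatSheaf.obj.obj (Opposite.op (⊤ : X.Opens))) N' :=
      N.property.2
    obtain ⟨n, E, i, p, h, ⟨e⟩⟩ :=
      Groth.Agent.Helper4.FFSummand.exists_summand (R := X.ringCatSheaf) hX N'
    have h'' : ∀ (E' : X.Modules)
        (i' : E' ⟶ (∐ fun _ : ULift.{u} (Fin n) => Coh.structureModule X))
        (p' : (∐ fun _ : ULift.{u} (Fin n) => Coh.structureModule X) ⟶ E'),
        i' ≫ p' = 𝟙 E' → (i' ≫ (φ n).inv) ≫ (φ n).hom ≫ p' = 𝟙 E' := by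
      intro E' i' p' h'
      rw [Category.assoc, Iso.inv_hom_id_assoc, h']
    exact ⟨⟨E, n, _, _, h'' E i p h⟩, ⟨Q.isoMk e⟩⟩⟩
  haveI : F.IsEquivalence := {}
  exact ⟨F.asEquivalence⟩

end Groth.Agent.S0938
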