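import Groth.Statements.S0945
import Groth.Agent.Helper4.GlueLib
import Mathlib

set_option autoImplicit false
universe u
open CategoryTheory
attribute [local instance] HasDerivedCategory.standard
open DCoh

namespace Groth.Agent.S0945


open AlgebraicGeometry CategoryTheory.Limits in
/-- Schemes; existence part only — the compatibility of the glued object with the given isomorphism on U
∩ V and the extension of morphisms are not asserted: let X = U ∪ V be a union of two opens, A an
object of D(O_U) and B an object of D(O_V) whose restrictions to U ∩ V are isomorphic. Then there is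
an object F of D(O_X) with F|_U ≅ A and F|_V ≅ B. Restrictions on derived categories are defs2's
restrictD along the open immersions, each under its exactness binder. -/
theorem result {X : Scheme.{u}} (U V : X.Opens) (hUV : U ⊔ V = ⊤)
    [PreservesFiniteLimits (Scheme.Modules.restrictFunctor U.ι)]
    [PreservesFiniteLimits (Scheme.Modules.restrictFunctor V.ι)]
    [PreservesFiniteLimits (Scheme.Modules.restrictFunctor (X.homOfLE (inf_le_left : U ⊓ V ≤ U)))]
    [PreservesFiniteLimits (Scheme.Modules.restrictFunctor (X.homOfLE (inf_le_right : U ⊓ V ≤ V)))]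
    (A : DCoh.D (U : Scheme.{u})) (B : DCoh.D (V : Scheme.{u}))
    (c : (DCoh.restrictD (X.homOfLE (inf_le_left : U ⊓ V ≤ U))).obj A ≅
      (DCoh.restrictD (X.homOfLE (inf_le_right : U ⊓ V ≤ V))).obj B) :
    ∃ F : DCoh.D X, Nonempty ((DCoh.restrictD U.ι).obj F ≅ A) ∧ Nonempty ((DCoh.restrictD V.ι).obj F ≅ B) := by

  classical
  haveI : DCoh.HasRpush U.ι := Groth.Agent.Helper4.HasRD.hasRpush _
  haveI : DCoh.HasRpush V.ι := Groth.Agent.Helper4.HasRD.hasRpush _
  haveI : DCoh.HasRpush (U ⊓ V).ι := Groth.Agent.Helper4.HasRD.hasRpush _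
  haveI : DCoh.HasRpush (X.homOfLE (inf_le_left : U ⊓ V ≤ U)) :=
    Groth.Agent.Helper4.HasRD.hasRpush _
  haveI : DCoh.HasRpush (X.homOfLE (inf_le_right : U ⊓ V ≤ V)) :=
    Groth.Agent.Helper4.HasRD.hasRpush _
  let jU' := X.homOfLE (inf_le_left : U ⊓ V ≤ U)
  let jV' := X.homOfLE (inf_le_right : U ⊓ V ≤ V)
  let ηA : A ⟶ (DCoh.Rpush jU').obj ((DCoh.restrictD jU').obj A) :=
    (Groth.Agent.Helper4.RjSuppGen.dAdj' jU').unit.app A
  let ηB : B ⟶ (DCoh.Rpush jV').obj ((DCoh.restrictD jV').obj B) :=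
    (Groth.Agent.Helper4.RjSuppGen.dAdj' jV').unit.app B
  obtain ⟨θU⟩ := Groth.Agent.Helper4.GlueLib.nonempty_RpushComp_iso jU' U.ι (U ⊓ V).ι
    (X.homOfLE_ι _)
  obtain ⟨θV⟩ := Groth.Agent.Helper4.GlueLib.nonempty_RpushComp_iso jV' V.ι (U ⊓ V).ι
    (X.homOfLE_ι _)
  let PA := (DCoh.Rpush U.ι).obj A
  let PB := (DCoh.Rpush V.ι).obj B
  let PC := (DCoh.Rpush (U ⊓ V).ι).obj ((DCoh.restrictD jU').obj A)
  let p : PA ⟶ PC := (DCoh.Rpush U.ι).map ηA ≫ θU.hom.app _
  let q : PB ⟶ PC := (DCoh.Rpush V.ι).map ηB ≫ θV.hom.app _ ≫ (DCoh.Rpush (U ⊓ V).ι).map c.inv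
  -- `p` is invertible over `V`
  have hp : IsIso ((DCoh.restrictD V.ι).map p) := by
    have h1 : IsIso ((DCoh.restrictD jU').map ηA) :=
      Groth.Agent.Helper4.RjSuppGen.isIso_restrict_unit_of_adj jU' _ A
    have h2 : IsIso ((DCoh.restrictD (U.ι ⁻¹ᵁ V).ι).map ηA) := by
      apply Groth.Agent.Helper4.GlueLib.isIso_restrictD_map_of_range jU' _ _ ηA h1
      intro y hy
      refine ⟨⟨y.1, ⟨y.2, hy⟩⟩, ?_⟩
      exact X.homOfLE_apply' _ y.1 _
    have h3 := Groth.Agent.Helper4.GlueLib.isIso_restrict_Rpush_map U.ι V ηA h2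
    show IsIso ((DCoh.restrictD V.ι).map ((DCoh.Rpush U.ι).map ηA ≫ θU.hom.app _))
    rw [Functor.map_comp]
    infer_instance
  -- `q` is invertible over `U`
  have hq : IsIso ((DCoh.restrictD U.ι).map q) := by
    have h1 : IsIso ((DCoh.restrictD jV').map ηB) :=
      Groth.Agent.Helper4.RjSuppGen.isIso_restrict_unit_of_adj jV' _ B
    have h2 : IsIso ((DCoh.restrictD (V.ι ⁻¹ᵁ U).ι).map ηB) := by
      apply Groth.Agent.Helper4.GlueLib.isIso_restrictD_map_of_range jV' _ _ ηB h1
      intro y hy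
      refine ⟨⟨y.1, ⟨hy, y.2⟩⟩, ?_⟩
      exact X.homOfLE_apply' _ y.1 _
    have h3 := Groth.Agent.Helper4.GlueLib.isIso_restrict_Rpush_map V.ι U ηB h2
    show IsIso ((DCoh.restrictD U.ι).map ((DCoh.Rpush V.ι).map ηB ≫ θV.hom.app _ ≫
      (DCoh.Rpush (U ⊓ V).ι).map c.inv))
    rw [Functor.map_comp, Functor.map_comp]
    infer_instance
  obtain ⟨F, f, h, hT⟩ := Pretriangulated.distinguished_cocone_triangle₁
    (Limits.biprod.desc p (-q))
  refine ⟨F, ?_, ?_⟩
  · -- over `U`
    have hTU := (DCoh.restrictD U.ι).map_distinguished _ hT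
    haveI : IsIso ((DCoh.restrictD U.ι).map (Limits.biprod.inr : PB ⟶ PA ⊞ PB) ≫
        (DCoh.restrictD U.ι).map (Limits.biprod.desc p (-q))) := by
      rw [← Functor.map_comp, Limits.biprod.inr_desc, Functor.map_neg]
      haveI := hq
      exact ⟨⟨-inv ((DCoh.restrictD U.ι).map q), by simp, by simp⟩⟩
    have := Groth.Agent.Helper4.TriSplit2.isIso_of_split ((DCoh.restrictD U.ι).map f)
      ((DCoh.restrictD U.ι).map (Limits.biprod.desc p (-q)))
      ((DCoh.restrictD U.ι).map h ≫ ((DCoh.restrictD U.ι).commShiftIso (1 : ℤ)).hom.app F) hTU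
      ((DCoh.restrictD U.ι).map Limits.biprod.inr) ((DCoh.restrictD U.ι).map Limits.biprod.inl)
      ((DCoh.restrictD U.ι).map Limits.biprod.snd) ((DCoh.restrictD U.ι).map Limits.biprod.fst)
      (by rw [← Functor.map_comp, Limits.biprod.inr_fst, Functor.map_zero])
      (by rw [← Functor.map_comp, Limits.biprod.inl_fst, CategoryTheory.Functor.map_id])
      (by rw [← Functor.map_comp, ← Functor.map_comp, ← Functor.map_add, add_comm,
        Limits.biprod.total, CategoryTheory.Functor.map_id])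
    exact ⟨asIso ((DCoh.restrictD U.ι).map f ≫ (DCoh.restrictD U.ι).map Limits.biprod.fst) ≪≫
      asIso ((Groth.Agent.Helper4.RjSupp.dAdj U).counit.app A)⟩
  · -- over `V`
    have hTV := (DCoh.restrictD V.ι).map_distinguished _ hT
    haveI : IsIso ((DCoh.restrictD V.ι).map (Limits.biprod.inl : PA ⟶ PA ⊞ PB) ≫
        (DCoh.restrictD V.ι).map (Limits.biprod.desc p (-q))) := by
      rw [← Functor.map_comp, Limits.biprod.inl_desc]
      exact hp
    have := Groth.Agent.Helper4.TriSplit2.isIso_of_split ((DCoh.restrictD V.ι).map f)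
      ((DCoh.restrictD V.ι).map (Limits.biprod.desc p (-q)))
      ((DCoh.restrictD V.ι).map h ≫ ((DCoh.restrictD V.ι).commShiftIso (1 : ℤ)).hom.app F) hTV
      ((DCoh.restrictD V.ι).map Limits.biprod.inl) ((DCoh.restrictD V.ι).map Limits.biprod.inr)
      ((DCoh.restrictD V.ι).map Limits.biprod.fst) ((DCoh.restrictD V.ι).map Limits.biprod.snd)
      (by rw [← Functor.map_comp, Limits.biprod.inl_snd, Functor.map_zero])
      (by rw [← Functor.map_comp, Limits.biprod.inr_snd, CategoryTheory.Functor.map_id])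
      (by rw [← Functor.map_comp, ← Functor.map_comp, ← Functor.map_add,
        Limits.biprod.total, CategoryTheory.Functor.map_id])
    exact ⟨asIso ((DCoh.restrictD V.ι).map f ≫ (DCoh.restrictD V.ι).map Limits.biprod.snd) ≪≫
      asIso ((Groth.Agent.Helper4.RjSupp.dAdj V).counit.app B)⟩

end Groth.Agent.S0945
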