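import Groth.Statements.S0983

set_option autoImplicit false
universe v u
open CategoryTheory
open CohDer

namespace Groth.Agent.S0983

open CategoryTheory.Pretriangulated in
/-- In a triangulated category, a commutative square f ≫ v = u ≫ f' (with f : X ⟶ Y, f' : X' ⟶ Y', u : X
⟶ X', v : Y ⟶ Y') extends to a diagram with three distinguished rows (X, Y, Z), (X', Y', Z'), (X'',
Y'', Z'') and three distinguished columns (X, X', X''), (Y, Y', Y''), (Z, Z', Z''), in which all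
squares commute except the one formed by the third morphisms of the last row and last column, which
anticommutes; the fourth row and column are the shifts of the first ones. -/
theorem result {D : Type u} [Category.{v} D] [Preadditive D] [Limits.HasZeroObject D] [HasShift D ℤ]
    [∀ n : ℤ, (shiftFunctor D n).Additive] [Pretriangulated D] [IsTriangulated D]
    {X Y X' Y' : D} (f : X ⟶ Y) (f' : X' ⟶ Y') (u : X ⟶ X') (v : Y ⟶ Y') (comm : f ≫ v = u ≫ f') :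
    ∃ (Z Z' X'' Y'' Z'' : D) (g : Y ⟶ Z) (h : Z ⟶ (shiftFunctor D (1 : ℤ)).obj X)
      (g' : Y' ⟶ Z') (h' : Z' ⟶ (shiftFunctor D (1 : ℤ)).obj X')
      (f'' : X'' ⟶ Y'') (g'' : Y'' ⟶ Z'') (h'' : Z'' ⟶ (shiftFunctor D (1 : ℤ)).obj X'')
      (u' : X' ⟶ X'') (u'' : X'' ⟶ (shiftFunctor D (1 : ℤ)).obj X)
      (v' : Y' ⟶ Y'') (v'' : Y'' ⟶ (shiftFunctor D (1 : ℤ)).obj Y)
      (w : Z ⟶ Z') (w' : Z' ⟶ Z'') (w'' : Z'' ⟶ (shiftFunctor D (1 : ℤ)).obj Z),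
      Triangle.mk f g h ∈ distinguishedTriangles ∧ Triangle.mk f' g' h' ∈ distinguishedTriangles ∧
      Triangle.mk f'' g'' h'' ∈ distinguishedTriangles ∧
      Triangle.mk u u' u'' ∈ distinguishedTriangles ∧ Triangle.mk v v' v'' ∈ distinguishedTriangles ∧
      Triangle.mk w w' w'' ∈ distinguishedTriangles ∧
      g ≫ w = v ≫ g' ∧ h ≫ (shiftFunctor D (1 : ℤ)).map u = w ≫ h' ∧
      f' ≫ v' = u' ≫ f'' ∧ g' ≫ w' = v' ≫ g'' ∧ h' ≫ (shiftFunctor D (1 : ℤ)).map u' = w' ≫ h'' ∧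
      f'' ≫ v'' = u'' ≫ (shiftFunctor D (1 : ℤ)).map f ∧ g'' ≫ w'' = v'' ≫ (shiftFunctor D (1 : ℤ)).map g ∧
      h'' ≫ (shiftFunctor D (1 : ℤ)).map u'' = -(w'' ≫ (shiftFunctor D (1 : ℤ)).map h) := by
  obtain ⟨Z, g, h, H1⟩ := Pretriangulated.distinguished_cocone_triangle f
  obtain ⟨Z', g', h', H2⟩ := Pretriangulated.distinguished_cocone_triangle f'
  obtain ⟨X'', u', u'', H3⟩ := Pretriangulated.distinguished_cocone_triangle u
  obtain ⟨Y'', v', v'', H4⟩ := Pretriangulated.distinguished_cocone_triangle v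
  obtain ⟨A, l, m, H5⟩ := Pretriangulated.distinguished_cocone_triangle (f ≫ v)
  have o1 := Triangulated.someOctahedron (rfl : f ≫ v = f ≫ v) H1 H4 H5
  have o2 := Triangulated.someOctahedron (comm.symm : u ≫ f' = f ≫ v) H3 H2 H5
  obtain ⟨Z'', g'', h'', H6⟩ := Pretriangulated.distinguished_cocone_triangle (o2.m₁ ≫ o1.m₃)
  have H7 : Triangle.mk o1.m₃ (v'' ≫ (shiftFunctor D (1 : ℤ)).map g)
      (-((shiftFunctor D (1 : ℤ)).map o1.m₁)) ∈ distinguishedTriangles :=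
    Pretriangulated.rot_of_distTriang _ o1.mem
  have o3 := Triangulated.someOctahedron (rfl : o2.m₁ ≫ o1.m₃ = o2.m₁ ≫ o1.m₃) o2.mem H7 H6
  have H8 : Triangle.mk (o1.m₁ ≫ o2.m₃) o3.m₁ o3.m₃ ∈ distinguishedTriangles := by
    have e : (Triangle.mk (o1.m₁ ≫ o2.m₃) o3.m₁ o3.m₃).rotate =
        Triangle.mk o3.m₁ o3.m₃ ((-((shiftFunctor D (1 : ℤ)).map o1.m₁)) ≫
          (shiftFunctor D (1 : ℤ)).map o2.m₃) := by
      show Triangle.mk o3.m₁ o3.m₃ (-(shiftFunctor D (1 : ℤ)).map (o1.m₁ ≫ o2.m₃)) = _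
      rw [Functor.map_comp, Preadditive.neg_comp]
    rw [Pretriangulated.rotate_distinguished_triangle, e]
    exact o3.mem
  refine ⟨Z, Z', X'', Y'', Z'', g, h, g', h', o2.m₁ ≫ o1.m₃, g'', h'', u', u'', v', v'',
    o1.m₁ ≫ o2.m₃, o3.m₁, o3.m₃, H1, H2, H6, H3, H4, H8, ?_, ?_, ?_, ?_, ?_, ?_, ?_, ?_⟩
  · rw [o1.comm₁_assoc, o2.comm₃]
  · rw [Category.assoc, ← o2.comm₄, o1.comm₂_assoc]
  · rw [o2.comm₁_assoc, o1.comm₃]
  · calc g' ≫ o3.m₁ = (l ≫ o2.m₃) ≫ o3.m₁ := by rw [o2.comm₃]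
      _ = l ≫ o1.m₃ ≫ g'' := by rw [Category.assoc, o3.comm₁]
      _ = v' ≫ g'' := by rw [← Category.assoc, o1.comm₃]
  · exact o3.comm₂.symm
  · rw [Category.assoc, ← o1.comm₄, o2.comm₂_assoc]
  · exact o3.comm₃
  · calc h'' ≫ (shiftFunctor D (1 : ℤ)).map u''
        = h'' ≫ (shiftFunctor D (1 : ℤ)).map (o2.m₁ ≫ m) := by rw [o2.comm₂]
      _ = (h'' ≫ (shiftFunctor D (1 : ℤ)).map o2.m₁) ≫ (shiftFunctor D (1 : ℤ)).map m := by
        rw [Functor.map_comp, Category.assoc]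
      _ = (o3.m₃ ≫ (-((shiftFunctor D (1 : ℤ)).map o1.m₁))) ≫ (shiftFunctor D (1 : ℤ)).map m := by
        rw [o3.comm₄]
      _ = -(o3.m₃ ≫ (shiftFunctor D (1 : ℤ)).map (o1.m₁ ≫ m)) := by
        rw [Functor.map_comp]; simp
      _ = -(o3.m₃ ≫ (shiftFunctor D (1 : ℤ)).map h) := by rw [o1.comm₂]

end Groth.Agent.S0983
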