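import Groth.Statements.S10005
import Groth.Agent.Helper4.SN498
import Groth.Agent.Helper5.GpdSep2
import Mathlib

set_option autoImplicit false
universe u
open CategoryTheory CategoryTheory.Limits AlgebraicGeometry
open AlgSp

namespace Groth.Agent.S10005


/-- Let `S` be a quasi-separated scheme and `X` the limit, in fppf sheaves over `S`, of a cofiltered
system `(X_i)` of quasi-compact algebraic spaces over `S`, each quasi-separated over `S`, whose
transition maps are affine. If `X` is separated over `S`, then `X_i` is separated over `S` for some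
`i`. (The published statement uses absolute separatedness and quasi-separatedness and puts no
condition on `S`; this row assumes `S` quasi-separated and takes both notions over `S`, which gives
the same quasi-separatedness and, when `S` is separated, the same separatedness.) -/
theorem result (S : Scheme.{u}) [QuasiSeparatedSpace S] {I : Type u} [SmallCategory I] [IsCofiltered I]
    (D : I ⥤ AlgSp.Sp S) (hD : ∀ i, AlgSp.IsAlgSpace (D.obj i))
    (hDa : ∀ (i j : I) (φ : i ⟶ j), AlgSp.IsAffineMor (D.map φ))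
    (hqc : ∀ i, AlgSp.IsQuasiCompactSp (D.obj i)) (hqs : ∀ i, AlgSp.IsQuasiSeparatedSp (D.obj i))
    (c : Cone D) (hc : IsLimit c)
    (hX : AlgSp.IsSeparatedSp c.pt) : ∃ i, AlgSp.IsSeparatedSp (D.obj i) := by

  let T : Over S := Over.mk (𝟙 S)
  have hT : IsTerminal ((AlgSp.yon S).obj T) :=
    IsTerminal.isTerminalObj (AlgSp.yon S) _ Over.mkIdTerminal
  let Y : AlgSp.Space S := ⟨(AlgSp.yon S).obj T, AlgSp.IsAlgSpace.yon_obj T⟩
  have hYqs : AlgSp.IsQuasiSeparatedSp Y.obj := by
    show AlgSp.RepWith @QuasiCompact (Limits.diag ((AlgSp.yon S).obj T))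
    rw [AlgSp.repWith_diag_yon_iff]
    show QuasiCompact (pullback.diagonal (𝟙 S))
    infer_instance
  let e : ⊤_ (AlgSp.Sp S) ≅ Y.obj := terminalIsTerminal.uniqueUpToIso hT
  let t : D ⟶ (Functor.const I).obj Y.obj :=
    { app := fun i => hT.from (D.obj i)
      naturality := fun _ _ _ => hT.hom_ext _ _ }
  have hg : ∀ i, c.π.app i ≫ t.app i = hT.from c.pt := fun i => hT.hom_ext _ _
  have hXm : AlgSp.IsSeparatedMor (hT.from c.pt) := by
    have h1 : hT.from c.pt = terminal.from c.pt ≫ e.hom := hT.hom_ext _ _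
    rw [h1]
    exact Groth.Agent.Helper5.GpdSep.isSeparatedMor_comp _ _
      ((Groth.Agent.Helper5.GpdSep.isSeparatedSp_iff _).1 hX)
      (Groth.Agent.Helper5.GpdSep.isSeparatedMor_of_mono e.hom)
  obtain ⟨i₀, h⟩ := Groth.Agent.Helper4.SN498.main Y D hD t hDa c hc (hT.from c.pt) hg hqc hqs
    hYqs hXm
  refine ⟨i₀, ?_⟩
  rw [Groth.Agent.Helper5.GpdSep.isSeparatedSp_iff]
  have h1 : terminal.from (D.obj i₀) = t.app i₀ ≫ e.inv := Subsingleton.elim _ _
  rw [h1]
  exact Groth.Agent.Helper5.GpdSep.isSeparatedMor_comp _ _ (h i₀ (𝟙 i₀))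
    (Groth.Agent.Helper5.GpdSep.isSeparatedMor_of_mono e.inv)

end Groth.Agent.S10005
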