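import Groth.Statements.S10009
import Groth.Agent.Helper4.SN481
import Mathlib

set_option autoImplicit false
universe u
open CategoryTheory CategoryTheory.Limits AlgebraicGeometry
open AlgSp

namespace Groth.Agent.S10009


/-- Let `B` be an algebraic space over the scheme `S` and `X` the limit, in fppf sheaves, of a
cofiltered system `(X_i)` of quasi-compact algebraic spaces over `B` whose transition maps are
affine; let `y : Y ⟶ X` be a closed immersion from an algebraic space `Y` whose structure map to `B`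
is locally of finite type. Then, for all `i` mapping to some `i₀`, the composite `Y ⟶ X ⟶ X_i` is a
closed immersion. -/
theorem result (S : Scheme.{u}) {I : Type u} [SmallCategory I] [IsCofiltered I]
    (B : AlgSp.Space S) (D : I ⥤ AlgSp.Sp S) (hD : ∀ i, AlgSp.IsAlgSpace (D.obj i))
    (t : D ⟶ (Functor.const I).obj B.obj)
    (hDa : ∀ (i j : I) (φ : i ⟶ j), AlgSp.IsAffineMor (D.map φ))
    (c : Cone D) (hc : IsLimit c)
    (hqc : ∀ i, AlgSp.IsQuasiCompactSp (D.obj i))
    (Y : AlgSp.Space S) (y : Y.obj ⟶ c.pt) (hy : AlgSp.RepWith @IsClosedImmersion y) (i₁ : I)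
    (hYB : AlgSp.LocP @LocallyOfFiniteType (y ≫ c.π.app i₁ ≫ t.app i₁)) :
    ∃ i₀ : I, ∀ (i : I) (_ : i ⟶ i₀), AlgSp.RepWith @IsClosedImmersion (y ≫ c.π.app i) := by

  have hlft : AlgSp.LocP @LocallyOfFiniteType (y ≫ c.π.app i₁) := by
    let Di : AlgSp.Space S := ⟨D.obj i₁, hD i₁⟩
    let f1 : Y ⟶ Di := ObjectProperty.homMk (y ≫ c.π.app i₁)
    let g1 : Di ⟶ B := ObjectProperty.homMk (t.app i₁)
    have h1 : AlgSp.LocP @LocallyOfFiniteType (f1 ≫ g1).hom := by
      show AlgSp.LocP @LocallyOfFiniteType ((y ≫ c.π.app i₁) ≫ t.app i₁)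
      rw [Category.assoc]
      exact hYB
    exact Groth.Agent.S9952.result f1 g1 h1
  exact Groth.Agent.Helper4.SN481.eventually_closedImmersion D hDa c hc hD Y y hy i₁ (hqc i₁) hlft

end Groth.Agent.S10009
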