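import Groth.Statements.S10028
import Groth.Agent.Helper4.SN520
import Mathlib

set_option autoImplicit false
universe u
open CategoryTheory CategoryTheory.Limits AlgebraicGeometry
open AlgSp

namespace Groth.Agent.S10028


/-- If a presheaf of sets `F` on schemes over `S` is limit preserving, then so is (the underlying
presheaf of) its fppf sheafification. -/
theorem result (S : Scheme.{u}) (F : AlgSp.PSp S) (hF : AlgSp.IsLimitPreserving F) :
    AlgSp.IsLimitPreserving ((presheafToSheaf (AlgSp.J S) (Type (u + 1))).obj F).obj := by

  exact Groth.Agent.Helper4.SN520.LP_sheafify_obj (Q := Groth.Agent.Lead.FD16.FL)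
    Groth.Agent.Helper4.SN520.goodQ_FL Groth.Agent.Helper4.SN513.descends_FL
    (fun f hf => Groth.Agent.Helper4.SN520.lfp_FL f hf) F hF

end Groth.Agent.S10028
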