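import Groth.Statements.S10053
import Groth.Agent.Helper5.AnCl8
import Groth.Agent.Helper5.QuotEff5
import Groth.Agent.Helper4.SDClasses

set_option autoImplicit false
universe u
open CategoryTheory CategoryTheory.Limits AlgebraicGeometry
open AlgSp

namespace Groth.Agent.S10053

/-- For a quasi-compact morphism `f : X ⟶ Y` of algebraic spaces over `S` these conditions are
equivalent: (1) `f` is universally closed; (2) for every `Z ⟶ Y` locally of finite presentation,
with `Z` an algebraic space, the map `|X ×_Y Z| → |Z|` is closed; (3) for some scheme `V` with a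
surjective etale morphism `V ⟶ Y`, the maps `|X ×_Y 𝐀^n_V| → |𝐀^n_V|` are closed for all `n`. Stated
as (1) ↔ (2) and (1) ↔ (3). -/
theorem result (S : Scheme.{u}) {X Y : AlgSp.Space S} (f : X ⟶ Y)
    (hqc : AlgSp.IsQuasiCompactMor f.hom) :
    (AlgSp.IsUnivClosedMor f.hom ↔
      ∀ (Z : AlgSp.Space S) (g : Z ⟶ Y), AlgSp.LocP @LocallyOfFinitePresentation g.hom →
        ∀ (P : AlgSp.Sp S) (fst : P ⟶ X.obj) (snd : P ⟶ Z.obj), IsPullback fst snd f.hom g.hom →
          IsClosedMap (AlgSp.Points.map snd)) ∧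
    (AlgSp.IsUnivClosedMor f.hom ↔
      ∃ (V : Over S) (p : (AlgSp.yon S).obj V ⟶ Y.obj), AlgSp.RepWith @Etale p ∧ AlgSp.RepWith @Surjective p ∧
        ∀ (n : ℕ) (P : AlgSp.Sp S) (fst : P ⟶ X.obj)
          (snd : P ⟶ (AlgSp.yon S).obj (Over.mk ((𝔸(ULift.{u} (Fin n); V.left) ↘ V.left) ≫ V.hom))),
          IsPullback fst snd f.hom ((AlgSp.yon S).map (Over.homMk (𝔸(ULift.{u} (Fin n); V.left) ↘ V.left)) ≫ p) →
            IsClosedMap (AlgSp.Points.map snd)) := by
  have hX := X.property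
  have hY := Y.property
  have h3 : (∃ (V : Over S) (p : (AlgSp.yon S).obj V ⟶ Y.obj), AlgSp.RepWith @Etale p ∧
      AlgSp.RepWith @Surjective p ∧
        ∀ (n : ℕ) (P : AlgSp.Sp S) (fst : P ⟶ X.obj)
          (snd : P ⟶ (AlgSp.yon S).obj (Over.mk ((𝔸(ULift.{u} (Fin n); V.left) ↘ V.left) ≫ V.hom))),
          IsPullback fst snd f.hom ((AlgSp.yon S).map (Over.homMk (𝔸(ULift.{u} (Fin n); V.left) ↘ V.left)) ≫ p) →
            IsClosedMap (AlgSp.Points.map snd)) → AlgSp.IsUnivClosedMor f.hom := by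
    rintro ⟨V, p, hpe, hps, H3⟩
    exact Groth.Agent.Helper5.AnCl.isUnivClosedMor_of_affineSpace_tests hX hY f.hom hqc V p hpe hps H3
  refine ⟨⟨fun h Z g _ P fst snd sq => h Z.property g.hom fst snd sq, fun h => ?_⟩,
    ⟨fun h => ?_, h3⟩⟩
  · obtain ⟨V, p, hpe, hps⟩ := hY.atlas
    refine h3 ⟨V, p, hpe, hps, fun n P fst snd sq => ?_⟩
    let An : Over S := Over.mk ((𝔸(ULift.{u} (Fin n); V.left) ↘ V.left) ≫ V.hom)
    let toV : An ⟶ V := Over.homMk (𝔸(ULift.{u} (Fin n); V.left) ↘ V.left)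
    have hlfp : AlgSp.LocP @LocallyOfFinitePresentation ((AlgSp.yon S).map toV ≫ p) :=
      Groth.Agent.Helper5.QuotEff.locP_yon_map_comp @LocallyOfFinitePresentation
        Groth.Agent.Helper4.SDClasses.good_lfp p hpe toV
        (inferInstance : LocallyOfFinitePresentation (𝔸(ULift.{u} (Fin n); V.left) ↘ V.left))
    exact h ⟨(AlgSp.yon S).obj An, AlgSp.IsAlgSpace.yon_obj An⟩
      (ObjectProperty.homMk ((AlgSp.yon S).map toV ≫ p)) hlfp P fst snd sq
  · obtain ⟨V, p, hpe, hps⟩ := hY.atlas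
    exact ⟨V, p, hpe, hps, fun n P fst snd sq => h (AlgSp.IsAlgSpace.yon_obj _) _ fst snd sq⟩

end Groth.Agent.S10053
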