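import Groth.Statements.S10100
import Groth.Agent.Helper5.EtBoot2

set_option autoImplicit false
universe u
open CategoryTheory CategoryTheory.Limits AlgebraicGeometry
open AlgSp

namespace Groth.Agent.S10100

/-- Let `F` be a presheaf of sets on schemes over `S`, `X` a scheme over `S` and `h_X ⟶ F` a map which
is representable by algebraic spaces and locally quasi-finite. Then `h_X ⟶ F` is representable by
schemes. -/
theorem result (S : Scheme.{u}) (F : AlgSp.PSp S) (X : Over S)
    (p : (AlgSp.pyon S).obj X ⟶ F)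
    (hp : AlgSp.RepBySpWith (AlgSp.LocP (@LocallyQuasiFinite ⊓ @LocallyOfFiniteType)) p) :
    (AlgSp.pyon S).relativelyRepresentable p := by
  intro T ξ
  have sq : IsPullback (pullback.fst p ξ) (pullback.snd p ξ) p ξ := IsPullback.of_hasPullback _ _
  obtain ⟨h, hA, hQ⟩ := hp ξ _ _ sq
  let P : Sp S := ⟨pullback p ξ, h⟩
  let fstS : P ⟶ (yon S).obj X := ObjectProperty.homMk (pullback.fst p ξ)
  let sndS : P ⟶ (yon S).obj T := ObjectProperty.homMk (pullback.snd p ξ)
  have hrep := Groth.Agent.Helper5.EtBoot.isRepresentable_of_jointly_mono hA fstS sndS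
    (fun G x y h1 h2 => by
      apply ObjectProperty.hom_ext
      apply sq.hom_ext
      · exact congrArg (fun k => k.hom) h1
      · exact congrArg (fun k => k.hom) h2) hQ
  obtain ⟨W, ⟨r⟩⟩ := hrep.has_representation
  let e : (yon S).obj W ≅ P := isoOfRepresentableBy r
  obtain ⟨i, hi⟩ := (yon S).map_surjective (e.hom ≫ sndS)
  refine ⟨W, i, (e.hom ≫ fstS).hom, ?_⟩
  have e1 : (pyon S).map i = (e.hom ≫ sndS).hom := by rw [← hi]; rfl
  rw [e1]
  let e' : (pyon S).obj W ≅ pullback p ξ := (ObjectProperty.ι _).mapIso e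
  have hf : e'.symm.hom ≫ (e.hom ≫ fstS).hom = pullback.fst p ξ :=
    congrArg (fun k => k.hom) (show e.inv ≫ (e.hom ≫ fstS) = fstS by simp)
  have hs : e'.symm.hom ≫ (e.hom ≫ sndS).hom = pullback.snd p ξ :=
    congrArg (fun k => k.hom) (show e.inv ≫ (e.hom ≫ sndS) = sndS by simp)
  exact IsPullback.of_iso sq e'.symm (Iso.refl _) (Iso.refl _) (Iso.refl _)
    ((Category.comp_id _).trans hf.symm)
    ((Category.comp_id _).trans hs.symm)
    (by simp) (by simp)

end Groth.Agent.S10100
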