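import Groth.Statements.S9873
import Groth.Agent.Helper5.EtBoot1

set_option autoImplicit false
universe u
open CategoryTheory CategoryTheory.Limits AlgebraicGeometry
open AlgSp

namespace Groth.Agent.S9873

/-- Let `X` be an algebraic space over `S`, `F` an fppf sheaf of sets over `S`, and `f : X ⟶ F` a map of
sheaves which is representable by schemes, etale and surjective (in the representable sense). Then
`F` is an algebraic space over `S`; in particular an fppf sheaf receiving a representable etale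
surjective map from a scheme is an algebraic space. -/
theorem result (S : Scheme.{u}) (X : AlgSp.Space S) (F : AlgSp.Sp S)
    (f : X.obj ⟶ F) (he : AlgSp.RepWith @Etale f) (hs : AlgSp.RepWith @Surjective f) :
    AlgSp.IsAlgSpace F := by
  obtain ⟨U, p, hpe, hps⟩ := X.property.atlas
  have hqe : RepWith @Etale (p ≫ f) := Groth.Agent.Helper4.AlgSpSrc.repWith_comp _ hpe he
  have hqs : RepWith @Surjective (p ≫ f) := Groth.Agent.Helper4.AlgSpSrc.repWith_comp _ hps hs
  refine ⟨?_, ⟨U, p ≫ f, hqe, hqs⟩⟩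
  intro Z g
  obtain ⟨a, ha⟩ : ∃ a : (yon S).obj Z ⟶ F, a = g ≫ prod.fst := ⟨_, rfl⟩
  obtain ⟨b, hb⟩ : ∃ b : (yon S).obj Z ⟶ F, b = g ≫ prod.snd := ⟨_, rfl⟩
  have hrep := Groth.Agent.Helper5.EtBoot.isRepresentable_equalizer (p ≫ f) hqe hqs a b
  obtain ⟨W, ⟨r⟩⟩ := hrep.has_representation
  let e : (yon S).obj W ≅ equalizer a b := isoOfRepresentableBy r
  obtain ⟨i, hi⟩ := (yon S).map_surjective (e.hom ≫ equalizer.ι a b)
  refine ⟨W, i, e.hom ≫ equalizer.ι a b ≫ a, ?_⟩
  have sq := (isPullback_equalizer_prod a b).flip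
  have hg : prod.lift a b = g := by
    apply Limits.prod.hom_ext
    · rw [prod.lift_fst, ha]
    · rw [prod.lift_snd, hb]
  rw [hi]
  rw [hg] at sq
  exact IsPullback.of_iso sq e.symm (Iso.refl _) (Iso.refl _) (Iso.refl _) (by simp) (by simp)
    (by simp [Limits.diag]) (by simp)

end Groth.Agent.S9873
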