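import Groth.Statements.S10101
import Groth.Agent.Helper5.EtBoot3
import Groth.Agent.S9873

set_option autoImplicit false
universe u
open CategoryTheory CategoryTheory.Limits AlgebraicGeometry
open AlgSp

namespace Groth.Agent.S10101

/-- Let `F` be an fppf sheaf of sets over `S` and `X ⟶ F` a map from an algebraic space that is
surjective, etale and representable by algebraic spaces. It follows that `F` is an algebraic space.
(The published statement also gives an equivalent set of conditions in which the diagonal of `F` is
representable by algebraic spaces; this row uses the form with the map representable by algebraic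
spaces.) -/
theorem result (S : Scheme.{u}) (F : AlgSp.Sp S) (X : AlgSp.Space S)
    (p : X.obj ⟶ F) (hp : AlgSp.RepBySpWith (AlgSp.IsSurjectiveMor ⊓ AlgSp.IsEtaleMor) p.hom) :
    AlgSp.IsAlgSpace F := by
  rw [AlgSp.repBySpWith_hom_iff] at hp
  obtain ⟨U, c, hce, hcs⟩ := X.property.atlas
  have key : ∀ ⦃T : Over S⦄ (ξ : (AlgSp.yon S).obj T ⟶ F),
      ∃ (W : Over S) (a : (AlgSp.yon S).obj W ⟶ (AlgSp.yon S).obj U) (b : W ⟶ T),
        IsPullback a ((AlgSp.yon S).map b) (c ≫ p) ξ ∧ Etale b.left ∧ Surjective b.left := by
    intro T ξ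
    have sqX : IsPullback (pullback.fst p ξ) (pullback.snd p ξ) p ξ :=
      IsPullback.of_hasPullback _ _
    obtain ⟨hXT, hsurj, het⟩ := hp ξ _ _ sqX
    exact Groth.Agent.Helper5.EtBoot.exists_scheme_pullback X.property c hce hcs p ξ _ _ sqX hXT
      hsurj het _ _ (IsPullback.of_hasPullback c (pullback.fst p ξ))
  obtain ⟨hqe, hqs⟩ := Groth.Agent.Helper5.EtBoot.repWith_etale_surj_of_forall (c ≫ p) key
  exact Groth.Agent.S9873.result S ((AlgSp.ofScheme S).obj U) F (c ≫ p) hqe hqs

end Groth.Agent.S10101
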