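import Groth.Statements.S10109
import Groth.Agent.Helper5.EtQuot3

set_option autoImplicit false
universe u
open CategoryTheory CategoryTheory.Limits AlgebraicGeometry
open AlgSp

namespace Groth.Agent.S10109

/-- A presheaf of sets on schemes over `S` which is a sheaf for the etale topology and receives a map
from an algebraic space which is representable by algebraic spaces, surjective and etale, is an
algebraic space (in particular an fppf sheaf). -/
theorem result (S : Scheme.{u}) (F : AlgSp.PSp S)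
    (h1 : Presheaf.IsSheaf (QuotSh.J Scheme.etalePrecoverage S) F) (U : AlgSp.Space S) (p : U.obj.obj ⟶ F)
    (h2 : AlgSp.RepBySpWith (AlgSp.IsSurjectiveMor ⊓ AlgSp.IsEtaleMor) p) :
    AlgSp.IsAlgSpaceP F := by
  obtain ⟨X, c, hce, hcs⟩ := U.property.atlas
  apply Groth.Agent.Helper5.EtQuot.isAlgSpaceP_of_etale_chart F h1 X (c.hom ≫ p)
  intro T ξ
  have sqF : IsPullback (pullback.fst p ξ) (pullback.snd p ξ) p ξ := IsPullback.of_hasPullback p ξ
  obtain ⟨hsh, hXT, hsurj, het⟩ := h2 ξ _ _ sqF
  let XT : AlgSp.Sp S := ⟨pullback p ξ, hsh⟩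
  let fstX : XT ⟶ U.obj := ObjectProperty.homMk (pullback.fst p ξ)
  let sndX : XT ⟶ (AlgSp.yon S).obj T := ObjectProperty.homMk (pullback.snd p ξ)
  obtain ⟨W, a, b, sq, hbe, hbs⟩ :=
    Groth.Agent.Helper5.EtQuot.exists_scheme_pullback_psh U.property c hce hcs p ξ fstX sndX sqF
      hXT hsurj het _ _ (IsPullback.of_hasPullback c fstX)
  exact ⟨W, b, a, sq, hbe, hbs⟩

end Groth.Agent.S10109
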