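import Groth.Statements.S10140
import Mathlib
import Groth.Agent.Helper8.SubGrpdD
import Groth.Agent.Helper2.QuotIff

set_option autoImplicit false
universe u
open CategoryTheory CategoryTheory.Limits AlgebraicGeometry
open Grpd

namespace Groth.Agent.S10140

/-- Let `(U, R, s, t, c)` be a groupoid scheme over `S` with `U` affine and `j : R ⟶ U ×_S U` separated
and locally quasi-finite, and let `P ⟶ R` be a monomorphism such that `(U, P, s|_P, t|_P, c|_P)` is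
a groupoid scheme, `s|_P, t|_P` are finite locally free and `j|_P` is a monomorphism. Then `U/P` is
represented by an affine scheme `Ū`, the quotient map `U ⟶ Ū` is finite locally free with `P = U ×_Ū
U`, and `R` is the restriction along `U ⟶ Ū` of a groupoid scheme `(Ū, R̄, s̄, t̄, c̄)`. -/
theorem result (S : Scheme.{u}) (G : Grpd.GroupoidScheme S) [IsAffine G.U]
    [IsSeparated G.j] [LocallyQuasiFinite G.j] [LocallyOfFiniteType G.j]
    (P : Scheme.{u}) (ιP : P ⟶ G.R) [Mono ιP]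
    (he : ∃ eP : G.U ⟶ P, eP ≫ ιP = G.e) (hi : ∃ iP : P ⟶ P, iP ≫ ιP = ιP ≫ G.i)
    (hc : ∃ cP : pullback (ιP ≫ G.s) (ιP ≫ G.t) ⟶ P,
      cP ≫ ιP = pullback.map (ιP ≫ G.s) (ιP ≫ G.t) G.s G.t ιP ιP (𝟙 G.U) (Category.comp_id _) (Category.comp_id _) ≫ G.c)
    [IsFinite (ιP ≫ G.s)] [Flat (ιP ≫ G.s)] [LocallyOfFinitePresentation (ιP ≫ G.s)]
    [IsFinite (ιP ≫ G.t)] [Flat (ιP ≫ G.t)] [LocallyOfFinitePresentation (ιP ≫ G.t)] [Mono (ιP ≫ G.j)] :
    ∃ (H : Grpd.GroupoidScheme S) (φ : Grpd.GroupoidScheme.Hom G H),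
      IsAffine H.U ∧
      QuotSh.IsQuotient Scheme.fppfPrecoverage
        (Over.homMk (ιP ≫ G.s) ((Category.assoc _ _ _).trans (congrArg (ιP ≫ ·) G.s_over)) :
          (Over.mk (ιP ≫ G.pR) : Over S) ⟶ Over.mk G.pU)
        (Over.homMk (ιP ≫ G.t) ((Category.assoc _ _ _).trans (congrArg (ιP ≫ ·) G.t_over)) :
          (Over.mk (ιP ≫ G.pR) : Over S) ⟶ Over.mk G.pU)
        (Over.homMk φ.fU φ.fU_over : Over.mk G.pU ⟶ Over.mk H.pU) ∧
      IsFinite φ.fU ∧ Flat φ.fU ∧ LocallyOfFinitePresentation φ.fU ∧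
      IsPullback (ιP ≫ G.t) (ιP ≫ G.s) φ.fU φ.fU ∧
      IsPullback φ.fR G.j H.j
        (pullback.map G.pU G.pU H.pU H.pU φ.fU φ.fU (𝟙 S)
          ((Category.comp_id _).trans φ.fU_over.symm) ((Category.comp_id _).trans φ.fU_over.symm)) := by
  obtain ⟨eP, he⟩ := he
  obtain ⟨iP, hi⟩ := hi
  obtain ⟨cP, hc⟩ := hc
  let d : Groth.Agent.Helper8.SubGrpd.SubData G := ⟨P, ιP, eP, he, iP, hi, cP, hc⟩
  haveI : Mono d.ι := ‹Mono ιP›
  haveI : Mono (d.ι ≫ G.j) := ‹Mono (ιP ≫ G.j)›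
  haveI : Groth.Agent.Helper8.GrpdGlue.QuotHyp (Groth.Agent.Helper8.SubGrpd.gp d) :=
    ⟨inferInstanceAs (IsFinite (ιP ≫ G.s)), inferInstanceAs (Flat (ιP ≫ G.s)),
      inferInstanceAs (LocallyOfFinitePresentation (ιP ≫ G.s)),
      fun x => ⟨⊤, isAffineOpen_top G.U, fun _ _ => trivial⟩⟩
  haveI : Mono (Groth.Agent.Helper8.SubGrpd.gp d).j := Groth.Agent.Helper8.SubGrpd.mono_gp_j d
  haveI : IsAffine (Groth.Agent.Helper8.SubGrpd.gp d).U := ‹IsAffine G.U›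
  obtain ⟨g, hg⟩ := Groth.Agent.Helper8.GrpdGlue.exists_desc (Groth.Agent.Helper8.SubGrpd.gp d)
    G.pU ((Groth.Agent.Helper8.SubGrpd.gp d).s_over.trans
      (Groth.Agent.Helper8.SubGrpd.gp d).t_over.symm)
  have hg' : (Groth.Agent.Helper8.GrpdGlue.q (Groth.Agent.Helper8.SubGrpd.gp d) :
      G.U ⟶ Groth.Agent.Helper8.GrpdGlue.Y (Groth.Agent.Helper8.SubGrpd.gp d)) ≫ g = G.pU := hg
  haveI := Groth.Agent.Helper8.GrpdGlue.isIso_φ (Groth.Agent.Helper8.SubGrpd.gp d)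
  have hP : IsPullback (d.ι ≫ G.t) (d.ι ≫ G.s)
      (Groth.Agent.Helper8.GrpdGlue.q (Groth.Agent.Helper8.SubGrpd.gp d) :
        G.U ⟶ Groth.Agent.Helper8.GrpdGlue.Y (Groth.Agent.Helper8.SubGrpd.gp d))
      (Groth.Agent.Helper8.GrpdGlue.q (Groth.Agent.Helper8.SubGrpd.gp d)) :=
    IsPullback.of_iso_pullback
      ⟨(Groth.Agent.Helper8.GrpdGlue.s_q (Groth.Agent.Helper8.SubGrpd.gp d)).symm⟩
      (asIso (Groth.Agent.Helper8.GrpdGlue.φ (Groth.Agent.Helper8.SubGrpd.gp d)))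
      (Groth.Agent.Helper8.GrpdGlue.φ_fst (Groth.Agent.Helper8.SubGrpd.gp d))
      (Groth.Agent.Helper8.GrpdGlue.φ_snd (Groth.Agent.Helper8.SubGrpd.gp d))
  haveI hfin : IsFinite (Groth.Agent.Helper8.GrpdGlue.q (Groth.Agent.Helper8.SubGrpd.gp d) :
      G.U ⟶ Groth.Agent.Helper8.GrpdGlue.Y (Groth.Agent.Helper8.SubGrpd.gp d)) :=
    Groth.Agent.Helper8.GrpdGlue.isFinite_q (Groth.Agent.Helper8.SubGrpd.gp d)
  haveI hfl : Flat (Groth.Agent.Helper8.GrpdGlue.q (Groth.Agent.Helper8.SubGrpd.gp d) :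
      G.U ⟶ Groth.Agent.Helper8.GrpdGlue.Y (Groth.Agent.Helper8.SubGrpd.gp d)) :=
    Groth.Agent.Helper8.GrpdGlue.flat_q (Groth.Agent.Helper8.SubGrpd.gp d)
  haveI hlfp : LocallyOfFinitePresentation
      (Groth.Agent.Helper8.GrpdGlue.q (Groth.Agent.Helper8.SubGrpd.gp d) :
      G.U ⟶ Groth.Agent.Helper8.GrpdGlue.Y (Groth.Agent.Helper8.SubGrpd.gp d)) :=
    Groth.Agent.Helper8.GrpdGlue.lfp_q (Groth.Agent.Helper8.SubGrpd.gp d)
  haveI hsurj : Surjective (Groth.Agent.Helper8.GrpdGlue.q (Groth.Agent.Helper8.SubGrpd.gp d) :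
      G.U ⟶ Groth.Agent.Helper8.GrpdGlue.Y (Groth.Agent.Helper8.SubGrpd.gp d)) :=
    Groth.Agent.Helper8.GrpdGlue.surjective_q (Groth.Agent.Helper8.SubGrpd.gp d)
  have haffY : IsAffine (Groth.Agent.Helper8.GrpdGlue.Y (Groth.Agent.Helper8.SubGrpd.gp d)) :=
    Groth.Agent.Helper8.GrpdGlue.isAffine_Y (Groth.Agent.Helper8.SubGrpd.gp d)
  refine ⟨Groth.Agent.Helper8.SubGrpd.Hb d hP hg', Groth.Agent.Helper8.SubGrpd.φb d hP hg',
    haffY, ?_, hfin, hfl, hlfp, hP, ?_⟩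
  · haveI := Groth.Agent.Helper8.GrpdGlue.flat_q (Groth.Agent.Helper8.SubGrpd.gp d)
    haveI := Groth.Agent.Helper8.GrpdGlue.lfp_q (Groth.Agent.Helper8.SubGrpd.gp d)
    haveI := Groth.Agent.Helper8.GrpdGlue.surjective_q (Groth.Agent.Helper8.SubGrpd.gp d)
    apply Groth.Agent.Helper2.QuotIff.isQuotient_of_kernelPair
    · apply IsPullback.of_map_of_faithful (Over.forget S)
      exact hP.flip
    · apply Groth.Agent.Helper2.QuotIff.epi_of_singleton_mem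
      intro T w
      change Presieve.singleton (pullback.fst w.left
        (Groth.Agent.Helper8.GrpdGlue.q (Groth.Agent.Helper8.SubGrpd.gp d))) ∈ _
      haveI : Flat (pullback.fst w.left
          (Groth.Agent.Helper8.GrpdGlue.q (Groth.Agent.Helper8.SubGrpd.gp d))) :=
        MorphismProperty.pullback_fst (P := @Flat) _ _
          (Groth.Agent.Helper8.GrpdGlue.flat_q (Groth.Agent.Helper8.SubGrpd.gp d))
      haveI : Surjective (pullback.fst w.left
          (Groth.Agent.Helper8.GrpdGlue.q (Groth.Agent.Helper8.SubGrpd.gp d))) :=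
        MorphismProperty.pullback_fst (P := @Surjective) _ _
          (Groth.Agent.Helper8.GrpdGlue.surjective_q (Groth.Agent.Helper8.SubGrpd.gp d))
      haveI : LocallyOfFinitePresentation (pullback.fst w.left
          (Groth.Agent.Helper8.GrpdGlue.q (Groth.Agent.Helper8.SubGrpd.gp d))) :=
        MorphismProperty.pullback_fst (P := @LocallyOfFinitePresentation) _ _
          (Groth.Agent.Helper8.GrpdGlue.lfp_q (Groth.Agent.Helper8.SubGrpd.gp d))
      exact (pullback.fst w.left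
        (Groth.Agent.Helper8.GrpdGlue.q
          (Groth.Agent.Helper8.SubGrpd.gp d))).singleton_mem_fppfPrecoverage
  · rw [Groth.Agent.Helper8.SubGrpd.Hb_j]
    exact Groth.Agent.Helper8.SubGrpd.isPullback_fR d hP hg'

end Groth.Agent.S10140
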