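import Groth.Statements.S10147
-- import your own Groth.Agent.* helpers here

set_option autoImplicit false
universe u v w
open LinTop

namespace Groth.Agent.S10147

/-- Let M be a topological module over a ring R whose additive group is a topological group, and let
(M_i) be a family of submodules of M forming a fundamental system of neighbourhoods of 0. For every
submodule N of M, the closure of N is the intersection over i of the submodules N + M_i. -/
theorem result
    {R : Type u} [Ring R] {M : Type v} [AddCommGroup M] [Module R M] [TopologicalSpace M]
    [IsTopologicalAddGroup M] {ι : Type w} (B : ι → Submodule R M)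
    (hB : (nhds (0 : M)).HasBasis (fun _ => True) (fun i => (B i : Set M)))
    (N : Submodule R M) :
    closure (N : Set M) = ⋂ i, ((N ⊔ B i : Submodule R M) : Set M) := by
  ext x
  simp only [Set.mem_iInter, SetLike.mem_coe]
  constructor
  · intro hx i
    -- x - B i is a neighbourhood of x
    have hnhd : {y | x - y ∈ B i} ∈ nhds x := by
      have hc : Continuous fun y : M => x - y := by fun_prop
      have ht : Filter.Tendsto (fun y : M => x - y) (nhds x) (nhds 0) := by
        have := hc.tendsto x
        simpa using this
      exact ht (hB.mem_of_mem (i := i) trivial)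
    obtain ⟨y, hy, hyN⟩ := mem_closure_iff_nhds.mp hx _ hnhd
    rw [Submodule.mem_sup]
    exact ⟨y, hyN, x - y, hy, by abel⟩
  · intro hx
    rw [mem_closure_iff_nhds]
    intro t ht
    -- t - x is a nhd of 0
    have hc : Continuous fun y : M => x - y := by fun_prop
    have ht0 : {z | x - z ∈ t} ∈ nhds (0 : M) := by
      have htend : Filter.Tendsto (fun z : M => x - z) (nhds 0) (nhds x) := by
        have := hc.tendsto 0
        simpa using this
      exact htend ht
    obtain ⟨i, -, hi⟩ := hB.mem_iff.mp ht0
    obtain ⟨y, hy, z, hz, hyz⟩ := Submodule.mem_sup.mp (hx i)
    refine ⟨y, ?_, hy⟩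
    have : x - z ∈ t := hi hz
    have hxy : x - z = y := by rw [← hyz]; abel
    rwa [hxy] at this

end Groth.Agent.S10147
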