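import Groth.Statements.S10148
import Groth.Agent.Helper5.LinTopComplete
import Mathlib.Topology.Algebra.Polynomial
import Mathlib.Algebra.Ring.GeomSum

set_option autoImplicit false
universe u

namespace Groth.Agent.S10148

open Filter Topology Polynomial Groth.Agent.Helper5.LT
open scoped Ring

section

variable {A : Type u} [CommRing A] [UniformSpace A] [IsUniformAddGroup A] [IsTopologicalRing A]
  [IsLinearTopology A A] [T2Space A] [CompleteSpace A]

theorem isUnit_one_sub_of_isTopologicallyNilpotent {z : A} (hz : IsTopologicallyNilpotent z) :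
    IsUnit (1 - z) := by
  have := nonarchimedeanAddGroup_of_linear A
  have hsum : Summable (fun n : ℕ => z ^ n) := by
    apply NonarchimedeanAddGroup.summable_of_tendsto_cofinite_zero
    rw [Nat.cofinite_eq_atTop]
    exact hz
  set s := ∑' n, z ^ n with hs
  have h1 : Tendsto (fun N => ∑ n ∈ Finset.range N, z ^ n) atTop (𝓝 s) :=
    hsum.hasSum.tendsto_sum_nat
  have h2 : Tendsto (fun N => (∑ n ∈ Finset.range N, z ^ n) * (1 - z)) atTop (𝓝 (s * (1 - z))) :=
    h1.mul_const _
  have h3 : Tendsto (fun N => (∑ n ∈ Finset.range N, z ^ n) * (1 - z)) atTop (𝓝 1) := by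
    have : (fun N => (∑ n ∈ Finset.range N, z ^ n) * (1 - z)) = fun N => 1 - z ^ N := by
      funext N
      exact geom_sum_mul_neg z N
    rw [this]
    have h4 : Tendsto (fun N => z ^ N) atTop (𝓝 0) := hz
    have := (tendsto_const_nhds (x := (1 : A))).sub h4
    simpa using this
  have h5 : s * (1 - z) = 1 := tendsto_nhds_unique h2 h3
  exact IsUnit.of_mul_eq_one s (by rw [mul_comm]; exact h5)

end

/-- Let A be a weakly admissible topological ring (linearly topologized, Hausdorff and complete, having
a weak ideal of definition) and let I be a weak ideal of definition of A, that is, an open ideal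
consisting of topologically nilpotent elements. Then (A, I) is a henselian pair. -/
theorem result
    (A : Type u) [CommRing A] [UniformSpace A] [IsUniformAddGroup A] [IsTopologicalRing A]
    (hA : LinTop.IsWeaklyAdmissible A) (I : Ideal A) (hI : LinTop.IsWeakIdealOfDefinition A I) :
    HenselianRing A I := by
  obtain ⟨⟨hlin, -⟩, hT2, hcomp⟩ := hA
  obtain ⟨hIopen, hInil⟩ := hI
  have hna := nonarchimedeanAddGroup_of_linear A
  have hjac : I ≤ Ideal.jacobson ⊥ := by
    intro x hx
    rw [Ideal.mem_jacobson_bot]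
    intro y
    have hz : IsTopologicallyNilpotent (-(x * y)) :=
      hInil _ (I.neg_mem (I.mul_mem_right y hx))
    have := isUnit_one_sub_of_isTopologicallyNilpotent hz
    rwa [sub_neg_eq_add, add_comm] at this
  refine ⟨hjac, ?_⟩
  intro f _ a₀ h₁ h₂
  classical
  let f' := derivative f
  set t : A := f.eval a₀ with ht
  let T : Ideal A := Ideal.span {t}
  have hT₁ : f.eval a₀ ∈ T := Ideal.subset_span rfl
  let c : ℕ → A := fun n => Nat.recOn n a₀ fun _ b => b - f.eval b * (f'.eval b)⁻¹ʳ
  have hc : ∀ n, c (n + 1) = c n - f.eval (c n) * (f'.eval (c n))⁻¹ʳ := by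
    intro n
    simp only [c]
  have hc_mod : ∀ n, c n ≡ a₀ [SMOD I] := by
    intro n
    induction n with
    | zero => rfl
    | succ n ih => ?_
    rw [hc, sub_eq_add_neg, ← add_zero a₀]
    refine ih.add ?_
    rw [SModEq.zero, Ideal.neg_mem_iff]
    refine I.mul_mem_right _ ?_
    rw [← SModEq.zero] at h₁ ⊢
    exact (ih.eval f).trans h₁
  have hf'c : ∀ n, IsUnit (f'.eval (c n)) := by
    intro n
    have := isLocalHom_of_le_jacobson_bot I hjac
    apply IsUnit.of_map (Ideal.Quotient.mk I)
    convert h₂ using 1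
    exact SModEq.def.mp ((hc_mod n).eval _)
  have hfcI : ∀ n, f.eval (c n) ∈ T ^ (n + 1) := by
    intro n
    induction n with
    | zero =>
      rw [zero_add, pow_one]
      exact hT₁
    | succ n ih => ?_
    rw [← taylor_eval_sub (c n), hc, sub_eq_add_neg, sub_eq_add_neg,
      add_neg_cancel_comm]
    rw [eval_eq_sum, sum_over_range' _ _ _ (lt_add_of_pos_right _ zero_lt_two), ←
      Finset.sum_range_add_sum_Ico _ (Nat.le_add_left _ _)]
    swap
    · intro i
      rw [zero_mul]
    refine Ideal.add_mem _ ?_ ?_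
    · rw [← one_add_one_eq_two, Finset.sum_range_succ, Finset.range_one, Finset.sum_singleton,
        taylor_coeff_zero, taylor_coeff_one, pow_zero, pow_one, mul_one, mul_neg,
        mul_left_comm, Ring.mul_inverse_cancel _ (hf'c n), mul_one, add_neg_cancel]
      exact Ideal.zero_mem _
    · refine Submodule.sum_mem _ ?_
      simp only [Finset.mem_Ico]
      rintro i ⟨h2i, _⟩
      have aux : n + 2 ≤ i * (n + 1) := by trans 2 * (n + 1) <;> nlinarith only [h2i]
      refine Ideal.mul_mem_left _ _ (Ideal.pow_le_pow_right aux ?_)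
      rw [pow_mul']
      exact Ideal.pow_mem_pow ((Ideal.neg_mem_iff _).2 <| Ideal.mul_mem_right _ _ ih) _
  -- powers of T tend to zero
  have ht_nil : IsTopologicallyNilpotent t := hInil t h₁
  have hTtend : ∀ U ∈ 𝓝 (0 : A), ∃ m, ∀ k, m ≤ k → ((T ^ (k + 1) : Ideal A) : Set A) ⊆ U := by
    intro U hU
    obtain ⟨J, hJ, hJU⟩ := exists_open_ideal_subset hU
    have : ∀ᶠ k in atTop, t ^ k ∈ (J : Set A) := ht_nil (hJ.mem_nhds J.zero_mem)
    obtain ⟨m, hm⟩ := eventually_atTop.mp this
    refine ⟨m, fun k hk => ?_⟩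
    have hle : T ^ (k + 1) ≤ J := by
      rw [Ideal.span_singleton_pow, Ideal.span_singleton_le_iff_mem]
      exact hm (k + 1) (by omega)
    exact fun x hx => hJU (hle hx)
  -- differences tend to zero
  let d : ℕ → A := fun n => c (n + 1) - c n
  have hd_mem : ∀ n, d n ∈ T ^ (n + 1) := by
    intro n
    show c (n + 1) - c n ∈ T ^ (n + 1)
    rw [hc, sub_sub_cancel_left, Ideal.neg_mem_iff]
    exact Ideal.mul_mem_right _ _ (hfcI n)
  have hd_sum : Summable d := by
    apply NonarchimedeanAddGroup.summable_of_tendsto_cofinite_zero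
    rw [Nat.cofinite_eq_atTop, tendsto_def]
    intro U hU
    obtain ⟨m, hm⟩ := hTtend U hU
    rw [mem_atTop_sets]
    exact ⟨m, fun k hk => hm k hk (hd_mem k)⟩
  have hc_sum : ∀ n, c n = a₀ + ∑ k ∈ Finset.range n, d k := by
    intro n
    induction n with
    | zero => simp [c]
    | succ n ih =>
      rw [Finset.sum_range_succ, ← add_assoc, ← ih]
      show c (n + 1) = c n + (c (n + 1) - c n)
      abel
  set a : A := a₀ + ∑' k, d k with ha
  have hc_tend : Tendsto c atTop (𝓝 a) := by
    have : c = fun n => a₀ + ∑ k ∈ Finset.range n, d k := funext hc_sum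
    rw [this]
    exact tendsto_const_nhds.add hd_sum.hasSum.tendsto_sum_nat
  refine ⟨a, ?_, ?_⟩
  · show f.eval a = 0
    have h1 : Tendsto (fun n => f.eval (c n)) atTop (𝓝 (f.eval a)) :=
      (f.continuous.tendsto a).comp hc_tend
    have h2 : Tendsto (fun n => f.eval (c n)) atTop (𝓝 0) := by
      rw [tendsto_def]
      intro U hU
      obtain ⟨m, hm⟩ := hTtend U hU
      rw [mem_atTop_sets]
      exact ⟨m, fun k hk => hm k hk (hfcI k)⟩
    exact tendsto_nhds_unique h1 h2
  · have hcl : IsClosed (I : Set A) := isClosed_of_isOpen hIopen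
    have h1 : Tendsto (fun n => c n - a₀) atTop (𝓝 (a - a₀)) := hc_tend.sub_const a₀
    refine hcl.mem_of_tendsto h1 (Filter.Eventually.of_forall fun n => ?_)
    exact SModEq.sub_mem.mp (hc_mod n)

end Groth.Agent.S10148
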