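import Groth.Statements.S10151
-- import your own Groth.Agent.* helpers here

set_option autoImplicit false
universe u v w
open LinTop

namespace Groth.Agent.S10151

/-- Given linearly topologized rings A, B, C and continuous ring maps ψ : B → C and φ : A → B, tautness
of the composite A → C implies that ψ is taut. -/
theorem result
    (A : Type u) [CommRing A] [TopologicalSpace A] [IsTopologicalRing A] [IsLinearTopology A A]
    (B : Type v) [CommRing B] [TopologicalSpace B] [IsTopologicalRing B] [IsLinearTopology B B]
    (C : Type w) [CommRing C] [TopologicalSpace C] [IsTopologicalRing C] [IsLinearTopology C C]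
    (φ : A →+* B) (ψ : B →+* C) (hφ : Continuous φ) (hψ : Continuous ψ)
    (h : LinTop.IsTaut (ψ.comp φ)) : LinTop.IsTaut ψ := by
  refine ⟨hψ, ?_, ?_⟩
  · intro J hJ
    have hI : IsOpen ((J.comap φ : Ideal A) : Set A) := hJ.preimage hφ
    have h1 := h.2.1 _ hI
    have hle : ((J.comap φ).map (ψ.comp φ) : Ideal C) ≤ J.map ψ := by
      rw [← Ideal.map_map]
      exact Ideal.map_mono Ideal.map_comap_le
    have hle' : (((J.comap φ).map (ψ.comp φ) : Ideal C).closure : Set C) ⊆ ((J.map ψ).closure : Set C) :=
      closure_mono hle
    have : IsOpen (((J.map ψ).closure : Ideal C) : Set C) := by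
      have := AddSubgroup.isOpen_mono (H₁ := ((J.comap φ).map (ψ.comp φ) : Ideal C).closure.toAddSubgroup)
        (H₂ := (J.map ψ).closure.toAddSubgroup) hle' h1
      exact this
    exact this
  · intro U hU
    obtain ⟨K, hK, hKU⟩ := (IsLinearTopology.hasBasis_open_ideal (R := C)).mem_iff.mp hU
    refine ⟨K.comap ψ, hK.preimage hψ, ?_⟩
    have hle : ((K.comap ψ).map ψ : Ideal C) ≤ K := Ideal.map_comap_le
    have hcl : IsClosed (K : Set C) := AddSubgroup.isClosed_of_isOpen K.toAddSubgroup hK
    exact (closure_minimal hle hcl).trans hKU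

end Groth.Agent.S10151
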