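import Groth.Statements.S10152
import Groth.Agent.Helper5.LinTopBasic

set_option autoImplicit false
universe u v
open LinTop

namespace Groth.Agent.S10152

open Groth.Agent.Helper5.LT in
/-- Let φ : A → B be a taut homomorphism of linearly topologized rings. If A has a countable fundamental
system of open ideals, then so does B (equivalently, the neighbourhood filters of 0 are countably
generated). -/
theorem result
    (A : Type u) [CommRing A] [TopologicalSpace A] [IsTopologicalRing A] [IsLinearTopology A A]
    (B : Type v) [CommRing B] [TopologicalSpace B] [IsTopologicalRing B] [IsLinearTopology B B]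
    (φ : A →+* B) (hφ : LinTop.IsTaut φ) (hA : (nhds (0 : A)).IsCountablyGenerated) :
    (nhds (0 : B)).IsCountablyGenerated := by
  obtain ⟨x, hx, hbasis⟩ :=
    (IsLinearTopology.hasBasis_open_ideal (R := A)).exists_antitone_subbasis
  have hB : (nhds (0 : B)).HasBasis (fun _ : ℕ => True)
      (fun n => closure (((x n).map φ : Ideal B) : Set B)) := by
    constructor
    intro U
    constructor
    · intro hU
      obtain ⟨I, hI, hIU⟩ := hφ.2.2 U hU
      obtain ⟨n, -, hn⟩ := hbasis.1.mem_iff.mp (hI.mem_nhds I.zero_mem)
      refine ⟨n, trivial, subset_trans ?_ hIU⟩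
      exact closure_mono (Ideal.map_mono (show x n ≤ I from hn))
    · rintro ⟨n, -, hn⟩
      refine Filter.mem_of_superset ?_ hn
      exact (hφ.2.1 _ (hx n)).mem_nhds (subset_closure (Ideal.zero_mem _))
  exact hB.isCountablyGenerated

end Groth.Agent.S10152
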