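import Groth.Statements.S10154
import Groth.Agent.Helper5.LinTopBasic

set_option autoImplicit false
universe u v
open LinTop

namespace Groth.Agent.S10154

open Groth.Agent.Helper5.LT in
/-- Let φ : A → B be a taut homomorphism of linearly topologized rings. If A is pre-admissible, then B
is pre-admissible. -/
theorem result
    (A : Type u) [CommRing A] [TopologicalSpace A] [IsTopologicalRing A] [IsLinearTopology A A]
    (B : Type v) [CommRing B] [TopologicalSpace B] [IsTopologicalRing B] [IsLinearTopology B B]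
    (φ : A →+* B) (hφ : LinTop.IsTaut φ) (hA : LinTop.IsPreadmissible A) :
    LinTop.IsPreadmissible B := by
  obtain ⟨-, I, hIo, hIn⟩ := hA
  refine ⟨inferInstance, (I.map φ).closure, hφ.2.1 I hIo, ?_⟩
  intro U hU
  obtain ⟨K, hK, hKU⟩ := exists_open_ideal_subset hU
  have hpre : ((K.comap φ : Ideal A) : Set A) ∈ nhds (0 : A) :=
    (hK.preimage hφ.1).mem_nhds (by simp)
  obtain ⟨n, hn, hIn'⟩ := hIn _ hpre
  refine ⟨n, hn, ?_⟩
  refine subset_trans ?_ hKU
  have h1 : (I.map φ) ^ n ≤ K := by
    rw [← Ideal.map_pow, Ideal.map_le_iff_le_comap]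
    exact hIn'
  exact (closure_pow_le _ n).trans (closure_le_of_le_of_isOpen h1 hK)

end Groth.Agent.S10154
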