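import Groth.Statements.S10155
import Groth.Agent.Helper5.LinTopOpenMap

set_option autoImplicit false
universe u v
open LinTop

namespace Groth.Agent.S10155

open Groth.Agent.Helper5.LT UniformSpace

theorem map_subset_closure_image {A : Type u} [CommRing A]
    {B : Type v} [CommRing B] [TopologicalSpace B] [IsTopologicalRing B]
    (φ : A →+* B) (hd : DenseRange φ) (I : Ideal A) :
    ((I.map φ : Ideal B) : Set B) ⊆ closure (φ '' (I : Set A)) := by
  have key : ∀ z ∈ Submodule.span B (φ '' (I : Set A)), z ∈ closure (φ '' (I : Set A)) := by
    intro z hz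
    induction hz using Submodule.span_induction with
    | mem x hx => exact subset_closure hx
    | zero => exact subset_closure ⟨0, I.zero_mem, map_zero φ⟩
    | add x y _ _ hx hy =>
      refine map_mem_closure₂ continuous_add hx hy ?_
      rintro _ ⟨a, ha, rfl⟩ _ ⟨b, hb, rfl⟩
      exact ⟨a + b, I.add_mem ha hb, map_add φ a b⟩
    | smul c x _ hx =>
      have hc : c ∈ closure (Set.range φ) := hd c
      refine map_mem_closure₂ continuous_mul hc hx ?_
      rintro _ ⟨a, rfl⟩ _ ⟨b, hb, rfl⟩
      exact ⟨a * b, I.mul_mem_left a hb, map_mul φ a b⟩
  exact fun z hz => key z hz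

/-- Let φ : A → B be a taut homomorphism of linearly topologized rings with dense image. Assume A is
Hausdorff and complete with a countable fundamental system of open ideals and B is Hausdorff. Then φ
is surjective and open, so that B is the quotient of A by the closed ideal ker φ with the quotient
topology, and B is complete. -/
theorem result
    (A : Type u) [CommRing A] [UniformSpace A] [IsUniformAddGroup A] [IsTopologicalRing A]
    [IsLinearTopology A A] [T2Space A] [CompleteSpace A] (hA : (nhds (0 : A)).IsCountablyGenerated)
    (B : Type v) [CommRing B] [UniformSpace B] [IsUniformAddGroup B] [IsTopologicalRing B]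
    [IsLinearTopology B B] [T2Space B]
    (φ : A →+* B) (hφ : LinTop.IsTaut φ) (hd : DenseRange φ) :
    Function.Surjective φ ∧ IsOpenQuotientMap φ ∧ CompleteSpace B := by
  have H : ∀ I : Ideal A, IsOpen (I : Set A) → closure (φ '' (I : Set A)) ∈ nhds (0 : B) := by
    intro I hI
    have h1 : IsOpen (closure ((I.map φ : Ideal B) : Set B)) := hφ.2.1 I hI
    have h2 : closure ((I.map φ : Ideal B) : Set B) ⊆ closure (φ '' (I : Set A)) :=
      closure_minimal (map_subset_closure_image φ hd I) isClosed_closure
    exact Filter.mem_of_superset (h1.mem_nhds (subset_closure (Ideal.zero_mem _))) h2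
  have hsurj : Function.Surjective φ := surjective_of_denseRange hA φ hφ.1 H hd
  refine ⟨hsurj, ⟨hsurj, hφ.1, isOpenMap_of_closure_image_mem_nhds hA φ hφ.1 H⟩, ?_⟩
  -- completeness
  let ψ : A →+* Completion B := (Completion.coeRingHom : B →+* Completion B).comp φ
  have hψc : Continuous ψ := Completion.continuous_coeRingHom.comp hφ.1
  have hψd : DenseRange ψ := Completion.denseRange_coe.comp hd (Completion.continuous_coe B)
  have Hψ : ∀ I : Ideal A, IsOpen (I : Set A) → closure (ψ '' (I : Set A)) ∈ nhds (0 : Completion B) := by
    intro I hI
    have h1 := Completion.isDenseInducing_coe.closure_image_mem_nhds (H I hI)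
    rw [Completion.coe_zero] at h1
    refine Filter.mem_of_superset h1 ?_
    apply closure_minimal _ isClosed_closure
    have : ψ '' (I : Set A) = (fun b : B => (b : Completion B)) '' (φ '' (I : Set A)) := by
      rw [Set.image_image]; rfl
    rw [this]
    exact image_closure_subset_closure_image (Completion.continuous_coe B)
  have hψs : Function.Surjective ψ := surjective_of_denseRange hA ψ hψc Hψ hψd
  have hιs : Function.Surjective (fun b : B => (b : Completion B)) := by
    intro z
    obtain ⟨a, rfl⟩ := hψs z
    exact ⟨φ a, rfl⟩
  exact ((Completion.isUniformInducing_coe B).completeSpace_congr hιs).mpr inferInstance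

end Groth.Agent.S10155
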