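import Groth.Statements.S10156
import Groth.Agent.Helper5.LinTopBasic

set_option autoImplicit false
universe u v w
open LinTop

namespace Groth.Agent.S10156

open Groth.Agent.Helper5.LT in
/-- Given pre-adic rings A, B, C and continuous ring maps ψ : B → C and φ : A → B, adicness of the
composite A → C implies that ψ is adic. -/
theorem result
    (A : Type u) [CommRing A] [TopologicalSpace A] [IsTopologicalRing A] (hA : LinTop.IsPreadic A)
    (B : Type v) [CommRing B] [TopologicalSpace B] [IsTopologicalRing B] (hB : LinTop.IsPreadic B)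
    (C : Type w) [CommRing C] [TopologicalSpace C] [IsTopologicalRing C] (hC : LinTop.IsPreadic C)
    (φ : A →+* B) (ψ : B →+* C) (hφ : Continuous φ) (hψ : Continuous ψ)
    (h : LinTop.IsAdicHom (ψ.comp φ)) : LinTop.IsAdicHom ψ := by
  obtain ⟨I, hI, hK⟩ := h
  obtain ⟨J₀, hJ₀⟩ := hB
  refine ⟨J₀, isIdealOfDefinition_of_isAdic hJ₀, ?_⟩
  have hpre : ((J₀.comap φ : Ideal A) : Set A) ∈ nhds (0 : A) :=
    ((IsAdic.isOpen hJ₀).preimage hφ).mem_nhds (by simp)
  obtain ⟨n, -, hn⟩ := hI.2 _ hpre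
  have hpre2 : (((I.map (ψ.comp φ)).comap ψ : Ideal B) : Set B) ∈ nhds (0 : B) :=
    ((IsAdic.isOpen hK).preimage hψ).mem_nhds (by simp)
  obtain ⟨m, hm⟩ := IsAdic.exists_pow_subset hJ₀ hpre2
  refine isAdic_of_pow_le hK (n := n) (m := m) ?_ ?_
  · rw [← Ideal.map_pow, ← Ideal.map_map]
    apply Ideal.map_mono
    rw [Ideal.map_le_iff_le_comap]
    exact hn
  · rw [← Ideal.map_pow, Ideal.map_le_iff_le_comap]
    exact hm

end Groth.Agent.S10156
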