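import Groth.Statements.S10157
import Groth.Agent.Helper5.LinTopBasic

set_option autoImplicit false
universe u v
open LinTop

namespace Groth.Agent.S10157

open Groth.Agent.Helper5.LT in
/-- A continuous adic homomorphism φ : A → B between pre-adic topological rings is taut. -/
theorem result
    (A : Type u) [CommRing A] [TopologicalSpace A] [IsTopologicalRing A] (hA : LinTop.IsPreadic A)
    (B : Type v) [CommRing B] [TopologicalSpace B] [IsTopologicalRing B] (hB : LinTop.IsPreadic B)
    (φ : A →+* B) (hφ : Continuous φ) (h : LinTop.IsAdicHom φ) : LinTop.IsTaut φ := by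
  obtain ⟨I, hI, hK⟩ := h
  obtain ⟨I₀, hI₀⟩ := hA
  refine ⟨hφ, ?_, ?_⟩
  · intro I' hI'
    obtain ⟨n, -, hn⟩ := hI.2 _ (hI'.mem_nhds I'.zero_mem)
    have h1 : (I.map φ) ^ n ≤ I'.map φ := by
      rw [← Ideal.map_pow]
      exact Ideal.map_mono hn
    have h2 : IsOpen ((I'.map φ : Ideal B) : Set B) := isOpen_of_le h1 (IsAdic.isOpen_pow hK n)
    have h3 : (I'.map φ).closure = I'.map φ := Ideal.closure_eq_of_isClosed _ (isClosed_of_isOpen h2)
    have : closure ((I'.map φ : Ideal B) : Set B) = ((I'.map φ : Ideal B) : Set B) :=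
      congrArg (fun J : Ideal B => (J : Set B)) h3
    rw [this]
    exact h2
  · intro U hU
    obtain ⟨n, hn⟩ := IsAdic.exists_pow_subset hK hU
    -- I ^ n is open in A
    obtain ⟨k, hk⟩ := IsAdic.exists_pow_subset hI₀ (hI.1.mem_nhds I.zero_mem)
    have hopen : IsOpen ((I ^ n : Ideal A) : Set A) := by
      have : I₀ ^ (k * n) ≤ I ^ n := by
        rw [pow_mul]; exact Ideal.pow_right_mono hk n
      exact isOpen_of_le this (IsAdic.isOpen_pow hI₀ _)
    refine ⟨I ^ n, hopen, ?_⟩
    rw [Ideal.map_pow]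
    have h2 : IsOpen (((I.map φ) ^ n : Ideal B) : Set B) := IsAdic.isOpen_pow hK n
    rw [(isClosed_of_isOpen h2).closure_eq]
    exact hn

end Groth.Agent.S10157
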