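import Groth.Statements.S10159
import Groth.Agent.Helper5.LinTopCompletion

set_option autoImplicit false
universe u
open LinTop

namespace Groth.Agent.S10159

open Groth.Agent.Helper5.LT

/-- A copy of the ring `A` that will carry the `I`-adic topology. -/
def AdicCopy (A : Type u) [CommRing A] (_I : Ideal A) : Type u := A

instance (A : Type u) [CommRing A] (I : Ideal A) : CommRing (AdicCopy A I) :=
  inferInstanceAs (CommRing A)

instance (A : Type u) [CommRing A] (I : Ideal A) : TopologicalSpace (AdicCopy A I) :=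
  I.adicTopology

instance (A : Type u) [CommRing A] (I : Ideal A) : IsTopologicalRing (AdicCopy A I) :=
  I.nonarchimedean.toIsTopologicalRing

theorem adicCopy_isAdic (A : Type u) [CommRing A] (I : Ideal A) :
    IsAdic (show Ideal (AdicCopy A I) from I) := rfl

/-- the identity map from the adic copy -/
def fromCopy (A : Type u) [CommRing A] (I : Ideal A) : AdicCopy A I →+* A := RingHom.id A

theorem map_fromCopy (A : Type u) [CommRing A] (I : Ideal A) (J : Ideal (AdicCopy A I)) :
    J.map (fromCopy A I) = (show Ideal A from J) := Ideal.map_id J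

theorem preadic_weaklyPreadic (A : Type u) [CommRing A] [TopologicalSpace A] [IsTopologicalRing A]
    (h : LinTop.IsPreadic A) : LinTop.IsWeaklyPreadic A := by
  obtain ⟨I, hI⟩ := h
  haveI := isLinearTopology_of_isAdic hI
  refine ⟨inferInstance, I, fun n => ?_, fun U hU => ?_⟩
  · rw [(isClosed_of_isOpen (IsAdic.isOpen_pow hI n)).closure_eq]
    exact IsAdic.isOpen_pow hI n
  · obtain ⟨n, hn⟩ := IsAdic.exists_pow_subset hI hU
    refine ⟨n, ?_⟩
    rw [(isClosed_of_isOpen (IsAdic.isOpen_pow hI n)).closure_eq]
    exact hn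

/-- For a ring A carrying a linear topology, the following four conditions are equivalent: (1) A is
weakly pre-adic; (2) there exist a pre-adic topological ring A' and a taut continuous ring
homomorphism A' → A (A' is taken in the universe of A, which suffices since A with an adic topology
serves); (3) A has an ideal of definition, and for at least one ideal of definition I every closure
cl(I^n) with n ≥ 1 is open; (4) A has an ideal of definition, and for each of its ideals of
definition I every closure cl(I^n) with n ≥ 1 is open. -/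
theorem result
    (A : Type u) [CommRing A] [TopologicalSpace A] [IsTopologicalRing A] [IsLinearTopology A A] :
    List.TFAE [LinTop.IsWeaklyPreadic A,
      ∃ (A' : Type u) (_ : CommRing A') (_ : TopologicalSpace A') (_ : IsTopologicalRing A')
        (φ : A' →+* A), LinTop.IsPreadic A' ∧ LinTop.IsTaut φ,
      LinTop.IsPreadmissible A ∧ ∃ I : Ideal A, LinTop.IsIdealOfDefinition A I ∧
        ∀ n : ℕ, 0 < n → IsOpen (closure ((I ^ n : Ideal A) : Set A)),
      LinTop.IsPreadmissible A ∧ ∀ I : Ideal A, LinTop.IsIdealOfDefinition A I →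
        ∀ n : ℕ, 0 < n → IsOpen (closure ((I ^ n : Ideal A) : Set A))] := by
  tfae_have 1 → 4 := by
    rintro ⟨-, I₀, hI₀o, hI₀b⟩
    refine ⟨⟨inferInstance, I₀.closure, ?_, ?_⟩, ?_⟩
    · have := hI₀o 1
      simpa using this
    · intro U hU
      obtain ⟨K, hK, hKU⟩ := exists_open_ideal_subset hU
      obtain ⟨n, hn⟩ := hI₀b _ (hK.mem_nhds K.zero_mem)
      refine ⟨n + 1, Nat.succ_pos n, subset_trans ?_ hKU⟩
      have h1 : I₀.closure ^ (n + 1) ≤ (I₀ ^ (n + 1)).closure := closure_pow_le I₀ (n + 1)
      have h2 : (I₀ ^ (n + 1)).closure ≤ (I₀ ^ n).closure :=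
        closure_mono (Ideal.pow_le_pow_right (Nat.le_succ n))
      exact (h1.trans h2).trans hn
    · intro I hI n _
      obtain ⟨k, hk⟩ := hI₀b _ (hI.1.mem_nhds I.zero_mem)
      have h1 : I₀ ^ (k * n) ≤ I ^ n := by
        rw [pow_mul]; exact Ideal.pow_right_mono (fun x hx => hk (subset_closure hx)) n
      exact isOpen_of_le (I := (I₀ ^ (k * n)).closure) (J := (I ^ n).closure) (closure_mono h1) (hI₀o _)
  tfae_have 4 → 3 := by
    rintro ⟨hpre, h⟩
    obtain ⟨-, I, hI⟩ := hpre
    exact ⟨⟨inferInstance, I, hI⟩, I, hI, h I hI⟩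
  tfae_have 3 → 1 := by
    rintro ⟨-, I, hI, hIo⟩
    refine ⟨inferInstance, I, fun n => ?_, fun U hU => ?_⟩
    · rcases Nat.eq_zero_or_pos n with rfl | hn
      · simp
      · exact hIo n hn
    · obtain ⟨V, hV, hVU⟩ := exists_open_ideal_subset hU
      obtain ⟨n, -, hn⟩ := hI.2 _ (hV.mem_nhds V.zero_mem)
      exact ⟨n, fun x hx => hVU (closure_le_of_le_of_isOpen (show I ^ n ≤ V from hn) hV hx)⟩
  tfae_have 2 → 1 := by
    rintro ⟨A', _, _, _, φ, hA', hφ⟩
    haveI : IsLinearTopology A' A' := by
      obtain ⟨I, hI⟩ := hA'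
      exact isLinearTopology_of_isAdic hI
    exact isWeaklyPreadic_of_isTaut φ hφ (preadic_weaklyPreadic A' hA')
  tfae_have 1 → 2 := by
    rintro ⟨-, I, hIo, hIb⟩
    refine ⟨AdicCopy A I, inferInstance, inferInstance, inferInstance, fromCopy A I,
      ⟨I, adicCopy_isAdic A I⟩, ?_, ?_, ?_⟩
    · -- continuity
      apply continuous_of_continuousAt_zero (fromCopy A I)
      rw [ContinuousAt, map_zero]
      intro U hU
      obtain ⟨n, hn⟩ := hIb U hU
      have hopen : IsOpen (((show Ideal (AdicCopy A I) from I) ^ n : Ideal (AdicCopy A I)) : Set (AdicCopy A I)) :=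
        IsAdic.isOpen_pow (adicCopy_isAdic A I) n
      refine Filter.mem_of_superset (hopen.mem_nhds (Ideal.zero_mem _)) ?_
      intro x hx
      exact hn (subset_closure hx)
    · intro J hJ
      rw [map_fromCopy]
      obtain ⟨n, hn⟩ := IsAdic.exists_pow_subset (adicCopy_isAdic A I) (hJ.mem_nhds J.zero_mem)
      have h1 : I ^ n ≤ (show Ideal A from J) := hn
      exact isOpen_of_le (I := (I ^ n).closure) (J := (show Ideal A from J).closure) (closure_mono h1) (hIo n)
    · intro U hU
      obtain ⟨n, hn⟩ := hIb U hU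
      refine ⟨(show Ideal (AdicCopy A I) from I) ^ n, IsAdic.isOpen_pow (adicCopy_isAdic A I) n, ?_⟩
      rw [map_fromCopy]
      exact hn
  tfae_finish

end Groth.Agent.S10159
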