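import Groth.Statements.S1016
import Mathlib
import Groth.Agent.Helper9.CO3
-- import your own Groth.Agent.* helpers here

set_option autoImplicit false
universe u
open CategoryTheory CategoryTheory.Limits AlgebraicGeometry
attribute [local instance] HasDerivedCategory.standard
open Perf

namespace Groth.Agent.S1016

/-- Let X be a quasi-compact and quasi-separated scheme and T ⊆ X a closed subset whose complement is
quasi-compact and nonempty (the case T = X is stated separately). Let K ∈ D(O_X) have quasi-coherent
cohomology sheaves supported on T. Then K is compact in D_{QCoh,T}(O_X) (with respect to small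
direct sums of objects with quasi-coherent cohomology supported on T) if and only if K is a perfect
object of D(O_X). -/
theorem result (X : Scheme.{u}) [CompactSpace ↥X] [QuasiSeparatedSpace ↥X]
    (T : Set X) (hT : IsClosed T) (hTc : IsCompact Tᶜ) (hTne : Tᶜ.Nonempty)
    (K : DCoh.D X) (hK : DCoh.IsQCohD K) (hKT : ∀ i : ℤ, CohB1.support (DCoh.HD K i) ⊆ T) :
    PerfAux.IsCompactObjRel.{u} (fun L : DCoh.D X => DCoh.IsQCohD L ∧ ∀ i : ℤ, CohB1.support (DCoh.HD L i) ⊆ T) K ↔
      DCoh.IsPerfect K := by
  rw [Groth.Agent.Helper9.CO1.isCompactObjRel_iff]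
  let U : X.Opens := ⟨Tᶜ, hT.isOpen_compl⟩
  have hzo : ∀ L : DCoh.D X, (∀ i : ℤ, CohB1.support (DCoh.HD L i) ⊆ T) ↔
      Groth.Agent.Helper9.MVP13.ZeroOn L U := by
    intro L
    constructor
    · intro h i x hx hxs
      exact hx (h i hxs)
    · intro h i x hxs
      by_contra hxT
      exact h i x hxT hxs
  constructor
  · intro h
    refine Groth.Agent.Helper9.CO2.isPerfect_of_fn X K hK
      (Groth.Agent.Helper9.CO3.fn_of_fn_supp U hTc K ((hzo K).1 hKT) ?_)
    intro ι E _ hE
    exact h ι E (fun i => ⟨(hE i).1, (hzo _).2 (hE i).2⟩)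
  · intro hP ι E _ hE
    exact Groth.Agent.Helper9.FN1.fn_of_isPerfect X K hP ι E (fun i => (hE i).1)

end Groth.Agent.S1016
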