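import Groth.Statements.S10160
import Groth.Agent.Helper5.LinTopBasic

set_option autoImplicit false
universe u
open LinTop

namespace Groth.Agent.S10160

open Groth.Agent.Helper5.LT in
/-- A weakly adic topological ring is admissible and has a countable fundamental system of open ideals. -/
theorem result
    (A : Type u) [CommRing A] [UniformSpace A] [IsUniformAddGroup A] [IsTopologicalRing A] (hA : LinTop.IsWeaklyAdic A) :
    LinTop.IsAdmissible A ∧ (nhds (0 : A)).IsCountablyGenerated := by
  obtain ⟨⟨hlin, I, hIo, hIb⟩, hT2, hC⟩ := hA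
  refine ⟨⟨⟨hlin, I.closure, ?_, ?_⟩, hT2, hC⟩, ?_⟩
  · have := hIo 1
    simpa using this
  · intro U hU
    obtain ⟨K, hK, hKU⟩ := exists_open_ideal_subset hU
    obtain ⟨n, hn⟩ := hIb _ (hK.mem_nhds K.zero_mem)
    refine ⟨n + 1, Nat.succ_pos n, subset_trans ?_ hKU⟩
    have h1 : I.closure ^ (n + 1) ≤ (I ^ (n + 1)).closure := closure_pow_le I (n + 1)
    have h2 : (I ^ (n + 1)).closure ≤ (I ^ n).closure :=
      closure_mono (Ideal.pow_le_pow_right (Nat.le_succ n))
    exact (h1.trans h2).trans hn
  · have hB : (nhds (0 : A)).HasBasis (fun _ : ℕ => True)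
        (fun n => closure (((I ^ n : Ideal A)) : Set A)) := by
      constructor
      intro U
      constructor
      · intro hU
        obtain ⟨n, hn⟩ := hIb U hU
        exact ⟨n, trivial, hn⟩
      · rintro ⟨n, -, hn⟩
        refine Filter.mem_of_superset ?_ hn
        exact (hIo n).mem_nhds (subset_closure (Ideal.zero_mem _))
    exact hB.isCountablyGenerated

end Groth.Agent.S10160
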