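import Groth.Statements.S10164
import Groth.Agent.Helper5.LinTopComplete

set_option autoImplicit false
universe u
open LinTop

namespace Groth.Agent.S10164

open Groth.Agent.Helper5.LT in
/-- Let A be weakly adic and I an ideal of definition of A with I/I₂ finitely generated, where I₂
denotes the closure of I^2 (here: I maps onto a finitely generated ideal of A/I₂). Then A is adic,
and some finitely generated ideal of A is an ideal of definition. -/
theorem result
    (A : Type u) [CommRing A] [UniformSpace A] [IsUniformAddGroup A] [IsTopologicalRing A] (hA : LinTop.IsWeaklyAdic A)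
    (I : Ideal A) (hI : LinTop.IsIdealOfDefinition A I)
    (hfg : (I.map (Ideal.Quotient.mk ((I ^ 2).closure))).FG) :
    LinTop.IsAdicRing A ∧ ∃ J : Ideal A, LinTop.IsIdealOfDefinition A J ∧ J.FG := by
  obtain ⟨⟨hlin, I₀, hI₀o, hI₀b⟩, hT2, hC⟩ := hA
  haveI := hlin
  haveI := hT2
  haveI := hC
  -- the closures K m = closure (I^m)
  -- they are open
  obtain ⟨k, hk⟩ := hI₀b _ (hI.1.mem_nhds I.zero_mem)
  have hKopen : ∀ n, IsOpen (closure ((I ^ n : Ideal A) : Set A)) := by
    intro n
    have h1 : I₀ ^ (k * n) ≤ I ^ n := by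
      rw [pow_mul]; exact Ideal.pow_right_mono (fun x hx => hk (subset_closure hx)) n
    exact isOpen_of_le (I := (I₀ ^ (k * n)).closure) (J := (I ^ n).closure) (closure_mono h1) (hI₀o _)
  have hKbasis : ∀ U ∈ nhds (0 : A), ∃ n : ℕ, closure ((I ^ n : Ideal A) : Set A) ⊆ U := by
    intro U hU
    obtain ⟨V, hV, hVU⟩ := exists_open_ideal_subset hU
    obtain ⟨n, -, hn⟩ := hI.2 _ (hV.mem_nhds V.zero_mem)
    exact ⟨n, fun x hx => hVU (closure_le_of_le_of_isOpen (show I ^ n ≤ V from hn) hV hx)⟩
  -- choose generators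
  set mk := Ideal.Quotient.mk ((I ^ 2).closure) with hmk
  have hspan : I.map mk = Ideal.span (mk '' (I : Set A)) := rfl
  rw [hspan] at hfg
  obtain ⟨T', hT'sub, hT'⟩ := (Submodule.fg_span_iff_fg_span_finset_subset _).mp hfg
  classical
  obtain ⟨T, hTI, hTT'⟩ : ∃ T : Finset A, (T : Set A) ⊆ I ∧ T.image mk = T' := by
    have := Finset.subset_set_image_iff.mp hT'sub
    obtain ⟨T, hT, hT2⟩ := this
    exact ⟨T, hT, hT2⟩
  set J : Ideal A := Ideal.span (T : Set A) with hJdef
  have hJI : J ≤ I := Ideal.span_le.mpr hTI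
  have hJfg : J.FG := ⟨T, rfl⟩
  have hJmap : J.map mk = I.map mk := by
    rw [hspan, hJdef, Ideal.map_span]
    have : (mk '' (T : Set A)) = (T' : Set _) := by
      rw [← hTT']; simp
    rw [this]
    exact hT'.symm
  -- I ≤ J ⊔ closure (I^2)
  have hI2 : I ≤ J ⊔ (I ^ 2).closure := by
    intro x hx
    have h1 : mk x ∈ J.map mk := by rw [hJmap]; exact Ideal.mem_map_of_mem mk hx
    have h2 : x ∈ (J.map mk).comap mk := h1
    rw [Ideal.comap_map_of_surjective mk Ideal.Quotient.mk_surjective] at h2
    have h3 : (⊥ : Ideal (A ⧸ (I ^ 2).closure)).comap mk = (I ^ 2).closure := by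
      rw [← RingHom.ker_eq_comap_bot, hmk, Ideal.mk_ker]
    rwa [h3] at h2
  -- induction: I ≤ J ⊔ closure (I^m) for all m ≥ 2
  have hIm : ∀ m, I ≤ J ⊔ (I ^ (m + 2)).closure := by
    intro m
    induction m with
    | zero => simpa using hI2
    | succ m ih =>
      have hsq : I ^ 2 ≤ J ⊔ (I ^ (m + 3)).closure := by
        rw [pow_two]
        calc I * I ≤ (J ⊔ (I ^ (m + 2)).closure) * I := Ideal.mul_mono_left ih
          _ = J * I ⊔ (I ^ (m + 2)).closure * I := Ideal.sup_mul _ _ _
          _ ≤ J ⊔ (I ^ (m + 3)).closure := by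
            apply sup_le_sup Ideal.mul_le_left
            calc (I ^ (m + 2)).closure * I ≤ (I ^ (m + 2)).closure * I.closure :=
                  Ideal.mul_mono_right (le_closure I)
              _ ≤ (I ^ (m + 2) * I).closure := closure_mul_le _ _
              _ = (I ^ (m + 3)).closure := by rw [← pow_succ]
      have hcl : (I ^ 2).closure ≤ J ⊔ (I ^ (m + 3)).closure :=
        closure_minimal hsq (isClosed_sup_of_isOpen J (hKopen _))
      exact hI2.trans (sup_le le_sup_left hcl)
  have hIJ : I ≤ J.closure := by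
    intro x hx
    apply mem_closure_of_forall_mem_sup
    intro U hU
    obtain ⟨n, hn⟩ := hKbasis U hU
    refine ⟨(I ^ (n + 2)).closure, ?_, hIm n hx⟩
    exact (closure_mono (Ideal.pow_le_pow_right (Nat.le_add_right n 2))).trans hn
  have hJcl : ∀ n, closure ((J ^ n : Ideal A) : Set A) = closure ((I ^ n : Ideal A) : Set A) := by
    intro n
    apply subset_antisymm
    · exact closure_mono (Ideal.pow_right_mono hJI n)
    · have h1 : I ^ n ≤ (J ^ n).closure := (Ideal.pow_right_mono hIJ n).trans (closure_pow_le J n)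
      exact closure_minimal h1 isClosed_closure
  have hadic : IsAdic J := by
    apply isAdic_of_fg_of_closure_pow_basis J hJfg
    · intro n; rw [hJcl]; exact hKopen n
    · intro U hU
      obtain ⟨n, hn⟩ := hKbasis U hU
      exact ⟨n, by rw [hJcl]; exact hn⟩
  exact ⟨⟨⟨J, hadic⟩, hT2, hC⟩, J, isIdealOfDefinition_of_isAdic hadic, hJfg⟩

end Groth.Agent.S10164
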