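import Groth.Statements.S10165
import Groth.Agent.Helper5.LinTopBasic

set_option autoImplicit false
universe u v
open LinTop

namespace Groth.Agent.S10165

open Groth.Agent.Helper5.LT in
/-- Let φ : A → B be a taut homomorphism of linearly topologized rings. If A is weakly pre-adic, then B
is weakly pre-adic. -/
theorem result
    (A : Type u) [CommRing A] [TopologicalSpace A] [IsTopologicalRing A] [IsLinearTopology A A]
    (B : Type v) [CommRing B] [TopologicalSpace B] [IsTopologicalRing B] [IsLinearTopology B B]
    (φ : A →+* B) (hφ : LinTop.IsTaut φ) (hA : LinTop.IsWeaklyPreadic A) :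
    LinTop.IsWeaklyPreadic B := by
  obtain ⟨-, I, hIo, hIb⟩ := hA
  refine ⟨inferInstance, I.map φ, ?_, ?_⟩
  · intro n
    rw [← Ideal.map_pow]
    have h1 := hφ.2.1 ((I ^ n).closure) (hIo n)
    have h2 := closure_map_closure φ hφ.1 (I ^ n)
    have h3 : closure ((((I ^ n).closure).map φ : Ideal B) : Set B)
        = closure (((I ^ n).map φ : Ideal B) : Set B) :=
      congrArg (fun J : Ideal B => (J : Set B)) h2
    rw [← h3]
    exact h1
  · intro U hU
    obtain ⟨I', hI', hI'U⟩ := hφ.2.2 U hU
    obtain ⟨n, hn⟩ := hIb _ (hI'.mem_nhds I'.zero_mem)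
    refine ⟨n, subset_trans ?_ hI'U⟩
    rw [← Ideal.map_pow]
    apply closure_mono
    apply Ideal.map_mono
    exact fun x hx => hn (subset_closure hx)

end Groth.Agent.S10165
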