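import Groth.Statements.S10166
import Groth.Agent.Helper5.LinTopBasic

set_option autoImplicit false
universe u v
open LinTop

namespace Groth.Agent.S10166

open Groth.Agent.Helper5.LT in
/-- Let φ : A → B be a taut homomorphism of linearly topologized rings such that for every open ideal I
of A, with J the closure of φ(I)B, the induced map A/I → B/J is faithfully flat. If B has a
countable fundamental system of open ideals, then so does A. -/
theorem result
    (A : Type u) [CommRing A] [TopologicalSpace A] [IsTopologicalRing A] [IsLinearTopology A A]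
    (B : Type v) [CommRing B] [TopologicalSpace B] [IsTopologicalRing B] [IsLinearTopology B B]
    (φ : A →+* B) (hφ : LinTop.IsTautFFlat φ) (hB : (nhds (0 : B)).IsCountablyGenerated) :
    (nhds (0 : A)).IsCountablyGenerated := by
  obtain ⟨x, hx, hbasis⟩ :=
    (IsLinearTopology.hasBasis_open_ideal (R := B)).exists_antitone_subbasis
  have hex : ∀ n : ℕ, ∃ I : Ideal A, IsOpen (I : Set A) ∧
      closure ((I.map φ : Ideal B) : Set B) ⊆ (x n : Set B) := fun n =>
    hφ.1.2.2 _ ((hx n).mem_nhds (x n).zero_mem)
  choose I hIo hIx using hex
  have hA : (nhds (0 : A)).HasBasis (fun _ : ℕ => True) (fun n => ((I n : Ideal A) : Set A)) := by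
    constructor
    intro U
    constructor
    · intro hU
      obtain ⟨I', hI', hI'U⟩ := exists_open_ideal_subset hU
      have hJ : IsOpen (closure ((I'.map φ : Ideal B) : Set B)) := hφ.1.2.1 I' hI'
      obtain ⟨n, -, hn⟩ := hbasis.1.mem_iff.mp (hJ.mem_nhds (subset_closure (Ideal.zero_mem _)))
      refine ⟨n, trivial, subset_trans ?_ hI'U⟩
      intro a ha
      have h1 : φ a ∈ (I'.map φ).closure := by
        apply hn
        apply hIx n
        exact subset_closure (Ideal.mem_map_of_mem φ ha)
      have h2 : a ∈ (I'.map φ).closure.comap φ := h1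
      rw [comap_closure_map_eq φ hφ I' hI'] at h2
      exact h2
    · rintro ⟨n, -, hn⟩
      exact Filter.mem_of_superset ((hIo n).mem_nhds (I n).zero_mem) hn
  exact hA.isCountablyGenerated

end Groth.Agent.S10166
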