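import Groth.Statements.S10168
import Groth.Agent.Helper5.LinTopBasic

set_option autoImplicit false
universe u v
open LinTop

namespace Groth.Agent.S10168

open Groth.Agent.Helper5.LT Filter in
/-- Let φ : A → B be a taut homomorphism of linearly topologized rings such that for every open ideal I
of A, with J the closure of φ(I)B, the induced map A/I → B/J is faithfully flat. If B is
pre-admissible, then A is pre-admissible. -/
theorem result
    (A : Type u) [CommRing A] [TopologicalSpace A] [IsTopologicalRing A] [IsLinearTopology A A]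
    (B : Type v) [CommRing B] [TopologicalSpace B] [IsTopologicalRing B] [IsLinearTopology B B]
    (φ : A →+* B) (hφ : LinTop.IsTautFFlat φ) (hB : LinTop.IsPreadmissible B) :
    LinTop.IsPreadmissible A := by
  obtain ⟨-, J, hJo, hJn⟩ := hB
  obtain ⟨I, hIo, hIJ⟩ := hφ.1.2.2 _ (hJo.mem_nhds J.zero_mem)
  refine ⟨inferInstance, I, ⟨hIo, ?_⟩⟩
  intro U hU
  obtain ⟨I', hI', hI'U⟩ := exists_open_ideal_subset hU
  have hJ' : IsOpen (closure ((I'.map φ : Ideal B) : Set B)) := hφ.1.2.1 I' hI'
  obtain ⟨n, hn, hJn'⟩ := hJn _ (hJ'.mem_nhds (subset_closure (Ideal.zero_mem _)))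
  refine ⟨n, hn, subset_trans ?_ hI'U⟩
  have hIJ' : I.map φ ≤ J := fun x hx => hIJ (subset_closure hx)
  have h1 : (I ^ n).map φ ≤ (I'.map φ).closure := by
    rw [Ideal.map_pow]
    exact (Ideal.pow_right_mono hIJ' n).trans hJn'
  have h2 : I ^ n ≤ (I'.map φ).closure.comap φ := Ideal.map_le_iff_le_comap.mp h1
  rw [comap_closure_map_eq φ hφ I' hI'] at h2
  exact h2

end Groth.Agent.S10168
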