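import Groth.Statements.S10169
import Groth.Agent.Helper5.LinTopFFlat

set_option autoImplicit false
universe u v
open LinTop

namespace Groth.Agent.S10169

open Groth.Agent.Helper5.LT in
/-- Let φ : A → B be a taut homomorphism of linearly topologized rings such that for every open ideal I
of A the induced ring map A/I → B/J, where J denotes the closure of φ(I)B, is faithfully flat. Weak
pre-adicness then descends: when B is weakly pre-adic, A is as well. -/
theorem result
    (A : Type u) [CommRing A] [TopologicalSpace A] [IsTopologicalRing A] [IsLinearTopology A A]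
    (B : Type v) [CommRing B] [TopologicalSpace B] [IsTopologicalRing B] [IsLinearTopology B B]
    (φ : A →+* B) (hφ : LinTop.IsTautFFlat φ) (hB : LinTop.IsWeaklyPreadic B) :
    LinTop.IsWeaklyPreadic A := by
  obtain ⟨-, J, hJo, hJb⟩ := hB
  have hJ1 : closure ((J : Ideal B) : Set B) ∈ nhds (0 : B) := by
    have := hJo 1
    rw [pow_one] at this
    exact this.mem_nhds (subset_closure J.zero_mem)
  obtain ⟨I, hIo, hIJ⟩ := hφ.1.2.2 _ hJ1
  have hIJ' : I.map φ ≤ J.closure := fun x hx => hIJ (subset_closure hx)
  -- closure(I B) is open, contains closure (J^m)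
  have hIBo : IsOpen (closure ((I.map φ : Ideal B) : Set B)) := hφ.1.2.1 I hIo
  obtain ⟨m, hm⟩ := hJb _ (hIBo.mem_nhds (subset_closure (Ideal.zero_mem _)))
  have hcl : ∀ n, (I ^ n).closure = ((I ^ n).map φ).closure.comap φ := fun n =>
    (comap_closure_map_eq_closure φ hφ (I ^ n)).symm
  have hopenB : ∀ n, IsOpen ((((I ^ n).map φ).closure : Ideal B) : Set B) := by
    intro n
    have h1 : J ^ (m * n) ≤ ((I ^ n).map φ).closure := by
      rw [pow_mul, Ideal.map_pow]
      have : J ^ m ≤ (I.map φ).closure := fun x hx => hm (subset_closure hx)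
      exact (Ideal.pow_right_mono this n).trans (closure_pow_le _ n)
    have h2 : (J ^ (m * n)).closure ≤ ((I ^ n).map φ).closure :=
      closure_minimal h1 isClosed_closure
    exact isOpen_of_le h2 (hJo _)
  refine ⟨inferInstance, I, fun n => ?_, fun U hU => ?_⟩
  · have : closure ((I ^ n : Ideal A) : Set A) = (((I ^ n).closure : Ideal A) : Set A) := rfl
    rw [this, hcl n]
    exact (hopenB n).preimage hφ.1.1
  · obtain ⟨I', hI', hI'U⟩ := exists_open_ideal_subset hU
    have hI'B : IsOpen (closure ((I'.map φ : Ideal B) : Set B)) := hφ.1.2.1 I' hI'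
    obtain ⟨n, hn⟩ := hJb _ (hI'B.mem_nhds (subset_closure (Ideal.zero_mem _)))
    refine ⟨n, subset_trans ?_ hI'U⟩
    have h1 : ((I ^ n).map φ).closure ≤ (I'.map φ).closure := by
      have h2 : (I ^ n).map φ ≤ (J ^ n).closure := by
        rw [Ideal.map_pow]
        exact (Ideal.pow_right_mono hIJ' n).trans (closure_pow_le J n)
      have h3 : ((I ^ n).map φ).closure ≤ (J ^ n).closure := closure_minimal h2 isClosed_closure
      exact h3.trans hn
    have h4 : (I ^ n).closure ≤ I' := by
      rw [hcl n, ← comap_closure_map_eq φ hφ I' hI']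
      exact Ideal.comap_mono h1
    exact h4

end Groth.Agent.S10169
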