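import Groth.Statements.S10170
import Groth.Agent.Helper5.LinTopFFlat

set_option autoImplicit false
universe u v
open LinTop

namespace Groth.Agent.S10170

open Groth.Agent.Helper5.LT

/-- every element of `I.map φ` lies in the extension of a finitely generated subideal -/
theorem exists_fg_le_mem_map {A : Type u} [CommRing A] {B : Type v} [CommRing B] (φ : A →+* B)
    (I : Ideal A) {y : B} (hy : y ∈ I.map φ) :
    ∃ I₀ : Ideal A, I₀ ≤ I ∧ I₀.FG ∧ y ∈ I₀.map φ := by
  have hy' : y ∈ Submodule.span B (φ '' (I : Set A)) := hy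
  clear hy
  induction hy' using Submodule.span_induction with
  | mem x hx =>
    obtain ⟨i, hi, rfl⟩ := hx
    refine ⟨Ideal.span {i}, (Ideal.span_singleton_le_iff_mem I).mpr hi, ⟨{i}, by simp⟩, ?_⟩
    exact Ideal.mem_map_of_mem φ (Ideal.mem_span_singleton_self i)
  | zero => exact ⟨⊥, bot_le, Submodule.fg_bot, Ideal.zero_mem _⟩
  | add x y _ _ hx hy =>
    obtain ⟨I₁, h1, h1fg, h1m⟩ := hx
    obtain ⟨I₂, h2, h2fg, h2m⟩ := hy
    refine ⟨I₁ ⊔ I₂, sup_le h1 h2, Submodule.FG.sup h1fg h2fg, ?_⟩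
    rw [Ideal.map_sup]
    exact Submodule.add_mem_sup h1m h2m
  | smul c x _ hx =>
    obtain ⟨I₁, h1, h1fg, h1m⟩ := hx
    exact ⟨I₁, h1, h1fg, Ideal.mul_mem_left _ c h1m⟩

/-- Let φ : A → B be a taut homomorphism of linearly topologized rings such that for every open ideal I
of A the induced ring map A/I → B/J, where J denotes the closure of φ(I)B, is faithfully flat.
Suppose A is Hausdorff and complete, and B is adic with some finitely generated ideal of definition.
Then A is adic, and some finitely generated ideal of A is an ideal of definition. -/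
theorem result
    (A : Type u) [CommRing A] [UniformSpace A] [IsUniformAddGroup A] [IsTopologicalRing A] [IsLinearTopology A A] [T2Space A] [CompleteSpace A]
    (B : Type v) [CommRing B] [UniformSpace B] [IsUniformAddGroup B] [IsTopologicalRing B] (hB : LinTop.IsAdicRing B)
    (hJ : ∃ J : Ideal B, LinTop.IsIdealOfDefinition B J ∧ J.FG)
    (φ : A →+* B) (hφ : LinTop.IsTautFFlat φ) :
    LinTop.IsAdicRing A ∧ ∃ I : Ideal A, LinTop.IsIdealOfDefinition A I ∧ I.FG := by
  classical
  obtain ⟨⟨J₀, hJ₀⟩, -, -⟩ := hB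
  obtain ⟨J, hJdef, hJfg⟩ := hJ
  -- J is adic
  have hJadic : IsAdic J := by
    obtain ⟨k, hk⟩ := IsAdic.exists_pow_subset hJ₀ (hJdef.1.mem_nhds J.zero_mem)
    obtain ⟨n, -, hn⟩ := hJdef.2 _ ((IsAdic.isOpen hJ₀).mem_nhds J₀.zero_mem)
    exact isAdic_of_pow_le hJ₀ (n := k) (m := n) hk hn
  -- choose I
  obtain ⟨I, hIo, hIJ⟩ := hφ.1.2.2 _ (hJdef.1.mem_nhds J.zero_mem)
  have hIBo : IsOpen (closure ((I.map φ : Ideal B) : Set B)) := hφ.1.2.1 I hIo
  obtain ⟨m, hm⟩ := IsAdic.exists_pow_subset hJadic (hIBo.mem_nhds (subset_closure (Ideal.zero_mem _)))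
  -- J^m is finitely generated
  have hJmfg : (J ^ m).FG := hJfg.pow
  obtain ⟨S, hS⟩ := hJmfg
  have hJm1o : IsOpen ((J ^ (m + 1) : Ideal B) : Set B) := IsAdic.isOpen_pow hJadic _
  have hdecomp : ∀ h ∈ S, ∃ I₀ : Ideal A, I₀ ≤ I ∧ I₀.FG ∧ h ∈ I₀.map φ ⊔ J ^ (m + 1) := by
    intro h hh
    have h1 : h ∈ J ^ m := by rw [← hS]; exact Ideal.subset_span hh
    have h2 : h ∈ closure ((I.map φ : Ideal B) : Set B) := hm h1
    obtain ⟨y, hy, z, hz, hyz⟩ := exists_add_of_mem_closure hJm1o h2
    obtain ⟨I₀, h0le, h0fg, h0m⟩ := exists_fg_le_mem_map φ I hy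
    exact ⟨I₀, h0le, h0fg, by rw [hyz]; exact Submodule.add_mem_sup h0m hz⟩
  choose! F hFle hFfg hFmem using hdecomp
  let I' : Ideal A := S.sup F
  have hI'fg : I'.FG := by
    apply Submodule.fg_finset_sup
    exact fun h hh => hFfg h hh
  have hI'le : I' ≤ I := Finset.sup_le (fun h hh => hFle h hh)
  set P : Ideal B := I'.map φ with hP
  have hPJ : P ≤ J := by
    intro x hx
    exact hIJ (subset_closure (Ideal.map_mono hI'le hx))
  have hstep1 : J ^ m ≤ P ⊔ J ^ (m + 1) := by
    rw [← hS, Ideal.span_le]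
    intro h hh
    have h1 := hFmem h hh
    have h2 : (F h).map φ ≤ P := Ideal.map_mono (Finset.le_sup (f := F) hh)
    exact sup_le_sup_right h2 _ h1
  have hstepk : ∀ k, J ^ m ≤ P ⊔ J ^ (m + 1 + k) := by
    intro k
    induction k with
    | zero => simpa using hstep1
    | succ k ih =>
      have h1 : J ^ (m + 1) ≤ P ⊔ J ^ (m + 1 + (k + 1)) := by
        calc J ^ (m + 1) = J * J ^ m := by rw [pow_succ']
          _ ≤ J * (P ⊔ J ^ (m + 1 + k)) := Ideal.mul_mono_right ih
          _ = J * P ⊔ J * J ^ (m + 1 + k) := Ideal.mul_sup _ _ _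
          _ ≤ P ⊔ J ^ (m + 1 + (k + 1)) := by
            apply sup_le_sup Ideal.mul_le_right
            rw [← pow_succ']
            exact le_of_eq (by ring_nf)
      exact hstep1.trans (sup_le le_sup_left h1)
  have hJmP : J ^ m ≤ P.closure := by
    intro x hx
    apply mem_closure_of_forall_mem_sup
    intro U hU
    obtain ⟨n, hn⟩ := IsAdic.exists_pow_subset hJadic hU
    refine ⟨J ^ (m + 1 + n), ?_, hstepk n hx⟩
    exact subset_trans (Ideal.pow_le_pow_right (by omega)) hn
  -- closure (I'^n) = comap of closure (P^n)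
  have hcl : ∀ n, (I' ^ n).closure = ((I' ^ n).map φ).closure.comap φ := fun n =>
    (comap_closure_map_eq_closure φ hφ (I' ^ n)).symm
  have hopenB : ∀ n, IsOpen ((((I' ^ n).map φ).closure : Ideal B) : Set B) := by
    intro n
    have h1 : J ^ (m * n) ≤ ((I' ^ n).map φ).closure := by
      rw [pow_mul, Ideal.map_pow]
      exact (Ideal.pow_right_mono hJmP n).trans (closure_pow_le _ n)
    exact isOpen_of_le h1 (IsAdic.isOpen_pow hJadic _)
  have hopenA : ∀ n : ℕ, IsOpen (closure ((I' ^ n : Ideal A) : Set A)) := by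
    intro n
    have : closure ((I' ^ n : Ideal A) : Set A) = (((I' ^ n).closure : Ideal A) : Set A) := rfl
    rw [this, hcl n]
    exact (hopenB n).preimage hφ.1.1
  have hbasisA : ∀ U ∈ nhds (0 : A), ∃ n : ℕ, closure ((I' ^ n : Ideal A) : Set A) ⊆ U := by
    intro U hU
    obtain ⟨I'', hI'', hI''U⟩ := exists_open_ideal_subset hU
    have hI''B : IsOpen (closure ((I''.map φ : Ideal B) : Set B)) := hφ.1.2.1 I'' hI''
    obtain ⟨n, hn⟩ := IsAdic.exists_pow_subset hJadic (hI''B.mem_nhds (subset_closure (Ideal.zero_mem _)))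
    refine ⟨n, subset_trans ?_ hI''U⟩
    have h1 : ((I' ^ n).map φ).closure ≤ (I''.map φ).closure := by
      have h2 : (I' ^ n).map φ ≤ (I''.map φ).closure := by
        rw [Ideal.map_pow]
        exact (Ideal.pow_right_mono hPJ n).trans hn
      exact closure_minimal h2 isClosed_closure
    have h4 : (I' ^ n).closure ≤ I'' := by
      rw [hcl n, ← comap_closure_map_eq φ hφ I'' hI'']
      exact Ideal.comap_mono h1
    exact h4
  have hadic : IsAdic I' := isAdic_of_fg_of_closure_pow_basis I' hI'fg hopenA hbasisA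
  exact ⟨⟨⟨I', hadic⟩, inferInstance, inferInstance⟩, I', isIdealOfDefinition_of_isAdic hadic, hI'fg⟩

end Groth.Agent.S10170
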