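import Groth.Statements.S10173
import Groth.Agent.Helper5.AdicModule

set_option autoImplicit false
universe u v

namespace Groth.Agent.S10173

open Groth.Agent.Helper5.GC UniformSpace Topology

/-- Let R be a commutative ring, I a finitely generated ideal and M a topological R-module (additive
uniform structure, each scalar acting uniformly continuously) having an open submodule M' whose
topology is the I-adic one, i.e. the I^n M' are open in M and form a fundamental system of
neighbourhoods of 0. Then the separated completion M^ has an open submodule whose topology is I-adic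
in the same sense, and for every n ≥ 1 the map M → M^/I^n M^ is surjective with kernel I^n M,
identifying M^/I^n M^ with M/I^n M. -/
theorem result
    {R : Type u} [CommRing R] (I : Ideal R) (hI : I.FG)
    {M : Type v} [AddCommGroup M] [Module R M] [UniformSpace M] [IsUniformAddGroup M]
    [UniformContinuousConstSMul R M]
    (M' : Submodule R M) (hopen : ∀ n : ℕ, IsOpen ((I ^ n • M' : Submodule R M) : Set M))
    (hbasis : ∀ U ∈ nhds (0 : M), ∃ n : ℕ, ((I ^ n • M' : Submodule R M) : Set M) ⊆ U) :
    (∃ M'' : Submodule R (UniformSpace.Completion M),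
        (∀ n : ℕ, IsOpen ((I ^ n • M'' : Submodule R (UniformSpace.Completion M)) :
          Set (UniformSpace.Completion M))) ∧
        ∀ U ∈ nhds (0 : UniformSpace.Completion M), ∃ n : ℕ,
          ((I ^ n • M'' : Submodule R (UniformSpace.Completion M)) :
            Set (UniformSpace.Completion M)) ⊆ U) ∧
      ∀ n : ℕ, 0 < n →
        Function.Surjective ((QuotientAddGroup.mk' (I ^ n • ⊤ : Submodule R (UniformSpace.Completion M)).toAddSubgroup).comp
          (UniformSpace.Completion.toCompl : M →+ UniformSpace.Completion M)) ∧
        ((QuotientAddGroup.mk' (I ^ n • ⊤ : Submodule R (UniformSpace.Completion M)).toAddSubgroup).comp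
          (UniformSpace.Completion.toCompl : M →+ UniformSpace.Completion M)).ker = (I ^ n • ⊤ : Submodule R M).toAddSubgroup := by
  have hCeq := Cn_eq_smul I M' hopen hbasis hI
  refine ⟨⟨Cn I M' 0, fun n => ?_, fun U hU => ?_⟩, fun n _ => ⟨?_, ?_⟩⟩
  · rw [← hCeq n]; exact Cn_isOpen I M' hopen n
  · obtain ⟨n, hn⟩ := Cn_basis I M' hbasis hU
    exact ⟨n, by rw [← hCeq n]; exact hn⟩
  · -- surjectivity
    intro q
    obtain ⟨x, rfl⟩ := QuotientAddGroup.mk'_surjective _ q
    have hxU : {y | x - y ∈ Cn I M' n} ∈ 𝓝 x := by
      have hc : Continuous fun y : Completion M => x - y := by fun_prop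
      have := hc.tendsto x
      rw [sub_self] at this
      exact this (Cn_mem_nhds I M' hopen n)
    obtain ⟨m, hm⟩ := (Completion.denseRange_coe (α := M)).mem_nhds hxU
    have hm' : x - (m : Completion M) ∈ Cn I M' n := hm
    refine ⟨m, ?_⟩
    simp only [AddMonoidHom.comp_apply, QuotientAddGroup.mk'_apply]
    rw [QuotientAddGroup.eq]
    have h1 : Cn I M' n ≤ (I ^ n • ⊤ : Submodule R (Completion M)) := by
      rw [hCeq n]; exact Submodule.smul_mono le_rfl le_top
    have h2 : -(m : Completion M) + x ∈ (I ^ n • ⊤ : Submodule R (Completion M)) := by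
      have := h1 hm'
      rwa [sub_eq_neg_add] at this
    exact h2
  · -- kernel
    ext m
    rw [AddMonoidHom.mem_ker, AddMonoidHom.comp_apply, QuotientAddGroup.mk'_apply,
      QuotientAddGroup.eq_zero_iff]
    show ((m : Completion M) ∈ (I ^ n • ⊤ : Submodule R (Completion M))) ↔
      m ∈ (I ^ n • ⊤ : Submodule R M)
    constructor
    · intro hm
      -- ⊤ = range ⊔ C 0
      have htop : (⊤ : Submodule R (Completion M)) ≤
          LinearMap.range (toComplₗ (R := R) (M := M)) ⊔ Cn I M' 0 := by
        intro x _
        have hxU : {y | x - y ∈ Cn I M' 0} ∈ 𝓝 x := by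
          have hc : Continuous fun y : Completion M => x - y := by fun_prop
          have := hc.tendsto x
          rw [sub_self] at this
          exact this (Cn_mem_nhds I M' hopen 0)
        obtain ⟨m0, hm0⟩ := (Completion.denseRange_coe (α := M)).mem_nhds hxU
        have hm0' : x - (m0 : Completion M) ∈ Cn I M' 0 := hm0
        rw [Submodule.mem_sup]
        exact ⟨(m0 : Completion M), ⟨m0, rfl⟩, x - (m0 : Completion M), hm0', by abel⟩
      have h1 : (I ^ n • ⊤ : Submodule R (Completion M)) ≤
          (I ^ n • ⊤ : Submodule R M).map (toComplₗ (R := R)) ⊔ Cn I M' n := by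
        calc (I ^ n • ⊤ : Submodule R (Completion M))
            ≤ I ^ n • (LinearMap.range (toComplₗ (R := R) (M := M)) ⊔ Cn I M' 0) :=
              Submodule.smul_mono le_rfl htop
          _ = I ^ n • LinearMap.range (toComplₗ (R := R) (M := M)) ⊔ I ^ n • Cn I M' 0 :=
              Submodule.smul_sup _ _ _
          _ = (I ^ n • ⊤ : Submodule R M).map (toComplₗ (R := R)) ⊔ Cn I M' n := by
              rw [← hCeq n, Submodule.map_smul'', Submodule.map_top]
      obtain ⟨y, ⟨m', hm', rfl⟩, c, hc, hyc⟩ := Submodule.mem_sup.mp (h1 hm)
      -- ι (m - m') = c ∈ closure (ι '' N n)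
      have hc' : ((m - m' : M) : Completion M) ∈
          closure ((fun m : M => (m : Completion M)) '' ((I ^ n • M' : Submodule R M) : Set M)) := by
        have : ((m - m' : M) : Completion M) = c := by
          rw [Completion.coe_sub, ← hyc]; simp
        rw [this]; exact hc
      have hind : IsInducing (fun m : M => (m : Completion M)) :=
        (Completion.isUniformInducing_coe M).isInducing
      have hclosed : IsClosed ((I ^ n • M' : Submodule R M) : Set M) :=
        AddSubgroup.isClosed_of_isOpen (I ^ n • M' : Submodule R M).toAddSubgroup (hopen n)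
      have hmem : m - m' ∈ (I ^ n • M' : Submodule R M) := by
        have := hind.closure_eq_preimage_closure_image ((I ^ n • M' : Submodule R M) : Set M)
        rw [hclosed.closure_eq] at this
        have h3 : m - m' ∈ ((I ^ n • M' : Submodule R M) : Set M) := by
          rw [this]; exact hc'
        exact h3
      have hle : (I ^ n • M' : Submodule R M) ≤ (I ^ n • ⊤ : Submodule R M) :=
        Submodule.smul_mono le_rfl le_top
      have : m = m' + (m - m') := by abel
      rw [this]
      exact Submodule.add_mem _ hm' (hle hmem)
    · intro hm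
      have h1 : (toComplₗ (R := R) m : Completion M) ∈
          (I ^ n • ⊤ : Submodule R M).map (toComplₗ (R := R)) := ⟨m, hm, rfl⟩
      rw [Submodule.map_smul''] at h1
      exact Submodule.smul_mono le_rfl le_top h1

end Groth.Agent.S10173
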