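import Groth.Statements.S10178
import Groth.Agent.Helper4.AlgSpQC2
import Groth.Agent.Helper4.AlgSpPtsDesc

set_option autoImplicit false
universe u
open CategoryTheory CategoryTheory.Limits AlgebraicGeometry Topology TopologicalSpace
open AlgSp AlgSp.Points

namespace Groth.Agent.S10178

/-- Let X be an algebraic space over a scheme S and (U, R, s, t, p) a presentation of X (s, t : R ⟶ U an
etale equivalence relation of schemes over S, p : h_U ⟶ X representable etale and surjective, and
h_R with h_t, h_s the fibre product h_U ×_X h_U). Then two points of U have the same image in |X| if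
and only if they are the two projections of a point of R; together with surjectivity of |U| → |X|
this identifies |X| with the quotient of |U| by the image of |R|. -/
theorem result {S : Scheme.{u}} (X : AlgSp.Space S) {R U : Over S}
    (s t : R ⟶ U) (p : (AlgSp.yon S).obj U ⟶ X.obj) (hp : AlgSp.IsPresentation s t p)
    (u u' : ↥U.left) :
    AlgSp.Points.ofPt p u = AlgSp.Points.ofPt p u' ↔ ∃ r : ↥R.left, t.left r = u ∧ s.left r = u' := by
  constructor
  · intro h
    have e : AlgSp.Points.map p (AlgSp.Points.schemeHomeo U u) =
        AlgSp.Points.map p (AlgSp.Points.schemeHomeo U u') := by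
      rw [Groth.Agent.Helper4.AlgSpQC2.ofPt_eq_map_schemeHomeo,
        Groth.Agent.Helper4.AlgSpQC2.ofPt_eq_map_schemeHomeo]
      exact h
    obtain ⟨q, hq1, hq2⟩ := Groth.Agent.Helper4.AlgSpPtsDesc.exists_point_of_isPullback
      hp.isPullback _ _ e
    obtain ⟨r, rfl⟩ := (AlgSp.Points.schemeHomeo R).surjective q
    rw [AlgSp.Points.map_yon_map_apply] at hq1 hq2
    exact ⟨r, (AlgSp.Points.schemeHomeo U).injective hq1,
      (AlgSp.Points.schemeHomeo U).injective hq2⟩
  · rintro ⟨r, rfl, rfl⟩
    rw [← Groth.Agent.Helper4.AlgSpPtsDesc.ofPt_yon_map_comp,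
      ← Groth.Agent.Helper4.AlgSpPtsDesc.ofPt_yon_map_comp, hp.isPullback.w]

end Groth.Agent.S10178
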