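import Groth.Statements.S10179
import Groth.Agent.Helper4.AlgSpQC2
import Groth.Agent.Helper4.AlgSpPts

set_option autoImplicit false
universe u
open CategoryTheory CategoryTheory.Limits AlgebraicGeometry Topology TopologicalSpace
open AlgSp AlgSp.Points

namespace Groth.Agent.S10179

/-- For an algebraic space X over a scheme S, every point x of |X| has a fundamental system of
quasi-compact open neighbourhoods: every open subset of |X| containing x contains a quasi-compact
open subset containing x. In particular |X| is locally quasi-compact. -/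
theorem result {S : Scheme.{u}} (X : AlgSp.Space S) (x : AlgSp.Points X.obj)
    (W : Set (AlgSp.Points X.obj)) (hW : IsOpen W) (hx : x ∈ W) :
    ∃ V : Set (AlgSp.Points X.obj), IsOpen V ∧ IsCompact V ∧ x ∈ V ∧ V ⊆ W := by
  obtain ⟨U, p, hpe, hps⟩ := X.property.atlas
  have h1 : AlgSp.Points.ofPt p = AlgSp.Points.map p ∘ AlgSp.Points.schemeHomeo U := by
    funext t
    exact (Groth.Agent.Helper4.AlgSpQC2.ofPt_eq_map_schemeHomeo p t).symm
  have hsurj : Function.Surjective (AlgSp.Points.ofPt p) := by
    rw [h1]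
    exact (Groth.Agent.Helper4.AlgSpPts.isSurjectiveMor_of_repWith p hps).comp
      (AlgSp.Points.schemeHomeo U).surjective
  have hopen : IsOpenMap (AlgSp.Points.ofPt p) := by
    rw [h1]
    exact (Groth.Agent.Helper4.AlgSpQC2.isOpenMor_of_repWith_etale X.property p hpe).comp
      (AlgSp.Points.schemeHomeo U).isOpenMap
  obtain ⟨u, rfl⟩ := hsurj x
  have hpre : IsOpen (AlgSp.Points.ofPt p ⁻¹' W) := hW.preimage (AlgSp.Points.continuous_ofPt p)
  obtain ⟨A, hA, huA, hAW⟩ :=
    (U.left.isBasis_affineOpens.exists_subset_of_mem_open (show u ∈ AlgSp.Points.ofPt p ⁻¹' W from hx) hpre)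
  obtain ⟨A', hA', rfl⟩ := hA
  refine ⟨AlgSp.Points.ofPt p '' (A' : Set U.left), hopen _ A'.2, ?_, ⟨u, huA, rfl⟩, ?_⟩
  · exact (IsAffineOpen.isCompact hA').image (AlgSp.Points.continuous_ofPt p)
  · rintro _ ⟨a, ha, rfl⟩
    exact hAW ha

end Groth.Agent.S10179
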