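import Groth.Statements.S10188
-- (no helper imports)

set_option autoImplicit false
universe u
open CategoryTheory CategoryTheory.Limits AlgebraicGeometry Topology TopologicalSpace
open AlgSp

namespace Groth.Agent.S10188

/-- Let P be a property of schemes that is local in the etale topology (for every scheme V and every
etale covering family of V, V has P if and only if all members have P), and let X be an algebraic
space over a scheme S. Then X has P etale locally (some surjective etale chart from a scheme with P)
if and only if every scheme admitting a representable etale map to X has P. -/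
theorem result {S : Scheme.{u}} (P : Scheme.{u} → Prop)
    (hP : ∀ (V : Scheme.{u}) (𝒰 : Scheme.Cover.{u} (Scheme.precoverage @Etale) V), P V ↔ ∀ i, P (𝒰.X i))
    (X : AlgSp.Space S) :
    AlgSp.EtaleLocally P X.obj ↔
      ∀ (U : Over S) (a : (AlgSp.yon S).obj U ⟶ X.obj), AlgSp.RepWith @Etale a → P U.left := by
  constructor
  · rintro ⟨U, p, hpe, hps, hPU⟩ V a ha
    have hr := hpe.rep
    have hpb : IsPullback (hr.fst a) ((AlgSp.yon S).map (hr.snd a)) p a := hr.isPullback a
    obtain ⟨c, hc⟩ := (AlgSp.yon S).map_surjective (hr.fst a)
    rw [← hc] at hpb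
    have hse : Etale (hr.snd a).left := hpe.property _ _ _ hpb
    have hss : Surjective (hr.snd a).left := hps.property _ _ _ hpb
    have hce : Etale c.left := ha.property _ _ _ hpb.flip
    generalize hr.snd a = e at hpb hse hss
    -- P of the fibre product
    have hPW : P (hr.pullback a).left := by
      let 𝒰 : Scheme.Cover.{u} (Scheme.precoverage @Etale) U.left :=
        Scheme.Cover.mkOfCovers (ULift.{u} Bool)
          (fun b => if b.down then (hr.pullback a).left else U.left)
          (fun b => match b with
            | ⟨true⟩ => c.left
            | ⟨false⟩ => 𝟙 U.left)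
          (fun x => ⟨⟨false⟩, x, rfl⟩)
          (fun b => match b with
            | ⟨true⟩ => hce
            | ⟨false⟩ => (inferInstance : Etale (𝟙 U.left)))
      exact ((hP U.left 𝒰).1 hPU) ⟨true⟩
    let 𝒱 : Scheme.Cover.{u} (Scheme.precoverage @Etale) V.left :=
      Scheme.Cover.mkOfCovers PUnit.{u+1} (fun _ => (hr.pullback a).left) (fun _ => e.left)
        (fun x => ⟨⟨⟩, hss.surj x⟩) (fun _ => hse)
    exact (hP V.left 𝒱).2 (fun _ => hPW)
  · intro h
    obtain ⟨U, p, hpe, hps⟩ := X.property.atlas
    exact ⟨U, p, hpe, hps, h U p hpe⟩

end Groth.Agent.S10188
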