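import Groth.Statements.S10211
import Groth.Agent.Helper4.AlgSpQC2
import Groth.Agent.Helper4.AlgSpPts

set_option autoImplicit false
universe u
open CategoryTheory CategoryTheory.Limits AlgebraicGeometry Topology TopologicalSpace
open AlgSp

namespace Groth.Agent.S10211

/-- If f : X ⟶ Y is an etale morphism of algebraic spaces over a scheme S, then the induced map of
topological spaces |X| → |Y| is open. -/
theorem result {S : Scheme.{u}} {X Y : AlgSp.Space S} (f : X ⟶ Y)
    (hf : AlgSp.IsEtaleMor f.hom) :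
    IsOpenMap (AlgSp.Points.map f.hom) := by
  obtain ⟨U, p, hpe, hps⟩ := X.property.atlas
  have h1 : AlgSp.RepWith @Etale (p ≫ f.hom) := hf p hpe
  have ho : IsOpenMap (AlgSp.Points.map (p ≫ f.hom)) :=
    Groth.Agent.Helper4.AlgSpQC2.isOpenMor_of_repWith_etale Y.property _ h1
  have surj : Function.Surjective (AlgSp.Points.map p) :=
    Groth.Agent.Helper4.AlgSpPts.isSurjectiveMor_of_repWith p hps
  intro W hW
  have e : AlgSp.Points.map f.hom '' W =
      AlgSp.Points.map (p ≫ f.hom) '' (AlgSp.Points.map p ⁻¹' W) := by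
    ext y
    constructor
    · rintro ⟨x, hx, rfl⟩
      obtain ⟨t, rfl⟩ := surj x
      exact ⟨t, hx, AlgSp.Points.map_comp _ _ _⟩
    · rintro ⟨t, ht, rfl⟩
      exact ⟨AlgSp.Points.map p t, ht, (AlgSp.Points.map_comp _ _ _).symm⟩
  rw [e]
  exact ho _ (hW.preimage (AlgSp.Points.continuous_map p))

end Groth.Agent.S10211
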