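import Groth.Statements.S10214
import Groth.Agent.Helper5.AlgSpSigma
import Groth.Agent.Helper5.AlgSpOpen

set_option autoImplicit false
universe u
open CategoryTheory CategoryTheory.Limits AlgebraicGeometry Topology TopologicalSpace
open AlgSp

namespace Groth.Agent.S10214

/-- Every algebraic space X over a scheme S has a Zariski covering by open subspaces X_i such that each
X_i has a surjective etale map from an affine scheme; moreover the affine schemes may be taken to
map into affine opens of S. -/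
theorem result {S : Scheme.{u}} (X : AlgSp.Space S) :
    ∃ (ι : Type u) (Xi : ι → AlgSp.Space S) (j : ∀ i, Xi i ⟶ X),
      AlgSp.IsZarCover (fun i => (Xi i).obj) (fun i => (j i).hom) ∧
        ∀ i, ∃ (U : Over S) (p : (AlgSp.yon S).obj U ⟶ (Xi i).obj), IsAffine U.left ∧
          AlgSp.RepWith @Etale p ∧ AlgSp.RepWith @Surjective p ∧
          ∃ W : S.Opens, IsAffineOpen W ∧ ∀ v : ↥U.left, U.hom v ∈ W := by
  obtain ⟨U₀, p₀, hpe, hps⟩ := X.property.atlas
  obtain ⟨ι, V, hV, c, hce, hcs, hW⟩ := Groth.Agent.Helper5.AlgSpSigma.exists_sigma_affine_cover U₀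
  -- the charts
  let Ui : ι → Over S := fun i => Over.mk (Sigma.ι V i ≫ c ≫ U₀.hom)
  let σ : ∀ i, Ui i ⟶ U₀ := fun i => Over.homMk (Sigma.ι V i ≫ c) (by simp [Ui])
  let a : ∀ i, (AlgSp.yon S).obj (Ui i) ⟶ X.obj := fun i => (AlgSp.yon S).map (σ i) ≫ p₀
  have hae : ∀ i, AlgSp.RepWith @Etale (a i) := fun i =>
    Groth.Agent.Helper4.AlgSpSrc.repWith_comp _
      ((AlgSp.repWith_yon_map_iff _ _).2 (by
        show Etale (Sigma.ι V i ≫ c)
        infer_instance)) hpe
  refine ⟨ι, fun i => ⟨Groth.Agent.Helper4.AlgSpOpenImage.img (a i),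
      Groth.Agent.Helper4.AlgSpOpenImage.isAlgSpace_img (a i) X.property.diag (hae i)⟩,
    fun i => ObjectProperty.homMk (Groth.Agent.Helper4.AlgSpOpenImage.imgι (a i)), ⟨?_, ?_⟩, ?_⟩
  · intro i
    exact Groth.Agent.Helper4.AlgSpOpenImage.imgι_isOpenImmersion (a i) (hae i)
  · intro x
    obtain ⟨u, rfl⟩ := Groth.Agent.Helper5.AlgSpOpen.ofPt_surjective_of_repWith p₀ hps x
    obtain ⟨t, rfl⟩ := hcs.surj u
    obtain ⟨i, v, hv⟩ := (sigmaOpenCover V).exists_eq t
    have hv' : (Sigma.ι V i) v = t := hv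
    subst hv'
    refine ⟨i, ?_⟩
    show _ ∈ Set.range (AlgSp.Points.map (Groth.Agent.Helper4.AlgSpOpenImage.imgι (a i)))
    rw [Groth.Agent.Helper5.AlgSpOpen.range_imgι _ (hae i)]
    refine ⟨v, ?_⟩
    exact Groth.Agent.Helper4.AlgSpPtsDesc.ofPt_yon_map_comp (σ i) p₀ v
  · intro i
    obtain ⟨W, hWa, hWv⟩ := hW i
    have : IsAffine (Ui i).left := hV i
    exact ⟨Ui i, Groth.Agent.Helper4.AlgSpOpenImage.toImg (a i), hV i,
      Groth.Agent.Helper4.AlgSpOpenImage.toImg_etale (a i) (hae i),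
      Groth.Agent.Helper4.AlgSpOpenImage.toImg_surjective (a i) (hae i), W, hWa, hWv⟩

end Groth.Agent.S10214
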