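import Groth.Statements.S10226
import Groth.Agent.Helper5.EtStH11

set_option autoImplicit false
universe u
open CategoryTheory CategoryTheory.Limits AlgebraicGeometry Topology TopologicalSpace
open AlgSp

namespace Groth.Agent.S10226

/-- Let X be a Noetherian algebraic space over a scheme S (quasi-compact, with quasi-compact diagonal
over S, and locally Noetherian) and x̄ a geometric point of X. Then the etale local ring of X at x̄
is a Noetherian local ring. -/
theorem result {S : Scheme.{u}} (X : AlgSp.Space S)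
    (hqc : AlgSp.IsQuasiCompactSp X.obj) (hqs : AlgSp.IsQuasiSeparatedSp X.obj) (hX : AlgSp.IsLocNoethSp X.obj)
    (p : AlgSp.FieldPt X.obj) (hp : p.IsGeometric) :
    IsNoetherianRing ↥(AlgSp.OEtStalk p) ∧ IsLocalRing ↥(AlgSp.OEtStalk p) := by
  obtain ⟨U, a, hae, has, hN⟩ := hX
  obtain ⟨r, hr⟩ := Groth.Agent.Helper4.AlgSpPts.isSurjectiveMor_of_repWith _ has (AlgSp.Points.mk p)
  obtain ⟨u, rfl⟩ := (AlgSp.Points.schemeHomeo U).surjective r
  have hu : AlgSp.Points.ofPt a u = AlgSp.Points.mk p := by
    rw [← Groth.Agent.Helper4.AlgSpQC2.ofPt_eq_map_schemeHomeo]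
    exact hr
  haveI : IsLocallyNoetherian U.left := hN
  refine ⟨(Groth.Agent.Helper5.EtStH.chart_props X p hp a hae u hu).2.2.1.1 inferInstance, ?_⟩
  exact (Groth.Agent.Helper5.EtSt.strictlyHenselian_OEtStalk X p hp).1

end Groth.Agent.S10226
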