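import Groth.Statements.S10227
import Groth.Agent.Helper5.EtStH11
import Groth.Agent.Helper5.ElemNbhd7
import Groth.Agent.S9236

set_option autoImplicit false
universe u
open CategoryTheory CategoryTheory.Limits AlgebraicGeometry Topology TopologicalSpace
open AlgSp

namespace Groth.Agent.S10227

/-- (1) ⇔ (4) ⇔ (5): let X be an algebraic space over a scheme S and x ∈ |X|. The following are
equivalent: for every scheme U, every etale h_U ⟶ X and every point u of U over x, the local ring of
U at u has a unique minimal prime; for every such (U, u), the local ring of U at u is geometrically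
unibranch; for every geometric point x̄ over x, the etale local ring of X at x̄ has a unique minimal
prime. -/
theorem result {S : Scheme.{u}} (X : AlgSp.Space S) (x : AlgSp.Points X.obj) :
    ((∀ (U : Over S) (a : (AlgSp.yon S).obj U ⟶ X.obj) (u : ↥U.left),
        AlgSp.RepWith @Etale a → AlgSp.Points.ofPt a u = x → CAlgX.HasUniqueMinimalPrime ↥(U.left.presheaf.stalk u)) ↔
      (∀ (U : Over S) (a : (AlgSp.yon S).obj U ⟶ X.obj) (u : ↥U.left),
        AlgSp.RepWith @Etale a → AlgSp.Points.ofPt a u = x → CAlg2.IsGeomUnibranch ↥(U.left.presheaf.stalk u))) ∧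
    ((∀ (U : Over S) (a : (AlgSp.yon S).obj U ⟶ X.obj) (u : ↥U.left),
        AlgSp.RepWith @Etale a → AlgSp.Points.ofPt a u = x → CAlgX.HasUniqueMinimalPrime ↥(U.left.presheaf.stalk u)) ↔
      ∀ p : AlgSp.FieldPt X.obj, p.IsGeometric → AlgSp.Points.mk p = x →
        CAlgX.HasUniqueMinimalPrime ↥(AlgSp.OEtStalk p)) := by
  obtain ⟨p₀, hp₀, hp₀x⟩ := Groth.Agent.Helper5.EtStH.exists_geomPt X x
  have hone : ((1 : ℕ) : ℕ∞) = 1 := Nat.cast_one
  -- (A') ↔ N = 1
  have hA : (∀ (U : Over S) (a : (AlgSp.yon S).obj U ⟶ X.obj) (u : ↥U.left),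
        AlgSp.RepWith @Etale a → AlgSp.Points.ofPt a u = x →
          CAlgX.HasUniqueMinimalPrime ↥(U.left.presheaf.stalk u)) ↔
      (minimalPrimes ↥(AlgSp.OEtStalk p₀)).encard = 1 := by
    rw [← hone, ← Groth.Agent.Helper5.EtStH.minimalPrimes_cond_iff X x p₀ hp₀ hp₀x 1]
    constructor
    · intro h
      refine ⟨fun U a u hae hu => ?_, ?_⟩
      · rw [hone, (Groth.Agent.Helper5.ElemNbhd.hasUniqueMinimalPrime_iff_encard _).1 (h U a u hae hu)]
      · obtain ⟨U, a, u, hae, hu⟩ := Groth.Agent.Helper5.GeomRed.exists_chart_point X.property x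
        refine ⟨U, a, u, hae, hu, ?_⟩
        show (minimalPrimes ↥(U.left.presheaf.stalk u)).encard = ((1 : ℕ) : ℕ∞)
        rw [hone]
        exact (Groth.Agent.Helper5.ElemNbhd.hasUniqueMinimalPrime_iff_encard _).1 (h U a u hae hu)
    · rintro ⟨hall, -⟩ U a u hae hu
      rw [Groth.Agent.Helper5.ElemNbhd.hasUniqueMinimalPrime_iff_encard]
      refine le_antisymm ?_ ?_
      · rw [← hone]
        exact hall U a u hae hu
      · rw [Set.one_le_encard_iff_nonempty]
        obtain ⟨q, hq, -⟩ := Ideal.exists_minimalPrimes_le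
          (I := (⊥ : Ideal ↥(U.left.presheaf.stalk u)))
          (J := IsLocalRing.maximalIdeal ↥(U.left.presheaf.stalk u)) bot_le
        exact ⟨q, hq⟩
  -- (B') ↔ N = 1
  have hB : ∀ (p : AlgSp.FieldPt X.obj), p.IsGeometric → AlgSp.Points.mk p = x →
      ((∀ (U : Over S) (a : (AlgSp.yon S).obj U ⟶ X.obj) (u : ↥U.left),
        AlgSp.RepWith @Etale a → AlgSp.Points.ofPt a u = x →
          CAlg2.IsGeomUnibranch ↥(U.left.presheaf.stalk u)) ↔
      (minimalPrimes ↥(AlgSp.OEtStalk p)).encard = 1) := by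
    intro p hp hpx
    rw [← hone, ← Groth.Agent.Helper5.EtStH.geomBranches_cond_iff X x p hp hpx 1]
    constructor
    · intro h U a u hae hu
      rw [hone]
      exact (Groth.Agent.S9236.result ↥(U.left.presheaf.stalk u)).2 (h U a u hae hu)
    · intro h U a u hae hu
      have h1 := h U a u hae hu
      rw [hone] at h1
      exact (Groth.Agent.S9236.result ↥(U.left.presheaf.stalk u)).1 h1
  constructor
  · rw [hA, hB p₀ hp₀ hp₀x]
  · rw [hA]
    constructor
    · intro h p hp hpx
      rw [Groth.Agent.Helper5.ElemNbhd.hasUniqueMinimalPrime_iff_encard]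
      exact (hB p hp hpx).1 ((hB p₀ hp₀ hp₀x).2 h)
    · intro h
      exact (Groth.Agent.Helper5.ElemNbhd.hasUniqueMinimalPrime_iff_encard _).1 (h p₀ hp₀ hp₀x)

end Groth.Agent.S10227
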