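import Groth.Statements.S10231
import Groth.Agent.Helper5.EtStH11

set_option autoImplicit false
universe u
open CategoryTheory CategoryTheory.Limits AlgebraicGeometry Topology TopologicalSpace
open AlgSp

namespace Groth.Agent.S10231

/-- Let X be a locally Noetherian algebraic space over a scheme S. Then X is regular (etale locally a
regular scheme: some surjective etale chart from a locally Noetherian scheme all of whose local
rings are regular) if and only if every etale local ring of X at a geometric point is a regular
local ring. -/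
theorem result {S : Scheme.{u}} (X : AlgSp.Space S) (hX : AlgSp.IsLocNoethSp X.obj) :
    AlgSp.EtaleLocally (fun U => IsLocallyNoetherian U ∧ ∀ u : ↥U, IsRegularLocalRing ↥(U.presheaf.stalk u)) X.obj ↔
      ∀ p : AlgSp.FieldPt X.obj, p.IsGeometric → IsRegularLocalRing ↥(AlgSp.OEtStalk p) := by
  constructor
  · rintro ⟨U, a, hae, has, hN, hreg⟩ p hp
    obtain ⟨r, hr⟩ := Groth.Agent.Helper4.AlgSpPts.isSurjectiveMor_of_repWith _ has (AlgSp.Points.mk p)
    obtain ⟨u, rfl⟩ := (AlgSp.Points.schemeHomeo U).surjective r
    have hu : AlgSp.Points.ofPt a u = AlgSp.Points.mk p := by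
      rw [← Groth.Agent.Helper4.AlgSpQC2.ofPt_eq_map_schemeHomeo]
      exact hr
    exact (Groth.Agent.Helper5.EtStH.chart_props X p hp a hae u hu).2.2.2.1.1 (hreg u)
  · intro h
    obtain ⟨U, a, hae, has, hN⟩ := hX
    refine ⟨U, a, hae, has, hN, fun u => ?_⟩
    obtain ⟨p, hp, hpu⟩ := Groth.Agent.Helper5.EtStH.exists_geomPt_chart a hae u
    exact (Groth.Agent.Helper5.EtStH.chart_props X p hp a hae u hpu.symm).2.2.2.1.2 (h p hp)

end Groth.Agent.S10231
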