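import Groth.Statements.S10232
import Groth.Agent.Helper5.EtStH11

set_option autoImplicit false
universe u
open CategoryTheory CategoryTheory.Limits AlgebraicGeometry Topology TopologicalSpace
open AlgSp

namespace Groth.Agent.S10232

/-- Let X be an algebraic space over a scheme S and x ∈ |X|. Then X is regular at x (for some etale
chart h_U ⟶ X and some point u of U over x, the local ring of U at u is regular) if and only if the
etale local ring of X at x̄ is regular for every geometric point x̄ lying over x, if and only if it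
is regular for some geometric point x̄ lying over x. -/
theorem result {S : Scheme.{u}} (X : AlgSp.Space S) (x : AlgSp.Points X.obj) :
    (AlgSp.HasAt (fun U u => IsRegularLocalRing ↥(U.presheaf.stalk u)) X.obj x ↔
      ∀ p : AlgSp.FieldPt X.obj, p.IsGeometric → AlgSp.Points.mk p = x → IsRegularLocalRing ↥(AlgSp.OEtStalk p)) ∧
    (AlgSp.HasAt (fun U u => IsRegularLocalRing ↥(U.presheaf.stalk u)) X.obj x ↔
      ∃ p : AlgSp.FieldPt X.obj, p.IsGeometric ∧ AlgSp.Points.mk p = x ∧ IsRegularLocalRing ↥(AlgSp.OEtStalk p)) := by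
  have key : ∀ (p : AlgSp.FieldPt X.obj), p.IsGeometric → AlgSp.Points.mk p = x →
      (AlgSp.HasAt (fun U u => IsRegularLocalRing ↥(U.presheaf.stalk u)) X.obj x ↔
        IsRegularLocalRing ↥(AlgSp.OEtStalk p)) := by
    intro p hp hpx
    constructor
    · rintro ⟨U, a, u, hae, hu, hreg⟩
      exact (Groth.Agent.Helper5.EtStH.chart_props X p hp a hae u (hu.trans hpx.symm)).2.2.2.1.1 hreg
    · intro h
      obtain ⟨U, a, u, hae, hu⟩ := Groth.Agent.Helper5.GeomRed.exists_chart_point X.property x
      exact ⟨U, a, u, hae, hu,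
        (Groth.Agent.Helper5.EtStH.chart_props X p hp a hae u (hu.trans hpx.symm)).2.2.2.1.2 h⟩
  obtain ⟨p₀, hp₀, hp₀x⟩ := Groth.Agent.Helper5.EtStH.exists_geomPt X x
  constructor
  · constructor
    · intro h p hp hpx
      exact (key p hp hpx).1 h
    · intro h
      exact (key p₀ hp₀ hp₀x).2 (h p₀ hp₀ hp₀x)
  · constructor
    · intro h
      exact ⟨p₀, hp₀, hp₀x, (key p₀ hp₀ hp₀x).1 h⟩
    · rintro ⟨p, hp, hpx, h⟩
      exact (key p hp hpx).2 h

end Groth.Agent.S10232
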