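import Groth.Statements.S10235
import Mathlib
import Groth.Agent.Helper8.GrpdGlueF
import Groth.Agent.Helper2.QuotIff

set_option autoImplicit false
universe u
open CategoryTheory CategoryTheory.Limits AlgebraicGeometry Topology TopologicalSpace
open AlgSp

namespace Groth.Agent.S10235

open Groth.Agent.Helper8 in
/-- every point lies in an invariant affine open, given the closed-subset hypothesis -/
theorem haff_of_h3 {S : Scheme.{u}} (G : Grpd.GroupoidScheme S)
    [IsFinite G.s] [Flat G.s] [LocallyOfFinitePresentation G.s]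
    (h3 : ∀ Z : Set ↥G.U, IsClosed Z → Z.Nonempty →
      ∃ u ∈ Z, ∃ W : G.U.Opens, IsAffineOpen W ∧ ∀ r : ↥G.R, G.s r = u → G.t r ∈ W) :
    ∀ x : G.U, ∃ V : G.U.Opens, IsAffineOpen V ∧
      G.t.base '' (G.s.base ⁻¹' {x}) ⊆ (V : Set G.U) := by
  classical
  -- the union of all invariant affine opens
  let 𝒲 : Set G.U.Opens := {W | IsAffineOpen W ∧ G.s ⁻¹ᵁ W = G.t ⁻¹ᵁ W}
  let O : G.U.Opens := sSup 𝒲
  have hO : (O : Set G.U)ᶜ = ∅ := by
    by_contra hne
    have hne' : ((O : Set G.U)ᶜ).Nonempty := Set.nonempty_iff_ne_empty.mpr hne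
    obtain ⟨u, huZ, W, hW, hWu⟩ := h3 _ O.isOpen.isClosed_compl hne'
    obtain ⟨W', hW'A, huW', hW'inv⟩ := GrpdNormB.main G u W hW hWu
    apply huZ
    have : W' ≤ O := le_sSup (show W' ∈ 𝒲 from ⟨hW'A, hW'inv⟩)
    exact this huW'
  intro x
  have hx : x ∈ O := by
    by_contra hxO
    have : x ∈ (O : Set G.U)ᶜ := hxO
    rw [hO] at this
    exact this
  obtain ⟨W, ⟨hWA, hWinv⟩, hxW⟩ := TopologicalSpace.Opens.mem_sSup.mp hx
  refine ⟨W, hWA, ?_⟩
  rintro _ ⟨r, hr, rfl⟩
  have hr' : G.s r = x := hr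
  have h1 : r ∈ G.s ⁻¹ᵁ W := by
    show G.s r ∈ W
    rw [hr']; exact hxW
  rw [hWinv] at h1
  exact h1

theorem mono_j_of_isEqvRel {S : Scheme.{u}} (G : Grpd.GroupoidScheme S)
    (heq : AlgSp.IsEqvRel (Over.homMk G.s G.s_over : Over.mk G.pR ⟶ Over.mk G.pU)
      (Over.homMk G.t G.t_over : Over.mk G.pR ⟶ Over.mk G.pU)) : Mono G.j := by
  constructor
  intro T a b hab
  have ht : a ≫ G.t = b ≫ G.t := by
    have := congrArg (· ≫ pullback.fst G.pU G.pU) hab
    simpa only [Category.assoc, Groth.Agent.Helper8.GrpdGlue.j_fst] using this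
  have hs : a ≫ G.s = b ≫ G.s := by
    have := congrArg (· ≫ pullback.snd G.pU G.pU) hab
    simpa only [Category.assoc, Groth.Agent.Helper8.GrpdGlue.j_snd] using this
  have hb : b ≫ G.pR = a ≫ G.pR := by
    rw [← G.t_over, ← Category.assoc, ← ht, Category.assoc]
  let a' : Over.mk (a ≫ G.pR) ⟶ Over.mk G.pR := Over.homMk a rfl
  let b' : Over.mk (a ≫ G.pR) ⟶ Over.mk G.pR := Over.homMk b hb
  have := heq.injective (Over.mk (a ≫ G.pR)) a' b'
    (by ext; exact ht) (by ext; exact hs)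
  exact congrArg (fun f => f.left) this

/-- Let (U, R, s, t, c) be a groupoid scheme over a scheme S whose source and target maps s, t : R ⟶ U
are finite locally free and whose map j = (t, s) is an equivalence relation, and suppose that in
each nonempty closed subset of U one can find a point u such that some affine open of U contains the
whole equivalence class t(s⁻¹{u}) of u. Then there are a scheme M over S and a finite locally free
morphism U ⟶ M over S such that the square with the two maps t, s : R ⟶ U over U ⟶ M is cartesian (R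
= U ×_M U) and U ⟶ M exhibits h_M as the quotient of h_U by the pair h_R ⇉ h_U in the category of
fppf sheaves. -/
theorem result {S : Scheme.{u}} (G : Grpd.GroupoidScheme S)
    (hs : Mor2.IsFinLocFree G.s) (ht : Mor2.IsFinLocFree G.t)
    (heq : AlgSp.IsEqvRel (Over.homMk G.s G.s_over : Over.mk G.pR ⟶ Over.mk G.pU) (Over.homMk G.t G.t_over : Over.mk G.pR ⟶ Over.mk G.pU))
    (h3 : ∀ Z : Set ↥G.U, IsClosed Z → Z.Nonempty →
      ∃ u ∈ Z, ∃ W : G.U.Opens, IsAffineOpen W ∧ ∀ r : ↥G.R, G.s r = u → G.t r ∈ W) :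
    ∃ (M : Over S) (m : Over.mk G.pU ⟶ M), Mor2.IsFinLocFree m.left ∧ IsPullback G.t G.s m.left m.left ∧
      QuotSh.IsQuotient Scheme.fppfPrecoverage (Over.homMk G.s G.s_over : Over.mk G.pR ⟶ Over.mk G.pU) (Over.homMk G.t G.t_over : Over.mk G.pR ⟶ Over.mk G.pU) m := by
  haveI := hs.1
  haveI := hs.2.1
  haveI := hs.2.2
  haveI : Groth.Agent.Helper8.GrpdGlue.QuotHyp G := ⟨hs.1, hs.2.1, hs.2.2, haff_of_h3 G h3⟩
  haveI : Mono G.j := mono_j_of_isEqvRel G heq
  obtain ⟨g, hg⟩ := Groth.Agent.Helper8.GrpdGlue.exists_desc G G.pU (G.s_over.trans G.t_over.symm)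
  haveI := Groth.Agent.Helper8.GrpdGlue.isIso_φ G
  have hpb : IsPullback G.t G.s (Groth.Agent.Helper8.GrpdGlue.q G)
      (Groth.Agent.Helper8.GrpdGlue.q G) :=
    IsPullback.of_iso_pullback ⟨(Groth.Agent.Helper8.GrpdGlue.s_q G).symm⟩
      (asIso (Groth.Agent.Helper8.GrpdGlue.φ G)) (Groth.Agent.Helper8.GrpdGlue.φ_fst G)
      (Groth.Agent.Helper8.GrpdGlue.φ_snd G)
  haveI := Groth.Agent.Helper8.GrpdGlue.isFinite_q G
  haveI := Groth.Agent.Helper8.GrpdGlue.flat_q G
  haveI := Groth.Agent.Helper8.GrpdGlue.lfp_q G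
  refine ⟨Over.mk g, Over.homMk (Groth.Agent.Helper8.GrpdGlue.q G) hg,
    ⟨Groth.Agent.Helper8.GrpdGlue.isFinite_q G, Groth.Agent.Helper8.GrpdGlue.flat_q G,
      Groth.Agent.Helper8.GrpdGlue.lfp_q G⟩, hpb, ?_⟩
  apply Groth.Agent.Helper2.QuotIff.isQuotient_of_kernelPair
  · apply IsPullback.of_map_of_faithful (Over.forget S)
    exact hpb.flip
  · apply Groth.Agent.Helper2.QuotIff.epi_of_singleton_mem
    intro T w
    change Presieve.singleton (pullback.fst w.left (Groth.Agent.Helper8.GrpdGlue.q G)) ∈ _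
    exact (pullback.fst w.left (Groth.Agent.Helper8.GrpdGlue.q G)).singleton_mem_fppfPrecoverage

end Groth.Agent.S10235
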