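import Groth.Statements.S10236
import Mathlib
import Groth.Agent.Helper7.SepDesc
import Groth.Agent.Helper9.RepEpi
import Groth.Agent.Helper2.QuotIff

set_option autoImplicit false
universe u
open CategoryTheory CategoryTheory.Limits AlgebraicGeometry Topology TopologicalSpace
open AlgSp

namespace Groth.Agent.S10236

/-- Let (U, R, s, t, c) be a groupoid scheme over a scheme S with s, t finite locally free and j = (t,
s) an equivalence relation, such that in each nonempty closed subset of U some point has its whole
equivalence class inside an affine open of U; let U ⟶ M be a finite locally free morphism over S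
with R = U ×_M U (the square with t, s cartesian) such that h_M is the quotient of h_U by h_R ⇉ h_U
in fppf sheaves. Then (1) if U ⟶ S is quasi-separated so is M ⟶ S; (2) if U is quasi-separated so is
M; (3) if U ⟶ S is separated so is M ⟶ S; (4) if U is separated so is M. -/
theorem result {S : Scheme.{u}} (G : Grpd.GroupoidScheme S)
    (hs : Mor2.IsFinLocFree G.s) (ht : Mor2.IsFinLocFree G.t)
    (heq : AlgSp.IsEqvRel (Over.homMk G.s G.s_over : Over.mk G.pR ⟶ Over.mk G.pU) (Over.homMk G.t G.t_over : Over.mk G.pR ⟶ Over.mk G.pU))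
    (h3 : ∀ Z : Set ↥G.U, IsClosed Z → Z.Nonempty →
      ∃ u ∈ Z, ∃ W : G.U.Opens, IsAffineOpen W ∧ ∀ r : ↥G.R, G.s r = u → G.t r ∈ W)
    (M : Over S) (m : Over.mk G.pU ⟶ M) (hm : Mor2.IsFinLocFree m.left) (hR : IsPullback G.t G.s m.left m.left)
    (hq : QuotSh.IsQuotient Scheme.fppfPrecoverage (Over.homMk G.s G.s_over : Over.mk G.pR ⟶ Over.mk G.pU) (Over.homMk G.t G.t_over : Over.mk G.pR ⟶ Over.mk G.pU) m) :
    (QuasiSeparated G.pU → QuasiSeparated M.hom) ∧ (QuasiSeparatedSpace ↥G.U → QuasiSeparatedSpace ↥M.left) ∧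
      (IsSeparated G.pU → IsSeparated M.hom) ∧ (G.U.IsSeparated → M.left.IsSeparated) := by
    classical
    obtain ⟨hmfin, hmflat, hmlfp⟩ := hm
    haveI := hmfin
    haveI := hmflat
    haveI := hmlfp
    -- `m` is surjective
    haveI hsurj : Surjective m.left := by
      obtain ⟨w, hiso⟩ := hq
      have h2 : QuotSh.quotπ Scheme.fppfPrecoverage _ _ ≫ QuotSh.quotDesc Scheme.fppfPrecoverage m w =
          QuotSh.repMap Scheme.fppfPrecoverage m := coequalizer.π_desc _ _
      have hepi : Epi (QuotSh.repMap Scheme.fppfPrecoverage m) := by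
        rw [← h2]
        haveI : Epi (QuotSh.quotπ Scheme.fppfPrecoverage
            (Over.homMk G.s G.s_over : Over.mk G.pR ⟶ Over.mk G.pU)
            (Over.homMk G.t G.t_over : Over.mk G.pR ⟶ Over.mk G.pU)) := by
          unfold QuotSh.quotπ
          exact coequalizer.π_epi
        infer_instance
      rw [Groth.Agent.Helper9.RepEpi.epi_repMap_iff] at hepi
      obtain ⟨R', hR', hlift⟩ := hepi M (𝟙 M)
      obtain ⟨𝒰, rfl⟩ := R'.exists_eq_preZeroHypercover
      change _ ∈ Scheme.precoverage (@Flat ⊓ @LocallyOfFinitePresentation) M.left at hR'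
      rw [Scheme.ofArrows_mem_precoverage_iff] at hR'
      obtain ⟨hsj, -⟩ := hR'
      refine ⟨fun x => ?_⟩
      obtain ⟨i, y, hy⟩ := hsj x
      obtain ⟨v, hv⟩ := hlift (𝒰.f i) ⟨i⟩
      refine ⟨v y, ?_⟩
      rw [← Scheme.Hom.comp_apply, hv]
      simpa using hy
    have hw : m.left ≫ M.hom = G.pU := Over.w m
    have ht : ∀ (X : Scheme.{u}), terminal.from X = terminal.from X := fun _ => rfl
    refine ⟨fun h => ?_, fun h => ?_, fun h => ?_, fun h => ?_⟩
    · haveI : QuasiSeparated (m.left ≫ M.hom) := by rw [hw]; exact h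
      exact Groth.Agent.Helper7.SepDesc.quasiSeparated_descend m.left M.hom
    · rw [quasiSeparatedSpace_iff_quasiSeparated] at h ⊢
      haveI : QuasiSeparated (m.left ≫ terminal.from M.left) := by
        rw [terminal.comp_from]; exact h
      exact Groth.Agent.Helper7.SepDesc.quasiSeparated_descend m.left (terminal.from M.left)
    · haveI : IsSeparated (m.left ≫ M.hom) := by rw [hw]; exact h
      exact Groth.Agent.Helper7.SepDesc.isSeparated_descend m.left M.hom
    · rw [Scheme.isSeparated_iff] at h ⊢
      haveI : IsSeparated (m.left ≫ terminal.from M.left) := by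
        rw [terminal.comp_from]; exact h
      exact Groth.Agent.Helper7.SepDesc.isSeparated_descend m.left (terminal.from M.left)

end Groth.Agent.S10236
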