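import Groth.Statements.S10244
import Groth.Agent.Helper4.AlgSpQC2
import Groth.Agent.Helper4.AlgSpPts
import Groth.Agent.Helper4.AlgSpPtsDesc

set_option autoImplicit false
universe u
open CategoryTheory CategoryTheory.Limits AlgebraicGeometry Topology TopologicalSpace
open AlgSp

namespace Groth.Agent.S10244

/-- Let X be an algebraic space over a scheme S and X_i ⟶ X a family of open subspaces. Then the X_i
form a Zariski covering of X in the sense that for every scheme T and every h_T ⟶ X the open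
subschemes T ×_X X_i cover T, if and only if |X| is the union of the |X_i|. -/
theorem result {S : Scheme.{u}} (X : AlgSp.Space S) {ι : Type u} (Xi : ι → AlgSp.Space S)
    (j : ∀ i, Xi i ⟶ X) (hj : ∀ i, AlgSp.RepWith @IsOpenImmersion (j i).hom) :
    AlgSp.IsZarCover (fun i => (Xi i).obj) (fun i => (j i).hom) ↔
      ∀ (T : Over S) (g : (AlgSp.yon S).obj T ⟶ X.obj) (t : ↥T.left),
        ∃ (i : ι) (P : Over S) (fst : (AlgSp.yon S).obj P ⟶ (Xi i).obj) (snd : P ⟶ T),
          IsPullback fst ((AlgSp.yon S).map snd) (j i).hom g ∧ t ∈ Set.range snd.left := by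
  constructor
  · rintro ⟨-, hcov⟩ T g t
    obtain ⟨i, xi, hxi⟩ := hcov (AlgSp.Points.ofPt g t)
    have hr := (hj i).rep
    have hpb : IsPullback (hr.fst g) ((AlgSp.yon S).map (hr.snd g)) (j i).hom g := hr.isPullback g
    obtain ⟨q, -, hq2⟩ := Groth.Agent.Helper4.AlgSpPtsDesc.exists_point_of_isPullback hpb xi
      (AlgSp.Points.schemeHomeo T t) (by
        rw [hxi, Groth.Agent.Helper4.AlgSpQC2.ofPt_eq_map_schemeHomeo])
    obtain ⟨p₀, rfl⟩ := (AlgSp.Points.schemeHomeo _).surjective q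
    rw [AlgSp.Points.map_yon_map_apply] at hq2
    exact ⟨i, _, hr.fst g, hr.snd g, hpb, p₀, (AlgSp.Points.schemeHomeo T).injective hq2⟩
  · intro h
    refine ⟨hj, fun x => ?_⟩
    obtain ⟨U, a, hae, has⟩ := X.property.atlas
    obtain ⟨y, rfl⟩ := Groth.Agent.Helper4.AlgSpPts.isSurjectiveMor_of_repWith a has x
    obtain ⟨u, rfl⟩ := (AlgSp.Points.schemeHomeo U).surjective y
    obtain ⟨i, P, fst, snd, sq, p₀, hp₀⟩ := h U a u
    refine ⟨i, AlgSp.Points.ofPt fst p₀, ?_⟩
    rw [AlgSp.Points.map_ofPt, sq.w, Groth.Agent.Helper4.AlgSpPtsDesc.ofPt_yon_map_comp,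
      Groth.Agent.Helper4.AlgSpQC2.ofPt_eq_map_schemeHomeo]
    exact congrArg (AlgSp.Points.ofPt a) hp₀

end Groth.Agent.S10244
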