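import Groth.Statements.S10245
import Mathlib
import Groth.Agent.Helper8.ActQuot
import Groth.Agent.Helper2.QuotIff

set_option autoImplicit false
universe u
open CategoryTheory CategoryTheory.Limits MonoidalCategory CartesianMonoidalCategory MonObj AlgebraicGeometry Topology TopologicalSpace
open AlgSp

namespace Groth.Agent.S10245

/-- Let G ⟶ S be a finite locally free group scheme over a scheme S acting on a scheme X over S by a : G
×_S X ⟶ X, freely on T-valued points for every S-scheme T. Assume one of the following: the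
structure morphism X ⟶ S is affine; X admits an open immersion into some affine scheme; G ⟶ S is
radicial (universally injective). Then the fppf quotient sheaf X/G is a scheme M: there is q : X ⟶ M
over S exhibiting h_M as the quotient of h_X by the projection and the action G ×_S X ⇉ X in fppf
sheaves; moreover the square formed by the action, the projection and q is cartesian (G ×_S X ≅ X
×_M X) and X ⟶ M has sections fppf locally on M, so that X ⟶ X/G is an fppf G-torsor. (The published
statement also allows X ⟶ S quasi-affine, projective or quasi-projective, or X an open subscheme of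
Proj of a graded ring; those cases are not covered by this row.) -/
theorem result {S : Scheme.{u}} (G X : Over S) [GrpObj G]
    (a : AlgGrp.Action G X) (hG : Mor2.IsFinLocFree G.hom)
    (hfree : ∀ (T : Over S) (g : T ⟶ G) (x : T ⟶ X), lift g x ≫ a.act = x → g = toUnit T ≫ η[G])
    (h3 : IsAffineHom X.hom ∨ (∃ (R : CommRingCat.{u}) (i : X.left ⟶ Spec R), IsOpenImmersion i) ∨
      UniversallyInjective G.hom) :
    ∃ (M : Over S) (q : X ⟶ M), QuotSh.IsQuotient Scheme.fppfPrecoverage (snd G X) a.act q ∧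
      IsPullback a.act.left (snd G X).left q.left q.left ∧
      NonAbH1.IsLocallyTrivialFor Scheme.fppfPrecoverage (Over.mk q.left) := by
  haveI hfin : IsFinite (Groth.Agent.Helper8.ActGrpd.actGrpd a).s :=
    Groth.Agent.Helper8.ActQuot.isFinite_s a hG.1
  haveI hfl : Flat (Groth.Agent.Helper8.ActGrpd.actGrpd a).s :=
    Groth.Agent.Helper8.ActQuot.flat_s a hG.2.1
  haveI hlfp : LocallyOfFinitePresentation (Groth.Agent.Helper8.ActGrpd.actGrpd a).s :=
    Groth.Agent.Helper8.ActQuot.lfp_s a hG.2.2
  have haff : ∀ x : (Groth.Agent.Helper8.ActGrpd.actGrpd a).U,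
      ∃ V : (Groth.Agent.Helper8.ActGrpd.actGrpd a).U.Opens, IsAffineOpen V ∧
        (Groth.Agent.Helper8.ActGrpd.actGrpd a).t.base ''
          ((Groth.Agent.Helper8.ActGrpd.actGrpd a).s.base ⁻¹' {x}) ⊆
          (V : Set (Groth.Agent.Helper8.ActGrpd.actGrpd a).U) := by
    intro x
    rcases h3 with h | ⟨R, i, hi⟩ | h
    · haveI := h
      exact Groth.Agent.Helper8.ActQuot.haff_of_isAffineHom a x
    · haveI := hi
      haveI : IsFinite (Groth.Agent.Helper8.ActGrpd.sL (G := G) (X := X)) := hfin
      exact Groth.Agent.Helper8.ActQuot.haff_of_isOpenImmersion a i x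
    · haveI := h
      exact Groth.Agent.Helper8.ActQuot.haff_of_universallyInjective a x
  haveI : Groth.Agent.Helper8.GrpdGlue.QuotHyp (Groth.Agent.Helper8.ActGrpd.actGrpd a) :=
    ⟨hfin, hfl, hlfp, haff⟩
  haveI : Mono (Groth.Agent.Helper8.ActGrpd.actGrpd a).j :=
    Groth.Agent.Helper8.ActQuot.mono_j_of_free a hfree
  obtain ⟨g, hg⟩ := Groth.Agent.Helper8.GrpdGlue.exists_desc
    (Groth.Agent.Helper8.ActGrpd.actGrpd a) (Groth.Agent.Helper8.ActGrpd.actGrpd a).pU
    ((Groth.Agent.Helper8.ActGrpd.actGrpd a).s_over.trans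
      (Groth.Agent.Helper8.ActGrpd.actGrpd a).t_over.symm)
  haveI := Groth.Agent.Helper8.GrpdGlue.isIso_φ (Groth.Agent.Helper8.ActGrpd.actGrpd a)
  have hpb : IsPullback (Groth.Agent.Helper8.ActGrpd.actGrpd a).t
      (Groth.Agent.Helper8.ActGrpd.actGrpd a).s
      (Groth.Agent.Helper8.GrpdGlue.q (Groth.Agent.Helper8.ActGrpd.actGrpd a))
      (Groth.Agent.Helper8.GrpdGlue.q (Groth.Agent.Helper8.ActGrpd.actGrpd a)) :=
    IsPullback.of_iso_pullback
      ⟨(Groth.Agent.Helper8.GrpdGlue.s_q (Groth.Agent.Helper8.ActGrpd.actGrpd a)).symm⟩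
      (asIso (Groth.Agent.Helper8.GrpdGlue.φ (Groth.Agent.Helper8.ActGrpd.actGrpd a)))
      (Groth.Agent.Helper8.GrpdGlue.φ_fst (Groth.Agent.Helper8.ActGrpd.actGrpd a))
      (Groth.Agent.Helper8.GrpdGlue.φ_snd (Groth.Agent.Helper8.ActGrpd.actGrpd a))
  haveI := Groth.Agent.Helper8.GrpdGlue.flat_q (Groth.Agent.Helper8.ActGrpd.actGrpd a)
  haveI := Groth.Agent.Helper8.GrpdGlue.lfp_q (Groth.Agent.Helper8.ActGrpd.actGrpd a)
  have hg' : Groth.Agent.Helper8.GrpdGlue.q (Groth.Agent.Helper8.ActGrpd.actGrpd a) ≫ g = X.hom := hg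
  refine ⟨Over.mk g, Over.homMk
    (Groth.Agent.Helper8.GrpdGlue.q (Groth.Agent.Helper8.ActGrpd.actGrpd a)) hg', ?_, hpb, ?_⟩
  · apply Groth.Agent.Helper2.QuotIff.isQuotient_of_kernelPair
    · apply IsPullback.of_map_of_faithful (Over.forget S)
      exact hpb.flip
    · apply Groth.Agent.Helper2.QuotIff.epi_of_singleton_mem
      intro T w
      change Presieve.singleton (pullback.fst w.left
        (Groth.Agent.Helper8.GrpdGlue.q (Groth.Agent.Helper8.ActGrpd.actGrpd a))) ∈ _
      exact (pullback.fst w.left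
        (Groth.Agent.Helper8.GrpdGlue.q
          (Groth.Agent.Helper8.ActGrpd.actGrpd a))).singleton_mem_fppfPrecoverage
  · refine ⟨Presieve.singleton
      (Groth.Agent.Helper8.GrpdGlue.q (Groth.Agent.Helper8.ActGrpd.actGrpd a)),
      (Groth.Agent.Helper8.GrpdGlue.q
        (Groth.Agent.Helper8.ActGrpd.actGrpd a)).singleton_mem_fppfPrecoverage, ?_⟩
    rintro S' f ⟨⟩
    exact ⟨𝟙 _, Category.id_comp _⟩

end Groth.Agent.S10245
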