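import Groth.Statements.S10263
import Groth.Agent.Helper4.AlgSpLocP2
import Groth.Agent.Helper4.SDClasses

set_option autoImplicit false
universe u
open CategoryTheory CategoryTheory.Limits AlgebraicGeometry
open AlgSp

namespace Groth.Agent.S10263

/-- If the composite X -> Y -> Z is unramified then X -> Y is unramified. -/
theorem result {S : Scheme.{u}} {X Y Z : AlgSp.Space S} (f : X ⟶ Y) (g : Y ⟶ Z)
    (h : AlgSp.LocP (@LocallyOfFiniteType ⊓ @FormallyUnramified) (f ≫ g).hom) :
    AlgSp.LocP (@LocallyOfFiniteType ⊓ @FormallyUnramified) f.hom := by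
  have hG := Groth.Agent.Helper4.SDClasses.good_unram.{u}
  intro U V a b k ha hb comm
  obtain ⟨W, c, hce, hcs⟩ := Z.property.atlas
  have comm' : a ≫ (f ≫ g).hom = (AlgSp.yon S).map k ≫ (b ≫ g.hom) := by
    change a ≫ f.hom ≫ g.hom = _
    rw [← Category.assoc, comm, Category.assoc]
  obtain ⟨U', V', e, d, pfst, psnd, hee, hes, hpb, h1, h2, hbig⟩ :=
    Groth.Agent.Helper4.AlgSpLocP2.chart_base_change (f ≫ g).hom c hce hcs a (b ≫ g.hom) k comm'
  have hpe : Etale pfst.left := MorphismProperty.of_isPullback h1 hee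
  have hps : Surjective pfst.left := MorphismProperty.of_isPullback h1 hes
  have ha' : AlgSp.RepWith @Etale ((AlgSp.yon S).map pfst ≫ a) :=
    Groth.Agent.Helper4.AlgSpSrc.repWith_comp _ ((AlgSp.repWith_yon_map_iff _ _).2 hpe) ha
  have hc' : ((AlgSp.yon S).map pfst ≫ a) ≫ (f ≫ g).hom = (AlgSp.yon S).map (psnd ≫ d) ≫ c := by
    rw [Category.assoc, (AlgSp.yon S).map_comp]; exact hbig.w.symm
  have hl := h _ c (psnd ≫ d) ha' hce hc'
  have hl1 : LocallyOfFiniteType (psnd.left ≫ d.left) := hl.1
  have hl2 : FormallyUnramified (psnd.left ≫ d.left) := hl.2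
  have hl1' : LocallyOfFiniteType psnd.left := locallyOfFiniteType_of_comp psnd.left d.left
  have hl2' : FormallyUnramified psnd.left := FormallyUnramified.of_comp psnd.left d.left
  have hcomp : (@LocallyOfFiniteType ⊓ @FormallyUnramified : MorphismProperty Scheme.{u})
      (pfst.left ≫ k.left) := by
    rw [← h1.w]
    have := hG.comp
    exact MorphismProperty.comp_mem _ _ _ ⟨hl1', hl2'⟩ (hG.etale_le _ hee)
  exact hG.sd pfst.left k.left hpe hps hcomp

end Groth.Agent.S10263
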