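import Groth.Statements.S10264
import Groth.Agent.Helper4.AlgSpLocP
import Groth.Agent.Helper4.SDClasses

set_option autoImplicit false
universe u
open CategoryTheory CategoryTheory.Limits AlgebraicGeometry
open AlgSp

namespace Groth.Agent.S10264

/-- An immersion of algebraic spaces is unramified. -/
theorem result {S : Scheme.{u}} {X Y : AlgSp.Space S} (i : X ⟶ Y)
    (hi : AlgSp.RepWith @IsImmersion i.hom) :
    AlgSp.LocP (@LocallyOfFiniteType ⊓ @FormallyUnramified) i.hom := by
  have hG := Groth.Agent.Helper4.SDClasses.good_unram.{u}
  have := hG.comp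
  exact Groth.Agent.Helper4.AlgSpLocP.locP_of_repWith
    (@LocallyOfFiniteType ⊓ @FormallyUnramified) @IsImmersion
    (fun g hg => by
      have : IsImmersion g := hg
      exact ⟨inferInstance, inferInstance⟩)
    (fun g hg => hG.etale_le g hg) i.hom hi

end Groth.Agent.S10264
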