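import Groth.Statements.S9904
import Groth.Agent.Helper4.AlgSpDesc2
import Mathlib

set_option autoImplicit false
universe u
open CategoryTheory CategoryTheory.Limits AlgebraicGeometry
open AlgSp

namespace Groth.Agent.S9904

set_option backward.isDefEq.respectTransparency.types false in
instance ciDesc : MorphismProperty.DescendsAlong (@IsClosedImmersion : MorphismProperty Scheme.{u})
    (@Surjective ⊓ @Flat ⊓ @LocallyOfFinitePresentation) where
  of_isPullback h hf hfst := Groth.Agent.Helper4.SchDescent.isClosedImmersion_descend h hf hfst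

/-- (5) ⇒ (1): separatedness (resp. quasi-separatedness) of a morphism of algebraic spaces descends
along one surjective etale base change from a scheme. -/
theorem result {S : Scheme.{u}} {X Y : AlgSp.Space S} (f : X ⟶ Y) (V : Over S)
    (p : (AlgSp.yon S).obj V ⟶ Y.obj) (hp : AlgSp.RepWith @Etale p) (hps : AlgSp.RepWith @Surjective p)
    {P : AlgSp.Sp S} (fst : P ⟶ X.obj) (snd : P ⟶ (AlgSp.yon S).obj V) (sq : IsPullback fst snd f.hom p) :
    (AlgSp.IsSeparatedMor snd → AlgSp.IsSeparatedMor f.hom) ∧
    (AlgSp.IsQuasiSeparatedMor snd → AlgSp.IsQuasiSeparatedMor f.hom) := by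

  constructor
  · intro h
    exact Groth.Agent.Helper4.AlgSpDesc2.repWith_diagonal_descend @IsClosedImmersion
      X.property.diag hp hps sq h
  · intro h
    exact Groth.Agent.Helper4.AlgSpDesc2.repWith_diagonal_descend @QuasiCompact
      X.property.diag hp hps sq h

end Groth.Agent.S9904
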