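import Groth.Statements.S10274
import Groth.Agent.Helper4.AlgSpLocP2
import Groth.Agent.S9904
import Groth.Agent.S9924
import Groth.Agent.Helper4.AlgSpQC2
import Groth.Agent.Helper4.AlgSpPtsDesc
import Groth.Agent.Helper4.AlgSpSrc
import Groth.Agent.Helper4.AlgSpPts

set_option autoImplicit false
universe u
open CategoryTheory CategoryTheory.Limits AlgebraicGeometry
open AlgSp

namespace Groth.Agent.S10274

/-- (4) ⇒ (1): properness of a morphism of algebraic spaces descends along a surjective etale base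
change from a scheme. -/
theorem result {S : Scheme.{u}} {X Y : AlgSp.Space S} (f : X ⟶ Y) (V : Over S)
    (p : (AlgSp.yon S).obj V ⟶ Y.obj) (hp : AlgSp.RepWith @Etale p) (hps : AlgSp.RepWith @Surjective p)
    {P : AlgSp.Sp S} (fst : P ⟶ X.obj) (snd : P ⟶ (AlgSp.yon S).obj V) (sq : IsPullback fst snd f.hom p)
    (h : AlgSp.IsProperMor snd) : AlgSp.IsProperMor f.hom := by
  obtain ⟨h1, ⟨h2, h3⟩, h4⟩ := h
  refine ⟨(Groth.Agent.S9904.result f V p hp hps fst snd sq).1 h1, ⟨?_, ?_⟩,
    Groth.Agent.S9924.result f V p hp hps fst snd sq h4⟩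
  · exact Groth.Agent.Helper4.AlgSpLocP2.locP_of_target_cover @LocallyOfFiniteType f.hom p hp hps
      fst snd sq h2
  · refine Groth.Agent.Helper4.AlgSpQC2.isQuasiCompactMor_descend X.property Y.property
      (AlgSp.IsAlgSpace.yon_obj V) f.hom p fst snd sq ?_ ?_ h3
    · exact Groth.Agent.Helper4.AlgSpPtsDesc.isUnivOpenMor_of_repWith p
        (Groth.Agent.Helper4.AlgSpSrc.repWith_mono (fun g hg => by
          have : Etale g := hg
          infer_instance) hp)
    · exact Groth.Agent.Helper4.AlgSpPts.isSurjectiveMor_of_repWith p hps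

end Groth.Agent.S10274
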