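import Groth.Statements.S10275
import Groth.Agent.Helper4.AlgSpLocPBC
import Groth.Agent.Helper4.SDClasses
import Groth.Agent.S9903
import Groth.Agent.Helper4.AlgSpQC
import Groth.Agent.Helper4.AlgSpUC

set_option autoImplicit false
universe u
open CategoryTheory CategoryTheory.Limits AlgebraicGeometry
open AlgSp

namespace Groth.Agent.S10275

/-- A base change of a proper morphism of algebraic spaces is proper. -/
theorem result {S : Scheme.{u}} {X Y Y' X' : AlgSp.Space S} (f : X ⟶ Y) (g : Y' ⟶ Y)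
    (fst : X' ⟶ X) (f' : X' ⟶ Y') (sq : IsPullback fst.hom f'.hom f.hom g.hom) (hf : AlgSp.IsProperMor f.hom) :
    AlgSp.IsProperMor f'.hom := by
  obtain ⟨h1, ⟨h2, h3⟩, h4⟩ := hf
  have hG := Groth.Agent.Helper4.SDClasses.good_lft.{u}
  have := hG.bc
  have := hG.comp
  refine ⟨Groth.Agent.S9903.diag_bc _ sq h1, ⟨?_, ?_⟩, ?_⟩
  · exact Groth.Agent.Helper4.AlgSpLocPBC.locP_of_isPullback @LocallyOfFiniteType
      (fun g hg => hG.etale_le g hg) (fun e h he hs hP => hG.sd e h he hs hP)
      X.property Y.property f.hom g.hom fst.hom f'.hom sq h2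
  · exact Groth.Agent.Helper4.AlgSpQC.isQuasiCompactMor_of_isPullback sq h3
  · exact Groth.Agent.Helper4.AlgSpUC.univSp_of_isPullback _ sq h4

end Groth.Agent.S10275
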