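import Groth.Statements.S10277
import Groth.Agent.Helper4.AlgSpLocP
import Groth.Agent.Helper4.SDClasses
import Groth.Agent.S9936
import Groth.Agent.S9937
import Groth.Agent.Helper4.AlgSpPtsDesc
import Groth.Agent.Helper4.AlgSpSrc

set_option autoImplicit false
universe u
open CategoryTheory CategoryTheory.Limits AlgebraicGeometry
open AlgSp

namespace Groth.Agent.S10277

/-- A closed immersion of algebraic spaces is proper. -/
theorem result {S : Scheme.{u}} {X Y : AlgSp.Space S} (i : X ⟶ Y)
    (hi : AlgSp.RepWith @IsClosedImmersion i.hom) : AlgSp.IsProperMor i.hom := by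
  have hG := Groth.Agent.Helper4.SDClasses.good_lft.{u}
  have := hG.comp
  refine ⟨Groth.Agent.S9937.result i hi, ⟨?_, Groth.Agent.S9936.result i hi⟩, ?_⟩
  · exact Groth.Agent.Helper4.AlgSpLocP.locP_of_repWith @LocallyOfFiniteType @IsClosedImmersion
      (fun g hg => by
        have : IsClosedImmersion g := hg
        infer_instance)
      (fun g hg => hG.etale_le g hg) i.hom hi
  · exact Groth.Agent.Helper4.AlgSpPtsDesc.isUnivClosedMor_of_repWith i.hom
      (Groth.Agent.Helper4.AlgSpSrc.repWith_mono (fun g hg => by
        have : IsClosedImmersion g := hg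
        infer_instance) hi)

end Groth.Agent.S10277
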