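import Groth.Statements.S10281
import Groth.Agent.S10278
import Groth.Agent.S10279
import Groth.Agent.S9965
import Groth.Agent.S9925
import Groth.Agent.Helper5.AlgSpProper
import Groth.Agent.Helper5.FpqcIso

set_option autoImplicit false
universe u
open CategoryTheory CategoryTheory.Limits AlgebraicGeometry
open AlgSp

namespace Groth.Agent.S10281

/-- The scheme theoretic image of a space proper over B in a space separated and locally of finite type
over B is proper over B, and the source surjects onto it. -/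
theorem result {S : Scheme.{u}} {X Y Z B : AlgSp.Space S} (h : X ⟶ Y) (f : X ⟶ B)
    (g : Y ⟶ B) (comm : h ≫ g = f) (hf : AlgSp.IsProperMor f.hom) (hg : AlgSp.IsSeparatedMor g.hom)
    (hg' : AlgSp.LocP @LocallyOfFiniteType g.hom) (i : Z ⟶ Y) (hZ : AlgSp.IsSchImage h.hom i.hom)
    (h' : X ⟶ Z) (fac : h' ≫ i = h) :
    AlgSp.IsProperMor (i ≫ g).hom ∧ AlgSp.IsSurjectiveMor h'.hom := by
  have hh := Groth.Agent.S10278.result h f g comm hg
  have hhp : AlgSp.IsProperMor h.hom := hh.2 hf
  have hhc := hh.1 hf.2.2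
  have hsub := (Groth.Agent.S9965.result h i hhp.2.1.2 hZ).2
  rw [hhc.2.closure_eq] at hsub
  have hi : AlgSp.RepWith @IsClosedImmersion i.hom := hZ.1
  have hmono : Mono i.hom :=
    Groth.Agent.Helper4.AlgSpBasic.mono_of_repWith (P := @IsClosedImmersion) (fun g hg => by
      have : IsClosedImmersion g := hg
      infer_instance) i.hom hi
  have hinj : Function.Injective (AlgSp.Points.map i.hom) :=
    Groth.Agent.Helper5.FpqcIso.isUnivInjectiveMor_of_mono Z.property i.hom Y.property (𝟙 _) (𝟙 _) i.hom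
      (IsPullback.of_horiz_isIso ⟨by simp⟩)
  have hsurj : AlgSp.IsSurjectiveMor h'.hom := by
    intro z
    obtain ⟨x, hx⟩ := hsub ⟨z, rfl⟩
    refine ⟨x, hinj ?_⟩
    rw [← hx, ← fac]
    exact (AlgSp.Points.map_comp h'.hom i.hom x).symm
  refine ⟨?_, hsurj⟩
  have huc : AlgSp.IsUnivClosedMor (i ≫ g).hom :=
    Groth.Agent.S10279.result h' f (i ≫ g) (by rw [← Category.assoc, fac, comm]) hf.2.2 hsurj
  have hip := Groth.Agent.Helper5.AlgSpProper.isProperMor_of_closedImmersion i.hom hi
  refine ⟨Groth.Agent.Helper5.AlgSpProper.isSeparatedMor_comp _ _ hip.1 hg,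
    ⟨Groth.Agent.Helper4.AlgSpLocPComp.locP_comp _ Groth.Agent.Helper4.SDClasses.good_lft Y.property
      i.hom g.hom hip.2.1.1 hg', Groth.Agent.S9925.result _ huc⟩, huc⟩

end Groth.Agent.S10281
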