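import Groth.Statements.S10292
import Groth.Agent.Helper6.ValLift
import Groth.Agent.Helper5.SrcFlat

set_option autoImplicit false
universe u
open CategoryTheory CategoryTheory.Limits AlgebraicGeometry
open AlgSp

namespace Groth.Agent.S10292

/-- Along a flat morphism of algebraic spaces, a morphism from the spectrum of a valuation ring to the
target whose closed point is hit lifts to the source after an extension of valuation rings
(injective and local). -/
theorem result {S : Scheme.{u}} {X Y : AlgSp.Space S} (f : X ⟶ Y)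
    (hf : AlgSp.LocP @Flat f.hom) (A : Type u) [CommRing A] [IsDomain A] [ValuationRing A]
    (str : Spec (.of A) ⟶ S) (b : (AlgSp.yon S).obj (Over.mk str) ⟶ Y.obj)
    (hb : AlgSp.Points.ofPt b (IsLocalRing.closedPoint A) ∈ Set.range (AlgSp.Points.map f.hom)) :
    ∃ (A' : Type u) (_ : CommRing A') (_ : IsDomain A') (_ : ValuationRing A') (φ : A →+* A'),
      Function.Injective φ ∧ IsLocalHom φ ∧
      ∃ l : (AlgSp.yon S).obj (Over.mk (Spec.map (CommRingCat.ofHom φ) ≫ str)) ⟶ X.obj,
        l ≫ f.hom = (AlgSp.yon S).map (Over.homMk (Spec.map (CommRingCat.ofHom φ)) rfl :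
          Over.mk (Spec.map (CommRingCat.ofHom φ) ≫ str) ⟶ Over.mk str) ≫ b := by
  obtain ⟨y, hy⟩ := hb
  have hy' : AlgSp.Points.map f.hom y =
      AlgSp.Points.map b (AlgSp.Points.schemeHomeo (Over.mk str) (IsLocalRing.closedPoint A)) := by
    rw [hy]; rfl
  obtain ⟨V, c, l, v, hc, hcv, hl, -⟩ := Groth.Agent.Helper5.SrcFlat.exists_flat_chart
    Y.property X.property f.hom hf (Over.mk str) b (IsLocalRing.closedPoint A) y hy'
  haveI : Flat c.left := hc
  obtain ⟨A', i1, i2, i3, φ, hφi, hφl, l', hl', -⟩ :=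
    Groth.Agent.Helper6.ValLift.exists_valuationRing_lift A c.left v hcv
  have hw : l' ≫ V.hom = Spec.map (CommRingCat.ofHom φ) ≫ str := by
    rw [← hl', Category.assoc]
    congr 1
    exact (Over.w c).symm
  refine ⟨A', i1, i2, i3, φ, hφi, hφl,
    (AlgSp.yon S).map (Over.homMk l' hw : Over.mk (Spec.map (CommRingCat.ofHom φ) ≫ str) ⟶ V) ≫ l, ?_⟩
  rw [Category.assoc, hl, ← Category.assoc, ← Functor.map_comp]
  congr 2
  ext
  exact hl'

end Groth.Agent.S10292
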