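import Groth.Statements.S9939
import Groth.Agent.Helper4.AlgSpSrc
import Mathlib

set_option autoImplicit false
universe u
open CategoryTheory CategoryTheory.Limits AlgebraicGeometry
open AlgSp

namespace Groth.Agent.S9939


/-- For a morphism of algebraic spaces representable by schemes, representable universal injectivity is
equivalent to injectivity on K-valued points for every field K. -/
theorem result {S : Scheme.{u}} {X Y : AlgSp.Space S} (f : X ⟶ Y)
    (hf : AlgSp.Representable f.hom) :
    AlgSp.RepWith @UniversallyInjective f.hom ↔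
      ∀ (K : Type u) [Field K] (str : Spec (CommRingCat.of K) ⟶ S),
        Function.Injective (fun a : (AlgSp.yon S).obj (Over.mk str) ⟶ X.obj => a ≫ f.hom) := by

  constructor
  · intro h K _ str a a' haa
    have haa' : a ≫ f.hom = a' ≫ f.hom := haa
    have hr := h.rep
    have hpb : IsPullback (hr.fst (a ≫ f.hom)) ((yon S).map (hr.snd (a ≫ f.hom))) f.hom
        (a ≫ f.hom) := hr.isPullback _
    have hui : UniversallyInjective (hr.snd (a ≫ f.hom)).left := h.property _ _ _ hpb
    obtain ⟨σ, hσ⟩ := (yon S).map_surjective (hpb.lift a (𝟙 _) (by simp))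
    obtain ⟨σ', hσ'⟩ := (yon S).map_surjective (hpb.lift a' (𝟙 _) (by simp [haa']))
    have h1 : σ ≫ hr.snd (a ≫ f.hom) = 𝟙 _ := by
      apply (yon S).map_injective
      rw [(yon S).map_comp, hσ, hpb.lift_snd, (yon S).map_id]
    have h2 : σ' ≫ hr.snd (a ≫ f.hom) = 𝟙 _ := by
      apply (yon S).map_injective
      rw [(yon S).map_comp, hσ', hpb.lift_snd, (yon S).map_id]
    have h3 : σ.left ≫ (hr.snd (a ≫ f.hom)).left = σ'.left ≫ (hr.snd (a ≫ f.hom)).left := by
      rw [← Over.comp_left, ← Over.comp_left, h1, h2]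
    have hcrit : ∀ (K : Type u) [Field K], Function.Injective
        (fun g : Spec (.of K) ⟶ _ ↦ g ≫ (hr.snd (a ≫ f.hom)).left) :=
      ((tfae_universallyInjective (hr.snd (a ≫ f.hom)).left).out 0 1).1 hui
    have h4 : σ.left = σ'.left := hcrit K h3
    have h5 : σ = σ' := Over.OverMorphism.ext h4
    have h6 : a = (yon S).map σ ≫ hr.fst (a ≫ f.hom) := by rw [hσ, hpb.lift_fst]
    have h7 : a' = (yon S).map σ' ≫ hr.fst (a ≫ f.hom) := by rw [hσ', hpb.lift_fst]
    rw [h6, h7, h5]
  · intro h
    refine ⟨hf, ?_⟩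
    intro T E ξ c e sq
    show UniversallyInjective e.left
    have hcrit : (∀ (K : Type u) [Field K], Function.Injective
        (fun g : Spec (.of K) ⟶ _ ↦ g ≫ e.left)) → UniversallyInjective e.left :=
      ((tfae_universallyInjective e.left).out 0 1).2
    apply hcrit
    intro K _ g₁ g₂ hg
    have hg' : g₁ ≫ e.left = g₂ ≫ e.left := hg
    have hstr : g₂ ≫ E.hom = g₁ ≫ E.hom := by
      rw [← Over.w e, ← Category.assoc, ← Category.assoc, hg']
    let G₁ : Over.mk (g₁ ≫ E.hom) ⟶ E := Over.homMk g₁ rfl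
    let G₂ : Over.mk (g₁ ≫ E.hom) ⟶ E := Over.homMk g₂ hstr
    have hG : G₁ ≫ e = G₂ ≫ e := Over.OverMorphism.ext hg'
    have h1 : ((yon S).map G₁ ≫ c) ≫ f.hom = ((yon S).map G₂ ≫ c) ≫ f.hom := by
      rw [Category.assoc, Category.assoc, sq.w, ← Category.assoc, ← Category.assoc,
        ← (yon S).map_comp, ← (yon S).map_comp, hG]
    have h2 : (yon S).map G₁ ≫ c = (yon S).map G₂ ≫ c := h K (g₁ ≫ E.hom) h1
    have h3 : (yon S).map G₁ = (yon S).map G₂ := by
      apply sq.hom_ext h2
      rw [← (yon S).map_comp, ← (yon S).map_comp, hG]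
    have h4 : G₁ = G₂ := (yon S).map_injective h3
    exact congrArg (fun φ => φ.left) h4

end Groth.Agent.S9939
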