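import Groth.Statements.S10307
import Groth.Agent.Helper9.AlgFFC
import Groth.Agent.S9938
import Groth.Agent.S9939
-- import your own Groth.Agent.* helpers here

set_option autoImplicit false
universe u
open CategoryTheory CategoryTheory.Limits AlgebraicGeometry
open AlgSp

namespace Groth.Agent.S10307

/-- For an integral universally injective morphism f of algebraic spaces, f_* on small etale sites is
fully faithful on sheaves of sets and on abelian sheaves, and the counit from the pullback of the
pushforward to the identity is an isomorphism. (The description of the essential image is not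
included here.) -/
theorem result {S : Scheme.{u}} {Y X : AlgSp.Space S} (f : Y ⟶ X)
    (hi : AlgSp.RepWith @IsIntegralHom f.hom) (hu : AlgSp.IsUnivInjectiveMor f.hom) :
    ((AlgSp.pushEt hi.1 (Type (u + 1))).Full ∧ (AlgSp.pushEt hi.1 (Type (u + 1))).Faithful) ∧
    ((AlgSp.pushEt hi.1 AddCommGrpCat.{u + 1}).Full ∧ (AlgSp.pushEt hi.1 AddCommGrpCat.{u + 1}).Faithful) ∧
    IsIso (AlgSp.pullPushAdjEt hi.1 (Type (u + 1))).counit := by
  have hinj : AlgSp.RepWith @UniversallyInjective f.hom :=
    (Groth.Agent.S9939.result f hi.1).2 ((Groth.Agent.S9938.result f).1.2 hu)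
  exact ⟨Groth.Agent.Helper9.AlgFFC.full_faithful hi.1 X.property hi hinj _,
    Groth.Agent.Helper9.AlgFFC.full_faithful hi.1 X.property hi hinj _,
    Groth.Agent.Helper9.AlgFFC.isIso_counit hi.1 X.property hi hinj _⟩

end Groth.Agent.S10307
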