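import Groth.Statements.S10314
import Groth.Agent.Helper5.FlatRelDim
import Groth.Agent.Helper5.AtMorFt
import Groth.Agent.Helper5.AlgSpOpen

set_option autoImplicit false
universe u
open CategoryTheory CategoryTheory.Limits AlgebraicGeometry
open AlgSp

namespace Groth.Agent.S10314

/-- For a flat morphism locally of finite type of relative dimension d between locally Noetherian
algebraic spaces, the dimension of X at a point equals the dimension of Y at the image point plus d. -/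
theorem result {S : Scheme.{u}} {X Y : AlgSp.Space S} (f : X ⟶ Y)
    (hX : AlgSp.IsLocNoethSp X.obj) (hY : AlgSp.IsLocNoethSp Y.obj) (hf : AlgSp.LocP @Flat f.hom)
    (hf' : AlgSp.LocP @LocallyOfFiniteType f.hom) (d : ℕ)
    (hd : ∀ x : AlgSp.Points X.obj, AlgSp.HasAtMor (fun _ _ h u => FlatMor.fibreDimAt h u = (d : WithBot ℕ∞)) f.hom x)
    (x : AlgSp.Points X.obj) (dX dY : WithBot ℕ∞) (hx : AlgSp.HasAt (fun U u => FlatMor.localDim ↥U u = dX) X.obj x)
    (hy : AlgSp.HasAt (fun U u => FlatMor.localDim ↥U u = dY) Y.obj (AlgSp.Points.map f.hom x)) :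
    dX = dY + (d : WithBot ℕ∞) := by
  obtain ⟨V₀, b₀, hb₀e, hb₀s, hV₀⟩ := hY
  obtain ⟨v₀, hv₀⟩ := Groth.Agent.Helper5.AlgSpOpen.ofPt_surjective_of_repWith b₀ hb₀s
    (AlgSp.Points.map f.hom x)
  obtain ⟨U, a₀, h, u, ha₀, hcomm, hu, hhu⟩ :=
    Groth.Agent.Helper5.AtMor.exists_chart_over X.property f.hom x b₀ hb₀e v₀ hv₀
  subst hu
  have hflat : Flat h.left := hf a₀ b₀ h ha₀ hb₀e hcomm
  have hlft : LocallyOfFiniteType h.left := hf' a₀ b₀ h ha₀ hb₀e hcomm
  have hd' : ∀ u' : ↥U.left, FlatMor.fibreDimAt h.left u' = (d : WithBot ℕ∞) := fun u' =>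
    (Groth.Agent.Helper5.AtMor.hasAtMor_iff_chart_ft _
      (Groth.Agent.Helper5.AtMor.elstft_fibreDimAt (· = (d : WithBot ℕ∞))) f.hom hf' a₀ b₀ h
      ha₀ hb₀e hcomm u').1 (hd _)
  have key := Groth.Agent.Helper5.FlatRelDim.localDim_eq_add h.left d hd' u
  have e1 : FlatMor.localDim ↥U.left u = dX :=
    (Groth.Agent.Helper5.HasAtChart.hasAt_iff_chart
      (fun U u => FlatMor.localDim ↥U u = dX)
      (fun g _ x => by
        show FlatMor.localDim _ _ = dX ↔ FlatMor.localDim _ _ = dX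
        rw [Groth.Agent.Helper5.EtDim.localDim_eq_of_etale g x]) a₀ ha₀ u).1 hx
  have e2 : FlatMor.localDim ↥V₀.left (h.left u) = dY := by
    rw [hhu]
    rw [← hv₀] at hy
    exact (Groth.Agent.Helper5.HasAtChart.hasAt_iff_chart
      (fun U u => FlatMor.localDim ↥U u = dY)
      (fun g _ x => by
        show FlatMor.localDim _ _ = dY ↔ FlatMor.localDim _ _ = dY
        rw [Groth.Agent.Helper5.EtDim.localDim_eq_of_etale g x]) b₀ hb₀e v₀).1 hy
  rw [e1, e2] at key
  exact key

end Groth.Agent.S10314
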