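import Groth.Statements.S1032
import Groth.Agent.Helper1.KInjDer

set_option autoImplicit false
universe w v v' u u'
open CategoryTheory CategoryTheory.Limits
open CohDer

namespace Groth.Agent.S1032

/-- Let A be an abelian category in which every cochain complex admits a quasi-isomorphism to a
K-injective complex, and let F be an exact functor from the homotopy category K(A) to a
pretriangulated category. Then F has a right derived functor RF with respect to quasi-isomorphisms
(defined on D(A)), and the canonical map F(I) ⟶ RF(I) is an isomorphism for every K-injective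
complex I. -/
theorem result {A : Type u} [Category.{v} A] [Abelian A] [HasDerivedCategory.{w} A]
    (hKinj : ∀ K : CochainComplex A ℤ, ∃ (I : CochainComplex A ℤ) (f : K ⟶ I), I.IsKInjective ∧ QuasiIso f)
    {D' : Type u'} [Category.{v'} D'] [Preadditive D'] [Limits.HasZeroObject D'] [HasShift D' ℤ]
    [∀ n : ℤ, (shiftFunctor D' n).Additive] [Pretriangulated D']
    [IsTriangulated D']
    (F : HomotopyCategory A (ComplexShape.up ℤ) ⥤ D') [F.CommShift ℤ] [F.IsTriangulated] :
    F.HasRightDerivedFunctor (HomotopyCategory.quasiIso A (ComplexShape.up ℤ)) ∧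
    ∀ [F.HasRightDerivedFunctor (HomotopyCategory.quasiIso A (ComplexShape.up ℤ))] (I : CochainComplex A ℤ), I.IsKInjective →
      IsIso ((F.totalRightDerivedUnit DerivedCategory.Qh (HomotopyCategory.quasiIso A (ComplexShape.up ℤ))).app
        ((HomotopyCategory.quotient A (ComplexShape.up ℤ)).obj I)) := by
  classical
  have hD := Groth.Agent.Helper1.KInjDer.isRightDerivabilityStructure (A := A) hKinj
  have h : (Groth.Agent.Helper1.KInjDer.Φ A).Derives F := by
    intro X Y f hf
    have : IsIso f := hf
    infer_instance
  have h1 : F.HasRightDerivedFunctor (HomotopyCategory.quasiIso A (ComplexShape.up ℤ)) := by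
    have := h.hasPointwiseRightDerivedFunctor
    infer_instance
  refine ⟨h1, ?_⟩
  intro _ I hI
  have hP : Groth.Agent.Helper1.KInjDer.P A ((HomotopyCategory.quotient A (ComplexShape.up ℤ)).obj I) :=
    hI.rightOrthogonal
  exact h.isIso_of_isRightDerivedFunctor
    (F.totalRightDerivedUnit DerivedCategory.Qh (HomotopyCategory.quasiIso A (ComplexShape.up ℤ)))
    ⟨(HomotopyCategory.quotient A (ComplexShape.up ℤ)).obj I, hP⟩

end Groth.Agent.S1032
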