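import Groth.Statements.S10323
import Groth.Agent.Helper5.SpDimIneq

set_option autoImplicit false
universe u
open CategoryTheory CategoryTheory.Limits AlgebraicGeometry
open AlgSp

namespace Groth.Agent.S10323

/-- For Y locally Noetherian and f locally of finite type, the dimension of the local ring of X at x is
at most the dimension of the local ring of Y at the image point plus E minus the transcendence
degree of x over its image, where E bounds the transcendence degrees of the codimension-0 points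
specializing to x. -/
theorem result {S : Scheme.{u}} {X Y : AlgSp.Space S} (f : X ⟶ Y)
    (hY : AlgSp.IsLocNoethSp Y.obj) (hf : AlgSp.LocP @LocallyOfFiniteType f.hom) (x : AlgSp.Points X.obj)
    (E : Cardinal.{u})
    (hE : ∀ ξ : AlgSp.Points X.obj, ξ ⤳ x → AlgSp.HasAt (fun U u => ringKrullDim ↥(U.presheaf.stalk u) = 0) X.obj ξ →
      ∀ s : Cardinal.{u}, AlgSp.HasAtMor (fun _ _ h u => Dual3.resTrdeg h u = s) f.hom ξ → s ≤ E)
    (a b : WithBot ℕ∞) (r : Cardinal.{u})
    (ha : AlgSp.HasAt (fun U u => ringKrullDim ↥(U.presheaf.stalk u) = a) X.obj x)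
    (hb : AlgSp.HasAt (fun U u => ringKrullDim ↥(U.presheaf.stalk u) = b) Y.obj (AlgSp.Points.map f.hom x))
    (hr : AlgSp.HasAtMor (fun _ _ h u => Dual3.resTrdeg h u = r) f.hom x) :
    a + ((Cardinal.toENat r : ℕ∞) : WithBot ℕ∞) ≤ b + ((Cardinal.toENat E : ℕ∞) : WithBot ℕ∞) := by
  obtain ⟨V₀, b₀, hb₀e, hb₀s, hV₀⟩ := hY
  obtain ⟨v₀, hv₀⟩ := Groth.Agent.Helper5.AlgSpOpen.ofPt_surjective_of_repWith b₀ hb₀s
    (AlgSp.Points.map f.hom x)
  obtain ⟨U, a₀, h, u, ha₀, hcomm, hu, hhu⟩ :=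
    Groth.Agent.Helper5.AtMor.exists_chart_over X.property f.hom x b₀ hb₀e v₀ hv₀
  subst hu
  have key := Groth.Agent.Helper5.SpDimIneq.chart_ineq f.hom hf E a₀ b₀ h ha₀ hb₀e hcomm u hE
  have e1 : ringKrullDim ↥(U.left.presheaf.stalk u) = a :=
    (Groth.Agent.Helper5.HasAtChart.hasAt_iff_chart
      (fun U u => ringKrullDim ↥(U.presheaf.stalk u) = a)
      (fun g _ x => by
        show ringKrullDim _ = a ↔ ringKrullDim _ = a
        rw [Groth.Agent.Helper5.EtDim.ringKrullDim_stalk_eq_of_etale g x]) a₀ ha₀ u).1 ha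
  have e2 : ringKrullDim ↥(V₀.left.presheaf.stalk (h.left u)) = b := by
    rw [hhu]
    rw [← hv₀] at hb
    exact (Groth.Agent.Helper5.HasAtChart.hasAt_iff_chart
      (fun U u => ringKrullDim ↥(U.presheaf.stalk u) = b)
      (fun g _ x => by
        show ringKrullDim _ = b ↔ ringKrullDim _ = b
        rw [Groth.Agent.Helper5.EtDim.ringKrullDim_stalk_eq_of_etale g x]) b₀ hb₀e v₀).1 hb
  have e3 : Dual3.resTrdeg h.left u = r :=
    (Groth.Agent.Helper5.AtMor.hasAtMor_iff_chart _ (Groth.Agent.Helper5.ResTr.elst_resTrdeg r)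
      f.hom a₀ b₀ h ha₀ hb₀e hcomm u).1 hr
  rw [e1, e2, e3] at key
  exact key

end Groth.Agent.S10323
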