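import Groth.Statements.S10324
import Groth.Agent.Helper5.SpDimIneq

set_option autoImplicit false
universe u
open CategoryTheory CategoryTheory.Limits AlgebraicGeometry
open AlgSp

namespace Groth.Agent.S10324

/-- For Y locally Noetherian and f : X -> Y locally of finite type, dim X ≤ dim Y + E where E bounds the
transcendence degrees over Y of the codimension-0 points of X. -/
theorem result {S : Scheme.{u}} {X Y : AlgSp.Space S} (f : X ⟶ Y)
    (hY : AlgSp.IsLocNoethSp Y.obj) (hf : AlgSp.LocP @LocallyOfFiniteType f.hom) (E : Cardinal.{u})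
    (hE : ∀ ξ : AlgSp.Points X.obj, AlgSp.HasAt (fun U u => ringKrullDim ↥(U.presheaf.stalk u) = 0) X.obj ξ → ∀ s : Cardinal.{u}, AlgSp.HasAtMor (fun _ _ h u => Dual3.resTrdeg h u = s) f.hom ξ → s ≤ E) :
    AlgSp.dim X.obj ≤ AlgSp.dim Y.obj + ((Cardinal.toENat E : ℕ∞) : WithBot ℕ∞) := by
  obtain ⟨V₀, b₀, hb₀e, hb₀s, hV₀⟩ := hY
  unfold AlgSp.dim
  refine iSup_le fun U₁ => iSup_le fun a₁ => iSup_le fun ha₁ => ?_
  rw [Groth.Agent.Helper5.EtDim.topologicalKrullDim_eq_iSup_coheight]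
  refine iSup_le fun u₁ => ?_
  obtain ⟨v₀, hv₀⟩ := Groth.Agent.Helper5.AlgSpOpen.ofPt_surjective_of_repWith b₀ hb₀s
    (AlgSp.Points.map f.hom (AlgSp.Points.ofPt a₁ u₁))
  obtain ⟨U, a₀, h, u, ha₀, hcomm, hu, hhu⟩ :=
    Groth.Agent.Helper5.AtMor.exists_chart_over X.property f.hom _ b₀ hb₀e v₀ hv₀
  have key := Groth.Agent.Helper5.SpDimIneq.chart_ineq f.hom hf E a₀ b₀ h ha₀ hb₀e hcomm u
    (fun ξ _ => hE ξ)
  have e1 : ringKrullDim ↥(U.left.presheaf.stalk u) =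
      ringKrullDim ↥(U₁.left.presheaf.stalk u₁) :=
    Groth.Agent.Helper5.HasAtChart.chart_indep
      (fun W w => ringKrullDim ↥(W.presheaf.stalk w) = ringKrullDim ↥(U₁.left.presheaf.stalk u₁))
      (fun g _ x => by
        show ringKrullDim _ = _ ↔ ringKrullDim _ = _
        rw [Groth.Agent.Helper5.EtDim.ringKrullDim_stalk_eq_of_etale g x]) a₁ a₀ ha₁ ha₀ u₁ u
      hu.symm rfl
  rw [e1, ringKrullDim_stalk_eq_coheight, ringKrullDim_stalk_eq_coheight] at key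
  have h1 : ((Order.coheight u₁ : ℕ∞) : WithBot ℕ∞) ≤
      ((Order.coheight u₁ : ℕ∞) : WithBot ℕ∞) +
        ((Cardinal.toENat (Dual3.resTrdeg h.left u) : ℕ∞) : WithBot ℕ∞) :=
    le_add_of_nonneg_right (WithBot.coe_nonneg.2 zero_le)
  refine h1.trans (key.trans (add_le_add_left ?_ _))
  refine le_iSup_of_le V₀ (le_iSup_of_le b₀ (le_iSup_of_le hb₀e ?_))
  rw [Groth.Agent.Helper5.EtDim.topologicalKrullDim_eq_iSup_coheight]
  exact le_iSup (fun w : ↥V₀.left => ((Order.coheight w : ℕ∞) : WithBot ℕ∞)) (h.left u)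

end Groth.Agent.S10324
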