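import Groth.Statements.S10328
import Groth.Agent.Helper5.CompFib2
import Groth.Agent.Helper5.AtMorFt

set_option autoImplicit false
universe u
open CategoryTheory CategoryTheory.Limits AlgebraicGeometry
open AlgSp

namespace Groth.Agent.S10328

/-- The relative dimension of a composite at a point is at most the sum of the relative dimensions, with
equality when the first morphism is flat at the point. (The published part (2) allows more generally
flatness of a fibre of X -> Y over a field point of Z; only the case f flat at x is stated.) -/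
theorem result {S : Scheme.{u}} {X Y Z : AlgSp.Space S} (f : X ⟶ Y) (g : Y ⟶ Z)
    (hf : AlgSp.LocP @LocallyOfFiniteType f.hom) (hg : AlgSp.LocP @LocallyOfFiniteType g.hom)
    (x : AlgSp.Points X.obj) (a b : WithBot ℕ∞)
    (ha : AlgSp.HasAtMor (fun _ _ h u => FlatMor.fibreDimAt h u = a) f.hom x)
    (hb : AlgSp.HasAtMor (fun _ _ h u => FlatMor.fibreDimAt h u = b) g.hom (AlgSp.Points.map f.hom x)) :
    AlgSp.HasAtMor (fun _ _ h u => FlatMor.fibreDimAt h u ≤ a + b) (f ≫ g).hom x ∧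
    (AlgSp.IsFlatAtMor f.hom x → AlgSp.HasAtMor (fun _ _ h u => FlatMor.fibreDimAt h u = a + b) (f ≫ g).hom x) := by
  obtain ⟨V, W, b₀, c₀, k, v, hb₀, hc₀, hcomm2, hv, hk⟩ := hb
  obtain ⟨U, a₀, h, u, ha₀, hcomm1, hu, hhu⟩ :=
    Groth.Agent.Helper5.AtMor.exists_chart_over X.property f.hom x b₀ hb₀ v hv
  subst hu
  have hlh : LocallyOfFiniteType h.left := hf a₀ b₀ h ha₀ hb₀ hcomm1
  have hlk : LocallyOfFiniteType k.left := hg b₀ c₀ k hb₀ hc₀ hcomm2
  have e1 : FlatMor.fibreDimAt h.left u = a :=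
    (Groth.Agent.Helper5.AtMor.hasAtMor_iff_chart_ft _
      (Groth.Agent.Helper5.AtMor.elstft_fibreDimAt (· = a)) f.hom hf a₀ b₀ h ha₀ hb₀ hcomm1 u).1 ha
  have hcomm : a₀ ≫ (f ≫ g).hom = (AlgSp.yon S).map (h ≫ k) ≫ c₀ := by
    rw [show (f ≫ g).hom = f.hom ≫ g.hom from rfl, ← Category.assoc, hcomm1, Category.assoc,
      hcomm2, Functor.map_comp, Category.assoc]
  have key := Groth.Agent.Helper5.CompFib.fibreDimAt_comp h.left k.left u
  have e2 : FlatMor.fibreDimAt k.left (h.left u) = b := by rw [hhu]; exact hk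
  rw [e1, e2] at key
  exact ⟨⟨U, W, a₀, c₀, h ≫ k, u, ha₀, hc₀, hcomm, rfl, key.1⟩,
    fun hfl => ⟨U, W, a₀, c₀, h ≫ k, u, ha₀, hc₀, hcomm, rfl,
      key.2 (hfl a₀ b₀ h u ha₀ hb₀ hcomm1 rfl)⟩⟩

end Groth.Agent.S10328
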