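import Groth.Statements.S10355
import Groth.Agent.Helper5.DegStr9
import Groth.Agent.Helper5.AlgSpIso
import Groth.Agent.Helper4.AlgSpPts

set_option autoImplicit false
universe u
open CategoryTheory CategoryTheory.Limits AlgebraicGeometry Topology TopologicalSpace
open AlgSp

namespace Groth.Agent.S10355

/-- A decent algebraic space X over a scheme S whose space of points is a single point is a scheme (the
underlying sheaf of X is representable). -/
theorem result {S : Scheme.{u}} (X : AlgSp.Space S)
    (hX : AlgSp.IsDecent X.obj) [Nonempty (AlgSp.Points X.obj)] [Subsingleton (AlgSp.Points X.obj)] :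
    X.obj.obj.IsRepresentable := by
  obtain ⟨X', j, hj, hrep, hdense⟩ := Groth.Agent.Helper5.DegStr.s10337 X hX
  have hsurj : Function.Surjective (AlgSp.Points.map j.hom) := by
    intro y
    obtain ⟨z, w, hw⟩ := hdense.nonempty
    exact ⟨w, Subsingleton.elim _ _⟩
  have hs : AlgSp.RepWith @Surjective j.hom :=
    Groth.Agent.Helper4.AlgSpPts.repWith_surjective_of_isSurjectiveMor j.hom hj.rep hsurj
  haveI : IsIso j.hom := Groth.Agent.Helper5.AlgSpIso.isIso_of_openImmersion_surjective j.hom hj hs
  obtain ⟨W, ⟨e⟩⟩ := hrep.has_representation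
  let e' : (AlgSp.yon S).obj W ≅ X.obj := AlgSp.isoOfRepresentableBy e ≪≫ asIso j.hom
  exact ⟨⟨W, ⟨AlgSp.representableByOfIso e'⟩⟩⟩

end Groth.Agent.S10355
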