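import Groth.Statements.S10362
import Groth.Agent.Helper5.AlgSpMonoPt
import Groth.Agent.Helper4.AlgSpSrc

set_option autoImplicit false
universe u
open CategoryTheory CategoryTheory.Limits AlgebraicGeometry Topology TopologicalSpace
open AlgSp

namespace Groth.Agent.S10362

/-- (4) ⇒ (6): let X be an algebraic space over a scheme S and x ∈ |X| a point represented by a
monomorphism Spec k ⟶ X which is representable quasi-compact. Then every morphism Spec k' ⟶ X in the
class of x, where k' is a field, is representable quasi-compact. -/
theorem result {S : Scheme.{u}} (X : AlgSp.Space S)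
    (p q : AlgSp.FieldPt X.obj) (hm : Mono p.toHom) (hp : AlgSp.RepWith @QuasiCompact p.toHom)
    (h : AlgSp.Points.mk q = AlgSp.Points.mk p) : AlgSp.RepWith @QuasiCompact q.toHom := by
  have := hm
  obtain ⟨c, hc, -⟩ := Groth.Agent.Helper5.AlgSpMonoPt.existsUnique_factor X.property p q h.symm
  rw [← hc]
  refine Groth.Agent.Helper4.AlgSpSrc.repWith_comp _ ?_ hp
  refine (AlgSp.repWith_yon_map_iff _ _).2 ?_
  have h1 : CompactSpace ↥q.pt.left := (inferInstance : CompactSpace ↥(Spec (CommRingCat.of q.K)))
  have h2 : QuasiSeparatedSpace ↥p.pt.left :=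
    (inferInstance : QuasiSeparatedSpace ↥(Spec (CommRingCat.of p.K)))
  exact quasiCompact_of_compactSpace c.left

end Groth.Agent.S10362
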