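import Groth.Statements.S10372
import Groth.Agent.Helper5.HasAtChart
import Groth.Agent.Helper5.EtDim
import Groth.Agent.Helper5.DimIneq3

set_option autoImplicit false
universe u
open CategoryTheory CategoryTheory.Limits AlgebraicGeometry Topology TopologicalSpace
open AlgSp

namespace Groth.Agent.S10372

/-- A reduced, locally Noetherian algebraic space Z over a scheme S whose space of points is a single
point is regular (etale locally a regular scheme). -/
theorem result {S : Scheme.{u}} (Z : AlgSp.Space S)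
    (hr : AlgSp.EtaleLocally (fun U => IsReduced U) Z.obj) (hN : AlgSp.IsLocNoethSp Z.obj)
    [Nonempty (AlgSp.Points Z.obj)] [Subsingleton (AlgSp.Points Z.obj)] :
    AlgSp.EtaleLocally (fun U => IsLocallyNoetherian U ∧ ∀ u : ↥U, IsRegularLocalRing ↥(U.presheaf.stalk u)) Z.obj := by
  obtain ⟨U, p, hpe, hps, hUN⟩ := hN
  refine ⟨U, p, hpe, hps, hUN, fun u => ?_⟩
  have hred := (Groth.Agent.Helper5.HasAtChart.isReducedSp_iff Z.property).1 hr
  have hru : _root_.IsReduced ↥(U.left.presheaf.stalk u) :=
    (Groth.Agent.Helper5.HasAtChart.hasAt_iff_chart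
      (fun U u => _root_.IsReduced ↥(U.presheaf.stalk u))
      (fun g _ x => Groth.Agent.Helper5.HasAtChart.isReduced_stalk_iff_of_etale g x) p hpe u).1
      (hred _)
  have hne : Nonempty ↥U.left := ⟨u⟩
  obtain ⟨u₀, hu₀⟩ := Groth.Agent.Helper5.DimIneq.exists_coheight_eq_zero U.left
  have hdim0 : ringKrullDim ↥(U.left.presheaf.stalk u₀) = 0 := by
    rw [ringKrullDim_stalk_eq_coheight, hu₀]; rfl
  have hdim : ringKrullDim ↥(U.left.presheaf.stalk u) = 0 :=
    Groth.Agent.Helper5.HasAtChart.chart_indep
      (fun W w => ringKrullDim ↥(W.presheaf.stalk w) = 0)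
      (fun g _ x => by
        show ringKrullDim _ = 0 ↔ ringKrullDim _ = 0
        rw [Groth.Agent.Helper5.EtDim.ringKrullDim_stalk_eq_of_etale g x]) p p hpe hpe u₀ u
      (Subsingleton.elim _ _) hdim0
  have hNoeth : IsNoetherianRing ↥(U.left.presheaf.stalk u) := inferInstance
  have hK : Ring.KrullDimLE 0 ↥(U.left.presheaf.stalk u) := Ring.krullDimLE_iff.2 hdim.le
  have hF : IsField ↥(U.left.presheaf.stalk u) := Ring.KrullDimLE.isField_of_isReduced
  have hD : IsDomain ↥(U.left.presheaf.stalk u) := hF.isDomain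
  have hP : IsPrincipalIdealRing ↥(U.left.presheaf.stalk u) := hF.isPrincipalIdealRing
  infer_instance

end Groth.Agent.S10372
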