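import Groth.Statements.S1041
import Mathlib
import Groth.Agent.Helper9.TT11
-- import your own Groth.Agent.* helpers here

set_option autoImplicit false
universe u
open CategoryTheory CategoryTheory.Limits AlgebraicGeometry
attribute [local instance] HasDerivedCategory.standard
open Perf

namespace Groth.Agent.S1041

/-- Let X be an affine scheme, T ⊆ X a closed subset with quasi-compact complement, U a quasi-compact
open and F a perfect object of D(O_U) whose cohomology sheaves are supported on T ∩ U. Then F ⊕ F[1]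
extends to X as a perfect complex whose cohomology sheaves are supported on T (through a
representing complex restricted termwise; the binary direct sum in D(O_U) is assumed to exist, which
it does). -/
theorem result (X : Scheme.{u}) [IsAffine X] (T : Set X) (hT : IsClosed T) (hTc : IsCompact Tᶜ)
    (U : X.Opens) (hU : IsCompact (U : Set X))
    (F : DCoh.D (U : Scheme.{u})) (hF : DCoh.IsPerfect F)
    (hFT : ∀ i : ℤ, CohB1.support (DCoh.HD F i) ⊆ {x : ↥(U : Scheme.{u}) | U.ι.base x ∈ T}) [HasBinaryBiproduct F (F⟦(1 : ℤ)⟧)] :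
    ∃ G : CochainComplex X.Modules ℤ, DCoh.IsPerfect (DCoh.toD X G) ∧ (∀ i : ℤ, CohB1.support (DCoh.HD (DCoh.toD X G) i) ⊆ T) ∧
      Nonempty (DerivedCategory.Q.obj ((DCoh.restrictCx U).obj G) ≅ F ⊞ F⟦(1 : ℤ)⟧) := by
  let V : X.Opens := ⟨Tᶜ, hT.isOpen_compl⟩
  have hFV : ∀ (i : ℤ) (x : U), U.ι x ∈ V → x ∉ CohB1.support (DCoh.HD F i) := by
    intro i x hx hxs
    exact hx (hFT i hxs)
  obtain ⟨G', hG', hG'V, ⟨e⟩⟩ := Groth.Agent.Helper9.TT11.exists_extension_supp X U V hU hTc F hF hFV
  let G : CochainComplex X.Modules ℤ := DerivedCategory.Q.objPreimage G'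
  let e₀ : DerivedCategory.Q.obj G ≅ G' := DerivedCategory.Q.objObjPreimageIso G'
  refine ⟨G, Groth.Agent.Lead.PerfLib.isPerfect_of_iso e₀.symm hG', ?_, ⟨?_⟩⟩
  · intro i x hx
    by_contra hxT
    have h1 := ((Groth.Agent.Helper9.TT2.zeroOn_iff_vanOn _ _).1 hG'V i).of_iso e₀.symm
    exact h1 x hxT hx
  · exact ((Scheme.Modules.restrictFunctor U.ι).mapDerivedCategoryFactors.app G).symm ≪≫
      (DCoh.restrictD U.ι).mapIso e₀ ≪≫ e

end Groth.Agent.S1041
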