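import Groth.Statements.S10426
import Groth.Agent.Helper4.UB5
import Groth.Agent.Helper4.AlgSpPtsDesc
import Groth.Agent.Helper4.BddFib1
import Mathlib

set_option autoImplicit false
universe u
open CategoryTheory CategoryTheory.Limits AlgebraicGeometry Topology TopologicalSpace
open AlgSp

namespace Groth.Agent.S10426


/-- Let S be a scheme, X and Y algebraic spaces over S, and g : Y ⟶ X a representable morphism; let U be
a scheme, f : U ⟶ X a morphism, and f′ : U ×_X Y ⟶ Y its base change. Assume the image of |U| → |X|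
is contained in the image of |Y| → |X| and that f′ has universally bounded fibres. Then the morphism
f also has universally bounded fibres. -/
theorem result {S : Scheme.{u}} {X Y : AlgSp.Space S} (g : Y ⟶ X)
    (hg : AlgSp.Representable g.hom) {U V : Over S} (f : (AlgSp.yon S).obj U ⟶ X.obj)
    (fst : (AlgSp.yon S).obj V ⟶ (AlgSp.yon S).obj U) (f' : (AlgSp.yon S).obj V ⟶ Y.obj) (h : IsPullback fst f' f g.hom)
    (him : Set.range (AlgSp.Points.ofPt f) ⊆ Set.range (AlgSp.Points.map g.hom)) (hf' : W4dec.HasUnivBddFibres f') :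
    W4dec.HasUnivBddFibres f := by

  open Groth.Agent.Helper4 Groth.Agent.Helper4.UB1 Groth.Agent.Helper4.UB2 Groth.Agent.Helper4.UB5 in
  obtain ⟨n, hn⟩ := hf'
  refine ⟨n, ?_⟩
  intro q T c snd sq
  obtain ⟨σ, rfl⟩ := (yon S).map_surjective snd
  by_cases hT : IsEmpty ↥T.left
  · apply of_finiteOfDegLE q.K c.left n
    letI : Algebra (CommRingCat.of q.K) Γ(T.left, ⊤) := BddFib.secAlgebra (CommRingCat.of q.K) c.left
    refine ⟨inferInstance, Module.Finite.of_finite, ?_⟩
    rw [Module.finrank_zero_of_subsingleton]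
    exact Nat.zero_le _
  · rw [not_isEmpty_iff] at hT
    obtain ⟨t⟩ := hT
    have e1 : Points.ofPt f (σ.left t) = Points.mk q := by
      rw [← AlgSpPtsDesc.ofPt_yon_map_comp, ← sq.w, AlgSpPtsDesc.ofPt_yon_map_comp,
        Points.ofPt_toHom]
    obtain ⟨y, hy⟩ := him (Set.mem_range_self (σ.left t))
    obtain ⟨qY, rfl⟩ := Points.mk_surjective y
    rw [Points.map_mk, e1] at hy
    obtain ⟨Ω, _, w, a₀, b, hab⟩ := Points.mk_eq_mk_iff.mp hy
    have e2₀ := toHom_eq_of_rel (qY.map g.hom) q a₀ b hab
    rw [FieldPt.toHom_map] at e2₀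
    obtain ⟨a, e2⟩ : ∃ a : Over.mk w ⟶ qY.pt,
      (yon S).map a ≫ qY.toHom ≫ g.hom = (yon S).map b ≫ q.toHom := ⟨a₀, e2₀⟩
    clear e2₀ hab a₀
    -- the field point of Y over Ω
    let qΩ : FieldPt Y.obj := ⟨Ω, w, Y.obj.obj.map a.op qY.val⟩
    have hqΩ : qΩ.toHom = (yon S).map a ≫ qY.toHom := by
      unfold FieldPt.toHom
      rw [GrothendieckTopology.uliftYonedaEquiv_symm_naturality_left]
    -- pullback of c along b
    have pb : IsPullback (pullback.fst c b) (pullback.snd c b) c b := IsPullback.of_hasPullback c b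
    have pbY := isPullback_yon_map pb
    have big : IsPullback ((yon S).map (pullback.snd c b)) ((yon S).map (pullback.fst c b ≫ σ))
        ((yon S).map b ≫ q.toHom) f := by
      rw [Functor.map_comp]
      exact (pbY.flip.paste_vert sq)
    have comm : (yon S).map (pullback.fst c b ≫ σ) ≫ f =
        ((yon S).map (pullback.snd c b) ≫ qΩ.toHom) ≫ g.hom := by
      rw [hqΩ, Category.assoc, Category.assoc, e2, big.w]
    obtain ⟨s'', hs1, hs2⟩ := h.exists_lift _ _ comm
    have e3 : qΩ.toHom ≫ g.hom = (yon S).map b ≫ q.toHom := by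
      rw [hqΩ, Category.assoc, e2]
    have sq' : IsPullback ((yon S).map (pullback.snd c b)) s'' qΩ.toHom f' := by
      refine (IsPullback.of_right ?_ hs2 h).flip
      rw [hs1, e3]
      exact big.flip
    have hfin := finiteOfDegLE_of Ω (pullback.snd c b).left n
      (hn qΩ (pullback c b) (pullback.snd c b) s'' sq')
    apply of_finiteOfDegLE q.K c.left n
    exact BddFib1.finiteOfDegLE_descend q.K Ω c.left (pullback.snd c b).left
      (pullback.fst c b).left b.left (isPullback_left pb) n hfin

end Groth.Agent.S10426
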