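import Groth.Statements.S10429
import Groth.Agent.Helper4.UB7
import Groth.Agent.Helper4.UB8
import Groth.Agent.Helper4.UB3
import Groth.Agent.Helper4.AlgSpPtsDesc
import Groth.Agent.Helper4.AlgSpQC2
import Groth.Agent.Helper4.BddFib9
import Mathlib

set_option autoImplicit false
universe u
open CategoryTheory CategoryTheory.Limits AlgebraicGeometry Topology TopologicalSpace
open AlgSp

namespace Groth.Agent.S10429


/-- For an algebraic space X over a scheme S, if there are etale morphisms U_i ⟶ X from schemes with ∐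
U_i ⟶ X surjective and each U_i ⟶ X with universally bounded fibres, then every etale morphism U ⟶ X
from an affine scheme has universally bounded fibres (the converse implication is immediate). -/
theorem result {S : Scheme.{u}} (X : AlgSp.Space S) {ι : Type u} (U : ι → Over S)
    (φ : ∀ i, (AlgSp.yon S).obj (U i) ⟶ X.obj) (hφ : ∀ i, AlgSp.RepWith @Etale (φ i))
    (hsurj : ∀ x : AlgSp.Points X.obj, ∃ (i : ι) (v : ↥(U i).left), AlgSp.Points.ofPt (φ i) v = x)
    (hb : ∀ i, W4dec.HasUnivBddFibres (φ i)) {V : Over S} [IsAffine V.left] (ψ : (AlgSp.yon S).obj V ⟶ X.obj)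
    (hψ : AlgSp.RepWith @Etale ψ) : W4dec.HasUnivBddFibres ψ := by

  open Groth.Agent.Helper4 Groth.Agent.Helper4.UB1 Groth.Agent.Helper4.UB2 in
  choose n hn using hb
  choose P π s hP using fun i => X.property.representable_from_yon (φ i) ψ
  choose r hr using fun i => (yon S).map_surjective (s i)
  haveI hπ : ∀ i, Etale (π i).left := fun i =>
    ((repWith_iff _ (φ i)).mp (hφ i)).2 ψ (s i) (π i) (hP i)
  haveI hre : ∀ i, Etale (r i).left := fun i =>
    ((repWith_iff _ ψ).mp hψ).2 (φ i) ((yon S).map (π i)) (r i) (by rw [hr]; exact (hP i).flip)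
  -- covering
  have hcov : ∀ v : ↥V.left, ∃ (i : ι) (z : ↥(P i).left), (π i).left z = v := by
    intro v
    obtain ⟨i, u, hu⟩ := hsurj (Points.ofPt ψ v)
    obtain ⟨p, -, hp2⟩ := AlgSpPtsDesc.exists_point_of_isPullback (hP i)
      (Points.schemeHomeo (U i) u) (Points.schemeHomeo V v)
      (by rw [AlgSpQC2.ofPt_eq_map_schemeHomeo, AlgSpQC2.ofPt_eq_map_schemeHomeo]; exact hu)
    obtain ⟨z, rfl⟩ := (Points.schemeHomeo (P i)).surjective p
    rw [Points.map_yon_map_apply] at hp2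
    exact ⟨i, z, (Points.schemeHomeo V).injective hp2⟩
  choose iv zv hzv using hcov
  have haff : ∀ v : ↥V.left, ∃ A : (P (iv v)).left.Opens, IsAffineOpen A ∧ zv v ∈ A := by
    intro v
    obtain ⟨A, hA, hz, -⟩ := exists_isAffineOpen_mem_and_subset (x := zv v)
      (U := (⊤ : (P (iv v)).left.Opens)) trivial
    exact ⟨A, hA, hz⟩
  choose A hA hzA using haff
  have hopen : ∀ v, IsOpen ((π (iv v)).left '' (A v : Set ↥(P (iv v)).left)) :=
    fun v => (π (iv v)).left.isOpenMap _ (A v).2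
  obtain ⟨t, ht⟩ := isCompact_univ.elim_finite_subcover
    (fun v : ↥V.left => (π (iv v)).left '' (A v : Set ↥(P (iv v)).left)) hopen
    (fun v _ => Set.mem_iUnion.mpr ⟨v, zv v, hzA v, hzv v⟩)
  -- the finite family
  let W : ↥t → Over S := fun j => Over.mk ((A j.1).ι ≫ (P (iv j.1)).hom)
  let ιj : ∀ j : ↥t, W j ⟶ P (iv j.1) := fun j => Over.homMk (A j.1).ι rfl
  let e : ∀ j : ↥t, W j ⟶ V := fun j => ιj j ≫ π (iv j.1)
  have hsurj' : ∀ v' : ↥V.left, ∃ (j : ↥t) (w : ↥(W j).left), (e j).left w = v' := by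
    intro v'
    obtain ⟨v, hv⟩ := Set.mem_iUnion.mp (ht (Set.mem_univ v'))
    obtain ⟨hvt, a, ha, rfl⟩ := Set.mem_iUnion.mp hv
    exact ⟨⟨v, hvt⟩, (⟨a, ha⟩ : ↥(A v)), rfl⟩
  have hbound : ∀ j : ↥t, ∃ m : ℕ, W4dec.DegFibresLE (m * n (iv j.1)) ((yon S).map (e j) ≫ ψ) := by
    intro j
    haveI : CompactSpace ↥(A j.1) := isCompact_iff_compactSpace.mp (hA j.1).isCompact
    haveI : Etale (ιj j ≫ r (iv j.1)).left := by
      change Etale ((A j.1).ι ≫ (r (iv j.1)).left)
      infer_instance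
    haveI : LocallyQuasiFinite (ιj j ≫ r (iv j.1)).left :=
      BddFib9.locallyQuasiFinite_of_etale _
    haveI : CompactSpace ↥(W j).left := inferInstanceAs (CompactSpace ↥(A j.1))
    obtain ⟨m, hm⟩ := BddFib8.s7441 (ιj j ≫ r (iv j.1)).left
    refine ⟨m, ?_⟩
    have h1 := UB3.degFibresLE_comp X (ιj j ≫ r (iv j.1)) (φ (iv j.1)) m (n (iv j.1))
      (UB6.degFibresLE_of_fibreDegLE _ m hm) (hn (iv j.1))
    have e1 : (yon S).map (e j) ≫ ψ = (yon S).map (ιj j ≫ r (iv j.1)) ≫ φ (iv j.1) := by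
      rw [Functor.map_comp, Functor.map_comp, Category.assoc, Category.assoc, hr, (hP _).w]
    rw [e1]
    exact h1
  choose m hm using hbound
  refine ⟨∑ j, m j * n (iv j.1), UB7.degFibresLE_of_card X ψ hψ _ ?_⟩
  intro q T c snd sq
  obtain ⟨σ, rfl⟩ := (yon S).map_surjective snd
  exact UB8.card_fibre_le X ψ W e hsurj' (fun j => m j * n (iv j.1)) hm q T c σ sq

end Groth.Agent.S10429
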