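import Groth.Statements.S10431
import Groth.Agent.Helper4.UB10
import Groth.Agent.S10429
import Groth.Agent.S10425
import Mathlib

set_option autoImplicit false
universe u
open CategoryTheory CategoryTheory.Limits AlgebraicGeometry Topology TopologicalSpace
open AlgSp

namespace Groth.Agent.S10431


/-- Let S be a scheme, X and Y algebraic spaces over S, and X ⟶ Y a representable morphism. If every
etale morphism from an affine scheme to Y has universally bounded fibres, then so does every etale
morphism from an affine scheme to X. -/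
theorem result {S : Scheme.{u}} {X Y : AlgSp.Space S} (f : X ⟶ Y)
    (hf : AlgSp.Representable f.hom)
    (hY : ∀ (V : Over S) (ψ : (AlgSp.yon S).obj V ⟶ Y.obj), IsAffine V.left → AlgSp.RepWith @Etale ψ → W4dec.HasUnivBddFibres ψ)
    (U : Over S) (φ : (AlgSp.yon S).obj U ⟶ X.obj) (hU : IsAffine U.left) (hφ : AlgSp.RepWith @Etale φ) :
    W4dec.HasUnivBddFibres φ := by

  open Groth.Agent.Helper4 in
  obtain ⟨κ, W, w, hWaff, hwet, hwsurj⟩ := UB10.exists_affine_etale_cover Y
  have hwb : ∀ k, W4dec.HasUnivBddFibres (w k) := fun k => hY (W k) (w k) (hWaff k) (hwet k)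
  choose Q snd fst sq using fun k => hf (w k)
  have hfet : ∀ k, RepWith @Etale (fst k) := fun k =>
    MorphismProperty.of_isPullback (P := RepWith @Etale) (sq k).flip (hwet k)
  have hfb : ∀ k, W4dec.HasUnivBddFibres (fst k) := fun k =>
    Groth.Agent.S10425.result f hf (w k) (hwb k) ((yon S).map (snd k)) (fst k) (sq k).flip
  have hsurj : ∀ x : Points X.obj, ∃ (k : κ) (v : ↥(Q k).left), Points.ofPt (fst k) v = x := by
    intro x
    obtain ⟨k, v, hv⟩ := hwsurj (Points.map f.hom x)
    obtain ⟨pt, hpt1, -⟩ := AlgSpPtsDesc.exists_point_of_isPullback (sq k) x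
      (Points.schemeHomeo (W k) v) (by rw [AlgSpQC2.ofPt_eq_map_schemeHomeo]; exact hv.symm)
    obtain ⟨z, rfl⟩ := (Points.schemeHomeo (Q k)).surjective pt
    exact ⟨k, z, by rw [← AlgSpQC2.ofPt_eq_map_schemeHomeo]; exact hpt1⟩
  haveI := hU
  exact Groth.Agent.S10429.result X Q fst hfet hsurj hfb φ hφ

end Groth.Agent.S10431
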