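import Groth.Statements.S10432
import Groth.Agent.Helper4.UB10
import Groth.Agent.Helper4.UB9
import Groth.Agent.S10429
import Groth.Agent.S10426
import Mathlib

set_option autoImplicit false
universe u
open CategoryTheory CategoryTheory.Limits AlgebraicGeometry Topology TopologicalSpace
open AlgSp

namespace Groth.Agent.S10432


/-- Let X be an algebraic space over a scheme S with a Zariski covering by open subspaces X_i ⟶ X such
that every etale morphism from an affine scheme to X_i has universally bounded fibres. Then every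
etale morphism from an affine scheme to X has universally bounded fibres. -/
theorem result {S : Scheme.{u}} (X : AlgSp.Space S) {ι : Type u}
    (Xi : ι → AlgSp.Space S) (j : ∀ i, Xi i ⟶ X) (hj : AlgSp.IsZarCover (fun i => (Xi i).obj) (fun i => (j i).hom))
    (h : ∀ (i : ι) (V : Over S) (ψ : (AlgSp.yon S).obj V ⟶ (Xi i).obj), IsAffine V.left → AlgSp.RepWith @Etale ψ → W4dec.HasUnivBddFibres ψ)
    (U : Over S) (φ : (AlgSp.yon S).obj U ⟶ X.obj) (hU : IsAffine U.left) (hφ : AlgSp.RepWith @Etale φ) :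
    W4dec.HasUnivBddFibres φ := by

  open Groth.Agent.Helper4 in
  obtain ⟨hjo, hjs⟩ := hj
  choose κ W w hWaff hwet hwsurj using fun i => UB10.exists_affine_etale_cover (Xi i)
  have hwb : ∀ i k, W4dec.HasUnivBddFibres (w i k) := fun i k =>
    h i (W i k) (w i k) (hWaff i k) (hwet i k)
  have hje : ∀ i, RepWith @Etale (j i).hom := by
    intro i
    obtain ⟨hrep, hprop⟩ := (repWith_iff _ _).mp (hjo i)
    refine (repWith_iff _ _).mpr ⟨hrep, fun U' V' g fst snd sq => ?_⟩
    haveI : IsOpenImmersion snd.left := hprop g fst snd sq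
    infer_instance
  have hfet : ∀ ik : (Σ i, κ i), RepWith @Etale (w ik.1 ik.2 ≫ (j ik.1).hom) := fun ik =>
    (RepWith @Etale).comp_mem _ _ (hwet ik.1 ik.2) (hje ik.1)
  have hfb : ∀ ik : (Σ i, κ i), W4dec.HasUnivBddFibres (w ik.1 ik.2 ≫ (j ik.1).hom) := by
    intro ik
    haveI : Mono (j ik.1).hom := UB9.mono_of_repWith_isOpenImmersion _ (hjo ik.1)
    refine Groth.Agent.S10426.result (j ik.1) ((repWith_iff _ _).mp (hjo ik.1)).1
      (w ik.1 ik.2 ≫ (j ik.1).hom) (𝟙 _) (w ik.1 ik.2) (UB9.isPullback_of_mono _ _) ?_ (hwb ik.1 ik.2)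
    rintro _ ⟨v, rfl⟩
    exact ⟨Points.ofPt (w ik.1 ik.2) v, rfl⟩
  have hsurj : ∀ x : Points X.obj, ∃ (ik : Σ i, κ i) (v : ↥(W ik.1 ik.2).left),
      Points.ofPt (w ik.1 ik.2 ≫ (j ik.1).hom) v = x := by
    intro x
    obtain ⟨i, y, rfl⟩ := hjs x
    obtain ⟨k, v, rfl⟩ := hwsurj i y
    exact ⟨⟨i, k⟩, v, rfl⟩
  haveI := hU
  exact Groth.Agent.S10429.result X (fun ik : (Σ i, κ i) => W ik.1 ik.2)
    (fun ik => w ik.1 ik.2 ≫ (j ik.1).hom) hfet hsurj hfb φ hφ

end Groth.Agent.S10432
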