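import Groth.Statements.S10433
import Groth.Agent.Helper4.SN459
import Groth.Agent.S10192
import Mathlib

set_option autoImplicit false
universe u
open CategoryTheory CategoryTheory.Limits AlgebraicGeometry Topology TopologicalSpace
open AlgSp

namespace Groth.Agent.S10433


/-- Let S be a scheme, X an algebraic space over S, W a scheme over S, and W ⟶ X a morphism which is
flat, separated, locally of finite presentation and locally quasi-finite, with universally bounded
fibres. Then X has closed subspaces, each reduced, ∅ = Z_{-1} ⊆ Z_0 ⊆ ⋯ ⊆ Z_n with |Z_n| = |X| such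
that, putting X_r = Z_r ∖ Z_{r-1}, for every morphism g : T ⟶ X the second projection W ×_X T ⟶ T is
a finite locally free morphism of degree r exactly when g(|T|) ⊆ |X_r|. (Indexing: Zs 0 = Z_{-1}, Zs
(r+1) = Z_r.) -/
theorem result {S : Scheme.{u}} (X : AlgSp.Space S) {W : Over S}
    (w : (AlgSp.yon S).obj W ⟶ X.obj) (hfl : AlgSp.RepWith @Flat w) (hfp : AlgSp.RepWith @LocallyOfFinitePresentation w)
    (hsep : AlgSp.RepWith @IsSeparated w) (hqf : AlgSp.RepWith @LocallyQuasiFinite w) (hb : W4dec.HasUnivBddFibres w) :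
    ∃ (n : ℕ) (Zs : ℕ → AlgSp.Space S) (i : ∀ r, Zs r ⟶ X),
      (∀ r, AlgSp.IsRedInduced (Set.range (AlgSp.Points.map (i r).hom)) (i r).hom) ∧
      IsEmpty (AlgSp.Points (Zs 0).obj) ∧ Set.range (AlgSp.Points.map (i (n + 1)).hom) = Set.univ ∧
      (∀ r, Set.range (AlgSp.Points.map (i r).hom) ⊆ Set.range (AlgSp.Points.map (i (r + 1)).hom)) ∧
      ∀ (r : ℕ) (T : AlgSp.Space S) (g : T ⟶ X) (P : AlgSp.Sp S) (fst : P ⟶ (AlgSp.yon S).obj W) (snd : P ⟶ T.obj),
        IsPullback fst snd w g.hom →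
          (AlgSp.IsFinLocFreeOfDegMor r snd ↔
            Set.range (AlgSp.Points.map g.hom) ⊆
              Set.range (AlgSp.Points.map (i (r + 1)).hom) \ Set.range (AlgSp.Points.map (i r).hom)) := by

  open Groth.Agent.Helper4 Groth.Agent.Helper4.SN458 Groth.Agent.Helper4.SN459 in
  obtain ⟨n, hn⟩ := hb
  have hH : Hyp w := ⟨hfl, hfp, hsep, hqf, fun q T c fst sq => (hn q T c fst sq.flip).1⟩
  have hle : ∀ x, deg w hH.rep hH.fin x ≤ n := by
    intro x
    induction x using Points.ind with
    | h q =>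
    obtain ⟨V, c, fst, sq⟩ := hH.rep q.toHom
    have h1 := degq_eq w hH.rep hH.fin q c fst sq (IsLocalRing.closedPoint q.K)
    rw [deg_mk, ← h1]
    exact (hn q V c fst sq.flip).2 _
  have hcl := isClosed_lt w hH
  have hiff := fun {G P : AlgSp.Sp S} (g : G ⟶ X.obj) (fst : P ⟶ (AlgSp.yon S).obj W)
    (snd : P ⟶ G) (sqP : IsPullback fst snd w g) (r : ℕ) => finLocFree_iff w hH g fst snd sqP r
  generalize deg w hH.rep hH.fin = D at hle hcl hiff
  choose Zs i hi using fun r : ℕ => Groth.Agent.S10192.result X {x | D x < r} (hcl r)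
  have hrange : ∀ r, Set.range (AlgSp.Points.map (i r).hom) = {x | D x < r} := fun r => (hi r).2.1
  refine ⟨n, Zs, i, fun r => ⟨(hi r).1, rfl, (hi r).2.2⟩, ?_, ?_, ?_, ?_⟩
  · refine ⟨fun z => ?_⟩
    have : AlgSp.Points.map (i 0).hom z ∈ {x | D x < 0} := by
      rw [← hrange 0]; exact ⟨z, rfl⟩
    exact absurd this (by simp)
  · rw [hrange (n + 1)]
    ext x
    simp only [Set.mem_setOf_eq, Set.mem_univ, iff_true]
    exact Nat.lt_succ_of_le (hle x)
  · intro r
    rw [hrange r, hrange (r + 1)]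
    intro x hx
    exact Nat.lt_succ_of_lt hx
  · intro r T g P fst snd sqP
    rw [hrange r, hrange (r + 1)]
    refine (hiff g.hom fst snd sqP r).trans ?_
    constructor
    · rintro hc _ ⟨y, rfl⟩
      have h0 : D (AlgSp.Points.map g.hom y) = r := hc y
      refine ⟨?_, ?_⟩
      · show D _ < r + 1
        omega
      · show ¬ (D _ < r)
        omega
    · intro hsub y
      obtain ⟨h1, h2⟩ := hsub ⟨y, rfl⟩
      have h1' : D (AlgSp.Points.map g.hom y) < r + 1 := h1
      have h2' : ¬ (D (AlgSp.Points.map g.hom y) < r) := h2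
      omega

end Groth.Agent.S10433
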