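import Groth.Statements.S10434
import Groth.Agent.Helper4.SN463
import Groth.Agent.Helper3.BirStalk
import Groth.Agent.Helper5.AlgSpIso
import Groth.Agent.Helper4.UB1
import Groth.Agent.Helper4.AlgSpDiag
import Mathlib

set_option autoImplicit false
universe u
open CategoryTheory CategoryTheory.Limits AlgebraicGeometry Topology TopologicalSpace
open AlgSp

namespace Groth.Agent.S10434


/-- Take decent algebraic spaces X and Y over a scheme S, each with only finitely many irreducible
components in its space of points, and a birational f : X ⟶ Y. For a generic point y of an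
irreducible component of |Y|, seen as a point v of an open subscheme V of Y, the base change of f
along Spec(O_{V,v}) ⟶ V ⟶ Y has invertible projection onto Spec(O_{V,v}). -/
theorem result {S : Scheme.{u}} {X Y : AlgSp.Space S} (f : X ⟶ Y)
    (hX : AlgSp.IsDecent X.obj) (hY : AlgSp.IsDecent Y.obj)
    (hXf : (irreducibleComponents (AlgSp.Points X.obj)).Finite)
    (hYf : (irreducibleComponents (AlgSp.Points Y.obj)).Finite)
    (hf : W4stk3decentspacesp2.IsBirational f.hom) {V : Over S} (b : (AlgSp.yon S).obj V ⟶ Y.obj)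
    (hb : AlgSp.RepWith @IsOpenImmersion b) (v : ↥V.left)
    (hv : AlgSp.Points.ofPt b v ∈ genericPoints (AlgSp.Points Y.obj)) {P : AlgSp.Sp S} (fst : P ⟶ X.obj)
    (snd : P ⟶ (AlgSp.yon S).obj (Over.mk (V.left.fromSpecStalk v ≫ V.hom)))
    (hP : IsPullback fst snd f.hom ((AlgSp.yon S).map (Over.homMk (V.left.fromSpecStalk v) rfl) ≫ b)) :
    IsIso snd := by

  open Groth.Agent.Helper4 Groth.Agent.Helper4.SN461 Groth.Agent.Helper4.SN462
    Groth.Agent.Helper4.SN463 Groth.Agent.Helper4.AlgSpPtsDesc in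
  obtain ⟨X₀, j, f₀, hj, hcomm, -, -, hbij, hiso, hfib⟩ :=
    exists_scheme_model f hX hY hXf hYf hf b hb
  have hbemb := Groth.Agent.Helper5.DegStr.isOpenEmbedding_ofPt_of_oi Y.property b hb
  have hvgen : closure {v} ∈ irreducibleComponents ↥V.left :=
    (Groth.Agent.Helper4.SN460.mem_genericPoints_iff hbemb v).2 hv
  -- the scheme-level base change
  haveI hsnd : IsIso (pullback.snd f₀.left (V.left.fromSpecStalk v)) :=
    Groth.Agent.Helper3.BirStalk.isIso_snd_fromSpecStalk f₀.left hbij hiso v hvgen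
  let O : Over S := Over.mk (V.left.fromSpecStalk v ≫ V.hom)
  let κ : O ⟶ V := Over.homMk (V.left.fromSpecStalk v) rfl
  let Q : Over S := Over.mk (pullback.snd f₀.left (V.left.fromSpecStalk v) ≫ O.hom)
  let q₁ : Q ⟶ X₀ := Over.homMk (pullback.fst f₀.left (V.left.fromSpecStalk v)) (by
    show pullback.fst f₀.left (V.left.fromSpecStalk v) ≫ X₀.hom =
      pullback.snd f₀.left (V.left.fromSpecStalk v) ≫ V.left.fromSpecStalk v ≫ V.hom
    rw [← Over.w f₀, ← Category.assoc, pullback.condition, Category.assoc])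
  let q₂ : Q ⟶ O := Over.homMk (pullback.snd f₀.left (V.left.fromSpecStalk v)) rfl
  have hw : q₁ ≫ f₀ = q₂ ≫ κ := by
    ext
    exact pullback.condition
  have sqQ₀ : IsPullback q₁ q₂ f₀ κ :=
    UB1.isPullback_of_left hw (IsPullback.of_hasPullback f₀.left (V.left.fromSpecStalk v))
  have sqQ : IsPullback ((yon S).map q₁) ((yon S).map q₂) ((yon S).map f₀) ((yon S).map κ) :=
    UB1.isPullback_yon_map sqQ₀
  haveI : Mono b := mono_of_oi b hb
  have sqQ' : IsPullback ((yon S).map q₁) ((yon S).map q₂) (j ≫ f.hom) ((yon S).map κ ≫ b) := by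
    rw [hcomm]
    exact AlgSpDiag.isPullback_comp_mono sqQ b
  have hwθ : ((yon S).map q₁ ≫ j) ≫ f.hom = (yon S).map q₂ ≫ (yon S).map κ ≫ b := by
    rw [Category.assoc]; exact sqQ'.w
  let θ : (yon S).obj Q ⟶ P := hP.lift ((yon S).map q₁ ≫ j) ((yon S).map q₂) hwθ
  have hθ1 : θ ≫ fst = (yon S).map q₁ ≫ j := hP.lift_fst _ _ _
  have hθ2 : θ ≫ snd = (yon S).map q₂ := hP.lift_snd _ _ _
  have sqU : IsPullback ((yon S).map q₁) θ j fst := by
    refine IsPullback.of_bot ?_ hθ1.symm hP
    rw [hθ2]; exact sqQ'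
  -- range condition
  have hrange : Set.range (Points.map fst) ⊆ Set.range (Points.map j) := by
    rintro _ ⟨p, rfl⟩
    rw [Groth.Agent.Helper5.AlgSpOpen.range_map_eq_range_ofPt]
    obtain ⟨t, ht⟩ := (Points.schemeHomeo O).surjective (Points.map snd p)
    have h1 : Points.map f.hom (Points.map fst p) =
        Points.ofPt b (V.left.fromSpecStalk v t) := by
      rw [← Points.map_comp, hP.w, Points.map_comp, ← ht,
        Groth.Agent.Helper4.AlgSpQC2.ofPt_eq_map_schemeHomeo, ofPt_yon_map_comp]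
      rfl
    have h2 : V.left.fromSpecStalk v t = v := by
      have h3 : V.left.fromSpecStalk v t ∈ Set.range (V.left.fromSpecStalk v) := ⟨t, rfl⟩
      rw [Scheme.range_fromSpecStalk] at h3
      exact Groth.Agent.Helper3.GenPts.eq_of_specializes hvgen h3
    rw [h2] at h1
    exact hfib _ (h1 ▸ hv) ⟨v, h1.symm⟩
  haveI hθiso : IsIso θ := Groth.Agent.Helper5.AlgSpIso.isIso_snd_of_range_subset j hj fst sqU hrange
  haveI : IsIso q₂ := by
    have : IsIso ((Over.forget S).map q₂) := hsnd
    exact isIso_of_reflects_iso _ (Over.forget S)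
  have : snd = inv θ ≫ (yon S).map q₂ := by
    rw [IsIso.eq_inv_comp, hθ2]
  rw [this]
  infer_instance

end Groth.Agent.S10434
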