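import Groth.Statements.S10649
import Groth.Agent.S10260
import Groth.Agent.S10271
import Groth.Agent.S10267
import Groth.Agent.S9955
import Groth.Agent.Helper5.AlgSpFin
import Groth.Agent.Helper4.AlgSpUC

set_option autoImplicit false
universe u
open CategoryTheory CategoryTheory.Limits AlgebraicGeometry
open AlgSp

namespace Groth.Agent.S10649

/-- The following conditions on a morphism f : X ⟶ Y of algebraic spaces over S are equivalent: (1)
finiteness of f; (2) f is locally quasi-finite as well as proper (locally quasi-finite and locally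
of finite type etale locally); (3) f is proper and for every field k and every k-point Spec k ⟶ Y
the fibre X_k (any pullback of f along it in fppf sheaves) has discrete space of points; (4) f is
universally closed, separated and locally of finite type, and every such fibre X_k has discrete
space of points. -/
theorem result {S : Scheme.{u}} {X Y : AlgSp.Space S} (f : X ⟶ Y) :
    [AlgSp.IsFiniteMor f.hom,
      AlgSp.IsProperMor f.hom ∧ AlgSp.LocP (@LocallyQuasiFinite ⊓ @LocallyOfFiniteType) f.hom,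
      AlgSp.IsProperMor f.hom ∧
        ∀ (k : AlgSp.FieldPt Y.obj) (Xk : AlgSp.Sp S) (fst : Xk ⟶ X.obj) (snd : Xk ⟶ (AlgSp.yon S).obj k.pt),
          IsPullback fst snd f.hom k.toHom → DiscreteTopology (AlgSp.Points Xk),
      AlgSp.IsUnivClosedMor f.hom ∧ AlgSp.IsSeparatedMor f.hom ∧ AlgSp.LocP @LocallyOfFiniteType f.hom ∧
        ∀ (k : AlgSp.FieldPt Y.obj) (Xk : AlgSp.Sp S) (fst : Xk ⟶ X.obj) (snd : Xk ⟶ (AlgSp.yon S).obj k.pt),
          IsPullback fst snd f.hom k.toHom → DiscreteTopology (AlgSp.Points Xk)].TFAE := by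
  have hG := Groth.Agent.Helper4.SDClasses.good_lqf.{u}
  -- the fibre conditions in the two forms
  have hfib : (∀ (k : AlgSp.FieldPt Y.obj) (Xk : AlgSp.Sp S) (fst : Xk ⟶ X.obj)
        (snd : Xk ⟶ (AlgSp.yon S).obj k.pt),
        IsPullback fst snd f.hom k.toHom → DiscreteTopology (AlgSp.Points Xk)) ↔
      ∀ (k : Type u) [Field k] (str : Spec (CommRingCat.of k) ⟶ S)
        (y : (AlgSp.yon S).obj (Over.mk str) ⟶ Y.obj)
        (P : AlgSp.Sp S) (fst : P ⟶ X.obj) (snd : P ⟶ (AlgSp.yon S).obj (Over.mk str)),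
        IsPullback fst snd f.hom y → DiscreteTopology (AlgSp.Points P) := by
    constructor
    · intro H k _ str y P fst snd sq
      have := H (Groth.Agent.Helper4.AlgSpInj.ofHom y) P fst snd (by
        have e : (Groth.Agent.Helper4.AlgSpInj.ofHom y).toHom = y :=
          Groth.Agent.Helper4.AlgSpInj.toHom_ofHom y
        rw [e]; exact sq)
      exact this
    · intro H k Xk fst snd sq
      exact H k.K k.str k.toHom Xk fst snd sq
  have h12 : AlgSp.IsFiniteMor f.hom →
      AlgSp.IsProperMor f.hom ∧ AlgSp.LocP (@LocallyQuasiFinite ⊓ @LocallyOfFiniteType) f.hom := by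
    intro h
    refine ⟨((Groth.Agent.S10271.result f).1 h).2, ?_⟩
    have hrep : RepWith @IsFinite f.hom := (Groth.Agent.S10267.result f).2.1 h
    have := hG.comp
    exact Groth.Agent.Helper4.AlgSpLocP.locP_of_repWith _ @IsFinite
      (fun g hg => by
        have : IsFinite g := hg
        exact ⟨inferInstance, inferInstance⟩) hG.etale_le f.hom hrep
  have h21 : AlgSp.IsProperMor f.hom ∧
      AlgSp.LocP (@LocallyQuasiFinite ⊓ @LocallyOfFiniteType) f.hom → AlgSp.IsFiniteMor f.hom := by
    rintro ⟨hp, hq⟩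
    apply (Groth.Agent.S10267.result f).2.2
    have hrep : Representable f.hom := Groth.Agent.S10260.result f hq hp.1
    refine ⟨hrep, fun T W ξ c e sq => ?_⟩
    have hp' : IsProperMor ((yon S).map e) :=
      Groth.Agent.Helper5.AlgSpProper.isProperMor_of_isPullback X.property Y.property sq hp
    have : IsProper e.left := Groth.Agent.Helper5.AlgSpFin.isProper_of_isProperMor_yon_map e hp'
    have hq' : LocP (@LocallyQuasiFinite ⊓ @LocallyOfFiniteType) ((yon S).map e) :=
      have := hG.bc
      have := hG.comp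
      Groth.Agent.Helper4.AlgSpLocPBC.locP_of_isPullback _ hG.etale_le hG.sd X.property Y.property
        f.hom ξ c ((yon S).map e) sq hq
    have : LocallyQuasiFinite e.left := (locP_yon_map hq').1
    exact IsFinite.of_isProper_of_locallyQuasiFinite e.left
  have h23 : ∀ (hlft : AlgSp.LocP @LocallyOfFiniteType f.hom),
      (AlgSp.LocP (@LocallyQuasiFinite ⊓ @LocallyOfFiniteType) f.hom ↔
        ∀ (k : AlgSp.FieldPt Y.obj) (Xk : AlgSp.Sp S) (fst : Xk ⟶ X.obj)
          (snd : Xk ⟶ (AlgSp.yon S).obj k.pt),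
          IsPullback fst snd f.hom k.toHom → DiscreteTopology (AlgSp.Points Xk)) := by
    intro hlft
    rw [hfib]
    exact Groth.Agent.S9955.result f hlft
  tfae_have 1 → 2 := h12
  tfae_have 2 → 1 := h21
  tfae_have 2 → 3 := fun ⟨hp, hq⟩ => ⟨hp, (h23 hp.2.1.1).1 hq⟩
  tfae_have 3 → 2 := fun ⟨hp, hd⟩ => ⟨hp, (h23 hp.2.1.1).2 hd⟩
  tfae_have 3 → 4 := fun ⟨hp, hd⟩ => ⟨hp.2.2, hp.1, hp.2.1.1, hd⟩
  tfae_have 4 → 3 := fun ⟨huc, hs, hl, hd⟩ =>
    ⟨⟨hs, ⟨hl, Groth.Agent.Helper4.AlgSpUC.isQuasiCompactMor_of_isUnivClosedMor X.property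
      Y.property f.hom huc⟩, huc⟩, hd⟩
  tfae_finish

end Groth.Agent.S10649
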