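import Groth.Statements.S10650
import Groth.Agent.S10649
import Groth.Agent.Helper5.RelDimSp2
import Groth.Agent.Helper5.ThickLoc1
import Groth.Agent.Helper5.AlgSpOpen

set_option autoImplicit false
universe u
open CategoryTheory CategoryTheory.Limits AlgebraicGeometry
open AlgSp

namespace Groth.Agent.S10650

/-- For a proper morphism f : X ⟶ Y of algebraic spaces over S and a point y of |Y| such that f is
quasi-finite at every point of |X| lying over y (for each such point some etale chart diagram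
through it has top arrow locally quasi-finite and locally of finite type on an open neighbourhood),
there is an open subspace V of Y containing y such that the base change X ×_Y V ⟶ V is finite. -/
theorem result {S : Scheme.{u}} {X Y : AlgSp.Space S} (f : X ⟶ Y) (y : AlgSp.Points Y.obj)
    (hf : AlgSp.IsProperMor f.hom)
    (hq : ∀ x : AlgSp.Points X.obj, AlgSp.Points.map f.hom x = y →
      AlgSp.HasAtMor (fun U _ h u => ∃ W : U.Opens, u ∈ W ∧ LocallyQuasiFinite (W.ι ≫ h) ∧ LocallyOfFiniteType (W.ι ≫ h)) f.hom x) :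
    ∃ (V : AlgSp.Space S) (j : V ⟶ Y), AlgSp.RepWith @IsOpenImmersion j.hom ∧
      y ∈ Set.range (AlgSp.Points.map j.hom) ∧
        ∀ (P : AlgSp.Space S) (fst : P ⟶ X) (snd : P ⟶ V), IsPullback fst.hom snd.hom f.hom j.hom →
          AlgSp.IsFiniteMor snd.hom := by
  obtain ⟨hsep, ⟨hlft, hqc⟩, huc⟩ := hf
  have hQ := Groth.Agent.Helper5.RelDimSp.etLocalOn_QD.{u} (fun r => r = 0)
  have hopen : IsOpen {x : Points X.obj |
      HasAtMor (Groth.Agent.Helper5.RelDimSp.QD fun r => r = 0) f.hom x} :=
    Groth.Agent.Helper5.PtLoc.isOpen_locus_on hQ (fun s hs => by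
      have := hs; exact Groth.Agent.Helper5.RelDimSp.isOpen_fibreDimAt_eq_zero s) f hlft
  have hcl : IsClosedMap (Points.map f.hom) :=
    huc Y.property (𝟙 _) (𝟙 _) f.hom (IsPullback.of_horiz_isIso ⟨by simp⟩)
  have hfC : IsClosed (Points.map f.hom '' {x : Points X.obj |
      HasAtMor (Groth.Agent.Helper5.RelDimSp.QD fun r => r = 0) f.hom x}ᶜ) :=
    hcl _ hopen.isClosed_compl
  have hy : y ∉ Points.map f.hom '' {x : Points X.obj |
      HasAtMor (Groth.Agent.Helper5.RelDimSp.QD fun r => r = 0) f.hom x}ᶜ := by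
    rintro ⟨x, hxC, hxy⟩
    exact hxC ((Groth.Agent.Helper5.RelDimSp.hasAtMor_nbhd_lqf_iff f.hom hlft x).1 (hq x hxy))
  obtain ⟨V₀, j, hV₀, hj, hrange⟩ :=
    Groth.Agent.Helper5.AlgSpOpen.exists_open_subspace Y.property _ hfC.isOpen_compl
  refine ⟨⟨V₀, hV₀⟩, ObjectProperty.homMk j, hj, by
    show y ∈ Set.range (Points.map j)
    rw [hrange]; exact hy, ?_⟩
  intro P fst snd sq
  have hp : IsProperMor snd.hom :=
    Groth.Agent.Helper5.AlgSpProper.isProperMor_of_isPullback X.property Y.property sq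
      ⟨hsep, ⟨hlft, hqc⟩, huc⟩
  have hlft' := hp.2.1.1
  have hq' : LocP (@LocallyQuasiFinite ⊓ @LocallyOfFiniteType) snd.hom := by
    rw [Groth.Agent.Helper5.ThickLoc.locP_lqf_iff_forall snd hlft', Set.eq_univ_iff_forall]
    intro p
    have hbc := Groth.Agent.Helper5.RelDimSp.qd_locus_baseChange (fun r => r = 0) f
      (ObjectProperty.homMk j : (⟨V₀, hV₀⟩ : AlgSp.Space S) ⟶ Y) fst snd sq hlft
    rw [hbc]
    show HasAtMor _ f.hom (Points.map fst.hom p)
    by_contra hcon
    have h1 : Points.map j (Points.map snd.hom p) ∈ Points.map f.hom '' {x : Points X.obj |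
        HasAtMor (Groth.Agent.Helper5.RelDimSp.QD fun r => r = 0) f.hom x}ᶜ :=
      ⟨Points.map fst.hom p, hcon, by
        rw [← Points.map_comp, ← Points.map_comp]
        exact congrArg (fun k => Points.map k p) sq.w⟩
    have h2 : Points.map j (Points.map snd.hom p) ∈ Set.range (Points.map j) := ⟨_, rfl⟩
    rw [hrange] at h2
    exact h2 h1
  have htfae := (Groth.Agent.S10649.result snd).out 1 0
  exact htfae.1 ⟨hp, hq'⟩

end Groth.Agent.S10650
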