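import Groth.Statements.S1046
import Groth.Agent.S0998
import Groth.Agent.Helper4.RgammaZQc
import Mathlib

set_option autoImplicit false
universe u
open CategoryTheory CategoryTheory.Limits AlgebraicGeometry
attribute [local instance] HasDerivedCategory.standard
open Perf

namespace Groth.Agent.S1046


/-- Let U ⊆ X be an open subscheme with quasi-compact inclusion and T = X ∖ U. Assuming O_X-modules have
enough injectives (true, not recorded), for every bounded below E ∈ D(O_X) with quasi-coherent
cohomology sheaves, the derived sections with support RΓ_T(E) (right derived functor of F ↦ ker(F →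
j_*(F|_U))) has quasi-coherent cohomology sheaves, all supported on T. -/
theorem result (X : Scheme.{u}) (U : X.Opens) [QuasiCompact U.ι] [EnoughInjectives X.Modules]
    (E : DerivedCategory.Plus X.Modules) (hE : DCoh.IsQCohD E.obj) :
    DCoh.IsQCohD ((DCoh.RgammaZPlus U.ι).obj E).obj ∧
    ∀ i : ℤ, CohB1.support (DCoh.HD ((DCoh.RgammaZPlus U.ι).obj E).obj i) ⊆ (U : Set X)ᶜ := by

  haveI := Groth.Agent.Helper4.HasRD.hasRpush U.ι
  haveI : CxOX.HasRgammaZ U.ι := by
    haveI := Groth.Agent.Helper4.SchAdj.isGrothendieckAbelian_modules X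
    exact Groth.Agent.Helper4.HasRD.hasRightDerivedFunctor _
  obtain ⟨e⟩ := Groth.Agent.Helper4.RgammaZQc.nonempty_plus_iso U E
  have h1 := Groth.Agent.Helper4.RgammaZQc.isQCohD_RgammaZ U
    (fun N hN => Groth.Agent.S0998.result U.ι N hN) E.obj hE
  refine ⟨Groth.Agent.Helper4.QcohWSerre.isQCohD_of_iso e.symm h1, fun i => ?_⟩
  rw [Groth.Agent.Helper4.ExtZeroStalk.support_eq_of_iso
    ((DerivedCategory.homologyFunctor X.Modules i).mapIso e)]
  exact Groth.Agent.Helper4.RgammaZQc.support_HD_RgammaZ U E.obj i

end Groth.Agent.S1046
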