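import Groth.Statements.S10475
import Groth.Agent.S2536
import Groth.Agent.Helper1.FieldSmooth6
import Groth.Agent.Helper4.AlgSpPts
import Groth.Agent.Helper4.AlgSpQC2
import Mathlib

set_option autoImplicit false
universe u
open CategoryTheory CategoryTheory.Limits AlgebraicGeometry Topology TopologicalSpace
open AlgSp

namespace Groth.Agent.S10475


/-- Let k be a perfect field and X a reduced algebraic space over k. Then X is geometrically reduced
over k (geometrically reduced at every point). -/
theorem result (k : Type u) [Field k] [PerfectField k]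
    (X : AlgSp.Space (Spec (CommRingCat.of k))) (hX : AlgSp.EtaleLocally (fun U => IsReduced U) X.obj) (x : AlgSp.Points X.obj) :
    (∃ (U : Over (Spec (CommRingCat.of k))) (a : (AlgSp.yon (Spec (CommRingCat.of k))).obj U ⟶ X.obj) (u : ↥U.left),
      AlgSp.RepWith @Etale a ∧ AlgSp.Points.ofPt a u = x ∧ FBase.IsGeomReducedAt U.hom u) := by

  obtain ⟨U, p, hpe, hps, hU⟩ := hX
  obtain ⟨r, hr⟩ := Groth.Agent.Helper4.AlgSpPts.isSurjectiveMor_of_repWith _ hps x
  obtain ⟨u, rfl⟩ := (AlgSp.Points.schemeHomeo U).surjective r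
  refine ⟨U, p, u, hpe, ?_, ?_⟩
  · rw [← Groth.Agent.Helper4.AlgSpQC2.ofPt_eq_map_schemeHomeo, hr]
  · intro K _ _ x' _
    haveI : Algebra.IsGeometricallyReduced k K :=
      Groth.Agent.Helper1.FieldSmooth.isGeometricallyReduced_of_perfectField
    haveI : AlgebraicGeometry.IsReduced U.left := hU
    haveI : AlgebraicGeometry.IsReduced (FBase.bc U.hom K) := Groth.Agent.S2536.result U.hom
    infer_instance

end Groth.Agent.S10475
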