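import Groth.Statements.S10476
import Groth.Agent.Helper5.GeomRed
import Groth.Agent.Helper4.GeomRedSp
import Mathlib

set_option autoImplicit false
universe u
open CategoryTheory CategoryTheory.Limits AlgebraicGeometry Topology TopologicalSpace
open AlgSp

namespace Groth.Agent.S10476


/-- (1) ⇔ (2): let k be a field of characteristic p > 0 and X an algebraic space over k. Then X is
geometrically reduced over k exactly when X_K is reduced for all field extensions K of k. -/
theorem result (k : Type u) [Field k] (p : ℕ) [Fact p.Prime] [CharP k p]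
    (X : AlgSp.Space (Spec (CommRingCat.of k))) :
    (∀ x : AlgSp.Points X.obj, (∃ (U : Over (Spec (CommRingCat.of k))) (a : (AlgSp.yon (Spec (CommRingCat.of k))).obj U ⟶ X.obj) (u : ↥U.left),
      AlgSp.RepWith @Etale a ∧ AlgSp.Points.ofPt a u = x ∧ FBase.IsGeomReducedAt U.hom u)) ↔
      ∀ (K : Type u) [Field K] [Algebra k K], AlgSp.EtaleLocally (fun U => IsReduced U) (X.obj ⨯ (AlgSp.yon (Spec (CommRingCat.of k))).obj (Over.mk (Spec.map (CommRingCat.ofHom (algebraMap k K))))) := by

  obtain ⟨U, a, hae, has⟩ := X.property.atlas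
  constructor
  · intro h K _ _
    refine (Groth.Agent.Helper4.GeomRedSp.etaleLocally_isReduced_prod_iff a hae has K).mpr ?_
    have hU : ∀ u : ↥U.left, FBase.IsGeomReducedAt U.hom u := by
      intro u
      obtain ⟨V, b, v, hb, hv, hg⟩ := h (AlgSp.Points.ofPt a u)
      exact Groth.Agent.Helper5.GeomRed.geomReducedAt_chart_indep b a hb hae v u hv hg
    haveI : ∀ x' : ↥(FBase.bc U.hom K), _root_.IsReduced ((FBase.bc U.hom K).presheaf.stalk x') :=
      fun x' => hU _ K x' rfl
    exact isReduced_of_isReduced_stalk _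
  · intro h x
    obtain ⟨r, hr⟩ := Groth.Agent.Helper4.AlgSpPts.isSurjectiveMor_of_repWith _ has x
    obtain ⟨u, rfl⟩ := (AlgSp.Points.schemeHomeo U).surjective r
    refine ⟨U, a, u, hae, ?_, ?_⟩
    · rw [← Groth.Agent.Helper4.AlgSpQC2.ofPt_eq_map_schemeHomeo, hr]
    · intro K _ _ x' _
      haveI : AlgebraicGeometry.IsReduced (FBase.bc U.hom K) :=
        (Groth.Agent.Helper4.GeomRedSp.etaleLocally_isReduced_prod_iff a hae has K).mp (h K)
      infer_instance

end Groth.Agent.S10476
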