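import Groth.Statements.S10479
import Groth.Agent.Helper4.GeomRedSp2
import Mathlib

set_option autoImplicit false
universe u
open CategoryTheory CategoryTheory.Limits AlgebraicGeometry Topology TopologicalSpace
open AlgSp

namespace Groth.Agent.S10479


/-- Let k be a field, X an algebraic space over k, K/k a field extension, x a point of X and x' a point
of X_K lying over x. Then X is geometrically reduced at x (over k) if and only if X_K is
geometrically reduced at x' (over K). -/
theorem result (k : Type u) [Field k] (X : AlgSp.Space (Spec (CommRingCat.of k))) (K : Type u) [Field K] [Algebra k K]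
    (x : AlgSp.Points X.obj) (x' : AlgSp.Points (X.obj ⨯ (AlgSp.yon (Spec (CommRingCat.of k))).obj (Over.mk (Spec.map (CommRingCat.ofHom (algebraMap k K))))))
    (hx' : AlgSp.Points.map (Limits.prod.fst : (X.obj ⨯ (AlgSp.yon (Spec (CommRingCat.of k))).obj (Over.mk (Spec.map (CommRingCat.ofHom (algebraMap k K))))) ⟶ X.obj) x' = x) :
    (∃ (U : Over (Spec (CommRingCat.of k))) (a : (AlgSp.yon (Spec (CommRingCat.of k))).obj U ⟶ X.obj) (u : ↥U.left),
      AlgSp.RepWith @Etale a ∧ AlgSp.Points.ofPt a u = x ∧ FBase.IsGeomReducedAt U.hom u) ↔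
      ∃ (U' : Over (Spec (CommRingCat.of k))) (a' : (AlgSp.yon (Spec (CommRingCat.of k))).obj U' ⟶ (X.obj ⨯ (AlgSp.yon (Spec (CommRingCat.of k))).obj (Over.mk (Spec.map (CommRingCat.ofHom (algebraMap k K))))))
        (q : U' ⟶ Over.mk (Spec.map (CommRingCat.ofHom (algebraMap k K)))) (u' : ↥U'.left),
        AlgSp.RepWith @Etale a' ∧ a' ≫ Limits.prod.snd = (AlgSp.yon (Spec (CommRingCat.of k))).map q ∧
          AlgSp.Points.ofPt a' u' = x' ∧ FBase.IsGeomReducedAt q.left u' := by

  constructor
  · rintro ⟨U, a, u, ha, hu, hg⟩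
    obtain ⟨w, hw1, hw2⟩ := Groth.Agent.Helper4.GeomRedSp2.exists_point_chartProd a
      (Over.mk (Spec.map (CommRingCat.ofHom (algebraMap k K)))) u x' (hu.trans hx'.symm)
    refine ⟨_, Groth.Agent.Helper4.GeomRedSp2.chartProd a _,
      Groth.Agent.Helper4.GeomRedSp2.pbSnd U _, w,
      Groth.Agent.Helper4.GeomRedSp2.repWith_chartProd @Etale a ha _, prod.lift_snd _ _, hw2, ?_⟩
    subst hw1
    intro L _ _
    exact Groth.Agent.Helper4.GeomBC.pOver_bc_of_pOver U.hom
      Groth.Agent.Helper4.GeomBC.desc_isReduced K w (fun L _ _ => hg L) L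
  · rintro ⟨U', a', q', u', ha', haq', hu', hg'⟩
    obtain ⟨U, a, u, ha, hu⟩ := Groth.Agent.Helper5.GeomRed.exists_chart_point X.property x
    obtain ⟨w, hw1, hw2⟩ := Groth.Agent.Helper4.GeomRedSp2.exists_point_chartProd a
      (Over.mk (Spec.map (CommRingCat.ofHom (algebraMap k K)))) u x' (hu.trans hx'.symm)
    have hw : FBase.IsGeomReducedAt (pullback.snd U.hom
        (Spec.map (CommRingCat.ofHom (algebraMap k K)))) w := by
      have h1 := Groth.Agent.Helper4.GeomRedSp2.chart_indep_rel (K := K)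
        (T := Over.mk (Spec.map (CommRingCat.ofHom (algebraMap k K)))) rfl prod.snd a'
        (Groth.Agent.Helper4.GeomRedSp2.chartProd a _) q'
        (Groth.Agent.Helper4.GeomRedSp2.pbSnd U _) haq' (prod.lift_snd _ _) ha'
        (Groth.Agent.Helper4.GeomRedSp2.repWith_chartProd @Etale a ha _) u' w
        (hu'.trans hw2.symm)
        (by rw [eqToHom_refl, Category.comp_id]; exact hg')
      rw [eqToHom_refl, Category.comp_id] at h1
      exact h1
    refine ⟨U, a, u, ha, hu, ?_⟩
    subst hw1
    intro L _ _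
    exact Groth.Agent.Helper4.GeomBC.pOver_of_pOver_bc U.hom
      Groth.Agent.Helper4.GeomBC.desc_isReduced K w (fun L _ _ => hw L) L

end Groth.Agent.S10479
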