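import Groth.Statements.S10481
import Groth.Agent.Helper5.GeomRed2
import Groth.Agent.Helper4.AlgSpSrc

set_option autoImplicit false
universe u
open CategoryTheory CategoryTheory.Limits AlgebraicGeometry Topology TopologicalSpace
open AlgSp

namespace Groth.Agent.S10481

/-- Let k be a field, f : X ⟶ Y a morphism of algebraic spaces over k and x a point of X at which f is
etale. Then X is geometrically reduced at x if and only if Y is geometrically reduced at the image
of x. -/
theorem result (k : Type u) [Field k] {X Y : AlgSp.Space (Spec (CommRingCat.of k))} (f : X ⟶ Y)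
    (x : AlgSp.Points X.obj)
    (he : AlgSp.HasAtMor (fun U _ h u => ∃ W : U.Opens, u ∈ W ∧ Etale (W.ι ≫ h)) f.hom x) :
    (∃ (U : Over (Spec (CommRingCat.of k))) (a : (AlgSp.yon (Spec (CommRingCat.of k))).obj U ⟶ X.obj) (u : ↥U.left),
      AlgSp.RepWith @Etale a ∧ AlgSp.Points.ofPt a u = x ∧ FBase.IsGeomReducedAt U.hom u) ↔ (∃ (U : Over (Spec (CommRingCat.of k))) (a : (AlgSp.yon (Spec (CommRingCat.of k))).obj U ⟶ Y.obj) (u : ↥U.left),
      AlgSp.RepWith @Etale a ∧ AlgSp.Points.ofPt a u = (AlgSp.Points.map f.hom x) ∧ FBase.IsGeomReducedAt U.hom u) := by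
  obtain ⟨U, V, a, b, h, u, ha, hb, hcomm, hu, W, huW, hW⟩ := he
  let U' : Over (Spec (CommRingCat.of k)) := Over.mk (W.ι ≫ U.hom)
  let ι' : U' ⟶ U := Over.homMk W.ι rfl
  have hι : AlgSp.RepWith @Etale ((AlgSp.yon (Spec (CommRingCat.of k))).map ι') :=
    (AlgSp.repWith_yon_map_iff _ _).2 (inferInstance : Etale W.ι)
  have ha' : AlgSp.RepWith @Etale ((AlgSp.yon (Spec (CommRingCat.of k))).map ι' ≫ a) :=
    Groth.Agent.Helper4.AlgSpSrc.repWith_comp @Etale hι ha
  have hb' : AlgSp.RepWith @Etale (((AlgSp.yon (Spec (CommRingCat.of k))).map ι' ≫ a) ≫ f.hom) := by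
    rw [Category.assoc, hcomm, ← Category.assoc, ← Functor.map_comp]
    exact Groth.Agent.Helper4.AlgSpSrc.repWith_comp @Etale
      ((AlgSp.repWith_yon_map_iff _ _).2 (show Etale (ι' ≫ h).left from hW)) hb
  have hx : AlgSp.Points.ofPt ((AlgSp.yon (Spec (CommRingCat.of k))).map ι' ≫ a)
      (⟨u, huW⟩ : ↥U'.left) = x := by
    rw [Groth.Agent.Helper4.AlgSpPtsDesc.ofPt_yon_map_comp]; exact hu
  have key := Groth.Agent.Helper5.GeomRed.geomRedAt_iff_of_chart f.hom _ ha' hb'
    (⟨u, huW⟩ : ↥U'.left)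
  rw [hx] at key
  exact key

end Groth.Agent.S10481
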