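import Groth.Statements.S10482
-- (no helper imports)

set_option autoImplicit false
universe u
open CategoryTheory CategoryTheory.Limits AlgebraicGeometry Topology TopologicalSpace
open AlgSp

namespace Groth.Agent.S10482

/-- (1) ⇔ (2): let k be a field and X an algebraic space over k. Then X is locally quasi-finite over k
if and only if X is locally of finite type over k of dimension at most 0. (The published statement
says dimension 0; dimension at most 0 is used so that the empty space, whose dimension is the bottom
element, is covered by both sides.) -/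
theorem result (k : Type u) [Field k] (X : AlgSp.Space (Spec (CommRingCat.of k))) (p : X.obj ⟶ (AlgSp.yon (Spec (CommRingCat.of k))).obj (Over.mk (𝟙 _))) :
    AlgSp.LocP (@LocallyQuasiFinite ⊓ @LocallyOfFiniteType : MorphismProperty Scheme.{u}) p ↔ AlgSp.LocP @LocallyOfFiniteType p ∧ AlgSp.dim X.obj ≤ 0 := by
  have hT : IsTerminal ((AlgSp.yon (Spec (CommRingCat.of k))).obj
      (Over.mk (𝟙 (Spec (CommRingCat.of k))))) :=
    IsTerminal.isTerminalObj (AlgSp.yon (Spec (CommRingCat.of k))) _ Over.mkIdTerminal
  have hid : AlgSp.RepWith @Etale (𝟙 ((AlgSp.yon (Spec (CommRingCat.of k))).obj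
      (Over.mk (𝟙 (Spec (CommRingCat.of k)))))) := AlgSp.repWith_id @Etale _
  constructor
  · intro H
    refine ⟨fun U V a b h ha hb hc => (H a b h ha hb hc).2, ?_⟩
    unfold AlgSp.dim
    refine iSup_le fun U => iSup_le fun a => iSup_le fun ha => ?_
    let h : U ⟶ Over.mk (𝟙 (Spec (CommRingCat.of k))) := Over.mkIdTerminal.from U
    have hc : a ≫ p = (AlgSp.yon (Spec (CommRingCat.of k))).map h ≫ 𝟙 _ := hT.hom_ext _ _
    obtain ⟨h1, h2⟩ := H a (𝟙 _) h ha hid hc
    have h1' : LocallyQuasiFinite h.left := h1
    have h2' : LocallyOfFiniteType h.left := h2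
    have hdisc : DiscreteTopology ↥U.left := by
      rcases isEmpty_or_nonempty ↥U.left with he | ⟨⟨x⟩⟩
      · infer_instance
      · have hd := (locallyQuasiFinite_iff_isDiscrete_preimage_singleton (f := h.left)).1 h1'
          (h.left x)
        have huniv : (h.left ⁻¹' {h.left x} : Set ↥U.left) = Set.univ := by
          ext y
          simp only [Set.mem_preimage, Set.mem_singleton_iff, Set.mem_univ, iff_true]
          have : Subsingleton ↥(Spec (CommRingCat.of k)) :=
            inferInstanceAs (Subsingleton (PrimeSpectrum k))
          exact Subsingleton.elim (α := ↥(Spec (CommRingCat.of k))) _ _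
        rw [huniv] at hd
        exact isDiscrete_univ_iff.1 hd
    exact topologicalKrullDim_zero_of_discreteTopology _
  · rintro ⟨H1, H2⟩ U V a b h ha hb hc
    have hlft : LocallyOfFiniteType h.left := H1 a b h ha hb hc
    refine ⟨?_, hlft⟩
    -- V is étale over the field
    obtain ⟨b', hb'⟩ := (AlgSp.yon (Spec (CommRingCat.of k))).map_surjective b
    have hVe : Etale b'.left := by
      rw [← hb'] at hb
      exact (AlgSp.repWith_yon_map_iff @Etale b').1 hb
    have hVlft : LocallyOfFiniteType b'.left := inferInstance
    have hUlft : LocallyOfFiniteType (h.left ≫ b'.left) := inferInstance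
    have hkN : IsLocallyNoetherian (Spec (CommRingCat.of k)) := inferInstance
    have hUN : IsLocallyNoetherian U.left :=
      @LocallyOfFiniteType.isLocallyNoetherian U.left (Spec (CommRingCat.of k))
        (h.left ≫ b'.left) hUlft hkN
    have hdim : topologicalKrullDim ↥U.left ≤ 0 := by
      refine le_trans ?_ H2
      unfold AlgSp.dim
      exact le_iSup_of_le U (le_iSup_of_le a (le_iSup_of_le ha le_rfl))
    have hArt : IsLocallyArtinian U.left := IsLocallyArtinian.of_topologicalKrullDim_le_zero hdim
    have hdisc : DiscreteTopology ↥U.left := inferInstance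
    show LocallyQuasiFinite h.left
    rw [locallyQuasiFinite_iff_isDiscrete_preimage_singleton]
    intro x
    exact (isDiscrete_univ_iff.2 hdisc).mono (Set.subset_univ _)

end Groth.Agent.S10482
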