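import Groth.Statements.S10489
import Groth.Agent.Helper4.SmReg
import Mathlib

set_option autoImplicit false
universe u
open CategoryTheory CategoryTheory.Limits AlgebraicGeometry Topology TopologicalSpace
open AlgSp

namespace Groth.Agent.S10489


/-- Let k be a field and X an algebraic space which is smooth over k. Then X is regular as an algebraic
space. -/
theorem result (k : Type u) [Field k] (X : AlgSp.Space (Spec (CommRingCat.of k))) (p : X.obj ⟶ (AlgSp.yon (Spec (CommRingCat.of k))).obj (Over.mk (𝟙 _))) (hp : AlgSp.LocP @Smooth p) :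
    AlgSp.EtaleLocally (fun U => IsLocallyNoetherian U ∧ ∀ u : ↥U, IsRegularLocalRing ↥(U.presheaf.stalk u)) X.obj := by

  obtain ⟨U, a, hae, has⟩ := X.property.atlas
  refine ⟨U, a, hae, has, ?_⟩
  have heq : a ≫ p = (AlgSp.yon (Spec (CommRingCat.of k))).map
      (Over.homMk U.hom (by simp) : U ⟶ Over.mk (𝟙 _)) ≫ 𝟙 _ := by
    apply Sheaf.hom_ext
    ext T x
    apply ULift.ext
    exact Over.mkIdTerminal.hom_ext _ _
  haveI hsm : Smooth U.hom := by
    have := hp a (𝟙 _) (Over.homMk U.hom (by simp) : U ⟶ Over.mk (𝟙 _)) hae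
      (AlgSp.repWith_id _ _) heq
    simpa using this
  exact Groth.Agent.Helper4.SmReg.regular_of_smooth_field k U.hom

end Groth.Agent.S10489
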