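import Groth.Statements.S10496
import Groth.Agent.Helper5.DegStr10

set_option autoImplicit false
universe u
open CategoryTheory CategoryTheory.Limits AlgebraicGeometry Topology TopologicalSpace
open AlgSp

namespace Groth.Agent.S10496

/-- Let X be a decent algebraic space over a scheme S. For every irreducible closed subset T of |X|
there is an integral closed subspace Z of X with |Z| = T. -/
theorem result {S : Scheme.{u}} (X : AlgSp.Space S)
    (hX : AlgSp.IsDecent X.obj) (T : Set (AlgSp.Points X.obj)) (hT : IsClosed T) (hTi : IsIrreducible T) :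
    ∃ (Z : AlgSp.Space S) (i : Z ⟶ X), AlgSp.RepWith @IsClosedImmersion i.hom ∧ AlgSp.IsIntegralSp Z.obj ∧
      Set.range (AlgSp.Points.map i.hom) = T := by
  obtain ⟨Z, i, hZ, hi1, hi2, hi3⟩ := Groth.Agent.Helper5.RedInd.s10192 X.obj X.property T hT
  let Zsp : AlgSp.Space S := ⟨Z, hZ⟩
  let isp : Zsp ⟶ X := ObjectProperty.homMk i
  have himm : AlgSp.RepWith @IsImmersion isp.hom :=
    Groth.Agent.Helper4.AlgSpSrc.repWith_mono (fun g hg => by
      have : IsClosedImmersion g := hg
      infer_instance) hi1
  have hemb : Topology.IsEmbedding (AlgSp.Points.map i) :=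
    (Groth.Agent.Helper5.ImmEmb.s10191 isp himm).1
  have hZdec : AlgSp.IsDecent Z := Groth.Agent.Helper5.Decent1.isDecent_of_representable i hi1.rep hX
  haveI : IrreducibleSpace ↥T := Subtype.irreducibleSpace hTi
  haveI : IrreducibleSpace ↥(Set.range (AlgSp.Points.map i)) := by rw [hi2]; infer_instance
  haveI : IrreducibleSpace (AlgSp.Points Z) :=
    (hemb.toHomeomorph.irreducibleSpace_iff).2 inferInstance
  exact ⟨Zsp, isp, hi1, ⟨hi3, hZdec, inferInstance⟩, hi2⟩

end Groth.Agent.S10496
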