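import Groth.Statements.S10502
import Groth.Agent.Helper4.GeomRedSp2
import Groth.Agent.Helper5.GeomRed2
import Groth.Agent.S10479
import Mathlib

set_option autoImplicit false
universe u
open CategoryTheory CategoryTheory.Limits AlgebraicGeometry Topology TopologicalSpace
open AlgSp

namespace Groth.Agent.S10502


/-- Let k be a field, X an algebraic space over k and K/k a field extension. Then X being geometrically
reduced over k is equivalent to its base change X_K being geometrically reduced over K. -/
theorem result (k : Type u) [Field k] (X : AlgSp.Space (Spec (CommRingCat.of k))) (K : Type u) [Field K] [Algebra k K] :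
    (∀ x : AlgSp.Points X.obj, (∃ (U : Over (Spec (CommRingCat.of k))) (a : (AlgSp.yon (Spec (CommRingCat.of k))).obj U ⟶ X.obj) (u : ↥U.left),
      AlgSp.RepWith @Etale a ∧ AlgSp.Points.ofPt a u = x ∧ FBase.IsGeomReducedAt U.hom u)) ↔
      ∀ x' : AlgSp.Points (X.obj ⨯ (AlgSp.yon (Spec (CommRingCat.of k))).obj (Over.mk (Spec.map (CommRingCat.ofHom (algebraMap k K))))), (∃ (U' : Over (Spec (CommRingCat.of k))) (a' : (AlgSp.yon (Spec (CommRingCat.of k))).obj U' ⟶ (X.obj ⨯ (AlgSp.yon (Spec (CommRingCat.of k))).obj (Over.mk (Spec.map (CommRingCat.ofHom (algebraMap k K))))))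
        (q : U' ⟶ Over.mk (Spec.map (CommRingCat.ofHom (algebraMap k K)))) (u' : ↥U'.left),
        AlgSp.RepWith @Etale a' ∧ a' ≫ Limits.prod.snd = (AlgSp.yon (Spec (CommRingCat.of k))).map q ∧
          AlgSp.Points.ofPt a' u' = x' ∧ FBase.IsGeomReducedAt q.left u') := by

  constructor
  · intro h x'
    exact (Groth.Agent.S10479.result k X K _ x' rfl).mp (h _)
  · intro h x
    obtain ⟨U, a, u, ha, hu⟩ := Groth.Agent.Helper5.GeomRed.exists_chart_point X.property x
    haveI : Subsingleton ↥(Spec (CommRingCat.of k)) :=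
      inferInstanceAs (Subsingleton (PrimeSpectrum k))
    obtain ⟨w, hw1, -⟩ := Scheme.Pullback.exists_preimage_pullback (f := U.hom)
      (g := Spec.map (CommRingCat.ofHom (algebraMap k K))) u (IsLocalRing.closedPoint K)
      (Subsingleton.elim _ _)
    let x' := AlgSp.Points.ofPt (Groth.Agent.Helper4.GeomRedSp2.chartProd a
      (Over.mk (Spec.map (CommRingCat.ofHom (algebraMap k K)))))
      (w : ↥(Groth.Agent.Helper4.GeomRedSp2.pbOver U
        (Over.mk (Spec.map (CommRingCat.ofHom (algebraMap k K))))).left)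
    have hx' : AlgSp.Points.map (Limits.prod.fst : (X.obj ⨯ (AlgSp.yon (Spec (CommRingCat.of k))).obj
        (Over.mk (Spec.map (CommRingCat.ofHom (algebraMap k K))))) ⟶ X.obj) x' = x := by
      show AlgSp.Points.map _ (AlgSp.Points.ofPt _ _) = x
      rw [← Groth.Agent.Helper5.GeomRed.ofPt_comp, prod.lift_fst,
        Groth.Agent.Helper4.AlgSpPtsDesc.ofPt_yon_map_comp]
      show AlgSp.Points.ofPt a ((pullback.fst U.hom _) w) = x
      rw [hw1, hu]
    exact (Groth.Agent.S10479.result k X K x x' hx').mpr (h x')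

end Groth.Agent.S10502
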