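import Groth.Statements.S10507
import Groth.Agent.Helper5.FpqcRef

set_option autoImplicit false
universe u
open CategoryTheory CategoryTheory.Limits AlgebraicGeometry
open AlgSp

namespace Groth.Agent.S10507

/-- If `{X_i ⟶ X}` is an fpqc covering of the algebraic space `X` by algebraic spaces and each `X_i` has
an fpqc covering `{X_ij ⟶ X_i}` by algebraic spaces, then the composites `X_ij ⟶ X_i ⟶ X`, indexed
by the pairs `(i, j)`, form an fpqc covering of `X`. -/
theorem result {S : Scheme.{u}} (X : AlgSp.Space S) {ι : Type u}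
    (Xi : ι → AlgSp.Space S) (g : ∀ i, Xi i ⟶ X) (κ : ι → Type u) (Xij : ∀ i, κ i → AlgSp.Space S)
    (gij : ∀ i j, Xij i j ⟶ Xi i)
    (h : AlgSp.IsFpqcCover (fun i => (Xi i).obj) (fun i => (g i).hom))
    (hij : ∀ i, AlgSp.IsFpqcCover (fun j => (Xij i j).obj) (fun j => (gij i j).hom)) :
    AlgSp.IsFpqcCover (fun r : Σ i, κ i => (Xij r.1 r.2).obj) (fun r => (gij r.1 r.2 ≫ g r.1).hom) := by
  refine ⟨fun r => ?_, ?_⟩
  · exact Groth.Agent.Helper4.AlgSpLocPComp.locP_comp @Flat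
      Groth.Agent.Helper4.SDClasses.good_flat (Xi r.1).property (gij r.1 r.2).hom (g r.1).hom
      ((hij r.1).1 r.2) (h.1 r.1)
  · intro Z hZ k
    obtain ⟨m, W, c, hWa, hcf, hcs, hl⟩ := h.2 Z hZ k
    choose i l hl using hl
    refine Groth.Agent.Helper5.FpqcRef.hasRef_trans (κ := Fin m) W c hcf hcs fun a => ?_
    obtain ⟨m', W', c', hWa', hcf', hcs', hl'⟩ := (hij (i a)).2 (W a) (hWa a) (l a)
    refine ⟨m', W', c', hWa', hcf', hcs', fun b => ?_⟩
    obtain ⟨j, l', hl'⟩ := hl' b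
    refine ⟨⟨i a, j⟩, l', ?_⟩
    show l' ≫ (gij (i a) j).hom ≫ (g (i a)).hom = _
    rw [← Category.assoc, hl', Category.assoc, hl a]

end Groth.Agent.S10507
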