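import Groth.Statements.S10614
import Groth.Agent.S10613
import Groth.Agent.Helper5.AlgSpProper
import Groth.Agent.Helper4.AlgSpPtsDesc
import Groth.Agent.Helper4.AlgSpLocPBC

set_option autoImplicit false
universe u
open CategoryTheory CategoryTheory.Limits AlgebraicGeometry
open AlgSp

namespace Groth.Agent.S10614

/-- For a morphism f : X ⟶ Y of algebraic spaces over S, being a closed immersion (representable by
closed immersions) is equivalent to each of: (a) universally closed plus unramified plus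
monomorphism; (b) universally closed plus unramified plus universally injective; (c) a universally
closed monomorphism that is locally of finite type; (d) universally closed, universally injective,
locally of finite type and formally unramified (lifting sense). (Unramified is the etale-local
condition locally of finite type and formally unramified on charts; monomorphisms are taken in fppf
sheaves.) -/
theorem result {S : Scheme.{u}} {X Y : AlgSp.Space S} (f : X ⟶ Y) :
    (AlgSp.RepWith @IsClosedImmersion f.hom ↔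
      (AlgSp.IsUnivClosedMor f.hom ∧ AlgSp.LocP (@LocallyOfFiniteType ⊓ @FormallyUnramified) f.hom ∧ Mono f.hom)) ∧
    (AlgSp.RepWith @IsClosedImmersion f.hom ↔
      (AlgSp.IsUnivClosedMor f.hom ∧ AlgSp.LocP (@LocallyOfFiniteType ⊓ @FormallyUnramified) f.hom ∧ AlgSp.IsUnivInjectiveMor f.hom)) ∧
    (AlgSp.RepWith @IsClosedImmersion f.hom ↔
      (AlgSp.IsUnivClosedMor f.hom ∧ AlgSp.LocP @LocallyOfFiniteType f.hom ∧ Mono f.hom)) ∧
    (AlgSp.RepWith @IsClosedImmersion f.hom ↔
      (AlgSp.IsUnivClosedMor f.hom ∧ AlgSp.IsUnivInjectiveMor f.hom ∧ AlgSp.LocP @LocallyOfFiniteType f.hom ∧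
        AlgSp.IsFormallyUnramifiedMor f.hom)) := by
  have hX := X.property
  have hY := Y.property
  have h613 := Groth.Agent.S10613.result f
  have hGu := Groth.Agent.Helper4.SDClasses.good_unram.{u}
  have hGl := Groth.Agent.Helper4.SDClasses.good_lft.{u}
  -- forward direction
  have fwd : AlgSp.RepWith @IsClosedImmersion f.hom →
      AlgSp.IsUnivClosedMor f.hom ∧
        AlgSp.LocP (@LocallyOfFiniteType ⊓ @FormallyUnramified) f.hom ∧ Mono f.hom := by
    intro h
    haveI := hGu.comp
    refine ⟨Groth.Agent.Helper5.AlgSpProper.isUnivClosedMor_of_closedImmersion f.hom h, ?_,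
      Groth.Agent.Helper4.AlgSpBasic.mono_of_repWith (fun g hg => by
        have : IsClosedImmersion g := hg
        infer_instance) f.hom h⟩
    refine Groth.Agent.Helper4.AlgSpLocP.locP_of_repWith _ @IsClosedImmersion
      (fun g hg => ?_) (fun g hg => hGu.etale_le g hg) f.hom h
    have : IsClosedImmersion g := hg
    exact ⟨inferInstance, inferInstance⟩
  -- backward direction
  have bwd : AlgSp.IsUnivClosedMor f.hom → AlgSp.LocP @LocallyOfFiniteType f.hom → Mono f.hom →
      AlgSp.RepWith @IsClosedImmersion f.hom := by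
    intro huc hl hm
    have hrep : AlgSp.Representable f.hom := (h613.2.2.2 ⟨hl, hm⟩).1
    have huc' := Groth.Agent.Helper4.AlgSpPtsDesc.repWith_univClosed_of_isUnivClosedMor f.hom hrep huc
    refine ⟨hrep, ?_⟩
    intro T E ξ c e sq
    show IsClosedImmersion e.left
    haveI := hGl.bc
    haveI := hGl.comp
    have h1 : AlgSp.LocP @LocallyOfFiniteType ((AlgSp.yon S).map e) :=
      Groth.Agent.Helper4.AlgSpLocPBC.locP_of_isPullback _ hGl.etale_le hGl.sd hX hY f.hom ξ c
        ((AlgSp.yon S).map e) sq hl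
    have h2 : LocallyOfFiniteType e.left := AlgSp.locP_yon_map h1
    have h3 : UniversallyClosed e.left := huc'.property _ _ _ sq
    haveI : Mono ((AlgSp.yon S).map e) := sq.mono_snd_of_mono
    haveI : Mono e := (AlgSp.yon S).mono_of_mono_map inferInstance
    haveI : Mono e.left := inferInstance
    rw [IsClosedImmersion.iff_isProper_and_mono]
    exact ⟨{ }, inferInstance⟩
  refine ⟨⟨fwd, fun h => bwd h.1 (fun _ _ a b c ha hb e => (h.2.1 a b c ha hb e).1) h.2.2⟩,
    ⟨fun h => ?_, fun h => ?_⟩, ⟨fun h => ?_, fun h => bwd h.1 h.2.1 h.2.2⟩,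
    ⟨fun h => ?_, fun h => ?_⟩⟩
  · obtain ⟨h1, h2, h3⟩ := fwd h
    exact ⟨h1, h2, (h613.1.1 ⟨h2, h3⟩).2⟩
  · exact bwd h.1 (fun _ _ a b c ha hb e => (h.2.1 a b c ha hb e).1) (h613.1.2 h.2).2
  · obtain ⟨h1, h2, h3⟩ := fwd h
    exact ⟨h1, (h613.2.1.1 ⟨h2, h3⟩).1, h3⟩
  · obtain ⟨h1, h2, h3⟩ := fwd h
    obtain ⟨h4, h5, h6⟩ := h613.2.2.1.1 ⟨h2, h3⟩
    exact ⟨h1, h4, h5, h6⟩
  · obtain ⟨h1, h2⟩ := h613.2.2.1.2 h.2
    exact bwd h.1 h.2.2.1 h2

end Groth.Agent.S10614
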