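import Groth.Statements.S10618

set_option autoImplicit false
universe u
open CategoryTheory CategoryTheory.Limits AlgebraicGeometry
open AlgSp

namespace Groth.Agent.S10618

variable {S : Scheme.{u}} {F G H : AlgSp.Sp S}

/-- the square for `a ≫ b` obtained from a square for `a` -/
noncomputable def sqAB (a : F ⟶ G) (b : G ⟶ H) (sq : InfSq a) : InfSq (a ≫ b) :=
  { A := sq.A
    I := sq.I
    sq_zero := sq.sq_zero
    str := sq.str
    top := sq.top
    bot := sq.bot ≫ b
    comm := by rw [← Category.assoc, sq.comm, Category.assoc] }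

/-- the square for `b` obtained from a square for `a` -/
noncomputable def sqB (a : F ⟶ G) (b : G ⟶ H) (sq : InfSq a) : InfSq b :=
  { A := sq.A
    I := sq.I
    sq_zero := sq.sq_zero
    str := sq.str
    top := sq.top ≫ a
    bot := sq.bot ≫ b
    comm := by rw [sq.comm, Category.assoc] }

theorem unram_of_comp (a : F ⟶ G) (b : G ⟶ H)
    (hab : AlgSp.IsFormallyUnramifiedMor (a ≫ b)) : AlgSp.IsFormallyUnramifiedMor a := by
  intro sq l l' h1 h2 h1' h2'
  refine hab (sqAB a b sq) l l' h1 ?_ h1' ?_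
  · show l ≫ a ≫ b = sq.bot ≫ b
    rw [← Category.assoc, h2]
  · show l' ≫ a ≫ b = sq.bot ≫ b
    rw [← Category.assoc, h2']

theorem smooth_of_comp (a : F ⟶ G) (b : G ⟶ H) (hb : AlgSp.IsFormallyUnramifiedMor b)
    (hab : AlgSp.IsFormallySmoothMor (a ≫ b)) : AlgSp.IsFormallySmoothMor a := by
  intro sq
  obtain ⟨l, hl1, hl2⟩ : ∃ l : (yon S).obj sq.ptT' ⟶ F,
      (yon S).map sq.j ≫ l = sq.top ∧ l ≫ a ≫ b = sq.bot ≫ b := hab (sqAB a b sq)
  refine ⟨l, hl1, ?_⟩
  refine hb (sqB a b sq) (l ≫ a) sq.bot ?_ ?_ ?_ ?_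
  · show (yon S).map sq.j ≫ l ≫ a = sq.top ≫ a
    rw [← Category.assoc, hl1]
  · show (l ≫ a) ≫ b = sq.bot ≫ b
    rw [Category.assoc]; exact hl2
  · show (yon S).map sq.j ≫ sq.bot = sq.top ≫ a
    exact sq.comm.symm
  · rfl

/-- Let a : F ⟶ G and b : G ⟶ H be morphisms of fppf sheaves on (Sch/S) with b formally unramified. If a
≫ b is formally unramified, resp. formally etale, resp. formally smooth, then so is a. (The
published statement is for transformations of arbitrary presheaves of sets on (Sch/S)_fppf; this row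
takes fppf sheaves, the case of algebraic spaces.) -/
theorem result {S : Scheme.{u}} {F G H : AlgSp.Sp S} (a : F ⟶ G) (b : G ⟶ H)
    (hb : AlgSp.IsFormallyUnramifiedMor b) :
    (AlgSp.IsFormallyUnramifiedMor (a ≫ b) → AlgSp.IsFormallyUnramifiedMor a) ∧
    (AlgSp.IsFormallyEtaleMor (a ≫ b) → AlgSp.IsFormallyEtaleMor a) ∧
    (AlgSp.IsFormallySmoothMor (a ≫ b) → AlgSp.IsFormallySmoothMor a) := by
  refine ⟨unram_of_comp a b, ?_, smooth_of_comp a b hb⟩
  intro hab
  have habs : AlgSp.IsFormallySmoothMor (a ≫ b) := fun sq => (hab sq).exists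
  have habu : AlgSp.IsFormallyUnramifiedMor (a ≫ b) := fun sq l l' h1 h2 h1' h2' =>
    (hab sq).unique ⟨h1, h2⟩ ⟨h1', h2'⟩
  intro sq
  obtain ⟨l, hl1, hl2⟩ := smooth_of_comp a b hb habs sq
  refine ⟨l, ⟨hl1, hl2⟩, ?_⟩
  rintro l' ⟨h1', h2'⟩
  exact unram_of_comp a b habu sq l' l h1' h2' hl1 hl2

end Groth.Agent.S10618
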