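import Groth.Statements.S10619

set_option autoImplicit false
universe u
open CategoryTheory CategoryTheory.Limits AlgebraicGeometry
open AlgSp

namespace Groth.Agent.S10619

variable {S : Scheme.{u}} {F G H : AlgSp.Sp S}

/-- the square for `b` obtained from a square for `a ≫ b` -/
noncomputable def sqB (a : F ⟶ G) (b : G ⟶ H) (sq : InfSq (a ≫ b)) : InfSq b :=
  { A := sq.A
    I := sq.I
    sq_zero := sq.sq_zero
    str := sq.str
    top := sq.top ≫ a
    bot := sq.bot
    comm := by rw [Category.assoc]; exact sq.comm }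

/-- the square for `a` obtained from a square for `a ≫ b` and a map to `G` -/
noncomputable def sqA (a : F ⟶ G) (b : G ⟶ H) (sq : InfSq (a ≫ b))
    (l : (yon S).obj sq.ptT' ⟶ G) (hl : (yon S).map sq.j ≫ l = sq.top ≫ a) : InfSq a :=
  { A := sq.A
    I := sq.I
    sq_zero := sq.sq_zero
    str := sq.str
    top := sq.top
    bot := l
    comm := hl.symm }

theorem smooth_comp (a : F ⟶ G) (b : G ⟶ H)
    (ha : AlgSp.IsFormallySmoothMor a) (hb : AlgSp.IsFormallySmoothMor b) :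
    AlgSp.IsFormallySmoothMor (a ≫ b) := by
  intro sq
  obtain ⟨lb, hlb1, hlb2⟩ : ∃ lb : (yon S).obj sq.ptT' ⟶ G,
      (yon S).map sq.j ≫ lb = sq.top ≫ a ∧ lb ≫ b = sq.bot := hb (sqB a b sq)
  obtain ⟨l, hl1, hl2⟩ : ∃ l : (yon S).obj sq.ptT' ⟶ F,
      (yon S).map sq.j ≫ l = sq.top ∧ l ≫ a = lb := ha (sqA a b sq lb hlb1)
  refine ⟨l, hl1, ?_⟩
  rw [← Category.assoc, hl2]
  exact hlb2

theorem unram_comp (a : F ⟶ G) (b : G ⟶ H)
    (ha : AlgSp.IsFormallyUnramifiedMor a) (hb : AlgSp.IsFormallyUnramifiedMor b) :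
    AlgSp.IsFormallyUnramifiedMor (a ≫ b) := by
  intro sq l l' h1 h2 h1' h2'
  have hla : l ≫ a = l' ≫ a := by
    refine hb (sqB a b sq) (l ≫ a) (l' ≫ a) ?_ ?_ ?_ ?_
    · show (yon S).map sq.j ≫ l ≫ a = sq.top ≫ a
      rw [← Category.assoc, h1]
    · show (l ≫ a) ≫ b = sq.bot
      rw [Category.assoc]; exact h2
    · show (yon S).map sq.j ≫ l' ≫ a = sq.top ≫ a
      rw [← Category.assoc, h1']
    · show (l' ≫ a) ≫ b = sq.bot
      rw [Category.assoc]; exact h2'
  have hj : (yon S).map sq.j ≫ (l ≫ a) = sq.top ≫ a := by rw [← Category.assoc, h1]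
  exact ha (sqA a b sq (l ≫ a) hj) l l' h1 rfl h1' hla.symm

/-- A composition of formally smooth, resp. formally etale, resp. formally unramified morphisms of fppf
sheaves on (Sch/S) is again formally smooth, resp. formally etale, resp. formally unramified. (The
published statement is for transformations of arbitrary presheaves of sets on (Sch/S)_fppf; this row
takes fppf sheaves, the case of algebraic spaces.) -/
theorem result {S : Scheme.{u}} {F G H : AlgSp.Sp S} (a : F ⟶ G) (b : G ⟶ H) :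
    (AlgSp.IsFormallySmoothMor a → AlgSp.IsFormallySmoothMor b → AlgSp.IsFormallySmoothMor (a ≫ b)) ∧
    (AlgSp.IsFormallyEtaleMor a → AlgSp.IsFormallyEtaleMor b → AlgSp.IsFormallyEtaleMor (a ≫ b)) ∧
    (AlgSp.IsFormallyUnramifiedMor a → AlgSp.IsFormallyUnramifiedMor b → AlgSp.IsFormallyUnramifiedMor (a ≫ b)) := by
  refine ⟨smooth_comp a b, ?_, unram_comp a b⟩
  intro ha hb
  have has : AlgSp.IsFormallySmoothMor a := fun sq => (ha sq).exists
  have hbs : AlgSp.IsFormallySmoothMor b := fun sq => (hb sq).exists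
  have hau : AlgSp.IsFormallyUnramifiedMor a := fun sq l l' h1 h2 h1' h2' =>
    (ha sq).unique ⟨h1, h2⟩ ⟨h1', h2'⟩
  have hbu : AlgSp.IsFormallyUnramifiedMor b := fun sq l l' h1 h2 h1' h2' =>
    (hb sq).unique ⟨h1, h2⟩ ⟨h1', h2'⟩
  intro sq
  obtain ⟨l, hl1, hl2⟩ := smooth_comp a b has hbs sq
  refine ⟨l, ⟨hl1, hl2⟩, ?_⟩
  rintro l' ⟨h1', h2'⟩
  exact unram_comp a b hau hbu sq l' l h1' h2' hl1 hl2

end Groth.Agent.S10619
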