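import Groth.Statements.S10620

set_option autoImplicit false
universe u
open CategoryTheory CategoryTheory.Limits AlgebraicGeometry
open AlgSp

namespace Groth.Agent.S10620

variable {S : Scheme.{u}} {F G H P : AlgSp.Sp S}

/-- the square for `a` obtained from a square for its base change `a'` -/
noncomputable def sqA (a : F ⟶ G) (b : H ⟶ G) (b' : P ⟶ F) (a' : P ⟶ H)
    (w : b' ≫ a = a' ≫ b) (sq : InfSq a') : InfSq a :=
  { A := sq.A
    I := sq.I
    sq_zero := sq.sq_zero
    str := sq.str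
    top := sq.top ≫ b'
    bot := sq.bot ≫ b
    comm := by
      rw [Category.assoc, w, ← Category.assoc, sq.comm, Category.assoc] }

theorem smooth_bc (a : F ⟶ G) (b : H ⟶ G) (b' : P ⟶ F) (a' : P ⟶ H)
    (hP : IsPullback b' a' a b) (ha : AlgSp.IsFormallySmoothMor a) :
    AlgSp.IsFormallySmoothMor a' := by
  intro sq
  obtain ⟨l, hl1, hl2⟩ : ∃ l : (yon S).obj sq.ptT' ⟶ F,
      (yon S).map sq.j ≫ l = sq.top ≫ b' ∧ l ≫ a = sq.bot ≫ b := ha (sqA a b b' a' hP.w sq)
  refine ⟨hP.lift l sq.bot hl2, ?_, hP.lift_snd _ _ _⟩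
  apply hP.hom_ext
  · rw [Category.assoc, hP.lift_fst, hl1]
  · rw [Category.assoc, hP.lift_snd, sq.comm]

theorem unram_bc (a : F ⟶ G) (b : H ⟶ G) (b' : P ⟶ F) (a' : P ⟶ H)
    (hP : IsPullback b' a' a b) (ha : AlgSp.IsFormallyUnramifiedMor a) :
    AlgSp.IsFormallyUnramifiedMor a' := by
  intro sq m m' h1 h2 h1' h2'
  apply hP.hom_ext
  · refine ha (sqA a b b' a' hP.w sq) (m ≫ b') (m' ≫ b') ?_ ?_ ?_ ?_
    · show (yon S).map sq.j ≫ m ≫ b' = sq.top ≫ b'
      rw [← Category.assoc, h1]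
    · show (m ≫ b') ≫ a = sq.bot ≫ b
      rw [Category.assoc, hP.w, ← Category.assoc, h2]
    · show (yon S).map sq.j ≫ m' ≫ b' = sq.top ≫ b'
      rw [← Category.assoc, h1']
    · show (m' ≫ b') ≫ a = sq.bot ≫ b
      rw [Category.assoc, hP.w, ← Category.assoc, h2']
  · rw [h2, h2']

/-- Let a : F ⟶ G and b : H ⟶ G be morphisms of fppf sheaves on (Sch/S) and let a' : P ⟶ H be the base
change of a along b (any pullback square). If a is formally smooth, resp. formally etale, resp.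
formally unramified, then so is a'. (The published statement is for transformations of arbitrary
presheaves of sets on (Sch/S)_fppf; this row takes fppf sheaves, the case of algebraic spaces.) -/
theorem result {S : Scheme.{u}} {F G H P : AlgSp.Sp S} (a : F ⟶ G) (b : H ⟶ G)
    (b' : P ⟶ F) (a' : P ⟶ H) (hP : IsPullback b' a' a b) :
    (AlgSp.IsFormallySmoothMor a → AlgSp.IsFormallySmoothMor a') ∧
    (AlgSp.IsFormallyEtaleMor a → AlgSp.IsFormallyEtaleMor a') ∧
    (AlgSp.IsFormallyUnramifiedMor a → AlgSp.IsFormallyUnramifiedMor a') := by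
  refine ⟨smooth_bc a b b' a' hP, ?_, unram_bc a b b' a' hP⟩
  intro ha
  have has : AlgSp.IsFormallySmoothMor a := fun sq => (ha sq).exists
  have hau : AlgSp.IsFormallyUnramifiedMor a := fun sq l l' h1 h2 h1' h2' =>
    (ha sq).unique ⟨h1, h2⟩ ⟨h1', h2'⟩
  intro sq
  obtain ⟨l, hl1, hl2⟩ := smooth_bc a b b' a' hP has sq
  refine ⟨l, ⟨hl1, hl2⟩, ?_⟩
  rintro l' ⟨h1', h2'⟩
  exact unram_bc a b b' a' hP hau sq l' l h1' h2' hl1 hl2

end Groth.Agent.S10620
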