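import Groth.Statements.S10641
import Groth.Agent.S10614
import Groth.Agent.Helper5.Where4

set_option autoImplicit false
universe u
open CategoryTheory CategoryTheory.Limits AlgebraicGeometry
open AlgSp

namespace Groth.Agent.S10641

/-- For morphisms f : X ⟶ Y, p : X ⟶ Z and q : Y ⟶ Z of algebraic spaces over S with f ≫ q = p, where p
is universally closed and locally of finite type and q is separated, there is an open subspace W of
Z with the following property: a morphism of algebraic spaces g : Z' ⟶ Z factors through W exactly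
when the base change X' ⟶ Y' of f along g is a closed immersion (representable, and a closed
immersion on every represented pullback). Here the base change of f along g is any f' : X' ⟶ Y'
obtained from pullback squares Y' = Y ×_Z Z' and X' = X ×_Y Y' of algebraic spaces over S, and W ⊂ Z
is given as a representable open immersion w : W ⟶ Z. -/
theorem result {S : Scheme.{u}} {X Y Z : AlgSp.Space S}
    (f : X ⟶ Y) (p : X ⟶ Z) (q : Y ⟶ Z) (hc : f ≫ q = p)
    (hp1 : AlgSp.LocP @LocallyOfFiniteType p.hom) (hp2 : AlgSp.IsUnivClosedMor p.hom)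
    (hq : AlgSp.IsSeparatedMor q.hom) :
    ∃ (W : AlgSp.Space S) (w : W ⟶ Z), AlgSp.RepWith @IsOpenImmersion w.hom ∧
      ∀ (Z' : AlgSp.Space S) (g : Z' ⟶ Z),
        (∃ k : Z' ⟶ W, k ≫ w = g) ↔
          ∀ (Y' : AlgSp.Space S) (gY : Y' ⟶ Y) (q' : Y' ⟶ Z'),
            IsPullback gY.hom q'.hom q.hom g.hom →
            ∀ (X' : AlgSp.Space S) (gX : X' ⟶ X) (f' : X' ⟶ Y'),
              IsPullback gX.hom f'.hom f.hom gY.hom →
                AlgSp.RepWith @IsClosedImmersion f'.hom := by
  subst hc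
  have hpcl : AlgSp.IsClosedMor (f ≫ q).hom :=
    Groth.Agent.Helper5.ProperImg.isClosedMap_of_isUnivClosedMor Z.property _ hp2
  have hXXsq : IsPullback (pullback.fst f.hom f.hom) (pullback.snd f.hom f.hom) f.hom f.hom :=
    IsPullback.of_hasPullback _ _
  have hXXalg : AlgSp.IsAlgSpace (pullback f.hom f.hom) :=
    Groth.Agent.Helper4.AlgSpPB.isAlgSpace_of_isPullback Y.property.diag X.property X.property
      f.hom f.hom _ _ hXXsq
  obtain ⟨XX, pr0, pr1, hXX⟩ : ∃ (XX : AlgSp.Space S) (pr0 pr1 : XX ⟶ X),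
      IsPullback pr0.hom pr1.hom f.hom f.hom :=
    ⟨⟨pullback f.hom f.hom, hXXalg⟩, ObjectProperty.homMk (pullback.fst f.hom f.hom),
      ObjectProperty.homMk (pullback.snd f.hom f.hom), hXXsq⟩
  have hfuc : AlgSp.IsUnivClosedMor f.hom :=
    Groth.Agent.Helper5.AlgSpProper.isUnivClosedMor_of_comp_separated X.property Y.property
      Z.property.diag f.hom q.hom hq hp2
  have hpr1uc : AlgSp.IsUnivClosedMor pr1.hom :=
    Groth.Agent.Helper4.AlgSpUC.univSp_of_isPullback _ hXX hfuc
  have hcomp : AlgSp.IsUnivClosedMor (pr1 ≫ (f ≫ q)).hom :=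
    Groth.Agent.Helper4.AlgSpSrc.isUnivClosedMor_comp X.property Z.property.diag pr1.hom
      (f ≫ q).hom hpr1uc hp2
  have hp3' : AlgSp.IsClosedMor (pr1 ≫ (f ≫ q)).hom :=
    Groth.Agent.Helper5.ProperImg.isClosedMap_of_isUnivClosedMor Z.property _ hcomp
  obtain ⟨W, w, hw, H⟩ :=
    Groth.Agent.Helper5.Where.s10640 f (f ≫ q) q rfl XX pr0 pr1 hXX hp1 hpcl hp3'
  refine ⟨W, w, hw, fun Z' g => ?_⟩
  rw [H Z' g]
  constructor
  · intro H' Y' gY q' sqY X' gX f' sqX
    obtain ⟨hu, hi⟩ := H' Y' gY q' sqY X' gX f' sqX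
    have huc' : AlgSp.IsUnivClosedMor f'.hom :=
      Groth.Agent.Helper4.AlgSpUC.univSp_of_isPullback _ sqX hfuc
    exact ((Groth.Agent.S10614.result f').2.1).2 ⟨huc', hu, hi⟩
  · intro H' Y' gY q' sqY X' gX f' sqX
    have h := ((Groth.Agent.S10614.result f').2.1).1 (H' Y' gY q' sqY X' gX f' sqX)
    exact ⟨h.2.1, h.2.2⟩

end Groth.Agent.S10641
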