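import Groth.Statements.S8905
import Groth.Agent.Lead.KoszulH1
import Groth.Agent.S15821
import Groth.Agent.S2103
import Mathlib

set_option autoImplicit false
universe u
open CategoryTheory CategoryTheory.Limits AlgebraicGeometry TopologicalSpace
open SDiv

namespace Groth.Agent.S8905

/-- Let i : Z ⟶ X be an immersion of schemes. If i is a regular immersion then it is Koszul-regular; if
Koszul-regular then H_1-regular; if H_1-regular then quasi-regular. -/
theorem result {Z X : Scheme.{u}} (i : Z ⟶ X) :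
    (RegImm.IsRegularImmersion RegImm.Kind.regular i → RegImm.IsRegularImmersion RegImm.Kind.koszul i) ∧
      (RegImm.IsRegularImmersion RegImm.Kind.koszul i → RegImm.IsRegularImmersion RegImm.Kind.h1 i) ∧
      (RegImm.IsRegularImmersion RegImm.Kind.h1 i → RegImm.IsRegularImmersion RegImm.Kind.quasi i) := by
  refine ⟨fun h => ⟨h.1, fun z => ?_⟩, fun h => ⟨h.1, fun z => ?_⟩, fun h => ⟨h.1, fun z => ?_⟩⟩
  · obtain ⟨U, hz, hcl, rs, hrs, hker⟩ := h.2 z
    have hrs' : RingTheory.Sequence.IsRegular Γ(X, U.1) rs := hrs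
    exact ⟨U, hz, hcl, rs,
      (Groth.Agent.S15821.result Γ(X, U.1) rs hrs'.toIsWeaklyRegular).1, hker⟩
  · obtain ⟨U, hz, hcl, rs, hrs, hker⟩ := h.2 z
    have hrs' : LCI.IsKoszulRegularSeq Γ(X, U.1) rs := hrs
    exact ⟨U, hz, hcl, rs,
      Groth.Agent.Lead.KoszulH1.isH1Regular_of_isKoszulRegularSeq rs hrs', hker⟩
  · obtain ⟨U, hz, hcl, rs, hrs, hker⟩ := h.2 z
    have hrs' : CAlgX.IsH1Regular rs.get := hrs
    exact ⟨U, hz, hcl, rs, Groth.Agent.S2103.result rs.get hrs', hker⟩

end Groth.Agent.S8905
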