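import Groth.Statements.S10661
import Groth.Agent.Helper5.NoethChart
import Groth.Agent.S5003
import Groth.Agent.S8905

set_option autoImplicit false
universe u
open CategoryTheory CategoryTheory.Limits AlgebraicGeometry
open AlgSp

namespace Groth.Agent.S10661

/-- For an immersion i : Z ⟶ X of algebraic spaces over S with X locally Noetherian (some etale
surjective chart is a locally Noetherian scheme), the three conditions Koszul-regular immersion,
H_1-regular immersion and quasi-regular immersion on i are equivalent. -/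
theorem result {S : Scheme.{u}} {Z X : AlgSp.Space S} (i : Z ⟶ X) (hi : AlgSp.RepWith @IsImmersion i.hom)
    (hX : AlgSp.IsLocNoethSp X.obj) :
    (AlgSp.IsRegImmMor RegImm.Kind.koszul i.hom ↔ AlgSp.IsRegImmMor RegImm.Kind.h1 i.hom) ∧
      (AlgSp.IsRegImmMor RegImm.Kind.h1 i.hom ↔ AlgSp.IsRegImmMor RegImm.Kind.quasi i.hom) := by
  have key : ∀ ⦃V W : Over S⦄ (b : (AlgSp.yon S).obj V ⟶ X.obj) (fst : (AlgSp.yon S).obj W ⟶ Z.obj)
      (snd : W ⟶ V), AlgSp.RepWith @Etale b →
      RegImm.IsRegularImmersion RegImm.Kind.quasi snd.left →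
      RegImm.IsRegularImmersion RegImm.Kind.koszul snd.left := by
    intro V W b fst snd hb hq
    haveI : IsLocallyNoetherian V.left :=
      Groth.Agent.Helper5.NoethChart.isLocallyNoetherian_of_etale_chart hX b hb
    exact (Groth.Agent.S8905.result snd.left).1 ((Groth.Agent.S5003.result snd.left).2 hq)
  refine ⟨⟨fun h => ⟨h.1, fun V W b fst snd hb sq => ?_⟩, fun h => ⟨h.1, fun V W b fst snd hb sq => ?_⟩⟩,
    ⟨fun h => ⟨h.1, fun V W b fst snd hb sq => ?_⟩, fun h => ⟨h.1, fun V W b fst snd hb sq => ?_⟩⟩⟩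
  · exact (Groth.Agent.S8905.result snd.left).2.1 (h.2 b fst snd hb sq)
  · exact key b fst snd hb ((Groth.Agent.S8905.result snd.left).2.2 (h.2 b fst snd hb sq))
  · exact (Groth.Agent.S8905.result snd.left).2.2 (h.2 b fst snd hb sq)
  · exact (Groth.Agent.S8905.result snd.left).2.1 (key b fst snd hb (h.2 b fst snd hb sq))

end Groth.Agent.S10661
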