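import Groth.Statements.S1071
import Groth.Agent.Helper1.KzPn
import Groth.Agent.Helper1.TwistIso

set_option autoImplicit false
universe u
open CategoryTheory CategoryTheory.Limits AlgebraicGeometry
open Perf

namespace Groth.Agent.S1071

/-- Let A be a ring, X = P^n_A and a ∈ ℤ. There is a cochain complex of O_X-modules, exact in every
degree, whose term in degree i is isomorphic to the direct sum of (n+1 choose i) copies of O_X(a +
i) for 0 ≤ i ≤ n + 1 and is zero in all other degrees. -/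
theorem result (n : ℕ) (A : Type u) [CommRing A] (a : ℤ) :
    ∃ C : CochainComplex (CohB1.ProjSpace n A).Modules ℤ, (∀ i : ℤ, C.ExactAt i) ∧
      (∀ i : ℕ, i ≤ n + 1 → Nonempty (C.X (i : ℤ) ≅ ∐ fun _ : Fin (Nat.choose (n + 1) i) => Twist.twistProjSpace n A (a + i))) ∧
      (∀ i : ℤ, i < 0 ∨ (n : ℤ) + 1 < i → IsZero (C.X i)) := by
  classical
  let 𝒜 := CohB1.polyGrading n A
  let x := Groth.Agent.Helper1.KzPn.xs n A
  have hx := Groth.Agent.Helper1.KzPn.xs_mem n A
  have hcov := Groth.Agent.Helper1.KzPn.xs_cov n A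
  let Xt : ℤ → (CohB1.ProjSpace n A).Modules := fun i =>
    Groth.Agent.Helper1.KzSheaf.C 𝒜 𝒜 (n + 1) ((n : ℤ) + 1 - i) (a + i)
  let C : CochainComplex (CohB1.ProjSpace n A).Modules ℤ :=
    { X := Xt
      d := fun i j => if h : i + 1 = j then
          Groth.Agent.Helper1.KzSheaf.dC 𝒜 𝒜 x hx (n + 1) ((n : ℤ) + 1 - i) ((n : ℤ) + 1 - j)
            (by omega) (a + i) (a + j) (by push_cast; omega)
        else 0
      shape := fun i j hij => dif_neg hij
      d_comp_d' := by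
        intro i j k hij hjk
        have hij' : i + 1 = j := hij
        have hjk' : j + 1 = k := hjk
        rw [dif_pos hij', dif_pos hjk']
        exact Groth.Agent.Helper1.KzSheaf.dC_comp 𝒜 𝒜 x hx (n + 1) _ _ _ _ _ _ _ _ _ _ }
  refine ⟨C, ?_, ?_, ?_⟩
  · intro j
    rw [HomologicalComplex.exactAt_iff' C (j - 1) j (j + 1) (by simp) (by simp)]
    have h1 : j - 1 + 1 = j := by ring
    have e1 : C.d (j - 1) j = Groth.Agent.Helper1.KzSheaf.dC 𝒜 𝒜 x hx (n + 1)
        ((n : ℤ) + 1 - (j - 1)) ((n : ℤ) + 1 - j) (by omega) (a + (j - 1)) (a + j)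
        (by push_cast; omega) := dif_pos h1
    have e2 : C.d j (j + 1) = Groth.Agent.Helper1.KzSheaf.dC 𝒜 𝒜 x hx (n + 1)
        ((n : ℤ) + 1 - j) ((n : ℤ) + 1 - (j + 1)) (by omega) (a + j) (a + (j + 1))
        (by push_cast; omega) := dif_pos rfl
    have hex := Groth.Agent.Helper1.KzSheaf.exact_dC 𝒜 𝒜 x hx (n + 1) hcov
      ((n : ℤ) + 1 - (j - 1)) ((n : ℤ) + 1 - j) ((n : ℤ) + 1 - (j + 1)) (by omega) (by omega)
      (a + (j - 1)) (a + j) (a + (j + 1)) (by push_cast; omega) (by push_cast; omega)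
    refine ShortComplex.exact_of_iso ?_ hex
    exact ShortComplex.isoMk (Iso.refl _) (Iso.refl _) (Iso.refl _)
      ((Category.id_comp _).trans (e1.trans (Category.comp_id _).symm))
      ((Category.id_comp _).trans (e2.trans (Category.comp_id _).symm))
  · intro i hi
    have hp : ((n : ℤ) + 1 - (i : ℤ)) = ((n + 1 - i : ℕ) : ℤ) := by omega
    show Nonempty (Groth.Agent.Helper1.KzSheaf.C 𝒜 𝒜 (n + 1) ((n : ℤ) + 1 - (i : ℤ)) (a + i) ≅ _)
    rw [hp]
    obtain ⟨e⟩ := Groth.Agent.Helper1.KzSheaf.nonempty_C_iso_sigma 𝒜 𝒜 (n + 1) (n + 1 - i) (a + i)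
    rw [Nat.choose_symm hi] at e
    refine ⟨e ≪≫ ?_⟩
    exact Sigma.mapIso (fun _ => (Groth.Agent.Helper1.TwistIso.twistIsoTilde 𝒜 (a + i)).symm)
  · intro i hi
    exact Groth.Agent.Helper1.KzSheaf.isZero_C 𝒜 𝒜 (n + 1) _ _ (by
      rcases hi with h | h
      · right; push_cast; omega
      · left; omega)

end Groth.Agent.S1071
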