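import Groth.Statements.S10721
import Mathlib
import Groth.Agent.Helper5.GluePair

set_option autoImplicit false
universe u
open TensorProduct
open EtAlg

namespace Groth.Agent.S10721

/-- Glueing along a glueing pair detects closed immersions of affine schemes, stated for coordinate
rings. Let `(R → R', f)` be a glueing pair and `φ : A → B` a homomorphism of `R`-algebras with `A`,
`B` glueable as `R`-modules (so `Spec A`, `Spec B` are affine and glueable over `Spec R`). Then `φ`
is surjective (a closed immersion on spectra) if and only if `A_f → B_f` and `R' ⊗_R A → R' ⊗_R B`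
are surjective. -/
theorem result (R : Type u) [CommRing R] (R' : Type u) [CommRing R'] [Algebra R R'] (f : R)
    (hRR' : EtGlue.IsGlueingPair R R' f) (A B : Type u) [CommRing A] [Algebra R A] [CommRing B] [Algebra R B]
    (hA : EtGlue.IsGlueable R R' f A) (hB : EtGlue.IsGlueable R R' f B) (φ : A →ₐ[R] B) :
    Function.Surjective φ ↔
      Function.Surjective (Localization.awayMap φ.toRingHom (algebraMap R A f)) ∧ Function.Surjective (Algebra.TensorProduct.map (AlgHom.id R R') φ).toRingHom := by
  have key : ∀ y : R' ⊗[R] A, (Algebra.TensorProduct.map (AlgHom.id R R') φ).toRingHom y =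
      LinearMap.lTensor R' φ.toLinearMap y := by
    intro y
    induction y with
    | zero => simp
    | tmul a b => simp
    | add a b ha hb => rw [map_add, map_add, ha, hb]
  constructor
  · intro hφ
    refine ⟨?_, ?_⟩
    · rw [Localization.awayMap_surjective_iff]
      intro b
      obtain ⟨a, rfl⟩ := hφ b
      exact ⟨a, 0, by simp⟩
    · have h1 : Function.Surjective (TensorProduct.map (AlgHom.id R R').toLinearMap φ.toLinearMap) :=
        TensorProduct.map_surjective (fun x => ⟨x, rfl⟩) hφ
      intro x
      obtain ⟨y, hy⟩ := h1 x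
      refine ⟨y, ?_⟩
      rw [← hy, key]
      rfl
  · rintro ⟨h1, h2⟩
    rw [Localization.awayMap_surjective_iff] at h1
    obtain ⟨N, hN⟩ : ∃ N : Submodule R B, N = LinearMap.range φ.toLinearMap := ⟨_, rfl⟩
    have hsub : Subsingleton (B ⧸ N) := by
      apply Groth.Agent.Helper5.GluePair.subsingleton_of_torsion hRR'.1
      · intro c
        obtain ⟨b, rfl⟩ := Submodule.Quotient.mk_surjective N c
        obtain ⟨a, m, ham⟩ := h1 b
        refine ⟨m, ?_⟩
        rw [← Submodule.Quotient.mk_smul, Submodule.Quotient.mk_eq_zero, hN]
        refine ⟨a, ?_⟩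
        change φ a = _
        change φ a = φ (algebraMap R A f) ^ m * b at ham
        rw [ham, AlgHom.commutes, Algebra.smul_def, map_pow]
      · refine (TensorProduct.comm R (B ⧸ N) R').toEquiv.subsingleton_congr.mpr ?_
        refine ⟨fun x y => ?_⟩
        suffices h : ∀ z : R' ⊗[R] (B ⧸ N), z = 0 by rw [h x, h y]
        intro z
        obtain ⟨w, rfl⟩ := LinearMap.lTensor_surjective R' (Submodule.mkQ_surjective N) z
        obtain ⟨y, hy⟩ := h2 w
        have hy' : LinearMap.lTensor R' φ.toLinearMap y = w := by
          rw [← hy, key]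
        rw [← hy', ← LinearMap.comp_apply, ← LinearMap.lTensor_comp]
        have : N.mkQ ∘ₗ φ.toLinearMap = 0 := by
          ext a
          simp only [LinearMap.comp_apply, Submodule.mkQ_apply, LinearMap.zero_apply,
            Submodule.Quotient.mk_eq_zero, hN]
          exact ⟨a, rfl⟩
        rw [this, LinearMap.lTensor_zero, LinearMap.zero_apply]
    intro b
    have : Submodule.Quotient.mk (p := N) b = 0 := Subsingleton.elim _ _
    rw [Submodule.Quotient.mk_eq_zero, hN] at this
    obtain ⟨a, ha⟩ := this
    exact ⟨a, ha⟩

end Groth.Agent.S10721
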