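import Groth.Statements.S1073
import Mathlib
import Groth.Agent.Helper9.TorQc1
import Groth.Agent.Helper9.TorQc2
-- import your own Groth.Agent.* helpers here

set_option autoImplicit false
universe u
open CategoryTheory CategoryTheory.Limits AlgebraicGeometry Opposite
attribute [local instance] HasDerivedCategory.standard
open Perf

namespace Groth.Agent.S1073

/-- Let X be a quasi-separated scheme, E ∈ D(O_X) with quasi-coherent cohomology sheaves, and a ≤ b.
Then E has tor amplitude in [a, b] (Hⁱ(E ⊗^L F) = 0 outside [a, b] for every O_X-module F, whenever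
the derived functor is available) if and only if the same vanishing holds for every quasi-coherent
O_X-module F. -/
theorem result (X : Scheme.{u}) [QuasiSeparatedSpace ↥X] (E : DCoh.D X) (hE : DCoh.IsQCohD E)
    (a b : ℤ) (hab : a ≤ b) :
    DCoh.HasTorAmplitudeIn a b E ↔
      ∀ (F : X.Modules), Coh.IsQCoh F → ∀ [DCoh.HasLTensorMod F] (i : ℤ), (i < a ∨ b < i) →
        IsZero (DCoh.HD ((DCoh.LTensorMod F).obj E) i) := by
  constructor
  · intro h F _ _ i hi
    exact h F i hi
  · intro h G _ i hi
    obtain ⟨P, hP, ⟨eP⟩⟩ := Groth.Agent.Helper9.Lpull3.exists_kflat_rep E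
    refine IsZero.of_iso ?_ (Groth.Agent.Helper9.LTM1.hdIso G P hP eP i)
    apply Groth.Agent.Helper9.SkyMod5.isZero_of_stalks
    intro x
    let F := Groth.Agent.Helper9.TorQc2.testMod x ((Groth.Agent.Helper9.SkyMod4.St x).obj G)
    haveI : DCoh.HasLTensorMod F := Groth.Agent.Helper9.TorQc1.hasLTensorMod F
    have h0 : IsZero (((Groth.Agent.Helper9.LTM1.tensF F).obj P).homology i) :=
      (h F (Groth.Agent.Helper9.TorQc2.isQCoh_testMod x _) i hi).of_iso
        (Groth.Agent.Helper9.LTM1.hdIso F P hP eP i).symm
    exact Groth.Agent.Helper9.TorQc1.isZero_stalk_homology_tensF x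
      (Groth.Agent.Helper9.TorQc2.stalkTestModIso x _).symm P i h0

end Groth.Agent.S1073
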