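import Groth.Statements.S1075
import Mathlib
import Groth.Agent.Helper9.DProd
-- import your own Groth.Agent.* helpers here

set_option autoImplicit false
universe w v u
open CategoryTheory CategoryTheory.Limits
open CohDer

namespace Groth.Agent.S1075

/-- In D(A), for A abelian with enough injectives and countable products, every sequence of
bounded-below objects has a product, so derived limits of such sequences exist. -/
theorem result {A : Type u} [Category.{v} A] [Abelian A] [HasDerivedCategory.{w} A]
    [HasLimitsOfShape (Discrete ℕ) A] [EnoughInjectives A]
    (K : ℕ → DerivedCategory A) (hK : ∀ n, ∃ a : ℤ, (K n).IsGE a) : HasProduct K := by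
  choose a ha using hK
  have hex : ∀ n, ∃ (E : CochainComplex A ℤ), E.IsStrictlyGE (a n) ∧
      (∀ i : ℤ, Injective (E.X i)) ∧ Nonempty (DerivedCategory.Q.obj E ≅ K n) := fun n => by
    haveI := ha n
    exact Groth.Agent.Helper9.InjAmp.exists_injective_rep (K n) (a n)
  choose E hE hinj hiso using hex
  have hKI : ∀ n, (E n).IsKInjective := fun n => by
    haveI := hE n
    haveI := hinj n
    exact CochainComplex.isKInjective_of_injective (E n) (a n)
  exact Groth.Agent.Helper9.DProd.hasProduct_of_iso E hKI K (fun n => (hiso n).some)

end Groth.Agent.S1075
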