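import Groth.Statements.S10762
import Groth.Agent.S10281
import Groth.Agent.S9964
import Groth.Agent.Helper5.ProperImg1

set_option autoImplicit false
universe u
open CategoryTheory CategoryTheory.Limits AlgebraicGeometry
open AlgSp

namespace Groth.Agent.S10762

/-- Let B be an algebraic space over S, let a : X ⟶ B and b : Y ⟶ B be locally of finite type with b
separated, and let f : X ⟶ Y be a morphism over B. If i : Z ⟶ X is a closed subspace with Z ⟶ B
proper, then the image of |Z| under |f| is a closed subset of |Y| which underlies a closed subspace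
Z' ⟶ Y with Z' ⟶ B proper. -/
theorem result {S : Scheme.{u}} {X Y B Z : AlgSp.Space S}
    (a : X ⟶ B) (b : Y ⟶ B) (f : X ⟶ Y) (hcomm : f ≫ b = a)
    (ha : AlgSp.LocP @LocallyOfFiniteType a.hom) (hb : AlgSp.LocP @LocallyOfFiniteType b.hom)
    (hbs : AlgSp.IsSeparatedMor b.hom)
    (i : Z ⟶ X) (hi : AlgSp.RepWith @IsClosedImmersion i.hom) (hZ : AlgSp.IsProperMor (i ≫ a).hom) :
    IsClosed (AlgSp.Points.map f.hom '' Set.range (AlgSp.Points.map i.hom)) ∧
      ∃ (Z' : AlgSp.Space S) (i' : Z' ⟶ Y), AlgSp.RepWith @IsClosedImmersion i'.hom ∧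
        Set.range (AlgSp.Points.map i'.hom) = AlgSp.Points.map f.hom '' Set.range (AlgSp.Points.map i.hom) ∧
        AlgSp.IsProperMor (i' ≫ b).hom := by
  obtain ⟨Z', i', hZ'⟩ := Groth.Agent.S9964.result (i ≫ f)
  obtain ⟨h'₀, fac₀⟩ := hZ'.2.1
  let h' : Z ⟶ Z' := ObjectProperty.homMk h'₀
  have fac : h' ≫ i' = i ≫ f := by
    apply ObjectProperty.hom_ext
    exact fac₀
  have comm : (i ≫ f) ≫ b = i ≫ a := by rw [Category.assoc, hcomm]
  obtain ⟨hp, hs⟩ := Groth.Agent.S10281.result (i ≫ f) (i ≫ a) b comm hZ hbs hb i' hZ' h' fac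
  have hr : Set.range (AlgSp.Points.map i'.hom) =
      AlgSp.Points.map f.hom '' Set.range (AlgSp.Points.map i.hom) := by
    rw [← Groth.Agent.Helper5.ProperImg.range_comp i.hom f.hom]
    have e1 := Groth.Agent.Helper5.ProperImg.range_comp h'.hom i'.hom
    rw [Function.Surjective.range_eq hs, Set.image_univ] at e1
    rw [← e1]
    have : (h' ≫ i').hom = (i ≫ f).hom := by rw [fac]
    exact congrArg (fun t => Set.range (AlgSp.Points.map t)) this
  refine ⟨?_, Z', i', hZ'.1, hr, hp⟩
  rw [← hr]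
  exact Groth.Agent.Helper5.ProperImg.isClosed_range_of_closedImmersion Y.property i'.hom hZ'.1

end Groth.Agent.S10762
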