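import Groth.Statements.S10763
import Groth.Agent.S10278
import Groth.Agent.S10279
import Groth.Agent.S9926
import Groth.Agent.S9925
import Groth.Agent.S9964
import Groth.Agent.S9965
import Groth.Agent.Helper5.ProperImg1

set_option autoImplicit false
universe u
open CategoryTheory CategoryTheory.Limits AlgebraicGeometry
open AlgSp

namespace Groth.Agent.S10763

/-- Let B be an algebraic space over S, let a : X ⟶ B and b : Y ⟶ B be locally of finite type, and let f
: X ⟶ Y be a universally closed morphism over B. If i : Z ⟶ X is a closed subspace with Z ⟶ B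
proper, then the image of |Z| under |f| is a closed subset of |Y| which underlies a closed subspace
Z' ⟶ Y with Z' ⟶ B proper. -/
theorem result {S : Scheme.{u}} {X Y B Z : AlgSp.Space S}
    (a : X ⟶ B) (b : Y ⟶ B) (f : X ⟶ Y) (hcomm : f ≫ b = a)
    (ha : AlgSp.LocP @LocallyOfFiniteType a.hom) (hb : AlgSp.LocP @LocallyOfFiniteType b.hom)
    (hfc : AlgSp.IsUnivClosedMor f.hom)
    (i : Z ⟶ X) (hi : AlgSp.RepWith @IsClosedImmersion i.hom) (hZ : AlgSp.IsProperMor (i ≫ a).hom) :
    IsClosed (AlgSp.Points.map f.hom '' Set.range (AlgSp.Points.map i.hom)) ∧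
      ∃ (Z' : AlgSp.Space S) (i' : Z' ⟶ Y), AlgSp.RepWith @IsClosedImmersion i'.hom ∧
        Set.range (AlgSp.Points.map i'.hom) = AlgSp.Points.map f.hom '' Set.range (AlgSp.Points.map i.hom) ∧
        AlgSp.IsProperMor (i' ≫ b).hom := by
  have hic : AlgSp.IsUnivClosedMor i.hom :=
    Groth.Agent.Helper5.AlgSpProper.isUnivClosedMor_of_closedImmersion _ hi
  have hifc : AlgSp.IsUnivClosedMor (i ≫ f).hom :=
    Groth.Agent.Helper4.AlgSpSrc.isUnivClosedMor_comp X.property Y.property.diag i.hom f.hom hic hfc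
  have hqc := Groth.Agent.S9925.result (i ≫ f) hifc
  obtain ⟨Z', i', hZ'⟩ := Groth.Agent.S9964.result (i ≫ f)
  obtain ⟨h'₀, fac₀⟩ := hZ'.2.1
  let h' : Z ⟶ Z' := ObjectProperty.homMk h'₀
  have fac : h' ≫ i' = i ≫ f := by
    apply ObjectProperty.hom_ext
    exact fac₀
  have hsub := (Groth.Agent.S9965.result (i ≫ f) i' hqc hZ').2
  rw [(Groth.Agent.Helper5.ProperImg.isClosed_range_of_isUnivClosedMor Y.property _ hifc).closure_eq]
    at hsub
  have hi'sep := Groth.Agent.Helper5.AlgSpProper.isSeparatedMor_of_closedImmersion _ hZ'.1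
  have hinj := Groth.Agent.Helper5.ProperImg.points_injective_of_closedImmersion Z'.property
    Y.property i'.hom hZ'.1
  have hs : AlgSp.IsSurjectiveMor h'.hom :=
    Groth.Agent.Helper5.ProperImg.isSurjectiveMor_of_range_eq h'.hom i'.hom (i ≫ f).hom
      (by rw [← fac]; rfl) hinj hsub
  have hh'c : AlgSp.IsUnivClosedMor h'.hom :=
    ((Groth.Agent.S10278.result h' (i ≫ f) i' fac hi'sep).1 hifc).1
  have comm : h' ≫ (i' ≫ b) = i ≫ a := by rw [← Category.assoc, fac, Category.assoc, hcomm]
  have huc : AlgSp.IsUnivClosedMor (i' ≫ b).hom :=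
    Groth.Agent.S10279.result h' (i ≫ a) (i' ≫ b) comm hZ.2.2 hs
  have hsep := (Groth.Agent.S9926.result h' (i ≫ a) (i' ≫ b) comm hs hh'c).2 hZ.1
  have hip := Groth.Agent.Helper5.AlgSpProper.isProperMor_of_closedImmersion i'.hom hZ'.1
  have hr : Set.range (AlgSp.Points.map i'.hom) =
      AlgSp.Points.map f.hom '' Set.range (AlgSp.Points.map i.hom) := by
    rw [← Groth.Agent.Helper5.ProperImg.range_comp i.hom f.hom]
    have e1 := Groth.Agent.Helper5.ProperImg.range_comp h'.hom i'.hom
    rw [Function.Surjective.range_eq hs, Set.image_univ] at e1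
    rw [← e1]
    have : (h' ≫ i').hom = (i ≫ f).hom := by rw [fac]
    exact congrArg (fun t => Set.range (AlgSp.Points.map t)) this
  refine ⟨?_, Z', i', hZ'.1, hr, hsep, ⟨Groth.Agent.Helper4.AlgSpLocPComp.locP_comp _
    Groth.Agent.Helper4.SDClasses.good_lft Y.property i'.hom b.hom hip.2.1.1 hb,
    Groth.Agent.S9925.result _ huc⟩, huc⟩
  rw [← hr]
  exact Groth.Agent.Helper5.ProperImg.isClosed_range_of_closedImmersion Y.property i'.hom hZ'.1

end Groth.Agent.S10763
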