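import Groth.Statements.S10820
import Groth.Agent.Helper6.ProjDim6

set_option autoImplicit false
universe u
open AlgebraicGeometry Topology TopologicalSpace
open Variety

namespace Groth.Agent.S10820

/-- For a field k, n ≥ 2 and a nonzero homogeneous polynomial f of degree d ≥ 1 in n + 1 variables, the
hypersurface V_+(f) in projective n-space over k (as a subspace of Proj of the polynomial ring
graded by degree) is connected and nonempty. -/
theorem result (k : Type u) [Field k] (n d : ℕ) (hn : 2 ≤ n)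
    (f : MvPolynomial (Fin (n + 1)) k) (hf : f.IsHomogeneous d) (hd : 0 < d) (hf0 : f ≠ 0) :
    IsConnected (ProjectiveSpectrum.zeroLocus (CohB1.polyGrading n k)
      ({f} : Set (MvPolynomial (Fin (n + 1)) k))) := by
  classical
  have hfm : f ∈ MvPolynomial.idealOfVars (Fin (n + 1)) k :=
    Groth.Agent.Helper6.HilbProj.mem_idealOfVars_of_isHomogeneous k n hd hf
  have hJm : Ideal.span {f} ≤ MvPolynomial.idealOfVars (Fin (n + 1)) k := by
    rw [Ideal.span_le, Set.singleton_subset_iff]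
    exact hfm
  obtain ⟨Q0, hQ0min, hQ0le⟩ := Ideal.exists_minimalPrimes_le hJm
  have hJh := Groth.Agent.Helper6.ProjDim.isHomogeneous_span_singleton hf
  have hdim : ∀ Q ∈ (Ideal.span {f}).minimalPrimes,
      ringKrullDim (MvPolynomial (Fin (n + 1)) k ⧸ Q) = (n : WithBot ℕ∞) := fun Q hQ =>
    Groth.Agent.Helper6.ProjDim.dim_quot_of_mem_minimalPrimes_span hf0 Q hQ
  have hhom : ∀ Q ∈ (Ideal.span {f}).minimalPrimes,
      Q.IsHomogeneous (MvPolynomial.homogeneousSubmodule (Fin (n + 1)) k) := fun Q hQ =>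
    Groth.Agent.Helper6.CINormal.isHomogeneous_of_mem_minimalPrimes k (Fin (n + 1)) _ hJh Q hQ
  have hne : ∀ Q ∈ (Ideal.span {f}).minimalPrimes,
      Q ≠ MvPolynomial.idealOfVars (Fin (n + 1)) k := fun Q hQ =>
    Groth.Agent.Helper6.ProjDim.ne_idealOfVars_of_dim_pos Q n (hdim Q hQ) (by omega)
  have hVconn : ∀ Q ∈ (Ideal.span {f}).minimalPrimes,
      IsConnected (ProjectiveSpectrum.zeroLocus (CohB1.polyGrading n k)
        (Q : Set (MvPolynomial (Fin (n + 1)) k))) := by
    intro Q hQ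
    haveI : Q.IsPrime := hQ.1.1
    rw [Groth.Agent.Helper6.ProjDim.zeroLocus_eq_point Q (hhom Q hQ) (hne Q hQ)]
    exact (Groth.Agent.Helper6.ProjDim.isIrreducible_zeroLocus_point _ _).isConnected
  haveI hQ0prime : Q0.IsPrime := hQ0min.1.1
  have h2 : (2 : WithBot ℕ∞) ≤ ringKrullDim (MvPolynomial (Fin (n + 1)) k ⧸ Q0) := by
    rw [hdim Q0 hQ0min]
    exact_mod_cast hn
  have hmeet : ∀ Q ∈ (Ideal.span {f}).minimalPrimes,
      (ProjectiveSpectrum.zeroLocus (CohB1.polyGrading n k)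
        (Q0 : Set (MvPolynomial (Fin (n + 1)) k)) ∩
       ProjectiveSpectrum.zeroLocus (CohB1.polyGrading n k)
        (Q : Set (MvPolynomial (Fin (n + 1)) k))).Nonempty := by
    intro Q hQ
    obtain ⟨q, hq, hqf, rfl⟩ :=
      Groth.Agent.Helper6.ProjDim.exists_prime_of_mem_minimalPrimes_span hf0 Q hQ
    have hqh := Groth.Agent.Helper6.ProjDim.isHomogeneous_of_prime_dvd hq hf0 hf hqf
    obtain ⟨y, hy1, hy2⟩ := Groth.Agent.Helper6.ProjDim.exists_point_sup_span Q0
      (hhom Q0 hQ0min) h2 q q.totalDegree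
      (Groth.Agent.Helper6.ProjDim.totalDegree_pos_of_prime hq) hqh
    refine ⟨y, hy1, ?_⟩
    change Ideal.span {q} ≤ y.asHomogeneousIdeal.toIdeal
    rw [Ideal.span_le, Set.singleton_subset_iff]
    exact hy2
  have hunion : ProjectiveSpectrum.zeroLocus (CohB1.polyGrading n k)
      ({f} : Set (MvPolynomial (Fin (n + 1)) k)) =
      ⋃ Q : ↥((Ideal.span {f}).minimalPrimes),
        (ProjectiveSpectrum.zeroLocus (CohB1.polyGrading n k)
          (Q0 : Set (MvPolynomial (Fin (n + 1)) k)) ∪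
         ProjectiveSpectrum.zeroLocus (CohB1.polyGrading n k)
          ((Q : Ideal (MvPolynomial (Fin (n + 1)) k)) : Set (MvPolynomial (Fin (n + 1)) k))) := by
    ext y
    rw [ProjectiveSpectrum.mem_zeroLocus, Set.singleton_subset_iff, Set.mem_iUnion]
    constructor
    · intro hy
      have hle : Ideal.span {f} ≤ y.asHomogeneousIdeal.toIdeal := by
        rw [Ideal.span_le, Set.singleton_subset_iff]
        exact hy
      obtain ⟨Q, hQmin, hQle⟩ := Ideal.exists_minimalPrimes_le hle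
      exact ⟨⟨Q, hQmin⟩, Or.inr hQle⟩
    · rintro ⟨Q, hy | hy⟩
      · exact hy (hQ0min.1.2 (Ideal.mem_span_singleton_self f))
      · exact hy (Q.2.1.2 (Ideal.mem_span_singleton_self f))
  rw [hunion]
  set y0 := Groth.Agent.Helper6.ProjDim.mkPt Q0 (hhom Q0 hQ0min) (hne Q0 hQ0min) with hy0
  have hy0mem : y0 ∈ ProjectiveSpectrum.zeroLocus (CohB1.polyGrading n k)
      (Q0 : Set (MvPolynomial (Fin (n + 1)) k)) :=
    (Groth.Agent.Helper6.ProjDim.mem_zeroLocus_iff Q0 y0).2 le_rfl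
  refine ⟨⟨y0, Set.mem_iUnion.2 ⟨⟨Q0, hQ0min⟩, Or.inl hy0mem⟩⟩, ?_⟩
  apply isPreconnected_iUnion
  · exact ⟨y0, Set.mem_iInter.2 fun Q => Or.inl hy0mem⟩
  · intro Q
    exact (IsConnected.union (hmeet Q.1 Q.2) (hVconn Q0 hQ0min) (hVconn Q.1 Q.2)).isPreconnected

end Groth.Agent.S10820
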