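import Groth.Statements.S10821
import Groth.Agent.Helper6.ProjDim6

set_option autoImplicit false
universe u
open AlgebraicGeometry Topology TopologicalSpace
open Variety

namespace Groth.Agent.S10821

/-- For a field k and an irreducible closed subset Z of projective n-space over k, Z has codimension 1
(the longest chain of irreducible closed subsets strictly above Z has length 1) if and only if Z is
the zero set V_+(f) of an irreducible homogeneous polynomial f in n + 1 variables. -/
theorem result (k : Type u) [Field k] (n : ℕ)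
    (Z : TopologicalSpace.IrreducibleCloseds (ProjectiveSpectrum (CohB1.polyGrading n k))) :
    Order.coheight Z = 1 ↔
      ∃ (d : ℕ) (f : MvPolynomial (Fin (n + 1)) k), f.IsHomogeneous d ∧ Irreducible f ∧
        (Z : Set (ProjectiveSpectrum (CohB1.polyGrading n k))) =
          ProjectiveSpectrum.zeroLocus (CohB1.polyGrading n k) ({f} : Set (MvPolynomial (Fin (n + 1)) k)) := by
  rw [Groth.Agent.Helper6.ProjDim.coheight_eq_height_pt,
    Groth.Agent.Helper6.ProjDim.height_eq_one_iff]
  constructor
  · rintro ⟨q, hq, hqh, hx⟩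
    refine ⟨q.totalDegree, q, hqh, hq.irreducible, ?_⟩
    rw [Groth.Agent.Helper6.ProjDim.pt_spec _ Z, ← ProjectiveSpectrum.zeroLocus_span _ {q}, ← hx]
    rfl
  · rintro ⟨d, f, hf, hirr, hZ⟩
    have hfprime : Prime f := UniqueFactorizationMonoid.irreducible_iff_prime.1 hirr
    haveI hprime : (Ideal.span {f}).IsPrime := (Ideal.span_singleton_prime hfprime.ne_zero).2 hfprime
    have hne : Ideal.span {f} ≠ MvPolynomial.idealOfVars (Fin (n + 1)) k := by
      intro heq
      obtain ⟨y, hy⟩ := Z.isIrreducible.nonempty
      have hy' : y ∈ ProjectiveSpectrum.zeroLocus (CohB1.polyGrading n k)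
          ({f} : Set (MvPolynomial (Fin (n + 1)) k)) := by
        rw [← hZ]; exact hy
      rw [← ProjectiveSpectrum.zeroLocus_span, heq] at hy'
      exact absurd (lt_of_le_of_lt hy' (Groth.Agent.Helper6.ProjDim.point_lt y)) (lt_irrefl _)
    have hfd : f.totalDegree = d := hf.totalDegree hfprime.ne_zero
    have hfh : f.IsHomogeneous f.totalDegree := by rw [hfd]; exact hf
    set x := Groth.Agent.Helper6.ProjDim.mkPt (Ideal.span {f})
      (Groth.Agent.Helper6.ProjDim.isHomogeneous_span_singleton hf) hne with hx
    have hZx : Z = Groth.Agent.Helper6.ProjDim.cl _ x := by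
      apply TopologicalSpace.IrreducibleCloseds.ext
      rw [hZ, Groth.Agent.Helper6.ProjDim.coe_cl, ← ProjectiveSpectrum.zeroLocus_span]
      rfl
    refine ⟨f, hfprime, hfh, ?_⟩
    rw [hZx, Groth.Agent.Helper6.ProjDim.pt_cl, hx, Groth.Agent.Helper6.ProjDim.mkPt_toIdeal]

end Groth.Agent.S10821
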