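import Groth.Statements.S10822
import Groth.Agent.Helper6.ProjDim3

set_option autoImplicit false
universe u
open AlgebraicGeometry Topology TopologicalSpace
open Variety

namespace Groth.Agent.S10822

/-- Let k be a field, X an irreducible closed subset of projective n-space over k of positive dimension,
and f a homogeneous polynomial in n + 1 variables whose zero set V_+(f) is nonempty and does not
contain X. Then X meets V_+(f), and every irreducible component C of X ∩ V_+(f) has dim C + 1 = dim
X, i.e. codimension 1 in X (all maximal chains of irreducible closed subsets of X have length dim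
X). -/
theorem result (k : Type u) [Field k] (n d : ℕ)
    (X : Set (ProjectiveSpectrum (CohB1.polyGrading n k))) (hXc : IsClosed X) (hXi : IsIrreducible X)
    (hXd : 0 < topologicalKrullDim ↥X)
    (f : MvPolynomial (Fin (n + 1)) k) (hf : f.IsHomogeneous d)
    (hV : (ProjectiveSpectrum.zeroLocus (CohB1.polyGrading n k)
      ({f} : Set (MvPolynomial (Fin (n + 1)) k))).Nonempty)
    (hX : ¬ X ⊆ ProjectiveSpectrum.zeroLocus (CohB1.polyGrading n k)
      ({f} : Set (MvPolynomial (Fin (n + 1)) k))) :
    (X ∩ ProjectiveSpectrum.zeroLocus (CohB1.polyGrading n k)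
        ({f} : Set (MvPolynomial (Fin (n + 1)) k))).Nonempty ∧
      ∀ C ∈ irreducibleComponents ↥(X ∩ ProjectiveSpectrum.zeroLocus (CohB1.polyGrading n k)
          ({f} : Set (MvPolynomial (Fin (n + 1)) k))),
        topologicalKrullDim ↥C + 1 = topologicalKrullDim ↥X := by
  obtain ⟨x, rfl⟩ := Groth.Agent.Helper6.ProjDim.exists_point _ X hXi hXc
  set P : Ideal (MvPolynomial (Fin (n + 1)) k) := x.asHomogeneousIdeal.toIdeal with hPdef
  have hPh := Groth.Agent.Helper6.ProjDim.point_isHomogeneous x
  have hPne := Groth.Agent.Helper6.ProjDim.point_ne x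
  have hPprime : P.IsPrime := x.isPrime
  have hdimX : topologicalKrullDim ↥(ProjectiveSpectrum.zeroLocus (CohB1.polyGrading n k)
      (x.asHomogeneousIdeal : Set (MvPolynomial (Fin (n + 1)) k))) + 1 =
      ringKrullDim (MvPolynomial (Fin (n + 1)) k ⧸ P) :=
    Groth.Agent.Helper6.ProjDim.dim_zeroLocus_add_one P hPh hPne
  have hfP : f ∉ P := by
    intro hfP
    apply hX
    intro y hy
    rw [ProjectiveSpectrum.mem_zeroLocus, Set.singleton_subset_iff]
    exact hy hfP
  have hfm : f ∈ MvPolynomial.idealOfVars (Fin (n + 1)) k := by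
    obtain ⟨y, hy⟩ := hV
    rw [ProjectiveSpectrum.mem_zeroLocus, Set.singleton_subset_iff] at hy
    exact Groth.Agent.Helper6.ProjDim.point_le y hy
  have hJh := Groth.Agent.Helper6.ProjDim.isHomogeneous_sup_span hPh hf
  have hJm : P ⊔ Ideal.span {f} ≤ MvPolynomial.idealOfVars (Fin (n + 1)) k := by
    refine sup_le (Groth.Agent.Helper6.ProjDim.point_le x) ?_
    rw [Ideal.span_le, Set.singleton_subset_iff]
    exact hfm
  have hset : ProjectiveSpectrum.zeroLocus (CohB1.polyGrading n k)
      (x.asHomogeneousIdeal : Set (MvPolynomial (Fin (n + 1)) k)) ∩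
      ProjectiveSpectrum.zeroLocus (CohB1.polyGrading n k) ({f} : Set (MvPolynomial (Fin (n + 1)) k)) =
      ProjectiveSpectrum.zeroLocus (CohB1.polyGrading n k)
        ((P ⊔ Ideal.span {f} : Ideal (MvPolynomial (Fin (n + 1)) k)) : Set (MvPolynomial (Fin (n + 1)) k)) := by
    ext y
    rw [Set.mem_inter_iff, ProjectiveSpectrum.mem_zeroLocus, ProjectiveSpectrum.mem_zeroLocus,
      ProjectiveSpectrum.mem_zeroLocus, Set.singleton_subset_iff]
    constructor
    · rintro ⟨h1, h2⟩
      change P ⊔ Ideal.span {f} ≤ y.asHomogeneousIdeal.toIdeal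
      refine sup_le h1 ?_
      rw [Ideal.span_le, Set.singleton_subset_iff]
      exact h2
    · intro h
      exact ⟨fun a ha => h (Ideal.mem_sup_left ha),
        h (Ideal.mem_sup_right (Ideal.mem_span_singleton_self f))⟩
  have hdrop : ∀ Q ∈ (P ⊔ Ideal.span {f}).minimalPrimes,
      ringKrullDim (MvPolynomial (Fin (n + 1)) k ⧸ Q) + 1 =
        ringKrullDim (MvPolynomial (Fin (n + 1)) k ⧸ P) := fun Q hQ =>
    Groth.Agent.Helper6.HilbProj.dim_quot_minimalPrime_hypSec k n P f hfP Q hQ
  constructor
  · obtain ⟨Q, hQmin, hQle⟩ := Ideal.exists_minimalPrimes_le hJm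
    haveI hQprime : Q.IsPrime := hQmin.1.1
    have hQh := Groth.Agent.Helper6.CINormal.isHomogeneous_of_mem_minimalPrimes k (Fin (n + 1)) _
      hJh Q hQmin
    have hQne : Q ≠ MvPolynomial.idealOfVars (Fin (n + 1)) k := by
      rintro rfl
      have h1 := hdrop _ hQmin
      rw [Groth.Agent.Helper6.ProjDim.dim_quot_idealOfVars, zero_add, ← hdimX] at h1
      have h2 : topologicalKrullDim ↥(ProjectiveSpectrum.zeroLocus (CohB1.polyGrading n k)
          (x.asHomogeneousIdeal : Set (MvPolynomial (Fin (n + 1)) k))) = 0 := by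
        have h3 : (1 : WithBot ℕ∞) = 0 + 1 := by rw [zero_add]
        rw [h3] at h1
        exact (ENat.WithBot.add_one_cancel.1 h1).symm
      rw [h2] at hXd
      exact lt_irrefl _ hXd
    rw [hset]
    exact Groth.Agent.Helper6.ProjDim.nonempty_zeroLocus _ Q hQmin.1.2 hQh hQne
  · intro C hC
    obtain ⟨Q, hQmin, hQne, hdimC⟩ :=
      Groth.Agent.Helper6.ProjDim.exists_minimalPrime_of_mem_irreducibleComponents _ hJh _ hset C hC
    have h1 := hdrop Q hQmin
    rw [← hdimC, ← hdimX] at h1
    exact ENat.WithBot.add_one_cancel.1 h1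

end Groth.Agent.S10822
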