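import Groth.Statements.S10823
import Groth.Agent.Helper6.ProjDim3

set_option autoImplicit false
universe u
open AlgebraicGeometry Topology TopologicalSpace
open Variety

namespace Groth.Agent.S10823

/-- Let k be a field, X an irreducible closed subset of projective n-space over k, and f_1, …, f_r
nonzero homogeneous polynomials of positive degrees in n + 1 variables. Then every irreducible
component C of X ∩ V_+(f_1, …, f_r) has codimension at most r in X, i.e. dim X ≤ dim C + r, and if
dim X ≥ r the intersection is nonempty. -/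
theorem result (k : Type u) [Field k] (n r : ℕ)
    (X : Set (ProjectiveSpectrum (CohB1.polyGrading n k))) (hXc : IsClosed X) (hXi : IsIrreducible X)
    (f : Fin r → MvPolynomial (Fin (n + 1)) k) (d : Fin r → ℕ)
    (hf : ∀ i, (f i).IsHomogeneous (d i)) (hd : ∀ i, 0 < d i) (hf0 : ∀ i, f i ≠ 0) :
    (∀ C ∈ irreducibleComponents ↥(X ∩ ProjectiveSpectrum.zeroLocus (CohB1.polyGrading n k) (Set.range f)),
        topologicalKrullDim ↥X ≤ topologicalKrullDim ↥C + (r : WithBot ℕ∞)) ∧
      ((r : WithBot ℕ∞) ≤ topologicalKrullDim ↥X →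
        (X ∩ ProjectiveSpectrum.zeroLocus (CohB1.polyGrading n k) (Set.range f)).Nonempty) := by
  classical
  obtain ⟨x, rfl⟩ := Groth.Agent.Helper6.ProjDim.exists_point _ X hXi hXc
  set P : Ideal (MvPolynomial (Fin (n + 1)) k) := x.asHomogeneousIdeal.toIdeal with hPdef
  have hPh := Groth.Agent.Helper6.ProjDim.point_isHomogeneous x
  have hPne := Groth.Agent.Helper6.ProjDim.point_ne x
  have hPprime : P.IsPrime := x.isPrime
  have hdimX : topologicalKrullDim ↥(ProjectiveSpectrum.zeroLocus (CohB1.polyGrading n k)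
      (x.asHomogeneousIdeal : Set (MvPolynomial (Fin (n + 1)) k))) + 1 =
      ringKrullDim (MvPolynomial (Fin (n + 1)) k ⧸ P) :=
    Groth.Agent.Helper6.ProjDim.dim_zeroLocus_add_one P hPh hPne
  set s : Finset (MvPolynomial (Fin (n + 1)) k) := Finset.univ.image f with hs
  have hscoe : (s : Set (MvPolynomial (Fin (n + 1)) k)) = Set.range f := by
    rw [hs, Finset.coe_image, Finset.coe_univ, Set.image_univ]
  have hscard : s.card ≤ r := by
    refine Finset.card_image_le.trans ?_
    rw [Finset.card_univ, Fintype.card_fin]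
  have hJh : (P ⊔ Ideal.span (s : Set (MvPolynomial (Fin (n + 1)) k))).IsHomogeneous
      (MvPolynomial.homogeneousSubmodule (Fin (n + 1)) k) := by
    apply Ideal.IsHomogeneous.sup hPh
    apply Ideal.homogeneous_span
    intro y hy
    rw [hscoe] at hy
    obtain ⟨i, rfl⟩ := hy
    exact ⟨d i, (MvPolynomial.mem_homogeneousSubmodule _ _).2 (hf i)⟩
  have hJm : P ⊔ Ideal.span (s : Set (MvPolynomial (Fin (n + 1)) k)) ≤
      MvPolynomial.idealOfVars (Fin (n + 1)) k := by
    refine sup_le (Groth.Agent.Helper6.ProjDim.point_le x) ?_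
    rw [Ideal.span_le, hscoe]
    rintro _ ⟨i, rfl⟩
    exact Groth.Agent.Helper6.HilbProj.mem_idealOfVars_of_isHomogeneous k n (hd i) (hf i)
  have hset : ProjectiveSpectrum.zeroLocus (CohB1.polyGrading n k)
      (x.asHomogeneousIdeal : Set (MvPolynomial (Fin (n + 1)) k)) ∩
      ProjectiveSpectrum.zeroLocus (CohB1.polyGrading n k) (Set.range f) =
      ProjectiveSpectrum.zeroLocus (CohB1.polyGrading n k)
        ((P ⊔ Ideal.span (s : Set (MvPolynomial (Fin (n + 1)) k)) :
          Ideal (MvPolynomial (Fin (n + 1)) k)) : Set (MvPolynomial (Fin (n + 1)) k)) := by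
    ext y
    rw [Set.mem_inter_iff, ProjectiveSpectrum.mem_zeroLocus, ProjectiveSpectrum.mem_zeroLocus,
      ProjectiveSpectrum.mem_zeroLocus]
    constructor
    · rintro ⟨h1, h2⟩
      change P ⊔ Ideal.span _ ≤ y.asHomogeneousIdeal.toIdeal
      refine sup_le h1 ?_
      rw [Ideal.span_le, hscoe]
      exact h2
    · intro h
      refine ⟨fun a ha => h (Ideal.mem_sup_left ha), fun a ha => ?_⟩
      apply h
      apply Ideal.mem_sup_right
      apply Ideal.subset_span
      rw [hscoe]
      exact ha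
  have hdrop : ∀ Q ∈ (P ⊔ Ideal.span (s : Set (MvPolynomial (Fin (n + 1)) k))).minimalPrimes,
      ringKrullDim (MvPolynomial (Fin (n + 1)) k ⧸ P) ≤
        ringKrullDim (MvPolynomial (Fin (n + 1)) k ⧸ Q) + (r : WithBot ℕ∞) := fun Q hQ => by
    refine (Groth.Agent.Helper6.ProjDim.dim_drop_le P s Q hQ).trans ?_
    gcongr
  constructor
  · intro C hC
    obtain ⟨Q, hQmin, hQne, hdimC⟩ :=
      Groth.Agent.Helper6.ProjDim.exists_minimalPrime_of_mem_irreducibleComponents _ hJh _ hset C hC
    have h1 := hdrop Q hQmin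
    rw [← hdimC, ← hdimX, add_right_comm] at h1
    exact ENat.WithBot.add_le_add_one_right_iff.1 h1
  · intro hr
    obtain ⟨Q, hQmin, hQle⟩ := Ideal.exists_minimalPrimes_le hJm
    haveI hQprime : Q.IsPrime := hQmin.1.1
    have hQh := Groth.Agent.Helper6.CINormal.isHomogeneous_of_mem_minimalPrimes k (Fin (n + 1)) _
      hJh Q hQmin
    have hQne : Q ≠ MvPolynomial.idealOfVars (Fin (n + 1)) k := by
      rintro rfl
      have h1 := hdrop _ hQmin
      rw [Groth.Agent.Helper6.ProjDim.dim_quot_idealOfVars, zero_add, ← hdimX] at h1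
      have h2 : (r : WithBot ℕ∞) + 1 ≤ (r : WithBot ℕ∞) := le_trans (by gcongr) h1
      have h3 : r + 1 ≤ r := by exact_mod_cast h2
      omega
    rw [hset]
    exact Groth.Agent.Helper6.ProjDim.nonempty_zeroLocus _ Q hQmin.1.2 hQh hQne

end Groth.Agent.S10823
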