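import Groth.Statements.S10825
import Mathlib
import Groth.Agent.Helper5.IntegralDim
import Groth.Agent.Helper5.NormLocus

set_option autoImplicit false
universe u
open Topology
open CAlg

namespace Groth.Agent.S10825

/-- Let A → B be an injective integral homomorphism of integral domains with fraction fields K and L, L
a finite extension of K, and A integrally closed. For b in B the norm N_{L/K}(b) lies in A; if a
denotes this element of A, then the image of the closed set V(b) of Spec B under Spec B → Spec A is
exactly V(a), and V(b) and V(a) have the same dimension. -/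
theorem result
    (A B K L : Type u) [CommRing A] [IsDomain A] [CommRing B] [IsDomain B] [Algebra A B]
    [Field K] [Field L] [Algebra A K] [IsFractionRing A K] [Algebra B L] [IsFractionRing B L]
    [Algebra A L] [Algebra K L] [IsScalarTower A B L] [IsScalarTower A K L]
    [FiniteDimensional K L] [Algebra.IsIntegral A B] [IsIntegrallyClosed A]
    (hinj : Function.Injective (algebraMap A B))
    (b : B) (a : A) (ha : algebraMap A K a = Algebra.norm K (algebraMap B L b)) :
    PrimeSpectrum.comap (algebraMap A B) '' PrimeSpectrum.zeroLocus ({b} : Set B) =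
        PrimeSpectrum.zeroLocus ({a} : Set A) ∧
      topologicalKrullDim ↥(PrimeSpectrum.zeroLocus ({b} : Set B)) =
        topologicalKrullDim ↥(PrimeSpectrum.zeroLocus ({a} : Set A)) := by
  have hdvd : b ∣ algebraMap A B a := Groth.Agent.Helper5.NormLocus.dvd_of_norm A B K L b a ha
  have hpow := Groth.Agent.Helper5.NormLocus.pow_eq_of_mem_span A B K L b a ha
  have hn : Module.finrank K L ≠ 0 := Module.finrank_pos.ne'
  obtain ⟨J, hJ⟩ : ∃ J : Ideal A, J = (Ideal.span {b}).comap (algebraMap A B) := ⟨_, rfl⟩
  have haJ : a ∈ J := by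
    rw [hJ, Ideal.mem_comap, Ideal.mem_span_singleton]; exact hdvd
  have hC : ∀ p : PrimeSpectrum A, a ∈ p.asIdeal ↔ J ≤ p.asIdeal := by
    intro p
    constructor
    · intro hap x hx
      rw [hJ, Ideal.mem_comap] at hx
      obtain ⟨c, hc⟩ := hpow x hx
      have : x ^ Module.finrank K L ∈ p.asIdeal := by
        rw [hc]; exact Ideal.mul_mem_right _ _ hap
      exact p.2.mem_of_pow_mem _ this
    · intro h; exact h haJ
  have hzl : PrimeSpectrum.zeroLocus ({a} : Set A) = PrimeSpectrum.zeroLocus (J : Set A) := by
    ext p
    rw [PrimeSpectrum.mem_zeroLocus, PrimeSpectrum.mem_zeroLocus, Set.singleton_subset_iff]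
    exact hC p
  refine ⟨?_, ?_⟩
  · ext p
    constructor
    · rintro ⟨P, hP, rfl⟩
      rw [PrimeSpectrum.mem_zeroLocus, Set.singleton_subset_iff] at hP ⊢
      change algebraMap A B a ∈ P.asIdeal
      obtain ⟨y, hy⟩ := hdvd
      rw [hy]
      exact Ideal.mul_mem_right _ _ hP
    · intro hp
      rw [PrimeSpectrum.mem_zeroLocus, Set.singleton_subset_iff] at hp
      have hJp : J ≤ p.asIdeal := (hC p).mp hp
      obtain ⟨Q, hQge, hQprime, hQcomap⟩ :=
        Ideal.exists_ideal_over_prime_of_isIntegral p.asIdeal (Ideal.span {b}) (hJ ▸ hJp)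
      refine ⟨⟨Q, hQprime⟩, ?_, ?_⟩
      · rw [PrimeSpectrum.mem_zeroLocus, Set.singleton_subset_iff]
        exact hQge (Ideal.subset_span rfl)
      · ext1
        exact hQcomap
  · rw [hzl, ← PrimeSpectrum.zeroLocus_span ({b} : Set B), Groth.Agent.Helper5.NormLocus.topologicalKrullDim_zeroLocus,
      Groth.Agent.Helper5.NormLocus.topologicalKrullDim_zeroLocus]
    subst hJ
    exact Groth.Agent.Helper5.IntegralDim.ringKrullDim_eq_of_isIntegral_of_injective
      Ideal.algebraMap_quotient_injective

end Groth.Agent.S10825
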