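import Groth.Statements.S10826
import Mathlib
import Groth.Agent.Helper5.FormalInv2

set_option autoImplicit false
open CAlg

namespace Groth.Agent.S10826

/-- Let R be a commutative ring, n ≥ 1, and φ an R-algebra homomorphism from the power series ring in n
variables over R to itself that sends each variable to a power series without constant term. If the
Jacobian matrix at the origin, whose (i, j) entry is the coefficient of X_j in φ(X_i), has
invertible determinant in R, then φ is an isomorphism (bijective). -/
theorem result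
    (R : Type*) [CommRing R] (n : ℕ) (hn : 1 ≤ n)
    (φ : MvPowerSeries (Fin n) R →ₐ[R] MvPowerSeries (Fin n) R)
    (h0 : ∀ i, MvPowerSeries.constantCoeff (φ (MvPowerSeries.X i)) = 0)
    (hJ : IsUnit (Matrix.det (Matrix.of fun i j : Fin n =>
      MvPowerSeries.coeff (Finsupp.single j 1) (φ (MvPowerSeries.X i))))) :
    Function.Bijective φ := by
  classical
  have hsurj : Function.Surjective φ :=
    Groth.Agent.Helper5.FormalInv2.surjective_of_jacobian φ h0 hJ
  obtain ⟨I, hI⟩ : ∃ I : Ideal (MvPowerSeries (Fin n) R),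
      I = Ideal.span (Set.range (MvPowerSeries.X : Fin n → MvPowerSeries (Fin n) R)) := ⟨_, rfl⟩
  choose Y hY using fun i => hsurj (MvPowerSeries.X i)
  -- constant coefficient of Y i vanishes
  have hY0 : ∀ i, MvPowerSeries.constantCoeff (Y i) = 0 := by
    intro i
    obtain ⟨c, hc⟩ : ∃ c, c = MvPowerSeries.constantCoeff (Y i) := ⟨_, rfl⟩
    have h1 : Y i - MvPowerSeries.C c ∈ I ^ 1 := by
      rw [pow_one, hI]
      apply Groth.Agent.Helper5.MvPSIdeal.mem_span_X
      rw [map_sub, MvPowerSeries.constantCoeff_C, hc, sub_self]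
    have h2 := Groth.Agent.Helper5.FormalInv2.map_pow_le φ h0 1 _ (hI ▸ h1)
    rw [pow_one] at h2
    have h3 := Groth.Agent.Helper5.FormalInv.constantCoeff_eq_zero_of_mem _ h2
    have h4 : φ (MvPowerSeries.C c) = MvPowerSeries.C c := by
      have := φ.commutes c
      simpa [MvPowerSeries.algebraMap_apply] using this
    rw [map_sub, hY, h4, map_sub, MvPowerSeries.constantCoeff_X, MvPowerSeries.constantCoeff_C,
      zero_sub, neg_eq_zero] at h3
    rw [← hc]; exact h3
  have hsub : MvPowerSeries.HasSubst Y := MvPowerSeries.hasSubst_of_constantCoeff_zero hY0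
  obtain ⟨θ, hθ⟩ : ∃ θ : MvPowerSeries (Fin n) R →ₐ[R] MvPowerSeries (Fin n) R,
      ∀ i, θ (MvPowerSeries.X i) = Y i :=
    ⟨MvPowerSeries.substAlgHom hsub, fun i => MvPowerSeries.substAlgHom_X hsub i⟩
  have hφθ : ∀ p, φ (θ p) = p := by
    intro p
    exact Groth.Agent.Helper5.FormalInv2.eq_id_of_fix (φ.comp θ)
      (fun i => by rw [AlgHom.comp_apply, hθ, hY]) p
  -- Jacobian of θ times Jacobian of φ is the identity
  obtain ⟨J, hJdef⟩ : ∃ J : Matrix (Fin n) (Fin n) R,
      J = Matrix.of fun i j : Fin n => MvPowerSeries.coeff (Finsupp.single j 1) (φ (MvPowerSeries.X i)) :=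
    ⟨_, rfl⟩
  obtain ⟨K, hKdef⟩ : ∃ K : Matrix (Fin n) (Fin n) R,
      K = Matrix.of fun i j : Fin n => MvPowerSeries.coeff (Finsupp.single j 1) (θ (MvPowerSeries.X i)) :=
    ⟨_, rfl⟩
  have hKJ : K * J = 1 := by
    refine Matrix.ext fun i l => ?_
    -- Y i = Σ_j C (K i j) X j + q, q ∈ I²
    have hq : Y i - ∑ j, MvPowerSeries.C (K i j) * MvPowerSeries.X j ∈ I ^ 2 := by
      rw [hI]
      apply Groth.Agent.Helper5.MvPSIdeal.mem_span_X_sq
      · rw [map_sub, hY0, map_sum, zero_sub, neg_eq_zero]
        apply Finset.sum_eq_zero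
        intro j _
        rw [map_mul, MvPowerSeries.constantCoeff_X, mul_zero]
      · intro l
        rw [map_sub, map_sum, Finset.sum_eq_single l]
        · rw [MvPowerSeries.coeff_C_mul, MvPowerSeries.coeff_X, if_pos rfl, mul_one, hKdef,
            Matrix.of_apply, hθ, sub_self]
        · intro j _ hjl
          rw [MvPowerSeries.coeff_C_mul, MvPowerSeries.coeff_X, if_neg, mul_zero]
          intro h
          apply hjl
          have := congrArg (fun f => f l) h
          simp only [Finsupp.single_eq_same] at this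
          by_contra hne
          rw [Finsupp.single_eq_of_ne (Ne.symm hne)] at this
          exact one_ne_zero this
        · intro h; exact absurd (Finset.mem_univ _) h
    have hφq := Groth.Agent.Helper5.FormalInv2.map_pow_le φ h0 2 _ (hI ▸ hq)
    have h1 := Groth.Agent.Helper5.FormalInv.coeff_single_eq_zero_of_mem_sq _ hφq l
    rw [map_sub, hY, map_sum, map_sub, map_sum] at h1
    have h2 : ∀ j, MvPowerSeries.coeff (Finsupp.single l 1)
        (φ (MvPowerSeries.C (K i j) * MvPowerSeries.X j)) = K i j * J j l := by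
      intro j
      have h4 : φ (MvPowerSeries.C (K i j)) = MvPowerSeries.C (K i j) := by
        have := φ.commutes (K i j)
        simpa [MvPowerSeries.algebraMap_apply] using this
      rw [map_mul, h4, MvPowerSeries.coeff_C_mul, hJdef, Matrix.of_apply]
    rw [Finset.sum_congr rfl (fun j _ => h2 j), MvPowerSeries.coeff_X, sub_eq_zero] at h1
    rw [Matrix.mul_apply, ← h1, Matrix.one_apply]
    by_cases hil : i = l
    · subst hil; rw [if_pos rfl, if_pos rfl]
    · rw [if_neg hil, if_neg]
      intro h
      apply hil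
      have := congrArg (fun f => f l) h
      simp only [Finsupp.single_eq_same] at this
      by_contra hne
      rw [Finsupp.single_eq_of_ne (Ne.symm hne)] at this
      exact one_ne_zero this
  have hKunit : IsUnit K.det := by
    have := congrArg Matrix.det hKJ
    rw [Matrix.det_mul, Matrix.det_one] at this
    exact IsUnit.of_mul_eq_one _ this
  have hθsurj : Function.Surjective θ := by
    apply Groth.Agent.Helper5.FormalInv2.surjective_of_jacobian θ (fun i => by rw [hθ, hY0])
    rw [← hKdef]; exact hKunit
  refine ⟨?_, hsurj⟩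
  intro x y hxy
  obtain ⟨x', rfl⟩ := hθsurj x
  obtain ⟨y', rfl⟩ := hθsurj y
  rw [hφθ, hφθ] at hxy
  rw [hxy]

end Groth.Agent.S10826
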