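import Groth.Statements.S10830
import Mathlib

set_option autoImplicit false
universe u
open Topology TopologicalSpace
open TopDim

namespace Groth.Agent.S10830

/-- In an irreducible topological space X of finite Krull dimension, every proper closed subset Y has
strictly smaller Krull dimension than X. -/
theorem result (X : Type u) [TopologicalSpace X]
    [IrreducibleSpace X] (hfin : topologicalKrullDim X ≠ ⊤) (Y : Set X) (hY : IsClosed Y) (hYX : Y ≠ Set.univ) :
    topologicalKrullDim ↥Y < topologicalKrullDim X := by
  let T : TopologicalSpace.IrreducibleCloseds X := ⟨Set.univ, IrreducibleSpace.isIrreducible_univ X, isClosed_univ⟩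
  haveI : Nonempty (TopologicalSpace.IrreducibleCloseds X) := ⟨T⟩
  have hXbot : ⊥ < topologicalKrullDim X := Order.bot_lt_krullDim
  by_cases hemp : IsEmpty (TopologicalSpace.IrreducibleCloseds Y)
  · have : topologicalKrullDim ↥Y = ⊥ := Order.krullDim_eq_bot
    rw [this]
    exact hXbot
  · rw [not_isEmpty_iff] at hemp
    have hind : Topology.IsInducing (Subtype.val : Y → X) := Topology.IsInducing.subtypeVal
    let φ : TopologicalSpace.IrreducibleCloseds Y → TopologicalSpace.IrreducibleCloseds X := TopologicalSpace.IrreducibleCloseds.map Subtype.val hind.continuous
    have hφ : StrictMono φ := TopologicalSpace.IrreducibleCloseds.map_strictMono_of_isInducing hind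
    have hφT : ∀ c, φ c < T := by
      intro c
      have hsub : (φ c : Set X) ⊆ Y := by
        show closure (Subtype.val '' (c : Set Y)) ⊆ Y
        apply closure_minimal _ hY
        rintro _ ⟨y, _, rfl⟩
        exact y.2
      refine lt_of_le_of_ne (fun x _ => Set.mem_univ x) ?_
      intro heq
      apply hYX
      have : (φ c : Set X) = Set.univ := congrArg (fun z : TopologicalSpace.IrreducibleCloseds X => (z : Set X)) heq
      rw [this] at hsub
      exact Set.eq_univ_of_univ_subset hsub
    let g : WithTop (TopologicalSpace.IrreducibleCloseds Y) → TopologicalSpace.IrreducibleCloseds X := fun z =>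
      match z with
      | ⊤ => T
      | (c : TopologicalSpace.IrreducibleCloseds Y) => φ c
    have hg : StrictMono g := by
      intro a b hab
      cases a with
      | top => exact absurd hab (not_top_lt)
      | coe a =>
        cases b with
        | top => exact hφT a
        | coe b => exact hφ (WithTop.coe_lt_coe.mp hab)
    have h1 : Order.krullDim (WithTop (TopologicalSpace.IrreducibleCloseds Y)) ≤ Order.krullDim (TopologicalSpace.IrreducibleCloseds X) :=
      Order.krullDim_le_of_strictMono g hg
    rw [Order.krullDim_WithTop] at h1
    change topologicalKrullDim ↥Y + 1 ≤ topologicalKrullDim X at h1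
    -- arithmetic in WithBot ℕ∞
    generalize topologicalKrullDim X = m at *
    generalize topologicalKrullDim ↥Y = n at *
    cases m with
    | bot => exact absurd hXbot (lt_irrefl _)
    | coe m =>
      cases n with
      | bot => exact WithBot.bot_lt_coe _
      | coe n =>
        have hm : m ≠ ⊤ := fun h => hfin (by rw [h]; rfl)
        have h2 : n + 1 ≤ m := by exact_mod_cast h1
        have : n < m := by
          have hn : n ≠ ⊤ := by
            rintro rfl
            simp at h2
            exact hm h2
          exact lt_of_lt_of_le (ENat.lt_add_one_iff hn |>.mpr le_rfl) h2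
        exact_mod_cast this

end Groth.Agent.S10830
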