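import Groth.Statements.S10840
import Groth.Agent.Helper6.ProjDim6

set_option autoImplicit false
universe u
open AlgebraicGeometry Topology
open Variety

namespace Groth.Agent.S10840

open Groth.Agent.Helper6.ProjDim MvPolynomial

theorem aux (k : Type u) [Field k] (n m : ℕ)
    (f g : MvPolynomial (Fin (2 + 1)) k) (hf : f.IsHomogeneous n) (hg : g.IsHomogeneous m)
    (hn : 0 < n) (hm : 0 < m) (hf0 : f ≠ 0) (hg0 : g ≠ 0) :
    topologicalKrullDim ↥(ProjectiveSpectrum.zeroLocus (CohB1.polyGrading 2 k)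
        ({f, g} : Set (MvPolynomial (Fin (2 + 1)) k))) = 0 ↔ IsRelPrime f g := by
  classical
  have hmemZ : ∀ y : PS k 2, y ∈ ProjectiveSpectrum.zeroLocus (CohB1.polyGrading 2 k)
      ({f, g} : Set (MvPolynomial (Fin (2 + 1)) k)) ↔
      f ∈ y.asHomogeneousIdeal.toIdeal ∧ g ∈ y.asHomogeneousIdeal.toIdeal := by
    intro y
    rw [ProjectiveSpectrum.mem_zeroLocus, Set.insert_subset_iff, Set.singleton_subset_iff]
    rfl
  have hclosed : IsClosed (ProjectiveSpectrum.zeroLocus (CohB1.polyGrading 2 k)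
      ({f, g} : Set (MvPolynomial (Fin (2 + 1)) k))) := ProjectiveSpectrum.isClosed_zeroLocus _ _
  -- nonempty
  have hfm : f ∈ idealOfVars (Fin (2 + 1)) k :=
    Groth.Agent.Helper6.HilbProj.mem_idealOfVars_of_isHomogeneous k 2 hn hf
  have hgm : g ∈ idealOfVars (Fin (2 + 1)) k :=
    Groth.Agent.Helper6.HilbProj.mem_idealOfVars_of_isHomogeneous k 2 hm hg
  have hnonempty : (ProjectiveSpectrum.zeroLocus (CohB1.polyGrading 2 k)
      ({f, g} : Set (MvPolynomial (Fin (2 + 1)) k))).Nonempty := by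
    set s : Finset (MvPolynomial (Fin (2 + 1)) k) := {f, g} with hs
    have hJm : (⊥ : Ideal (MvPolynomial (Fin (2 + 1)) k)) ⊔
        Ideal.span (s : Set (MvPolynomial (Fin (2 + 1)) k)) ≤ idealOfVars (Fin (2 + 1)) k := by
      rw [bot_sup_eq, Ideal.span_le, hs, Finset.coe_insert, Finset.coe_singleton,
        Set.insert_subset_iff, Set.singleton_subset_iff]
      exact ⟨hfm, hgm⟩
    have hJh : ((⊥ : Ideal (MvPolynomial (Fin (2 + 1)) k)) ⊔
        Ideal.span (s : Set (MvPolynomial (Fin (2 + 1)) k))).IsHomogeneous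
        (homogeneousSubmodule (Fin (2 + 1)) k) := by
      rw [bot_sup_eq]
      apply Ideal.homogeneous_span
      intro y hy
      rw [hs, Finset.coe_insert, Finset.coe_singleton] at hy
      rcases hy with rfl | rfl
      · exact ⟨n, (mem_homogeneousSubmodule _ _).2 hf⟩
      · exact ⟨m, (mem_homogeneousSubmodule _ _).2 hg⟩
    obtain ⟨Q, hQmin, hQle⟩ := Ideal.exists_minimalPrimes_le hJm
    haveI hQprime : Q.IsPrime := hQmin.1.1
    have hQh := Groth.Agent.Helper6.CINormal.isHomogeneous_of_mem_minimalPrimes k (Fin (2 + 1)) _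
      hJh Q hQmin
    haveI : (⊥ : Ideal (MvPolynomial (Fin (2 + 1)) k)).IsPrime := Ideal.isPrime_bot
    have hQne : Q ≠ idealOfVars (Fin (2 + 1)) k := by
      rintro rfl
      have h1 := dim_drop_le ⊥ s _ hQmin
      rw [dim_quot_idealOfVars, zero_add, dim_quot_bot] at h1
      have h2 : s.card ≤ 2 := Finset.card_le_two
      have h3 : (2 + 1 : ℕ) ≤ s.card := by exact_mod_cast h1
      omega
    refine ⟨mkPt Q hQh hQne, (hmemZ _).2 ⟨?_, ?_⟩⟩
    · apply hQmin.1.2
      apply Ideal.mem_sup_right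
      apply Ideal.subset_span
      rw [hs, Finset.coe_insert]
      exact Set.mem_insert _ _
    · apply hQmin.1.2
      apply Ideal.mem_sup_right
      apply Ideal.subset_span
      rw [hs, Finset.coe_insert, Finset.coe_singleton]
      exact Set.mem_insert_of_mem _ rfl
  rw [dim_closed _ _ hclosed]
  constructor
  · intro hdim d hdf hdg
    by_contra hunit
    have hd0 : d ≠ 0 := by
      rintro rfl
      exact hf0 (zero_dvd_iff.1 hdf)
    obtain ⟨q, hqirr, hqd⟩ := WfDvdMonoid.exists_irreducible_factor hunit hd0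
    have hq : Prime q := UniqueFactorizationMonoid.irreducible_iff_prime.1 hqirr
    have hqf : q ∣ f := hqd.trans hdf
    have hqg : q ∣ g := hqd.trans hdg
    have hqh := isHomogeneous_of_prime_dvd hq hf0 hf hqf
    haveI hprime : (Ideal.span {q}).IsPrime := (Ideal.span_singleton_prime hq.ne_zero).2 hq
    have hdimQ := dim_quot_span_prime (n := 2) hq
    have hQne : Ideal.span {q} ≠ idealOfVars (Fin (2 + 1)) k :=
      ne_idealOfVars_of_dim_pos _ 2 hdimQ (by omega)
    have hQh := isHomogeneous_span_singleton hqh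
    set y₀ := mkPt (Ideal.span {q}) hQh hQne with hy₀
    obtain ⟨i, hi⟩ : ∃ i : Fin (2 + 1), (X i : MvPolynomial (Fin (2 + 1)) k) ∉ Ideal.span {q} := by
      by_contra hcon
      push Not at hcon
      apply hQne
      apply le_antisymm (Groth.Agent.Helper6.HilbProj.le_idealOfVars k 2 _ hQh hprime.ne_top)
      rw [idealOfVars, Ideal.span_le]
      rintro _ ⟨i, rfl⟩
      exact hcon i
    have h2 : (2 : WithBot ℕ∞) ≤
        ringKrullDim (MvPolynomial (Fin (2 + 1)) k ⧸ Ideal.span {q}) := by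
      rw [hdimQ]
      rfl
    obtain ⟨y, hy1, hy2⟩ := exists_point_sup_span (Ideal.span {q}) hQh h2 (X i) 1 le_rfl
      (isHomogeneous_X k i)
    have hlt : y₀ < y := by
      rw [lt_iff, hy₀, mkPt_toIdeal]
      refine lt_of_le_of_ne hy1 ?_
      intro heq
      rw [heq] at hi
      exact hi hy2
    have hy₀Z : y₀ ∈ ProjectiveSpectrum.zeroLocus (CohB1.polyGrading 2 k)
        ({f, g} : Set (MvPolynomial (Fin (2 + 1)) k)) := by
      rw [hmemZ, hy₀, mkPt_toIdeal]
      exact ⟨Ideal.mem_span_singleton.2 hqf, Ideal.mem_span_singleton.2 hqg⟩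
    have hyZ : y ∈ ProjectiveSpectrum.zeroLocus (CohB1.polyGrading 2 k)
        ({f, g} : Set (MvPolynomial (Fin (2 + 1)) k)) := by
      rw [hmemZ]
      exact ⟨hy1 (Ideal.mem_span_singleton.2 hqf), hy1 (Ideal.mem_span_singleton.2 hqg)⟩
    have h1 : (1 : WithBot ℕ∞) ≤ Order.krullDim {x : PS k 2 // x ∈
        ProjectiveSpectrum.zeroLocus (CohB1.polyGrading 2 k)
          ({f, g} : Set (MvPolynomial (Fin (2 + 1)) k))} :=
      Order.one_le_krullDim_iff.2 ⟨⟨y₀, hy₀Z⟩, ⟨y, hyZ⟩, hlt⟩
    rw [hdim] at h1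
    exact absurd h1 (by norm_num)
  · intro hrel
    apply le_antisymm
    · by_contra hcon
      rw [not_le, Order.krullDim_pos_iff] at hcon
      obtain ⟨y₀, y₁, hlt⟩ := hcon
      have h2 := two_le_dim_of_lt (show y₀.1 < y₁.1 from hlt)
      set P₀ := y₀.1.asHomogeneousIdeal.toIdeal with hP₀
      have hmem := (hmemZ y₀.1).1 y₀.2
      have hP₀0 : P₀ ≠ ⊥ := by
        intro h0
        have := hmem.1
        rw [← hP₀, h0, Ideal.mem_bot] at this
        exact hf0 this
      haveI hP₀prime : P₀.IsPrime := y₀.1.isPrime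
      obtain ⟨q, hqP, hq⟩ := hP₀prime.exists_mem_prime_of_ne_bot hP₀0
      haveI hprime : (Ideal.span {q}).IsPrime := (Ideal.span_singleton_prime hq.ne_zero).2 hq
      have hle : Ideal.span {q} ≤ P₀ := by
        rw [Ideal.span_le, Set.singleton_subset_iff]
        exact hqP
      have heq : Ideal.span {q} = P₀ := by
        apply eq_of_le_of_not_lt hle
        intro hlt'
        have h3 := Ideal.height_strict_mono_of_isPrime_of_isPrime hlt'
        have h4 : 1 ≤ (Ideal.span {q}).height := by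
          rw [Order.one_le_iff_ne_zero, Ne, Ideal.height_eq_zero_iff_eq_bot,
            Ideal.span_singleton_eq_bot]
          exact hq.ne_zero
        have h5 := Groth.Agent.Helper5.FtDim.height_add_dim_quotient k
          (MvPolynomial (Fin (2 + 1)) k) P₀
        rw [Groth.Agent.Helper5.DimBC.dim_mvPolynomial] at h5
        obtain ⟨h, hh⟩ := ENat.ne_top_iff_exists.mp (Ideal.height_ne_top_of_isPrime (I := P₀))
        obtain ⟨dP, hdP, -⟩ := exists_nat_dim P₀ hP₀prime.ne_top
        rw [hdP] at h2 h5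
        rw [← hh] at h5 h3
        rw [ENat.WithBot.coe_eq_natCast] at h5
        have h6 : 2 ≤ dP := by exact_mod_cast h2
        have h7 : h + dP = 2 + 1 := by exact_mod_cast h5
        have h8 : (2 : ℕ∞) ≤ h := by
          calc (2 : ℕ∞) = 1 + 1 := by norm_num
            _ ≤ (Ideal.span {q}).height + 1 := by gcongr
            _ ≤ h := Order.add_one_le_of_lt h3
        have h9 : 2 ≤ h := by exact_mod_cast h8
        omega
      have hqf : q ∣ f := Ideal.mem_span_singleton.1 (heq ▸ hmem.1)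
      have hqg : q ∣ g := Ideal.mem_span_singleton.1 (heq ▸ hmem.2)
      exact hq.not_isUnit (hrel hqf hqg)
    · obtain ⟨y, hy⟩ := hnonempty
      haveI : Nonempty {x : PS k 2 // x ∈ ProjectiveSpectrum.zeroLocus (CohB1.polyGrading 2 k)
          ({f, g} : Set (MvPolynomial (Fin (2 + 1)) k))} := ⟨⟨y, hy⟩⟩
      exact Order.krullDim_nonneg

theorem result (k : Type u) [Field k] (n m : ℕ)
    (f g : MvPolynomial (Fin 3) k) (hf : f.IsHomogeneous n) (hg : g.IsHomogeneous m)
    (hn : 0 < n) (hm : 0 < m) (hf0 : f ≠ 0) (hg0 : g ≠ 0) :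
    topologicalKrullDim ↥(ProjectiveSpectrum.zeroLocus (CohB1.polyGrading 2 k)
        ({f, g} : Set (MvPolynomial (Fin 3) k))) = 0 ↔ IsRelPrime f g := by
  exact aux k n m f g hf hg hn hm hf0 hg0

end Groth.Agent.S10840
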