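import Groth.Statements.S10855
import Groth.Agent.Helper9.IdealComap
import Mathlib

set_option autoImplicit false
universe u
open BlowUp

namespace Groth.Agent.S10855

open AlgebraicGeometry CategoryTheory in
/-- Let f : X → Y be a flat morphism of schemes and 𝓘 the quasi-coherent ideal sheaf of an effective
Cartier divisor on Y (near every point generated on an affine open by one non-zero-divisor). Then
the inverse image ideal sheaf of 𝓘 on X is again the ideal of an effective Cartier divisor: the
subscheme f⁻¹(Z) is an effective Cartier divisor on X. (The published corollary also identifies this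
divisor with the pullback of Z as a divisor; that clause is not included here.) -/
theorem result {X Y : Scheme.{u}} (f : X ⟶ Y) [Flat f]
    (𝓘 : Y.IdealSheafData) (hD : BlowUp.IsEffCartierIdeal 𝓘) :
    BlowUp.IsEffCartierIdeal (𝓘.comap f) := by
  intro x
  obtain ⟨U, hxU, g, hg, hgI⟩ := hD (f x)
  obtain ⟨V, hV, hxV, hVU⟩ := (TopologicalSpace.Opens.isBasis_iff_nbhd.1 X.isBasis_affineOpens)
    (show x ∈ f ⁻¹ᵁ U.1 from hxU)
  refine ⟨⟨V, hV⟩, hxV, (f.appLE U.1 V hVU).hom g, ?_, ?_⟩
  · have hfl : (f.appLE U.1 V hVU).hom.Flat := Flat.flat_appLE f U.2 hV hVU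
    letI := (f.appLE U.1 V hVU).hom.toAlgebra
    haveI : Module.Flat Γ(Y, U.1) Γ(X, V) := hfl
    have h1 : IsSMulRegular Γ(X, V) g := Module.Flat.isSMulRegular_of_nonZeroDivisors hg
    rw [mem_nonZeroDivisors_iff_right]
    intro a ha
    apply h1
    show g • a = g • (0 : Γ(X, V))
    rw [smul_zero, Algebra.smul_def, mul_comm]
    exact ha
  · rw [Groth.Agent.Helper9.IdealComap.ideal_comap f 𝓘 U ⟨V, hV⟩ hVU, hgI, Ideal.map_span,
      Set.image_singleton]

end Groth.Agent.S10855
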