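import Groth.Statements.S10859
import Groth.Agent.Helper1.GR38
import Groth.Agent.Helper1.GR39

set_option autoImplicit false
universe u
open Grass

namespace Groth.Agent.S10859

open AlgebraicGeometry CategoryTheory in
/-- Let R be a commutative ring, v : M₁ → M₂ a surjective homomorphism of R-modules and k a natural
number. Suppose X₁ and X₂ are schemes over Spec R representing the Grassmannian functors of rank-k
locally free quotients of M₁ and of M₂ (bijections e₁, e₂ between Spec R-morphisms Spec A → X_i and
submodules of A ⊗_R M_i with finite projective quotient of constant rank k, compatible with base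
change along R-algebra maps). Then there is a Spec R-morphism c : X₂ → X₁ which on A-valued points
sends a submodule N of A ⊗_R M₂ to its preimage under A ⊗ v, and every such c is a closed immersion.
(The published statement is for a surjection of quasi-coherent modules over an arbitrary base
scheme, where the two Grassmannians are known to be schemes; this row takes the base affine and the
two representing schemes as hypotheses, with no finiteness condition on the modules.) -/
theorem result (R : Type u) [CommRing R]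
    (M₁ M₂ : Type u) [AddCommGroup M₁] [Module R M₁]
    [AddCommGroup M₂] [Module R M₂]
    (v : M₁ →ₗ[R] M₂) (hv : Function.Surjective v) (k : ℕ)
    (X₁ X₂ : Over (Spec (CommRingCat.of R)))
    (e₁ : ∀ A : CommAlgCat.{u} R,
      (Over.mk (Spec.map (CommRingCat.ofHom (algebraMap R A))) ⟶ X₁) ≃
        (Module.Grassmannian.functor (R := R) (M := M₁) k).obj A)
    (he₁ : ∀ (A B : CommAlgCat.{u} R) (φ : A ⟶ B)
      (g : Over.mk (Spec.map (CommRingCat.ofHom (algebraMap R A))) ⟶ X₁)
      (g' : Over.mk (Spec.map (CommRingCat.ofHom (algebraMap R B))) ⟶ X₁),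
      g'.left = Spec.map (CommRingCat.ofHom φ.hom.toRingHom) ≫ g.left →
        e₁ B g' = (Module.Grassmannian.functor (R := R) (M := M₁) k).map φ (e₁ A g))
    (e₂ : ∀ A : CommAlgCat.{u} R,
      (Over.mk (Spec.map (CommRingCat.ofHom (algebraMap R A))) ⟶ X₂) ≃
        (Module.Grassmannian.functor (R := R) (M := M₂) k).obj A)
    (he₂ : ∀ (A B : CommAlgCat.{u} R) (φ : A ⟶ B)
      (g : Over.mk (Spec.map (CommRingCat.ofHom (algebraMap R A))) ⟶ X₂)
      (g' : Over.mk (Spec.map (CommRingCat.ofHom (algebraMap R B))) ⟶ X₂),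
      g'.left = Spec.map (CommRingCat.ofHom φ.hom.toRingHom) ≫ g.left →
        e₂ B g' = (Module.Grassmannian.functor (R := R) (M := M₂) k).map φ (e₂ A g)) :
    (∃ c : X₂ ⟶ X₁, ∀ (A : CommAlgCat.{u} R)
        (g : Over.mk (Spec.map (CommRingCat.ofHom (algebraMap R A))) ⟶ X₂),
        (e₁ A (g ≫ c)).toSubmodule = (e₂ A g).toSubmodule.comap (v.baseChange A)) ∧
      ∀ c : X₂ ⟶ X₁, (∀ (A : CommAlgCat.{u} R)
        (g : Over.mk (Spec.map (CommRingCat.ofHom (algebraMap R A))) ⟶ X₂),
        (e₁ A (g ≫ c)).toSubmodule = (e₂ A g).toSubmodule.comap (v.baseChange A)) →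
        IsClosedImmersion c.left := by
  let dX₁ : Helper1.GR.PointsData X₁ (Module.Grassmannian.functor (R := R) (M := M₁) k) :=
    ⟨e₁, he₁⟩
  let dX₂ : Helper1.GR.PointsData X₂ (Module.Grassmannian.functor (R := R) (M := M₂) k) :=
    ⟨e₂, he₂⟩
  obtain ⟨Z, c₀, dZ, hc, hkey⟩ := Helper1.GR.exists_sub_of_surjective v hv k dX₁
  obtain ⟨i, hi⟩ := Helper1.GR.exists_overIso_of_pointsData dX₂ dZ
  have hc1 : ∀ (A : CommAlgCat.{u} R)
      (g : Over.mk (Spec.map (CommRingCat.ofHom (algebraMap R A))) ⟶ X₂),
      (e₁ A (g ≫ i.hom ≫ c₀)).toSubmodule =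
        (e₂ A g).toSubmodule.comap (v.baseChange A) := by
    intro A g
    rw [← Category.assoc]
    have h1 := hkey A (g ≫ i.hom)
    rw [hi] at h1
    exact congrArg (fun U => U.toSubmodule) h1
  refine ⟨⟨i.hom ≫ c₀, hc1⟩, ?_⟩
  intro c hc2
  have hcc : c = i.hom ≫ c₀ := by
    apply Helper1.GR.over_hom_ext_of_points
    intro A x
    apply (e₁ A).injective
    apply Module.Grassmannian.ext
    rw [hc2, hc1]
  rw [hcc]
  change IsClosedImmersion (i.hom.left ≫ c₀.left)
  haveI : IsIso i.hom.left := (Over.forget _).map_isIso i.hom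
  infer_instance

end Groth.Agent.S10859
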