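import Groth.Statements.S1086
import Groth.Agent.Helper1.FilBasic

set_option autoImplicit false
universe v u
open CategoryTheory CategoryTheory.Limits Opposite
open FilD

namespace Groth.Agent.S1086

/-- Let φ : X ⟶ Y be a morphism of finite filtered objects of an abelian category and let Ker φ carry
the induced filtration (the kernel computed levelwise). Then φ is strict if and only if for every p
the sequence grᵖ(Ker φ) ⟶ grᵖ X ⟶ grᵖ Y is exact. -/
theorem result {A : Type u} [Category.{v} A] [Abelian A] {X Y : FilD.FilF A} (φ : X ⟶ Y) :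
    FilD.IsStrict φ ↔
      ∀ p : ℤ, ((ShortComplex.mk (kernel.ι φ.hom) φ.hom (kernel.condition φ.hom)).map (FilD.gr A p)).Exact := by
  open Groth.Agent.Helper1.FilBasic in
  constructor
  · intro hφ p
    have hst := IsStrict.step hφ
    rw [ShortComplex.exact_iff_exact_up_to_refinements]
    intro W xb' hxb'
    obtain ⟨xb, rfl⟩ : ∃ xb : W ⟶ (FilD.gr A p).obj X.obj, xb = xb' := ⟨_, rfl⟩
    have hxb : xb ≫ (FilD.gr A p).map φ.hom = 0 := hxb'
    obtain ⟨W₁, π₁, hπ₁, x, hx⟩ := surjective_up_to_refinements_of_epi (grπ X.obj p) xb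
    have h0 : (x ≫ φ.hom.app (op p)) ≫ grπ Y.obj p = 0 := by
      rw [Category.assoc, ← grπ_naturality, ← Category.assoc, ← hx, Category.assoc, hxb, comp_zero]
    obtain ⟨y, hy⟩ := exists_lift_of_comp_grπ_eq_zero Y.obj p _ h0
    obtain ⟨W₂, π₂, hπ₂, x', hx'⟩ := hst p W₁ x y hy.symm
    have hk : (π₂ ≫ x - x' ≫ X.obj.map (FilD.stepHom p)) ≫ φ.hom.app (op p) = 0 := by
      rw [Preadditive.sub_comp, Category.assoc, Category.assoc, ← hy, φ.hom.naturality,
        ← Category.assoc, ← Category.assoc, hx', sub_self]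
    obtain ⟨l, hl⟩ := exists_lift_kernel φ.hom p _ hk
    refine ⟨W₂, π₂ ≫ π₁, epi_comp _ _, l ≫ grπ _ p, ?_⟩
    change (π₂ ≫ π₁) ≫ xb = (l ≫ grπ (kernel φ.hom) p) ≫ (FilD.gr A p).map (kernel.ι φ.hom)
    rw [Category.assoc l, grπ_naturality, ← Category.assoc l, hl]
    simp only [Preadditive.sub_comp, Category.assoc, step_grπ, comp_zero, sub_zero, hx]
  · intro h
    apply isStrict_of_step
    intro p W x y hxy
    have hp := h p
    rw [ShortComplex.exact_iff_exact_up_to_refinements] at hp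
    have h0 : (x ≫ grπ X.obj p) ≫ (FilD.gr A p).map φ.hom = 0 := by
      rw [Category.assoc, grπ_naturality, ← Category.assoc, hxy, Category.assoc, step_grπ,
        comp_zero]
    obtain ⟨W₁, π₁, hπ₁, kb, hkb⟩ : ∃ (W₁ : A) (π₁ : W₁ ⟶ W) (_ : Epi π₁)
        (kb : W₁ ⟶ (FilD.gr A p).obj (kernel φ.hom)),
        π₁ ≫ x ≫ grπ X.obj p = kb ≫ (FilD.gr A p).map (kernel.ι φ.hom) :=
      hp (x ≫ grπ X.obj p) h0
    obtain ⟨W₂, π₂, hπ₂, k, hk⟩ := surjective_up_to_refinements_of_epi (grπ _ p) kb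
    have h1 : (π₂ ≫ π₁ ≫ x - k ≫ (kernel.ι φ.hom).app (op p)) ≫ grπ X.obj p = 0 := by
      rw [Preadditive.sub_comp, Category.assoc, Category.assoc, Category.assoc, hkb,
        ← grπ_naturality, ← Category.assoc π₂, hk, Category.assoc, sub_self]
    obtain ⟨x', hx'⟩ := exists_lift_of_comp_grπ_eq_zero X.obj p _ h1
    refine ⟨W₂, π₂ ≫ π₁, epi_comp _ _, x', ?_⟩
    rw [← cancel_mono (Y.obj.map (FilD.stepHom p)), Category.assoc, Category.assoc, Category.assoc,
      ← φ.hom.naturality, ← Category.assoc x', hx', Preadditive.sub_comp, Category.assoc,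
      Category.assoc, Category.assoc, kernel_ι_app_comp, comp_zero, sub_zero, hxy]

end Groth.Agent.S1086
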