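import Groth.Statements.S10865
import Groth.Agent.Helper1.Dev27

set_option autoImplicit false
universe u
open Coherent

namespace Groth.Agent.S10865

open CategoryTheory CategoryTheory.Limits AlgebraicGeometry in
/-- Let X be a nonempty Noetherian scheme and K an isomorphism-closed class of O_X-modules such that (a)
in a short exact sequence of coherent modules, if the middle and right terms lie in K so does the
left one, and if the two outer terms lie in K so does the middle one; (b) if a coherent F has some
d-fold direct sum (d ≥ 1) in K then F lies in K. If for every integral closed subscheme i : Z → X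
there is a coherent O_Z-module with nonzero stalk at the generic point whose direct image under i
lies in K, then every coherent O_X-module lies in K. (For the empty scheme the hypotheses hold for
the empty class, so X is taken nonempty here.) -/
theorem result (X : Scheme.{u}) [IsNoetherian X] [Nonempty X]
    (K : ObjectProperty X.Modules) [K.IsClosedUnderIsomorphisms]
    (ha : ∀ S : ShortComplex X.Modules, S.ShortExact → Coh.IsCoh S.X₁ → Coh.IsCoh S.X₂ → Coh.IsCoh S.X₃ →
      (K S.X₂ → K S.X₃ → K S.X₁) ∧ (K S.X₁ → K S.X₃ → K S.X₂))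
    (hb : ∀ (F : X.Modules) (d : ℕ), 1 ≤ d → Coh.IsCoh F → K (∐ fun _ : Fin d => F) → K F)
    (hgen : ∀ (Z : Scheme.{u}) (i : Z ⟶ X) [IsClosedImmersion i] [IsIntegral Z],
      ∃ H : Z.Modules, Coh.IsCoh H ∧ Nontrivial (H.presheaf.stalk (genericPoint Z)) ∧
        K ((Scheme.Modules.pushforward i).obj H))
    (F : X.Modules) (hF : Coh.IsCoh F) : K F := by
  -- some module lies in `K`
  have hex : ∃ A : X.Modules, Coh.IsCoh A ∧ K A := by
    obtain ⟨x⟩ := ‹Nonempty X›
    let Y : TopologicalSpace.Closeds X := ⟨closure {x}, isClosed_closure⟩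
    have hint := Groth.Agent.Helper1.Dev.isIntegral_subscheme Y (isIrreducible_singleton.closure)
    obtain ⟨H, hH, -, hKH⟩ := hgen _ (Scheme.IdealSheafData.vanishingIdeal Y).subschemeι
    exact ⟨_, Groth.Agent.Helper1.Dev.isCoh_push _ _ hH, hKH⟩
  -- `K` contains the zero modules
  have hzero : ∀ N : X.Modules, Limits.IsZero N → K N := by
    intro N hN
    obtain ⟨A, hA, hKA⟩ := hex
    let S : ShortComplex X.Modules := ShortComplex.mk (0 : N ⟶ A) (𝟙 A) zero_comp
    have hS : S.ShortExact := by
      have hm : Mono (0 : N ⟶ A) := ⟨fun _ _ _ => hN.eq_of_tgt _ _⟩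
      refine ShortComplex.ShortExact.mk' ?_ hm (inferInstanceAs (Epi (𝟙 A)))
      rw [ShortComplex.exact_iff_mono _ (by rfl)]
      exact inferInstanceAs (Mono (𝟙 A))
    exact (ha S hS (Groth.Agent.Helper1.Dev.isCoh_of_isZero hN) hA hA).1 hKA hKA
  have hK : Groth.Agent.Helper1.Dev.HalfClass K :=
    { iso := fun e h => ObjectProperty.prop_of_iso K e h
      zero := hzero
      ext := fun S hS c₁ c₂ c₃ => (ha S hS c₁ c₂ c₃).2 }
  refine hK.core ⊤ ?_ F hF (Set.subset_univ _)
  intro Y _ hirrY hB E hE
  have hint := Groth.Agent.Helper1.Dev.isIntegral_subscheme Y hirrY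
  have := Groth.Agent.Helper1.Dev.isNoetherian_of_isClosedImmersion
    (Scheme.IdealSheafData.vanishingIdeal Y).subschemeι
  have hK'' := Groth.Agent.Helper1.Dev.pushClass_halfClass
    (Scheme.IdealSheafData.vanishingIdeal Y).subschemeι hK
  have hsmall := fun E hE hs => Groth.Agent.Helper1.Dev.small_of_below (K := K) Y hB
    (genericPoint (Scheme.IdealSheafData.vanishingIdeal Y).subscheme) E hE hs
  obtain ⟨H, hH, hne, hKH⟩ := hgen _ (Scheme.IdealSheafData.vanishingIdeal Y).subschemeι
  refine hK''.integral_main ?_ hsmall E hE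
  refine Groth.Agent.Helper1.Dev.ideals_of_generic hK'' ?_ ?_ hsmall H hH hKH hne
  · intro S hS c₁ c₂ c₃ h₂ h₃
    exact (ha (S.map (Scheme.Modules.pushforward _))
      (Groth.Agent.Helper1.ClTr.shortExact_push _ S hS)
      (Groth.Agent.Helper1.Dev.isCoh_push _ _ c₁) (Groth.Agent.Helper1.Dev.isCoh_push _ _ c₂)
      (Groth.Agent.Helper1.Dev.isCoh_push _ _ c₃)).1 h₂ h₃
  · intro N d hd hN hKN
    refine hb _ d hd (Groth.Agent.Helper1.Dev.isCoh_push _ _ hN) ?_
    exact ObjectProperty.prop_of_iso K (Limits.PreservesCoproduct.iso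
      (Scheme.Modules.pushforward (Scheme.IdealSheafData.vanishingIdeal Y).subschemeι)
      (fun _ : Fin d => N)) hKN

end Groth.Agent.S10865
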