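import Groth.Statements.S10866
import Groth.Agent.S10865
import Groth.Agent.Helper2.ZA4
import Groth.Agent.Helper9.SkyMod5
import Groth.Agent.Helper4.QcohGlue
import Groth.Agent.Lead.PerfLib5
import Mathlib

set_option autoImplicit false
universe u
open Coherent

namespace Groth.Agent.S10866


open CategoryTheory AlgebraicGeometry in
/-- Let f : X → Y be a morphism of Noetherian schemes such that for every integral closed subscheme i :
Z → X there is a coherent O_Z-module with nonzero stalk at the generic point of Z whose direct image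
under i followed by f is coherent on Y. Then the direct image f_*F of every coherent O_X-module F is
coherent. -/
theorem result {X Y : Scheme.{u}} [IsNoetherian X] [IsNoetherian Y]
    (f : X ⟶ Y)
    (hgen : ∀ (Z : Scheme.{u}) (i : Z ⟶ X) [IsClosedImmersion i] [IsIntegral Z],
      ∃ H : Z.Modules, Coh.IsCoh H ∧ Nontrivial (H.presheaf.stalk (genericPoint Z)) ∧
        Coh.IsCoh ((Scheme.Modules.pushforward (i ≫ f)).obj H))
    (F : X.Modules) (hF : Coh.IsCoh F) : Coh.IsCoh ((Scheme.Modules.pushforward f).obj F) := by

  classical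
  haveI : QuasiCompact f := inferInstance
  haveI : QuasiSeparated f := inferInstance
  have hqc : ∀ G : X.Modules, Coh.IsCoh G →
      Coh.IsQCoh ((Scheme.Modules.pushforward f).obj G) := by
    intro G hG
    haveI : G.IsQuasicoherent := hG.1
    exact Groth.Agent.Helper4.QcohGlue.isQuasicoherent_pushforward f G
  rcases isEmpty_or_nonempty X with hE | hne
  · have hz : Limits.IsZero F :=
      Groth.Agent.Helper9.SkyMod5.isZero_of_stalks X F (fun x => (IsEmpty.false x).elim)
    exact Groth.Agent.Helper2.ZA.isCoh_of_isZero
      ((Scheme.Modules.pushforward f).map_isZero hz)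
  · let K : ObjectProperty X.Modules :=
      fun G => Coh.IsCoh ((Scheme.Modules.pushforward f).obj G)
    haveI : K.IsClosedUnderIsomorphisms :=
      ⟨fun {G G'} e h => Groth.Agent.Lead.PerfLib.isCoh_of_iso
        ((Scheme.Modules.pushforward f).mapIso e) h⟩
    refine Groth.Agent.S10865.result X K ?_ ?_ ?_ F hF
    · intro S hS c₁ c₂ c₃
      haveI : Mono S.f := hS.mono_f
      have hex : (S.map (Scheme.Modules.pushforward f)).Exact :=
        hS.exact.map_of_mono_of_preservesKernel _ hS.mono_f inferInstance
      haveI : Mono (S.map (Scheme.Modules.pushforward f)).f :=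
        inferInstanceAs (Mono ((Scheme.Modules.pushforward f).map S.f))
      refine ⟨fun h₂ h₃ => ?_, fun h₁ h₃ => ?_⟩
      · have hk := Groth.Agent.Lead.PerfLib.isCoh_kernel h₂ h₃
          ((Scheme.Modules.pushforward f).map S.g)
        let e : (Scheme.Modules.pushforward f).obj S.X₁ ≅
            Limits.kernel ((Scheme.Modules.pushforward f).map S.g) :=
          Limits.IsLimit.conePointUniqueUpToIso hex.fIsKernel (Limits.limit.isLimit _)
        exact Groth.Agent.Lead.PerfLib.isCoh_of_iso e.symm hk
      · exact Groth.Agent.Helper2.ZA.isCoh_of_exact_of_mono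
          (S.map (Scheme.Modules.pushforward f)) hex h₁ (hqc _ c₂) h₃
    · intro G d hd hG hK
      have h0 : 0 < d := hd
      let j : G ⟶ ∐ fun _ : Fin d => G := Limits.Sigma.ι (fun _ : Fin d => G) ⟨0, h0⟩
      let r : (∐ fun _ : Fin d => G) ⟶ G := Limits.Sigma.desc (fun _ => 𝟙 G)
      have hjr : j ≫ r = 𝟙 G := by simp [j, r]
      haveI : Epi ((Scheme.Modules.pushforward f).map r) :=
        (IsSplitEpi.mk' ⟨(Scheme.Modules.pushforward f).map j, by
          rw [← CategoryTheory.Functor.map_comp, hjr, CategoryTheory.Functor.map_id]⟩).epi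
      exact Groth.Agent.Helper2.CohQ1.isCoh_of_epi
        ((Scheme.Modules.pushforward f).map r) hK (hqc _ hG)
    · intro Z i _ _
      obtain ⟨H, hH, hnt, hc⟩ := hgen Z i
      refine ⟨H, hH, hnt, ?_⟩
      exact Groth.Agent.Lead.PerfLib.isCoh_of_iso
        ((Scheme.Modules.pushforwardComp i f).app H).symm hc

end Groth.Agent.S10866
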