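import Groth.Statements.S10869
import Groth.Agent.Helper4.CounitGG
import Mathlib

set_option autoImplicit false
universe u
open Coh

namespace Groth.Agent.S10869


open CategoryTheory AlgebraicGeometry in
/-- For f : X → S quasi-compact and quasi-separated and F a quasi-coherent O_X-module, the counit
f^*f_*F → F is an epimorphism iff F is a quotient of f^*G for some quasi-coherent O_S-module G, iff
the restriction of F to the inverse image of every affine open of S is globally generated. -/
theorem result {X S : Scheme.{u}} (f : X ⟶ S) [QuasiCompact f] [QuasiSeparated f]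
    (F : X.Modules) (hF : Coh.IsQCoh F) :
    (Epi ((Scheme.Modules.pullbackPushforwardAdjunction f).counit.app F) ↔
      ∃ G : S.Modules, Coh.IsQCoh G ∧ ∃ φ : (Scheme.Modules.pullback f).obj G ⟶ F, Epi φ) ∧
    (Epi ((Scheme.Modules.pullbackPushforwardAdjunction f).counit.app F) ↔
      ∀ U : S.Opens, IsAffineOpen U → Curv2.IsGloballyGenerated (F.restrict (f ⁻¹ᵁ U).ι)) := by

  haveI : F.IsQuasicoherent := hF
  refine ⟨⟨fun h => ?_, ?_⟩, ⟨fun h U hU => ?_, fun h => ?_⟩⟩
  · exact ⟨(Scheme.Modules.pushforward f).obj F,
      Groth.Agent.Helper4.QcohGlue.isQuasicoherent_pushforward f F, _, h⟩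
  · rintro ⟨G, -, φ, hφ⟩
    have h1 : φ = (Scheme.Modules.pullback f).map
        ((Scheme.Modules.pullbackPushforwardAdjunction f).homEquiv G F φ) ≫
        (Scheme.Modules.pullbackPushforwardAdjunction f).counit.app F := by
      have h2 := (Scheme.Modules.pullbackPushforwardAdjunction f).homEquiv_counit
        (X := G) (Y := F) (g := (Scheme.Modules.pullbackPushforwardAdjunction f).homEquiv G F φ)
      rw [Equiv.symm_apply_apply] at h2
      exact h2
    rw [h1] at hφ
    exact @epi_of_epi _ _ _ _ _ _ _ hφ
  · exact Groth.Agent.Helper4.CounitEpi.isGloballyGenerated_restrict_of_epi_counit f F h U hU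
  · refine Groth.Agent.Helper4.CounitGG.epi_counit_of_cover f F
      (fun V : S.affineOpens => V.1) (fun x => ?_) (fun V => h V.1 V.2)
    obtain ⟨V, hV, hxV, -⟩ := exists_isAffineOpen_mem_and_subset (X := S) (x := f x) (U := ⊤) trivial
    exact ⟨⟨V, hV⟩, hxV⟩

end Groth.Agent.S10869
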