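import Groth.Statements.S10871
import Groth.Agent.Helper8.DedAff

set_option autoImplicit false
universe u
open AlgebraicGeometry
open Curves

namespace Groth.Agent.S10871

/-- Every open subscheme of the spectrum of a Dedekind domain is affine. -/
theorem result (A : Type u) [CommRing A] [IsDedekindDomain A]
    (U : (Spec (CommRingCat.of A)).Opens) : IsAffineOpen U := by
  exact Groth.Agent.Helper8.DedAff.main A U

end Groth.Agent.S10871
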