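import Groth.Statements.S10876
import Groth.Agent.Helper2.CofinalFlat
open TensorProduct Function LinearMap IsLocalRing Groth.Agent.Helper2.CofinalFlat
-- import your own Groth.Agent.* helpers here

set_option autoImplicit false
universe u
open TensorProduct
open CAlg

namespace Groth.Agent.S10876

/-- Descent of flatness along finite injective maps: let A → B be a local homomorphism of Noetherian
local rings and A → A' an injective ring homomorphism making A' a finite A-module. Then B is A-flat
if and only if the base change A' ⊗_A B is A'-flat. -/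
theorem result (A B A' : Type u) [CommRing A] [CommRing B]
    [CommRing A'] [IsNoetherianRing A] [IsLocalRing A] [IsNoetherianRing B] [IsLocalRing B]
    [Algebra A B] [IsLocalHom (algebraMap A B)] [Algebra A A'] [Module.Finite A A']
    (hinj : Function.Injective (algebraMap A A')) :
    Module.Flat A B ↔ Module.Flat A' (A' ⊗[A] B) := by
  constructor
  · intro h
    infer_instance
  · intro h
    apply flat_of_flat_quot_cofinal (B := B)
    intro n
    set m := maximalIdeal A with hm
    set 𝔯 : Ideal A' := m.map (algebraMap A A') with h𝔯
    -- Artin–Rees for the image of A in A'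
    set P : Submodule A A' := LinearMap.range (Algebra.linearMap A A') with hP
    obtain ⟨c, hc⟩ := Ideal.exists_pow_inf_eq_pow_smul m P
    refine ⟨(𝔯 ^ (n + c)).comap (algebraMap A A'), ?_, flat_quot_comap 𝔯 le_rfl (n + c)⟩
    intro a ha
    rw [Ideal.mem_comap] at ha
    have h1 : 𝔯 ^ (n + c) = (m ^ (n + c)).map (algebraMap A A') := by
      rw [h𝔯, Ideal.map_pow]
    have h2 : algebraMap A A' a ∈ (m ^ (n + c) • ⊤ : Submodule A A') := by
      rw [h1] at ha
      have : ((m ^ (n + c)).map (algebraMap A A')).restrictScalars A =
          (m ^ (n + c) • ⊤ : Submodule A A') := by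
        rw [Ideal.smul_top_eq_map]
      rw [← this]
      exact ha
    have h3 : algebraMap A A' a ∈ (m ^ (n + c) • ⊤ : Submodule A A') ⊓ P :=
      ⟨h2, ⟨a, rfl⟩⟩
    rw [hc (n + c) (by omega), Nat.add_sub_cancel] at h3
    have h4 : m ^ n • (m ^ c • ⊤ ⊓ P) ≤ m ^ n • P := Submodule.smul_mono le_rfl inf_le_right
    have h5 := h4 h3
    have h6 : m ^ n • P = Submodule.map (Algebra.linearMap A A') (m ^ n • ⊤) := by
      rw [Submodule.map_smul'', Submodule.map_top]
    rw [h6] at h5
    obtain ⟨b, hb, hba⟩ := h5
    have : b = a := hinj hba
    rw [← this]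
    simpa using hb

end Groth.Agent.S10876
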