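import Groth.Statements.S10891
import Mathlib
import Groth.Agent.Helper5.CyclicInv

set_option autoImplicit false
universe u
open CAlg

namespace Groth.Agent.S10891

/-- Let k be a field containing a primitive r-th root of unity ζ and 0 < a < r. The cyclic group of r-th
roots of unity acts on k[X, Y] through the generator X ↦ ζ⁻¹ X, Y ↦ ζ^(−a) Y, and the ring of
invariants of this action is generated as a k-algebra by the monomials X^i Y^j with 0 ≤ i, j ≤ r,
(i, j) ≠ (r, r) and i + a·j ≡ 0 (mod r). (The printed statement writes n for the order of the group,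
which the surrounding section calls r.) -/
theorem result (k : Type u) [Field k] (r a : ℕ) (ha : 0 < a) (har : a < r)
    (ζ : k) (hζ : IsPrimitiveRoot ζ r) (p : MvPolynomial (Fin 2) k) :
    MvPolynomial.aeval (fun i : Fin 2 => if i = 0 then MvPolynomial.C ζ⁻¹ * MvPolynomial.X 0
        else MvPolynomial.C (ζ⁻¹ ^ a) * (MvPolynomial.X 1 : MvPolynomial (Fin 2) k)) p = p ↔
      p ∈ Algebra.adjoin k {q : MvPolynomial (Fin 2) k | ∃ i j : ℕ, i ≤ r ∧ j ≤ r ∧ ¬ (i = r ∧ j = r) ∧
        r ∣ i + a * j ∧ q = MvPolynomial.X 0 ^ i * MvPolynomial.X 1 ^ j} := by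
  have hζ' : IsPrimitiveRoot ζ⁻¹ r := hζ.inv
  constructor
  · intro h
    have hc : ∀ m ∈ p.support, r ∣ m 0 + a * m 1 := by
      intro m hm
      have h1 := Groth.Agent.Helper5.CyclicInv.coeff_sigma a ζ p m
      rw [h] at h1
      have hne : MvPolynomial.coeff m p ≠ 0 := MvPolynomial.mem_support_iff.mp hm
      have h2 : ζ⁻¹ ^ (m 0 + a * m 1) = 1 := by
        have h3 : MvPolynomial.coeff m p * 1 = MvPolynomial.coeff m p * ζ⁻¹ ^ (m 0 + a * m 1) := by
          rw [mul_one]; exact h1
        exact (mul_left_cancel₀ hne h3).symm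
      exact (hζ'.pow_eq_one_iff_dvd _).mp h2
    rw [← MvPolynomial.support_sum_monomial_coeff p]
    refine Subalgebra.sum_mem _ fun m hm => ?_
    rw [Groth.Agent.Helper5.CyclicInv.monomial_eq_two]
    refine Subalgebra.mul_mem _ (Subalgebra.algebraMap_mem _ _) ?_
    exact Groth.Agent.Helper5.CyclicInv.mono_mem r a ha har _ _ _ le_rfl (hc m hm)
  · intro h
    refine Algebra.adjoin_induction (p := fun x _ => MvPolynomial.aeval (fun i : Fin 2 => if i = 0 then MvPolynomial.C ζ⁻¹ * MvPolynomial.X 0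
        else MvPolynomial.C (ζ⁻¹ ^ a) * (MvPolynomial.X 1 : MvPolynomial (Fin 2) k)) x = x) ?_ ?_ ?_ ?_ h
    · rintro x ⟨i, j, -, -, -, hdvd, rfl⟩
      have h1 : (MvPolynomial.X 0 ^ i * MvPolynomial.X 1 ^ j : MvPolynomial (Fin 2) k)
          = MvPolynomial.monomial (Finsupp.single 0 i + Finsupp.single 1 j) 1 := by
        rw [Groth.Agent.Helper5.CyclicInv.monomial_eq_two]
        simp
      rw [h1, Groth.Agent.Helper5.CyclicInv.sigma_monomial]
      congr 1
      have : (Finsupp.single (0 : Fin 2) i + Finsupp.single (1 : Fin 2) j : Fin 2 →₀ ℕ) 0 + a * (Finsupp.single (0 : Fin 2) i + Finsupp.single (1 : Fin 2) j : Fin 2 →₀ ℕ) 1 = i + a * j := by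
        simp
      rw [this, (hζ'.pow_eq_one_iff_dvd _).mpr hdvd, mul_one]
    · intro c
      exact AlgHom.commutes _ c
    · intro x y _ _ hx hy
      rw [map_add, hx, hy]
    · intro x y _ _ hx hy
      rw [map_mul, hx, hy]

end Groth.Agent.S10891
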