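import Groth.Statements.S10895
import Mathlib

set_option autoImplicit false
universe u
open CategoryTheory AlgebraicGeometry
open FlatMor

namespace Groth.Agent.S10895

/-- local algebra: a surjective flat map of local rings kills every finitely generated ideal
contained in its kernel -/
theorem eq_bot_of_flat_surjective {R S : Type u} [CommRing R] [CommRing S] [IsLocalRing R]
    [Nontrivial S] (σ : R →+* S) (hσ : Function.Surjective σ) (hflat : σ.Flat)
    (K' : Ideal R) (hK'fg : K'.FG) (hK' : K' ≤ RingHom.ker σ) : K' = ⊥ := by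
  algebraize [σ]
  haveI : Module.Flat R S := hflat
  set K := RingHom.ker σ with hK
  have hKne : K ≠ ⊤ := RingHom.ker_ne_top σ
  let e : (R ⧸ RingHom.ker (Algebra.ofId R S)) ≃ₐ[R] S :=
    Ideal.quotientKerAlgEquivOfSurjective (f := Algebra.ofId R S) hσ
  haveI : Module.Flat R (R ⧸ K) := Module.Flat.of_linearEquiv e.toLinearEquiv
  have h1 : K ⊓ K' = K * K' := Ideal.inf_eq_mul_of_pure K K'
  have h2 : K' ≤ K • K' := by
    rw [smul_eq_mul, ← h1]
    exact le_inf hK' le_rfl
  refine Submodule.eq_bot_of_le_smul_of_le_jacobson_bot K K' hK'fg h2 ?_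
  rw [IsLocalRing.jacobson_eq_maximalIdeal ⊥ bot_ne_top]
  exact IsLocalRing.le_maximalIdeal hKne

/-- finitely many sections with zero germ at `y` vanish on a common neighbourhood -/
theorem exists_nhd_res_eq_zero {Y : Scheme.{u}} (U : Y.Opens) (y : Y) (hy : y ∈ U)
    (t : Finset Γ(Y, U)) (ht : ∀ a ∈ t, Y.presheaf.germ U y hy a = 0) :
    ∃ (W : Y.Opens) (_ : y ∈ W) (h : W ≤ U), ∀ a ∈ t, Y.presheaf.map (homOfLE h).op a = 0 := by
  classical
  induction t using Finset.induction_on with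
  | empty => exact ⟨U, hy, le_rfl, fun a ha => by simp at ha⟩
  | insert a t _ ih =>
    obtain ⟨W, hyW, hWU, hW⟩ := ih fun b hb => ht b (Finset.mem_insert_of_mem hb)
    have ha : Y.presheaf.germ U y hy a = Y.presheaf.germ U y hy 0 := by
      rw [ht a (Finset.mem_insert_self a t), map_zero]
    obtain ⟨W', hyW', i1, i2, hW'⟩ := TopCat.Presheaf.germ_eq Y.presheaf y hy hy a 0 ha
    rw [map_zero] at hW'
    refine ⟨W ⊓ W', ⟨hyW, hyW'⟩, inf_le_left.trans hWU, fun b hb => ?_⟩
    rcases Finset.mem_insert.mp hb with rfl | hb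
    · have : (homOfLE (inf_le_left.trans hWU : W ⊓ W' ≤ U)).op =
          i1.op ≫ (homOfLE (inf_le_right : W ⊓ W' ≤ W')).op := rfl
      rw [this, Functor.map_comp, CommRingCat.comp_apply, hW', map_zero]
    · have : (homOfLE (inf_le_left.trans hWU : W ⊓ W' ≤ U)).op =
          (homOfLE hWU).op ≫ (homOfLE (inf_le_left : W ⊓ W' ≤ W)).op := rfl
      rw [this, Functor.map_comp, CommRingCat.comp_apply, hW b hb, map_zero]


theorem aux {X Y : Scheme.{u}} (f : X ⟶ Y) [IsClosedImmersion f]
    [LocallyOfFinitePresentation f] (x : X) (hflat : (f.stalkMap x).hom.Flat) :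
    ∃ V : Y.Opens, f.base x ∈ V ∧ IsIso (f ∣_ V) := by
  classical
  obtain ⟨U, hU, hyU, -⟩ := exists_isAffineOpen_mem_and_subset (x := f x) (U := ⊤) trivial
  -- the kernel ideal on `U` is finitely generated
  have hfU : IsAffineOpen (f ⁻¹ᵁ U) := hU.preimage f
  have hfp : (f.app U).hom.FinitePresentation := by
    have := HasRingHomProperty.appLE (P := @LocallyOfFinitePresentation) f inferInstance
      ⟨U, hU⟩ ⟨f ⁻¹ᵁ U, hfU⟩ le_rfl
    rwa [← Scheme.Hom.app_eq_appLE] at this
  have hsurj : Function.Surjective (f.app U).hom := f.app_surjective U hU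
  have hIfg : (f.ker.ideal ⟨U, hU⟩).FG := by
    rw [Scheme.Hom.ker_apply]
    algebraize [(f.app U).hom]
    haveI : Algebra.FinitePresentation Γ(Y, U) Γ(X, f ⁻¹ᵁ U) := hfp
    exact Algebra.FinitePresentation.ker_fG_of_surjective (Algebra.ofId Γ(Y, U) Γ(X, f ⁻¹ᵁ U)) hsurj
  obtain ⟨t, ht⟩ := hIfg
  -- germs of the generators vanish
  have hgerm : ∀ a ∈ t, Y.presheaf.germ U (f x) hyU a = 0 := by
    have hK' : Ideal.map (Y.presheaf.germ U (f x) hyU).hom (f.ker.ideal ⟨U, hU⟩) = ⊥ := by
      refine eq_bot_of_flat_surjective (f.stalkMap x).hom (f.stalkMap_surjective x) hflat _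
        (Ideal.FG.map (⟨t, ht⟩ : (f.ker.ideal ⟨U, hU⟩).FG) _) ?_
      rw [Ideal.map_le_iff_le_comap]
      intro a ha
      rw [Scheme.Hom.ker_apply, RingHom.mem_ker] at ha
      rw [Ideal.mem_comap, RingHom.mem_ker]
      change (f.stalkMap x) (Y.presheaf.germ U (f x) hyU a) = 0
      rw [Scheme.Hom.germ_stalkMap_apply]
      change X.presheaf.germ (f ⁻¹ᵁ U) x hyU ((f.app U).hom a) = 0
      rw [ha, map_zero]
    intro a ha
    have : (Y.presheaf.germ U (f x) hyU).hom a ∈
        Ideal.map (Y.presheaf.germ U (f x) hyU).hom (f.ker.ideal ⟨U, hU⟩) :=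
      Ideal.mem_map_of_mem _ (ht ▸ Ideal.subset_span ha)
    rw [hK'] at this
    exact this
  obtain ⟨W, hyW, hWU, hW⟩ := exists_nhd_res_eq_zero U (f x) hyU t hgerm
  obtain ⟨s, hsW, hys⟩ := hU.exists_basicOpen_le ⟨f x, hyW⟩ hyU
  have hres : ∀ a ∈ t, Y.presheaf.map (homOfLE (Y.basicOpen_le s)).op a = 0 := by
    intro a ha
    have : (homOfLE (Y.basicOpen_le s)).op = (homOfLE hWU).op ≫ (homOfLE hsW).op := rfl
    rw [this, Functor.map_comp, CommRingCat.comp_apply, hW a ha, map_zero]
  -- the kernel ideal vanishes on the basic open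
  have hker : ∀ W' : Y.affineOpens, W'.1 = Y.basicOpen s → f.ker.ideal W' = ⊥ := by
    intro W' hW'
    obtain rfl : W' = Y.affineBasicOpen (U := ⟨U, hU⟩) s := Subtype.ext hW'
    rw [← Scheme.IdealSheafData.map_ideal_basicOpen, ← ht, Ideal.map_span]
    refine Ideal.span_eq_bot.mpr ?_
    rintro _ ⟨a, ha, rfl⟩
    exact hres a ha
  refine ⟨Y.basicOpen s, hys, ?_⟩
  have hV : IsAffineOpen (Y.basicOpen s) := hU.basicOpen s
  haveI : IsAffine (Y.basicOpen s : Scheme.{u}) := hV
  rw [IsClosedImmersion.isIso_iff_ker_eq_bot]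
  apply Scheme.IdealSheafData.ext_of_isAffine
  rw [Scheme.ker_morphismRestrict_ideal]
  rw [hker _ (by simp)]
  rfl

/-- A closed immersion of finite presentation which is flat at a point x is an isomorphism over some
open neighbourhood of the image of x. -/
theorem result {X Y : Scheme.{u}} (f : X ⟶ Y) [IsClosedImmersion f]
    [LocallyOfFinitePresentation f] (x : X) (hflat : (f.stalkMap x).hom.Flat) :
    ∃ V : Y.Opens, f.base x ∈ V ∧ IsIso (f ∣_ V) := by
  exact aux f x hflat

end Groth.Agent.S10895
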