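import Groth.Statements.S10898
import Mathlib

set_option autoImplicit false
universe u
open Polynomial
open WDiv

namespace Groth.Agent.S10898

/-- Let A be a Noetherian integral domain and P a prime ideal of height 1 of the polynomial ring A[X].
Then either P meets A in 0 only, or its contraction p = P ∩ A is a prime of height 1 of A and P is
the extension p·A[X]. (The published lemma also assumes A regular in codimension 1; that hypothesis
is not used for this assertion.) -/
theorem result (A : Type u) [CommRing A] [IsDomain A]
    [IsNoetherianRing A] (P : Ideal A[X]) [P.IsPrime] (hP : P.height = 1) :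
    P.comap (C : A →+* A[X]) = ⊥ ∨
      ((P.comap (C : A →+* A[X])).height = 1 ∧ P = (P.comap (C : A →+* A[X])).map C) := by
  by_cases hp : P.comap (C : A →+* A[X]) = ⊥
  · exact Or.inl hp
  right
  obtain ⟨p, hpdef⟩ : ∃ p : Ideal A, p = P.comap C := ⟨_, rfl⟩
  rw [← hpdef] at hp ⊢
  haveI : p.IsPrime := hpdef ▸ Ideal.comap_isPrime C P
  haveI : P.LiesOver p := ⟨hpdef⟩
  have key := Ideal.height_eq_height_add_of_liesOver_of_hasGoingDown p P
  have h1 : 1 ≤ p.height := by
    rw [Order.one_le_iff_ne_zero, Ne, Ideal.height_eq_zero_iff_eq_bot]; exact hp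
  rw [hP] at key
  have h2 : p.height = 1 ∧ (P.map (Ideal.Quotient.mk (p.map (algebraMap A A[X])))).height = 0 := by
    have aux : ∀ a b : ℕ∞, 1 = a + b → 1 ≤ a → a = 1 ∧ b = 0 := by
      intro a b h ha
      induction a using ENat.recTopCoe with
      | top => simp at h
      | coe a =>
        induction b using ENat.recTopCoe with
        | top => simp at h
        | coe b =>
          norm_cast at h ha ⊢
          omega
    exact aux _ _ key h1
  refine ⟨h2.1, ?_⟩
  have hpr : (p.map (C : A →+* A[X])).IsPrime := Ideal.isPrime_map_C_of_isPrime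
  have hle : p.map (C : A →+* A[X]) ≤ P := by
    rw [Ideal.map_le_iff_le_comap, hpdef]
  haveI : (p.map (algebraMap A A[X])).IsPrime := hpr
  have h3 := h2.2
  rw [Ideal.height_eq_zero_iff_eq_bot, Ideal.map_eq_bot_iff_le_ker, Ideal.mk_ker] at h3
  exact le_antisymm h3 hle

end Groth.Agent.S10898
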