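import Groth.Statements.S10899
import Mathlib
import Groth.Agent.S10898

set_option autoImplicit false
universe u
open Polynomial
open WDiv

namespace Groth.Agent.S10899

/-- Let A be a Noetherian integral domain which is regular in codimension 1, i.e. whose localization at
every prime ideal of height 1 is a discrete valuation ring. Then the polynomial ring A[X] is regular
in codimension 1 as well: its localization at every prime ideal of height 1 is a discrete valuation
ring. -/
theorem result (A : Type u) [CommRing A]
    [IsDomain A] [IsNoetherianRing A]
    (hR1 : ∀ (p : Ideal A) [p.IsPrime], p.height = 1 → IsDiscreteValuationRing (Localization.AtPrime p))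
    (P : Ideal A[X]) [P.IsPrime] (hP : P.height = 1) :
    IsDiscreteValuationRing (Localization.AtPrime P) := by
  obtain ⟨q, hq⟩ : ∃ q : Ideal A, q = P.comap (C : A →+* A[X]) := ⟨_, rfl⟩
  have hqprime : q.IsPrime := hq ▸ Ideal.comap_isPrime C P
  have hregq : IsRegularLocalRing (Localization.AtPrime q) := by
    rcases Groth.Agent.S10898.result A P hP with h | ⟨h, -⟩
    · rw [← hq] at h
      let _ : Field (Localization.AtPrime q) := IsField.toField <| by
        simp [IsLocalRing.isField_iff_maximalIdeal_eq, ← Localization.AtPrime.map_eq_maximalIdeal, h]
      infer_instance
    · rw [← hq] at h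
      have := hR1 q h
      infer_instance
  have hregP : IsRegularLocalRing (Localization.AtPrime P) := by
    let S := (Localization.AtPrime q)[X]
    let pc := Submonoid.map Polynomial.C.toMonoidHom q.primeCompl
    let _ : Algebra A[X] S := Polynomial.algebra A (Localization.AtPrime q)
    have : IsLocalization pc S := Polynomial.isLocalization _ _
    let pS := P.map (algebraMap A[X] S)
    have disj : Disjoint (pc : Set A[X]) (P : Set A[X]) := by
      simpa [pc, hq] using! Set.disjoint_image_left.mpr
        (Set.disjoint_compl_left_iff_subset.mpr (fun _ a ↦ a))
    have : pS.IsPrime := IsLocalization.isPrime_of_isPrime_disjoint pc _ _ ‹_› disj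
    have : IsLocalization.AtPrime (Localization.AtPrime pS) P := by
      convert IsLocalization.isLocalization_isLocalization_atPrime_isLocalization pc
        (Localization.AtPrime pS) pS
      exact (IsLocalization.under_map_of_isPrime_disjoint pc _ ‹_› disj).symm
    have eq : Ideal.comap C pS = IsLocalRing.maximalIdeal (Localization.AtPrime q) := by
      rw [← IsLocalization.map_under q.primeCompl _ (Ideal.comap C pS),
        ← IsLocalization.map_under q.primeCompl _ (IsLocalRing.maximalIdeal (Localization.AtPrime q))]
      simp only [Ideal.comap_comap, S, pS]
      rw [← Polynomial.algebraMap_eq (R := Localization.AtPrime q),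
        ← IsScalarTower.algebraMap_eq A (Localization.AtPrime q) (Localization.AtPrime q)[X],
        IsScalarTower.algebraMap_eq A A[X] (Localization.AtPrime q)[X], ← Ideal.comap_comap,
        ← Ideal.under_def A[X], IsLocalization.under_map_of_isPrime_disjoint pc _ ‹_› disj]
      rw [IsLocalization.AtPrime.under_maximalIdeal (Localization.AtPrime q) q]
      exact congrArg (Ideal.map (algebraMap A (Localization.AtPrime q))) hq.symm
    have := Polynomial.isRegularLocalRing_localization_atPrime_of_comap_eq_maximalIdeal _ pS eq
    exact IsRegularLocalRing.of_ringEquiv (R := Localization.AtPrime pS) (IsLocalization.algEquiv P.primeCompl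
      (Localization.AtPrime pS) (Localization.AtPrime P)).toRingEquiv
  have hdim : ringKrullDim (Localization.AtPrime P) = 1 := by
    rw [IsLocalization.AtPrime.ringKrullDim_eq_height P (Localization.AtPrime P), hP]
    rfl
  rw [IsRegularLocalRing.iff_finrank_cotangentSpace, hdim] at hregP
  rw [← IsLocalRing.finrank_CotangentSpace_eq_one_iff]
  exact_mod_cast hregP

end Groth.Agent.S10899
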