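import Groth.Statements.S10920
import Groth.Agent.Helper4.NApx27
import Mathlib

set_option autoImplicit false
universe u
open CategoryTheory AlgebraicGeometry
open SDiv

namespace Groth.Agent.S10920


/-- Let X be a Noetherian scheme, I a quasi-coherent ideal sheaf on X, f : Y → X a closed immersion, b :
X' → X a blowing up of X in I and b' : Y' → Y a blowing up of Y in the inverse image ideal sheaf
I·O_Y (blow-ups in the sense of the universal property: the inverse image ideal becomes effective
Cartier, universally). If f' : Y' → X' is the morphism compatible with the blow-ups, b ∘ f' = f ∘ b'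
(it exists and is unique by the universal property), then f' is a closed immersion; Y' is the strict
transform of Y. -/
theorem result {X Y X' Y' : Scheme.{u}} [IsNoetherian X]
    (𝓘 : X.IdealSheafData) (f : Y ⟶ X) [IsClosedImmersion f]
    (b : X' ⟶ X) (hb : BlowUp.IsBlowUp b 𝓘) (b' : Y' ⟶ Y) (hb' : BlowUp.IsBlowUp b' (𝓘.comap f))
    (f' : Y' ⟶ X') (hf' : f' ≫ b = b' ≫ f) : IsClosedImmersion f' := by

  classical
  have hZ := Groth.Agent.Helper4.NApx27.isBlowUp_strictTransform 𝓘 b hb f
  set m := (Limits.pullback.fst b f ⁻¹ᵁ ModPair.interior (𝓘.comap b)).ι.imageι with hm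
  obtain ⟨e, he⟩ := Groth.Agent.Helper4.NApx27.isBlowUp_unique (𝓘.comap f) b' (m ≫ Limits.pullback.snd b f) hb' hZ
  have hEff : BlowUp.IsEffCartierIdeal (𝓘.comap (b' ≫ f)) := by
    rw [Scheme.IdealSheafData.comap_comp]; exact hb'.1
  have h1 : (e.hom ≫ m ≫ Limits.pullback.fst b f) ≫ b = b' ≫ f := by
    rw [Category.assoc, Category.assoc, Limits.pullback.condition, ← Category.assoc m, ← Category.assoc e.hom,
      he]
  have h2 : f' = e.hom ≫ m ≫ Limits.pullback.fst b f := (hb.2 Y' (b' ≫ f) hEff).unique hf' h1
  rw [h2]
  infer_instance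

end Groth.Agent.S10920
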