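import Groth.Statements.S10926
import Groth.Agent.Helper1.Seesaw10
import Groth.Agent.Helper6.HProj
import Groth.Agent.Lead.InvDualA
import Groth.Agent.Helper4.PullTensor
import Groth.Agent.Helper4.TensorRes

set_option autoImplicit false
universe u
open CategoryTheory CategoryTheory.Limits AlgebraicGeometry
open PicF

namespace Groth.Agent.S10926

/-- Let k be an algebraically closed field, Y an integral scheme of finite type over k, f : X → Y flat
and projective (f = i ≫ pr for a closed immersion i : X → P^n_Y) with every fibre X_y integral, and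
L, M invertible O_X-modules whose pullbacks to each fibre X_y are isomorphic. Then there is an
invertible O_Y-module E with L ≅ M ⊗ f^*E. -/
theorem result (k : Type u) [Field k] [IsAlgClosed k]
    {X Y : Scheme.{u}} (g : Y ⟶ Spec (CommRingCat.of k)) [LocallyOfFiniteType g] [QuasiCompact g]
    [IsIntegral Y] (n : ℕ) (i : X ⟶ CohB1.ProjSpaceOver n Y) [IsClosedImmersion i]
    (f : X ⟶ Y) (hf : f = i ≫ CohB1.ProjSpaceOver.toBase n Y) [Flat f]
    (hint : ∀ y : Y, IsIntegral (f.fiber y))
    (L M : X.Modules) (hL : PicF.IsInvertible L) (hM : PicF.IsInvertible M)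
    (hLM : ∀ y : Y, Nonempty ((Scheme.Modules.pullback (f.fiberι y)).obj L ≅ (Scheme.Modules.pullback (f.fiberι y)).obj M)) :
    ∃ E : Y.Modules, PicF.IsInvertible E ∧
      Nonempty (L ≅ CohB1.tensorMod M ((Scheme.Modules.pullback f).obj E)) := by
  haveI : IsProper (CohB1.ProjSpaceOver.toBase n Y) :=
    Groth.Agent.Helper6.HProj.isProper_toBase n Y
  haveI : IsProper f := by
    rw [hf]
    infer_instance
  haveI : IsLocallyNoetherian Y := LocallyOfFiniteType.isLocallyNoetherian g
  have h0 := Groth.Agent.Helper1.Seesaw.finrank_Γ_fiber_eq_one f k g hint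
  obtain ⟨M', hM', ⟨a⟩, ⟨b⟩⟩ := Groth.Agent.Lead.InvDual.exists_inverse M hM
  have hN : PicF.IsInvertible (CohB1.tensorMod L M') :=
    Groth.Agent.Helper4.TensorInv.isInvertible_tensorMod hL hM'
  have htriv : ∀ y : Y, Nonempty (CohIII.fiberMod f (CohB1.tensorMod L M') y ≅
      Coh.structureModule (f.fiber y)) := by
    intro y
    obtain ⟨e⟩ := hLM y
    exact ⟨Groth.Agent.Helper4.PullTensor.pullTensorIso (f.fiberι y) hL hM' ≪≫
      PicGrp.tensorModIso e (Iso.refl _) ≪≫
      (Groth.Agent.Helper4.PullTensor.pullTensorIso (f.fiberι y) hM hM').symm ≪≫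
      (Scheme.Modules.pullback (f.fiberι y)).mapIso b ≪≫
      Groth.Agent.Helper4.PullUnit.pullbackUnitIso (f.fiberι y)⟩
  obtain ⟨-, hE, hiso⟩ := Groth.Agent.Helper1.Seesaw.core f h0 (CohB1.tensorMod L M') hN htriv
  haveI := hiso
  refine ⟨(Scheme.Modules.pushforward f).obj (CohB1.tensorMod L M'), hE, ⟨?_⟩⟩
  let c : L ≅ CohB1.tensorMod (CohB1.tensorMod L M') M :=
    (SecTwist.unitorR L).symm ≪≫ PicGrp.tensorModIso (Iso.refl L) a.symm ≪≫
      (Groth.Agent.Lead.Ref1B.assoc L M' M).symm
  exact c ≪≫ Groth.Agent.Lead.Ref1B.braid _ _ ≪≫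
    PicGrp.tensorModIso (Iso.refl M)
      (asIso ((Scheme.Modules.pullbackPushforwardAdjunction f).counit.app
        (CohB1.tensorMod L M'))).symm

end Groth.Agent.S10926
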