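import Groth.Statements.S10932
import Mathlib
import Groth.Agent.Helper1.ExtRing
import Groth.Agent.Helper1.RegGlobalDim

set_option autoImplicit false
universe u
open CategoryTheory
open CAlg

namespace Groth.Agent.S10932

/-- Let A be a (Noetherian) regular local ring of Krull dimension n and M a finitely generated A-module
such that Ext^j_A(M, A) = 0 for every j with 1 ≤ j ≤ n. Then M is projective, hence a free A-module. -/
theorem result (A : Type u) [CommRing A] [IsRegularLocalRing A]
    (n : ℕ) (hn : ringKrullDim A = n) (M : Type u) [AddCommGroup M] [Module A M] [Module.Finite A M]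
    (h : ∀ j : ℕ, 1 ≤ j → j ≤ n →
      Subsingleton (Abelian.Ext (ModuleCat.of A M) (ModuleCat.of A A) j)) :
    Module.Free A M := by
  have key := Groth.Agent.Helper1.ExtRing.hasProjectiveDimensionLT_iff_ext_ring_vanish (A := A) M
  have hn' := Groth.Agent.Helper1.TorLib.hasProjectiveDimensionLT_of_isRegularLocalRing (A := A) n hn
    (ModuleCat.of A M)
  have h0 : HasProjectiveDimensionLT (ModuleCat.of A M) (0 + 1) := by
    refine (key 0).mpr fun i hi => ?_
    rcases Nat.lt_or_ge n i with h1 | h1
    · exact HasProjectiveDimensionLT.subsingleton _ (n + 1) i h1 _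
    · exact h i hi h1
  rw [zero_add, ← projective_iff_hasProjectiveDimensionLT_one] at h0
  haveI : Module.Projective A M := (IsProjective.iff_projective (R := A) (P := M)).mpr h0
  exact Module.free_of_flat_of_isLocalRing

end Groth.Agent.S10932
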