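import Groth.Statements.S10933
import Groth.Agent.Helper1.ExtRing

set_option autoImplicit false
universe u
open CategoryTheory
open CAlg

namespace Groth.Agent.S10933

open Abelian Limits in
/-- A nonzero finite projective module has a nonzero map to `A`. -/
lemma nontrivial_ext_zero {A : Type u} [CommRing A] (M : Type u) [AddCommGroup M] [Module A M]
    [Module.Finite A M] [Module.Projective A M] (hM : ¬ IsZero (ModuleCat.of A M)) :
    Nontrivial (Ext (ModuleCat.of A M) (ModuleCat.of A A) 0) := by
  by_contra hnt
  rw [not_nontrivial_iff_subsingleton] at hnt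
  apply hM
  obtain ⟨m, r, hr⟩ := Module.Finite.exists_fin' A M
  obtain ⟨s, hs⟩ := Module.projective_lifting_property r LinearMap.id hr
  have hzero : ∀ φ : M →ₗ[A] A, φ = 0 := by
    intro φ
    have h1 : Ext.mk₀ (ModuleCat.ofHom φ) = (0 : Ext (ModuleCat.of A M) (ModuleCat.of A A) 0) :=
      Subsingleton.elim _ _
    have h2 : ModuleCat.ofHom φ = 0 := by
      apply Ext.homEquiv₀.symm.injective
      simpa using h1
    exact congrArg ModuleCat.Hom.hom h2
  have hs0 : s = 0 := by
    ext x j
    have := LinearMap.congr_fun (hzero (LinearMap.proj j ∘ₗ s)) x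
    simpa using this
  haveI : Subsingleton M := ⟨fun x y => by
    have hx : x = r (s x) := (LinearMap.congr_fun hs x).symm
    have hy : y = r (s y) := (LinearMap.congr_fun hs y).symm
    rw [hx, hy, hs0]
    simp⟩
  exact ModuleCat.isZero_of_subsingleton _

/-- Let A be a (Noetherian) regular local ring, M a finitely generated A-module and d a natural number.
Then the projective dimension of M equals d if and only if Ext^j_A(M, A) = 0 for every j > d and
Ext^d_A(M, A) ≠ 0. (Projective dimension valued in WithBot ℕ∞, the zero module having projective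
dimension ⊥.) -/
theorem result (A : Type u) [CommRing A] [IsRegularLocalRing A]
    (M : Type u) [AddCommGroup M] [Module A M] [Module.Finite A M] (d : ℕ) :
    projectiveDimension (ModuleCat.of A M) = (d : WithBot ℕ∞) ↔
      ((∀ j : ℕ, d < j → Subsingleton (Abelian.Ext (ModuleCat.of A M) (ModuleCat.of A A) j)) ∧
        Nontrivial (Abelian.Ext (ModuleCat.of A M) (ModuleCat.of A A) d)) := by
  have key := Groth.Agent.Helper1.ExtRing.hasProjectiveDimensionLT_iff_ext_ring_vanish (A := A) M
  constructor
  · intro hpd
    have hle : HasProjectiveDimensionLT (ModuleCat.of A M) (d + 1) :=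
      (projectiveDimension_le_iff _ d).mp hpd.le
    refine ⟨(key d).mp hle, ?_⟩
    by_contra hnt
    rw [not_nontrivial_iff_subsingleton] at hnt
    rcases Nat.eq_zero_or_pos d with rfl | hpos
    · have h0 : projectiveDimension (ModuleCat.of A M) = 0 := by simpa using hpd
      obtain ⟨hproj, hnz⟩ := (projectiveDimension_eq_zero_iff _).mp h0
      haveI : Module.Projective A M :=
        (IsProjective.iff_projective (R := A) (P := M)).mpr hproj
      haveI := nontrivial_ext_zero M hnz
      exact not_subsingleton _ hnt
    · obtain ⟨d', rfl⟩ : ∃ d', d = d' + 1 := ⟨d - 1, by omega⟩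
      have hlt : HasProjectiveDimensionLT (ModuleCat.of A M) (d' + 1) := by
        refine (key d').mpr fun i hi => ?_
        rcases Nat.lt_or_ge (d' + 1) i with h1 | h1
        · exact (key (d' + 1)).mp hle i h1
        · have : i = d' + 1 := by omega
          subst this
          exact hnt
      have := projectiveDimension_lt_iff.mpr hlt
      rw [hpd] at this
      exact lt_irrefl _ this
  · rintro ⟨hvan, hnt⟩
    have hle : projectiveDimension (ModuleCat.of A M) ≤ d :=
      (projectiveDimension_le_iff _ d).mpr ((key d).mpr hvan)
    refine le_antisymm hle ?_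
    rw [projectiveDimension_ge_iff]
    intro hlt
    have := HasProjectiveDimensionLT.subsingleton (ModuleCat.of A M) d d le_rfl (ModuleCat.of A A)
    exact not_subsingleton _ this

end Groth.Agent.S10933
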