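import Groth.Statements.S10934
import Groth.Agent.Helper1.CMcl3

set_option autoImplicit false
universe u
open CategoryTheory CategoryTheory.Limits AlgebraicGeometry
open ProjDual

namespace Groth.Agent.S10934

attribute [local instance] Groth.Agent.Helper9.TensorAdj.hasSheafHom

/-- (a)⇔(b): let k be a field, i : X → P^N_k a closed immersion with X of dimension n, and write F(−q) =
F ⊗ i^*O(−q). Then X is an equidimensional Cohen–Macaulay scheme of dimension n — the local ring of
X at every closed point is Cohen–Macaulay of Krull dimension n — if and only if for every finite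
locally free O_X-module F (vector bundle) there is q₀ such that H^j(X, F(−q)) = 0 for all j < n and
all q ≥ q₀. -/
theorem result (k : Type u) [Field k] (N n : ℕ)
    {X : Scheme.{u}} (i : X ⟶ CohB1.ProjSpace N k) [IsClosedImmersion i] (hn : topologicalKrullDim ↥X = n) :
    (∀ x : X, IsClosed ({x} : Set ↥X) →
        LocCoh.IsCohenMacaulayLocalRing (X.presheaf.stalk x) ∧ ringKrullDim (X.presheaf.stalk x) = n) ↔
      ∀ F : X.Modules, FlatMod.IsFinLocFree F → ∃ q₀ : ℕ, ∀ q : ℕ, q₀ ≤ q → ∀ j : ℕ, j < n →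
        Subsingleton (Coh.HH X (CohB1.tensorMod F
          ((Scheme.Modules.pullback i).obj (Twist.twistProjSpace N k (-(q : ℤ))))) j) := by
  haveI : EnoughInjectives (CohB1.ProjSpace N k).Modules :=
    Groth.Agent.Helper9.ModCechExt.enoughInjectives_mod (CohB1.ProjSpace N k).ringCatSheaf
  haveI : HasExt.{u} (CohB1.ProjSpace N k).Modules := hasExt_of_enoughInjectives _
  haveI : HasInjectiveResolutions (ModSite.Mod (CohB1.ProjSpace N k).sheaf) :=
    inferInstanceAs (HasInjectiveResolutions (CohB1.ProjSpace N k).Modules)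
  haveI : IsLocallyNoetherian X := Groth.Agent.Helper1.ExtSh.isLocallyNoetherian_of_closed N k i
  have hnN : n ≤ N := by
    have h1 := i.isClosedEmbedding.isInducing.topologicalKrullDim_le
    rw [hn, Groth.Agent.S10829.result k N] at h1
    exact_mod_cast h1
  -- the translation between cohomology on `X` and the `ℰxt` sheaves on `P`
  have key : ∀ (F : X.Modules), Coh.IsCoh F → ∀ j : ℕ, j ≤ N →
      (IsZero ((ModSite.extSh (O := (CohB1.ProjSpace N k).sheaf)
          ((Scheme.Modules.pushforward i).obj F) (N - j)).obj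
            (Twist.twistProjSpace N k (-((N : ℤ) + 1)))) ↔
        ∃ q₀ : ℤ, ∀ q : ℤ, q₀ ≤ q → Subsingleton (Coh.HH X (CohB1.tensorMod F
          ((Scheme.Modules.pullback i).obj (Twist.twistProjSpace N k (-q)))) j)) := by
    intro F hF j hj
    have h1 := Groth.Agent.Helper1.ExtSh.isZero_extSh_iff N k _
      (Groth.Agent.Helper1.ClTr.isCoh_push N k i F hF) (N - j) (by omega)
    rw [show N - (N - j) = j by omega] at h1
    rw [h1]
    constructor
    · rintro ⟨q₀, h⟩
      exact ⟨q₀, fun q hq =>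
        (Groth.Agent.Helper1.ClTr.subsingleton_HH_tw_iff N k i F hF.1 (-q) j).2 (h q hq)⟩
    · rintro ⟨q₀, h⟩
      exact ⟨q₀, fun q hq =>
        (Groth.Agent.Helper1.ClTr.subsingleton_HH_tw_iff N k i F hF.1 (-q) j).1 (h q hq)⟩
  constructor
  · intro hcm F hF
    have hFc := Groth.Agent.Lead.PerfLib.isCoh_of_isFinLocFree hF
    have h1 : ∀ j : ℕ, ∃ q₀ : ℤ, j < n → ∀ q : ℤ, q₀ ≤ q → Subsingleton (Coh.HH X
        (CohB1.tensorMod F
          ((Scheme.Modules.pullback i).obj (Twist.twistProjSpace N k (-q)))) j) := by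
      intro j
      by_cases hj : j < n
      · obtain ⟨q₀, hq₀⟩ := (key F hFc j (by omega)).1
          (Groth.Agent.Helper1.CMcl.isZero_extSh_of_cm N k i n hn hcm F hF j hj (by omega))
        exact ⟨q₀, fun _ => hq₀⟩
      · exact ⟨0, fun h => absurd h hj⟩
    choose q₀ hq₀ using h1
    obtain ⟨m₀, hm₀⟩ := ((Finset.range n).image q₀).exists_le
    refine ⟨m₀.toNat, fun q hq j hj => ?_⟩
    refine hq₀ j hj (q : ℤ) ?_
    have h2 := hm₀ _ (Finset.mem_image_of_mem q₀ (Finset.mem_range.2 hj))
    have h3 : m₀ ≤ (m₀.toNat : ℤ) := Int.self_le_toNat _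
    have h4 : (m₀.toNat : ℤ) ≤ (q : ℤ) := by exact_mod_cast hq
    omega
  · intro h
    rw [Groth.Agent.Helper1.CMcl.cm_iff_isZero_extSh N k i n hn]
    intro j hj hjN
    obtain ⟨q₀, hq₀⟩ := h (Coh.structureModule X)
      (Groth.Agent.Lead.ParaFLib.isFinLocFree_of_isInvertible _
        Groth.Agent.Helper4.TensorInv.isInvertible_structureModule)
    rw [key _ (Groth.Agent.Helper1.Dev.isCoh_structureModule X) j hjN]
    refine ⟨(q₀ : ℤ), fun q hq => ?_⟩
    obtain ⟨q', rfl⟩ : ∃ q' : ℕ, q = (q' : ℤ) := ⟨q.toNat, by omega⟩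
    exact hq₀ q' (by exact_mod_cast hq) j hj

end Groth.Agent.S10934
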