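import Groth.Statements.S10947
import Groth.Agent.Lead.QProjVanA
import Groth.Agent.S9815
import Groth.Agent.Helper3.ProjNoeth
import Groth.Agent.Helper1.TwistAmple
import Groth.Agent.Helper1.PUP8

set_option autoImplicit false
universe u
open CategoryTheory AlgebraicGeometry
open Coherent

namespace Groth.Agent.S10947

/-- Let k be a field and X a quasi-projective scheme over k, given with an immersion ι : X → P^N_k into
a projective space. If n is a natural number with H^i(X, E) = 0 for all finite locally free
O_X-modules E and all i > n, then H^i(X, F) = 0 for all coherent O_X-modules F (quasi-coherent of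
finite type) and all i > n. -/
theorem result
    (k : Type u) [Field k] (N : ℕ) {X : Scheme.{u}} (ι : X ⟶ CohB1.ProjSpace N k) [IsImmersion ι]
    (n : ℕ) (h : ∀ E : X.Modules, FlatMod.IsFinLocFree E → ∀ i : ℕ, n < i → Subsingleton (Coh.HH X E i))
    (F : X.Modules) (hF : Coh.IsCoh F) (i : ℕ) (hi : n < i) :
    Subsingleton (Coh.HH X F i) := by
  have : IsNoetherianRing (MvPolynomial (Fin (N + 1)) k) := inferInstance
  have hP : AlgebraicGeometry.IsNoetherian (CohB1.ProjSpace N k) :=
    Groth.Agent.Helper3.ProjNoeth.main (CohB1.polyGrading N k)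
  have : IsLocallyNoetherian X := LocallyOfFiniteType.isLocallyNoetherian ι
  have : TopologicalSpace.NoetherianSpace X := ι.isEmbedding.isInducing.noetherianSpace
  have : CompactSpace X := inferInstance
  have : AlgebraicGeometry.IsNoetherian X := {}
  have : X.IsSeparated := by
    constructor
    have h1 : Limits.terminal.from X = ι ≫ Limits.terminal.from (CohB1.ProjSpace N k) :=
      (Limits.terminal.comp_from ι).symm
    rw [h1]
    have : (CohB1.ProjSpace N k).IsSeparated :=
      inferInstanceAs (Proj (CohB1.polyGrading N k)).IsSeparated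
    infer_instance
  have : CompactSpace (Proj (CohB1.polyGrading N k)) :=
    inferInstanceAs (CompactSpace (CohB1.ProjSpace N k))
  have hamp1 : CohB1.IsAmple (Twist.twist (CohB1.polyGrading N k) ((1 : ℕ) : ℤ)) :=
    Groth.Agent.Helper1.TwistMul.isAmple_twist (CohB1.polyGrading N k)
      (Groth.Agent.Helper1.PUP.hcovP N) 1 one_pos
  have hamp := Groth.Agent.S9815.result ι ι.isEmbedding _ hamp1
  exact Groth.Agent.Lead.QProjVan.subsingleton_HH_of_locFree _ hamp n h F hF i hi

end Groth.Agent.S10947
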