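import Groth.Statements.S10950
import Groth.Agent.Helper1.ExtDual3

set_option autoImplicit false
universe u
open CategoryTheory AlgebraicGeometry
open ProjDual

namespace Groth.Agent.S10950

/-- Let k be a field, n a natural number, X = P^n_k, ω = O_X(-n-1), F a coherent O_X-module and i ≤ n.
Then the group Ext^i(F, ω), computed in the category of all O_X-modules (the Ext instance is the
stated hypothesis; it holds), vanishes if and only if H^(n-i)(X, F) vanishes. (The published
statement gives isomorphisms θ^i : Ext^i(F, ω) ≅ H^(n-i)(X, F)' of k-vector spaces extending the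
perfect pairing in degree 0; the k-linear structure on these Ext groups is not available here, so
only the equivalence of vanishing, a consequence, is stated.) -/
theorem result (k : Type u) [Field k]
    (n : ℕ) [HasExt.{u} (CohB1.ProjSpace n k).Modules]
    (F : (CohB1.ProjSpace n k).Modules) (hF : Coh.IsCoh F) (i : ℕ) (hi : i ≤ n) :
    Subsingleton (Abelian.Ext F (Twist.twistProjSpace n k (-((n : ℤ) + 1))) i) ↔
      Subsingleton (Coh.HH (CohB1.ProjSpace n k) F (n - i)) := by
  obtain ⟨e⟩ := (Groth.Agent.Helper1.ExtDual.main_Pn n k F hF i).1 (n - i) (by omega)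
  constructor
  · intro h
    refine ⟨fun x y => ?_⟩
    have h0 : ∀ v : Coh.HH (CohB1.ProjSpace n k) F (n - i), v = 0 := by
      intro v
      rw [← Module.forall_dual_apply_eq_zero_iff k v]
      intro φ
      have h1 : φ = 0 := by
        have h2 : e.symm φ = e.symm 0 := Subsingleton.elim _ _
        exact e.symm.injective h2
      rw [h1]
      rfl
    rw [h0 x, h0 y]
  · intro h
    haveI := Groth.Agent.Helper1.ExtDual.subsingleton_dual_of_subsingleton k
      (Coh.HH (CohB1.ProjSpace n k) F (n - i))
    exact e.toEquiv.subsingleton

end Groth.Agent.S10950
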