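import Groth.Statements.S10953
import Groth.Agent.Lead.LocalAllied

set_option autoImplicit false
universe u
open RedSep

namespace Groth.Agent.S10953

open AlgebraicGeometry CategoryTheory CategoryTheory.Limits in
theorem aux {X S : Scheme.{u}} [IsAffine S] (f : X ⟶ S)
    (h : ∀ x y : X, f x = f y → ∃ U : X.Opens, IsAffineOpen U ∧ x ∈ U ∧ y ∈ U) :
    IsSeparated f := by
  apply Groth.Agent.Lead.LocalAllied.isSeparated_of_fst_eq_snd
  intro z hz
  set p₁ := pullback.fst f f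
  set p₂ := pullback.snd f f
  set Δ := pullback.diagonal f
  have hfib : f (p₁ z) = f (p₂ z) := by
    rw [← Scheme.Hom.comp_apply, ← Scheme.Hom.comp_apply, pullback.condition]
  obtain ⟨U, hU, hxU, hyU⟩ := h _ _ hfib
  haveI : IsAffine (U : Scheme.{u}) := hU
  let W : (pullback f f).Opens := p₁ ⁻¹ᵁ U ⊓ p₂ ⁻¹ᵁ U
  have hzW : z ∈ W := ⟨hxU, hyU⟩
  -- the two projections W → U
  have hr₁ : Set.range (W.ι ≫ p₁) ⊆ Set.range U.ι := by
    rintro _ ⟨w, rfl⟩
    rw [Scheme.Opens.range_ι]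
    exact w.2.1
  have hr₂ : Set.range (W.ι ≫ p₂) ⊆ Set.range U.ι := by
    rintro _ ⟨w, rfl⟩
    rw [Scheme.Opens.range_ι]
    exact w.2.2
  let a₁ : (W : Scheme.{u}) ⟶ U := IsOpenImmersion.lift U.ι (W.ι ≫ p₁) hr₁
  let a₂ : (W : Scheme.{u}) ⟶ U := IsOpenImmersion.lift U.ι (W.ι ≫ p₂) hr₂
  have ha₁ : a₁ ≫ U.ι = W.ι ≫ p₁ := IsOpenImmersion.lift_fac _ _ _
  have ha₂ : a₂ ≫ U.ι = W.ι ≫ p₂ := IsOpenImmersion.lift_fac _ _ _
  -- the restricted diagonal U → W
  have hrδ : Set.range (U.ι ≫ Δ) ⊆ Set.range W.ι := by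
    rintro _ ⟨u, rfl⟩
    rw [Scheme.Opens.range_ι]
    refine ⟨?_, ?_⟩
    · show p₁ ((U.ι ≫ Δ) u) ∈ U
      rw [← Scheme.Hom.comp_apply, Category.assoc, pullback.diagonal_fst, Category.comp_id]
      exact u.2
    · show p₂ ((U.ι ≫ Δ) u) ∈ U
      rw [← Scheme.Hom.comp_apply, Category.assoc, pullback.diagonal_snd, Category.comp_id]
      exact u.2
  let δ : (U : Scheme.{u}) ⟶ W := IsOpenImmersion.lift W.ι (U.ι ≫ Δ) hrδ
  have hδ : δ ≫ W.ι = U.ι ≫ Δ := IsOpenImmersion.lift_fac _ _ _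
  have hδ₁ : δ ≫ a₁ = 𝟙 _ := by
    rw [← cancel_mono U.ι, Category.assoc, ha₁, ← Category.assoc, hδ, Category.assoc,
      pullback.diagonal_fst, Category.comp_id, Category.id_comp]
  have hδ₂ : δ ≫ a₂ = 𝟙 _ := by
    rw [← cancel_mono U.ι, Category.assoc, ha₂, ← Category.assoc, hδ, Category.assoc,
      pullback.diagonal_snd, Category.comp_id, Category.id_comp]
  -- the equalizer
  let ιE := equalizer.ι a₁ a₂
  haveI : IsClosedImmersion ιE := inferInstance
  have hclosed : IsClosed (Set.range ιE) := ιE.isClosedEmbedding.isClosed_range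
  let lE : (U : Scheme.{u}) ⟶ equalizer a₁ a₂ := equalizer.lift δ (by rw [hδ₁, hδ₂])
  have hlE : lE ≫ ιE = δ := equalizer.lift_ι _ _
  -- z' ∈ W over z
  let z' : (W : Scheme.{u}) := ⟨z, hzW⟩
  have hz' : W.ι z' = z := rfl
  have hmem : z' ∈ Set.range ιE := by
    rw [← hclosed.closure_eq, mem_closure_iff]
    intro N hN hzN
    have hopen : IsOpen (W.ι '' N) := W.ι.isOpenEmbedding.isOpenMap _ hN
    obtain ⟨_, hmemN, ⟨x', rfl⟩⟩ := mem_closure_iff.mp hz _ hopen ⟨z', hzN, hz'⟩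
    obtain ⟨n', hn'N, hn'⟩ := hmemN
    have hx'U : x' ∈ U := by
      have : W.ι n' ∈ W := by
        have := Set.mem_range_self (f := W.ι) n'
        rwa [Scheme.Opens.range_ι] at this
      rw [hn'] at this
      have h1 : p₁ (Δ x') ∈ U := this.1
      rwa [← Scheme.Hom.comp_apply, pullback.diagonal_fst] at h1
    let u' : (U : Scheme.{u}) := ⟨x', hx'U⟩
    have hn'eq : n' = δ u' := by
      apply W.ι.injective
      rw [hn', ← Scheme.Hom.comp_apply, hδ, Scheme.Hom.comp_apply]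
      rfl
    refine ⟨n', hn'N, lE u', ?_⟩
    rw [← Scheme.Hom.comp_apply, hlE, hn'eq]
  obtain ⟨e, he⟩ := hmem
  have hcond : a₁ z' = a₂ z' := by
    rw [← he, ← Scheme.Hom.comp_apply, ← Scheme.Hom.comp_apply, equalizer.condition]
  have h1 : p₁ z = U.ι (a₁ z') := by
    rw [← Scheme.Hom.comp_apply, ha₁, Scheme.Hom.comp_apply, hz']
  have h2 : p₂ z = U.ι (a₂ z') := by
    rw [← Scheme.Hom.comp_apply, ha₂, Scheme.Hom.comp_apply, hz']
  rw [h1, h2, hcond]

open AlgebraicGeometry CategoryTheory in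
/-- For a morphism of schemes f : X → S to an affine scheme S such that any two points of X with the
same image in S lie in one common affine open subset of X, the morphism f is separated. -/
theorem result {X S : Scheme.{u}} [IsAffine S] (f : X ⟶ S)
    (h : ∀ x y : X, f x = f y → ∃ U : X.Opens, IsAffineOpen U ∧ x ∈ U ∧ y ∈ U) :
    IsSeparated f := by
  exact aux f h

end Groth.Agent.S10953
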