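import Groth.Statements.S10965
import Groth.Agent.Helper1.VA6

set_option autoImplicit false
universe u
open CategoryTheory CategoryTheory.Limits AlgebraicGeometry
open RelAmple

namespace Groth.Agent.S10965

/-- Let S be an affine scheme, q : X → S a morphism of schemes and L an invertible O_X-module that is
very ample relative to q, in the sense that there are n and an immersion i : X → P^n_S over S with
i^*O(1) ≅ L. If L' is a second invertible O_X-module generated by finitely many global sections s_1,
…, s_m (their germs span every stalk), then L ⊗ L' is very ample relative to q in the same sense. -/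
theorem result {X S : Scheme.{u}} [IsAffine S] (q : X ⟶ S)
    (L L' : X.Modules) (hL : PicF.IsInvertible L) (hva : RelAmple.IsRelVeryAmplePn q L)
    (hL' : PicF.IsInvertible L') {m : ℕ} (s : Fin m → ProjUP.Γm L') (hs : ProjUP.GeneratedBy L' s) :
    RelAmple.IsRelVeryAmplePn q (CohB1.tensorMod L L') := by
  rcases m with _ | m
  · -- no sections: `X` is empty
    have hX : IsEmpty X := by
      constructor
      intro x
      have h1 := hs x
      have h2 : (Set.range fun i : Fin 0 => (L'.presheaf.germ ⊤ x trivial).hom (s i)) = ∅ :=
        Set.range_eq_empty _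
      rw [h2, Submodule.span_empty] at h1
      -- the stalk of an invertible module is nonzero
      let σ₀ : Fin 0 → (Coh.structureModule X ⟶ L') := fun k => k.elim0
      have hs' : ProjUP.GeneratedBy L' (fun e => (Groth.Agent.Helper1.PUP.sec (σ₀ e) ⊤ :
          ProjUP.Γm L')) := by
        intro y
        have h3 := hs y
        have h4 : (Set.range fun i : Fin 0 => (L'.presheaf.germ ⊤ y trivial).hom (s i)) = ∅ :=
          Set.range_eq_empty _
        have h5 : (Set.range fun i : Fin 0 => (L'.presheaf.germ ⊤ y trivial).hom
            (Groth.Agent.Helper1.PUP.sec (σ₀ i) ⊤ : ProjUP.Γm L')) = ∅ :=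
          Set.range_eq_empty _
        rw [h5, ← h4]
        exact h3
      have hcov := Groth.Agent.Helper1.PUP.iSup_XE_eq_top hL' σ₀ hs'
      have hx : x ∈ ⨆ e, Groth.Agent.Helper1.PUP.XE σ₀ e := by rw [hcov]; trivial
      obtain ⟨e, -⟩ := TopologicalSpace.Opens.mem_iSup.mp hx
      exact e.elim0
    exact Groth.Agent.Helper1.VA.isRelVeryAmplePn_tensor q L L' hL hva hL'
      (fun _ : Fin 1 => (0 : ProjUP.Γm L')) (fun x => (hX.false x).elim)
  · exact Groth.Agent.Helper1.VA.isRelVeryAmplePn_tensor q L L' hL hva hL' s hs

end Groth.Agent.S10965
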