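import Groth.Statements.S10966
import Groth.Agent.Helper1.VA10
import Groth.Agent.Helper4.QAffSec

set_option autoImplicit false
universe u
open CategoryTheory CategoryTheory.Limits AlgebraicGeometry
open RelAmple

namespace Groth.Agent.S10966

/-- powers of the structure module are trivial -/
noncomputable def powUnitIso (X : Scheme.{u}) : ∀ n : ℕ,
    CohB1.tensorPow (Coh.structureModule X) n ≅ Coh.structureModule X
  | 0 => Iso.refl _
  | n + 1 => SecTwist.unitorR (CohB1.tensorPow (Coh.structureModule X) n) ≪≫ powUnitIso X n

/-- Let R be a nonzero ring and X an affine scheme of finite type over R, with structure morphism q : X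
→ Spec R. Then every invertible O_X-module L is very ample relative to q: there are a natural number
n and an immersion i : X → P^n over Spec R, compatible with q, such that i^*O(1) ≅ L. -/
theorem result (R : Type u) [CommRing R] [Nontrivial R]
    {X : Scheme.{u}} [IsAffine X] (q : X ⟶ Spec (CommRingCat.of R)) [LocallyOfFiniteType q]
    (L : X.Modules) (hL : PicF.IsInvertible L) :
    RelAmple.IsRelVeryAmplePn q L := by
  have hO : CohB1.IsAmple (Coh.structureModule X) :=
    Groth.Agent.Helper4.QAffSec.isAmple_of_isQuasiAffine _
      Groth.Agent.Helper4.TensorInv.isInvertible_structureModule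
  obtain ⟨n₀, hn₀⟩ := Groth.Agent.Helper1.VA.exists_forall_veryAmple q hO L hL
  exact Groth.Agent.Helper1.VA.isRelVeryAmplePn_of_iso q
    (PicGrp.tensorModIso (powUnitIso X n₀) (Iso.refl L) ≪≫
      Groth.Agent.Helper4.AmpleBasis.unitorL L) (hn₀ n₀ le_rfl)

end Groth.Agent.S10966
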