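import Groth.Statements.S1098
import Mathlib
import Groth.Agent.Helper9.GL9
-- import your own Groth.Agent.* helpers here

set_option autoImplicit false
universe u
open CategoryTheory CategoryTheory.Limits AlgebraicGeometry Opposite
attribute [local instance] HasDerivedCategory.standard
open Perf

namespace Groth.Agent.S1098

/-- Let the scheme X be quasi-compact and quasi-separated, U ⊆ X a quasi-compact open (restriction to U
assumed exact), T ⊆ X closed with quasi-compact complement, E ∈ D(O_X) with quasi-coherent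
cohomology sheaves, and P a perfect object of D(O_U) whose cohomology sheaves are supported on T ∩
U, with a morphism α : P ⟶ E|_U. Then there are a perfect object R of D(O_X) with cohomology sheaves
supported on T, a morphism β : R ⟶ E, and morphisms i : P ⟶ R|_U, p : R|_U ⟶ P exhibiting P as a
direct summand of R|_U, with i ≫ β|_U = α. -/
theorem result (X : Scheme.{u}) [CompactSpace ↥X] [QuasiSeparatedSpace ↥X]
    (U : X.Opens) (hU : IsCompact (U : Set X)) [PreservesFiniteLimits (Scheme.Modules.restrictFunctor U.ι)] (T : Set X) (hT : IsClosed T) (hTc : IsCompact Tᶜ)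
    (E : DCoh.D X) (hE : DCoh.IsQCohD E)
    (P : DCoh.D (U : Scheme.{u})) (hP : DCoh.IsPerfect P) (hPT : ∀ k : ℤ, CohB1.support (DCoh.HD P k) ⊆ {x : ↥(U : Scheme.{u}) | U.ι.base x ∈ T})
    (α : P ⟶ (DCoh.restrictD U.ι).obj E) :
    ∃ (R : DCoh.D X) (β : R ⟶ E) (i : P ⟶ (DCoh.restrictD U.ι).obj R) (p : (DCoh.restrictD U.ι).obj R ⟶ P),
      DCoh.IsPerfect R ∧ (∀ k : ℤ, CohB1.support (DCoh.HD R k) ⊆ T) ∧ i ≫ p = 𝟙 P ∧ i ≫ (DCoh.restrictD U.ι).map β = α := by
  have hretro : IsRetrocompact Tᶜ := by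
    intro K hK hKo
    exact QuasiSeparatedSpace.inter_isCompact _ _ hT.isOpen_compl hTc hKo hK
  let Vt : X.Opens := ⟨Tᶜ, hT.isOpen_compl⟩
  have hX : IsCompact (((⊤ : X.Opens)) : Set X) := by
    rw [TopologicalSpace.Opens.coe_top]; exact isCompact_univ
  have H := Groth.Agent.Helper9.GL9.extProp_of_range X U hU Vt hretro ⊤ hX X (𝟙 X) (by
    rw [sup_top_eq, TopologicalSpace.Opens.coe_top]
    ext x
    simp only [Set.mem_range, Set.mem_univ, iff_true]
    exact ⟨x, rfl⟩) U.ι (Category.comp_id _)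
  obtain ⟨R, β, i, p, hR, hRz, hip, hiβ⟩ := H E hE P hP (fun k y hy hys => hy (hPT k hys)) α
  refine ⟨R, β, i, p, hR, ?_, hip, hiβ⟩
  intro k x hx
  by_contra hxT
  exact hRz k x hxT hx

end Groth.Agent.S1098
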