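import Groth.Statements.S11017
-- import your own Groth.Agent.* helpers here

set_option autoImplicit false
open FunFld

namespace Groth.Agent.S11017

/-- For a Weil differential `ω` with divisor `C`, `ord_P [ω] ≥ e` iff `ω` kills every repartition
concentrated at `P` with `P`-component of order at least `-e`. -/
theorem result (k K : Type*) [Field k] [Field K] [Algebra k K] (ω : Module.Dual k (FunFld.adele k K)) (C : FunFld.Divisor k K) (hω : FunFld.IsDivOf ω C)
    (P : FunFld.Place k K) (e : ℤ) :
    e ≤ C P ↔ ∀ (a : FunFld.Place k K → K) (ha : a ∈ FunFld.adele k K),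
      (∀ Q, Q ≠ P → a Q = 0) → P.1 (a P) ≤ WithZero.exp e → ω ⟨a, ha⟩ = 0 := by
  classical
  constructor
  · intro he a ha hconc hPa
    have hωC : ω ∈ FunFld.WD C := (hω C).mpr le_rfl
    rw [FunFld.WD, Submodule.mem_dualAnnihilator] at hωC
    apply hωC
    show a ∈ FunFld.AD C ⊔ LinearMap.range (FunFld.diag k K)
    apply Submodule.mem_sup_left
    intro Q
    by_cases hQ : Q = P
    · subst hQ
      exact hPa.trans (WithZero.exp_le_exp.mpr he)
    · rw [hconc Q hQ]; simp
  · intro h
    by_contra hlt
    push Not at hlt
    set E : FunFld.Divisor k K := C + Finsupp.single P (e - C P) with hE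
    have hEP : E P = e := by simp [hE]
    have hEQ : ∀ Q, Q ≠ P → E Q = C Q := by
      intro Q hQ
      simp [hE, Finsupp.single_apply, Ne.symm hQ]
    have hωC : ω ∈ FunFld.WD C := (hω C).mpr le_rfl
    rw [FunFld.WD, Submodule.mem_dualAnnihilator] at hωC
    have hωE : ω ∈ FunFld.WD E := by
      rw [FunFld.WD, Submodule.mem_dualAnnihilator]
      intro a ha
      have ha' : (a : FunFld.Place k K → K) ∈ FunFld.AD E ⊔ LinearMap.range (FunFld.diag k K) := ha
      obtain ⟨b, hb, c, ⟨y, rfl⟩, hbc⟩ := Submodule.mem_sup.mp ha'
      -- b'' concentrated at P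
      let b2 : FunFld.Place k K → K := fun Q => if Q = P then b P else 0
      have hb2 : b2 ∈ FunFld.adele k K := by
        show ∀ᶠ Q : FunFld.Place k K in Filter.cofinite, Q.1 (b2 Q) ≤ 1
        rw [Filter.eventually_cofinite]
        apply Set.Finite.subset (Set.finite_singleton P)
        intro Q hQ
        by_contra hne
        apply hQ
        have : b2 Q = 0 := by simp [b2, show Q ≠ P from hne]
        rw [this]; simp
      have h1 : ω ⟨b2, hb2⟩ = 0 := by
        apply h b2 hb2
        · intro Q hQ; simp [b2, hQ]
        · have := hb P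
          rw [hEP] at this
          simpa [b2] using this
      have hdiff : (a : FunFld.Place k K → K) - b2 ∈ FunFld.adele k K :=
        (FunFld.adele k K).sub_mem a.2 hb2
      have h2 : ω ⟨(a : FunFld.Place k K → K) - b2, hdiff⟩ = 0 := by
        apply hωC
        show (a : FunFld.Place k K → K) - b2 ∈ FunFld.AD C ⊔ LinearMap.range (FunFld.diag k K)
        rw [← hbc]
        have : b + (FunFld.diag k K) y - b2 = (b - b2) + (FunFld.diag k K) y := by abel
        rw [this]
        refine Submodule.add_mem_sup ?_ ⟨y, rfl⟩
        intro Q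
        by_cases hQ : Q = P
        · subst hQ
          simp [b2]
        · have := hb Q
          rw [hEQ Q hQ] at this
          simpa [b2, hQ] using this
      have hsum : a = ⟨(a : FunFld.Place k K → K) - b2, hdiff⟩ + ⟨b2, hb2⟩ := by
        apply Subtype.ext
        simp
      rw [hsum, map_add, h1, h2, add_zero]
    have hle : E ≤ C := (hω E).mp hωE
    have := hle P
    rw [hEP] at this
    exact absurd this (not_le.mpr hlt)

end Groth.Agent.S11017
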