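import Groth.Statements.S11041
import Groth.Agent.Helper4.SN538
import Mathlib

set_option autoImplicit false
open FunFld

namespace Groth.Agent.S11041


/-- The Riemann hypothesis for a function field `K` of one variable over a finite field with `q`
elements: every complex root `z` of `L_K(t) = (1 - t)(1 - q t) Z_K(t)` satisfies `|z|² q = 1`;
equivalently the reciprocal roots `αᵢ` all have `|αᵢ| = q^{1/2}`. -/
theorem result
    (k K : Type*) [Field k] [Finite k] [Field K] [Algebra k K]
    (hK : FunFld.IsFunctionField k K) (p : Polynomial ℤ)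
    (hp : (p : PowerSeries ℤ) = FunFld.numerZ k K) (z : ℂ)
    (hz : (p.map (Int.castRingHom ℂ)).IsRoot z) :
    ‖z‖ ^ 2 * (Nat.card k : ℝ) = 1 := by

  exact Groth.Agent.Helper4.SN533.rh_root hK (Groth.Agent.Helper4.SN538.nsBound hK) p hp z hz

end Groth.Agent.S11041
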