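import Groth.Statements.S11042
import Groth.Agent.Helper4.SN538
import Mathlib

set_option autoImplicit false
open FunFld

namespace Groth.Agent.S11042


/-- A function field of one variable of genus `g` over a finite field with `q` elements has `N` places
of degree one with `|N - q - 1| ≤ 2 g √q`. -/
theorem result
    (k K : Type*) [Field k] [Finite k] [Field K] [Algebra k K]
    (hK : FunFld.IsFunctionField k K) :
    |(Nat.card {P : FunFld.Place k K // P.deg = 1} : ℝ) - (Nat.card k : ℝ) - 1| ≤
      2 * (FunFld.genus k K : ℝ) * Real.sqrt (Nat.card k : ℝ) := by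

  exact Groth.Agent.Helper4.SN533.hasse_weil hK (Groth.Agent.Helper4.SN538.nsBound hK)

end Groth.Agent.S11042
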