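import Groth.Statements.S11043
import Mathlib
import Groth.Agent.Helper5.RootProd

set_option autoImplicit false
open FunFld

namespace Groth.Agent.S11043

/-- For positive integers `n`, `d` with `e = gcd(n, d)`, in `ℂ[t]` one has `(1 - t^{nd/e})^e = ∏_{θⁿ =
1} (1 - (θ t)^d)`, the product over the complex `n`-th roots of unity. -/
theorem result (n d : ℕ) (hn : 0 < n) (hd : 0 < d) :
    ((1 : Polynomial ℂ) - Polynomial.X ^ (n * d / Nat.gcd n d)) ^ Nat.gcd n d =
      ∏ θ ∈ Polynomial.nthRootsFinset n (1 : ℂ),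
        (1 - Polynomial.C (θ ^ d) * Polynomial.X ^ d) := by
  apply Polynomial.funext
  intro t
  have he : 0 < Nat.gcd n d := Nat.gcd_pos_of_pos_left d hn
  obtain ⟨e, he'⟩ : ∃ e, e = Nat.gcd n d := ⟨_, rfl⟩
  obtain ⟨n', hn'⟩ : ∃ n', n = n' * e := by
    obtain ⟨c, hc⟩ := Nat.gcd_dvd_left n d
    exact ⟨c, by rw [he', mul_comm]; exact hc⟩
  have hζ : IsPrimitiveRoot (Complex.exp (2 * Real.pi * Complex.I / n)) n :=
    Complex.isPrimitiveRoot_exp n hn.ne'
  obtain ⟨ζ, hζd⟩ : ∃ ζ, ζ = Complex.exp (2 * Real.pi * Complex.I / n) := ⟨_, rfl⟩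
  rw [← hζd] at hζ
  have hn'pos : 0 < n' := by
    rcases Nat.eq_zero_or_pos n' with h | h
    · subst h; omega
    · exact h
  have hξ : IsPrimitiveRoot (ζ ^ d) n' := by
    have h1 : orderOf (ζ ^ d) = n' := by
      rw [orderOf_pow' _ hd.ne', ← hζ.eq_orderOf, ← he', hn']
      exact Nat.mul_div_cancel _ (he' ▸ he)
    rw [← h1]
    exact IsPrimitiveRoot.orderOf _
  have hexp : n * d / Nat.gcd n d = d * n' := by
    rw [← he', hn', mul_right_comm, Nat.mul_div_cancel _ (he' ▸ he), mul_comm]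
  rw [hexp, ← he']
  simp only [Polynomial.eval_pow, Polynomial.eval_sub, Polynomial.eval_one, Polynomial.eval_X,
    Polynomial.eval_prod, Polynomial.eval_mul, Polynomial.eval_C]
  rw [Groth.Agent.Helper5.RootProd.prod_nthRootsFinset_eq hζ (fun θ => 1 - θ ^ d * t ^ d)]
  have hper : ∀ j, (fun j => 1 - (ζ ^ j) ^ d * t ^ d) (n' + j) = (fun j => 1 - (ζ ^ j) ^ d * t ^ d) j := by
    intro j
    simp only
    have : (ζ ^ (n' + j)) ^ d = (ζ ^ j) ^ d := by
      rw [← pow_mul, add_mul, pow_add, mul_comm n' d, pow_mul, hξ.pow_eq_one, one_mul, pow_mul]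
    rw [this]
  rw [hn', Groth.Agent.Helper5.RootProd.prod_range_mul_of_periodic _ n' hper e]
  congr 1
  have h2 := hξ.pow_sub_pow_eq_prod_sub_mul (1 : ℂ) (t ^ d) hn'pos
  rw [Groth.Agent.Helper5.RootProd.prod_nthRootsFinset_eq hξ (fun θ => 1 - θ * t ^ d)] at h2
  rw [one_pow, ← pow_mul] at h2
  rw [h2]
  refine Finset.prod_congr rfl fun j _ => ?_
  rw [← pow_mul, ← pow_mul, mul_comm j d]

end Groth.Agent.S11043
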