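import Groth.Statements.S11049
import Mathlib
import Groth.Agent.Helper5.Codim

set_option autoImplicit false
open CAlg

namespace Groth.Agent.S11049

/-- For `k`-algebras `S ⊆ R` with `R` an integral domain and a nonzero `x ∈ S`, if `R/S` and `R/Rx` are
finite-dimensional over `k` then `dim_k R/Rx = dim_k S/Sx`. (The published statement allows `x = 0`;
then `R` is a field finite over `k` and the two sides are `dim_k R` and `dim_k S`, which differ for
`S = k ⊊ R`; the published proof multiplies by `x` as an injection, so `x ≠ 0` is assumed here.) -/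
theorem result
    (k R : Type*) [Field k] [CommRing R]
    [IsDomain R] [Algebra k R] (S : Subalgebra k R) (x : S) (hx : (x : R) ≠ 0)
    [Module.Finite k (R ⧸ Subalgebra.toSubmodule S)]
    [Module.Finite k (R ⧸ Ideal.span {(x : R)})] :
    Module.finrank k (R ⧸ Ideal.span {(x : R)}) = Module.finrank k (S ⧸ Ideal.span {x}) := by
  obtain ⟨Sm, hSm⟩ : ∃ Sm, Sm = Subalgebra.toSubmodule S := ⟨_, rfl⟩
  obtain ⟨xR, hxR⟩ : ∃ xR, xR = (Ideal.span {(x : R)}).restrictScalars k := ⟨_, rfl⟩
  obtain ⟨mx, hmx⟩ : ∃ mx : R →ₗ[k] R, mx = LinearMap.mulLeft k (x : R) := ⟨_, rfl⟩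
  obtain ⟨xS, hxS⟩ : ∃ xS, xS = Sm.map mx := ⟨_, rfl⟩
  have hmx_apply : ∀ r, mx r = (x : R) * r := by intro r; rw [hmx]; rfl
  have hmx_inj : Function.Injective mx := by
    intro a b hab
    rw [hmx_apply, hmx_apply] at hab
    exact mul_left_cancel₀ hx hab
  have hrange : LinearMap.range mx = xR := by
    ext r
    rw [hxR, Submodule.restrictScalars_mem, Ideal.mem_span_singleton', LinearMap.mem_range]
    constructor
    · rintro ⟨a, rfl⟩; exact ⟨a, by rw [hmx_apply, mul_comm]⟩
    · rintro ⟨a, rfl⟩; exact ⟨a, by rw [hmx_apply, mul_comm]⟩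
  have h1 : xS ≤ xR := by
    rw [hxS, ← hrange]
    exact LinearMap.map_le_range
  have h2 : xS ≤ Sm := by
    rw [hxS]
    rintro _ ⟨s, hs, rfl⟩
    rw [hmx_apply, hSm]
    rw [hSm] at hs
    exact S.mul_mem x.2 hs
  have hle : Sm ≤ xS.comap mx := by
    rw [hxS]; exact Submodule.le_comap_map _ _
  obtain ⟨φ, hφ⟩ : ∃ φ : (R ⧸ Sm) →ₗ[k] (R ⧸ xS), φ = Sm.mapQ xS mx hle := ⟨_, rfl⟩
  have hφ_range : LinearMap.range φ = xR.map xS.mkQ := by
    rw [← hrange, ← LinearMap.range_comp]
    have : LinearMap.range φ = LinearMap.range (φ.comp Sm.mkQ) := by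
      rw [LinearMap.range_comp, Submodule.range_mkQ, Submodule.map_top]
    rw [this]
    congr 1
    rw [hφ]
    exact Submodule.mapQ_mkQ _ _ _
  have hφ_inj : Function.Injective φ := by
    rw [← LinearMap.ker_eq_bot, hφ]
    unfold Submodule.mapQ
    rw [Submodule.ker_liftQ, LinearMap.ker_comp, Submodule.ker_mkQ, hxS,
      Submodule.comap_map_eq_of_injective hmx_inj, Submodule.mkQ_map_self]
  have : Module.Finite k (R ⧸ Sm) := by rw [hSm]; infer_instance
  have : Module.Finite k (R ⧸ xR) := by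
    rw [hxR]
    exact Module.Finite.equiv (Submodule.Quotient.restrictScalarsEquiv k (Ideal.span {(x : R)})).symm
  have : Module.Finite k ↥(xR.map xS.mkQ) := by
    rw [← hφ_range]; infer_instance
  have : Module.Finite k (R ⧸ xS) := Groth.Agent.Helper5.Codim.finite_of_tower xS xR h1
  have e1 := Groth.Agent.Helper5.Codim.tower xS xR h1
  have e2 := Groth.Agent.Helper5.Codim.tower xS Sm h2
  have e3 : Module.finrank k ↥(xR.map xS.mkQ) = Module.finrank k (R ⧸ Sm) := by
    rw [← hφ_range]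
    exact LinearMap.finrank_range_of_inj hφ_inj
  have e4 : Module.finrank k (R ⧸ Ideal.span {(x : R)}) = Module.finrank k (R ⧸ xR) := by
    rw [hxR]
    exact (LinearEquiv.finrank_eq (Submodule.Quotient.restrictScalarsEquiv k (Ideal.span {(x : R)}))).symm
  -- (d)
  obtain ⟨f, hf⟩ : ∃ f : S →ₗ[k] R ⧸ xS, f = xS.mkQ.comp S.val.toLinearMap := ⟨_, rfl⟩
  obtain ⟨g, hg⟩ : ∃ g : S →ₗ[k] S ⧸ Ideal.span {x}, g = (Ideal.Quotient.mkₐ k (Ideal.span {x})).toLinearMap := ⟨_, rfl⟩
  have hf_range : LinearMap.range f = Sm.map xS.mkQ := by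
    rw [hf, LinearMap.range_comp]
    congr 1
    rw [hSm]
    ext r
    simp
  have hg_surj : Function.Surjective g := by
    rw [hg]; exact Ideal.Quotient.mk_surjective
  have hker : LinearMap.ker f = LinearMap.ker g := by
    ext s
    rw [LinearMap.mem_ker, LinearMap.mem_ker, hf, hg]
    simp only [LinearMap.coe_comp, Function.comp_apply, AlgHom.toLinearMap_apply,
      Submodule.mkQ_apply, Submodule.Quotient.mk_eq_zero, Ideal.Quotient.mkₐ_eq_mk,
      Ideal.Quotient.eq_zero_iff_mem, Ideal.mem_span_singleton']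
    rw [hxS, Submodule.mem_map]
    constructor
    · rintro ⟨r, hr, hr'⟩
      rw [hSm] at hr
      refine ⟨⟨r, hr⟩, ?_⟩
      apply Subtype.ext
      rw [hmx_apply] at hr'
      simp only [Subalgebra.coe_mul, Subalgebra.coe_val] at hr' ⊢
      rw [mul_comm]; exact hr'
    · rintro ⟨a, rfl⟩
      refine ⟨(a : R), by rw [hSm]; exact a.2, ?_⟩
      rw [hmx_apply]
      simp [mul_comm]
  have e5 : Module.finrank k ↥(Sm.map xS.mkQ) = Module.finrank k (S ⧸ Ideal.span {x}) := by
    rw [← hf_range, ← LinearEquiv.finrank_eq (LinearMap.quotKerEquivRange f), hker,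
      LinearEquiv.finrank_eq (LinearMap.quotKerEquivOfSurjective g hg_surj)]
  omega

end Groth.Agent.S11049
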