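import Groth.Statements.S11050
import Groth.Agent.Helper5.FFSepGen

set_option autoImplicit false
open FunFld

namespace Groth.Agent.S11050

/-- Over an algebraically closed constant field, let `W` be a finite-dimensional subspace of the
function field `K` containing `1` and generating `K` over `k` (the span of an effective birational
projective map). Then `W` contains a separating variable `x`, and for each separating `x ∈ W` some
`y ∈ W` gives `K = k(x, y)`. -/
theorem result
    (k K : Type*) [Field k] [IsAlgClosed k] [Field K] [Algebra k K]
    (hK : FunFld.IsFunctionField k K) (W : Submodule k K)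
    [FiniteDimensional k W] (h1 : (1 : K) ∈ W)
    (hW : IntermediateField.adjoin k (W : Set K) = ⊤) :
    (∃ x ∈ W, Algebra.IsSeparable (IntermediateField.adjoin k ({x} : Set K)) K) ∧
    ∀ x ∈ W, Algebra.IsSeparable (IntermediateField.adjoin k ({x} : Set K)) K →
      ∃ y ∈ W, IntermediateField.adjoin k ({x, y} : Set K) = ⊤ := by
  have hg : FunFld.IsGeometric k K := Groth.Agent.Helper5.FF.isGeometric_of_perfectField k K hK
  haveI : Infinite k := IsAlgClosed.instInfinite
  refine ⟨Groth.Agent.Helper5.FF.exists_separating_mem hK hg W hW, fun x _ hsep => ?_⟩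
  have hx : Transcendental k x := by
    intro halg
    obtain ⟨x₀, hx₀, -⟩ := hK.1
    haveI : Algebra.IsAlgebraic k (IntermediateField.adjoin k ({x} : Set K)) :=
      IntermediateField.isAlgebraic_adjoin_simple halg.isIntegral
    haveI : Algebra.IsAlgebraic (IntermediateField.adjoin k ({x} : Set K)) K :=
      Algebra.IsSeparable.isAlgebraic _ _
    haveI : Algebra.IsAlgebraic k K :=
      Algebra.IsAlgebraic.trans k (IntermediateField.adjoin k ({x} : Set K)) K
    exact hx₀ (Algebra.IsAlgebraic.isAlgebraic x₀)
  exact Groth.Agent.Helper5.FF.exists_generator_mem W hW x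
    (Groth.Agent.Helper5.FF.finiteDimensional_adjoin hK hx) hsep

end Groth.Agent.S11050
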