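import Groth.Statements.S11053
import Groth.Agent.Helper6.StrongBound

set_option autoImplicit false
open FunFld

namespace Groth.Agent.S11053

/-- Over an algebraically closed constant field, let `τ` be a `k`-embedding of the function field `K` of
genus `g` into itself, of degree `deg τ = [K : τ(K)]`. A place is a strong fixed point of `τ` when
`τ` maps its maximal ideal into the square of that ideal. For every integer `n > g` there are at
most `1 + deg τ + (n + deg τ / n) g + 2g²(g-1)/n` strong fixed points. -/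
theorem result
    (k K : Type*) [Field k] [IsAlgClosed k] [Field K] [Algebra k K]
    (hK : FunFld.IsFunctionField k K) (τ : K →ₐ[k] K) (n : ℕ)
    (hn : FunFld.genus k K < n) :
    {P : FunFld.Place k K | ∀ x : K, P.1 x < 1 → P.1 (τ x) ≤ WithZero.exp (-2)}.Finite ∧
    (Set.ncard {P : FunFld.Place k K | ∀ x : K, P.1 x < 1 → P.1 (τ x) ≤ WithZero.exp (-2)} : ℝ) ≤
      1 + Module.finrank τ.fieldRange K +
        (n + (Module.finrank τ.fieldRange K : ℝ) / n) * FunFld.genus k K +
        2 * (FunFld.genus k K : ℝ) ^ 2 * (FunFld.genus k K - 1) / n := by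
  classical
  obtain ⟨a, ha, rfl⟩ : ∃ a, 0 < a ∧ n = a + FunFld.genus k K :=
    ⟨n - FunFld.genus k K, by omega, by omega⟩
  by_cases hne : ∃ P₀ : FunFld.Place k K, FunFld.IsStrongFixedPt τ P₀
  · obtain ⟨P₀, hP₀⟩ := hne
    obtain ⟨hfin, hcount⟩ := Groth.Agent.Helper6.StrongBound.strong_count_le hK τ ha P₀ hP₀
    refine ⟨hfin, ?_⟩
    have hR : (((a + FunFld.genus k K : ℕ) : ℤ) *
        (Set.ncard {P : FunFld.Place k K | FunFld.IsStrongFixedPt τ P} : ℤ) : ℤ) ≤ _ := hcount
    have hR' := (Int.cast_le (R := ℝ)).mpr hR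
    push_cast at hR' ⊢
    exact Groth.Agent.Helper6.StrongBound.real_bound _ _ (a : ℝ) (FunFld.genus k K : ℝ)
      (by exact_mod_cast ha) (by positivity) hR'
  · have hempty : {P : FunFld.Place k K | ∀ x : K, P.1 x < 1 → P.1 (τ x) ≤ WithZero.exp (-2)} =
        ∅ := by
      ext P
      simp only [Set.mem_setOf_eq, Set.mem_empty_iff_false, iff_false]
      exact fun h => hne ⟨P, h⟩
    rw [hempty, Set.ncard_empty]
    refine ⟨Set.finite_empty, ?_⟩
    push_cast
    exact Groth.Agent.Helper6.StrongBound.real_nonneg _ (a : ℝ) (FunFld.genus k K)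
      (by exact_mod_cast ha) (by positivity)

end Groth.Agent.S11053
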