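import Groth.Statements.S11079
import Mathlib

set_option autoImplicit false
universe u
open CAlg

namespace Groth.Agent.S11079

/-- Let L/K be a finite Galois extension of fields, n a natural number, and B a map from the Galois
group of L over K to the invertible n × n matrices over L such that B(σ) · σ(B(τ)) = B(στ) for all
σ, τ, where σ acts on matrices entrywise and στ is the automorphism applying τ first. Then there is
an invertible matrix A over L with B(σ) = A⁻¹ · σ(A) for every σ; that is, every 1-cocycle of the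
Galois group with values in GL_n(L) is a coboundary. -/
theorem result (K L : Type u) [Field K] [Field L]
    [Algebra K L] [FiniteDimensional K L] [IsGalois K L] (n : ℕ)
    (B : (L ≃ₐ[K] L) → GL (Fin n) L)
    (hB : ∀ σ τ : L ≃ₐ[K] L,
      (B σ : Matrix (Fin n) (Fin n) L) * (B τ : Matrix (Fin n) (Fin n) L).map σ = (B (σ * τ) : Matrix (Fin n) (Fin n) L)) :
    ∃ A : GL (Fin n) L, ∀ σ : L ≃ₐ[K] L,
      (B σ : Matrix (Fin n) (Fin n) L) = ((A⁻¹ : GL (Fin n) L) : Matrix (Fin n) (Fin n) L) * (A : Matrix (Fin n) (Fin n) L).map σ := by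
  classical
  -- the averaging map on vectors
  obtain ⟨b, hb⟩ : ∃ b : (Fin n → L) → (Fin n → L), ∀ x, b x =
      ∑ σ : L ≃ₐ[K] L, (B σ : Matrix (Fin n) (Fin n) L).mulVec (fun i => σ (x i)) := ⟨_, fun x => rfl⟩
  -- Dedekind independence
  have hded : ∀ c : (L ≃ₐ[K] L) → L, (∀ l : L, ∑ σ : L ≃ₐ[K] L, c σ * σ l = 0) → ∀ σ, c σ = 0 := by
    intro c hc
    have hli : LinearIndependent L (fun σ : L ≃ₐ[K] L => ((σ : L →* L) : L → L)) := by
      have h1 := linearIndependent_monoidHom L L
      refine h1.comp (fun σ : L ≃ₐ[K] L => ((σ : L →* L))) ?_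
      intro σ τ hστ
      ext l
      exact DFunLike.congr_fun hστ l
    rw [Fintype.linearIndependent_iff] at hli
    apply hli c
    funext l
    simp only [Finset.sum_apply, Pi.smul_apply, smul_eq_mul, Pi.zero_apply]
    exact hc l
  have hspan : Submodule.span L (Set.range b) = ⊤ := by
    by_contra hne
    obtain ⟨u, hu0, hu⟩ := Submodule.exists_le_ker_of_lt_top _ (lt_top_iff_ne_top.mpr hne)
    apply hu0
    have h1 : ∀ x : Fin n → L, u ((B 1 : Matrix (Fin n) (Fin n) L).mulVec x) = 0 := by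
      intro x
      have h2 : ∀ l : L, ∑ σ : L ≃ₐ[K] L,
          u ((B σ : Matrix (Fin n) (Fin n) L).mulVec (fun i => σ (x i))) * σ l = 0 := by
        intro l
        have h3 : u (b (l • x)) = 0 := hu (Submodule.subset_span ⟨_, rfl⟩)
        rw [hb, map_sum] at h3
        rw [← h3]
        refine Finset.sum_congr rfl fun σ _ => ?_
        have : (fun i => σ ((l • x) i)) = σ l • (fun i => σ (x i)) := by
          funext i
          simp
        rw [this, Matrix.mulVec_smul, map_smul, smul_eq_mul, mul_comm]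
      have := hded _ h2 1
      simpa using this
    refine LinearMap.ext fun x => ?_
    have hsurj : ∃ y, (B 1 : Matrix (Fin n) (Fin n) L).mulVec y = x := by
      refine ⟨((B 1)⁻¹ : GL (Fin n) L).val.mulVec x, ?_⟩
      rw [Matrix.mulVec_mulVec, ← Units.val_mul, mul_inv_cancel, Units.val_one, Matrix.one_mulVec]
    obtain ⟨y, rfl⟩ := hsurj
    rw [h1, LinearMap.zero_apply]
  -- a basis in the range of b
  obtain ⟨bs, hbs⟩ : ∃ bs : Module.Basis (Fin n) L (Fin n → L), ∀ j, bs j ∈ Set.range b := by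
    obtain ⟨ι, bs0, hsub⟩ : ∃ (ι : Type u) (bs0 : Module.Basis ι L (Fin n → L)), ∀ i, bs0 i ∈ Set.range b :=
      ⟨_, Module.Basis.ofSpan hspan.ge, fun i => Module.Basis.ofSpan_subset hspan.ge ⟨i, rfl⟩⟩
    have : Fintype ι := FiniteDimensional.fintypeBasisIndex bs0
    have hcard : Fintype.card ι = n := by
      rw [← Module.finrank_eq_card_basis bs0, Module.finrank_fin_fun]
    exact ⟨bs0.reindex (Fintype.equivFinOfCardEq hcard), fun j => by
      rw [Module.Basis.reindex_apply]; exact hsub _⟩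
  choose x hx using hbs
  -- the matrices
  obtain ⟨C, hC⟩ : ∃ C : Matrix (Fin n) (Fin n) L, C = Matrix.of fun i j => x j i := ⟨_, rfl⟩
  obtain ⟨A', hA'⟩ : ∃ A' : Matrix (Fin n) (Fin n) L,
      A' = ∑ σ : L ≃ₐ[K] L, (B σ : Matrix (Fin n) (Fin n) L) * C.map σ := ⟨_, rfl⟩
  have hA'bs : A' = (Pi.basisFun L (Fin n)).toMatrix bs := by
    refine Matrix.ext fun i j => ?_
    rw [Module.Basis.toMatrix_apply, Pi.basisFun_repr, ← hx j, hb, hA', Matrix.sum_apply, Finset.sum_apply]
    refine Finset.sum_congr rfl fun σ _ => ?_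
    rw [Matrix.mul_apply, Matrix.mulVec, dotProduct]
    refine Finset.sum_congr rfl fun k _ => ?_
    rw [Matrix.map_apply, hC, Matrix.of_apply]
  obtain ⟨Ainv, hAinv⟩ : ∃ Ainv : Matrix (Fin n) (Fin n) L, Ainv = bs.toMatrix (Pi.basisFun L (Fin n)) := ⟨_, rfl⟩
  have h1 : A' * Ainv = 1 := by
    rw [hA'bs, hAinv]; exact Module.Basis.toMatrix_mul_toMatrix_flip _ _
  have h2 : Ainv * A' = 1 := by
    rw [hA'bs, hAinv]; exact Module.Basis.toMatrix_mul_toMatrix_flip _ _
  have hkey : ∀ σ : L ≃ₐ[K] L, (B σ : Matrix (Fin n) (Fin n) L) * A'.map σ = A' := by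
    intro σ
    have hmap : A'.map σ = ∑ τ : L ≃ₐ[K] L, ((B τ : Matrix (Fin n) (Fin n) L).map σ) * C.map (σ * τ) := by
      have : A'.map σ = (σ : L →+* L).mapMatrix A' := rfl
      rw [this, hA', map_sum]
      refine Finset.sum_congr rfl fun τ _ => ?_
      rw [map_mul]
      congr 1
    rw [hmap, Finset.mul_sum]
    have h3 : ∀ τ : L ≃ₐ[K] L, (B σ : Matrix (Fin n) (Fin n) L) *
        (((B τ : Matrix (Fin n) (Fin n) L).map σ) * C.map (σ * τ))
        = (B (σ * τ) : Matrix (Fin n) (Fin n) L) * C.map (σ * τ) := by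
      intro τ
      rw [← Matrix.mul_assoc, hB]
    rw [Finset.sum_congr rfl (fun τ _ => h3 τ), hA']
    exact Fintype.sum_bijective (fun τ => σ * τ) (Group.mulLeft_bijective σ) _ _ (fun τ => rfl)
  refine ⟨⟨Ainv, A', h2, h1⟩, fun σ => ?_⟩
  show (B σ : Matrix (Fin n) (Fin n) L) = A' * Ainv.map σ
  have h4 : A'.map σ * Ainv.map σ = 1 := by
    have : A'.map σ * Ainv.map σ = (σ : L →+* L).mapMatrix (A' * Ainv) := by
      rw [map_mul]; rfl
    rw [this, h1, map_one]
  calc (B σ : Matrix (Fin n) (Fin n) L) = (B σ : Matrix (Fin n) (Fin n) L) * (A'.map σ * Ainv.map σ) := by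
        rw [h4, Matrix.mul_one]
    _ = A' * Ainv.map σ := by rw [← Matrix.mul_assoc, hkey]

end Groth.Agent.S11079
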