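import Groth.Statements.S4270
import Groth.Agent.Lead.ResPropC
import Groth.Agent.Helper4.AmpleBasis

set_option autoImplicit false
universe u
open CategoryTheory CategoryTheory.Limits AlgebraicGeometry
attribute [local instance] HasDerivedCategory.standard
open KSix

namespace Groth.Agent.S4270

/-- A scheme admitting an ample family of invertible modules has the resolution property: every
quasi-coherent module of finite type is a quotient of a finite locally free module. -/
theorem result (X : Scheme.{u}) (hX : MoreMor.HasAmpleFamily X) :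
    PerfAux.HasResolutionProperty X := by
  obtain ⟨hc, hch⟩ := hX
  have := hc
  have hch' : ∀ x : X, ∃ (M : X.Modules) (ρ : Coh.structureModule X ⟶ M), True ∧
      PicF.IsInvertible M ∧ x ∈ CohB1.genLocus M ρ ∧ IsAffineOpen (CohB1.genLocus M ρ) := by
    intro x
    obtain ⟨L, n, s, hL, -, hx, ha⟩ := hch x
    exact ⟨CohB1.tensorPow L n, s, trivial,
      Groth.Agent.Helper4.TensorInv.isInvertible_tensorPow hL n, hx, ha⟩
  have : QuasiSeparatedSpace X := by
    choose M ρ _ hM hx ha using hch'
    exact QuasiSeparatedSpace.of_isOpenCover (U := fun x => CohB1.genLocus (M x) (ρ x))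
      (eq_top_iff.mpr fun x _ => TopologicalSpace.Opens.mem_iSup.mpr ⟨x, hx x⟩)
      (fun x => Groth.Agent.Helper4.AmpleBasis.isRetrocompact_genLocus _ (hM x) (ρ x))
      (fun x => (ha x).isQuasiSeparated)
  intro F hF hFT
  have : F.IsQuasicoherent := hF
  obtain ⟨K, N, π, hπ, hN⟩ :=
    Groth.Agent.Lead.ResProp.exists_epi_of_charts F hFT (fun _ => True) hch'
  exact ⟨⨁ N, π, Groth.Agent.Lead.ResProp.isFinLocFree_biproduct K N
    (fun j => Groth.Agent.Lead.Ref1K.isFinLocFree_of_isInvertible _ (hN j).1), hπ⟩

end Groth.Agent.S4270
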