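import Groth.Statements.S11092
import Mathlib
import Groth.Agent.Helper5.KaehlerTr

set_option autoImplicit false
universe u v
open CAlg

namespace Groth.Agent.S11092

/-- Let k be an algebraically closed field, K a field finitely generated over k admitting a one-element
transcendence basis over k (a function field of dimension one), and L a finite extension field of K
with the compatible k-algebra structure. Then the K-linear map from the Kähler differentials of K
over k to those of L over k induced by the inclusion is either the zero map or injective, and it is
injective if and only if L is separable over K. (The published statement takes K ⊆ L to be the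
function fields of two elliptic curves related by a nonzero homomorphism; its proof uses only that
they are function fields of dimension one over k.) -/
theorem result (k : Type u) (K L : Type v)
    [Field k] [IsAlgClosed k] [Field K] [Field L] [Algebra k K] [Algebra k L] [Algebra K L]
    [IsScalarTower k K L] (hK : (⊤ : IntermediateField k K).FG)
    (hx : ∃ x : K, IsTranscendenceBasis k (fun _ : Unit => x)) [FiniteDimensional K L] :
    (KaehlerDifferential.map k k K L = 0 ∨ Function.Injective (KaehlerDifferential.map k k K L)) ∧
      (Function.Injective (KaehlerDifferential.map k k K L) ↔ Algebra.IsSeparable K L) := by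
  obtain ⟨x, hx⟩ := hx
  have hessK : Algebra.EssFiniteType k K := IntermediateField.fg_top_iff.mp hK
  have hessL : Algebra.EssFiniteType k L := Algebra.EssFiniteType.comp k K L
  obtain ⟨hrK, hfK⟩ := Groth.Agent.Helper5.KaehlerTr.finrank_eq (fun _ : Unit => x) hx
  have hxL : IsTranscendenceBasis k (algebraMap K L ∘ (fun _ : Unit => x)) := hx.algebraMap_comp
  obtain ⟨hrL, hfL⟩ := Groth.Agent.Helper5.KaehlerTr.finrank_eq _ hxL
  simp only [Fintype.card_unit] at hrK hrL
  -- zero or injective
  have hzi : KaehlerDifferential.map k k K L = 0 ∨
      Function.Injective (KaehlerDifferential.map k k K L) := by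
    by_cases h0 : KaehlerDifferential.map k k K L = 0
    · exact Or.inl h0
    · right
      obtain ⟨ω, hω⟩ : ∃ ω, KaehlerDifferential.map k k K L ω ≠ 0 := by
        by_contra hcon
        push Not at hcon
        exact h0 (LinearMap.ext hcon)
      have hω0 : ω ≠ 0 := by
        rintro rfl
        exact hω (map_zero _)
      have hspan := (finrank_eq_one_iff_of_nonzero' ω hω0).mp hrK
      rw [injective_iff_map_eq_zero]
      intro ω' hω'
      obtain ⟨c, rfl⟩ := hspan ω'
      rw [map_smul] at hω'
      rw [← algebraMap_smul L c, smul_eq_zero] at hω'
      rcases hω' with hc | hc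
      · rw [(map_eq_zero_iff _ (algebraMap K L).injective).mp hc, zero_smul]
      · exact absurd hc hω
  refine ⟨hzi, ?_, ?_⟩
  · intro hinj
    have hessKL : Algebra.EssFiniteType K L := inferInstance
    -- nonzero element
    obtain ⟨ω, hω0⟩ : ∃ ω : Ω[K⁄k], ω ≠ 0 := by
      have : Nontrivial Ω[K⁄k] := Module.nontrivial_of_finrank_pos (R := K) (by omega)
      exact exists_ne 0
    have hω : KaehlerDifferential.map k k K L ω ≠ 0 := fun h =>
      hω0 (hinj (h.trans (map_zero _).symm))
    have hspanL := (finrank_eq_one_iff_of_nonzero' _ hω).mp hrL
    have hsurjB : Function.Surjective (KaehlerDifferential.mapBaseChange k K L) := by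
      intro η
      obtain ⟨c, rfl⟩ := hspanL η
      refine ⟨TensorProduct.tmul K c ω, ?_⟩
      rw [KaehlerDifferential.mapBaseChange_tmul]
    have hsub : Subsingleton (Ω[L⁄K]) := by
      have hsurj := KaehlerDifferential.map_surjective k K L
      have hex := KaehlerDifferential.exact_mapBaseChange_map k K L
      refine ⟨fun a b => ?_⟩
      obtain ⟨a', rfl⟩ := hsurj a
      obtain ⟨b', rfl⟩ := hsurj b
      rw [(hex a').mpr (hsurjB a'), (hex b').mpr (hsurjB b')]
    have hunr : Algebra.FormallyUnramified K L := ⟨hsub⟩
    exact Algebra.FormallyUnramified.isSeparable K L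
  · intro hsep
    have het : Algebra.FormallyEtale K L := Algebra.FormallyEtale.of_isSeparable K L
    have hmk : Function.Injective (TensorProduct.mk K L Ω[K⁄k] 1) :=
      Module.FaithfullyFlat.tensorProduct_mk_injective _
    intro a b hab
    apply hmk
    apply (KaehlerDifferential.tensorKaehlerEquivOfFormallyEtale k K L).injective
    simp only [TensorProduct.mk_apply, KaehlerDifferential.tensorKaehlerEquivOfFormallyEtale_apply,
      KaehlerDifferential.mapBaseChange_tmul, one_smul]
    exact hab

end Groth.Agent.S11092
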