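import Groth.Statements.S11096
import Mathlib

set_option autoImplicit false
universe u
open Neron

namespace Groth.Agent.S11096

/-- Let a Weierstrass equation have coefficients in a commutative ring R and let I be an ideal with a₃,
a₄, a₆ ∈ I. If the discriminant Δ does not lie in I ^ 2, then a₆ does not lie in I ^ 2 and b₂ does
not lie in I. (For a discrete valuation ring with maximal ideal (π): if π divides a₃, a₄, a₆ and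
v(Δ) = 1, then v(a₆) = 1 and π does not divide b₂.) -/
theorem result {R : Type u} [CommRing R] (W : WeierstrassCurve R)
    (I : Ideal R) (h3 : W.a₃ ∈ I) (h4 : W.a₄ ∈ I) (h6 : W.a₆ ∈ I) (hΔ : W.Δ ∉ I ^ 2) :
    W.a₆ ∉ I ^ 2 ∧ W.b₂ ∉ I := by
  have hsq : ∀ x y, x ∈ I → y ∈ I → x * y ∈ I ^ 2 := fun x y hx hy => by
    rw [pow_two]; exact Ideal.mul_mem_mul hx hy
  have hb4 : W.b₄ ∈ I := by
    rw [WeierstrassCurve.b₄]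
    exact I.add_mem (I.mul_mem_left _ h4) (I.mul_mem_left _ h3)
  have hb6 : W.b₆ ∈ I := by
    rw [WeierstrassCurve.b₆]
    exact I.add_mem (I.pow_mem_of_mem h3 2 (by norm_num)) (I.mul_mem_left _ h6)
  have h1 : 8 * W.b₄ ^ 3 ∈ I ^ 2 := by
    have : 8 * W.b₄ ^ 3 = (8 * W.b₄) * (W.b₄ * W.b₄) := by ring
    rw [this]
    exact (I ^ 2).mul_mem_left _ (hsq _ _ hb4 hb4)
  have h2 : 27 * W.b₆ ^ 2 ∈ I ^ 2 := by
    have : 27 * W.b₆ ^ 2 = 27 * (W.b₆ * W.b₆) := by ring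
    rw [this]
    exact (I ^ 2).mul_mem_left _ (hsq _ _ hb6 hb6)
  have h3' : 9 * W.b₂ * W.b₄ * W.b₆ ∈ I ^ 2 := by
    have : 9 * W.b₂ * W.b₄ * W.b₆ = (9 * W.b₂) * (W.b₄ * W.b₆) := by ring
    rw [this]
    exact (I ^ 2).mul_mem_left _ (hsq _ _ hb4 hb6)
  have hrest : -W.a₁ * W.a₃ * W.a₄ + W.a₂ * W.a₃ ^ 2 - W.a₄ ^ 2 ∈ I ^ 2 := by
    have e : -W.a₁ * W.a₃ * W.a₄ + W.a₂ * W.a₃ ^ 2 - W.a₄ ^ 2 =
        (-W.a₁) * (W.a₃ * W.a₄) + W.a₂ * (W.a₃ * W.a₃) - W.a₄ * W.a₄ := by ring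
    rw [e]
    exact (I ^ 2).sub_mem ((I ^ 2).add_mem ((I ^ 2).mul_mem_left _ (hsq _ _ h3 h4))
      ((I ^ 2).mul_mem_left _ (hsq _ _ h3 h3))) (hsq _ _ h4 h4)
  have hb8 : W.b₈ = W.b₂ * W.a₆ + (-W.a₁ * W.a₃ * W.a₄ + W.a₂ * W.a₃ ^ 2 - W.a₄ ^ 2) := by
    rw [WeierstrassCurve.b₈, WeierstrassCurve.b₂]; ring
  have hb8I : W.b₈ ∈ I := by
    rw [hb8]
    exact I.add_mem (I.mul_mem_left _ h6) (Ideal.pow_le_self (by norm_num) hrest)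
  have key : W.b₂ ^ 2 * W.b₈ ∈ I ^ 2 → W.Δ ∈ I ^ 2 := fun h => by
    rw [WeierstrassCurve.Δ]
    have e : -W.b₂ ^ 2 * W.b₈ - 8 * W.b₄ ^ 3 - 27 * W.b₆ ^ 2 + 9 * W.b₂ * W.b₄ * W.b₆ =
      -(W.b₂ ^ 2 * W.b₈) - 8 * W.b₄ ^ 3 - 27 * W.b₆ ^ 2 + 9 * W.b₂ * W.b₄ * W.b₆ := by ring
    rw [e]
    exact (I ^ 2).add_mem ((I ^ 2).sub_mem ((I ^ 2).sub_mem ((I ^ 2).neg_mem h) h1) h2) h3'
  refine ⟨fun h => hΔ (key ?_), fun h => hΔ (key ?_)⟩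
  · refine (I ^ 2).mul_mem_left _ ?_
    rw [hb8]
    exact (I ^ 2).add_mem ((I ^ 2).mul_mem_left _ h) hrest
  · have : W.b₂ ^ 2 * W.b₈ = W.b₈ * (W.b₂ * W.b₂) := by ring
    rw [this]
    exact (I ^ 2).mul_mem_left _ (hsq _ _ h h)

end Groth.Agent.S11096
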