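import Groth.Statements.S1110
import Groth.Agent.Lead.ResPropE

set_option autoImplicit false
universe u
open CategoryTheory AlgebraicGeometry
open Perf

namespace Groth.Agent.S1110

/-- For an affine morphism f : X ⟶ Y over a quasi-compact, quasi-separated Y, the resolution property
passes from Y up to X. (The source also treats quasi-affine f.) -/
theorem result {X Y : Scheme.{u}} (f : X ⟶ Y) [IsAffineHom f] [CompactSpace ↥Y] [QuasiSeparatedSpace ↥Y]
    (hY : PerfAux.HasResolutionProperty Y) : PerfAux.HasResolutionProperty X := by
  intro F hF hFT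
  have : F.IsQuasicoherent := hF
  have : CompactSpace X := QuasiCompact.compactSpace_of_compactSpace f
  have : ((Scheme.Modules.pushforward f).obj F).IsQuasicoherent :=
    Groth.Agent.Helper4.QcohGlue.isQuasicoherent_pushforward f F
  have hc : Epi ((Scheme.Modules.pullbackPushforwardAdjunction f).counit.app F) :=
    ((Groth.Agent.Helper4.QAffCounit.isQuasiAffine_iff_separated_and_counit_epi f).1
      (Groth.Agent.Helper4.PullAmple.isQuasiAffine_of_isAffineHom f)).2 F hF
  obtain ⟨E, ψ, hE, hψ⟩ :=
    Groth.Agent.Lead.ResProp.exists_epi_pullback_finLocFree f hY F hFT hc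
  exact ⟨_, ψ, Groth.Agent.Lead.LocLift.isFinLocFree_pullback f hE, hψ⟩

end Groth.Agent.S1110
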