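import Groth.Statements.S11114
import Groth.Agent.Helper4.AcycLocal2
import Groth.Agent.Helper4.RDerTri
import Mathlib

set_option autoImplicit false
universe u
open CategoryTheory CategoryTheory.Limits AlgebraicGeometry
attribute [local instance] HasDerivedCategory.standard
open DCoh

namespace Groth.Agent.S11114


/-- Let Y be a quasi-compact quasi-separated scheme and assume the unbounded derived functor of global
sections RΓ(U, -) exists for every open U of Y (existence binder). A morphism φ : G₁ ⟶ G₂ in D(O_Y)
is an isomorphism if and only if for every affine open U of Y the morphism RΓ(U, φ|_U) of D(Ab),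
obtained from φ through restriction to U and derived global sections, is an isomorphism. -/
theorem result {Y : Scheme.{u}} [CompactSpace Y] [QuasiSeparatedSpace Y]
    [hR : ∀ U : Y.Opens, DCoh.HasRΓ (U : Scheme.{u})] {G₁ G₂ : DCoh.D Y} (φ : G₁ ⟶ G₂) :
    IsIso φ ↔ ∀ U : Y.Opens, IsAffineOpen U →
      IsIso ((DCoh.RΓ (U : Scheme.{u})).map ((DCoh.restrictD U.ι).map φ)) := by

  constructor
  · intro h U _
    infer_instance
  · intro h
    obtain ⟨C, g, k, hT⟩ := Pretriangulated.distinguished_cocone_triangle φ
    have hC : Limits.IsZero C := by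
      apply Groth.Agent.Helper4.AcycLocal.isZero_of_isZero_RΓ_affine
      intro U hU
      haveI := Groth.Agent.Helper4.SchAdj.isGrothendieckAbelian_modules (U : Scheme.{u})
      have hT' := (DCoh.restrictD U.ι).map_distinguished _ hT
      let β := (DCoh.gammaKh (U : Scheme.{u})).totalRightDerivedUnit DerivedCategory.Qh
        (HomotopyCategory.quasiIso (U : Scheme.{u}).Modules (ComplexShape.up ℤ))
      obtain ⟨c1, h1⟩ :=
        Groth.Agent.Helper4.RDerTri.exists_distinguished_map (DCoh.gammaAb (U : Scheme.{u}))
          (DCoh.RΓ (U : Scheme.{u})) β _ hT'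
      haveI : IsIso (Pretriangulated.Triangle.mk
          ((DCoh.RΓ (U : Scheme.{u})).map ((DCoh.restrictD U.ι).mapTriangle.obj
            (Pretriangulated.Triangle.mk φ g k)).mor₁)
          ((DCoh.RΓ (U : Scheme.{u})).map ((DCoh.restrictD U.ι).mapTriangle.obj
            (Pretriangulated.Triangle.mk φ g k)).mor₂) c1).mor₁ := h U hU
      exact (Pretriangulated.Triangle.isZero₃_iff_isIso₁ _ h1).2 inferInstance
    exact (Pretriangulated.Triangle.isZero₃_iff_isIso₁ _ hT).1 hC

end Groth.Agent.S11114
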