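import Groth.Statements.S11115
import Groth.Agent.Helper4.SchAdj
import Groth.Agent.Helper4.AdjWayOut
import Groth.Agent.Helper9.Lpull6
import Mathlib

set_option autoImplicit false
universe u
open CategoryTheory CategoryTheory.Limits AlgebraicGeometry
attribute [local instance] HasDerivedCategory.standard
open Perf

namespace Groth.Agent.S11115


/-- Let f : X ⟶ Y be a quasi-compact quasi-separated morphism of schemes and assume the unbounded
derived direct image Rf_* exists. If F in D(O_X) has cohomology sheaves vanishing below degree n,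
then so has Rf_* F. (The published statement restricts F to complexes with quasi-coherent
cohomology; this row allows any F.) -/
theorem result {X Y : Scheme.{u}} (f : X ⟶ Y) [QuasiCompact f] [QuasiSeparated f] [DCoh.HasRpush f]
    (F : DCoh.D X) (n : ℤ) [F.IsGE n] : ((DCoh.Rpush f).obj F).IsGE n := by

  haveI := Groth.Agent.Helper9.Lpull1.hasLpull f
  have adj := Groth.Agent.Helper4.SchAdj.adj f
  haveI : (DCoh.Lpull f).IsLeftAdjoint := adj.isLeftAdjoint
  refine Groth.Agent.Helper4.AdjWayOut.isGE_rightAdjoint adj ?_ F n inferInstance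
  intro Z b hZ
  haveI := hZ
  obtain ⟨Z0, hz0⟩ := HasZeroObject.zero (C := DCoh.D Y)
  have h0 : Groth.Agent.Helper9.Lpull6.GoodD b (0 : Z ⟶ Z0) := by
    refine ⟨fun i hi => ?_, ?_⟩
    · refine ⟨0, ?_, ?_⟩
      · exact (DerivedCategory.isZero_of_isLE Z b i hi).eq_of_src _ _
      · exact ((DerivedCategory.homologyFunctor _ i).map_isZero hz0).eq_of_src _ _
    · exact ⟨fun g h _ => ((DerivedCategory.homologyFunctor _ b).map_isZero hz0).eq_of_src _ _⟩
  have h1 := Groth.Agent.Helper9.Lpull6.goodD_lpull f (0 : Z ⟶ Z0) b h0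
  rw [DerivedCategory.isLE_iff]
  intro i hi
  have h2 := h1.1 i hi
  have h3 : IsZero ((DerivedCategory.homologyFunctor _ i).obj ((DCoh.Lpull f).obj Z0)) :=
    (DerivedCategory.homologyFunctor _ i).map_isZero ((DCoh.Lpull f).map_isZero hz0)
  exact h3.of_iso (asIso ((DerivedCategory.homologyFunctor _ i).map ((DCoh.Lpull f).map (0 : Z ⟶ Z0))))

end Groth.Agent.S11115
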