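import Groth.Statements.S11117
import Groth.Agent.Helper4.HasRD
import Mathlib

set_option autoImplicit false
universe u
open CategoryTheory CategoryTheory.Limits AlgebraicGeometry
attribute [local instance] HasDerivedCategory.standard
open Perf

namespace Groth.Agent.S11117


/-- Let f : X ⟶ Y be a morphism of schemes and assume the total left derived functor Lf^* of f^* exists.
For a family C_i of objects of D(O_Y) indexed by a small type, with direct sums ∐ C_i in D(O_Y) and
∐ Lf^* C_i in D(O_X), the canonical map ∐ Lf^* C_i ⟶ Lf^*(∐ C_i) is an isomorphism. (The published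
statement is for ringed spaces; this row is the case of schemes.) -/
theorem result {X Y : Scheme.{u}} (f : X ⟶ Y) [DCoh.HasLpull f] {ι : Type u} (C : ι → DCoh.D Y)
    [HasCoproduct C] [HasCoproduct (fun i => (DCoh.Lpull f).obj (C i))] :
    IsIso (Sigma.desc (fun i => (DCoh.Lpull f).map (Sigma.ι C i))) := by

  haveI := Groth.Agent.Helper4.HasRD.hasRpush f
  have adj := Groth.Agent.Helper4.SchAdj.adj f
  haveI : PreservesColimitsOfSize.{u, u} (DCoh.Lpull f) := adj.leftAdjoint_preservesColimits
  have : IsIso (sigmaComparison (DCoh.Lpull f) C) := inferInstance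
  exact this

end Groth.Agent.S11117
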