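import Groth.Statements.S11126
import Groth.Agent.Helper6.FaithAdjD

set_option autoImplicit false
universe w u₁ u₂
open CategoryTheory CategoryTheory.Limits
open CohDer

namespace Groth.Agent.S11126

/-- Let A and B be abelian categories with small hom-sets and all small colimits, B having exact
filtered colimits and a small family of noetherian objects which is separating. Let F : A ⥤ B be
faithful and exact with a right adjoint G preserving filtered colimits. Then A has exact filtered
colimits and admits a small separating family of noetherian objects. -/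
theorem result
    {A : Type u₁} [Category.{w} A] [Abelian A] [HasColimitsOfSize.{w, w} A]
    {B : Type u₂} [Category.{w} B] [Abelian B] [HasColimitsOfSize.{w, w} B] [AB5OfSize.{w, w} B]
    {ι : Type w} (s : ι → B) (hsN : ∀ i, IsNoetherianObject (s i))
    (hsep : ∀ ⦃X Y : B⦄ (f g : X ⟶ Y), (∀ (i : ι) (h : s i ⟶ X), h ≫ f = h ≫ g) → f = g)
    (F : A ⥤ B) (G : B ⥤ A) (adj : F ⊣ G) [F.Additive] [F.Faithful]
    [PreservesFiniteLimits F] [PreservesFiniteColimits F] [PreservesFilteredColimitsOfSize.{w, w} G] :
    AB5OfSize.{w, w} A ∧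
      ∃ (κ : Type w) (t : κ → A), (∀ k, IsNoetherianObject (t k)) ∧
        ∀ ⦃X Y : A⦄ (f g : X ⟶ Y), (∀ (k : κ) (h : t k ⟶ X), h ≫ f = h ≫ g) → f = g := by
  haveI : IsGrothendieckAbelian.{w} B := Groth.Agent.Helper6.FaithAdj.groth_of_sep s hsep
  haveI : WellPowered.{w} A := Groth.Agent.Helper6.FaithAdj.wellPowered_of_faithful F
  refine ⟨Groth.Agent.Helper6.FaithAdj.ab5 F G adj,
    {k : Groth.Agent.Helper6.FaithAdj.K0 s G //
      IsNoetherianObject (Groth.Agent.Helper6.FaithAdj.t0 s G k)},
    fun k => Groth.Agent.Helper6.FaithAdj.t0 s G k.1, fun k => k.2, ?_⟩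
  intro X Y f g h
  exact Groth.Agent.Helper6.FaithAdj.isSeparating_t0_noeth s hsep F G adj hsN f g h

end Groth.Agent.S11126
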