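import Groth.Statements.S11128
import Groth.Agent.Helper6.FaithAdjD

set_option autoImplicit false
universe w u₁ u₂
open CategoryTheory CategoryTheory.Limits
open CohDer

namespace Groth.Agent.S11128

/-- Suppose A is an abelian category that has small hom-sets and all small colimits, B is a Grothendieck
abelian category, and F : A ⥤ B is a faithful exact functor with a right adjoint G preserving
filtered colimits. Then A is a Grothendieck abelian category. -/
theorem result
    {A : Type u₁} [Category.{w} A] [Abelian A] [HasColimitsOfSize.{w, w} A]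
    {B : Type u₂} [Category.{w} B] [Abelian B] [IsGrothendieckAbelian.{w} B]
    (F : A ⥤ B) (G : B ⥤ A) (adj : F ⊣ G) [F.Additive] [F.Faithful]
    [PreservesFiniteLimits F] [PreservesFiniteColimits F] [PreservesFilteredColimitsOfSize.{w, w} G] :
    IsGrothendieckAbelian.{w} A := by
  haveI : AB5OfSize.{w, w} A := Groth.Agent.Helper6.FaithAdj.ab5 F G adj
  haveI : WellPowered.{w} A := Groth.Agent.Helper6.FaithAdj.wellPowered_of_faithful F
  have hsep : ∀ ⦃X Y : B⦄ (f g : X ⟶ Y),
      (∀ (i : PUnit.{w + 1}) (h : (fun _ : PUnit.{w + 1} => separator B) i ⟶ X),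
        h ≫ f = h ≫ g) → f = g :=
    fun X Y f g h => (isSeparator_separator B).def f g (fun u => h PUnit.unit u)
  have hshape : HasColimitsOfShape
      (Discrete (Groth.Agent.Helper6.FaithAdj.K0 (fun _ : PUnit.{w + 1} => separator B) G)) A :=
    HasColimitsOfSize.has_colimits_of_shape _
  haveI : HasCoproduct (Groth.Agent.Helper6.FaithAdj.t0 (fun _ : PUnit.{w + 1} => separator B) G) :=
    hshape.has_colimit _
  exact { hasSeparator := ⟨⟨∐ Groth.Agent.Helper6.FaithAdj.t0 (fun _ : PUnit.{w + 1} => separator B) G,
    (isSeparator_sigma _).2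
      (Groth.Agent.Helper6.FaithAdj.isSeparating_t0 (fun _ : PUnit.{w + 1} => separator B)
        hsep F G adj)⟩⟩ }

end Groth.Agent.S11128
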