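import Groth.Statements.S1114
import Mathlib
import Groth.Agent.Helper9.RH7
-- import your own Groth.Agent.* helpers here

set_option autoImplicit false
universe u
open CategoryTheory CategoryTheory.Limits AlgebraicGeometry Opposite
attribute [local instance] HasDerivedCategory.standard
open Perf

namespace Groth.Agent.S1114

/-- Let X be a scheme, K a cochain complex of O_X-modules whose image in D(O_X) is perfect, and L ∈
D(O_X) with quasi-coherent cohomology sheaves. Assuming - ⊗^L K and its right adjoint RHom(K, -)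
exist on D(O_X), RHom(K, L) has quasi-coherent cohomology sheaves. -/
theorem result (X : Scheme.{u}) (K : CochainComplex X.Modules ℤ) (hK : DCoh.IsPerfect (DCoh.toD X K)) [DCoh.HasLTensorCx K] [DCoh.HasRSheafHom K]
    (L : DCoh.D X) (hL : DCoh.IsQCohD L) : DCoh.IsQCohD ((DCoh.RSheafHom K).obj L) := by
  obtain ⟨P, q, hP, hq⟩ := Groth.Agent.Helper9.RH5.exists_kflat_resolution K
  haveI := Groth.Agent.Helper9.RH5.hasLTensorCx_of_isKFlat P hP
  have adj : DCoh.LTensorCx P ⊣ DCoh.RSheafHom K :=
    (DCoh.RSheafHomAdj K).ofNatIsoLeft (Groth.Agent.Helper9.RH5.ltIso' q hq).symm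
  haveI : IsIso (DerivedCategory.Q.map q) :=
    (DerivedCategory.isIso_Q_map_iff_quasiIso _ q).2 hq
  have eq : DerivedCategory.Q.obj P ≅ DCoh.toD X K := asIso (DerivedCategory.Q.map q)
  have hloc := (Groth.Agent.Lead.PerfLib.isPerfect_iff_locSP (DCoh.toD X K) P eq).1 hK
  apply Groth.Agent.Helper9.RH6f.isQCohD_of_local
  intro x
  obtain ⟨R, j, hj, hx, E, lo, hi, hE, hlo, hhi, ⟨e⟩⟩ :=
    Groth.Agent.Helper9.RH6f.exists_free_model P x (hloc x)
  haveI := hj
  exact ⟨R, j, hj, hx,
    Groth.Agent.Helper9.RH7.isQCohD_restrict_rhom R j P hP adj L hL E lo hi hE hlo hhi e⟩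

end Groth.Agent.S1114
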