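import Groth.Statements.S11141
import Mathlib
import Groth.Agent.Helper7.InvNorm

set_option autoImplicit false
universe u
open TensorProduct
open InvTh

namespace Groth.Agent.S11141

/-- Let k be a field, H a finitely generated commutative Hopf algebra over k (the coordinate ring of a
group scheme affine and of finite type over k), and S a commutative k-algebra which is
ring-isomorphic to a finite product of normal (integrally closed) domains and carries an H-comodule
structure whose coaction S → S ⊗ H is multiplicative and unital. Then the k-subalgebra of invariants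
of S, the elements s whose coaction is s ⊗ 1, is again ring-isomorphic to a finite product of normal
domains. -/
theorem result (k : Type u) [Field k]
    (H : Type u) [CommRing H] [HopfAlgebra k H] [Algebra.FiniteType k H]
    (S : Type u) [CommRing S] [Algebra k S] [HopfRep.Comod k H S]
    (hmul : ∀ x y : S, HopfRep.Comod.coact (k := k) (A := H) (x * y) =
        HopfRep.Comod.coact (k := k) (A := H) x * HopfRep.Comod.coact (k := k) (A := H) y)
    (hone : HopfRep.Comod.coact (k := k) (A := H) (1 : S) = 1)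
    {ι : Type u} [Fintype ι] (D : ι → Type u) [∀ i, CommRing (D i)] [∀ i, IsDomain (D i)]
    [∀ i, IsIntegrallyClosed (D i)] (e : S ≃+* Π i, D i)
    (A : Subalgebra k S)
    (hA : ∀ a : S, a ∈ A ↔ HopfRep.Comod.coact (k := k) (A := H) a = a ⊗ₜ[k] (1 : H)) :
    ∃ (κ : Type u) (_ : Fintype κ) (E : κ → Type u) (_ : ∀ j, CommRing (E j)) (_ : ∀ j, IsDomain (E j))
      (_ : ∀ j, IsIntegrallyClosed (E j)), Nonempty (A ≃+* Π j, E j) := by
  classical
  haveI : GLin.IsCoactAlg k H S := ⟨hone, hmul⟩
  -- two ring maps from the product to `S ⊗ H`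
  let f₁ : (Π i, D i) →+* S ⊗[k] H :=
    ((GLin.coactAlgHom k H S : S →ₐ[k] S ⊗[k] H) : S →+* S ⊗[k] H).comp (e.symm : (Π i, D i) →+* S)
  let f₂ : (Π i, D i) →+* S ⊗[k] H :=
    ((Algebra.TensorProduct.includeLeft : S →ₐ[k] S ⊗[k] H) : S →+* S ⊗[k] H).comp
      (e.symm : (Π i, D i) →+* S)
  have hf₁ : ∀ a, f₁ a = HopfRep.Comod.coact (k := k) (A := H) (e.symm a) := fun a => rfl
  have hf₂ : ∀ a, f₂ a = (e.symm a) ⊗ₜ[k] (1 : H) := fun a => rfl
  let F : Set ((Π i, D i) →+* S ⊗[k] H) := {f₁, f₂}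
  have hnzd : ∀ s ∈ nonZeroDivisors (Π i, D i), e.symm s ∈ nonZeroDivisors S := by
    intro s hs
    exact (MulEquivClass.map_nonZeroDivisors (e.symm)).symm ▸ ⟨s, hs, rfl⟩
  have hF : ∀ f ∈ F, ∀ s ∈ nonZeroDivisors (Π i, D i), f s ∈ nonZeroDivisors (S ⊗[k] H) := by
    intro f hf s hs
    rcases hf with rfl | rfl
    · rw [hf₁]
      exact Groth.Agent.Helper7.InvNorm.coact_mem_nonZeroDivisors (k := k) (A := H) (hnzd s hs)
    · rw [hf₂]
      exact Groth.Agent.Helper7.InvNorm.tmul_one_mem_nonZeroDivisors (k := k) (A := H) (hnzd s hs)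
  let A' : Subring (Π i, D i) := A.toSubring.map (e : S →+* Π i, D i)
  have hA' : ∀ a, a ∈ A' ↔ ∀ f ∈ F, ∀ f' ∈ F, f a = f' a := by
    intro a
    have hmem : a ∈ A' ↔ e.symm a ∈ A := by
      constructor
      · rintro ⟨s, hs, rfl⟩
        simpa using hs
      · intro h
        exact ⟨e.symm a, h, by simp⟩
    rw [hmem, hA]
    constructor
    · intro h f hf f' hf'
      rcases hf with rfl | rfl <;> rcases hf' with rfl | rfl
      · rfl
      · rw [hf₁, hf₂, h]
      · rw [hf₁, hf₂, h]
      · rfl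
    · intro h
      have := h f₁ (Or.inl rfl) f₂ (Or.inr rfl)
      rw [hf₁, hf₂] at this
      exact this
  obtain ⟨κ, hκ, E, hE1, hE2, hE3, ⟨φ⟩⟩ := Groth.Agent.Helper7.EqNormal.main F hF A' hA'
  refine ⟨κ, hκ, E, hE1, hE2, hE3, ⟨?_⟩⟩
  let ψ : A ≃+* A' := RingEquiv.subringMap (s := A.toSubring) e
  exact ψ.trans φ

end Groth.Agent.S11141
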