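import Groth.Statements.S11153
import Mathlib
import Groth.Agent.Helper9.InjAmp2
-- import your own Groth.Agent.* helpers here

set_option autoImplicit false
universe w v u
open CategoryTheory CategoryTheory.Limits
open CohDer

namespace Groth.Agent.S11153

/-- (i) ⇔ (iii): let A be an abelian category with enough injectives and K a bounded below cochain
complex of objects of A. Then K admits a quasi-isomorphism into a bounded complex of injective
objects of A if and only if there is an integer n₀ such that Hom_{D(A)}(Y[0], K[i]) = 0 for every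
object Y of A and every i > n₀. -/
theorem result {A : Type u} [Category.{v} A] [Abelian A]
    [HasDerivedCategory.{w} A] [EnoughInjectives A]
    (K : CochainComplex A ℤ) (a : ℤ) [K.IsStrictlyGE a] :
    (∃ (I : CochainComplex A ℤ) (b c : ℤ) (f : K ⟶ I), I.IsStrictlyGE b ∧ I.IsStrictlyLE c ∧
        (∀ n : ℤ, Injective (I.X n)) ∧ QuasiIso f) ↔
      ∃ n₀ : ℤ, ∀ (Y : A) (i : ℤ), n₀ < i →
        ∀ φ : (DerivedCategory.singleFunctor A 0).obj Y ⟶ (DerivedCategory.Q.obj K)⟦i⟧, φ = 0 := by
  constructor
  · rintro ⟨I, b, c, f, hb, hc, hinj, hf⟩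
    refine ⟨c, fun Y i hi φ => ?_⟩
    have hiso : IsIso (DerivedCategory.Q.map f) :=
      (DerivedCategory.isIso_Q_map_iff_quasiIso A _).mpr hf
    exact Groth.Agent.Helper9.InjAmp.ext_eq_zero_of_iso (DerivedCategory.Q.obj K) b I hinj
      (asIso (DerivedCategory.Q.map f)).symm Y i (I.isZero_of_isStrictlyLE c i hi) φ
  · rintro ⟨n₀, h⟩
    obtain ⟨L, i, hi, hL, hL'⟩ :=
      CochainComplex.Plus.modelCategoryQuillen.exists_quasiIso_injective K a
    have hiso : IsIso (DerivedCategory.Q.map i) :=
      (DerivedCategory.isIso_Q_map_iff_quasiIso A _).mpr hi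
    let e : DerivedCategory.Q.obj K ≅ DerivedCategory.Q.obj L := asIso (DerivedCategory.Q.map i)
    obtain ⟨h1, h2, h3⟩ := Groth.Agent.Helper9.InjAmp.truncLE_of_ext L a hL n₀ (by
      intro F j hj x
      have h0 := h F j hj (x ≫ e.inv⟦j⟧')
      rw [← cancel_mono (e.inv⟦j⟧'), h0, zero_comp])
    have hGE : (L.truncLE n₀).IsStrictlyGE a := by
      rw [CochainComplex.isStrictlyGE_iff]
      intro j hj
      exact h2 j (Or.inl hj)
    have hKI : (L.truncLE n₀).IsKInjective := CochainComplex.isKInjective_of_injective _ a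
    have hiso' : IsIso (DerivedCategory.Q.map (L.ιTruncLE n₀)) :=
      (DerivedCategory.isIso_Q_map_iff_quasiIso A _).mpr h3
    obtain ⟨g, hg⟩ := Groth.Agent.Helper9.PerfCone.exists_map_eq_of_isKInjective L (L.truncLE n₀)
      (inv (DerivedCategory.Q.map (L.ιTruncLE n₀)))
    have hgq : QuasiIso g := by
      rw [← DerivedCategory.isIso_Q_map_iff_quasiIso A, hg]
      infer_instance
    refine ⟨L.truncLE n₀, a, n₀, i ≫ g, hGE, inferInstance, h1, ?_⟩
    rw [← DerivedCategory.isIso_Q_map_iff_quasiIso A, Functor.map_comp]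
    have : IsIso (DerivedCategory.Q.map g) := by rw [hg]; infer_instance
    infer_instance

end Groth.Agent.S11153
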