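import Groth.Statements.S11164
import Groth.Agent.Lead.FlatQuot

set_option autoImplicit false
universe u
open CategoryTheory CategoryTheory.Limits AlgebraicGeometry
attribute [local instance] HasDerivedCategory.standard
open Coherent

namespace Groth.Agent.S11164

/-- Every O_X-module on a scheme X is a quotient of a flat O_X-module; precisely, for every O_X-module F
there are opens U_i of X and an epimorphism ∐ j_{U_i !} O_{U_i} ⟶ F, and such a direct sum of
extensions by zero of structure sheaves of opens is flat (all its stalks are flat over the local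
rings). -/
theorem result {X : Scheme.{u}} (F : X.Modules) :
    ∃ (ι : Type u) (U : ι → X.Opens) (p : (∐ fun i => CxOX.extZeroUnit (U i).ι) ⟶ F),
      Epi p ∧ FlatMod.IsFlat (∐ fun i => CxOX.extZeroUnit (U i).ι) := by
  exact ⟨(Σ U : X.Opens, Γ(F, U)), fun i => i.1,
  Sigma.desc fun i : (Σ U : X.Opens, Γ(F, U)) => Groth.Agent.Lead.FlatQuot.ofSec F i.1 i.2,
  Groth.Agent.Lead.FlatQuot.epi_desc F,
  Groth.Agent.Lead.FlatQuot.isFlat_coprod _⟩

end Groth.Agent.S11164
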