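import Groth.Statements.S11165
import Groth.Agent.Helper1.AffOpenAcyc

set_option autoImplicit false
universe u
open CategoryTheory CategoryTheory.Limits AlgebraicGeometry
open Coherent

namespace Groth.Agent.S11165

/-- Let f : X ⟶ Y be a separated morphism of schemes, U an open of X on which f restricts to an affine
morphism, i : U ⟶ X the inclusion and F a quasi-coherent O_X-module. Then i_*(F|_U) is acyclic for
f_*: its higher direct images R^j f_* vanish for j > 0. (The binder asserting injective resolutions
of O_X-modules always holds.) -/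
theorem result {X Y : Scheme.{u}} (f : X ⟶ Y) [IsSeparated f]
    (U : X.Opens) [IsAffineHom (U.ι ≫ f)] (F : X.Modules) (hF : Coh.IsQCoh F)
    [HasInjectiveResolutions X.Modules] (j : ℕ) (hj : 0 < j) :
    IsZero ((Coh.Rpush f j).obj ((Scheme.Modules.pushforward U.ι).obj ((Scheme.Modules.restrictFunctor U.ι).obj F))) := by
  obtain ⟨q, rfl⟩ := Nat.exists_eq_succ_of_ne_zero hj.ne'
  haveI : IsAffineHom U.ι := IsAffineHom.of_comp U.ι f
  haveI : F.IsQuasicoherent := hF
  haveI : ((Scheme.Modules.restrictFunctor U.ι).obj F).IsQuasicoherent :=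
    inferInstanceAs (F.restrict U.ι).IsQuasicoherent
  exact Groth.Agent.Helper1.AffOpenAcyc.isZero_Rpush_push U.ι f _ q

end Groth.Agent.S11165
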