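import Groth.Statements.S11184
import Groth.Agent.S5155
import Groth.Agent.Helper2.Coext2
import Groth.Agent.Helper2.MatB

set_option autoImplicit false
universe u
open Matlis

namespace Groth.Agent.S11184

/-- Let A be a Noetherian local ring with residue field k, k → E an injective hull of k, and B a finite
A-algebra (a semilocal ring all of whose maximal ideals lie over the maximal ideal of A). Then the
B-module Hom_A(B, E), with B acting by (b·φ)(b') = φ(bb'), is the internal direct sum over the
maximal ideals n of B of submodules J_n (independent, with supremum everything), where each J_n is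
an injective hull over B of the residue field B/n: each hull occurs exactly once. -/
theorem result (A B : Type u) [CommRing A] [IsLocalRing A] [IsNoetherianRing A] [CommRing B] [Algebra A B] [Module.Finite A B] (E : Type u) [AddCommGroup E] [Module A E] (f : IsLocalRing.ResidueField A →ₗ[A] E) (hf : InjHull.IsInjectiveHull f) : ∃ J : MaximalSpectrum B → Submodule B ((ModuleCat.coextendScalars (algebraMap A B)).obj (ModuleCat.of A E)), iSupIndep J ∧ iSup J = ⊤ ∧ ∀ n : MaximalSpectrum B, ∃ g : (B ⧸ n.asIdeal) →ₗ[B] J n, InjHull.IsInjectiveHull g := by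
  obtain ⟨hinj, htor, hsimple⟩ := (Groth.Agent.S5155.result A E).1 ⟨f, hf⟩
  have hHinj : Module.Injective B
      ((ModuleCat.coextendScalars (algebraMap A B)).obj (ModuleCat.of A E)) :=
    Groth.Agent.Helper2.Coext2.injective_coext' hinj
  have htop : ⨆ n : MaximalSpectrum B, Groth.Agent.Helper2.MatA.powTors
      ((ModuleCat.coextendScalars (algebraMap A B)).obj (ModuleCat.of A E)) n.asIdeal = ⊤ := by
    apply Groth.Agent.Helper2.MatA.iSup_powTors_eq_top
    intro x
    obtain ⟨k, hk⟩ := Groth.Agent.Helper2.MatB.exists_pow_smul_eq_zero htor x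
    exact ⟨_, Groth.Agent.Helper2.MatB.isArtinianRing_quot k, hk⟩
  refine ⟨fun n => Groth.Agent.Helper2.MatA.powTors _ n.asIdeal,
    Groth.Agent.Helper2.MatA.iSupIndep_powTors, htop, fun n => ?_⟩
  have := n.isMaximal
  obtain ⟨h₀, h0, hs, hgen⟩ := Groth.Agent.Helper2.MatB.exists_socle_gen (B := B) n.asIdeal
    hsimple hinj (Groth.Agent.Helper2.MatB.isFiniteLength_quot n.asIdeal)
  exact Groth.Agent.Helper2.MatB.exists_isInjectiveHull n.asIdeal
    (Groth.Agent.Helper2.MatA.injective_of_isCompl hHinj _ _
      (Groth.Agent.Helper2.MatA.isCompl_powTors htop n)) h₀ h0 hs hgen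

end Groth.Agent.S11184
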