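import Groth.Statements.S11223
import Mathlib
import Groth.Agent.Helper5.HomogComp

set_option autoImplicit false
universe u
open CAlg

namespace Groth.Agent.S11223

/-- Let k be a field, let z_1, ..., z_m be homogeneous polynomials of positive degree in the polynomial
ring k[x_1, ..., x_n], and suppose the radical of the ideal (z_1, ..., z_m) is the ideal (x_1, ...,
x_n) generated by the variables. Then the polynomial ring is integral over the subalgebra generated
by z_1, ..., z_m. (The published statement is over an algebraically closed field; this row takes any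
field, which its proof allows.) -/
theorem result (k : Type u) [Field k] (n m : ℕ)
    (z : Fin m → MvPolynomial (Fin n) k) (d : Fin m → ℕ) (hd : ∀ i, 0 < d i)
    (hz : ∀ i, (z i).IsHomogeneous (d i))
    (hrad : (Ideal.span (Set.range z)).radical =
      Ideal.span (Set.range (MvPolynomial.X : Fin n → MvPolynomial (Fin n) k))) :
    Algebra.IsIntegral (Algebra.adjoin k (Set.range z)) (MvPolynomial (Fin n) k) := by
  classical
  -- a power of the irrelevant ideal lies in (z)
  obtain ⟨D, hD⟩ : ∃ D : ℕ, MvPolynomial.idealOfVars (Fin n) k ^ D ≤ Ideal.span (Set.range z) := by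
    apply Ideal.exists_pow_le_of_le_radical_of_fg_radical
    · rw [hrad]
    · rw [hrad]; exact MvPolynomial.idealOfVars_fg (Fin n) k
  obtain ⟨S, hS⟩ : ∃ S : Subalgebra k (MvPolynomial (Fin n) k), S = Algebra.adjoin k (Set.range z) := ⟨_, rfl⟩
  rw [← hS]
  obtain ⟨T, hT⟩ : ∃ T : Set (MvPolynomial (Fin n) k),
      T = (fun α : Fin n →₀ ℕ => MvPolynomial.monomial α (1 : k)) '' {α | α.degree < D} := ⟨_, rfl⟩
  have hTfin : T.Finite := by
    rw [hT]; exact (Finsupp.finite_of_degree_lt D).image _
  obtain ⟨N, hN⟩ : ∃ N : Submodule S (MvPolynomial (Fin n) k), N = Submodule.span S T := ⟨_, rfl⟩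
  have hzS : ∀ i, z i ∈ S := fun i => hS ▸ Algebra.subset_adjoin ⟨i, rfl⟩
  have hmulz : ∀ i (p : MvPolynomial (Fin n) k), p ∈ N → p * z i ∈ N := by
    intro i p hp
    have : p * z i = (⟨z i, hzS i⟩ : S) • p := by
      rw [mul_comm]; rfl
    rw [this]
    exact N.smul_mem _ hp
  have hCmul : ∀ (c : k) (p : MvPolynomial (Fin n) k), p ∈ N → MvPolynomial.C c * p ∈ N := by
    intro c p hp
    have : MvPolynomial.C c * p = (algebraMap k S c) • p := by
      rw [Algebra.smul_def]; rfl
    rw [this]
    exact N.smul_mem _ hp
  -- every MvPolynomial.monomial lies in N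
  have hmono : ∀ e : ℕ, ∀ α : Fin n →₀ ℕ, α.degree = e → MvPolynomial.monomial α (1 : k) ∈ N := by
    intro e
    induction e using Nat.strong_induction_on with
    | _ e ih =>
      intro α hα
      by_cases he : e < D
      · rw [hN]
        apply Submodule.subset_span
        rw [hT]
        exact ⟨α, by rw [Set.mem_ofPred_eq, hα]; exact he, rfl⟩
      · have h1 : MvPolynomial.monomial α (1 : k) ∈ Ideal.span (Set.range z) := by
          apply hD
          rw [MvPolynomial.monomial_mem_pow_idealOfVars_iff _ _ one_ne_zero, hα]
          omega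
        obtain ⟨g, hg⟩ := (Ideal.mem_span_range_iff_exists_fun).mp h1
        have h2 : MvPolynomial.monomial α (1 : k) = ∑ i, if d i ≤ e then MvPolynomial.homogeneousComponent (e - d i) (g i) * z i else 0 := by
          have h3 := congrArg (MvPolynomial.homogeneousComponent e) hg
          rw [map_sum, MvPolynomial.homogeneousComponent_eq_self (MvPolynomial.isHomogeneous_monomial (1 : k) hα)] at h3
          rw [← h3]
          refine Finset.sum_congr rfl fun i _ => ?_
          exact Groth.Agent.Helper5.HomogComp.hc_mul (g i) (z i) (d i) (hz i) e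
        rw [h2]
        refine Submodule.sum_mem _ fun i _ => ?_
        split_ifs with hi
        · apply hmulz
          rw [MvPolynomial.homogeneousComponent_apply]
          refine Submodule.sum_mem _ fun β hβ => ?_
          rw [Finset.mem_filter] at hβ
          have h4 : MvPolynomial.monomial β (MvPolynomial.coeff β (g i)) = MvPolynomial.C (MvPolynomial.coeff β (g i)) * MvPolynomial.monomial β (1 : k) := by
            rw [MvPolynomial.C_mul_monomial, mul_one]
          rw [h4]
          apply hCmul
          exact ih (e - d i) (by have := hd i; omega) β hβ.2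
        · exact N.zero_mem
  have htop : N = ⊤ := by
    rw [eq_top_iff]
    intro p _
    rw [← MvPolynomial.support_sum_monomial_coeff p]
    refine Submodule.sum_mem _ fun β _ => ?_
    have h4 : MvPolynomial.monomial β (MvPolynomial.coeff β p) = MvPolynomial.C (MvPolynomial.coeff β p) * MvPolynomial.monomial β (1 : k) := by
      rw [MvPolynomial.C_mul_monomial, mul_one]
    rw [h4]
    exact hCmul _ _ (hmono _ β rfl)
  have : Module.Finite S (MvPolynomial (Fin n) k) := by
    refine ⟨⟨hTfin.toFinset, ?_⟩⟩
    rw [Set.Finite.coe_toFinset, ← hN, htop]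
  exact Algebra.IsIntegral.of_finite S (MvPolynomial (Fin n) k)

end Groth.Agent.S11223
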