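import Groth.Statements.S11233
import Mathlib

set_option autoImplicit false
universe u
open CAlg

namespace Groth.Agent.S11233

/-- Let k be an algebraically closed field, A an integral domain which is a k-algebra, T an m by m
matrix over A with invertible determinant, and let the additive group k^m act on the polynomial ring
A[y_1, ..., y_m] by the A-algebra maps y_s ↦ y_s + Σ_r h_r T_rs. Then the only invariant polynomials
are the constants: a polynomial fixed by all these substitutions lies in A. -/
theorem result (k : Type u) [Field k] [IsAlgClosed k]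
    (A : Type u) [CommRing A] [IsDomain A] [Algebra k A] (m : ℕ) (T : Matrix (Fin m) (Fin m) A)
    (hT : IsUnit T.det) (f : MvPolynomial (Fin m) A)
    (hf : ∀ h : Fin m → k, MvPolynomial.aeval
      (fun s : Fin m => MvPolynomial.X s + MvPolynomial.C (∑ r : Fin m, algebraMap k A (h r) * T r s)) f = f) :
    ∃ a : A, f = MvPolynomial.C a := by
  haveI : Infinite k := IsAlgClosed.instInfinite
  have hinj : Function.Injective (algebraMap k A) := (algebraMap k A).injective
  haveI : Infinite A := Infinite.of_injective _ hinj
  have step1 : ∀ (a : Fin m → A) (h : Fin m → k),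
      MvPolynomial.eval (fun s => a s + ∑ r, algebraMap k A (h r) * T r s) f =
        MvPolynomial.eval a f := by
    intro a h
    have := congrArg (MvPolynomial.aeval (R := A) a) (hf h)
    rw [MvPolynomial.comp_aeval_apply] at this
    simp only [map_add, MvPolynomial.aeval_X, MvPolynomial.aeval_C, Algebra.algebraMap_self_apply,
      MvPolynomial.aeval_eq_eval] at this
    exact this
  have step2 : ∀ a b : Fin m → A,
      MvPolynomial.eval (fun s => a s + ∑ r, b r * T r s) f = MvPolynomial.eval a f := by
    intro a b
    have hPQ : MvPolynomial.aeval (R := A)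
        (fun s : Fin m => MvPolynomial.C (a s) + ∑ r, MvPolynomial.X r * MvPolynomial.C (T r s)) f =
        (MvPolynomial.C (MvPolynomial.eval a f) : MvPolynomial (Fin m) A) := by
      apply MvPolynomial.funext_set (fun _ => Set.range (algebraMap k A))
        (fun _ => Set.infinite_range_of_injective hinj)
      intro x hx
      have hx' : ∀ r, ∃ c : k, algebraMap k A c = x r := fun r => hx r (Set.mem_univ r)
      choose h hh using hx'
      rw [MvPolynomial.eval_C, ← MvPolynomial.aeval_eq_eval, MvPolynomial.comp_aeval_apply]
      simp only [map_add, map_sum, map_mul, MvPolynomial.aeval_X, MvPolynomial.aeval_C,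
        Algebra.algebraMap_self_apply, MvPolynomial.aeval_eq_eval]
      rw [← step1 a h]
      simp only [hh]
    have := congrArg (MvPolynomial.aeval (R := A) b) hPQ
    rw [MvPolynomial.comp_aeval_apply] at this
    simp only [map_add, map_sum, map_mul, MvPolynomial.aeval_X, MvPolynomial.aeval_C,
      Algebra.algebraMap_self_apply, MvPolynomial.aeval_eq_eval] at this
    exact this
  have step3 : ∀ c : Fin m → A, MvPolynomial.eval c f = MvPolynomial.eval 0 f := by
    intro c
    have h := step2 0 (Matrix.vecMul c T⁻¹)
    have e : (fun s => (0 : Fin m → A) s + ∑ r, (Matrix.vecMul c T⁻¹) r * T r s) = c := by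
      funext s
      have : ∑ r, (Matrix.vecMul c T⁻¹) r * T r s = Matrix.vecMul (Matrix.vecMul c T⁻¹) T s := rfl
      rw [this, Matrix.vecMul_vecMul, Matrix.nonsing_inv_mul T hT, Matrix.vecMul_one]
      simp
    rw [e] at h
    exact h
  refine ⟨MvPolynomial.eval 0 f, ?_⟩
  apply MvPolynomial.funext
  intro c
  rw [step3 c, MvPolynomial.eval_C]

end Groth.Agent.S11233
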