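import Groth.Statements.S11235
import Mathlib

set_option autoImplicit false
universe u
open CAlg

namespace Groth.Agent.S11235

/-- Let k be an algebraically closed field, A a commutative k-algebra, α ∈ k, and M a maximal ideal of
the polynomial ring A[x] containing x - α. Let I ⊆ M be an ideal whose zero set in Spec A[x] is
invariant under the automorphisms x ↦ c·x, c ∈ k nonzero (equivalently: the image of I under each
such A-algebra automorphism has the same radical as I). Then there is a maximal ideal of A[x]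
containing I and x. -/
theorem result (k : Type u) [Field k] [IsAlgClosed k]
    (A : Type u) [CommRing A] [Algebra k A] (α : k)
    (M : Ideal (Polynomial A)) (hM : M.IsMaximal)
    (hα : Polynomial.X - Polynomial.C (algebraMap k A α) ∈ M)
    (I : Ideal (Polynomial A)) (hIM : I ≤ M)
    (hI : ∀ c : kˣ, (I.map (Polynomial.aeval (R := A)
      (algebraMap k A (c : k) • (Polynomial.X : Polynomial A)))).radical = I.radical) :
    ∃ N : Ideal (Polynomial A), N.IsMaximal ∧ I ≤ N ∧ Polynomial.X ∈ N := by
  by_cases hα0 : α = 0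
  · refine ⟨M, hM, hIM, ?_⟩
    rw [hα0, map_zero, map_zero, sub_zero] at hα
    exact hα
  haveI : Infinite k := IsAlgClosed.instInfinite
  obtain ⟨a, ha⟩ : ∃ a : A, a = algebraMap k A α := ⟨_, rfl⟩
  rw [← ha] at hα
  obtain ⟨𝔪, h𝔪⟩ : ∃ 𝔪 : Ideal A, 𝔪 = M.comap (Polynomial.C : A →+* (Polynomial A)) := ⟨_, rfl⟩
  have hMprime : M.IsPrime := hM.isPrime
  -- membership in M is detected by evaluation at a
  have hmem : ∀ g : (Polynomial A), g ∈ M ↔ g.eval a ∈ 𝔪 := by
    intro g
    have hdvd : (Polynomial.X - Polynomial.C a) ∣ g - Polynomial.C (g.eval a) := Polynomial.X_sub_C_dvd_sub_C_eval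
    have h1 : g - Polynomial.C (g.eval a) ∈ M := Ideal.mem_of_dvd M hdvd hα
    rw [h𝔪, Ideal.mem_comap]
    constructor
    · intro hg
      have := M.sub_mem hg h1
      simpa using this
    · intro hg
      have := M.add_mem h1 hg
      simpa using this
  have h𝔪prime : 𝔪.IsPrime := by rw [h𝔪]; exact Ideal.comap_isPrime _ _
  have h𝔪max : 𝔪.IsMaximal := by
    rw [Ideal.isMaximal_iff]
    refine ⟨fun h1 => h𝔪prime.ne_top ((Ideal.eq_top_iff_one _).mpr h1), ?_⟩
    intro J b hJ hb hbJ
    have hCb : Polynomial.C b ∉ M := by rw [hmem]; simpa using hb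
    obtain ⟨g, i, hi, hgi⟩ := hM.exists_inv hCb
    rw [hmem] at hi
    have h4 := congrArg (Polynomial.eval a) hgi
    simp only [Polynomial.eval_add, Polynomial.eval_mul, Polynomial.eval_C, Polynomial.eval_one] at h4
    rw [← h4]
    exact J.add_mem (J.mul_mem_left _ hbJ) (hJ hi)
  -- k embeds in the residue ring
  haveI : Nontrivial (A ⧸ 𝔪) := Ideal.Quotient.nontrivial_iff.mpr h𝔪prime.ne_top
  haveI : IsDomain (A ⧸ 𝔪) := Ideal.Quotient.isDomain 𝔪
  let ι : k →+* A ⧸ 𝔪 := (Ideal.Quotient.mk 𝔪).comp (algebraMap k A)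
  have hι : Function.Injective ι := ι.injective
  -- all coefficients of elements of I lie in 𝔪
  have hcoef : ∀ g ∈ I, g.map (Ideal.Quotient.mk 𝔪) = 0 := by
    intro g hg
    apply Polynomial.eq_zero_of_infinite_isRoot
    have hsub : (fun c : k => ι (c * α)) '' {c : k | c ≠ 0} ⊆
        {x | (g.map (Ideal.Quotient.mk 𝔪)).IsRoot x} := by
      rintro _ ⟨c0, hc0, rfl⟩
      obtain ⟨c, rfl⟩ : ∃ c : kˣ, (c : k) = c0 := ⟨Units.mk0 c0 hc0, rfl⟩
      have h1 : (Polynomial.aeval (R := A) (algebraMap k A (c : k) • (Polynomial.X : (Polynomial A)))) g ∈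
          (I.map (Polynomial.aeval (R := A)
            (algebraMap k A (c : k) • (Polynomial.X : Polynomial A)))).radical :=
        Ideal.le_radical (Ideal.mem_map_of_mem _ hg)
      rw [hI c] at h1
      obtain ⟨n, hn⟩ := h1
      have h2 : (Polynomial.aeval (R := A) (algebraMap k A (c : k) • (Polynomial.X : (Polynomial A)))) g ∈ M :=
        hMprime.mem_of_pow_mem n (hIM hn)
      rw [hmem] at h2
      have h3 : ((Polynomial.aeval (R := A) (algebraMap k A (c : k) • (Polynomial.X : (Polynomial A)))) g).eval a =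
          g.eval (algebraMap k A ((c : k) * α)) := by
        rw [← Polynomial.comp_eq_aeval, Polynomial.eval_comp, ha]
        simp [Algebra.smul_def]
      rw [h3] at h2
      show (g.map (Ideal.Quotient.mk 𝔪)).IsRoot (ι ((c : k) * α))
      rw [Polynomial.IsRoot.def]
      show Polynomial.eval ((Ideal.Quotient.mk 𝔪) (algebraMap k A ((c : k) * α))) _ = 0
      rw [Polynomial.eval_map, Polynomial.eval₂_hom, Ideal.Quotient.eq_zero_iff_mem]
      exact h2
    refine Set.Infinite.mono hsub ?_
    apply Set.Infinite.image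
    · intro c _ d _ hcd
      exact mul_right_cancel₀ hα0 (hι hcd)
    · have : {c : k | c ≠ 0} = Set.univ \ {0} := by ext c; simp
      rw [this]
      exact Set.Infinite.sdiff Set.infinite_univ (Set.finite_singleton 0)
  refine ⟨𝔪.comap (Polynomial.evalRingHom 0), ?_, ?_, ?_⟩
  · exact Ideal.comap_isMaximal_of_surjective _ (fun b => ⟨Polynomial.C b, by simp⟩)
  · intro g hg
    rw [Ideal.mem_comap, Polynomial.coe_evalRingHom, ← Polynomial.coeff_zero_eq_eval_zero,
      ← Ideal.Quotient.eq_zero_iff_mem, ← Polynomial.coeff_map, hcoef g hg, Polynomial.coeff_zero]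
  · rw [Ideal.mem_comap, Polynomial.coe_evalRingHom, Polynomial.eval_X]
    exact 𝔪.zero_mem

end Groth.Agent.S11235
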