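import Groth.Statements.S11240
import Mathlib
import Groth.Agent.Helper5.MinorTransv

set_option autoImplicit false
universe u
open AGF

namespace Groth.Agent.S11240

/-- For a single root subgroup: let k be an algebraically closed field and X = (x_ab) the generic n × m
matrix over the polynomial ring k[x_ab]. Let i ≠ j be row indices and let I (rows) and J (columns)
be strictly increasing sequences of length p. The minor of X with rows I and columns J is invariant
under replacing X by (1 + b·E_ij)·X for every b ∈ k (the one-parameter unipotent group adding b
times row j to row i) if and only if j occurs in I whenever i does. (The published statement gives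
the criterion for the group generated by several such root subgroups, which is the conjunction of
these.) -/
theorem result (k : Type u) [Field k] [IsAlgClosed k] (n m p : ℕ)
    (i j : Fin n) (hij : i ≠ j) (I : Fin p ↪o Fin n) (J : Fin p ↪o Fin m) :
    (∀ b : k, ((Matrix.transvection i j (MvPolynomial.C b) *
        (Matrix.of fun a c => (MvPolynomial.X (a, c) : MvPolynomial (Fin n × Fin m) k))).submatrix I J).det =
        ((Matrix.of fun a c => (MvPolynomial.X (a, c) : MvPolynomial (Fin n × Fin m) k)).submatrix I J).det) ↔
      (i ∈ Set.range I → j ∈ Set.range I) := by
  constructor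
  · rintro h ⟨s₀, hs₀⟩
    by_contra hj
    have h1 := h 1
    have h2 := (Groth.Agent.Helper5.MinorTransv.transv_submatrix n m p
      (Matrix.of fun a c => (MvPolynomial.X (a, c) : MvPolynomial (Fin n × Fin m) k))
      i j I J I.injective (MvPolynomial.C 1) s₀ hs₀).symm.trans h1
    rw [map_one, one_mul, add_eq_left] at h2
    refine Groth.Agent.Helper5.MinorTransv.det_generic_submatrix_ne_zero k n m p
      (Function.update I s₀ j) J ?_ J.injective h2
    intro s t hst
    by_cases hs : s = s₀
    · by_cases ht : t = s₀
      · rw [hs, ht]
      · exfalso
        rw [hs, Function.update_self, Function.update_of_ne ht] at hst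
        exact hj ⟨t, hst.symm⟩
    · by_cases ht : t = s₀
      · exfalso
        rw [ht, Function.update_self, Function.update_of_ne hs] at hst
        exact hj ⟨s, hst⟩
      · rw [Function.update_of_ne hs, Function.update_of_ne ht] at hst
        exact I.injective hst
  · intro h b
    by_cases hi : i ∈ Set.range I
    · obtain ⟨s₀, hs₀⟩ := hi
      obtain ⟨t₀, ht₀⟩ := h ⟨s₀, hs₀⟩
      refine (Groth.Agent.Helper5.MinorTransv.transv_submatrix n m p
        (Matrix.of fun a c => (MvPolynomial.X (a, c) : MvPolynomial (Fin n × Fin m) k))
        i j I J I.injective (MvPolynomial.C b) s₀ hs₀).trans ?_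
      have hst : s₀ ≠ t₀ := by
        intro h'
        rw [h'] at hs₀
        exact hij (hs₀.symm.trans ht₀)
      have h0 : ((Matrix.of fun a c => (MvPolynomial.X (a, c) : MvPolynomial (Fin n × Fin m) k)).submatrix
          (Function.update I s₀ j) J).det = 0 := by
        apply Matrix.det_zero_of_row_eq hst
        funext t
        simp only [Matrix.submatrix_apply, Function.update_self, Function.update_of_ne hst.symm, ht₀]
      rw [h0, mul_zero, add_zero]
    · exact congrArg Matrix.det (Groth.Agent.Helper5.MinorTransv.transv_submatrix_of_notMem n m p
        (Matrix.of fun a c => (MvPolynomial.X (a, c) : MvPolynomial (Fin n × Fin m) k)) i j I J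
        (MvPolynomial.C b) hi)

end Groth.Agent.S11240
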