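import Groth.Statements.S1126
import Mathlib.AlgebraicGeometry.Morphisms.FlatDescent


set_option autoImplicit false
open CategoryTheory CategoryTheory.Limits AlgebraicGeometry Opposite
universe u
open Desc

namespace Groth.Agent.S1126

/-- If the base change of a morphism along a quasi-compact flat surjective morphism to its target is a
universal homeomorphism, then the morphism is a universal homeomorphism. (Stated for a single
quasi-compact flat surjective base change; combined with Zariski-locality on the target this gives
the fpqc-local form.) -/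
theorem result :
    MorphismProperty.DescendsAlong (FlatMor.IsUnivHomeo.{u})
      (@Surjective ⊓ @Flat ⊓ @QuasiCompact : MorphismProperty Scheme.{u}) := by
  have heq : (FlatMor.IsUnivHomeo.{u} : MorphismProperty Scheme.{u}) =
      ((@UniversallyInjective : MorphismProperty Scheme.{u}) ⊓
        (@UniversallyOpen : MorphismProperty Scheme.{u}) ⊓
        (@Surjective : MorphismProperty Scheme.{u}) : MorphismProperty Scheme.{u}) := by
    ext X Y f
    constructor
    · intro h
      refine ⟨⟨⟨fun X' Y' i₁ i₂ f' hp => (h i₁ i₂ f' hp).injective⟩,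
        ⟨fun X' Y' i₁ i₂ f' hp => (h i₁ i₂ f' hp).isOpenMap⟩⟩,
        ⟨(h (𝟙 X) (𝟙 Y) f IsPullback.of_id_snd).surjective⟩⟩
    · rintro ⟨⟨h1, h2⟩, h3⟩
      intro X' Y' i₁ i₂ f' hp
      have : Surjective f' := MorphismProperty.of_isPullback (P := @Surjective) hp.flip h3
      exact ⟨f'.continuous, h2.1 i₁ i₂ f' hp, h1.1 i₁ i₂ f' hp, f'.surjective⟩
  rw [heq]
  infer_instance

end Groth.Agent.S1126
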