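import Groth.Statements.S11277
import Mathlib

set_option autoImplicit false
universe u v
open W4bk4grassmannian

namespace Groth.Agent.S11277

/-- Let K be a field, R = ⊕_{i ≥ 0} R_i an ℕ-graded commutative K-algebra which is an integral domain,
and s ∈ R_e a homogeneous element of degree e > 0. Let R_(s) ⊆ R[1/s] be the homogeneous
localization (fractions f / s^k with f homogeneous of degree k e). Then the image of s in R[1/s] is
transcendental over R_(s). -/
theorem result (K : Type u) [Field K] (R : Type v) [CommRing R]
    [IsDomain R] [Algebra K R] (𝒜 : ℕ → Submodule K R) [GradedAlgebra 𝒜] (e : ℕ) (he : 0 < e) (s : R)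
    (hs : s ∈ 𝒜 e) :
    Transcendental (HomogeneousLocalization.Away 𝒜 s) (algebraMap R (Localization.Away s) s) := by
  classical
  rw [transcendental_iff]
  intro p hp
  by_cases hs0 : s = 0
  · have h0 : (0 : R) ∈ Submonoid.powers s := ⟨1, by simp [hs0]⟩
    have := HomogeneousLocalization.subsingleton 𝒜 h0
    exact Subsingleton.elim _ _
  have hinj : Function.Injective (algebraMap R (Localization.Away s)) :=
    IsLocalization.injective _ (powers_le_nonZeroDivisors_of_noZeroDivisors hs0)
  have hsurj := fun i : ℕ => HomogeneousLocalization.Away.mk_surjective 𝒜 hs (p.coeff i)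
  choose n g hg hmk using hsurj
  obtain ⟨x, hx⟩ : ∃ x, x = algebraMap R (Localization.Away s) s := ⟨_, rfl⟩
  rw [← hx] at hp
  obtain ⟨N, hN⟩ : ∃ N, N = p.support.sup n := ⟨_, rfl⟩
  have hnN : ∀ i ∈ p.support, n i ≤ N := fun i hi => hN ▸ Finset.le_sup hi
  have hval : ∀ i, (p.coeff i).val * x ^ n i = algebraMap R _ (g i) := by
    intro i
    rw [← hmk i, HomogeneousLocalization.Away.val_mk, Localization.mk_eq_mk', hx, ← map_pow]
    exact IsLocalization.mk'_spec _ _ _
  have hval2 : ∀ i ∈ p.support, x ^ N * ((p.coeff i).val * x ^ i) =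
      algebraMap R _ (g i * s ^ (N - n i) * s ^ i) := by
    intro i hi
    obtain ⟨k, hk⟩ := Nat.exists_eq_add_of_le (hnN i hi)
    have : N - n i = k := by omega
    rw [this, map_mul, map_mul, ← hval i, map_pow, map_pow, ← hx, hk]
    ring
  have hsum : ∑ i ∈ p.support, g i * s ^ (N - n i) * s ^ i = 0 := by
    apply hinj
    rw [map_sum, map_zero]
    rw [Finset.sum_congr rfl (fun i hi => (hval2 i hi).symm), ← Finset.mul_sum]
    have : ∑ i ∈ p.support, (p.coeff i).val * x ^ i = Polynomial.aeval x p := by
      rw [Polynomial.aeval_def, Polynomial.eval₂_eq_sum, Polynomial.sum_def]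
      rfl
    rw [this, hp, mul_zero]
  have hdeg : ∀ i ∈ p.support, g i * s ^ (N - n i) * s ^ i ∈ 𝒜 ((N + i) * e) := by
    intro i hi
    have h1 := SetLike.mul_mem_graded (SetLike.mul_mem_graded (hg i)
      (SetLike.pow_mem_graded (N - n i) hs)) (SetLike.pow_mem_graded i hs)
    have : n i • e + (N - n i) • e + i • e = (N + i) * e := by
      have := hnN i hi
      simp only [smul_eq_mul]
      rw [← add_mul, ← add_mul]
      congr 1
      omega
    rwa [this] at h1
  by_contra hpne
  have hsupp : p.support.Nonempty := by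
    rwa [Finset.nonempty_iff_ne_empty, Ne, Polynomial.support_eq_empty]
  obtain ⟨j, hj⟩ := hsupp
  have hyj : g j * s ^ (N - n j) * s ^ j = 0 := by
    have h1 : ((DirectSum.decompose 𝒜 (∑ i ∈ p.support, g i * s ^ (N - n i) * s ^ i)) ((N + j) * e) : R) = 0 := by
      rw [hsum, DirectSum.decompose_zero]; rfl
    rw [DirectSum.decompose_sum, DFinsupp.finsetSum_apply, AddSubmonoidClass.coe_finsetSum,
      Finset.sum_eq_single j] at h1
    · rwa [DirectSum.decompose_of_mem_same 𝒜 (hdeg j hj)] at h1
    · intro i hi hij
      apply DirectSum.decompose_of_mem_ne 𝒜 (hdeg i hi)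
      intro h
      apply hij
      have := Nat.eq_of_mul_eq_mul_right he h
      omega
    · intro h; exact absurd hj h
  have hgj : g j = 0 := by
    rcases mul_eq_zero.mp hyj with h | h
    · rcases mul_eq_zero.mp h with h | h
      · exact h
      · exact absurd h (pow_ne_zero _ hs0)
    · exact absurd h (pow_ne_zero _ hs0)
  have : p.coeff j = 0 := by
    apply HomogeneousLocalization.val_injective
    rw [← hmk j, HomogeneousLocalization.Away.val_mk, HomogeneousLocalization.val_zero, hgj,
      Localization.mk_zero]
  exact (Polynomial.mem_support_iff.mp hj) this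

end Groth.Agent.S11277
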