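import Groth.Statements.S1128
import Groth.Agent.Lead.FlatTower

set_option autoImplicit false
open CategoryTheory CategoryTheory.Limits AlgebraicGeometry Opposite
universe u
open Desc

namespace Groth.Agent.S1128

/-- If f is flat and surjective and the composite of f with g is flat, then g is flat; together with
stability of flatness under composition this says flatness is fpqc local on the source. -/
theorem result {X' X Y : Scheme.{u}} (f : X' ⟶ X) (g : X ⟶ Y) [Flat f]
    [Surjective f] [Flat (f ≫ g)] : Flat g := by
  rw [Flat.iff_flat_stalkMap]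
  intro x
  obtain ⟨x', rfl⟩ := f.surjective x
  have h1 : ((f ≫ g).stalkMap x').hom.Flat := Flat.stalkMap (f ≫ g) x'
  have h2 : (f.stalkMap x').hom.Flat := Flat.stalkMap f x'
  rw [Scheme.Hom.stalkMap_comp] at h1
  have h3 : (f.stalkMap x').hom.FaithfullyFlat := by
    algebraize [(f.stalkMap x').hom]
    have : IsLocalHom (algebraMap (X.presheaf.stalk (f x')) (X'.presheaf.stalk x')) :=
      inferInstanceAs (IsLocalHom (f.stalkMap x').hom)
    exact Module.FaithfullyFlat.of_flat_of_isLocalHom
  exact Groth.Agent.Lead.RingHom.Flat.of_comp_of_faithfullyFlat _ _ h1 h3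

end Groth.Agent.S1128
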