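import Groth.Statements.S11283
import Mathlib
import Groth.Agent.Helper9.ExalD
import Groth.Agent.Helper9.ExalE
-- import your own Groth.Agent.* helpers here

set_option autoImplicit false
universe u
open Deform

namespace Groth.Agent.S11283

/-- Let k be an algebraically closed field, Λ a complete local Noetherian k-algebra with residue field
k, R a local Noetherian Λ-algebra with local structure map and residue field k, and R̂ the
completion of R at its maximal ideal. Let L be a simple R-module (a one-dimensional k-vector space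
on which R acts through its residue field) carrying a compatible R̂-module structure. Then inverse
image of Λ-extensions along R → R̂ induces a bijection o(R̂/Λ) → o(R/Λ) on classes of Λ-extensions
by L: two Λ-extensions of R̂ by L whose inverse images over R are equivalent are equivalent, and
every Λ-extension of R by L is equivalent to the inverse image of one of R̂. -/
theorem result
    {k : Type u} [Field k] [IsAlgClosed k]
    {Λ : Type u} [CommRing Λ] [Algebra k Λ] [IsLocalRing Λ] [IsNoetherianRing Λ]
    [IsAdicComplete (IsLocalRing.maximalIdeal Λ) Λ]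
    (hΛ : ∀ a : Λ, ∃ c : k, a - algebraMap k Λ c ∈ IsLocalRing.maximalIdeal Λ)
    {R : Type u} [CommRing R] [Algebra Λ R] [IsLocalRing R] [IsNoetherianRing R]
    [IsLocalHom (algebraMap Λ R)]
    (hR : ∀ r : R, ∃ c : k, r - algebraMap Λ R (algebraMap k Λ c) ∈ IsLocalRing.maximalIdeal R)
    (L : Type u) [AddCommGroup L] [Module (AdicCompletion (IsLocalRing.maximalIdeal R) R) L] [Module R L]
    [IsScalarTower R (AdicCompletion (IsLocalRing.maximalIdeal R) R) L] [IsSimpleModule R L] :
    (∀ X X' : Exal.Ext Λ (AdicCompletion (IsLocalRing.maximalIdeal R) R) L,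
        Nonempty ((X.pullback R).Equiv (X'.pullback R)) → Nonempty (X.Equiv X')) ∧
    (∀ Y : Exal.Ext Λ R L, ∃ X : Exal.Ext Λ (AdicCompletion (IsLocalRing.maximalIdeal R) R) L,
        Nonempty ((X.pullback R).Equiv Y)) := by
  have key : ∀ Y : Exal.Ext Λ R L,
      ∃ X : Exal.Ext Λ (AdicCompletion (IsLocalRing.maximalIdeal R) R) L,
        Nonempty ((X.pullback R).Equiv Y) ∧
        ∀ (X' : Exal.Ext Λ (AdicCompletion (IsLocalRing.maximalIdeal R) R) L)
          (g : Y.E →ₐ[Λ] X'.E),
          (∀ f, X'.proj (g f) =
            algebraMap R (AdicCompletion (IsLocalRing.maximalIdeal R) R) (Y.proj f)) →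
          (∀ z, g (Y.incl z) = X'.incl z) → Nonempty (X.Equiv X') := fun Y => by
    have := Groth.Agent.Helper9.ExalD.isLocalRing_E Y
    have := Groth.Agent.Helper9.ExalD.isNoetherianRing_E Y
    exact Groth.Agent.Helper9.ExalE.exists_completion Y
  refine ⟨fun X X' ⟨φ⟩ => ?_, fun Y => ?_⟩
  · obtain ⟨Z, -, hZ⟩ := key (X.pullback R)
    obtain ⟨e1⟩ := hZ X (Groth.Agent.Helper9.ExalD.pullbackFst R X)
      (Groth.Agent.Helper9.ExalD.proj_pullbackFst R X)
      (Groth.Agent.Helper9.ExalD.pullbackFst_incl R X)
    obtain ⟨e2⟩ := hZ X' ((Groth.Agent.Helper9.ExalD.pullbackFst R X').comp φ.toAlgEquiv.toAlgHom)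
      (fun f => by
        change X'.proj (Groth.Agent.Helper9.ExalD.pullbackFst R X' (φ.toAlgEquiv f)) = _
        rw [Groth.Agent.Helper9.ExalD.proj_pullbackFst, φ.proj_apply])
      (fun z => by
        change Groth.Agent.Helper9.ExalD.pullbackFst R X' (φ.toAlgEquiv ((X.pullback R).incl z)) = _
        rw [φ.apply_incl, Groth.Agent.Helper9.ExalD.pullbackFst_incl])
    exact ⟨e1.symm.trans e2⟩
  · obtain ⟨X, hX, -⟩ := key Y
    exact ⟨X, hX⟩

end Groth.Agent.S11283
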