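import Groth.Statements.S11288
import Mathlib

set_option autoImplicit false
universe u
open Deform

namespace Groth.Agent.S11288

/-- Let K be a field, R' a local Artinian K-algebra with residue field K, and t a nonzero element of the
maximal ideal m' of R' with m' t = 0, so that R' → R = R'/(t) is a small extension of R. Then the
extension is trivial, i.e. the projection admits a section which is a K-algebra map, if and only if
t is not in m'^2; equivalently, iff the surjection m'/m'^2 → m_R/m_R^2 induced on cotangent spaces,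
whose kernel is spanned by the class of t, is not bijective. For instance K[t]/(t^(n+1)) →
K[t]/(t^n) is a non-trivial small extension for n ≥ 2. (The published example allows any local
K-algebra with residue field K; the row takes R' Artinian, the case in which the subalgebra
generated by lifts of a basis of the cotangent space maps onto R.) -/
theorem result
    {K : Type u} [Field K]
    {R' : Type u} [CommRing R'] [Algebra K R'] [IsLocalRing R'] [IsArtinianRing R']
    (hres : ∀ a : R', ∃ c : K, a - algebraMap K R' c ∈ IsLocalRing.maximalIdeal R')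
    (t : R') (ht : t ∈ IsLocalRing.maximalIdeal R') (ht0 : t ≠ 0)
    (htm : ∀ a ∈ IsLocalRing.maximalIdeal R', a * t = 0) :
    (∃ s : (R' ⧸ Ideal.span {t}) →ₐ[K] R', ∀ x, Ideal.Quotient.mk (Ideal.span {t}) (s x) = x) ↔
      t ∉ IsLocalRing.maximalIdeal R' ^ 2 := by
  constructor
  · rintro ⟨s, hs⟩ htsq
    have hrange : ∀ z ∈ IsLocalRing.maximalIdeal R' ^ 2, ∃ y, s y = z := by
      intro z hz
      rw [pow_two] at hz
      induction hz using Submodule.mul_induction_on' with
      | mem_mul_mem x hx y hy =>
        have hdecomp : ∀ x ∈ IsLocalRing.maximalIdeal R', ∃ r : R',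
            x = s (Ideal.Quotient.mk _ x) + r * t ∧
              s (Ideal.Quotient.mk (Ideal.span {t}) x) ∈ IsLocalRing.maximalIdeal R' := by
          intro x hx
          have hmem : x - s (Ideal.Quotient.mk (Ideal.span {t}) x) ∈ Ideal.span {t} := by
            rw [← Ideal.Quotient.eq_zero_iff_mem, map_sub, hs, sub_self]
          obtain ⟨r, hr⟩ := Ideal.mem_span_singleton'.mp hmem
          refine ⟨r, by rw [hr]; ring, ?_⟩
          have : s (Ideal.Quotient.mk (Ideal.span {t}) x) = x - r * t := by rw [hr]; ring
          rw [this]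
          exact sub_mem hx (Ideal.mul_mem_left _ _ ht)
        obtain ⟨r, hxr, hx'⟩ := hdecomp x hx
        obtain ⟨r', hyr, hy'⟩ := hdecomp y hy
        refine ⟨Ideal.Quotient.mk _ (x * y), ?_⟩
        rw [map_mul, map_mul]
        have e1 := htm _ hx'
        have e2 := htm _ hy'
        have e3 := htm _ ht
        generalize s (Ideal.Quotient.mk (Ideal.span {t}) x) = x' at *
        generalize s (Ideal.Quotient.mk (Ideal.span {t}) y) = y' at *
        rw [hxr, hyr]
        linear_combination (-r') * e1 + (-r) * e2 + (-(r * r')) * e3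
      | add x _ y _ hx hy =>
        obtain ⟨a, ha⟩ := hx
        obtain ⟨b, hb⟩ := hy
        exact ⟨a + b, by rw [map_add, ha, hb]⟩
    obtain ⟨y, hy⟩ := hrange t htsq
    have : y = 0 := by
      rw [← hs y, hy, Ideal.Quotient.eq_zero_iff_mem]
      exact Ideal.subset_span rfl
    rw [this, map_zero] at hy
    exact ht0 hy.symm
  · intro htsq
    -- the K-subspace K·1 + m'^2
    obtain ⟨W, hW⟩ : ∃ W : Submodule K R', W =
        Submodule.span K {(1 : R')} ⊔ (IsLocalRing.maximalIdeal R' ^ 2).restrictScalars K := ⟨_, rfl⟩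
    have htW : t ∉ W := by
      intro h
      rw [hW, Submodule.mem_sup] at h
      obtain ⟨a, ha, w, hw, hsum⟩ := h
      rw [Submodule.mem_span_singleton] at ha
      obtain ⟨c, rfl⟩ := ha
      rw [Submodule.restrictScalars_mem] at hw
      have hwm : w ∈ IsLocalRing.maximalIdeal R' := Ideal.pow_le_self two_ne_zero hw
      have hc : c • (1 : R') ∈ IsLocalRing.maximalIdeal R' := by
        have : c • (1 : R') = t - w := by rw [← hsum]; ring
        rw [this]; exact sub_mem ht hwm
      have hc0 : c = 0 := by
        by_contra hne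
        have hu : IsUnit (c • (1 : R')) := by
          rw [Algebra.smul_def, mul_one]
          exact (IsUnit.mk0 c hne).map (algebraMap K R')
        exact (IsLocalRing.mem_maximalIdeal _).mp hc hu
      rw [hc0, zero_smul, zero_add] at hsum
      exact htsq (hsum ▸ hw)
    obtain ⟨ℓ, hℓt, hℓW⟩ := Submodule.exists_dual_map_eq_bot_of_notMem htW inferInstance
    have hℓ0 : ∀ w ∈ W, ℓ w = 0 := by
      intro w hw
      have : ℓ w ∈ W.map ℓ := Submodule.mem_map_of_mem hw
      rw [hℓW] at this
      simpa using this
    have hℓ1 : ℓ 1 = 0 := hℓ0 1 (by rw [hW]; exact Submodule.mem_sup_left (Submodule.mem_span_singleton_self _))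
    have hℓsq : ∀ w ∈ IsLocalRing.maximalIdeal R' ^ 2, ℓ w = 0 := fun w hw =>
      hℓ0 w (by rw [hW]; exact Submodule.mem_sup_right hw)
    -- normalized functional
    obtain ⟨lam, hlam⟩ : ∃ lam : R' →ₗ[K] K, lam = (ℓ t)⁻¹ • ℓ := ⟨_, rfl⟩
    have hlt : lam t = 1 := by rw [hlam]; simp [hℓt]
    have hl1 : lam 1 = 0 := by rw [hlam]; simp [hℓ1]
    have hlsq : ∀ w ∈ IsLocalRing.maximalIdeal R' ^ 2, lam w = 0 := by
      intro w hw; rw [hlam]; simp [hℓsq w hw]
    have hmul : ∀ x y : R', lam (x * y) • t = lam x • (t * y) + lam y • (t * x) := by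
      intro x y
      obtain ⟨c, hc⟩ := hres x
      obtain ⟨c', hc'⟩ := hres y
      obtain ⟨μ, hμ⟩ : ∃ μ, μ = x - algebraMap K R' c := ⟨_, rfl⟩
      obtain ⟨μ', hμ'⟩ : ∃ μ', μ' = y - algebraMap K R' c' := ⟨_, rfl⟩
      rw [← hμ] at hc
      rw [← hμ'] at hc'
      have hx : x = c • (1 : R') + μ := by rw [hμ, Algebra.smul_def]; ring
      have hy : y = c' • (1 : R') + μ' := by rw [hμ', Algebra.smul_def]; ring
      have e1 : μ * t = 0 := htm μ hc
      have e2 : μ' * t = 0 := htm μ' hc'
      have hμμ : lam (μ * μ') = 0 := hlsq _ (by rw [pow_two]; exact Ideal.mul_mem_mul hc hc')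
      have hxy : x * y = (c * c') • (1 : R') + c • μ' + c' • μ + μ * μ' := by
        rw [hx, hy]; simp only [Algebra.smul_def, map_mul]; ring
      have hlx : lam x = lam μ := by rw [hx, map_add, map_smul, hl1, smul_zero, zero_add]
      have hly : lam y = lam μ' := by rw [hy, map_add, map_smul, hl1, smul_zero, zero_add]
      have hlxy : lam (x * y) = c * lam μ' + c' * lam μ := by
        rw [hxy]; simp only [map_add, map_smul, hl1, hμμ, smul_eq_mul]; ring
      have hty : t * y = c' • t := by
        rw [hy, mul_add, mul_comm t μ', e2, add_zero, Algebra.smul_def, Algebra.smul_def]; ring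
      have htx : t * x = c • t := by
        rw [hx, mul_add, mul_comm t μ, e1, add_zero, Algebra.smul_def, Algebra.smul_def]; ring
      rw [hlxy, hlx, hly, hty, htx, smul_smul, smul_smul, ← add_smul]
      congr 1; ring
    have htt : t * t = 0 := htm t ht
    let σl : R' →ₗ[K] R' := LinearMap.id - lam.smulRight t
    have hσl : ∀ x, σl x = x - lam x • t := fun x => by simp [σl]
    let σ : R' →ₐ[K] R' := AlgHom.ofLinearMap σl (by rw [hσl, hl1, zero_smul, sub_zero]) (by
      intro x y
      rw [hσl, hσl, hσl, hmul x y]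
      have : (lam x • t) * (lam y • t) = 0 := by
        rw [smul_mul_smul_comm, htt, smul_zero]
      have e : (x - lam x • t) * (y - lam y • t) =
          x * y - lam x • (t * y) - lam y • (t * x) + (lam x • t) * (lam y • t) := by
        simp only [Algebra.smul_def]; ring
      rw [e, this]; abel)
    have hσ : ∀ x, σ x = x - lam x • t := hσl
    have hσt : ∀ a ∈ Ideal.span {t}, σ a = 0 := by
      intro a ha
      obtain ⟨r, rfl⟩ := Ideal.mem_span_singleton'.mp ha
      rw [map_mul, hσ t, hlt, one_smul, sub_self, mul_zero]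
    refine ⟨Ideal.Quotient.liftₐ (Ideal.span {t}) σ hσt, fun x => ?_⟩
    obtain ⟨x, rfl⟩ := Ideal.Quotient.mk_surjective x
    rw [Ideal.Quotient.liftₐ_apply, Ideal.Quotient.lift_mk]
    change Ideal.Quotient.mk _ (σ x) = _
    rw [hσ, map_sub, sub_eq_self, Ideal.Quotient.eq_zero_iff_mem, Algebra.smul_def]
    exact Ideal.mul_mem_left _ _ (Ideal.subset_span rfl)

end Groth.Agent.S11288
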