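import Groth.Statements.S11294
import Mathlib
import Groth.Agent.Helper5.DualNum

set_option autoImplicit false
universe u
open Deform

namespace Groth.Agent.S11294

open TrivSqZeroExt in
/-- Let P be a commutative ring, J an ideal, and P[ε] the ring of dual numbers over P. First-order
embedded deformations of Spec(P/J) in Spec P, namely ideals J' of P[ε] lifting J (the image of J'
under ε ↦ 0 is J) with P[ε]/J' flat over the dual numbers — flatness being replaced by the condition
that every element of P[ε]/J' annihilated by ε is a multiple of ε (equivalent to flatness over k[ε]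
when P is an algebra over a field k) — are in canonical bijection with Hom_P(J, P/J) =
Hom_{P/J}(J/J^2, P/J), the normal module: to φ corresponds the ideal of all a + εb with a in J and b
reducing to φ(a) modulo J. The first clause says this rule defines exactly one ideal for each φ; the
second says an ideal J' is a flat lift of J precisely when its membership is given by this rule for
some φ. (The published statement is the global one, identifying first-order deformations of a closed
subscheme X of an algebraic scheme Y with H^0(X, N_{X/Y}); this row is the affine computation in its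
proof, valid for every commutative ring P.) -/
theorem result (P : Type u) [CommRing P] (J : Ideal P) :
    (∀ φ : J →ₗ[P] (P ⧸ J), ∃! J' : Ideal (DualNumber P),
        ∀ a b : P, (inl a + inr b : DualNumber P) ∈ J' ↔ ∃ h : a ∈ J, Ideal.Quotient.mk J b = φ ⟨a, h⟩) ∧
    (∀ J' : Ideal (DualNumber P),
      (J'.map (TrivSqZeroExt.fstHom P P P) = J ∧
        ∀ m : DualNumber P ⧸ J', Ideal.Quotient.mk J' DualNumber.eps * m = 0 →
          ∃ m' : DualNumber P ⧸ J', m = Ideal.Quotient.mk J' DualNumber.eps * m') ↔
      ∃ φ : J →ₗ[P] (P ⧸ J), ∀ a b : P,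
        (inl a + inr b : DualNumber P) ∈ J' ↔ ∃ h : a ∈ J, Ideal.Quotient.mk J b = φ ⟨a, h⟩) := by
  have hfst : ∀ a b : P, TrivSqZeroExt.fstHom P P P (TrivSqZeroExt.inl a + TrivSqZeroExt.inr b) = a := by
    intro a b; simp
  have hsurj : Function.Surjective (TrivSqZeroExt.fstHom P P P) := fun a =>
    ⟨TrivSqZeroExt.inl a, by simp⟩
  refine ⟨fun φ => ⟨Groth.Agent.Helper5.DualNum.idealOf J φ, Groth.Agent.Helper5.DualNum.mem_idealOf J φ, ?_⟩, fun J' => ⟨?_, ?_⟩⟩
  · intro J'' hJ''
    ext x
    rw [Groth.Agent.Helper5.DualNum.decomp x, hJ'', Groth.Agent.Helper5.DualNum.mem_idealOf]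
  · rintro ⟨hmap, hflat⟩
    have F1 : ∀ a b : P, (TrivSqZeroExt.inl a + TrivSqZeroExt.inr b : DualNumber P) ∈ J' → a ∈ J := by
      intro a b h
      rw [← hmap, ← hfst a b]
      exact Ideal.mem_map_of_mem _ h
    have F2 : ∀ a ∈ J, ∃ b : P, (TrivSqZeroExt.inl a + TrivSqZeroExt.inr b : DualNumber P) ∈ J' := by
      intro a ha
      rw [← hmap, Ideal.mem_map_iff_of_surjective _ hsurj] at ha
      obtain ⟨x, hx, rfl⟩ := ha
      refine ⟨x.snd, ?_⟩
      have : (TrivSqZeroExt.fstHom P P P) x = x.fst := rfl
      rw [this, ← Groth.Agent.Helper5.DualNum.decomp x]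
      exact hx
    have hinr : ∀ c : P, (TrivSqZeroExt.inr c : DualNumber P) = TrivSqZeroExt.inl 0 + TrivSqZeroExt.inr c := by
      intro c; simp
    have F3 : ∀ c : P, (TrivSqZeroExt.inr c : DualNumber P) ∈ J' ↔ c ∈ J := by
      intro c
      constructor
      · intro hc
        have h0 : Ideal.Quotient.mk J' DualNumber.eps * Ideal.Quotient.mk J' (TrivSqZeroExt.inl c) = 0 := by
          rw [← map_mul, Ideal.Quotient.eq_zero_iff_mem]
          have : (DualNumber.eps : DualNumber P) * TrivSqZeroExt.inl c = TrivSqZeroExt.inr c := by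
            ext <;> simp
          rw [this]; exact hc
        obtain ⟨m', hm'⟩ := hflat _ h0
        obtain ⟨y, rfl⟩ := Ideal.Quotient.mk_surjective m'
        rw [← map_mul, Ideal.Quotient.eq, Groth.Agent.Helper5.DualNum.decomp y, Groth.Agent.Helper5.DualNum.eps_mul_formula] at hm'
        have : (TrivSqZeroExt.inl c - (TrivSqZeroExt.inl 0 + TrivSqZeroExt.inr y.fst) : DualNumber P) =
            TrivSqZeroExt.inl c + TrivSqZeroExt.inr (-y.fst) := by
          ext <;> simp
        rw [this] at hm'
        exact F1 _ _ hm'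
      · intro hc
        obtain ⟨d, hd⟩ := F2 c hc
        have := J'.mul_mem_left (DualNumber.eps) hd
        rw [Groth.Agent.Helper5.DualNum.eps_mul_formula, ← hinr] at this
        exact this
    choose! β hβ using F2
    have K : ∀ (a : P) (ha : a ∈ J) (b : P),
        (TrivSqZeroExt.inl a + TrivSqZeroExt.inr b : DualNumber P) ∈ J' →
          Ideal.Quotient.mk J b = Ideal.Quotient.mk J (β a) := by
      intro a ha b hb
      rw [Ideal.Quotient.eq, ← F3]
      have := J'.sub_mem hb (hβ a ha)
      have e : (TrivSqZeroExt.inl a + TrivSqZeroExt.inr b - (TrivSqZeroExt.inl a + TrivSqZeroExt.inr (β a)) : DualNumber P) =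
          TrivSqZeroExt.inr (b - β a) := by
        ext <;> simp
      rw [e] at this
      exact this
    let φ : J →ₗ[P] (P ⧸ J) :=
      { toFun := fun a => Ideal.Quotient.mk J (β a)
        map_add' := by
          intro a a'
          symm
          rw [← map_add]
          apply K _ (a + a').2
          have := J'.add_mem (hβ a a.2) (hβ a' a'.2)
          have e : (TrivSqZeroExt.inl (a : P) + TrivSqZeroExt.inr (β a) + (TrivSqZeroExt.inl (a' : P) + TrivSqZeroExt.inr (β a')) : DualNumber P) =
              TrivSqZeroExt.inl ((a + a' : J) : P) + TrivSqZeroExt.inr (β a + β a') := by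
            ext <;> simp
          rw [e] at this
          exact this
        map_smul' := by
          intro c a
          symm
          rw [RingHom.id_apply, Algebra.smul_def, Ideal.Quotient.algebraMap_eq, ← map_mul]
          apply K _ (c • a).2
          have := J'.mul_mem_left (TrivSqZeroExt.inl c) (hβ a a.2)
          have e : (TrivSqZeroExt.inl c * (TrivSqZeroExt.inl (a : P) + TrivSqZeroExt.inr (β a)) : DualNumber P) =
              TrivSqZeroExt.inl ((c • a : J) : P) + TrivSqZeroExt.inr (c * β a) := by
            ext <;> simp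
          rw [e] at this
          exact this }
    refine ⟨φ, fun a b => ⟨fun h => ⟨F1 a b h, K a (F1 a b h) b h⟩, ?_⟩⟩
    rintro ⟨ha, hb⟩
    change Ideal.Quotient.mk J b = Ideal.Quotient.mk J (β a) at hb
    rw [Ideal.Quotient.eq, ← F3] at hb
    have := J'.add_mem (hβ a ha) hb
    have e : (TrivSqZeroExt.inl a + TrivSqZeroExt.inr (β a) + TrivSqZeroExt.inr (b - β a) : DualNumber P) =
        TrivSqZeroExt.inl a + TrivSqZeroExt.inr b := by
      ext <;> simp
    rw [e] at this
    exact this
  · rintro ⟨φ, hφ⟩
    refine ⟨le_antisymm ?_ ?_, ?_⟩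
    · rw [Ideal.map_le_iff_le_comap]
      intro x hx
      rw [Groth.Agent.Helper5.DualNum.decomp x] at hx
      obtain ⟨h, -⟩ := (hφ _ _).mp hx
      exact h
    · intro a ha
      obtain ⟨b, hb⟩ := Ideal.Quotient.mk_surjective (φ ⟨a, ha⟩)
      have : (TrivSqZeroExt.inl a + TrivSqZeroExt.inr b : DualNumber P) ∈ J' := (hφ a b).mpr ⟨ha, hb⟩
      rw [← hfst a b]
      exact Ideal.mem_map_of_mem _ this
    · intro m hm
      obtain ⟨x, rfl⟩ := Ideal.Quotient.mk_surjective m
      rw [← map_mul, Ideal.Quotient.eq_zero_iff_mem, Groth.Agent.Helper5.DualNum.decomp x, Groth.Agent.Helper5.DualNum.eps_mul_formula, hφ] at hm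
      obtain ⟨h0, hm⟩ := hm
      have hz : (⟨0, h0⟩ : J) = 0 := rfl
      rw [hz, map_zero, Ideal.Quotient.eq_zero_iff_mem] at hm
      obtain ⟨c, hc⟩ := Ideal.Quotient.mk_surjective (Ideal.Quotient.mk J x.snd - φ ⟨x.fst, hm⟩)
      refine ⟨Ideal.Quotient.mk J' (TrivSqZeroExt.inl c), ?_⟩
      rw [← map_mul, Ideal.Quotient.eq]
      have e : (x - DualNumber.eps * TrivSqZeroExt.inl c : DualNumber P) =
          TrivSqZeroExt.inl x.fst + TrivSqZeroExt.inr (x.snd - c) := by
        ext <;> simp
      rw [e, hφ]
      exact ⟨hm, by rw [map_sub, hc]; ring⟩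

end Groth.Agent.S11294
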