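import Groth.Statements.S11298
import Mathlib
import Groth.Agent.Helper9.ReflKer
import Groth.Agent.Helper9.DepthKer

set_option autoImplicit false
universe u v
open LocCoh

namespace Groth.Agent.S11298

/-- Let X = Spec B be an affine Noetherian scheme, Z = V(I) a closed subscheme and G a coherent sheaf,
i.e. a finitely generated B-module M, with dual G^v = Hom_B(M, B). If depth_Z(O_X) ≥ 2 then
depth_Z(G^v) ≥ 2. Here the depth along I of a module N is the supremum of the lengths of N-regular
sequences contained in I (and is infinite when I N = N). (The published statement adds that sections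
of the dual over X and over X minus Z agree; this row omits that clause.) -/
theorem result (B : Type u) [CommRing B] [IsNoetherianRing B]
    (I : Ideal B) (M : Type v) [AddCommGroup M] [Module B M] [Module.Finite B M]
    (h : 2 ≤ LocCoh.idealDepth I B) : 2 ≤ LocCoh.idealDepth I (M →ₗ[B] B) := by
  open Groth.Agent.Helper9.DepthKer Groth.Agent.Helper9.ReflKer LocCoh Module in
  classical
  obtain ⟨n, π, hπ⟩ := Module.Finite.exists_fin' B M
  have : IsNoetherian B (Fin n → B) := inferInstance
  obtain ⟨m, ρ, hρ⟩ := Module.Finite.exists_fin' B (LinearMap.ker π)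
  let ρ' : (Fin m → B) →ₗ[B] (Fin n → B) := (LinearMap.ker π).subtype ∘ₗ ρ
  have hρ'ker : ∀ d, π (ρ' d) = 0 := fun d => (ρ d).2
  have hρ'surj : ∀ c, π c = 0 → ∃ d, ρ' d = c := by
    intro c hc
    obtain ⟨d, hd⟩ := hρ ⟨c, hc⟩
    exact ⟨d, congrArg Subtype.val hd⟩
  let φ : Fin n → M := fun i => π (Pi.single i 1)
  have hπc : ∀ c : Fin n → B, π c = ∑ i, c i • φ i := by
    intro c
    have : c = ∑ i, c i • (Pi.single i 1 : Fin n → B) := by
      ext j
      simp [Finset.sum_apply, Pi.single_apply]
    conv_lhs => rw [this]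
    simp only [map_sum, map_smul, φ]
  let ι : (M →ₗ[B] B) →ₗ[B] (Fin n → B) :=
    LinearMap.pi fun i => LinearMap.applyₗ (φ i)
  have hι : ∀ f i, ι f i = f (φ i) := fun f i => rfl
  let u : (Fin n → B) →ₗ[B] (Fin m → B) :=
    LinearMap.pi fun j => ∑ i, (ρ' (Pi.single j 1) i) • (LinearMap.proj i : (Fin n → B) →ₗ[B] B)
  have hu : ∀ v j, u v j = ∑ i, ρ' (Pi.single j 1) i * v i := by
    intro v j
    simp [u, LinearMap.pi_apply, LinearMap.sum_apply]
  have hρ'd : ∀ d : Fin m → B, ρ' d = ∑ j, d j • ρ' (Pi.single j 1) := by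
    intro d
    have : d = ∑ j, d j • (Pi.single j 1 : Fin m → B) := by
      ext j
      simp [Finset.sum_apply, Pi.single_apply]
    conv_lhs => rw [this]
    simp only [map_sum, map_smul]
  have hinj : Function.Injective ι := by
    rw [injective_iff_map_eq_zero]
    intro g hg
    ext x
    obtain ⟨c, rfl⟩ := hπ x
    rw [LinearMap.zero_apply, hπc, map_sum]
    refine Finset.sum_eq_zero fun i _ => ?_
    rw [map_smul]
    have : g (φ i) = 0 := congrFun hg i
    rw [this, smul_zero]
  have hex : Function.Exact ι u := by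
    intro v
    constructor
    · intro hv
      let ℓ : (Fin n → B) →ₗ[B] B := ∑ i, v i • (LinearMap.proj i : (Fin n → B) →ₗ[B] B)
      have hℓ : ∀ c, ℓ c = ∑ i, v i * c i := by
        intro c
        simp [ℓ, LinearMap.sum_apply]
      have hker : LinearMap.ker π ≤ LinearMap.ker ℓ := by
        intro c hc
        obtain ⟨d, rfl⟩ := hρ'surj c hc
        rw [LinearMap.mem_ker, hρ'd, map_sum]
        refine Finset.sum_eq_zero fun j _ => ?_
        rw [map_smul, hℓ]
        have := congrFun hv j
        rw [hu] at this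
        rw [smul_eq_mul]
        have h2 : ∑ i, v i * ρ' (Pi.single j 1) i = ∑ i, ρ' (Pi.single j 1) i * v i :=
          Finset.sum_congr rfl fun i _ => mul_comm _ _
        rw [h2, this]
        simp
      let ξ : M →ₗ[B] B :=
        ((LinearMap.ker π).liftQ ℓ hker) ∘ₗ (π.quotKerEquivOfSurjective hπ).symm.toLinearMap
      have hξ : ∀ c, ξ (π c) = ℓ c := by
        intro c
        simp only [ξ, LinearMap.comp_apply, LinearEquiv.coe_coe]
        have : (π.quotKerEquivOfSurjective hπ).symm (π c) = Submodule.Quotient.mk c := by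
          rw [LinearEquiv.symm_apply_eq]
          rfl
        rw [this, Submodule.liftQ_apply]
      refine ⟨ξ, ?_⟩
      ext i
      rw [hι]
      have h1 : ξ (φ i) = ℓ (Pi.single i 1) := hξ _
      rw [h1, hℓ]
      simp [Pi.single_apply]
    · rintro ⟨g, rfl⟩
      ext j
      rw [hu, Pi.zero_apply]
      have h1 := hρ'ker (Pi.single j 1)
      rw [hπc] at h1
      have h2 := congrArg g h1
      rw [map_sum, map_zero] at h2
      rw [← h2]
      refine Finset.sum_congr rfl fun i _ => ?_
      rw [map_smul, smul_eq_mul, hι]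
  have hrange : LinearMap.range ι = LinearMap.ker u := (LinearMap.exact_iff.mp hex).symm
  let e : (M →ₗ[B] B) ≃ₗ[B] LinearMap.ker u :=
    (LinearEquiv.ofInjective ι hinj).trans (LinearEquiv.ofEq _ _ hrange)
  rw [idealDepth_congr I e]
  have h1 : 1 ≤ idealDepth I B := le_trans (by norm_num) h
  exact depth_ker_two u (two_le_idealDepth_pi I B n h) (one_le_idealDepth_pi I B m h1)

end Groth.Agent.S11298
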