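import Groth.Statements.S11306
import Mathlib

set_option autoImplicit false
universe u
open TensorProduct
open CAlg

namespace Groth.Agent.S11306

/-- Take a Noetherian local domain A, with residue field k and fraction field K, and let M be a finitely
generated A-module. If k ⊗_A M and K ⊗_A M have the same dimension r (over k and over K
respectively), then M is a free A-module of rank r. -/
theorem result (A : Type u) [CommRing A] [IsDomain A]
    [IsNoetherianRing A] [IsLocalRing A] (M : Type u) [AddCommGroup M] [Module A M] [Module.Finite A M] (r : ℕ)
    (hk : Module.finrank (IsLocalRing.ResidueField A) (IsLocalRing.ResidueField A ⊗[A] M) = r)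
    (hK : Module.finrank (FractionRing A) (FractionRing A ⊗[A] M) = r) :
    Module.Free A M ∧ Module.finrank A M = r := by
  classical
  let k := IsLocalRing.ResidueField A
  let K := FractionRing A
  let b : Module.Basis (Fin r) k (k ⊗[A] M) := Module.finBasisOfFinrankEq k (k ⊗[A] M) hk
  have hsurj : Function.Surjective (TensorProduct.mk A k M 1) := by
    intro x
    induction x using TensorProduct.induction_on with
    | zero => exact ⟨0, by simp⟩
    | tmul c m =>
      obtain ⟨a, rfl⟩ := IsLocalRing.residue_surjective c
      refine ⟨a • m, ?_⟩
      simp only [TensorProduct.mk_apply, TensorProduct.tmul_smul]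
      rw [TensorProduct.smul_tmul', Algebra.smul_def, mul_one]
      rfl
    | add x y hx hy =>
      obtain ⟨a, rfl⟩ := hx
      obtain ⟨b, rfl⟩ := hy
      exact ⟨a + b, by rw [map_add]⟩
  choose f hf using fun i => hsurj (b i)
  have hspan : Submodule.span A (Set.range f) = ⊤ :=
    IsLocalRing.span_eq_top_of_tmul_eq_basis f b hf
  let π : (Fin r → A) →ₗ[A] M := Fintype.linearCombination A f
  have hπsurj : Function.Surjective π := by
    rw [← LinearMap.range_eq_top, Fintype.range_linearCombination, hspan]
  have hbc_surj : Function.Surjective (π.baseChange K) := LinearMap.baseChange_surjective (A := K) hπsurj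
  have hdim : Module.finrank K (K ⊗[A] (Fin r → A)) = Module.finrank K (K ⊗[A] M) := by
    rw [Module.finrank_baseChange, hK]; simp
  have hbc_inj : Function.Injective (π.baseChange K) :=
    (LinearMap.injective_iff_surjective_of_finrank_eq_finrank hdim).2 hbc_surj
  have hmk_inj : Function.Injective (TensorProduct.mk A K (Fin r → A) 1) := by
    have := Module.Flat.rTensor_preserves_injective_linearMap (M := (Fin r → A))
      (Algebra.linearMap A K) (FaithfulSMul.algebraMap_injective A K)
    intro x y hxy
    have h2 : ∀ z : Fin r → A, TensorProduct.mk A K (Fin r → A) 1 z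
        = (Algebra.linearMap A K).rTensor (Fin r → A) ((TensorProduct.lid A _).symm z) := by
      intro z; simp
    rw [h2, h2] at hxy
    exact (TensorProduct.lid A _).symm.injective (this hxy)
  have hπinj : Function.Injective π := by
    rw [injective_iff_map_eq_zero]
    intro x hx
    apply hmk_inj
    rw [map_zero]
    apply hbc_inj
    rw [map_zero]
    simp [hx]
  let e : (Fin r → A) ≃ₗ[A] M := LinearEquiv.ofBijective π ⟨hπinj, hπsurj⟩
  refine ⟨Module.Free.of_equiv e, ?_⟩
  rw [← e.finrank_eq]; simp

end Groth.Agent.S11306
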