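import Groth.Statements.S11322
import Groth.Agent.Helper5.VarDim12

set_option autoImplicit false
universe u
open CategoryTheory AlgebraicGeometry
open FlatMor

namespace Groth.Agent.S11322

/-- Let k be a field, X and Y schemes of finite type over k with Y irreducible, f : X → Y a flat
k-morphism and n a natural number. Then all irreducible components of X have dimension dim Y + n if
and only if, for each point y of Y (generic points included), all irreducible components of the
fibre of f over y have dimension n. -/
theorem result (k : Type u) [Field k]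
    {X Y : Scheme.{u}} (qX : X ⟶ Spec (CommRingCat.of k)) (qY : Y ⟶ Spec (CommRingCat.of k))
    [LocallyOfFiniteType qX] [QuasiCompact qX] [LocallyOfFiniteType qY] [QuasiCompact qY]
    [IrreducibleSpace ↥Y] (f : X ⟶ Y) (hf : f ≫ qY = qX) [Flat f] (n : ℕ) :
    (∀ Z : Set ↥X, Z ∈ irreducibleComponents ↥X → topologicalKrullDim ↥Z = topologicalKrullDim ↥Y + (n : WithBot ℕ∞)) ↔
      ∀ (y : Y) (Z : Set ↥(f.fiber y)), Z ∈ irreducibleComponents ↥(f.fiber y) →
        topologicalKrullDim ↥Z = (n : WithBot ℕ∞) := by
  have hflft : LocallyOfFiniteType f := by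
    have : LocallyOfFiniteType (f ≫ qY) := hf ▸ inferInstance
    exact locallyOfFiniteType_of_comp f qY
  obtain ⟨D, hD, -⟩ := Groth.Agent.Helper5.VarDim.dim_eq_trdeg_generic k qY (genericPoint Y)
    (genericPoint_closure Y)
  have key : ∀ x : X, FlatMor.localDim X x = (D : WithBot ℕ∞) + FlatMor.fibreDimAt f x := by
    intro x
    have h := Groth.Agent.Helper5.VarDim.flat_formula k qX qY f hf x (Flat.stalkMap f x)
    rwa [Groth.Agent.Helper5.VarDim.localDim_eq_dim_of_irreducible k qY (f x), hD] at h
  constructor
  · intro H y Z hZ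
    have hft : LocallyOfFiniteType (f.fiberToSpecResidueField y) :=
      inferInstanceAs (LocallyOfFiniteType (Limits.pullback.snd f (Y.fromSpecResidueField y)))
    obtain ⟨ζ, -, hζ2⟩ := Groth.Agent.Helper5.VarDim.exists_generic_component (Y.residueField y)
      (f.fiberToSpecResidueField y) Z hZ
    have h1 := Groth.Agent.Helper5.VarDim.localDim_fiber_eq_fibreDimAt f y ζ (f.fiberι y ζ) rfl
      (Groth.Agent.Helper5.VarDim.apply_fiberι f y ζ)
    have h2 := key (f.fiberι y ζ)
    have h3 := Groth.Agent.Helper5.VarDim.localDim_eq_of_components k qX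
      (topologicalKrullDim Y + (n : WithBot ℕ∞)) (fun Z hZ => H Z hZ) (f.fiberι y ζ)
    rw [hD] at h3
    rw [h3, ← h1, hζ2] at h2
    exact (Groth.Agent.Helper5.VarDim.withBot_enat_add_left_cancel D _ _ h2).symm
  · intro H Z hZ
    obtain ⟨ζ, -, hζ2⟩ := Groth.Agent.Helper5.VarDim.exists_generic_component k qX Z hZ
    rw [← hζ2, key ζ, hD]
    congr 1
    have hft : LocallyOfFiniteType (f.fiberToSpecResidueField (f ζ)) :=
      inferInstanceAs (LocallyOfFiniteType (Limits.pullback.snd f (Y.fromSpecResidueField (f ζ))))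
    exact Groth.Agent.Helper5.VarDim.localDim_eq_of_components (Y.residueField (f ζ))
      (f.fiberToSpecResidueField (f ζ)) (n : WithBot ℕ∞) (fun Z hZ => H (f ζ) Z hZ) (f.asFiber ζ)

end Groth.Agent.S11322
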