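import Groth.Statements.S11349
import Groth.Agent.Helper4.SN644
import Groth.Agent.Helper4.SN112
import Groth.Agent.Helper4.AmpleTensor
import Mathlib

set_option autoImplicit false
universe u
open CategoryTheory CategoryTheory.Limits AlgebraicGeometry
open Curves

namespace Groth.Agent.S11349


/-- Take an algebraically closed field k of characteristic different from 2 and an elliptic curve X over
k — an integral scheme, proper over k, of dimension one, all local rings regular, of genus dim_k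
H^1(X, O_X) = 1 — and let P, Q be closed points of X, possibly equal. Then there is an automorphism
σ of X over k with σ² = id and σ(P) = Q such that R + σ(R) is linearly equivalent to P + Q for every
closed point R; the last condition is written on ideal sheaves of points: I_R ⊗ I_{σ(R)} ≅ I_P ⊗
I_Q. -/
theorem result (k : Type u) [Field k] [IsAlgClosed k] (X : Scheme.{u}) [X.Over (Spec (CommRingCat.of k))]
    [IsIntegral X] [IsProper (X ↘ (Spec (CommRingCat.of k)))] (hdim : topologicalKrullDim X = 1)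
    (hreg : ∀ x : X, IsRegularLocalRing (X.presheaf.stalk x)) (hchar : ringChar k ≠ 2) (hg : Curv2.genus k X = 1)
    (P Q : X) (hP : IsClosed ({P} : Set X)) (hQ : IsClosed ({Q} : Set X)) :
    ∃ σ : X ≅ X, σ.hom ≫ (X ↘ (Spec (CommRingCat.of k))) = (X ↘ (Spec (CommRingCat.of k))) ∧ σ.hom ≫ σ.hom = 𝟙 X ∧ σ.hom P = Q ∧
      ∀ (R R' : X) (hR : IsClosed ({R} : Set X)) (hR' : IsClosed ({R'} : Set X)), σ.hom R = R' →
        Nonempty (CohB1.tensorMod (ClSub.idealMod (Scheme.IdealSheafData.vanishingIdeal ⟨{R}, hR⟩)) (ClSub.idealMod (Scheme.IdealSheafData.vanishingIdeal ⟨{R'}, hR'⟩)) ≅ CohB1.tensorMod (ClSub.idealMod (Scheme.IdealSheafData.vanishingIdeal ⟨{P}, hP⟩)) (ClSub.idealMod (Scheme.IdealSheafData.vanishingIdeal ⟨{Q}, hQ⟩))) := by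

  haveI := Groth.Agent.Helper4.NApx82.isNoetherian_of_proper k X
  have hnorm : ∀ x : X, IsIntegrallyClosed (X.presheaf.stalk x) := fun x =>
    haveI := hreg x
    Groth.Agent.Helper4.RegNormal.isIntegrallyClosed_of_isRegularLocalRing _
  obtain ⟨NP, NQ, f, hNP, hNQ, ⟨eP⟩, ⟨eQ⟩, hf, ⟨τ⟩, hξ, hd, hfib⟩ :=
    Groth.Agent.Helper4.SN641.exists_double_cover k hdim hreg hg P Q hP hQ
  haveI : IsProper (CohB1.ProjSpace.toSpec 1 k) := Groth.Agent.Helper6.HProj.isProper_toSpec 1 k
  haveI : IsFinite f := Groth.Agent.Helper4.SN.isFinite_of_nonconstant k hdim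
    (Groth.Agent.Helper4.SN.dim_P1 k) f hf hξ
  have hdim1 : ∀ y : X, ringKrullDim (X.presheaf.stalk y) ≤ 1 := by
    intro y
    have := Groth.Agent.Helper5.DimIneq.ringKrullDim_stalk_le_dim X y
    rw [hdim] at this
    exact this
  have hN : ∀ y : CohB1.ProjSpace 1 k,
      IsIntegrallyClosed ((CohB1.ProjSpace 1 k).presheaf.stalk y) :=
    fun y => Groth.Agent.Helper4.SN.isIntegrallyClosed_stalk_P1 k y
  have h2 : @Module.finrank (CohB1.ProjSpace 1 k).functionField X.functionField _ _
      (Groth.Agent.Helper4.SN637.ffMap f hξ).hom.toAlgebra.toModule = 2 := by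
    rw [Groth.Agent.Helper4.SN641.finrank_ffMap f hξ, hd]
  have hfPQ : f P = f Q := by
    have h1 := (hfib P).mpr (Or.inl rfl)
    have h2 := (hfib Q).mpr (Or.inr rfl)
    exact Groth.Agent.Helper4.SN636.eq_of_notMem_basicOpen k 0 (f P) (f Q) h1 h2
  have hcharK : ringChar (CohB1.ProjSpace 1 k).functionField ≠ 2 := by
    haveI := ringChar.charP k
    haveI : CharP (CohB1.ProjSpace 1 k).functionField (ringChar k) :=
      charP_of_injective_ringHom
        (f := (Curv2.stalkMap k (CohB1.ProjSpace 1 k) (genericPoint (CohB1.ProjSpace 1 k))))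
        (RingHom.injective _) (ringChar k)
    rw [ringChar.eq (CohB1.ProjSpace 1 k).functionField (ringChar k)]
    exact hchar
  have hsep : @Algebra.IsSeparable (CohB1.ProjSpace 1 k).functionField X.functionField _ _
      (Groth.Agent.Helper4.SN637.ffMap f hξ).hom.toAlgebra :=
    @Groth.Agent.Helper4.SN643.isSeparable_of_finrank_two _ _ _ _
      (Groth.Agent.Helper4.SN637.ffMap f hξ).hom.toAlgebra h2 hcharK
  obtain ⟨σ, hσp, hσσ, hσf, hσfib⟩ :=
    Groth.Agent.Helper4.SN639.exists_involution_of_double_cover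
      (X ↘ Spec (CommRingCat.of k)) (CohB1.ProjSpace.toSpec 1 k) hreg hdim1 hN f hf hξ h2 hsep
  have hσfx : ∀ z : X, f (σ.hom z) = f z := fun z => by
    have := congrArg (fun g : X ⟶ CohB1.ProjSpace 1 k => g z) hσf
    simpa using this
  refine ⟨σ, hσp, hσσ, ?_, ?_⟩
  · by_cases hPQ : P = Q
    · have h1 := (hfib P).mpr (Or.inl rfl)
      rw [← hσfx P] at h1
      rcases (hfib _).mp h1 with h | h
      · rw [h]; exact hPQ
      · exact h
    · rcases hσfib P Q hQ hfPQ with h | h
      · exact absurd h.symm hPQ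
      · exact h.symm
  · intro R R' hR hR' hRR'
    obtain ⟨R'', hR'', ⟨e⟩, hfR'', hall⟩ :=
      Groth.Agent.Helper4.SN644.exists_fibre_pair k hdim hnorm f hf hξ hd R hR
    have hR''R' : R'' = R' := by
      rw [← hRR']
      rcases hall (σ.hom R) (hσfx R) with h | h
      · rcases hσfib R R'' hR'' hfR''.symm with h' | h'
        · rw [h', h]
        · exact h'
      · exact h.symm
    subst hR''R'
    set IR := ClSub.idealMod (Scheme.IdealSheafData.vanishingIdeal ⟨{R}, hR⟩) with hIR
    set IR'' := ClSub.idealMod (Scheme.IdealSheafData.vanishingIdeal ⟨{R''}, hR'⟩) with hIR''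
    set IP := ClSub.idealMod (Scheme.IdealSheafData.vanishingIdeal ⟨{P}, hP⟩) with hIP
    set IQ := ClSub.idealMod (Scheme.IdealSheafData.vanishingIdeal ⟨{Q}, hQ⟩) with hIQ
    have hIQinv : PicF.IsInvertible IQ :=
      (Groth.Agent.Helper4.SN.ideal_point_of_normal k hdim Q hQ (hnorm Q)).1
    have E1 : CohB1.tensorMod (CohB1.tensorMod IR IR'') (CohB1.tensorMod NP NQ) ≅
        Coh.structureModule X :=
      PicGrp.tensorModIso (Groth.Agent.Lead.Ref1B.braid IR IR'') (Iso.refl _) ≪≫
        Groth.Agent.Lead.Ref1B.assoc IR'' IR (CohB1.tensorMod NP NQ) ≪≫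
        PicGrp.tensorModIso (Iso.refl IR'') (PicGrp.tensorModIso (Iso.refl IR) τ.symm) ≪≫ e.symm
    have E2 : CohB1.tensorMod (CohB1.tensorMod IP IQ) (CohB1.tensorMod NP NQ) ≅
        Coh.structureModule X :=
      Groth.Agent.Helper4.AmpleTensor.interchangeIso IP IQ NP NQ hIQinv hNP hNQ ≪≫
        PicGrp.tensorModIso (Groth.Agent.Lead.Ref1B.braid IP NP ≪≫ eP)
          (Groth.Agent.Lead.Ref1B.braid IQ NQ ≪≫ eQ) ≪≫
        Groth.Agent.Lead.Ref1B.unitorL (Coh.structureModule X)
    exact Groth.Agent.Helper4.SN.nonempty_iso_of_inverse (CohB1.tensorMod IR IR'')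
      (CohB1.tensorMod IP IQ) (CohB1.tensorMod NP NQ) (CohB1.tensorMod IP IQ) E1 E2
      (Groth.Agent.Lead.Ref1B.braid _ _ ≪≫ E2)

end Groth.Agent.S11349
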