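import Groth.Statements.S11353
import Groth.Agent.Helper4.SN99
import Groth.Agent.Lead.InvDualA
import Mathlib

set_option autoImplicit false
universe u
open CategoryTheory CategoryTheory.Limits AlgebraicGeometry
open Curves

namespace Groth.Agent.S11353


/-- Let C be a curve over an algebraically closed field k (integral, proper over k, of dimension one,
all local rings regular) and E a decomposable locally free sheaf of rank 2 — E ≅ L₁ ⊕ L₂ with L₁, L₂
invertible — which is normalized: H^0(C, E) ≠ 0 while H^0(C, E ⊗ M) = 0 for every invertible M of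
negative degree. Then E ≅ O_C ⊕ L for an invertible L with deg L ≤ 0; in particular e = -deg E ≥ 0. -/
theorem result (k : Type u) [Field k] [IsAlgClosed k] (C : Scheme.{u}) [C.Over (Spec (CommRingCat.of k))]
    [IsIntegral C] [IsProper (C ↘ (Spec (CommRingCat.of k)))] (hdimC : topologicalKrullDim C = 1)
    (hregC : ∀ x : C, IsRegularLocalRing (C.presheaf.stalk x))
    (E L₁ L₂ : C.Modules) (hL₁ : PicF.IsInvertible L₁) (hL₂ : PicF.IsInvertible L₂) (hE : Nonempty (E ≅ L₁ ⊞ L₂))
    (hn0 : Nontrivial (Coh.HH C E 0))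
    (hneg : ∀ M : C.Modules, PicF.IsInvertible M → Curv2.deg k C M 1 < 0 → Subsingleton (Coh.HH C (CohB1.tensorMod E M) 0)) :
    ∃ L : C.Modules, PicF.IsInvertible L ∧ Curv2.deg k C L 1 ≤ 0 ∧ Nonempty (E ≅ Coh.structureModule C ⊞ L) := by

  classical
  obtain ⟨θ⟩ := hE
  haveI := Groth.Agent.Helper4.NApx82.isNoetherian_of_proper k C
  obtain ⟨s, hs0⟩ := Groth.Agent.Helper4.SN.exists_section_of_nontrivial_H0 E hn0
  have hO := Groth.Agent.Helper4.TensorInv.isInvertible_structureModule (X := C)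
  have hid : (𝟙 (Coh.structureModule C)) ≠ 0 := by
    intro h
    apply hs0
    rw [← Category.id_comp s, h, zero_comp]
  -- degrees of the summands are nonpositive
  have hdegle : ∀ (L : C.Modules), PicF.IsInvertible L → ∀ (i : L ⟶ E) (p : E ⟶ L), i ≫ p = 𝟙 L →
      Curv2.deg k C L 1 ≤ 0 := by
    intro L hL i p hip
    by_contra hpos
    push Not at hpos
    obtain ⟨N, hN, -, ⟨ε'⟩⟩ := Groth.Agent.Lead.InvDual.exists_inverse L hL
    have hdN : Curv2.deg k C N 1 < 0 := by
      have h := Groth.Agent.Helper4.SN.main7637 k hdimC.le 1 1 L N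
        (Groth.Agent.Helper4.QAffSec.isFinLocFreeOfRank_one_of_isInvertible L hL)
        (Groth.Agent.Helper4.QAffSec.isFinLocFreeOfRank_one_of_isInvertible N hN)
      have h2 := Groth.Agent.Helper4.SN.deg_iso k ε' 1
      rw [Groth.Agent.Helper4.NApx82.deg_structureModule k C] at h2
      simp only [Nat.cast_one, one_mul, mul_one] at h
      rw [h2] at h
      linarith
    have hsub : Subsingleton (Coh.HH C ((DCoh.tensorRightMod N).obj E) 0) := hneg N hN hdN
    have ε'' : (DCoh.tensorRightMod N).obj L ≅ Coh.structureModule C := ε'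
    have h0 := Groth.Agent.Helper4.SN.eq_zero_of_subsingleton_H0 _ hsub
      (ε''.inv ≫ (DCoh.tensorRightMod N).map i)
    have h1 : ε''.inv ≫ (DCoh.tensorRightMod N).map i ≫ (DCoh.tensorRightMod N).map p = 0 := by
      rw [← Category.assoc, h0, zero_comp]
    rw [← Functor.map_comp, hip, CategoryTheory.Functor.map_id, Category.comp_id] at h1
    apply hid
    rw [← ε''.inv_hom_id, h1, zero_comp]
  -- a nonzero section of a summand is an isomorphism
  have hiso : ∀ (L : C.Modules), PicF.IsInvertible L → Curv2.deg k C L 1 ≤ 0 →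
      ∀ σ : Coh.structureModule C ⟶ L, σ ≠ 0 → IsIso σ := by
    intro L hL hle σ hσ
    obtain ⟨-, heul, hi⟩ := Groth.Agent.Helper4.NApx82.hom_main k C hdimC
      (Coh.structureModule C) L hO hL σ hσ
    apply hi
    unfold Curv2.deg at hle
    have : (0 : ℤ) ≤ (Module.finrank k (Coh.HH C (cokernel σ) 0) : ℤ) := Int.natCast_nonneg _
    have h3 : (Module.finrank k (Coh.HH C (cokernel σ) 0) : ℤ) = 0 := by
      push_cast at hle
      linarith
    exact_mod_cast h3
  have hd1 : Curv2.deg k C L₁ 1 ≤ 0 :=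
    hdegle L₁ hL₁ (biprod.inl ≫ θ.inv) (θ.hom ≫ biprod.fst) (by simp)
  have hd2 : Curv2.deg k C L₂ 1 ≤ 0 :=
    hdegle L₂ hL₂ (biprod.inr ≫ θ.inv) (θ.hom ≫ biprod.snd) (by simp)
  have ht : s ≫ θ.hom ≠ 0 := by
    intro h
    apply hs0
    rw [← cancel_mono θ.hom, h, zero_comp]
  by_cases h1 : s ≫ θ.hom ≫ biprod.fst = 0
  · have h2 : s ≫ θ.hom ≫ biprod.snd ≠ 0 := by
      intro h2
      apply ht
      apply biprod.hom_ext
      · rw [Category.assoc, h1, zero_comp]
      · rw [Category.assoc, h2, zero_comp]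
    haveI := hiso L₂ hL₂ hd2 _ h2
    exact ⟨L₁, hL₁, hd1, ⟨θ ≪≫ biprod.braiding L₁ L₂ ≪≫
      biprod.mapIso (asIso (s ≫ θ.hom ≫ biprod.snd)).symm (Iso.refl L₁)⟩⟩
  · haveI := hiso L₁ hL₁ hd1 _ h1
    exact ⟨L₂, hL₂, hd2, ⟨θ ≪≫
      biprod.mapIso (asIso (s ≫ θ.hom ≫ biprod.fst)).symm (Iso.refl L₂)⟩⟩

end Groth.Agent.S11353
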