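import Groth.Statements.S11360
import Groth.Agent.Helper6.LocExt5

set_option autoImplicit false
universe u
open CategoryTheory
attribute [local instance] HasDerivedCategory.standard
open Dual

namespace Groth.Agent.S11360

/-- Let A be a Noetherian ring and R an object of D(A) with finite cohomology modules and of finite
injective dimension (isomorphic to a bounded complex of injective modules). If for every prime p of
A the derived base change of R to A_p (the total left derived functor of extension of scalars,
assumed to exist) is a dualizing complex for A_p, then R is a dualizing complex for A. (The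
published statement is for a locally Noetherian scheme and the stalks at all points; this row is the
affine case. Without the global finite injective dimension hypothesis the conclusion fails, e.g. for
a regular Noetherian ring of infinite Krull dimension.) -/
theorem result (A : Type u) [CommRing A] [IsNoetherianRing A] (R : Dual.D A) (hfin : ∀ i : ℤ, Module.Finite A (Dual.HD A R i)) (hfid : DRing.HasFiniteInjDim A R) [∀ p : PrimeSpectrum A, DRing.HasLBaseChange (algebraMap A (Localization.AtPrime p.asIdeal))] (h : ∀ p : PrimeSpectrum A, Dual.IsDualizing (Localization.AtPrime p.asIdeal) ((DRing.LBaseChange (algebraMap A (Localization.AtPrime p.asIdeal))).obj R)) : Dual.IsDualizing A R := by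
  obtain ⟨a, b, E, hv, hinjE, ⟨e⟩⟩ := hfid
  haveI : R.IsGE a := Groth.Agent.Helper3.DRingLib.isGE_of_HD R a
    (fun i hi => Groth.Agent.Helper6.LocExt.subsingleton_HD_of_rep E a b hv e i (Or.inl hi))
  haveI : R.IsLE b := Groth.Agent.Helper3.DRingLib.isLE_of_HD R b
    (fun i hi => Groth.Agent.Helper6.LocExt.subsingleton_HD_of_rep E a b hv e i (Or.inr hi))
  exact Groth.Agent.Helper6.LocExt.isDualizing_of_cover
    (J := PrimeSpectrum A)
    (fun p => p.asIdeal.primeCompl)
    (fun I hI => Groth.Agent.Helper6.LocExt.hcov_primes I hI)
    (fun p => Localization.AtPrime p.asIdeal)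
    R a b hfin
    ⟨a, b, fun M _ _ i hi =>
      Groth.Agent.Helper6.LocExt.subsingleton_hom_of_rep E a b hv hinjE e M i hi⟩
    (fun p => Groth.Agent.Helper6.LocExt.isDualizing_of_iso
      (Groth.Agent.Helper6.LocExt.lbcIsoBcD A (Localization.AtPrime p.asIdeal) R) (h p))

end Groth.Agent.S11360
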