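import Groth.Statements.S11375
import Groth.Agent.Lead.RegAmpleA
import Groth.Agent.Lead.QProjVanB
import Groth.Agent.S4270

set_option autoImplicit false
universe u
open CategoryTheory CategoryTheory.Limits AlgebraicGeometry TopologicalSpace
open CohDim

namespace Groth.Agent.S11375

/-- Let S be an integral scheme, separated and of finite type over an algebraically closed field k, with
all local rings regular, and let r ≥ 0. If H^i(S, E) = 0 for every i > r and every finite locally
free O_S-module E, then H^i(S, F) = 0 for every i > r and every coherent O_S-module F, i.e. the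
cohomological dimension of S is at most r. -/
theorem result (k : Type u) [Field k] [IsAlgClosed k] (S : Scheme.{u})
    [S.Over (Spec (CommRingCat.of k))] [IsSeparated (S ↘ (Spec (CommRingCat.of k)))]
    [LocallyOfFiniteType (S ↘ (Spec (CommRingCat.of k)))] [QuasiCompact (S ↘ (Spec (CommRingCat.of k)))]
    [IsIntegral S] (hreg : ∀ x : S, IsRegularLocalRing (S.presheaf.stalk x)) (r : ℕ)
    (hlf : ∀ E : S.Modules, FlatMod.IsFinLocFree E → ∀ i : ℕ, r < i → Subsingleton (Coh.HH S E i))
    (F : S.Modules) (hF : Coh.IsCoh F) (i : ℕ) (hi : r < i) :
    Subsingleton (Coh.HH S F i) := by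
  have : IsLocallyNoetherian S :=
    LocallyOfFiniteType.isLocallyNoetherian (S ↘ Spec (CommRingCat.of k))
  have : CompactSpace S := QuasiCompact.compactSpace_of_compactSpace (S ↘ Spec (CommRingCat.of k))
  have : S.IsSeparated := by
    constructor
    have h1 : Limits.terminal.from S =
        (S ↘ Spec (CommRingCat.of k)) ≫ Limits.terminal.from (Spec (CommRingCat.of k)) :=
      (Limits.terminal.comp_from _).symm
    rw [h1]
    infer_instance
  have hd : ∀ V W : S.Opens, IsAffineOpen V → IsAffineOpen W → IsAffineOpen (V ⊓ W) :=
    fun V W hV hW => hV.inf hW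
  have hamp := Groth.Agent.Lead.RegAmple.hasAmpleFamily_of_regular S hreg hd
  have hres := Groth.Agent.S4270.result S hamp
  exact Groth.Agent.Lead.QProjVan.subsingleton_HH_of_res hd hres r hlf F hF i hi

end Groth.Agent.S11375
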