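import Groth.Statements.S11388
import Groth.Agent.S11674
import Groth.Agent.Helper4.SN154
import Mathlib

set_option autoImplicit false
universe u
open CategoryTheory CategoryTheory.Limits AlgebraicGeometry TopologicalSpace
open Variety

namespace Groth.Agent.S11388


/-- Let k be an algebraically closed field, n ≥ 1, P = P^n_k and E a coherent O_P-module. Then E is
isomorphic to a finite direct sum ⊕ O_P(m_i) of twisting modules if and only if (i) H^0(P, E(m)) = 0
for all sufficiently negative m and (ii) H^i(P, E(m)) = 0 for every integer m and every i with 0 < i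
< n; here E(m) = E ⊗ O_P(m). (The published statement sits in a setting of characteristic p > 0; its
proof does not use that assumption, so none is made here.) -/
theorem result
    (k : Type u) [Field k] [IsAlgClosed k] (n : ℕ) (hn : 1 ≤ n)
    (E : (CohB1.ProjSpace n k).Modules) (hE : Coh.IsCoh E) :
    (∃ (r : ℕ) (m : Fin r → ℤ), Nonempty (E ≅ ∐ fun i => Twist.twistProjSpace n k (m i))) ↔
      ((∃ m₀ : ℤ, ∀ m : ℤ, m ≤ m₀ →
          Subsingleton (Coh.HH (CohB1.ProjSpace n k) (CohB1.tensorMod E (Twist.twistProjSpace n k m)) 0)) ∧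
        ∀ (m : ℤ) (i : ℕ), 0 < i → i < n →
          Subsingleton (Coh.HH (CohB1.ProjSpace n k) (CohB1.tensorMod E (Twist.twistProjSpace n k m)) i)) := by

  by_cases hE0 : IsZero E
  · constructor
    · intro _
      have hz : ∀ m : ℤ, IsZero (CohB1.tensorMod E (Twist.twistProjSpace n k m)) := fun m =>
        Groth.Agent.Helper4.SN.isZero_tensorMod_of_isZero hE0 _
      exact ⟨⟨0, fun m _ => Groth.Agent.Helper1.KzChase.subsingleton_HH_of_isZero (hz m) 0⟩,
        fun m i _ _ => Groth.Agent.Helper1.KzChase.subsingleton_HH_of_isZero (hz m) i⟩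
    · intro _
      refine ⟨0, fun i => Fin.elim0 i, ⟨hE0.iso ?_⟩⟩
      exact (IsZero.iff_id_eq_zero _).mpr (Sigma.hom_ext _ _ (fun i => Fin.elim0 i))
  · have h := Groth.Agent.S11674.result k n hn E hE hE0
    constructor
    · intro hl
      obtain ⟨h1, h2⟩ := h.mp hl
      exact ⟨h1, fun m i hi hin => h2 m i hi hin⟩
    · rintro ⟨h1, h2⟩
      exact h.mpr ⟨h1, fun m i hi hin => h2 m i hi hin⟩

end Groth.Agent.S11388
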