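import Groth.Statements.S11444
import Mathlib
import Groth.Agent.Helper9.SmTor5
-- import your own Groth.Agent.* helpers here

set_option autoImplicit false
universe u
open CategoryTheory MonoidalCategory CartesianMonoidalCategory MonObj GrpObj AlgebraicGeometry Topology
open GIT

namespace Groth.Agent.S11444

/-- Let X → Y → S be morphisms of finite type of Noetherian schemes with Y → S smooth with all fibres of
dimension n and X → S flat. Then X → Y has Tor-dimension at most n. -/
theorem result (S X Y : Scheme.{u}) [IsNoetherian S] [IsNoetherian X] [IsNoetherian Y]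
    (p : X ⟶ S) (q : Y ⟶ S) (f : X ⟶ Y) (hf : f ≫ q = p) [LocallyOfFiniteType f] (n : ℕ)
    [SmoothOfRelativeDimension n q] [Flat p] : DerSch.HasTorDimLE f n := by
  subst hf
  intro x
  have h0 : DerSch.HasTorAmplitudeAt (f ≫ q) 0 0 (DerSch.unitCx X) x := by
    have h1 := Groth.Agent.Helper9.ClImm2.hasTorAmplitudeIn_of_ringHomFlat ((f ≫ q).stalkMap x).hom
      ((Flat.iff_flat_stalkMap (f ≫ q)).1 inferInstance x)
    rw [Nat.cast_zero, neg_zero] at h1
    exact Groth.Agent.Helper3.DRingLib.hasTorAmplitudeIn_of_iso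
      (Groth.Agent.Helper9.TorAmpSch1.stalkUnitCxIso (f ≫ q) x).symm _ _ h1
  have h2 := Groth.Agent.Helper9.SmTor5.hasTorAmplitudeAt_of_comp_of_relDim q n f
    (DerSch.unitCx X) x 0 0 h0
  rw [zero_sub] at h2
  exact h2

end Groth.Agent.S11444
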