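import Groth.Statements.S11454
import Groth.Agent.Helper2.ArtinRegSeq
open RingTheory.Sequence Function IsLocalRing Groth.Agent.Helper2.ArtinReg Groth.Agent.Helper2.ArtinRegSeq
-- import your own Groth.Agent.* helpers here

set_option autoImplicit false
universe u
open DefT

namespace Groth.Agent.S11454

/-- Let C' be a local Artin ring, J ⊊ C' a proper ideal annihilated by the maximal ideal, C = C'/J, A' a
flat C'-algebra whose reduction modulo the maximal ideal of C' is a Cohen–Macaulay local ring, and A
= A'/JA'. If a'_1, …, a'_r ∈ A' have images in A forming a regular sequence with A/(a_1, …, a_r)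
flat over C, then a'_1, …, a'_r is a regular sequence on A' and A'/(a'_1, …, a'_r) is flat over C'.
(Regular sequences stand in for the exactness of the Koszul complexes in the published statement;
over a Noetherian local ring with the elements in the maximal ideal the two are equivalent.) -/
theorem result (C' : Type u) [CommRing C'] [IsLocalRing C'] [IsArtinianRing C'] (J : Ideal C')
    (hJ : IsLocalRing.maximalIdeal C' * J = ⊥) (hJne : J ≠ ⊤) (A' : Type u) [CommRing A'] [Algebra C' A'] [Module.Flat C' A']
    [LocCoh.IsCohenMacaulayLocalRing (A' ⧸ (IsLocalRing.maximalIdeal C').map (algebraMap C' A'))]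
    (r : ℕ) (a' : Fin r → A')
    (hreg : RingTheory.Sequence.IsRegular (A' ⧸ J.map (algebraMap C' A'))
      (List.ofFn (fun i => Ideal.Quotient.mk (J.map (algebraMap C' A')) (a' i))))
    [Module.Flat (C' ⧸ J) ((A' ⧸ J.map (algebraMap C' A')) ⧸
      Ideal.span (Set.range (fun i => Ideal.Quotient.mk (J.map (algebraMap C' A')) (a' i))))] :
    RingTheory.Sequence.IsRegular A' (List.ofFn a') ∧ Module.Flat C' (A' ⧸ Ideal.span (Set.range a')) := by
  have hnil := isNilpotent_maximalIdeal C'
  have hJnil : ∃ k, (J.map (algebraMap C' A')) ^ k = ⊥ := by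
    obtain ⟨k, hk⟩ := hnil
    refine ⟨k, ?_⟩
    rw [← Ideal.map_pow]
    have : J ^ k = ⊥ := by
      rw [← le_bot_iff, ← Ideal.zero_eq_bot, ← hk]
      exact Ideal.pow_right_mono (le_maximalIdeal hJne) k
    rw [this, Ideal.map_bot]
  set Jb := J.map (algebraMap C' A') with hJb
  set fs := List.ofFn a' with hfs
  have hmap : (List.ofFn fun i => Ideal.Quotient.mk Jb (a' i)) = fs.map (Ideal.Quotient.mk Jb) := by
    rw [hfs, List.map_ofFn]; rfl
  rw [hmap, isRegular_iff] at hreg
  obtain ⟨hW', hT'⟩ := hreg
  obtain ⟨h3, h4⟩ := flat_and_iff (A := C') (M := A') hnil J hJne (Jb : Submodule A' A')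
      (by rw [smul_eq_mul, Ideal.mul_top]) fs fs.length le_rfl
  have hEJ : ∀ i, i < fs.length → E (Jb : Submodule A' A') fs i := by
    have h1 : IsWeaklyRegular (A' ⧸ Jb) fs :=
      (isWeaklyRegular_map_algebraMap_iff (A' ⧸ Jb) (A' ⧸ Jb) fs).1 hW'
    exact (isWeaklyRegular_quot_iff _ _).1 h1
  have hE0 := h3.2 hEJ
  have hflat := h4 hE0
  have hW : IsWeaklyRegular A' fs := (isWeaklyRegular_iff_E_bot fs).2 hE0
  refine ⟨⟨hW, ?_⟩, ?_⟩
  · -- top condition
    intro htop
    apply hT'
    rw [smul_eq_mul, Ideal.mul_top] at htop ⊢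
    rw [← Ideal.map_ofList, ← htop, Ideal.map_top]
  · have h6 : (Nq fs fs.length : Submodule A' A') = Ideal.span (Set.range a') := by
      unfold Nq
      rw [List.take_length, smul_eq_mul, Ideal.mul_top]
      unfold Ideal.ofList
      congr 1
      ext x
      simp [hfs, List.mem_ofFn]
    exact Module.Flat.of_linearEquiv ((Submodule.quotEquivOfEq _ _ h6).restrictScalars C').symm

end Groth.Agent.S11454
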