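import Groth.Statements.S11456
import Groth.Agent.Helper2.ArtinLift
open Groth.Agent.Helper2.ArtinLift RingTheory.Sequence Function IsLocalRing Groth.Agent.Helper2.ArtinReg
-- import your own Groth.Agent.* helpers here

set_option autoImplicit false
universe u
open DefT

namespace Groth.Agent.S11456

/-- Let C be a local Artin ring with maximal ideal m, A a flat C-algebra such that A₀ = A/mA is a
Cohen–Macaulay local ring, and I ⊆ A an ideal with A/I flat over C whose image in A₀ is generated by
a regular sequence b_1, …, b_r on A₀. Then I is generated by r elements a_1, …, a_r forming a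
regular sequence on A (so the Koszul complex on the a_i resolves A/I). -/
theorem result (C : Type u) [CommRing C]
    [IsLocalRing C] [IsArtinianRing C] (A : Type u) [CommRing A] [Algebra C A] [Module.Flat C A]
    [LocCoh.IsCohenMacaulayLocalRing (A ⧸ (IsLocalRing.maximalIdeal C).map (algebraMap C A))]
    (I : Ideal A) [Module.Flat C (A ⧸ I)] (r : ℕ)
    (b : Fin r → A ⧸ (IsLocalRing.maximalIdeal C).map (algebraMap C A))
    (hb : RingTheory.Sequence.IsRegular (A ⧸ (IsLocalRing.maximalIdeal C).map (algebraMap C A)) (List.ofFn b))
    (hI : I.map (Ideal.Quotient.mk ((IsLocalRing.maximalIdeal C).map (algebraMap C A))) = Ideal.span (Set.range b)) :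
    ∃ a : Fin r → A, RingTheory.Sequence.IsRegular A (List.ofFn a) ∧ I = Ideal.span (Set.range a) := by
  have hnil := isNilpotent_maximalIdeal C
  have hmne : maximalIdeal C ≠ ⊤ := Ideal.IsMaximal.ne_top inferInstance
  have hlift : ∀ i, ∃ x ∈ I, Ideal.Quotient.mk ((maximalIdeal C).map (algebraMap C A)) x = b i := by
    intro i
    have : b i ∈ I.map (Ideal.Quotient.mk ((maximalIdeal C).map (algebraMap C A))) := by
      rw [hI]
      exact Ideal.subset_span ⟨i, rfl⟩
    rwa [Ideal.mem_map_iff_of_surjective _ Ideal.Quotient.mk_surjective] at this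
  choose a ha1 ha2 using hlift
  refine ⟨a, ?_, ?_⟩
  · have hmap : List.ofFn b = (List.ofFn a).map
        (Ideal.Quotient.mk ((maximalIdeal C).map (algebraMap C A))) := by
      rw [List.map_ofFn]
      congr 1
      funext i
      exact (ha2 i).symm
    rw [hmap] at hb
    exact (isRegular_and_flat_of_isRegular_quotient hnil (maximalIdeal C) hmne (List.ofFn a) hb).1
  · apply eq_span_of_map_eq_span (maximalIdeal C) hnil I a ha1
    rw [hI]
    congr 2
    funext i
    exact (ha2 i).symm

end Groth.Agent.S11456
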