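import Groth.Statements.S1148
import Mathlib

set_option autoImplicit false
universe u
open Desc

namespace Groth.Agent.S1148

theorem finite_irr_iff (A : Type u) [CommRing A] :
    (irreducibleComponents (PrimeSpectrum A)).Finite ↔ (minimalPrimes A).Finite := by
  rw [← Set.finite_coe_iff, ← Set.finite_coe_iff]
  exact ⟨fun _ => Finite.of_equiv _ (minimalPrimes.equivIrreducibleComponents A).toEquiv.symm,
    fun _ => Finite.of_equiv _ (minimalPrimes.equivIrreducibleComponents A).toEquiv⟩

theorem under_mem_minimalPrimes (A B : Type u) [CommRing A] [CommRing B] [Algebra A B]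
    [Module.Flat A B] (q : Ideal B) (hq : q ∈ minimalPrimes B) :
    q.under A ∈ minimalPrimes A := by
  have hqp : q.IsPrime := hq.1.1
  have : Algebra.HasGoingDown A B := Algebra.HasGoingDown.of_flat
  refine ⟨⟨inferInstance, bot_le⟩, ?_⟩
  rintro p' ⟨hp', -⟩ hle
  obtain ⟨Q, hQq, hQ, hQo⟩ := Ideal.exists_ideal_le_liesOver_of_le (p := p') (q := q.under A) q hle
  have : q ≤ Q := hq.2 ⟨hQ, bot_le⟩ hQq
  have hQeq : Q = q := le_antisymm hQq this
  rw [hQo.over, hQeq]

/-- Affine form (finiteness of irreducible components of quasi-compact opens is fppf local; this is the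
ascent direction for a morphism of affine schemes). Let A → B be a flat ring map of finite
presentation. If Spec A has finitely many irreducible components, then so does Spec B. -/
theorem result (A B : Type u) [CommRing A] [CommRing B] [Algebra A B]
    [Module.Flat A B] [Algebra.FinitePresentation A B] (h : (irreducibleComponents (PrimeSpectrum A)).Finite) :
    (irreducibleComponents (PrimeSpectrum B)).Finite := by
  rw [finite_irr_iff] at h ⊢
  have hsub : minimalPrimes B ⊆ ⋃ p ∈ minimalPrimes A, {q | q ∈ minimalPrimes B ∧ q.under A = p} := by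
    intro q hq
    exact Set.mem_biUnion (under_mem_minimalPrimes A B q hq) ⟨hq, rfl⟩
  refine (Set.Finite.biUnion h ?_).subset hsub
  intro p hp
  have hpp : p.IsPrime := hp.1.1
  have : Algebra.FiniteType p.ResidueField (p.Fiber B) := inferInstance
  have : IsNoetherianRing (p.Fiber B) := Algebra.FiniteType.isNoetherianRing p.ResidueField _
  have hfin : (minimalPrimes (p.Fiber B)).Finite := minimalPrimes.finite_of_isNoetherianRing _
  let e := PrimeSpectrum.primesOverOrderIsoFiber A B p
  have hmem : ∀ q : Ideal B, q ∈ minimalPrimes B → q.under A = p → q ∈ p.primesOver B := by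
    intro q hq hqp
    exact ⟨hq.1.1, ⟨hqp.symm⟩⟩
  let g : {q | q ∈ minimalPrimes B ∧ q.under A = p} → minimalPrimes (p.Fiber B) := fun q =>
    ⟨(e ⟨q.1, hmem q.1 q.2.1 q.2.2⟩).asIdeal, by
      refine ⟨⟨(e _).isPrime, bot_le⟩, ?_⟩
      rintro Q' ⟨hQ', -⟩ hle
      have h1 : e.symm ⟨Q', hQ'⟩ ≤ ⟨q.1, hmem q.1 q.2.1 q.2.2⟩ := by
        rw [← e.le_iff_le, e.apply_symm_apply]
        exact hle
      have h2 : q.1 ≤ (e.symm ⟨Q', hQ'⟩).1 := q.2.1.2 ⟨(e.symm ⟨Q', hQ'⟩).2.1, bot_le⟩ h1
      have h3 : (⟨q.1, hmem q.1 q.2.1 q.2.2⟩ : p.primesOver B) ≤ e.symm ⟨Q', hQ'⟩ := h2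
      have h4 := e.monotone h3
      rw [e.apply_symm_apply] at h4
      exact h4⟩
  have hg : Function.Injective g := by
    intro q1 q2 h12
    have h1 : e ⟨q1.1, hmem q1.1 q1.2.1 q1.2.2⟩ = e ⟨q2.1, hmem q2.1 q2.2.1 q2.2.2⟩ :=
      PrimeSpectrum.ext (congrArg Subtype.val h12)
    have h2 := e.injective h1
    exact Subtype.ext (congrArg (fun x : p.primesOver B => x.1) h2)
  have : Finite (minimalPrimes (p.Fiber B)) := hfin.to_subtype
  exact Set.finite_coe_iff.mp (Finite.of_injective g hg)

end Groth.Agent.S1148
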