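import Groth.Statements.S11484
import Groth.Agent.Helper4.SN95
import Groth.Agent.Helper1.SerreVan
import Groth.Agent.Helper1.KzLin3
import Groth.Agent.S0844
import Mathlib

set_option autoImplicit false
universe u
open VBPn

namespace Groth.Agent.S11484


open CategoryTheory CategoryTheory.Limits AlgebraicGeometry in
/-- Let k be an algebraically closed field of characteristic zero and n ≥ 2. On P^n_k every short exact
sequence of O-modules whose first term is isomorphic to O(a) and whose third term is isomorphic to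
O(b), for integers a and b, admits a splitting; in particular its middle term is isomorphic to O(a)
⊕ O(b). -/
theorem result (k : Type u) [Field k] [IsAlgClosed k] [CharZero k]
    (n : ℕ) (hn : 2 ≤ n) (a b : ℤ) (S : ShortComplex (CohB1.ProjSpace n k).Modules) (hS : S.ShortExact)
    (ha : Nonempty (S.X₁ ≅ Twist.twistProjSpace n k a)) (hb : Nonempty (S.X₃ ≅ Twist.twistProjSpace n k b)) :
    Nonempty S.Splitting := by

  obtain ⟨α⟩ := ha
  obtain ⟨θ⟩ := hb
  obtain ⟨e1⟩ := Groth.Agent.Helper1.TwistMul.nonempty_twist_tensor_twist_iso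
    (CohB1.polyGrading n k) (Groth.Agent.Helper1.SerreFin.hcov_poly n k) (-b) b 0 (by ring)
  obtain ⟨e2⟩ := Groth.Agent.Helper1.TwistMul.nonempty_twist_tensor_twist_iso
    (CohB1.polyGrading n k) (Groth.Agent.Helper1.SerreFin.hcov_poly n k) b (-b) 0 (by ring)
  obtain ⟨e3⟩ := Groth.Agent.Helper1.TwistMul.nonempty_twist_tensor_twist_iso
    (CohB1.polyGrading n k) (Groth.Agent.Helper1.SerreFin.hcov_poly n k) a (-b) (a - b) (by ring)
  obtain ⟨e0⟩ := Groth.Agent.Helper1.KzLin.tw_zero n k
  have h1 : Subsingleton (Coh.HH (CohB1.ProjSpace n k)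
      (CohB1.tensorMod S.X₁ (Twist.twistProjSpace n k (-b))) 1) := by
    have h0 : Subsingleton (Coh.HH (CohB1.ProjSpace n k) (Twist.twistProjSpace n k (a - b)) 1) :=
      Groth.Agent.S0844.result k n (a - b) 1 (fun h => by omega) (fun h => by omega)
    haveI : Subsingleton (Coh.HH (CohB1.ProjSpace n k)
        (Twist.twist (CohB1.polyGrading n k) (a - b)) 1) := h0
    exact (Groth.Agent.Helper1.ProjTop.HHlinEquiv k (X := CohB1.ProjSpace n k)
      (PicGrp.tensorModIso α (Iso.refl (Twist.twistProjSpace n k (-b))) ≪≫ e3) 1).toEquiv.subsingleton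
  obtain ⟨ψ, hψ⟩ := Groth.Agent.Helper4.SN.exists_lift_twist k S hS (Twist.twistProjSpace n k b)
    (Twist.twistProjSpace n k (-b)) (Groth.Agent.Helper1.SerreVan.isInvertible_twist n k (-b))
    (e1 ≪≫ e0) (e2 ≪≫ e0).symm h1 θ.inv
  exact ⟨ShortComplex.Splitting.ofExactOfSection S hS.exact (θ.hom ≫ ψ)
    (by rw [Category.assoc, hψ, Iso.hom_inv_id]) hS.mono_f⟩

end Groth.Agent.S11484
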