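import Groth.Statements.S11496
import Mathlib
import Groth.Agent.Helper1.RegAB
import Groth.Agent.Helper2.Caten2

set_option autoImplicit false
universe u
open CategoryTheory
open VBPn

namespace Groth.Agent.S11496

/-- Let A be a regular local ring, M a finitely generated A-module and i ≥ 0. The support of Ext^i_A(M,
A) has dimension at most dim A − i: for every prime ideal p of A such that Ext^i over the
localization A_p of M_p into A_p is nonzero (this Ext group is the localization at p of Ext^i_A(M,
A)), one has dim(A/p) + i ≤ dim A. The published statement is for coherent analytic sheaves on an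
n-dimensional complex manifold; this row is stated for any regular local ring. -/
theorem result (A : Type u) [CommRing A] [IsRegularLocalRing A]
    (M : Type u) [AddCommGroup M] [Module A M] [Module.Finite A M] (i : ℕ) (p : Ideal A) [p.IsPrime]
    (h : Nontrivial (Abelian.Ext
      (ModuleCat.of (Localization.AtPrime p) (LocalizedModule p.primeCompl M))
      (ModuleCat.of (Localization.AtPrime p) (Localization.AtPrime p)) i)) :
    ringKrullDim (A ⧸ p) + (i : WithBot ℕ∞) ≤ ringKrullDim A := by
  classical
  let B := Localization.AtPrime p
  haveI : IsRegularLocalRing B :=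
    Groth.Agent.Helper2.SerreLoc.isRegularLocalRing_localization A p
  have hdimB : ringKrullDim B = p.height :=
    IsLocalization.AtPrime.ringKrullDim_eq_height p B
  have hfin : p.height ≠ ⊤ := Ideal.height_ne_top (Ideal.IsPrime.ne_top inferInstance)
  obtain ⟨e, he⟩ := ENat.ne_top_iff_exists.1 hfin
  have he' : ringKrullDim B = (e : ℕ) := by
    rw [hdimB, ← he]
    rfl
  have hpd := Groth.Agent.Helper1.RegAB.pd_le_dim e he' (LocalizedModule p.primeCompl M)
  have hie : i ≤ e := by
    by_contra hcon
    have hsub := HasProjectiveDimensionLT.subsingleton
      (ModuleCat.of B (LocalizedModule p.primeCompl M)) (e + 1) i (by omega) (ModuleCat.of B B)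
    exact not_subsingleton _ hsub
  let P : PrimeSpectrum A := ⟨p, inferInstance⟩
  have h1 : ringKrullDim (A ⧸ p) = ((Order.coheight P : ℕ∞) : WithBot ℕ∞) :=
    Groth.Agent.Helper2.Caten.dimQuot_eq_coheight P
  have h2 : p.height = Order.height P := PrimeSpectrum.height_eq_orderHeight P
  have h3 := Groth.Agent.Helper2.Caten2.height_add_coheight_le P
  rw [h1]
  refine le_trans ?_ h3
  rw [add_comm, ← h2, ← he]
  push_cast
  gcongr

end Groth.Agent.S11496
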