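import Groth.Statements.S11499
import Mathlib

set_option autoImplicit false
universe u
open TensorProduct
open VBPn

namespace Groth.Agent.S11499

/-- Let A be an integral domain with fraction field K and M a finitely generated torsion-free A-module
of rank r (K ⊗_A M is r-dimensional over K). Then there is an injective A-linear map M → A^r. The
published statement is for torsion-free coherent sheaves on a complex manifold, locally near a
point; this row is its statement for one stalk, over any domain. -/
theorem result (A : Type u) [CommRing A] [IsDomain A]
    (M : Type u) [AddCommGroup M] [Module A M] [Module.Finite A M] [NoZeroSMulDivisors A M] (r : ℕ)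
    (hr : Module.finrank (FractionRing A) (FractionRing A ⊗[A] M) = r) :
    ∃ f : M →ₗ[A] (Fin r → A), Function.Injective f := by
  classical
  -- the localization map M → K ⊗ M is injective
  have hloc : IsLocalizedModule (nonZeroDivisors A) (TensorProduct.mk A (FractionRing A) M 1) :=
    (isLocalizedModule_iff_isBaseChange (nonZeroDivisors A) (FractionRing A) _).mpr
      (TensorProduct.isBaseChange A M (FractionRing A))
  have hι : Function.Injective (TensorProduct.mk A (FractionRing A) M 1) := by
    rw [injective_iff_map_eq_zero]
    intro m hm
    rw [IsLocalizedModule.eq_zero_iff (nonZeroDivisors A)] at hm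
    obtain ⟨s, hs⟩ := hm
    rcases smul_eq_zero.mp hs with h | h
    · exact absurd h (nonZeroDivisors.coe_ne_zero s)
    · exact h
  -- identify K ⊗ M with K^r
  have e : (FractionRing A ⊗[A] M) ≃ₗ[FractionRing A] (Fin r → FractionRing A) :=
    LinearEquiv.ofFinrankEq _ _ (by rw [hr, Module.finrank_fin_fun])
  let φ : M →ₗ[A] (Fin r → FractionRing A) :=
    (e.toLinearMap.restrictScalars A) ∘ₗ (TensorProduct.mk A (FractionRing A) M 1)
  have hφ : Function.Injective φ := e.injective.comp hι
  -- clear denominators
  obtain ⟨S, hS⟩ := (Module.Finite.fg_top : (⊤ : Submodule A M).FG)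
  obtain ⟨d, hd⟩ := IsLocalization.exist_integer_multiples (nonZeroDivisors A) (S ×ˢ Finset.univ)
    (fun p : M × Fin r => φ p.1 p.2)
  let j : (Fin r → A) →ₗ[A] (Fin r → FractionRing A) :=
    (Algebra.linearMap A (FractionRing A)).compLeft (Fin r)
  have hj : Function.Injective j := by
    intro x y hxy
    funext i
    have := congrFun hxy i
    exact IsFractionRing.injective A (FractionRing A) this
  have hrange : ∀ m : M, ((d : A) • φ) m ∈ LinearMap.range j := by
    intro m
    have hm : m ∈ Submodule.span A (S : Set M) := by rw [hS]; trivial
    induction hm using Submodule.span_induction with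
    | mem x hx =>
      have : ∀ i, ∃ a : A, algebraMap A (FractionRing A) a = (d : A) • φ x i := fun i =>
        hd (x, i) (Finset.mem_product.mpr ⟨hx, Finset.mem_univ i⟩)
      choose a ha using this
      exact ⟨a, by funext i; exact ha i⟩
    | zero => rw [map_zero]; exact Submodule.zero_mem _
    | add x y _ _ hx hy => rw [map_add]; exact Submodule.add_mem _ hx hy
    | smul c x _ hx => rw [map_smul]; exact Submodule.smul_mem _ c hx
  let ψ : M →ₗ[A] LinearMap.range j := LinearMap.codRestrict _ ((d : A) • φ) hrange
  have hψ : Function.Injective ψ := by
    intro x y hxy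
    have h1 : ((d : A) • φ) x = ((d : A) • φ) y := congrArg Subtype.val hxy
    rw [LinearMap.smul_apply, LinearMap.smul_apply, ← map_smul, ← map_smul] at h1
    have h2 := hφ h1
    exact smul_right_injective M (nonZeroDivisors.coe_ne_zero d) h2
  refine ⟨(LinearEquiv.ofInjective j hj).symm.toLinearMap ∘ₗ ψ, ?_⟩
  exact (LinearEquiv.ofInjective j hj).symm.injective.comp hψ

end Groth.Agent.S11499
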