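import Groth.Statements.S11509
import Groth.Agent.Helper6.BottH
import Groth.Agent.Helper6.ExtOne
import Groth.Agent.S0844

set_option autoImplicit false
universe u
open VBPn

namespace Groth.Agent.S11509

open CategoryTheory CategoryTheory.Limits AlgebraicGeometry in
/-- Let k be an algebraically closed field of characteristic zero and u : O(−1) → Ω^1 ⊗ O(1) a
monomorphism of O-modules on P^3_k whose cokernel M is finite locally free of rank 2 (M is the dual
N^* of a null-correlation bundle N, and N ≅ N^* as c_1(N) = 0). Then H^0(P^3_k, M) = 0. The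
published statement says that the null-correlation bundle N is stable; this row states H^0(N^*) = 0,
which is equivalent since N ≅ N^* and c_1(N) = 0. -/
theorem result (k : Type u) [Field k] [IsAlgClosed k] [CharZero k]
    (u : Twist.twistProjSpace 3 k (-1) ⟶
      CohB1.tensorMod (Omega.sheaf (CohB1.ProjSpace.toSpec 3 k)) (Twist.twistProjSpace 3 k 1))
    [Mono u] (hM : FlatMod.IsFinLocFreeOfRank 2 (cokernel u)) :
    Subsingleton (Coh.HH (CohB1.ProjSpace 3 k) (cokernel u) 0) := by
  have hS : (ShortComplex.mk u (cokernel.π u) (cokernel.condition u)).ShortExact :=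
    { exact := ShortComplex.exact_cokernel u }
  have h2 : Subsingleton (Coh.HH (CohB1.ProjSpace 3 k)
      (CohB1.tensorMod (Omega.sheaf (CohB1.ProjSpace.toSpec 3 k)) (Twist.twistProjSpace 3 k 1)) 0) :=
    Groth.Agent.Helper6.BottH.bott_vanishing 3 k (by norm_num) 1 _
      (Groth.Agent.Helper6.ExtOne.isExtPow_one _) 1 one_ne_zero 0 (by norm_num) (by norm_num)
  have h1 : Subsingleton (Coh.HH (CohB1.ProjSpace 3 k) (Twist.twistProjSpace 3 k (-1)) 1) :=
    Groth.Agent.S0844.result k 3 (-1) 1 (by norm_num) (by norm_num)
  exact Groth.Agent.Helper6.ExtOne.subsingleton_H0_X₃ k _ hS h2 h1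

end Groth.Agent.S11509
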