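import Groth.Statements.S1153
import Mathlib
import Groth.Agent.Lead.SchDescent

set_option autoImplicit false
open CategoryTheory CategoryTheory.Limits AlgebraicGeometry Opposite
universe u
open Desc

namespace Groth.Agent.S1153

/-- properness passes up along a surjective closed immersion (thickening), given finite type -/
theorem isProper_of_surjective_closedImmersion {T₀ T B : Scheme.{u}} (i : T₀ ⟶ T) (h : T ⟶ B)
    [IsClosedImmersion i] [Surjective i] [LocallyOfFiniteType h] [IsProper (i ≫ h)] :
    IsProper h := by
  have huc : UniversallyClosed h := UniversallyClosed.of_comp_surjective i h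
  have hsep : IsSeparated h := by
    constructor
    apply IsClosedImmersion.of_isPreimmersion
    -- the map j
    have hj1 : IsClosedImmersion (pullback.map (i ≫ h) (i ≫ h) h h i i (𝟙 _)
        ((Category.comp_id _).trans rfl) ((Category.comp_id _).trans rfl)) :=
      MorphismProperty.pullbackMap (P := @IsClosedImmersion) (f := i ≫ h) (g := i ≫ h)
        (f' := h) (g' := h) (i₁ := i) (i₂ := i) inferInstance inferInstance rfl rfl
    have hj2 : Surjective (pullback.map (i ≫ h) (i ≫ h) h h i i (𝟙 _)
        ((Category.comp_id _).trans rfl) ((Category.comp_id _).trans rfl)) :=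
      MorphismProperty.pullbackMap (P := @Surjective) (f := i ≫ h) (g := i ≫ h)
        (f' := h) (g' := h) (i₁ := i) (i₂ := i) inferInstance inferInstance rfl rfl
    set j := pullback.map (i ≫ h) (i ≫ h) h h i i (𝟙 _)
        ((Category.comp_id _).trans rfl) ((Category.comp_id _).trans rfl) with hj
    have hcomm : i ≫ pullback.diagonal h = pullback.diagonal (i ≫ h) ≫ j := by
      apply pullback.hom_ext
      · rw [hj, Category.assoc, Category.assoc, pullback.diagonal_fst, pullback.map,
          pullback.lift_fst, pullback.diagonal_fst_assoc, Category.comp_id]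
      · rw [hj, Category.assoc, Category.assoc, pullback.diagonal_snd, pullback.map,
          pullback.lift_snd, pullback.diagonal_snd_assoc, Category.comp_id]
    have hr : Set.range (pullback.diagonal h) = j '' (Set.range (pullback.diagonal (i ≫ h))) := by
      have h1 : Set.range (pullback.diagonal h) = Set.range (i ≫ pullback.diagonal h) := by
        rw [Scheme.Hom.comp_base, TopCat.coe_comp, Set.range_comp,
          Set.range_eq_univ.mpr (Surjective.surj (f := i)), Set.image_univ]
      rw [h1, hcomm, Scheme.Hom.comp_base, TopCat.coe_comp, Set.range_comp]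
    rw [hr]
    exact j.isClosedEmbedding.isClosedMap _
      (pullback.diagonal (i ≫ h)).isClosedEmbedding.isClosed_range
  constructor

/-- Let f : X ⟶ Y be locally of finite type, Z a closed subset of X and g : Y' ⟶ Y quasi-compact, flat
and surjective. If the preimage of Z in X ×_Y Y' is proper over Y', then Z is proper over Y. -/
theorem result {X Y Y' : Scheme.{u}} (f : X ⟶ Y) [LocallyOfFiniteType f] (Z : Set X) (hZ : IsClosed Z)
    (g : Y' ⟶ Y) [QuasiCompact g] [Flat g] [Surjective g]
    (h : ClSub.IsProperOver (pullback.snd f g) ((pullback.fst f g).base ⁻¹' Z)) :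
    ClSub.IsProperOver f Z := by
  obtain ⟨hZ', hprop⟩ := h
  refine ⟨hZ, ?_⟩
  set I := Scheme.IdealSheafData.vanishingIdeal ⟨Z, hZ⟩ with hI
  set p := pullback.fst f g with hp
  set I' := I.comap p with hI'
  set I'' := Scheme.IdealSheafData.vanishingIdeal ⟨p.base ⁻¹' Z, hZ'⟩ with hI''
  have hle : I' ≤ I'' := by
    rw [hI'', ← Scheme.IdealSheafData.le_support_iff_le_vanishingIdeal, hI',
      Scheme.IdealSheafData.support_comap]
    intro x hx
    have h1 : p x ∈ (I.support : Set X) := by
      rw [hI, Scheme.IdealSheafData.coe_support_vanishingIdeal]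
      exact hx
    exact h1
  set incl := Scheme.IdealSheafData.inclusion hle with hincl
  have hincl_ι : incl ≫ I'.subschemeι = I''.subschemeι :=
    Scheme.IdealSheafData.inclusion_subschemeι hle
  have hci : IsClosedImmersion incl := by
    have : IsClosedImmersion (incl ≫ I'.subschemeι) := by rw [hincl_ι]; infer_instance
    exact IsClosedImmersion.of_comp incl I'.subschemeι
  have hsupp : (I'.support : Set ↥(pullback f g)) = (I''.support : Set ↥(pullback f g)) := by
    rw [hI'', Scheme.IdealSheafData.coe_support_vanishingIdeal, hI',
      Scheme.IdealSheafData.support_comap, hI]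
    ext x
    simp only [TopologicalSpace.Closeds.coe_preimage, Set.mem_preimage]
    rw [Scheme.IdealSheafData.coe_support_vanishingIdeal]
    rfl
  have hsurj : Surjective incl := by
    constructor
    intro y
    have hy : I'.subschemeι y ∈ Set.range I''.subschemeι := by
      rw [Scheme.IdealSheafData.range_subschemeι, ← hsupp,
        ← Scheme.IdealSheafData.range_subschemeι]
      exact ⟨y, rfl⟩
    obtain ⟨x, hx⟩ := hy
    refine ⟨x, ?_⟩
    apply I'.subschemeι.isEmbedding.injective
    rw [← hx, ← hincl_ι]
    rfl
  have hprop' : IsProper (incl ≫ I'.subschemeι ≫ pullback.snd f g) := by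
    rw [← Category.assoc, hincl_ι]; exact hprop
  have hP : IsProper (I'.subschemeι ≫ pullback.snd f g) :=
    isProper_of_surjective_closedImmersion incl _
  -- the pullback square
  have sq1 : IsPullback I'.subschemeι ((I.comapIso p).hom ≫ pullback.snd p I.subschemeι) p
      I.subschemeι :=
    IsPullback.of_iso_pullback ⟨by
      rw [Category.assoc, ← pullback.condition, ← Category.assoc,
        Scheme.IdealSheafData.comapIso_hom_fst]⟩ (I.comapIso p)
      (Scheme.IdealSheafData.comapIso_hom_fst I p) rfl
  have sq2 : IsPullback p (pullback.snd f g) f g := IsPullback.of_hasPullback f g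
  have sq := (sq1.flip.paste_vert sq2).flip
  have hQ : (@Surjective ⊓ @Flat ⊓ @QuasiCompact : MorphismProperty Scheme.{u}) g :=
    ⟨⟨inferInstance, inferInstance⟩, inferInstance⟩
  exact MorphismProperty.of_isPullback_of_descendsAlong (P := @IsProper)
    (Q := (@Surjective ⊓ @Flat ⊓ @QuasiCompact : MorphismProperty Scheme.{u})) sq hQ hP

end Groth.Agent.S1153
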