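import Groth.Statements.S11545
import Groth.Agent.Helper4.NApx52
import Mathlib

set_option autoImplicit false
universe u
open AdicRing

namespace Groth.Agent.S11545


set_option maxHeartbeats 800000 in
/-- Let R be a base ring of class (N) or (V) for the ideal I, A an admissible R-algebra, f_0, ..., f_r
elements generating an open ideal 𝔞 of A, and A_i = C_i/(f_i-power torsion) the i-th chart algebra
of the formal blowing-up of 𝔞. Let B be an R-algebra complete and separated for the I-adic topology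
and φ : A → B an R-algebra homomorphism such that the ideal 𝔞B is generated by φ(f_i), a
non-zero-divisor of B. Then there is exactly one R-algebra homomorphism A_i → B whose composite with
A → A_i is φ. -/
theorem result
    (R : Type u) [CommRing R] (I : Ideal R) (hR : AdicRing.IsBase R I)
    (A : Type u) [CommRing A] [Algebra R A] (hA : AdicRing.Admissible R I A)
    (r : ℕ) (f : Fin (r + 1) → A) (k : ℕ)
    (hopen : (I ^ k).map (algebraMap R A) ≤ Ideal.span (Set.range f)) (i : Fin (r + 1))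
    (B : Type u) [CommRing B] [Algebra R B] [IsAdicComplete (I.map (algebraMap R B)) B]
    (φ : A →ₐ[R] B) (hnzd : φ (f i) ∈ nonZeroDivisors B)
    (hgen : (Ideal.span (Set.range f)).map φ = Ideal.span {φ (f i)}) :
    ∃! ψ : AdicRing.chartAdm I f i →ₐ[R] B,
      ψ.comp (IsScalarTower.toAlgHom R A (AdicRing.chartAdm I f i)) = φ := by

  classical
  -- notation
  set J₀ : Ideal (MvPolynomial {j : Fin (r + 1) // j ≠ i} A) := Ideal.span (Set.range fun j : {j : Fin (r + 1) // j ≠ i} =>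
    MvPolynomial.C (f i) * MvPolynomial.X j - MvPolynomial.C (f j.1)) with hJ₀
  set 𝔞 : Ideal (AdicRing.chartAlg f i) := I.map (algebraMap R (AdicRing.chartAlg f i)) with h𝔞
  set J : Ideal B := I.map (algebraMap R B) with hJ
  set T : Ideal (AdicRing.chartCompl I f i) := (⨆ n : ℕ, Submodule.torsionBy (AdicRing.chartCompl I f i) (AdicRing.chartCompl I f i) (algebraMap A (AdicRing.chartCompl I f i) (f i) ^ n) : Ideal (AdicRing.chartCompl I f i)) with hT
  have hIfg : I.FG := by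
    rcases hR.2 with ⟨hN, -⟩ | ⟨-, -, -, t, -, ht⟩
    · exact (isNoetherianRing_iff_ideal_fg R).mp hN I
    · rw [ht]; exact ⟨{t}, by simp⟩
  have h𝔞fg : 𝔞.FG := hIfg.map _
  -- basic facts about algebra maps
  have halgA : ∀ a : A, algebraMap A (AdicRing.chartCompl I f i) a = AdicCompletion.of 𝔞 (AdicRing.chartAlg f i) (algebraMap A (AdicRing.chartAlg f i) a) :=
    fun a => AdicCompletion.algebraMap_apply _ _
  have halgR : ∀ x : R, algebraMap R (AdicRing.chartCompl I f i) x = AdicCompletion.of 𝔞 (AdicRing.chartAlg f i) (algebraMap R (AdicRing.chartAlg f i) x) :=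
    fun x => AdicCompletion.algebraMap_apply _ _
  have halgA₀ : ∀ a : A, algebraMap A (AdicRing.chartAlg f i) a = Ideal.Quotient.mk J₀ (MvPolynomial.C a) := fun a => rfl
  have halgRA : ∀ x : R, algebraMap R (AdicRing.chartAlg f i) x = algebraMap A (AdicRing.chartAlg f i) (algebraMap R A x) := fun x => rfl
  -- the quotients b_j
  have hb : ∀ j : Fin (r + 1), ∃ c : B, φ (f j) = φ (f i) * c := by
    intro j
    have h1 : φ (f j) ∈ (Ideal.span (Set.range f)).map φ :=
      Ideal.mem_map_of_mem _ (Ideal.subset_span ⟨j, rfl⟩)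
    rw [hgen, Ideal.mem_span_singleton'] at h1
    obtain ⟨c, hc⟩ := h1
    exact ⟨c, by rw [← hc, mul_comm]⟩
  choose b hbj using hb
  -- the map from the polynomial ring
  set ψ₀ : (MvPolynomial {j : Fin (r + 1) // j ≠ i} A) →+* B := MvPolynomial.eval₂Hom (φ : A →+* B) (fun j => b j.1) with hψ₀
  have hψ₀C : ∀ a : A, ψ₀ (MvPolynomial.C a) = φ a := fun a =>
    MvPolynomial.eval₂Hom_C _ _ a
  have hψ₀X : ∀ j, ψ₀ (MvPolynomial.X j) = b j.1 := fun j =>
    MvPolynomial.eval₂Hom_X' _ _ j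
  have hJ₀ker : ∀ p ∈ J₀, ψ₀ p = 0 := by
    intro p hp
    have : J₀ ≤ RingHom.ker ψ₀ := by
      rw [hJ₀, Ideal.span_le]
      rintro _ ⟨j, rfl⟩
      show ψ₀ _ = 0
      rw [map_sub, map_mul, hψ₀C, hψ₀C, hψ₀X, ← hbj, sub_self]
    exact this hp
  set ψ₁ : (AdicRing.chartAlg f i) →+* B := Ideal.Quotient.lift J₀ ψ₀ hJ₀ker with hψ₁
  have hψ₁A : ∀ a : A, ψ₁ (algebraMap A (AdicRing.chartAlg f i) a) = φ a := fun a => by
    rw [halgA₀, hψ₁, Ideal.Quotient.lift_mk, hψ₀C]
  have hψ₁R : ∀ x : R, ψ₁ (algebraMap R (AdicRing.chartAlg f i) x) = algebraMap R B x := fun x => by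
    rw [halgRA, hψ₁A, AlgHom.commutes]
  have hcomp : ψ₁.comp (algebraMap R (AdicRing.chartAlg f i)) = algebraMap R B := RingHom.ext hψ₁R
  have hmap : 𝔞.map ψ₁ ≤ J := by
    rw [h𝔞, Ideal.map_map, hcomp]
  obtain ⟨Ψ, hΨof⟩ : ∃ Ψ : AdicCompletion 𝔞 (AdicRing.chartAlg f i) →+* B,
      ∀ c : (AdicRing.chartAlg f i), Ψ (AdicCompletion.of 𝔞 (AdicRing.chartAlg f i) c) = ψ₁ c :=
    ⟨Groth.Agent.Helper4.NApx52.ext 𝔞 J ψ₁ hmap, Groth.Agent.Helper4.NApx52.ext_of 𝔞 J ψ₁ hmap⟩
  have hΨA : ∀ a : A, Ψ (algebraMap A (AdicRing.chartCompl I f i) a) = φ a := fun a => by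
    rw [halgA, hΨof, hψ₁A]
  have hΨR : ∀ x : R, Ψ (algebraMap R (AdicRing.chartCompl I f i) x) = algebraMap R B x := fun x => by
    rw [halgR, hΨof, hψ₁R]
  have hTker : ∀ x ∈ T, Ψ x = 0 := by
    have : T ≤ RingHom.ker Ψ := by
      rw [hT]
      refine iSup_le fun n => ?_
      intro x hx
      have hx' : (algebraMap A (AdicRing.chartCompl I f i) (f i)) ^ n • x = 0 := (Submodule.mem_torsionBy_iff _ _).mp hx
      rw [smul_eq_mul] at hx'
      have h1 := congrArg Ψ hx'
      rw [map_mul, map_pow, hΨA, map_zero] at h1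
      show Ψ x = 0
      exact (mul_left_mem_nonZeroDivisors_eq_zero_iff (pow_mem hnzd n)).mp h1
    exact fun x hx => this hx
  set ψr : AdicRing.chartAdm I f i →+* B := Ideal.Quotient.lift T Ψ hTker with hψr
  have hψrmk : ∀ x : AdicRing.chartCompl I f i, ψr (Ideal.Quotient.mk T x) = Ψ x := fun x =>
    Ideal.Quotient.lift_mk T Ψ hTker
  have halgRadm : ∀ x : R, algebraMap R (AdicRing.chartAdm I f i) x =
      Ideal.Quotient.mk T (algebraMap R (AdicRing.chartCompl I f i) x) := fun x => rfl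
  have halgAadm : ∀ a : A, algebraMap A (AdicRing.chartAdm I f i) a =
      Ideal.Quotient.mk T (algebraMap A (AdicRing.chartCompl I f i) a) := fun a => rfl
  have hcomm : ∀ x : R, ψr (algebraMap R (AdicRing.chartAdm I f i) x) = algebraMap R B x :=
    fun x => by rw [halgRadm, hψrmk, hΨR]
  have hex : ∃ ψ : AdicRing.chartAdm I f i →ₐ[R] B, ∀ y, ψ y = ψr y :=
    ⟨AlgHom.mk ψr hcomm, fun y => rfl⟩
  obtain ⟨ψ, hψapp⟩ := hex
  refine ⟨ψ, ?_, ?_⟩
  · refine AlgHom.ext fun a => ?_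
    show ψ (algebraMap A (AdicRing.chartAdm I f i) a) = φ a
    rw [hψapp, halgAadm, hψrmk, hΨA]
  · intro ψ' hψ'
    have hψ'A : ∀ a : A, ψ' (algebraMap A (AdicRing.chartAdm I f i) a) = φ a := fun a =>
      congrArg (fun g : A →ₐ[R] B => g a) hψ'
    have hψA : ∀ a : A, ψ (algebraMap A (AdicRing.chartAdm I f i) a) = φ a := fun a => by
      rw [hψapp, halgAadm, hψrmk, hΨA]
    -- the two ring homs on the completion
    have hex1 : ∃ Φ : AdicCompletion 𝔞 (AdicRing.chartAlg f i) →+* B,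
        ∀ x, Φ x = ψ (Ideal.Quotient.mk T x) :=
      ⟨RingHom.comp (ψ : AdicRing.chartAdm I f i →+* B) (Ideal.Quotient.mk T), fun x => rfl⟩
    have hex2 : ∃ Φ' : AdicCompletion 𝔞 (AdicRing.chartAlg f i) →+* B,
        ∀ x, Φ' x = ψ' (Ideal.Quotient.mk T x) :=
      ⟨RingHom.comp (ψ' : AdicRing.chartAdm I f i →+* B) (Ideal.Quotient.mk T), fun x => rfl⟩
    obtain ⟨Φ, hΦapp⟩ := hex1
    obtain ⟨Φ', hΦ'app⟩ := hex2
    have hΦA : ∀ a : A, Φ (AdicCompletion.of 𝔞 (AdicRing.chartAlg f i)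
        (algebraMap A (AdicRing.chartAlg f i) a)) = φ a := fun a =>
      (congrArg Φ (halgA a)).symm.trans ((hΦapp _).trans
        ((congrArg ψ (halgAadm a)).symm.trans (hψA a)))
    have hΦ'A : ∀ a : A, Φ' (AdicCompletion.of 𝔞 (AdicRing.chartAlg f i)
        (algebraMap A (AdicRing.chartAlg f i) a)) = φ a := fun a =>
      (congrArg Φ' (halgA a)).symm.trans ((hΦ'app _).trans
        ((congrArg ψ' (halgAadm a)).symm.trans (hψ'A a)))
    have hΦR : ∀ x : R, Φ (AdicCompletion.of 𝔞 (AdicRing.chartAlg f i)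
        (algebraMap R (AdicRing.chartAlg f i) x)) = algebraMap R B x := fun x =>
      (congrArg Φ (halgR x)).symm.trans ((hΦapp _).trans
        ((congrArg ψ (halgRadm x)).symm.trans (ψ.commutes x)))
    -- the induced maps on the chart algebra
    have hexρ : ∃ ρ : AdicRing.chartAlg f i →+* B,
        ∀ c, ρ c = Φ (AdicCompletion.of 𝔞 (AdicRing.chartAlg f i) c) :=
      ⟨Φ.comp (algebraMap (AdicRing.chartAlg f i) (AdicCompletion 𝔞 (AdicRing.chartAlg f i))),
        fun c => congrArg Φ (Groth.Agent.Helper4.NApx52.algebraMap_self_apply 𝔞 c)⟩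
    have hexρ' : ∃ ρ' : AdicRing.chartAlg f i →+* B,
        ∀ c, ρ' c = Φ' (AdicCompletion.of 𝔞 (AdicRing.chartAlg f i) c) :=
      ⟨Φ'.comp (algebraMap (AdicRing.chartAlg f i) (AdicCompletion 𝔞 (AdicRing.chartAlg f i))),
        fun c => congrArg Φ' (Groth.Agent.Helper4.NApx52.algebraMap_self_apply 𝔞 c)⟩
    obtain ⟨ρ, hρ⟩ := hexρ
    obtain ⟨ρ', hρ'⟩ := hexρ'
    have hρC : ∀ a : A, ρ (Ideal.Quotient.mk J₀ (MvPolynomial.C a)) = φ a := fun a =>
      (hρ _).trans (hΦA a)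
    have hρ'C : ∀ a : A, ρ' (Ideal.Quotient.mk J₀ (MvPolynomial.C a)) = φ a := fun a =>
      (hρ' _).trans (hΦ'A a)
    have hrel : ∀ j : {j : Fin (r + 1) // j ≠ i},
        Ideal.Quotient.mk J₀ (MvPolynomial.C (f i)) * Ideal.Quotient.mk J₀ (MvPolynomial.X j) =
          Ideal.Quotient.mk J₀ (MvPolynomial.C (f j.1)) := by
      intro j
      rw [← map_mul, Ideal.Quotient.eq]
      exact Ideal.subset_span ⟨j, rfl⟩
    have hρX : ∀ j : {j : Fin (r + 1) // j ≠ i},
        φ (f i) * ρ (Ideal.Quotient.mk J₀ (MvPolynomial.X j)) = φ (f j.1) := by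
      intro j
      rw [← hρC, ← map_mul, hrel, hρC]
    have hρ'X : ∀ j : {j : Fin (r + 1) // j ≠ i},
        φ (f i) * ρ' (Ideal.Quotient.mk J₀ (MvPolynomial.X j)) = φ (f j.1) := by
      intro j
      rw [← hρ'C, ← map_mul, hrel, hρ'C]
    have hρρ' : ρ = ρ' := by
      apply Ideal.Quotient.ringHom_ext
      apply MvPolynomial.ringHom_ext
      · intro a
        show ρ (Ideal.Quotient.mk J₀ (MvPolynomial.C a)) = ρ' (Ideal.Quotient.mk J₀ (MvPolynomial.C a))
        rw [hρC, hρ'C]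
      · intro j
        show ρ (Ideal.Quotient.mk J₀ (MvPolynomial.X j)) = ρ' (Ideal.Quotient.mk J₀ (MvPolynomial.X j))
        have := (hρX j).trans (hρ'X j).symm
        exact (mul_cancel_left_mem_nonZeroDivisors hnzd).mp this
    have heq : ∀ c : AdicRing.chartAlg f i,
        Φ (AdicCompletion.of 𝔞 (AdicRing.chartAlg f i) c) =
          Φ' (AdicCompletion.of 𝔞 (AdicRing.chartAlg f i) c) := fun c => by
      rw [← hρ, ← hρ', hρρ']
    have hJmem : ∀ a ∈ 𝔞, Φ (AdicCompletion.of 𝔞 (AdicRing.chartAlg f i) a) ∈ J := by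
      intro a ha
      have hle : 𝔞 ≤ J.comap ρ := by
        rw [h𝔞, Ideal.map_le_iff_le_comap]
        intro x hx
        show ρ (algebraMap R (AdicRing.chartAlg f i) x) ∈ J
        rw [hρ, hΦR, hJ]
        exact Ideal.mem_map_of_mem _ hx
      have := hle ha
      rw [Ideal.mem_comap, hρ] at this
      exact this
    have hΦΦ' : Φ = Φ' :=
      Groth.Agent.Helper4.NApx52.ringHom_ext_of_fg 𝔞 J h𝔞fg Φ Φ' hJmem heq
    refine AlgHom.ext fun y => ?_
    obtain ⟨x, rfl⟩ := Ideal.Quotient.mk_surjective y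
    rw [← hΦapp, ← hΦ'app, hΦΦ']

end Groth.Agent.S11545
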