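import Groth.Statements.S11546
import Groth.Agent.Helper2.AdicTorsionFree
open Groth.Agent.Helper2.AdicTorsionFree
-- import your own Groth.Agent.* helpers here

set_option autoImplicit false
universe u
open AdicRing

namespace Groth.Agent.S11546

/-- Let R be a base ring of class (N) or (V) for the ideal I. Then the restricted power series ring
R⟨ζ_1, ..., ζ_n⟩ is flat over R. -/
theorem result
    (R : Type u) [CommRing R] (I : Ideal R) (hR : AdicRing.IsBase R I) (n : ℕ) :
    Module.Flat R (AdicRing.RPow R I n) := by
  obtain ⟨hcomp, hN | hV⟩ := hR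
  · obtain ⟨hnoeth, -⟩ := hN
    haveI := hnoeth
    exact Module.Flat.trans R (MvPolynomial (Fin n) R) _
  · obtain ⟨hdom, hval, -, t, ht, rfl⟩ := hV
    haveI := hdom
    haveI := hval
    haveI : ValuationRing R := ⟨⟩
    rw [Module.Flat.flat_iff_torsion_eq_bot_of_isBezout]
    rw [Submodule.eq_bot_iff]
    intro x hx
    rw [Submodule.mem_torsion_iff] at hx
    obtain ⟨⟨a, ha⟩, hax⟩ := hx
    have ha0 : a ≠ 0 := nonZeroDivisors.ne_zero ha
    change a • x = 0 at hax
    -- a divides a power of t
    have h1 : ∃ m : ℕ, a ∣ t ^ m := by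
      by_contra hcon
      push Not at hcon
      apply ha0
      have hH : IsHausdorff (Ideal.span {t}) R := hcomp.toIsHausdorff
      apply hH.haus'
      intro m
      rw [SModEq.zero, smul_eq_mul, Ideal.mul_top, Ideal.span_singleton_pow,
        Ideal.mem_span_singleton]
      rcases ValuationRing.dvd_total a (t ^ m) with h | h
      · exact absurd h (hcon m)
      · exact h
    obtain ⟨m, b, hb⟩ := h1
    have h2 : (t ^ m) • x = 0 := by
      rw [hb, mul_comm, mul_smul, hax, smul_zero]
    have hJ : Ideal.map (MvPolynomial.C : R →+* MvPolynomial (Fin n) R) (Ideal.span {t})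
        = Ideal.span {MvPolynomial.C t} := by
      rw [Ideal.map_span, Set.image_singleton]
    apply eq_zero_of_pow_smul_eq_zero (MvPolynomial.C t) _ _ hJ x m
    · rw [← map_pow]
      have := algebraMap_smul (MvPolynomial (Fin n) R) (t ^ m) x
      rw [MvPolynomial.algebraMap_eq] at this
      rw [this]
      exact h2
    · intro h
      exact ht (MvPolynomial.C_injective _ _ (by rw [h, map_zero]))

end Groth.Agent.S11546
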