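import Groth.Statements.S1156


set_option autoImplicit false
universe u
open scoped TensorProduct
open Desc

namespace Groth.Agent.S1156

/-- Exactness of the extended Amitsur complex in degree 0 (injectivity in degree −1 being standard). Let
R → A be faithfully flat and M an R-module. An element x of A ⊗_R M with 1 ⊗ x = (a ⊗ m ↦ a ⊗ 1 ⊗
m)(x) in A ⊗_R A ⊗_R M lies in the image of m ↦ 1 ⊗ m. -/
theorem result (R A : Type u) [CommRing R] [CommRing A] [Algebra R A] [Module.FaithfullyFlat R A]
    (M : Type u) [AddCommGroup M] [Module R M] (x : A ⊗[R] M)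
    (hx : TensorProduct.mk R A (A ⊗[R] M) 1 x = LinearMap.lTensor A (TensorProduct.mk R A M 1) x) :
    x ∈ LinearMap.range (TensorProduct.mk R A M 1) := by
  let ι : M →ₗ[R] A ⊗[R] M := TensorProduct.mk R A M 1
  let d : A ⊗[R] M →ₗ[R] A ⊗[R] (A ⊗[R] M) :=
    TensorProduct.mk R A (A ⊗[R] M) 1 - LinearMap.lTensor A ι
  -- contraction maps
  let μ : A ⊗[R] (A ⊗[R] M) →ₗ[R] A ⊗[R] M :=
    (LinearMap.rTensor M (LinearMap.mul' R A)) ∘ₗ (TensorProduct.assoc R A A M).symm.toLinearMap
  let σ : A ⊗[R] (A ⊗[R] (A ⊗[R] M)) →ₗ[R] A ⊗[R] (A ⊗[R] M) :=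
    (LinearMap.rTensor (A ⊗[R] M) (LinearMap.mul' R A)) ∘ₗ
      (TensorProduct.assoc R A A (A ⊗[R] M)).symm.toLinearMap
  have key : σ ∘ₗ (LinearMap.lTensor A d) = LinearMap.id - (LinearMap.lTensor A ι) ∘ₗ μ := by
    ext a b m
    simp [σ, d, μ, ι]
  have hex : Function.Exact ι d := by
    apply Module.FaithfullyFlat.lTensor_reflects_exact R A
    intro y
    constructor
    · intro hy
      have := congrArg (fun f => f y) key
      simp only [LinearMap.comp_apply, hy, map_zero, LinearMap.sub_apply, LinearMap.id_apply] at this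
      exact ⟨μ y, (sub_eq_zero.mp this.symm).symm⟩
    · rintro ⟨z, rfl⟩
      rw [← LinearMap.comp_apply, ← LinearMap.lTensor_comp]
      have : d ∘ₗ ι = 0 := by
        ext m
        simp [d, ι]
      rw [this, LinearMap.lTensor_zero, LinearMap.zero_apply]
  have hdx : d x = 0 := by
    simp only [d, LinearMap.sub_apply, sub_eq_zero]
    exact hx
  exact (hex x).mp hdx

end Groth.Agent.S1156
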