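import Groth.Statements.S1162
import Mathlib

set_option autoImplicit false
open CategoryTheory CategoryTheory.Limits AlgebraicGeometry Opposite
universe u
open Desc

namespace Groth.Agent.S1162

theorem generic_of_generalizing {X Y : Type*} [TopologicalSpace X] [TopologicalSpace Y]
    [QuasiSober Y] [T0Space X] (g : X → Y) (hg : GeneralizingMap g)
    (η : X) (hη : closure {η} ∈ irreducibleComponents X) :
    closure {g η} ∈ irreducibleComponents Y := by
  refine ⟨isIrreducible_singleton.closure, fun s hs hle => ?_⟩
  obtain ⟨w, hw⟩ := QuasiSober.sober hs.closure isClosed_closure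
  have h1 : w ⤳ g η := by
    rw [specializes_iff_mem_closure, hw.def]
    exact subset_closure (hle (subset_closure rfl))
  obtain ⟨η', hη', rfl⟩ := hg h1
  have h2 : closure {η} ⊆ closure {η'} := specializes_iff_closure_subset.mp hη'
  have h3 : closure {η'} ⊆ closure {η} := hη.2 isIrreducible_singleton.closure h2
  have h4 : η ⤳ η' := specializes_iff_closure_subset.mpr h3
  have h5 : η = η' := (h4.antisymm hη').eq
  subst h5
  calc s ⊆ closure s := subset_closure
    _ = closure {g η} := hw.def.symm

theorem subsingleton_tensor {X Y S : Scheme.{u}} {f : X ⟶ S} {g : Y ⟶ S}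
    (T : Scheme.Pullback.Triplet f g)
    (h : Function.Surjective (f.residueFieldMap T.x).hom) :
    Subsingleton (Spec T.tensor) := by
  have hepi : Epi ((S.residueFieldCongr T.hx).inv ≫ f.residueFieldMap T.x) := by
    apply ConcreteCategory.epi_of_surjective
    have := (ConcreteCategory.bijective_of_isIso (S.residueFieldCongr T.hx).inv).2
    exact h.comp this
  have hepi2 : Epi T.tensorInr := by
    unfold Scheme.Pullback.Triplet.tensorInr
    exact pushout.inr_of_epi
  have hmono : Mono (Spec.map T.tensorInr) := by
    have : Mono T.tensorInr.op := inferInstance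
    exact inferInstanceAs (Mono (Scheme.Spec.map T.tensorInr.op))
  have hinj : Function.Injective (Spec.map T.tensorInr) :=
    (Spec.map T.tensorInr).injective
  have : Subsingleton (Spec (Y.residueField T.y)) :=
    inferInstanceAs (Subsingleton (PrimeSpectrum (Y.residueField T.y)))
  exact hinj.subsingleton

/-- Let f : X ⟶ Y be flat and separated. Write X⁰ for the generic points of the irreducible components
of X. If for every ξ in X⁰ the residue field extension κ(f ξ) ⊆ κ(ξ) is trivial and f is injective
on X⁰, then f is universally injective. -/
theorem result {X Y : Scheme.{u}} (f : X ⟶ Y) [Flat f] [IsSeparated f]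
    (h2 : ∀ ξ : X, closure ({ξ} : Set X) ∈ irreducibleComponents (X : Type u) →
      Function.Surjective (f.residueFieldMap ξ).hom)
    (h3 : Set.InjOn f.base {ξ : X | closure ({ξ} : Set X) ∈ irreducibleComponents (X : Type u)}) :
    UniversallyInjective f := by
  rw [UniversallyInjective.iff_diagonal]
  refine ⟨fun z => ?_⟩
  have hZ := irreducibleComponent_mem_irreducibleComponents z
  obtain ⟨η, hη⟩ := QuasiSober.sober (isIrreducible_irreducibleComponent (x := z))
    isClosed_irreducibleComponent
  have hη' : closure {η} ∈ irreducibleComponents ((pullback f f : Scheme.{u}) : Type u) := by rw [hη.def]; exact hZ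
  have key : η ∈ Set.range (pullback.diagonal f) := by
    have g1 : closure {pullback.fst f f η} ∈ irreducibleComponents X :=
      generic_of_generalizing _ (Flat.generalizingMap (pullback.fst f f)) η hη'
    have g2 : closure {pullback.snd f f η} ∈ irreducibleComponents X :=
      generic_of_generalizing _ (Flat.generalizingMap (pullback.snd f f)) η hη'
    have e12 : pullback.fst f f η = pullback.snd f f η := by
      apply h3 g1 g2
      have := pullback.condition (f := f) (g := f)
      exact congr($(this) η)
    refine ⟨pullback.fst f f η, ?_⟩
    apply Scheme.Pullback.carrierEquiv.injective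
    rw [Scheme.Pullback.carrierEquiv_eq_iff]
    have hT : (Scheme.Pullback.carrierEquiv (pullback.diagonal f (pullback.fst f f η))).1
        = (Scheme.Pullback.carrierEquiv η).1 := by
      apply Scheme.Pullback.Triplet.ext
      · show pullback.fst f f (pullback.diagonal f (pullback.fst f f η)) = pullback.fst f f η
        rw [← Scheme.Hom.comp_apply]; simp
      · show pullback.snd f f (pullback.diagonal f (pullback.fst f f η)) = pullback.snd f f η
        rw [← Scheme.Hom.comp_apply]; simpa using e12
    refine ⟨hT, ?_⟩
    have := subsingleton_tensor (Scheme.Pullback.carrierEquiv η).1 (h2 _ g1)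
    exact Subsingleton.elim _ _
  have hcl : IsClosed (Set.range (pullback.diagonal f)) :=
    (pullback.diagonal f).isClosedEmbedding.isClosed_range
  have hz : z ∈ closure {η} := by rw [hη.def]; exact mem_irreducibleComponent
  exact hcl.closure_subset_iff.mpr (Set.singleton_subset_iff.mpr key) hz

end Groth.Agent.S1162
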