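import Groth.Statements.S1183
import Groth.Agent.Helper2.RkSmooth

set_option autoImplicit false
universe u
open Desc

namespace Groth.Agent.S1183

/-- Let A → B be a smooth ring map of Noetherian rings and k a natural number. If A satisfies (R_k) then
so does B; and if moreover A → B is faithfully flat and B satisfies (R_k), then A does. -/
theorem result (A B : Type u) [CommRing A] [CommRing B] [IsNoetherianRing A] [IsNoetherianRing B]
    [Algebra A B] [Algebra.Smooth A B] (k : ℕ) :
    (LocCoh.HasRk k A → LocCoh.HasRk k B) ∧
    (Module.FaithfullyFlat A B → LocCoh.HasRk k B → LocCoh.HasRk k A) := by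
  refine ⟨fun hA => ?_, fun hff hB => ?_⟩
  · exact Groth.Agent.Helper2.RkSmooth.hasRk_of_isRegularHom A B
      (Groth.Agent.Helper2.RegHom2.isRegularHom_of_smooth A B) k hA
  · haveI := hff
    exact (Groth.Agent.Helper2.RkDescent.main k A B hB).2

end Groth.Agent.S1183
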