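import Groth.Statements.S1189
import Mathlib
import Groth.Agent.Helper2.Gal2
open CategoryTheory PreGaloisCategory Limits Groth.Agent.Helper2.Gal1 Groth.Agent.Helper2.Gal2
-- import your own Groth.Agent.* helpers here

set_option autoImplicit false
universe u v w
open CategoryTheory PreGaloisCategory
open Pi1

namespace Groth.Agent.S1189

/-- Let H : C ⥤ C' and H' : C' ⥤ C'' be exact functors between Galois categories and F'' a fibre functor
on C'' such that F'' ∘ H' and F'' ∘ H' ∘ H are fibre functors; let h' : π_1(C'', F'') → π_1(C', F''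
∘ H') and h : π_1(C', F'' ∘ H') → π_1(C, F'' ∘ H' ∘ H) be the induced homomorphisms. Then h ∘ h' is
trivial if and only if for every object X of C the object H'(H(X)) is isomorphic to a finite
coproduct of copies of the final object. -/
theorem result {C C' C'' : Type u} [Category.{v} C] [Category.{v} C'] [Category.{v} C'']
    [GaloisCategory C] [GaloisCategory C'] [GaloisCategory C'']
    (H : C ⥤ C') [Limits.PreservesFiniteLimits H] [Limits.PreservesFiniteColimits H]
    (H' : C' ⥤ C'') [Limits.PreservesFiniteLimits H'] [Limits.PreservesFiniteColimits H']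
    (F'' : C'' ⥤ FintypeCat.{w}) [FiberFunctor F''] [FiberFunctor (H' ⋙ F'')] [FiberFunctor (H ⋙ (H' ⋙ F''))] :
    (∀ σ : Aut F'', Pi1X.autWhisker H (H' ⋙ F'') (Pi1X.autWhisker H' F'' σ) = 1) ↔
      ∀ X : C, ∃ n : ℕ, Nonempty (H'.obj (H.obj X) ≅ ∐ fun _ : Fin n => ⊤_ C'') := by
  have key : ∀ σ : Aut F'', Pi1X.autWhisker H (H' ⋙ F'') (Pi1X.autWhisker H' F'' σ) = 1 ↔
      ∀ (X : C) (b : F''.obj (H'.obj (H.obj X))), σ • b = b := by
    intro σ
    constructor
    · intro h X b
      have := congrArg (fun τ : Aut (H ⋙ (H' ⋙ F'')) => τ.hom.app X b) h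
      exact this
    · intro h
      ext X b
      exact h X b
  constructor
  · intro h X
    rw [← trivial_iff_iso_coprod_terminal F'']
    intro σ b
    exact (key σ).1 (h σ) X b
  · intro h σ
    rw [key]
    intro X b
    exact (trivial_iff_iso_coprod_terminal F'').2 (h X) σ b

end Groth.Agent.S1189
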