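import Groth.Statements.S1190
import Mathlib
import Groth.Agent.Helper2.Gal7
open CategoryTheory PreGaloisCategory Limits Groth.Agent.Helper2.Gal1 Groth.Agent.Helper2.Gal2 Groth.Agent.Helper2.Gal3 Groth.Agent.Helper2.Gal4 Groth.Agent.Helper2.Gal5 Groth.Agent.Helper2.Gal6 Groth.Agent.Helper2.Gal7
-- import your own Groth.Agent.* helpers here

set_option autoImplicit false
universe u v w
open CategoryTheory PreGaloisCategory
open Pi1

namespace Groth.Agent.S1190

/-- Let H : C ⥤ C' and H' : C' ⥤ C'' be exact functors between Galois categories, F'' a fibre functor on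
C'' with F'' ∘ H' and F'' ∘ H' ∘ H fibre functors, and h', h the induced homomorphisms of
fundamental groups. Then: h is surjective, h ∘ h' is trivial and the kernel of h is the closed
normal subgroup generated by the image of h', if and only if H is fully faithful and its essential
image consists exactly of those X' in C' for which H'(X') is a finite coproduct of copies of the
final object. -/
theorem result {C C' C'' : Type u} [Category.{v} C] [Category.{v} C'] [Category.{v} C'']
    [GaloisCategory C] [GaloisCategory C'] [GaloisCategory C'']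
    (H : C ⥤ C') [Limits.PreservesFiniteLimits H] [Limits.PreservesFiniteColimits H]
    (H' : C' ⥤ C'') [Limits.PreservesFiniteLimits H'] [Limits.PreservesFiniteColimits H']
    (F'' : C'' ⥤ FintypeCat.{w}) [FiberFunctor F''] [FiberFunctor (H' ⋙ F'')] [FiberFunctor (H ⋙ (H' ⋙ F''))] :
    (Function.Surjective (Pi1X.autWhisker H (H' ⋙ F'')) ∧
      (∀ σ : Aut F'', Pi1X.autWhisker H (H' ⋙ F'') (Pi1X.autWhisker H' F'' σ) = 1) ∧
      (Pi1X.autWhisker H (H' ⋙ F'')).ker = (Subgroup.normalClosure (Set.range (Pi1X.autWhisker H' F''))).topologicalClosure) ↔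
    ((H.Full ∧ H.Faithful) ∧
      ∀ X' : C', (∃ X : C, Nonempty (H.obj X ≅ X')) ↔ ∃ n : ℕ, Nonempty (H'.obj X' ≅ ∐ fun _ : Fin n => ⊤_ C'')) := by
  have h1187 : Function.Surjective (Pi1X.autWhisker H (H' ⋙ F'')) ↔ (H.Full ∧ H.Faithful) := by
    constructor
    · intro h
      exact ⟨full_of_surjective H (H' ⋙ F'') h, faithful_of_fiberFunctor H (H' ⋙ F'')⟩
    · rintro ⟨h1, -⟩
      apply surjective_of_pretransitive
      intro X _
      exact pretransitive_of_full H (H' ⋙ F'') X
  set Nbar : Subgroup (Aut (H' ⋙ F'')) :=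
    (Subgroup.normalClosure (Set.range (Pi1X.autWhisker H' F''))).topologicalClosure with hNbar
  have hrange_le : ∀ σ : Aut F'', Pi1X.autWhisker H' F'' σ ∈ Nbar := by
    intro σ
    apply Subgroup.le_topologicalClosure
    apply Subgroup.subset_normalClosure
    exact ⟨σ, rfl⟩
  have E2 : ∀ X' : C', (∃ n : ℕ, Nonempty (H'.obj X' ≅ ∐ fun _ : Fin n => ⊤_ C'')) ↔
      Nbar ≤ K (H' ⋙ F'') X' := by
    intro X'
    rw [← trivial_iff_iso_coprod_terminal F'' (Y := H'.obj X')]
    constructor
    · intro h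
      apply Subgroup.topologicalClosure_minimal _ _ (K_isClosed (H' ⋙ F'') X')
      apply Subgroup.normalClosure_le_normal
      rintro _ ⟨σ, rfl⟩
      change Pi1X.autWhisker H' F'' σ ∈ K (H' ⋙ F'') X'
      rw [mem_K]
      intro x
      exact h σ x
    · intro h σ b
      have := h (hrange_le σ)
      rw [mem_K] at this
      exact this b
  have E1 : Function.Surjective (Pi1X.autWhisker H (H' ⋙ F'')) →
      ∀ X' : C', (∃ X : C, Nonempty (H.obj X ≅ X')) ↔
        (Pi1X.autWhisker H (H' ⋙ F'')).ker ≤ K (H' ⋙ F'') X' := by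
    intro hsurj X'
    constructor
    · rintro ⟨X, ⟨e⟩⟩
      exact ker_le_K_of_iso H (H' ⋙ F'') e
    · intro h
      exact exists_iso_of_ker_le H (H' ⋙ F'') hsurj X' h
  haveI hNn : Nbar.Normal := Subgroup.is_normal_topologicalClosure _
  have hNc : IsClosed (Nbar : Set (Aut (H' ⋙ F''))) := Subgroup.isClosed_topologicalClosure _
  constructor
  · rintro ⟨hsurj, -, hker⟩
    refine ⟨h1187.1 hsurj, fun X' => ?_⟩
    rw [E1 hsurj X', E2 X', hker]
  · rintro ⟨hff, hX'⟩
    have hsurj := h1187.2 hff
    have hiff : ∀ X' : C', (Pi1X.autWhisker H (H' ⋙ F'')).ker ≤ K (H' ⋙ F'') X' ↔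
        Nbar ≤ K (H' ⋙ F'') X' := by
      intro X'
      rw [← E1 hsurj X', ← E2 X']
      exact hX' X'
    have hker : (Pi1X.autWhisker H (H' ⋙ F'')).ker = Nbar := by
      apply le_antisymm
      · intro σ hσ
        by_contra hσN
        obtain ⟨X', h1, h2⟩ := exists_K_of_not_mem_closed_normal (H' ⋙ F'') Nbar hNc σ hσN
        exact h2 ((hiff X').2 h1 hσ)
      · intro σ hσ
        by_contra hσk
        obtain ⟨X', h1, h2⟩ := exists_K_of_not_mem_closed_normal (H' ⋙ F'')
          (Pi1X.autWhisker H (H' ⋙ F'')).ker (ker_isClosed H (H' ⋙ F'')) σ hσk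
        exact h2 ((hiff X').1 h1 hσ)
    refine ⟨hsurj, fun σ => ?_, hker⟩
    have := hrange_le σ
    rw [← hker] at this
    exact this

end Groth.Agent.S1190
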