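import Groth.Statements.S12056
import Mathlib

set_option autoImplicit false
open Red

namespace Groth.Agent.S12056

/-- In formal-power-series form, let R be a commutative ring and F ∈ R⟦X⟧ with constant term 1 whose
linear coefficient a is a unit of R. Suppose that in R⟦X₀, X₁⟧ one has F(X₀ + X₁ · F(X₀)) = F(X₀) ·
F(X₁) (the functional equation F(x + y F(x)) = F(x) F(y)). Then F = 1 + a X. (The published
statement concerns a morphism to the multiplicative group from an open neighbourhood of the zero
section in the additive group over a base scheme, the identity holding on an open neighbourhood of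
the origin of the plane on which all terms are defined, with a the derivative at 0; this row states
it for formal power series over a ring.) -/
theorem result (R : Type) [CommRing R] (F : PowerSeries R)
    (h0 : PowerSeries.constantCoeff F = 1) (ha : IsUnit (PowerSeries.coeff 1 F))
    (hFE : PowerSeries.subst
        (MvPowerSeries.X (0 : Fin 2) + MvPowerSeries.X 1 * PowerSeries.subst (MvPowerSeries.X (0 : Fin 2)) F :
          MvPowerSeries (Fin 2) R) F =
      PowerSeries.subst (MvPowerSeries.X (0 : Fin 2)) F * PowerSeries.subst (MvPowerSeries.X (1 : Fin 2)) F) :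
    F = 1 + PowerSeries.C (PowerSeries.coeff 1 F) * PowerSeries.X := by
  classical
  set X0 : MvPowerSeries (Fin 2) R := MvPowerSeries.X 0 with hX0
  set X1 : MvPowerSeries (Fin 2) R := MvPowerSeries.X 1 with hX1
  set F0 := PowerSeries.subst X0 F with hF0
  set F1 := PowerSeries.subst X1 F with hF1
  set A : MvPowerSeries (Fin 2) R := X0 + X1 * F0 with hA
  set B : MvPowerSeries (Fin 2) R := X1 + X0 * F1 with hB
  have hsX0 : PowerSeries.HasSubst X0 := PowerSeries.HasSubst.X 0
  have hsX1 : PowerSeries.HasSubst X1 := PowerSeries.HasSubst.X 1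
  have hsA : PowerSeries.HasSubst A := by
    apply PowerSeries.HasSubst.of_constantCoeff_zero
    simp [hA, hX0, hX1]
  have hsB : PowerSeries.HasSubst B := by
    apply PowerSeries.HasSubst.of_constantCoeff_zero
    simp [hB, hX0, hX1]
  -- the swap
  let b : Fin 2 → MvPowerSeries (Fin 2) R := ![X1, X0]
  have hb : MvPowerSeries.HasSubst b := MvPowerSeries.HasSubst.X_X
  have hσX0 : MvPowerSeries.subst b X0 = X1 := by
    rw [hX0, MvPowerSeries.subst_X hb]; rfl
  have hσX1 : MvPowerSeries.subst b X1 = X0 := by
    rw [hX1, MvPowerSeries.subst_X hb]; rfl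
  have hσPS : ∀ (a : MvPowerSeries (Fin 2) R), PowerSeries.HasSubst a → ∀ f : PowerSeries R,
      MvPowerSeries.subst b (PowerSeries.subst a f) = PowerSeries.subst (MvPowerSeries.subst b a) f := by
    intro a ha f
    exact MvPowerSeries.subst_comp_subst_apply ha.const hb f
  have hσF0 : MvPowerSeries.subst b F0 = F1 := by rw [hF0, hσPS _ hsX0, hσX0]
  have hσF1 : MvPowerSeries.subst b F1 = F0 := by rw [hF1, hσPS _ hsX1, hσX1]
  have hσA : MvPowerSeries.subst b A = B := by
    rw [hA, MvPowerSeries.subst_add hb, MvPowerSeries.subst_mul hb, hσX0, hσX1, hσF0]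
  have hFB : PowerSeries.subst B F = F1 * F0 := by
    have := congrArg (MvPowerSeries.subst b) hFE
    rwa [hσPS _ hsA, hσA, MvPowerSeries.subst_mul hb, hσF0, hσF1] at this
  have hAB' : PowerSeries.subst A F = PowerSeries.subst B F := by rw [hFE, hFB, mul_comm]
  -- G = F - 1
  set G : PowerSeries R := F - 1 with hG
  have hG0 : PowerSeries.constantCoeff G = 0 := by simp [hG, h0]
  have hG1 : PowerSeries.coeff 1 G = PowerSeries.coeff 1 F := by
    simp [hG, PowerSeries.coeff_one]
  have hGu : IsUnit (PowerSeries.coeff 1 G) := by rw [hG1]; exact ha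
  set H := G.substInvOfIsUnit hGu with hH
  have hHG : PowerSeries.subst G H = PowerSeries.X := PowerSeries.subst_substInvOfIsUnit_left G hG0 hGu
  have hsG : PowerSeries.HasSubst G := PowerSeries.HasSubst.of_constantCoeff_zero' hG0
  have hsub1 : ∀ a : MvPowerSeries (Fin 2) R, PowerSeries.HasSubst a →
      PowerSeries.subst a G = PowerSeries.subst a F - 1 := by
    intro a ha
    rw [hG, PowerSeries.subst_sub ha]
    congr 1
    rw [← PowerSeries.coe_substAlgHom ha, map_one]
  have hGAB : PowerSeries.subst A G = PowerSeries.subst B G := by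
    rw [hsub1 A hsA, hsub1 B hsB, hAB']
  have hAeq : A = PowerSeries.subst (PowerSeries.subst A G) H := by
    rw [← PowerSeries.subst_comp_subst_apply hsG hsA, hHG, PowerSeries.subst_X hsA]
  have hBeq : B = PowerSeries.subst (PowerSeries.subst B G) H := by
    rw [← PowerSeries.subst_comp_subst_apply hsG hsB, hHG, PowerSeries.subst_X hsB]
  have hAB : A = B := by rw [hAeq, hBeq, hGAB]
  -- coefficient comparison
  have hcoef : ∀ k : ℕ, 2 ≤ k → PowerSeries.coeff k F = 0 := by
    intro k hk
    have h1 := congrArg (MvPowerSeries.coeff (Finsupp.single (0 : Fin 2) k + Finsupp.single 1 1)) hAB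
    rw [hA, hB, map_add, map_add] at h1
    have e1 : MvPowerSeries.coeff (Finsupp.single (0 : Fin 2) k + Finsupp.single 1 1) X0 = 0 := by
      rw [hX0, MvPowerSeries.coeff_X, if_neg]
      intro h
      have := DFunLike.congr_fun h 1
      simp at this
    have e2 : MvPowerSeries.coeff (Finsupp.single (0 : Fin 2) k + Finsupp.single 1 1) X1 = 0 := by
      rw [hX1, MvPowerSeries.coeff_X, if_neg]
      intro h
      have := DFunLike.congr_fun h 0
      simp at this
      omega
    have e3 : MvPowerSeries.coeff (Finsupp.single (0 : Fin 2) k + Finsupp.single 1 1) (X1 * F0)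
        = PowerSeries.coeff k F := by
      rw [hX1, MvPowerSeries.X_def, add_comm (Finsupp.single (0 : Fin 2) k),
        MvPowerSeries.coeff_add_monomial_mul, one_mul, hF0, hX0, PowerSeries.coeff_subst_single]
      simp
    have e4 : MvPowerSeries.coeff (Finsupp.single (0 : Fin 2) k + Finsupp.single 1 1) (X0 * F1) = 0 := by
      obtain ⟨k', rfl⟩ : ∃ k', k = k' + 1 := ⟨k - 1, by omega⟩
      have hsplit : (Finsupp.single (0 : Fin 2) (k' + 1) + Finsupp.single 1 1 : Fin 2 →₀ ℕ)
          = Finsupp.single 0 1 + (Finsupp.single 0 k' + Finsupp.single 1 1) := by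
        rw [← add_assoc, ← Finsupp.single_add, add_comm 1 k']
      rw [hsplit, hX0, MvPowerSeries.X_def, MvPowerSeries.coeff_add_monomial_mul, one_mul, hF1, hX1,
        PowerSeries.coeff_subst_single, if_neg]
      intro h
      have := DFunLike.congr_fun h 0
      simp at this
      omega
    rw [e1, e2, e3, e4, zero_add, zero_add] at h1
    exact h1
  ext n
  rcases n with _ | _ | n
  · simp [h0]
  · simp [PowerSeries.coeff_one, PowerSeries.coeff_C_mul]
  · rw [hcoef (n + 2) (by omega)]
    simp [PowerSeries.coeff_one, PowerSeries.coeff_C_mul, PowerSeries.coeff_X]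

end Groth.Agent.S12056
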