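import Groth.Statements.S12058
import Mathlib
import Groth.Agent.Helper9.ExtOne
-- import your own Groth.Agent.* helpers here

set_option autoImplicit false
universe w v u
open CategoryTheory CategoryTheory.Limits CategoryTheory.Abelian
open SGA3

namespace Groth.Agent.S12058

/-- In an abelian category, let 0 → A' → A → A'' → 0 be a short exact sequence, φ : A' ⟶ Q a morphism
and π : A'' ⟶ P an epimorphism with kernel C. Consider the quadruples (B, f, g, h) with 0 → Q → B →
P → 0 short exact (maps f, g) and h : A ⟶ B such that the squares commute: (A' → A → B) = (A' → Q →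
B) and (A → B → P) = (A → A'' → P). Such a quadruple exists if and only if the image in Ext¹(C, Q)
of the class of the given extension in Ext¹(A'', A') (push forward along φ, pull back along the
inclusion C → A'') is zero. -/
theorem result {C : Type u} [Category.{v} C] [Abelian C]
    [HasExt.{w} C] {S : ShortComplex C} (hS : S.ShortExact) {Q P : C} (φ : S.X₁ ⟶ Q) (π : S.X₃ ⟶ P) [Epi π] :
    (∃ (B : C) (f : Q ⟶ B) (g : B ⟶ P) (h : S.X₂ ⟶ B) (w : f ≫ g = 0),
        (ShortComplex.mk f g w).ShortExact ∧ S.f ≫ h = φ ≫ f ∧ h ≫ g = S.g ≫ π) ↔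
      (Ext.mk₀ (kernel.ι π)).comp (hS.extClass.comp (Ext.mk₀ φ) (add_zero 1)) (zero_add 1) = 0 := by
  constructor
  · rintro ⟨B, f, g, h, w, hB, h1, h2⟩
    let ψ : S ⟶ ShortComplex.mk f g w :=
      { τ₁ := φ, τ₂ := h, τ₃ := π, comm₁₂ := h1.symm, comm₂₃ := h2 }
    have hn := ShortComplex.ShortExact.extClass_naturality hS hB ψ
    have hn' : hS.extClass.comp (Ext.mk₀ φ) (add_zero 1) =
        (Ext.mk₀ π).comp hB.extClass (zero_add 1) := hn
    rw [hn', Ext.mk₀_comp_mk₀_assoc, kernel.condition, Ext.mk₀_zero, Ext.zero_comp]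
  · intro h0
    have wT : kernel.ι π ≫ π = 0 := kernel.condition π
    have hT : (ShortComplex.mk (kernel.ι π) π wT).ShortExact :=
      { exact := ShortComplex.exact_of_f_is_kernel _ (kernelIsKernel π)
        mono_f := inferInstanceAs (Mono (kernel.ι π))
        epi_g := inferInstanceAs (Epi π) }
    obtain ⟨β, hβ⟩ := Abelian.Ext.contravariant_sequence_exact₂ hT _ _ h0
    obtain ⟨B, f, g, w, hB, hBβ⟩ := Groth.Agent.Helper9.ExtOne.exists_extClass_eq β
    obtain ⟨b, hb1, hb2⟩ := Groth.Agent.Helper9.ExtOne.exists_hom_of_extClass_eq hS hB φ π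
      (by rw [hBβ]; exact hβ.symm)
    exact ⟨B, f, g, b, w, hB, hb1, hb2.symm⟩

end Groth.Agent.S12058
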