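import Groth.Statements.S1206
import Mathlib

set_option autoImplicit false
universe u
open FlatMor

namespace Groth.Agent.S1206

/-- Let A be a local domain which is not a field and 𝒮 a set of finitely generated ideals of A, closed
under products, such that the union of the closed sets V(I), I ∈ 𝒮, is exactly the set of nonzero
primes (every nonzero prime contains a member of 𝒮 and no member is zero). Then the intersection of
all members of 𝒮 is zero. -/
theorem result (A : Type u) [CommRing A] [IsDomain A] [IsLocalRing A] (hA : ¬ IsField A)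
    (𝒮 : Set (Ideal A)) (hfg : ∀ I ∈ 𝒮, I.FG) (hmul : ∀ I ∈ 𝒮, ∀ J ∈ 𝒮, I * J ∈ 𝒮)
    (hne : ∀ I ∈ 𝒮, I ≠ ⊥) (hcov : ∀ (p : Ideal A), p.IsPrime → p ≠ ⊥ → ∃ I ∈ 𝒮, I ≤ p) :
    sInf 𝒮 = ⊥ := by
  classical
  -- the maximal ideal is nonzero
  have hm : IsLocalRing.maximalIdeal A ≠ ⊥ := by
    intro h
    exact hA (IsLocalRing.isField_iff_maximalIdeal_eq.mpr h)
  obtain ⟨Im, hImS, hIm⟩ := hcov (IsLocalRing.maximalIdeal A) inferInstance hm
  let P : Ideal A → Prop := fun 𝔞 => 𝔞 = ⊥ ∨ ∃ I ∈ 𝒮, I ≤ 𝔞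
  have hOka : Ideal.IsOka P := by
    refine ⟨Or.inr ⟨Im, hImS, le_top⟩, ?_⟩
    intro 𝔞 a h1 h2
    rcases h1 with h1 | ⟨I₁, hI₁, h1⟩
    · left
      exact le_bot_iff.mp (h1 ▸ le_sup_left)
    rcases h2 with h2 | ⟨I₂, hI₂, h2⟩
    · left
      exact le_bot_iff.mp (h2 ▸ Ideal.le_colon)
    right
    refine ⟨I₁ * I₂, hmul _ hI₁ _ hI₂, ?_⟩
    refine (Ideal.mul_mono h1 h2).trans ?_
    rw [Ideal.mul_le]
    intro r hr s hs
    rw [Ideal.mem_colon_span_singleton] at hs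
    obtain ⟨r₁, hr₁, r₂, hr₂, rfl⟩ := Submodule.mem_sup.mp hr
    obtain ⟨c, rfl⟩ := Ideal.mem_span_singleton'.mp hr₂
    have e : (r₁ + c * a) * s = r₁ * s + c * (s * a) := by ring
    rw [e]
    exact 𝔞.add_mem (𝔞.mul_mem_right _ hr₁) (𝔞.mul_mem_left _ hs)
  have hall : ∀ 𝔞, P 𝔞 := by
    refine hOka.forall_of_forall_prime' ?_ ?_
    · intro C hC hchain J hJ hP
      rcases hP with hP | ⟨I, hI, hP⟩
      · exact ⟨J, hJ, Or.inl (le_bot_iff.mp (hP ▸ le_sSup hJ))⟩
      · have hcomp := (Submodule.fg_iff_compact I).mp (hfg I hI)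
        rw [CompleteLattice.isCompactElement_iff_le_of_directed_sSup_le] at hcomp
        obtain ⟨K, hK, hIK⟩ := hcomp C ⟨J, hJ⟩ hchain.directedOn hP
        exact ⟨K, hK, Or.inr ⟨I, hI, hIK⟩⟩
    · intro p hp
      by_cases hp0 : p = ⊥
      · exact Or.inl hp0
      · exact Or.inr (hcov p hp hp0)
  rw [eq_bot_iff]
  intro x hx
  rw [Ideal.mem_bot]
  by_contra hx0
  rcases hall (Ideal.span {x}) with h | ⟨I, hI, hIx⟩
  · exact hx0 (Ideal.span_singleton_eq_bot.mp h)
  · have hxm : x ∈ IsLocalRing.maximalIdeal A := hIm ((Ideal.mem_sInf.mp hx) hImS)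
    have hjac : I ≤ Ideal.jacobson ⊥ := by
      rw [IsLocalRing.jacobson_eq_maximalIdeal ⊥ bot_ne_top]
      refine hIx.trans ?_
      rw [Ideal.span_le, Set.singleton_subset_iff]
      exact hxm
    have hxII : x ∈ I * I := (Ideal.mem_sInf.mp hx) (hmul I hI I hI)
    have hle : I ≤ I • I := by
      refine hIx.trans ?_
      rw [Ideal.span_le, Set.singleton_subset_iff]
      exact hxII
    exact hne I hI (Submodule.eq_bot_of_le_smul_of_le_jacobson_bot I I (hfg I hI) hle hjac)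

end Groth.Agent.S1206
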