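import Groth.Statements.S12069
import Groth.Agent.Helper1.BD5

set_option autoImplicit false
universe u
open CategoryTheory CategoryTheory.Limits AlgebraicGeometry
open FGA

namespace Groth.Agent.S12069

/-- Over an algebraically closed field k, let X ⊆ P^n_k be a closed subscheme and P a bounded family of
coherent O_X-modules. Then there are integers m, N and an O_X-module E which is a direct sum of N
copies of O_X(-m) such that every member of the family is a quotient of E. (The published statement
is relative, for families of classes of sheaves on the fibres of a projective scheme over a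
Noetherian base, and gives two necessary conditions for boundedness, which are then shown to be
sufficient together; this row is the necessity of the first condition in the case of the base Spec
k. Finiteness of the set of Hilbert polynomials of the family, the other necessary condition, is a
separate result.) -/
theorem result (k : Type u) [Field k] [IsAlgClosed k] (n : ℕ) (X : Scheme.{u})
    [X.Over (Spec (CommRingCat.of k))] (i : X ⟶ CohB1.ProjSpace n k) [IsClosedImmersion i]
    (hi : i ≫ CohB1.ProjSpace.toSpec n k = X ↘ Spec (CommRingCat.of k))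
    (P : X.Modules → Prop) (hP : ∀ F, P F → Coh.IsCoh F) (hb : Pic13.IsBounded k X P) :
    ∃ (m : ℤ) (N : ℕ) (E : X.Modules) (c : Fin N → (Pic13.twistOn k i (Coh.structureModule X) (-m) ⟶ E)),
      Nonempty (IsColimit (Cofan.mk E c)) ∧ ∀ F, P F → ∃ p : E ⟶ F, Epi p := by
  classical
  obtain ⟨T, q, hq1, hq2, 𝔽, h𝔽, hfam⟩ := hb
  haveI := hq1
  haveI := hq2
  obtain ⟨N₀, hN₀⟩ := Groth.Agent.Helper1.BD.exists_uniform_vanishing k i hi q 𝔽 h𝔽
  have hfin := Groth.Agent.Helper1.BD.finite_hilbert_functions k i hi q 𝔽 h𝔽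
  obtain ⟨m, hm⟩ : ∃ m : ℤ, m = (N₀ : ℤ) + n := ⟨_, rfl⟩
  obtain ⟨N, hNdef⟩ : ∃ N : ℕ, N = hfin.toFinset.sup (fun φ => (φ m).toNat) := ⟨_, rfl⟩
  refine ⟨m, N, (DCoh.tensorRightMod (Groth.Agent.Helper4.SN.OX k i (-m))).obj (FlatMod.freeMod X N),
    fun a => (DCoh.tensorRightMod (Groth.Agent.Helper4.SN.OX k i (-m))).map
      (Sigma.ι (fun _ : Fin N => Coh.structureModule X) a),
    Groth.Agent.Helper1.BD.nonempty_isColimit_twisted_free k i m N, fun F hF => ?_⟩
  obtain ⟨t, ht, ⟨e⟩⟩ := hfam F hF
  -- vanishing of the higher cohomology of `F(m)`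
  have hvan : ∀ j : ℕ, 0 < j → Subsingleton (Coh.HH X (Pic13.twistOn k i F m) j) := by
    intro j hj
    have h1 := hN₀ (N₀ + n) (by omega) t ht j hj
    have hcast : ((N₀ + n : ℕ) : ℤ) = m := by rw [hm]; push_cast; ring
    rw [hcast] at h1
    exact ((Groth.Agent.Lead.BCField.HHlinEquiv k
      (PicGrp.tensorModIso e (Iso.refl _)) j).toEquiv.subsingleton_congr).1 h1
  -- regularity
  have hreg : Pic13.IsMRegular k i F m := by
    intro p hp
    by_cases hpn : p ≤ n
    · have h1 := hN₀ (N₀ + n - p) (by omega) t ht p (by omega)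
      have hcast : ((N₀ + n - p : ℕ) : ℤ) = m - p := by rw [hm]; omega
      rw [hcast] at h1
      exact ((Groth.Agent.Lead.BCField.HHlinEquiv k
        (PicGrp.tensorModIso e (Iso.refl _)) p).toEquiv.subsingleton_congr).1 h1
    · exact Groth.Agent.Helper1.BD.subsingleton_HH_gt k i hi _ p (by omega)
  have hgg := (Groth.Agent.S12111.result k n i F (hP F hF) m hreg m le_rfl).2
  -- the bound
  have hφmem : (fun d : ℤ => FGA.eulerCharLE k X (Pic13.twistOn k i F d) n) ∈
      Set.range (fun p : {t : Spec (CommRingCat.of k) ⟶ T // t ≫ q = 𝟙 _} =>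
        fun d : ℤ => FGA.eulerCharLE k X
          (Pic13.twistOn k i (Pic13.fibreMod k X q p.1 p.2 𝔽) d) n) :=
    ⟨⟨t, ht⟩, funext fun d => Groth.Agent.Lead.IntNumBC.eulerCharLE_congr k X
      (PicGrp.tensorModIso e (Iso.refl _)) n⟩
  have hle : FGA.eulerCharLE k X (Pic13.twistOn k i F m) n ≤ N := by
    have h1 := Finset.le_sup (f := fun φ : ℤ → ℤ => (φ m).toNat) (hfin.mem_toFinset.2 hφmem)
    rw [← hNdef] at h1
    have h2 := Int.self_le_toNat (FGA.eulerCharLE k X (Pic13.twistOn k i F m) n)
    have h3 : ((FGA.eulerCharLE k X (Pic13.twistOn k i F m) n).toNat : ℤ) ≤ (N : ℤ) := by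
      exact_mod_cast h1
    exact h2.trans h3
  exact Groth.Agent.Helper1.BD.exists_epi_of_gg k i hi F (hP F hF) m hgg hvan N hle

end Groth.Agent.S12069
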