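import Groth.Statements.S12071
import Mathlib

set_option autoImplicit false
open RootD

namespace Groth.Agent.S12071

/-- Let G be the group generated by two elements x, y subject to x² = y² = 1 (the infinite dihedral
group; here Mathlib's DihedralGroup 0 with x = sr 0 and y = sr 1, so that x y = r 1). Then every
normal subgroup of G containing neither x nor y is generated by an element (x y)^n with n > 0; such
a subgroup is cyclic, generated by r n. (The published statement does not exclude the trivial
subgroup, for which no n > 0 works; this row assumes the subgroup nontrivial.) -/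
theorem result (N : Subgroup (DihedralGroup 0)) [N.Normal]
    (hN : N ≠ ⊥) (hx : DihedralGroup.sr (0 : ZMod 0) ∉ N) (hy : DihedralGroup.sr (1 : ZMod 0) ∉ N) :
    ∃ n : ℕ, 0 < n ∧ N = Subgroup.zpowers (DihedralGroup.r (n : ZMod 0)) := by
  have hsurj : ∀ i : ZMod 0, ∃ j : ℤ, (Int.cast j : ZMod 0) = i := fun i => ⟨i, rfl⟩
  have hinj : ∀ a b : ℤ, (Int.cast a : ZMod 0) = (Int.cast b : ZMod 0) → a = b := fun a b h => h
  -- no reflection lies in N
  have hsr : ∀ i : ℤ, DihedralGroup.sr (Int.cast i : ZMod 0) ∉ N := by
    intro i hi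
    have hconj : ∀ j : ℤ, DihedralGroup.sr (Int.cast (i - j - j : ℤ) : ZMod 0) ∈ N := by
      intro j
      have := ‹N.Normal›.conj_mem _ hi (DihedralGroup.r (Int.cast j : ZMod 0))
      rw [DihedralGroup.inv_r, DihedralGroup.r_mul_sr, DihedralGroup.sr_mul_r] at this
      have e : ((Int.cast i : ZMod 0) - (Int.cast j : ZMod 0) + -(Int.cast j : ZMod 0)) = (Int.cast (i - j - j : ℤ) : ZMod 0) := by
        push_cast; ring
      rw [e] at this
      exact this
    rcases Int.emod_two_eq_zero_or_one i with h | h
    · have := hconj (i / 2)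
      have e : i - i / 2 - i / 2 = 0 := by omega
      rw [e] at this
      exact hx this
    · have := hconj (i / 2)
      have e : i - i / 2 - i / 2 = 1 := by omega
      rw [e] at this
      exact hy this
  -- the subgroup of ℤ of rotations in N
  let H : AddSubgroup ℤ :=
    { carrier := {i : ℤ | DihedralGroup.r (Int.cast i : ZMod 0) ∈ N}
      zero_mem' := by
        show DihedralGroup.r (Int.cast (0 : ℤ) : ZMod 0) ∈ N
        rw [Int.cast_zero, DihedralGroup.r_zero]; exact N.one_mem
      add_mem' := by
        intro a b ha hb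
        show DihedralGroup.r (Int.cast (a + b : ℤ) : ZMod 0) ∈ N
        have h1 : DihedralGroup.r (Int.cast a : ZMod 0) ∈ N := ha
        have h2 : DihedralGroup.r (Int.cast b : ZMod 0) ∈ N := hb
        have := N.mul_mem h1 h2
        rw [DihedralGroup.r_mul_r] at this
        rw [Int.cast_add]
        exact this
      neg_mem' := by
        intro a ha
        show DihedralGroup.r (Int.cast (-a : ℤ) : ZMod 0) ∈ N
        have h1 : DihedralGroup.r (Int.cast a : ZMod 0) ∈ N := ha
        have := N.inv_mem h1
        rw [DihedralGroup.inv_r] at this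
        rw [Int.cast_neg]
        exact this }
  have hHmem : ∀ i : ℤ, i ∈ H ↔ DihedralGroup.r (Int.cast i : ZMod 0) ∈ N := fun i => Iff.rfl
  obtain ⟨a, ha⟩ := Int.subgroup_cyclic H
  rw [← AddSubgroup.zmultiples_eq_closure] at ha
  have ha0 : a ≠ 0 := by
    intro h0
    apply hN
    rw [eq_bot_iff]
    intro x hx'
    rw [Subgroup.mem_bot]
    cases x with
    | r i =>
      obtain ⟨j, rfl⟩ := hsurj i
      have : j ∈ H := (hHmem j).2 hx'
      rw [ha, h0, AddSubgroup.mem_zmultiples_iff] at this
      obtain ⟨k, hk⟩ := this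
      rw [smul_zero] at hk
      rw [← hk, Int.cast_zero, DihedralGroup.r_zero]
    | sr i =>
      obtain ⟨j, rfl⟩ := hsurj i
      exact absurd hx' (hsr j)
  refine ⟨a.natAbs, Int.natAbs_pos.2 ha0, ?_⟩
  have hnat : ((a.natAbs : ℕ) : ZMod 0) = (Int.cast (a.natAbs : ℤ) : ZMod 0) := (Int.cast_natCast a.natAbs).symm
  ext x
  rw [Subgroup.mem_zpowers_iff, hnat]
  constructor
  · intro hx'
    cases x with
    | r i =>
      obtain ⟨j, rfl⟩ := hsurj i
      have : j ∈ H := (hHmem j).2 hx'
      rw [ha, AddSubgroup.mem_zmultiples_iff] at this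
      obtain ⟨k, hk⟩ := this
      rw [smul_eq_mul] at hk
      rcases Int.natAbs_eq a with h | h
      · refine ⟨k, ?_⟩
        rw [DihedralGroup.r_zpow]
        congr 1
        rw [← hk, ← h]
        push_cast; ring
      · refine ⟨-k, ?_⟩
        rw [DihedralGroup.r_zpow]
        congr 1
        have h' : (a.natAbs : ℤ) = -a := by omega
        rw [← hk, h']
        push_cast; ring
    | sr i =>
      obtain ⟨j, rfl⟩ := hsurj i
      exact absurd hx' (hsr j)
  · rintro ⟨k, rfl⟩
    rw [DihedralGroup.r_zpow]
    have hmem : ((a.natAbs : ℤ) * k : ℤ) ∈ H := by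
      rw [ha, AddSubgroup.mem_zmultiples_iff]
      rcases Int.natAbs_eq a with h | h
      · exact ⟨k, by rw [smul_eq_mul, ← h, mul_comm]⟩
      · refine ⟨-k, ?_⟩
        rw [smul_eq_mul]
        have : (a.natAbs : ℤ) = -a := by omega
        rw [this]; ring
    have := (hHmem _).1 hmem
    rw [Int.cast_mul] at this
    exact this

end Groth.Agent.S12071
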