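import Groth.Statements.S12073
import Groth.Agent.Lead.LimFEt
import Mathlib

set_option autoImplicit false
universe u
open CategoryTheory CategoryTheory.Limits AlgebraicGeometry
open Pi1

namespace Groth.Agent.S12073

/-- Let X = lim X_i be the limit of a cofiltered system of quasi-compact quasi-separated schemes with
affine transition morphisms, given by a limit cone. Then: (1) every finite étale cover of X is
isomorphic, over X, to the base change of a finite étale cover of some X_i; (2) if two morphisms
between finite étale covers of some X_i have the same base change to X, then they have the same base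
change to some X_j with j → i. (Fullness — every morphism over X between base changes comes from
some stage — is part of the published statement and is not stated here; nor is the consequence on
fundamental groups.) -/
theorem result {I : Type u} [SmallCategory I] [IsCofiltered I]
    (D : I ⥤ Scheme.{u}) (c : Limits.Cone D) (hc : Limits.IsLimit c)
    [∀ (i j : I) (f : i ⟶ j), IsAffineHom (D.map f)] [∀ i, CompactSpace (D.obj i)]
    [∀ i, QuasiSeparatedSpace (D.obj i)] :
    (∀ V : FEt.Cat c.pt, ∃ (i : I) (Vi : FEt.Cat (D.obj i)), Nonempty ((FEt.restrict (c.π.app i)).obj Vi ≅ V)) ∧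
    (∀ (i : I) (Vi Wi : FEt.Cat (D.obj i)) (φ ψ : Vi ⟶ Wi),
      (FEt.restrict (c.π.app i)).map φ = (FEt.restrict (c.π.app i)).map ψ →
      ∃ (j : I) (a : j ⟶ i), (FEt.restrict (D.map a)).map φ = (FEt.restrict (D.map a)).map ψ) := by
  have hA : ∀ {i j : I} (f : i ⟶ j), IsAffineHom (D.map f) := fun f ↦ inferInstance
  constructor
  · intro V
    let vh : V.left ⟶ c.pt := V.hom
    have hV1 : IsFinite vh := V.prop.1
    have hV2 : Etale vh := V.prop.2
    obtain ⟨j, Vj, vj, g, h1, h2, sq⟩ := Groth.Agent.Lead.LimFEt.exists_fet_model hc vh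
    refine ⟨j, MorphismProperty.Over.mk ⊤ vj ⟨h1, h2⟩, ⟨?_⟩⟩
    refine MorphismProperty.Over.isoMk sq.isoPullback.symm ?_
    exact sq.isoPullback_inv_snd
  · intro i Vi Wi φ ψ h
    let vh : Vi.left ⟶ D.obj i := Vi.hom
    let wh : Wi.left ⟶ D.obj i := Wi.hom
    have hW1 : IsFinite wh := Wi.prop.1
    have hV1 : IsFinite vh := Vi.prop.1
    have : CompactSpace Vi.left := QuasiCompact.compactSpace_of_compactSpace vh
    have h1 : pullback.fst vh (c.π.app i) ≫ φ.left = pullback.fst vh (c.π.app i) ≫ ψ.left := by
      have key : ∀ χ : Vi ⟶ Wi, ((FEt.restrict (c.π.app i)).map χ).left ≫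
          pullback.fst wh (c.π.app i) = pullback.fst vh (c.π.app i) ≫ χ.left := by
        intro χ
        exact pullback.lift_fst _ _ _
      rw [← key φ, ← key ψ, h]
    obtain ⟨j, t, hj⟩ := Groth.Agent.Lead.LimFaithful.hom_eq_eventually' D c hc i vh wh
      φ.left ψ.left (Over.w φ.hom) (Over.w ψ.hom) h1
    refine ⟨j, t, ?_⟩
    have key1 : ∀ χ : Vi ⟶ Wi, ((FEt.restrict (D.map t)).map χ).left ≫
        pullback.fst wh (D.map t) = pullback.fst vh (D.map t) ≫ χ.left := by
      intro χ
      exact pullback.lift_fst _ _ _
    have key2 : ∀ χ : Vi ⟶ Wi, ((FEt.restrict (D.map t)).map χ).left ≫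
        pullback.snd wh (D.map t) = pullback.snd vh (D.map t) := by
      intro χ
      exact pullback.lift_snd _ _ _
    apply MorphismProperty.Over.Hom.ext
    apply pullback.hom_ext (f := wh) (g := D.map t)
    · exact (key1 φ).trans (hj.trans (key1 ψ).symm)
    · exact (key2 φ).trans (key2 ψ).symm

end Groth.Agent.S12073
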