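import Groth.Statements.S12078
import Mathlib.Tactic

set_option autoImplicit false
universe u
open CAlg

namespace Groth.Agent.S12078

/-- An elementary divisor domain is Bézout. Here `R` is a domain such that for all `n, m ≥ 1` and every
`n × m` matrix `A` there are invertible matrices `U` (`n × n`) and `V` (`m × m`) with `U * A * V`
zero off the diagonal and with diagonal entries `f 0 ∣ f 1 ∣ f 2 ∣ …`; the conclusion is that every
finitely generated ideal of `R` is principal. -/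
theorem result (R : Type u) [CommRing R] [IsDomain R]
    (hR : ∀ n m : ℕ, 1 ≤ n → 1 ≤ m → ∀ A : Matrix (Fin n) (Fin m) R,
      ∃ (U : (Matrix (Fin n) (Fin n) R)ˣ) (V : (Matrix (Fin m) (Fin m) R)ˣ) (f : ℕ → R),
        (∀ k : ℕ, f k ∣ f (k + 1)) ∧
        ∀ (i : Fin n) (j : Fin m), ((U : Matrix (Fin n) (Fin n) R) * A * (V : Matrix (Fin m) (Fin m) R)) i j =
          if (i : ℕ) = (j : ℕ) then f i else 0) :
    IsBezout R := by
  rw [IsBezout.iff_span_pair_isPrincipal]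
  intro x y
  let A : Matrix (Fin 1) (Fin 2) R := !![x, y]
  obtain ⟨U, V, f, -, hdiag⟩ := hR 1 2 le_rfl (by norm_num) A
  set D : Matrix (Fin 1) (Fin 2) R := (U : Matrix (Fin 1) (Fin 1) R) * A * (V : Matrix (Fin 2) (Fin 2) R) with hD
  have h00 : D 0 0 = f 0 := by
    have := hdiag 0 0
    simpa using this
  have h01 : D 0 1 = 0 := by
    have := hdiag 0 1
    simpa using this
  have hA : A = ((U⁻¹ : (Matrix (Fin 1) (Fin 1) R)ˣ) : Matrix (Fin 1) (Fin 1) R) * D *
      ((V⁻¹ : (Matrix (Fin 2) (Fin 2) R)ˣ) : Matrix (Fin 2) (Fin 2) R) := by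
    rw [hD, Matrix.mul_assoc, Matrix.mul_assoc, Units.mul_inv, Matrix.mul_one, ← Matrix.mul_assoc,
      Units.inv_mul, Matrix.one_mul]
  have hx : x = ((U⁻¹ : (Matrix (Fin 1) (Fin 1) R)ˣ) : Matrix (Fin 1) (Fin 1) R) 0 0 * f 0 *
      ((V⁻¹ : (Matrix (Fin 2) (Fin 2) R)ˣ) : Matrix (Fin 2) (Fin 2) R) 0 0 := by
    have : A 0 0 = x := rfl
    rw [← this, hA]
    simp only [Matrix.mul_apply, Fin.sum_univ_two, Finset.univ_unique, Fin.default_eq_zero, Finset.sum_singleton,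
      h00, h01, mul_zero, zero_mul, add_zero]
  have hy : y = ((U⁻¹ : (Matrix (Fin 1) (Fin 1) R)ˣ) : Matrix (Fin 1) (Fin 1) R) 0 0 * f 0 *
      ((V⁻¹ : (Matrix (Fin 2) (Fin 2) R)ˣ) : Matrix (Fin 2) (Fin 2) R) 0 1 := by
    have : A 0 1 = y := rfl
    rw [← this, hA]
    simp only [Matrix.mul_apply, Fin.sum_univ_two, Finset.univ_unique, Fin.default_eq_zero, Finset.sum_singleton,
      h00, h01, mul_zero, zero_mul, add_zero]
  have hf : f 0 = (U : Matrix (Fin 1) (Fin 1) R) 0 0 * x * (V : Matrix (Fin 2) (Fin 2) R) 0 0 +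
      (U : Matrix (Fin 1) (Fin 1) R) 0 0 * y * (V : Matrix (Fin 2) (Fin 2) R) 1 0 := by
    rw [← h00, hD]
    simp only [Matrix.mul_apply, Fin.sum_univ_two, Finset.univ_unique, Fin.default_eq_zero, Finset.sum_singleton]
    rfl
  refine ⟨⟨f 0, ?_⟩⟩
  apply le_antisymm
  · rw [Ideal.span_le]
    intro z hz
    rcases hz with hz | hz
    · change z ∈ Ideal.span {f 0}
      rw [Ideal.mem_span_singleton', hz]
      refine ⟨((U⁻¹ : (Matrix (Fin 1) (Fin 1) R)ˣ) : Matrix (Fin 1) (Fin 1) R) 0 0 *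
        ((V⁻¹ : (Matrix (Fin 2) (Fin 2) R)ˣ) : Matrix (Fin 2) (Fin 2) R) 0 0, ?_⟩
      conv_rhs => rw [hx]
      ring
    · rw [Set.mem_singleton_iff] at hz
      change z ∈ Ideal.span {f 0}
      rw [Ideal.mem_span_singleton', hz]
      refine ⟨((U⁻¹ : (Matrix (Fin 1) (Fin 1) R)ˣ) : Matrix (Fin 1) (Fin 1) R) 0 0 *
        ((V⁻¹ : (Matrix (Fin 2) (Fin 2) R)ˣ) : Matrix (Fin 2) (Fin 2) R) 0 1, ?_⟩
      conv_rhs => rw [hy]
      ring
  · change Ideal.span {f 0} ≤ _
    rw [Ideal.span_le]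
    intro z hz
    rw [Set.mem_singleton_iff] at hz
    subst hz
    rw [hf]
    apply Ideal.add_mem
    · have : x ∈ Ideal.span ({x, y} : Set R) := Ideal.subset_span (Set.mem_insert _ _)
      have := Ideal.mul_mem_left _ ((U : Matrix (Fin 1) (Fin 1) R) 0 0) this
      exact Ideal.mul_mem_right _ _ this
    · have : y ∈ Ideal.span ({x, y} : Set R) := Ideal.subset_span (Set.mem_insert_of_mem _ rfl)
      have := Ideal.mul_mem_left _ ((U : Matrix (Fin 1) (Fin 1) R) 0 0) this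
      exact Ideal.mul_mem_right _ _ this

end Groth.Agent.S12078
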