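import Groth.Statements.S12079
import Mathlib

set_option autoImplicit false
universe u
open TensorProduct
open CAlg

namespace Groth.Agent.S12079

/-- For a finitely presented `R`-module `M`, any `R`-module `N` and a flat `R`-module `L`, the canonical
map `Hom_R(M, N) ⊗_R L → Hom_R(M, N ⊗_R L)` sending `f ⊗ l` to `m ↦ f m ⊗ l` is bijective. -/
theorem result (R : Type u) [CommRing R]
    (M N L : Type u) [AddCommGroup M] [Module R M] [AddCommGroup N] [Module R N] [AddCommGroup L] [Module R L]
    [Module.FinitePresentation R M] [Module.Flat R L] :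
    Function.Bijective (TensorProduct.rTensorHomToHomRTensor (RingHom.id R) M N L) := by
  classical
  obtain ⟨n, m, f, g, hf, hfg⟩ := Module.FinitePresentation.exists_fin' R M
  -- the natural map for a general source
  let Φ : ∀ (P : Type u) [AddCommGroup P] [Module R P],
      TensorProduct R (P →ₗ[R] N) L →ₗ[R] (P →ₗ[R] TensorProduct R N L) :=
    fun P _ _ => TensorProduct.rTensorHomToHomRTensor (RingHom.id R) P N L
  have hΦ : ∀ (P : Type u) [AddCommGroup P] [Module R P] (φ : P →ₗ[R] N) (l : L) (x : P),
      Φ P (φ ⊗ₜ[R] l) x = φ x ⊗ₜ[R] l := fun P _ _ φ l x =>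
    TensorProduct.rTensorHomToHomRTensor_apply φ l x
  let a : (M →ₗ[R] N) →ₗ[R] ((Fin n → R) →ₗ[R] N) := LinearMap.lcomp R N f
  let b : ((Fin n → R) →ₗ[R] N) →ₗ[R] ((Fin m → R) →ₗ[R] N) := LinearMap.lcomp R N g
  let a' : (M →ₗ[R] TensorProduct R N L) →ₗ[R] ((Fin n → R) →ₗ[R] TensorProduct R N L) :=
    LinearMap.lcomp R _ f
  let b' : ((Fin n → R) →ₗ[R] TensorProduct R N L) →ₗ[R] ((Fin m → R) →ₗ[R] TensorProduct R N L) :=
    LinearMap.lcomp R _ g
  have ha : Function.Injective a := LinearMap.lcomp_injective_of_surjective f hf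
  have ha' : Function.Injective a' := LinearMap.lcomp_injective_of_surjective f hf
  have hab : Function.Exact a b := LinearMap.exact_lcomp_of_exact_of_surjective N hfg hf
  have hab' : Function.Exact a' b' := LinearMap.exact_lcomp_of_exact_of_surjective _ hfg hf
  have haL : Function.Injective (a.rTensor L) :=
    Module.Flat.rTensor_preserves_injective_linearMap a ha
  have habL : Function.Exact (a.rTensor L) (b.rTensor L) := Module.Flat.rTensor_exact L hab
  -- naturality
  have nat1 : ∀ x, Φ (Fin n → R) (a.rTensor L x) = a' (Φ M x) := by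
    intro x
    induction x using TensorProduct.induction_on with
    | zero => simp
    | add x y hx hy => simp only [map_add, hx, hy]
    | tmul φ l =>
      ext i
      simp only [LinearMap.rTensor_tmul, a, a', LinearMap.lcomp_apply', LinearMap.comp_apply, hΦ]
  have nat2 : ∀ x, Φ (Fin m → R) (b.rTensor L x) = b' (Φ (Fin n → R) x) := by
    intro x
    induction x using TensorProduct.induction_on with
    | zero => simp
    | add x y hx hy => simp only [map_add, hx, hy]
    | tmul φ l =>
      ext i
      simp only [LinearMap.rTensor_tmul, b, b', LinearMap.lcomp_apply', LinearMap.comp_apply, hΦ]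
  -- free case
  have hfree : ∀ k : ℕ, Function.Bijective (Φ (Fin k → R)) := by
    intro k
    have := (rTensorHomEquivHomRTensor R (Fin k → R) N L).bijective
    have h2 : ⇑(rTensorHomEquivHomRTensor R (Fin k → R) N L) = ⇑(Φ (Fin k → R)) := by
      funext x
      exact rTensorHomEquivHomRTensor_apply x
    rwa [h2] at this
  constructor
  · -- injective
    rw [injective_iff_map_eq_zero]
    intro x hx
    have h1 : Φ (Fin n → R) (a.rTensor L x) = 0 := by
      rw [nat1]
      show a' (TensorProduct.rTensorHomToHomRTensor (RingHom.id R) M N L x) = 0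
      rw [hx, map_zero]
    have h2 : a.rTensor L x = 0 := (injective_iff_map_eq_zero _).1 (hfree n).1 _ h1
    exact (injective_iff_map_eq_zero _).1 haL _ h2
  · -- surjective
    intro y
    obtain ⟨z, hz⟩ := (hfree n).2 (a' y)
    have h1 : Φ (Fin m → R) (b.rTensor L z) = 0 := by
      rw [nat2, hz]
      exact (hab' (a' y)).2 ⟨y, rfl⟩
    have h2 : b.rTensor L z = 0 := (injective_iff_map_eq_zero _).1 (hfree m).1 _ h1
    obtain ⟨x, hx⟩ := (habL z).1 h2
    refine ⟨x, ?_⟩
    apply ha'
    show a' (Φ M x) = a' y
    rw [← nat1, hx, hz]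

end Groth.Agent.S12079
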