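import Groth.Statements.S12093
import Groth.Agent.Helper6.LTenCxHD
import Groth.Agent.Helper6.SingleTen
import Groth.Agent.Helper6.TruncKFlat
import Groth.Agent.Helper6.TenFin

set_option autoImplicit false
universe u
open CategoryTheory CategoryTheory.Limits MonoidalCategory
attribute [local instance] HasDerivedCategory.standard
open DRing

namespace Groth.Agent.S12093

/-- Let `K•` be a complex of `R`-modules (for which `− ⊗^L_R K•` is assumed to exist) and `a` an
integer. Then `K•` has tor amplitude in `[a, ∞)`, i.e. `H^i(M ⊗^L_R K•) = 0` for every `R`-module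
`M` and every `i < a`, if and only if `K•` is quasi-isomorphic to a K-flat complex `E•` (tensoring
with `E•` preserves acyclic complexes) with flat terms and `E^i = 0` for `i < a`. -/
theorem result (R : Type u) [CommRing R] (a : ℤ) (K : DRing.Cx R)
    [DRing.HasLTensorCx R K] :
    (∀ (M : ModuleCat.{u} R) (i : ℤ), i < a →
        Subsingleton (Dual.HD R ((DRing.LTensorCx R K).obj
          (DRing.toD ((CochainComplex.singleFunctor (ModuleCat.{u} R) 0).obj M))) i)) ↔
      ∃ E : DRing.Cx R, (∀ L : DRing.Cx R, (∀ i : ℤ, IsZero (L.homology i)) → ∀ i : ℤ, IsZero ((L ⊗ E).homology i)) ∧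
        DRing.TermwiseFlat E ∧ (∀ i : ℤ, i < a → IsZero (E.X i)) ∧ Nonempty (DRing.toD E ≅ DRing.toD K) := by
  obtain ⟨P, πK, hP1, hP2, pP, hπK, -⟩ := Groth.Agent.Helper6.KProjRes.exists_resolution K
  haveI := hP1
  haveI hisoK : IsIso (DerivedCategory.Q.map πK) :=
    (DerivedCategory.isIso_Q_map_iff_quasiIso (ModuleCat.{u} R) _).mpr hπK
  have fP : DRing.TermwiseFlat P := fun i => by
    have := pP i
    infer_instance
  have key : ∀ (M : ModuleCat.{u} R) (i : ℤ),
      Subsingleton (Dual.HD R ((DRing.LTensorCx R K).obj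
        (DRing.toD ((CochainComplex.singleFunctor (ModuleCat.{u} R) 0).obj M))) i) ↔
      (Groth.Agent.Helper6.SingleTen.sN M ⊗ P).ExactAt i := fun M i =>
    Groth.Agent.Helper6.LTenCxCompute.subsingleton_HD_iff K πK hπK hP2
      (Groth.Agent.Helper6.SingleTen.sN M) i
  constructor
  · intro h
    have hex : ∀ (N : ModuleCat.{u} R) (i : ℤ), i < a → (DRing.tensorCx P N).ExactAt i :=
      fun N i hi => Groth.Agent.Helper6.SingleTen.exactAt_tensorCx_of_exactAt N P i
        ((key N i).mp (h N i hi))
    haveI := Groth.Agent.Helper6.TruncKFlat.quasiIso_π P a hex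
    haveI : IsIso (DerivedCategory.Q.map (Groth.Agent.Helper6.TruncKFlat.π P a)) :=
      (DerivedCategory.isIso_Q_map_iff_quasiIso (ModuleCat.{u} R) _).mpr inferInstance
    refine ⟨Groth.Agent.Helper6.TruncKFlat.E P a,
      Groth.Agent.Helper6.TruncKFlat.kflat_E P a fP hex hP2,
      fun i => Groth.Agent.Helper6.TruncKFlat.flat_E_X P a fP hex i,
      fun i hi => Groth.Agent.Helper6.TruncKFlat.isZero_E_X P a i hi, ⟨?_⟩⟩
    exact (asIso (DerivedCategory.Q.map (Groth.Agent.Helper6.TruncKFlat.π P a))).symm ≪≫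
      asIso (DerivedCategory.Q.map πK)
  · rintro ⟨E, hE, fE, zE, ⟨eE⟩⟩ M i hi
    rw [key M i]
    -- a quasi-isomorphism `P → E`
    obtain ⟨g, hg⟩ := Groth.Agent.Helper6.KProjQ.Q_map_surjective P E
      (DerivedCategory.Q.map πK ≫ eE.inv)
    have hqg : QuasiIso g := by
      rw [← DerivedCategory.isIso_Q_map_iff_quasiIso, hg]
      infer_instance
    have hq2 : QuasiIso (Groth.Agent.Helper6.SingleTen.sN M ◁ g) :=
      Groth.Agent.Helper6.TenCx.quasiIso_whiskerLeft_of_kflat g hP2 hE hqg _
    have hz : IsZero ((Groth.Agent.Helper6.SingleTen.sN M ⊗ E).X i) := by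
      apply Groth.Agent.Helper6.TenFin.isZero_X
      intro p q hpq
      by_cases hp : p = 0
      · subst hp
        exact Or.inr (zE q (by omega))
      · exact Or.inl (HomologicalComplex.isZero_single_obj_X (ComplexShape.up ℤ) 0 M p hp)
    have hex2 : (Groth.Agent.Helper6.SingleTen.sN M ⊗ E).ExactAt i :=
      Groth.Agent.Helper3.DRingLib.exactAt_of_isZero_X _ i hz
    rw [HomologicalComplex.exactAt_iff_isZero_homology] at hex2 ⊢
    haveI := hq2
    exact hex2.of_iso (asIso (HomologicalComplex.homologyMap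
      (Groth.Agent.Helper6.SingleTen.sN M ◁ g) i))

end Groth.Agent.S12093
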