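import Groth.Statements.S12096
import Mathlib

set_option autoImplicit false
universe u
open BlowUp

namespace Groth.Agent.S12096

theorem main (A : Type u) [CommRing A] (I : Ideal A) (π a : A)
    (ψ : BlowUp.affineAlgebra A I π →+*
      BlowUp.affineAlgebra (Localization.Away a) (I.map (algebraMap A (Localization.Away a))) (algebraMap A (Localization.Away a) π))
    (hψ : ∀ x : BlowUp.affineAlgebra A I π,
      ((ψ x : BlowUp.affineAlgebra (Localization.Away a) (I.map (algebraMap A (Localization.Away a))) (algebraMap A (Localization.Away a) π)) :
          Localization.Away (algebraMap A (Localization.Away a) π)) =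
        Localization.awayMap (algebraMap A (Localization.Away a)) π (x : Localization.Away π)) :
    letI := ψ.toAlgebra
    IsLocalization.Away (algebraMap A (BlowUp.affineAlgebra A I π) a)
      (BlowUp.affineAlgebra (Localization.Away a) (I.map (algebraMap A (Localization.Away a))) (algebraMap A (Localization.Away a) π)) := by
  letI := ψ.toAlgebra
  have hψalg : ∀ b : A, ((ψ (algebraMap A (BlowUp.affineAlgebra A I π) b) :
      BlowUp.affineAlgebra (Localization.Away a) (I.map (algebraMap A (Localization.Away a)))
        (algebraMap A (Localization.Away a) π)) :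
        Localization.Away (algebraMap A (Localization.Away a) π)) =
      algebraMap (Localization.Away a) (Localization.Away (algebraMap A (Localization.Away a) π))
        (algebraMap A (Localization.Away a) b) := by
    intro b
    rw [hψ]
    exact IsLocalization.map_eq _ b
  have hψalg' : ∀ b : A, ψ (algebraMap A (BlowUp.affineAlgebra A I π) b) =
      algebraMap (Localization.Away a) (BlowUp.affineAlgebra (Localization.Away a)
        (I.map (algebraMap A (Localization.Away a))) (algebraMap A (Localization.Away a) π))
        (algebraMap A (Localization.Away a) b) := fun b => Subtype.ext (hψalg b)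
  show IsLocalization (Submonoid.powers (algebraMap A (BlowUp.affineAlgebra A I π) a)) _
  rw [isLocalization_iff]
  refine ⟨?_, ?_, ?_⟩
  · rintro ⟨_, n, rfl⟩
    show IsUnit (ψ (algebraMap A (BlowUp.affineAlgebra A I π) a ^ n))
    rw [map_pow, hψalg']
    exact ((IsLocalization.Away.algebraMap_isUnit a).map _).pow n
  · -- surjectivity
    have key : ∀ z ∈ Algebra.adjoin (Localization.Away a)
        {q : Localization.Away (algebraMap A (Localization.Away a) π) |
        ∃ x ∈ I.map (algebraMap A (Localization.Away a)),
          q = IsLocalization.mk' (Localization.Away (algebraMap A (Localization.Away a) π)) x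
          ⟨algebraMap A (Localization.Away a) π, Submonoid.mem_powers _⟩},
        ∃ (x : BlowUp.affineAlgebra A I π) (n : ℕ),
          z * (algebraMap (Localization.Away a)
            (Localization.Away (algebraMap A (Localization.Away a) π))
            (algebraMap A (Localization.Away a) a)) ^ n =
          ((ψ x : BlowUp.affineAlgebra (Localization.Away a)
            (I.map (algebraMap A (Localization.Away a))) (algebraMap A (Localization.Away a) π)) :
            Localization.Away (algebraMap A (Localization.Away a) π)) := by
      intro z hz
      induction hz using Algebra.adjoin_induction with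
      | mem q hq' =>
        obtain ⟨xbar, hxbar, rfl⟩ := hq'
        obtain ⟨⟨y, ⟨_, n, rfl⟩⟩, hy⟩ :=
          (IsLocalization.mem_map_algebraMap_iff (Submonoid.powers a) (Localization.Away a)).mp hxbar
        refine ⟨⟨IsLocalization.mk' (Localization.Away π) (y : A) ⟨π, Submonoid.mem_powers _⟩,
          Algebra.subset_adjoin ⟨y, y.2, rfl⟩⟩, n, ?_⟩
        rw [hψ]
        have h1 : Localization.awayMap (algebraMap A (Localization.Away a)) π
            (IsLocalization.mk' (Localization.Away π) (y : A) ⟨π, Submonoid.mem_powers _⟩) =
            IsLocalization.mk' (Localization.Away (algebraMap A (Localization.Away a) π))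
              (algebraMap A (Localization.Away a) (y : A))
              ⟨algebraMap A (Localization.Away a) π, Submonoid.mem_powers _⟩ :=
          IsLocalization.map_mk' _ (y : A) ⟨π, Submonoid.mem_powers _⟩
        have hy' : xbar * algebraMap A (Localization.Away a) (a ^ n) =
            algebraMap A (Localization.Away a) (y : A) := hy
        rw [h1, ← hy', mul_comm xbar, ← IsLocalization.mul_mk'_eq_mk'_of_mul, map_pow, map_pow]
        ring
      | algebraMap r =>
        obtain ⟨⟨b, ⟨_, n, rfl⟩⟩, hb⟩ := IsLocalization.surj (Submonoid.powers a) r
        refine ⟨algebraMap A _ b, n, ?_⟩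
        have hb' : r * algebraMap A (Localization.Away a) (a ^ n) =
            algebraMap A (Localization.Away a) b := hb
        rw [hψalg, ← hb', map_mul, map_pow, map_pow]
      | add z1 z2 _ _ h1 h2 =>
        obtain ⟨x1, n1, e1⟩ := h1
        obtain ⟨x2, n2, e2⟩ := h2
        refine ⟨x1 * algebraMap A _ a ^ n2 + x2 * algebraMap A _ a ^ n1, n1 + n2, ?_⟩
        rw [map_add, map_mul, map_mul, map_pow, map_pow]
        show _ = (ψ x1 : Localization.Away (algebraMap A (Localization.Away a) π)) *
          (ψ (algebraMap A _ a) : Localization.Away (algebraMap A (Localization.Away a) π)) ^ n2 +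
          (ψ x2 : Localization.Away (algebraMap A (Localization.Away a) π)) *
          (ψ (algebraMap A _ a) : Localization.Away (algebraMap A (Localization.Away a) π)) ^ n1
        rw [hψalg, ← e1, ← e2]
        ring
      | mul z1 z2 _ _ h1 h2 =>
        obtain ⟨x1, n1, e1⟩ := h1
        obtain ⟨x2, n2, e2⟩ := h2
        refine ⟨x1 * x2, n1 + n2, ?_⟩
        rw [map_mul]
        show _ = (ψ x1 : Localization.Away (algebraMap A (Localization.Away a) π)) *
          (ψ x2 : Localization.Away (algebraMap A (Localization.Away a) π))
        rw [← e1, ← e2]
        ring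
    intro z
    obtain ⟨x, n, hx⟩ := key z.1 z.2
    refine ⟨(x, ⟨algebraMap A _ a ^ n, n, rfl⟩), ?_⟩
    show z * ψ (algebraMap A _ a ^ n) = ψ x
    apply Subtype.ext
    rw [map_pow, hψalg']
    exact hx
  · intro x y hxy
    have hxy' : ψ x = ψ y := hxy
    have h0 : Localization.awayMap (algebraMap A (Localization.Away a)) π
        ((x : Localization.Away π) - (y : Localization.Away π)) = 0 := by
      rw [map_sub, ← hψ, ← hψ, hxy', sub_self]
    obtain ⟨b, ⟨_, m, rfl⟩, hd⟩ := IsLocalization.exists_mk'_eq (Submonoid.powers π)
      ((x : Localization.Away π) - (y : Localization.Away π))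
    rw [← hd] at h0
    have h2 : IsLocalization.mk' (Localization.Away (algebraMap A (Localization.Away a) π))
        (algebraMap A (Localization.Away a) b)
        (⟨algebraMap A (Localization.Away a) (π ^ m), ⟨m, by rw [map_pow]⟩⟩ :
          Submonoid.powers (algebraMap A (Localization.Away a) π)) = 0 := by
      rw [← h0]
      exact (IsLocalization.map_mk' _ b (⟨π ^ m, ⟨m, rfl⟩⟩ : Submonoid.powers π)).symm
    rw [IsLocalization.mk'_eq_zero_iff] at h2
    obtain ⟨⟨_, k, rfl⟩, hk⟩ := h2
    have h3 : algebraMap A (Localization.Away a) (π ^ k * b) = 0 := by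
      rw [map_mul, map_pow]
      exact hk
    rw [IsLocalization.map_eq_zero_iff (Submonoid.powers a)] at h3
    obtain ⟨⟨_, j, rfl⟩, hj⟩ := h3
    refine ⟨⟨algebraMap A _ a ^ j, j, rfl⟩, ?_⟩
    show algebraMap A (BlowUp.affineAlgebra A I π) a ^ j * x =
      algebraMap A (BlowUp.affineAlgebra A I π) a ^ j * y
    apply Subtype.ext
    show algebraMap A (Localization.Away π) a ^ j * (x : Localization.Away π) =
      algebraMap A (Localization.Away π) a ^ j * (y : Localization.Away π)
    rw [← sub_eq_zero, ← mul_sub, ← hd, ← map_pow, IsLocalization.mul_mk'_eq_mk'_of_mul,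
      IsLocalization.mk'_eq_zero_iff]
    refine ⟨⟨π ^ k, k, rfl⟩, ?_⟩
    show π ^ k * (a ^ j * b) = 0
    have hj' : a ^ j * (π ^ k * b) = 0 := hj
    rw [← hj']
    ring

/-- Néron's blowup is compatible with localization. For a ring `A`, an ideal `I`, elements `π, a ∈ A`,
`A' = A[I/π] ⊆ A_π` the affine blowup algebra and `(A_a)' = A_a[I A_a/π]` that of the localization,
the canonical map `A' → (A_a)'` (the restriction of `A_π → (A_a)_π`, given here as a datum with that
compatibility) identifies `(A_a)'` with the localization `A'_a`. In Néron's situation (`I` the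
inverse image of the maximal ideal of `Λ`, `π` a uniformizer, `a ∉ I`) this reads: the Néron blowup
of `A_a` is `A'_a`; the identity holds for arbitrary `A, I, π, a`. -/
theorem result (A : Type u) [CommRing A] (I : Ideal A) (π a : A) (hπ : π ∈ I)
    (ψ : BlowUp.affineAlgebra A I π →+*
      BlowUp.affineAlgebra (Localization.Away a) (I.map (algebraMap A (Localization.Away a))) (algebraMap A (Localization.Away a) π))
    (hψ : ∀ x : BlowUp.affineAlgebra A I π,
      ((ψ x : BlowUp.affineAlgebra (Localization.Away a) (I.map (algebraMap A (Localization.Away a))) (algebraMap A (Localization.Away a) π)) :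
          Localization.Away (algebraMap A (Localization.Away a) π)) =
        Localization.awayMap (algebraMap A (Localization.Away a)) π (x : Localization.Away π)) :
    letI := ψ.toAlgebra
    IsLocalization.Away (algebraMap A (BlowUp.affineAlgebra A I π) a)
      (BlowUp.affineAlgebra (Localization.Away a) (I.map (algebraMap A (Localization.Away a))) (algebraMap A (Localization.Away a) π)) := by
  exact main A I π a ψ hψ

end Groth.Agent.S12096
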