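import Groth.Statements.S12097
import Mathlib

set_option autoImplicit false
universe u
open BlowUp

namespace Groth.Agent.S12097

theorem main (B A : Type u) [CommRing B] [CommRing A] [Algebra B A]
    (hq : Function.Surjective (algebraMap B A)) (I : Ideal B) (π : B) (hπ : π ∈ I)
    (ψ : BlowUp.affineAlgebra B I π →+* BlowUp.affineAlgebra A (I.map (algebraMap B A)) (algebraMap B A π))
    (hψ : ∀ x : BlowUp.affineAlgebra B I π,
      ((ψ x : BlowUp.affineAlgebra A (I.map (algebraMap B A)) (algebraMap B A π)) : Localization.Away (algebraMap B A π)) =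
        Localization.awayMap (algebraMap B A) π (x : Localization.Away π)) :
    Function.Surjective ψ ∧
      ∀ x : BlowUp.affineAlgebra B I π, x ∈ RingHom.ker ψ ↔
        ∃ n : ℕ, algebraMap B (BlowUp.affineAlgebra B I π) π ^ n * x ∈
          (RingHom.ker (algebraMap B A)).map (algebraMap B (BlowUp.affineAlgebra B I π)) := by
  have hΦalg : ∀ b : B, Localization.awayMap (algebraMap B A) π (algebraMap B (Localization.Away π) b) =
      algebraMap A (Localization.Away (algebraMap B A π)) (algebraMap B A b) := by
    intro b
    exact IsLocalization.map_eq _ b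
  have hψalg : ∀ b : B, ((ψ (algebraMap B (BlowUp.affineAlgebra B I π) b) :
      BlowUp.affineAlgebra A (I.map (algebraMap B A)) (algebraMap B A π)) :
        Localization.Away (algebraMap B A π)) =
      algebraMap A (Localization.Away (algebraMap B A π)) (algebraMap B A b) := by
    intro b
    rw [hψ]
    exact hΦalg b
  constructor
  · -- surjectivity
    have key : ∀ z ∈ Algebra.adjoin A {q : Localization.Away (algebraMap B A π) |
        ∃ x ∈ I.map (algebraMap B A), q = IsLocalization.mk' (Localization.Away (algebraMap B A π)) x
          ⟨algebraMap B A π, Submonoid.mem_powers _⟩},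
        ∃ x : BlowUp.affineAlgebra B I π, ((ψ x : BlowUp.affineAlgebra A (I.map (algebraMap B A))
          (algebraMap B A π)) : Localization.Away (algebraMap B A π)) = z := by
      intro z hz
      induction hz using Algebra.adjoin_induction with
      | mem q hq' =>
        obtain ⟨xbar, hxbar, rfl⟩ := hq'
        obtain ⟨x, hx, rfl⟩ := (Ideal.mem_map_iff_of_surjective _ hq).mp hxbar
        refine ⟨⟨IsLocalization.mk' (Localization.Away π) x ⟨π, Submonoid.mem_powers _⟩,
          Algebra.subset_adjoin ⟨x, hx, rfl⟩⟩, ?_⟩
        rw [hψ]
        exact IsLocalization.map_mk' _ x ⟨π, Submonoid.mem_powers _⟩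
      | algebraMap a =>
        obtain ⟨b, rfl⟩ := hq a
        exact ⟨algebraMap B _ b, hψalg b⟩
      | add z1 z2 _ _ h1 h2 =>
        obtain ⟨x1, rfl⟩ := h1
        obtain ⟨x2, rfl⟩ := h2
        exact ⟨x1 + x2, by rw [map_add]; rfl⟩
      | mul z1 z2 _ _ h1 h2 =>
        obtain ⟨x1, rfl⟩ := h1
        obtain ⟨x2, rfl⟩ := h2
        exact ⟨x1 * x2, by rw [map_mul]; rfl⟩
    intro y
    obtain ⟨x, hx⟩ := key y.1 y.2
    exact ⟨x, Subtype.ext hx⟩
  · intro x
    rw [RingHom.mem_ker]
    constructor
    · intro h0
      have h1 : Localization.awayMap (algebraMap B A) π (x : Localization.Away π) = 0 := by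
        rw [← hψ, h0]
        rfl
      obtain ⟨b, ⟨_, m, rfl⟩, hx⟩ := IsLocalization.exists_mk'_eq (Submonoid.powers π)
        (x : Localization.Away π)
      rw [← hx] at h1
      have h2 : IsLocalization.mk' (Localization.Away (algebraMap B A π)) (algebraMap B A b)
          (⟨algebraMap B A (π ^ m), ⟨m, by rw [map_pow]⟩⟩ : Submonoid.powers (algebraMap B A π)) = 0 := by
        rw [← h1]
        exact (IsLocalization.map_mk' _ b (⟨π ^ m, ⟨m, rfl⟩⟩ : Submonoid.powers π)).symm
      rw [IsLocalization.mk'_eq_zero_iff] at h2
      obtain ⟨⟨_, k, rfl⟩, hk⟩ := h2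
      have hker : π ^ k * b ∈ RingHom.ker (algebraMap B A) := by
        rw [RingHom.mem_ker, map_mul, map_pow]
        exact hk
      refine ⟨k + m, ?_⟩
      have heq : algebraMap B (BlowUp.affineAlgebra B I π) π ^ (k + m) * x =
          algebraMap B (BlowUp.affineAlgebra B I π) (π ^ k * b) := by
        apply Subtype.ext
        show algebraMap B (Localization.Away π) π ^ (k + m) * (x : Localization.Away π) =
          algebraMap B (Localization.Away π) (π ^ k * b)
        rw [← hx, map_mul, map_pow, pow_add, mul_assoc]
        congr 1
        rw [mul_comm, ← map_pow]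
        exact IsLocalization.mk'_spec _ b (⟨π ^ m, ⟨m, rfl⟩⟩ : Submonoid.powers π)
      rw [heq]
      exact Ideal.mem_map_of_mem _ hker
    · rintro ⟨n, hn⟩
      have hle : (RingHom.ker (algebraMap B A)).map (algebraMap B (BlowUp.affineAlgebra B I π)) ≤
          RingHom.ker ψ := by
        rw [Ideal.map_le_iff_le_comap]
        intro k hk
        rw [Ideal.mem_comap, RingHom.mem_ker]
        apply Subtype.ext
        rw [hψalg, (RingHom.mem_ker).mp hk, map_zero]
        rfl
      have h1 := hle hn
      rw [RingHom.mem_ker, map_mul, map_pow] at h1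
      have h2 := congrArg (Subtype.val) h1
      have h3 : (algebraMap A (Localization.Away (algebraMap B A π)) (algebraMap B A π)) ^ n *
          ((ψ x : BlowUp.affineAlgebra A (I.map (algebraMap B A)) (algebraMap B A π)) :
            Localization.Away (algebraMap B A π)) = 0 := by
        rw [← hψalg π]
        exact h2
      have hunit : IsUnit ((algebraMap A (Localization.Away (algebraMap B A π))
          (algebraMap B A π)) ^ n) :=
        (IsLocalization.Away.algebraMap_isUnit (algebraMap B A π)).pow n
      apply Subtype.ext
      exact (hunit.mul_right_eq_zero).mp h3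

/-- Néron's blowup is compatible with closed immersions. For a surjective ring map `B → A` with kernel
`J`, an ideal `I ⊆ B` containing `π`, and the affine blowup algebras `B' = B[I/π] ⊆ B_π`, `A' =
A[IA/π] ⊆ A_π`, the canonical map `B' → A'` (the restriction of `B_π → A_π`, given as a datum with
that compatibility) is surjective with kernel the elements `x` such that `π^n x ∈ J B'` for some
`n`: `A'` is the quotient of `B'/JB'` by its `π`-power torsion. In Néron's situation (`I` the
inverse image of the maximal ideal of `Λ`, `π` a uniformizer) this is the printed functoriality; the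
identity holds for any surjection. -/
theorem result (B A : Type u) [CommRing B] [CommRing A] [Algebra B A]
    (hq : Function.Surjective (algebraMap B A)) (I : Ideal B) (π : B) (hπ : π ∈ I)
    (ψ : BlowUp.affineAlgebra B I π →+* BlowUp.affineAlgebra A (I.map (algebraMap B A)) (algebraMap B A π))
    (hψ : ∀ x : BlowUp.affineAlgebra B I π,
      ((ψ x : BlowUp.affineAlgebra A (I.map (algebraMap B A)) (algebraMap B A π)) : Localization.Away (algebraMap B A π)) =
        Localization.awayMap (algebraMap B A) π (x : Localization.Away π)) :
    Function.Surjective ψ ∧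
      ∀ x : BlowUp.affineAlgebra B I π, x ∈ RingHom.ker ψ ↔
        ∃ n : ℕ, algebraMap B (BlowUp.affineAlgebra B I π) π ^ n * x ∈
          (RingHom.ker (algebraMap B A)).map (algebraMap B (BlowUp.affineAlgebra B I π)) := by
  exact main B A hq I π hπ ψ hψ

end Groth.Agent.S12097
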