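import Groth.Statements.S12108
import Mathlib
import Groth.Agent.Helper3.DisjCov2

set_option autoImplicit false
open CategoryTheory CategoryTheory.Limits
universe u
open scoped TensorProduct
open SGA4

namespace Groth.Agent.S12108

/-- Let `(C, J)` be a small site, `X` an object and `s i : Y i ⟶ X` a family of morphisms indexed by a
small type. The following are equivalent: (i) the family is covering, for every `i` the diagonal of
presheaves `h_{Y i} ⟶ h_{Y i} ×_{h_X} h_{Y i}` becomes an isomorphism under the associated-sheaf
functor, and for all `i ≠ j` the sheaf associated to the presheaf `h_{Y i} ×_{h_X} h_{Y j}` is an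
initial object; (ii) the associated sheaf of `X`, with the maps induced by the `s i`, is a coproduct
of the associated sheaves of the `Y i` in sheaves of sets. -/
theorem result
    {C : Type u} [SmallCategory C] (J : GrothendieckTopology C) {X : C} {ι : Type u}
    (Y : ι → C) (s : ∀ i, Y i ⟶ X) :
    (Sieve.ofArrows Y s ∈ J X ∧
      (∀ i, IsIso ((presheafToSheaf J (Type u)).map (pullback.diagonal (yoneda.map (s i))))) ∧
      (∀ i j, i ≠ j → Nonempty (IsInitial ((presheafToSheaf J (Type u)).obj
        (pullback (yoneda.map (s i)) (yoneda.map (s j))))))) ↔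
    Nonempty (IsColimit (Cofan.mk ((presheafToSheaf J (Type u)).obj (yoneda.obj X))
      (fun i => (presheafToSheaf J (Type u)).map (yoneda.map (s i))))) := by
  constructor
  · rintro ⟨hcov, hdiag, hinit⟩
    refine Groth.Agent.Helper3.DisjCov.isColimit_of_key J Y s (fun G x => ?_)
    exact Groth.Agent.Helper3.DisjCov.key2 hcov (fun i => (J.W_iff _).2 (hdiag i)) hinit G x
  · rintro ⟨hc⟩
    have hW := Groth.Agent.Helper3.DisjCov.W_sigmaDesc J s hc
    refine ⟨Groth.Agent.Helper3.DisjCov.cov_of_W hW, fun i => ?_, fun i j hij => ?_⟩
    · exact (J.W_iff _).1 (Groth.Agent.Helper3.DisjCov.diag_W_of_W hW i)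
    · exact Groth.Agent.Helper3.DisjCov.isInitial_of_W hW hij

end Groth.Agent.S12108
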