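import Groth.Statements.S12122
import Mathlib
import Groth.Agent.S12123

set_option autoImplicit false
universe u
open EGA41

namespace Groth.Agent.S12122

open AlgebraicGeometry Topology in
theorem isCompact_preimage_affine (X : Scheme.{u}) [QuasiSeparatedSpace X] (V : X.Opens)
    (hVaff : IsAffineOpen V) :
    IsCompact ((WithTopology.ofTopology : WithConstructibleTopology X → X) ⁻¹' V) := by
  haveI : IsAffine (V : Scheme.{u}) := hVaff
  let f : WithConstructibleTopology (V : Scheme.{u}) → X := fun z => (z.ofTopology : V).1
  have hf : Continuous[_, constructibleTopology X] f := by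
    rw [continuous_generateFrom_iff]
    intro b hb
    have hqc : ∀ W : Set X, IsOpen W → IsCompact W →
        IsClopen ((WithTopology.ofTopology : WithConstructibleTopology (V : Scheme.{u}) → V) ⁻¹'
          ((Subtype.val : V → X) ⁻¹' W)) := by
      intro W hW hWc
      apply Groth.Agent.S12123.isClopen_of_compact_open (hW.preimage continuous_subtype_val)
      have h1 : IsCompact ((V : Set X) ∩ W) :=
        QuasiSeparatedSpace.inter_isCompact _ _ V.isOpen hVaff.isCompact hW hWc
      rw [Topology.IsInducing.subtypeVal.isCompact_iff]
      convert h1 using 1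
      ext z
      simp only [Set.mem_image, Set.mem_preimage, Subtype.exists, exists_and_right, exists_eq_right,
        Set.mem_inter_iff, SetLike.mem_coe]
      constructor
      · rintro ⟨h, hz⟩
        exact ⟨h, hz⟩
      · rintro ⟨h, hz⟩
        exact ⟨h, hz⟩
    rcases hb with hb | hb
    · exact (hqc b hb.1 hb.2).2
    · have := (hqc bᶜ hb.1.isOpen_compl hb.2).1.isOpen_compl
      convert this using 1
      ext z
      constructor
      · intro h h'
        exact h' h
      · intro h
        by_contra h'
        exact h h'
  have hj : Continuous (fun z => WithTopology.toTopology (constructibleTopology X) (f z)) :=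
    @Continuous.comp _ _ _ _ (constructibleTopology X) _ _ _
      (WithTopology.continuous_toTopology (constructibleTopology X)) hf
  have hr : (WithTopology.ofTopology : WithConstructibleTopology X → X) ⁻¹' V =
      Set.range (fun z => WithTopology.toTopology (constructibleTopology X) (f z)) := by
    ext z
    constructor
    · intro hz
      exact ⟨WithTopology.toTopology _ ⟨z.ofTopology, hz⟩, rfl⟩
    · rintro ⟨w, rfl⟩
      exact (w.ofTopology : V).2
  rw [hr]
  exact isCompact_range hj

open AlgebraicGeometry Topology in
theorem isClopen_of_isConstructible (X : Scheme.{u}) [QuasiSeparatedSpace X] {s : Set X}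
    (hs : Topology.IsConstructible s) :
    IsClopen ((WithTopology.ofTopology : WithConstructibleTopology X → X) ⁻¹' s) := by
  induction hs using Topology.IsConstructible.empty_union_induction with
  | open_retrocompact U hUopen hUcomp =>
    have hloc : ∀ x : WithConstructibleTopology X, ∃ W : Set X, IsOpen W ∧ IsCompact W ∧
        x.ofTopology ∈ W ∧ IsCompact (U ∩ W) := by
      intro x
      obtain ⟨W, hW, hxW, -⟩ := (TopologicalSpace.Opens.isBasis_iff_nbhd.1 X.isBasis_affineOpens)
        (show x.ofTopology ∈ (⊤ : X.Opens) from trivial)
      have hWaff : IsAffineOpen W := hW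
      exact ⟨W, W.isOpen, hWaff.isCompact, hxW, hUcomp hWaff.isCompact W.isOpen⟩
    constructor
    · rw [← isOpen_compl_iff, isOpen_iff_forall_mem_open]
      intro x hx
      obtain ⟨W, hWo, hWc, hxW, hUW⟩ := hloc x
      refine ⟨((WithTopology.ofTopology : WithConstructibleTopology X → X) ⁻¹' W) ∩
        ((WithTopology.ofTopology : WithConstructibleTopology X → X) ⁻¹' (U ∩ W))ᶜ, ?_, ?_, ?_⟩
      · rintro y ⟨hy1, hy2⟩ hyU
        exact hy2 ⟨hyU, hy1⟩
      · exact (Groth.Agent.S12123.isClopen_of_compact_open hWo hWc).2.inter
          (Groth.Agent.S12123.isClopen_of_compact_open (hUopen.inter hWo) hUW).1.isOpen_compl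
      · exact ⟨hxW, fun h => hx h.1⟩
    · rw [isOpen_iff_forall_mem_open]
      intro x hx
      obtain ⟨W, hWo, hWc, hxW, hUW⟩ := hloc x
      refine ⟨((WithTopology.ofTopology : WithConstructibleTopology X → X) ⁻¹' (U ∩ W)), ?_, ?_, ?_⟩
      · rintro y ⟨hy1, hy2⟩
        exact hy1
      · exact (Groth.Agent.S12123.isClopen_of_compact_open (hUopen.inter hWo) hUW).2
      · exact ⟨hx, hxW⟩
  | union s hs t ht hs' ht' => exact hs'.union ht'
  | compl s hs hs' => exact hs'.compl

open AlgebraicGeometry Topology in
theorem isConstructible_of_compact_open (X : Scheme.{u}) [QuasiSeparatedSpace X]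
    (s : Set X) (ho : IsOpen ((WithTopology.ofTopology : WithConstructibleTopology X → X) ⁻¹' s))
    (hc : IsCompact ((WithTopology.ofTopology : WithConstructibleTopology X → X) ⁻¹' s)) :
    Topology.IsConstructible s := by
  have hbasis := TopologicalSpace.isTopologicalBasis_of_subbasis
    (t := constructibleTopology X) (s := constructibleTopologySubbasis X) rfl
  have ho' : IsOpen[constructibleTopology X] s := WithConstructibleTopology.isOpen_iff.1 ho
  obtain ⟨S, hS, hsS⟩ := @TopologicalSpace.IsTopologicalBasis.open_eq_sUnion _
    (constructibleTopology X) _ hbasis _ ho'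
  have hSo : ∀ b : S, IsOpen ((WithTopology.ofTopology : WithConstructibleTopology X → X) ⁻¹' b.1) := by
    intro b
    rw [WithConstructibleTopology.isOpen_iff]
    exact @TopologicalSpace.IsTopologicalBasis.isOpen _ (constructibleTopology X) _ _ hbasis (hS b.2)
  have hcov : ((WithTopology.ofTopology : WithConstructibleTopology X → X) ⁻¹' s) ⊆
      ⋃ b : S, ((WithTopology.ofTopology : WithConstructibleTopology X → X) ⁻¹' b.1) := by
    intro x hx
    have hx' : x.ofTopology ∈ ⋃₀ S := hsS ▸ hx
    obtain ⟨b, hb, hxb⟩ := hx'
    exact Set.mem_iUnion.2 ⟨⟨b, hb⟩, hxb⟩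
  obtain ⟨T, hT⟩ := hc.elim_finite_subcover _ hSo hcov
  have heq : s = ⋃ b ∈ (T : Set S), b.1 := by
    apply subset_antisymm
    · intro x hx
      have := hT (show WithTopology.toTopology (constructibleTopology X) x ∈ _ from hx)
      simp only [Set.mem_iUnion] at this
      obtain ⟨b, hb, hxb⟩ := this
      exact Set.mem_iUnion₂.2 ⟨b, hb, hxb⟩
    · intro x hx
      obtain ⟨b, hb, hxb⟩ := Set.mem_iUnion₂.1 hx
      rw [hsS]
      exact ⟨b.1, b.2, hxb⟩
  rw [heq]
  apply Topology.IsConstructible.biUnion T.finite_toSet
  intro b _
  obtain ⟨F, ⟨hFfin, hFsub⟩, hFb⟩ := hS b.2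
  rw [← hFb]
  apply Topology.IsConstructible.sInter hFfin
  intro c hc
  rcases hFsub hc with h | h
  · exact h.2.isConstructible h.1
  · exact (h.2.isConstructible h.1.isOpen_compl).of_compl

open AlgebraicGeometry Topology in
/-- Let X be a quasi-separated scheme. A subset E of X is locally constructible if and only if it is
both open and closed for the constructible topology of X. Here the constructible topology is the one
generated by the quasi-compact open subsets of X and their complements; when X is quasi-separated
its open sets are exactly the ind-constructible subsets, i.e. it is the constructible topology of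
the source (for a scheme that is not quasi-separated the two topologies differ, and this row does
not cover that case). -/
theorem result (X : Scheme.{u}) [QuasiSeparatedSpace X] (E : Set X) :
    Topology.IsLocallyConstructible E ↔
      (IsOpen[constructibleTopology X] E ∧ IsClosed[constructibleTopology X] E) := by
  have hcov : TopologicalSpace.IsOpenCover (fun V : X.affineOpens => (V : X.Opens)) :=
    iSup_affineOpens_eq_top X
  rw [Topology.IsLocallyConstructible.iff_isConstructible_of_isOpenCover hcov
    (fun V => V.2.isCompact)]
  have hloc : ∀ x : X, ∃ V : X.affineOpens, x ∈ (V : X.Opens) := by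
    intro x
    obtain ⟨V, hV, hxV, -⟩ := (TopologicalSpace.Opens.isBasis_iff_nbhd.1 X.isBasis_affineOpens)
      (show x ∈ (⊤ : X.Opens) from trivial)
    exact ⟨⟨V, hV⟩, hxV⟩
  constructor
  · intro h
    have key : ∀ F : Set X, (∀ V : X.affineOpens, Topology.IsConstructible (F ∩ (V : X.Opens))) →
        IsOpen ((WithTopology.ofTopology : WithConstructibleTopology X → X) ⁻¹' F) := by
      intro F hF
      rw [isOpen_iff_forall_mem_open]
      intro x hx
      obtain ⟨V, hxV⟩ := hloc x.ofTopology
      exact ⟨_, fun y hy => hy.1, (Groth.Agent.S12122.isClopen_of_isConstructible X (hF V)).2,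
        ⟨hx, hxV⟩⟩
    constructor
    · exact WithConstructibleTopology.isOpen_iff.1 (key E h)
    · rw [← @isOpen_compl_iff _ _ (constructibleTopology X)]
      refine WithConstructibleTopology.isOpen_iff.1 (key Eᶜ fun V => ?_)
      have h1 : Eᶜ ∩ (V : X.Opens) = ((V : X.Opens) : Set X) \ (E ∩ (V : X.Opens)) := by
        ext z
        simp only [Set.mem_inter_iff, Set.mem_compl_iff, Set.mem_diff]
        tauto
      rw [h1]
      exact (V.2.isCompact.isConstructible (V : X.Opens).isOpen).sdiff (h V)
  · rintro ⟨ho, hc⟩ V
    have hVc := Groth.Agent.S12122.isCompact_preimage_affine X V V.2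
    have hVclopen := Groth.Agent.S12123.isClopen_of_compact_open (V : X.Opens).isOpen V.2.isCompact
    have hEo : IsOpen ((WithTopology.ofTopology : WithConstructibleTopology X → X) ⁻¹' E) :=
      WithConstructibleTopology.isOpen_iff.2 ho
    have hEc : IsClosed ((WithTopology.ofTopology : WithConstructibleTopology X → X) ⁻¹' E) :=
      WithConstructibleTopology.isClosed_iff.2 hc
    apply Groth.Agent.S12122.isConstructible_of_compact_open X
    · exact hEo.inter hVclopen.2
    · exact hVc.inter_left hEc

end Groth.Agent.S12122
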