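import Groth.Statements.S12129
import Mathlib

set_option autoImplicit false
universe u
open EGA2

namespace Groth.Agent.S12129

theorem not_comp_iff {X : Type*} [TopologicalSpace X] [QuasiSober X] (η : X) :
    closure {η} ∉ irreducibleComponents X ↔ ∃ ζ : X, ζ ⤳ η ∧ ¬ η ⤳ ζ := by
  have hirr : IsIrreducible (closure ({η} : Set X)) := isIrreducible_singleton.closure
  constructor
  · intro h
    have h' : ¬ Maximal IsIrreducible (closure ({η} : Set X)) := h
    rw [not_maximal_iff hirr] at h'
    obtain ⟨S, hS, hlt⟩ := h'
    obtain ⟨ζ, hζ⟩ := QuasiSober.sober hS.closure isClosed_closure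
    have hζ' : closure {ζ} = closure S := hζ
    refine ⟨ζ, ?_, ?_⟩
    · rw [specializes_iff_mem_closure, hζ']
      exact subset_closure (hlt.1 (subset_closure rfl))
    · intro h2
      rw [specializes_iff_mem_closure] at h2
      have h3 : closure {ζ} ⊆ closure {η} :=
        closure_minimal (Set.singleton_subset_iff.2 h2) isClosed_closure
      exact hlt.2 (subset_closure.trans (hζ' ▸ h3))
  · rintro ⟨ζ, h1, h2⟩ h
    have h' : Maximal IsIrreducible (closure ({η} : Set X)) := h
    have hsub : closure ({η} : Set X) ⊆ closure {ζ} :=
      closure_minimal (Set.singleton_subset_iff.2 (specializes_iff_mem_closure.1 h1))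
        isClosed_closure
    have := h'.2 (isIrreducible_singleton.closure) hsub
    exact h2 (specializes_iff_mem_closure.2 (this (subset_closure rfl)))

open AlgebraicGeometry in
theorem coheight_eq_one_iff {X : Scheme.{u}} (x : X) :
    ringKrullDim (X.presheaf.stalk x) = 1 ↔
      ((∃ y : X, y ⤳ x ∧ ¬ x ⤳ y) ∧ ∀ y : X, y ⤳ x → ¬ x ⤳ y → ∀ z : X, z ⤳ y → y ⤳ z) := by
  rw [ringKrullDim_stalk_eq_coheight]
  have h1 : ((Order.coheight x : ℕ∞) : WithBot ℕ∞) = 1 ↔ Order.coheight x = 1 := by
    exact_mod_cast Iff.rfl
  rw [h1, le_antisymm_iff, ← Nat.cast_one, Order.coheight_le_coe_iff, Nat.cast_one,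
    ENat.one_le_iff_ne_zero, Order.coheight_ne_zero, and_comm]
  apply and_congr
  · rw [not_isMax_iff]
    exact Iff.rfl
  · constructor
    · intro h y hy1 hy2 z hz
      have := h y ⟨hy1, hy2⟩
      rw [ENat.lt_one_iff_eq_zero, Order.coheight_eq_zero] at this
      exact this hz
    · rintro h y ⟨hy1, hy2⟩
      rw [ENat.lt_one_iff_eq_zero, Order.coheight_eq_zero]
      intro z hz
      exact h y hy1 hy2 z hz

open AlgebraicGeometry CategoryTheory in
/-- Let X be a scheme of finite type over a field k. Then the local ring of X at every closed point has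
dimension one if and only if the irreducible closed subsets of X other than its irreducible
components are exactly the (singletons of) closed points of X — that is, every irreducible closed
subset which is not an irreducible component is a closed point, and no closed point is by itself an
irreducible component. -/
theorem result (k : Type u) [Field k] (X : Scheme.{u})
    [X.Over (Spec (CommRingCat.of k))] [LocallyOfFiniteType (X ↘ (Spec (CommRingCat.of k)))]
    [QuasiCompact (X ↘ (Spec (CommRingCat.of k)))] :
    (∀ x : X, IsClosed ({x} : Set X) → ringKrullDim (X.presheaf.stalk x) = 1) ↔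
      ((∀ F : Set X, IsClosed F → IsIrreducible F → F ∉ irreducibleComponents (X : Type u) →
          ∃ x : X, IsClosed ({x} : Set X) ∧ F = {x}) ∧
        ∀ x : X, IsClosed ({x} : Set X) → ({x} : Set X) ∉ irreducibleComponents (X : Type u)) := by
  haveI : CompactSpace X := by
    have := QuasiCompact.compactSpace_of_compactSpace (X ↘ (Spec (CommRingCat.of k)))
    exact this
  have hcl : ∀ x : X, IsClosed ({x} : Set X) → closure ({x} : Set X) = {x} :=
    fun x hx => hx.closure_eq
  constructor
  · intro h
    constructor
    · intro F hFc hFi hFn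
      obtain ⟨η, hη⟩ := QuasiSober.sober hFi hFc
      have hη' : closure {η} = F := hη
      obtain ⟨x, hxF, hx⟩ := hFc.exists_closed_singleton hFi.nonempty
      refine ⟨x, hx, ?_⟩
      rw [← hη'] at hFn hxF
      obtain ⟨ζ, hζ1, hζ2⟩ := (Groth.Agent.S12129.not_comp_iff η).1 hFn
      have hηx : η ⤳ x := specializes_iff_mem_closure.2 hxF
      have hdim := (Groth.Agent.S12129.coheight_eq_one_iff x).1 (h x hx)
      have hxη : x ⤳ η := by
        by_contra hne
        exact hζ2 (hdim.2 η hηx hne ζ hζ1)
      have : η = x := by
        have := specializes_iff_mem_closure.1 hxη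
        rw [hcl x hx] at this
        exact this
      rw [← hη', this, hcl x hx]
    · intro x hx hcomp
      obtain ⟨⟨y, hy1, hy2⟩, -⟩ := (Groth.Agent.S12129.coheight_eq_one_iff x).1 (h x hx)
      rw [← hcl x hx] at hcomp
      exact ((Groth.Agent.S12129.not_comp_iff x).2 ⟨y, hy1, hy2⟩) hcomp
  · rintro ⟨h1, h2⟩ x hx
    rw [Groth.Agent.S12129.coheight_eq_one_iff]
    constructor
    · have := h2 x hx
      rw [← hcl x hx] at this
      exact (Groth.Agent.S12129.not_comp_iff x).1 this
    · intro y hy1 hy2 z hz
      by_contra hne
      have hnc : closure ({y} : Set X) ∉ irreducibleComponents X :=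
        (Groth.Agent.S12129.not_comp_iff y).2 ⟨z, hz, hne⟩
      obtain ⟨x', hx', hF⟩ := h1 _ isClosed_closure isIrreducible_singleton.closure hnc
      have hy : y = x' := by
        have : y ∈ closure ({y} : Set X) := subset_closure rfl
        rw [hF] at this
        exact this
      have hxx : x = x' := by
        have : x ∈ closure ({y} : Set X) := specializes_iff_mem_closure.1 hy1
        rw [hF] at this
        exact this
      apply hy2
      rw [hy, hxx]

end Groth.Agent.S12129
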