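import Groth.Statements.S12135
import Mathlib
import Groth.Agent.S12123
import Groth.Agent.S12122

set_option autoImplicit false
universe u
open EGA41

namespace Groth.Agent.S12135

open Topology in
theorem isProperMap_withTopology_iff {X Y : Type*} (tX : TopologicalSpace X)
    (tY : TopologicalSpace Y) (f : X → Y) :
    @IsProperMap X Y tX tY f ↔
      IsProperMap (fun x : WithTopology X tX => WithTopology.toTopology tY (f x.ofTopology)) := by
  letI := tX
  letI := tY
  let eX : X ≃ₜ WithTopology X tX :=
    { toFun := WithTopology.toTopology tX
      invFun := WithTopology.ofTopology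
      left_inv := fun _ => rfl
      right_inv := fun _ => rfl
      continuous_toFun := WithTopology.continuous_toTopology tX
      continuous_invFun := WithTopology.continuous_ofTopology tX }
  let eY : Y ≃ₜ WithTopology Y tY :=
    { toFun := WithTopology.toTopology tY
      invFun := WithTopology.ofTopology
      left_inv := fun _ => rfl
      right_inv := fun _ => rfl
      continuous_toFun := WithTopology.continuous_toTopology tY
      continuous_invFun := WithTopology.continuous_ofTopology tY }
  constructor
  · intro h
    exact (eY.isProperMap.comp h).comp eX.symm.isProperMap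
  · intro h
    exact (eY.symm.isProperMap.comp h).comp eX.isProperMap

open AlgebraicGeometry Topology in
theorem continuous_ofTopology_cons (X : Scheme.{u}) :
    Continuous (WithTopology.ofTopology : WithConstructibleTopology X → X) := by
  rw [continuous_def]
  intro U hU
  rw [isOpen_iff_forall_mem_open]
  intro x hx
  obtain ⟨V, hV, hxV, hVU⟩ := (TopologicalSpace.Opens.isBasis_iff_nbhd.1 X.isBasis_affineOpens)
    (show x.ofTopology ∈ (⟨U, hU⟩ : X.Opens) from hx)
  have hVaff : IsAffineOpen V := hV
  exact ⟨_, fun y hy => hVU hy,
    (Groth.Agent.S12123.isClopen_of_compact_open V.isOpen hVaff.isCompact).2, hxV⟩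

open AlgebraicGeometry Topology in
theorem isCompact_preimage_of_compact_open (X : Scheme.{u}) [QuasiSeparatedSpace X] (W : Set X)
    (hW : IsOpen W) (hWc : IsCompact W) :
    IsCompact ((WithTopology.ofTopology : WithConstructibleTopology X → X) ⁻¹' W) := by
  obtain ⟨S, hS, rfl⟩ := isCompact_and_isOpen_iff_finite_and_eq_biUnion_affineOpens.mp ⟨hWc, hW⟩
  simp only [Set.preimage_iUnion]
  exact Set.Finite.isCompact_biUnion hS
    (fun i _ => Groth.Agent.S12122.isCompact_preimage_affine X i i.2)

open AlgebraicGeometry Topology in
/-- Let f : X → Y be a morphism of schemes with X and Y quasi-separated, and let X^cons, Y^cons denote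
the underlying sets with the constructible topology (generated by the quasi-compact open subsets and
their complements; for quasi-separated schemes the open sets are exactly the ind-constructible
subsets). Then f is quasi-compact if and only if the map X^cons → Y^cons underlying f is proper
(continuous and universally closed). (The published statement is for arbitrary schemes with the
ind-constructible topology; this row covers the quasi-separated case, where that topology is the one
used here.) -/
theorem result {X Y : Scheme.{u}} [QuasiSeparatedSpace X]
    [QuasiSeparatedSpace Y] (f : X ⟶ Y) :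
    QuasiCompact f ↔ @IsProperMap X Y (constructibleTopology X) (constructibleTopology Y) f := by
  rw [Groth.Agent.S12135.isProperMap_withTopology_iff]
  obtain ⟨hT2, hLC, -⟩ := Groth.Agent.S12123.result Y
  constructor
  · intro hf
    rw [isProperMap_iff_isCompact_preimage]
    have hcont : Continuous (fun x : WithTopology X (constructibleTopology X) =>
        WithTopology.toTopology (constructibleTopology Y) (f x.ofTopology)) := by
      have hf' : Continuous[_, constructibleTopology Y]
          (fun x : WithTopology X (constructibleTopology X) => f x.ofTopology) := by
        rw [continuous_generateFrom_iff]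
        intro b hb
        have hqc : ∀ W : Set Y, IsOpen W → IsCompact W →
            IsClopen ((WithTopology.ofTopology : WithConstructibleTopology X → X) ⁻¹'
              (f ⁻¹' W)) := by
          intro W hW hWc
          exact Groth.Agent.S12123.isClopen_of_compact_open (hW.preimage f.continuous)
            (hf.isCompact_preimage W hW hWc)
        rcases hb with hb | hb
        · exact (hqc b hb.1 hb.2).2
        · have := (hqc bᶜ hb.1.isOpen_compl hb.2).1.isOpen_compl
          convert this using 1
          ext z
          constructor
          · intro h h'
            exact h' h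
          · intro h
            by_contra h'
            exact h h'
      exact @Continuous.comp _ _ _ _ (constructibleTopology Y) _ _ _
        (WithTopology.continuous_toTopology (constructibleTopology Y)) hf'
    refine ⟨hcont, fun K hK => ?_⟩
    have hloc : ∀ y ∈ K, ∃ V : Y.Opens, IsAffineOpen V ∧
        (WithTopology.ofTopology : WithConstructibleTopology Y → Y) ⁻¹' V ∈ nhds y := by
      intro y _
      obtain ⟨V, hV, hyV, -⟩ := (TopologicalSpace.Opens.isBasis_iff_nbhd.1 Y.isBasis_affineOpens)
        (show y.ofTopology ∈ (⊤ : Y.Opens) from trivial)
      have hVaff : IsAffineOpen V := hV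
      exact ⟨V, hVaff,
        (Groth.Agent.S12123.isClopen_of_compact_open V.isOpen hVaff.isCompact).2.mem_nhds hyV⟩
    choose! V hVaff hVn using hloc
    obtain ⟨t, hKt⟩ := hK.elim_nhds_subcover'
      (fun y hy => (WithTopology.ofTopology : WithConstructibleTopology Y → Y) ⁻¹' (V y))
      (fun y hy => hVn y hy)
    have hcomp : IsCompact (⋃ y ∈ t, (WithTopology.ofTopology : WithConstructibleTopology X → X) ⁻¹'
        (f ⁻¹' (V y.1 : Set Y))) := by
      apply t.isCompact_biUnion
      intro y _
      exact Groth.Agent.S12135.isCompact_preimage_of_compact_open X _
        ((V y.1).isOpen.preimage f.continuous)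
        (hf.isCompact_preimage _ (V y.1).isOpen (hVaff y.1 y.2).isCompact)
    apply hcomp.of_isClosed_subset (hK.isClosed.preimage hcont)
    intro x hx
    have := hKt hx
    simp only [Set.mem_iUnion] at this ⊢
    obtain ⟨y, hy, hxy⟩ := this
    exact ⟨y, hy, hxy⟩
  · intro h
    rw [quasiCompact_iff_forall_isAffineOpen]
    intro V hV
    have h1 := h.isCompact_preimage (Groth.Agent.S12122.isCompact_preimage_affine Y V hV)
    have h2 := h1.image (Groth.Agent.S12135.continuous_ofTopology_cons X)
    convert h2 using 1
    ext x
    constructor
    · intro hx
      exact ⟨WithTopology.toTopology _ x, hx, rfl⟩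
    · rintro ⟨z, hz, rfl⟩
      exact hz

end Groth.Agent.S12135
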