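import Groth.Statements.S12137
import Groth.Agent.Helper1.PJ2

set_option autoImplicit false
universe u
open CategoryTheory CategoryTheory.Limits AlgebraicGeometry Opposite TopologicalSpace
open scoped HomogeneousIdeal
noncomputable section
open EGA2

namespace Groth.Agent.S12137

/-- Let Y be a scheme, 𝒜 a quasi-coherent O_Y-algebra and Ŝ = 𝒜[T], graded with 𝒜 in degree 0 and T in
degree 1 — presented through a homomorphism of algebras ι : 𝒜 → Ŝ landing in degree 0 and a global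
section z of Ŝ of degree 1 such that, over every affine open U, the map 𝒜(U)[X] → Ŝ(U) sending X to
z is bijective — and let p : P → Y with its charts be the relative homogeneous spectrum Proj(Ŝ). For
each affine open U let θ_U : Ŝ(U)_(z) → 𝒜(U) be the ring isomorphism sending ι(a) z^k / z^k to a.
Then there is a unique morphism i : Spec(𝒜) → P which, on the chart Spec 𝒜(U) of Spec(𝒜) over each
affine open U, is Spec(θ_U) followed by the open immersion of D_+(z|U) into Proj Ŝ(U) and the chart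
of P; moreover i is an isomorphism and lies over Y. In particular Proj(O_Y[T]) is Y. -/
theorem result {Y P : Scheme.{u}} (𝒜 : RelSpec.QCAlg Y) (Sh : RelProj.QCGrAlg Y)
    (ι : 𝒜 ⟶ Sh.toQCAlg)
    (hι : ∀ (U : Y.Opens) (hU : IsAffineOpen U) (a : 𝒜.presheaf.obj (op U)), (ι.hom.app (op U)).hom a ∈ Sh.deg U hU 0)
    (z : Sh.presheaf.obj (op ⊤))
    (hz : ∀ (U : Y.Opens) (hU : IsAffineOpen U), (Sh.presheaf.map (homOfLE le_top).op).hom z ∈ Sh.deg U hU 1)
    (hpoly : ∀ (U : Y.Opens) (hU : IsAffineOpen U),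
      Function.Bijective (Polynomial.eval₂RingHom (ι.hom.app (op U)).hom ((Sh.presheaf.map (homOfLE le_top).op).hom z)))
    (p : P ⟶ Y)
    (chart : ∀ (U : Y.Opens) (hU : IsAffineOpen U), (((p ⁻¹ᵁ U : P.Opens) : Scheme.{u}) ≅ Proj (Sh.deg U hU)))
    (hP : RelProj.IsRelProj Sh p chart)
    (θ : ∀ (U : Y.Opens) (hU : IsAffineOpen U),
      CommRingCat.of (HomogeneousLocalization.Away (Sh.deg U hU) ((Sh.presheaf.map (homOfLE le_top).op).hom z)) ⟶
        𝒜.presheaf.obj (op U))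
    (hθ : ∀ (U : Y.Opens) (hU : IsAffineOpen U)
      (q : HomogeneousLocalization.Away (Sh.deg U hU) ((Sh.presheaf.map (homOfLE le_top).op).hom z))
      (k : ℕ) (a : 𝒜.presheaf.obj (op U)),
        q.val = Localization.mk ((ι.hom.app (op U)).hom a * (Sh.presheaf.map (homOfLE le_top).op).hom z ^ k)
          ⟨(Sh.presheaf.map (homOfLE le_top).op).hom z ^ k,
            pow_mem (Submonoid.mem_powers ((Sh.presheaf.map (homOfLE le_top).op).hom z)) k⟩ →
        (θ U hU).hom q = a) :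
    (∃! i : 𝒜.spec ⟶ P, ∀ (U : Y.Opens) (hU : IsAffineOpen U),
        𝒜.ι U hU ≫ i =
          Spec.map (θ U hU) ≫
            Proj.awayι (Sh.deg U hU) ((Sh.presheaf.map (homOfLE le_top).op).hom z) (hz U hU) one_pos ≫
              RelProj.emb p chart U hU) ∧
      ∀ i : 𝒜.spec ⟶ P, (∀ (U : Y.Opens) (hU : IsAffineOpen U),
        𝒜.ι U hU ≫ i =
          Spec.map (θ U hU) ≫
            Proj.awayι (Sh.deg U hU) ((Sh.presheaf.map (homOfLE le_top).op).hom z) (hz U hU) one_pos ≫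
              RelProj.emb p chart U hU) →
        IsIso i ∧ i ≫ p = 𝒜.π := by
  have hkey : ∀ (U : Y.Opens) (hU : IsAffineOpen U),
      Spec.map (θ U hU) ≫
        Proj.awayι (Sh.deg U hU) ((Sh.presheaf.map (homOfLE le_top).op).hom z) (hz U hU) one_pos ≫
          RelProj.emb p chart U hU =
      (Groth.Agent.Helper1.PJ.tauIso 𝒜 Sh ι hι z hz hpoly U hU).inv ≫ RelProj.emb p chart U hU := by
    intro U hU
    rw [← Category.assoc, Groth.Agent.Helper1.PJ.specMap_theta_awayι 𝒜 Sh ι hι z hz hpoly U hU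
      (θ U hU) (hθ U hU)]
  have hequiv : ∀ (i : 𝒜.spec ⟶ P) (U : Y.Opens) (hU : IsAffineOpen U),
      ((𝒜.π ⁻¹ᵁ U).ι ≫ i = Groth.Agent.Helper1.PJ.piece 𝒜 Sh ι hι z hz hpoly p chart U hU ↔
        𝒜.ι U hU ≫ i = Spec.map (θ U hU) ≫
          Proj.awayι (Sh.deg U hU) ((Sh.presheaf.map (homOfLE le_top).op).hom z) (hz U hU) one_pos ≫
            RelProj.emb p chart U hU) := by
    intro i U hU
    rw [hkey, ← Groth.Agent.Helper1.SP.chartIso_hom_ι 𝒜 U hU, Category.assoc]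
    unfold Groth.Agent.Helper1.PJ.piece
    rw [Iso.eq_inv_comp]
  obtain ⟨i₀, hi₀, huniq⟩ := Groth.Agent.Helper1.RP.existsUnique_glue 𝒜.π
    (Groth.Agent.Helper1.PJ.piece 𝒜 Sh ι hι z hz hpoly p chart)
    (Groth.Agent.Helper1.PJ.piece_res 𝒜 Sh ι hι z hz hpoly hP)
  refine ⟨⟨i₀, fun U hU => (hequiv i₀ U hU).mp (hi₀ U hU),
    fun i' hi' => huniq i' (fun U hU => (hequiv i' U hU).mpr (hi' U hU))⟩, ?_⟩
  intro i hi
  have hpins : ∀ (U : Y.Opens) (hU : IsAffineOpen U), 𝒜.ι U hU ≫ i =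
      (Groth.Agent.Helper1.PJ.tauIso 𝒜 Sh ι hι z hz hpoly U hU).inv ≫ RelProj.emb p chart U hU :=
    fun U hU => (hi U hU).trans (hkey U hU)
  have hcomm : i ≫ p = 𝒜.π := by
    apply Groth.Agent.Helper1.RP.hom_ext 𝒜.π
    intro U hU
    rw [← cancel_epi (Groth.Agent.Helper1.SP.chartIso 𝒜 U hU).hom,
      Groth.Agent.Helper1.SP.chartIso_hom_ι_assoc, Groth.Agent.Helper1.SP.chartIso_hom_ι_assoc,
      reassoc_of% hpins U hU, Groth.Agent.Helper1.RP.emb_p hP U hU, 𝒜.ι_π,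
      ← Groth.Agent.Helper1.PJ.tau_str 𝒜 Sh ι hι U hU,
      ← Groth.Agent.Helper1.PJ.tauIso_hom 𝒜 Sh ι hι z hz hpoly U hU, Iso.inv_hom_id_assoc]
  refine ⟨?_, hcomm⟩
  have hiso := Groth.Agent.Helper1.IM.of_charts i
    (fun a : {U : Y.Opens // IsAffineOpen U} =>
      (Groth.Agent.Helper1.PJ.tauIso 𝒜 Sh ι hι z hz hpoly a.1 a.2).inv)
    (fun a => 𝒜.ι a.1 a.2) (fun a => RelProj.emb p chart a.1 a.2)
    (MorphismProperty.isomorphisms Scheme.{u}) (fun a => hpins a.1 a.2)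
    (fun a => by
      rw [Groth.Agent.Helper1.RP.opensRange_emb, ← 𝒜.π_preimage a.1 a.2, ← hcomm]
      rfl)
    (fun x => by
      obtain ⟨_, ⟨U, hU, rfl⟩, hxU, -⟩ :=
        Y.isBasis_affineOpens.exists_subset_of_mem_open (Set.mem_univ (p x)) isOpen_univ
      refine ⟨⟨U, hU⟩, ?_⟩
      rw [Groth.Agent.Helper1.RP.opensRange_emb]
      exact hxU)
    (fun a => (inferInstance : IsIso (Groth.Agent.Helper1.PJ.tauIso 𝒜 Sh ι hι z hz hpoly a.1 a.2).inv))
  exact hiso

end Groth.Agent.S12137
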