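import Groth.Statements.S12138
import Groth.Agent.Helper1.CechBC5
import Groth.Agent.Helper1.Bridge4
import Groth.Agent.S12120

set_option autoImplicit false
universe u
attribute [local instance] HasDerivedCategory.standard
open Coherent

namespace Groth.Agent.S12138

open AlgebraicGeometry CategoryTheory in
/-- For a complex reduced to one sheaf and affine bases. Let A be a Noetherian ring, X a proper A-scheme
with structure morphism f, F a coherent O_X-module flat over Spec A, and T^p(M) = H^p(X, f^*(M~) ⊗
F) for A-modules M. Let A' be any commutative A-algebra, X' an A'-scheme with a morphism g' : X' → X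
making X' the fibre product X ×_{Spec A} Spec A', F' = g'^* F, and T'^p(M') = H^p(X', f'^*(M'~) ⊗
F') for A'-modules M'. If T^p takes surjections to surjections (resp. injections to injections),
then T'^p does the same. (The converse when Spec A' → Spec A is faithfully flat is a separate
statement; the published statement is for an arbitrary base change of schemes and reduces to this
affine case.) -/
theorem result (A A' : Type u) [CommRing A] [IsNoetherianRing A]
    [CommRing A'] [Algebra A A'] (X X' : Scheme.{u}) [X.Over (Spec (CommRingCat.of A))]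
    [X'.Over (Spec (CommRingCat.of A'))] [IsProper (X ↘ Spec (CommRingCat.of A))] (g' : X' ⟶ X)
    (hsq : IsPullback g' (X' ↘ Spec (CommRingCat.of A')) (X ↘ Spec (CommRingCat.of A))
      (Spec.map (CommRingCat.ofHom (algebraMap A A'))))
    (F : X.Modules) (hF : Coh.IsCoh F) (hfl : FlatMod.IsFlatOver (X ↘ Spec (CommRingCat.of A)) F) (p : ℕ) :
    ((CohIII.tensorAFunctor A F ⋙ CohIII.HAb X p).PreservesEpimorphisms →
        (CohIII.tensorAFunctor A' ((Scheme.Modules.pullback g').obj F) ⋙ CohIII.HAb X' p).PreservesEpimorphisms) ∧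
      ((CohIII.tensorAFunctor A F ⋙ CohIII.HAb X p).PreservesMonomorphisms →
        (CohIII.tensorAFunctor A' ((Scheme.Modules.pullback g').obj F) ⋙ CohIII.HAb X' p).PreservesMonomorphisms) := by
  classical
  haveI : F.IsQuasicoherent := hF.1
  haveI : ((Scheme.Modules.pullback g').obj F).IsQuasicoherent :=
    Groth.Agent.Lead.StalkPull.isQuasicoherent_pullbackObj _ _
  obtain ⟨t, U, hU, hcov⟩ := Groth.Agent.Helper1.Bridge.exists_cover A (X := X)
  have hd := Groth.Agent.Helper1.Bridge.affine_inf A (X := X)
  haveI : IsAffineHom g' := Groth.Agent.Helper1.CechBC.isAffineHom_of_isPullback A A' g' hsq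
  haveI : IsSeparated (X' ↘ Spec (CommRingCat.of A')) :=
    MorphismProperty.of_isPullback (P := @IsSeparated) hsq inferInstance
  have hU' : ∀ k, IsAffineOpen (Groth.Agent.Helper1.CechBC.Ut g' U k) := fun k => (hU k).preimage g'
  have hd' := Groth.Agent.Helper1.Bridge.affine_inf A' (X := X')
  have hcov' : ⨆ k, Groth.Agent.Helper1.CechBC.Ut g' U k = ⊤ := by
    rw [← Scheme.Hom.preimage_iSup, hcov]
    rfl
  obtain ⟨e⟩ := Groth.Agent.Helper1.Bridge.nonempty_bridge_PZ A U hU hd hcov F p
  obtain ⟨e'⟩ := Groth.Agent.Helper1.Bridge.nonempty_bridge_PZ A' _ hU' hd' hcov'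
    ((Scheme.Modules.pullback g').obj F) p
  obtain ⟨θ⟩ := Groth.Agent.Helper1.CechBC.nonempty_PZ_iso A A' g' hsq U hU hd F
  have hflat := Groth.Agent.Helper1.Bridge.flat_PZ A U hU hd F hfl
  have key := Groth.Agent.S12120.result (Groth.Agent.Helper1.Bridge.PZ A U F) hflat A' (-(p : ℤ))
  have eT := Groth.Agent.Helper1.CechBC.tfunIsoOfIso θ (-(p : ℤ))
  constructor
  · intro h
    have h1 := (Groth.Agent.Helper1.Bridge.preservesEpi_iff e).mp h
    have h2 := key.1 h1
    have h3 : (CohIII.TFun (Groth.Agent.Helper1.Bridge.PZ A' (Groth.Agent.Helper1.CechBC.Ut g' U)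
        ((Scheme.Modules.pullback g').obj F)) (-(p : ℤ))).PreservesEpimorphisms :=
      (Functor.preservesEpimorphisms.iso_iff eT).mp h2
    exact (Groth.Agent.Helper1.Bridge.preservesEpi_iff e').mpr h3
  · intro h
    have h1 := (Groth.Agent.Helper1.Bridge.preservesMono_iff e).mp h
    have h2 := key.2 h1
    have h3 : (CohIII.TFun (Groth.Agent.Helper1.Bridge.PZ A' (Groth.Agent.Helper1.CechBC.Ut g' U)
        ((Scheme.Modules.pullback g').obj F)) (-(p : ℤ))).PreservesMonomorphisms :=
      (Functor.preservesMonomorphisms.iso_iff eT).mp h2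
    exact (Groth.Agent.Helper1.Bridge.preservesMono_iff e').mpr h3

end Groth.Agent.S12138
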