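import Groth.Statements.S12149
import Groth.Agent.Helper1.PT9

set_option autoImplicit false
universe u
open CategoryTheory CategoryTheory.Limits AlgebraicGeometry TopologicalSpace Opposite
open scoped HomogeneousIdeal
noncomputable section
open EGA2

namespace Groth.Agent.S12149

/-- Let q : X → Y be a morphism, L an invertible O_X-module with 𝒮L = ⊕ L^{⊗n} (whose Proj, with its
charts, is X), v : 𝒯 → 𝒮 a graded homomorphism of quasi-coherent positively graded O_Y-algebras, ψ♭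
= u : 𝒮 → q_*𝒮L a graded q-morphism and ψ'♭ = u' its composite with v; let r = r_{L,ψ} : G(ψ) →
Proj(𝒮) and r' = r_{L,ψ'} : G(ψ') → Proj(𝒯) be the associated morphisms. If v is (TN)-injective
(there is n with v injective on 𝒯_k for every k ≥ n, on sections over affine opens) and r is
dominant, then r' is dominant. -/
theorem result {Y X P PL P' : Scheme.{u}} (q : X ⟶ Y)
    (L : X.Modules) (hL : PicF.IsInvertible L) (hLq : Coh.IsQCoh L)
    (𝒮 : RelProj.QCGrAlg Y) (𝒮L : RelProj.QCGrAlg X) (j : L ⟶ 𝒮L.toModule) (hj : RelProj.IsGrSymAlg L 𝒮L j)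
    (u : RelProj.QGrHom q 𝒮 𝒮L)
    (p : P ⟶ Y) (chart : ∀ (U : Y.Opens) (hU : IsAffineOpen U), (((p ⁻¹ᵁ U : P.Opens) : Scheme.{u}) ≅ Proj (𝒮.deg U hU)))
    (hP : RelProj.IsRelProj 𝒮 p chart)
    (pL : PL ⟶ X) (chartL : ∀ (U : X.Opens) (hU : IsAffineOpen U), (((pL ⁻¹ᵁ U : PL.Opens) : Scheme.{u}) ≅ Proj (𝒮L.deg U hU)))
    (hPL : RelProj.IsRelProj 𝒮L pL chartL)
    (r : ((RelProj.domQ u pL chartL : PL.Opens) : Scheme.{u}) ⟶ P)
    (hr : RelProj.IsProjQMapOn u p chart pL chartL (RelProj.domQ u pL chartL) r)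
    (𝒯 : RelProj.QCGrAlg Y) (v : 𝒯.toQCAlg ⟶ 𝒮.toQCAlg) (hv : RelProj.IsGradedHom v)
    (u' : RelProj.QGrHom q 𝒯 𝒮L) (hu' : ∀ U : Y.Opens, u'.app U = v.hom.app (op U) ≫ u.app U)
    (p' : P' ⟶ Y) (chart' : ∀ (U : Y.Opens) (hU : IsAffineOpen U), (((p' ⁻¹ᵁ U : P'.Opens) : Scheme.{u}) ≅ Proj (𝒯.deg U hU)))
    (hP' : RelProj.IsRelProj 𝒯 p' chart')
    (r' : ((RelProj.domQ u' pL chartL : PL.Opens) : Scheme.{u}) ⟶ P')
    (hr' : RelProj.IsProjQMapOn u' p' chart' pL chartL (RelProj.domQ u' pL chartL) r')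
    (hTN : ∃ n : ℕ, ∀ k, n ≤ k → ∀ (U : Y.Opens) (hU : IsAffineOpen U), ∀ x ∈ 𝒯.deg U hU k,
      (v.hom.app (op U)).hom x = 0 → x = 0) (hdom : IsDominant r) :
    IsDominant r' := by
  haveI : L.IsQuasicoherent := hLq
  rw [Groth.Agent.Helper1.PT.isDominant_iff_locus u' hP' hPL hr']
  rw [Groth.Agent.Helper1.PT.isDominant_iff_locus u hP hPL hr] at hdom
  intro U hU d hd g hg ⟨y', hy'⟩
  obtain ⟨n, hn⟩ := hTN
  have hnilg : ¬ IsNilpotent g :=
    Groth.Agent.Helper1.PL.not_isNilpotent_of_mem_basicOpen (𝒯.deg U hU) y' hy'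
  have hf : (v.hom.app (op U)).hom g ∈ 𝒮.deg U hU d := hv U hU d g hg
  have hnilf : ¬ IsNilpotent ((v.hom.app (op U)).hom g) := by
    rintro ⟨m, hm⟩
    apply hnilg
    refine ⟨(m + 1) * (n + 1), ?_⟩
    have hdeg : g ^ ((m + 1) * (n + 1)) ∈ 𝒯.deg U hU (((m + 1) * (n + 1)) • d) :=
      SetLike.pow_mem_graded _ hg
    have hle : n ≤ ((m + 1) * (n + 1)) • d := by
      rw [smul_eq_mul]
      calc n ≤ n + 1 := Nat.le_succ n
        _ = 1 * (n + 1) * 1 := by ring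
        _ ≤ (m + 1) * (n + 1) * d :=
          Nat.mul_le_mul (Nat.mul_le_mul_right _ (Nat.succ_pos m)) hd
    apply hn _ hle U hU _ hdeg
    rw [map_pow]
    have hge : m ≤ (m + 1) * (n + 1) := by
      calc m ≤ m + 1 := Nat.le_succ m
        _ = (m + 1) * 1 := (Nat.mul_one _).symm
        _ ≤ (m + 1) * (n + 1) := Nat.mul_le_mul_left _ (Nat.succ_pos n)
    exact pow_eq_zero_of_le hge hm
  have hirr : (v.hom.app (op U)).hom g ∈ (HomogeneousIdeal.irrelevant (𝒮.deg U hU)).toIdeal :=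
    HomogeneousIdeal.mem_irrelevant_of_mem _ hd hf
  obtain ⟨y, hy⟩ := Groth.Agent.Helper1.RP.exists_mem_basicOpen (𝒮.deg U hU) _ hirr hnilf
  obtain ⟨z, hz⟩ := hdom U hU d hd _ hf ⟨y, hy⟩
  rw [← Groth.Agent.Helper1.PT.locus_famOf_comp u v u' hu' pL chartL U hU _ hf g hg 1 one_pos
    (pow_one _).symm] at hz
  exact ⟨z, hz⟩

end Groth.Agent.S12149
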