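import Groth.Statements.S12150
import Groth.Agent.Helper1.IM7

set_option autoImplicit false
universe u
open CategoryTheory CategoryTheory.Limits AlgebraicGeometry TopologicalSpace Opposite
open scoped HomogeneousIdeal
noncomputable section
open EGA2

namespace Groth.Agent.S12150

/-- Let q : X → Y be a morphism with Y affine, L an invertible O_X-module with 𝒮L = ⊕ L^{⊗n} (whose Proj
is X), 𝒮 a quasi-coherent positively graded O_Y-algebra with S = Γ(Y, 𝒮), ψ♭ = u : 𝒮 → q_*𝒮L a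
graded q-morphism and r = r_{L,ψ} : G(ψ) → P = Proj(𝒮). For a family s_a ∈ S_{n_a} (n_a > 0) put f_a
= ψ♭(s_a) ∈ Γ(X, L^{⊗n_a}) and let X_{f_a} be the open where f_a does not vanish; conditions: (i)
the X_{f_a} cover X; (ii) the X_{f_a} are affine; (iii) every function t on X_{f_a} is of the form
ψ♭(s') f_a^{-m} with m > 0 and s' ∈ S_{m n_a} (that is, t f_a^m = ψ♭(s') in 𝒮L(X_{f_a})). Then r is
everywhere defined (G(ψ) = X) and an immersion if and only if there is a family (s_a) satisfying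
(i), (ii) and (iii). -/
theorem result {Y X P PL : Scheme.{u}} (q : X ⟶ Y)
    (L : X.Modules) (hL : PicF.IsInvertible L) (hLq : Coh.IsQCoh L)
    (𝒮 : RelProj.QCGrAlg Y) (𝒮L : RelProj.QCGrAlg X) (j : L ⟶ 𝒮L.toModule) (hj : RelProj.IsGrSymAlg L 𝒮L j)
    (u : RelProj.QGrHom q 𝒮 𝒮L)
    (p : P ⟶ Y) (chart : ∀ (U : Y.Opens) (hU : IsAffineOpen U), (((p ⁻¹ᵁ U : P.Opens) : Scheme.{u}) ≅ Proj (𝒮.deg U hU)))
    (hP : RelProj.IsRelProj 𝒮 p chart)
    (pL : PL ⟶ X) (chartL : ∀ (U : X.Opens) (hU : IsAffineOpen U), (((pL ⁻¹ᵁ U : PL.Opens) : Scheme.{u}) ≅ Proj (𝒮L.deg U hU)))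
    (hPL : RelProj.IsRelProj 𝒮L pL chartL)
    (r : ((RelProj.domQ u pL chartL : PL.Opens) : Scheme.{u}) ⟶ P)
    (hr : RelProj.IsProjQMapOn u p chart pL chartL (RelProj.domQ u pL chartL) r)
    (hY : IsAffineOpen (⊤ : Y.Opens)) :
    (RelProj.domQ u pL chartL = ⊤ ∧ IsImmersion r) ↔
      ∃ (ι : Type u) (n : ι → ℕ) (s : ι → 𝒮.presheaf.obj (op ⊤)) (XT : ι → X.Opens),
        (∀ a, 0 < n a ∧ s a ∈ 𝒮.deg ⊤ hY (n a)) ∧
        (∀ a, XT a = (⨆ V : {V : X.affineOpens //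
          ((𝒮L.deg V.1 V.2 (n a) : AddSubgroup (𝒮L.presheaf.obj (op (V.1 : X.Opens)))) : Set (𝒮L.presheaf.obj (op (V.1 : X.Opens)))) ⊆
            (Ideal.span {(u.appLE ⊤ (V.1 : X.Opens) (le_top.trans (Scheme.Hom.preimage_top q).ge)).hom (s a)} : Set (𝒮L.presheaf.obj (op (V.1 : X.Opens))))},
          (V.1.1 : X.Opens))) ∧
        (⨆ a, XT a) = ⊤ ∧ (∀ a, IsAffineOpen (XT a)) ∧
        (∀ (a : ι) (t : X.presheaf.obj (op (XT a))), ∃ (m : ℕ) (_ : 0 < m) (s' : 𝒮.presheaf.obj (op ⊤)) (_ : s' ∈ 𝒮.deg ⊤ hY (m * n a)),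
            (𝒮L.str.app (op (XT a))).hom t * ((u.appLE ⊤ (XT a) (le_top.trans (Scheme.Hom.preimage_top q).ge)).hom (s a)) ^ m =
              (u.appLE ⊤ (XT a) (le_top.trans (Scheme.Hom.preimage_top q).ge)).hom s') := by
  haveI : L.IsQuasicoherent := hLq
  haveI : IsIso pL := Groth.Agent.Helper1.PL.isIso_relProj_of_isInvertible hL hj pL chartL hPL
  have hTop : ∀ V : X.Opens, V ≤ q ⁻¹ᵁ (⊤ : Y.Opens) :=
    fun V => le_top.trans (Scheme.Hom.preimage_top q).ge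
  constructor
  · rintro ⟨hdom, himm⟩
    haveI := himm
    let ι : Type u := Σ n : ℕ, {s : 𝒮.presheaf.obj (op ⊤) // 0 < n ∧ s ∈ 𝒮.deg ⊤ hY n ∧
      RelProj.emb p chart ⊤ hY ''ᵁ Proj.basicOpen (𝒮.deg ⊤ hY) s ≤ r.coborderRange}
    have hXw : ∀ a : ι, Groth.Agent.Helper1.PT.Xw
        (Groth.Agent.Helper1.PT.famOf u ⊤ hY a.2.1 a.2.2.2.1) = _ :=
      fun a => Groth.Agent.Helper1.IM.Xw_famOf_top u hY a.2.1 a.2.2.2.1
    have hle : ∀ a : ι, (Proj.awayι (𝒮.deg ⊤ hY) a.2.1 a.2.2.2.1 a.2.2.1 ≫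
        RelProj.emb p chart ⊤ hY).opensRange ≤ r.coborderRange := by
      intro a
      rw [Groth.Agent.Helper1.IM.opensRange_chartP ⊤ hY a.2.2.1 a.2.1 a.2.2.2.1]
      exact a.2.2.2.2
    have haff : ∀ a : ι, IsAffineOpen (Groth.Agent.Helper1.PT.Xw
        (Groth.Agent.Helper1.PT.famOf u ⊤ hY a.2.1 a.2.2.2.1)) := by
      intro a
      apply Groth.Agent.Helper1.IM.isAffineOpen_Xw u hj hL hP hPL hr ⊤ hY a.2.2.1 a.2.1 a.2.2.2.1
      exact Groth.Agent.Helper1.IM.isAffineOpen_preimage_of_isImmersion r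
        (isAffineOpen_opensRange _) (hle a)
    refine ⟨ι, fun a => a.1, fun a => a.2.1, fun a => _, fun a => ⟨a.2.2.1, a.2.2.2.1⟩,
      fun a => rfl, ?_, ?_, ?_⟩
    · -- (i)
      apply top_le_iff.mp
      intro x _
      obtain ⟨n, hn, s, hs, hC, hx⟩ := Groth.Agent.Helper1.IM.exists_mem_Xw u hj hL hP hPL hr hdom hY
        r.coborderRange (fun z => subset_coborder ⟨z, rfl⟩) x
      rw [Groth.Agent.Helper1.IM.Xw_famOf_top u hY s hs] at hx
      exact Opens.mem_iSup.mpr ⟨⟨n, s, hn, hs, hC⟩, hx⟩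
    · -- (ii)
      intro a
      have := haff a
      rw [hXw a] at this
      exact this
    · -- (iii)
      intro a
      have hV := haff a
      rw [hXw a] at hV
      have hcl' : IsClosedImmersion (Spec.map (CommRingCat.ofHom
          (HomogeneousLocalization.Away.map (u.gradedAt ⊤ hY _ hV (hTop _)) a.2.1))) :=
        Groth.Agent.Helper1.IM.isClosedImmersion_chart_of_isImmersion r _ _ _
          (Groth.Agent.Helper1.RP.liftEmb_r hr ⊤ hY _ hV (hTop _) a.2.2.1 a.2.1 a.2.2.2.1)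
          (Groth.Agent.Helper1.IM.preimage_chart u hj hL hP hPL hr ⊤ hY a.2.2.1 a.2.1
            a.2.2.2.1 _ hV (hTop _) (hXw a)) (hle a)
      rw [Groth.Agent.Helper1.IM.isClosedImmersion_specMap_iff] at hcl'
      have hgen := Groth.Agent.Helper1.IM.isGenAt_of_le_Xw
        (Groth.Agent.Helper1.PT.famOf u ⊤ hY a.2.1 a.2.2.2.1) hV (hTop _) (hXw a).ge
      exact (Groth.Agent.Helper1.IM.away_surjective_iff u hj hL ⊤ hY a.2.1 a.2.2.2.1 _ hV (hTop _)
        hgen).mp hcl'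
  · rintro ⟨ι, n, s, XT, h1, hXT, hcov, haff, hiii⟩
    have hXw : ∀ a, Groth.Agent.Helper1.PT.Xw
        (Groth.Agent.Helper1.PT.famOf u ⊤ hY (s a) (h1 a).2) = XT a :=
      fun a => (Groth.Agent.Helper1.IM.Xw_famOf_top u hY (s a) (h1 a).2).trans (hXT a).symm
    have hdom : RelProj.domQ u pL chartL = ⊤ := by
      apply Groth.Agent.Helper1.IM.domQ_eq_top_of_cover u hj hL hPL
      intro x
      have hx : x ∈ (⨆ a, XT a) := by rw [hcov]; trivial
      obtain ⟨a, ha⟩ := Opens.mem_iSup.mp hx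
      exact ⟨⊤, hY, n a, (h1 a).1, s a, (h1 a).2, by rw [hXw a]; exact ha⟩
    refine ⟨hdom, ?_⟩
    apply Groth.Agent.Helper1.IM.isImmersion_of_charts r
      (fun a => Spec.map (CommRingCat.ofHom
        (HomogeneousLocalization.Away.map (u.gradedAt ⊤ hY (XT a) (haff a) (hTop _)) (s a))))
      (fun a => Groth.Agent.Helper1.RP.liftEmb u pL chartL ⊤ hY (XT a) (haff a) (hTop _) (h1 a).1
        (s a) (h1 a).2)
      (fun a => Proj.awayι (𝒮.deg ⊤ hY) (s a) (h1 a).2 (h1 a).1 ≫ RelProj.emb p chart ⊤ hY)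
    · intro a
      exact Groth.Agent.Helper1.RP.liftEmb_r hr ⊤ hY (XT a) (haff a) (hTop _) (h1 a).1 (s a) (h1 a).2
    · intro a
      exact Groth.Agent.Helper1.IM.preimage_chart u hj hL hP hPL hr ⊤ hY (h1 a).1 (s a) (h1 a).2
        (XT a) (haff a) (hTop _) (hXw a)
    · intro x
      have hx : pL ((RelProj.domQ u pL chartL).ι x) ∈ (⨆ a, XT a) := by rw [hcov]; trivial
      obtain ⟨a, ha⟩ := Opens.mem_iSup.mp hx
      exact ⟨a, Groth.Agent.Helper1.IM.mem_opensRange_liftEmb u hj hL hP hPL hr ⊤ hY (h1 a).1 (s a)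
        (h1 a).2 (XT a) (haff a) (hTop _) (hXw a) x ha⟩
    · intro a
      rw [Groth.Agent.Helper1.IM.isClosedImmersion_specMap_iff]
      have hgen := Groth.Agent.Helper1.IM.isGenAt_of_le_Xw
        (Groth.Agent.Helper1.PT.famOf u ⊤ hY (s a) (h1 a).2) (haff a) (hTop _) (hXw a).ge
      exact (Groth.Agent.Helper1.IM.away_surjective_iff u hj hL ⊤ hY (s a) (h1 a).2 (XT a) (haff a)
        (hTop _) hgen).mpr (hiii a)

end Groth.Agent.S12150
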