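import Groth.Statements.S12154
import Groth.Agent.Helper1.IM10

set_option autoImplicit false
universe u
open CategoryTheory CategoryTheory.Limits AlgebraicGeometry TopologicalSpace Opposite
open scoped HomogeneousIdeal
noncomputable section
open EGA2

namespace Groth.Agent.S12154

/-- Let q : X → Y be a morphism, L an invertible O_X-module with 𝒮L = ⊕ L^{⊗n} (whose Proj, with its
charts, is X), v : 𝒯 → 𝒮 a graded homomorphism of quasi-coherent positively graded O_Y-algebras, ψ♭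
= u : 𝒮 → q_*𝒮L a graded q-morphism and ψ'♭ = u' its composite with v; let r = r_{L,ψ} : G(ψ) →
Proj(𝒮) and r' = r_{L,ψ'} : G(ψ') → Proj(𝒯), with r' everywhere defined and v (TN)-surjective (v :
𝒯_k → 𝒮_k surjective for all large k, on sections over affine opens). If r' is an open immersion, so
is r; if r' is a closed immersion, so is r. -/
theorem result {Y X P PL P' : Scheme.{u}} (q : X ⟶ Y)
    (L : X.Modules) (hL : PicF.IsInvertible L) (hLq : Coh.IsQCoh L)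
    (𝒮 : RelProj.QCGrAlg Y) (𝒮L : RelProj.QCGrAlg X) (j : L ⟶ 𝒮L.toModule) (hj : RelProj.IsGrSymAlg L 𝒮L j)
    (u : RelProj.QGrHom q 𝒮 𝒮L)
    (p : P ⟶ Y) (chart : ∀ (U : Y.Opens) (hU : IsAffineOpen U), (((p ⁻¹ᵁ U : P.Opens) : Scheme.{u}) ≅ Proj (𝒮.deg U hU)))
    (hP : RelProj.IsRelProj 𝒮 p chart)
    (pL : PL ⟶ X) (chartL : ∀ (U : X.Opens) (hU : IsAffineOpen U), (((pL ⁻¹ᵁ U : PL.Opens) : Scheme.{u}) ≅ Proj (𝒮L.deg U hU)))
    (hPL : RelProj.IsRelProj 𝒮L pL chartL)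
    (r : ((RelProj.domQ u pL chartL : PL.Opens) : Scheme.{u}) ⟶ P)
    (hr : RelProj.IsProjQMapOn u p chart pL chartL (RelProj.domQ u pL chartL) r)
    (𝒯 : RelProj.QCGrAlg Y) (v : 𝒯.toQCAlg ⟶ 𝒮.toQCAlg) (hv : RelProj.IsGradedHom v)
    (u' : RelProj.QGrHom q 𝒯 𝒮L) (hu' : ∀ U : Y.Opens, u'.app U = v.hom.app (op U) ≫ u.app U)
    (p' : P' ⟶ Y) (chart' : ∀ (U : Y.Opens) (hU : IsAffineOpen U), (((p' ⁻¹ᵁ U : P'.Opens) : Scheme.{u}) ≅ Proj (𝒯.deg U hU)))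
    (hP' : RelProj.IsRelProj 𝒯 p' chart')
    (r' : ((RelProj.domQ u' pL chartL : PL.Opens) : Scheme.{u}) ⟶ P')
    (hr' : RelProj.IsProjQMapOn u' p' chart' pL chartL (RelProj.domQ u' pL chartL) r')
    (hTN : ∃ n : ℕ, ∀ k, n ≤ k → ∀ (U : Y.Opens) (hU : IsAffineOpen U), ∀ y ∈ 𝒮.deg U hU k,
      ∃ x ∈ 𝒯.deg U hU k, (v.hom.app (op U)).hom x = y)
    (hdef : RelProj.domQ u' pL chartL = ⊤) :
    (IsOpenImmersion r' → IsOpenImmersion r) ∧ (IsClosedImmersion r' → IsClosedImmersion r) := by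
  haveI : L.IsQuasicoherent := hLq
  constructor
  · intro hopen
    haveI := hopen
    have hcover : ∀ x : X, ∃ (U : Y.Opens) (hU : IsAffineOpen U) (n : ℕ) (_ : 0 < n)
        (t : 𝒯.presheaf.obj (op U)) (ht : t ∈ 𝒯.deg U hU n),
        RelProj.emb p' chart' U hU ''ᵁ Proj.basicOpen (𝒯.deg U hU) t ≤ r'.opensRange ∧
          x ∈ Groth.Agent.Helper1.PT.Xw (Groth.Agent.Helper1.PT.famOf u' U hU t ht) :=
      fun x => Groth.Agent.Helper1.IM.exists_mem_Xw' u' hj hL hP' hPL hr' hdef r'.opensRange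
        (fun z => ⟨z, rfl⟩) x
    let ι : Type u := Σ (U : {U : Y.Opens // IsAffineOpen U}), Σ (d : ℕ),
      {t : 𝒯.presheaf.obj (op U.1) // 0 < d ∧ t ∈ 𝒯.deg U.1 U.2 d ∧
        RelProj.emb p' chart' U.1 U.2 ''ᵁ Proj.basicOpen (𝒯.deg U.1 U.2) t ≤ r'.opensRange}
    choose hV hXw hbij using fun a : ι =>
      Groth.Agent.Helper1.IM.comp_chart_iso u v hv u' hu' hj hL hP' hPL hr' hTN a.1.1 a.1.2
        a.2.2.2.1 a.2.2.1 a.2.2.2.2.1 a.2.2.2.2.2
    apply Groth.Agent.Helper1.IM.isOpenImmersion_of_charts r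
      (fun a : ι => Spec.map (CommRingCat.ofHom
        (HomogeneousLocalization.Away.map (u.gradedAt a.1.1 a.1.2 _ (hV a)
          (Groth.Agent.Helper1.PT.Xw_le _)) ((v.hom.app (op a.1.1)).hom a.2.2.1))))
      (fun a : ι => Groth.Agent.Helper1.RP.liftEmb u pL chartL a.1.1 a.1.2 _ (hV a)
        (Groth.Agent.Helper1.PT.Xw_le _) a.2.2.2.1 ((v.hom.app (op a.1.1)).hom a.2.2.1)
        (hv a.1.1 a.1.2 a.2.1 a.2.2.1 a.2.2.2.2.1))
      (fun a : ι => Proj.awayι (𝒮.deg a.1.1 a.1.2) ((v.hom.app (op a.1.1)).hom a.2.2.1)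
        (hv a.1.1 a.1.2 a.2.1 a.2.2.1 a.2.2.2.2.1) a.2.2.2.1 ≫ RelProj.emb p chart a.1.1 a.1.2)
    · intro a
      exact Groth.Agent.Helper1.RP.liftEmb_r hr a.1.1 a.1.2 _ (hV a) _ a.2.2.2.1 _ _
    · intro a
      exact Groth.Agent.Helper1.IM.preimage_chart u hj hL hP hPL hr a.1.1 a.1.2 a.2.2.2.1 _
        (hv a.1.1 a.1.2 a.2.1 a.2.2.1 a.2.2.2.2.1) _ (hV a) _ (hXw a)
    · intro x
      have key : ∀ a : ι, pL ((RelProj.domQ u pL chartL).ι x) ∈ Groth.Agent.Helper1.PT.Xw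
          (Groth.Agent.Helper1.PT.famOf u' a.1.1 a.1.2 a.2.2.1 a.2.2.2.2.1) →
          x ∈ (Groth.Agent.Helper1.RP.liftEmb u pL chartL a.1.1 a.1.2 _ (hV a)
            (Groth.Agent.Helper1.PT.Xw_le _) a.2.2.2.1 ((v.hom.app (op a.1.1)).hom a.2.2.1)
            (hv a.1.1 a.1.2 a.2.1 a.2.2.1 a.2.2.2.2.1)).opensRange := by
        intro a hx
        exact Groth.Agent.Helper1.IM.mem_opensRange_liftEmb u hj hL hP hPL hr a.1.1 a.1.2 a.2.2.2.1 _
          (hv a.1.1 a.1.2 a.2.1 a.2.2.1 a.2.2.2.2.1) _ (hV a) _ (hXw a) x hx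
      have h0 := hcover (pL ((RelProj.domQ u pL chartL).ι x))
      obtain ⟨U, hU, n, hn, t, ht, hC, hx⟩ := h0
      refine ⟨⟨⟨U, hU⟩, n, t, hn, ht, hC⟩, ?_⟩
      have h1 := key ⟨⟨U, hU⟩, n, t, hn, ht, hC⟩
      have h2 := h1 hx
      exact h2
    · intro a
      exact isIso_SpecMap_iff.mpr (hbij a)
  · intro hcl
    haveI := hcl
    have hco : ∀ W : P'.Opens, W ≤ r'.coborderRange := by
      intro W x _
      show x ∈ coborder (Set.range r')
      rw [(r'.isClosedEmbedding.isClosed_range).coborder_eq]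
      trivial
    let ι : Type u := Σ (U : {U : Y.Opens // IsAffineOpen U}), Σ (d : ℕ),
      {t : 𝒯.presheaf.obj (op U.1) // 0 < d ∧ t ∈ 𝒯.deg U.1 U.2 d}
    choose hV hXw hsurj using fun a : ι =>
      Groth.Agent.Helper1.IM.comp_chart_closed u v hv u' hu' hj hL hP' hPL hr' a.1.1 a.1.2
        a.2.2.2.1 a.2.2.1 a.2.2.2.2 (hco _)
    apply Groth.Agent.Helper1.IM.of_charts r
      (fun a : ι => Spec.map (CommRingCat.ofHom
        (HomogeneousLocalization.Away.map (u.gradedAt a.1.1 a.1.2 _ (hV a)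
          (Groth.Agent.Helper1.PT.Xw_le _)) ((v.hom.app (op a.1.1)).hom a.2.2.1))))
      (fun a : ι => Groth.Agent.Helper1.RP.liftEmb u pL chartL a.1.1 a.1.2 _ (hV a)
        (Groth.Agent.Helper1.PT.Xw_le _) a.2.2.2.1 ((v.hom.app (op a.1.1)).hom a.2.2.1)
        (hv a.1.1 a.1.2 a.2.1 a.2.2.1 a.2.2.2.2))
      (fun a : ι => Proj.awayι (𝒮.deg a.1.1 a.1.2) ((v.hom.app (op a.1.1)).hom a.2.2.1)
        (hv a.1.1 a.1.2 a.2.1 a.2.2.1 a.2.2.2.2) a.2.2.2.1 ≫ RelProj.emb p chart a.1.1 a.1.2)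
      @IsClosedImmersion
    · intro a
      exact Groth.Agent.Helper1.RP.liftEmb_r hr a.1.1 a.1.2 _ (hV a) _ a.2.2.2.1 _ _
    · intro a
      exact Groth.Agent.Helper1.IM.preimage_chart u hj hL hP hPL hr a.1.1 a.1.2 a.2.2.2.1 _
        (hv a.1.1 a.1.2 a.2.1 a.2.2.1 a.2.2.2.2) _ (hV a) _ (hXw a)
    · intro x
      obtain ⟨U, hU, d, hd, t, ht, hvt, hx⟩ :=
        Groth.Agent.Helper1.IM.exists_chart_comp (p := p) (chart := chart) v hTN x
      refine ⟨⟨⟨U, hU⟩, d, t, hd, ht⟩, ?_⟩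
      have h1 := Groth.Agent.Helper1.IM.opensRange_chartP (p := p) (chart := chart) U hU hd
        ((v.hom.app (op U)).hom t) (hv U hU d t ht)
      have h2 : x ∈ (Proj.awayι (𝒮.deg U hU) ((v.hom.app (op U)).hom t) (hv U hU d t ht) hd ≫
          RelProj.emb p chart U hU).opensRange := by
        rw [h1]; exact hx
      exact h2
    · intro a
      exact IsClosedImmersion.spec_of_surjective _ (hsurj a)

end Groth.Agent.S12154
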