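import Groth.Statements.S12161
import Groth.Agent.Helper1.IM14
import Groth.Agent.S12153

set_option autoImplicit false
universe u
open CategoryTheory CategoryTheory.Limits AlgebraicGeometry TopologicalSpace Opposite
open scoped HomogeneousIdeal
noncomputable section
open EGA2

namespace Groth.Agent.S12161

/-- Let Y be a quasi-compact scheme, q : X → Y a quasi-compact morphism, L an invertible O_X-module with
𝒮L = ⊕ L^{⊗n} (whose Proj is X), 𝒮 = colim 𝒮^i a filtered colimit of quasi-coherent positively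
graded O_Y-algebras along graded homomorphisms φ_i : 𝒮^i → 𝒮 (colimit taken on sections over affine
opens), ψ♭ = u : 𝒮 → q_*𝒮L a graded q-morphism and ψ_i♭ = u ∘ φ_i, with q of finite type; let r =
r_{L,ψ} : G(ψ) → Proj(𝒮) and r_i = r_{L,ψ_i} : G(ψ_i) → Proj(𝒮^i). Then r is everywhere defined and
an immersion if and only if some r_i is, and then so is r_j for all j ≥ i. -/
theorem result {Y X P PL : Scheme.{u}} (q : X ⟶ Y)
    (L : X.Modules) (hL : PicF.IsInvertible L) (hLq : Coh.IsQCoh L)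
    (𝒮 : RelProj.QCGrAlg Y) (𝒮L : RelProj.QCGrAlg X) (j : L ⟶ 𝒮L.toModule) (hj : RelProj.IsGrSymAlg L 𝒮L j)
    (u : RelProj.QGrHom q 𝒮 𝒮L)
    (p : P ⟶ Y) (chart : ∀ (U : Y.Opens) (hU : IsAffineOpen U), (((p ⁻¹ᵁ U : P.Opens) : Scheme.{u}) ≅ Proj (𝒮.deg U hU)))
    (hP : RelProj.IsRelProj 𝒮 p chart)
    (pL : PL ⟶ X) (chartL : ∀ (U : X.Opens) (hU : IsAffineOpen U), (((pL ⁻¹ᵁ U : PL.Opens) : Scheme.{u}) ≅ Proj (𝒮L.deg U hU)))
    (hPL : RelProj.IsRelProj 𝒮L pL chartL)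
    [CompactSpace Y] [QuasiCompact q] [LocallyOfFiniteType q]
    (r : ((RelProj.domQ u pL chartL : PL.Opens) : Scheme.{u}) ⟶ P)
    (hr : RelProj.IsProjQMapOn u p chart pL chartL (RelProj.domQ u pL chartL) r)
    (Λ : Type u) [Preorder Λ] [IsDirected Λ (· ≤ ·)] [Nonempty Λ]
    (𝒮i : Λ → RelProj.QCGrAlg Y) (φ : ∀ i, (𝒮i i).toQCAlg ⟶ 𝒮.toQCAlg) (hφ : ∀ i, RelProj.IsGradedHom (φ i))
    (t : ∀ i j, i ≤ j → ((𝒮i i).toQCAlg ⟶ (𝒮i j).toQCAlg)) (ht : ∀ i j (h : i ≤ j), RelProj.IsGradedHom (t i j h))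
    (hφt : ∀ i j (h : i ≤ j), t i j h ≫ φ j = φ i)
    (hsurj : ∀ (U : Y.Opens), IsAffineOpen U → ∀ x : 𝒮.presheaf.obj (op U),
      ∃ (i : Λ) (y : (𝒮i i).presheaf.obj (op U)), ((φ i).hom.app (op U)).hom y = x)
    (hker : ∀ (U : Y.Opens), IsAffineOpen U → ∀ (i : Λ) (y : (𝒮i i).presheaf.obj (op U)),
      ((φ i).hom.app (op U)).hom y = 0 → ∃ (j : Λ) (h : i ≤ j), ((t i j h).hom.app (op U)).hom y = 0)
    (ui : ∀ i, RelProj.QGrHom q (𝒮i i) 𝒮L) (hui : ∀ i (U : Y.Opens), (ui i).app U = (φ i).hom.app (op U) ≫ u.app U)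
    (Pi : Λ → Scheme.{u}) (pi : ∀ i, Pi i ⟶ Y)
    (charti : ∀ i (U : Y.Opens) (hU : IsAffineOpen U), ((((pi i) ⁻¹ᵁ U : (Pi i).Opens) : Scheme.{u}) ≅ Proj ((𝒮i i).deg U hU)))
    (hPi : ∀ i, RelProj.IsRelProj (𝒮i i) (pi i) (charti i))
    (ri : ∀ i, ((RelProj.domQ (ui i) pL chartL : PL.Opens) : Scheme.{u}) ⟶ Pi i)
    (hri : ∀ i, RelProj.IsProjQMapOn (ui i) (pi i) (charti i) pL chartL (RelProj.domQ (ui i) pL chartL) (ri i)) :
    ((RelProj.domQ u pL chartL = ⊤ ∧ IsImmersion r) ↔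
        ∃ i, RelProj.domQ (ui i) pL chartL = ⊤ ∧ IsImmersion (ri i)) ∧
      ∀ i, (RelProj.domQ (ui i) pL chartL = ⊤ ∧ IsImmersion (ri i)) →
        ∀ j, i ≤ j → RelProj.domQ (ui j) pL chartL = ⊤ ∧ IsImmersion (ri j) := by
  haveI : L.IsQuasicoherent := hLq
  haveI : CompactSpace X := QuasiCompact.compactSpace_of_compactSpace q
  have huij : ∀ i j (h : i ≤ j) (U : Y.Opens),
      (ui i).app U = (t i j h).hom.app (op U) ≫ (ui j).app U := by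
    intro i j h U
    rw [hui i, hui j, ← Category.assoc]
    congr 1
    have := congrArg (fun ψ : (𝒮i i).toQCAlg ⟶ 𝒮.toQCAlg => ψ.hom.app (op U)) (hφt i j h)
    exact this.symm
  have hup : ∀ i, (RelProj.domQ (ui i) pL chartL = ⊤ ∧ IsImmersion (ri i)) →
      (RelProj.domQ u pL chartL = ⊤ ∧ IsImmersion r) := fun i h =>
    Groth.Agent.S12153.result q L hL hLq 𝒮 𝒮L j hj u p chart hP pL chartL hPL r hr (𝒮i i) (φ i)
      (hφ i) (ui i) (hui i) (pi i) (charti i) (hPi i) (ri i) (hri i) h.1 h.2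
  have hmono : ∀ i₁ i₂ (h : i₁ ≤ i₂),
      (RelProj.domQ (ui i₁) pL chartL = ⊤ ∧ IsImmersion (ri i₁)) →
      (RelProj.domQ (ui i₂) pL chartL = ⊤ ∧ IsImmersion (ri i₂)) := fun i₁ i₂ hij h =>
    Groth.Agent.S12153.result q L hL hLq (𝒮i i₂) 𝒮L j hj (ui i₂) (pi i₂) (charti i₂) (hPi i₂) pL
      chartL hPL (ri i₂) (hri i₂) (𝒮i i₁) (t i₁ i₂ hij) (ht i₁ i₂ hij) (ui i₁) (huij i₁ i₂ hij)
      (pi i₁) (charti i₁) (hPi i₁) (ri i₁) (hri i₁) h.1 h.2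
  refine ⟨⟨?_, fun ⟨i, hi⟩ => hup i hi⟩, fun i₁ hi i₂ hij => hmono i₁ i₂ hij hi⟩
  rintro ⟨hdom, himm⟩
  haveI := himm
  obtain ⟨κ, hκ, U, hU, n, hn, s, hs, hcov, hV, hG⟩ :=
    Groth.Agent.Helper1.IM.exists_finite_family u hj hL hP hPL hr hdom
  haveI := hκ
  choose G hGadj hGfrac using hG
  have hw : ∀ (a : Σ k : κ, {τ // τ ∈ G k}), ∃ (m : ℕ) (_ : 0 < m)
      (s' : 𝒮.presheaf.obj (op (U a.1))) (_ : s' ∈ 𝒮.deg (U a.1) (hU a.1) (m * n a.1)),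
      (𝒮L.str.app (op _)).hom a.2.1 *
        ((u.appLE (U a.1) _ (Groth.Agent.Helper1.PT.Xw_le _)).hom (s a.1)) ^ m =
        (u.appLE (U a.1) _ (Groth.Agent.Helper1.PT.Xw_le _)).hom s' :=
    fun a => hGfrac a.1 a.2.1 a.2.2
  choose m hm s' hs' he using hw
  obtain ⟨i, h₁, h₂⟩ := Groth.Agent.Helper1.IM.exists_common_lift₂ 𝒮i φ hφ t ht hφt hsurj
    U hU n s hs (fun a : Σ k : κ, {τ // τ ∈ G k} => U a.1) (fun a => hU a.1)
    (fun a => m a * n a.1) s' hs'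
  have h₁' : ∀ k, ∃ y, y ∈ (𝒮i i).deg (U k) (hU k) (n k) ∧
      ((φ i).hom.app (op (U k))).hom y = s k := fun k => by
    obtain ⟨y, hy, hyx⟩ := h₁ k
    exact ⟨y, hy, hyx⟩
  choose tk htk htks using h₁'
  have hXw : ∀ k, Groth.Agent.Helper1.PT.Xw
      (Groth.Agent.Helper1.PT.famOf (ui i) (U k) (hU k) (tk k) (htk k)) =
      Groth.Agent.Helper1.PT.Xw (Groth.Agent.Helper1.PT.famOf u (U k) (hU k) (s k) (hs k)) :=
    fun k => Groth.Agent.Helper1.IM.Xw_famOf_comp_eq u (U k) (hU k) (s k) (hs k) (φ i) (ui i)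
      (hui i) (tk k) (htk k) (htks k)
  have claim : ∀ (k : κ) (V : X.Opens)
      (_ : V = Groth.Agent.Helper1.PT.Xw
        (Groth.Agent.Helper1.PT.famOf u (U k) (hU k) (s k) (hs k)))
      (hT : V ≤ q ⁻¹ᵁ U k) (τ : Γ(X, V)),
      Groth.Agent.Helper1.IM.IsFrac (ui i) (U k) (hU k) (n k) (tk k) V hT τ := by
    intro k V hVV hT τ
    subst hVV
    have hadj := hGadj k
    refine Groth.Agent.Helper1.IM.isFrac_of_adjoin (ui i) (U k) (hU k) (tk k) (htk k) _ hT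
      (G k : Set _) ?_ ?_ τ
    · exact hadj
    intro τ' hτ'
    obtain ⟨t', ht', ht's⟩ := h₂ ⟨k, τ', hτ'⟩
    apply Groth.Agent.Helper1.IM.isFrac_comp u (U k) (hU k) _ hT (φ i) (ui i) (hui i) (tk k) τ'
    refine ⟨m ⟨k, τ', hτ'⟩, hm ⟨k, τ', hτ'⟩, t', ht', ?_⟩
    rw [htks k, ht's]
    exact he ⟨k, τ', hτ'⟩
  refine ⟨i, Groth.Agent.Helper1.IM.isImmersion_of_family (ui i) hj hL (hPi i) hPL (hri i)
    U hU n hn tk htk ?_ ?_ ?_⟩
  · intro x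
    obtain ⟨k, hk⟩ := hcov x
    exact ⟨k, by rw [hXw k]; exact hk⟩
  · intro k
    rw [hXw k]; exact hV k
  · intro k τ
    exact claim k _ (hXw k) _ τ

end Groth.Agent.S12161
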