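import Groth.Statements.S12163
import Groth.Agent.Helper1.RP15

set_option autoImplicit false
universe u
open CategoryTheory CategoryTheory.Limits AlgebraicGeometry TopologicalSpace Opposite
open scoped HomogeneousIdeal
noncomputable section
open EGA2

namespace Groth.Agent.S12163

/-- Let φ : 𝒜 → ℬ be a graded homomorphism of quasi-coherent positively graded O_Y-algebras and PB =
Proj(ℬ) with its charts. If every point of Y has an affine neighbourhood U over which the irrelevant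
ideal of ℬ(U) is contained in the ideal generated by φ(𝒜(U)_+), then the open of definition G(φ) of
Proj(φ) is all of PB. (The published condition asks 𝒮_+ to be generated by the image as a module
over the functions on U; generation as an ideal, used here, is implied by it.) -/
theorem result {Y PB : Scheme.{u}} (𝒜 ℬ : RelProj.QCGrAlg Y)
    (φ : 𝒜.toQCAlg ⟶ ℬ.toQCAlg) (hφ : RelProj.IsGradedHom φ)
    (pB : PB ⟶ Y) (chartB : ∀ (U : Y.Opens) (hU : IsAffineOpen U), (((pB ⁻¹ᵁ U : PB.Opens) : Scheme.{u}) ≅ Proj (ℬ.deg U hU)))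
    (hB : RelProj.IsRelProj ℬ pB chartB)
    (hcov : ∀ y : Y, ∃ (U : Y.Opens) (hU : IsAffineOpen U), y ∈ U ∧
      (ℬ.deg U hU)₊ ≤ ((𝒜.deg U hU)₊).map (RelProj.gradedHomAt φ hφ U hU)) :
    RelProj.domQ (RelProj.QGrHom.ofHom φ hφ) pB chartB = ⊤ := by
  open Groth.Agent.Helper1.RP in
  rw [_root_.eq_top_iff]
  intro x _
  obtain ⟨U, hU, hxU, hirr⟩ := hcov (pB x)
  have hx : x ∈ pB ⁻¹ᵁ U := hxU
  unfold RelProj.domQ
  refine Opens.mem_iSup.mpr ⟨⟨(⟨U, hU⟩, ⟨U, hU⟩), le_rfl⟩, ?_⟩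
  refine ⟨(chartB U hU).hom ⟨x, hx⟩, ?_, emb_chart_hom pB chartB U hU x hx⟩
  have h1 : RelCone.domOpen ((RelProj.QGrHom.ofHom φ hφ).gradedAt U hU U hU le_rfl) = ⊤ := by
    rw [gradedAt_ofHom_self]
    exact domOpen_eq_top_of_le _ hirr
  show (chartB U hU).hom ⟨x, hx⟩ ∈
    RelCone.domOpen ((RelProj.QGrHom.ofHom φ hφ).gradedAt U hU U hU le_rfl)
  rw [h1]
  trivial

end Groth.Agent.S12163
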