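import Groth.Statements.S12166
import Groth.Agent.Helper1.RP16
import Groth.Agent.Helper1.RP11

set_option autoImplicit false
universe u
open CategoryTheory CategoryTheory.Limits AlgebraicGeometry TopologicalSpace Opposite
open scoped HomogeneousIdeal
noncomputable section
open EGA2

namespace Groth.Agent.S12166

/-- Let φ : 𝒜 → ℬ be a graded homomorphism of quasi-coherent positively graded O_Y-algebras which is a
(TN)-isomorphism (φ : 𝒜_k → ℬ_k bijective for all large k, on sections over affine opens), PA =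
Proj(𝒜), PB = Proj(ℬ) with their charts. Then Proj(φ) is defined on all of PB and is an isomorphism
PB → PA. -/
theorem result {Y PA PB : Scheme.{u}} (𝒜 ℬ : RelProj.QCGrAlg Y)
    (φ : 𝒜.toQCAlg ⟶ ℬ.toQCAlg) (hφ : RelProj.IsGradedHom φ)
    (hTN : ∃ n : ℕ, ∀ k, n ≤ k → ∀ (U : Y.Opens) (hU : IsAffineOpen U),
      (∀ x ∈ 𝒜.deg U hU k, (φ.hom.app (op U)).hom x = 0 → x = 0) ∧
        ∀ y ∈ ℬ.deg U hU k, ∃ x ∈ 𝒜.deg U hU k, (φ.hom.app (op U)).hom x = y)
    (pA : PA ⟶ Y) (chartA : ∀ (U : Y.Opens) (hU : IsAffineOpen U), (((pA ⁻¹ᵁ U : PA.Opens) : Scheme.{u}) ≅ Proj (𝒜.deg U hU)))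
    (hA : RelProj.IsRelProj 𝒜 pA chartA)
    (pB : PB ⟶ Y) (chartB : ∀ (U : Y.Opens) (hU : IsAffineOpen U), (((pB ⁻¹ᵁ U : PB.Opens) : Scheme.{u}) ≅ Proj (ℬ.deg U hU)))
    (hB : RelProj.IsRelProj ℬ pB chartB) :
    RelProj.domQ (RelProj.QGrHom.ofHom φ hφ) pB chartB = ⊤ ∧
      ∀ h : PB ⟶ PA, RelProj.IsProjQMap (RelProj.QGrHom.ofHom φ hφ) pA chartA pB chartB h → IsIso h := by
  open Groth.Agent.Helper1.RP in
  obtain ⟨n, hn⟩ := hTN
  have hsurj : ∀ (U : Y.Opens) (hU : IsAffineOpen U) (k : ℕ), n ≤ k → ∀ y ∈ ℬ.deg U hU k,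
      ∃ x ∈ 𝒜.deg U hU k, ψU φ hφ U hU x = y := by
    intro U hU k hk y hy
    obtain ⟨x, hx, hxy⟩ := (hn k hk U hU).2 y hy
    exact ⟨x, hx, (ψU_apply φ hφ U hU x).trans hxy⟩
  have hinj : ∀ (U : Y.Opens) (hU : IsAffineOpen U) (k : ℕ), n ≤ k → ∀ x ∈ 𝒜.deg U hU k,
      ψU φ hφ U hU x = 0 → x = 0 := by
    intro U hU k hk x hx hx0
    exact (hn k hk U hU).1 x hx ((ψU_apply φ hφ U hU x).symm.trans hx0)
  have hdom : ∀ (U : Y.Opens) (hU : IsAffineOpen U), RelCone.domOpen (ψU φ hφ U hU) = ⊤ :=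
    fun U hU => domOpen_eq_top_of_TN _ n (hsurj U hU)
  refine ⟨domQ_eq_top_of_domOpen hdom, ?_⟩
  intro h hh
  refine projQMap_of_away (MorphismProperty.isomorphisms Scheme.{u}) hA hB hdom h hh ?_
  intro U hU d hd f hf
  have hb : Function.Bijective (HomogeneousLocalization.Away.map (ψU φ hφ U hU) f) :=
    ⟨away_map_injective_of_TN (ψU φ hφ U hU) n (hinj U hU) hd f hf,
      away_map_surjective_of_TN (ψU φ hφ U hU) n (hsurj U hU) hd f hf⟩
  have : IsIso (CommRingCat.ofHom (HomogeneousLocalization.Away.map (ψU φ hφ U hU) f)) :=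
    (ConcreteCategory.isIso_iff_bijective _).2 hb
  show IsIso (Spec.map (CommRingCat.ofHom (HomogeneousLocalization.Away.map (ψU φ hφ U hU) f)))
  infer_instance

end Groth.Agent.S12166
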