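import Groth.Statements.S1217
import Mathlib
import Groth.Agent.Helper9.PQF6
import Groth.Agent.Helper9.PQF8
import Groth.Agent.Helper9.PQF10
-- import your own Groth.Agent.* helpers here

set_option autoImplicit false
universe u
open FlatMor

namespace Groth.Agent.S1217

open TensorProduct

attribute [local instance] Algebra.TensorProduct.rightAlgebra

/-- Ring form, X = Spec B affine: let B be a finite type A-algebra, N a finite B-module, p a prime of A,
and A' an A-algebra with a prime p' over p such that the local ring of A' at p' is flat over A. Let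
B', N' be the base changes of B, N to A'. If N' is pure along the fibre over p' then N is pure along
the fibre over p, and likewise for universal purity. -/
theorem result {A B : Type u} [CommRing A] [CommRing B] [Algebra A B] [Algebra.FiniteType A B]
    (N : Type u) [AddCommGroup N] [Module B N] [Module.Finite B N] (p : Ideal A) [p.IsPrime]
    (A' B' N' : Type u) [CommRing A'] [CommRing B'] [Algebra A A'] [Algebra B B'] [Algebra A' B'] [Algebra A B']
    [IsScalarTower A B B'] [IsScalarTower A A' B'] [Algebra.IsPushout A B A' B']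
    [AddCommGroup N'] [Module B' N'] [Module B N'] [IsScalarTower B B' N'] (f : N →ₗ[B] N') (hf : IsBaseChange B' f)
    (p' : Ideal A') [p'.IsPrime] [p'.LiesOver p] [Module.Flat A (Localization.AtPrime p')] :
    (FlatCA.IsPureAlong A' B' N' p' → FlatCA.IsPureAlong A B N p) ∧
    (FlatCA.IsUnivPureAlong A' B' N' p' → FlatCA.IsUnivPureAlong A B N p) := by
  have hpo : Algebra.IsPushout A B A' B' := inferInstance
  constructor
  · intro hpure' A₁ B₁ N₁ _ _ _ _ _ _ _ _ _ _ _ _ _ _ f₁ t₁' t₁ _ _ P _ hnhd himp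
    obtain ⟨het, hlo, hbij⟩ := hnhd
    haveI := hlo
    obtain ⟨t₂, ht₂p, ht₂o, ht₂c⟩ := Groth.Agent.Helper9.PQF6.exists_prime_over
      (A' := A) (A'' := A') (B' := A₁) (B'' := A₁ ⊗[A] A') inferInstance p p' t₁
    haveI := ht₂p
    have h₂₁ : t₂.LiesOver t₁ := ⟨ht₂c.symm⟩
    apply Groth.Agent.Helper9.PQF10.false_of_isImpurity_tensor p hpo f hf p' f₁ t₁' t₁ P t₂
      himp h₂₁ ht₂o
    intro B₂ N₂ _ _ _ _ _ _ _ _ _ _ _ _ g t₂' _ P₂ _
    haveI := het
    exact hpure' (A₁ ⊗[A] A') B₂ N₂ g t₂' t₂ P₂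
      ⟨Groth.Agent.Helper9.PQF8.etale_right, ht₂o,
        Groth.Agent.Helper9.PQF8.residue_bijective p t₁ p' t₂ hlo inferInstance h₂₁ ht₂o hbij⟩
  · intro huniv' A₁ B₁ N₁ _ _ _ _ _ _ _ _ _ _ _ _ _ _ f₁ t₁' t₁ _ _ P _ himp
    haveI hlo : t₁.LiesOver p := himp.2.2.2.1
    obtain ⟨t₂, ht₂p, ht₂o, ht₂c⟩ := Groth.Agent.Helper9.PQF6.exists_prime_over
      (A' := A) (A'' := A') (B' := A₁) (B'' := A₁ ⊗[A] A') inferInstance p p' t₁
    haveI := ht₂p
    have h₂₁ : t₂.LiesOver t₁ := ⟨ht₂c.symm⟩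
    apply Groth.Agent.Helper9.PQF10.false_of_isImpurity_tensor p hpo f hf p' f₁ t₁' t₁ P t₂
      himp h₂₁ ht₂o
    intro B₂ N₂ _ _ _ _ _ _ _ _ _ _ _ _ g t₂' _ P₂ _
    exact huniv' (A₁ ⊗[A] A') B₂ N₂ g t₂' t₂ P₂

end Groth.Agent.S1217
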