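import Groth.Statements.S12209
import Mathlib.Tactic
import Mathlib.RingTheory.Flat.EquationalCriterion

set_option autoImplicit false
universe u
open CAlg

namespace Groth.Agent.S12209

/-- Let (R_i) be a system of commutative rings over a nonempty directed preorder, with colimit R, and
let M be an R-module which is flat as an R_i-module for every i (the R_i-module structure being
restriction of scalars along R_i → R). Then M is flat as an R-module. -/
theorem result {ι : Type u} [Preorder ι] [Nonempty ι] [IsDirectedOrder ι]
    (G : ι → Type u) [∀ i, CommRing (G i)] (f : ∀ i j, i ≤ j → G i →+* G j)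
    [DirectedSystem G fun i j h => f i j h]
    (M : Type u) [AddCommGroup M] [Module (Ring.DirectLimit G fun i j h => f i j h) M]
    (hflat : ∀ i, letI : Module (G i) M := Module.compHom M (Ring.DirectLimit.of G (fun i j h => f i j h) i);
      Module.Flat (G i) M) :
    Module.Flat (Ring.DirectLimit G fun i j h => f i j h) M := by
  classical
  rw [Module.Flat.iff_forall_isTrivialRelation]
  intro l r x hrx
  choose idx s hs using fun k => Ring.DirectLimit.exists_of (r k)
  obtain ⟨j, hj⟩ := Finset.exists_le (Finset.univ.image idx)
  have hle : ∀ k, idx k ≤ j := fun k => hj _ (Finset.mem_image_of_mem _ (Finset.mem_univ k))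
  have hs' : ∀ k, Ring.DirectLimit.of G (fun i j h => f i j h) j (f (idx k) j (hle k) (s k)) = r k := fun k => by
    rw [Ring.DirectLimit.of_f, hs]
  letI : Module (G j) M := Module.compHom M (Ring.DirectLimit.of G (fun i j h => f i j h) j)
  haveI : Module.Flat (G j) M := hflat j
  have hrel : ∑ k, (f (idx k) j (hle k) (s k)) • x k = 0 := by
    rw [← hrx]
    refine Finset.sum_congr rfl fun k _ => ?_
    show Ring.DirectLimit.of G (fun i j h => f i j h) j (f (idx k) j (hle k) (s k)) • x k = r k • x k
    rw [hs']
  obtain ⟨m, a, y, hxy, hay⟩ := Module.Flat.isTrivialRelation_of_sum_smul_eq_zero hrel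
  refine ⟨m, fun k t => Ring.DirectLimit.of G (fun i j h => f i j h) j (a k t), y, fun k => ?_, fun t => ?_⟩
  · rw [hxy k]
    rfl
  · have := congrArg (Ring.DirectLimit.of G (fun i j h => f i j h) j) (hay t)
    rw [map_sum, map_zero] at this
    simp only [map_mul, hs'] at this
    exact this

end Groth.Agent.S12209
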