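import Groth.Statements.S12216
import Mathlib
import Groth.Agent.S0200

set_option autoImplicit false
universe u v w
open scoped TensorProduct
open Curves

namespace Groth.Agent.S12216

/-- (1) ⇔ (3): a K-algebra A is finite central simple over the field K (finite-dimensional, with centre
K and no non-trivial two-sided ideals) if and only if, for an algebraic closure K̄ of K, the
K̄-algebra K̄ ⊗_K A is isomorphic to a matrix algebra Mat(d × d, K̄) for some d ≥ 1. -/
theorem result (K : Type u) [Field K] (A : Type v) [Ring A] [Algebra K A] :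
    (Algebra.IsCentral K A ∧ IsSimpleRing A ∧ FiniteDimensional K A) ↔
      Curves.Splits K A (AlgebraicClosure K) := by
  constructor
  · rintro ⟨hc, hs, hf⟩
    have h1 : Algebra.IsCentral (AlgebraicClosure K) ((AlgebraicClosure K) ⊗[K] A) :=
      Groth.Agent.Lead.CSA.isCentral_baseChange K (AlgebraicClosure K) A
    have h2 : IsSimpleRing ((AlgebraicClosure K) ⊗[K] A) :=
      Groth.Agent.S0190.result K (AlgebraicClosure K) A
    exact Groth.Agent.Lead.CSA.exists_algEquiv_matrix_of_isSepClosed (AlgebraicClosure K)
      ((AlgebraicClosure K) ⊗[K] A)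
  · rintro ⟨n, hn, ⟨e⟩⟩
    have : NeZero n := ⟨hn⟩
    have h0 : Algebra.IsCentral (AlgebraicClosure K) (Matrix (Fin n) (Fin n) (AlgebraicClosure K)) :=
      inferInstance
    have h1 : Algebra.IsCentral (AlgebraicClosure K) ((AlgebraicClosure K) ⊗[K] A) :=
      Groth.Agent.S0200.isCentral_of_algEquiv' e
    have h2 : IsSimpleRing ((AlgebraicClosure K) ⊗[K] A) :=
      IsSimpleRing.of_ringEquiv e.symm.toRingEquiv inferInstance
    have h3 : Module.Finite (AlgebraicClosure K) ((AlgebraicClosure K) ⊗[K] A) :=
      Module.Finite.equiv e.symm.toLinearEquiv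
    exact ⟨Groth.Agent.Lead.CSA.isCentral_of_baseChange K (AlgebraicClosure K) A h1,
      Groth.Agent.Lead.CSA.isSimpleRing_of_baseChange K (AlgebraicClosure K) A h2,
      Groth.Agent.Lead.CSA.finite_of_baseChange K (AlgebraicClosure K) A h3⟩

end Groth.Agent.S12216
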