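import Groth.Statements.S12219

set_option autoImplicit false
universe v u
open CategoryTheory
open Cat

namespace Groth.Agent.S12219

theorem result {I : Type u} [Category.{v} I]
    (h : ∀ ⦃x y z : I⦄ (f : x ⟶ y) (g : x ⟶ z), ∃ (w : I) (a : y ⟶ w) (b : z ⟶ w), f ≫ a = g ≫ b)
    (x y : I) :
    Zigzag x y ↔ ∃ z : I, Nonempty (x ⟶ z) ∧ Nonempty (y ⟶ z) := by
  constructor
  · intro hz
    induction hz with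
    | refl => exact ⟨x, ⟨𝟙 x⟩, ⟨𝟙 x⟩⟩
    | tail _ hzag ih =>
      obtain ⟨z, ⟨f⟩, ⟨g⟩⟩ := ih
      rcases hzag with ⟨⟨k⟩⟩ | ⟨⟨k⟩⟩
      · -- k : b ⟶ c, g : b ⟶ z
        obtain ⟨w, a, b, _⟩ := h g k
        exact ⟨w, ⟨f ≫ a⟩, ⟨b⟩⟩
      · -- k : c ⟶ b
        exact ⟨z, ⟨f⟩, ⟨k ≫ g⟩⟩
  · rintro ⟨z, ⟨f⟩, ⟨g⟩⟩
    exact Zigzag.of_hom_inv f g

end Groth.Agent.S12219
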