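import Groth.Statements.S12249
import Groth.Agent.Helper6.ArtFunMinimal
import Groth.Agent.Helper6.ArtFunFibre

set_option autoImplicit false
universe u v
open CategoryTheory
open Deform

namespace Groth.Agent.S12249

open ArtFun ArtFun.Art IsLocalRing Groth.Agent.Helper6 in
theorem maximalIdeal_eq_bot_of_subsingleton_tangent {k : Type u} [Field k] (R : ArtFun.CRing k k)
    (h : Subsingleton (ArtFun.HomSet R.carrier R.res (ArtFun.Art.dual k k))) :
    maximalIdeal R.carrier = ⊥ := by
  have hsq : maximalIdeal R.carrier ^ 2 = maximalIdeal R.carrier := by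
    by_contra hne
    let _ : Algebra R.carrier k := R.res.toRingHom.toAlgebra
    have : IsScalarTower k R.carrier k := IsScalarTower.of_algebraMap_eq fun a => (R.res.commutes a).symm
    have hres : Function.Surjective (algebraMap R.carrier k) := R.res_surjective
    let f : k →ₐ[k] R.carrier := Algebra.ofId k R.carrier
    have hρ : Function.Surjective fun r => algebraMap R.carrier k (f r) := by
      intro c
      refine ⟨c, ?_⟩
      exact R.res.commutes c
    have hker : RingHom.ker ((algebraMap R.carrier k).comp (f : k →+* R.carrier)) = ⊥ := by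
      rw [RingHom.ker_eq_bot_iff_eq_zero]
      intro x hx
      have : (algebraMap R.carrier k) (f x) = x := R.res.commutes x
      rw [← this]
      exact hx
    have hJ : Ideal.map f (RingHom.ker ((algebraMap R.carrier k).comp (f : k →+* R.carrier))) ⊔
        maximalIdeal R.carrier ^ 2 ≠ maximalIdeal R.carrier := by
      rw [hker, Ideal.map_bot, bot_sup_eq]
      exact hne
    obtain ⟨D, hD0, _⟩ := exists_derivation_vanishing_on_range hres f hρ hJ
    apply hD0
    apply Derivation.ext
    intro r
    have h1 : homSetOfDerivation R D = homSetOfDerivation R 0 := Subsingleton.elim _ _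
    have h3 := homSetOfDerivation_snd R D r
    have h4 := homSetOfDerivation_snd R 0 r
    rw [h1] at h3
    rw [← h3, h4]
  have hle : maximalIdeal R.carrier ≤ maximalIdeal R.carrier • maximalIdeal R.carrier := by
    rw [smul_eq_mul, ← pow_two, hsq]
  exact Submodule.eq_bot_of_le_smul_of_le_jacobson_bot (maximalIdeal R.carrier) (maximalIdeal R.carrier)
    (IsNoetherian.noetherian _) hle (by rw [jacobson_eq_maximalIdeal ⊥ bot_ne_top])


/-- Let k be an algebraically closed field and F a set-valued functor on local Artinian k-algebras with
residue field k such that F(k) is a single point. If F has a semiuniversal formal element and its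
tangent space F(k[ε]) is reduced to one element, then F(A) consists of exactly one element for every
A: F is the constant one-point functor h_k. -/
theorem result
    {k : Type u} [Field k] [IsAlgClosed k]
    (F : ArtFun.Art k k ⥤ Type v) (h0 : ArtFun.H0 F) (hF : ArtFun.HasHull F)
    (ht : Subsingleton (ArtFun.TangentSpace F)) (A : ArtFun.Art k k) :
    Nonempty (F.obj A) ∧ Subsingleton (F.obj A) := by
  obtain ⟨H⟩ := hF
  obtain ⟨hver, hbij⟩ := H.miniversal
  have hsub : Subsingleton (ArtFun.HomSet H.ring.carrier H.ring.res (ArtFun.Art.dual k k)) := by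
    constructor
    intro a b
    apply hbij.1
    exact ht.elim _ _
  have hm := maximalIdeal_eq_bot_of_subsingleton_tangent H.ring hsub
  have hr : ∀ r : H.ring.carrier, r = algebraMap k H.ring.carrier (H.ring.res r) := by
    intro r
    have : r - algebraMap k H.ring.carrier (H.ring.res r) ∈ IsLocalRing.maximalIdeal H.ring.carrier := by
      rw [ArtFun.CRing.mem_maximalIdeal_iff, map_sub, H.ring.res.commutes]
      exact sub_self _
    rw [hm, Ideal.mem_bot, sub_eq_zero] at this
    exact this
  have hsubA : Subsingleton (ArtFun.HomSet H.ring.carrier H.ring.res A) := by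
    constructor
    intro φ φ'
    apply Subtype.ext
    apply AlgHom.ext
    intro r
    rw [hr r, φ.1.commutes, φ'.1.commutes]
  have hsurj := Groth.Agent.Helper6.surjective_app_of_isVersal H.family hver h0 A
  have hne : Nonempty (ArtFun.HomSet H.ring.carrier H.ring.res A) := by
    refine ⟨⟨(Algebra.ofId k A).comp H.ring.res, ?_⟩⟩
    apply AlgHom.ext
    intro r
    change A.res (algebraMap k A (H.ring.res r)) = H.ring.res r
    rw [A.res.commutes]
    rfl
  constructor
  · obtain ⟨φ⟩ := hne
    exact ⟨H.family.app A φ⟩
  · constructor
    intro a b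
    obtain ⟨φ, rfl⟩ := hsurj a
    obtain ⟨φ', rfl⟩ := hsurj b
    rw [hsubA.elim φ φ']

end Groth.Agent.S12249
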