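import Groth.Statements.S12252
import Groth.Agent.Helper6.ArtFunProYoneda
import Groth.Agent.Helper6.ArtFunMinimal

set_option autoImplicit false
universe u v
open CategoryTheory
open Deform

namespace Groth.Agent.S12252

open ArtFun ArtFun.Art IsLocalRing Groth.Agent.Helper6 in
/-- For a universal family, `g ↦ ξ.along g` is injective on augmentation-compatible maps. -/
theorem algHom_eq_of_along_eq {Λ k : Type u} [CommRing Λ] [Field k] [Algebra Λ k]
    {F : ArtFun.Art Λ k ⥤ Type v} {R S : ArtFun.CRing Λ k} (ξ : ArtFun.Family R.carrier R.res F)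
    (hξ : ArtFun.IsUniversal ξ) (g g' : R.carrier →ₐ[Λ] S.carrier) (hg : S.res.comp g = R.res)
    (hg' : S.res.comp g' = R.res) (h : ξ.along g hg = ξ.along g' hg') : g = g' := by
  apply AlgHom.ext
  intro r
  apply CRing.eq_of_forall_mk_eq S
  intro n
  have h1 : (ξ.along g hg).app _ (S.truncHom n) = (ξ.along g' hg').app _ (S.truncHom n) := by rw [h]
  have h2 := (hξ _).1 h1
  exact congrArg (fun t : ArtFun.HomSet R.carrier R.res (S.trunc n) => t.1 r) h2

open ArtFun ArtFun.Art IsLocalRing Groth.Agent.Helper6 in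
theorem along_along {Λ k : Type u} [CommRing Λ] [Field k] [Algebra Λ k]
    {F : ArtFun.Art Λ k ⥤ Type v} {R S T : ArtFun.CRing Λ k} (ξ : ArtFun.Family R.carrier R.res F)
    (g : R.carrier →ₐ[Λ] S.carrier) (hg : S.res.comp g = R.res)
    (g' : S.carrier →ₐ[Λ] T.carrier) (hg' : T.res.comp g' = S.res) :
    (ξ.along g hg).along g' hg' = ξ.along (g'.comp g) (by rw [← AlgHom.comp_assoc, hg', hg]) := rfl

open ArtFun ArtFun.Art IsLocalRing Groth.Agent.Helper6 in
theorem along_id {Λ k : Type u} [CommRing Λ] [Field k] [Algebra Λ k]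
    {F : ArtFun.Art Λ k ⥤ Type v} {R : ArtFun.CRing Λ k} (ξ : ArtFun.Family R.carrier R.res F) :
    ξ.along (AlgHom.id Λ R.carrier) (AlgHom.comp_id _) = ξ := rfl

open ArtFun ArtFun.Art IsLocalRing Groth.Agent.Helper6 in
theorem exists_along_eq {Λ k : Type u} [CommRing Λ] [Field k] [Algebra Λ k]
    {F : ArtFun.Art Λ k ⥤ Type v} {R S : ArtFun.CRing Λ k} (ξ : ArtFun.Family R.carrier R.res F)
    (hξ : ArtFun.IsUniversal ξ) (ζ : ArtFun.Family S.carrier S.res F) :
    ∃ (g : R.carrier →ₐ[Λ] S.carrier) (hg : S.res.comp g = R.res), ξ.along g hg = ζ := by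
  obtain ⟨g, hg, h⟩ := exists_along_toFormalElt_eq R ξ (isVersal_of_isUniversal ξ hξ)
    (fun A => (hξ A).2) S ζ.toFormalElt
  exact ⟨g, hg, Family.ext_of_toFormalElt _ _ h⟩


/-- Let k be an algebraically closed field, Λ a complete local Noetherian k-algebra with residue field k
and F a set-valued functor on local Artinian Λ-algebras with residue field k. If (R, u) and (S, v)
both prorepresent F (complete local Noetherian Λ-algebras with residue field k carrying universal
families), then there is a unique isomorphism of Λ-algebras R ≅ S, compatible with the augmentations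
to k, along which the universal family of R is transported to that of S. -/
theorem result
    {k Λ : Type u} [Field k] [IsAlgClosed k] [CommRing Λ] [IsLocalRing Λ] [IsNoetherianRing Λ]
    [IsAdicComplete (IsLocalRing.maximalIdeal Λ) Λ] [Algebra k Λ] [Algebra Λ k] [IsScalarTower k Λ k]
    {F : ArtFun.Art Λ k ⥤ Type v} (P Q : ArtFun.ProRep F) :
    ∃! e : P.ring.carrier ≃ₐ[Λ] Q.ring.carrier,
      ∃ he : Q.ring.res.comp e.toAlgHom = P.ring.res, P.family.along e.toAlgHom he = Q.family := by
  obtain ⟨g, hg, h1⟩ := exists_along_eq P.family P.universal Q.family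
  obtain ⟨g', hg', h2⟩ := exists_along_eq Q.family Q.universal P.family
  have hc1 : g'.comp g = AlgHom.id Λ P.ring.carrier := by
    apply algHom_eq_of_along_eq P.family P.universal _ _ (by rw [← AlgHom.comp_assoc, hg', hg])
      (AlgHom.comp_id _)
    rw [← along_along P.family g hg g' hg', h1, h2, along_id]
  have hc2 : g.comp g' = AlgHom.id Λ Q.ring.carrier := by
    apply algHom_eq_of_along_eq Q.family Q.universal _ _ (by rw [← AlgHom.comp_assoc, hg, hg'])
      (AlgHom.comp_id _)
    rw [← along_along Q.family g' hg' g hg, h2, h1, along_id]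
  refine ⟨AlgEquiv.ofAlgHom g g' hc2 hc1, ⟨hg, h1⟩, ?_⟩
  rintro e ⟨he, h3⟩
  apply AlgEquiv.ext
  intro r
  have := algHom_eq_of_along_eq P.family P.universal e.toAlgHom g he hg (h3.trans h1.symm)
  exact congrArg (fun t : P.ring.carrier →ₐ[Λ] Q.ring.carrier => t r) this

end Groth.Agent.S12252
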