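import Groth.Statements.S12257
import Groth.Agent.Helper6.TypeFunctorLimits

set_option autoImplicit false
universe u v
open CategoryTheory CategoryTheory.Limits
open Deform

namespace Groth.Agent.S12257

/-- Let k be an algebraically closed field, Λ a complete local Noetherian k-algebra with residue field
k, and F, G, H set-valued functors on local Artinian Λ-algebras with residue field k, each with
one-point value at k. If F → G is a smooth morphism of functors and H → G is any morphism, then the
second projection F ×_G H → H of the fibre product of functors is smooth. -/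
theorem result
    {k Λ : Type u} [Field k] [IsAlgClosed k] [CommRing Λ] [IsLocalRing Λ] [IsNoetherianRing Λ]
    [IsAdicComplete (IsLocalRing.maximalIdeal Λ) Λ] [Algebra k Λ] [Algebra Λ k] [IsScalarTower k Λ k]
    {F G H : ArtFun.Art Λ k ⥤ Type v} (η : F ⟶ G) (θ : H ⟶ G)
    (hF : ArtFun.H0 F) (hG : ArtFun.H0 G) (hH : ArtFun.H0 H) (hη : ArtFun.IsSmooth η) :
    ArtFun.IsSmooth (pullback.snd η θ) := by
  intro B A μ hμ y
  obtain ⟨⟨p, h⟩, hy⟩ := y
  have hy' : (pullback.snd η θ).app A p = H.map μ h := hy
  -- the F-component
  have hc : η.app A ((pullback.fst η θ).app A p) = G.map μ (θ.app B h) := by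
    have h1 : η.app A ((pullback.fst η θ).app A p) = θ.app A ((pullback.snd η θ).app A p) := by
      have := congrArg (fun t => t.app A) (pullback.condition (f := η) (g := θ))
      exact ConcreteCategory.congr_hom this p
    rw [h1, hy']
    exact NatTrans.naturality_apply θ μ h
  obtain ⟨x', hx'⟩ := hη μ hμ ⟨((pullback.fst η θ).app A p, θ.app B h), hc⟩
  have hx1 : F.map μ x' = (pullback.fst η θ).app A p := congrArg (fun t => t.1.1) hx'
  have hx2 : η.app B x' = θ.app B h := congrArg (fun t => t.1.2) hx'
  obtain ⟨z, hz1, hz2⟩ := Groth.Agent.Helper6.pullback_app_exists η θ B x' h hx2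
  refine ⟨z, Subtype.ext (Prod.ext ?_ hz2)⟩
  change (pullback η θ).map μ z = p
  apply Groth.Agent.Helper6.pullback_app_ext η θ A
  · rw [NatTrans.naturality_apply (pullback.fst η θ) μ z, hz1, hx1]
  · rw [NatTrans.naturality_apply (pullback.snd η θ) μ z, hz2, hy']

end Groth.Agent.S12257
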