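import Groth.Statements.S1246
import Mathlib
import Groth.Agent.Helper9.PQF10
import Groth.Agent.Helper9.PQF11
import Groth.Agent.Helper9.PQF12
-- import your own Groth.Agent.* helpers here

set_option autoImplicit false
universe u
open FlatMor

namespace Groth.Agent.S1246

/-- Ring form, X = Spec B affine: let B be a finite type A-algebra, N a finite B-module and p a prime of
A. If there is an impurity of N above p whose base change A → A' is of finite type and quasi-finite
at the point t, then there is an impurity of N above p for which (A', t) is an elementary étale ring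
map at p. -/
theorem result {A B : Type u} [CommRing A] [CommRing B] [Algebra A B] [Algebra.FiniteType A B]
    (N : Type u) [AddCommGroup N] [Module B N] [Module.Finite B N] (p : Ideal A) [p.IsPrime]
    (h : FlatCA.HasImpurity A B N p (fun A' _ _ t => ∃ _ : t.IsPrime, Algebra.FiniteType A A' ∧ Algebra.QuasiFiniteAt A t)) :
    FlatCA.HasImpurity A B N p (fun A' _ _ t => ∃ _ : t.IsPrime, FlatCA.IsEtaleNhd A A' p t) := by
  obtain ⟨A', B', N', _, _, _, _, _, _, _, _, _, _, _, _, _, _, f, t', t, _, _, P, _, himp,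
    ⟨_, hft, hqf⟩⟩ := h
  haveI := hft
  haveI := hqf
  have hle : t' ≤ t := himp.2.2.1
  haveI htp : t.LiesOver p := himp.2.2.2.1
  obtain ⟨A₁, _, _, P₁, _, hnhd, A₂, _, _, _, _, _, _, t₂', t₂, _, _, hint, hle₂, h₂', h₂, h₂₁,
    huniq⟩ := Groth.Agent.Helper9.PQF12.exists_finite_over_etaleNhd p t t' hle
  haveI := hint
  obtain ⟨B₁, N₁, _, _, _, _, _, _, _, _, _, _, _, _, f₁, hpo₁, hf₁⟩ :=
    Groth.Agent.Helper9.PQF10.exists_model A B N A₁
  obtain ⟨B₂, N₂, _, _, _, _, _, _, _, _, _, _, _, _, f₂, hpo₂, hf₂⟩ :=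
    Groth.Agent.Helper9.PQF10.exists_model A B N A₂
  letI : Algebra A' B₂ := ((algebraMap A₂ B₂).comp (algebraMap A' A₂)).toAlgebra
  haveI : IsScalarTower A' A₂ B₂ := IsScalarTower.of_algebraMap_eq (fun _ => rfl)
  letI : Algebra A₁ B₂ := ((algebraMap A₂ B₂).comp (algebraMap A₁ A₂)).toAlgebra
  haveI : IsScalarTower A₁ A₂ B₂ := IsScalarTower.of_algebraMap_eq (fun _ => rfl)
  have hP₁p : P₁.LiesOver p := hnhd.2.1
  obtain ⟨Q, hQp, himp₁⟩ := Groth.Agent.Helper9.PQF11.exists_isImpurity_of_integral p f t' t P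
    hpo₁ f₁ hf₁ P₁ hpo₂ f₂ hf₂ t₂' t₂ himp hle₂ h₂' h₂ h₂₁ hP₁p huniq
  exact ⟨A₁, B₁, N₁, inferInstance, inferInstance, inferInstance, inferInstance, inferInstance,
    inferInstance, inferInstance, inferInstance, inferInstance, inferInstance, inferInstance,
    inferInstance, inferInstance, inferInstance, f₁, t₂'.under A₁, P₁, inferInstance,
    inferInstance, Q, hQp, himp₁, ⟨inferInstance, hnhd⟩⟩

end Groth.Agent.S1246
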