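import Groth.Statements.S1226
import Mathlib
import Groth.Agent.Helper9.PQF7
import Groth.Agent.Helper9.PQF13
import Groth.Agent.S1246
-- import your own Groth.Agent.* helpers here

set_option autoImplicit false
universe u
open FlatMor

namespace Groth.Agent.S1226

/-- Ring form, X = Spec B affine: let B be a finite type A-algebra, N a finite B-module and p a prime of
A; let A' be an A-algebra with a prime p' over p such that A' is of finite type over A and
quasi-finite at p', and let B', N' be the base changes of B, N. If N is pure along the fibre over p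
then N' is pure along the fibre over p'. -/
theorem result {A B : Type u} [CommRing A] [CommRing B] [Algebra A B] [Algebra.FiniteType A B]
    (N : Type u) [AddCommGroup N] [Module B N] [Module.Finite B N] (p : Ideal A) [p.IsPrime]
    (A' B' N' : Type u) [CommRing A'] [CommRing B'] [Algebra A A'] [Algebra B B'] [Algebra A' B'] [Algebra A B']
    [IsScalarTower A B B'] [IsScalarTower A A' B'] [Algebra.IsPushout A B A' B']
    [AddCommGroup N'] [Module B' N'] [Module B N'] [IsScalarTower B B' N'] (f : N →ₗ[B] N') (hf : IsBaseChange B' f)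
    (p' : Ideal A') [p'.IsPrime] [p'.LiesOver p] [Algebra.FiniteType A A'] [Algebra.QuasiFiniteAt A p']
    (h : FlatCA.IsPureAlong A B N p) : FlatCA.IsPureAlong A' B' N' p' := by
  have hpo : Algebra.IsPushout A B A' B' := inferInstance
  intro A₂ B₂ N₂ _ _ _ _ _ _ _ _ _ _ _ _ _ _ g t' t _ _ P _ hnhd himp
  obtain ⟨hpo₂, hg, hle, htp', hPt', hass, hno⟩ := himp
  obtain ⟨het, hlo, hbij⟩ := hnhd
  obtain ⟨i1, t1, i2, t2, i3, t3, t4, i4, t8, f₂, hpo₂', hf₂, hf₂g⟩ :=
    Groth.Agent.Helper9.PQF7.exists_model_comp hpo f hf hpo₂ g hg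
  haveI htp : t.LiesOver p := Ideal.LiesOver.trans t p' p
  have himp₂ : FlatCA.IsImpurity A B N p A₂ B₂ N₂ f₂ t' t P :=
    ⟨hpo₂', hf₂, hle, htp, hPt', hass, hno⟩
  haveI := het
  haveI : Algebra.FiniteType A A₂ := Algebra.FiniteType.trans (S := A') inferInstance inferInstance
  haveI : Algebra.QuasiFiniteAt A t := Groth.Agent.Helper9.PQF13.quasiFiniteAt_trans p' t
  have hhas : FlatCA.HasImpurity A B N p
      (fun A' _ _ t => ∃ _ : t.IsPrime, Algebra.FiniteType A A' ∧ Algebra.QuasiFiniteAt A t) :=
    ⟨A₂, B₂, N₂, inferInstance, inferInstance, i1, i2, inferInstance, i3, t3, t4,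
      inferInstance, inferInstance, i4, t8, inferInstance, inferInstance, f₂, t', t,
      inferInstance, inferInstance, P, inferInstance, himp₂, ⟨inferInstance, inferInstance,
      inferInstance⟩⟩
  obtain ⟨A₃, B₃, N₃, _, _, _, _, _, _, _, _, _, _, _, _, _, _, f₃, s', s, _, _, P₃, _, himp₃,
    ⟨_, hnhd₃⟩⟩ := Groth.Agent.S1246.result N p hhas
  exact h A₃ B₃ N₃ f₃ s' s P₃ hnhd₃ himp₃

end Groth.Agent.S1226
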