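import Groth.Statements.S1227


set_option autoImplicit false
universe u
open FlatMor

namespace Groth.Agent.S1227

open TensorProduct in
/-- Let u be a surjective linear map from a projective A-module M to an A-module N. Then there is an
ideal I of A such that for every A-algebra B, the base change u ⊗ 1 from B ⊗ M to B ⊗ N is bijective
if and only if the image of I in B is zero. -/
theorem result {A : Type u} [CommRing A] {M N : Type u} [AddCommGroup M] [Module A M] [Module.Projective A M]
    [AddCommGroup N] [Module A N] (u : M →ₗ[A] N) (hu : Function.Surjective u) :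
    ∃ I : Ideal A, ∀ (B : Type u) [CommRing B] [Algebra A B],
      Function.Bijective (u.baseChange B) ↔ I.map (algebraMap A B) = ⊥ := by
  classical
  let I : Ideal A := Ideal.span {a | ∃ k ∈ LinearMap.ker u, ∃ φ : M →ₗ[A] A, φ k = a}
  refine ⟨I, fun B _ _ => ⟨fun hbij => ?_, fun hI => ⟨?_, ?_⟩⟩⟩
  · -- bijective ⇒ I B = 0
    rw [eq_bot_iff, Ideal.map_le_iff_le_comap, Ideal.span_le]
    rintro a ⟨k, hk, φ, rfl⟩
    show algebraMap A B (φ k) ∈ (⊥ : Ideal B)
    have h1 : (1 : B) ⊗ₜ[A] k = 0 := by
      apply hbij.1
      rw [LinearMap.baseChange_tmul, map_zero, LinearMap.mem_ker.mp hk, TensorProduct.tmul_zero]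
    have h2 := congrArg (φ.baseChange B) h1
    rw [LinearMap.baseChange_tmul, map_zero] at h2
    have h3 := congrArg (TensorProduct.rid A B) h2
    rw [TensorProduct.rid_tmul, map_zero] at h3
    rw [Ideal.mem_bot, Algebra.algebraMap_eq_smul_one]
    exact h3
  · -- injective
    obtain ⟨s, hs⟩ := Module.projective_def'.mp (inferInstance : Module.Projective A M)
    have hker : ∀ k ∈ LinearMap.ker u, ∀ b : B, b ⊗ₜ[A] k = (0 : B ⊗[A] M) := by
      intro k hk b
      have hk' : k = Finsupp.linearCombination A id (s k) := by
        have := congrArg (fun f => f k) hs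
        simpa using this.symm
      rw [hk', Finsupp.linearCombination_apply, Finsupp.sum, TensorProduct.tmul_sum]
      refine Finset.sum_eq_zero fun m _ => ?_
      have hm : (s k) m ∈ I := Ideal.subset_span ⟨k, hk, (Finsupp.lapply m) ∘ₗ s, rfl⟩
      have h0 : algebraMap A B ((s k) m) = 0 := by
        have : algebraMap A B ((s k) m) ∈ I.map (algebraMap A B) := Ideal.mem_map_of_mem _ hm
        rwa [hI, Ideal.mem_bot] at this
      rw [id, TensorProduct.tmul_smul, TensorProduct.smul_tmul', Algebra.smul_def, h0, zero_mul,
        TensorProduct.zero_tmul]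
    -- kernel of the base change is the image of the kernel
    have hex : Function.Exact ((LinearMap.ker u).subtype.baseChange B) (u.baseChange B) :=
      lTensor_exact B (LinearMap.exact_subtype_ker_map u) hu
    rw [← LinearMap.ker_eq_bot, hex.linearMap_ker_eq, LinearMap.range_eq_bot]
    apply LinearMap.ext
    intro x
    induction x with
    | zero => simp
    | tmul b k =>
      rw [LinearMap.baseChange_tmul, Submodule.subtype_apply, LinearMap.zero_apply]
      exact hker k.1 k.2 b
    | add x y hx hy =>
      rw [map_add, hx, hy]
      simp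
  · exact LinearMap.lTensor_surjective B hu

end Groth.Agent.S1227
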