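import Groth.Statements.S12289
import Mathlib
import Groth.Agent.Helper6.CotTExact

set_option autoImplicit false
universe u w m
open scoped TensorProduct
open DefT

namespace Groth.Agent.S12289

/-- Let k be a commutative ring and B a k-algebra presented as R/I with R = k[x_i] a polynomial ring
(any set of variables) and chosen generators of I, and let M be a B-module; T^0(B/k, M) and T^1(B/k,
M) are computed from this presentation. Then the sequence 0 → T^0(B/k, M) → Hom_B(Ω_{R/k} ⊗_R B, M)
→ Hom_B(I/I², M) → T^1(B/k, M) → 0 is exact, where the middle map is composition with the conormal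
map d : I/I² → Ω_{R/k} ⊗_R B and the last map sends φ to the class of φ ∘ (F/IF → I/I²): the
submodule T^0(B/k, M) of Hom_B(Ω_{R/k} ⊗ B, M) is the kernel of composition with d, the kernel of
Hom_B(I/I², M) → T^1(B/k, M) is the image of composition with d, and Hom_B(I/I², M) → T^1(B/k, M) is
surjective. (The published statement takes finitely many variables over a field and adds that the
same holds over any base ring; this row allows any base ring and any set of variables.) -/
theorem result
    (k B : Type u) [CommRing k] [CommRing B] [Algebra k B] (ι σ : Type w) (P : Algebra.Presentation k B ι σ)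
    (M : Type m) [AddCommGroup M] [Module B M] :
    LinearMap.ker (CotT.d1Star P M) = LinearMap.ker (LinearMap.lcomp B M P.toExtension.cotangentComplex) ∧
    LinearMap.ker (CotT.homToT1 P M) = LinearMap.range (LinearMap.lcomp B M P.toExtension.cotangentComplex) ∧
    Function.Surjective (CotT.homToT1 P M) := by
  open CotT Groth.Agent.Helper6.CotTExact in
  refine ⟨?_, ?_, ?_⟩
  · ext φ
    rw [LinearMap.mem_ker, LinearMap.mem_ker, d1Star_apply, LinearMap.lcomp_apply']
    have hd : d1 P = P.toExtension.cotangentComplex ∘ₗ toCot P := rfl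
    rw [hd]
    constructor
    · intro h
      ext x
      obtain ⟨y, rfl⟩ := toCot_surjective P x
      exact LinearMap.congr_fun h y
    · intro h
      rw [← LinearMap.comp_assoc, h, LinearMap.zero_comp]
  · ext ψ
    have hd : d1 P = P.toExtension.cotangentComplex ∘ₗ toCot P := rfl
    have key : ψ ∈ LinearMap.ker (homToT1 P M) ↔
        ψ ∘ₗ toCot P ∈ LinearMap.range (d1Star P M) := by
      rw [LinearMap.mem_ker]
      change Submodule.Quotient.mk _ = 0 ↔ _
      rw [Submodule.Quotient.mk_eq_zero]
      rfl
    rw [key, LinearMap.mem_range, LinearMap.mem_range]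
    constructor
    · rintro ⟨φ, hφ⟩
      refine ⟨φ, ?_⟩
      rw [d1Star_apply, hd, ← LinearMap.comp_assoc] at hφ
      rw [LinearMap.lcomp_apply']
      ext x
      obtain ⟨y, rfl⟩ := toCot_surjective P x
      exact LinearMap.congr_fun hφ y
    · rintro ⟨φ, hφ⟩
      refine ⟨φ, ?_⟩
      rw [LinearMap.lcomp_apply'] at hφ
      rw [d1Star_apply, hd, ← LinearMap.comp_assoc, hφ]
  · intro t
    obtain ⟨c, rfl⟩ := Submodule.Quotient.mk_surjective _ t
    have hc : (c : L1 P →ₗ[B] M) ∘ₗ d2 P = 0 := c.2
    have hker : LinearMap.ker (toCot P) ≤ LinearMap.ker (c : L1 P →ₗ[B] M) := by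
      rw [ker_toCot]
      rintro _ ⟨y, rfl⟩
      exact LinearMap.congr_fun hc y
    let e := (toCot P).quotKerEquivOfSurjective (toCot_surjective P)
    let ψ : P.toExtension.Cotangent →ₗ[B] M :=
      (LinearMap.ker (toCot P)).liftQ (c : L1 P →ₗ[B] M) hker ∘ₗ e.symm.toLinearMap
    have hψ : ψ ∘ₗ toCot P = (c : L1 P →ₗ[B] M) := by
      ext x
      change (LinearMap.ker (toCot P)).liftQ (c : L1 P →ₗ[B] M) hker (e.symm (toCot P x)) = _
      rw [LinearMap.quotKerEquivOfSurjective_symm_apply, Submodule.liftQ_apply]
    refine ⟨ψ, ?_⟩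
    change Submodule.Quotient.mk _ = Submodule.Quotient.mk c
    congr 1
    apply Subtype.ext
    exact hψ

end Groth.Agent.S12289
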