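import Groth.Statements.S12286
import Mathlib
import Groth.Agent.S12289

set_option autoImplicit false
universe u w m
open scoped TensorProduct
open DefT

namespace Groth.Agent.S12286

/-- Let A → B be a ring homomorphism, P a presentation of B over A and M a B-module. The canonical
B-linear map from the A-derivations Der_A(B, M) = Hom_B(Ω_{B/A}, M) to T^0(B/A, M) (the kernel of
Hom_B(L₀, M) → Hom_B(L₁, M), L₀ = B ⊗_R Ω_{R/A}), sending a derivation D to b ⊗ dr ↦ b·D(r̄), is
bijective. -/
theorem result
    (A B : Type u) [CommRing A] [CommRing B] [Algebra A B] (ι σ : Type w) (P : Algebra.Presentation A B ι σ)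
    (M : Type m) [AddCommGroup M] [Module B M] [Module A M] [IsScalarTower A B M] :
    Function.Bijective (CotT.derToT0 P M) := by
  open CotT in
  have hlift : ∀ D : Derivation A B M,
      derLift P M D = D.liftKaehlerDifferential ∘ₗ P.toExtension.toKaehler := by
    intro D
    refine (P.cotangentSpaceBasis).ext fun i => ?_
    rw [derLift_basis, LinearMap.comp_apply, Algebra.Generators.toKaehler_cotangentSpaceBasis,
      Derivation.liftKaehlerDifferential_comp_D]
  constructor
  · rw [injective_iff_map_eq_zero]
    intro D hD
    have h0 : derLift P M D = 0 := congrArg Subtype.val hD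
    rw [hlift] at h0
    have h1 : D.liftKaehlerDifferential = 0 := by
      apply LinearMap.ext
      intro x
      obtain ⟨y, rfl⟩ := Algebra.Extension.toKaehler_surjective (P := P.toExtension) x
      exact LinearMap.congr_fun h0 y
    ext b
    rw [← D.liftKaehlerDifferential_comp_D b, h1]
    rfl
  · rintro ⟨φ, hφ⟩
    have hφ' : φ ∈ LinearMap.ker (LinearMap.lcomp B M P.toExtension.cotangentComplex) := by
      rw [← (Groth.Agent.S12289.result A B ι σ P M).1]
      exact hφ
    have h2 : φ ∘ₗ P.toExtension.cotangentComplex = 0 := hφ'
    have hker : LinearMap.ker P.toExtension.toKaehler ≤ LinearMap.ker φ := by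
      intro x hx
      obtain ⟨y, rfl⟩ := (Algebra.Extension.exact_cotangentComplex_toKaehler (P := P.toExtension) x).1 hx
      exact LinearMap.congr_fun h2 y
    let e := P.toExtension.toKaehler.quotKerEquivOfSurjective
      (Algebra.Extension.toKaehler_surjective (P := P.toExtension))
    let ψ : Ω[B⁄A] →ₗ[B] M :=
      (LinearMap.ker P.toExtension.toKaehler).liftQ φ hker ∘ₗ e.symm.toLinearMap
    have hψ : ∀ x, ψ (P.toExtension.toKaehler x) = φ x := by
      intro x
      change (LinearMap.ker P.toExtension.toKaehler).liftQ φ hker (e.symm (P.toExtension.toKaehler x)) = _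
      rw [LinearMap.quotKerEquivOfSurjective_symm_apply, Submodule.liftQ_apply]
    refine ⟨ψ.compDer (KaehlerDifferential.D A B), ?_⟩
    apply Subtype.ext
    change derLift P M (ψ.compDer (KaehlerDifferential.D A B)) = φ
    refine (P.cotangentSpaceBasis).ext fun i => ?_
    rw [derLift_basis]
    change ψ (KaehlerDifferential.D A B (P.val i)) = _
    rw [← Algebra.Generators.toKaehler_cotangentSpaceBasis, hψ]

end Groth.Agent.S12286
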