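import Groth.Statements.S12303
import Groth.Agent.Helper6.ArtFunFibre

set_option autoImplicit false
universe u v
open CategoryTheory
open ArtFun

namespace Groth.Agent.S12303

open Groth.Agent.Helper6

/-- Let k be an algebraically closed field, F a set-valued functor on local Artinian k-algebras with
residue field k, and ξ : h_R → F a miniversal family in the strong sense, over an augmented
k-algebra R: ξ is surjective on every object, has the lifting property along surjections, and is
bijective on the dual numbers k[ε]. Then for every object A and every fibre-product square B = A ×_k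
k[ε] over k, the comparison map F(B) → F(A) ×_{F(k)} F(k[ε]) is bijective. (The published statement
takes R complete local, which the argument does not use.) -/
theorem result
    {k : Type u} [Field k] [IsAlgClosed k] {F : ArtFun.Art k k ⥤ Type v}
    {R : Type u} [CommRing R] [Algebra k R] {resR : R →ₐ[k] k}
    (ξ : ArtFun.Family R resR F) (hξ : ArtFun.IsMiniversal ξ)
    (hsurj : ∀ A : ArtFun.Art k k, Function.Surjective (ξ.app A)) :
    ArtFun.Heps F := by
  intro B A' p' p'' h
  have hbase : Function.Surjective (ArtFun.Art.toBase (ArtFun.Art.dual k k)) :=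
    (ArtFun.Art.dual k k).res_surjective
  have hp' : Function.Surjective p' := IsFibreProd.surjective_fst h hbase
  constructor
  · -- injectivity
    intro b₁ b₂ hb
    have hb1 : F.map p' b₁ = F.map p' b₂ := congrArg (fun t => t.1.1) hb
    have hb2 : F.map p'' b₁ = F.map p'' b₂ := congrArg (fun t => t.1.2) hb
    obtain ⟨u', hu'⟩ := hsurj A' (F.map p' b₁)
    obtain ⟨v₁, hv11, hv12⟩ := hξ.1 p' hp' u' b₁ hu'.symm
    obtain ⟨v₂, hv21, hv22⟩ := hξ.1 p' hp' u' b₂ (hb1 ▸ hu'.symm)
    have e : HomSet.map p'' v₁ = HomSet.map p'' v₂ := by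
      apply hξ.2.1
      rw [ξ.natural, ξ.natural, hv12, hv22, hb2]
    have : v₁ = v₂ := IsFibreProd.homSet_ext h v₁ v₂ (hv11.trans hv21.symm) e
    rw [← hv12, ← hv22, this]
  · -- surjectivity
    intro y
    obtain ⟨⟨a', a''⟩, hy⟩ := y
    have hy' : F.map (ArtFun.Art.toBase A') a' = F.map (ArtFun.Art.toBase _) a'' := hy
    obtain ⟨φ', rfl⟩ := hsurj A' a'
    have h1 : F.map (ArtFun.Art.toBase _) a'' = ξ.app _ (HomSet.map (ArtFun.Art.toBase A') φ') := by
      rw [← hy', ξ.natural]
    obtain ⟨ψ'', hψ1, hψ2⟩ := hξ.1 _ hbase (HomSet.map (ArtFun.Art.toBase A') φ') a'' h1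
    obtain ⟨χ, hχ1, hχ2⟩ := IsFibreProd.exists_homSet_lift h φ' ψ'' hψ1.symm
    refine ⟨ξ.app B χ, Subtype.ext (Prod.ext ?_ ?_)⟩
    · change F.map p' (ξ.app B χ) = ξ.app A' φ'
      rw [← ξ.natural, hχ1]
    · change F.map p'' (ξ.app B χ) = a''
      rw [← ξ.natural, hχ2, hψ2]

end Groth.Agent.S12303
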