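import Groth.Statements.S1231
import Mathlib

set_option autoImplicit false
universe u
open scoped TensorProduct
open FlatMor

namespace Groth.Agent.S1231

/-- Let R → T be an étale ring map, C a T-algebra, N a C-module and q a prime of C. Then the
localization N_q is flat over R if and only if it is flat over T. In particular N is flat over R if
and only if it is flat over T. -/
theorem result {R T C : Type u} [CommRing R] [CommRing T] [CommRing C] [Algebra R T] [Algebra.Etale R T]
    [Algebra T C] [Algebra R C] [IsScalarTower R T C]
    (N : Type u) [AddCommGroup N] [Module C N] [Module T N] [Module R N] [IsScalarTower T C N] [IsScalarTower R C N] [IsScalarTower R T N]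
    (q : Ideal C) [q.IsPrime] :
    (FlatCA.FlatAt R q N ↔ FlatCA.FlatAt T q N) ∧ (Module.Flat R N ↔ Module.Flat T N) := by
  have hRT : Module.Flat R T := inferInstance
  have key : ∀ (M : Type u) [AddCommGroup M] [Module T M] [Module R M] [IsScalarTower R T M],
      Module.Flat R M ↔ Module.Flat T M := by
    intro M _ _ _ _
    constructor
    · intro h
      exact Algebra.FormallyUnramified.flat_of_restrictScalars R T M
    · intro h
      exact Module.Flat.trans R T M
  refine ⟨?_, key N⟩
  unfold FlatCA.FlatAt
  exact key (LocalizedModule q.primeCompl N)

end Groth.Agent.S1231
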