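import Groth.Statements.S12316
import Groth.Agent.Helper6.ArtFunInjective

set_option autoImplicit false
universe u v
open CategoryTheory
open SGA7

namespace Groth.Agent.S12316

/-- Suppose Λ is a Noetherian local ring, complete for its maximal ideal, whose residue field is k (so Λ
→ k is surjective), and work with functors defined on the category of local Artinian Λ-algebras
having residue field k. Take morphisms φ : F → G and ψ : G → H of such functors. Assume that each of
F(k), G(k), H(k) consists of a single point; that for G the comparison map on fibre products A₁ ×_A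
A₂ is surjective as soon as A₂ → A is surjective, and is bijective for products of the form A' ×_k
k[ε]; that for H the comparison map is bijective on every fibre product A₁ ×_A A₂ with A₂ → A
surjective; and that the induced map on tangent spaces G(k[ε]) → H(k[ε]) coming from ψ is injective.
Under these assumptions, φ ≫ ψ is smooth if and only if both φ and ψ are smooth. (The published
statement is for functors of cofibred groupoids with G semi-homogeneous and H homogeneous; this row
is the case of set-valued functors.) -/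
theorem result (Λ k : Type u) [CommRing Λ] [IsLocalRing Λ] [IsNoetherianRing Λ]
    [IsAdicComplete (IsLocalRing.maximalIdeal Λ) Λ] [Field k] [Algebra Λ k]
    (hk : Function.Surjective (algebraMap Λ k))
    {F G H : ArtFun.Art Λ k ⥤ Type v} (φ : F ⟶ G) (ψ : G ⟶ H)
    (hF : ArtFun.H0 F) (hG : ArtFun.H0 G ∧ ArtFun.S1 G ∧ ArtFun.Heps G) (hH0 : ArtFun.H0 H)
    (hH : ∀ ⦃B A A' A'' : ArtFun.Art Λ k⦄ (p' : B ⟶ A') (p'' : B ⟶ A'') (f' : A' ⟶ A) (f'' : A'' ⟶ A)
      (h : ArtFun.Art.IsFibreProd p' p'' f' f''), Function.Surjective f'' → Function.Bijective (ArtFun.cmp H h))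
    (hψ : Function.Injective (ArtFun.TangentSpace.map ψ)) :
    ArtFun.IsSmooth (φ ≫ ψ) ↔ (ArtFun.IsSmooth φ ∧ ArtFun.IsSmooth ψ) := by
  obtain ⟨hG0, hG1, hG2⟩ := hG
  have hHinj : Groth.Agent.Helper6.RSInj H := fun B A A' A'' p' p'' f' f'' h hs => (hH p' p'' f' f'' h hs).1
  have hinj : ∀ A : ArtFun.Art Λ k, Function.Injective (ψ.app A) :=
    Groth.Agent.Helper6.injective_app_of_tangent_injective' hG0 hG1 hG2 hHinj ψ hψ
  constructor
  · intro hc
    have hcs : ∀ A : ArtFun.Art Λ k, Function.Surjective ((φ ≫ ψ).app A) :=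
      Groth.Agent.Helper6.surjective_app_of_isSmooth (φ ≫ ψ) hc hF hH0
    constructor
    · intro B A μ hμ y
      obtain ⟨⟨x, g⟩, hy⟩ := y
      have hy' : φ.app A x = G.map μ g := hy
      have hy2 : (φ ≫ ψ).app A x = H.map μ (ψ.app B g) := by
        change ψ.app A (φ.app A x) = H.map μ (ψ.app B g)
        rw [hy']
        exact NatTrans.naturality_apply ψ μ g
      obtain ⟨f, hf⟩ := hc μ hμ ⟨(x, ψ.app B g), hy2⟩
      have hf1 : F.map μ f = x := congrArg (fun t => t.1.1) hf
      have hf2 : (φ ≫ ψ).app B f = ψ.app B g := congrArg (fun t => t.1.2) hf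
      refine ⟨f, Subtype.ext (Prod.ext hf1 ?_)⟩
      exact hinj B hf2
    · intro B A μ hμ y
      obtain ⟨⟨g, h⟩, hy⟩ := y
      have hy' : ψ.app A g = H.map μ h := hy
      obtain ⟨f, hf⟩ := hcs B h
      have hf' : ψ.app B (φ.app B f) = h := hf
      refine ⟨φ.app B f, Subtype.ext (Prod.ext ?_ hf')⟩
      apply hinj A
      change ψ.app A (G.map μ (φ.app B f)) = ψ.app A g
      rw [hy', ← hf']
      exact NatTrans.naturality_apply ψ μ (φ.app B f)
  · rintro ⟨h1, h2⟩
    exact Groth.Agent.Helper6.isSmooth_comp φ ψ h1 h2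

end Groth.Agent.S12316
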