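import Groth.Statements.S12417
import Mathlib

set_option autoImplicit false
universe u
open CategoryTheory AlgebraicGeometry
open Props

namespace Groth.Agent.S12417

/-- Let X be a quasi-compact quasi-separated scheme and P a property of opens of X such that (a) P holds
for every affine open, and (b) whenever a quasi-compact open U has a finite affine open covering U =
V_1 ∪ … ∪ V_n with P holding for every intersection V_i ∩ V_j, P holds for U. Then P holds for every
quasi-compact open of X. -/
theorem result (X : Scheme.{u}) [CompactSpace X] [QuasiSeparatedSpace X]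
    (P : X.Opens → Prop) (ha : ∀ U : X.Opens, IsAffineOpen U → P U)
    (hb : ∀ (U : X.Opens) (n : ℕ) (V : Fin n → X.Opens), IsCompact (U : Set X) →
      (∀ i, IsAffineOpen (V i)) → ⨆ i, V i = U → (∀ i j, P (V i ⊓ V j)) → P U)
    (U : X.Opens) (hU : IsCompact (U : Set X)) : P U := by
  have hdiag : IsAffineHom (CategoryTheory.Limits.pullback.diagonal (𝟙 X)) := inferInstance
  have hinf : ∀ W : X.Opens, IsAffineOpen W → ∀ V₁ V₂ : X.Opens, V₁ ≤ W → V₂ ≤ W →
      IsAffineOpen V₁ → IsAffineOpen V₂ → IsAffineOpen (V₁ ⊓ V₂) := by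
    intro W hW V₁ V₂ h1 h2 hV₁ hV₂
    exact isAffineHom_diagonal_iff.mp hdiag W hW V₁ (by simpa using h1) V₂ (by simpa using h2) hV₁ hV₂
  -- enumerate an affine cover
  have hcover : ∀ U : X.Opens, IsCompact (U : Set X) → ∃ (n : ℕ) (V : Fin n → X.Opens),
      (∀ i, IsAffineOpen (V i)) ∧ ⨆ i, V i = U := by
    intro U hU
    obtain ⟨s, hs, hsU⟩ := isCompact_iff_finite_and_eq_biUnion_affineOpens.1 hU
    have : Finite s := hs
    obtain ⟨n, ⟨e⟩⟩ := Finite.exists_equiv_fin s
    refine ⟨n, fun i => ((e.symm i : s) : X.affineOpens).1, fun i => ((e.symm i : s) : X.affineOpens).2, ?_⟩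
    rw [hsU]
    apply le_antisymm
    · apply iSup_le
      intro i
      exact le_iSup₂_of_le ((e.symm i : s) : X.affineOpens) (e.symm i).2 le_rfl
    · apply iSup₂_le
      intro V hV
      have : V = ((e.symm (e ⟨V, hV⟩) : s) : X.affineOpens) := by rw [e.symm_apply_apply]
      rw [this]
      exact le_iSup (fun i => (((e.symm i : s) : X.affineOpens).1 : X.Opens)) (e ⟨V, hV⟩)
  have step1 : ∀ W : X.Opens, IsAffineOpen W → ∀ U : X.Opens, U ≤ W → IsCompact (U : Set X) → P U := by
    intro W hW U hUW hU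
    obtain ⟨n, V, hV, hVU⟩ := hcover U hU
    have hVW : ∀ i, V i ≤ W := fun i => le_trans (le_trans (le_iSup V i) hVU.le) hUW
    exact hb U n V hU hV hVU fun i j => ha _ (hinf W hW _ _ (hVW i) (hVW j) (hV i) (hV j))
  obtain ⟨n, V, hV, hVU⟩ := hcover U hU
  refine hb U n V hU hV hVU fun i j => ?_
  apply step1 (V i) (hV i) _ inf_le_left
  exact QuasiSeparatedSpace.inter_isCompact (V i : Set X) (V j : Set X) (V i).isOpen (hV i).isCompact (V j).isOpen (hV j).isCompact

end Groth.Agent.S12417
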