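import Groth.Statements.S12418
import Mathlib.Tactic

set_option autoImplicit false
universe u
open CAlg

namespace Groth.Agent.S12418

theorem mem_colon_span_iff {R : Type u} [CommRing R] (b x r : R) :
    r ∈ Submodule.colon (Ideal.span {b}) ((Ideal.span ({x} : Set R) : Ideal R) : Set R) ↔
      r * x ∈ Ideal.span {b} := by
  rw [Submodule.mem_colon]
  constructor
  · intro h
    exact h x (Ideal.subset_span rfl)
  · intro h t ht
    obtain ⟨c, rfl⟩ := Ideal.mem_span_singleton'.1 ht
    rw [smul_eq_mul, mul_left_comm]
    exact Ideal.mul_mem_left _ _ h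

/-- Let R be a Noetherian ring and b ∈ R; for x outside the ideal (b) put I_x = ((b) : x), the ideal of
r with r x ∈ (b). If s ∉ (b) and I_s is maximal among the I_x (x ∉ (b)), then I_s is prime. -/
theorem result {R : Type u} [CommRing R] [IsNoetherianRing R]
    (b s : R) (hs : s ∉ Ideal.span {b})
    (hmax : ∀ x : R, x ∉ Ideal.span {b} →
      Submodule.colon (Ideal.span {b}) (Ideal.span {s}) ≤ Submodule.colon (Ideal.span {b}) (Ideal.span {x}) →
      Submodule.colon (Ideal.span {b}) (Ideal.span {x}) = Submodule.colon (Ideal.span {b}) (Ideal.span {s})) :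
    (Submodule.colon (Ideal.span {b}) (Ideal.span ({s} : Set R))).IsPrime := by
  rw [Ideal.isPrime_iff]
  constructor
  · intro htop
    apply hs
    have h1 : (1 : R) ∈ Submodule.colon (Ideal.span {b}) ((Ideal.span ({s} : Set R) : Ideal R) : Set R) := by
      rw [htop]; trivial
    rw [mem_colon_span_iff, one_mul] at h1
    exact h1
  · intro x y hxy
    by_contra hcon
    push Not at hcon
    obtain ⟨hx, hy⟩ := hcon
    rw [mem_colon_span_iff] at hxy hx hy
    -- x * s ∉ (b)
    have hle : Submodule.colon (Ideal.span {b}) ((Ideal.span ({s} : Set R) : Ideal R) : Set R) ≤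
        Submodule.colon (Ideal.span {b}) ((Ideal.span ({x * s} : Set R) : Ideal R) : Set R) := by
      intro r hr
      rw [mem_colon_span_iff] at hr ⊢
      rw [mul_left_comm]
      exact Ideal.mul_mem_left _ _ hr
    have heq := hmax (x * s) hx hle
    have hymem : y ∈ Submodule.colon (Ideal.span {b}) ((Ideal.span ({x * s} : Set R) : Ideal R) : Set R) := by
      rw [mem_colon_span_iff]
      have : y * (x * s) = x * y * s := by ring
      rw [this]
      exact hxy
    rw [heq, mem_colon_span_iff] at hymem
    exact hy hymem

end Groth.Agent.S12418
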