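import Groth.Statements.S12443
import Mathlib.CategoryTheory.Monad.Adjunction

set_option autoImplicit false
universe u
open CategoryTheory TopologicalSpace
open ShSp

namespace Groth.Agent.S12443

open Opposite in
/-- The presheaf-level isomorphism `(j_* F) ∘ j_! ≅ F` for an open embedding `j`. -/
noncomputable def compIso {U X : TopCat.{u}} (j : U ⟶ X) (hj : Topology.IsOpenEmbedding j)
    (F : (Opens U)ᵒᵖ ⥤ Type u) :
    hj.functor.op ⋙ (Opens.map j).op ⋙ F ≅ F :=
  NatIso.ofComponents
    (fun V => F.mapIso (eqToIso (by
      show unop V = _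
      exact (Opens.map_functor_eq' j hj (unop V)).symm)).op)
    (by
      intro V W f
      dsimp
      rw [← F.map_comp, ← F.map_comp]
      congr 1)

open Opposite in
/-- `j_*` followed by the naive pullback along the open embedding `j` is the identity. -/
noncomputable def pushPullIso {U X : TopCat.{u}} (j : U ⟶ X) (hj : Topology.IsOpenEmbedding j) :
    TopCat.Sheaf.pushforward (Type u) j ⋙ hj.sheafPullback (Type u) ≅ 𝟭 (U.Sheaf (Type u)) :=
  Functor.fullyFaithfulCancelRight (TopCat.Sheaf.forget (Type u) U)
    (NatIso.ofComponents (fun F => compIso j hj F.obj)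
      (by
        intro F G f
        apply NatTrans.ext
        funext V
        exact (f.hom.naturality _).symm))

theorem result {U X : TopCat.{u}} (j : U ⟶ X) (hj : Topology.IsOpenEmbedding j)
    (F : U.Sheaf (Type u)) :
    IsIso ((TopCat.Sheaf.pullbackPushforwardAdjunction (Type u) j).counit.app F) := by
  have := (TopCat.Sheaf.pullbackPushforwardAdjunction (Type u) j).isIso_counit_of_iso
    (Functor.isoWhiskerLeft _ (hj.sheafPullbackIso (Type u)) ≪≫ pushPullIso j hj)
  infer_instance

end Groth.Agent.S12443
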