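import Groth.Statements.S12444
import Mathlib
import Groth.Agent.Helper6.Caten

set_option autoImplicit false
universe u
open PtTop

namespace Groth.Agent.S12444

/-- A topological space X is catenary if and only if it has an open covering by catenary subspaces
(here: every point has a catenary open neighbourhood); and if X is catenary then so is every locally
closed subspace of X. -/
theorem result (X : Type u) [TopologicalSpace X] :
    (PtTop.IsCatenarySpace X ↔
      ∀ x : X, ∃ U : TopologicalSpace.Opens X, x ∈ U ∧ PtTop.IsCatenarySpace U) ∧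
    (PtTop.IsCatenarySpace X → ∀ S : Set X, IsLocallyClosed S → PtTop.IsCatenarySpace S) := by
  refine ⟨⟨fun hX x => ?_, fun h => ?_⟩, fun hX S hS => ?_⟩
  · exact ⟨⊤, trivial, Groth.Agent.Helper6.Caten.isCatenarySpace_of_isLocallyClosed hX
      (S := ((⊤ : TopologicalSpace.Opens X) : Set X)) (⊤ : TopologicalSpace.Opens X).isOpen.isLocallyClosed⟩
  · apply Groth.Agent.Helper6.Caten.isCatenarySpace_of_cover
    intro x
    obtain ⟨U, hxU, hU⟩ := h x
    exact ⟨(U : Set X), U.isOpen, hxU, hU⟩
  · exact Groth.Agent.Helper6.Caten.isCatenarySpace_of_isLocallyClosed hX hS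

end Groth.Agent.S12444
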