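import Groth.Statements.S12445
import Mathlib
import Groth.Agent.Helper6.Caten
import Groth.Agent.Helper6.Caten2

set_option autoImplicit false
universe u
open CategoryTheory AlgebraicGeometry
open Props

namespace Groth.Agent.S12445

open AlgebraicGeometry CategoryTheory Groth.Agent.Helper6.Caten in
theorem cat_affine (S : Scheme.{u}) (U : S.affineOpens) :
    PtTop.IsCatenarySpace ((U : S.Opens) : Set S) ↔ CAlg.IsCatenary Γ(S, U) := by
  have h : ((U : S.Opens) : Set S) ≃ₜ PrimeSpectrum Γ(S, U) := Scheme.homeoOfIso U.2.isoSpec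
  rw [isCatenarySpace_iff_of_homeomorph h, isCatenary_iff_isCatenarySpace]

open AlgebraicGeometry CategoryTheory Groth.Agent.Helper6.Caten in
theorem main (S : Scheme.{u}) :
    (PtTop.IsCatenarySpace S ↔ ∀ U : S.affineOpens, CAlg.IsCatenary Γ(S, U)) ∧
    (PtTop.IsCatenarySpace S ↔
      ∀ s : S, ∃ U : S.affineOpens, s ∈ (U : S.Opens) ∧ CAlg.IsCatenary Γ(S, U)) := by
  have h1 : PtTop.IsCatenarySpace S → ∀ U : S.affineOpens, CAlg.IsCatenary Γ(S, U) := by
    intro hS U
    rw [← cat_affine]
    exact isCatenarySpace_of_isLocallyClosed hS (U : S.Opens).isOpen.isLocallyClosed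
  have h2 : (∀ U : S.affineOpens, CAlg.IsCatenary Γ(S, U)) →
      ∀ s : S, ∃ U : S.affineOpens, s ∈ (U : S.Opens) ∧ CAlg.IsCatenary Γ(S, U) := by
    intro h s
    obtain ⟨_, ⟨U, hU, rfl⟩, hsU, -⟩ :=
      S.isBasis_affineOpens.exists_subset_of_mem_open (Set.mem_univ s) isOpen_univ
    exact ⟨⟨U, hU⟩, hsU, h ⟨U, hU⟩⟩
  have h3 : (∀ s : S, ∃ U : S.affineOpens, s ∈ (U : S.Opens) ∧ CAlg.IsCatenary Γ(S, U)) →
      PtTop.IsCatenarySpace S := by
    intro h
    apply isCatenarySpace_of_cover
    intro x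
    obtain ⟨U, hxU, hU⟩ := h x
    exact ⟨((U : S.Opens) : Set S), (U : S.Opens).isOpen, hxU, (cat_affine S U).mpr hU⟩
  exact ⟨⟨h1, fun h => h3 (h2 h)⟩, ⟨fun h => h2 (h1 h), h3⟩⟩

/-- (1) ⇔ (3) ⇔ (4): for a scheme S, the underlying topological space of S is catenary if and only if
the coordinate ring of every affine open of S is a catenary ring, if and only if S is covered by
affine opens with catenary coordinate rings. (Clause (2), openness of catenarity, and the final
assertion on locally closed subschemes are the topological statement for open coverings and locally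
closed subspaces.) -/
theorem result (S : Scheme.{u}) :
    (PtTop.IsCatenarySpace S ↔ ∀ U : S.affineOpens, CAlg.IsCatenary Γ(S, U)) ∧
    (PtTop.IsCatenarySpace S ↔
      ∀ s : S, ∃ U : S.affineOpens, s ∈ (U : S.Opens) ∧ CAlg.IsCatenary Γ(S, U)) := by
  exact main S

end Groth.Agent.S12445
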