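import Groth.Statements.S12447
import Mathlib
import Groth.Agent.Helper6.Caten
import Groth.Agent.Helper6.Caten2
import Groth.Agent.Helper6.Caten3

set_option autoImplicit false
universe u
open CategoryTheory AlgebraicGeometry
open Props

namespace Groth.Agent.S12447

open AlgebraicGeometry CategoryTheory Groth.Agent.Helper6.Caten in
theorem main (S : Scheme.{u}) [IsLocallyNoetherian S] :
    PtTop.IsCatenarySpace S ↔
      ∀ s : S, ∃ U : S.Opens, s ∈ U ∧ ∃ δ : U → ℤ, PtTop.IsDimensionFunction δ := by
  constructor
  · intro hS s
    obtain ⟨_, ⟨V, hV, rfl⟩, hsV, -⟩ :=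
      S.isBasis_affineOpens.exists_subset_of_mem_open (Set.mem_univ s) isOpen_univ
    have : IsNoetherianRing Γ(S, V) := IsLocallyNoetherian.component_noetherian ⟨V, hV⟩
    have hN : TopologicalSpace.NoetherianSpace V := noetherianSpace_of_isAffineOpen V hV
    have hQ : QuasiSober V := V.isOpenEmbedding.quasiSober
    have hcat : Cat (TopologicalSpace.IrreducibleCloseds V) :=
      isCatenarySpace_of_isLocallyClosed hS V.isOpen.isLocallyClosed
    obtain ⟨U, hUo, hxU, δ, hδ⟩ := exists_dimensionFunction hcat ⟨s, hsV⟩
    let e : U ≃ₜ (Subtype.val '' U : Set S) := Topology.IsEmbedding.subtypeVal.homeomorphImage U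
    refine ⟨⟨Subtype.val '' U, V.isOpen.isOpenMap_subtype_val U hUo⟩, ⟨⟨s, hsV⟩, hxU, rfl⟩,
      δ ∘ e.symm, ?_⟩
    exact isDimensionFunction_comp_homeomorph e.symm δ hδ
  · intro h
    apply isCatenarySpace_of_cover
    intro x
    obtain ⟨U, hxU, δ, hδ⟩ := h x
    have hQ : QuasiSober U := U.isOpenEmbedding.quasiSober
    have hc : Cat (TopologicalSpace.IrreducibleCloseds U) := cat_of_dimensionFunction δ hδ
    exact ⟨(U : Set S), U.isOpen, hxU, hc⟩

/-- Let S be a locally Noetherian scheme. Then the underlying topological space of S is catenary if and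
only if locally in the Zariski topology there is a dimension function, i.e. every point has an open
neighbourhood U carrying a function δ : U → ℤ which strictly decreases along nontrivial
specializations and drops by exactly one along immediate specializations. -/
theorem result (S : Scheme.{u}) [IsLocallyNoetherian S] :
    PtTop.IsCatenarySpace S ↔
      ∀ s : S, ∃ U : S.Opens, s ∈ U ∧ ∃ δ : U → ℤ, PtTop.IsDimensionFunction δ := by
  exact main S

end Groth.Agent.S12447
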