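import Groth.Statements.S1245
import Mathlib
import Groth.Agent.Helper9.PQF10
import Groth.Agent.Helper9.PQF14
import Groth.Agent.Helper9.PQF15
-- import your own Groth.Agent.* helpers here

set_option autoImplicit false
universe u
open FlatMor

namespace Groth.Agent.S1245

/-- Ring form, X = Spec B affine, base change rings affine: let B be a finite type A-algebra, N a finite
B-module and p a prime of A. If there is an impurity of N above p, then there is one whose base
change A → A' is of finite presentation and whose point t is a closed point of the fibre of Spec A'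
over p (the extension of t to the fibre ring is maximal). -/
theorem result {A B : Type u} [CommRing A] [CommRing B] [Algebra A B] [Algebra.FiniteType A B]
    (N : Type u) [AddCommGroup N] [Module B N] [Module.Finite B N] (p : Ideal A) [p.IsPrime]
    (h : FlatCA.HasImpurity A B N p (fun _ _ _ _ => True)) :
    FlatCA.HasImpurity A B N p (fun A' _ _ t => Algebra.FinitePresentation A A' ∧ (FlatCA.fiberIdeal p t).IsMaximal) := by
  classical
  obtain ⟨A', B', N', _, _, _, _, _, _, _, _, _, _, _, _, _, _, f, t', t, _, _, P, _, himp, -⟩ := h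
  obtain ⟨F, hF⟩ := Groth.Agent.Helper9.PQF14.exists_finset_descent p f t' t P himp
  -- the polynomial ring on the finite set
  let φ : MvPolynomial (↥F) A →ₐ[A] A' := MvPolynomial.aeval (fun c : (↥F) => (c : A'))
  letI : Algebra (MvPolynomial (↥F) A) A' := φ.toRingHom.toAlgebra
  haveI : IsScalarTower A (MvPolynomial (↥F) A) A' :=
    IsScalarTower.of_algebraMap_eq (fun a => (φ.commutes a).symm)
  have hrange : ∀ c ∈ F, c ∈ Set.range (algebraMap (MvPolynomial (↥F) A) A') := by
    intro c hc
    refine ⟨MvPolynomial.X ⟨c, hc⟩, ?_⟩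
    show φ (MvPolynomial.X ⟨c, hc⟩) = c
    simp [φ]
  obtain ⟨B'', N'', _, _, _, _, _, _, _, _, _, _, _, _, f'', hpo'', hf''⟩ :=
    Groth.Agent.Helper9.PQF10.exists_model A B N (MvPolynomial (↥F) A)
  obtain ⟨s'', P'', hP''p, hs'', himp''⟩ := hF (MvPolynomial (↥F) A) B'' N'' hpo'' f'' hf'' hrange
  have htp : t.LiesOver p := himp.2.2.2.1
  haveI hlo : (t.comap (algebraMap (MvPolynomial (↥F) A) A')).LiesOver p := ⟨by
    rw [Ideal.under_def, Ideal.comap_comap, ← IsScalarTower.algebraMap_eq]
    exact htp.over⟩
  obtain ⟨t₃, ht₃p, ht₃o, hle₃, hs₃, hmax⟩ := Groth.Agent.Helper9.PQF15.exists_closed_point p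
    (t.comap (algebraMap (MvPolynomial (↥F) A) A')) s'' hs''
  exact ⟨MvPolynomial (↥F) A, B'', N'', inferInstance, inferInstance, inferInstance,
    inferInstance, inferInstance, inferInstance, inferInstance, inferInstance, inferInstance,
    inferInstance, inferInstance, inferInstance, inferInstance, inferInstance, f'',
    t'.comap (algebraMap (MvPolynomial (↥F) A) A'), t₃, Ideal.comap_isPrime _ _, ht₃p, P'', hP''p,
    himp'' t₃ hle₃ hs₃ ht₃o, ⟨inferInstance, hmax⟩⟩

end Groth.Agent.S1245
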