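import Groth.Statements.S12450
import Mathlib

set_option autoImplicit false
universe u
open CategoryTheory CategoryTheory.Limits
open ModSite

namespace Groth.Agent.S12450

theorem preserves_of_reflector {A B E : Type*} [Category A] [Category B] [Category E]
    {L : A ⥤ B} {R : B ⥤ A} (adj : L ⊣ R) [R.Full] [R.Faithful] (G : B ⥤ E)
    {K : Type*} [Category K] [HasColimitsOfShape K A] [PreservesColimitsOfShape K (L ⋙ G)] :
    PreservesColimitsOfShape K G := by
  refine ⟨fun {F} => ?_⟩
  haveI : PreservesColimitsOfShape K L := adj.leftAdjoint_preservesColimits.preservesColimitsOfShape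
  have h1 : IsColimit (L.mapCocone (colimit.cocone (F ⋙ R))) :=
    isColimitOfPreserves L (colimit.isColimit (F ⋙ R))
  have h2 : IsColimit (G.mapCocone (L.mapCocone (colimit.cocone (F ⋙ R)))) :=
    isColimitOfPreserves (L ⋙ G) (colimit.isColimit (F ⋙ R))
  haveI : PreservesColimit ((F ⋙ R) ⋙ L) G := preservesColimit_of_preserves_colimit_cocone h1 h2
  let e : (F ⋙ R) ⋙ L ≅ F :=
    Functor.associator _ _ _ ≪≫ Functor.isoWhiskerLeft F (asIso adj.counit) ≪≫ Functor.rightUnitor F
  exact preservesColimit_of_iso_diagram G e

/-- For a small ringed site (C, O) the forgetful functor Mod(O) → Ab(C) commutes with colimits, i.e.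
preserves all small colimits. (Existence of limits and colimits in Mod(O) and commutation of the
forgetful functor with limits hold by construction; exactness of filtered colimits is a separate
statement.) -/
theorem result {C : Type u} [SmallCategory C] {J : GrothendieckTopology C}
    (O : Sheaf J CommRingCat.{u}) :
    PreservesColimitsOfSize.{u, u} (SheafOfModules.toSheaf.{u} (ModSite.ringSh O) : ModSite.Mod O ⥤ Sheaf J AddCommGrpCat.{u}) := by
  refine ⟨fun {K} _ => ?_⟩
  haveI : PreservesColimitsOfShape K
      (PresheafOfModules.sheafification (𝟙 (ModSite.ringSh O).obj) ⋙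
        SheafOfModules.toSheaf.{u} (ModSite.ringSh O)) := by
    have e := PresheafOfModules.sheafificationCompToSheaf.{u} (𝟙 (ModSite.ringSh O).obj)
    haveI : PreservesColimitsOfShape K (presheafToSheaf J AddCommGrpCat.{u}) :=
      (sheafificationAdjunction J AddCommGrpCat.{u}).leftAdjoint_preservesColimits.preservesColimitsOfShape
    exact preservesColimitsOfShape_of_natIso e.symm
  exact preserves_of_reflector (PresheafOfModules.sheafificationAdjunction (𝟙 (ModSite.ringSh O).obj))
    (SheafOfModules.toSheaf.{u} (ModSite.ringSh O))

end Groth.Agent.S12450
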