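import Groth.Statements.S12454

set_option autoImplicit false
universe u
open AlgebraicGeometry CategoryTheory CategoryTheory.Limits
open FlatMor

namespace Groth.Agent.S12454

theorem result {X Y Z : Scheme.{u}} (f : X ⟶ Y) (g : Y ⟶ Z)
    (hf : MoreMor.IsFormallyEtaleHom f) (hg : MoreMor.IsFormallyEtaleHom g) :
    MoreMor.IsFormallyEtaleHom (f ≫ g) := by
  intro A _ I hI a b hab
  obtain ⟨l₁, ⟨h1a, h1b⟩, h1u⟩ := hg A I hI (a ≫ f) b (by rw [hab, Category.assoc])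
  obtain ⟨l, ⟨h2a, h2b⟩, h2u⟩ := hf A I hI a l₁ h1a
  refine ⟨l, ⟨h2a, by rw [← Category.assoc, h2b, h1b]⟩, ?_⟩
  rintro l' ⟨h3a, h3b⟩
  apply h2u
  refine ⟨h3a, ?_⟩
  apply h1u
  refine ⟨by rw [← Category.assoc, h3a], by rw [Category.assoc, h3b]⟩

end Groth.Agent.S12454
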