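import Groth.Statements.S12458
import Groth.Agent.Lead.FibVanE

set_option autoImplicit false
universe u
open CategoryTheory AlgebraicGeometry
open Lim

namespace Groth.Agent.S12458

/-- Let f : X → Y be proper and y ∈ Y a point whose fibre X_y has dimension at most d. Then there is an
affine open neighbourhood V of y such that for the restriction f⁻¹(V) → V the higher direct images
R^i of every quasi-coherent module on f⁻¹(V) vanish for all i > d. (f⁻¹(V) and V are then
quasi-compact and quasi-separated, so the pair satisfies the hypotheses of the top-degree base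
change statement; its conclusions (a)–(c) are that statement applied to this pair. The published
statement assumes dim X_y = d; at most d is what its proof uses.) -/
theorem result {X Y : Scheme.{u}} (f : X ⟶ Y) [IsProper f]
    (y : Y) (d : ℕ) (hd : topologicalKrullDim ↥(f.fiber y) ≤ d) :
    ∃ V : Y.Opens, y ∈ V ∧ IsAffineOpen V ∧
      ∀ (M : (↑(f ⁻¹ᵁ V) : Scheme.{u}).Modules) (i : ℕ), Coh.IsQCoh M → d < i →
        Limits.IsZero ((Coh.RpushAb (f ∣_ V) i).obj (Coh.toAb M)) := by
  obtain ⟨V, hyV, hV, hprop, hdV⟩ :=
    Groth.Agent.Lead.FibVan.exists_affine_nhd_fibreDimAt_le f y d hd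
  haveI := hprop
  refine ⟨V, hyV, hV, fun M i hM hi => ?_⟩
  haveI : M.IsQuasicoherent := hM
  exact Groth.Agent.Lead.FibVan.isZero_RpushAb_of_fibreDimAt (f ∣_ V) d hdV M i hi

end Groth.Agent.S12458
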