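import Groth.Statements.S12460
import Mathlib

set_option autoImplicit false
universe u
open CategoryTheory AlgebraicGeometry
open Props

namespace Groth.Agent.S12460

open AlgebraicGeometry CategoryTheory in
theorem reg_iff_of_isLocalization {R T : Type u} [CommRing R] [CommRing T] [Algebra R T]
    (p : Ideal R) [p.IsPrime] [IsLocalization.AtPrime T p] :
    IsRegularLocalRing T ↔ IsRegularLocalRing (Localization.AtPrime p) := by
  let e : T ≃ₐ[R] Localization.AtPrime p :=
    IsLocalization.algEquiv p.primeCompl T (Localization.AtPrime p)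
  constructor
  · intro h
    exact IsRegularLocalRing.of_ringEquiv e.toRingEquiv
  · intro h
    exact IsRegularLocalRing.of_ringEquiv e.symm.toRingEquiv

open AlgebraicGeometry CategoryTheory in
theorem reg_fromSpec {Y : Scheme.{u}} {V : Y.Opens} (hV : IsAffineOpen V)
    (p : PrimeSpectrum Γ(Y, V)) :
    IsRegularLocalRing (Y.presheaf.stalk (hV.fromSpec p)) ↔ p ∈ EGA4.regLocus Γ(Y, V) := by
  have hmem : hV.fromSpec p ∈ V := by
    have : hV.fromSpec p ∈ Set.range hV.fromSpec := ⟨p, rfl⟩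
    rw [hV.range_fromSpec] at this
    exact this
  letI : Algebra Γ(Y, V) (Y.presheaf.stalk (hV.fromSpec p)) :=
    TopCat.Presheaf.algebra_section_stalk Y.presheaf ⟨hV.fromSpec p, hmem⟩
  haveI : IsLocalization.AtPrime (Y.presheaf.stalk (hV.fromSpec p)) p.asIdeal :=
    hV.isLocalization_stalk' p hmem
  exact reg_iff_of_isLocalization p.asIdeal

open AlgebraicGeometry CategoryTheory in
theorem reg_Spec (B : CommRingCat.{u}) (p : PrimeSpectrum B) :
    IsRegularLocalRing ((Spec B).presheaf.stalk p) ↔ p ∈ EGA4.regLocus B := by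
  letI k : Algebra ↑B ↑((Spec B).presheaf.stalk p) := StructureSheaf.stalkAlgebra (↑B) p
  haveI : IsLocalization.AtPrime (↑((Spec B).presheaf.stalk p)) p.asIdeal :=
    StructureSheaf.IsLocalization.to_stalk B p
  exact reg_iff_of_isLocalization p.asIdeal

open AlgebraicGeometry CategoryTheory in
theorem main (X : Scheme.{u}) [IsLocallyNoetherian X] :
    ((∀ (Y : Scheme.{u}) (g : Y ⟶ X), LocallyOfFiniteType g →
        IsOpen {y : Y | IsRegularLocalRing (Y.presheaf.stalk y)}) ↔
      ∀ U : X.affineOpens, EGA4.IsJ2 Γ(X, U)) ∧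
    ((∀ (Y : Scheme.{u}) (g : Y ⟶ X), LocallyOfFiniteType g →
        IsOpen {y : Y | IsRegularLocalRing (Y.presheaf.stalk y)}) ↔
      ∀ x : X, ∃ U : X.affineOpens, x ∈ (U : X.Opens) ∧ EGA4.IsJ2 Γ(X, U)) := by
  have h1 : (∀ (Y : Scheme.{u}) (g : Y ⟶ X), LocallyOfFiniteType g →
        IsOpen {y : Y | IsRegularLocalRing (Y.presheaf.stalk y)}) →
      ∀ U : X.affineOpens, EGA4.IsJ2 Γ(X, U) := by
    intro H U B _ _ hB
    have hlft : LocallyOfFiniteType (Spec.map (CommRingCat.ofHom (algebraMap Γ(X, U) B))) := by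
      rw [HasRingHomProperty.Spec_iff (P := @LocallyOfFiniteType)]
      exact RingHom.finiteType_algebraMap.mpr hB
    haveI := U.2.isOpenImmersion_fromSpec
    have := H (Spec (.of B)) (Spec.map (CommRingCat.ofHom (algebraMap Γ(X, U) B)) ≫ U.2.fromSpec)
      inferInstance
    have heq : {y : Spec (.of B) | IsRegularLocalRing ((Spec (.of B)).presheaf.stalk y)} =
        EGA4.regLocus B := by
      ext p
      exact reg_Spec (.of B) p
    rw [heq] at this
    exact this
  have h2 : (∀ U : X.affineOpens, EGA4.IsJ2 Γ(X, U)) →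
      ∀ x : X, ∃ U : X.affineOpens, x ∈ (U : X.Opens) ∧ EGA4.IsJ2 Γ(X, U) := by
    intro h x
    obtain ⟨_, ⟨U, hU, rfl⟩, hxU, -⟩ :=
      X.isBasis_affineOpens.exists_subset_of_mem_open (Set.mem_univ x) isOpen_univ
    exact ⟨⟨U, hU⟩, hxU, h ⟨U, hU⟩⟩
  have h3 : (∀ x : X, ∃ U : X.affineOpens, x ∈ (U : X.Opens) ∧ EGA4.IsJ2 Γ(X, U)) →
      (∀ (Y : Scheme.{u}) (g : Y ⟶ X), LocallyOfFiniteType g →
        IsOpen {y : Y | IsRegularLocalRing (Y.presheaf.stalk y)}) := by
    intro h Y g hg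
    rw [isOpen_iff_forall_mem_open]
    intro y hy
    obtain ⟨U, hxU, hJ2⟩ := h (g y)
    obtain ⟨_, ⟨V, hV0, rfl⟩, hyV, hVU⟩ :=
      Y.isBasis_affineOpens.exists_subset_of_mem_open (show y ∈ g ⁻¹ᵁ (U : X.Opens) from hxU)
        (g ⁻¹ᵁ (U : X.Opens)).isOpen
    have hV : IsAffineOpen V := hV0
    have hφ : (g.appLE U V hVU).hom.FiniteType := g.finiteType_appLE U.2 hV hVU
    letI : Algebra Γ(X, U) Γ(Y, V) := (g.appLE U V hVU).hom.toAlgebra
    have hopen : IsOpen (EGA4.regLocus Γ(Y, V)) := hJ2 Γ(Y, V) hφ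
    refine ⟨hV.fromSpec '' EGA4.regLocus Γ(Y, V), ?_, ?_, ?_⟩
    · rintro _ ⟨p, hp, rfl⟩
      exact (reg_fromSpec hV p).mpr hp
    · exact hV.fromSpec.isOpenEmbedding.isOpenMap _ hopen
    · refine ⟨hV.primeIdealOf ⟨y, hyV⟩, ?_, hV.fromSpec_primeIdealOf ⟨y, hyV⟩⟩
      refine (reg_fromSpec hV _).mp ?_
      rw [hV.fromSpec_primeIdealOf ⟨y, hyV⟩]
      exact hy
  exact ⟨⟨h1, fun h => h3 (h2 h)⟩, ⟨fun h => h2 (h1 h), h3⟩⟩

/-- (1) ⇔ (3) ⇔ (4): let X be a locally Noetherian scheme. Then X is J-2 — for every morphism Y → X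
locally of finite type the set of points y with O_{Y,y} a regular local ring is open in Y — if and
only if for every affine open U of X the ring Γ(X, U) is J-2 (every finite type algebra over it has
open regular locus), if and only if every point of X lies in such an affine open. (Schemes Y over X
are taken in the universe of X.) -/
theorem result (X : Scheme.{u}) [IsLocallyNoetherian X] :
    ((∀ (Y : Scheme.{u}) (g : Y ⟶ X), LocallyOfFiniteType g →
        IsOpen {y : Y | IsRegularLocalRing (Y.presheaf.stalk y)}) ↔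
      ∀ U : X.affineOpens, EGA4.IsJ2 Γ(X, U)) ∧
    ((∀ (Y : Scheme.{u}) (g : Y ⟶ X), LocallyOfFiniteType g →
        IsOpen {y : Y | IsRegularLocalRing (Y.presheaf.stalk y)}) ↔
      ∀ x : X, ∃ U : X.affineOpens, x ∈ (U : X.Opens) ∧ EGA4.IsJ2 Γ(X, U)) := by
  exact main X

end Groth.Agent.S12460
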