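import Groth.Statements.S12464
import Mathlib

set_option autoImplicit false
universe v' u' u
open CategoryTheory AlgebraicGeometry
open BigSite

namespace Groth.Agent.S12464

open Limits in
theorem bcSq {S T S' T' : Scheme.{u}} (f : T ⟶ S) (g : S' ⟶ S) (g' : T' ⟶ T) (f' : T' ⟶ S')
    (hsq : IsPullback g' f' f g) (Y : Over S') :
    IsPullback (pullback.fst Y.hom f') (pullback.snd Y.hom f' ≫ g') (Y.hom ≫ g) f :=
  (IsPullback.of_hasPullback Y.hom f').paste_vert hsq.flip

open Limits in
noncomputable def bcIso {S T S' T' : Scheme.{u}} (f : T ⟶ S) (g : S' ⟶ S) (g' : T' ⟶ T) (f' : T' ⟶ S')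
    (hsq : IsPullback g' f' f g) :
    Over.map g ⋙ Over.pullback f ≅ Over.pullback f' ⋙ Over.map g' :=
  NatIso.ofComponents
    (fun Y => Over.isoMk (bcSq f g g' f' hsq Y).isoPullback.symm
      (by
        change (bcSq f g g' f' hsq Y).isoPullback.inv ≫ (pullback.snd Y.hom f' ≫ g') =
          pullback.snd (Y.hom ≫ g) f
        exact (bcSq f g g' f' hsq Y).isoPullback_inv_snd))
    (by
      intro Y Y' φ
      ext
      apply (bcSq f g g' f' hsq Y').hom_ext
      · simp [Over.pullback]
        erw [pullback.lift_fst, pullback.lift_fst]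
        rw [← Category.assoc, IsPullback.isoPullback_inv_fst]
      · simp [Over.pullback]
        erw [pullback.lift_snd, pullback.lift_snd_assoc]
        rw [IsPullback.isoPullback_inv_snd])

theorem main (K : Precoverage Scheme.{u}) {S T S' T' : Scheme.{u}} (f : T ⟶ S) (g : S' ⟶ S)
    (g' : T' ⟶ T) (f' : T' ⟶ S') (hsq : IsPullback g' f' f g) (A : Type u') [Category.{v'} A] :
    Nonempty (BigSite.pushBig K f A ⋙ BigSite.pullBig K g A ≅
        BigSite.pullBig K g' A ⋙ BigSite.pushBig K f' A) := by
  haveI : (Over.map g ⋙ Over.pullback f).IsContinuous (QuotSh.J K S') (QuotSh.J K T) :=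
    Functor.isContinuous_comp _ _ _ (QuotSh.J K S) _
  haveI : (Over.pullback f' ⋙ Over.map g').IsContinuous (QuotSh.J K S') (QuotSh.J K T) :=
    Functor.isContinuous_comp _ _ _ (QuotSh.J K T') _
  exact ⟨Functor.sheafPushforwardContinuousComp (Over.map g) (Over.pullback f) A (QuotSh.J K S')
      (QuotSh.J K S) (QuotSh.J K T) ≪≫
    Functor.sheafPushforwardContinuousIso (bcIso f g g' f' hsq) A (QuotSh.J K S') (QuotSh.J K T) ≪≫
    (Functor.sheafPushforwardContinuousComp (Over.pullback f') (Over.map g') A (QuotSh.J K S')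
      (QuotSh.J K T') (QuotSh.J K T)).symm⟩

/-- Let g' : T' → T, f' : T' → S', f : T → S, g : S' → S be a cartesian square of schemes. Then g_big⁻¹
∘ f_big,* ≅ f'_big,* ∘ g'_big⁻¹ as functors from sheaves on Sch/T to sheaves on Sch/S', both for the
big Zariski sites and for the big étale sites. (Existence of natural isomorphisms; the published one
sends both sides to U' ↦ F(U' ×_{S'} T').) -/
theorem result {S T S' T' : Scheme.{u}} (f : T ⟶ S) (g : S' ⟶ S) (g' : T' ⟶ T) (f' : T' ⟶ S') (hsq : IsPullback g' f' f g)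
    (A : Type u') [Category.{v'} A] :
    Nonempty (BigSite.pushBig Scheme.zariskiPrecoverage f A ⋙ BigSite.pullBig Scheme.zariskiPrecoverage g A ≅
        BigSite.pullBig Scheme.zariskiPrecoverage g' A ⋙ BigSite.pushBig Scheme.zariskiPrecoverage f' A) ∧
      Nonempty (BigSite.pushBig Scheme.etalePrecoverage f A ⋙ BigSite.pullBig Scheme.etalePrecoverage g A ≅
        BigSite.pullBig Scheme.etalePrecoverage g' A ⋙ BigSite.pushBig Scheme.etalePrecoverage f' A) := by
  exact ⟨main _ f g g' f' hsq A, main _ f g g' f' hsq A⟩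

end Groth.Agent.S12464
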