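import Groth.Statements.S1247
import Mathlib
import Groth.Agent.S1245
import Groth.Agent.Helper9.PQF25
-- import your own Groth.Agent.* helpers here

set_option autoImplicit false
universe u
open FlatMor

namespace Groth.Agent.S1247

/-- Ring form, X = Spec B and S = Spec A affine with A Noetherian: let B be a finite type A-algebra, N a
finite B-module and p a prime of A. If there is an impurity of N above p then there is one whose
base change A → A' is of finite type and quasi-finite at the point t. -/
theorem result {A B : Type u} [CommRing A] [IsNoetherianRing A] [CommRing B] [Algebra A B] [Algebra.FiniteType A B]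
    (N : Type u) [AddCommGroup N] [Module B N] [Module.Finite B N] (p : Ideal A) [p.IsPrime]
    (h : FlatCA.HasImpurity A B N p (fun _ _ _ _ => True)) :
    FlatCA.HasImpurity A B N p (fun A' _ _ t => ∃ _ : t.IsPrime, Algebra.FiniteType A A' ∧ Algebra.QuasiFiniteAt A t) := by
  classical
  letI : Module A N := Module.compHom N (algebraMap A B)
  haveI : IsScalarTower A B N := ⟨fun a b n => by
    show (a • b) • n = algebraMap A B a • (b • n)
    rw [Algebra.smul_def, mul_smul]⟩
  obtain ⟨A₁, B₁, N₁, _, _, _, _, _, _, _, _, _, _, _, _, _, _, f₁, u, t₁, _, _, P, _, himp,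
    hfp, hmax⟩ := Groth.Agent.S1245.result N p h
  haveI : Algebra.FiniteType A A₁ := Algebra.FiniteType.of_finitePresentation
  haveI : IsNoetherianRing A₁ := Algebra.FiniteType.isNoetherianRing A A₁
  exact Groth.Agent.Helper9.PQF25.hasImpurity_quasiFinite p f₁ t₁ u P himp hmax

end Groth.Agent.S1247
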