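import Groth.Statements.S5734
import Groth.Agent.Helper1.RP3
import Groth.Agent.Helper1.SY17
import Groth.Agent.Helper1.TR24
import Groth.Agent.Helper1.CI1
import Groth.Agent.Helper1.LinEmb1

set_option autoImplicit false
universe u
open CategoryTheory CategoryTheory.Limits AlgebraicGeometry TopologicalSpace Opposite
open scoped HomogeneousIdeal
open EGA2

namespace Groth.Agent.S5734

/-- Let E and F be quasi-coherent O_Y-modules with graded symmetric algebras 𝒮E, 𝒮F and let 𝒮 be the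
graded symmetric algebra of E ⊕ F; let πE : 𝒮 → 𝒮E and πF : 𝒮 → 𝒮F be the graded algebra
homomorphisms induced by the two projections of E ⊕ F (compatible with the structure maps from E ⊕
F, E and F), the irrelevant ideal of the target being generated by the image of that of the source
over every affine open (so that the induced morphisms of homogeneous spectra are everywhere
defined). Let P(E ⊕ F), P(E), P(F) be the projective bundles with their charts and hE : P(E) → P(E ⊕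
F), hF : P(F) → P(E ⊕ F) the morphisms chartwise induced by πE and πF. Then the morphism P(E) ⨿ P(F)
→ P(E ⊕ F) which restricts to hE and hF is a closed immersion: the disjoint union of P(E) and P(F)
is a closed subscheme of P(E ⊕ F). -/
theorem result {Y PE PF P : Scheme.{u}} (E F : Y.Modules)
    (hE : Coh.IsQCoh E) (hF : Coh.IsQCoh F) (𝒮E 𝒮F 𝒮 : RelProj.QCGrAlg Y)
    (jE : E ⟶ 𝒮E.toModule) (hjE : RelProj.IsGrSymAlg E 𝒮E jE)
    (jF : F ⟶ 𝒮F.toModule) (hjF : RelProj.IsGrSymAlg F 𝒮F jF)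
    (j : E ⊞ F ⟶ 𝒮.toModule) (hj : RelProj.IsGrSymAlg (E ⊞ F) 𝒮 j)
    (πE : 𝒮.toQCAlg ⟶ 𝒮E.toQCAlg) (hπE : RelProj.IsGradedHom πE)
    (hjπE : j ≫ RelSpec.QCAlg.Hom.toModuleMap πE = biprod.fst ≫ jE)
    (πF : 𝒮.toQCAlg ⟶ 𝒮F.toQCAlg) (hπF : RelProj.IsGradedHom πF)
    (hjπF : j ≫ RelSpec.QCAlg.Hom.toModuleMap πF = biprod.snd ≫ jF)
    (hirrE : ∀ (U : Y.Opens) (hU : IsAffineOpen U),
      (𝒮E.deg U hU)₊ ≤ ((𝒮.deg U hU)₊).map (RelProj.gradedHomAt πE hπE U hU))
    (hirrF : ∀ (U : Y.Opens) (hU : IsAffineOpen U),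
      (𝒮F.deg U hU)₊ ≤ ((𝒮.deg U hU)₊).map (RelProj.gradedHomAt πF hπF U hU))
    (p : P ⟶ Y) (pE : PE ⟶ Y) (pF : PF ⟶ Y)
    (chart : ∀ (U : Y.Opens) (hU : IsAffineOpen U), ((p ⁻¹ᵁ U : P.Opens) : Scheme.{u}) ≅ Proj (𝒮.deg U hU))
    (chartE : ∀ (U : Y.Opens) (hU : IsAffineOpen U), ((pE ⁻¹ᵁ U : PE.Opens) : Scheme.{u}) ≅ Proj (𝒮E.deg U hU))
    (chartF : ∀ (U : Y.Opens) (hU : IsAffineOpen U), ((pF ⁻¹ᵁ U : PF.Opens) : Scheme.{u}) ≅ Proj (𝒮F.deg U hU))
    (hP : RelProj.IsRelProj 𝒮 p chart) (hPE : RelProj.IsRelProj 𝒮E pE chartE) (hPF : RelProj.IsRelProj 𝒮F pF chartF)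
    (hE' : PE ⟶ P) (hhE : RelProj.IsRelProjMap πE hπE hirrE chart chartE hE')
    (hF' : PF ⟶ P) (hhF : RelProj.IsRelProjMap πF hπF hirrF chart chartF hF') :
    IsClosedImmersion (coprod.desc hE' hF') := by
  classical
  haveI : E.IsQuasicoherent := hE
  haveI : F.IsQuasicoherent := hF
  haveI : (E ⊞ F).IsQuasicoherent := Groth.Agent.Helper4.QcohLimits.isQuasicoherent_biprod E F
  have hsE : ∀ (U : Y.Opens) (hU : IsAffineOpen U), Function.Surjective (πE.hom.app (op U)).hom :=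
    fun U hU => Groth.Agent.Helper1.SY.hom_app_surjective_of_epi hjE.1 biprod.fst πE hjπE U hU
  have hsF : ∀ (U : Y.Opens) (hU : IsAffineOpen U), Function.Surjective (πF.hom.app (op U)).hom :=
    fun U hU => Groth.Agent.Helper1.SY.hom_app_surjective_of_epi hjF.1 biprod.snd πF hjπF U hU
  haveI : IsClosedImmersion hE' :=
    Groth.Agent.Helper1.RP.relProjMap_of_chartwise πE hπE hirrE @IsClosedImmersion hP hPE hE' hhE
      (fun U hU => Groth.Agent.Helper1.LinEmb.isClosedImmersion_map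
        (RelProj.gradedHomAt πE hπE U hU) (hsE U hU))
  haveI : IsClosedImmersion hF' :=
    Groth.Agent.Helper1.RP.relProjMap_of_chartwise πF hπF hirrF @IsClosedImmersion hP hPF hF' hhF
      (fun U hU => Groth.Agent.Helper1.LinEmb.isClosedImmersion_map
        (RelProj.gradedHomAt πF hπF U hU) (hsF U hU))
  have hcE : hE' ≫ p = pE := Groth.Agent.Helper1.RP.relProjMap_comm πE hπE hirrE hP hPE hE' hhE
  have hcF : hF' ≫ p = pF := Groth.Agent.Helper1.RP.relProjMap_comm πF hπF hirrF hP hPF hF' hhF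
  apply Groth.Agent.Helper1.CI.isClosedImmersion_coprod_desc
  intro x x' hxx'
  -- an affine open around the image in `Y`
  obtain ⟨U, hU, hyU⟩ : ∃ U : Y.Opens, IsAffineOpen U ∧ p (hE' x) ∈ U := by
    obtain ⟨_, ⟨U, hU, rfl⟩, hy, -⟩ :=
      (Y.isBasis_affineOpens).exists_subset_of_mem_open (Set.mem_univ (p (hE' x))) isOpen_univ
    exact ⟨U, hU, hy⟩
  have hxU : x ∈ pE ⁻¹ᵁ U := by
    change pE x ∈ U
    rw [← hcE]
    exact hyU
  have hx'U : x' ∈ pF ⁻¹ᵁ U := by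
    change pF x' ∈ U
    rw [← hcF, Scheme.Hom.comp_apply, ← hxx']
    exact hyU
  let 𝔮 := (chartE U hU).hom ⟨x, hxU⟩
  let 𝔮' := (chartF U hU).hom ⟨x', hx'U⟩
  have h1 : hE' x = (p ⁻¹ᵁ U).ι ((chart U hU).inv
      (Proj.map (RelProj.gradedHomAt πE hπE U hU) (hirrE U hU) 𝔮)) := by
    have := congrArg (fun t => t ⟨x, hxU⟩) (hhE U hU)
    simpa using this
  have h2 : hF' x' = (p ⁻¹ᵁ U).ι ((chart U hU).inv
      (Proj.map (RelProj.gradedHomAt πF hπF U hU) (hirrF U hU) 𝔮')) := by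
    have := congrArg (fun t => t ⟨x', hx'U⟩) (hhF U hU)
    simpa using this
  have hinj1 : Function.Injective ((p ⁻¹ᵁ U).ι : ↥(p ⁻¹ᵁ U) → P) :=
    (p ⁻¹ᵁ U).ι.isOpenEmbedding.injective
  have hinj2 : Function.Injective ((chart U hU).inv : Proj (𝒮.deg U hU) → ↥(p ⁻¹ᵁ U)) :=
    (chart U hU).inv.isOpenEmbedding.injective
  rw [h1, h2] at hxx'
  have hab : Proj.map (RelProj.gradedHomAt πE hπE U hU) (hirrE U hU) 𝔮 =
      Proj.map (RelProj.gradedHomAt πF hπF U hU) (hirrF U hU) 𝔮' := hinj2 (hinj1 hxx')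
  set a : Proj (𝒮.deg U hU) := Proj.map (RelProj.gradedHomAt πE hπE U hU) (hirrE U hU) 𝔮 with ha
  have hmemE : ∀ s : 𝒮.presheaf.obj (op U), (πE.hom.app (op U)).hom s = 0 →
      s ∈ a.asHomogeneousIdeal.toIdeal := by
    intro s hs
    change (RelProj.gradedHomAt πE hπE U hU) s ∈ 𝔮.asHomogeneousIdeal.toIdeal
    change (πE.hom.app (op U)).hom s ∈ 𝔮.asHomogeneousIdeal.toIdeal
    rw [hs]
    exact zero_mem _
  have hmemF : ∀ s : 𝒮.presheaf.obj (op U), (πF.hom.app (op U)).hom s = 0 →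
      s ∈ a.asHomogeneousIdeal.toIdeal := by
    intro s hs
    rw [hab]
    change (πF.hom.app (op U)).hom s ∈ 𝔮'.asHomogeneousIdeal.toIdeal
    rw [hs]
    exact zero_mem _
  have hπEj : ∀ m : Γ(E ⊞ F, U), (πE.hom.app (op U)).hom (Groth.Agent.Helper1.SY.jR j U m) =
      Groth.Agent.Helper1.SY.jR jE U ((biprod.fst : E ⊞ F ⟶ E).app U m) := by
    intro m
    have := congrArg (fun f : E ⊞ F ⟶ 𝒮E.toModule => f.app U m) hjπE
    exact this
  have hπFj : ∀ m : Γ(E ⊞ F, U), (πF.hom.app (op U)).hom (Groth.Agent.Helper1.SY.jR j U m) =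
      Groth.Agent.Helper1.SY.jR jF U ((biprod.snd : E ⊞ F ⟶ F).app U m) := by
    intro m
    have := congrArg (fun f : E ⊞ F ⟶ 𝒮F.toModule => f.app U m) hjπF
    exact this
  have hall : ∀ m : Γ(E ⊞ F, U), Groth.Agent.Helper1.SY.jR j U m ∈ a.asHomogeneousIdeal.toIdeal := by
    intro m
    rw [Groth.Agent.Helper1.SY.biprod_total_app U m, map_add]
    refine add_mem (hmemF _ ?_) (hmemE _ ?_)
    · rw [hπFj, Groth.Agent.Helper1.SY.biprod_inl_snd_app, map_zero]
    · rw [hπEj, Groth.Agent.Helper1.SY.biprod_inr_fst_app, map_zero]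
  refine a.not_irrelevant_le ?_
  intro s hs
  have h3 := Groth.Agent.Helper1.SY.irrelevant_le_span_range_j hj U hU hs
  refine (Ideal.span_le.2 ?_) h3
  rintro _ ⟨m, rfl⟩
  exact hall m

end Groth.Agent.S5734
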