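import Groth.Statements.S12477
import Groth.Agent.Helper1.SG11
import Groth.Agent.Helper1.CI2
import Groth.Agent.Helper1.CI3
import Groth.Agent.Helper1.RP10
import Groth.Agent.Helper1.TR34
import Groth.Agent.S5734

set_option autoImplicit false
universe u
open CategoryTheory CategoryTheory.Limits AlgebraicGeometry TopologicalSpace Opposite
open scoped HomogeneousIdeal
open EGA2

namespace Groth.Agent.S12477

/-- Let X and X' be schemes with disjoint union X ⨿ X', let f'' : X ⨿ X' → Y be a morphism (given by a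
morphism f on X and a morphism f' on X') and L'' an invertible module on X ⨿ X' (given by an
invertible O_X-module L and an invertible O_{X'}-module L'). Then L'' is very ample relative to f''
(isomorphic to the inverse image of O(1) along a Y-immersion of X into the projective bundle P(E) of
a quasi-coherent O_Y-module E) if and only if L, the inverse image of L'' on X, is very ample
relative to f and L', the inverse image of L'' on X', is very ample relative to f'. -/
theorem result {X X' Y : Scheme.{u}} (f'' : X ⨿ X' ⟶ Y) (L'' : (X ⨿ X').Modules)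
    (hL'' : PicF.IsInvertible L'') :
    RelProj.IsRelVeryAmple f'' L'' ↔
      RelProj.IsRelVeryAmple (coprod.inl ≫ f'') ((Scheme.Modules.pullback (coprod.inl : X ⟶ X ⨿ X')).obj L'') ∧
        RelProj.IsRelVeryAmple (coprod.inr ≫ f'') ((Scheme.Modules.pullback (coprod.inr : X' ⟶ X ⨿ X')).obj L'') := by
  constructor
  · rintro ⟨E, hE, 𝒮, j, hj, P, p, chart, hP, O1, lam, hO1, i, hi, hip, ⟨e⟩⟩
    haveI := hi
    refine ⟨⟨E, hE, 𝒮, j, hj, P, p, chart, hP, O1, lam, hO1, coprod.inl ≫ i, inferInstance,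
      by rw [Category.assoc, hip], ⟨?_⟩⟩, ⟨E, hE, 𝒮, j, hj, P, p, chart, hP, O1, lam, hO1,
      coprod.inr ≫ i, inferInstance, by rw [Category.assoc, hip], ⟨?_⟩⟩⟩
    · exact (Scheme.Modules.pullback coprod.inl).mapIso e ≪≫
        (Scheme.Modules.pullbackComp coprod.inl i).app O1
    · exact (Scheme.Modules.pullback coprod.inr).mapIso e ≪≫
        (Scheme.Modules.pullbackComp coprod.inr i).app O1
  · rintro ⟨⟨E, hE, 𝒮, j, hj, P, p, chart, hP, O1, lam, hO1, i, hi, hip, ⟨e⟩⟩,
      ⟨E', hE', 𝒮', j', hj', P', p', chart', hP', O1', lam', hO1', i', hi', hip', ⟨e'⟩⟩⟩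
    haveI : E.IsQuasicoherent := hE
    haveI : E'.IsQuasicoherent := hE'
    haveI hEE : (E ⊞ E').IsQuasicoherent :=
      Groth.Agent.Helper4.QcohLimits.isQuasicoherent_biprod E E'
    haveI := hi
    haveI := hi'
    obtain ⟨𝒮'', j'', hj''⟩ : ∃ (𝒮'' : RelProj.QCGrAlg Y) (j'' : E ⊞ E' ⟶ 𝒮''.toModule),
        RelProj.IsGrSymAlg (E ⊞ E') 𝒮'' j'' :=
      ⟨_, _, Groth.Agent.Helper1.SG.isGrSymAlg_grAlg (Groth.Agent.Helper1.SY.isSymAlg_symAlg (E ⊞ E'))⟩
    obtain ⟨P'', p'', chart'', hP''⟩ := Groth.Agent.Helper1.RP.exists_isRelProj 𝒮''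
    obtain ⟨O1'', lam'', hO1''⟩ := Groth.Agent.Helper1.TRE.exists_isRelTwist 1 hP''
    obtain ⟨ψ, hg, hirr, h, hψ, hh, hcl, hcomm, hiso⟩ :=
      Groth.Agent.Helper1.SG.exists_relProjMap_of_epi hj'' hj (biprod.fst : E ⊞ E' ⟶ E) hP'' hP
    obtain ⟨ψ', hg', hirr', h', hψ', hh', hcl', hcomm', hiso'⟩ :=
      Groth.Agent.Helper1.SG.exists_relProjMap_of_epi hj'' hj' (biprod.snd : E ⊞ E' ⟶ E') hP'' hP'
    obtain ⟨ε⟩ := hiso O1'' lam'' O1 lam hO1'' hO1
    obtain ⟨ε'⟩ := hiso' O1'' lam'' O1' lam' hO1'' hO1'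
    haveI hdesc : IsClosedImmersion (coprod.desc h h') :=
      Groth.Agent.S5734.result E E' hE hE' 𝒮 𝒮' 𝒮'' j hj j' hj' j'' hj'' ψ hg hψ ψ' hg' hψ' hirr hirr'
        p'' p p' chart'' chart chart' hP'' hP hP' h hh h' hh'
    haveI := Groth.Agent.Helper1.CI.isImmersion_coprod_map i i'
    have heq1 : coprod.inl ≫ coprod.map i i' ≫ coprod.desc h h' = i ≫ h := by
      rw [coprod.inl_map_assoc, coprod.inl_desc]
    have heq2 : coprod.inr ≫ coprod.map i i' ≫ coprod.desc h h' = i' ≫ h' := by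
      rw [coprod.inr_map_assoc, coprod.inr_desc]
    have hc := isCompl_opensRange_inl_inr X X'
    obtain ⟨e''⟩ := Groth.Agent.Helper1.CI.nonempty_iso_of_pullback_iso
      (coprod.inl : X ⟶ X ⨿ X') (coprod.inr : X' ⟶ X ⨿ X') hc.inf_eq_bot hc.sup_eq_top L''
      ((Scheme.Modules.pullback (coprod.map i i' ≫ coprod.desc h h')).obj O1'')
      (e ≪≫ (Scheme.Modules.pullback i).mapIso ε.symm ≪≫
        (Scheme.Modules.pullbackComp i h).app O1'' ≪≫
        (Scheme.Modules.pullbackCongr heq1.symm).app O1'' ≪≫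
        ((Scheme.Modules.pullbackComp coprod.inl (coprod.map i i' ≫ coprod.desc h h')).app O1'').symm)
      (e' ≪≫ (Scheme.Modules.pullback i').mapIso ε'.symm ≪≫
        (Scheme.Modules.pullbackComp i' h').app O1'' ≪≫
        (Scheme.Modules.pullbackCongr heq2.symm).app O1'' ≪≫
        ((Scheme.Modules.pullbackComp coprod.inr (coprod.map i i' ≫ coprod.desc h h')).app O1'').symm)
    refine ⟨E ⊞ E', hEE, 𝒮'', j'', hj'', P'', p'', chart'', hP'', O1'', lam'', hO1'',
      coprod.map i i' ≫ coprod.desc h h', inferInstance, ?_, ⟨e''⟩⟩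
    apply coprod.hom_ext
    · rw [← Category.assoc, ← Category.assoc, Category.assoc coprod.inl, heq1, Category.assoc, hcomm, hip]
    · rw [← Category.assoc, ← Category.assoc, Category.assoc coprod.inr, heq2, Category.assoc, hcomm', hip']

end Groth.Agent.S12477
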