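import Groth.Statements.S1248
import Mathlib
import Groth.Agent.Helper9.PQF10
import Groth.Agent.Helper9.PQF14
import Groth.Agent.Helper9.PQF17
-- import your own Groth.Agent.* helpers here

set_option autoImplicit false
universe u
open FlatMor

namespace Groth.Agent.S1248

open IsLocalRing in
/-- Ring form, X = Spec B affine: let B be a finite type A-algebra, N a finite B-module and p a prime of
A. If there is an impurity of N above p whose base change ring A' is a henselization of the local
ring A_p (compatibly with A → A_p) and whose point t is the maximal ideal, then there is an impurity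
of N above p for which (A', t) is an elementary étale ring map at p. -/
theorem result {A B : Type u} [CommRing A] [CommRing B] [Algebra A B] [Algebra.FiniteType A B]
    (N : Type u) [AddCommGroup N] [Module B N] [Module.Finite B N] (p : Ideal A) [p.IsPrime]
    (h : FlatCA.HasImpurity A B N p (fun A' _ _ t => ∃ (_ : IsLocalRing A') (_ : Algebra (Localization.AtPrime p) A')
        (_ : IsScalarTower A (Localization.AtPrime p) A') (_ : IsLocalHom (algebraMap (Localization.AtPrime p) A')),
        Hensel.IsHenselization (Localization.AtPrime p) A' ∧ t = maximalIdeal A')) :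
    FlatCA.HasImpurity A B N p (fun A' _ _ t => ∃ _ : t.IsPrime, FlatCA.IsEtaleNhd A A' p t) := by
  classical
  obtain ⟨A', B', N', _, _, _, _, _, _, _, _, _, _, _, _, _, _, f, t', t, _, _, P, _, himp,
    ⟨iloc, ialg, itw, ilh, hhens, ht⟩⟩ := h
  obtain ⟨F, hF⟩ := Groth.Agent.Helper9.PQF14.exists_finset_descent p f t' t P himp
  obtain ⟨C, _, _, q, _, _, _, hnhd, hq, hrange⟩ :=
    Groth.Agent.Helper9.PQF17.exists_etaleNhd_range p A' F
  obtain ⟨B'', N'', _, _, _, _, _, _, _, _, _, _, _, _, f'', hpo'', hf''⟩ :=
    Groth.Agent.Helper9.PQF10.exists_model A B N C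
  obtain ⟨s'', P'', hP''p, hs'', himp''⟩ := hF C B'' N'' hpo'' f'' hf'' hrange
  have hq' : t.comap (algebraMap C A') = q := by rw [ht]; exact hq
  have hlo : q.LiesOver p := hnhd.2.1
  have himp₃ := himp'' q hq'.le (hq' ▸ hs'') hlo
  exact ⟨C, B'', N'', inferInstance, inferInstance, inferInstance, inferInstance, inferInstance,
    inferInstance, inferInstance, inferInstance, inferInstance, inferInstance, inferInstance,
    inferInstance, inferInstance, inferInstance, f'', t'.comap (algebraMap C A'), q,
    Ideal.comap_isPrime _ _, inferInstance, P'', hP''p, himp₃, ⟨inferInstance, hnhd⟩⟩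

end Groth.Agent.S1248
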