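import Groth.Statements.S12482
import Mathlib

set_option autoImplicit false
universe u
open Dual

namespace Groth.Agent.S12482

open RingTheory.Sequence

/-- the ideal generated by the first `m` members. -/
def Jm {A : Type u} [CommRing A] {p : ℕ} (x : Fin p → A) (m : ℕ) : Ideal A :=
  Ideal.span (x '' {i : Fin p | i.val < m})

theorem ofList_take {A : Type u} [CommRing A] {p : ℕ} (x : Fin p → A) (m : ℕ) :
    Ideal.ofList ((List.ofFn x).take m) = Jm x m := by
  unfold Ideal.ofList Jm
  congr 1
  ext a
  simp only [Set.mem_setOf_eq, Set.mem_image]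
  rw [List.mem_take_iff_getElem]
  constructor
  · rintro ⟨i, hi, rfl⟩
    have hi' : i < p := by
      have := (lt_min_iff.mp hi).2
      simpa using this
    refine ⟨⟨i, hi'⟩, (lt_min_iff.mp hi).1, ?_⟩
    simp
  · rintro ⟨j, hj, rfl⟩
    refine ⟨j.val, ?_, ?_⟩
    · rw [lt_min_iff]; exact ⟨hj, by simp⟩
    · simp

theorem reg_at {A : Type u} [CommRing A] {p : ℕ} (x : Fin p → A)
    (hreg : IsWeaklyRegular A (List.ofFn x)) (m : Fin p) (a : A)
    (h : a * x m ∈ Jm x m.val) : a ∈ Jm x m.val := by
  have h1 := hreg.regular_mod_prev m.val (by simp)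
  rw [ofList_take] at h1
  have hx : (List.ofFn x)[m.val]'(by simp) = x m := by simp
  rw [hx] at h1
  have h2 : x m • (Submodule.Quotient.mk a : A ⧸ (Jm x m.val • (⊤ : Submodule A A)))
      = x m • (Submodule.Quotient.mk 0 : A ⧸ (Jm x m.val • (⊤ : Submodule A A))) := by
    rw [← Submodule.Quotient.mk_smul, ← Submodule.Quotient.mk_smul, smul_zero,
      Submodule.Quotient.mk_zero, Submodule.Quotient.mk_eq_zero]
    rw [smul_eq_mul, mul_comm]
    simpa [mul_comm] using h
  have h3 := h1 h2
  rw [Submodule.Quotient.mk_zero, Submodule.Quotient.mk_eq_zero] at h3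
  simpa using h3

theorem Jm_mono {A : Type u} [CommRing A] {p : ℕ} (x : Fin p → A) {m n : ℕ} (h : m ≤ n) :
    Jm x m ≤ Jm x n := by
  apply Ideal.span_mono
  apply Set.image_mono
  intro i hi
  exact lt_of_lt_of_le hi h

theorem mem_Jm {A : Type u} [CommRing A] {p : ℕ} (x : Fin p → A) {m : ℕ} (i : Fin p) (hi : i.val < m) :
    x i ∈ Jm x m := Ideal.subset_span ⟨i, hi, rfl⟩

theorem rel {A : Type u} [CommRing A] {p : ℕ} (x : Fin p → A)
    (hreg : IsWeaklyRegular A (List.ofFn x)) :
    ∀ m, m ≤ p → ∀ a : Fin p → A,
      (∑ i ∈ Finset.univ.filter (fun i : Fin p => i.val < m), a i * x i = 0) →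
      ∀ i : Fin p, i.val < m → a i ∈ Jm x m := by
  classical
  intro m
  induction m with
  | zero => intro _ a _ i hi; exact absurd hi (Nat.not_lt_zero _)
  | succ m ih =>
    intro hm a ha i hi
    let im : Fin p := ⟨m, hm⟩
    have hfilter : Finset.univ.filter (fun i : Fin p => i.val < m + 1)
        = insert im (Finset.univ.filter (fun i : Fin p => i.val < m)) := by
      ext j
      simp only [Finset.mem_filter, Finset.mem_univ, true_and, Finset.mem_insert]
      constructor
      · intro hj
        by_cases h : j.val = m
        · left; exact Fin.ext h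
        · right; omega
      · rintro (rfl | hj)
        · exact Nat.lt_succ_self m
        · omega
    have hnot : im ∉ Finset.univ.filter (fun i : Fin p => i.val < m) := by
      simp [im]
    rw [hfilter, Finset.sum_insert hnot] at ha
    have h1 : a im * x im ∈ Jm x m := by
      have : a im * x im = -∑ i ∈ Finset.univ.filter (fun i : Fin p => i.val < m), a i * x i := by
        rw [eq_neg_iff_add_eq_zero]; exact ha
      rw [this]
      apply (Jm x m).neg_mem
      apply Ideal.sum_mem
      intro j hj
      rw [Finset.mem_filter] at hj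
      exact Ideal.mul_mem_left _ _ (mem_Jm x j hj.2)
    have h2 : a im ∈ Jm x m := reg_at x hreg im (a im) h1
    unfold Jm at h2
    rw [Finsupp.mem_span_image_iff_linearCombination] at h2
    obtain ⟨l, hl, hla⟩ := h2
    have hl0 : ∀ j : Fin p, ¬ j.val < m → l j = 0 := by
      intro j hj
      by_contra hne
      have : j ∈ l.support := Finsupp.mem_support_iff.mpr hne
      exact hj (hl this)
    have hsum : ∑ j ∈ Finset.univ.filter (fun i : Fin p => i.val < m), l j * x j = a im := by
      rw [← hla, Finsupp.linearCombination_apply, Finsupp.sum]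
      symm
      apply Finset.sum_subset
      · intro j hj
        rw [Finset.mem_filter]
        exact ⟨Finset.mem_univ _, hl hj⟩
      · intro j _ hj
        rw [Finsupp.notMem_support_iff] at hj
        rw [hj, zero_smul]
    have ha' : ∑ j ∈ Finset.univ.filter (fun i : Fin p => i.val < m), (a j + l j * x im) * x j = 0 := by
      have : ∀ j, (a j + l j * x im) * x j = a j * x j + x im * (l j * x j) := fun j => by ring
      simp only [this, Finset.sum_add_distrib, ← Finset.mul_sum, hsum]
      rw [add_comm, mul_comm]; exact ha
    have hIH := ih (Nat.le_of_succ_le hm) (fun j => a j + l j * x im) ha'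
    by_cases hii : i = im
    · subst hii
      apply Jm_mono x (Nat.le_succ m)
      unfold Jm
      rw [Finsupp.mem_span_image_iff_linearCombination]
      exact ⟨l, hl, hla⟩
    · have hi' : i.val < m := by
        have : i.val ≠ m := fun h => hii (Fin.ext h)
        omega
      have h3 := hIH i hi'
      have h4 : a i = (a i + l i * x im) - l i * x im := by ring
      rw [h4]
      apply Ideal.sub_mem
      · exact Jm_mono x (Nat.le_succ m) h3
      · exact Ideal.mul_mem_left _ _ (mem_Jm x im (Nat.lt_succ_self m))


/-- Let `A` be a commutative ring, `x_1, …, x_p` a sequence of elements of `A` such that each `x_i` is a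
non-zero-divisor on `A/(x_1, …, x_{i-1})`, and `J` the ideal generated by the `x_i`. Then `J/J²` is
a free `(A/J)`-module with basis the classes of the `x_i`: there is a basis of `J/J²` over `A/J`,
indexed by `1, …, p`, whose `i`-th vector is the class of `x_i`. (The other assertions of the
published statement, on the Koszul complex and on Ext and Tor against `A/J`, are stated separately.) -/
theorem result (A : Type u) [CommRing A] (p : ℕ) (x : Fin p → A)
    (hreg : RingTheory.Sequence.IsWeaklyRegular A (List.ofFn x)) :
    ∃ b : Module.Basis (Fin p) (A ⧸ Ideal.span (Set.range x)) (Ideal.span (Set.range x)).Cotangent,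
      ∀ i, b i = (Ideal.span (Set.range x)).toCotangent ⟨x i, Ideal.subset_span (Set.mem_range_self i)⟩ := by
  classical
  have hJ : Ideal.span (Set.range x) = Jm x p := by
    unfold Jm
    congr 1
    ext a
    simp
  -- quasi-regularity in degree one
  have hq : ∀ a : Fin p → A, (∑ i, a i * x i ∈ Ideal.span (Set.range x) ^ 2) →
      ∀ i, a i ∈ Ideal.span (Set.range x) := by
    intro a ha
    have ha' : ∑ i, a i * x i ∈ Ideal.span (Set.range x) • Submodule.span A (Set.range x) := by
      rw [pow_two] at ha
      exact ha
    obtain ⟨c, hc, hsum⟩ := (Submodule.mem_ideal_smul_span_iff_exists_sum _ x _).mp ha'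
    have hsum' : ∑ i, c i * x i = ∑ i, a i * x i := by
      rw [← hsum, Finsupp.sum_fintype]
      · rfl
      · intro i; rw [zero_smul]
    have hfil : Finset.univ.filter (fun i : Fin p => i.val < p) = Finset.univ := by
      ext i; simp
    have h0 : ∑ i ∈ Finset.univ.filter (fun i : Fin p => i.val < p), (a i - c i) * x i = 0 := by
      rw [hfil]
      simp only [sub_mul, Finset.sum_sub_distrib, hsum', sub_self]
    have h1 := rel x hreg p le_rfl (fun i => a i - c i) h0
    intro i
    have h2 := h1 i i.2
    rw [← hJ] at h2
    have : a i = (a i - c i) + c i := by ring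
    rw [this]
    exact Ideal.add_mem _ h2 (hc i)
  let v : Fin p → (Ideal.span (Set.range x)).Cotangent := fun i =>
    (Ideal.span (Set.range x)).toCotangent ⟨x i, Ideal.subset_span (Set.mem_range_self i)⟩
  have hcomb : ∀ a : Fin p → A, ∑ i, (Ideal.Quotient.mk (Ideal.span (Set.range x)) (a i)) • v i
      = (Ideal.span (Set.range x)).toCotangent
          ⟨∑ i, a i * x i, Ideal.sum_mem _ (fun i _ => Ideal.mul_mem_left _ _
            (Ideal.subset_span (Set.mem_range_self i)))⟩ := by
    intro a
    have : (⟨∑ i, a i * x i, Ideal.sum_mem _ (fun i _ => Ideal.mul_mem_left _ _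
            (Ideal.subset_span (Set.mem_range_self i)))⟩ : Ideal.span (Set.range x))
        = ∑ i, a i • (⟨x i, Ideal.subset_span (Set.mem_range_self i)⟩ : Ideal.span (Set.range x)) := by
      apply Subtype.ext
      simp
    rw [this, map_sum]
    apply Finset.sum_congr rfl
    intro i _
    rw [map_smul]
    rfl
  have hli : LinearIndependent (A ⧸ Ideal.span (Set.range x)) v := by
    rw [Fintype.linearIndependent_iff]
    intro g hg i
    choose a ha using fun i => Ideal.Quotient.mk_surjective (g i)
    have hg' : ∑ i, (Ideal.Quotient.mk (Ideal.span (Set.range x)) (a i)) • v i = 0 := by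
      simp only [ha]; exact hg
    rw [hcomb, Ideal.toCotangent_eq_zero] at hg'
    have := hq a hg' i
    rw [← ha i, Ideal.Quotient.eq_zero_iff_mem]
    exact this
  have hsp : ⊤ ≤ Submodule.span (A ⧸ Ideal.span (Set.range x)) (Set.range v) := by
    intro y _
    obtain ⟨z, rfl⟩ := Ideal.toCotangent_surjective _ y
    have hz : (z : A) ∈ Submodule.span A (Set.range x) := z.2
    rw [Submodule.mem_span_range_iff_exists_fun] at hz
    obtain ⟨c, hc⟩ := hz
    have : z = ⟨∑ i, c i * x i, Ideal.sum_mem _ (fun i _ => Ideal.mul_mem_left _ _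
            (Ideal.subset_span (Set.mem_range_self i)))⟩ := by
      apply Subtype.ext
      rw [← hc]
      simp
    rw [this, ← hcomb]
    apply Submodule.sum_mem
    intro i _
    exact Submodule.smul_mem _ _ (Submodule.subset_span (Set.mem_range_self i))
  exact ⟨Module.Basis.mk hli hsp, fun i => Module.Basis.mk_apply hli hsp i⟩

end Groth.Agent.S12482
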