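import Groth.Statements.S12513
import Mathlib

set_option autoImplicit false
universe u
open Mero

namespace Groth.Agent.S12513

open AlgebraicGeometry in
/-- For a scheme X and an affine open U of X, the sections of O_X over U with nonzerodivisor germ at
every point of U are exactly the nonzerodivisors of the ring O_X(U). No Noetherian hypothesis is
needed. -/
theorem result (X : Scheme.{u}) (U : X.Opens)
    (hU : IsAffineOpen U) : Mero.regSub X U = nonZeroDivisors Γ(X, U) := by
  ext f
  constructor
  · intro hf
    rw [mem_nonZeroDivisors_iff_right]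
    intro a ha
    apply eq_zero_of_localization
    intro J hJ
    have hJp : J.IsPrime := hJ.isPrime
    let y : PrimeSpectrum Γ(X, U) := ⟨J, hJp⟩
    have hy : hU.fromSpec y ∈ U := by
      have := hU.opensRange_fromSpec
      have h0 : hU.fromSpec y ∈ hU.fromSpec.opensRange := ⟨y, rfl⟩
      rw [this] at h0
      exact h0
    have hloc := hU.isLocalization_stalk' y hy
    have h1 := hf ⟨_, hy⟩
    have h2 : X.presheaf.germ U (hU.fromSpec y) hy a * X.presheaf.germ U (hU.fromSpec y) hy f = 0 := by
      rw [← map_mul, ha, map_zero]
    have h3 : X.presheaf.germ U (hU.fromSpec y) hy a = 0 := (mem_nonZeroDivisors_iff_right.mp h1) _ h2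
    letI := TopCat.Presheaf.algebra_section_stalk X.presheaf ⟨hU.fromSpec y, hy⟩
    have hloc' : IsLocalization J.primeCompl (X.presheaf.stalk (hU.fromSpec y)) := hloc
    have h4 := (IsLocalization.map_eq_zero_iff J.primeCompl (X.presheaf.stalk (hU.fromSpec y)) a).mp h3
    obtain ⟨m, hm⟩ := h4
    exact (IsLocalization.map_eq_zero_iff J.primeCompl (Localization.AtPrime J) a).mpr ⟨m, hm⟩
  · intro hf x
    have hloc := hU.isLocalization_stalk x
    exact IsLocalization.map_nonZeroDivisors_le (hU.primeIdealOf x).asIdeal.primeCompl
      (X.presheaf.stalk x) ⟨f, hf, rfl⟩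

end Groth.Agent.S12513
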