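import Groth.Statements.S12520
import Groth.Agent.Helper5.FFKp2
import Groth.Agent.Helper5.FFKaehler

set_option autoImplicit false
universe u v
open FunFld

namespace Groth.Agent.S12520

/-- For a geometric function field of one variable `K/k` of characteristic `p > 0` and a geometric
function field `K₀/k₀` with `K₀ ⊆ K` of finite index (and `k₀ ⊆ k` compatibly), the map `Ω_{K₀/k₀} →
Ω_{K/k}` induced by the inclusion vanishes when `K₀ ⊆ kK^p` and is injective otherwise. -/
theorem result (k₀ k : Type u) (K₀ K : Type v) [Field k₀] [Field k] [Field K₀] [Field K]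
    [Algebra k₀ k] [Algebra k₀ K₀] [Algebra k₀ K] [Algebra k K] [Algebra K₀ K]
    [IsScalarTower k₀ k K] [IsScalarTower k₀ K₀ K] [FiniteDimensional K₀ K]
    (p : ℕ) [Fact p.Prime] [CharP K p]
    (hK : FunFld.IsFunctionField k K) (hg : FunFld.IsGeometric k K)
    (hK₀ : FunFld.IsFunctionField k₀ K₀) (hg₀ : FunFld.IsGeometric k₀ K₀) :
    (Set.range (algebraMap K₀ K) ⊆ ↑(IntermediateField.adjoin k (Set.range fun y : K => y ^ p)) →
      KaehlerDifferential.map k₀ k K₀ K = 0) ∧
    (¬ Set.range (algebraMap K₀ K) ⊆ ↑(IntermediateField.adjoin k (Set.range fun y : K => y ^ p)) →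
      Function.Injective (KaehlerDifferential.map k₀ k K₀ K)) := by
  have hcrit : ∀ x : K, x ∈ IntermediateField.adjoin k (Set.range fun y : K => y ^ p) ↔
      KaehlerDifferential.D k K x = 0 := fun x =>
    (Groth.Agent.Helper5.FF.mem_adjoin_pow_char_iff p hK hg x).1
  constructor
  · intro hsub
    apply LinearMap.ext_on (KaehlerDifferential.span_range_derivation k₀ K₀)
    rintro _ ⟨a, rfl⟩
    rw [KaehlerDifferential.map_D, LinearMap.zero_apply]
    exact (hcrit _).mp (hsub ⟨a, rfl⟩)
  · intro hnot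
    rw [Set.not_subset] at hnot
    obtain ⟨_, ⟨a, rfl⟩, ha⟩ := hnot
    have hDa : KaehlerDifferential.D k K (algebraMap K₀ K a) ≠ 0 := fun h => ha ((hcrit _).mpr h)
    have hmap : KaehlerDifferential.map k₀ k K₀ K (KaehlerDifferential.D k₀ K₀ a) ≠ 0 := by
      rw [KaehlerDifferential.map_D]; exact hDa
    have hD0 : KaehlerDifferential.D k₀ K₀ a ≠ 0 := by
      intro h; rw [h, map_zero] at hmap; exact hmap rfl
    have hrank := Groth.Agent.Helper5.FF.finrank_kaehler_eq_one hK₀ hg₀
    rw [finrank_eq_one_iff_of_nonzero' _ hD0] at hrank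
    rw [injective_iff_map_eq_zero]
    intro ω hω
    obtain ⟨c, rfl⟩ := hrank ω
    rw [map_smul] at hω
    rw [← algebraMap_smul K c, smul_eq_zero] at hω
    rcases hω with h | h
    · rw [(map_eq_zero (algebraMap K₀ K)).mp h, zero_smul]
    · exact absurd h hmap

end Groth.Agent.S12520
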