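import Groth.Statements.S12524
import Mathlib
import Groth.Agent.Helper6.CDvrPS

set_option autoImplicit false
universe u v
open CAlg

namespace Groth.Agent.S12524

open IsLocalRing in
/-- Let `A` be a complete discrete valuation ring with maximal ideal `m`, containing a field `K` such
that `K → A → A/m` is bijective (a coefficient field), and let `x` be any generator of `m`. Then the
`K`-algebra map `K[X] → A`, `X ↦ x`, extends to a bijective `K`-algebra map `φ : K⟦X⟧ → A`,
characterised by `φ(∑ aᵢ Xⁱ) ≡ ∑_{i<n} aᵢ xⁱ (mod mⁿ)` for every `n`. -/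
theorem result (K : Type u) (A : Type v) [Field K]
    [CommRing A] [IsDomain A] [IsDiscreteValuationRing A] [Algebra K A]
    [IsAdicComplete (maximalIdeal A) A]
    (hK : Function.Bijective ((residue A).comp (algebraMap K A)))
    (x : A) (hx : maximalIdeal A = Ideal.span {x}) :
    ∃ φ : PowerSeries K →ₐ[K] A, φ PowerSeries.X = x ∧ Function.Bijective φ ∧
      ∀ (f : PowerSeries K) (n : ℕ),
        φ f - (Finset.range n).sum (fun i => algebraMap K A (PowerSeries.coeff i f) * x ^ i) ∈
          maximalIdeal A ^ n := by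
  have hx0 : x ≠ 0 := by
    intro h0
    apply IsDiscreteValuationRing.not_a_field A
    rw [hx, h0, Ideal.span_singleton_eq_bot]
  have hKinj : ∀ c : K, algebraMap K A c ∈ maximalIdeal A → c = 0 := by
    intro c hc
    apply hK.1
    rw [map_zero]
    exact (IsLocalRing.residue_eq_zero_iff _).2 hc
  have hKsurj : ∀ a : A, ∃ c : K, a - algebraMap K A c ∈ maximalIdeal A := by
    intro a
    obtain ⟨c, hc⟩ := hK.2 (residue A a)
    refine ⟨c, ?_⟩
    rw [← IsLocalRing.residue_eq_zero_iff, map_sub, sub_eq_zero]
    exact hc.symm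
  exact ⟨Groth.Agent.Helper6.CDvrPS.phi x hx, Groth.Agent.Helper6.CDvrPS.phi_X x hx,
    ⟨Groth.Agent.Helper6.CDvrPS.phi_injective x hx hx0 hKinj,
      Groth.Agent.Helper6.CDvrPS.phi_surjective x hx hKsurj⟩,
    fun f n => Groth.Agent.Helper6.CDvrPS.phi_congr x hx f n⟩

end Groth.Agent.S12524
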