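import Groth.Statements.S13167
import Mathlib
import Groth.Agent.Helper6.GrGen

set_option autoImplicit false
universe u
open AlgebraicGeometry
open ZeroCyc

namespace Groth.Agent.S13167

theorem avoid {ι R M : Type*} [CommRing R] [AddCommGroup M] [Module R M] (P : Ideal R)
    (T : Set R) (hT : ∀ a ∈ T, ∀ b ∈ T, a ≠ b → a - b ∉ P)
    (s : Finset ι) (N : ι → Submodule R M)
    (h₁ : ∀ i ∈ s, N i ≠ ⊤)
    (htf : ∀ i ∈ s, ∀ r : R, r ∉ P → ∀ m : M, r • m ∈ N i → m ∈ N i)
    (h₂ : (s.card : ℕ∞) ≤ T.encard) :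
    ⋃ i ∈ s, (N i : Set M) ≠ Set.univ := by
  classical
  induction s using Finset.induction_on with
  | empty =>
    simp only [Finset.notMem_empty, Set.iUnion_of_empty, Set.iUnion_empty]
    exact (Set.empty_ne_univ (α := M))
  | insert j s hj ih =>
    intro hcov
    rw [Finset.card_insert_of_notMem hj] at h₂
    have hlt : (s.card : ℕ∞) < T.encard := by
      refine lt_of_lt_of_le ?_ h₂
      exact_mod_cast Nat.lt_succ_self _
    have ih' := ih (fun i hi => h₁ i (Finset.mem_insert_of_mem hi))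
      (fun i hi => htf i (Finset.mem_insert_of_mem hi)) hlt.le
    apply ih'
    have hcov' : (N j : Set M) ∪ (⋃ i ∈ s, (N i : Set M)) = Set.univ := by
      simpa only [Finset.mem_insert, Set.iUnion_iUnion_eq_or_left] using hcov
    suffices hsub : (N j : Set M) ⊆ ⋃ i ∈ s, (N i : Set M) by
      rwa [Set.union_eq_right.mpr hsub] at hcov'
    intro x hx
    obtain ⟨y, hy⟩ : ∃ y, y ∉ N j := by
      by_contra hcon
      push Not at hcon
      exact h₁ j (Finset.mem_insert_self _ _) (eq_top_iff.mpr fun z _ => hcon z)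
    have hz : ∀ t : R, t • x + y ∈ ⋃ i ∈ s, (N i : Set M) := by
      intro t
      have : t • x + y ∈ (N j : Set M) ∪ (⋃ i ∈ s, (N i : Set M)) := by rw [hcov']; trivial
      rcases this with h | h
      · exfalso
        apply hy
        have := (N j).sub_mem h ((N j).smul_mem t hx)
        simpa using this
      · exact h
    have hz' : ∀ t : R, ∃ i ∈ s, t • x + y ∈ N i := by
      intro t
      have := hz t
      simp only [Set.mem_iUnion, SetLike.mem_coe, exists_prop] at this
      exact this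
    choose g hg hg' using hz'
    have hmaps : Set.MapsTo g T (s : Set ι) := fun t _ => hg t
    have hcard : (s : Set ι).encard < T.encard := by
      rw [Set.encard_coe_eq_coe_finsetCard]
      exact hlt
    obtain ⟨t₁, ht₁, t₂, ht₂, hne, heq⟩ := Set.exists_ne_map_eq_of_encard_lt_of_maps_to hcard hmaps
    have h1 := hg' t₁
    have h2 := hg' t₂
    rw [heq] at h1
    have h3 : (t₁ - t₂) • x ∈ N (g t₂) := by
      have := (N (g t₂)).sub_mem h1 h2
      convert this using 1
      rw [sub_smul]; abel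
    have h4 : x ∈ N (g t₂) :=
      htf (g t₂) (Finset.mem_insert_of_mem (hg t₂)) _ (hT t₁ ht₁ t₂ ht₂ hne) x h3
    simp only [Set.mem_iUnion, SetLike.mem_coe, exists_prop]
    exact ⟨g t₂, hg t₂, h4⟩

theorem exists_reps {R : Type u} [CommRing R] (p : Ideal R) [p.IsPrime] (d : ℕ)
    (hcard : (d : Cardinal) ≤ Cardinal.mk p.ResidueField) :
    ∃ T : Set R, (d : ℕ∞) ≤ T.encard ∧ ∀ a ∈ T, ∀ b ∈ T, a ≠ b → a - b ∉ p := by
  classical
  have h1 : Cardinal.mk p.ResidueField ≤ Cardinal.mk (R ⧸ p) :=
    IsLocalization.cardinalMk_le (L := p.ResidueField) (nonZeroDivisors (R ⧸ p))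
  obtain ⟨S, hS⟩ := Cardinal.exists_finset_le_card (R ⧸ p) d (hcard.trans h1)
  refine ⟨(fun z : R ⧸ p => Quotient.out z) '' (S : Set (R ⧸ p)), ?_, ?_⟩
  · rw [Set.InjOn.encard_image]
    · rw [Set.encard_coe_eq_coe_finsetCard]
      exact_mod_cast hS
    · intro a _ b _ hab
      have := congrArg (Ideal.Quotient.mk p) hab
      simpa using this
  · rintro _ ⟨a, _, rfl⟩ _ ⟨b, _, rfl⟩ hne hmem
    apply hne
    have : a = b := by
      have h := (Ideal.Quotient.eq (I := p)).mpr hmem
      simpa using h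
    rw [this]

/-- Let B be a graded R-algebra generated by its degree-one part B_1, with B_1 a finitely generated
R-module, and let x_1, …, x_d be points of X = Proj B lying over one and the same prime p of R. If
the residue field of p has at least d elements, then some f ∈ B_1 ⊆ Γ(X, O_X(1)) has all the x_i in
D_+(f). (Without the hypothesis on the residue field such an f exists in some B_n with n ≥ 1; that
first assertion is a known property of ample sheaves and is not restated here.) -/
theorem result {R A : Type u} [CommRing R] [CommRing A] [Algebra R A] (𝒜 : ℕ → Submodule R A) [GradedAlgebra 𝒜]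
    (hgen : Algebra.adjoin R (𝒜 1 : Set A) = ⊤) (hfg : (𝒜 1).FG)
    (p : Ideal R) [p.IsPrime] {d : ℕ} (x : Fin d → Proj 𝒜)
    (hx : ∀ i, ((x i).asHomogeneousIdeal.toIdeal).comap (algebraMap R A) = p)
    (hcard : (d : Cardinal) ≤ Cardinal.mk p.ResidueField) :
    ∃ g ∈ 𝒜 1, ∀ i, x i ∈ Proj.basicOpen 𝒜 g := by
  classical
  obtain ⟨T, hTcard, hT⟩ := exists_reps p d hcard
  -- finite generating set of 𝒜 1
  obtain ⟨S, hS⟩ := hfg
  have hadj : Algebra.adjoin R (S : Set A) = ⊤ := by
    rw [← Algebra.adjoin_span, hS]; exact hgen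
  let e := S.equivFin
  let f : Fin S.card → A := fun i => (e.symm i : A)
  have hrange : Set.range f = (S : Set A) := by
    ext a
    constructor
    · rintro ⟨i, rfl⟩
      exact (e.symm i).2
    · intro ha
      exact ⟨e ⟨a, ha⟩, by simp [f]⟩
  have hf1 : ∀ i, f i ∈ 𝒜 1 := by
    intro i
    rw [← hS]
    exact Submodule.subset_span (e.symm i).2
  have hgen' : Algebra.adjoin R (Set.range f) = ⊤ := by rw [hrange]; exact hadj
  let N : Fin d → Submodule R (𝒜 1) := fun i =>
    Submodule.comap (𝒜 1).subtype ((x i).asHomogeneousIdeal.toIdeal.restrictScalars R)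
  have hN : ∀ i (m : 𝒜 1), m ∈ N i ↔ (m : A) ∈ (x i).asHomogeneousIdeal := fun i m => Iff.rfl
  have h₁ : ∀ i ∈ (Finset.univ : Finset (Fin d)), N i ≠ ⊤ := by
    intro i _ htop
    obtain ⟨j, hj⟩ := Groth.Agent.Helper6.GrGen.exists_not_mem 𝒜 f (fun _ => 1) hf1 hgen' (x i)
    apply hj
    have : (⟨f j, hf1 j⟩ : 𝒜 1) ∈ N i := by rw [htop]; trivial
    exact (hN i _).mp this
  have htf : ∀ i ∈ (Finset.univ : Finset (Fin d)), ∀ r : R, r ∉ p → ∀ m : 𝒜 1, r • m ∈ N i → m ∈ N i := by
    intro i _ r hr m hm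
    rw [hN] at hm ⊢
    rw [Submodule.coe_smul, Algebra.smul_def] at hm
    rcases (x i).isPrime.mem_or_mem hm with h | h
    · exfalso
      apply hr
      rw [← hx i]
      exact h
    · exact h
  have hne := avoid p T hT Finset.univ N h₁ htf (by simpa using hTcard)
  rw [Ne, Set.eq_univ_iff_forall] at hne
  push Not at hne
  obtain ⟨g, hg⟩ := hne
  refine ⟨g, g.2, ?_⟩
  intro i
  rw [Proj.mem_basicOpen]
  intro hcon
  apply hg
  simp only [Set.mem_iUnion, SetLike.mem_coe, exists_prop]
  exact ⟨i, Finset.mem_univ _, (hN i g).mpr hcon⟩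

end Groth.Agent.S13167
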