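import Groth.Statements.S12550
import Mathlib.LinearAlgebra.FiniteDimensional.Lemmas

set_option autoImplicit false
universe u
open GIT

namespace Groth.Agent.S12550

/-- Let V be a finite-dimensional vector space over a field K and x_0, …, x_m non-zero vectors, a
configuration of m + 1 points of the projective space P(V). If for every subspace L with 0 ≠ L ≠ V
the number of indices i with x_i ∈ L, multiplied by dim V, is less than dim L · (m + 1) (the
configuration is stable), then no two proper subspaces L', L'' with L' ∩ L'' = 0 contain between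
them all the x_i. -/
theorem result (K : Type u) [Field K]
    (V : Type u) [AddCommGroup V] [Module K V] [FiniteDimensional K V]
    (m : ℕ) (x : Fin (m + 1) → V) (hx : ∀ i, x i ≠ 0)
    (hst : ∀ L : Submodule K V, L ≠ ⊥ → L ≠ ⊤ →
      Set.ncard {i : Fin (m + 1) | x i ∈ L} * Module.finrank K V < Module.finrank K L * (m + 1)) :
    ¬ ∃ L' L'' : Submodule K V, L' ≠ ⊤ ∧ L'' ≠ ⊤ ∧ Disjoint L' L'' ∧ ∀ i, x i ∈ L' ∨ x i ∈ L'' := by
  rintro ⟨L', L'', h1, h2, hd, hcov⟩
  set S' : Set (Fin (m + 1)) := {i | x i ∈ L'} with hS'
  set S'' : Set (Fin (m + 1)) := {i | x i ∈ L''} with hS''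
  have hun : S' ∪ S'' = Set.univ := by
    ext i
    simp only [Set.mem_union, Set.mem_univ, iff_true]
    exact hcov i
  have hcard : m + 1 ≤ S'.ncard + S''.ncard := by
    have h := Set.ncard_union_le S' S''
    rw [hun, Set.ncard_univ, Nat.card_eq_fintype_card, Fintype.card_fin] at h
    exact h
  have hdim : Module.finrank K L' + Module.finrank K L'' ≤ Module.finrank K V :=
    Submodule.finrank_add_finrank_le_of_disjoint hd
  have key : ∀ L : Submodule K V, L ≠ ⊤ →
      Set.ncard {i : Fin (m + 1) | x i ∈ L} * Module.finrank K V ≤ Module.finrank K L * (m + 1) ∧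
      (L ≠ ⊥ → Set.ncard {i : Fin (m + 1) | x i ∈ L} * Module.finrank K V < Module.finrank K L * (m + 1)) := by
    intro L hL
    by_cases hb : L = ⊥
    · subst hb
      have : {i : Fin (m + 1) | x i ∈ (⊥ : Submodule K V)} = ∅ := by
        ext i
        simp only [Submodule.mem_bot, Set.mem_empty_iff_false, iff_false]
        exact hx i
      rw [this, Set.ncard_empty, zero_mul]
      exact ⟨Nat.zero_le _, fun h => absurd rfl h⟩
    · exact ⟨(hst L hb hL).le, fun _ => hst L hb hL⟩
  obtain ⟨k1, k1'⟩ := key L' h1
  obtain ⟨k2, k2'⟩ := key L'' h2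
  have hne : L' ≠ ⊥ ∨ L'' ≠ ⊥ := by
    rcases hcov 0 with h | h
    · left
      intro hb
      rw [hb, Submodule.mem_bot] at h
      exact hx 0 h
    · right
      intro hb
      rw [hb, Submodule.mem_bot] at h
      exact hx 0 h
  have hsum : (S'.ncard + S''.ncard) * Module.finrank K V <
      (Module.finrank K L' + Module.finrank K L'') * (m + 1) := by
    rw [add_mul, add_mul]
    rcases hne with h | h
    · exact add_lt_add_of_lt_of_le (k1' h) k2
    · exact add_lt_add_of_le_of_lt k1 (k2' h)
  have h3 : (Module.finrank K L' + Module.finrank K L'') * (m + 1) ≤ Module.finrank K V * (m + 1) :=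
    Nat.mul_le_mul_right _ hdim
  have h4 : (m + 1) * Module.finrank K V ≤ (S'.ncard + S''.ncard) * Module.finrank K V :=
    Nat.mul_le_mul_right _ hcard
  have h5 : Module.finrank K V * (m + 1) = (m + 1) * Module.finrank K V := Nat.mul_comm _ _
  omega

end Groth.Agent.S12550
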