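import Groth.Statements.S12556
import Mathlib
import Groth.Agent.Helper6.HopfRed

set_option autoImplicit false
universe u
open TensorProduct
open GIT

namespace Groth.Agent.S12556

/-- Let k be a field, G = Spec A a linearly reductive affine group (A a commutative Hopf algebra whose
finite-dimensional comodules are all semisimple) acting on the affine scheme Spec R (a
multiplicative coaction of A on the commutative k-algebra R), and E : R → R a linear map commuting
with the coaction, idempotent, and fixing exactly the invariant elements. Then E(x · y) = E(x) · y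
for all x in R and all invariant y. -/
theorem result (k : Type u) [Field k] (A : Type u) [CommRing A] [HopfAlgebra k A]
    (hG : HopfRep.IsLinearlyReductive k A)
    (R : Type u) [CommRing R] [Algebra k R] [HopfRep.Comod k A R] [GLin.IsCoactAlg k A R]
    (E : R →ₗ[k] R) (h₁ : Hoch.IsComodHom A E) (h₂ : E ∘ₗ E = E)
    (h₃ : ∀ x : R, E x = x ↔ x ∈ GLin.invariants k A R)
    (x y : R) (hy : y ∈ GLin.invariants k A R) : E (x * y) = E x * y := by
  have hEinv : ∀ z : R, E z ∈ GLin.invariants k A R := fun z =>
    (h₃ (E z)).1 (LinearMap.congr_fun h₂ z)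
  -- multiplication by y is a comodule map
  have hmy : Hoch.IsComodHom A (LinearMap.mulRight k y) := by
    unfold Hoch.IsComodHom
    ext z
    simp only [LinearMap.comp_apply, LinearMap.mulRight_apply]
    have hy' : HopfRep.Comod.coact (k := k) (A := A) y = y ⊗ₜ[k] (1 : A) := hy
    rw [GLin.IsCoactAlg.coact_mul (k := k) (A := A), hy']
    generalize (HopfRep.Comod.coact (k := k) (A := A) z : TensorProduct k R A) = t
    induction t using TensorProduct.induction_on with
    | zero => simp
    | add a b ha hb => simp only [add_mul, map_add, ha, hb]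
    | tmul r a => simp [Algebra.TensorProduct.tmul_mul_tmul]
  have hcomp : Hoch.IsComodHom A (E ∘ₗ LinearMap.mulRight k y) := by
    unfold Hoch.IsComodHom at h₁ hmy ⊢
    rw [← LinearMap.comp_assoc, h₁, LinearMap.comp_assoc, hmy, ← LinearMap.comp_assoc,
      ← LinearMap.rTensor_comp]
  have hsub : Hoch.IsComodHom A (LinearMap.id - E : R →ₗ[k] R) := by
    unfold Hoch.IsComodHom at h₁ ⊢
    rw [LinearMap.comp_sub, LinearMap.rTensor_sub, LinearMap.sub_comp, h₁, LinearMap.rTensor_id]
    rfl
  -- decompose x
  have hx : x = E x + (x - E x) := by ring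
  have hEE : ∀ z, E (E z) = E z := fun z => LinearMap.congr_fun h₂ z
  have key : E ((x - E x) * y) = 0 := by
    obtain ⟨W₀, hxW₀, hW₀, hfin⟩ :=
      Groth.Agent.Helper6.HopfFin.exists_finite_subcomod (k := k) (A := A) (x - E x)
    have hW := Groth.Agent.Helper6.HopfRed.isSubcomod_map (LinearMap.id - E : R →ₗ[k] R) hsub W₀ hW₀
    haveI : Module.Finite k (W₀.map (LinearMap.id - E : R →ₗ[k] R)) := Module.Finite.map _ _
    have hmem : x - E x ∈ W₀.map (LinearMap.id - E : R →ₗ[k] R) := by
      refine ⟨x - E x, hxW₀, ?_⟩
      simp only [LinearMap.sub_apply, LinearMap.id_apply, map_sub, hEE, sub_self, sub_zero]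
    have := Groth.Agent.Helper6.HopfRed.eq_zero_on_subcomod hG
      (W₀.map (LinearMap.id - E : R →ₗ[k] R)) hW
      (by
        rintro _ ⟨w₀, _, rfl⟩ hfix
        have h1 : E ((LinearMap.id - E : R →ₗ[k] R) w₀) = 0 := by
          simp only [LinearMap.sub_apply, LinearMap.id_apply, map_sub, hEE, sub_self]
        have h2 := (h₃ _).2 hfix
        rw [← h2, h1])
      (E ∘ₗ LinearMap.mulRight k y) hcomp (fun w _ => hEinv _) (x - E x) hmem
    simpa using this
  have h4 : E (E x * y) = E x * y :=
    (h₃ _).2 ((GLin.invariants k A R).mul_mem (hEinv x) hy)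
  calc E (x * y) = E (E x * y + (x - E x) * y) := by congr 1; ring
    _ = E x * y := by rw [map_add, key, h4, add_zero]

end Groth.Agent.S12556
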