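import Groth.Statements.S12580
import Groth.Agent.Helper5.FFFinite
import Groth.Agent.Helper5.FFOrd

set_option autoImplicit false
universe u v w
open FunFld

namespace Groth.Agent.S12580

/-- In a function field of one variable `K/k`, `Res_P(u dv) = 0` when `u, v ∈ O_P` (already before the
trace), and for a repartition `α` and `v ∈ K`, `Res_P(α_P dv) = 0` for almost all `P`; residues read
through Laurent expansions over `k` at every place. -/
theorem result (k : Type u) (K : Type v) [Field k] [Field K] [Algebra k K] (hK : FunFld.IsFunctionField k K)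
    (F : FunFld.Place k K → Type w) [∀ P, Field (F P)] [∀ P, Algebra k (F P)] [∀ P, FiniteDimensional k (F P)]
    (φ : ∀ P, K →ₐ[k] LaurentSeries (F P)) (hφ : ∀ P, LocRes.IsExpansionAt P.1 (φ P)) :
    (∀ (P : FunFld.Place k K) (u v : K), P.1 u ≤ 1 → P.1 v ≤ 1 → LocRes.resExp (φ P) u v = 0) ∧
    ∀ (a : FunFld.Place k K → K), a ∈ FunFld.adele k K → ∀ v : K,
      {P : FunFld.Place k K | LocRes.resExp (φ P) (a P) v ≠ 0}.Finite := by
  have key : ∀ (P : FunFld.Place k K) (u v : K), P.1 u ≤ 1 → P.1 v ≤ 1 →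
      LocRes.resExp (φ P) u v = 0 := by
    intro P u v hu hv
    obtain ⟨Y, hY⟩ := (LaurentSeries.val_le_one_iff_eq_coe (F P) (φ P u)).1
      (by rw [(hφ P).1]; exact hu)
    obtain ⟨X', hX'⟩ := (LaurentSeries.val_le_one_iff_eq_coe (F P) (φ P v)).1
      (by rw [(hφ P).1]; exact hv)
    unfold LocRes.resExp
    rw [← hY, ← hX', LocRes.D_coe, ← PowerSeries.coe_mul, LocRes.res_apply, PowerSeries.coeff_coe,
      if_pos (by norm_num)]
  refine ⟨key, ?_⟩
  intro a ha v
  have h1 : {P : FunFld.Place k K | ¬ P.1 (a P) ≤ 1}.Finite := ha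
  have h2 : {P : FunFld.Place k K | ¬ P.1 v ≤ 1}.Finite := by
    apply (Groth.Agent.Helper5.FF.finite_support_ord hK v).subset
    intro P hP
    rw [Function.mem_support]
    rw [Set.mem_ofPred_eq, not_le] at hP
    have hv0 : v ≠ 0 := by
      rintro rfl
      rw [map_zero] at hP
      exact not_lt_zero hP
    have := (Groth.Agent.Helper5.FF.ord_neg_iff P hv0).mpr hP
    omega
  apply (h1.union h2).subset
  intro P hP
  rw [Set.mem_ofPred_eq] at hP
  by_contra hcon
  rw [Set.mem_union, not_or] at hcon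
  simp only [Set.mem_ofPred_eq, not_not] at hcon
  exact hP (key P (a P) v hcon.1 hcon.2)

end Groth.Agent.S12580
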