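import Groth.Statements.S12604
import Groth.Agent.Helper6.WDivGlob

set_option autoImplicit false
open FunFld

namespace Groth.Agent.S12604

/-- Over an algebraically closed constant field, let `τ` be a `k`-endomorphism of the function field `K`
of genus `g`, of degree `deg τ = [K : τ(K)]`, and `φ = (φ₀, …, φₙ)` a projective map such that
`τ(φ)` is not a `K`-multiple of `φ`, with `τ`-orders `j₁, …, jₙ`. Then the number `N` of strong
fixed points of `τ` (places whose maximal ideal `τ` maps into its square) is finite and `n N ≤ (n +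
deg τ) deg φ + (2g - 2)(j₁ + ⋯ + jₙ)`, i.e. `N ≤ (1/n) deg W(φ, τ)`. -/
theorem result
    (k K : Type*) [Field k] [IsAlgClosed k] [Field K] [Algebra k K]
    (hK : FunFld.IsFunctionField k K) (τ : K →ₐ[k] K) {n : ℕ} (φ : Fin (n + 1) → K) (hφ : LinearIndependent k φ)
    (hτφ : ¬ ∃ y : K, ∀ i, τ (φ i) = y * φ i) (s : K) (H : K →ₐ[k] PowerSeries K) (hH : LocRes.IsHasseFamily s H)
    (J : Fin n → ℕ) (hJ : FunFld.IsOrders K (FunFld.hcol τ H φ) J) :
    {P : FunFld.Place k K | FunFld.IsStrongFixedPt τ P}.Finite ∧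
    (n : ℤ) * (Set.ncard {P : FunFld.Place k K | FunFld.IsStrongFixedPt τ P} : ℤ) ≤
      ((n : ℤ) + Module.finrank τ.fieldRange K) * (FunFld.mapDiv k φ).deg +
        (2 * (FunFld.genus k K : ℤ) - 2) * ∑ l, (J l : ℤ) := by
  classical
  rcases Nat.eq_zero_or_pos n with hn0 | hn
  · subst hn0
    exfalso
    apply hτφ
    refine ⟨τ (φ 0) / φ 0, fun i => ?_⟩
    have hi : i = 0 := Fin.ext (by have := i.2; omega)
    rw [hi, div_mul_cancel₀ _ (hφ.ne_zero 0)]
  · let Φ : FunFld.Place k K → (K →ₐ[k] LaurentSeries k) := fun P =>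
      Groth.Agent.Helper5.Ex.Φ P (Groth.Agent.Helper5.FF.deg_eq_one_of_isAlgClosed hK P)
        (Classical.choose_spec (Groth.Agent.Helper5.FF.exists_uniformizer P))
    have hΦ : ∀ P : FunFld.Place k K, LocRes.IsExpansionAt P.1 (Φ P) := fun P =>
      Groth.Agent.Helper5.Ex.isExpansionAt_Φ P _ _
    obtain ⟨h1, h2⟩ := Groth.Agent.Helper6.WDivGlob.strong_finite_and_le hK hn φ hφ τ hH J hJ Φ hΦ
    refine ⟨h1, h2.trans_eq ?_⟩
    rw [Groth.Agent.Helper6.WDivGlob.deg_wDiv hK φ τ hH J Φ hΦ]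
    ring

end Groth.Agent.S12604
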