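import Groth.Statements.S12608
import Groth.Agent.Helper5.WrWeier

set_option autoImplicit false
open FunFld

namespace Groth.Agent.S12608

/-- Over an algebraically closed constant field, let `φ = (φ₀, …, φₙ)` be an effective projective map
normalized at the place `P`, `t` a local parameter at `P`, `j₁, …, jₙ` the orders of `φ` and `j'₁,
…, j'ₙ` the orders of `φ` at `P`. Then `jₗ ≤ j'ₗ` for all `l`, and the following are equivalent: all
`j'ₗ = jₗ`; the Wronskian `w_t(φ)` does not vanish at `P`; the Weierstrass divisor `W(φ)` has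
coefficient `0` at `P` (the divisor of `dt` in it read through a family of Laurent expansions). -/
theorem result
    (k K : Type*) [Field k] [IsAlgClosed k] [Field K] [Algebra k K]
    (hK : FunFld.IsFunctionField k K) (P : FunFld.Place k K) {n : ℕ} (φ : Fin (n + 1) → K) (hφ : LinearIndependent k φ)
    (heff : (1 : K) ∈ Submodule.span k (Set.range φ)) (hnorm : ∀ i, P.1 (φ i) ≤ 1)
    (t : K) (ht : P.1 t = WithZero.exp (-1))
    (Ht : K →ₐ[k] PowerSeries K) (hHt : LocRes.IsHasseFamily t Ht)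
    (J : Fin n → ℕ) (hJ : FunFld.IsOrders K (FunFld.hcol (AlgHom.id k K) Ht φ) J)
    (J' : Fin n → ℕ) (hJ' : FunFld.IsOrders (IsLocalRing.ResidueField P.O) (FunFld.hcolAt P Ht φ) J')
    (Φ : FunFld.Place k K → (K →ₐ[k] LaurentSeries k))
    (hΦ : ∀ P : FunFld.Place k K, LocRes.IsExpansionAt P.1 (Φ P)) :
    (∀ l, J l ≤ J' l) ∧
    ((∀ l, J' l = J l) ↔ FunFld.evalP P (FunFld.wrMat (AlgHom.id k K) Ht φ J).det ≠ 0) ∧
    ((∀ l, J' l = J l) ↔ FunFld.wDiv (AlgHom.id k K) Ht Φ t φ J P = 0) := by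
  have hP := Groth.Agent.Helper5.FF.deg_eq_one_of_isAlgClosed hK P
  have hle := Groth.Agent.Helper5.Wr.orders_le_ordersAt hK P hP φ hφ heff hnorm ht hHt J hJ J' hJ'
  obtain ⟨hd1, hiff⟩ :=
    Groth.Agent.Helper5.Wr.ordersAt_eq_iff hK P hP φ hφ heff hnorm ht hHt J hJ J' hJ'
  have hdet := Groth.Agent.Helper5.Wr.det_wrMat_ne_zero_of_isOrders hK hHt φ hφ (AlgHom.id k K) J hJ
  refine ⟨hle, ?_, ?_⟩
  · rw [Groth.Agent.Helper5.Wr.evalP_ne_zero_iff P hd1]
    exact hiff
  · rw [Groth.Agent.Helper5.Wr.wDiv_apply hK P hP (AlgHom.id k K)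
      (Groth.Agent.Helper5.Wr.isFixedPt_id P) φ heff hnorm ht Ht Φ (hΦ P) J,
      Groth.Agent.Helper5.Wr.ord_eq_zero_iff P hdet]
    exact hiff

end Groth.Agent.S12608
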