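import Groth.Statements.S12618
import Groth.Agent.Helper6.WeierHyp

set_option autoImplicit false
open FunFld

namespace Groth.Agent.S12618

/-- Over an algebraically closed constant field of characteristic `0` or greater than `2g - 2`, let `K`
have genus `g > 1` and let the Weierstrass points of `K` be the support of the Weierstrass divisor
`W(φ)` of the canonical map `φ` (a basis of `L(C)`, `C` canonical; the divisor of `ds` in `W` read
through a family of Laurent expansions). Then either the number of Weierstrass points exceeds `2g +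
2` and the automorphism group of `K/k` acts faithfully on them, or that number is exactly `2g + 2`
and the automorphisms fixing all of them are exactly those fixing some `x` with `[K : k(x)] = 2`. -/
theorem result
    (k K : Type*) [Field k] [IsAlgClosed k] [Field K] [Algebra k K]
    (hK : FunFld.IsFunctionField k K) (hg : 1 < FunFld.genus k K)
    (hchar : ringChar k = 0 ∨ 2 * FunFld.genus k K - 2 < ringChar k)
    (C : FunFld.Divisor k K) (hC : FunFld.IsCanonical k K C)
    {n : ℕ} (φ : Fin (n + 1) → K) (hφ : LinearIndependent k φ)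
    (hspan : Submodule.span k (Set.range φ) = FunFld.L C)
    (s : K) (H : K →ₐ[k] PowerSeries K) (hH : LocRes.IsHasseFamily s H)
    (J : Fin n → ℕ) (hJ : FunFld.IsOrders K (FunFld.hcol (AlgHom.id k K) H φ) J)
    (Φ : FunFld.Place k K → (K →ₐ[k] LaurentSeries k))
    (hΦ : ∀ P : FunFld.Place k K, LocRes.IsExpansionAt P.1 (Φ P)) :
    (2 * FunFld.genus k K + 2 < Set.ncard {P : FunFld.Place k K | FunFld.wDiv (AlgHom.id k K) H Φ s φ J P ≠ 0} ∧
      ∀ σ : K ≃ₐ[k] K, (∀ P : FunFld.Place k K, FunFld.wDiv (AlgHom.id k K) H Φ s φ J P ≠ 0 →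
        FunFld.IsFixedPt (σ : K →ₐ[k] K) P) → σ = AlgEquiv.refl) ∨
    (Set.ncard {P : FunFld.Place k K | FunFld.wDiv (AlgHom.id k K) H Φ s φ J P ≠ 0} = 2 * FunFld.genus k K + 2 ∧
      ∃ x : K, Module.finrank (IntermediateField.adjoin k ({x} : Set K)) K = 2 ∧
        ∀ σ : K ≃ₐ[k] K, (∀ P : FunFld.Place k K, FunFld.wDiv (AlgHom.id k K) H Φ s φ J P ≠ 0 →
          FunFld.IsFixedPt (σ : K →ₐ[k] K) P) ↔ σ x = x) := by
  classical
  obtain ⟨hiff, hcard, hmaxgap⟩ :=
    Groth.Agent.Helper6.WeierPts.main hK hg hchar C hC φ hφ hspan hH J hJ Φ hΦ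
  obtain ⟨W, hW⟩ : ∃ W : FunFld.Divisor k K, W = FunFld.wDiv (AlgHom.id k K) H Φ s φ J :=
    ⟨_, rfl⟩
  rw [← hW] at hiff hcard hmaxgap ⊢
  have hset : {P : FunFld.Place k K | W P ≠ 0} = ↑W.support := by
    ext P; simp [Finsupp.mem_support_iff]
  rw [hset, Set.ncard_coe_finset]
  rcases lt_or_eq_of_le hcard with hlt | heq
  · left
    refine ⟨hlt, fun σ hσ => ?_⟩
    have h1 : σ = 1 := by
      apply Groth.Agent.Helper5.FF.algEquiv_eq_one_of_fixed hK σ
      have hsub : (↑W.support : Set (FunFld.Place k K)) ⊆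
          {P | ∀ x : K, P.1 x < 1 → P.1 (σ x) < 1} := by
        intro P hP
        exact hσ P (Finsupp.mem_support_iff.mp hP)
      refine lt_of_lt_of_le ?_ (Set.encard_le_encard hsub)
      rw [Set.encard_coe_eq_coe_finsetCard]
      exact_mod_cast hlt
    rw [h1]; rfl
  · right
    refine ⟨heq.symm, ?_⟩
    have hne : W.support.Nonempty := by rw [← Finset.card_pos]; omega
    obtain ⟨P₀, hP₀⟩ := hne
    have hP₀' := Finsupp.mem_support_iff.mp hP₀
    have hdeg₀ := Groth.Agent.Helper5.FF.deg_eq_one_of_isAlgClosed hK P₀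
    obtain ⟨x, hx0, hxL, hxord, htr, hfr, hxspan⟩ :=
      Groth.Agent.Helper6.WeierHyp.exists_hyper hK (by omega) P₀ hdeg₀
        (hmaxgap heq.symm P₀ hP₀')
    refine ⟨x, hfr, fun σ => ⟨fun hσ => ?_, fun hσ P hP => ?_⟩⟩
    · have hcard' : 2 < (W.support.erase P₀).card := by
        rw [Finset.card_erase_of_mem hP₀]; omega
      obtain ⟨P₁, P₂, P₃, h1, h2, h3, h12, h13, h23⟩ := Finset.two_lt_card_iff.mp hcard'
      rw [Finset.mem_erase] at h1 h2 h3
      have hfix : ∀ P ∈ W.support, Groth.Agent.Helper5.FF.comapPlace σ P = P := fun P hP =>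
        Groth.Agent.Helper5.FF.comapPlace_eq_of_fixed σ P
          (hσ P (Finsupp.mem_support_iff.mp hP))
      exact Groth.Agent.Helper6.WeierHyp.sigma_x_eq hK σ P₀ hx0 hxL htr hfr hxspan (hfix P₀ hP₀)
        P₁ P₂ P₃ h12 h13 h23 h1.1 h2.1 h3.1 (hfix P₁ h1.2) (hfix P₂ h2.2) (hfix P₃ h3.2)
    · have hfix := Groth.Agent.Helper6.WeierHyp.comapPlace_eq_of_sigma_x hK (by omega) σ hfr hσ P
        (hmaxgap heq.symm P hP)
      intro z hz
      show P.1 (σ z) < 1
      rw [← Groth.Agent.Helper5.FF.comapPlace_val, hfix]; exact hz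

end Groth.Agent.S12618
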