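import Groth.Statements.S12620
import Mathlib

set_option autoImplicit false
universe u v w
open LocRes

namespace Groth.Agent.S12620

/-- Let `K` be a field with a valuation `w` into `ℤ ∪ {0}` and `φ : K → F((X))` a `k`-algebra expansion
at `w` in a local parameter (valuation-compatible, valuation ring onto the coefficient field `F`,
`w` normalised). Then for every nonzero `f` the residue of the logarithmic differential `f⁻¹ df`
read through `φ` — the `X⁻¹`-coefficient of `φ(f)⁻¹ · (φ f)′` — is the order of `f` at `w` (the
integer `n` with `w f = exp (-n)`), viewed in `F`. (The published statement is for a complete field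
with a perfect coefficient field and its intrinsic residue; read through an expansion neither
completeness nor perfectness plays a role.) -/
theorem result {k : Type u} {K : Type v} {F : Type w} [CommRing k] [Field K] [Field F]
    [Algebra k K] [Algebra k F]
    (w : Valuation K (WithZero (Multiplicative ℤ))) (φ : K →ₐ[k] LaurentSeries F)
    (hφ : LocRes.IsExpansionAt w φ) (f : K) (hf : f ≠ 0) :
    LocRes.resExp φ f⁻¹ f = ((-WithZero.log (w f) : ℤ) : F) := by
  classical
  have hg : φ f ≠ 0 := by
    intro h0
    exact hf ((injective_iff_map_eq_zero φ).1 φ.toRingHom.injective f h0)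
  set g := φ f with hgdef
  set m := g.order with hm
  set u := g.powerSeriesPart with hu
  have hgu : g = HahnSeries.single m (1 : F) * (u : LaurentSeries F) :=
    (LaurentSeries.single_order_mul_powerSeriesPart g).symm
  have hu0 : PowerSeries.constantCoeff u ≠ 0 := by
    rw [← PowerSeries.coeff_zero_eq_constantCoeff_apply, hu, LaurentSeries.powerSeriesPart_coeff,
      Nat.cast_zero, add_zero]
    exact fun h0 => hg (HahnSeries.coeff_order_eq_zero.1 h0)
  have huv : u * u⁻¹ = 1 := PowerSeries.mul_inv_cancel u hu0
  have huvL : (u : LaurentSeries F) * ((u⁻¹ : PowerSeries F) : LaurentSeries F) = 1 := by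
    rw [← PowerSeries.coe_mul, huv, PowerSeries.coe_one]
  have hss : ∀ a b : ℤ, (HahnSeries.single a (1 : F) : LaurentSeries F) * HahnSeries.single b (1 : F) =
      HahnSeries.single (a + b) 1 := by
    intro a b
    rw [HahnSeries.single_mul_single, mul_one]
  have hs0 : (HahnSeries.single (0 : ℤ) (1 : F) : LaurentSeries F) = 1 := rfl
  have hginv : g⁻¹ = HahnSeries.single (-m) (1 : F) * ((u⁻¹ : PowerSeries F) : LaurentSeries F) := by
    apply inv_eq_of_mul_eq_one_right
    rw [hgu]
    calc HahnSeries.single m (1 : F) * (u : LaurentSeries F) *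
          (HahnSeries.single (-m) (1 : F) * ((u⁻¹ : PowerSeries F) : LaurentSeries F))
        = (HahnSeries.single m (1 : F) * HahnSeries.single (-m) (1 : F)) *
            ((u : LaurentSeries F) * ((u⁻¹ : PowerSeries F) : LaurentSeries F)) := by ring
      _ = 1 := by rw [hss, huvL, add_neg_cancel, hs0, mul_one]
  have hD : LocRes.D F g = HahnSeries.single m (1 : F) *
        ((PowerSeries.derivative F u : PowerSeries F) : LaurentSeries F) +
      HahnSeries.single (m - 1) (m • (1 : F)) * (u : LaurentSeries F) := by
    rw [hgu, LocRes.D_apply, LocRes.derivative_single_mul, LocRes.derivative_coe]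
  have hprod : g⁻¹ * LocRes.D F g =
      ((u⁻¹ * PowerSeries.derivative F u : PowerSeries F) : LaurentSeries F) +
        HahnSeries.single (-1 : ℤ) (m • (1 : F)) := by
    rw [hginv, hD]
    have e1 : HahnSeries.single (-m) (1 : F) * ((u⁻¹ : PowerSeries F) : LaurentSeries F) *
        (HahnSeries.single m (1 : F) * ((PowerSeries.derivative F u : PowerSeries F) : LaurentSeries F) +
          HahnSeries.single (m - 1) (m • (1 : F)) * (u : LaurentSeries F)) =
        (HahnSeries.single (-m) (1 : F) * HahnSeries.single m (1 : F)) *
          (((u⁻¹ : PowerSeries F) : LaurentSeries F) *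
            ((PowerSeries.derivative F u : PowerSeries F) : LaurentSeries F)) +
        (HahnSeries.single (-m) (1 : F) * HahnSeries.single (m - 1) (m • (1 : F))) *
          ((u : LaurentSeries F) * ((u⁻¹ : PowerSeries F) : LaurentSeries F)) := by ring
    rw [e1, hss, huvL, neg_add_cancel, hs0, one_mul, mul_one, HahnSeries.single_mul_single, one_mul,
      ← PowerSeries.coe_mul]
    have e2 : -m + (m - 1) = -1 := by omega
    rw [e2]
  have hres : LocRes.resExp φ f⁻¹ f = ((m : ℤ) : F) := by
    unfold LocRes.resExp
    rw [map_inv₀, ← hgdef, hprod, map_add, LocRes.res_apply, LocRes.res_apply,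
      PowerSeries.coeff_coe, if_pos (by norm_num), zero_add, HahnSeries.coeff_single_same]
    simp
  rw [hres]
  congr 1
  -- valuation
  have hvu : Valued.v ((u : LaurentSeries F)) = 1 := by
    have h1 : Valued.v ((u : LaurentSeries F)) ≤ 1 :=
      (LaurentSeries.val_le_one_iff_eq_coe F _).2 ⟨u, rfl⟩
    have h2 : Valued.v (((u⁻¹ : PowerSeries F) : LaurentSeries F)) ≤ 1 :=
      (LaurentSeries.val_le_one_iff_eq_coe F _).2 ⟨u⁻¹, rfl⟩
    have h3 : Valued.v ((u : LaurentSeries F)) * Valued.v (((u⁻¹ : PowerSeries F) : LaurentSeries F)) = 1 := by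
      rw [← map_mul, huvL, map_one]
    by_contra hne
    have hlt : Valued.v ((u : LaurentSeries F)) < 1 := lt_of_le_of_ne h1 hne
    have : Valued.v ((u : LaurentSeries F)) * Valued.v (((u⁻¹ : PowerSeries F) : LaurentSeries F)) < 1 := by
      calc _ ≤ Valued.v ((u : LaurentSeries F)) * 1 := by gcongr
        _ = Valued.v ((u : LaurentSeries F)) := mul_one _
        _ < 1 := hlt
    rw [h3] at this
    exact lt_irrefl _ this
  have hw : w f = WithZero.exp (-m) := by
    rw [← hφ.1 f, ← hgdef, hgu, map_mul, hvu, mul_one, LaurentSeries.valuation_single_zpow]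
  rw [hw, WithZero.log_exp, neg_neg]

end Groth.Agent.S12620
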