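import Groth.Statements.S12631
import Groth.Agent.Helper6.TateW2
import Groth.Agent.Helper6.FFG2

set_option autoImplicit false
universe u v w
open FunFld

namespace Groth.Agent.S12631

/-- Let `K/k` be a geometric function field of one variable of genus one all of whose places carry a
Laurent expansion over `k` in a local parameter (so every place is separable), and `v ∈ K` with `dv
≠ 0`. Then there is a nonzero `u ∈ K` whose differential `u dv` has divisor zero — the order of
`φ_P(u) · (φ_P v)′` is `0` at every place `P` — and such a `u` is unique up to a factor from `k`.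
(The published statement concerns elliptic curves over algebraically closed fields; this row is the
form for any constant field under the stated separability of all places.) -/
theorem result (k : Type u) (K : Type v) [Field k] [Field K] [Algebra k K]
    (hK : FunFld.IsFunctionField k K) (hg : FunFld.IsGeometric k K) (h1 : FunFld.genus k K = 1)
    (F : FunFld.Place k K → Type w) [∀ P, Field (F P)] [∀ P, Algebra k (F P)] [∀ P, FiniteDimensional k (F P)]
    (φ : ∀ P, K →ₐ[k] LaurentSeries (F P)) (hφ : ∀ P, LocRes.IsExpansionAt P.1 (φ P))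
    (v : K) (hv : KaehlerDifferential.D k K v ≠ 0) :
    (∃ u : K, u ≠ 0 ∧ ∀ P, LocRes.vDiff (φ P) u v = 1) ∧
      ∀ u u' : K, u ≠ 0 → (∀ P, LocRes.vDiff (φ P) u v = 1) → (∀ P, LocRes.vDiff (φ P) u' v = 1) →
        ∃ c : k, u' = c • u := by
  obtain ⟨W, hWdiv, hWP⟩ := Groth.Agent.Helper6.TateW.divisor_omega hK hg φ hφ
    (u := 1) one_ne_zero hv
  have hC : FunFld.IsCanonical k K W :=
    ⟨_, Groth.Agent.Helper6.TateW.omega_ne_zero hK hg φ hφ one_ne_zero hv, hWdiv⟩
  obtain ⟨hell, hdeg⟩ := Groth.Agent.Helper5.FF.ell_canonical hK hC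
  rw [h1] at hell hdeg
  obtain ⟨z, hz0, hz⟩ := Groth.Agent.Helper6.FFG2.exists_div_eq_neg hK
    (D := W) (by simpa using hdeg) (by omega)
  have hvz : ∀ P : FunFld.Place k K, P.1 z = WithZero.exp (W P) := fun P => by
    rw [Groth.Agent.Helper5.FF.val_eq_exp_neg_ord P hz0, ← Groth.Agent.Helper5.FF.div_apply hK,
      hz, Finsupp.neg_apply, neg_neg]
  have hvd : ∀ (P : FunFld.Place k K) (y : K),
      LocRes.vDiff (φ P) y v = P.1 y * Valued.v (LocRes.D (F P) (φ P v)) := fun P y => by
    unfold LocRes.vDiff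
    rw [map_mul, (hφ P).1]
  have hD : ∀ P : FunFld.Place k K,
      Valued.v (LocRes.D (F P) (φ P v)) = WithZero.exp (-(W P)) := by
    intro P
    have := Groth.Agent.Helper6.TateW.vDiff_eq_exp (φ P) 1 v
      (Groth.Agent.Helper6.TateW.vDiff_ne_zero hK hg P.1 (φ P) (hφ P) one_ne_zero hv)
    rw [map_one, one_mul] at this
    rw [this, hWP P]
  refine ⟨⟨z, hz0, fun P => by
    rw [hvd, hvz, hD, ← WithZero.exp_add, add_neg_cancel, WithZero.exp_zero]⟩, ?_⟩
  intro u u' hu hu1 hu1'
  have key : ∀ P : FunFld.Place k K, P.1 (u' * u⁻¹) ≤ 1 := by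
    intro P
    have e1 := hu1 P
    have e2 := hu1' P
    rw [hvd, hD] at e1 e2
    have : P.1 u' = P.1 u :=
      mul_right_cancel₀ (WithZero.exp_ne_zero (a := -(W P))) (e2.trans e1.symm)
    rw [map_mul, map_inv₀, this, mul_inv_cancel₀ ((Valuation.ne_zero_iff _).mpr hu)]
  obtain ⟨c, hc⟩ := Groth.Agent.Helper5.FF.mem_range_of_forall_val_le_one hK key
  refine ⟨c, ?_⟩
  rw [Algebra.smul_def, hc, mul_assoc, inv_mul_cancel₀ hu, mul_one]

end Groth.Agent.S12631
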