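import Groth.Statements.S1267
import Groth.Agent.Helper2.LocalSqFlat
open TensorProduct Function LinearMap Groth.Agent.Helper2.LocalSqFlat
-- import your own Groth.Agent.* helpers here

set_option autoImplicit false
universe u
open FlatMor

namespace Groth.Agent.S1267

/-- Let A be a local ring, I an ideal, U a quasi-compact open subset of Spec A and M an A-module such
that M/IM is flat over A/I and M_p is flat over A for all p in U. Let I₂ be the kernel of I → Γ(U,
I/I²), that is the set of x ∈ I such that for every p ∈ U some s outside p has s·x ∈ I². Then M/I₂M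
is flat over A/I₂. -/
theorem result {A : Type u} [CommRing A] [IsLocalRing A] (I : Ideal A)
    (U : Set (PrimeSpectrum A)) (hU : IsOpen U) (hUc : IsCompact U)
    (M : Type u) [AddCommGroup M] [Module A M]
    [Module.Flat (A ⧸ I) (M ⧸ (I • ⊤ : Submodule A M))]
    (hflat : ∀ p ∈ U, Module.Flat A (LocalizedModule p.asIdeal.primeCompl M))
    (I₂ : Ideal A) (hI₂ : ∀ x : A, x ∈ I₂ ↔ x ∈ I ∧ ∀ p ∈ U, ∃ s : A, s ∉ p.asIdeal ∧ s * x ∈ I ^ 2) :
    Module.Flat (A ⧸ I₂) (M ⧸ (I₂ • ⊤ : Submodule A M)) := by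
  obtain ⟨t, ht⟩ := PrimeSpectrum.isCompact_isOpen_iff.1 ⟨hUc, hU⟩
  have hUmem : ∀ p : PrimeSpectrum A, p ∈ U ↔ ∃ f ∈ t, f ∉ p.asIdeal := by
    intro p
    rw [← ht, Set.mem_compl_iff, PrimeSpectrum.mem_zeroLocus, Set.not_subset]
    simp
  have h1 : Module.Flat (A ⧸ I) ((A ⧸ I) ⊗[A] M) := by
    have hsurj : Surjective (algebraMap A (A ⧸ I)) := Ideal.Quotient.mk_surjective
    exact Module.Flat.of_linearEquiv
      ((TensorProduct.quotTensorEquivQuotSMul M I).extendScalarsOfSurjective hsurj)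
  have hI2 : I ^ 2 ≤ I₂ := by
    intro x hx
    rw [hI₂]
    refine ⟨Ideal.pow_le_self two_ne_zero hx, fun p _ => ⟨1, ?_, by simpa using hx⟩⟩
    exact (Ideal.ne_top_iff_one _).1 p.isPrime.ne_top
  have hloc : ∀ (p : Ideal A) [p.IsPrime], (∃ f ∈ t, f ∉ p) →
      Module.Flat A (LocalizedModule p.primeCompl M) :=
    fun p hp hf => hflat ⟨p, hp⟩ ((hUmem _).2 hf)
  have hJ : ∀ a ∈ I, (∀ f ∈ t, ∃ n : ℕ, f ^ n * a ∈ I₂) → a ∈ I₂ := by
    intro a ha h
    rw [hI₂]
    refine ⟨ha, fun p hp => ?_⟩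
    obtain ⟨f, hf, hfp⟩ := (hUmem p).1 hp
    obtain ⟨n, hn⟩ := h f hf
    obtain ⟨s, hs, hsx⟩ := ((hI₂ _).1 hn).2 p hp
    refine ⟨s * f ^ n, ?_, by rw [mul_assoc]; exact hsx⟩
    intro hmem
    rcases p.isPrime.mem_or_mem hmem with h | h
    · exact hs h
    · exact hfp (p.isPrime.mem_of_pow_mem n h)
  have h2 := flat_quot_of_local (M := M) I I₂ hI2 t hloc hJ
  have hsurj : Surjective (algebraMap A (A ⧸ I₂)) := Ideal.Quotient.mk_surjective
  exact Module.Flat.of_linearEquiv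
    ((TensorProduct.quotTensorEquivQuotSMul M I₂).symm.extendScalarsOfSurjective hsurj)

end Groth.Agent.S1267
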