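import Groth.Statements.S12708
import Mathlib

set_option autoImplicit false
universe u v
open CategoryTheory
open ArtFun

namespace Groth.Agent.S12708

/-- For Λ Noetherian with a finite map to a field k, A a local Λ-algebra whose residue field is k
(through a surjective Λ-algebra map A → k) and M an A-module, the length of M over Λ equals the
degree of k over the image of Λ times the length of M over A. The degree is written as the length of
k as a Λ-module, which is the same number; lengths are in ℕ∞. -/
theorem result {Λ : Type u} {k : Type u} [CommRing Λ] [Field k] [Algebra Λ k]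
    [IsNoetherianRing Λ] [Module.Finite Λ k]
    (A : Type u) [CommRing A] [Algebra Λ A] [IsLocalRing A] [Algebra A k] [IsScalarTower Λ A k]
    (hres : Function.Surjective (algebraMap A k))
    (M : Type v) [AddCommGroup M] [Module A M] [Module Λ M] [IsScalarTower Λ A M] :
    Module.length Λ k * Module.length A M = Module.length Λ M := by
  classical
  have hker : LinearMap.ker (Algebra.linearMap A k) = IsLocalRing.maximalIdeal A := by
    have h1 : (RingHom.ker (algebraMap A k)).IsMaximal := RingHom.ker_isMaximal_of_surjective _ hres
    have h2 := IsLocalRing.eq_maximalIdeal h1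
    rw [← h2]
    ext a
    simp [RingHom.mem_ker]
  have hsurj : Function.Surjective (Algebra.linearMap A k) := hres
  have key : ∀ {p q : Submodule A M}, p ⋖ q →
      Module.length Λ q = Module.length Λ p + Module.length Λ k := by
    intro p q h
    let f : p →ₗ[A] q := Submodule.inclusion h.le
    have hsimple : IsSimpleModule A (q ⧸ LinearMap.range f) := by
      rwa [Submodule.range_inclusion, ← covBy_iff_quot_is_simple h.le]
    obtain ⟨m, hm, ⟨e⟩⟩ := isSimpleModule_iff_quot_maximal.mp hsimple
    rw [IsLocalRing.eq_maximalIdeal hm] at e
    let e2 : (A ⧸ IsLocalRing.maximalIdeal A) ≃ₗ[A] k :=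
      (Submodule.quotEquivOfEq _ _ hker.symm).trans
        ((Algebra.linearMap A k).quotKerEquivOfSurjective hsurj)
    let g : q →ₗ[A] k := (e.trans e2).toLinearMap.comp (LinearMap.range f).mkQ
    have hf : Function.Injective f := Submodule.inclusion_injective _
    have hg : Function.Surjective g := (e.trans e2).surjective.comp (LinearMap.range f).mkQ_surjective
    have hfg : Function.Exact f g :=
      LinearMap.exact_iff.mpr (((e.trans e2).ker_comp (LinearMap.range f).mkQ).trans
        (LinearMap.range f).ker_mkQ)
    exact Module.length_eq_add_of_exact (f.restrictScalars Λ) (g.restrictScalars Λ)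
      (by simpa using hf) (by simpa using hg) (by simpa using hfg)
  by_cases h : IsFiniteLength A M
  · obtain ⟨s, hs_bot, hs_top⟩ := isFiniteLength_iff_exists_compositionSeries.mp h
    rw [← Module.length_compositionSeries s hs_bot hs_top]
    suffices ∀ i, Module.length Λ (s i) = i * Module.length Λ k by
      have h2 := this (Fin.last s.length)
      rw [Fin.val_last, ← RelSeries.last, hs_top] at h2
      rw [mul_comm, ← h2]
      exact Module.length_top
    intro i
    induction i using Fin.induction with
    | zero => rw [← RelSeries.head, hs_bot]; simp
    | succ i hi =>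
      have := key (s.step i)
      simp only [Fin.val_succ, Nat.cast_add, Nat.cast_one, add_one_mul]
      rw [this, hi, Fin.val_castSucc]
  · have h' : ¬ IsFiniteLength Λ M := by
      contrapose! h
      rw [isFiniteLength_iff_isNoetherian_isArtinian] at h ⊢
      exact h.imp (isNoetherian_of_tower Λ) (isArtinian_of_tower Λ)
    rw [← Module.length_ne_top_iff, not_ne_iff] at h h'
    have ne : Module.length Λ k ≠ 0 := by
      have : 0 < Module.length Λ k := Module.length_pos
      exact this.ne'
    rw [h, h', ENat.mul_top ne]

end Groth.Agent.S12708
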