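import Groth.Statements.S12709
import Groth.Agent.Helper6.ArtFunNakayama

set_option autoImplicit false
universe u v
open CategoryTheory
open ArtFun ArtFun.Art

namespace Groth.Agent.S12709

open Groth.Agent.Helper6

/-- Given a morphism f : A → B in the category of Artinian local Λ-algebras with residue field k, three
conditions coincide: (1) surjectivity of f; (2) f induces an onto map from the cotangent space of A
to the cotangent space of B, which in ideal-theoretic form says f(m_A)B + m_B² = m_B; (3) the
induced map on cotangent spaces relative to Λ is surjective, written as m_Λ B + f(m_A)B + m_B² = m_B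
with m_Λ the kernel of Λ → k. -/
theorem result {Λ : Type u} {k : Type u} [CommRing Λ] [Field k] [Algebra Λ k]
    [IsNoetherianRing Λ] [Module.Finite Λ k]
    {A B : ArtFun.Art Λ k} (f : A ⟶ B) :
    List.TFAE [Function.Surjective f,
      Ideal.map f.toAlgHom (IsLocalRing.maximalIdeal A) ⊔ IsLocalRing.maximalIdeal B ^ 2 = IsLocalRing.maximalIdeal B,
      Ideal.map (algebraMap Λ B) (RingHom.ker (algebraMap Λ k)) ⊔ Ideal.map f.toAlgHom (IsLocalRing.maximalIdeal A) ⊔
        IsLocalRing.maximalIdeal B ^ 2 = IsLocalRing.maximalIdeal B] := by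
  have hΛ : Ideal.map (algebraMap Λ B) (RingHom.ker (algebraMap Λ k)) ≤
      Ideal.map f.toAlgHom (IsLocalRing.maximalIdeal A) := by
    rw [Ideal.map_le_iff_le_comap]
    intro r hr
    rw [Ideal.mem_comap]
    have h1 : algebraMap Λ B r = f.toAlgHom (algebraMap Λ A r) := (f.toAlgHom.commutes r).symm
    rw [h1]
    apply Ideal.mem_map_of_mem
    rw [ArtFun.Art.mem_maximalIdeal_iff, AlgHom.commutes]
    exact hr
  have hsq : IsLocalRing.maximalIdeal B ^ 2 ≤ IsLocalRing.maximalIdeal B := Ideal.pow_le_self two_ne_zero
  tfae_have 1 → 2 := by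
    intro hf
    rw [map_maximalIdeal_eq_of_surjective f hf]
    exact sup_eq_left.2 hsq
  tfae_have 2 → 3 := by
    intro h2
    rw [sup_assoc, h2]
    exact sup_eq_right.2 (hΛ.trans (map_maximalIdeal_le f))
  tfae_have 3 → 1 := by
    intro h3
    apply surjective_of_map_maximalIdeal_sup_sq f
    rw [sup_eq_right.2 hΛ] at h3
    exact h3
  tfae_finish

end Groth.Agent.S12709
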