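import Groth.Statements.S12711
import Groth.Agent.Helper6.ArtFunPullback

set_option autoImplicit false
universe u v
open CategoryTheory
open ArtFun ArtFun.Art

namespace Groth.Agent.S12711

open Groth.Agent.Helper6

/-- If B together with p₁ : B → A₁ and p₂ : B → A₂ is the fibre product A₁ ×_A A₂ in the category of
Artinian local Λ-algebras with residue field k, and f₂ : A₂ → A is a small extension, then the
projection p₁ : B → A₁ is a small extension. -/
theorem result {Λ : Type u} {k : Type u} [CommRing Λ] [Field k] [Algebra Λ k]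
    [IsNoetherianRing Λ] [Module.Finite Λ k]
    {B A A₁ A₂ : ArtFun.Art Λ k} {p₁ : B ⟶ A₁} {p₂ : B ⟶ A₂} {f₁ : A₁ ⟶ A} {f₂ : A₂ ⟶ A}
    (h : ArtFun.Art.IsFibreProd p₁ p₂ f₁ f₂) (hf₂ : ArtFun.Art.IsSmallExt f₂) :
    ArtFun.Art.IsSmallExt p₁ := by
  obtain ⟨hsurj, hne, hprin, hm⟩ := hf₂
  have hp₁s : Function.Surjective p₁ := IsFibreProd.surjective_fst h hsurj
  -- generator of ker f₂
  obtain ⟨t, ht⟩ := hprin.principal
  have ht' : RingHom.ker f₂.toAlgHom = Ideal.span {t} := ht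
  have htker : t ∈ RingHom.ker f₂.toAlgHom := by rw [ht']; exact Ideal.subset_span rfl
  have ht0 : t ≠ 0 := by
    intro h0
    apply hne
    rw [ht', h0]
    exact Ideal.span_singleton_eq_bot.2 rfl
  have hmt : ∀ a ∈ IsLocalRing.maximalIdeal A₂, a * t = 0 := by
    intro a ha
    have : a * t ∈ IsLocalRing.maximalIdeal A₂ * RingHom.ker f₂.toAlgHom := Ideal.mul_mem_mul ha htker
    rw [hm] at this
    exact (Submodule.mem_bot _).1 this
  -- the generator b₀ of ker p₁
  have hft : f₁ 0 = f₂ t := by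
    have h1 : f₁.toAlgHom 0 = 0 := map_zero _
    have h2 : f₂.toAlgHom t = 0 := htker
    exact h1.trans h2.symm
  obtain ⟨b₀, hb₀1, hb₀2⟩ := h.surj 0 t hft
  have hb₀1' : p₁.toAlgHom b₀ = 0 := hb₀1
  have hb₀2' : p₂.toAlgHom b₀ = t := hb₀2
  have hb₀ker : b₀ ∈ RingHom.ker p₁.toAlgHom := hb₀1'
  have hb₀0 : b₀ ≠ 0 := by
    intro h0
    apply ht0
    rw [← hb₀2', h0, map_zero]
  have hinj : ∀ b₁ b₂ : B, p₁.toAlgHom b₁ = p₁.toAlgHom b₂ → p₂.toAlgHom b₁ = p₂.toAlgHom b₂ → b₁ = b₂ :=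
    h.inj
  have hw : ∀ b : B, f₁.toAlgHom (p₁.toAlgHom b) = f₂.toAlgHom (p₂.toAlgHom b) := h.w_apply
  have hker_eq : RingHom.ker p₁.toAlgHom = Ideal.span {b₀} := by
    apply le_antisymm
    · intro b hb
      have hb1 : p₁.toAlgHom b = 0 := hb
      have hb2 : p₂.toAlgHom b ∈ RingHom.ker f₂.toAlgHom := by
        rw [RingHom.mem_ker, ← hw b, hb1, map_zero]
      rw [ht'] at hb2
      obtain ⟨c, hc⟩ := Ideal.mem_span_singleton'.1 hb2
      obtain ⟨c', hc'⟩ := B.res_surjective (A₂.res c)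
      have hcc : p₂.toAlgHom c' - c ∈ IsLocalRing.maximalIdeal A₂ := by
        rw [Art.mem_maximalIdeal_iff, map_sub]
        have : A₂.res (p₂.toAlgHom c') = B.res c' := Art.res_app p₂ c'
        rw [this, hc', sub_self]
      have hz := hmt _ hcc
      rw [sub_mul, sub_eq_zero] at hz
      apply Ideal.mem_span_singleton'.2
      refine ⟨c', ?_⟩
      apply hinj
      · rw [map_mul, hb₀1', mul_zero, hb1]
      · rw [map_mul, hb₀2', hz, hc]
    · rw [Ideal.span_singleton_le_iff_mem]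
      exact hb₀ker
  refine ⟨hp₁s, ?_, ?_, ?_⟩
  · intro hbot
    rw [hbot] at hb₀ker
    exact hb₀0 ((Submodule.mem_bot _).1 hb₀ker)
  · exact ⟨⟨b₀, hker_eq⟩⟩
  · rw [eq_bot_iff, Ideal.mul_le]
    intro a ha b hb
    rw [Submodule.mem_bot]
    have hb1 : p₁.toAlgHom b = 0 := hb
    have hb2 : p₂.toAlgHom b ∈ RingHom.ker f₂.toAlgHom := by
      rw [RingHom.mem_ker, ← hw b, hb1, map_zero]
    have ha2 : p₂.toAlgHom a ∈ IsLocalRing.maximalIdeal A₂ := by
      rw [Art.mem_maximalIdeal_iff]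
      have : A₂.res (p₂.toAlgHom a) = B.res a := Art.res_app p₂ a
      rw [this]
      exact (Art.mem_maximalIdeal_iff _ _).1 ha
    have hz : p₂.toAlgHom a * p₂.toAlgHom b = 0 := by
      have : p₂.toAlgHom a * p₂.toAlgHom b ∈ IsLocalRing.maximalIdeal A₂ * RingHom.ker f₂.toAlgHom :=
        Ideal.mul_mem_mul ha2 hb2
      rw [hm] at this
      exact (Submodule.mem_bot _).1 this
    apply hinj
    · rw [map_mul, hb1, mul_zero, map_zero]
    · rw [map_mul, hz, map_zero]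

end Groth.Agent.S12711
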