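import Groth.Statements.S12713
import Groth.Agent.Helper6.ArtFunBasic

set_option autoImplicit false
universe u v
open CategoryTheory
open ArtFun ArtFun.Art

namespace Groth.Agent.S12713

open Groth.Agent.Helper6

/-- A small extension f : B → A in the category of Artinian local Λ-algebras with residue field k is not
an essential surjection (some morphism g : C → B is non-surjective although the composite C → A is
surjective) if and only if f has a section A → B in the category. -/
theorem result {Λ : Type u} {k : Type u} [CommRing Λ] [Field k] [Algebra Λ k]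
    [IsNoetherianRing Λ] [Module.Finite Λ k]
    {A B : ArtFun.Art Λ k} (f : B ⟶ A) (hf : ArtFun.Art.IsSmallExt f) :
    (∃ (C : ArtFun.Art Λ k) (g : C ⟶ B), Function.Surjective (g ≫ f) ∧ ¬ Function.Surjective g) ↔
      ∃ s : A ⟶ B, s ≫ f = 𝟙 A := by
  classical
  obtain ⟨hsurj, hne, hprin, hm⟩ := hf
  constructor
  · rintro ⟨C, g, hgf, hg⟩
    obtain ⟨t, ht⟩ := hprin.principal
    have ht' : RingHom.ker f.toAlgHom = Ideal.span {t} := ht
    have htker : t ∈ RingHom.ker f.toAlgHom := by rw [ht']; exact Ideal.subset_span rfl
    have hmt : ∀ a ∈ IsLocalRing.maximalIdeal B, a * t = 0 := by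
      intro a ha
      have : a * t ∈ IsLocalRing.maximalIdeal B * RingHom.ker f.toAlgHom := Ideal.mul_mem_mul ha htker
      rw [hm] at this
      exact (Submodule.mem_bot _).1 this
    -- the image of g meets the kernel trivially
    have hmeet : ∀ c : C, g.toAlgHom c ∈ RingHom.ker f.toAlgHom → g.toAlgHom c = 0 := by
      intro c hc
      by_contra hc0
      apply hg
      -- the kernel is contained in the image of g
      have hkerimg : ∀ z ∈ RingHom.ker f.toAlgHom, ∃ c' : C, g.toAlgHom c' = z := by
        intro z hz
        rw [ht'] at hc hz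
        obtain ⟨y, hy⟩ := Ideal.mem_span_singleton'.1 hc
        obtain ⟨w, hw⟩ := Ideal.mem_span_singleton'.1 hz
        have hyu : IsUnit y := by
          by_contra hnu
          have : y ∈ IsLocalRing.maximalIdeal B := (IsLocalRing.mem_maximalIdeal _).2 hnu
          exact hc0 (hy ▸ hmt y this)
        obtain ⟨u, rfl⟩ := hyu
        -- z = w * u⁻¹ * g c
        obtain ⟨c'', hc''⟩ := C.res_surjective (B.res (w * ↑u⁻¹))
        have hdiff : w * ↑u⁻¹ - g.toAlgHom c'' ∈ IsLocalRing.maximalIdeal B := by
          rw [ArtFun.Art.mem_maximalIdeal_iff, map_sub]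
          have : B.res (g.toAlgHom c'') = C.res c'' := ArtFun.Art.res_app g c''
          rw [this, hc'', sub_self]
        have h0 := hmt _ hdiff
        rw [sub_mul, sub_eq_zero] at h0
        refine ⟨c'' * c, ?_⟩
        rw [map_mul, ← hy, ← mul_assoc]
        have e1 : g.toAlgHom c'' * ↑u * t = (g.toAlgHom c'' * t) * ↑u := by ring
        rw [e1, ← h0, ← hw]
        have e2 : w * ↑u⁻¹ * t * ↑u = w * t * (↑u⁻¹ * ↑u) := by ring
        rw [e2, Units.inv_mul, mul_one]
      intro b
      obtain ⟨c, hc⟩ := hgf (f.toAlgHom b)
      have hc' : f.toAlgHom (g.toAlgHom c) = f.toAlgHom b := hc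
      have hmem : b - g.toAlgHom c ∈ RingHom.ker f.toAlgHom := by
        rw [RingHom.mem_ker, map_sub, hc', sub_self]
      obtain ⟨c', hc'⟩ := hkerimg _ hmem
      refine ⟨c + c', ?_⟩
      rw [map_add, hc']
      ring
    -- define the section
    have hex : ∀ a : A, ∃ c : C, f.toAlgHom (g.toAlgHom c) = a := fun a => hgf a
    choose σ hσ using hex
    have huniq : ∀ c c' : C, f.toAlgHom (g.toAlgHom c) = f.toAlgHom (g.toAlgHom c') →
        g.toAlgHom c = g.toAlgHom c' := by
      intro c c' h
      have h1 : g.toAlgHom (c - c') ∈ RingHom.ker f.toAlgHom := by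
        rw [RingHom.mem_ker, map_sub, map_sub, h, sub_self]
      have h2 := hmeet _ h1
      rw [map_sub, sub_eq_zero] at h2
      exact h2
    let s : A →ₐ[Λ] B :=
      { toFun := fun a => g.toAlgHom (σ a)
        map_one' := by
          rw [← map_one g.toAlgHom]
          apply huniq
          rw [hσ, map_one, map_one]
        map_mul' := by
          intro a a'
          rw [← map_mul g.toAlgHom]
          apply huniq
          rw [hσ, map_mul, map_mul, hσ, hσ]
        map_zero' := by
          rw [← map_zero g.toAlgHom]
          apply huniq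
          rw [hσ, map_zero, map_zero]
        map_add' := by
          intro a a'
          rw [← map_add g.toAlgHom]
          apply huniq
          rw [hσ, map_add, map_add, hσ, hσ]
        commutes' := by
          intro r
          rw [← AlgHom.commutes g.toAlgHom r]
          apply huniq
          rw [hσ, AlgHom.commutes, AlgHom.commutes] }
    have hs : ∀ a, f.toAlgHom (s a) = a := hσ
    refine ⟨⟨s, ?_⟩, ?_⟩
    · apply AlgHom.ext
      intro a
      change B.res (s a) = A.res a
      rw [← ArtFun.Art.res_app f (s a)]
      rw [hs]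
    · apply ArtFun.Art.hom_ext
      apply AlgHom.ext
      intro a
      exact hs a
  · rintro ⟨s, hs⟩
    refine ⟨A, s, ?_, ?_⟩
    · rw [hs]
      exact Function.surjective_id
    · intro hsurj'
      apply hne
      rw [eq_bot_iff]
      intro b hb
      obtain ⟨a, rfl⟩ := hsurj' b
      have h1 : f.toAlgHom (s.toAlgHom a) = a := congrArg (fun t : A ⟶ A => t.toAlgHom a) hs
      have h2 : f.toAlgHom (s.toAlgHom a) = 0 := hb
      rw [h1] at h2
      rw [Submodule.mem_bot, h2]
      exact map_zero s.toAlgHom

end Groth.Agent.S12713
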