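import Groth.Statements.S12716
import Groth.Agent.Helper6.DerivationSeparation
import Groth.Agent.Helper6.CRingNakayama

set_option autoImplicit false
universe u v
open CategoryTheory
open ArtFun

namespace Groth.Agent.S12716

open Groth.Agent.Helper6

/-- Let f : R → S be a morphism of complete local Noetherian Λ-algebras with residue field k (Λ
Noetherian, Λ → k finite). If the restriction map Der_Λ(S, k) → Der_Λ(R, k) is injective — two
Λ-derivations S → k that agree after composing with f are equal — then f is surjective. -/
theorem result {Λ : Type u} {k : Type u} [CommRing Λ] [Field k] [Algebra Λ k]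
    [IsNoetherianRing Λ] [Module.Finite Λ k]
    (R : ArtFun.CRing Λ k)
    (S : Type u) [CommRing S] [Algebra Λ S] [IsLocalRing S] [IsNoetherianRing S]
    [IsAdicComplete (IsLocalRing.maximalIdeal S) S] [Algebra S k] [IsScalarTower Λ S k]
    (hres : Function.Surjective (algebraMap S k))
    (f : R.carrier →ₐ[Λ] S) (hf : (IsScalarTower.toAlgHom Λ S k).comp f = R.res)
    (hinj : ∀ D₁ D₂ : Derivation Λ S k, (∀ r : R.carrier, D₁ (f r) = D₂ (f r)) → D₁ = D₂) :
    Function.Surjective f := by
  -- bundle S as a coefficient ring
  let S' : ArtFun.CRing Λ k :=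
    { carrier := S
      res := IsScalarTower.toAlgHom Λ S k
      res_surjective := hres
      isAdicComplete := inferInstance }
  have hf' : S'.res.comp f = R.res := hf
  apply CRing.surjective_of_map_maximalIdeal_sup_sq (R := R) (S := S') f hf'
  by_contra hne
  have hρ : Function.Surjective fun r => algebraMap S k (f r) := by
    intro c
    obtain ⟨r, hr⟩ := R.res_surjective c
    refine ⟨r, ?_⟩
    rw [← hr, ← hf]
    rfl
  have hkerρ : RingHom.ker ((algebraMap S k).comp (f : R.carrier →+* S)) = IsLocalRing.maximalIdeal R.carrier := by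
    ext r
    rw [RingHom.mem_ker, ArtFun.CRing.mem_maximalIdeal_iff, ← hf]
    rfl
  have hJ : Ideal.map f (RingHom.ker ((algebraMap S k).comp (f : R.carrier →+* S))) ⊔
      IsLocalRing.maximalIdeal S ^ 2 ≠ IsLocalRing.maximalIdeal S := by
    rw [hkerρ]
    exact hne
  obtain ⟨D, hD0, hDf⟩ := exists_derivation_vanishing_on_range hres f hρ hJ
  apply hD0
  apply hinj D 0
  intro r
  rw [hDf r]
  rfl

end Groth.Agent.S12716
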