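import Groth.Statements.S12735
import Groth.Agent.Helper6.ArtFunMinimal

set_option autoImplicit false
universe u v
open CategoryTheory
open ArtFun

namespace Groth.Agent.S12735

open Groth.Agent.Helper6

/-- Let U be a prorepresentable functor on Artinian local Λ-algebras with residue field k and φ : U → U
an endomorphism of functors which is bijective on the tangent space U(k[ε]). Then φ is an
isomorphism: every component is bijective. -/
theorem result {Λ : Type u} {k : Type u} [CommRing Λ] [Field k] [Algebra Λ k]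
    [IsNoetherianRing Λ] [Module.Finite Λ k]
    {U : ArtFun.Art Λ k ⥤ Type v} (hU : ArtFun.IsProrepresentable U)
    (φ : U ⟶ U) (hd : Function.Bijective (ArtFun.TangentSpace.map φ)) (A : ArtFun.Art Λ k) :
    Function.Bijective (φ.app A) := by
  obtain ⟨⟨R, ξ, huniv⟩⟩ := hU
  have hversal := isVersal_of_isUniversal ξ huniv
  have hsurj : ∀ A : ArtFun.Art Λ k, Function.Surjective (ξ.app A) := fun A => (huniv A).2
  obtain ⟨θ, hθ, hθe⟩ := exists_along_toFormalElt_eq R ξ hversal hsurj R (ξ.toFormalElt.map φ)
  -- the key relation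
  have hkey : ∀ (A : ArtFun.Art Λ k) (u : ArtFun.HomSet R.carrier R.res A),
      (ξ.along θ hθ).app A u = φ.app A (ξ.app A u) := by
    intro A u
    obtain ⟨n, ubar, hu⟩ := exists_trunc_factor R u
    have hn : (ξ.along θ hθ).app _ (R.truncHom n) = φ.app _ (ξ.app _ (R.truncHom n)) :=
      congrArg (fun t => t.elt n) hθe
    rw [← hu, (ξ.along θ hθ).natural, hn, ξ.natural]
    exact (NatTrans.naturality_apply φ ubar _).symm
  have hkey' : ∀ (A : ArtFun.Art Λ k) (u : ArtFun.HomSet R.carrier R.res A),
      ξ.app A ⟨u.1.comp θ, by rw [← AlgHom.comp_assoc, u.2, hθ]⟩ = φ.app A (ξ.app A u) := hkey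
  -- θ is surjective
  have hθs : Function.Surjective θ := by
    apply surjective_endo_of_tangent_injective R θ hθ
    intro τ τ' hττ'
    apply (huniv _).1
    apply hd.1
    change φ.app _ (ξ.app _ τ) = φ.app _ (ξ.app _ τ')
    rw [← hkey', ← hkey']
    congr 1
    exact Subtype.ext hττ'
  have hθi : Function.Injective θ :=
    injective_of_surjective_endo (θ : R.carrier →+* R.carrier) hθs
  constructor
  · intro x x' hxx'
    obtain ⟨u, rfl⟩ := (huniv A).2 x
    obtain ⟨u', rfl⟩ := (huniv A).2 x'
    rw [← hkey', ← hkey'] at hxx'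
    have h1 := (huniv A).1 hxx'
    have h2 : u.1.comp θ = u'.1.comp θ := congrArg Subtype.val h1
    congr 1
    apply Subtype.ext
    apply AlgHom.ext
    intro r
    obtain ⟨s, rfl⟩ := hθs r
    exact congrArg (fun t : R.carrier →ₐ[Λ] A => t s) h2
  · intro y
    obtain ⟨v, rfl⟩ := (huniv A).2 y
    let e : R.carrier ≃ₐ[Λ] R.carrier := AlgEquiv.ofBijective θ ⟨hθi, hθs⟩
    have he : ∀ r, θ (e.symm r) = r := fun r => e.apply_symm_apply r
    have hres : A.res.comp (v.1.comp (e.symm : R.carrier →ₐ[Λ] R.carrier)) = R.res := by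
      apply AlgHom.ext
      intro r
      have h1 : A.res (v.1 (e.symm r)) = R.res (e.symm r) :=
        congrArg (fun t : R.carrier →ₐ[Λ] k => t (e.symm r)) v.2
      have h2 : R.res (θ (e.symm r)) = R.res (e.symm r) :=
        congrArg (fun t : R.carrier →ₐ[Λ] k => t (e.symm r)) hθ
      change A.res (v.1 (e.symm r)) = R.res r
      rw [h1, ← h2, he]
    refine ⟨ξ.app A ⟨v.1.comp (e.symm : R.carrier →ₐ[Λ] R.carrier), hres⟩, ?_⟩
    rw [← hkey']
    congr 1
    apply Subtype.ext
    apply AlgHom.ext
    intro r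
    change v.1 (e.symm (θ r)) = v.1 r
    congr 1
    exact e.symm_apply_apply r

end Groth.Agent.S12735
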