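import Groth.Statements.S12738
import Groth.Agent.Helper6.ArtFunPullback

set_option autoImplicit false
universe u v
open CategoryTheory
open ArtFun

namespace Groth.Agent.S12738

open Groth.Agent.Helper6

/-- For functors, condition (RS) on a functor F on Artinian local Λ-algebras with residue field k
(bijectivity of F(A₁ ×_A A₂) → F(A₁) ×_{F(A)} F(A₂) for A₂ → A surjective) follows from the same
condition for small extensions A₂ → A. -/
theorem result {Λ : Type u} {k : Type u} [CommRing Λ] [Field k] [Algebra Λ k]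
    [IsNoetherianRing Λ] [Module.Finite Λ k]
    (F : ArtFun.Art Λ k ⥤ Type v)
    (h : ∀ ⦃B A A' A'' : ArtFun.Art Λ k⦄ (p' : B ⟶ A') (p'' : B ⟶ A'') (f' : A' ⟶ A) (f'' : A'' ⟶ A)
        (h : ArtFun.Art.IsFibreProd p' p'' f' f''), ArtFun.Art.IsSmallExt f'' → Function.Bijective (ArtFun.cmp F h)) :
    (∀ ⦃B A A' A'' : ArtFun.Art Λ k⦄ (p' : B ⟶ A') (p'' : B ⟶ A'') (f' : A' ⟶ A) (f'' : A'' ⟶ A)
        (h : ArtFun.Art.IsFibreProd p' p'' f' f''), Function.Surjective f'' → Function.Bijective (ArtFun.cmp F h)) := by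
  intro B A A' A'' p' p'' f' f'' hsq hf''
  have key := surjective_induction_smallExt
    (fun (A A'' : ArtFun.Art Λ k) (f'' : A'' ⟶ A) => Function.Surjective f'' ∧
      ∀ (A' : ArtFun.Art Λ k) (f' : A' ⟶ A) (B : ArtFun.Art Λ k) (p' : B ⟶ A') (p'' : B ⟶ A'')
        (h : ArtFun.Art.IsFibreProd p' p'' f' f''), Function.Bijective (ArtFun.cmp F h))
    ?_ ?_ ?_ f'' hf''
  · exact key.2 A' f' B p' p'' hsq
  · -- isomorphisms
    intro A A'' e he
    refine ⟨surjective_of_isIso e, ?_⟩
    intro A' f' B p' p'' h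
    obtain ⟨l, hl1, hl2⟩ := IsFibreProd.exists_hom_lift h (𝟙 A') (f' ≫ inv e)
      (by rw [Category.id_comp, Category.assoc, IsIso.inv_hom_id, Category.comp_id])
    have hl3 : p' ≫ l = 𝟙 B := by
      apply IsFibreProd.hom_ext h
      · rw [Category.assoc, hl1, Category.comp_id, Category.id_comp]
      · rw [Category.assoc, hl2, ← Category.assoc, h.w, Category.assoc, IsIso.hom_inv_id,
          Category.comp_id, Category.id_comp]
    constructor
    · intro z z' hz
      have hz1 : F.map p' z = F.map p' z' := congrArg (fun t => t.1.1) hz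
      have e1 : F.map l (F.map p' z) = z := by
        rw [← Functor.map_comp_apply, hl3, Functor.map_id_apply]
      have e2 : F.map l (F.map p' z') = z' := by
        rw [← Functor.map_comp_apply, hl3, Functor.map_id_apply]
      rw [← e1, ← e2, hz1]
    · intro y
      obtain ⟨⟨a', a''⟩, hy⟩ := y
      have hy' : F.map f' a' = F.map e a'' := hy
      refine ⟨F.map l a', Subtype.ext (Prod.ext ?_ ?_)⟩
      · change F.map p' (F.map l a') = a'
        rw [← Functor.map_comp_apply, hl1, Functor.map_id_apply]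
      · change F.map p'' (F.map l a') = a''
        rw [← Functor.map_comp_apply, hl2, Functor.map_comp_apply, hy', ← Functor.map_comp_apply,
          IsIso.hom_inv_id, Functor.map_id_apply]
  · -- small extensions
    intro A A'' p hp
    exact ⟨hp.1, fun A' f' B p' p'' hh => h p' p'' f' p hh hp⟩
  · -- composites
    intro A B₀ C p q hp hq
    refine ⟨surjective_comp p q hp.1 hq.1, ?_⟩
    intro A' f' B p' p'' h
    -- the intermediate fibre product
    have hB₁ := pb_isFibreProd f' q hq.1
    obtain ⟨r, hr1, hr2⟩ := IsFibreProd.exists_hom_lift hB₁ p' (p'' ≫ p)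
      (by rw [h.w, Category.assoc])
    have hr1' : ∀ b, (pbFst f' q hq.1) (r b) = p' b := fun b =>
      congrArg (fun t : B ⟶ A' => t.toAlgHom b) hr1
    have hr2' : ∀ b, (pbSnd f' q hq.1) (r b) = p (p'' b) := fun b =>
      congrArg (fun t : B ⟶ B₀ => t.toAlgHom b) hr2
    have hsq : ArtFun.Art.IsFibreProd r p'' (pbSnd f' q hq.1) p :=
      { w := hr2
        inj := fun b₁ b₂ h1 h2 => by
          apply h.inj _ _ _ h2
          rw [← hr1', ← hr1', h1]
        surj := fun x c hx => by
          have hx' : f' ((pbFst f' q hq.1) x) = (p ≫ q) c := by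
            rw [hB₁.w_apply x, hx]; rfl
          obtain ⟨b, hb1, hb2⟩ := h.surj _ c hx'
          refine ⟨b, ?_, hb2⟩
          apply hB₁.inj
          · rw [hr1', hb1]
          · rw [hr2', hb2, hx] }
    constructor
    · intro z z' hz
      have hz1 : F.map p' z = F.map p' z' := congrArg (fun t => t.1.1) hz
      have hz2 : F.map p'' z = F.map p'' z' := congrArg (fun t => t.1.2) hz
      have e1 : F.map r z = F.map r z' := by
        apply (hq.2 A' f' _ _ _ hB₁).1
        apply Subtype.ext
        apply Prod.ext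
        · change F.map (pbFst f' q hq.1) (F.map r z) = F.map (pbFst f' q hq.1) (F.map r z')
          rw [← Functor.map_comp_apply, ← Functor.map_comp_apply, hr1, hz1]
        · change F.map (pbSnd f' q hq.1) (F.map r z) = F.map (pbSnd f' q hq.1) (F.map r z')
          rw [← Functor.map_comp_apply, ← Functor.map_comp_apply, hr2, Functor.map_comp_apply,
            Functor.map_comp_apply, hz2]
      apply (hp.2 _ _ B r p'' hsq).1
      exact Subtype.ext (Prod.ext e1 hz2)
    · intro y
      obtain ⟨⟨a', c⟩, hy⟩ := y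
      have hy' : F.map f' a' = F.map (p ≫ q) c := hy
      have hy'' : F.map f' a' = F.map q (F.map p c) := by
        rw [hy', Functor.map_comp_apply]
      obtain ⟨z₁, hz₁⟩ := (hq.2 A' f' _ _ _ hB₁).2 ⟨(a', F.map p c), hy''⟩
      have hz₁1 : F.map (pbFst f' q hq.1) z₁ = a' := congrArg (fun t => t.1.1) hz₁
      have hz₁2 : F.map (pbSnd f' q hq.1) z₁ = F.map p c := congrArg (fun t => t.1.2) hz₁
      obtain ⟨z, hz⟩ := (hp.2 _ _ B r p'' hsq).2 ⟨(z₁, c), hz₁2⟩
      have hz1 : F.map r z = z₁ := congrArg (fun t => t.1.1) hz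
      have hz2 : F.map p'' z = c := congrArg (fun t => t.1.2) hz
      refine ⟨z, Subtype.ext (Prod.ext ?_ hz2)⟩
      change F.map p' z = a'
      rw [← hr1, Functor.map_comp_apply, hz1, hz₁1]

end Groth.Agent.S12738
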