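import Groth.Statements.S12742
import Groth.Agent.Helper6.ArtFunTorsor
import Groth.Agent.S12717

set_option autoImplicit false
universe u v
open CategoryTheory
open ArtFun

namespace Groth.Agent.S12742

open Groth.Agent.Helper6

/-- For functors, a morphism f : F → G of deformation functors on Artinian local Λ-algebras with residue
field k (values at k a point, condition (RS) for both) is smooth if and only if (1) it is surjective
on tangent spaces and (2) for every small extension A' → A and every x ∈ F(A) whose image in G(A)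
lifts to G(A'), x lifts to F(A'). -/
theorem result {Λ : Type u} {k : Type u} [CommRing Λ] [Field k] [Algebra Λ k]
    [IsNoetherianRing Λ] [Module.Finite Λ k]
    {F G : ArtFun.Art Λ k ⥤ Type v}
    (hF0 : ArtFun.H0 F) (hF : (∀ ⦃B A A' A'' : ArtFun.Art Λ k⦄ (p' : B ⟶ A') (p'' : B ⟶ A'') (f' : A' ⟶ A) (f'' : A'' ⟶ A)
        (h : ArtFun.Art.IsFibreProd p' p'' f' f''), Function.Surjective f'' → Function.Bijective (ArtFun.cmp F h)))
    (hG0 : ArtFun.H0 G) (hG : (∀ ⦃B A A' A'' : ArtFun.Art Λ k⦄ (p' : B ⟶ A') (p'' : B ⟶ A'') (f' : A' ⟶ A) (f'' : A'' ⟶ A)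
        (h : ArtFun.Art.IsFibreProd p' p'' f' f''), Function.Surjective f'' → Function.Bijective (ArtFun.cmp G h)))
    (f : F ⟶ G) :
    ArtFun.IsSmooth f ↔
      (Function.Surjective (ArtFun.TangentSpace.map f) ∧
        ∀ ⦃A' A : ArtFun.Art Λ k⦄ (μ : A' ⟶ A), ArtFun.Art.IsSmallExt μ → ∀ x : F.obj A,
          (∃ y' : G.obj A', G.map μ y' = f.app A x) → ∃ x' : F.obj A', F.map μ x' = x) := by
  constructor
  · intro hs
    refine ⟨?_, ?_⟩
    · intro v
      obtain ⟨x0⟩ := hF0.1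
      have hsub := hG0.2
      have hc : f.app (ArtFun.Art.base Λ k) x0 = G.map (ArtFun.Art.toBase (ArtFun.Art.dual Λ k)) v :=
        Subsingleton.elim _ _
      obtain ⟨w, hw⟩ := hs (ArtFun.Art.toBase (ArtFun.Art.dual Λ k)) dual_toBase_surjective ⟨(x0, v), hc⟩
      exact ⟨w, congrArg (fun t => t.1.2) hw⟩
    · intro A' A μ hμ x hx
      obtain ⟨y', hy'⟩ := hx
      obtain ⟨x', hx'⟩ := hs μ hμ.1 ⟨(x, y'), hy'.symm⟩
      exact ⟨x', congrArg (fun t => t.1.1) hx'⟩
  · rintro ⟨hd, hl⟩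
    apply Groth.Agent.S12717.result f
    intro B A μ hμ y
    obtain ⟨⟨x, g⟩, hy⟩ := y
    have hy' : f.app A x = G.map μ g := hy
    obtain ⟨x', hx'⟩ := hl μ hμ x ⟨g, hy'.symm⟩
    obtain ⟨f', hf1, hf2⟩ := exists_corrected_lift hF0 hF hG f hd μ hμ x g hy' x' hx'
    exact ⟨f', Subtype.ext (Prod.ext hf1 hf2)⟩

end Groth.Agent.S12742
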