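import Groth.Statements.S12744

set_option autoImplicit false
universe u v
open CategoryTheory
open ArtFun

namespace Groth.Agent.S12744

theorem truncMap_surjective {Λ : Type u} {k : Type u} [CommRing Λ] [Field k] [Algebra Λ k]
    (R : ArtFun.CRing Λ k) (n : ℕ) : Function.Surjective (R.truncMap n) := by
  intro x
  obtain ⟨a, rfl⟩ := Ideal.Quotient.mk_surjective x
  exact ⟨Ideal.Quotient.mk _ a, rfl⟩

/-- For functors, if η : F → G is a smooth morphism of functors on Artinian local Λ-algebras with
residue field k and F(k) → G(k) is surjective, then for every complete local Noetherian R with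
residue field k the induced map on formal elements over R (compatible systems of elements over the
truncations R/m^(n+1)) is surjective. -/
theorem result {Λ : Type u} {k : Type u} [CommRing Λ] [Field k] [Algebra Λ k]
    [IsNoetherianRing Λ] [Module.Finite Λ k]
    {F G : ArtFun.Art Λ k ⥤ Type v} (η : F ⟶ G) (hη : ArtFun.IsSmooth η)
    (h0 : Function.Surjective (η.app (ArtFun.Art.base Λ k))) (R : ArtFun.CRing Λ k) :
    Function.Surjective (fun u : ArtFun.FormalElt F R => u.map η) := by
  classical
  intro w
  have hsurj0 : ∀ A : ArtFun.Art Λ k, Function.Surjective (η.app A) := by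
    intro A g
    obtain ⟨x0, hx0⟩ := h0 (G.map (ArtFun.Art.toBase A) g)
    have hsurj : Function.Surjective (ArtFun.Art.toBase A) := A.res_surjective
    obtain ⟨f, hf⟩ := hη (ArtFun.Art.toBase A) hsurj ⟨(x0, g), hx0⟩
    exact ⟨f, congrArg (fun t => t.1.2) hf⟩
  -- one step of the construction
  have hstep : ∀ (n : ℕ) (prev : {x : F.obj (R.trunc n) // η.app _ x = w.elt n}),
      ∃ x : F.obj (R.trunc (n + 1)), η.app _ x = w.elt (n + 1) ∧ F.map (R.truncMap n) x = prev.1 := by
    intro n prev
    have hc : η.app _ prev.1 = G.map (R.truncMap n) (w.elt (n + 1)) := prev.2.trans (w.compat n).symm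
    obtain ⟨z, hz⟩ := hη (R.truncMap n) (truncMap_surjective R n) ⟨(prev.1, w.elt (n + 1)), hc⟩
    exact ⟨z, congrArg (fun t => t.1.2) hz, congrArg (fun t => t.1.1) hz⟩
  let seq : ∀ n : ℕ, {x : F.obj (R.trunc n) // η.app _ x = w.elt n} := fun n =>
    Nat.rec (motive := fun n => {x : F.obj (R.trunc n) // η.app _ x = w.elt n})
      ⟨Classical.choose (hsurj0 _ (w.elt 0)), Classical.choose_spec (hsurj0 _ (w.elt 0))⟩
      (fun n prev => ⟨Classical.choose (hstep n prev), (Classical.choose_spec (hstep n prev)).1⟩) n
  have hseq : ∀ n, F.map (R.truncMap n) (seq (n + 1)).1 = (seq n).1 := fun n =>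
    (Classical.choose_spec (hstep n (seq n))).2
  refine ⟨⟨fun n => (seq n).1, hseq⟩, ?_⟩
  apply ArtFun.FormalElt.ext'
  intro n
  exact (seq n).2

end Groth.Agent.S12744
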