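import Groth.Statements.S12746
import Mathlib.CategoryTheory.Limits.Types.Pullbacks
import Mathlib.CategoryTheory.Limits.FunctorCategory.Basic
import Mathlib.CategoryTheory.Limits.Shapes.Pullback.IsPullback.Basic

set_option autoImplicit false
universe u v
open CategoryTheory
open ArtFun

namespace Groth.Agent.S12746

/-- For functors, if F, G, H are functors on Artinian local Λ-algebras with residue field k satisfying
(RS) and f : H → F, g : G → F are morphisms, then the fibre product functor H ×_F G satisfies (RS). -/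
theorem result {Λ : Type u} {k : Type u} [CommRing Λ] [Field k] [Algebra Λ k]
    [IsNoetherianRing Λ] [Module.Finite Λ k]
    {F G H : ArtFun.Art Λ k ⥤ Type v} (f : H ⟶ F) (g : G ⟶ F)
    (hF : (∀ ⦃B A A' A'' : ArtFun.Art Λ k⦄ (p' : B ⟶ A') (p'' : B ⟶ A'') (f' : A' ⟶ A) (f'' : A'' ⟶ A)
        (h : ArtFun.Art.IsFibreProd p' p'' f' f''), Function.Surjective f'' → Function.Bijective (ArtFun.cmp F h))) (hG : (∀ ⦃B A A' A'' : ArtFun.Art Λ k⦄ (p' : B ⟶ A') (p'' : B ⟶ A'') (f' : A' ⟶ A) (f'' : A'' ⟶ A)
        (h : ArtFun.Art.IsFibreProd p' p'' f' f''), Function.Surjective f'' → Function.Bijective (ArtFun.cmp G h))) (hH : (∀ ⦃B A A' A'' : ArtFun.Art Λ k⦄ (p' : B ⟶ A') (p'' : B ⟶ A'') (f' : A' ⟶ A) (f'' : A'' ⟶ A)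
        (h : ArtFun.Art.IsFibreProd p' p'' f' f''), Function.Surjective f'' → Function.Bijective (ArtFun.cmp H h))) :
    (∀ ⦃B A A' A'' : ArtFun.Art Λ k⦄ (p' : B ⟶ A') (p'' : B ⟶ A'') (f' : A' ⟶ A) (f'' : A'' ⟶ A)
        (h : ArtFun.Art.IsFibreProd p' p'' f' f''), Function.Surjective f'' → Function.Bijective (ArtFun.cmp (CategoryTheory.Limits.pullback f g) h)) := by
  intro B A A' A'' p' p'' f' f'' h hf''
  -- pointwise pullback squares
  have hpb : ∀ X : ArtFun.Art Λ k, IsPullback ((Limits.pullback.fst f g).app X) ((Limits.pullback.snd f g).app X)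
      (f.app X) (g.app X) := fun X =>
    Functor.map_isPullback ((evaluation _ _).obj X) (IsPullback.of_hasPullback f g)
  set P := Limits.pullback f g with hP
  set π₁ := Limits.pullback.fst f g with hπ₁
  set π₂ := Limits.pullback.snd f g with hπ₂
  have hcond : ∀ (X : ArtFun.Art Λ k) (z : P.obj X), f.app X (π₁.app X z) = g.app X (π₂.app X z) := by
    intro X z
    have := (hpb X).w
    exact ConcreteCategory.congr_hom this z
  constructor
  · intro z z' hz
    have hz1 : P.map p' z = P.map p' z' := congrArg (fun t => t.1.1) hz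
    have hz2 : P.map p'' z = P.map p'' z' := congrArg (fun t => t.1.2) hz
    apply Limits.Types.ext_of_isPullback (hpb B)
    · apply (hH p' p'' f' f'' h hf'').1
      apply Subtype.ext
      apply Prod.ext
      · change H.map p' (π₁.app B z) = H.map p' (π₁.app B z')
        rw [← NatTrans.naturality_apply π₁ p' z, ← NatTrans.naturality_apply π₁ p' z', hz1]
      · change H.map p'' (π₁.app B z) = H.map p'' (π₁.app B z')
        rw [← NatTrans.naturality_apply π₁ p'' z, ← NatTrans.naturality_apply π₁ p'' z', hz2]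
    · apply (hG p' p'' f' f'' h hf'').1
      apply Subtype.ext
      apply Prod.ext
      · change G.map p' (π₂.app B z) = G.map p' (π₂.app B z')
        rw [← NatTrans.naturality_apply π₂ p' z, ← NatTrans.naturality_apply π₂ p' z', hz1]
      · change G.map p'' (π₂.app B z) = G.map p'' (π₂.app B z')
        rw [← NatTrans.naturality_apply π₂ p'' z, ← NatTrans.naturality_apply π₂ p'' z', hz2]
  · intro y
    obtain ⟨⟨a', a''⟩, hy⟩ := y
    have hy' : P.map f' a' = P.map f'' a'' := hy
    have hyH : H.map f' (π₁.app A' a') = H.map f'' (π₁.app A'' a'') := by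
      rw [← NatTrans.naturality_apply π₁ f' a', ← NatTrans.naturality_apply π₁ f'' a'', hy']
    have hyG : G.map f' (π₂.app A' a') = G.map f'' (π₂.app A'' a'') := by
      rw [← NatTrans.naturality_apply π₂ f' a', ← NatTrans.naturality_apply π₂ f'' a'', hy']
    obtain ⟨zH, hzH⟩ := (hH p' p'' f' f'' h hf'').2 ⟨(π₁.app A' a', π₁.app A'' a''), hyH⟩
    obtain ⟨zG, hzG⟩ := (hG p' p'' f' f'' h hf'').2 ⟨(π₂.app A' a', π₂.app A'' a''), hyG⟩
    have hzH1 : H.map p' zH = π₁.app A' a' := congrArg (fun t => t.1.1) hzH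
    have hzH2 : H.map p'' zH = π₁.app A'' a'' := congrArg (fun t => t.1.2) hzH
    have hzG1 : G.map p' zG = π₂.app A' a' := congrArg (fun t => t.1.1) hzG
    have hzG2 : G.map p'' zG = π₂.app A'' a'' := congrArg (fun t => t.1.2) hzG
    have hfg : f.app B zH = g.app B zG := by
      apply (hF p' p'' f' f'' h hf'').1
      apply Subtype.ext
      apply Prod.ext
      · change F.map p' (f.app B zH) = F.map p' (g.app B zG)
        rw [← NatTrans.naturality_apply f p' zH, ← NatTrans.naturality_apply g p' zG, hzH1, hzG1, hcond]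
      · change F.map p'' (f.app B zH) = F.map p'' (g.app B zG)
        rw [← NatTrans.naturality_apply f p'' zH, ← NatTrans.naturality_apply g p'' zG, hzH2, hzG2, hcond]
    obtain ⟨z, hz1, hz2⟩ := Limits.Types.exists_of_isPullback (hpb B) zH zG hfg
    refine ⟨z, Subtype.ext (Prod.ext ?_ ?_)⟩
    · change P.map p' z = a'
      apply Limits.Types.ext_of_isPullback (hpb A')
      · rw [NatTrans.naturality_apply π₁ p' z, hz1, hzH1]
      · rw [NatTrans.naturality_apply π₂ p' z, hz2, hzG1]
    · change P.map p'' z = a''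
      apply Limits.Types.ext_of_isPullback (hpb A'')
      · rw [NatTrans.naturality_apply π₁ p'' z, hz1, hzH2]
      · rw [NatTrans.naturality_apply π₂ p'' z, hz2, hzG2]

end Groth.Agent.S12746
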