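import Groth.Statements.S12747
import Mathlib.CategoryTheory.Limits.Types.Pullbacks
import Mathlib.CategoryTheory.Limits.FunctorCategory.Basic
import Mathlib.CategoryTheory.Limits.Shapes.Pullback.IsPullback.Basic
import Groth.Agent.Helper6.ArtFunTorsor

set_option autoImplicit false
universe u v
open CategoryTheory
open ArtFun

namespace Groth.Agent.S12747

open Groth.Agent.Helper6

/-- For functors, let H₁ → G, H₂ → G and q : G → F be morphisms of functors on Artinian local Λ-algebras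
with residue field k where F and G are deformation functors (value at k a point, condition (RS)) and
q is injective on tangent spaces. Then the induced morphism H₁ ×_G H₂ → H₁ ×_F H₂ is smooth. (The
published statement also assumes that infinitesimal automorphisms of G map onto those of F; for
functors that condition is empty.) -/
theorem result {Λ : Type u} {k : Type u} [CommRing Λ] [Field k] [Algebra Λ k]
    [IsNoetherianRing Λ] [Module.Finite Λ k]
    {F G H₁ H₂ : ArtFun.Art Λ k ⥤ Type v} (p₁ : H₁ ⟶ G) (p₂ : H₂ ⟶ G) (q : G ⟶ F)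
    (hF0 : ArtFun.H0 F) (hF : (∀ ⦃B A A' A'' : ArtFun.Art Λ k⦄ (p' : B ⟶ A') (p'' : B ⟶ A'') (f' : A' ⟶ A) (f'' : A'' ⟶ A)
        (h : ArtFun.Art.IsFibreProd p' p'' f' f''), Function.Surjective f'' → Function.Bijective (ArtFun.cmp F h)))
    (hG0 : ArtFun.H0 G) (hG : (∀ ⦃B A A' A'' : ArtFun.Art Λ k⦄ (p' : B ⟶ A') (p'' : B ⟶ A'') (f' : A' ⟶ A) (f'' : A'' ⟶ A)
        (h : ArtFun.Art.IsFibreProd p' p'' f' f''), Function.Surjective f'' → Function.Bijective (ArtFun.cmp G h)))
    (hq : Function.Injective (ArtFun.TangentSpace.map q)) :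
    ArtFun.IsSmooth (CategoryTheory.Limits.pullback.map p₁ p₂ (p₁ ≫ q) (p₂ ≫ q) (𝟙 H₁) (𝟙 H₂) q
      (CategoryTheory.Category.id_comp _).symm (CategoryTheory.Category.id_comp _).symm) := by
  have hqinj : ∀ X : ArtFun.Art Λ k, Function.Injective (q.app X) :=
    fun X => injective_app_of_tangent_injective hG0 hG hF0 hF q hq X
  have hpb : ∀ X : ArtFun.Art Λ k, IsPullback ((Limits.pullback.fst p₁ p₂).app X) ((Limits.pullback.snd p₁ p₂).app X)
      (p₁.app X) (p₂.app X) := fun X =>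
    Functor.map_isPullback ((evaluation _ _).obj X) (IsPullback.of_hasPullback p₁ p₂)
  have hpb' : ∀ X : ArtFun.Art Λ k, IsPullback ((Limits.pullback.fst (p₁ ≫ q) (p₂ ≫ q)).app X)
      ((Limits.pullback.snd (p₁ ≫ q) (p₂ ≫ q)).app X) ((p₁ ≫ q).app X) ((p₂ ≫ q).app X) := fun X =>
    Functor.map_isPullback ((evaluation _ _).obj X) (IsPullback.of_hasPullback (p₁ ≫ q) (p₂ ≫ q))
  set η := Limits.pullback.map p₁ p₂ (p₁ ≫ q) (p₂ ≫ q) (𝟙 H₁) (𝟙 H₂) q
      (Category.id_comp _).symm (Category.id_comp _).symm with hη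
  have hη1 : η ≫ Limits.pullback.fst (p₁ ≫ q) (p₂ ≫ q) = Limits.pullback.fst p₁ p₂ := by
    rw [hη, Limits.pullback.lift_fst, Category.comp_id]
  have hη2 : η ≫ Limits.pullback.snd (p₁ ≫ q) (p₂ ≫ q) = Limits.pullback.snd p₁ p₂ := by
    rw [hη, Limits.pullback.lift_snd, Category.comp_id]
  have hη1' : ∀ (X : ArtFun.Art Λ k) (z : (Limits.pullback p₁ p₂).obj X),
      (Limits.pullback.fst (p₁ ≫ q) (p₂ ≫ q)).app X (η.app X z) = (Limits.pullback.fst p₁ p₂).app X z := by
    intro X z
    have := congrArg (fun t => t.app X) hη1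
    exact ConcreteCategory.congr_hom this z
  have hη2' : ∀ (X : ArtFun.Art Λ k) (z : (Limits.pullback p₁ p₂).obj X),
      (Limits.pullback.snd (p₁ ≫ q) (p₂ ≫ q)).app X (η.app X z) = (Limits.pullback.snd p₁ p₂).app X z := by
    intro X z
    have := congrArg (fun t => t.app X) hη2
    exact ConcreteCategory.congr_hom this z
  intro B A μ hμ w
  obtain ⟨⟨x, y⟩, hxy⟩ := w
  have hxy' : η.app A x = (Limits.pullback (p₁ ≫ q) (p₂ ≫ q)).map μ y := hxy
  -- the components of y
  have hcond : q.app B (p₁.app B ((Limits.pullback.fst (p₁ ≫ q) (p₂ ≫ q)).app B y)) =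
      q.app B (p₂.app B ((Limits.pullback.snd (p₁ ≫ q) (p₂ ≫ q)).app B y)) :=
    ConcreteCategory.congr_hom (hpb' B).w y
  obtain ⟨z, hz1, hz2⟩ := Limits.Types.exists_of_isPullback (hpb B) _ _ (hqinj B hcond)
  refine ⟨z, Subtype.ext (Prod.ext ?_ ?_)⟩
  · change (Limits.pullback p₁ p₂).map μ z = x
    apply Limits.Types.ext_of_isPullback (hpb A)
    · rw [NatTrans.naturality_apply (Limits.pullback.fst p₁ p₂) μ z, hz1,
        ← NatTrans.naturality_apply (Limits.pullback.fst (p₁ ≫ q) (p₂ ≫ q)) μ y, ← hxy', hη1']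
    · rw [NatTrans.naturality_apply (Limits.pullback.snd p₁ p₂) μ z, hz2,
        ← NatTrans.naturality_apply (Limits.pullback.snd (p₁ ≫ q) (p₂ ≫ q)) μ y, ← hxy', hη2']
  · change η.app B z = y
    apply Limits.Types.ext_of_isPullback (hpb' B)
    · rw [hη1', hz1]
    · rw [hη2', hz2]

end Groth.Agent.S12747
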