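import Groth.Statements.S12750
import Groth.Agent.S12709
import Groth.Agent.S12710
import Groth.Agent.Helper6.ArtFunFibre

set_option autoImplicit false
universe u v
open CategoryTheory
open ArtFun ArtFun.Art

namespace Groth.Agent.S12750

open ArtFun ArtFun.Art IsLocalRing in
/-- Surjectivity can be tested after the quotient by `m_Λ A + m_A²`. -/
theorem surjective_of_comp_quot {Λ : Type u} {k : Type u} [CommRing Λ] [Field k] [Algebra Λ k]
    [IsNoetherianRing Λ] [Module.Finite Λ k]
    {A A' C : ArtFun.Art Λ k} (h : C ⟶ A) (qA : A ⟶ A')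
    (hkA : RingHom.ker qA.toAlgHom = Ideal.map (algebraMap Λ A) (RingHom.ker (algebraMap Λ k)) ⊔ IsLocalRing.maximalIdeal A ^ 2)
    (hs : Function.Surjective (h ≫ qA)) : Function.Surjective h := by
  have tfae := Groth.Agent.S12709.result h
  apply (tfae.out 0 2).2
  have hΛ : Ideal.map (algebraMap Λ A) (RingHom.ker (algebraMap Λ k)) ≤ maximalIdeal A := by
    rw [Ideal.map_le_iff_le_comap]
    intro l hl
    rw [Ideal.mem_comap, Art.mem_maximalIdeal_iff, AlgHom.commutes]
    exact hl
  have hmap : Ideal.map h.toAlgHom (maximalIdeal C) ≤ maximalIdeal A := by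
    rw [Ideal.map_le_iff_le_comap]
    intro c hc
    rw [Ideal.mem_comap, Art.mem_maximalIdeal_iff]
    rw [Art.mem_maximalIdeal_iff] at hc
    change A.res (h c) = 0
    rw [Art.res_app, hc]
  apply le_antisymm
  · exact sup_le (sup_le hΛ hmap) (Ideal.pow_le_self two_ne_zero)
  · intro a ha
    obtain ⟨c, hc⟩ := hs (qA a)
    have hc' : qA (h c) = qA a := hc
    have hcm : c ∈ maximalIdeal C := by
      rw [Art.mem_maximalIdeal_iff, ← Art.res_app h, ← Art.res_app qA, hc', Art.res_app]
      exact (Art.mem_maximalIdeal_iff A a).1 ha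
    have hker : a - h c ∈ RingHom.ker qA.toAlgHom := by
      rw [RingHom.mem_ker, map_sub]
      change qA a - qA (h c) = 0
      rw [hc', sub_self]
    rw [hkA] at hker
    have h1 : h c ∈ Ideal.map h.toAlgHom (maximalIdeal C) := Ideal.mem_map_of_mem _ hcm
    obtain ⟨u, hu, v, hv, huv⟩ := Submodule.mem_sup.1 hker
    have : a = u + h c + v := by
      have : a - h c = u + v := huv.symm
      linear_combination this
    rw [this]
    exact Ideal.add_mem _ (Ideal.mem_sup_left (Ideal.add_mem _ (Ideal.mem_sup_left hu) (Ideal.mem_sup_right h1)))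
      (Ideal.mem_sup_right hv)

theorem surjective_of_surjective_comp {Λ : Type u} {k : Type u} [CommRing Λ] [Field k] [Algebra Λ k]
    {A B C : ArtFun.Art Λ k} (p : C ⟶ B) (q : B ⟶ A) (h : Function.Surjective (p ≫ q)) :
    Function.Surjective q := by
  intro a
  obtain ⟨c, hc⟩ := h a
  exact ⟨p c, hc⟩


/-- (1) ⇔ (3): let f : B → A be a morphism in the category of Artinian local Λ-algebras with residue
field k, and let q_B : B → B', q_A : A → A' be the quotients by m_Λ B + m_B² and m_Λ A + m_A² (m_Λ
the kernel of Λ → k), realised as surjective morphisms with these kernels, with f' : B' → A' the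
induced morphism. Then f is an essential surjection — surjective, and every morphism g into B whose
composite with f is surjective is itself surjective — if and only if f' is. (The intermediate
equivalence with the map B/m_B² → A/m_A² is the special case Λ-structure trivialised and follows by
applying this one twice.) -/
theorem result {Λ : Type u} {k : Type u} [CommRing Λ] [Field k] [Algebra Λ k]
    [IsNoetherianRing Λ] [Module.Finite Λ k]
    {A B A' B' : ArtFun.Art Λ k} (f : B ⟶ A)
    (qB : B ⟶ B') (hqB : Function.Surjective qB)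
    (hkB : RingHom.ker qB.toAlgHom = Ideal.map (algebraMap Λ B) (RingHom.ker (algebraMap Λ k)) ⊔ IsLocalRing.maximalIdeal B ^ 2)
    (qA : A ⟶ A') (hqA : Function.Surjective qA)
    (hkA : RingHom.ker qA.toAlgHom = Ideal.map (algebraMap Λ A) (RingHom.ker (algebraMap Λ k)) ⊔ IsLocalRing.maximalIdeal A ^ 2)
    (f' : B' ⟶ A') (hf' : qB ≫ f' = f ≫ qA) :
    (Function.Surjective f ∧ ∀ (C : ArtFun.Art Λ k) (g : C ⟶ B), Function.Surjective (g ≫ f) → Function.Surjective g) ↔ (Function.Surjective f' ∧ ∀ (C : ArtFun.Art Λ k) (g : C ⟶ B'), Function.Surjective (g ≫ f') → Function.Surjective g) := by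
  constructor
  · rintro ⟨hf, hess⟩
    have hf's : Function.Surjective f' := by
      apply surjective_of_surjective_comp qB f'
      rw [hf']
      exact Groth.Agent.Helper6.surjective_comp f qA hf hqA
    refine ⟨hf's, ?_⟩
    intro C g hg
    obtain ⟨C', p₁, p₂, hfp⟩ := Groth.Agent.S12710.result g qB hqB
    have hp₁ : Function.Surjective p₁ := Groth.Agent.Helper6.IsFibreProd.surjective_fst hfp hqB
    have h1 : Function.Surjective ((p₂ ≫ f) ≫ qA) := by
      rw [Category.assoc, ← hf', ← Category.assoc, ← hfp.w, Category.assoc]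
      exact Groth.Agent.Helper6.surjective_comp p₁ (g ≫ f') hp₁ hg
    have h2 : Function.Surjective (p₂ ≫ f) := surjective_of_comp_quot (p₂ ≫ f) qA hkA h1
    have h3 : Function.Surjective p₂ := hess C' p₂ h2
    have h4 : Function.Surjective (p₁ ≫ g) := by
      rw [hfp.w]
      exact Groth.Agent.Helper6.surjective_comp p₂ qB h3 hqB
    exact surjective_of_surjective_comp p₁ g h4
  · rintro ⟨hf's, hess⟩
    have hf : Function.Surjective f := by
      apply surjective_of_comp_quot f qA hkA
      rw [← hf']
      exact Groth.Agent.Helper6.surjective_comp qB f' hqB hf's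
    refine ⟨hf, ?_⟩
    intro C g hg
    apply surjective_of_comp_quot g qB hkB
    apply hess C (g ≫ qB)
    rw [Category.assoc, hf', ← Category.assoc]
    exact Groth.Agent.Helper6.surjective_comp (g ≫ f) qA hg hqA

end Groth.Agent.S12750
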