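import Groth.Statements.S12757
import Groth.Agent.Helper6.ArtFunMinimal

set_option autoImplicit false
universe u v
open CategoryTheory
open ArtFun

namespace Groth.Agent.S12757

open Groth.Agent.Helper6

/-- For functors, let F be a functor on Artinian local Λ-algebras with residue field k with F(k) a
point. A versal family of F over a complete local Noetherian R with residue field k which is
bijective on tangent spaces (a hull; bijectivity implies bijectivity on orbits of the derivations of
k) is minimal: every morphism of coefficient rings R' → R along which some formal element over R'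
pushes forward to the formal element of the family is surjective. -/
theorem result {Λ : Type u} {k : Type u} [CommRing Λ] [Field k] [Algebra Λ k]
    [IsNoetherianRing Λ] [Module.Finite Λ k]
    {F : ArtFun.Art Λ k ⥤ Type v} (h0 : ArtFun.H0 F) (P : ArtFun.Hull F) :
    P.family.IsMinimalVersal := by
  obtain ⟨R, ξ, hmv⟩ := P
  refine ⟨hmv.1, ?_⟩
  intro R' u f hf hpush
  change u.push f hf = ξ.toFormalElt at hpush
  have hsurj := surjective_app_of_isVersal ξ hmv.1 h0
  obtain ⟨g, hg, hge⟩ := exists_along_toFormalElt_eq R ξ hmv.1 hsurj R' u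
  have hθ : R.res.comp (f.comp g) = R.res := by rw [← AlgHom.comp_assoc, hf, hg]
  have hfe : (ξ.along (f.comp g) hθ).toFormalElt = ξ.toFormalElt := by
    rw [along_toFormalElt_eq_push, ← push_push _ g hg f hf, ← along_toFormalElt_eq_push, hge, hpush]
  have hfix : ∀ τ : ArtFun.HomSet R.carrier R.res (ArtFun.Art.dual Λ k), τ.1.comp (f.comp g) = τ.1 := by
    intro τ
    obtain ⟨n, τbar, hτ⟩ := exists_trunc_factor R τ
    have hn : ξ.app _ ⟨(R.truncHom n).1.comp (f.comp g), by
        rw [← AlgHom.comp_assoc, (R.truncHom n).2, hθ]⟩ = ξ.app _ (R.truncHom n) :=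
      congrArg (fun t => t.elt n) hfe
    have h1 : ξ.app _ (⟨τ.1.comp (f.comp g), by rw [← AlgHom.comp_assoc, τ.2, hθ]⟩ :
        ArtFun.HomSet R.carrier R.res (ArtFun.Art.dual Λ k)) = ξ.app _ τ := by
      have e1 : (⟨τ.1.comp (f.comp g), by rw [← AlgHom.comp_assoc, τ.2, hθ]⟩ :
          ArtFun.HomSet R.carrier R.res (ArtFun.Art.dual Λ k)) =
          ArtFun.HomSet.map τbar ⟨(R.truncHom n).1.comp (f.comp g), by
            rw [← AlgHom.comp_assoc, (R.truncHom n).2, hθ]⟩ := by
        apply Subtype.ext
        rw [← hτ]
        rfl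
      rw [e1, ξ.natural, hn, ← ξ.natural, hτ]
    exact congrArg Subtype.val (hmv.2.1 h1)
  have hs := surjective_endo_of_fixes_tangent R (f.comp g) hθ hfix
  intro x
  obtain ⟨y, hy⟩ := hs x
  exact ⟨g y, hy⟩

end Groth.Agent.S12757
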