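import Groth.Statements.S12758
import Groth.Agent.Helper6.ArtFunMinimal

set_option autoImplicit false
universe u v
open CategoryTheory
open ArtFun

namespace Groth.Agent.S12758

open Groth.Agent.Helper6

/-- For functors, two minimal versal families of a functor F on Artinian local Λ-algebras with residue
field k with F(k) a point — over complete local Noetherian coefficient rings R₁, R₂ with residue
field k — are isomorphic: there is an isomorphism R₁ ≅ R₂ over Λ, compatible with the augmentations,
along which the formal element of the first family pushes forward to that of the second. -/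
theorem result {Λ : Type u} {k : Type u} [CommRing Λ] [Field k] [Algebra Λ k]
    [IsNoetherianRing Λ] [Module.Finite Λ k]
    {F : ArtFun.Art Λ k ⥤ Type v} (h0 : ArtFun.H0 F) {R₁ R₂ : ArtFun.CRing Λ k}
    (ξ₁ : ArtFun.Family R₁.carrier R₁.res F) (ξ₂ : ArtFun.Family R₂.carrier R₂.res F)
    (h₁ : ξ₁.IsMinimalVersal) (h₂ : ξ₂.IsMinimalVersal) :
    ∃ (e : R₁.carrier ≃ₐ[Λ] R₂.carrier) (he : R₂.res.comp (e : R₁.carrier →ₐ[Λ] R₂.carrier) = R₁.res),
      (ξ₁.along (e : R₁.carrier →ₐ[Λ] R₂.carrier) he).toFormalElt = ξ₂.toFormalElt := by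
  have hs₁ := surjective_app_of_isVersal ξ₁ h₁.1 h0
  have hs₂ := surjective_app_of_isVersal ξ₂ h₂.1 h0
  obtain ⟨g, hg, hge⟩ := exists_along_toFormalElt_eq R₁ ξ₁ h₁.1 hs₁ R₂ ξ₂.toFormalElt
  obtain ⟨h, hh, hhe⟩ := exists_along_toFormalElt_eq R₂ ξ₂ h₂.1 hs₂ R₁ ξ₁.toFormalElt
  have hgs : Function.Surjective g := by
    apply h₂.2 R₁ ξ₁.toFormalElt g hg
    rw [← along_toFormalElt_eq_push, hge]
  have hhs : Function.Surjective h := by
    apply h₁.2 R₂ ξ₂.toFormalElt h hh
    rw [← along_toFormalElt_eq_push, hhe]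
  have hinj : Function.Injective ((h.comp g : R₁.carrier →ₐ[Λ] R₁.carrier) : R₁.carrier →+* R₁.carrier) :=
    injective_of_surjective_endo _ (hhs.comp hgs)
  have hginj : Function.Injective g := by
    intro x y hxy
    apply hinj
    change h (g x) = h (g y)
    rw [hxy]
  refine ⟨AlgEquiv.ofBijective g ⟨hginj, hgs⟩, ?_, ?_⟩
  · exact hg
  · exact hge

end Groth.Agent.S12758
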