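import Groth.Statements.S12766
import Groth.Agent.Helper6.RepComp
import Groth.Agent.Helper6.FpCospan
import Groth.Agent.Helper6.AlgStInv

set_option autoImplicit false
open CategoryTheory AlgebraicGeometry
universe u
open AlgSt

namespace Groth.Agent.S12766

open Groth.Agent.Helper3 Groth.Agent.Helper6.FpTools Groth.Agent.Helper6.AlgStBC Groth.Agent.Helper6.AlgStInv FibCat in
theorem aux {S : Scheme.{u}} {𝒳 𝒴 𝒵 : AlgSt.Cat S}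
    (h𝒳 : FibCat.IsFibGrpd 𝒳.p) (h𝒴 : FibCat.IsFibGrpd 𝒴.p)
    (f : 𝒳 ⥤ᵇ 𝒴) (g : 𝒵 ⥤ᵇ 𝒴) (hf : AlgSt.RepByAlgSp1 f) (hZ : AlgSt.RepByAlgSp 𝒵) :
    AlgSt.RepByAlgSp (FibCat.fp g f) := by
  obtain ⟨G, eZ, heZ⟩ := hZ
  let x : AlgSt.ofSp G.obj ⥤ᵇ 𝒴 := BasedFunctor.comp eZ g
  have h𝒲 : IsFibGrpd (fp x f).p := isFibGrpd_fp x f inferInstance h𝒳 h𝒴
  have hπ : AlgSt.RepByAlgSp1 (fpFst x f) := by
    rw [repByAlgSp1_iff_top] at hf ⊢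
    exact repByAlgSpWith_of_baseChange ⊤ f x (fpFst x f) (BasedFunctor.id _) (isEquivOver_id _)
      (Iso.refl _) hf
  obtain ⟨F, e, he⟩ := Groth.Agent.Helper6.ToSpace.main1 h𝒲 G (fpFst x f) hπ
  have θ : BasedFunctor.comp x (BasedFunctor.id 𝒴) ≅ BasedFunctor.comp eZ g := Iso.refl _
  have η : BasedFunctor.comp f (BasedFunctor.id 𝒴) ≅ BasedFunctor.comp (BasedFunctor.id 𝒳) f :=
    Iso.refl _
  exact ⟨F, BasedFunctor.comp e (cospanFunctor g f x f eZ (BasedFunctor.id _) (BasedFunctor.id _) θ η),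
    isEquivOver_comp he (isEquivOver_cospanFunctor _ _ _ _ _ _ _ θ η heZ (isEquivOver_id _)
      (isEquivOver_id _))⟩

/-- Let `𝒳`, `𝒴`, `𝒵` be fibred in groupoids over `(Sch/S)`, `f : 𝒳 ⟶ 𝒴` representable by algebraic
spaces, `g : 𝒵 ⟶ 𝒴` a 1-morphism and `𝒵` representable by an algebraic space. Then the 2-fibre
product `𝒵 ×_𝒴 𝒳` is representable by an algebraic space. -/
theorem result {S : Scheme.{u}} {𝒳 𝒴 𝒵 : AlgSt.Cat S}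
    (h𝒳 : FibCat.IsFibGrpd 𝒳.p) (h𝒴 : FibCat.IsFibGrpd 𝒴.p) (h𝒵 : FibCat.IsFibGrpd 𝒵.p)
    (f : 𝒳 ⥤ᵇ 𝒴) (g : 𝒵 ⥤ᵇ 𝒴) (hf : AlgSt.RepByAlgSp1 f) (hZ : AlgSt.RepByAlgSp 𝒵) :
    AlgSt.RepByAlgSp (FibCat.fp g f) := by
  exact aux h𝒳 h𝒴 f g hf hZ

end Groth.Agent.S12766
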