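import Groth.Statements.S12767
import Mathlib
import Groth.Agent.Helper6.StkRel
import Groth.Agent.Helper6.StkTools
import Groth.Agent.Helper6.OfPsh

set_option autoImplicit false
open CategoryTheory AlgebraicGeometry
universe u
open AlgSt

namespace Groth.Agent.S12767

/-- Take categories `𝒳` and `𝒴` fibred in groupoids over `(Sch/S)` and a 1-morphism `j : 𝒳 ⟶ 𝒴` between
them which is representable by algebraic spaces. If `𝒴` is a stack in groupoids (fppf topology),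
then so is `𝒳`. -/
theorem result {S : Scheme.{u}} {𝒳 𝒴 : AlgSt.Cat S}
    (h𝒳 : FibCat.IsFibGrpd 𝒳.p) (h𝒴 : Stk.IsStack (QuotSh.J Scheme.fppfPrecoverage S) 𝒴)
    (j : 𝒳 ⥤ᵇ 𝒴) (hj : AlgSt.RepByAlgSp1 j) :
    Stk.IsStack (QuotSh.J Scheme.fppfPrecoverage S) 𝒳 := by
  refine ⟨h𝒳, fun U R hR => ?_⟩
  haveI : (Stk.restr (Stk.sieveIncl R) 𝒴).IsEquivalence := h𝒴.2 R hR
  apply Groth.Agent.Helper6.StkRel.restr_isEquivalence_of_rel (Stk.sieveIncl R) j h𝒴.1
  intro y
  obtain ⟨F, e, he⟩ := hj U y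
  have hsh : Presieve.IsSheaf (QuotSh.J Scheme.fppfPrecoverage S) F.obj.obj :=
    (isSheaf_iff_isSheaf_of_type _ _).1 F.obj.property
  have h1 : Stk.IsStackFor R (AlgSt.ofSp F.obj) :=
    Groth.Agent.Helper6.OfPsh.isStackFor_of_isSheafFor F.obj.obj R (hsh R hR)
  exact Groth.Agent.Helper6.StkTools.isStackFor_of_isEquivOver R e he h1

end Groth.Agent.S12767
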