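import Groth.Statements.S12768
import Groth.Agent.Helper6.AlgOfFp
import Groth.Agent.S12767
import Groth.Agent.S12772

set_option autoImplicit false
open CategoryTheory AlgebraicGeometry
universe u
open AlgSt

namespace Groth.Agent.S12768

/-- Take categories `𝒳` and `𝒴` fibred in groupoids over `(Sch/S)` and a 1-morphism `j : 𝒳 ⟶ 𝒴` between
them which is representable by algebraic spaces. If `𝒴` is an algebraic stack over `S`, then so is
`𝒳`. -/
theorem result {S : Scheme.{u}} {𝒳 𝒴 : AlgSt.Cat S}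
    (h𝒳 : FibCat.IsFibGrpd 𝒳.p) (h𝒴 : AlgSt.IsAlgStack Scheme.fppfPrecoverage 𝒴)
    (j : 𝒳 ⥤ᵇ 𝒴) (hj : AlgSt.RepByAlgSp1 j) :
    AlgSt.IsAlgStack Scheme.fppfPrecoverage 𝒳 := by
  refine Groth.Agent.Helper6.AlgOfFp.isAlgStack_of_forall_fp _
    (Groth.Agent.S12767.result h𝒳 h𝒴.isStack j hj) h𝒴 j (fun U g => ?_)
  exact (Groth.Agent.S12772.result
    (Groth.Agent.Helper6.FpTools.isFibGrpd_fp g j (Groth.Agent.Helper9.FibRep.isFibGrpd_overCat U)
      h𝒳 h𝒴.isStack.1) (hj U g)).1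

end Groth.Agent.S12768
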