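import Groth.Statements.S12782
import Mathlib
import Groth.Agent.Helper6.AlgStRep

set_option autoImplicit false
open CategoryTheory AlgebraicGeometry
universe u
open AlgSt

namespace Groth.Agent.S12782

open Groth.Agent.Helper6.FpTools Groth.Agent.Helper6.AlgStRep in

/-- Consider a 2-commutative square of 1-morphisms of categories fibred in groupoids over `(Sch/S)` with
vertical arrows `f' : 𝒳' ⟶ 𝒴'`, `f : 𝒳 ⟶ 𝒴` and horizontal arrows equivalences over `(Sch/S)`. Then
`f` is representable by algebraic spaces with property `P` if and only if `f'` is. (The published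
statement assumes `P` stable under base change and fppf local on the base; this row holds for every
property `P`.) -/
theorem result {S : Scheme.{u}} {𝒳 𝒴 𝒳' 𝒴' : AlgSt.Cat S}
    (h𝒳 : FibCat.IsFibGrpd 𝒳.p) (h𝒴 : FibCat.IsFibGrpd 𝒴.p) (h𝒳' : FibCat.IsFibGrpd 𝒳'.p) (h𝒴' : FibCat.IsFibGrpd 𝒴'.p)
    (P : MorphismProperty (AlgSp.Sp S)) (f : 𝒳 ⥤ᵇ 𝒴) (f' : 𝒳' ⥤ᵇ 𝒴') (a : 𝒳' ⥤ᵇ 𝒳) (b : 𝒴' ⥤ᵇ 𝒴)
    (ha : FibCat.IsEquivOver a) (hb : FibCat.IsEquivOver b) (e : BasedFunctor.comp f' b ≅ BasedFunctor.comp a f) :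
    AlgSt.RepByAlgSpWith P f ↔ AlgSt.RepByAlgSpWith P f' := by
  constructor
  · intro hf U y'
    have θ : BasedFunctor.comp y' b ≅
        BasedFunctor.comp (BasedFunctor.id (FibCat.overCat U)) (BasedFunctor.comp y' b) := Iso.refl _
    exact rep_transfer' P
      (cospanFunctor (BasedFunctor.comp y' b) f y' f' (BasedFunctor.id _) a b θ e)
      (isEquivOver_cospanFunctor _ _ _ _ _ _ _ θ e (isEquivOver_id _) ha hb)
      (FibCat.fpFst (BasedFunctor.comp y' b) f) (FibCat.fpFst y' f') (Iso.refl _)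
      (hf U (BasedFunctor.comp y' b))
  · intro hf' U y
    obtain ⟨c, hc, -, ⟨ε⟩⟩ := Groth.Agent.Helper3.EquivOver.symm hb
    have θ : BasedFunctor.comp (BasedFunctor.comp y c) b ≅
        BasedFunctor.comp (BasedFunctor.id (FibCat.overCat U)) y := whiskerLeftIso' y ε
    exact rep_transfer P
      (cospanFunctor y f (BasedFunctor.comp y c) f' (BasedFunctor.id _) a b θ e)
      (isEquivOver_cospanFunctor _ _ _ _ _ _ _ θ e (isEquivOver_id _) ha hb)
      (FibCat.fpFst y f) (FibCat.fpFst (BasedFunctor.comp y c) f') (Iso.refl _)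
      (hf' U (BasedFunctor.comp y c))

end Groth.Agent.S12782
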