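import Groth.Statements.S12797
import Mathlib
import Groth.Agent.S12796
import Groth.Agent.Helper6.StkTools

set_option autoImplicit false
open CategoryTheory
universe w v u
open Stk

namespace Groth.Agent.S12797

/-- `C/U → ofPsh (yoneda U)`. -/
def toPsh {C : Type u} [Category.{v} C] (U : C) : FibCat.overCat U ⥤ᵇ Stk.ofPsh (yoneda.obj U) where
  toFunctor :=
    { obj := fun a => ⟨a.left, a.hom⟩
      map := fun {a b} m => ⟨m.left, Over.w m⟩ }
  w := rfl

/-- `ofPsh (yoneda U) → C/U`. -/
def ofPsh' {C : Type u} [Category.{v} C] (U : C) : Stk.ofPsh (yoneda.obj U) ⥤ᵇ FibCat.overCat U where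
  toFunctor :=
    { obj := fun x => Over.mk x.sec
      map := fun {a b} φ => Over.homMk φ.hom φ.map_sec }
  w := rfl

theorem isEquivOver_toPsh {C : Type u} [Category.{v} C] (U : C) : FibCat.IsEquivOver (toPsh U) :=
  ⟨ofPsh' U, ⟨Iso.refl _⟩, ⟨Iso.refl _⟩⟩

/-- For an object `U` of `C`, the slice category `C/U` with its forgetful functor to `C` is a stack in
groupoids for the topology `J` if and only if the representable presheaf `h_U` is a sheaf for `J`. -/
theorem result {C : Type u} [Category.{v} C] (J : GrothendieckTopology C) (U : C) :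
    Stk.IsStack J (FibCat.overCat U) ↔ Presieve.IsSheaf J (yoneda.obj U) := by
  rw [← Groth.Agent.S12796.result J (yoneda.obj U)]
  exact Groth.Agent.Helper6.StkTools.isStack_iff_of_isEquivOver J (toPsh U) (isEquivOver_toPsh U)

end Groth.Agent.S12797
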