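import Groth.Statements.S12798
import Mathlib
import Groth.Agent.Helper6.StkLocal
import Groth.Agent.Helper3.FibGrpd

set_option autoImplicit false
open CategoryTheory
universe w v u
open Stk

namespace Groth.Agent.S12798

/-- Let `𝒮₁`, `𝒮₂`, `𝒯₁` be stacks in groupoids over `C` for the topology `J`, and `F : 𝒮₂ ⟶ 𝒮₁`, `G :
𝒯₁ ⟶ 𝒮₁` functors over `C` such that every object of `𝒮₁` is locally in the essential image of `F`.
If the first projection `𝒮₂ ×_{𝒮₁} 𝒯₁ ⟶ 𝒮₂` of the 2-fibre product over `C` is faithful, then `G` is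
faithful. (The published statement is for any 2-cartesian square of stacks in groupoids; this row is
the case of the explicit 2-fibre product, to which the general case reduces because faithfulness is
invariant under equivalence.) -/
theorem result {C : Type u} [Category.{v} C] (J : GrothendieckTopology C) {𝒮₁ 𝒮₂ 𝒯₁ : BasedCategory.{v, max u v} C}
    (h₁ : Stk.IsStack J 𝒮₁) (h₂ : Stk.IsStack J 𝒮₂) (h₃ : Stk.IsStack J 𝒯₁) (F : 𝒮₂ ⥤ᵇ 𝒮₁) (G : 𝒯₁ ⥤ᵇ 𝒮₁)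
    (hF : ∀ y : 𝒮₁.obj, ∃ R ∈ J (𝒮₁.p.obj y), ∀ ⦃V : C⦄ (f : V ⟶ 𝒮₁.p.obj y), R f →
      ∃ (x : 𝒮₂.obj) (φ : F.obj x ⟶ y), 𝒮₁.p.IsHomLift f φ)
    (hG' : (FibCat.fpFst F G).toFunctor.Faithful) : G.toFunctor.Faithful := by
  obtain ⟨hfg₁, hst₁⟩ := h₁
  obtain ⟨hfg₃, hst₃⟩ := h₃
  refine ⟨fun {t t'} α β hαβ => ?_⟩
  -- `β` lies over the same morphism as `α`
  haveI hβ : 𝒯₁.p.IsHomLift (𝒯₁.p.map α) β := by
    haveI : 𝒮₁.p.IsHomLift (𝒯₁.p.map α) (G.map β) := by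
      have : G.map β = G.map α := hαβ.symm
      rw [this]; infer_instance
    exact G.isHomLift_map _ _
  haveI := hfg₃.isStronglyCartesian α
  have e0 : 𝒯₁.p.map α = 𝟙 _ ≫ 𝒯₁.p.map α := (Category.id_comp _).symm
  let γ : t ⟶ t := Functor.IsStronglyCartesian.map 𝒯₁.p (𝒯₁.p.map α) α e0 β
  have hγ : γ ≫ α = β := Functor.IsStronglyCartesian.fac 𝒯₁.p (𝒯₁.p.map α) α e0 β
  haveI lγ : 𝒯₁.p.IsHomLift (𝟙 (𝒯₁.p.obj t)) γ :=
    Functor.IsStronglyCartesian.map_isHomLift 𝒯₁.p (𝒯₁.p.map α) α e0 β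
  -- `G γ` is the identity
  have hGγ : G.map γ = 𝟙 (G.obj t) := by
    haveI : 𝒮₁.p.IsStronglyCartesian (𝒯₁.p.map α) (G.map α) :=
      Groth.Agent.Helper3.FibGrpd.isStronglyCartesian hfg₁ _ _
    haveI : 𝒮₁.p.IsHomLift (𝟙 (𝒯₁.p.obj t)) (G.map γ) := inferInstance
    haveI : 𝒮₁.p.IsHomLift (𝟙 (𝒯₁.p.obj t)) (𝟙 (G.obj t)) := IsHomLift.id (G.w_obj t)
    apply Functor.IsStronglyCartesian.ext 𝒮₁.p (𝒯₁.p.map α) (G.map α) (𝟙 (𝒯₁.p.obj t))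
    rw [← G.map_comp, hγ, Category.id_comp, hαβ]
  suffices hγ1 : γ = 𝟙 t by rw [← hγ, hγ1, Category.id_comp]
  -- local argument
  obtain ⟨R, hR, hloc⟩ := hF (G.obj t)
  haveI : (Stk.resSieve R 𝒯₁).Faithful := (hst₃ R hR).faithful
  have ht : 𝒯₁.p.obj t = 𝒮₁.p.obj (G.obj t) := (G.w_obj t).symm
  haveI lγ' : 𝒯₁.p.IsHomLift (𝟙 (𝒮₁.p.obj (G.obj t))) γ := by rw [← ht]; exact lγ
  haveI l1 : 𝒯₁.p.IsHomLift (𝟙 (𝒮₁.p.obj (G.obj t))) (𝟙 t) := IsHomLift.id ht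
  apply Groth.Agent.Helper6.StkLocal.hom_ext_of_locally hfg₃ R ht γ (𝟙 t)
  intro V' f hf s ψ hψ
  haveI := hψ
  obtain ⟨x, φ, hφ⟩ := hloc f hf
  haveI := hφ
  haveI : 𝒮₁.p.IsHomLift f (G.map ψ) := inferInstance
  haveI : 𝒮₁.p.IsStronglyCartesian f (G.map ψ) :=
    Groth.Agent.Helper3.FibGrpd.isStronglyCartesian hfg₁ _ _
  have e1 : f = 𝟙 _ ≫ f := (Category.id_comp _).symm
  let ι : F.obj x ⟶ G.obj s := Functor.IsStronglyCartesian.map 𝒮₁.p f (G.map ψ) e1 φ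
  haveI lι : 𝒮₁.p.IsHomLift (𝟙 V') ι :=
    Functor.IsStronglyCartesian.map_isHomLift 𝒮₁.p f (G.map ψ) e1 φ
  haveI : IsIso ι := @Groth.Agent.Helper3.FibGrpd.isIso_of_lift_id _ _ _ _ _ hfg₁ V' _ _ ι lι
  have hxV : 𝒮₂.p.obj x = V' := (F.w_obj x).symm.trans (IsHomLift.domain_eq 𝒮₁.p f φ)
  -- the induced automorphism of `s`
  haveI := Groth.Agent.Helper3.FibGrpd.isStronglyCartesian hfg₃ f ψ
  haveI lψγ : 𝒯₁.p.IsHomLift f (ψ ≫ γ) := inferInstance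
  let γs : s ⟶ s := Functor.IsStronglyCartesian.map 𝒯₁.p f ψ e1 (ψ ≫ γ)
  have hγs : γs ≫ ψ = ψ ≫ γ := Functor.IsStronglyCartesian.fac 𝒯₁.p f ψ e1 (ψ ≫ γ)
  haveI lγs : 𝒯₁.p.IsHomLift (𝟙 V') γs :=
    Functor.IsStronglyCartesian.map_isHomLift 𝒯₁.p f ψ e1 (ψ ≫ γ)
  have hGγs : G.map γs = 𝟙 (G.obj s) := by
    haveI : 𝒮₁.p.IsHomLift (𝟙 V') (G.map γs) := inferInstance
    haveI : 𝒮₁.p.IsHomLift (𝟙 V') (𝟙 (G.obj s)) :=
      IsHomLift.id (IsHomLift.domain_eq 𝒮₁.p f (G.map ψ))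
    apply Functor.IsStronglyCartesian.ext 𝒮₁.p f (G.map ψ) (𝟙 V')
    rw [← G.map_comp, hγs, G.map_comp, hGγ, Category.comp_id, Category.id_comp]
  -- the object and endomorphism of the fibre product
  let ob : (FibCat.fp F G).obj := ⟨⟨x, s, asIso ι⟩, by
    change 𝒮₁.p.IsHomLift (𝟙 (𝒮₂.p.obj x)) ι
    rw [hxV]; exact lι⟩
  let en : ob ⟶ ob := ObjectProperty.homMk
    { fst := 𝟙 x
      snd := γs
      w := by
        change F.map (𝟙 x) ≫ ι = ι ≫ G.map γs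
        rw [hGγs, F.map_id, Category.id_comp, Category.comp_id] }
  have hen : (FibCat.fpFst F G).toFunctor.map en = (FibCat.fpFst F G).toFunctor.map (𝟙 ob) := rfl
  have hen1 : en = 𝟙 ob := hG'.map_injective hen
  have hγs1 : γs = 𝟙 s := congrArg (fun m => m.hom.snd) hen1
  rw [← hγs, hγs1, Category.id_comp, Category.comp_id]

end Groth.Agent.S12798
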