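import Groth.Statements.S12799
import Mathlib
import Groth.Agent.Helper6.StkLocal
import Groth.Agent.Helper3.FibGrpd
import Groth.Agent.Helper3.Fp

set_option autoImplicit false
open CategoryTheory
universe w v u
open Stk

namespace Groth.Agent.S12799

/-- Let `𝒮₁`, `𝒮₂`, `𝒯₁` be stacks in groupoids over `C` for the topology `J`, `F : 𝒮₂ ⟶ 𝒮₁` a functor
over `C` whose underlying functor is fully faithful and such that every object of `𝒮₁` is locally in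
the essential image of `F`, and `G : 𝒯₁ ⟶ 𝒮₁` a functor over `C`. If the 2-fibre product `𝒮₂ ×_{𝒮₁}
𝒯₁` over `C` is fibred in setoids, then `𝒯₁` is fibred in setoids, hence a stack in setoids. (The
published statement is for any 2-cartesian square of stacks in groupoids; this row is the case of
the explicit 2-fibre product, to which the general case reduces because being fibred in setoids is
invariant under equivalence over `C`.) -/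
theorem result {C : Type u} [Category.{v} C] (J : GrothendieckTopology C) {𝒮₁ 𝒮₂ 𝒯₁ : BasedCategory.{v, max u v} C}
    (h₁ : Stk.IsStack J 𝒮₁) (h₂ : Stk.IsStack J 𝒮₂) (h₃ : Stk.IsStack J 𝒯₁) (F : 𝒮₂ ⥤ᵇ 𝒮₁) [F.toFunctor.Full] [F.toFunctor.Faithful]
    (hF : ∀ y : 𝒮₁.obj, ∃ R ∈ J (𝒮₁.p.obj y), ∀ ⦃V : C⦄ (f : V ⟶ 𝒮₁.p.obj y), R f →
      ∃ (x : 𝒮₂.obj) (φ : F.obj x ⟶ y), 𝒮₁.p.IsHomLift f φ)
    (G : 𝒯₁ ⥤ᵇ 𝒮₁) (h : FibCat.IsFibSetoid (FibCat.fp F G).p) : FibCat.IsFibSetoid 𝒯₁.p := by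
  obtain ⟨hfg₁, hst₁⟩ := h₁
  obtain ⟨hfg₃, hst₃⟩ := h₃
  refine ⟨hfg₃, fun U => fun a₀ a₁ => ⟨fun α₀ β₀ => ?_⟩⟩
  -- the covering sieve, transported to `U`
  have key : ∀ (X : C) (hX : 𝒮₁.p.obj (G.obj a₀.1) = X), ∃ R ∈ J X, ∀ ⦃V : C⦄ (f : V ⟶ X), R f →
      ∃ (x : 𝒮₂.obj) (φ : F.obj x ⟶ G.obj a₀.1), 𝒮₁.p.IsHomLift f φ := by
    intro X hX; subst hX; exact hF (G.obj a₀.1)
  obtain ⟨R, hR, hloc⟩ := key U ((G.w_obj a₀.1).trans a₀.2)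
  haveI : (Stk.resSieve R 𝒯₁).Faithful := (hst₃ R hR).faithful
  apply Groth.Agent.Helper6.StkLocal.fiber_hom_ext_of_locally hfg₃ R a₀ a₁ α₀ β₀
  intro V' f hf s ψ hψ
  haveI := hψ
  haveI lα : 𝒯₁.p.IsHomLift (𝟙 U) α₀.1 := α₀.2
  haveI lβ : 𝒯₁.p.IsHomLift (𝟙 U) β₀.1 := β₀.2
  obtain ⟨x, φ, hφ⟩ := hloc f hf
  haveI := hφ
  haveI : 𝒮₁.p.IsHomLift f (G.map ψ) := inferInstance
  haveI : 𝒮₁.p.IsStronglyCartesian f (G.map ψ) :=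
    Groth.Agent.Helper3.FibGrpd.isStronglyCartesian hfg₁ _ _
  have e1 : f = 𝟙 _ ≫ f := (Category.id_comp _).symm
  let ι : F.obj x ⟶ G.obj s := Functor.IsStronglyCartesian.map 𝒮₁.p f (G.map ψ) e1 φ
  haveI lι : 𝒮₁.p.IsHomLift (𝟙 V') ι :=
    Functor.IsStronglyCartesian.map_isHomLift 𝒮₁.p f (G.map ψ) e1 φ
  haveI : IsIso ι := @Groth.Agent.Helper3.FibGrpd.isIso_of_lift_id _ _ _ _ _ hfg₁ V' _ _ ι lι
  have hxV : 𝒮₂.p.obj x = V' := (F.w_obj x).symm.trans (IsHomLift.domain_eq 𝒮₁.p f φ)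
  -- pull back `a₁` along `f`
  obtain ⟨s', ψ', hψ'⟩ := Groth.Agent.Helper3.FibGrpd.exists_lift' hfg₃ a₁.2 f
  haveI := hψ'
  haveI := Groth.Agent.Helper3.FibGrpd.isStronglyCartesian hfg₃ f ψ'
  haveI l1 : 𝒯₁.p.IsHomLift f (ψ ≫ α₀.1) := inferInstance
  haveI l2 : 𝒯₁.p.IsHomLift f (ψ ≫ β₀.1) := inferInstance
  let αf : s ⟶ s' := Functor.IsStronglyCartesian.map 𝒯₁.p f ψ' e1 (ψ ≫ α₀.1)
  have hαf : αf ≫ ψ' = ψ ≫ α₀.1 := Functor.IsStronglyCartesian.fac 𝒯₁.p f ψ' e1 (ψ ≫ α₀.1)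
  haveI lαf : 𝒯₁.p.IsHomLift (𝟙 V') αf :=
    Functor.IsStronglyCartesian.map_isHomLift 𝒯₁.p f ψ' e1 (ψ ≫ α₀.1)
  let βf : s ⟶ s' := Functor.IsStronglyCartesian.map 𝒯₁.p f ψ' e1 (ψ ≫ β₀.1)
  have hβf : βf ≫ ψ' = ψ ≫ β₀.1 := Functor.IsStronglyCartesian.fac 𝒯₁.p f ψ' e1 (ψ ≫ β₀.1)
  haveI lβf : 𝒯₁.p.IsHomLift (𝟙 V') βf :=
    Functor.IsStronglyCartesian.map_isHomLift 𝒯₁.p f ψ' e1 (ψ ≫ β₀.1)
  haveI : IsIso αf := @Groth.Agent.Helper3.FibGrpd.isIso_of_lift_id _ _ _ _ _ hfg₃ V' _ _ αf lαf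
  haveI lGα : 𝒮₁.p.IsHomLift (𝟙 V') (G.map αf) := inferInstance
  haveI lGβ : 𝒮₁.p.IsHomLift (𝟙 V') (G.map βf) := inferInstance
  -- objects and morphisms of the fibre product
  let ob : (FibCat.fp F G).obj := ⟨⟨x, s, asIso ι⟩, by
    change 𝒮₁.p.IsHomLift (𝟙 (𝒮₂.p.obj x)) ι
    rw [hxV]; exact lι⟩
  let ob' : (FibCat.fp F G).obj := ⟨⟨x, s', asIso (ι ≫ G.map αf)⟩, by
    change 𝒮₁.p.IsHomLift (𝟙 (𝒮₂.p.obj x)) (ι ≫ G.map αf)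
    rw [hxV]; infer_instance⟩
  let m₁ : ob ⟶ ob' := ObjectProperty.homMk
    { fst := 𝟙 x
      snd := αf
      w := by
        change F.map (𝟙 x) ≫ (ι ≫ G.map αf) = ι ≫ G.map αf
        rw [F.map_id, Category.id_comp] }
  let u : x ⟶ x := F.toFunctor.preimage (ι ≫ G.map βf ≫ inv (G.map αf) ≫ inv ι)
  have hu : F.map u = ι ≫ G.map βf ≫ inv (G.map αf) ≫ inv ι := F.toFunctor.map_preimage _
  let m₂ : ob ⟶ ob' := ObjectProperty.homMk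
    { fst := u
      snd := βf
      w := by
        change F.map u ≫ (ι ≫ G.map αf) = ι ≫ G.map βf
        rw [hu]; simp }
  haveI lu : 𝒮₂.p.IsHomLift (𝟙 (𝒮₂.p.obj x)) u := by
    haveI : 𝒮₁.p.IsHomLift (𝟙 (𝒮₂.p.obj x)) (F.map u) := by
      rw [hu, hxV]
      haveI : 𝒮₁.p.IsHomLift (𝟙 V') (inv ι) := inferInstance
      haveI : 𝒮₁.p.IsHomLift (𝟙 V') (inv (G.map αf)) := inferInstance
      haveI : 𝒮₁.p.IsHomLift (𝟙 V') (inv (G.map αf) ≫ inv ι) := inferInstance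
      haveI : 𝒮₁.p.IsHomLift (𝟙 V') (G.map βf ≫ inv (G.map αf) ≫ inv ι) := inferInstance
      infer_instance
    exact F.isHomLift_map _ _
  have hm₁ : (FibCat.fp F G).p.IsHomLift (𝟙 (𝒮₂.p.obj x)) m₁ :=
    Groth.Agent.Helper3.Fp.isHomLift_of_fst F G _ m₁ (IsHomLift.id rfl)
  have hm₂ : (FibCat.fp F G).p.IsHomLift (𝟙 (𝒮₂.p.obj x)) m₂ :=
    Groth.Agent.Helper3.Fp.isHomLift_of_fst F G _ m₂ lu
  let A : (FibCat.fp F G).p.Fiber (𝒮₂.p.obj x) := ⟨ob, rfl⟩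
  let A' : (FibCat.fp F G).p.Fiber (𝒮₂.p.obj x) := ⟨ob', rfl⟩
  let M₁ : A ⟶ A' := ⟨m₁, hm₁⟩
  let M₂ : A ⟶ A' := ⟨m₂, hm₂⟩
  have hM : M₁ = M₂ := (h.2 (𝒮₂.p.obj x) A A').elim M₁ M₂
  have hm : m₁ = m₂ := congrArg Subtype.val hM
  have hαβ : αf = βf := congrArg (fun m => m.hom.snd) hm
  rw [← hαf, ← hβf, hαβ]

end Groth.Agent.S12799
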