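import Groth.Statements.S6401
import Mathlib
import Groth.Agent.Helper3.Fp

set_option autoImplicit false
open CategoryTheory
universe v u
open scoped TensorProduct
open FibCat

namespace Groth.Agent.S6401

/-- For categories `𝒳, 𝒴, 𝒮` fibred in groupoids over `C` and functors `F : 𝒳 ⟶ 𝒮`, `G : 𝒴 ⟶ 𝒮` over
`C`, the 2-fibre product `𝒳 ×_𝒮 𝒴` over `C` is fibred in groupoids over `C`. -/
theorem result {C : Type u} [Category.{v} C] {𝒳 𝒴 𝒮 : BasedCategory.{v, max u v} C} (F : 𝒳 ⥤ᵇ 𝒮) (G : 𝒴 ⥤ᵇ 𝒮) (h𝒳 : FibCat.IsFibGrpd 𝒳.p) (h𝒴 : FibCat.IsFibGrpd 𝒴.p) (h𝒮 : FibCat.IsFibGrpd 𝒮.p) :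
    FibCat.IsFibGrpd (FibCat.fp F G).p := by
  refine ⟨?_, ?_⟩
  · intro x V f
    change V ⟶ 𝒳.p.obj x.obj.fst at f
    obtain ⟨a', φ₁, hφ₁⟩ := h𝒳.exists_lift (x := x.obj.fst) f
    obtain ⟨b', φ₂, hφ₂⟩ := Groth.Agent.Helper3.FibGrpd.exists_lift' h𝒴
      (Groth.Agent.Helper3.Fp.snd_obj_eq F G x) f
    haveI := Groth.Agent.Helper3.FibGrpd.isStronglyCartesian h𝒮 f (F.map φ₁)
    haveI := Groth.Agent.Helper3.FibGrpd.isStronglyCartesian h𝒮 f (G.map φ₂)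
    obtain ⟨x', Φ, h₁, h₂, hΦ₁, hΦ₂⟩ := Groth.Agent.Helper3.Fp.exists_lift_obj F G x f φ₁ φ₂
    refine ⟨x', Φ, Groth.Agent.Helper3.Fp.isHomLift_of_fst F G f Φ ?_⟩
    rw [hΦ₁]; infer_instance
  · intro y x Φ
    haveI : 𝒳.p.IsStronglyCartesian ((FibCat.fp F G).p.map Φ) Φ.hom.fst :=
      h𝒳.isStronglyCartesian Φ.hom.fst
    haveI : 𝒴.p.IsStronglyCartesian ((FibCat.fp F G).p.map Φ) Φ.hom.snd :=
      Groth.Agent.Helper3.FibGrpd.isStronglyCartesian h𝒴 _ Φ.hom.snd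
    haveI : 𝒮.p.IsStronglyCartesian ((FibCat.fp F G).p.map Φ) (G.map Φ.hom.snd) :=
      Groth.Agent.Helper3.FibGrpd.isStronglyCartesian h𝒮 _ (G.map Φ.hom.snd)
    exact Groth.Agent.Helper3.Fp.isStronglyCartesian_of F G _ Φ

end Groth.Agent.S6401
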