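import Groth.Statements.S12800
import Mathlib
import Groth.Agent.S6401
import Groth.Agent.Helper6.FpPaste

set_option autoImplicit false
open CategoryTheory
universe v u
open FibCat

namespace Groth.Agent.S12800

open Groth.Agent.Helper3 Groth.Agent.Helper6.FpTools FibCat in

/-- For categories `𝒮`, `𝒯` fibred in groupoids over `C`, a category `ℛ` fibred in setoids over `C`, a
functor `f : 𝒯 ⟶ 𝒮` over `C` with faithful underlying functor and a functor `g : ℛ ⟶ 𝒮` over `C`,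
the 2-fibre product `𝒯 ×_𝒮 ℛ` over `C` is fibred in setoids. (The published statement takes stacks
in groupoids over a site and concludes a stack in setoids; the stack property of the 2-fibre product
is the separate result on 2-fibre products of stacks in groupoids, and the setoid property stated
here needs no topology.) -/
theorem result {C : Type u} [Category.{v} C] {𝒮 𝒯 ℛ : BasedCategory.{v, max u v} C}
    (h𝒮 : FibCat.IsFibGrpd 𝒮.p) (h𝒯 : FibCat.IsFibGrpd 𝒯.p) (hℛ : FibCat.IsFibSetoid ℛ.p) (f : 𝒯 ⥤ᵇ 𝒮) [f.toFunctor.Faithful] (g : ℛ ⥤ᵇ 𝒮) :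
    FibCat.IsFibSetoid (FibCat.fp f g).p := by
  refine ⟨Groth.Agent.S6401.result f g h𝒯 hℛ.1 h𝒮, ?_⟩
  intro U a b
  refine ⟨fun φ ψ => ?_⟩
  apply Functor.Fiber.hom_ext
  have hφ : (FibCat.fp f g).p.IsHomLift (𝟙 U) φ.1 := φ.2
  have hψ : (FibCat.fp f g).p.IsHomLift (𝟙 U) ψ.1 := ψ.2
  have h2 : φ.1.hom.snd = ψ.1.hom.snd := by
    haveI := Fp.snd_isHomLift f g _ φ.1 hφ
    haveI := Fp.snd_isHomLift f g _ ψ.1 hψ
    exact FibGrpd.hom_ext_of_isFibSetoid hℛ (𝟙 U) _ _
  change φ.1 = ψ.1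
  apply fp_hom_ext _ h2
  apply f.toFunctor.map_injective
  have w1 : f.map φ.1.hom.fst ≫ b.1.obj.iso.hom = a.1.obj.iso.hom ≫ g.map φ.1.hom.snd := φ.1.hom.w
  have w2 : f.map ψ.1.hom.fst ≫ b.1.obj.iso.hom = a.1.obj.iso.hom ≫ g.map ψ.1.hom.snd := ψ.1.hom.w
  rw [h2] at w1
  change f.map φ.1.hom.fst = f.map ψ.1.hom.fst
  rw [← cancel_mono b.1.obj.iso.hom, w1, w2]

end Groth.Agent.S12800
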