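import Groth.Statements.S12803
import Mathlib
import Groth.Agent.Helper6.RestrTop

set_option autoImplicit false
open CategoryTheory
universe v₂ u₂ v u
open Stk

namespace Groth.Agent.S12803

theorem sieve_eq {C : Type u} [Category.{v} C] {𝒳 : Type u₂} [Category.{v₂} 𝒳] (p : 𝒳 ⥤ C)
    (x : 𝒳) (a : Over x) (S : Sieve a) :
    Sieve.overEquiv ((Over.post p).obj a) (S.functorPushforward (Over.post p)) =
      (Sieve.overEquiv a S).functorPushforward p := by
  change (S.functorPushforward (Over.post p)).functorPushforward (Over.forget (p.obj x)) =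
    (S.functorPushforward (Over.forget x)).functorPushforward p
  rw [← Sieve.functorPushforward_comp, ← Sieve.functorPushforward_comp]
  rfl

theorem post_faithful {C : Type u} [Category.{v} C] {𝒳 : Type u₂} [Category.{v₂} 𝒳] (p : 𝒳 ⥤ C)
    (hp : FibCat.IsFibGrpd p) (x : 𝒳) : (Over.post p : Over x ⥤ Over (p.obj x)).Faithful := by
  refine ⟨fun {a b} f g h => ?_⟩
  have h1 : p.map f.left = p.map g.left := congrArg CommaMorphism.left h
  haveI := hp.isStronglyCartesian b.hom
  have hf' : p.map a.hom = p.map f.left ≫ p.map b.hom := by rw [← p.map_comp, Over.w f]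
  haveI : p.IsHomLift (p.map f.left) g.left := by rw [h1]; infer_instance
  have e1 := Functor.IsStronglyCartesian.map_uniq p (p.map b.hom) b.hom hf' a.hom f.left (Over.w f)
  have e2 := Functor.IsStronglyCartesian.map_uniq p (p.map b.hom) b.hom hf' a.hom g.left (Over.w g)
  apply Over.OverMorphism.ext
  rw [e1, e2]

theorem post_full {C : Type u} [Category.{v} C] {𝒳 : Type u₂} [Category.{v₂} 𝒳] (p : 𝒳 ⥤ C)
    (hp : FibCat.IsFibGrpd p) (x : 𝒳) : (Over.post p : Over x ⥤ Over (p.obj x)).Full := by
  refine ⟨fun {a b} h => ?_⟩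
  haveI := hp.isStronglyCartesian b.hom
  have hf' : p.map a.hom = h.left ≫ p.map b.hom := (Over.w h).symm
  let χ : a.left ⟶ b.left := Functor.IsStronglyCartesian.map p (p.map b.hom) b.hom hf' a.hom
  have hχ : χ ≫ b.hom = a.hom := Functor.IsStronglyCartesian.fac p (p.map b.hom) b.hom hf' a.hom
  haveI hl : p.IsHomLift h.left χ :=
    Functor.IsStronglyCartesian.map_isHomLift p (p.map b.hom) b.hom hf' a.hom
  refine ⟨Over.homMk χ hχ, ?_⟩
  apply Over.OverMorphism.ext
  change p.map χ = h.left
  exact (@IsHomLift.eq_of_isHomLift _ _ _ _ p a.left b.left h.left χ hl).symm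

theorem post_essSurj {C : Type u} [Category.{v} C] {𝒳 : Type u₂} [Category.{v₂} 𝒳] (p : 𝒳 ⥤ C)
    (hp : FibCat.IsFibGrpd p) (x : 𝒳) : (Over.post p : Over x ⥤ Over (p.obj x)).EssSurj := by
  refine ⟨fun c => ?_⟩
  obtain ⟨y, φ, hφ⟩ := hp.exists_lift (x := x) c.hom
  haveI := hφ
  refine ⟨Over.mk φ, ⟨Over.isoMk (eqToIso (IsHomLift.domain_eq p c.hom φ)) ?_⟩⟩
  have := IsHomLift.fac' p c.hom φ
  change eqToHom (IsHomLift.domain_eq p c.hom φ) ≫ c.hom = p.map φ
  rw [this]
  simp

/-- Let `p : 𝒳 ⥤ C` make `𝒳` fibred in groupoids over `C`, let `J` be a topology on `C` and `x` an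
object of `𝒳`. The functor `𝒳/x ⥤ C/p(x)` induced by `p` is an equivalence of categories, and it
identifies the localisation at `x` of the topology on `𝒳` inherited from `J` with the localisation
of `J` at `p x`: a sieve on an object of `𝒳/x` covers if and only if its image covers. -/
theorem result {C : Type u} [Category.{v} C] {𝒳 : Type u₂} [Category.{v₂} 𝒳] (p : 𝒳 ⥤ C)
    (hp : FibCat.IsFibGrpd p) (J : GrothendieckTopology C) (x : 𝒳) :
    (Over.post p : Over x ⥤ Over (p.obj x)).IsEquivalence ∧
      ∀ (a : Over x) (S : Sieve a), S ∈ (p.restrictedTopology J).over x a ↔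
        S.functorPushforward (Over.post p) ∈ (J.over (p.obj x)) ((Over.post p).obj a) := by
  haveI := post_faithful p hp x
  haveI := post_full p hp x
  haveI := post_essSurj p hp x
  refine ⟨{}, fun a S => ?_⟩
  rw [GrothendieckTopology.mem_over_iff, GrothendieckTopology.mem_over_iff,
    Groth.Agent.Helper6.RestrTop.mem_restrictedTopology_iff p hp J, sieve_eq]
  exact Iff.rfl

end Groth.Agent.S12803
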