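import Groth.Statements.S12805
import Groth.Agent.Helper6.StkOverT
import Groth.Agent.S6416

set_option autoImplicit false
open CategoryTheory
universe v u
open Stk

namespace Groth.Agent.S12805

/-- Let `𝒳` be a stack in groupoids over `C` for the topology `J`, endowed with the topology inherited
from `J`, and let `𝒴` be a category over `𝒳` that is a stack in groupoids for that topology. Then
`𝒴`, with the composite structure functor `𝒴 ⟶ 𝒳 ⟶ C`, is a stack in groupoids over `C` for `J`.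
(The published statement also has an assertion for stacks not necessarily in groupoids, which is not
stated here.) -/
theorem result {C : Type u} [Category.{v} C] (J : GrothendieckTopology C) {𝒳 : BasedCategory.{v, max u v} C}
    (h𝒳 : Stk.IsStack J 𝒳) (𝒴 : BasedCategory.{v, max u v} 𝒳.obj) (h𝒴 : Stk.IsStack (𝒳.p.restrictedTopology J) 𝒴) :
    Stk.IsStack J (BasedCategory.ofFunctor (𝒴.p ⋙ 𝒳.p)) := by
  obtain ⟨hfg𝒳, hst𝒳⟩ := h𝒳
  obtain ⟨hfg𝒴, hst𝒴⟩ := h𝒴
  refine ⟨Groth.Agent.S6416.result 𝒴.p 𝒳.p hfg𝒴 hfg𝒳, ?_⟩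
  intro U R hR
  haveI : (Stk.restr (Stk.sieveIncl R) 𝒳).IsEquivalence := hst𝒳 R hR
  have H : ∀ y : FibCat.overCat U ⥤ᵇ 𝒳,
      (Stk.restr (Groth.Agent.Helper6.StkSRel.srcMap (Stk.sieveIncl R) y)
        (Groth.Agent.Helper6.StkSRel.ov 𝒴.p)).IsEquivalence := by
    intro y
    have hcov := Groth.Agent.Helper6.StkOverT.covering y R hfg𝒳 J hR
    have h1 : (Stk.resSieve (Groth.Agent.Helper6.StkOverT.R' y R) 𝒴).IsEquivalence := hst𝒴 _ hcov
    exact Groth.Agent.Helper6.StkOverT.restr_srcMap_isEquivalence y R hfg𝒳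
      (Groth.Agent.Helper6.StkSRel.ov 𝒴.p) hfg𝒴 h1
  exact Groth.Agent.Helper6.StkSRel.restr_isEquivalence_of_strict 𝒴.p (Stk.sieveIncl R) hfg𝒴 hfg𝒳 H

end Groth.Agent.S12805
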