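import Groth.Statements.S12806
import Mathlib
import Groth.Agent.Helper6.FpMore
import Groth.Agent.Helper3.FpDiag

set_option autoImplicit false
open CategoryTheory
universe v u
open FibCat

namespace Groth.Agent.S12806

open Groth.Agent.Helper3 Groth.Agent.Helper6.FpTools FibCat in

/-- Let `𝒮` be fibred in groupoids over `C`, `U` an object of `C` and `x, y : C/U ⟶ 𝒮` two functors over
`C` (objects over `U` in 2-Yoneda form), with `e` the 2-isomorphism identifying their composites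
with the structure functor. Then the 2-fibre product over `C` of `(x, y) : C/U ⟶ 𝒮 ×_C 𝒮` with the
diagonal `𝒮 ⟶ 𝒮 ×_C 𝒮` is fibred in setoids over `C/U` through its first projection. (The published
statement is for a fibred category with `x`, `y` the functors given by chosen pullbacks; this row is
the case of a category fibred in groupoids, where every functor over `C` out of `C/U` is of that
kind.) -/
theorem result {C : Type u} [Category.{v} C] {𝒮 : BasedCategory.{v, max u v} C} (h𝒮 : FibCat.IsFibGrpd 𝒮.p)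
    (U : C) (x y : FibCat.overCat U ⥤ᵇ 𝒮)
    (e : BasedFunctor.comp x (FibCat.toSelf 𝒮) ≅ BasedFunctor.comp y (FibCat.toSelf 𝒮)) :
    FibCat.IsFibSetoid (FibCat.fpFst (FibCat.fpLift x y e) (FibCat.diag (FibCat.toSelf 𝒮))).toFunctor := by
  have hS : FibCat.IsFibGrpd (FibCat.fp (FibCat.toSelf 𝒮) (FibCat.toSelf 𝒮)).p :=
    isFibGrpd_fp_toSelf h𝒮 h𝒮
  refine ⟨Fp.isFibGrpd_fpFst (FibCat.fpLift x y e) (FibCat.diag (FibCat.toSelf 𝒮)) h𝒮 hS, ?_⟩
  intro u a b
  refine ⟨fun φ ψ => ?_⟩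
  apply Functor.Fiber.hom_ext
  change φ.1 = ψ.1
  have hφ : (FibCat.fpFst (FibCat.fpLift x y e) (FibCat.diag (FibCat.toSelf 𝒮))).toFunctor.IsHomLift (𝟙 u) φ.1 := φ.2
  have hψ : (FibCat.fpFst (FibCat.fpLift x y e) (FibCat.diag (FibCat.toSelf 𝒮))).toFunctor.IsHomLift (𝟙 u) ψ.1 := ψ.2
  have h1 : φ.1.hom.fst = ψ.1.hom.fst :=
    (CategoryTheory.IsHomLift.fac' (FibCat.fpFst (FibCat.fpLift x y e) (FibCat.diag (FibCat.toSelf 𝒮))).toFunctor (𝟙 u) φ.1).trans
      (CategoryTheory.IsHomLift.fac' (FibCat.fpFst (FibCat.fpLift x y e) (FibCat.diag (FibCat.toSelf 𝒮))).toFunctor (𝟙 u) ψ.1).symm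
  apply fp_hom_ext h1
  haveI := FpDiag.diag_faithful (FibCat.toSelf 𝒮)
  apply (FibCat.diag (FibCat.toSelf 𝒮)).toFunctor.map_injective
  have w1 := φ.1.hom.w
  have w2 := ψ.1.hom.w
  rw [h1] at w1
  rw [← cancel_epi a.1.obj.iso.hom]
  exact w1.symm.trans w2

end Groth.Agent.S12806
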