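import Groth.Statements.S12809
import Groth.Agent.Helper6.StkFibOver

set_option autoImplicit false
open CategoryTheory
universe v u
open Stk

namespace Groth.Agent.S12809

/-- Let `F : 𝒮 ⟶ 𝒯` be a functor over `C` between categories fibred in groupoids, with `𝒯` a stack in
groupoids for the topology `J` and the underlying functor of `F` faithful. Assume that for every
object `U` and every `y : C/U ⟶ 𝒯` over `C`, the 2-fibre product `(C/U) ×_𝒯 𝒮`, viewed as a category
over `C/U` through its first projection, is a stack for the topology on `C/U` induced by `J`. Then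
`𝒮` is a stack in groupoids for `J`. (The published statement asks `F` to be faithful on fibre
categories, which for categories fibred in groupoids is faithfulness of `F`, and phrases the last
hypothesis as the sheaf property, on `C/U`, of the presheaf of isomorphism classes of pairs `(x, F x
≅ y|_V)`; that presheaf is the presheaf of isomorphism classes of this 2-fibre product, which is
fibred in setoids over `C/U`.) -/
theorem result {C : Type u} [Category.{v} C] (J : GrothendieckTopology C) {𝒮 𝒯 : BasedCategory.{v, max u v} C}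
    (h𝒮 : FibCat.IsFibGrpd 𝒮.p) (h𝒯 : Stk.IsStack J 𝒯) (F : 𝒮 ⥤ᵇ 𝒯) [F.toFunctor.Faithful]
    (h3 : ∀ (U : C) (y : FibCat.overCat U ⥤ᵇ 𝒯),
      Stk.IsStack (J.over U) (BasedCategory.ofFunctor ((FibCat.fpFst y F).toFunctor : (FibCat.fp y F).obj ⥤ Over U))) :
    Stk.IsStack J 𝒮 := by
  obtain ⟨hfg𝒯, hst𝒯⟩ := h𝒯
  refine ⟨h𝒮, ?_⟩
  intro U R hR
  haveI : (Stk.restr (Stk.sieveIncl R) 𝒯).IsEquivalence := hst𝒯 R hR
  have H : ∀ y : FibCat.overCat U ⥤ᵇ 𝒯,
      (Stk.restr (Groth.Agent.Helper6.StkFib.ιB (Stk.sieveIncl R))
        (Groth.Agent.Helper6.StkFib.W F y)).IsEquivalence :=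
    fun y => Groth.Agent.Helper6.StkFibOver.isEquivalence_ιB_of_isStack J R hR
      (FibCat.fpFst y F).toFunctor (h3 U y)
  exact
    { faithful := Groth.Agent.Helper6.StkFib.restr_faithful_of_faithful (Stk.sieveIncl R) F
      full := Groth.Agent.Helper6.StkFib.restr_full_of_fib (Stk.sieveIncl R) F hfg𝒯
        (fun y => (H y).full)
      essSurj := Groth.Agent.Helper6.StkFib.restr_essSurj_of_fib (Stk.sieveIncl R) F
        (fun y => (H y).essSurj) }

end Groth.Agent.S12809
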