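import Groth.Statements.S12811
import Mathlib
import Groth.Agent.Helper6.StkFp
import Groth.Agent.Helper3.FibGrpd

set_option autoImplicit false
open CategoryTheory
universe v u
open Stk

namespace Groth.Agent.S12811

theorem isFibSetoid_fp {C : Type u} [Category.{v} C] {𝒳 𝒴 𝒮 : BasedCategory.{v, max u v} C}
    (F : 𝒳 ⥤ᵇ 𝒮) (G : 𝒴 ⥤ᵇ 𝒮) (h𝒳 : FibCat.IsFibSetoid 𝒳.p) (h𝒴 : FibCat.IsFibSetoid 𝒴.p)
    (h𝒮 : FibCat.IsFibGrpd 𝒮.p) : FibCat.IsFibSetoid (FibCat.fp F G).p := by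
  refine ⟨Groth.Agent.Helper6.FpTools.isFibGrpd_fp F G h𝒳.1 h𝒴.1 h𝒮, fun U a b => ⟨fun k k' => ?_⟩⟩
  apply Functor.Fiber.hom_ext
  have hk : (FibCat.fp F G).p.IsHomLift (𝟙 U) k.1 := k.2
  have hk' : (FibCat.fp F G).p.IsHomLift (𝟙 U) k'.1 := k'.2
  have l1 := Groth.Agent.Helper3.Fp.fst_isHomLift F G (𝟙 U) k.1 hk
  have l2 := Groth.Agent.Helper3.Fp.fst_isHomLift F G (𝟙 U) k'.1 hk'
  have l3 := Groth.Agent.Helper3.Fp.snd_isHomLift F G (𝟙 U) k.1 hk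
  have l4 := Groth.Agent.Helper3.Fp.snd_isHomLift F G (𝟙 U) k'.1 hk'
  change k.1 = k'.1
  apply Groth.Agent.Helper6.FpTools.fp_hom_ext
  · exact @Groth.Agent.Helper3.FibGrpd.hom_ext_of_isFibSetoid _ _ _ _ _ h𝒳 _ _ (𝟙 U) _ _ _ _ l1 l2
  · exact @Groth.Agent.Helper3.FibGrpd.hom_ext_of_isFibSetoid _ _ _ _ _ h𝒴 _ _ (𝟙 U) _ _ _ _ l3 l4

/-- For stacks in setoids `𝒳`, `𝒴`, `𝒮` over `C` for the topology `J` (stacks in groupoids that are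
fibred in setoids) and functors `F : 𝒳 ⟶ 𝒮`, `G : 𝒴 ⟶ 𝒮` over `C`, the 2-fibre product `𝒳 ×_𝒮 𝒴`
over `C` is again a stack in setoids for `J`. -/
theorem result {C : Type u} [Category.{v} C] (J : GrothendieckTopology C) {𝒳 𝒴 𝒮 : BasedCategory.{v, max u v} C}
    (F : 𝒳 ⥤ᵇ 𝒮) (G : 𝒴 ⥤ᵇ 𝒮) (h𝒳 : Stk.IsStack J 𝒳 ∧ FibCat.IsFibSetoid 𝒳.p) (h𝒴 : Stk.IsStack J 𝒴 ∧ FibCat.IsFibSetoid 𝒴.p)
    (h𝒮 : Stk.IsStack J 𝒮 ∧ FibCat.IsFibSetoid 𝒮.p) :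
    Stk.IsStack J (FibCat.fp F G) ∧ FibCat.IsFibSetoid (FibCat.fp F G).p := by
  refine ⟨?_, isFibSetoid_fp F G h𝒳.2 h𝒴.2 h𝒮.1.1⟩
  refine ⟨Groth.Agent.Helper6.FpTools.isFibGrpd_fp F G h𝒳.1.1 h𝒴.1.1 h𝒮.1.1, fun U R hR => ?_⟩
  haveI : (Stk.restr (Stk.sieveIncl R) 𝒳).IsEquivalence := h𝒳.1.2 R hR
  haveI : (Stk.restr (Stk.sieveIncl R) 𝒴).IsEquivalence := h𝒴.1.2 R hR
  haveI : (Stk.restr (Stk.sieveIncl R) 𝒮).IsEquivalence := h𝒮.1.2 R hR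
  exact Groth.Agent.Helper6.StkFp.restr_fp_isEquivalence (Stk.sieveIncl R) F G

end Groth.Agent.S12811
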