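import Groth.Statements.S12844
import Groth.Agent.Helper6.Descent2
import Groth.Agent.Helper6.AlgStBC
import Groth.Agent.Helper6.RepComp

set_option autoImplicit false
open CategoryTheory AlgebraicGeometry
universe u
open AlgSt

namespace Groth.Agent.S12844

/-- Let `P` be a property of morphisms of algebraic spaces over `S` which is stable under base change
and fppf local on the base, `f : 𝒳 ⟶ 𝒴` a 1-morphism of algebraic stacks over `S` representable by
algebraic spaces, `W` an algebraic space and `w : W ⟶ 𝒴` surjective, flat and locally of finite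
presentation. Then `f` has `P` if and only if the projection `V = W ×_𝒴 𝒳 ⟶ W` has `P`; here `V ⟶ W`
is named by an algebraic space `V`, a morphism `a : V ⟶ W` and an equivalence over `(Sch/S)` from
the category of `V` to the 2-fibre product whose composite with the first projection is 2-isomorphic
to the functor of `a`. (Stability under base change is asked for every pullback square of fppf
sheaves whose four corners are algebraic spaces.) -/
theorem result {S : Scheme.{u}} {𝒳 𝒴 : AlgSt.Cat S}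
    (h𝒳 : AlgSt.IsAlgStack Scheme.fppfPrecoverage 𝒳) (h𝒴 : AlgSt.IsAlgStack Scheme.fppfPrecoverage 𝒴)
    (P : MorphismProperty (AlgSp.Sp S))
    (hPb : ∀ ⦃X₁ Y₁ X₂ Y₂ : AlgSp.Sp S⦄, AlgSp.IsAlgSpace X₁ → AlgSp.IsAlgSpace Y₁ → AlgSp.IsAlgSpace X₂ →
      AlgSp.IsAlgSpace Y₂ → ∀ (a : X₁ ⟶ Y₁) (b : Y₂ ⟶ Y₁) (a' : X₂ ⟶ Y₂) (b' : X₂ ⟶ X₁),
      IsPullback b' a' a b → P a → P a')
    (hP : AlgSp.IsLocalOnBase AlgSp.IsFppfCover P)
    (f : 𝒳 ⥤ᵇ 𝒴) (hf : AlgSt.RepByAlgSp1 f) (W : AlgSp.Space S) (w : AlgSt.ofSp W.obj ⥤ᵇ 𝒴)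
    (hw₁ : AlgSt.RepByAlgSpWith (AlgSp.LocP @Flat) w)
    (hw₂ : AlgSt.RepByAlgSpWith (AlgSp.LocP @LocallyOfFinitePresentation) w)
    (hw₃ : AlgSt.RepByAlgSpWith AlgSp.IsSurjectiveMor w) :
    AlgSt.RepByAlgSpWith P f ↔
      ∃ (V : AlgSp.Space S) (a : V ⟶ W) (e : AlgSt.ofSp V.obj ⥤ᵇ FibCat.fp w f),
        FibCat.IsEquivOver e ∧
          Nonempty (BasedFunctor.comp e (FibCat.fpFst w f) ≅ AlgSt.ofSpMap a.hom) ∧ P a.hom := by
  constructor
  · intro h
    obtain ⟨F, e, a, he, ⟨i⟩, hPa⟩ := Groth.Agent.Helper6.RepComp.exists_space_of_rep P hP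
      h𝒳.isStack.1 h𝒴.isStack.1 f h W w
    exact ⟨F, ObjectProperty.homMk a, e, he, ⟨i⟩, hPa⟩
  · rintro ⟨V, a, e, he, ⟨i⟩, hPa⟩
    have h1 : AlgSp.RepBySpWith P a.hom.hom := by
      rw [AlgSp.repBySpWith_hom_iff]
      intro U ξ F' fst snd sq
      have hF' : AlgSp.IsAlgSpace F' :=
        Groth.Agent.Helper4.AlgSpPB.isAlgSpace_of_isPullback W.property.diag V.property
          (AlgSp.IsAlgSpace.yon_obj U) a.hom ξ fst snd sq
      exact ⟨hF', hPb V.property W.property hF' (AlgSp.IsAlgSpace.yon_obj U) a.hom ξ snd fst sq hPa⟩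
    have h2 : AlgSt.RepByAlgSpWith P (AlgSt.ofSpMap a.hom) :=
      Groth.Agent.Helper6.AlgStPsh.repByAlgSpWith_of_repBySpWith _ P h1
    have h3 : AlgSt.RepByAlgSpWith P (FibCat.fpFst w f) :=
      Groth.Agent.Helper6.AlgStInv.repByAlgSpWith_of_square' P (FibCat.fpFst w f)
        (AlgSt.ofSpMap a.hom) e (BasedFunctor.id _) he
        (Groth.Agent.Helper6.FpTools.isEquivOver_id _) i.symm h2
    exact Groth.Agent.Helper6.Descent1.descend P hP f hf w
      (Groth.Agent.Helper6.Descent2.local_lift w hw₁ hw₂ hw₃) h3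

end Groth.Agent.S12844
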