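import Groth.Statements.S12845
import Groth.Agent.Helper6.RepComp
import Groth.Agent.Helper6.FpCospan
import Groth.Agent.Helper6.AlgStPsh
import Groth.Agent.Helper6.AlgStEquiv

set_option autoImplicit false
open CategoryTheory AlgebraicGeometry
universe u
open AlgSt

namespace Groth.Agent.S12845

open Groth.Agent.Helper3 Groth.Agent.Helper6.FpTools Groth.Agent.Helper6.AlgStRep Groth.Agent.Helper6.AlgStEquiv Groth.Agent.Helper6.AlgStPsh FibCat in
theorem aux {S : Scheme.{u}} {𝒳 𝒴 : AlgSt.Cat S}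
    (h𝒳 : FibCat.IsFibGrpd 𝒳.p) (h𝒴 : FibCat.IsFibGrpd 𝒴.p)
    (P : MorphismProperty (AlgSp.Sp S))
    (hP : AlgSp.IsLocalOnBase AlgSp.IsFppfCover P)
    (f : 𝒳 ⥤ᵇ 𝒴) :
    AlgSt.RepByAlgSpWith P f ↔
      ∀ (Z : AlgSp.Space S) (z : AlgSt.ofSp Z.obj ⥤ᵇ 𝒴),
        ∃ (V : AlgSp.Space S) (a : V ⟶ Z) (e : AlgSt.ofSp V.obj ⥤ᵇ FibCat.fp z f),
          FibCat.IsEquivOver e ∧
            Nonempty (BasedFunctor.comp e (FibCat.fpFst z f) ≅ AlgSt.ofSpMap a.hom) ∧ P a.hom := by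
  constructor
  · intro hf Z z
    obtain ⟨F, e, a, he, hi, hPa⟩ := Groth.Agent.Helper6.RepComp.exists_space_of_rep P hP h𝒳 h𝒴 f hf Z z
    exact ⟨F, ObjectProperty.homMk a, e, he, hi, hPa⟩
  · intro h U y
    let Z : AlgSp.Space S := ⟨(AlgSp.yon S).obj U, AlgSp.IsAlgSpace.yon_obj U⟩
    let z : AlgSt.ofSp Z.obj ⥤ᵇ 𝒴 := BasedFunctor.comp (AlgSt.toOverCat U) y
    obtain ⟨V, a, e, he, ⟨i⟩, hPa⟩ := h Z z
    have θ : BasedFunctor.comp z (BasedFunctor.id 𝒴) ≅ BasedFunctor.comp (AlgSt.toOverCat U) y :=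
      Iso.refl _
    have η : BasedFunctor.comp f (BasedFunctor.id 𝒴) ≅ BasedFunctor.comp (BasedFunctor.id 𝒳) f :=
      Iso.refl _
    refine ⟨V, BasedFunctor.comp e
      (cospanFunctor y f z f (AlgSt.toOverCat U) (BasedFunctor.id _) (BasedFunctor.id _) θ η),
      isEquivOver_comp he (isEquivOver_cospanFunctor _ _ _ _ _ _ _ θ η (isEquivOver_toOverCat U)
        (isEquivOver_id _) (isEquivOver_id _)), ?_⟩
    have h1 : AlgSt.spMapOfOver (BasedFunctor.comp (BasedFunctor.comp e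
        (cospanFunctor y f z f (AlgSt.toOverCat U) (BasedFunctor.id _) (BasedFunctor.id _) θ η))
        (fpFst y f)) = a.hom := by
      rw [← spMapOfOver_ofSpMap_toOverCat (U := U) a.hom]
      exact spMapOfOver_congr (whiskerRightIso' i (AlgSt.toOverCat U))
    rw [h1]
    exact hPa

/-- Let `P` be a property of morphisms of algebraic spaces over `S` which is stable under base change
and fppf local on the base, and `f : 𝒳 ⟶ 𝒴` a 1-morphism of algebraic stacks over `S` representable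
by algebraic spaces. Then `f` has `P` (a condition on its base changes to schemes) if and only if
for every algebraic space `Z` and every `z : Z ⟶ 𝒴` the projection `Z ×_𝒴 𝒳 ⟶ Z` has `P`, the
projection being named by an algebraic space `V`, a morphism `a : V ⟶ Z` and an equivalence over
`(Sch/S)` from the category of `V` to the 2-fibre product whose composite with the first projection
is 2-isomorphic to the functor of `a`. (Stability under base change is asked for every pullback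
square of fppf sheaves whose four corners are algebraic spaces.) -/
theorem result {S : Scheme.{u}} {𝒳 𝒴 : AlgSt.Cat S}
    (h𝒳 : AlgSt.IsAlgStack Scheme.fppfPrecoverage 𝒳) (h𝒴 : AlgSt.IsAlgStack Scheme.fppfPrecoverage 𝒴)
    (P : MorphismProperty (AlgSp.Sp S))
    (hPb : ∀ ⦃X₁ Y₁ X₂ Y₂ : AlgSp.Sp S⦄, AlgSp.IsAlgSpace X₁ → AlgSp.IsAlgSpace Y₁ → AlgSp.IsAlgSpace X₂ →
      AlgSp.IsAlgSpace Y₂ → ∀ (a : X₁ ⟶ Y₁) (b : Y₂ ⟶ Y₁) (a' : X₂ ⟶ Y₂) (b' : X₂ ⟶ X₁),
      IsPullback b' a' a b → P a → P a')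
    (hP : AlgSp.IsLocalOnBase AlgSp.IsFppfCover P)
    (f : 𝒳 ⥤ᵇ 𝒴) (hf : AlgSt.RepByAlgSp1 f) :
    AlgSt.RepByAlgSpWith P f ↔
      ∀ (Z : AlgSp.Space S) (z : AlgSt.ofSp Z.obj ⥤ᵇ 𝒴),
        ∃ (V : AlgSp.Space S) (a : V ⟶ Z) (e : AlgSt.ofSp V.obj ⥤ᵇ FibCat.fp z f),
          FibCat.IsEquivOver e ∧
            Nonempty (BasedFunctor.comp e (FibCat.fpFst z f) ≅ AlgSt.ofSpMap a.hom) ∧ P a.hom := by
  exact aux h𝒳.isStack.1 h𝒴.isStack.1 P hP f

end Groth.Agent.S12845
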