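import Groth.Statements.S12868
import Mathlib
import Groth.Agent.S9928

set_option autoImplicit false
open CategoryTheory AlgebraicGeometry
universe u
open AlgSt

namespace Groth.Agent.S12868

/-- An immersion `f : 𝒳 ⟶ 𝒴` (representable by algebraic spaces, with every base change to a scheme a
representable immersion) is a monomorphism. (The published statement is about algebraic stacks; this
row holds for arbitrary categories over `(Sch/S)`.) -/
theorem result {S : Scheme.{u}} {𝒳 𝒴 : AlgSt.Cat S} (f : 𝒳 ⥤ᵇ 𝒴)
    (hf : AlgSt.IsImm f) : AlgSt.IsMono f := by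
  intro U y
  obtain ⟨F, e, he, hP⟩ := hf U y
  refine ⟨F, e, he, ?_⟩
  let Y : AlgSp.Space S := ⟨(AlgSp.yon S).obj U, AlgSp.IsAlgSpace.yon_obj U⟩
  let φ : F ⟶ Y := ObjectProperty.homMk
    (AlgSt.spMapOfOver (BasedFunctor.comp e (FibCat.fpFst y f)))
  exact Groth.Agent.S9928.result φ hP

end Groth.Agent.S12868
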