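import Groth.Statements.S12905
import Groth.Agent.Helper1.RegMono

set_option autoImplicit false
universe u
open CategoryTheory CategoryTheory.Limits AlgebraicGeometry
open Variety

namespace Groth.Agent.S12905

/-- Let k be a field and φ : F' → F a monomorphism of coherent modules on P^n_k whose cokernel has
support of Krull dimension at most zero (a finite set of closed points, possibly empty). If F' is
m-regular then F is m-regular. (The published statement is the case of an ideal sheaf contained in
the ideal sheaf of a curve with quotient supported at finitely many points, phrased as an inequality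
of regularities; the argument gives the form stated here.) -/
theorem result (k : Type u) [Field k] (n : ℕ)
    (F' F : (CohB1.ProjSpace n k).Modules) (hF' : Coh.IsCoh F') (hF : Coh.IsCoh F) (φ : F' ⟶ F) [Mono φ]
    (hsupp : topologicalKrullDim (CohB1.support (cokernel φ)) ≤ 0) (m : ℤ)
    (h : Curv2.IsMRegular k n F' m) : Curv2.IsMRegular k n F m := by
  intro i hi1 hin
  open CategoryTheory CategoryTheory.Limits in
  let S : ShortComplex (CohB1.ProjSpace n k).Modules :=
    ShortComplex.mk φ (cokernel.π φ) (cokernel.condition φ)
  have hS : S.ShortExact := CategoryTheory.ShortComplex.ShortExact.mk'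
    (CategoryTheory.ShortComplex.exact_of_g_is_cokernel _ (CategoryTheory.Limits.cokernelIsCokernel φ))
    (inferInstanceAs (CategoryTheory.Mono φ))
    (inferInstanceAs (CategoryTheory.Epi (CategoryTheory.Limits.cokernel.π φ)))
  have hB := Groth.Agent.Helper1.SerreVan.isInvertible_twist n k (m - i)
  have hS' := Groth.Agent.Helper1.TwistExact.shortExact_map_tensorRightMod hS _ hB
  have hex := Groth.Agent.Helper1.HHLes.exact_f_g k _ hS' i
  haveI : IsNoetherianRing (MvPolynomial (Fin (n + 1)) k) := inferInstance
  haveI : AlgebraicGeometry.IsNoetherian (CohB1.ProjSpace n k) :=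
    Groth.Agent.Helper3.ProjNoeth.main (CohB1.polyGrading n k)
  have hQ : Coh.IsCoh (CategoryTheory.Limits.cokernel φ) :=
    Groth.Agent.Lead.PerfLib.isCoh_cokernel hF' hF φ
  haveI h1 : Subsingleton (Coh.HH (CohB1.ProjSpace n k)
      (S.map (DCoh.tensorRightMod (Twist.twistProjSpace n k (m - i)))).X₁ i) := h i hi1 hin
  haveI h3 : Subsingleton (Coh.HH (CohB1.ProjSpace n k)
      (S.map (DCoh.tensorRightMod (Twist.twistProjSpace n k (m - i)))).X₃ i) :=
    Groth.Agent.Helper1.RegMono.subsingleton_HH_twist_of_dim_le_zero n k _ hQ hsupp (m - i) i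
      (by omega)
  have h0 : ∀ x : Coh.HH (CohB1.ProjSpace n k)
      (S.map (DCoh.tensorRightMod (Twist.twistProjSpace n k (m - i)))).X₂ i, x = 0 := by
    intro x
    obtain ⟨y, rfl⟩ := (hex x).1 (Subsingleton.elim _ _)
    rw [Subsingleton.elim y 0, map_zero]
  exact ⟨fun x y => (h0 x).trans (h0 y).symm⟩

end Groth.Agent.S12905
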