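import Groth.Statements.S12906
import Mathlib.Tactic

set_option autoImplicit false
universe u
open CAlgX

namespace Groth.Agent.S12906

theorem result {R : Type u} [CommRing R] (t : ℕ)
    (Φ : Matrix (Fin (t + 1)) (Fin t) R) (j : Fin t) :
    ∑ i : Fin (t + 1), (-1 : R) ^ (i : ℕ) * (Φ.submatrix i.succAbove id).det * Φ i j = 0 := by
  let A : Matrix (Fin (t + 1)) (Fin (t + 1)) R :=
    Matrix.of fun i c => Fin.cases (Φ i j) (fun c' => Φ i c') c
  have hdet : A.det = 0 := by
    apply Matrix.det_zero_of_column_eq (i := 0) (j := j.succ) (Fin.succ_ne_zero j).symm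
    intro i
    simp [A]
  rw [Matrix.det_succ_column_zero] at hdet
  rw [← hdet]
  refine Finset.sum_congr rfl fun i _ => ?_
  have h1 : A.submatrix i.succAbove Fin.succ = Φ.submatrix i.succAbove id := by
    ext a b
    simp [A]
  have h2 : A i 0 = Φ i j := by simp [A]
  rw [h1, h2]
  ring

end Groth.Agent.S12906
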