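import Groth.Statements.S12915
import Mathlib
import Groth.Agent.Helper6.HomogRank

set_option autoImplicit false
universe u
open CAlgX

namespace Groth.Agent.S12915

open MvPolynomial in
theorem hc_mul {k : Type u} [Field k] {σ : Type*} {m : ℕ} (f : MvPolynomial σ k)
    (hf : f.IsHomogeneous m) (q : MvPolynomial σ k) (t : ℕ) (ht : m ≤ t) :
    homogeneousComponent t (f * q) = f * homogeneousComponent (t - m) q := by
  classical
  conv_lhs => rw [← sum_homogeneousComponent q, Finset.mul_sum, map_sum]
  rw [Finset.sum_eq_single (t - m)]
  · have h1 : (f * homogeneousComponent (t - m) q).IsHomogeneous t := by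
      have := hf.mul (homogeneousComponent_isHomogeneous (t - m) q)
      rwa [Nat.add_sub_cancel' ht] at this
    exact homogeneousComponent_eq_self h1
  · intro j _ hj
    have h1 : (f * homogeneousComponent j q).IsHomogeneous (m + j) :=
      hf.mul (homogeneousComponent_isHomogeneous j q)
    rw [homogeneousComponent_of_mem h1, if_neg]
    omega
  · intro h
    rw [Finset.mem_range, not_lt] at h
    have : homogeneousComponent (t - m) q = 0 := homogeneousComponent_eq_zero _ _ (by omega)
    rw [this, mul_zero, map_zero]

/-- Let k be a field, S = k[x_0, …, x_r], and f a nonzero homogeneous polynomial of degree m. For every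
t ≥ m the image in S/(f) of the homogeneous polynomials of degree t is a k-vector space of dimension
C(t + r, r) - C(t + r - m, r). (The published clause states that the hypersurface f = 0 in P^r has
degree m; its proof computes exactly this Hilbert function, whose polynomial has leading term m
t^(r-1)/(r-1)!, and that computation is what is stated here.) -/
theorem result (k : Type u) [Field k] (r m : ℕ)
    (f : MvPolynomial (Fin (r + 1)) k) (hf : f.IsHomogeneous m) (hf0 : f ≠ 0) (t : ℕ) (ht : m ≤ t) :
    Module.finrank k
        (Submodule.map ((Ideal.Quotient.mkₐ k (Ideal.span {f})).toLinearMap)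
          (MvPolynomial.homogeneousSubmodule (Fin (r + 1)) k t)) =
      Nat.choose (t + r) r - Nat.choose (t + r - m) r := by
  classical
  open MvPolynomial in
  set St := homogeneousSubmodule (Fin (r + 1)) k t with hSt
  set Sm := homogeneousSubmodule (Fin (r + 1)) k (t - m) with hSm
  let g : MvPolynomial (Fin (r + 1)) k →ₗ[k] (MvPolynomial (Fin (r + 1)) k ⧸ Ideal.span {f}) :=
    (Ideal.Quotient.mkₐ k (Ideal.span {f})).toLinearMap
  let L : St →ₗ[k] (MvPolynomial (Fin (r + 1)) k ⧸ Ideal.span {f}) := g.comp St.subtype
  have hmap : Submodule.map g St = LinearMap.range L := by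
    rw [LinearMap.range_comp, Submodule.range_subtype]
  -- ν : Sm → St, multiplication by f
  let ν : Sm →ₗ[k] St :=
    { toFun := fun q => ⟨f * q.1, by
        have := hf.mul q.2
        rwa [Nat.add_sub_cancel' ht] at this⟩
      map_add' := by intro a b; apply Subtype.ext; simp [mul_add]
      map_smul' := by intro c a; apply Subtype.ext; simp }
  have hνinj : Function.Injective ν := by
    intro a b hab
    have h1 : f * a.1 = f * b.1 := congrArg Subtype.val hab
    exact Subtype.ext (mul_left_cancel₀ hf0 h1)
  have hker : LinearMap.ker L = LinearMap.range ν := by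
    ext h
    rw [LinearMap.mem_ker, LinearMap.mem_range]
    constructor
    · intro hh
      have h1 : (h : MvPolynomial (Fin (r + 1)) k) ∈ Ideal.span {f} :=
        Ideal.Quotient.eq_zero_iff_mem.mp hh
      obtain ⟨q, hq⟩ := Ideal.mem_span_singleton'.mp h1
      refine ⟨⟨homogeneousComponent (t - m) q, homogeneousComponent_isHomogeneous _ _⟩, ?_⟩
      apply Subtype.ext
      change f * homogeneousComponent (t - m) q = h
      rw [← hc_mul f hf q t ht, mul_comm, hq]
      exact homogeneousComponent_eq_self h.2
    · rintro ⟨q, rfl⟩
      change Ideal.Quotient.mk (Ideal.span {f}) (f * q.1) = 0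
      rw [Ideal.Quotient.eq_zero_iff_mem]
      exact Ideal.mul_mem_right _ _ (Ideal.subset_span rfl)
  haveI : Module.Finite k St := Module.Finite.iff_fg.mpr (homogeneousSubmodule_fg _ _ t)
  have hrn := LinearMap.finrank_range_add_finrank_ker L
  rw [hker, LinearMap.finrank_range_of_inj hνinj] at hrn
  rw [hmap]
  have e1 : Module.finrank k St = Nat.choose (t + r) r :=
    Groth.Agent.Helper6.HomogRank.finrank_homogeneousSubmodule k r t
  have e2 : Module.finrank k Sm = Nat.choose (t + r - m) r := by
    have := Groth.Agent.Helper6.HomogRank.finrank_homogeneousSubmodule k r (t - m)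
    rw [show t - m + r = t + r - m by omega] at this
    exact this
  rw [e1, e2] at hrn
  omega

end Groth.Agent.S12915
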