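import Groth.Statements.S12918
import Mathlib
import Groth.Agent.Helper6.HopfInt

set_option autoImplicit false
universe u v w
open HopfRep

namespace Groth.Agent.S12918

/-- Let `k` be a commutative ring, `A` a commutative Hopf algebra over `k`, flat as a `k`-module and `B`
a commutative `k`-algebra with a coaction `ρ : B → B ⊗ A` that is an algebra map (an action of the
affine group scheme `Spec A` on `Spec B`). Then the action admits a total integral — a comodule map
`α : A → B`, for the regular coaction on `A`, with `α 1 = 1` — if and only if `ρ` has a left inverse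
`B ⊗ A → B` which is a comodule map for the coaction `id ⊗ Δ` on `B ⊗ A`. -/
theorem result
    (k : Type u) [CommRing k] (A : Type v) [CommRing A] [HopfAlgebra k A] [Module.Flat k A]
    (B : Type w) [CommRing B] [Algebra k B] [HopfRep.Comod k A B] [GLin.IsCoactAlg k A B] :
    (∃ α : A →ₗ[k] B, Hoch.IsComodHom A α ∧ α 1 = 1) ↔
      ∃ lam : Hoch.Ind k A B →ₗ[k] B, Hoch.IsComodHom A lam ∧ lam ∘ₗ Hoch.toInd k A B = LinearMap.id := by
  constructor
  · rintro ⟨α, hα, hα1⟩
    refine ⟨Groth.Agent.Helper6.HopfInt.lam α ∘ₗ (Hoch.Ind.equiv k A B).symm.toLinearMap, ?_, ?_⟩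
    · exact Groth.Agent.Helper6.HopfInt.lam_isComodHom α hα
    · ext b
      exact Groth.Agent.Helper6.HopfInt.lam_coact α hα1 b
  · rintro ⟨lam, hlam, hret⟩
    unfold Hoch.IsComodHom at hlam
    let lam' : TensorProduct k B A →ₗ[k] B := lam
    have hlam' : ∀ z : TensorProduct k B A, HopfRep.Comod.coact (k := k) (A := A) (lam' z) =
        lam'.rTensor A (Hoch.Ind.coactAux k A B z) := fun z => LinearMap.congr_fun hlam z
    have hret' : ∀ b : B, lam' (HopfRep.Comod.coact (k := k) (A := A) b) = b :=
      fun b => LinearMap.congr_fun hret b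
    let α : A →ₗ[k] B := lam' ∘ₗ TensorProduct.mk k B A 1
    have hαa : ∀ a, α a = lam' ((1 : B) ⊗ₜ[k] a) := fun a => rfl
    refine ⟨α, ?_, ?_⟩
    · unfold Hoch.IsComodHom
      ext a
      simp only [LinearMap.comp_apply]
      rw [hαa, hlam', Hoch.Ind.coactAux_tmul]
      show _ = α.rTensor A (Coalgebra.comul (R := k) a)
      generalize (Coalgebra.comul (R := k) a : TensorProduct k A A) = w
      induction w using TensorProduct.induction_on with
      | zero => simp
      | add x y hx hy => simp only [TensorProduct.tmul_add, map_add, hx, hy]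
      | tmul x y => simp [hαa]
    · rw [hαa]
      have := hret' 1
      rw [GLin.IsCoactAlg.coact_one (k := k) (A := A) (R := B), Algebra.TensorProduct.one_def] at this
      exact this

end Groth.Agent.S12918
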