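import Groth.Statements.S12921
import Mathlib
import Groth.Agent.Helper6.HopfRey

set_option autoImplicit false
universe u v w
open HopfRep

namespace Groth.Agent.S12921

/-- Let `k` be a commutative ring, `A` a commutative Hopf algebra over `k`, flat as a `k`-module, `B` a
commutative `k`-algebra with a coaction of `A` that is an algebra map and admits a total integral (a
comodule map `α : A → B` with `α 1 = 1`), and `C = B^A` the subring of invariants. Then for every
ideal `c` of `C` one has `cB ∩ C = c`. (The published statement assumes only that taking invariants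
is exact on `(B, A)`-modules; a total integral, assumed here, gives that exactness.) -/
theorem result
    (k : Type u) [CommRing k] (A : Type v) [CommRing A] [HopfAlgebra k A] [Module.Flat k A]
    (B : Type w) [CommRing B] [Algebra k B] [HopfRep.Comod k A B] [GLin.IsCoactAlg k A B]
    (htame : ∃ α : A →ₗ[k] B, Hoch.IsComodHom A α ∧ α 1 = 1)
    (c : Ideal (GLin.invariants k A B)) :
    (c.map (algebraMap (GLin.invariants k A B) B)).comap (algebraMap (GLin.invariants k A B) B) = c := by
  obtain ⟨α, hα, hα1⟩ := htame
  -- B is a (B, A)-Hopf module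
  have hmul : ∀ x y : TensorProduct k B A, TameAct.hmSMul k A B B x y = x * y := by
    intro x y
    induction x using TensorProduct.induction_on with
    | zero => simp
    | add x₁ x₂ h₁ h₂ => simp only [map_add, LinearMap.add_apply, add_mul, h₁, h₂]
    | tmul b a =>
      induction y using TensorProduct.induction_on with
      | zero => simp
      | add y₁ y₂ h₁ h₂ => simp only [map_add, mul_add, h₁, h₂]
      | tmul m a' =>
        rw [TameAct.hmSMul_tmul, Algebra.TensorProduct.tmul_mul_tmul, smul_eq_mul]
  haveI : TameAct.IsHopfMod k A B B := ⟨fun b m => by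
    rw [smul_eq_mul, GLin.IsCoactAlg.coact_mul (k := k) (A := A), hmul]⟩
  let E : B →ₗ[k] B := TameAct.reynolds k A B B α
  apply le_antisymm _ Ideal.le_comap_map
  intro x hx
  rw [Ideal.mem_comap] at hx
  -- stronger induction statement
  have key : ∀ y ∈ Ideal.map (algebraMap (GLin.invariants k A B) B) c,
      ∀ b : B, ∃ c' ∈ c, algebraMap (GLin.invariants k A B) B c' = E (b * y) := by
    intro y hy
    unfold Ideal.map at hy
    induction hy using Submodule.span_induction with
    | mem y hy =>
      obtain ⟨c₀, hc₀, rfl⟩ := hy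
      intro b
      have hEb : E b ∈ GLin.invariants k A B :=
        Groth.Agent.Helper6.HopfRey.coact_reynolds α hα b
      refine ⟨c₀ * ⟨E b, hEb⟩, Ideal.mul_mem_right _ _ hc₀, ?_⟩
      have : E (b * algebraMap (GLin.invariants k A B) B c₀) =
          algebraMap (GLin.invariants k A B) B c₀ * E b := by
        rw [mul_comm b]
        exact Groth.Agent.Helper6.HopfRey.reynolds_smul_of_coact_eq α _ c₀.2 b
      rw [this, map_mul]
      rfl
    | zero => intro b; exact ⟨0, c.zero_mem, by simp⟩
    | add y₁ y₂ _ _ h₁ h₂ =>
      intro b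
      obtain ⟨c₁, hc₁, e₁⟩ := h₁ b
      obtain ⟨c₂, hc₂, e₂⟩ := h₂ b
      exact ⟨c₁ + c₂, c.add_mem hc₁ hc₂, by rw [map_add, e₁, e₂, mul_add, map_add]⟩
    | smul r y _ h =>
      intro b
      obtain ⟨c₁, hc₁, e₁⟩ := h (b * r)
      exact ⟨c₁, hc₁, by rw [e₁, smul_eq_mul, mul_assoc]⟩
  obtain ⟨c', hc', e⟩ := key _ hx 1
  rw [one_mul] at e
  have hxE : E (algebraMap (GLin.invariants k A B) B x) = algebraMap (GLin.invariants k A B) B x :=
    Groth.Agent.Helper6.HopfRey.reynolds_of_fixed α hα1 _ x.2
  rw [hxE] at e
  have : c' = x := Subtype.ext e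
  rw [← this]; exact hc'

end Groth.Agent.S12921
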