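import Groth.Statements.S12929
import Mathlib
import Groth.Agent.Helper6.HopfSw

set_option autoImplicit false
universe u v w w'
open HopfRep

namespace Groth.Agent.S12929

/-- Let `k` be a commutative ring, `A` a commutative Hopf algebra over `k`, `M` a right `A`-comodule and
`N` a `k`-module; give `N ⊗ A` the coaction `id ⊗ Δ`. Then for every `k`-linear map `h : M → N` the
composite `(h ⊗ id_A) ∘ ρ_M : M → N ⊗ A` is a comodule map, and every comodule map `f : M → N ⊗ A`
is of this form for exactly one `h` (which is `(id_N ⊗ ε) ∘ f`): comodule maps `M → N ⊗ A`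
correspond bijectively to linear maps `M → N`. -/
theorem result
    (k : Type u) [CommRing k] (A : Type v) [CommRing A] [HopfAlgebra k A]
    (M : Type w) [AddCommGroup M] [Module k M] [HopfRep.Comod k A M]
    (N : Type w') [AddCommGroup N] [Module k N] :
    (∀ h : M →ₗ[k] N, Hoch.IsComodHom A
        ((Hoch.Ind.equiv k A N).toLinearMap ∘ₗ h.rTensor A ∘ₗ HopfRep.Comod.coact (k := k) (A := A))) ∧
      ∀ f : M →ₗ[k] Hoch.Ind k A N, Hoch.IsComodHom A f →
        ∃! h : M →ₗ[k] N,
          f = (Hoch.Ind.equiv k A N).toLinearMap ∘ₗ h.rTensor A ∘ₗ HopfRep.Comod.coact (k := k) (A := A) := by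
  have key1 : ∀ (h : M →ₗ[k] N) (m : M),
      Hoch.Ind.coactAux k A N (h.rTensor A (HopfRep.Comod.coact (k := k) (A := A) m)) =
        (h.rTensor A ∘ₗ HopfRep.Comod.coact (k := k) (A := A)).rTensor A
          (HopfRep.Comod.coact (k := k) (A := A) m) := by
    intro h m
    show (TensorProduct.assoc k N A A).symm
      ((Coalgebra.comul (R := k) (A := A)).lTensor N (h.rTensor A (HopfRep.Comod.coact (k := k) (A := A) m))) = _
    rw [Groth.Agent.Helper6.HopfSw.assoc_symm_lTensor_comul_natural,
      ← Groth.Agent.Helper6.HopfSw.coassoc_apply, LinearMap.rTensor_comp]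
    rfl
  constructor
  · intro h
    unfold Hoch.IsComodHom
    ext m
    exact key1 h m
  · intro f hf
    unfold Hoch.IsComodHom at hf
    -- the counit map on plain tensor products
    let c : TensorProduct k N A →ₗ[k] N :=
      (TensorProduct.rid k N).toLinearMap ∘ₗ (Coalgebra.counit (R := k) (A := A)).lTensor N
    have hc_tmul : ∀ (n : N) (a : A), c (n ⊗ₜ[k] a) = Coalgebra.counit (R := k) a • n := by
      intro n a; simp [c]
    let f' : M →ₗ[k] TensorProduct k N A := f
    let h : M →ₗ[k] N := c ∘ₗ f'
    have hcounit : ∀ x : TensorProduct k N A,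
        (c.rTensor A) (Hoch.Ind.coactAux k A N x) = x := by
      intro x
      induction x using TensorProduct.induction_on with
      | zero => simp
      | add x y hx hy => simp only [map_add, hx, hy]
      | tmul n a =>
        rw [Hoch.Ind.coactAux_tmul]
        have h2 : ∀ y : TensorProduct k A A,
            (c.rTensor A) ((TensorProduct.assoc k N A A).symm (n ⊗ₜ[k] y)) =
              n ⊗ₜ[k] ((TensorProduct.lid k A) ((Coalgebra.counit (R := k) (A := A)).rTensor A y)) := by
          intro y
          induction y using TensorProduct.induction_on with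
          | zero => simp
          | add x y hx hy => simp only [TensorProduct.tmul_add, map_add, hx, hy]
          | tmul b d =>
            simp only [TensorProduct.assoc_symm_tmul, LinearMap.rTensor_tmul, TensorProduct.lid_tmul]
            rw [hc_tmul, TensorProduct.smul_tmul]
        rw [h2, Coalgebra.rTensor_counit_comul]
        simp
    refine ⟨h, ?_, ?_⟩
    · ext m
      have e1 : Hoch.Ind.coactAux k A N (f' m) =
          (f'.rTensor A) (HopfRep.Comod.coact (k := k) (A := A) m) := LinearMap.congr_fun hf m
      show f' m = (h.rTensor A) (HopfRep.Comod.coact (k := k) (A := A) m)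
      have e2 : (h.rTensor A) (HopfRep.Comod.coact (k := k) (A := A) m) =
          (c.rTensor A) ((f'.rTensor A) (HopfRep.Comod.coact (k := k) (A := A) m)) := by
        have : h.rTensor A = c.rTensor A ∘ₗ f'.rTensor A := LinearMap.rTensor_comp A c f'
        rw [this]; rfl
      rw [e2, ← e1]
      exact (hcounit (f' m)).symm
    · intro h' hh'
      ext m
      show h' m = c (f' m)
      have : f' m = (h'.rTensor A) (HopfRep.Comod.coact (k := k) (A := A) m) := by
        show f m = _
        rw [hh']
        rfl
      rw [this]
      have h3 : ∀ x : TensorProduct k M A, c ((h'.rTensor A) x) =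
          h' ((TensorProduct.rid k M) ((Coalgebra.counit (R := k) (A := A)).lTensor M x)) := by
        intro x
        induction x using TensorProduct.induction_on with
        | zero => simp
        | add x y hx hy => simp only [map_add, hx, hy]
        | tmul m a =>
          simp only [LinearMap.rTensor_tmul, LinearMap.lTensor_tmul, TensorProduct.rid_tmul, map_smul]
          exact hc_tmul (h' m) a
      rw [h3, Groth.Agent.Helper6.HopfSw.rid_counit_apply]

end Groth.Agent.S12929
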