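import Groth.Statements.S12930
import Mathlib
import Groth.Agent.Helper6.HopfSw

set_option autoImplicit false
universe u v w w'
open HopfRep

namespace Groth.Agent.S12930

/-- Let `k` be a commutative ring, `A` a commutative Hopf algebra over `k`, `B` a commutative
`k`-algebra with a coaction of `A` that is an algebra map, and `M` a `B`-module with a compatible
`A`-coaction. Then `f ↦ f 1` is a bijection from the `B`-linear comodule maps `B → M` onto the
invariants `M^A = {m | ρ(m) = m ⊗ 1}`: every such `f` has `f 1` invariant, and every invariant `m`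
is `f 1` for exactly one such `f` (namely `b ↦ b • m`). -/
theorem result
    (k : Type u) [CommRing k] (A : Type v) [CommRing A] [HopfAlgebra k A]
    (B : Type w) [CommRing B] [Algebra k B] [HopfRep.Comod k A B] [GLin.IsCoactAlg k A B]
    (M : Type w') [AddCommGroup M] [Module k M] [Module B M] [IsScalarTower k B M]
    [HopfRep.Comod k A M] [TameAct.IsHopfMod k A B M] :
    (∀ f : B →ₗ[B] M, Hoch.IsComodHom A (f.restrictScalars k) → f 1 ∈ HopfRep.fixedPts k A M) ∧
      ∀ m ∈ HopfRep.fixedPts k A M,
        ∃! f : B →ₗ[B] M, Hoch.IsComodHom A (f.restrictScalars k) ∧ f 1 = m := by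
  constructor
  · intro f hf
    unfold Hoch.IsComodHom at hf
    have := LinearMap.congr_fun hf 1
    simp only [LinearMap.comp_apply] at this
    show HopfRep.Comod.coact (k := k) (A := A) (f 1) = f 1 ⊗ₜ[k] (1 : A)
    have e : HopfRep.Comod.coact (k := k) (A := A) (f 1) =
        ((f.restrictScalars k).rTensor A) (HopfRep.Comod.coact (k := k) (A := A) (1 : B)) := this
    rw [e, GLin.IsCoactAlg.coact_one (k := k) (A := A) (R := B), Algebra.TensorProduct.one_def,
      LinearMap.rTensor_tmul]
    rfl
  · intro m hm
    have hm' : HopfRep.Comod.coact (k := k) (A := A) m = m ⊗ₜ[k] (1 : A) := hm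
    let f : B →ₗ[B] M := LinearMap.toSpanSingleton B M m
    have hf1 : f 1 = m := by simp [f]
    refine ⟨f, ⟨?_, hf1⟩, ?_⟩
    · unfold Hoch.IsComodHom
      ext b
      simp only [LinearMap.comp_apply]
      show HopfRep.Comod.coact (k := k) (A := A) (b • m) =
        ((f.restrictScalars k).rTensor A) (HopfRep.Comod.coact (k := k) (A := A) b)
      rw [TameAct.IsHopfMod.coact_smul (k := k) (A := A) (B := B) (M := M), hm']
      generalize (HopfRep.Comod.coact (k := k) (A := A) b : TensorProduct k B A) = x
      induction x using TensorProduct.induction_on with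
      | zero => simp
      | add x y hx hy => simp only [map_add, LinearMap.add_apply, hx, hy]
      | tmul b' a =>
        rw [TameAct.hmSMul_tmul, mul_one, LinearMap.rTensor_tmul]
        rfl
    · rintro g ⟨-, hg1⟩
      ext
      simp [f, hg1]

end Groth.Agent.S12930
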