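import Groth.Statements.S12931
import Mathlib.Algebra.BigOperators.Pi

set_option autoImplicit false
universe u v w
open HopfRep

namespace Groth.Agent.S12931

theorem result
    (R : Type u) [CommRing R] (Γ : Type v) [Finite Γ]
    (T : Type w) [CommRing T] [Algebra R T] [Nontrivial T]
    (hT : ∀ e : T, IsIdempotentElem e → e = 0 ∨ e = 1) :
    Function.Bijective (fun γ : Γ => (Algebra.ofId R T).comp (Pi.evalAlgHom R (fun _ : Γ => R) γ)) := by
  classical
  have : Fintype Γ := Fintype.ofFinite Γ
  constructor
  · intro γ γ' h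
    by_contra hne
    have h1 := DFunLike.congr_fun h (Pi.single γ (1 : R))
    simp [Algebra.ofId_apply, hne] at h1
  · intro φ
    have hidem : ∀ γ : Γ, IsIdempotentElem (φ (Pi.single γ (1 : R))) := by
      intro γ
      unfold IsIdempotentElem
      rw [← map_mul, ← Pi.single_mul, mul_one]
    have hone : ∑ γ : Γ, (Pi.single γ (1 : R) : Γ → R) = 1 := by
      funext x
      simp [Finset.sum_apply, Pi.single_apply]
    have hsum : ∑ γ : Γ, φ (Pi.single γ (1 : R)) = 1 := by
      rw [← map_sum, hone, map_one]
    have hex : ∃ γ₀ : Γ, φ (Pi.single γ₀ (1 : R)) = 1 := by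
      by_contra hno
      push Not at hno
      have : ∀ γ : Γ, φ (Pi.single γ (1 : R)) = 0 := fun γ => (hT _ (hidem γ)).resolve_right (hno γ)
      simp [this] at hsum
    obtain ⟨γ₀, hγ₀⟩ := hex
    have hother : ∀ γ : Γ, γ ≠ γ₀ → φ (Pi.single γ (1 : R)) = 0 := by
      intro γ hne
      have h0 : (Pi.single γ (1 : R) * Pi.single γ₀ (1 : R) : Γ → R) = 0 := by
        funext x
        simp only [Pi.mul_apply, Pi.single_apply, Pi.zero_apply]
        by_cases h1 : x = γ
        · have : x ≠ γ₀ := h1 ▸ hne
          simp [this]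
        · simp [h1]
      have : φ (Pi.single γ (1 : R)) * φ (Pi.single γ₀ (1 : R)) = 0 := by
        rw [← map_mul, h0, map_zero]
      rwa [hγ₀, mul_one] at this
    refine ⟨γ₀, ?_⟩
    ext f
    have hf : f = ∑ γ : Γ, f γ • (Pi.single γ (1 : R) : Γ → R) := by
      funext x
      simp [Finset.sum_apply, Pi.single_apply]
    show algebraMap R T (f γ₀) = φ f
    conv_rhs => rw [hf]
    rw [map_sum]
    simp only [map_smul]
    rw [Finset.sum_eq_single γ₀]
    · rw [hγ₀, Algebra.algebraMap_eq_smul_one]
    · intro γ _ hne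
      rw [hother γ hne, smul_zero]
    · intro h
      exact absurd (Finset.mem_univ _) h

end Groth.Agent.S12931
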