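import Groth.Statements.S12932
import Mathlib

set_option autoImplicit false
universe u v
open scoped BigOperators
open InvTh

namespace Groth.Agent.S12932

/-- sum over a finite group of a function invariant under right multiplication by a subgroup. -/
theorem sum_eq_card_mul {Γ : Type v} [Group Γ] [Fintype Γ] (T : Subgroup Γ) {κ : Type u} [CommRing κ]
    (F : Γ → κ) (hF : ∀ γ : Γ, ∀ t ∈ T, F (γ * t) = F γ) :
    ∃ y : κ, ∑ γ, F γ = (Nat.card T : κ) * y := by
  classical
  haveI : Fintype T := Fintype.ofFinite T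
  haveI : Fintype (Γ ⧸ T) := Fintype.ofFinite _
  let φ : (Γ ⧸ T) × T → Γ := fun x => Quotient.out x.1 * (x.2 : Γ)
  have hφ : Function.Bijective φ := by
    constructor
    · rintro ⟨q, t⟩ ⟨q', t'⟩ h
      simp only [φ] at h
      have h1 := congrArg (fun g => (QuotientGroup.mk g : Γ ⧸ T)) h
      simp only [QuotientGroup.mk_mul_of_mem _ t.2, QuotientGroup.mk_mul_of_mem _ t'.2,
        QuotientGroup.out_eq'] at h1
      subst h1
      have h2 : (t : Γ) = t' := mul_left_cancel h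
      rw [Subtype.ext h2]
    · intro γ
      obtain ⟨h, hh⟩ := QuotientGroup.mk_out_eq_mul T γ
      refine ⟨(QuotientGroup.mk γ, h⁻¹), ?_⟩
      simp only [φ]
      rw [hh]
      simp
  refine ⟨∑ q : Γ ⧸ T, F (Quotient.out q), ?_⟩
  rw [← hφ.sum_comp, Fintype.sum_prod_type, Finset.mul_sum]
  apply Finset.sum_congr rfl
  intro q _
  simp only [φ]
  have hc : ∀ t ∈ (Finset.univ : Finset T), F (Quotient.out q * (t : Γ)) = F (Quotient.out q) :=
    fun t _ => hF (Quotient.out q) (t : Γ) t.2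
  rw [Finset.sum_congr rfl hc, Finset.sum_const,
    Finset.card_univ, nsmul_eq_mul, Nat.card_eq_fintype_card]

theorem fwd (B : Type u) [CommRing B] (Γ : Type v) [Group Γ] [Fintype Γ] [MulSemiringAction Γ B]
    (b : B) (hb : ∑ γ : Γ, γ • b = 1) (P : Ideal B) (hP : P.IsPrime) :
    ((Nat.card (P.inertia Γ) : ℕ) : B ⧸ P) ≠ 0 := by
  intro h0
  let F : Γ → B ⧸ P := fun γ => Ideal.Quotient.mk P (γ⁻¹ • b)
  have hF : ∀ γ : Γ, ∀ t ∈ P.inertia Γ, F (γ * t) = F γ := by
    intro γ t ht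
    simp only [F]
    rw [mul_inv_rev, mul_smul, Ideal.Quotient.eq]
    exact (inv_mem ht) (γ⁻¹ • b)
  obtain ⟨y, hy⟩ := sum_eq_card_mul (P.inertia Γ) F hF
  have h1 : ∑ γ, F γ = 1 := by
    simp only [F]
    rw [← map_sum, ← map_one (Ideal.Quotient.mk P), ← hb]
    congr 1
    exact Equiv.sum_comp (Equiv.inv Γ) (fun γ => γ • b)
  rw [hy, h0, zero_mul] at h1
  haveI := hP
  exact zero_ne_one h1

theorem exists_beta (B : Type u) [CommRing B] (Γ : Type v) [Group Γ] [Fintype Γ] [MulSemiringAction Γ B]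
    (Q : Ideal B) [hQ : Q.IsMaximal]
    (hT : ((Nat.card (Q.inertia Γ) : ℕ) : B ⧸ Q) ≠ 0) :
    ∃ b' : B, ∑ d : {γ : Γ // Q.comap (MulSemiringAction.toRingHom Γ B γ) = Q},
      Ideal.Quotient.mk Q (d.1 • b') ≠ 0 := by
  classical
  letI : Field (B ⧸ Q) := Ideal.Quotient.field Q
  let Dsub := {γ : Γ // Q.comap (MulSemiringAction.toRingHom Γ B γ) = Q}
  let χ : Dsub → ((B ⧸ Q) →* (B ⧸ Q)) := fun d =>
    (Ideal.quotientMap Q (MulSemiringAction.toRingHom Γ B d.1) d.2.ge).toMonoidHom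
  have hχ : ∀ (d : Dsub) (x : B), χ d (Ideal.Quotient.mk Q x) = Ideal.Quotient.mk Q (d.1 • x) := by
    intro d x
    rfl
  by_contra hcon
  push Not at hcon
  have hone : Q.comap (MulSemiringAction.toRingHom Γ B 1) = Q := by
    ext x
    simp [Ideal.mem_comap]
  have hsum : ∑ d : Dsub, (fun ψ : (B ⧸ Q) →* (B ⧸ Q) => (ψ : (B ⧸ Q) → (B ⧸ Q))) (χ d) = 0 := by
    funext β
    obtain ⟨b', rfl⟩ := Ideal.Quotient.mk_surjective β
    rw [Finset.sum_apply]
    simp only [hχ, Pi.zero_apply]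
    exact hcon b'
  rw [Finset.sum_comp (fun ψ : (B ⧸ Q) →* (B ⧸ Q) => (ψ : (B ⧸ Q) → (B ⧸ Q))) χ] at hsum
  have hLI := linearIndependent_monoidHom (B ⧸ Q) (B ⧸ Q)
  rw [linearIndependent_iff'] at hLI
  have hsum' : ∑ ψ ∈ Finset.univ.image χ,
      (((Finset.univ.filter (fun d : Dsub => χ d = ψ)).card : ℕ) : B ⧸ Q) •
        (fun ψ : (B ⧸ Q) →* (B ⧸ Q) => (ψ : (B ⧸ Q) → (B ⧸ Q))) ψ = 0 := by
    rw [← hsum]
    apply Finset.sum_congr rfl
    intro ψ _
    rw [Nat.cast_smul_eq_nsmul]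
  have h0 := hLI _ _ hsum' (χ ⟨1, hone⟩) (Finset.mem_image_of_mem _ (Finset.mem_univ _))
  apply hT
  rw [← h0]
  congr 1
  rw [Nat.card_eq_fintype_card, ← Fintype.card_subtype]
  apply Fintype.card_congr
  refine
    { toFun := fun t => ⟨⟨t.1, ?_⟩, ?_⟩
      invFun := fun d => ⟨d.1.1, ?_⟩
      left_inv := fun t => rfl
      right_inv := fun d => rfl }
  · ext x
    rw [Ideal.mem_comap]
    change t.1 • x ∈ Q ↔ x ∈ Q
    have := t.2 x
    constructor
    · intro h
      have h2 := Q.sub_mem h this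
      simpa using h2
    · intro h
      have h2 := Q.add_mem this h
      simpa using h2
  · apply MonoidHom.ext
    intro β
    obtain ⟨x, rfl⟩ := Ideal.Quotient.mk_surjective β
    rw [hχ, hχ]
    simp only [one_smul]
    rw [Ideal.Quotient.eq]
    exact t.2 x
  · intro x
    have h := d.2
    have h2 := congrArg (fun ψ : (B ⧸ Q) →* (B ⧸ Q) => ψ (Ideal.Quotient.mk Q x)) h
    simp only [hχ, one_smul] at h2
    rw [Ideal.Quotient.eq] at h2
    exact h2

theorem bwd (B : Type u) [CommRing B] (Γ : Type v) [Group Γ] [Fintype Γ] [MulSemiringAction Γ B]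
    (h : ∀ P : Ideal B, P.IsPrime → ((Nat.card (P.inertia Γ) : ℕ) : B ⧸ P) ≠ 0) :
    ∃ b : B, ∑ γ : Γ, γ • b = 1 := by
  classical
  by_contra hno
  push Not at hno
  -- the invariant ring
  let A := FixedPoints.subring B Γ
  have hfix : ∀ b : B, ∀ g : Γ, g • (∑ γ : Γ, γ • b) = ∑ γ : Γ, γ • b := by
    intro b g
    rw [Finset.smul_sum]
    simp only [smul_smul]
    exact Fintype.sum_bijective (fun γ => g * γ) (Group.mulLeft_bijective g) _ _ (fun _ => rfl)
  haveI : Algebra.IsInvariant A B Γ := ⟨fun b hb => ⟨⟨b, hb⟩, rfl⟩⟩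
  haveI : Algebra.IsIntegral A B := Algebra.IsInvariant.isIntegral A B Γ
  let J : Ideal A :=
    { carrier := {a | ∃ b : B, ∑ γ : Γ, γ • b = (a : B)}
      add_mem' := by
        rintro a a' ⟨b, hb⟩ ⟨b', hb'⟩
        refine ⟨b + b', ?_⟩
        simp only [smul_add, Finset.sum_add_distrib, hb, hb']
        rfl
      zero_mem' := ⟨0, by simp⟩
      smul_mem' := by
        rintro c a ⟨b, hb⟩
        refine ⟨(c : B) * b, ?_⟩
        have hc : ∀ γ : Γ, γ • (c : B) = c := fun γ => c.2 γ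
        simp only [smul_mul', hc, ← Finset.mul_sum, hb]
        rfl }
  have hJ : J ≠ ⊤ := by
    intro htop
    have h1 : (1 : A) ∈ J := by rw [htop]; trivial
    obtain ⟨b, hb⟩ := h1
    exact hno b hb
  obtain ⟨𝔪, hmax, hJm⟩ := Ideal.exists_le_maximal J hJ
  haveI := hmax
  have hker : RingHom.ker (algebraMap A B) ≤ 𝔪 := by
    intro a ha
    rw [RingHom.mem_ker] at ha
    have : a = 0 := Subtype.ext ha
    rw [this]; exact Ideal.zero_mem _
  obtain ⟨Q, hQmax, hQ⟩ := Ideal.exists_ideal_over_maximal_of_isIntegral 𝔪 hker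
  haveI := hQmax
  have htrQ : ∀ b : B, ∑ γ : Γ, γ • b ∈ Q := by
    intro b
    have ha : (⟨∑ γ : Γ, γ • b, hfix b⟩ : A) ∈ 𝔪 := hJm ⟨b, rfl⟩
    rw [← hQ, Ideal.mem_comap] at ha
    exact ha
  obtain ⟨b', hb'⟩ := exists_beta B Γ Q (h Q hQmax.isPrime)
  -- the ideals Q_γ
  let Qg : Γ → Ideal B := fun γ => Q.comap (MulSemiringAction.toRingHom Γ B γ)
  have hQgmax : ∀ γ, (Qg γ).IsMaximal := by
    intro γ
    exact Ideal.comap_isMaximal_of_surjective _ (MulSemiringAction.toRingEquiv Γ B γ).surjective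
  have hcop : Q ⊔ ⨅ γ ∈ Finset.univ.filter (fun γ => Qg γ ≠ Q), Qg γ = ⊤ := by
    apply Ideal.sup_iInf_eq_top
    intro γ hγ
    rw [Finset.mem_filter] at hγ
    exact hQmax.coprime_of_ne (hQgmax γ) (Ne.symm hγ.2)
  have h1 : (1 : B) ∈ Q ⊔ ⨅ γ ∈ Finset.univ.filter (fun γ => Qg γ ≠ Q), Qg γ := by
    rw [hcop]; trivial
  obtain ⟨q, hq, c, hc, hqc⟩ := Submodule.mem_sup.mp h1
  have hcγ : ∀ γ, Qg γ ≠ Q → γ • c ∈ Q := by
    intro γ hγ
    have := (Submodule.mem_iInf _).mp hc γ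
    have := (Submodule.mem_iInf _).mp this (by simp [hγ])
    exact this
  have hcD : ∀ γ, Qg γ = Q → γ • c - 1 ∈ Q := by
    intro γ hγ
    have hc' : c = 1 - q := by rw [← hqc]; ring
    rw [hc', smul_sub, smul_one]
    have : γ • q ∈ Q := by
      have : q ∈ Qg γ := by rw [hγ]; exact hq
      exact this
    have h2 := Q.neg_mem this
    convert h2 using 1
    ring
  apply hb'
  -- compute the trace of c * b' modulo Q
  have htr := htrQ (c * b')
  rw [← Ideal.Quotient.eq_zero_iff_mem, map_sum] at htr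
  rw [← htr]
  rw [← Finset.sum_subtype (Finset.univ.filter (fun γ => Qg γ = Q)) (by simp [Qg])
    (fun γ => Ideal.Quotient.mk Q (γ • b'))]
  rw [← Finset.sum_filter_add_sum_filter_not Finset.univ (fun γ => Qg γ = Q)
    (fun γ => Ideal.Quotient.mk Q (γ • (c * b')))]
  have hz : ∑ γ ∈ Finset.univ.filter (fun γ => ¬ Qg γ = Q), Ideal.Quotient.mk Q (γ • (c * b')) = 0 := by
    apply Finset.sum_eq_zero
    intro γ hγ
    rw [Finset.mem_filter] at hγ
    rw [Ideal.Quotient.eq_zero_iff_mem, smul_mul']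
    exact Q.mul_mem_right _ (hcγ γ hγ.2)
  rw [hz, add_zero]
  apply Finset.sum_congr rfl
  intro γ hγ
  rw [Finset.mem_filter] at hγ
  rw [smul_mul', Ideal.Quotient.eq]
  have := Q.mul_mem_right (γ • b') (hcD γ hγ.2)
  convert Q.neg_mem this using 1
  ring

/-- Let `B` be a commutative ring with an action of a finite group `Γ` by ring automorphisms, and call a
prime ideal `P` of `B` tame when the order of its inertia group `{γ | γ • x - x ∈ P for all x}` is
not divisible by the characteristic of `B/P` (its ramification group is trivial). Then every prime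
of `B` is tame if and only if the trace `b ↦ Σ_γ γ • b`, which takes values in the invariant ring
`B^Γ` and is `B^Γ`-linear, is onto `B^Γ` — equivalently, some element of `B` has trace `1`. -/
theorem result
    (B : Type u) [CommRing B] (Γ : Type v) [Group Γ] [Fintype Γ] [MulSemiringAction Γ B] :
    (∃ b : B, ∑ γ : Γ, γ • b = 1) ↔
      ∀ P : Ideal B, P.IsPrime → ((Nat.card (P.inertia Γ) : ℕ) : B ⧸ P) ≠ 0 := by
  constructor
  · rintro ⟨b, hb⟩ P hP
    exact fwd B Γ b hb P hP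
  · intro h
    exact bwd B Γ h

end Groth.Agent.S12932
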