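import Groth.Statements.S12933
import Mathlib

set_option autoImplicit false
universe u v w w'
open TensorProduct
open InvTh

namespace Groth.Agent.S12933

/-- Let `R` be a commutative ring, `B` a commutative `R`-algebra with an action of a finite group `Γ` by
`R`-algebra automorphisms, and `R'` a flat commutative `R`-algebra; let `Γ` act on `R' ⊗_R B`
through the factor `B`. Then an element of `R' ⊗_R B` is fixed by every element of `Γ` if and only
if it lies in the `R'`-submodule spanned by the tensors `1 ⊗ b` with `b ∈ B^Γ`: taking invariants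
commutes with flat base change (the map `R' ⊗_R B^Γ → R' ⊗_R B` being moreover injective by
flatness). -/
theorem result
    (R : Type u) [CommRing R] (B : Type v) [CommRing B] [Algebra R B]
    (Γ : Type w) [Group Γ] [Finite Γ] [MulSemiringAction Γ B] [SMulCommClass Γ R B]
    (R' : Type w') [CommRing R'] [Algebra R R'] [Module.Flat R R']
    (x : R' ⊗[R] B) :
    (∀ γ : Γ, Algebra.TensorProduct.map (AlgHom.id R R') (MulSemiringAction.toAlgHom R B γ) x = x) ↔
      x ∈ Submodule.span R' ((fun b : B => (1 : R') ⊗ₜ[R] b) '' {b : B | ∀ γ : Γ, γ • b = b}) := by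
  classical
  cases nonempty_fintype Γ
  let I : Submodule R B :=
    { carrier := {b | ∀ γ : Γ, γ • b = b}
      add_mem' := fun {a b} ha hb γ => by rw [smul_add, ha γ, hb γ]
      zero_mem' := fun γ => smul_zero γ
      smul_mem' := fun r b hb γ => by rw [smul_comm, hb γ] }
  let δ : B →ₗ[R] (Γ → B) :=
    LinearMap.pi (fun γ => (MulSemiringAction.toAlgHom R B γ).toLinearMap - LinearMap.id)
  have hδ : ∀ (b : B) (γ : Γ), δ b γ = γ • b - b := fun b γ => rfl
  have hex : Function.Exact I.subtype δ := by
    intro b
    constructor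
    · intro hb
      refine ⟨⟨b, fun γ => ?_⟩, rfl⟩
      have := congrFun hb γ
      rw [hδ] at this
      exact sub_eq_zero.1 this
    · rintro ⟨y, rfl⟩
      funext γ
      rw [hδ]
      show γ • (y : B) - (y : B) = 0
      rw [y.2 γ, sub_self]
  have hex' := Module.Flat.lTensor_exact R' hex
  have hcomp : ∀ (z : R' ⊗[R] B) (γ : Γ),
      TensorProduct.piRightHom R R R' (fun _ : Γ => B) (δ.lTensor R' z) γ =
        Algebra.TensorProduct.map (AlgHom.id R R') (MulSemiringAction.toAlgHom R B γ) z - z := by
    intro z γ
    induction z using TensorProduct.induction_on with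
    | zero => simp
    | add x y hx hy => simp only [map_add, Pi.add_apply, hx, hy]; abel
    | tmul r b =>
      rw [LinearMap.lTensor_tmul, TensorProduct.piRightHom_tmul]
      show r ⊗ₜ[R] (δ b γ) = _
      rw [hδ, TensorProduct.tmul_sub]
      simp
  have hspan : ∀ y : R' ⊗[R] I, (I.subtype.lTensor R') y ∈
      Submodule.span R' ((fun b : B => (1 : R') ⊗ₜ[R] b) '' {b : B | ∀ γ : Γ, γ • b = b}) := by
    intro y
    induction y using TensorProduct.induction_on with
    | zero => simp
    | add y₁ y₂ h₁ h₂ => rw [map_add]; exact Submodule.add_mem _ h₁ h₂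
    | tmul r b =>
      rw [LinearMap.lTensor_tmul]
      have : r ⊗ₜ[R] (I.subtype b) = r • ((1 : R') ⊗ₜ[R] (b : B)) := by
        rw [TensorProduct.smul_tmul', smul_eq_mul, mul_one]; rfl
      rw [this]
      exact Submodule.smul_mem _ _ (Submodule.subset_span ⟨b, b.2, rfl⟩)
  have hsm : ∀ (r : R') (z : R' ⊗[R] B), r • z = (r ⊗ₜ[R] (1 : B)) * z := by
    intro r z
    induction z using TensorProduct.induction_on with
    | zero => simp
    | add a b ha hb => rw [smul_add, mul_add, ha, hb]
    | tmul a b => rw [TensorProduct.smul_tmul', Algebra.TensorProduct.tmul_mul_tmul, one_mul, smul_eq_mul]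
  constructor
  · intro hx
    have h0 : δ.lTensor R' x = 0 := by
      apply (TensorProduct.piRight R R R' (fun _ : Γ => B)).injective
      rw [map_zero]
      funext γ
      rw [TensorProduct.piRight_apply, hcomp, hx γ, sub_self]
      rfl
    obtain ⟨y, rfl⟩ := (hex' x).1 h0
    exact hspan y
  · intro hx γ
    induction hx using Submodule.span_induction with
    | mem z hz =>
      obtain ⟨b, hb, rfl⟩ := hz
      simp only [Algebra.TensorProduct.map_tmul, AlgHom.id_apply, MulSemiringAction.toAlgHom_apply]
      rw [hb γ]
    | zero => simp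
    | add z₁ z₂ _ _ h₁ h₂ => rw [map_add, h₁, h₂]
    | smul r z _ h =>
      have : r • z = (r ⊗ₜ[R] (1 : B)) * z := hsm r z
      rw [this, map_mul, h]
      simp

end Groth.Agent.S12933
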