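import Groth.Statements.S12936
import Mathlib

set_option autoImplicit false
universe u v
open InvTh

namespace Groth.Agent.S12936

/-- Let `B` be a commutative ring with an action of a finite group `Γ` by ring automorphisms and `P` a
maximal ideal of `B`, with decomposition group `D_P = {γ | γP = P}` and decomposition ring `D =
B^{D_P}`. Then `D = B^Γ + (P ∩ D)`: every element of `B` fixed by `D_P` is congruent modulo `P` to a
`Γ`-invariant element. Hence the residue field of `D` at `P ∩ D` is that of `B^Γ` at `P ∩ B^Γ`; for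
an arbitrary prime `P` the same equality of residue fields follows by localising at `P ∩ B^Γ`. (The
published statement prints this residue field as `k(P)`; the proof establishes the equality with the
residue field of `B^Γ` stated here.) -/
theorem result
    (B : Type u) [CommRing B] (Γ : Type v) [Group Γ] [Finite Γ] [MulSemiringAction Γ B]
    (P : Ideal B) [P.IsMaximal] (x : B)
    (hx : ∀ γ : Γ, (∀ y : B, y ∈ P ↔ γ • y ∈ P) → γ • x = x) :
    ∃ c : B, (∀ γ : Γ, γ • c = c) ∧ x - c ∈ P := by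
  classical
  cases nonempty_fintype Γ
  -- the decomposition group
  let D : Subgroup Γ :=
    { carrier := {γ | ∀ y : B, y ∈ P ↔ γ • y ∈ P}
      mul_mem' := fun {a b} ha hb y => by rw [mul_smul, ← ha, ← hb]
      one_mem' := fun y => by rw [one_smul]
      inv_mem' := fun {a} ha y => by
        have := ha (a⁻¹ • y)
        rw [smul_inv_smul] at this
        exact this.symm }
  have hDmem : ∀ γ : Γ, γ ∈ D ↔ ∀ y : B, y ∈ P ↔ γ • y ∈ P := fun γ => Iff.rfl
  have hxD : ∀ d : D, (d : Γ) • x = x := fun d => hx d d.2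
  -- for γ ∉ D there is u ∉ P with γ • u ∈ P
  have hu : ∀ γ : Γ, γ ∉ D → ∃ u : B, u ∉ P ∧ γ • u ∈ P := by
    intro γ hγ
    by_contra hcon
    push Not at hcon
    -- then γ⁻¹ • P ≤ P, hence equal by maximality
    apply hγ
    -- Q = {y | γ • y ∈ P} is a proper ideal containing... show Q ≤ P so Q = P
    let Q : Ideal B := P.comap (MulSemiringAction.toRingHom Γ B γ)
    have hQP : Q ≤ P := by
      intro y hy
      by_contra hyP
      exact hcon y hyP hy
    have hQmax : Q.IsMaximal := by
      have : Q = P.comap ((MulSemiringAction.toRingEquiv Γ B γ : B ≃+* B) : B →+* B) := rfl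
      rw [this]
      exact Ideal.comap_isMaximal_of_equiv _
    have hQeq : Q = P := hQmax.eq_of_le (Ideal.IsPrime.ne_top inferInstance) hQP
    intro y
    show y ∈ P ↔ y ∈ Q
    rw [hQeq]
  choose! u hu1 hu2 using hu
  let U : B := ∏ γ ∈ Finset.univ.filter (fun γ : Γ => γ ∉ D), u γ
  have hUP : U ∉ P := by
    intro h
    obtain ⟨γ, hγ, hγ'⟩ := (Ideal.IsPrime.prod_mem_iff (hp := inferInstance)).1 h
    exact hu1 γ (Finset.mem_filter.1 hγ).2 hγ'
  have hUγ : ∀ γ : Γ, γ ∉ D → γ • U ∈ P := by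
    intro γ hγ
    have : U = u γ * ∏ γ' ∈ (Finset.univ.filter (fun γ : Γ => γ ∉ D)).erase γ, u γ' := by
      exact (Finset.mul_prod_erase (Finset.univ.filter (fun γ : Γ => γ ∉ D)) u
        (Finset.mem_filter.2 ⟨Finset.mem_univ γ, hγ⟩)).symm
    rw [this, smul_mul']
    exact P.mul_mem_right _ (hu2 γ hγ)
  obtain ⟨v, i, hi, hvi⟩ := Ideal.IsMaximal.exists_inv (I := P) inferInstance hUP
  let y : B := v * U
  have hy1 : y - 1 ∈ P := by
    have : y - 1 = -i := by
      show v * U - 1 = -i
      rw [← hvi]; ring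
    rw [this]; exact P.neg_mem hi
  have hyγ : ∀ γ : Γ, γ ∉ D → γ • y ∈ P := by
    intro γ hγ
    show γ • (v * U) ∈ P
    rw [smul_mul']
    exact P.mul_mem_left _ (hUγ γ hγ)
  let e : B := ∏ d : D, (d : Γ) • y
  have heD : ∀ d' : D, (d' : Γ) • e = e := by
    intro d'
    show (d' : Γ) • (∏ d : D, (d : Γ) • y) = ∏ d : D, (d : Γ) • y
    rw [Finset.smul_prod']
    refine Fintype.prod_equiv (Equiv.mulLeft d') _ _ (fun d => ?_)
    rw [Equiv.coe_mulLeft, Subgroup.coe_mul, mul_smul]
  have he1 : e - 1 ∈ P := by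
    rw [← Ideal.Quotient.eq_zero_iff_mem, map_sub, map_one, sub_eq_zero]
    show Ideal.Quotient.mk P (∏ d : D, (d : Γ) • y) = 1
    rw [map_prod]
    apply Finset.prod_eq_one
    intro d _
    rw [← sub_eq_zero, ← map_one (Ideal.Quotient.mk P), ← map_sub, Ideal.Quotient.eq_zero_iff_mem]
    have : (d : Γ) • y - 1 = (d : Γ) • (y - 1) := by rw [smul_sub, smul_one]
    rw [this]
    exact (d.2 (y - 1)).1 hy1
  have heγ : ∀ γ : Γ, γ ∉ D → γ • e ∈ P := by
    intro γ hγ
    have : e = ((1 : D) : Γ) • y * ∏ d ∈ (Finset.univ : Finset D).erase 1, (d : Γ) • y :=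
      (Finset.mul_prod_erase (Finset.univ : Finset D) (fun d => (d : Γ) • y) (Finset.mem_univ 1)).symm
    rw [this, Subgroup.coe_one, one_smul, smul_mul']
    exact P.mul_mem_right _ (hyγ γ hγ)
  let w : B := e * x
  have hwD : ∀ d : D, (d : Γ) • w = w := by
    intro d
    show (d : Γ) • (e * x) = e * x
    rw [smul_mul', heD, hxD]
  let f : Γ ⧸ D → B := fun q => Quotient.liftOn' q (fun γ => γ • w) (fun a b hab => by
    have h1 : a⁻¹ * b ∈ D := QuotientGroup.leftRel_apply.1 hab
    have h2 : b = a * (a⁻¹ * b) := by group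
    show a • w = b • w
    rw [h2, mul_smul, hwD ⟨a⁻¹ * b, h1⟩])
  have hf : ∀ γ : Γ, f (γ : Γ ⧸ D) = γ • w := fun γ => rfl
  refine ⟨∑ q, f q, ?_, ?_⟩
  · intro τ
    rw [Finset.smul_sum]
    have : ∀ q : Γ ⧸ D, τ • f q = f (τ • q) := by
      intro q
      induction q using Quotient.inductionOn' with
      | h γ =>
        show τ • (γ • w) = (τ * γ) • w
        rw [mul_smul]
    simp only [this]
    exact Equiv.sum_comp (MulAction.toPerm τ) f
  · rw [← Finset.add_sum_erase Finset.univ f (Finset.mem_univ ((1 : Γ) : Γ ⧸ D)), hf, one_smul]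
    have h1 : x - (w + ∑ q ∈ (Finset.univ : Finset (Γ ⧸ D)).erase ((1 : Γ) : Γ ⧸ D), f q) =
        -((e - 1) * x) - ∑ q ∈ (Finset.univ : Finset (Γ ⧸ D)).erase ((1 : Γ) : Γ ⧸ D), f q := by
      show x - (e * x + _) = _
      ring
    rw [h1]
    apply P.sub_mem (P.neg_mem (P.mul_mem_right _ he1))
    apply P.sum_mem
    intro q hq
    have hq1 : q ≠ ((1 : Γ) : Γ ⧸ D) := (Finset.mem_erase.1 hq).1
    induction q using Quotient.inductionOn' with
    | h γ =>
      have hγ : γ ∉ D := by
        intro hγD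
        apply hq1
        show (γ : Γ ⧸ D) = ((1 : Γ) : Γ ⧸ D)
        rw [QuotientGroup.eq]
        simpa using D.inv_mem hγD
      show γ • (e * x) ∈ P
      rw [smul_mul']
      exact P.mul_mem_right _ (heγ γ hγ)

end Groth.Agent.S12936
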