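import Groth.Statements.S12946
import Mathlib

set_option autoImplicit false
universe u
open CategoryTheory AlgebraicGeometry
open AlgSt

namespace Groth.Agent.S12946

theorem ringHom_quasiFinite_of_unramified {R T : Type*} [CommRing R] [CommRing T] (φ : R →+* T)
    (h1 : φ.FiniteType) (h2 : φ.FormallyUnramified) : φ.QuasiFinite := by
  algebraize [φ]
  haveI : Algebra.EssFiniteType R T := inferInstance
  change Algebra.QuasiFinite R T
  infer_instance

theorem locallyQuasiFinite_of_unramified {X Y : Scheme.{u}} (g : X ⟶ Y) (h1 : LocallyOfFiniteType g)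
    (h2 : FormallyUnramified g) : LocallyQuasiFinite g := by
  refine ⟨fun {U} hU {V} hV e => ?_⟩
  exact ringHom_quasiFinite_of_unramified _ (h1.finiteType_appLE hU hV e)
    (h2.formallyUnramified_appLE hU hV e)

/-- A DM morphism of algebraic stacks is quasi-DM (an unramified morphism of algebraic spaces being
locally quasi-finite). -/
theorem result
    (S : Scheme.{u}) (𝒳 : AlgSt.Cat S) (𝒴 : AlgSt.Cat S)
    (h𝒳 : AlgSt.IsAlgStack Scheme.fppfPrecoverage 𝒳)
    (h𝒴 : AlgSt.IsAlgStack Scheme.fppfPrecoverage 𝒴)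
    (f : 𝒳 ⥤ᵇ 𝒴) :
    AlgSt.IsDMMor f → AlgSt.IsQuasiDMMor f := by
  intro hf U y
  obtain ⟨F, e, he, hP⟩ := hf U y
  refine ⟨F, e, he, ?_⟩
  intro U' V' a b h ha hb hab
  obtain ⟨h1, h2⟩ := hP a b h ha hb hab
  exact ⟨locallyQuasiFinite_of_unramified _ h1 h2, h1⟩

end Groth.Agent.S12946
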