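import Groth.Statements.S12956
import Groth.Agent.Helper6.OfComp

set_option autoImplicit false
universe u
open CategoryTheory AlgebraicGeometry
open AlgSt

namespace Groth.Agent.S12956

/-- If the composite of f : 𝒳 → 𝒴 and g : 𝒴 → 𝒵 (morphisms of algebraic stacks) is DM, then f is DM. -/
theorem result
    (S : Scheme.{u}) (𝒳 : AlgSt.Cat S) (𝒴 : AlgSt.Cat S) (𝒵 : AlgSt.Cat S)
    (h𝒳 : AlgSt.IsAlgStack Scheme.fppfPrecoverage 𝒳)
    (h𝒴 : AlgSt.IsAlgStack Scheme.fppfPrecoverage 𝒴)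
    (h𝒵 : AlgSt.IsAlgStack Scheme.fppfPrecoverage 𝒵)
    (f : 𝒳 ⥤ᵇ 𝒴) (g : 𝒴 ⥤ᵇ 𝒵) :
    AlgSt.IsDMMor (BasedFunctor.comp f g) → AlgSt.IsDMMor f := by
  intro h
  have hdg := Groth.Agent.Helper6.OfComp.repByAlgSp1_diag h𝒴 h𝒵 g
  exact Groth.Agent.Helper6.OfComp.diag_of_comp h𝒳.isStack.1 h𝒴.isStack.1 h𝒵.isStack.1 _
    (fun X Y Z hX hY hZ a b ha hb =>
      Groth.Agent.Helper4.AlgSpLocPComp.locP_comp _ Groth.Agent.Helper4.SDClasses.good_unram hY a b ha hb)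
    Groth.Agent.Helper6.LocalFppf.unramified f g h
    (Groth.Agent.Helper6.DiagRep.isDMMor (FibCat.diag g) hdg)

end Groth.Agent.S12956
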