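import Groth.Statements.S12958
import Groth.Agent.Helper6.OfComp

set_option autoImplicit false
universe u
open CategoryTheory AlgebraicGeometry
open AlgSt

namespace Groth.Agent.S12958

/-- If the composite of f : 𝒳 → 𝒴 and g : 𝒴 → 𝒵 (morphisms of algebraic stacks) is separated and the
diagonal of g is separated (as a morphism representable by algebraic spaces), then f is separated. -/
theorem result
    (S : Scheme.{u}) (𝒳 : AlgSt.Cat S) (𝒴 : AlgSt.Cat S) (𝒵 : AlgSt.Cat S)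
    (h𝒳 : AlgSt.IsAlgStack Scheme.fppfPrecoverage 𝒳)
    (h𝒴 : AlgSt.IsAlgStack Scheme.fppfPrecoverage 𝒴)
    (h𝒵 : AlgSt.IsAlgStack Scheme.fppfPrecoverage 𝒵)
    (f : 𝒳 ⥤ᵇ 𝒴) (g : 𝒴 ⥤ᵇ 𝒵) :
    AlgSt.IsSeparatedMor (BasedFunctor.comp f g) →
      AlgSt.RepByAlgSpWith AlgSp.IsSeparatedMor (FibCat.diag g) → AlgSt.IsSeparatedMor f := by
  intro h hs
  have hdg := Groth.Agent.Helper6.OfComp.repByAlgSp1_diag h𝒴 h𝒵 g
  have h3 : AlgSt.IsSeparatedMor (FibCat.diag g) :=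
    ((Groth.Agent.Helper6.DiagRep.tfae_sep (FibCat.diag g) hdg).out 0 2).1 hs
  exact Groth.Agent.Helper6.OfComp.diag_of_comp h𝒳.isStack.1 h𝒴.isStack.1 h𝒵.isStack.1 _
    (fun X Y Z hX hY hZ a b ha hb =>
      Groth.Agent.Helper5.AlgSpProper.isProperMor_comp hY hZ.diag a b ha hb)
    Groth.Agent.Helper6.LocalFppf.proper f g h h3

end Groth.Agent.S12958
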