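import Groth.Statements.S1296
import Mathlib
import Groth.Agent.Helper9.PQF10
import Groth.Agent.Helper9.PQF14
-- import your own Groth.Agent.* helpers here

set_option autoImplicit false
universe u
open FlatMor

namespace Groth.Agent.S1296

/-- Ring form, X = Spec B affine, T = Spec A' with A' the colimit of a directed system of A-algebras
A'_i: let B be a finite type A-algebra, N a finite B-module, p a prime of A, and suppose given an
impurity of N above p with base change ring A' and points t' ⊆ t. Then for some index i there is an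
impurity of N above p whose base change ring is A'_i (up to an A-isomorphism) and whose point t
corresponds to the contraction of t to A'_i. -/
theorem result {A B : Type u} [CommRing A] [CommRing B] [Algebra A B] [Algebra.FiniteType A B]
    (N : Type u) [AddCommGroup N] [Module B N] [Module.Finite B N] (p : Ideal A) [p.IsPrime]
    {ι : Type u} [Preorder ι] (G : ι → Type u) [∀ i, CommRing (G i)] [∀ i, Algebra A (G i)]
    (g : ∀ i j, i ≤ j → G i →ₐ[A] G j)
    (A' : Type u) [CommRing A'] [Algebra A A'] [∀ i, Algebra (G i) A'] [∀ i, IsScalarTower A (G i) A']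
    (hcolim : FlatCA.IsDirectedColimitRing G (fun i j h => (g i j h).toRingHom) A')
    (B' N' : Type u) [CommRing B'] [Algebra B B'] [Algebra A' B'] [Algebra A B'] [IsScalarTower A B B'] [IsScalarTower A A' B']
    [AddCommGroup N'] [Module B' N'] [Module B N'] [IsScalarTower B B' N'] [Module A' N'] [IsScalarTower A' B' N']
    (f : N →ₗ[B] N') (t' t : Ideal A') [t'.IsPrime] [t.IsPrime] (P : Ideal B') [P.IsPrime]
    (himp : FlatCA.IsImpurity A B N p A' B' N' f t' t P) :
    ∃ i : ι, FlatCA.HasImpurity A B N p (fun A'' _ _ t'' => ∃ e : A'' ≃ₐ[A] G i, t''.map e = t.comap (algebraMap (G i) A')) := by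
  classical
  obtain ⟨F, hF⟩ := Groth.Agent.Helper9.PQF14.exists_finset_descent p f t' t P himp
  obtain ⟨hdir, hne, hid, hcomp, hcompat, hsurj, hzero⟩ := hcolim
  -- a stage containing the finite set
  have hstage : ∀ F : Finset A', ∃ i : ι, ∀ c ∈ F, c ∈ Set.range (algebraMap (G i) A') := by
    intro F
    induction F using Finset.induction_on with
    | empty => exact ⟨hne.some, fun c hc => absurd hc (Finset.notMem_empty c)⟩
    | insert c F' _ ih =>
      obtain ⟨i₁, hi₁⟩ := ih
      obtain ⟨i₂, x, hx⟩ := hsurj c
      obtain ⟨k, hk₁, hk₂⟩ := hdir.directed i₁ i₂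
      refine ⟨k, fun d hd => ?_⟩
      rcases Finset.mem_insert.mp hd with rfl | hd
      · refine ⟨g i₂ k hk₂ x, ?_⟩
        rw [← hx]
        exact congrArg (fun φ => φ x) (hcompat i₂ k hk₂)
      · obtain ⟨y, hy⟩ := hi₁ d hd
        refine ⟨g i₁ k hk₁ y, ?_⟩
        rw [← hy]
        exact congrArg (fun φ => φ y) (hcompat i₁ k hk₁)
  obtain ⟨i, hi⟩ := hstage F
  refine ⟨i, ?_⟩
  obtain ⟨B'', N'', _, _, _, _, _, _, _, _, _, _, _, _, f'', hpo'', hf''⟩ :=
    Groth.Agent.Helper9.PQF10.exists_model A B N (G i)
  obtain ⟨s'', P'', hP''p, hs'', himp''⟩ := hF (G i) B'' N'' hpo'' f'' hf'' hi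
  have htp : t.LiesOver p := himp.2.2.2.1
  have hlo : (t.comap (algebraMap (G i) A')).LiesOver p := ⟨by
    rw [Ideal.under_def, Ideal.comap_comap, ← IsScalarTower.algebraMap_eq]
    exact htp.over⟩
  refine ⟨G i, B'', N'', inferInstance, inferInstance, inferInstance, inferInstance,
    inferInstance, inferInstance, inferInstance, inferInstance, inferInstance, inferInstance,
    inferInstance, inferInstance, inferInstance, inferInstance, f'',
    t'.comap (algebraMap (G i) A'), t.comap (algebraMap (G i) A'), Ideal.comap_isPrime _ _,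
    Ideal.comap_isPrime _ _, P'', hP''p,
    himp'' (t.comap (algebraMap (G i) A')) le_rfl hs'' hlo, ⟨AlgEquiv.refl, ?_⟩⟩
  unfold Ideal.map
  rw [AlgEquiv.coe_refl, Set.image_id]
  exact Ideal.span_eq _

end Groth.Agent.S1296
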