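import Groth.Statements.S12971
import Mathlib
import Groth.Agent.Helper6.AlgStEquiv
import Groth.Agent.S12774
import Groth.Agent.Helper3.FpDiag
import Groth.Agent.Helper5.AlgSpFin
import Groth.Agent.Helper5.SmST
import Groth.Agent.Helper5.SrcEt

set_option autoImplicit false
universe u
open CategoryTheory AlgebraicGeometry
open AlgSt

namespace Groth.Agent.S12971

/-- A monomorphism of algebraic stacks (representable by algebraic spaces and a monomorphism) is
separated and DM. -/
theorem result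
    (S : Scheme.{u}) (𝒳 : AlgSt.Cat S) (𝒴 : AlgSt.Cat S)
    (h𝒳 : AlgSt.IsAlgStack Scheme.fppfPrecoverage 𝒳)
    (h𝒴 : AlgSt.IsAlgStack Scheme.fppfPrecoverage 𝒴)
    (f : 𝒳 ⥤ᵇ 𝒴) :
    AlgSt.IsMono f → AlgSt.IsSeparatedMor f ∧ AlgSt.IsDMMor f := by
  intro hf
  have hg𝒳 := h𝒳.isStack.1
  have hg𝒴 := h𝒴.isStack.1
  obtain ⟨h1, h2⟩ := Groth.Agent.S12774.result hg𝒳 hg𝒴 f hf
  haveI := h1
  haveI := h2
  have hd : FibCat.IsEquivOver (FibCat.diag f) :=
    Groth.Agent.Helper3.FpDiag.isEquivOver_diag_of_fullyFaithful f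
  constructor
  · apply Groth.Agent.Helper6.AlgStEquiv.repByAlgSpWith_of_isEquivOver _ _ _ hd
    intro U
    have := Groth.Agent.Helper5.AlgSpFin.isProperMor_yon_map (𝟙 U) (by
      change IsProper (𝟙 U.left)
      infer_instance)
    rwa [(AlgSp.yon S).map_id] at this
  · apply Groth.Agent.Helper6.AlgStEquiv.repByAlgSpWith_of_isEquivOver _ _ _ hd
    intro U
    refine Groth.Agent.Helper5.SrcEt.locP_mono (P := @Etale) ?_ _
      (Groth.Agent.Helper5.SmST.locP_etale_id _)
    intro A B g hg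
    haveI : Etale g := hg
    exact ⟨inferInstance, inferInstance⟩

end Groth.Agent.S12971
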