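import Groth.Statements.S12979
import Groth.Agent.Helper6.DiagLft
import Groth.Agent.Helper4.AlgSpUC

set_option autoImplicit false
universe u
open CategoryTheory AlgebraicGeometry
open AlgSt

namespace Groth.Agent.S12979

/-- If the first and second diagonals of a morphism f of algebraic stacks are both universally closed
(as morphisms representable by algebraic spaces), then f is separated. (The published statement is
an equivalence; this row states the implication from the two diagonals to separatedness.) -/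
theorem result
    (S : Scheme.{u}) (𝒳 : AlgSt.Cat S) (𝒴 : AlgSt.Cat S)
    (h𝒳 : AlgSt.IsAlgStack Scheme.fppfPrecoverage 𝒳)
    (h𝒴 : AlgSt.IsAlgStack Scheme.fppfPrecoverage 𝒴)
    (f : 𝒳 ⥤ᵇ 𝒴) :
    AlgSt.RepByAlgSpWith AlgSp.IsUnivClosedMor (FibCat.diag f) →
      AlgSt.RepByAlgSpWith AlgSp.IsUnivClosedMor (FibCat.diag (FibCat.diag f)) → AlgSt.IsSeparatedMor f := by
  intro h1 h2
  have hdg := Groth.Agent.Helper6.OfComp.repByAlgSp1_diag h𝒳 h𝒴 f
  have hs : AlgSt.RepByAlgSpWith AlgSp.IsSeparatedMor (FibCat.diag f) :=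
    ((Groth.Agent.Helper6.DiagRep.tfae_sep (FibCat.diag f) hdg).out 3 0).1 h2
  have hl := Groth.Agent.Helper6.DiagLft.lft_diag h𝒳 h𝒴 f
  intro U y
  obtain ⟨F, e, he, hu⟩ := h1 U y
  obtain ⟨F₁, e₁, he₁, hs'⟩ := hs U y
  obtain ⟨F₂, e₂, he₂, hl'⟩ := hl U y
  refine ⟨F, e, he, ?_, ⟨?_, ?_⟩, hu⟩
  · exact Groth.Agent.Helper6.DiagRep.P_of_chart _ (FibCat.fpFst y (FibCat.diag f)) e he e₁ he₁ hs'
  · exact Groth.Agent.Helper6.Descent2.P_of_chart' _
      (Groth.Agent.Helper6.Descent2.locP_iso_comp @LocallyOfFiniteType)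
      (FibCat.fpFst y (FibCat.diag f)) e he e₂ he₂ hl'
  · exact Groth.Agent.Helper4.AlgSpUC.isQuasiCompactMor_of_isUnivClosedMor F.property
      (AlgSp.IsAlgSpace.yon_obj U) _ hu

end Groth.Agent.S12979
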