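import Groth.Statements.S12980
import Groth.Agent.Helper6.OfComp

set_option autoImplicit false
universe u
open CategoryTheory AlgebraicGeometry
open AlgSt

namespace Groth.Agent.S12980

open Groth.Agent.Helper6.DiagRep in
theorem rep_inf {S : Scheme.{u}} {𝒳 𝒴 : AlgSt.Cat S} (P P' : MorphismProperty (AlgSp.Sp S))
    [P'.RespectsIso] (g : 𝒳 ⥤ᵇ 𝒴) :
    AlgSt.RepByAlgSpWith (P ⊓ P') g ↔ AlgSt.RepByAlgSpWith P g ∧ AlgSt.RepByAlgSpWith P' g := by
  constructor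
  · intro h
    exact ⟨rep_mono' (fun _ _ _ hg => hg.1) _ h, rep_mono' (fun _ _ _ hg => hg.2) _ h⟩
  · intro h U y
    obtain ⟨F, e, he, hP⟩ := h.1 U y
    obtain ⟨F', e', he', hP'⟩ := h.2 U y
    exact ⟨F, e, he, hP, P_of_chart P' (FibCat.fpFst y g) e he e' he' hP'⟩


/-- A morphism f of algebraic stacks is quasi-separated if and only if its first and second diagonals
are both quasi-compact (as morphisms representable by algebraic spaces). -/
theorem result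
    (S : Scheme.{u}) (𝒳 : AlgSt.Cat S) (𝒴 : AlgSt.Cat S)
    (h𝒳 : AlgSt.IsAlgStack Scheme.fppfPrecoverage 𝒳)
    (h𝒴 : AlgSt.IsAlgStack Scheme.fppfPrecoverage 𝒴)
    (f : 𝒳 ⥤ᵇ 𝒴) :
    AlgSt.IsQuasiSeparatedMor f ↔
      AlgSt.RepByAlgSpWith AlgSp.IsQuasiCompactMor (FibCat.diag f) ∧
        AlgSt.RepByAlgSpWith AlgSp.IsQuasiCompactMor (FibCat.diag (FibCat.diag f)) := by
  have hdg := Groth.Agent.Helper6.OfComp.repByAlgSp1_diag h𝒳 h𝒴 f
  have h1 := (Groth.Agent.Helper6.DiagRep.tfae_qs (FibCat.diag f) hdg).out 0 1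
  unfold AlgSt.IsQuasiSeparatedMor
  rw [rep_inf, h1]

end Groth.Agent.S12980
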