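import Groth.Statements.S12984
import Groth.Agent.Helper6.QcMor2
import Groth.Agent.Helper4.AlgSpSrc

set_option autoImplicit false
universe u
open CategoryTheory AlgebraicGeometry
open AlgSt

namespace Groth.Agent.S12984

/-- A closed immersion of algebraic stacks is quasi-compact. -/
theorem result
    (S : Scheme.{u}) (𝒳 : AlgSt.Cat S) (𝒴 : AlgSt.Cat S)
    (h𝒳 : AlgSt.IsAlgStack Scheme.fppfPrecoverage 𝒳)
    (h𝒴 : AlgSt.IsAlgStack Scheme.fppfPrecoverage 𝒴)
    (f : 𝒳 ⥤ᵇ 𝒴) :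
    AlgSt.IsClosedImm f → AlgSt.IsQuasiCompactMor Scheme.fppfPrecoverage f := by
  intro hf
  have h1 : AlgSt.RepByAlgSpWith AlgSp.IsQuasiCompactMor f :=
    Groth.Agent.Helper6.ToSpace.repByAlgSpWith_mono (fun X Y g hg =>
      Groth.Agent.Helper4.AlgSpQC.isQuasiCompactMor_of_repWith g
        (Groth.Agent.Helper4.AlgSpSrc.repWith_mono (fun g hg => by haveI := hg; infer_instance) hg)) hf
  exact (Groth.Agent.Helper6.QcMor2.repWith_qc_iff h𝒳 h𝒴 f
    (Groth.Agent.Helper6.ToSpace.repByAlgSp1_of_with hf)).1 h1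

end Groth.Agent.S12984
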