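import Groth.Statements.S1303
import Groth.Agent.Lead.Thickening

set_option autoImplicit false
universe u
open FlatMor

namespace Groth.Agent.S1303

open AlgebraicGeometry CategoryTheory Limits in
/-- For a morphism of thickenings, that is a commutative square whose horizontal maps are thickenings
(closed immersions that are surjective on points), the morphism between the thin schemes is
quasi-compact if and only if the morphism between the thick ones is. -/
theorem result {X X' S S' : Scheme.{u}} (iX : X ⟶ X') (iS : S ⟶ S') (f : X ⟶ S) (f' : X' ⟶ S')
    (hX : MoreMor.IsThickening iX) (hS : MoreMor.IsThickening iS) (w : iX ≫ f' = f ≫ iS) :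
    QuasiCompact f ↔ QuasiCompact f' := by
  obtain ⟨hX1, hX2⟩ := hX
  obtain ⟨hS1, hS2⟩ := hS
  constructor
  · intro h
    have : QuasiCompact (iX ≫ f') := by rw [w]; infer_instance
    exact Groth.Agent.Lead.quasiCompact_of_comp_surjective iX f'
  · intro h
    have : QuasiCompact (f ≫ iS) := by rw [← w]; infer_instance
    exact MorphismProperty.of_postcomp (W := @QuasiCompact)
      (W' := MorphismProperty.monomorphisms Scheme) f iS
      (show Mono iS from inferInstance) this

end Groth.Agent.S1303
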