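import Groth.Statements.S13041
import Mathlib

set_option autoImplicit false
universe u
open MaxMod

namespace Groth.Agent.S13041

open TensorProduct in
theorem one_tmul_injective (R K : Type*) [CommRing R] [IsDomain R] [Field K] [Algebra R K]
    [IsFractionRing R K] (B : Type*) [AddCommGroup B] [Module R B] [Module.Flat R B] :
    Function.Injective (fun b : B => (1 : K) ⊗ₜ[R] b) := by
  have h1 : Function.Injective (LinearMap.rTensor B (Algebra.linearMap R K)) :=
    Module.Flat.rTensor_preserves_injective_linearMap _ (IsFractionRing.injective R K)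
  have h2 : Function.Injective (fun b : B => (LinearMap.rTensor B (Algebra.linearMap R K))
      ((TensorProduct.lid R B).symm b)) :=
    h1.comp (TensorProduct.lid R B).symm.injective
  intro b b' hbb'
  apply h2
  simp only [TensorProduct.lid_symm_apply, LinearMap.rTensor_tmul, Algebra.linearMap_apply, map_one]
  exact hbb'

open TensorProduct in
theorem exists_smul_eq_one_tmul (R K : Type*) [CommRing R] [IsDomain R] [Field K] [Algebra R K]
    [IsFractionRing R K] (A : Type*) [AddCommGroup A] [Module R A] (z : K ⊗[R] A) :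
    ∃ s : R, s ≠ 0 ∧ ∃ a : A, s • z = (1 : K) ⊗ₜ[R] a := by
  induction z using TensorProduct.induction_on with
  | zero => exact ⟨1, one_ne_zero, 0, by simp⟩
  | tmul k a =>
    obtain ⟨⟨r, s⟩, hrs⟩ := IsLocalization.surj (nonZeroDivisors R) k
    refine ⟨s, nonZeroDivisors.ne_zero s.2, r • a, ?_⟩
    rw [TensorProduct.smul_tmul', TensorProduct.tmul_smul, TensorProduct.smul_tmul',
      Algebra.smul_def, Algebra.smul_def, mul_one, mul_comm]
    exact congrArg (· ⊗ₜ[R] a) hrs
  | add z1 z2 h1 h2 =>
    obtain ⟨s1, hs1, a1, e1⟩ := h1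
    obtain ⟨s2, hs2, a2, e2⟩ := h2
    refine ⟨s1 * s2, mul_ne_zero hs1 hs2, s2 • a1 + s1 • a2, ?_⟩
    rw [smul_add, mul_comm s1 s2, mul_smul, e1, mul_comm s2 s1, mul_smul, e2,
      TensorProduct.tmul_add, TensorProduct.tmul_smul, TensorProduct.tmul_smul]

/-- Let R be a domain with fraction field K, let A → B be a homomorphism of commutative R-algebras that
are flat over R, with B module-finite over A, such that the induced map K ⊗_R A → K ⊗_R B is
bijective. If the A-linear map Hom_A(B, A) → A evaluating at 1 is surjective, then A → B is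
bijective. (The published statement concerns a finite morphism of flat schemes over a discrete
valuation ring, with locally free relative dualizing sheaves, that is an isomorphism over a
schematically dense open and whose trace map on dualizing sheaves is surjective; this row is the
statement about rings to which the printed proof reduces it and which that proof establishes, and
the argument uses only that R is a domain.) -/
theorem result
    (R K A B : Type u) [CommRing R] [IsDomain R] [Field K] [Algebra R K] [IsFractionRing R K]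
    [CommRing A] [CommRing B] [Algebra R A] [Algebra R B] [Algebra A B] [IsScalarTower R A B]
    [Module.Flat R A] [Module.Flat R B] [Module.Finite A B]
    (hK : Function.Bijective
      (Algebra.TensorProduct.map (AlgHom.id R K) (IsScalarTower.toAlgHom R A B)))
    (htr : Function.Surjective (fun u : B →ₗ[A] A => u 1)) :
    Function.Bijective (algebraMap A B) := by
  have hjA := one_tmul_injective R K A
  have hjB := one_tmul_injective R K B
  set Φ := Algebra.TensorProduct.map (AlgHom.id R K) (IsScalarTower.toAlgHom R A B) with hΦ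
  have hΦ1 : ∀ a : A, Φ ((1 : K) ⊗ₜ[R] a) = (1 : K) ⊗ₜ[R] (algebraMap A B a) := by
    intro a
    rw [hΦ, Algebra.TensorProduct.map_tmul]
    rfl
  have htf : ∀ (s : R) (x : B), s ≠ 0 → s • x = 0 → x = 0 := by
    intro s x hs hsx
    apply hjB
    show (1 : K) ⊗ₜ[R] x = (1 : K) ⊗ₜ[R] (0 : B)
    rw [TensorProduct.tmul_zero]
    have hsK : algebraMap R K s ≠ 0 := by
      intro h0
      exact hs ((IsFractionRing.injective R K) (by rw [h0, map_zero]))
    have h1 : (algebraMap R K s) ⊗ₜ[R] x = (0 : TensorProduct R K B) := by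
      have : (algebraMap R K s) ⊗ₜ[R] x = (1 : K) ⊗ₜ[R] (s • x) := by
        rw [TensorProduct.tmul_smul, TensorProduct.smul_tmul', Algebra.smul_def, mul_one]
      rw [this, hsx, TensorProduct.tmul_zero]
    have h2 : ((algebraMap R K s)⁻¹ ⊗ₜ[R] (1 : B)) * ((algebraMap R K s) ⊗ₜ[R] x) =
        (1 : K) ⊗ₜ[R] x := by
      rw [Algebra.TensorProduct.tmul_mul_tmul, inv_mul_cancel₀ hsK, one_mul]
    rw [← h2, h1, mul_zero]
  refine ⟨?_, ?_⟩
  · rw [injective_iff_map_eq_zero]
    intro a ha
    apply hjA
    show (1 : K) ⊗ₜ[R] a = (1 : K) ⊗ₜ[R] (0 : A)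
    rw [TensorProduct.tmul_zero]
    apply hK.1
    rw [hΦ1, ha, TensorProduct.tmul_zero, map_zero]
  · intro b
    obtain ⟨u, hu⟩ := htr 1
    have hu1 : u 1 = 1 := hu
    obtain ⟨z, hz⟩ := hK.2 ((1 : K) ⊗ₜ[R] b)
    obtain ⟨s, hs, a, hsa⟩ := exists_smul_eq_one_tmul R K A z
    have h1 : s • b = algebraMap A B a := by
      apply hjB
      show (1 : K) ⊗ₜ[R] (s • b) = (1 : K) ⊗ₜ[R] (algebraMap A B a)
      rw [← hΦ1, ← hsa, map_smul, hz, TensorProduct.tmul_smul]
    have h2 : a = algebraMap R A s * u b := by
      have e1 : u (s • b) = algebraMap R A s * u b := by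
        rw [← algebraMap_smul A s b, map_smul, smul_eq_mul]
      have e2 : u (algebraMap A B a) = a := by
        rw [Algebra.algebraMap_eq_smul_one, map_smul, hu1, smul_eq_mul, mul_one]
      rw [← e2, ← h1, e1]
    refine ⟨u b, ?_⟩
    have h3 : s • (b - algebraMap A B (u b)) = 0 := by
      rw [smul_sub, h1, h2, map_mul, ← IsScalarTower.algebraMap_apply R A B, Algebra.smul_def, sub_self]
    exact (sub_eq_zero.1 (htf s _ hs h3)).symm

end Groth.Agent.S13041
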