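import Groth.Statements.S13042
import Mathlib

set_option autoImplicit false
universe u
open MaxMod

namespace Groth.Agent.S13042

open MvPolynomial in
/-- Let p be a prime, R a local ring of characteristic p, λ an element of the maximal ideal of R and f ∈
R. Then there is an isomorphism of R-algebras R[W₁, W₂]/(W₁^p − f, W₂^p − f) ≅ R[x, W]/(x^p, W^p −
f) with W₁ ↦ x + W + λ·x·W and W₂ ↦ W; that is, Spec R[W]/(W^p − f) with the action w ↦ x + w + λxw
is a torsor under the group scheme Spec R[x]/(x^p) with law x₁ ∘ x₂ = x₁ + x₂ + λx₁x₂. (The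
published statement is over a complete discrete valuation ring of characteristic p with λ a nonzero
nonunit, and also asserts that for f in the fraction field with negative valuation v(f) > −p·v(λ)
the torsor W^p = f extends to a torsor over R, using the coordinate 1/W; that second case fails: for
p = 2, λ = π a uniformizer and f = 1/π, every model is Spec R[π^a t] with t² = π, and none of these
is a torsor since the coaction sends t to t − π(1 + t)x. Only the case f ∈ R is stated, and the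
argument there uses only that R is local of characteristic p.) -/
theorem result
    (p : ℕ) [Fact p.Prime] (R : Type u) [CommRing R] [IsLocalRing R] [CharP R p]
    (lam f : R) (hlam : lam ∈ IsLocalRing.maximalIdeal R) :
    ∃ e : (MvPolynomial (Fin 2) R ⧸ Ideal.span {(X 0 ^ p - C f : MvPolynomial (Fin 2) R), X 1 ^ p - C f}) ≃ₐ[R]
        (MvPolynomial (Fin 2) R ⧸ Ideal.span {(X 0 ^ p : MvPolynomial (Fin 2) R), X 1 ^ p - C f}),
      e (Ideal.Quotient.mk _ (X 0)) = Ideal.Quotient.mk _ (X 0 + X 1 + C lam * X 0 * X 1) ∧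
      e (Ideal.Quotient.mk _ (X 1)) = Ideal.Quotient.mk _ (X 1) := by
  classical
  haveI : ExpChar (MvPolynomial (Fin 2) R) p := by
    haveI : ExpChar R p := ExpChar.prime (Fact.out : p.Prime)
    infer_instance
  set I₁ : Ideal (MvPolynomial (Fin 2) R) := Ideal.span {(X 0 ^ p - C f : (MvPolynomial (Fin 2) R)), X 1 ^ p - C f} with hI₁
  set I₂ : Ideal (MvPolynomial (Fin 2) R) := Ideal.span {(X 0 ^ p : (MvPolynomial (Fin 2) R)), X 1 ^ p - C f} with hI₂
  -- unit
  have hcu : IsUnit (1 + lam ^ p * f) := by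
    have hmem : -(lam ^ p * f) ∈ nonunits R := by
      rw [← IsLocalRing.mem_maximalIdeal]
      rw [neg_mem_iff]
      apply Ideal.mul_mem_right
      have hp : p ≠ 0 := (Fact.out : p.Prime).ne_zero
      obtain ⟨q, rfl⟩ : ∃ q, p = q + 1 := ⟨p - 1, by omega⟩
      rw [pow_succ]
      exact Ideal.mul_mem_left _ _ hlam
    have := IsLocalRing.isUnit_one_sub_self_of_mem_nonunits _ hmem
    rwa [sub_neg_eq_add] at this
  obtain ⟨cu, hcu'⟩ := hcu
  set ci : R := ((cu⁻¹ : Rˣ) : R) with hci
  have hcci : ci * (1 + lam ^ p * f) = 1 := by rw [hci, ← hcu', Units.inv_mul]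
  have hp1 : p - 1 + 1 = p := Nat.sub_add_cancel (Fact.out : p.Prime).one_le
  -- polynomials
  set E : (MvPolynomial (Fin 2) R) := X 0 + X 1 + C lam * X 0 * X 1 with hE
  set U : (MvPolynomial (Fin 2) R) := (1 + C lam * X 1) ^ (p - 1) * C ci with hU
  set W : (MvPolynomial (Fin 2) R) := (X 0 - X 1) * U with hW
  have hEp : E ^ p = X 0 ^ p + X 1 ^ p + C (lam ^ p) * X 0 ^ p * X 1 ^ p := by
    rw [hE, add_pow_expChar, add_pow_expChar, mul_pow, mul_pow, ← C_pow]
  have hUkey : U * (1 + C lam * X 1) - 1 = C (ci * lam ^ p) * (X 1 ^ p - C f) := by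
    have h1 : U * (1 + C lam * X 1) = (1 + C lam * X 1) ^ p * C ci := by
      rw [hU, ← hp1, pow_succ]; simp only [Nat.add_sub_cancel]; ring
    rw [h1, add_pow_expChar, one_pow, mul_pow]
    have hC : (C ci : (MvPolynomial (Fin 2) R)) * (1 + C lam ^ p * C f) = 1 := by
      rw [← C_pow, ← C_mul, ← C_1, ← C_add, ← C_mul, hcci]
    simp only [C_mul, C_pow]
    linear_combination hC
  have hU1 : U * (1 + C lam * X 1) - 1 ∈ I₁ := by
    rw [hUkey]
    exact Ideal.mul_mem_left _ _ (Ideal.subset_span (by simp))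
  have hU2 : U * (1 + C lam * X 1) - 1 ∈ I₂ := by
    rw [hUkey]
    exact Ideal.mul_mem_left _ _ (Ideal.subset_span (by simp))
  -- forward
  let φ₀ : (MvPolynomial (Fin 2) R) →ₐ[R] (MvPolynomial (Fin 2) R) := aeval ![E, X 1]
  let φ : (MvPolynomial (Fin 2) R) →ₐ[R] (MvPolynomial (Fin 2) R) ⧸ I₂ := (Ideal.Quotient.mkₐ R I₂).comp φ₀
  have hφ : ∀ g ∈ I₁, φ g = 0 := by
    intro g hg
    have hle : I₁ ≤ RingHom.ker φ.toRingHom := by
      rw [hI₁, Ideal.span_le]
      intro g hg
      simp only [Set.mem_insert_iff, Set.mem_singleton_iff] at hg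
      rw [SetLike.mem_coe, RingHom.mem_ker]
      change Ideal.Quotient.mk I₂ (φ₀ g) = 0
      rw [Ideal.Quotient.eq_zero_iff_mem]
      rcases hg with rfl | rfl
      · simp only [φ₀, map_sub, map_pow, aeval_X, aeval_C, Matrix.cons_val_zero]
        rw [hEp]
        have : X 0 ^ p + X 1 ^ p + C (lam ^ p) * X 0 ^ p * X 1 ^ p - (algebraMap R (MvPolynomial (Fin 2) R)) f
            = (1 + C (lam ^ p) * X 1 ^ p) * X 0 ^ p + (X 1 ^ p - C f) := by
          rw [MvPolynomial.algebraMap_eq]; ring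
        rw [this]
        exact Ideal.add_mem _ (Ideal.mul_mem_left _ _ (Ideal.subset_span (by simp)))
          (Ideal.subset_span (by simp))
      · simp only [φ₀, map_sub, map_pow, aeval_X, aeval_C, Matrix.cons_val_one, Matrix.cons_val_zero, Matrix.cons_val_fin_one,
          MvPolynomial.algebraMap_eq]
        exact Ideal.subset_span (by simp)
    exact hle hg
  let φb : ((MvPolynomial (Fin 2) R) ⧸ I₁) →ₐ[R] ((MvPolynomial (Fin 2) R) ⧸ I₂) := Ideal.Quotient.liftₐ I₁ φ hφ
  -- backward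
  let ψ₀ : (MvPolynomial (Fin 2) R) →ₐ[R] (MvPolynomial (Fin 2) R) := aeval ![W, X 1]
  let ψ : (MvPolynomial (Fin 2) R) →ₐ[R] (MvPolynomial (Fin 2) R) ⧸ I₁ := (Ideal.Quotient.mkₐ R I₁).comp ψ₀
  have hψ : ∀ g ∈ I₂, ψ g = 0 := by
    intro g hg
    have hle : I₂ ≤ RingHom.ker ψ.toRingHom := by
      rw [hI₂, Ideal.span_le]
      intro g hg
      simp only [Set.mem_insert_iff, Set.mem_singleton_iff] at hg
      rw [SetLike.mem_coe, RingHom.mem_ker]
      change Ideal.Quotient.mk I₁ (ψ₀ g) = 0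
      rw [Ideal.Quotient.eq_zero_iff_mem]
      rcases hg with rfl | rfl
      · simp only [ψ₀, map_pow, aeval_X, Matrix.cons_val_zero]
        rw [hW, mul_pow, sub_pow_expChar]
        apply Ideal.mul_mem_right
        have : (X 0 : (MvPolynomial (Fin 2) R)) ^ p - X 1 ^ p = (X 0 ^ p - C f) - (X 1 ^ p - C f) := by ring
        rw [this]
        exact Ideal.sub_mem _ (Ideal.subset_span (by simp)) (Ideal.subset_span (by simp))
      · simp only [ψ₀, map_sub, map_pow, aeval_X, aeval_C, Matrix.cons_val_one, Matrix.cons_val_zero, Matrix.cons_val_fin_one,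
          MvPolynomial.algebraMap_eq]
        exact Ideal.subset_span (by simp)
    exact hle hg
  let ψb : ((MvPolynomial (Fin 2) R) ⧸ I₂) →ₐ[R] ((MvPolynomial (Fin 2) R) ⧸ I₁) := Ideal.Quotient.liftₐ I₂ ψ hψ
  -- aeval fixes U
  have hφU : φ₀ U = U := by
    simp only [φ₀, hU, map_mul, map_pow, map_add, map_one, aeval_X, aeval_C, Matrix.cons_val_one, Matrix.cons_val_zero, Matrix.cons_val_fin_one,
      MvPolynomial.algebraMap_eq]
  have hψU : ψ₀ (1 + C lam * X 1) = 1 + C lam * X 1 := by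
    simp only [ψ₀, map_mul, map_add, map_one, aeval_X, aeval_C, Matrix.cons_val_one, Matrix.cons_val_zero, Matrix.cons_val_fin_one,
      MvPolynomial.algebraMap_eq]
  have hφb : ∀ g : (MvPolynomial (Fin 2) R), φb (Ideal.Quotient.mk I₁ g) = Ideal.Quotient.mk I₂ (φ₀ g) := fun g => rfl
  have hψb : ∀ g : (MvPolynomial (Fin 2) R), ψb (Ideal.Quotient.mk I₂ g) = Ideal.Quotient.mk I₁ (ψ₀ g) := fun g => rfl
  have h12 : φb.comp ψb = AlgHom.id R ((MvPolynomial (Fin 2) R) ⧸ I₂) := by
    apply Ideal.Quotient.algHom_ext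
    apply MvPolynomial.algHom_ext
    intro i
    change φb (ψb (Ideal.Quotient.mk I₂ (X i))) = Ideal.Quotient.mk I₂ (X i)
    rw [hψb, hφb]
    fin_cases i
    · simp only [Fin.zero_eta, ψ₀, aeval_X, Matrix.cons_val_zero]
      rw [hW, map_mul, hφU]
      simp only [φ₀, map_sub, aeval_X, Matrix.cons_val_zero, Matrix.cons_val_one, Matrix.cons_val_fin_one]
      rw [Ideal.Quotient.eq]
      have : (E - X 1) * U - X 0 = X 0 * (U * (1 + C lam * X 1) - 1) := by rw [hE]; ring
      rw [this]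
      exact Ideal.mul_mem_left _ _ hU2
    · simp [ψ₀, φ₀]
  have h21 : ψb.comp φb = AlgHom.id R ((MvPolynomial (Fin 2) R) ⧸ I₁) := by
    apply Ideal.Quotient.algHom_ext
    apply MvPolynomial.algHom_ext
    intro i
    change ψb (φb (Ideal.Quotient.mk I₁ (X i))) = Ideal.Quotient.mk I₁ (X i)
    rw [hφb, hψb]
    fin_cases i
    · simp only [Fin.zero_eta, φ₀, aeval_X, Matrix.cons_val_zero]
      have hψE : ψ₀ E = W + X 1 + C lam * W * X 1 := by
        rw [hE]
        simp only [ψ₀, map_add, map_mul, aeval_X, aeval_C, Matrix.cons_val_zero, Matrix.cons_val_one,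
          Matrix.cons_val_fin_one, MvPolynomial.algebraMap_eq]
      rw [hψE, Ideal.Quotient.eq]
      have : W + X 1 + C lam * W * X 1 - X 0 = (X 0 - X 1) * (U * (1 + C lam * X 1) - 1) := by
        rw [hW]; ring
      rw [this]
      exact Ideal.mul_mem_left _ _ hU1
    · simp [ψ₀, φ₀]
  refine ⟨AlgEquiv.ofAlgHom φb ψb h12 h21, ?_, ?_⟩
  · change φb (Ideal.Quotient.mk I₁ (X 0)) = _
    rw [hφb]
    simp only [φ₀, aeval_X, Matrix.cons_val_zero]
  · change φb (Ideal.Quotient.mk I₁ (X 1)) = _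
    rw [hφb]
    simp only [φ₀, aeval_X, Matrix.cons_val_one, Matrix.cons_val_zero, Matrix.cons_val_fin_one]

end Groth.Agent.S13042
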