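import Groth.Statements.S13046
import Mathlib

set_option autoImplicit false
universe u
open FrobAlg

namespace Groth.Agent.S13046

open TensorProduct in
theorem compat_of_mem_range {R : Type u} [CommRing R] (T : ℕ → Type u)
    [∀ i, AddCommGroup (T i)] [∀ i, Module R (T i)] (F : ∀ i, T (i + 1) →ₗ[R] T i)
    (P : Submodule R (Π i, T i)) (hP : ∀ x, x ∈ P ↔ ∀ i, F i (x (i + 1)) = x i)
    (M : Type u) [AddCommGroup M] [Module R M] (z : M ⊗[R] P) (i : ℕ) :
    LinearMap.lTensor M (F i) (LinearMap.lTensor M (LinearMap.proj (i + 1) ∘ₗ P.subtype) z)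
      = LinearMap.lTensor M (LinearMap.proj i ∘ₗ P.subtype) z := by
  induction z using TensorProduct.induction_on with
  | zero => simp
  | tmul m x =>
    simp only [LinearMap.lTensor_tmul, LinearMap.comp_apply, Submodule.subtype_apply,
      LinearMap.proj_apply]
    rw [(hP x.1).mp x.2 i]
  | add a b ha hb => simp only [map_add, ha, hb]

open TensorProduct in
theorem mem_range_free {R : Type u} [CommRing R] (T : ℕ → Type u)
    [∀ i, AddCommGroup (T i)] [∀ i, Module R (T i)] (F : ∀ i, T (i + 1) →ₗ[R] T i)
    (P : Submodule R (Π i, T i)) (hP : ∀ x, x ∈ P ↔ ∀ i, F i (x (i + 1)) = x i)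
    (J : Type) [Fintype J] (y : Π i, (J →₀ R) ⊗[R] T i)
    (hy : ∀ i, LinearMap.lTensor (J →₀ R) (F i) (y (i + 1)) = y i) :
    ∃ z : (J →₀ R) ⊗[R] P, ∀ i, LinearMap.lTensor (J →₀ R) (LinearMap.proj i ∘ₗ P.subtype) z = y i := by
  classical
  have hnat : ∀ (i : ℕ) (t : (J →₀ R) ⊗[R] T (i + 1)) (j : J),
      TensorProduct.finsuppScalarLeft R (T i) J (LinearMap.lTensor (J →₀ R) (F i) t) j
        = F i (TensorProduct.finsuppScalarLeft R (T (i + 1)) J t j) := by
    intro i t j
    induction t using TensorProduct.induction_on with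
    | zero => simp
    | tmul q n => simp
    | add a b ha hb => simp only [map_add, Finsupp.add_apply, ha, hb]
  let c : J → (Π i, T i) := fun j i => TensorProduct.finsuppScalarLeft R (T i) J (y i) j
  have hc : ∀ j, c j ∈ P := by
    intro j
    rw [hP]
    intro i
    change F i (TensorProduct.finsuppScalarLeft R (T (i + 1)) J (y (i + 1)) j) = _
    rw [← hnat, hy]
  refine ⟨∑ j, (Finsupp.single j (1 : R)) ⊗ₜ[R] (⟨c j, hc j⟩ : P), ?_⟩
  intro i
  apply (TensorProduct.finsuppScalarLeft R (T i) J).injective
  ext j'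
  rw [map_sum, map_sum, Finsupp.finset_sum_apply]
  simp only [LinearMap.lTensor_tmul, LinearMap.comp_apply, Submodule.subtype_apply,
    LinearMap.proj_apply, TensorProduct.finsuppScalarLeft_apply_tmul_apply]
  rw [Finset.sum_eq_single j']
  · simp [c]
  · intro j _ hj
    rw [Finsupp.single_eq_of_ne hj.symm, zero_smul]
  · intro h; exact absurd (Finset.mem_univ _) h

open TensorProduct in
theorem range_iff_compat {R : Type u} [CommRing R] (T : ℕ → Type u)
    [∀ i, AddCommGroup (T i)] [∀ i, Module R (T i)] (F : ∀ i, T (i + 1) →ₗ[R] T i)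
    (P : Submodule R (Π i, T i)) (hP : ∀ x, x ∈ P ↔ ∀ i, F i (x (i + 1)) = x i)
    (M : Type u) [AddCommGroup M] [Module R M] [Module.Finite R M] [Module.Projective R M]
    (y : Π i, M ⊗[R] T i) :
    (∃ z : M ⊗[R] P, ∀ i, LinearMap.lTensor M (LinearMap.proj i ∘ₗ P.subtype) z = y i) ↔
      ∀ i, LinearMap.lTensor M (F i) (y (i + 1)) = y i := by
  constructor
  · rintro ⟨z, hz⟩ i
    rw [← hz, ← hz]
    exact compat_of_mem_range T F P hP M z i
  · intro hy
    obtain ⟨n, f, g, -, -, hfg⟩ := Module.Finite.exists_comp_eq_id_of_projective R M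
    let e := Finsupp.linearEquivFunOnFinite R R (Fin n)
    let s : M →ₗ[R] (Fin n →₀ R) := e.symm.toLinearMap ∘ₗ g
    let r : (Fin n →₀ R) →ₗ[R] M := f ∘ₗ e.toLinearMap
    have hrs : r ∘ₗ s = LinearMap.id := by
      ext m
      simp only [LinearMap.comp_apply, r, s, LinearEquiv.coe_coe, LinearEquiv.apply_symm_apply]
      exact congrArg (fun h => h m) hfg
    have hy' : ∀ i, LinearMap.lTensor (Fin n →₀ R) (F i)
        (LinearMap.rTensor (T (i + 1)) s (y (i + 1))) = LinearMap.rTensor (T i) s (y i) := by
      intro i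
      rw [← LinearMap.comp_apply, LinearMap.lTensor_comp_rTensor, ← LinearMap.rTensor_comp_lTensor,
        LinearMap.comp_apply, hy]
    obtain ⟨z, hz⟩ := mem_range_free T F P hP (Fin n) (fun i => LinearMap.rTensor (T i) s (y i)) hy'
    refine ⟨LinearMap.rTensor P r z, fun i => ?_⟩
    rw [← LinearMap.comp_apply, LinearMap.lTensor_comp_rTensor, ← LinearMap.rTensor_comp_lTensor,
      LinearMap.comp_apply, hz, ← LinearMap.comp_apply, ← LinearMap.rTensor_comp, hrs,
      LinearMap.rTensor_id, LinearMap.id_apply]

open TensorProduct in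
/-- Let p be a prime, R a commutative ring of characteristic p and A a commutative R-algebra of
characteristic p, with Frobenius twists A^{p^i/R} = R ⊗_{F^i,R} A, relative Frobenius maps F_i :
A^{p^{i+1}/R} → A^{p^i/R} and preperfection A^{p^∞/R} = lim_i A^{p^i/R} ⊆ Π_i A^{p^i/R}. For every
finitely generated projective R-module M, a sequence y ∈ Π_i (M ⊗_R A^{p^i/R}) lies in the image of
the natural map M ⊗_R A^{p^∞/R} → Π_i (M ⊗_R A^{p^i/R}), m ⊗ x ↦ (m ⊗ x_i)_i, if and only if (M ⊗
F_i)(y_{i+1}) = y_i for all i: the image is exactly the module of compatible sequences. Together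
with the injectivity of that map, which holds for every projective M, this says that the base change
map M ⊗_R lim_i A^{p^i/R} → lim_i (M ⊗_R A^{p^i/R}) is an isomorphism. (The published statement is
phrased for a finite locally free R-algebra R′ in place of M and identifies the target with the
preperfection of A ⊗_R R′ over R′; the printed argument is the module statement given here, and that
identification is not part of this row; the injectivity half is stated separately for all projective
M.) -/
theorem result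
    (p : ℕ) [Fact p.Prime] (R : Type u) [CommRing R] [CharP R p]
    (A : Type u) [CommRing A] [Algebra R A] [CharP A p]
    (M : Type u) [AddCommGroup M] [Module R M] [Module.Finite R M] [Module.Projective R M]
    (y : Π i : ℕ, M ⊗[R] W4c1imperftorsors.Twist p R A i) :
    y ∈ LinearMap.range
        (LinearMap.pi fun i : ℕ =>
        LinearMap.lTensor M
          (((Pi.evalAlgHom R (fun k => W4c1imperftorsors.Twist p R A k) i).comp
            (W4c1imperftorsors.prePerf p R A).val).toLinearMap) :
        M ⊗[R] ↥(W4c1imperftorsors.prePerf p R A) →ₗ[R] (Π i : ℕ, M ⊗[R] W4c1imperftorsors.Twist p R A i)) ↔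
      ∀ i : ℕ, LinearMap.lTensor M (W4c1imperftorsors.relFrob p R A i).toLinearMap (y (i + 1)) = y i := by
  have hP : ∀ x : (Π i, W4c1imperftorsors.Twist p R A i),
      x ∈ Subalgebra.toSubmodule (W4c1imperftorsors.prePerf p R A) ↔
        ∀ i, (W4c1imperftorsors.relFrob p R A i).toLinearMap (x (i + 1)) = x i := by
    intro x
    rw [Subalgebra.mem_toSubmodule, W4c1imperftorsors.prePerf, Algebra.mem_iInf]
    rfl
  have key := range_iff_compat (R := R) (fun k => W4c1imperftorsors.Twist p R A k)
    (fun i => (W4c1imperftorsors.relFrob p R A i).toLinearMap)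
    (Subalgebra.toSubmodule (W4c1imperftorsors.prePerf p R A)) hP M y
  rw [← key]
  constructor
  · rintro ⟨z, hz⟩
    refine ⟨z, fun i => ?_⟩
    rw [← hz]
    rfl
  · rintro ⟨z, hz⟩
    refine ⟨z, ?_⟩
    funext i
    rw [← hz]
    rfl

end Groth.Agent.S13046
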