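import Groth.Statements.S13048
import Mathlib

set_option autoImplicit false
universe u
open FrobAlg

namespace Groth.Agent.S13048

/-- Let k be an algebraically closed field of characteristic p > 0 and let A be a reduced finitely
generated commutative k-algebra with connected spectrum (A ≠ 0 and 0, 1 are its only idempotents).
If x ∈ A is a p^n-th power in A for every n ≥ 0, then x lies in the image of k; that is, ⋂_n A^{p^n}
= k. (The published statement is: for an artinian local ring R of characteristic p and a flat
R-algebra A of finite type, the maps A^ét → O(π₀(A)) → A^{p^∞/R} from the largest étale subalgebra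
to the preperfection are isomorphisms. This row is the case R = k algebraically closed and A reduced
with connected spectrum, where A^ét = k and the preperfection is ⋂_n A^{p^n}; the printed proof
reduces to this case and its last step proves it.) -/
theorem result
    (p : ℕ) [Fact p.Prime] (k : Type u) [Field k] [IsAlgClosed k] [CharP k p]
    (A : Type u) [CommRing A] [Algebra k A] [Algebra.FiniteType k A] [IsReduced A] [Nontrivial A]
    (hconn : ∀ e : A, IsIdempotentElem e → e = 0 ∨ e = 1)
    (x : A) (hx : ∀ n : ℕ, ∃ a : A, a ^ p ^ n = x) :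
    x ∈ (algebraMap k A).range := by
  classical
  have hpp : p.Prime := Fact.out
  haveI : CharP A p := charP_of_injective_algebraMap (algebraMap k A).injective p
  haveI : IsNoetherianRing A := Algebra.FiniteType.isNoetherianRing k A
  -- residue fields at maximal ideals are k
  have hres : ∀ (m : Ideal A), m.IsMaximal → ∀ z : A, ∃ c : k, z - algebraMap k A c ∈ m := by
    intro m hm z
    letI := Ideal.Quotient.field m
    haveI : Algebra.FiniteType k (A ⧸ m) :=
      Algebra.FiniteType.of_surjective (Ideal.Quotient.mkₐ k m) (Ideal.Quotient.mkₐ_surjective k m)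
    haveI : Module.Finite k (A ⧸ m) := finite_of_finite_type_of_isJacobsonRing k (A ⧸ m)
    haveI : Algebra.IsIntegral k (A ⧸ m) := Algebra.IsIntegral.of_finite k (A ⧸ m)
    obtain ⟨c, hc⟩ := (IsAlgClosed.algebraMap_bijective_of_isIntegral (k := k) (K := A ⧸ m)).2
      (Ideal.Quotient.mk m z)
    refine ⟨c, ?_⟩
    rw [← Ideal.Quotient.eq_zero_iff_mem, map_sub, ← hc, sub_eq_zero]
    rfl
  obtain ⟨m0, hm0⟩ := Ideal.exists_maximal A
  obtain ⟨c, hc⟩ := hres m0 hm0 x
  set y : A := x - algebraMap k A c with hy
  -- y is a p^n-th power for all n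
  have hypow : ∀ n : ℕ, ∃ b : A, b ^ p ^ n = y := by
    intro n
    obtain ⟨a, ha⟩ := hx n
    obtain ⟨cn, hcn⟩ := IsAlgClosed.exists_pow_nat_eq c (pow_pos hpp.pos n)
    refine ⟨a - algebraMap k A cn, ?_⟩
    rw [sub_pow_char_pow, ha, ← map_pow, hcn]
  -- Krull: at a maximal ideal containing y, y is killed by an element outside
  have hkrull : ∀ (m : Ideal A), m.IsMaximal → y ∈ m → ∃ s : A, s ∉ m ∧ s * y = 0 := by
    intro m hm hym
    have hmem : y ∈ (⨅ i : ℕ, m ^ i • ⊤ : Submodule A A) := by
      rw [Submodule.mem_iInf]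
      intro i
      obtain ⟨b, hb⟩ := hypow i
      have hbm : b ∈ m := hm.isPrime.mem_of_pow_mem _ (hb ▸ hym)
      have h1 : y ∈ m ^ (p ^ i) := hb ▸ Ideal.pow_mem_pow hbm _
      have h2 : m ^ (p ^ i) ≤ m ^ i :=
        Ideal.pow_le_pow_right (Nat.lt_pow_self hpp.one_lt).le
      simpa using h2 h1
    obtain ⟨r, hr⟩ := (Ideal.mem_iInf_smul_pow_eq_bot_iff m y).1 hmem
    refine ⟨1 - r, ?_, ?_⟩
    · intro h
      apply hm.ne_top
      rw [Ideal.eq_top_iff_one]
      have := m.add_mem h r.2
      simpa using this
    · rw [sub_mul, one_mul, ← smul_eq_mul (r : A) y, hr, sub_self]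
  -- Ann(y) + (y) = A
  have htop : (Ideal.span {y} : Ideal A) ⊔ (Submodule.span A {y}).annihilator = ⊤ := by
    by_contra hne
    obtain ⟨m, hm, hle⟩ := Ideal.exists_le_maximal _ hne
    have hym : y ∈ m := hle (Ideal.mem_sup_left (Ideal.subset_span rfl))
    obtain ⟨s, hs, hsy⟩ := hkrull m hm hym
    apply hs
    apply hle
    apply Ideal.mem_sup_right
    rw [Submodule.mem_annihilator_span_singleton]
    exact hsy
  have h1 : (1 : A) ∈ (Ideal.span {y} : Ideal A) ⊔ (Submodule.span A {y}).annihilator := by
    rw [htop]; trivial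
  rw [Submodule.mem_sup] at h1
  obtain ⟨u, hu, α, hα, huα⟩ := h1
  rw [Ideal.mem_span_singleton'] at hu
  obtain ⟨β, rfl⟩ := hu
  rw [Submodule.mem_annihilator_span_singleton, smul_eq_mul] at hα
  have hyy : y = β * y * y := by
    have := congrArg (· * y) huα
    simp only [add_mul, hα, add_zero, one_mul] at this
    exact this.symm
  have hidem : IsIdempotentElem (β * y) := by
    unfold IsIdempotentElem
    calc β * y * (β * y) = β * (β * y * y) := by ring
      _ = β * y := by rw [← hyy]
  have hy0 : y = 0 := by
    rcases hconn _ hidem with h | h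
    · rw [hyy, h, zero_mul]
    · exfalso
      apply hm0.ne_top
      rw [Ideal.eq_top_iff_one, ← h]
      exact m0.mul_mem_left β hc
  refine ⟨c, ?_⟩
  rw [hy, sub_eq_zero] at hy0
  exact hy0.symm

end Groth.Agent.S13048
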