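import Groth.Statements.S13049
import Mathlib.Tactic

set_option autoImplicit false
universe u
open FrobAlg

namespace Groth.Agent.S13049

theorem coeff_add_pow (p : ℕ) [Fact p.Prime] (R : Type u) [CommRing R] [CharP R p] (f : Perfection R p) :
    ∀ e n : ℕ, Perfection.coeff R p (n + e) f ^ p ^ e = Perfection.coeff R p n f := by
  intro e
  induction e with
  | zero => intro n; rw [pow_zero, pow_one, add_zero]
  | succ e ih =>
    intro n
    rw [pow_succ', pow_mul, ← add_assoc, Perfection.coeff_pow_p', ih]


/-- Let p be a prime and A a commutative ring of characteristic p whose nilradical N satisfies x^(p^e) =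
0 for all x ∈ N and some fixed e (for instance A Noetherian). Then the map between the inverse-limit
perfections along the absolute Frobenius, lim (⋯ → A → A) → lim (⋯ → A/N → A/N), induced by the
projection A → A/N, is bijective. (The published argument takes A of finite type over a field, where
the nilradical is finitely generated; this row assumes only that the nilradical is killed by one
fixed iterate of Frobenius, which is all that argument uses.) -/
theorem result
    (p : ℕ) [Fact p.Prime] (A : Type u) [CommRing A] [CharP A p]
    [CharP (A ⧸ nilradical A) p] (e : ℕ) (he : ∀ x ∈ nilradical A, x ^ p ^ e = 0) :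
    Function.Bijective (Perfection.map p (Ideal.Quotient.mk (nilradical A))) := by
  have hmem : ∀ a : A, Ideal.Quotient.mk (nilradical A) a = 0 → a ^ p ^ e = 0 := fun a ha =>
    he a (Ideal.Quotient.eq_zero_iff_mem.1 ha)
  constructor
  · rw [injective_iff_map_eq_zero]
    intro f hf
    apply Perfection.ext
    intro n
    rw [map_zero, ← coeff_add_pow p A f e n]
    apply hmem
    have := congrArg (Perfection.coeff (A ⧸ nilradical A) p (n + e)) hf
    rw [Perfection.coeff_map, map_zero] at this
    exact this
  · intro g
    choose y hy using fun n => Ideal.Quotient.mk_surjective (Perfection.coeff (A ⧸ nilradical A) p n g)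
    have hx : ∀ n, (y (n + 1 + e) ^ p ^ e) ^ p = y (n + e) ^ p ^ e := by
      intro n
      rw [← pow_mul, mul_comm, pow_mul]
      have hdiff : (y (n + 1 + e) ^ p - y (n + e)) ^ p ^ e = 0 := by
        apply hmem
        rw [map_sub, map_pow, hy, hy, add_right_comm, Perfection.coeff_pow_p', sub_self]
      rw [sub_pow_char_pow] at hdiff
      exact sub_eq_zero.1 hdiff
    refine ⟨⟨fun n => y (n + e) ^ p ^ e, hx⟩, ?_⟩
    apply Perfection.ext
    intro n
    rw [Perfection.coeff_map, Perfection.coeff_mk, map_pow, hy, coeff_add_pow]

end Groth.Agent.S13049
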