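import Groth.Statements.S13052
import Groth.Agent.Helper8.ZMul

set_option autoImplicit false
universe u
open CategoryTheory AlgebraicGeometry
open Zeta

namespace Groth.Agent.S13052

/-- If X is a scheme of finite type over a finite field k, Y ↪ X a closed subscheme and U = X ∖ Y its
open complement, then Z(X, t) = Z(Y, t) · Z(U, t). Here Y is any scheme with a closed immersion into
X whose image is the complement of U (its scheme structure plays no role), and Y, U are k-schemes
through X. -/
theorem result {k : Type u} [Field k] [Finite k]
    {X Y : Scheme.{u}} (f : X ⟶ Spec (CommRingCat.of k)) [LocallyOfFiniteType f] [QuasiCompact f]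
    (U : X.Opens) (i : Y ⟶ X) [IsClosedImmersion i] (hY : Set.range i.base = (U : Set X)ᶜ) :
    Zeta.zetaFun f = Zeta.zetaFun (i ≫ f) * Zeta.zetaFun (U.ι ≫ f) := by
  let Ys : Bool → Scheme.{u} := fun b => Bool.rec (↑U : Scheme.{u}) Y b
  let gs : ∀ b, Ys b ⟶ X := fun b => Bool.rec (motive := fun b => Ys b ⟶ X) U.ι i b
  haveI : ∀ b, IsImmersion (gs b) := fun b => by
    cases b
    · show IsImmersion U.ι
      infer_instance
    · show IsImmersion i
      infer_instance
  have hpart : ∀ x : X, IsClosed ({x} : Set X) → ∃! b, x ∈ Set.range (gs b).base := by
    intro x _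
    by_cases hx : x ∈ U
    · refine ⟨false, ?_, ?_⟩
      · show x ∈ Set.range U.ι.base
        rw [Scheme.Opens.range_ι]
        exact hx
      · intro b hb
        cases b
        · rfl
        · exfalso
          have h1 : x ∈ Set.range i.base := hb
          rw [hY] at h1
          exact h1 hx
    · refine ⟨true, ?_, ?_⟩
      · show x ∈ Set.range i.base
        rw [hY]
        exact hx
      · intro b hb
        cases b
        · exfalso
          have h1 : x ∈ Set.range U.ι.base := hb
          rw [Scheme.Opens.range_ι] at h1
          exact hx h1
        · rfl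
  have h := @Groth.Agent.Helper8.ZMul.zetaFun_eq_prod k _ X f _ _ _ Bool _ Ys gs this hpart
  rw [Fintype.prod_bool] at h
  exact h

end Groth.Agent.S13052
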