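import Groth.Statements.S13057
import Mathlib

set_option autoImplicit false
universe u
open Zeta

namespace Groth.Agent.S13057

/-- A power series f = ∑_{m ≥ 0} a_m t^m over a field L lies in L(t), i.e. f · Q = P for some
polynomials P, Q with Q ≠ 0, if and only if there are natural numbers M, N such that the vectors
(a_i, a_{i+1}, …, a_{i+N}) ∈ L^{N+1}, i ≥ M, span a proper subspace. -/
theorem result {L : Type u} [Field L]
    (f : PowerSeries L) :
    (∃ P Q : Polynomial L, Q ≠ 0 ∧ f * (Q : PowerSeries L) = (P : PowerSeries L)) ↔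
      ∃ M N : ℕ, Submodule.span L
          {v : Fin (N + 1) → L | ∃ i : ℕ, M ≤ i ∧ v = fun j : Fin (N + 1) => PowerSeries.coeff (i + (j : ℕ)) f} ≠ ⊤ := by
  classical
  constructor
  · rintro ⟨P, Q, hQ, hfQ⟩
    set d := Q.natDegree with hd
    refine ⟨P.natDegree + 1, d, ?_⟩
    -- the functional
    let ℓ : (Fin (d + 1) → L) →ₗ[L] L :=
      ∑ j : Fin (d + 1), Q.coeff (d - (j : ℕ)) • LinearMap.proj j
    have hℓ : ∀ v : Fin (d + 1) → L, ℓ v = ∑ j : Fin (d + 1), Q.coeff (d - (j : ℕ)) * v j := by
      intro v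
      simp [ℓ, LinearMap.sum_apply]
    have hcoef : ∀ n : ℕ, d ≤ n → PowerSeries.coeff n (f * (Q : PowerSeries L)) =
        ∑ b ∈ Finset.range (d + 1), Q.coeff b * PowerSeries.coeff (n - b) f := by
      intro n hn
      have hQs : (Q : PowerSeries L) =
          ∑ b ∈ Finset.range (d + 1), PowerSeries.C (Q.coeff b) * PowerSeries.X ^ b := by
        conv_lhs => rw [Q.as_sum_range_C_mul_X_pow]
        rw [← Polynomial.coeToPowerSeries.ringHom_apply, map_sum]
        refine Finset.sum_congr rfl fun b _ => ?_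
        simp
      rw [hQs, Finset.mul_sum, map_sum]
      refine Finset.sum_congr rfl fun b hb => ?_
      have hb' : b ≤ n := by
        have := Finset.mem_range.1 hb
        omega
      rw [mul_left_comm, PowerSeries.coeff_C_mul, PowerSeries.coeff_mul_X_pow', if_pos hb']
    have hker : Submodule.span L
          {v : Fin (d + 1) → L | ∃ i : ℕ, P.natDegree + 1 ≤ i ∧
            v = fun j : Fin (d + 1) => PowerSeries.coeff (i + (j : ℕ)) f} ≤ LinearMap.ker ℓ := by
      rw [Submodule.span_le]
      rintro v ⟨i, hi, rfl⟩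
      rw [SetLike.mem_coe, LinearMap.mem_ker, hℓ]
      have h1 := hcoef (i + d) (by omega)
      rw [hfQ, Polynomial.coeff_coe, Polynomial.coeff_eq_zero_of_natDegree_lt (by omega)] at h1
      rw [h1, ← Finset.sum_range_reflect, Fin.sum_univ_eq_sum_range
        (fun j => Q.coeff (d - j) * PowerSeries.coeff (i + j) f) (d + 1)]
      refine Finset.sum_congr rfl fun j hj => ?_
      have hj' := Finset.mem_range.1 hj
      have e1 : d + 1 - 1 - j = d - j := by omega
      have e2 : i + d - (d - j) = i + j := by omega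
      rw [e1, e2]
    intro htop
    rw [htop, top_le_iff, LinearMap.ker_eq_top] at hker
    have h0 : ℓ (Pi.single 0 1) = 0 := by rw [hker]; rfl
    rw [hℓ, Finset.sum_eq_single (0 : Fin (d + 1))] at h0
    · simp only [Fin.val_zero, Nat.sub_zero, Pi.single_eq_same, mul_one] at h0
      exact hQ (Polynomial.leadingCoeff_eq_zero.1 h0)
    · intro j _ hj
      rw [Pi.single_eq_of_ne hj, mul_zero]
    · intro h; exact absurd (Finset.mem_univ _) h
  · rintro ⟨M, N, hspan⟩
    obtain ⟨ℓ, hℓ0, hℓ⟩ := Submodule.exists_le_ker_of_lt_top _ (lt_top_iff_ne_top.2 hspan)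
    set c : Fin (N + 1) → L := fun j => ℓ (Pi.single j 1) with hc
    have hℓv : ∀ v : Fin (N + 1) → L, ℓ v = ∑ j, v j * c j := by
      intro v
      rw [LinearMap.pi_apply_eq_sum_univ]
      refine Finset.sum_congr rfl fun j _ => ?_
      rw [smul_eq_mul]
      congr 2
      ext k
      simp [Pi.single_apply, eq_comm]
    have hc0 : ∃ j0, c j0 ≠ 0 := by
      by_contra hcon
      push Not at hcon
      apply hℓ0
      refine LinearMap.ext fun v => ?_
      rw [hℓv]
      simp [hcon]
    obtain ⟨j0, hj0⟩ := hc0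
    set Q : Polynomial L := ∑ j : Fin (N + 1), Polynomial.C (c j) * Polynomial.X ^ (N - (j : ℕ)) with hQ
    have hQ0 : Q ≠ 0 := by
      intro h0
      have h1 : Q.coeff (N - (j0 : ℕ)) = c j0 := by
        rw [hQ, Polynomial.finset_sum_coeff, Finset.sum_eq_single j0]
        · rw [Polynomial.coeff_C_mul_X_pow, if_pos rfl]
        · intro j _ hj
          rw [Polynomial.coeff_C_mul_X_pow, if_neg]
          intro h
          apply hj
          have h1 := j.is_lt
          have h2 := j0.is_lt
          exact Fin.ext (by omega)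
        · intro h; exact absurd (Finset.mem_univ _) h
      rw [h0, Polynomial.coeff_zero] at h1
      exact hj0 h1.symm
    have hQs : (Q : PowerSeries L) =
        ∑ j : Fin (N + 1), PowerSeries.C (c j) * PowerSeries.X ^ (N - (j : ℕ)) := by
      rw [hQ, ← Polynomial.coeToPowerSeries.ringHom_apply, map_sum]
      refine Finset.sum_congr rfl fun b _ => ?_
      simp
    have hcoef : ∀ i : ℕ, M ≤ i → PowerSeries.coeff (i + N) (f * (Q : PowerSeries L)) = 0 := by
      intro i hi
      rw [hQs, Finset.mul_sum, map_sum]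
      have hmem : (fun j : Fin (N + 1) => PowerSeries.coeff (i + (j : ℕ)) f) ∈ LinearMap.ker ℓ :=
        hℓ (Submodule.subset_span ⟨i, hi, rfl⟩)
      rw [LinearMap.mem_ker, hℓv] at hmem
      rw [← hmem]
      refine Finset.sum_congr rfl fun j _ => ?_
      have hj := j.is_lt
      have hb' : N - (j : ℕ) ≤ i + N := by omega
      have e2 : i + N - (N - (j : ℕ)) = i + j := by omega
      rw [mul_left_comm, PowerSeries.coeff_C_mul, PowerSeries.coeff_mul_X_pow', if_pos hb', e2,
        mul_comm]
    refine ⟨PowerSeries.trunc (M + N) (f * (Q : PowerSeries L)), Q, hQ0, ?_⟩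
    ext n
    rw [Polynomial.coeff_coe, PowerSeries.coeff_trunc]
    split_ifs with h
    · rfl
    · obtain ⟨i, rfl⟩ : ∃ i, n = i + N := ⟨n - N, by omega⟩
      exact hcoef i (by omega)

end Groth.Agent.S13057
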