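import Groth.Statements.S13058
import Mathlib

set_option autoImplicit false
universe u v
open Zeta

namespace Groth.Agent.S13058

/-- If L'/L is a field extension, a power series f ∈ L⟦t⟧ belongs to L(t) exactly when it belongs to
L'(t); here membership in L(t) means f · Q = P for polynomials P, Q over the field in question with
Q ≠ 0. -/
theorem result {L : Type u} {L' : Type v} [Field L] [Field L']
    [Algebra L L'] (f : PowerSeries L) :
    (∃ P Q : Polynomial L', Q ≠ 0 ∧
        PowerSeries.map (algebraMap L L') f * (Q : PowerSeries L') = (P : PowerSeries L')) ↔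
      ∃ P Q : Polynomial L, Q ≠ 0 ∧ f * (Q : PowerSeries L) = (P : PowerSeries L) := by
  classical
  constructor
  · rintro ⟨P, Q, hQ, hfQ⟩
    -- pick a nonzero coefficient of Q and an L-linear functional not killing it
    obtain ⟨j₀, hj₀⟩ : ∃ j, Q.coeff j ≠ 0 := by
      by_contra h
      exact hQ (Polynomial.ext fun j => by simpa using not_not.1 (not_exists.1 h j))
    obtain ⟨φ, hφ⟩ : ∃ φ : L' →ₗ[L] L, φ (Q.coeff j₀) ≠ 0 :=
      Module.Projective.exists_dual_ne_zero L hj₀
    -- apply φ coefficientwise
    let Q' : Polynomial L := ∑ j ∈ Finset.range (Q.natDegree + 1), Polynomial.monomial j (φ (Q.coeff j))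
    let P' : Polynomial L := ∑ j ∈ Finset.range (P.natDegree + 1), Polynomial.monomial j (φ (P.coeff j))
    have hQ' : ∀ j, Q'.coeff j = φ (Q.coeff j) := by
      intro j
      simp only [Q', Polynomial.finsetSum_coeff, Polynomial.coeff_monomial]
      by_cases hj : j < Q.natDegree + 1
      · rw [Finset.sum_eq_single j]
        · simp
        · intro b _ hb; rw [if_neg hb]
        · intro h; exact absurd (Finset.mem_range.2 hj) h
      · rw [Finset.sum_eq_zero, Polynomial.coeff_eq_zero_of_natDegree_lt (by omega), map_zero]
        intro b hb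
        rw [Finset.mem_range] at hb
        rw [if_neg (by omega)]
    have hP' : ∀ j, P'.coeff j = φ (P.coeff j) := by
      intro j
      simp only [P', Polynomial.finsetSum_coeff, Polynomial.coeff_monomial]
      by_cases hj : j < P.natDegree + 1
      · rw [Finset.sum_eq_single j]
        · simp
        · intro b _ hb; rw [if_neg hb]
        · intro h; exact absurd (Finset.mem_range.2 hj) h
      · rw [Finset.sum_eq_zero, Polynomial.coeff_eq_zero_of_natDegree_lt (by omega), map_zero]
        intro b hb
        rw [Finset.mem_range] at hb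
        rw [if_neg (by omega)]
    refine ⟨P', Q', ?_, ?_⟩
    · intro h
      apply hφ
      rw [← hQ', h, Polynomial.coeff_zero]
    · ext m
      have h1 := congrArg (PowerSeries.coeff m) hfQ
      rw [PowerSeries.coeff_mul] at h1 ⊢
      simp only [PowerSeries.coeff_map, Polynomial.coeff_coe] at h1 ⊢
      rw [hP', ← h1, map_sum]
      refine Finset.sum_congr rfl fun x _ => ?_
      rw [hQ', Algebra.algebraMap_eq_smul_one, smul_mul_assoc, one_mul, map_smul, smul_eq_mul]
  · rintro ⟨P, Q, hQ, hfQ⟩
    refine ⟨P.map (algebraMap L L'), Q.map (algebraMap L L'), ?_, ?_⟩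
    · rwa [Ne, Polynomial.map_eq_zero_iff (algebraMap L L').injective]
    · rw [Polynomial.polynomial_map_coe, Polynomial.polynomial_map_coe, ← map_mul, hfQ]

end Groth.Agent.S13058
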