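import Groth.Statements.S13060
import Mathlib.Tactic

set_option autoImplicit false
universe u v w x
open TensorProduct
open Zeta

namespace Groth.Agent.S13060

/-- Let k be a field, V and W vector spaces over k and G a group acting on V by k-linear automorphisms;
for the induced action on V ⊗_k W (trivial on W) one has (V ⊗_k W)^G = V^G ⊗_k W, i.e. the
invariants of V ⊗ W are the image of V^G ⊗ W → V ⊗ W. -/
theorem result {k : Type u} [Field k] {G : Type v} [Group G]
    {V : Type w} {W : Type x} [AddCommGroup V] [Module k V] [AddCommGroup W] [Module k W]
    (ρ : Representation k G V) :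
    (ρ.tprod (Representation.trivial k G W)).invariants =
      LinearMap.range (TensorProduct.map ρ.invariants.subtype (LinearMap.id : W →ₗ[k] W)) := by
  classical
  let b := Module.Basis.ofVectorSpace k W
  have key : ∀ (g : G) (y : V ⊗[k] W) (i : Module.Basis.ofVectorSpaceIndex k W),
      TensorProduct.equivFinsuppOfBasisRight b (TensorProduct.map (ρ g) LinearMap.id y) i =
        ρ g (TensorProduct.equivFinsuppOfBasisRight b y i) := by
    intro g y i
    induction y using TensorProduct.induction_on with
    | zero => simp
    | tmul v w =>
      rw [TensorProduct.map_tmul, TensorProduct.equivFinsuppOfBasisRight_apply_tmul_apply,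
        TensorProduct.equivFinsuppOfBasisRight_apply_tmul_apply, LinearMap.id_apply, map_smul]
    | add y z hy hz =>
      rw [map_add, map_add, Finsupp.add_apply, hy, hz, map_add, Finsupp.add_apply, map_add]
  have hact : ∀ (g : G) (y : V ⊗[k] W), (ρ.tprod (Representation.trivial k G W)) g y =
      TensorProduct.map (ρ g) LinearMap.id y := by
    intro g y
    rw [Representation.tprod_apply]
    rfl
  ext y
  constructor
  · intro hy
    rw [Representation.mem_invariants] at hy
    have hcomp : ∀ i, TensorProduct.equivFinsuppOfBasisRight b y i ∈ ρ.invariants := by
      intro i g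
      rw [← key g y i, ← hact, hy g]
    rw [← (TensorProduct.equivFinsuppOfBasisRight b).symm_apply_apply y,
      TensorProduct.equivFinsuppOfBasisRight_symm_apply]
    apply Submodule.sum_mem
    intro i _
    exact ⟨(⟨TensorProduct.equivFinsuppOfBasisRight b y i, hcomp i⟩ : ρ.invariants) ⊗ₜ[k] b i, by simp⟩
  · rintro ⟨z, rfl⟩
    rw [Representation.mem_invariants]
    intro g
    rw [hact]
    induction z using TensorProduct.induction_on with
    | zero => simp
    | tmul v w =>
      rw [TensorProduct.map_tmul, TensorProduct.map_tmul, Submodule.subtype_apply, LinearMap.id_apply, LinearMap.id_apply]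
      congr 1
      exact v.2 g
    | add y z hy hz => rw [map_add, map_add, hy, hz]

end Groth.Agent.S13060
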