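import Groth.Statements.S13061
import Groth.Agent.Helper6.InvariantLift

set_option autoImplicit false
universe u v w
open Zeta

namespace Groth.Agent.S13061

/-- Let A be a commutative algebra over a field k, G a finite group acting on A by k-algebra
automorphisms and I ⊆ A an ideal preserved by G. If p^n is the largest power of p = char(k) dividing
|G| (with p^n = 1 when char(k) = 0), then for every G-invariant b ∈ A/I the power b^{p^n} lies in
the image of A^G → (A/I)^G. (The published statement takes A finitely generated over k, which the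
proof does not use.) -/
theorem result {k : Type u} [Field k]
    {A : Type v} [CommRing A] [Algebra k A] {G : Type w} [Group G] [Finite G]
    [MulSemiringAction G A] [SMulCommClass G k A] (I : Ideal A)
    (hI : ∀ (g : G) (a : A), a ∈ I → g • a ∈ I) (u : A) (hu : ∀ g : G, g • u - u ∈ I) :
    ∃ a : A, (∀ g : G, g • a = a) ∧
      Ideal.Quotient.mk I a =
        Ideal.Quotient.mk I u ^ (ringChar k ^ (Nat.card G).factorization (ringChar k)) := by
  classical
  haveI : Fintype G := Fintype.ofFinite G
  rw [Nat.card_eq_fintype_card]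
  have hn0 : Fintype.card G ≠ 0 := Fintype.card_ne_zero
  have key : ringChar k ^ (Fintype.card G).factorization (ringChar k) ≤ Fintype.card G ∧
      ((((Fintype.card G).choose (ringChar k ^ (Fintype.card G).factorization (ringChar k)) : ℕ)) : k) ≠ 0 := by
    rcases CharP.char_is_prime_or_zero k (ringChar k) with hpp | hp0
    · haveI : Fact (ringChar k).Prime := ⟨hpp⟩
      refine ⟨Nat.le_of_dvd (Nat.pos_of_ne_zero hn0) (Nat.ordProj_dvd _ _), ?_⟩
      rw [Ne, CharP.cast_eq_zero_iff k (ringChar k)]
      exact Groth.Agent.Helper6.InvariantLift.not_dvd_choose_ordProj (ringChar k) _ hn0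
    · haveI : CharZero k := (CharP.ringChar_zero_iff_CharZero k).1 hp0
      rw [hp0, Nat.factorization_zero_right, pow_zero, Nat.choose_one_right]
      exact ⟨Nat.one_le_iff_ne_zero.2 hn0, Nat.cast_ne_zero.2 hn0⟩
  obtain ⟨hjn, hc⟩ := key
  obtain ⟨a', ha'inv, ha'⟩ := Groth.Agent.Helper6.InvariantLift.exists_invariant_lift_choose I u hu _ hjn
  refine ⟨((((Fintype.card G).choose (ringChar k ^ (Fintype.card G).factorization (ringChar k)) : ℕ)) : k)⁻¹ • a', ?_, ?_⟩
  · intro g
    rw [smul_comm, ha'inv]
  · have h1 : Ideal.Quotient.mk I ((((((Fintype.card G).choose (ringChar k ^ (Fintype.card G).factorization (ringChar k)) : ℕ)) : k)⁻¹) • a') =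
        (((((Fintype.card G).choose (ringChar k ^ (Fintype.card G).factorization (ringChar k)) : ℕ)) : k)⁻¹) • Ideal.Quotient.mk I a' :=
      map_smul (Ideal.Quotient.mkₐ k I) _ _
    rw [h1, ha', ← map_natCast (algebraMap k (A ⧸ I)), ← Algebra.smul_def, smul_smul, inv_mul_cancel₀ hc, one_smul]

end Groth.Agent.S13061
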