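import Groth.Statements.S13065
import Mathlib

set_option autoImplicit false
universe u
open Zeta

namespace Groth.Agent.S13065

/-- Let k be a finite field with q elements and characteristic p, n ≥ 2, and f ∈ k[x_0, …, x_n]
homogeneous of degree n + 1, defining the hypersurface Z ⊂ P^n_k. Then #Z(F_q) ≢ 1 (mod p) if and
only if the coefficient of (x_0 ⋯ x_n)^{q−1} in f^{q−1} is nonzero. Stated through the affine count:
#Z(F_q) ≡ 1 (mod p) exactly when p divides the number of zeros of f in k^{n+1} (as (q − 1) #Z(F_q) +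
1 is that number). -/
theorem result {k : Type u} [Field k] [Finite k] (p : ℕ)
    [CharP k p] (n : ℕ) (hn : 2 ≤ n) (f : MvPolynomial (Fin (n + 1)) k)
    (hf : f.IsHomogeneous (n + 1)) :
    p ∣ Nat.card {a : Fin (n + 1) → k // MvPolynomial.eval a f = 0} ↔
      MvPolynomial.coeff (Finsupp.equivFunOnFinite.symm fun _ : Fin (n + 1) => Nat.card k - 1)
        (f ^ (Nat.card k - 1)) = 0 := by
  classical
  haveI : Fintype k := Fintype.ofFinite k
  have hqc : Nat.card k = Fintype.card k := Nat.card_eq_fintype_card
  rw [hqc]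
  set q := Fintype.card k with hq
  have hq2 : 2 ≤ q := Fintype.one_lt_card
  have hq0 : ((q : ℕ) : k) = 0 := FiniteField.cast_card_eq_zero k
  set d₀ : Fin (n + 1) →₀ ℕ := Finsupp.equivFunOnFinite.symm fun _ : Fin (n + 1) => q - 1 with hd₀
  set F : MvPolynomial (Fin (n + 1)) k := f ^ (q - 1) with hFdef
  have hF : F.IsHomogeneous ((n + 1) * (q - 1)) := hf.pow (q - 1)
  -- power sums over k
  have hpow_top : ∑ a : k, a ^ (q - 1) = -1 := by
    have h1 : ∀ a : k, a ^ (q - 1) = if a = 0 then 0 else 1 := by
      intro a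
      by_cases ha : a = 0
      · rw [if_pos ha, ha, zero_pow (by omega)]
      · rw [if_neg ha, FiniteField.pow_card_sub_one_eq_one a ha]
    simp_rw [h1]
    rw [Finset.sum_ite, Finset.sum_const_zero, zero_add, Finset.sum_const, nsmul_eq_mul, mul_one]
    have h2 : (Finset.univ.filter fun a : k => ¬ a = 0).card = q - 1 := by
      rw [Finset.filter_not, Finset.card_sdiff_of_subset (Finset.subset_univ _), Finset.card_univ]
      have : (Finset.univ.filter fun a : k => a = 0) = {0} := by
        ext a; simp
      rw [this, Finset.card_singleton]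
    rw [h2, Nat.cast_sub (by omega), hq0, Nat.cast_one, zero_sub]
  -- sum over all points of a monomial
  have hmono : ∀ d : Fin (n + 1) →₀ ℕ, d.degree = (n + 1) * (q - 1) →
      ∑ x : Fin (n + 1) → k, ∏ i, x i ^ d i = if d = d₀ then (-1) ^ (n + 1) else 0 := by
    intro d hd
    have e1 : ∑ x : Fin (n + 1) → k, ∏ i, x i ^ d i = ∏ i, ∑ a : k, a ^ d i := by
      rw [Finset.prod_univ_sum, Fintype.piFinset_univ]
    rw [e1]
    by_cases hdd : d = d₀
    · rw [if_pos hdd]
      have : ∀ i, d i = q - 1 := by intro i; rw [hdd]; rfl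
      simp_rw [this, hpow_top]
      rw [Finset.prod_const, Finset.card_univ, Fintype.card_fin]
    · rw [if_neg hdd]
      have hex : ∃ i, d i < q - 1 := by
        by_contra hcon
        push Not at hcon
        apply hdd
        have hsum : ∑ i, d i = ∑ _i : Fin (n + 1), (q - 1) := by
          rw [Finset.sum_const, Finset.card_univ, Fintype.card_fin, smul_eq_mul, ← hd,
            Finsupp.degree_eq_sum]
        have := (Finset.sum_eq_sum_iff_of_le (fun i _ => hcon i)).1 hsum.symm
        ext i
        rw [← this i (Finset.mem_univ i)]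
        rfl
      obtain ⟨i, hi⟩ := hex
      exact Finset.prod_eq_zero (Finset.mem_univ i) (FiniteField.sum_pow_lt_card_sub_one k _ hi)
  have hsum : ∑ x : Fin (n + 1) → k, MvPolynomial.eval x F =
      (-1) ^ (n + 1) * MvPolynomial.coeff d₀ F := by
    calc ∑ x : Fin (n + 1) → k, MvPolynomial.eval x F
        = ∑ x : Fin (n + 1) → k, ∑ d ∈ F.support, F.coeff d * ∏ i, x i ^ d i := by
          simp only [MvPolynomial.eval_eq']
      _ = ∑ d ∈ F.support, ∑ x : Fin (n + 1) → k, F.coeff d * ∏ i, x i ^ d i := Finset.sum_comm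
      _ = ∑ d ∈ F.support, F.coeff d * (if d = d₀ then (-1) ^ (n + 1) else 0) := by
          refine Finset.sum_congr rfl fun d hd => ?_
          rw [← Finset.mul_sum, hmono d]
          have := hF (MvPolynomial.mem_support_iff.1 hd)
          rw [Finsupp.degree_eq_weight_one]
          exact this
      _ = (-1) ^ (n + 1) * MvPolynomial.coeff d₀ F := by
          simp only [mul_ite, mul_zero, Finset.sum_ite_eq', MvPolynomial.mem_support_iff]
          by_cases h0 : MvPolynomial.coeff d₀ F = 0
          · rw [h0]; simp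
          · rw [if_pos h0, mul_comm]
  -- the number of zeros, in k
  have hcount : ((Nat.card {a : Fin (n + 1) → k // MvPolynomial.eval a f = 0} : ℕ) : k) =
      ∑ x : Fin (n + 1) → k, (1 - MvPolynomial.eval x F) := by
    rw [Nat.card_eq_fintype_card, Fintype.card_subtype, Finset.natCast_card_filter]
    refine Finset.sum_congr rfl fun x _ => ?_
    rw [hFdef, map_pow]
    by_cases hx : MvPolynomial.eval x f = 0
    · rw [if_pos hx, hx, zero_pow (by omega), sub_zero]
    · rw [if_neg hx, FiniteField.pow_card_sub_one_eq_one _ hx, sub_self]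
  have hcard : ∑ _x : Fin (n + 1) → k, (1 : k) = 0 := by
    rw [Finset.sum_const, Finset.card_univ, Fintype.card_fun, Fintype.card_fin, nsmul_eq_mul,
      mul_one, Nat.cast_pow, hq0, zero_pow (by omega)]
  rw [← CharP.cast_eq_zero_iff k p, hcount, Finset.sum_sub_distrib, hcard, hsum, zero_sub,
    neg_eq_zero]
  constructor
  · intro h
    rcases mul_eq_zero.1 h with h | h
    · exact absurd h (pow_ne_zero _ (neg_ne_zero.2 one_ne_zero))
    · exact h
  · intro h
    rw [h, mul_zero]

end Groth.Agent.S13065
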