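import Groth.Statements.S13066
import Mathlib
import Groth.Agent.Helper6.HasseCoeff

set_option autoImplicit false
universe u
open Zeta

namespace Groth.Agent.S13066

/-- Let k be a finite field with q elements and characteristic p, n ≥ 2, and f ∈ k[x_0, …, x_n]
homogeneous of degree n + 1. Then the coefficient of (x_0 ⋯ x_n)^{q−1} in f^{q−1} is nonzero if and
only if the coefficient of (x_0 ⋯ x_n)^{p−1} in f^{p−1} is nonzero. -/
theorem result {k : Type u} [Field k] [Finite k]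
    (p : ℕ) [CharP k p] (n : ℕ) (hn : 2 ≤ n) (f : MvPolynomial (Fin (n + 1)) k)
    (hf : f.IsHomogeneous (n + 1)) :
    MvPolynomial.coeff (Finsupp.equivFunOnFinite.symm fun _ : Fin (n + 1) => Nat.card k - 1)
        (f ^ (Nat.card k - 1)) ≠ 0 ↔
      MvPolynomial.coeff (Finsupp.equivFunOnFinite.symm fun _ : Fin (n + 1) => p - 1)
        (f ^ (p - 1)) ≠ 0 := by
  classical
  haveI : Fintype k := Fintype.ofFinite k
  obtain ⟨a, hpp, hcard⟩ := FiniteField.card k p
  haveI : Fact p.Prime := ⟨hpp⟩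
  have hq : Nat.card k = p ^ (a : ℕ) := by rw [Nat.card_eq_fintype_card, hcard]
  have hp1 : 1 ≤ p := hpp.one_le
  have hg : (f ^ (p - 1)).IsHomogeneous ((n + 1) * (p - 1)) := hf.pow (p - 1)
  obtain ⟨s, hs1, hs2, hs3⟩ := Groth.Agent.Helper6.HasseCoeff.iter p (f ^ (p - 1)) hg (a : ℕ)
  have hs0 : s ≠ 0 := hs2 a.pos.ne'
  rw [hq, ← hs1, pow_mul]
  have e : (Finsupp.equivFunOnFinite.symm fun _ : Fin (n + 1) => (p - 1) * s) =
      Groth.Agent.Helper6.HasseCoeff.cst n (p ^ (a : ℕ) - 1) := by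
    rw [← hs1]; rfl
  rw [e, hs3]
  exact pow_ne_zero_iff hs0

end Groth.Agent.S13066
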