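import Groth.Statements.S13068
import Groth.Agent.Helper4.SN556
import Groth.Agent.S0002
import Mathlib

set_option autoImplicit false
universe u
open CategoryTheory AlgebraicGeometry
open Zeta

namespace Groth.Agent.S13068


/-- Let X be a smooth, geometrically connected, projective curve of genus g over F_q (here: smooth
proper geometrically irreducible, of dimension one). Then Z(X, t) = f(t) / ((1 − t)(1 − qt)) with f
∈ ℤ[t] of degree ≤ 2g, f(0) = 1 and f(1) = h, where h is the number of isomorphism classes of line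
bundles of degree zero on X (the number of k-points of the Jacobian). -/
theorem result (k : Type u) [Field k] [Finite k]
    (X : Scheme.{u}) [X.Over (Spec (CommRingCat.of k))]
    (hX : Curve.IsSmoothProperCurve k X (X ↘ Spec (CommRingCat.of k)))
    [GeometricallyIrreducible (X ↘ Spec (CommRingCat.of k))] :
    ∃ P : Polynomial ℤ, P.natDegree ≤ 2 * Curv2.genus k X ∧ P.coeff 0 = 1 ∧
      P.eval 1 = Nat.card {c : PicF.Cl X // ∃ L : X.Modules, PicF.cl L = c ∧ PicF.IsInvertible L ∧
          Curv2.deg k X L 1 = 0} ∧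
      Zeta.zetaFun (X ↘ Spec (CommRingCat.of k)) *
          ((1 - PowerSeries.X) * (1 - PowerSeries.C (Nat.card k : ℚ) * PowerSeries.X)) =
        ((P.map (Int.castRingHom ℚ) : Polynomial ℚ) : PowerSeries ℚ) := by

  obtain ⟨hp, hs, hi, hdim⟩ := hX
  haveI := hi
  haveI := hp
  letI := Curv2.stalkAlgebra k X (genericPoint X)
  have hgi : GeometricallyIrreducible (X ↘ Spec (CommRingCat.of k)) := inferInstance
  let pd := Groth.Agent.Helper4.SN554.placeData k X hp hs hgi hdim
  have hK := pd.hK
  obtain ⟨P, hP⟩ := Groth.Agent.Helper6.FFZeta.numerZ_exists_poly hK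
  obtain ⟨-, h0, -⟩ := Groth.Agent.Helper6.FFZeta.numerZ_facts hK
  have hcoh : Coh.IsCoh (Coh.structureModule X) :=
    Groth.Agent.Helper1.SerreFin.isCoh_of_isInvertible _
      Groth.Agent.Helper4.TensorInv.isInvertible_structureModule
  haveI : Module.Finite k (Coh.HH X (Coh.structureModule X) 1) :=
    Groth.Agent.S0002.result k X _ hcoh 1
  have hg : Nat.card (Coh.HH X (Coh.structureModule X) 1) =
      Nat.card k ^ Curv2.genus k X := by
    unfold Curv2.genus
    exact Module.natCard_eq_pow_finrank (K := k)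
  have hgen := Groth.Agent.Helper4.SN548.genus_eq k X hp hs hgi hdim _ hg
  obtain ⟨Φ0, hΦ0⟩ := Groth.Agent.Helper4.SN555.exists_bijective pd 0 0
    (Groth.Agent.Helper4.SN552.deg_zero)
  refine ⟨P, ?_, ?_, ?_, ?_⟩
  · rw [hgen]
    exact Groth.Agent.Helper6.FFZeta.natDegree_le_of_coe_eq hK P hP
  · rw [Groth.Agent.Helper6.FFZeta.coeff_of_coe_eq P hP, h0]
  · rw [Groth.Agent.Helper6.FFZeta.eval_one_eq hK P hP, Nat.card_congr (Equiv.ofBijective Φ0 hΦ0)]
    rfl
  · rw [Groth.Agent.Helper4.SN556.zetaFun_eq k X hp hs hgi hdim, Polynomial.polynomial_map_coe,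
      hP]
    unfold FunFld.numerZ
    rw [map_mul, map_mul, map_sub, map_sub, map_one, map_mul, PowerSeries.map_X,
      PowerSeries.map_C, mul_comm]
    simp

end Groth.Agent.S13068
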