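import Groth.Statements.S13069
import Groth.Agent.Helper4.SN555
import Groth.Agent.Helper4.SN554
import Groth.Agent.Helper6.FFZeta4
import Mathlib

set_option autoImplicit false
universe u
open CategoryTheory AlgebraicGeometry
open Zeta

namespace Groth.Agent.S13069


/-- If X is a smooth, geometrically connected, projective curve over F_q (here: smooth proper
geometrically irreducible of dimension one over a finite field k), then all the sets Pic^m(X) of
isomorphism classes of line bundles of degree m, m ∈ ℤ, have the same finite nonzero number of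
elements. -/
theorem result (k : Type u) [Field k] [Finite k]
    (X : Scheme.{u}) [X.Over (Spec (CommRingCat.of k))]
    (hX : Curve.IsSmoothProperCurve k X (X ↘ Spec (CommRingCat.of k)))
    [GeometricallyIrreducible (X ↘ Spec (CommRingCat.of k))] (m : ℤ) :
    Finite {c : PicF.Cl X // ∃ L : X.Modules, PicF.cl L = c ∧ PicF.IsInvertible L ∧
        Curv2.deg k X L 1 = m} ∧
      Nonempty {c : PicF.Cl X // ∃ L : X.Modules, PicF.cl L = c ∧ PicF.IsInvertible L ∧
        Curv2.deg k X L 1 = m} ∧
      Nat.card {c : PicF.Cl X // ∃ L : X.Modules, PicF.cl L = c ∧ PicF.IsInvertible L ∧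
          Curv2.deg k X L 1 = m} =
        Nat.card {c : PicF.Cl X // ∃ L : X.Modules, PicF.cl L = c ∧ PicF.IsInvertible L ∧
          Curv2.deg k X L 1 = 0} := by

  obtain ⟨hp, hs, hi, hdim⟩ := hX
  haveI := hi
  letI := Curv2.stalkAlgebra k X (genericPoint X)
  have hgi : GeometricallyIrreducible (X ↘ Spec (CommRingCat.of k)) := inferInstance
  let pd := Groth.Agent.Helper4.SN554.placeData k X hp hs hgi hdim
  have hK := pd.hK
  haveI := Groth.Agent.Helper6.FFZeta.finite_pic0 hK
  obtain ⟨Dm, hDm⟩ := Groth.Agent.Helper6.FFZeta.fk_schmidt k X.functionField hK m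
  obtain ⟨Φm, hΦm⟩ := Groth.Agent.Helper4.SN555.exists_bijective pd m Dm hDm
  obtain ⟨Φ0, hΦ0⟩ := Groth.Agent.Helper4.SN555.exists_bijective pd 0 0
    (Groth.Agent.Helper4.SN552.deg_zero)
  refine ⟨Finite.of_injective Φm hΦm.1, ?_, ?_⟩
  · obtain ⟨c, -⟩ := hΦm.2 0
    exact ⟨c⟩
  · rw [Nat.card_congr (Equiv.ofBijective Φm hΦm), Nat.card_congr (Equiv.ofBijective Φ0 hΦ0)]

end Groth.Agent.S13069
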