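import Groth.Statements.S13075
import Mathlib

set_option autoImplicit false
open Zeta

namespace Groth.Agent.S13075

/-- For the formal power series exp(t) = ∑_{m ≥ 0} t^m / m! and log(1 + t) = ∑_{m ≥ 1} (−1)^{m+1} t^m /
m over ℚ, log(exp(u)) = u and exp(log(1 + u)) = 1 + u for every u ∈ tℚ⟦t⟧; stated for u = t (the
general case is obtained by substitution): substituting exp(t) − 1 into log(1 + ·) gives t, and
substituting log(1 + t) into exp gives 1 + t. -/
theorem result :
    PowerSeries.subst (PowerSeries.exp ℚ - 1)
        (PowerSeries.mk fun m : ℕ => if m = 0 then (0 : ℚ) else (-1) ^ (m + 1) / (m : ℚ)) =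
      PowerSeries.X ∧
    PowerSeries.subst (PowerSeries.mk fun m : ℕ => if m = 0 then (0 : ℚ) else (-1) ^ (m + 1) / (m : ℚ))
        (PowerSeries.exp ℚ) = 1 + PowerSeries.X := by
  open PowerSeries in
  classical
  -- identify log
  have hlog : (PowerSeries.mk fun m : ℕ => if m = 0 then (0 : ℚ) else (-1) ^ (m + 1) / (m : ℚ)) =
      PowerSeries.log ℚ := by
    ext n
    simp [PowerSeries.coeff_log]
  rw [hlog]
  -- geometric series
  let geo : PowerSeries ℚ := PowerSeries.mk fun n => algebraMap ℚ ℚ ((-1 : ℚ) ^ n)
  have hgeo : (1 + PowerSeries.X) * geo = 1 := by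
    ext n
    rw [add_mul, one_mul, map_add]
    cases n with
    | zero => simp [geo]
    | succ n =>
      rw [PowerSeries.coeff_succ_X_mul]
      simp only [geo, PowerSeries.coeff_mk, PowerSeries.coeff_one]
      simp [pow_succ]
  have hdlog : PowerSeries.derivative ℚ (PowerSeries.log ℚ) = geo := PowerSeries.deriv_log
  have hE : PowerSeries.HasSubst (PowerSeries.exp ℚ - 1) := PowerSeries.HasSubst.exp_sub_one
  have hL : PowerSeries.HasSubst (PowerSeries.log ℚ) := PowerSeries.HasSubst.log
  constructor
  · -- log(exp - 1) = X
    apply PowerSeries.derivative.ext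
    · rw [PowerSeries.derivative_subst hE, hdlog, PowerSeries.derivative_X, map_sub,
        PowerSeries.derivative_one, sub_zero, PowerSeries.derivative_exp]
      have h1 := congrArg (PowerSeries.subst (PowerSeries.exp ℚ - 1)) hgeo
      rw [PowerSeries.subst_mul hE, PowerSeries.subst_add hE, PowerSeries.subst_X hE] at h1
      have h1' : PowerSeries.subst (PowerSeries.exp ℚ - 1) (1 : PowerSeries ℚ) = 1 := by
        rw [← PowerSeries.coe_substAlgHom hE, map_one]
      rw [h1', add_sub_cancel] at h1
      rw [mul_comm]; exact h1
    · have h0 : PowerSeries.constantCoeff (PowerSeries.exp ℚ - 1) = 0 := by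
        rw [map_sub, PowerSeries.constantCoeff_exp, map_one, sub_self]
      have := PowerSeries.constantCoeff_subst_eq_zero h0 (PowerSeries.log ℚ)
        PowerSeries.constantCoeff_log
      rw [PowerSeries.constantCoeff_X]
      exact this
  · -- exp(log(1+X)) = 1 + X
    set G := PowerSeries.subst (PowerSeries.log ℚ) (PowerSeries.exp ℚ) with hG
    have hG' : PowerSeries.derivative ℚ G = G * geo := by
      rw [hG, PowerSeries.derivative_subst hL, PowerSeries.derivative_exp, hdlog]
    have hGc : PowerSeries.constantCoeff G = 1 := by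
      have h0 : PowerSeries.constantCoeff (PowerSeries.exp ℚ - 1) = 0 := by
        rw [map_sub, PowerSeries.constantCoeff_exp, map_one, sub_self]
      have h1 : G = 1 + PowerSeries.subst (PowerSeries.log ℚ) (PowerSeries.exp ℚ - 1) := by
        rw [PowerSeries.subst_sub hL, hG]
        have h1' : PowerSeries.subst (PowerSeries.log ℚ) (1 : PowerSeries ℚ) = 1 := by
          rw [← PowerSeries.coe_substAlgHom hL, map_one]
        rw [h1']; ring
      have h2 := PowerSeries.constantCoeff_subst_eq_zero (PowerSeries.constantCoeff_log (A := ℚ))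
        (PowerSeries.exp ℚ - 1) h0
      rw [h1, map_add, map_one]
      have h2' : PowerSeries.constantCoeff
          (PowerSeries.subst (PowerSeries.log ℚ) (PowerSeries.exp ℚ - 1)) = 0 := h2
      rw [h2', add_zero]
    have hgeo' : PowerSeries.derivative ℚ geo = - (geo * geo) := by
      have hd := congrArg (PowerSeries.derivative ℚ) hgeo
      rw [Derivation.leibniz, map_add, PowerSeries.derivative_one, PowerSeries.derivative_X,
        zero_add, smul_eq_mul, smul_eq_mul, mul_one] at hd
      have h3 : (1 + PowerSeries.X) * PowerSeries.derivative ℚ geo = - geo := by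
        rw [eq_neg_iff_add_eq_zero]; exact hd
      calc PowerSeries.derivative ℚ geo
          = ((1 + PowerSeries.X) * geo) * PowerSeries.derivative ℚ geo := by rw [hgeo, one_mul]
        _ = geo * ((1 + PowerSeries.X) * PowerSeries.derivative ℚ geo) := by ring
        _ = - (geo * geo) := by rw [h3]; ring
    have hgeoc : PowerSeries.constantCoeff geo = 1 := by
      rw [← PowerSeries.coeff_zero_eq_constantCoeff_apply]
      simp [geo]
    have key : G * geo = 1 := by
      apply PowerSeries.derivative.ext
      · rw [Derivation.leibniz, hG', PowerSeries.derivative_one, hgeo', smul_eq_mul, smul_eq_mul]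
        ring
      · rw [map_mul, hGc, hgeoc, map_one, one_mul]
    calc G = G * ((1 + PowerSeries.X) * geo) := by rw [hgeo, mul_one]
      _ = (G * geo) * (1 + PowerSeries.X) := by ring
      _ = 1 + PowerSeries.X := by rw [key, one_mul]

end Groth.Agent.S13075
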