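import Groth.Statements.S13079
import Mathlib
import Groth.Agent.Helper9.QuotStage
import Groth.Agent.S5137
-- import your own Groth.Agent.* helpers here

set_option autoImplicit false
universe u
open CategoryTheory AlgebraicGeometry Limits
open Zeta

namespace Groth.Agent.S13079

/-- Suppose the finite groups G and H act by algebraic k-automorphisms on schemes X and Y of finite type
over k, both admitting quotients X → X/G and Y → Y/H (equivalently, covered by invariant affine
opens). Then X × Y has the same property for the product action of G × H and (X × Y)/(G × H) ≅ X/G ×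
Y/H: the morphism X ×_k Y → X/G ×_k Y/H with components the two quotient maps is a quotient for the
product action. The product action θ and that morphism π are pinned by their composites with the
projections. -/
theorem result {k : Type u} [Field k] {G H : Type u} [Group G] [Finite G] [Group H]
    [Finite H] {X Y XG YH : Scheme.{u}} (fX : X ⟶ Spec (CommRingCat.of k))
    (fY : Y ⟶ Spec (CommRingCat.of k)) [LocallyOfFiniteType fX] [QuasiCompact fX]
    [LocallyOfFiniteType fY] [QuasiCompact fY] (gX : XG ⟶ Spec (CommRingCat.of k))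
    (gY : YH ⟶ Spec (CommRingCat.of k)) (ρ : G →* Aut X) (σ : H →* Aut Y)
    (hρ : ∀ g, (ρ g).hom ≫ fX = fX) (hσ : ∀ h, (σ h).hom ≫ fY = fY)
    (p : X ⟶ XG) (hp : p ≫ gX = fX) (q : Y ⟶ YH) (hq : q ≫ gY = fY)
    (hP : SGA1.IsQuot ρ p) (hQ : SGA1.IsQuot σ q)
    (θ : G × H →* Aut (pullback fX fY))
    (hθ1 : ∀ gh : G × H, (θ gh).hom ≫ pullback.fst fX fY = pullback.fst fX fY ≫ (ρ gh.1).hom)
    (hθ2 : ∀ gh : G × H, (θ gh).hom ≫ pullback.snd fX fY = pullback.snd fX fY ≫ (σ gh.2).hom)
    (π : pullback fX fY ⟶ pullback gX gY) (hπ1 : π ≫ pullback.fst gX gY = pullback.fst fX fY ≫ p)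
    (hπ2 : π ≫ pullback.snd gX gY = pullback.snd fX fY ≫ q) :
    SGA1.IsQuot θ π := by
  classical
  -- the two stage maps
  let π₁ : pullback fX fY ⟶ pullback gX fY :=
    pullback.map fX fY gX fY p (𝟙 Y) (𝟙 _) (by rw [Category.comp_id, hp])
      (by rw [Category.comp_id, Category.id_comp])
  let π₂ : pullback gX fY ⟶ pullback gX gY :=
    pullback.map gX fY gX gY (𝟙 XG) q (𝟙 _) (by rw [Category.comp_id, Category.id_comp])
      (by rw [Category.comp_id, hq])
  have π₁_fst : π₁ ≫ pullback.fst gX fY = pullback.fst fX fY ≫ p := pullback.lift_fst _ _ _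
  have π₁_snd : π₁ ≫ pullback.snd gX fY = pullback.snd fX fY :=
    (pullback.lift_snd _ _ _).trans (Category.comp_id _)
  have π₂_fst : π₂ ≫ pullback.fst gX gY = pullback.fst gX fY :=
    (pullback.lift_fst _ _ _).trans (Category.comp_id _)
  have π₂_snd : π₂ ≫ pullback.snd gX gY = pullback.snd gX fY ≫ q := pullback.lift_snd _ _ _
  have hπ : π = π₁ ≫ π₂ := by
    apply pullback.hom_ext
    · rw [hπ1, Category.assoc, π₂_fst, π₁_fst]
    · rw [hπ2, Category.assoc, π₂_snd, ← Category.assoc, π₁_snd]
  -- the action of `H` on the intermediate product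
  let m : H → (pullback gX fY ⟶ pullback gX fY) := fun h =>
    pullback.map gX fY gX fY (𝟙 XG) (σ h).hom (𝟙 _) (by rw [Category.comp_id, Category.id_comp])
      (by rw [Category.comp_id, hσ h])
  have m_fst : ∀ h, m h ≫ pullback.fst gX fY = pullback.fst gX fY := fun h =>
    (pullback.lift_fst _ _ _).trans (Category.comp_id _)
  have m_snd : ∀ h, m h ≫ pullback.snd gX fY = pullback.snd gX fY ≫ (σ h).hom := fun h =>
    pullback.lift_snd _ _ _
  have m_one : m 1 = 𝟙 _ := by
    apply pullback.hom_ext
    · rw [m_fst, Category.id_comp]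
    · rw [m_snd, Category.id_comp, map_one]
      exact Category.comp_id _
  have m_mul : ∀ h h' : H, m (h * h') = m h' ≫ m h := by
    intro h h'
    apply pullback.hom_ext
    · rw [m_fst, Category.assoc, m_fst, m_fst]
    · rw [m_snd, Category.assoc, m_snd, ← Category.assoc, m_snd, Category.assoc, map_mul]
      rfl
  let σ' : H →* Aut (pullback gX fY) := Groth.Agent.Helper9.QuotStage.autOfAct m m_one m_mul
  -- first stage
  have hX₁ : IsPullback (pullback.fst fX fY) π₁ p (pullback.fst gX fY) := by
    refine (IsPullback.of_right ?_ π₁_fst (IsPullback.of_hasPullback gX fY).flip).flip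
    rw [π₁_snd, hp]
    exact (IsPullback.of_hasPullback fX fY).flip
  have hθ₁ : ∀ g : G, ((θ.comp (MonoidHom.inl G H)) g).hom ≫ π₁ = π₁ := by
    intro g
    change (θ (g, 1)).hom ≫ π₁ = π₁
    apply pullback.hom_ext
    · rw [Category.assoc, π₁_fst, ← Category.assoc, hθ1, Category.assoc]
      change pullback.fst fX fY ≫ (ρ g).hom ≫ p = _
      rw [hP.inv]
    · rw [Category.assoc, π₁_snd, hθ2]
      change pullback.snd fX fY ≫ (σ 1).hom = _
      rw [map_one]
      exact Category.comp_id _
  have hQ₁ : SGA1.IsQuot (θ.comp (MonoidHom.inl G H)) π₁ :=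
    Groth.Agent.S5137.result ρ p hP gX fY (pullback.fst gX fY) (pullback.snd gX fY)
      (IsPullback.of_hasPullback gX fY) (pullback.fst fX fY) π₁ hX₁ (θ.comp (MonoidHom.inl G H))
      (fun g => hθ1 (g, 1)) hθ₁
  -- second stage
  have hX₂ : IsPullback (pullback.snd gX fY) π₂ q (pullback.snd gX gY) := by
    refine (IsPullback.of_right ?_ π₂_snd (IsPullback.of_hasPullback gX gY)).flip
    rw [π₂_fst, hq]
    exact IsPullback.of_hasPullback gX fY
  have hσ'₂ : ∀ h : H, (σ' h).hom ≫ π₂ = π₂ := by
    intro h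
    change m h ≫ π₂ = π₂
    apply pullback.hom_ext
    · rw [Category.assoc, π₂_fst, m_fst]
    · rw [Category.assoc, π₂_snd, ← Category.assoc, m_snd, Category.assoc, hQ.inv]
  have hQ₂ : SGA1.IsQuot σ' π₂ :=
    Groth.Agent.S5137.result σ q hQ gY gX (pullback.snd gX gY) (pullback.fst gX gY)
      (IsPullback.of_hasPullback gX gY).flip (pullback.snd gX fY) π₂ hX₂ σ'
      (fun h => m_snd h) hσ'₂
  -- equivariance of the first stage
  have hequiv : ∀ h : H, π₁ ≫ (σ' h).hom = (θ (1, h)).hom ≫ π₁ := by
    intro h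
    change π₁ ≫ m h = _
    apply pullback.hom_ext
    · rw [Category.assoc, m_fst, Category.assoc, π₁_fst, ← Category.assoc, hθ1, Category.assoc]
      change _ = pullback.fst fX fY ≫ (ρ 1).hom ≫ p
      rw [hP.inv]
    · rw [Category.assoc, m_snd, ← Category.assoc, π₁_snd, Category.assoc, π₁_snd, hθ2]
  rw [hπ]
  exact Groth.Agent.Helper9.QuotStage.stage_prod θ π₁ hQ₁ σ' hequiv π₂ hQ₂

end Groth.Agent.S13079
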