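import Groth.Statements.S1308
import Groth.Agent.Lead.Thickening

set_option autoImplicit false
universe u
open FlatMor

namespace Groth.Agent.S1308

open AlgebraicGeometry CategoryTheory Limits in
/-- For a morphism of thickenings, that is a commutative square whose horizontal maps are thickenings
(closed immersions that are surjective on points), the morphism between the thin schemes is
universally open if and only if the morphism between the thick ones is. -/
theorem result {X X' S S' : Scheme.{u}} (iX : X ⟶ X') (iS : S ⟶ S') (f : X ⟶ S) (f' : X' ⟶ S')
    (hX : MoreMor.IsThickening iX) (hS : MoreMor.IsThickening iS) (w : iX ≫ f' = f ≫ iS) :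
    UniversallyOpen f ↔ UniversallyOpen f' := by
  have hX' := Groth.Agent.Lead.universallyOpen_of_isThickening hX
  have hS' := Groth.Agent.Lead.universallyOpen_of_isThickening hS
  obtain ⟨hX1, hX2⟩ := hX
  obtain ⟨hS1, hS2⟩ := hS
  constructor
  · intro h
    have : UniversallyOpen (iX ≫ f') := by rw [w]; infer_instance
    exact Groth.Agent.Lead.universallyOpen_of_comp_surjective iX f'
  · intro h
    have : UniversallyOpen (f ≫ iS) := by rw [← w]; infer_instance
    exact MorphismProperty.of_postcomp (W := @UniversallyOpen)
      (W' := MorphismProperty.monomorphisms Scheme) f iS
      (show Mono iS from inferInstance) this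

end Groth.Agent.S1308
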