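import Groth.Statements.S13081
import Mathlib
import Groth.Agent.Helper9.QuotAff
-- import your own Groth.Agent.* helpers here

set_option autoImplicit false
universe u
open CategoryTheory AlgebraicGeometry Limits
open Zeta

namespace Groth.Agent.S13081

/-- Let G be a finite group acting by algebraic automorphisms over k on a scheme X of finite type over k
admitting a quotient X → X/G, and H a normal subgroup of G. Then X/H carries an induced action of
G/H and its quotient by this action is X/G: the induced morphism r : X/H → X/G is a quotient of X/H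
by G/H. The induced action ρ̄ is pinned by p_H ≫ ρ̄(ḡ) = ρ(g) ≫ p_H and r by p_H ≫ r = p. -/
theorem result {k : Type u} [Field k] {G : Type u} [Group G]
    [Finite G] {X XG XH : Scheme.{u}} (fX : X ⟶ Spec (CommRingCat.of k)) [LocallyOfFiniteType fX]
    [QuasiCompact fX] (ρ : G →* Aut X) (hρ : ∀ g, (ρ g).hom ≫ fX = fX) (p : X ⟶ XG)
    (hP : SGA1.IsQuot ρ p) (H : Subgroup G) [H.Normal] (pH : X ⟶ XH)
    (hPH : SGA1.IsQuot (ρ.comp H.subtype) pH) (ρbar : G ⧸ H →* Aut XH)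
    (hρbar : ∀ g : G, pH ≫ (ρbar (QuotientGroup.mk g)).hom = (ρ g).hom ≫ pH)
    (r : XH ⟶ XG) (hr : pH ≫ r = p) :
    SGA1.IsQuot ρbar r := by
  classical
  subst hr
  have hraff : IsAffineHom r :=
    (Groth.Agent.Helper9.QuotAff.isAffineHom_iff hPH (pH ≫ r) r rfl).mp hP.affine
  have hsurj : Function.Surjective pH.base := Groth.Agent.Helper9.FinQuot.surjective hPH
  have hinv : ∀ gb : G ⧸ H, (ρbar gb).hom ≫ r = r := by
    intro gb
    obtain ⟨g, rfl⟩ := QuotientGroup.mk_surjective gb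
    apply Groth.Agent.Helper9.EffEpiQ.eq_of_comp_eq pH hsurj hPH.injective
    rw [← Category.assoc, hρbar, Category.assoc]
    exact hP.inv g
  have happ : ∀ U : XG.Opens, (pH ≫ r).app U = r.app U ≫ pH.app (r ⁻¹ᵁ U) :=
    fun U => Scheme.Hom.comp_app pH r U
  refine ⟨hraff, hinv, ?_, ?_⟩
  · intro U
    have h1 := hP.injective U
    rw [happ] at h1
    exact Function.Injective.of_comp (f := (pH.app (r ⁻¹ᵁ U)).hom) h1
  · intro U s
    constructor
    · rintro ⟨t, rfl⟩ gb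
      have e := congrArg (fun φ => φ.hom t)
        (Groth.Agent.Helper6.QuotBasis.app_pb ρbar r hinv gb U)
      exact e
    · intro hs
      -- push to `X`
      have key : ∀ g : G,
          pH.app (r ⁻¹ᵁ U) ≫ (ρ g).hom.appLE (pH ⁻¹ᵁ (r ⁻¹ᵁ U)) (pH ⁻¹ᵁ (r ⁻¹ᵁ U))
            (SGA1.preimage_le_of_inv ρ (pH ≫ r) hP.inv g U)
          = (ρbar (QuotientGroup.mk g)).hom.appLE (r ⁻¹ᵁ U) (r ⁻¹ᵁ U)
              (SGA1.preimage_le_of_inv ρbar r hinv (QuotientGroup.mk g) U) ≫ pH.app (r ⁻¹ᵁ U) := by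
        intro g
        have h1 := Scheme.Hom.appLE_comp_appLE (ρ g).hom pH (r ⁻¹ᵁ U) (pH ⁻¹ᵁ (r ⁻¹ᵁ U))
          (pH ⁻¹ᵁ (r ⁻¹ᵁ U)) le_rfl (SGA1.preimage_le_of_inv ρ (pH ≫ r) hP.inv g U)
        have h2 := Scheme.Hom.appLE_comp_appLE pH (ρbar (QuotientGroup.mk g)).hom (r ⁻¹ᵁ U)
          (r ⁻¹ᵁ U) (pH ⁻¹ᵁ (r ⁻¹ᵁ U))
          (SGA1.preimage_le_of_inv ρbar r hinv (QuotientGroup.mk g) U) le_rfl
        rw [Scheme.Hom.app_eq_appLE]
        refine h1.trans (Eq.trans ?_ h2.symm)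
        exact (Groth.Agent.Helper9.EffEpiQ.appLE_congr_hom _ _ (hρbar g) _ _ _ _).symm
      have ht : ∀ g : G, ((ρ g).hom.appLE ((pH ≫ r) ⁻¹ᵁ U) ((pH ≫ r) ⁻¹ᵁ U)
          (SGA1.preimage_le_of_inv ρ (pH ≫ r) hP.inv g U)).hom ((pH.app (r ⁻¹ᵁ U)).hom s)
          = (pH.app (r ⁻¹ᵁ U)).hom s := by
        intro g
        have e := congrArg (fun φ => φ.hom s) (key g)
        refine e.trans ?_
        exact congrArg (pH.app (r ⁻¹ᵁ U)).hom (hs (QuotientGroup.mk g))
      obtain ⟨a, ha⟩ := (hP.range_iff U ((pH.app (r ⁻¹ᵁ U)).hom s)).mpr ht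
      refine ⟨a, ?_⟩
      apply hPH.injective (r ⁻¹ᵁ U)
      rw [← ha, happ]
      rfl

end Groth.Agent.S13081
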