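import Groth.Statements.S13082
import Mathlib
import Groth.Agent.Helper9.GeomTrans
-- import your own Groth.Agent.* helpers here

set_option autoImplicit false
universe u
open CategoryTheory AlgebraicGeometry Limits
open Zeta

namespace Groth.Agent.S13082

/-- Let X be a scheme of finite type over k with an action of a finite group G by algebraic
automorphisms over k admitting a quotient π : X → X/G, and W a locally closed subscheme of X on
which G induces an action. Then the canonical morphism W/G → π(W) is radicial and surjective: the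
induced morphism φ : W/G → X/G is universally injective with set-theoretic image π(W). The action on
W is pinned along the immersion j : W → X, φ by p_W ≫ φ = j ≫ π for a quotient p_W : W → W/G. -/
theorem result {k : Type u} [Field k] {G : Type u}
    [Group G] [Finite G] {X XG W WG : Scheme.{u}} (fX : X ⟶ Spec (CommRingCat.of k))
    [LocallyOfFiniteType fX] [QuasiCompact fX] (ρ : G →* Aut X) (hρ : ∀ g, (ρ g).hom ≫ fX = fX)
    (p : X ⟶ XG) (hP : SGA1.IsQuot ρ p) (j : W ⟶ X) [IsImmersion j] (ρW : G →* Aut W)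
    (hρW : ∀ g, (ρW g).hom ≫ j = j ≫ (ρ g).hom) (pW : W ⟶ WG) (hPW : SGA1.IsQuot ρW pW)
    (φ : WG ⟶ XG) (hφ : pW ≫ φ = j ≫ p) :
    UniversallyInjective φ ∧ Set.range φ.base = p.base '' Set.range j.base := by
  classical
  have hsurj : Function.Surjective pW.base := Groth.Agent.Helper9.FinQuot.surjective hPW
  haveI : Surjective pW := ⟨hsurj⟩
  constructor
  · refine ((tfae_universallyInjective φ).out 0 1).mpr ?_
    intro K _ g₁ g₂ hg
    change g₁ ≫ φ = g₂ ≫ φ at hg
    obtain ⟨L₁, _, π₁, ξ₁, h1⟩ := Groth.Agent.Helper9.GeomTrans.exists_lift pW K g₁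
    obtain ⟨L, _, π₂, ξ₂, h2⟩ := Groth.Agent.Helper9.GeomTrans.exists_lift pW L₁ (π₁ ≫ g₂)
    have hcomp : ((π₂ ≫ ξ₁) ≫ j) ≫ p = (ξ₂ ≫ j) ≫ p := by
      rw [Category.assoc, Category.assoc, ← hφ, ← Category.assoc ξ₁, h1, Category.assoc ξ₂,
        ← hφ, ← Category.assoc ξ₂, h2, Category.assoc, Category.assoc, Category.assoc, hg]
    obtain ⟨g, hg'⟩ := Groth.Agent.Helper9.GeomTrans.main hP L ((π₂ ≫ ξ₁) ≫ j) (ξ₂ ≫ j) hcomp
    have h3 : ξ₂ = (π₂ ≫ ξ₁) ≫ (ρW g).hom := by
      apply (cancel_mono j).mp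
      rw [hg', Category.assoc, Category.assoc, Category.assoc, Category.assoc, hρW]
    have h4 : ξ₂ ≫ pW = (π₂ ≫ ξ₁) ≫ pW := by
      rw [h3, Category.assoc, hPW.inv]
    rw [h2, Category.assoc, h1] at h4
    haveI := Groth.Agent.Helper9.GeomTrans.epi_of_fields K L₁ π₁
    haveI := Groth.Agent.Helper9.GeomTrans.epi_of_fields L₁ L π₂
    exact ((cancel_epi π₁).mp ((cancel_epi π₂).mp h4)).symm
  · have hc : ∀ {A B C : Scheme.{u}} (a : A ⟶ B) (b : B ⟶ C),
        Set.range (a ≫ b).base = b.base '' Set.range a.base := by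
      intro A B C a b
      rw [← Set.range_comp]
      rfl
    have h1 : Set.range (pW ≫ φ).base = Set.range φ.base := by
      rw [hc, Set.range_eq_univ.mpr hsurj, Set.image_univ]
    rw [← h1, hφ, hc]

end Groth.Agent.S13082
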