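import Groth.Statements.S13096
import Mathlib

set_option autoImplicit false
universe u v
open CAlg

namespace Groth.Agent.S13096

theorem ringHom_injective_of_surjective {A : Type*} [CommRing A] [IsNoetherianRing A] (f : A →+* A)
    (hf : Function.Surjective f) : Function.Injective f := by
  let K : ℕ →o Ideal A := ⟨fun n => RingHom.ker (f ^ n), fun m n hmn x hx => by
    obtain ⟨d, rfl⟩ := Nat.exists_eq_add_of_le hmn
    rw [RingHom.mem_ker] at hx ⊢
    rw [add_comm, pow_add, RingHom.mul_def, RingHom.comp_apply, hx, map_zero]⟩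
  obtain ⟨n, hn⟩ := monotone_stabilizes_iff_noetherian.2 (inferInstance : IsNoetherian A A) K
  rw [injective_iff_map_eq_zero]
  intro x hx
  have hsn : Function.Surjective (f ^ n) := by
    rw [RingHom.coe_pow]; exact hf.iterate n
  obtain ⟨y, rfl⟩ := hsn x
  have h1 : y ∈ K (n + 1) := by
    change y ∈ RingHom.ker (f ^ (n + 1))
    rw [RingHom.mem_ker, pow_succ', RingHom.mul_def, RingHom.comp_apply]
    exact hx
  rw [← hn (n + 1) (Nat.le_succ n)] at h1
  exact h1

/-- Let R be a commutative ring and R' a commutative R-algebra of finite presentation. Then every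
surjective R-algebra endomorphism α : R' → R' is bijective (an automorphism). -/
theorem result (R : Type u) [CommRing R]
    (R' : Type v) [CommRing R'] [Algebra R R'] [Algebra.FinitePresentation R R']
    (α : R' →ₐ[R] R') (hα : Function.Surjective α) : Function.Bijective α := by
  refine ⟨?_, hα⟩
  classical
  obtain ⟨s, hs⟩ := (Algebra.FiniteType.out : (⊤ : Subalgebra R R').FG)
  have hcoef : ∀ y : R', ∃ C : Finset R,
      y ∈ Algebra.adjoin ℤ ((↑s : Set R') ∪ (algebraMap R R') '' (↑C : Set R)) := by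
    intro y
    have hy : y ∈ Algebra.adjoin R (↑s : Set R') := by rw [hs]; trivial
    induction hy using Algebra.adjoin_induction with
    | mem z hz => exact ⟨∅, Algebra.subset_adjoin (Or.inl hz)⟩
    | algebraMap r =>
      exact ⟨{r}, Algebra.subset_adjoin (Or.inr ⟨r, by simp, rfl⟩)⟩
    | add a b _ _ ha hb =>
      obtain ⟨Ca, hCa⟩ := ha
      obtain ⟨Cb, hCb⟩ := hb
      refine ⟨Ca ∪ Cb, add_mem ?_ ?_⟩
      · refine Algebra.adjoin_mono (Set.union_subset_union_right _ (Set.image_mono ?_)) hCa
        exact Finset.coe_subset.2 Finset.subset_union_left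
      · refine Algebra.adjoin_mono (Set.union_subset_union_right _ (Set.image_mono ?_)) hCb
        exact Finset.coe_subset.2 Finset.subset_union_right
    | mul a b _ _ ha hb =>
      obtain ⟨Ca, hCa⟩ := ha
      obtain ⟨Cb, hCb⟩ := hb
      refine ⟨Ca ∪ Cb, mul_mem ?_ ?_⟩
      · refine Algebra.adjoin_mono (Set.union_subset_union_right _ (Set.image_mono ?_)) hCa
        exact Finset.coe_subset.2 Finset.subset_union_left
      · refine Algebra.adjoin_mono (Set.union_subset_union_right _ (Set.image_mono ?_)) hCb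
        exact Finset.coe_subset.2 Finset.subset_union_right
  rw [injective_iff_map_eq_zero]
  intro x hx
  choose t ht using hα
  choose Cf hCf using hcoef
  classical
  let C : Finset R := Cf x ∪ s.biUnion (fun i => Cf (α i) ∪ Cf (t i))
  let T : Set R' := (↑s : Set R') ∪ (algebraMap R R') '' (↑C : Set R)
  let S₀ : Subalgebra ℤ R' := Algebra.adjoin ℤ T
  have mono : ∀ y, Cf y ⊆ C → y ∈ S₀ := fun y hy =>
    Algebra.adjoin_mono (Set.union_subset_union_right _ (Set.image_mono (Finset.coe_subset.2 hy)))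
      (hCf y)
  have hx0 : x ∈ S₀ := mono x Finset.subset_union_left
  have hαs : ∀ i ∈ s, α i ∈ S₀ := fun i hi => mono _ (by
    refine subset_trans ?_ Finset.subset_union_right
    exact subset_trans Finset.subset_union_left
      (Finset.subset_biUnion_of_mem (fun i => Cf (α i) ∪ Cf (t i)) hi))
  have hts : ∀ i ∈ s, t i ∈ S₀ := fun i hi => mono _ (by
    refine subset_trans ?_ Finset.subset_union_right
    exact subset_trans Finset.subset_union_right
      (Finset.subset_biUnion_of_mem (fun i => Cf (α i) ∪ Cf (t i)) hi))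
  let α' : R' →ₐ[ℤ] R' := α.restrictScalars ℤ
  have hmap : S₀.map α' ≤ S₀ := by
    rw [AlgHom.map_adjoin]
    apply Algebra.adjoin_le
    rintro _ ⟨y, hy | ⟨c, hc, rfl⟩, rfl⟩
    · exact hαs y hy
    · have : α' (algebraMap R R' c) = algebraMap R R' c := α.commutes c
      rw [this]
      exact Algebra.subset_adjoin (Or.inr ⟨c, hc, rfl⟩)
  have hsurj : S₀ ≤ S₀.map α' := by
    apply Algebra.adjoin_le
    rintro y (hy | ⟨c, hc, rfl⟩)
    · exact ⟨t y, hts y hy, ht y⟩
    · exact ⟨algebraMap R R' c, Algebra.subset_adjoin (Or.inr ⟨c, hc, rfl⟩), α.commutes c⟩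
  let α₀ : S₀ →ₐ[ℤ] S₀ := (α'.comp S₀.val).codRestrict S₀ (fun y => hmap ⟨y, y.2, rfl⟩)
  have hα₀ : Function.Surjective α₀ := by
    rintro ⟨y, hy⟩
    obtain ⟨z, hz, hzy⟩ := hsurj hy
    exact ⟨⟨z, hz⟩, Subtype.ext hzy⟩
  have hTfin : T.Finite := (Finset.finite_toSet s).union ((Finset.finite_toSet C).image _)
  haveI : Algebra.FiniteType ℤ S₀ :=
    (Subalgebra.fg_iff_finiteType S₀).1 (Subalgebra.fg_def.2 ⟨T, hTfin, rfl⟩)
  haveI : IsNoetherianRing S₀ := Algebra.FiniteType.isNoetherianRing ℤ S₀
  have hinj := ringHom_injective_of_surjective α₀.toRingHom hα₀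
  have h0 : (⟨x, hx0⟩ : S₀) = 0 := hinj (by
    rw [map_zero]
    exact Subtype.ext hx)
  exact congrArg Subtype.val h0

end Groth.Agent.S13096
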