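import Groth.Statements.S13097
import Mathlib

set_option autoImplicit false
universe u
open FlatMor

namespace Groth.Agent.S13097

open AlgebraicGeometry CategoryTheory in
lemma dense_of_schDense {X : Scheme.{u}} (W : X.Opens) (h : CInt.IsSchematicallyDense W) :
    Dense (W : Set X) := by
  rw [dense_iff_inter_open]
  intro V hV hne
  by_contra hempty
  rw [Set.not_nonempty_iff_eq_empty] at hempty
  let V' : X.Opens := ⟨V, hV⟩
  have hbot : V' ⊓ W = ⊥ := by
    ext x
    simp only [TopologicalSpace.Opens.coe_inf, TopologicalSpace.Opens.coe_bot]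
    exact Set.ext_iff.mp hempty x
  have hinj := h V'
  obtain ⟨x, hx⟩ := hne
  have hsub : Subsingleton Γ(X, V' ⊓ W) := by
    rw [hbot]
    infer_instance
  have h10 : (1 : Γ(X, V')) = 0 := hinj (Subsingleton.elim _ _)
  have := congrArg (X.presheaf.germ V' x hx).hom h10
  rw [map_one, map_zero] at this
  exact one_ne_zero this
open AlgebraicGeometry CategoryTheory Limits in
lemma key {X S : Scheme.{u}} (f : X ⟶ S) [IsSeparated f] (U : S.Opens)
    (hdense : CInt.IsSchematicallyDense (f ⁻¹ᵁ U)) (hU : IsHomeomorph (f ∣_ U).base)
    (e : S ⟶ X) (he : e ≫ f = 𝟙 S) : IsClosedImmersion e ∧ Surjective e := by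
  have hci : IsClosedImmersion e := by
    haveI : IsClosedImmersion (e ≫ f) := by rw [he]; infer_instance
    exact IsClosedImmersion.of_comp e f
  refine ⟨hci, ⟨?_⟩⟩
  have hcl : IsClosed (Set.range e) := e.isClosedEmbedding.isClosed_range
  have hsub : ((f ⁻¹ᵁ U : X.Opens) : Set X) ⊆ Set.range e := by
    intro x hx
    refine ⟨f x, ?_⟩
    have hfe : f (e (f x)) = f x := by
      rw [← Scheme.Hom.comp_apply, he]; rfl
    have hx' : e (f x) ∈ f ⁻¹ᵁ U := by
      show f (e (f x)) ∈ U
      rw [hfe]; exact hx
    have := hU.injective (a₁ := ⟨e (f x), hx'⟩) (a₂ := ⟨x, hx⟩) (by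
      apply Subtype.ext
      exact (morphismRestrict_base_coe f U ⟨e (f x), hx'⟩).trans
        (hfe.trans (morphismRestrict_base_coe f U ⟨x, hx⟩).symm))
    exact congrArg Subtype.val this
  have := (dense_of_schDense _ hdense).mono hsub
  rw [← Set.range_eq_univ]
  exact hcl.closure_eq ▸ this.closure_eq
open AlgebraicGeometry CategoryTheory Limits in
lemma homeo_of_section {X S : Scheme.{u}} (f : X ⟶ S) (e : S ⟶ X) (he : e ≫ f = 𝟙 S)
    (hs : Function.Surjective e) : IsHomeomorph f := by
  have h1 : ∀ s, f (e s) = s := fun s => by
    rw [← Scheme.Hom.comp_apply, he]; rfl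
  have h2 : ∀ x, e (f x) = x := fun x => by
    obtain ⟨s, rfl⟩ := hs x
    rw [h1]
  exact (Homeomorph.mk ⟨f, e, h2, h1⟩ f.continuous e.continuous).isHomeomorph
open AlgebraicGeometry CategoryTheory Limits in
lemma univ {X S : Scheme.{u}} (f : X ⟶ S) (e : S ⟶ X) (he : e ≫ f = 𝟙 S)
    (hci : IsClosedImmersion e) (hs : Surjective e) : FlatMor.IsUnivHomeo f := by
  intro X' S' g' g f' hpb
  -- hpb : IsPullback f' g' g f
  let e' : S' ⟶ X' := hpb.lift (𝟙 S') (g ≫ e) (by rw [Category.id_comp, Category.assoc, he, Category.comp_id])
  have he'1 : e' ≫ f' = 𝟙 S' := hpb.lift_fst _ _ _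
  have he'2 : e' ≫ g' = g ≫ e := hpb.lift_snd _ _ _
  have hbig : IsPullback (e' ≫ f') g g (e ≫ f) := by
    rw [he'1, he]
    exact IsPullback.of_horiz_isIso ⟨by simp⟩
  have hleft : IsPullback e' g g' e := IsPullback.of_right hbig he'2 hpb
  have hs' : Surjective e' := MorphismProperty.of_isPullback (P := @Surjective) hleft.flip hs
  exact homeo_of_section f' e' he'1 hs'.surj

open CategoryTheory AlgebraicGeometry in
/-- Let f : X → S be a quasi-compact, separated morphism of schemes with a section e : S → X (e followed
by f is the identity of S), and U ⊆ S an open subscheme such that f⁻¹(U) is schematically dense in X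
(for every open V of X, restriction of functions from V to V ∩ f⁻¹(U) is injective) and such that
the restriction f⁻¹(U) → U of f is a homeomorphism of underlying spaces. Then f is universally a
homeomorphism (every base change of f is a homeomorphism), and f is finite as soon as it is locally
of finite type. (The published statement also lists surjectivity of f, which a section forces, and
offers as an alternative to the section the hypothesis that f be flat, still with f⁻¹(U) → U only a
homeomorphism; that flat alternative fails: the spectrum of a separable quadratic field extension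
over the spectrum of the ground field, with U the whole base, is flat, surjective, quasi-compact,
separated and a homeomorphism over U, yet not universally injective. Only the case of a section,
whose published proof is complete, is stated here.) -/
theorem result {X S : Scheme.{u}} (f : X ⟶ S)
    [QuasiCompact f] [IsSeparated f] (U : S.Opens)
    (hdense : CInt.IsSchematicallyDense (f ⁻¹ᵁ U)) (hU : IsHomeomorph (f ∣_ U).base)
    (e : S ⟶ X) (he : e ≫ f = 𝟙 S) :
    FlatMor.IsUnivHomeo f ∧ (LocallyOfFiniteType f → IsFinite f) := by
  obtain ⟨hci, hs⟩ := key f U hdense hU e he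
  have huniv := univ f e he hci hs
  refine ⟨huniv, fun hlft => ?_⟩
  rw [IsFinite.iff_isProper_and_locallyQuasiFinite]
  have hhomeo : IsHomeomorph f := homeo_of_section f e he hs.surj
  have huc : UniversallyClosed f := by
    rw [universallyClosed_eq]
    intro X' S' g' g f' hpb
    exact (huniv g' g f' hpb : IsHomeomorph f').isClosedMap
  exact ⟨{}, LocallyQuasiFinite.of_injective hhomeo.injective⟩

end Groth.Agent.S13097
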