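import Groth.Statements.S13098
import Mathlib.Tactic

set_option autoImplicit false
universe u v
open Lie3Mod

namespace Groth.Agent.S13098

/-- Let R be a commutative ring, M an R-module with a basis x = bs 0, y = bs 1, z = bs 2 indexed by Fin
3, and B an R-bilinear alternating map on M (B m m = 0) with B x y = a x + b y + c z, B x z = d x +
e y + f z and B y z = g x + h y + i z. Then B satisfies the Jacobi identity for all triples if and
only if the three Jacobi polynomials vanish: ah + di − fg − bg = 0, ie + bd − fh − ae = 0 and hc +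
dc − af − bi = 0. (This is the statement that Lie brackets on a based free module of rank 3 are the
points of the closed subscheme of affine 9-space defined by these three equations.) -/
theorem result (R : Type u) [CommRing R] (M : Type v) [AddCommGroup M] [Module R M]
    (bs : Module.Basis (Fin 3) R M) (B : M →ₗ[R] M →ₗ[R] M) (halt : ∀ m : M, B m m = 0)
    (a b c d e f g h i : R)
    (hxy : B (bs 0) (bs 1) = a • bs 0 + b • bs 1 + c • bs 2)
    (hxz : B (bs 0) (bs 2) = d • bs 0 + e • bs 1 + f • bs 2)
    (hyz : B (bs 1) (bs 2) = g • bs 0 + h • bs 1 + i • bs 2) :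
    (∀ u v w : M, B u (B v w) + B v (B w u) + B w (B u v) = 0) ↔
      (a * h + d * i - f * g - b * g = 0 ∧ i * e + b * d - f * h - a * e = 0 ∧
        h * c + d * c - a * f - b * i = 0) := by
  have hanti : ∀ m n : M, B m n = -B n m := by
    intro m n
    have h1 := halt (m + n)
    simp only [map_add, LinearMap.add_apply, halt, zero_add, add_zero] at h1
    rw [add_comm] at h1
    exact eq_neg_of_add_eq_zero_left h1
  have hyx : B (bs 1) (bs 0) = -(a • bs 0 + b • bs 1 + c • bs 2) := by rw [hanti, hxy]
  have hzx : B (bs 2) (bs 0) = -(d • bs 0 + e • bs 1 + f • bs 2) := by rw [hanti, hxz]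
  have hzy : B (bs 2) (bs 1) = -(g • bs 0 + h • bs 1 + i • bs 2) := by rw [hanti, hyz]
  constructor
  · intro H
    have hJ := H (bs 0) (bs 1) (bs 2)
    simp only [hxy, hxz, hyz, hyx, hzx, hzy, halt, map_add, map_smul, map_neg, LinearMap.add_apply,
      LinearMap.smul_apply, LinearMap.neg_apply, smul_zero, add_zero, zero_add] at hJ
    have hJ' : (a * h + d * i - f * g - b * g) • bs 0 + (i * e + b * d - f * h - a * e) • bs 1 +
        (h * c + d * c - a * f - b * i) • bs 2 = 0 := by
      rw [← hJ]
      module
    have hli := Fintype.linearIndependent_iff.1 bs.linearIndependent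
      ![a * h + d * i - f * g - b * g, i * e + b * d - f * h - a * e, h * c + d * c - a * f - b * i]
      (by simpa [Fin.sum_univ_three] using hJ')
    exact ⟨by simpa using hli 0, by simpa using hli 1, by simpa using hli 2⟩
  · rintro ⟨h1, h2, h3⟩ u v w
    rw [← bs.sum_repr u, ← bs.sum_repr v, ← bs.sum_repr w]
    simp only [Fin.sum_univ_three]
    generalize bs.repr u 0 = u0
    generalize bs.repr u 1 = u1
    generalize bs.repr u 2 = u2
    generalize bs.repr v 0 = v0
    generalize bs.repr v 1 = v1
    generalize bs.repr v 2 = v2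
    generalize bs.repr w 0 = w0
    generalize bs.repr w 1 = w1
    generalize bs.repr w 2 = w2
    simp only [hxy, hxz, hyz, hyx, hzx, hzy, halt, map_add, map_smul, map_neg, LinearMap.add_apply,
      LinearMap.smul_apply, LinearMap.neg_apply, smul_zero, add_zero, zero_add]
    match_scalars
    · linear_combination (u0 * (v1 * w2 - v2 * w1) - u1 * (v0 * w2 - v2 * w0) + u2 * (v0 * w1 - v1 * w0)) * h1
    · linear_combination (u0 * (v1 * w2 - v2 * w1) - u1 * (v0 * w2 - v2 * w0) + u2 * (v0 * w1 - v1 * w0)) * h2
    · linear_combination (u0 * (v1 * w2 - v2 * w1) - u1 * (v0 * w2 - v2 * w0) + u2 * (v0 * w1 - v1 * w0)) * h3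

end Groth.Agent.S13098
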