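import Groth.Statements.S13100
import Mathlib

set_option autoImplicit false
universe u
open GrpSch

namespace Groth.Agent.S13100

/-- If `2` is invertible in `R`, every power series `1 + x` with `x` without constant term has a
square root. -/
theorem exists_sqrt {R : Type*} [CommRing R] (h2 : IsUnit (2 : R))
    (x : PowerSeries R) (hx : PowerSeries.constantCoeff x = 0) :
    ∃ r : PowerSeries R, r ^ 2 = 1 + x := by
  obtain ⟨p, hp⟩ : ∃ p : PowerSeries R, p = (1 + PowerSeries.X) ^ 2 - 1 := ⟨_, rfl⟩
  have hpX : p = PowerSeries.X * (2 + PowerSeries.X) := by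
    rw [hp]; ring
  have hp0 : PowerSeries.constantCoeff p = 0 := by
    rw [hpX, map_mul, PowerSeries.constantCoeff_X, zero_mul]
  have hp1 : IsUnit (PowerSeries.coeff 1 p) := by
    have h1 : PowerSeries.coeff 1 p = 2 := by
      rw [hpX]
      have := PowerSeries.coeff_succ_X_mul 0 (2 + PowerSeries.X : PowerSeries R)
      rw [zero_add] at this
      rw [this, PowerSeries.coeff_zero_eq_constantCoeff_apply]
      simp only [map_add, PowerSeries.constantCoeff_X]
      rw [map_ofNat]
      ring
    rw [h1]; exact h2
  have hq : PowerSeries.HasSubst (p.substInvOfIsUnit hp1) :=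
    PowerSeries.HasSubst.substInvOfIsUnit p hp1
  have hpq : p.subst (p.substInvOfIsUnit hp1) = PowerSeries.X :=
    PowerSeries.subst_substInvOfIsUnit_right p hp0 hp1
  obtain ⟨q, hqdef⟩ : ∃ q, q = p.substInvOfIsUnit hp1 := ⟨_, rfl⟩
  rw [← hqdef] at hq hpq
  have hsq : (1 + q) ^ 2 = 1 + PowerSeries.X := by
    have h : p.subst q = (1 + q) ^ 2 - 1 := by
      rw [hp, ← PowerSeries.coe_substAlgHom hq]
      simp only [map_sub, map_pow, map_add, map_one, PowerSeries.substAlgHom_X]
    rw [h] at hpq
    linear_combination hpq
  have hsx : PowerSeries.HasSubst x := PowerSeries.HasSubst.of_constantCoeff_zero' hx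
  refine ⟨PowerSeries.subst x (1 + q), ?_⟩
  rw [← PowerSeries.subst_pow hsx, hsq, ← PowerSeries.coe_substAlgHom hsx, map_add, map_one,
    PowerSeries.substAlgHom_X]

/-- Let k be an algebraically closed field of characteristic different from 2 and K = k((t)) the field
of Laurent series over k. Then a non-zero Laurent series f is a square in K if and only if its order
in t is even; consequently the group Kˣ/Kˣ² of non-zero elements modulo squares has exactly two
elements, represented by 1 and t. -/
theorem result (k : Type u) [Field k] [IsAlgClosed k] (h2 : (2 : k) ≠ 0)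
    (f : LaurentSeries k) (hf : f ≠ 0) : IsSquare f ↔ Even f.order := by
  constructor
  · rintro ⟨g, hg⟩
    have hg0 : g ≠ 0 := by
      rintro rfl
      apply hf
      rw [hg, mul_zero]
    rw [hg, HahnSeries.order_mul hg0 hg0]
    exact ⟨g.order, rfl⟩
  · rintro ⟨m, hm⟩
    have hc0 : f.coeff f.order ≠ 0 := fun h => hf (HahnSeries.coeff_order_eq_zero.1 h)
    set c : k := f.coeff f.order with hc
    obtain ⟨s, hs⟩ := IsAlgClosed.exists_pow_nat_eq c (n := 2) (by norm_num)
    have hs0 : s ≠ 0 := by
      rintro rfl
      apply hc0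
      rw [← hs]; ring
    set P : PowerSeries k := LaurentSeries.powerSeriesPart f with hP
    have hPc : PowerSeries.constantCoeff P = c := by
      rw [← PowerSeries.coeff_zero_eq_constantCoeff_apply, hP, LaurentSeries.powerSeriesPart_coeff]
      simp [hc]
    set x : PowerSeries k := PowerSeries.C c⁻¹ * P - 1 with hx
    have hx0 : PowerSeries.constantCoeff x = 0 := by
      rw [hx, map_sub, map_mul, PowerSeries.constantCoeff_C, hPc, map_one, inv_mul_cancel₀ hc0, sub_self]
    obtain ⟨r, hr⟩ := exists_sqrt (isUnit_iff_ne_zero.2 h2) x hx0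
    have hPsq : P = (PowerSeries.C s * r) ^ 2 := by
      rw [mul_pow, hr, ← map_pow, hs, hx]
      have : PowerSeries.C c * PowerSeries.C c⁻¹ = (1 : PowerSeries k) := by
        rw [← map_mul, mul_inv_cancel₀ hc0, map_one]
      linear_combination (-P) * this
    refine ⟨HahnSeries.single m (1 : k) * HahnSeries.ofPowerSeries ℤ k (PowerSeries.C s * r), ?_⟩
    have h1 : (HahnSeries.single m (1 : k) : LaurentSeries k) * HahnSeries.single m (1 : k) =
        HahnSeries.single f.order (1 : k) := by
      rw [HahnSeries.single_mul_single, mul_one, hm]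
    calc f = (HahnSeries.single f.order 1 : LaurentSeries k) * HahnSeries.ofPowerSeries ℤ k P :=
          (LaurentSeries.single_order_mul_powerSeriesPart f).symm
      _ = _ := by
          rw [← h1, hPsq, map_pow]
          ring

end Groth.Agent.S13100
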