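import Groth.Statements.S13101
import Mathlib

set_option autoImplicit false
universe u v
open GrpSch

namespace Groth.Agent.S13101

/-- Let A be a commutative ring in which 2 is a unit, and L a Lie algebra over A, free as a module with
basis x = bs 0, y = bs 1, z = bs 2 and brackets [x,y] = y, [x,z] = y + z, [y,z] = 0. Then for every
Lie algebra automorphism φ of L over A there are b, c, h ∈ A and a unit i of A with φ(x) = x + b y +
c z, φ(y) = i y and φ(z) = h y + i z. Only the form of an automorphism is stated, not that every map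
of this form is one. (The published statement identifies the automorphism group scheme with a
semidirect product of two additive groups by the product of the multiplicative and additive group,
for algebras over a field of Laurent series of characteristic not 2, and deduces the vanishing of
its first cohomology; this row records the determination of the automorphisms, over any base ring
with 2 invertible; the cohomological consequence is not restated.) -/
theorem result (A : Type u) [CommRing A] (h2 : IsUnit (2 : A))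
    (L : Type v) [LieRing L] [LieAlgebra A L] (bs : Module.Basis (Fin 3) A L)
    (hxy : ⁅bs 0, bs 1⁆ = bs 1) (hxz : ⁅bs 0, bs 2⁆ = bs 1 + bs 2) (hyz : ⁅bs 1, bs 2⁆ = 0)
    (φ : L ≃ₗ⁅A⁆ L) :
    ∃ b c h i : A, IsUnit i ∧ φ (bs 0) = bs 0 + b • bs 1 + c • bs 2 ∧ φ (bs 1) = i • bs 1 ∧
      φ (bs 2) = h • bs 1 + i • bs 2 := by
  classical
  -- coordinates
  have hexp : ∀ u : L, u = bs.repr u 0 • bs 0 + bs.repr u 1 • bs 1 + bs.repr u 2 • bs 2 := by
    intro u
    conv_lhs => rw [← bs.sum_repr u]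
    rw [Fin.sum_univ_three]
  have hyx : ⁅bs 1, bs 0⁆ = -bs 1 := by rw [← lie_skew, hxy]
  have hzx : ⁅bs 2, bs 0⁆ = -(bs 1 + bs 2) := by rw [← lie_skew, hxz]
  have hzy : ⁅bs 2, bs 1⁆ = 0 := by rw [← lie_skew, hyz, neg_zero]
  have hbr : ∀ u v : L, ⁅u, v⁆ =
      (bs.repr u 0 * bs.repr v 1 - bs.repr u 1 * bs.repr v 0 + bs.repr u 0 * bs.repr v 2 -
        bs.repr u 2 * bs.repr v 0) • bs 1 +
      (bs.repr u 0 * bs.repr v 2 - bs.repr u 2 * bs.repr v 0) • bs 2 := by
    intro u v
    conv_lhs => rw [hexp u, hexp v]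
    simp only [add_lie, lie_add, smul_lie, lie_smul, lie_self, hxy, hxz, hyz, hyx, hzx, hzy]
    module
  have hrepr : ∀ (α β γ : A) (i : Fin 3), bs.repr (α • bs 0 + β • bs 1 + γ • bs 2) i =
      if i = 0 then α else if i = 1 then β else γ := by
    intro α β γ i
    simp only [map_add, map_smul, Module.Basis.repr_self, Finsupp.coe_add, Finsupp.coe_smul,
      Pi.add_apply, Pi.smul_apply, Finsupp.single_apply, smul_eq_mul]
    fin_cases i <;> simp
  have hbr0 : ∀ u v : L, bs.repr ⁅u, v⁆ 0 = 0 := by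
    intro u v
    rw [hbr u v]
    have := hrepr 0 (bs.repr u 0 * bs.repr v 1 - bs.repr u 1 * bs.repr v 0 + bs.repr u 0 * bs.repr v 2 -
        bs.repr u 2 * bs.repr v 0) (bs.repr u 0 * bs.repr v 2 - bs.repr u 2 * bs.repr v 0) 0
    rw [zero_smul, zero_add] at this
    rw [this]; simp
  have hbr1 : ∀ u v : L, bs.repr ⁅u, v⁆ 1 =
      bs.repr u 0 * bs.repr v 1 - bs.repr u 1 * bs.repr v 0 + bs.repr u 0 * bs.repr v 2 -
        bs.repr u 2 * bs.repr v 0 := by
    intro u v
    conv_lhs => rw [hbr u v]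
    have := hrepr 0 (bs.repr u 0 * bs.repr v 1 - bs.repr u 1 * bs.repr v 0 + bs.repr u 0 * bs.repr v 2 -
        bs.repr u 2 * bs.repr v 0) (bs.repr u 0 * bs.repr v 2 - bs.repr u 2 * bs.repr v 0) 1
    rw [zero_smul, zero_add] at this
    rw [this]; simp
  have hbr2 : ∀ u v : L, bs.repr ⁅u, v⁆ 2 = bs.repr u 0 * bs.repr v 2 - bs.repr u 2 * bs.repr v 0 := by
    intro u v
    conv_lhs => rw [hbr u v]
    have := hrepr 0 (bs.repr u 0 * bs.repr v 1 - bs.repr u 1 * bs.repr v 0 + bs.repr u 0 * bs.repr v 2 -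
        bs.repr u 2 * bs.repr v 0) (bs.repr u 0 * bs.repr v 2 - bs.repr u 2 * bs.repr v 0) 2
    rw [zero_smul, zero_add] at this
    rw [this]; simp
  -- names
  set a := bs.repr (φ (bs 0)) 0 with ha
  set b := bs.repr (φ (bs 0)) 1 with hb
  set c := bs.repr (φ (bs 0)) 2 with hc
  set p0 := bs.repr (φ (bs 1)) 0 with hp0
  set p := bs.repr (φ (bs 1)) 1 with hp
  set q := bs.repr (φ (bs 1)) 2 with hq
  set r0 := bs.repr (φ (bs 2)) 0 with hr0
  set r := bs.repr (φ (bs 2)) 1 with hr
  set s := bs.repr (φ (bs 2)) 2 with hs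
  have hφy : φ (bs 1) = ⁅φ (bs 0), φ (bs 1)⁆ := by rw [← LieEquiv.map_lie, hxy]
  have hφz : φ (bs 1) + φ (bs 2) = ⁅φ (bs 0), φ (bs 2)⁆ := by rw [← LieEquiv.map_lie, hxz, map_add]
  have e_p0 : p0 = 0 := by rw [hp0, hφy, hbr0]
  have e_r0 : r0 = 0 := by
    have h1 : bs.repr (φ (bs 1) + φ (bs 2)) 0 = 0 := by rw [hφz, hbr0]
    rw [map_add, Finsupp.add_apply, ← hp0, e_p0, zero_add] at h1
    exact h1
  have E1 : p = a * p - b * p0 + a * q - c * p0 := by
    conv_lhs => rw [hp, hφy, hbr1]
  have E2 : q = a * q - c * p0 := by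
    conv_lhs => rw [hq, hφy, hbr2]
  have E3 : p + r = a * r - b * r0 + a * s - c * r0 := by
    have h1 : bs.repr (φ (bs 1) + φ (bs 2)) 1 = a * r - b * r0 + a * s - c * r0 := by rw [hφz, hbr1]
    rw [map_add, Finsupp.add_apply] at h1
    exact h1
  have E4 : q + s = a * s - c * r0 := by
    have h1 : bs.repr (φ (bs 1) + φ (bs 2)) 2 = a * s - c * r0 := by rw [hφz, hbr2]
    rw [map_add, Finsupp.add_apply] at h1
    exact h1
  rw [e_p0] at E1 E2
  rw [e_r0] at E3 E4
  -- determinant
  have hdet : IsUnit (LinearMap.toMatrix bs bs (φ : L →ₗ[A] L)).det :=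
    LinearEquiv.isUnit_det (φ : L ≃ₗ[A] L) bs bs
  have hdetval : (LinearMap.toMatrix bs bs (φ : L →ₗ[A] L)).det = a * (p * s - q * r) := by
    have hM : ∀ i j, LinearMap.toMatrix bs bs (φ : L →ₗ[A] L) i j = bs.repr (φ (bs j)) i := by
      intro i j
      rw [LinearMap.toMatrix_apply]
      rfl
    rw [Matrix.det_fin_three]
    simp only [hM]
    rw [← ha, ← hb, ← hc, ← hp0, ← hp, ← hq, ← hr0, ← hr, ← hs, e_p0, e_r0]
    ring
  rw [hdetval] at hdet
  have hDu : IsUnit (p * s - q * r) := isUnit_of_mul_isUnit_right hdet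
  have ha1 : a = 1 := by
    have h0 : (2 * (p * s - q * r)) * (1 - a) = 0 := by
      linear_combination (s) * E1 + (-q) * E3 + (-r) * E2 + (p) * E4
    have hu : IsUnit (2 * (p * s - q * r)) := h2.mul hDu
    have := hu.mul_left_cancel (h0.trans (mul_zero _).symm)
    linear_combination -this
  have hq0 : q = 0 := by
    rw [ha1] at E4
    linear_combination E4
  have hsp : s = p := by
    rw [ha1] at E3
    linear_combination -E3
  have hpu : IsUnit p := by
    rw [hq0, hsp] at hDu
    have : p * p - 0 * r = p * p := by ring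
    rw [this] at hDu
    exact isUnit_of_mul_isUnit_left hDu
  refine ⟨b, c, r, p, hpu, ?_, ?_, ?_⟩
  · conv_lhs => rw [hexp (φ (bs 0))]
    rw [← ha, ← hb, ← hc, ha1, one_smul]
  · conv_lhs => rw [hexp (φ (bs 1))]
    rw [← hp0, ← hp, ← hq, e_p0, hq0, zero_smul, zero_smul, zero_add, add_zero]
  · conv_lhs => rw [hexp (φ (bs 2))]
    rw [← hr0, ← hr, ← hs, e_r0, hsp, zero_smul, zero_add]

end Groth.Agent.S13101
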