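import Groth.Statements.S13104
import Mathlib
import Groth.Agent.Helper6.SpecEpi

set_option autoImplicit false
universe u
open GrpSch

namespace Groth.Agent.S13104

open CategoryTheory AlgebraicGeometry in
/-- Let B be a commutative ring, B[ε] the ring of dual numbers (ε² = 0) and B[α, β]/(α², β²) the double
dual numbers, realised as dual numbers over the dual numbers with α the inner and β the outer
generator, and let ψ : B[ε] → B[α, β]/(α², β²) be the B-algebra homomorphism with ψ(ε) = αβ. Then
for every scheme G the map u ↦ Spec(ψ) ≫ u from morphisms Spec B[ε] → G to morphisms Spec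
B[α,β]/(α²,β²) → G is injective. (The printed statement is its consequence for a group scheme G: the
map Lie(G)(B) → G(B[α,β]/(α²,β²)), x ↦ exp(αβ x), is injective; the injectivity on all B[ε]-points
stated here is what the printed argument establishes.) -/
theorem result (B : Type u) [CommRing B]
    (ψ : DualNumber B →+* DualNumber (DualNumber B))
    (hψB : ∀ b : B, ψ (algebraMap B (DualNumber B) b) = algebraMap B (DualNumber (DualNumber B)) b)
    (hψ : ψ DualNumber.eps = algebraMap (DualNumber B) (DualNumber (DualNumber B)) DualNumber.eps * DualNumber.eps)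
    (G : Scheme.{u}) :
    Function.Injective (fun u : Spec (CommRingCat.of (DualNumber B)) ⟶ G =>
      Spec.map (CommRingCat.ofHom (R := DualNumber B) (S := DualNumber (DualNumber B)) ψ) ≫ u) := by
  intro u v huv
  simp only at huv
  -- decomposition of elements
  have hdec : ∀ x : DualNumber B, x = algebraMap B (DualNumber B) (TrivSqZeroExt.fst x)
      + algebraMap B (DualNumber B) (TrivSqZeroExt.snd x) * DualNumber.eps := by
    intro x
    apply TrivSqZeroExt.ext
    · simp only [TrivSqZeroExt.algebraMap_eq_inl, TrivSqZeroExt.fst_add, TrivSqZeroExt.fst_mul,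
        TrivSqZeroExt.fst_inl, DualNumber.fst_eps, mul_zero, add_zero]
    · simp only [TrivSqZeroExt.algebraMap_eq_inl, TrivSqZeroExt.snd_add, TrivSqZeroExt.snd_mul,
        TrivSqZeroExt.snd_inl, TrivSqZeroExt.fst_inl, DualNumber.fst_eps, DualNumber.snd_eps,
        smul_eq_mul, mul_one, zero_add, MulOpposite.op_zero, zero_smul, add_zero]
  -- ψ is injective
  have hψx : ∀ x : DualNumber B, ψ x = algebraMap B (DualNumber (DualNumber B)) (TrivSqZeroExt.fst x)
      + algebraMap B (DualNumber (DualNumber B)) (TrivSqZeroExt.snd x)
        * (algebraMap (DualNumber B) (DualNumber (DualNumber B)) DualNumber.eps * DualNumber.eps) := by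
    intro x
    conv_lhs => rw [hdec x]
    rw [map_add, map_mul, hψB, hψB, hψ]
  have hinj : Function.Injective ψ := by
    rw [injective_iff_map_eq_zero]
    intro x hx
    rw [hψx] at hx
    have h1 := congrArg (fun z => TrivSqZeroExt.fst (TrivSqZeroExt.fst z)) hx
    have h2 := congrArg (fun z => TrivSqZeroExt.snd (TrivSqZeroExt.snd z)) hx
    have hal : ∀ b : B, algebraMap B (DualNumber (DualNumber B)) b
        = TrivSqZeroExt.inl (TrivSqZeroExt.inl b) := fun b => rfl
    simp only [hal, TrivSqZeroExt.algebraMap_eq_inl, TrivSqZeroExt.fst_add, TrivSqZeroExt.fst_mul,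
      TrivSqZeroExt.fst_inl, DualNumber.fst_eps, mul_zero, add_zero, TrivSqZeroExt.fst_zero,
      TrivSqZeroExt.snd_add, TrivSqZeroExt.snd_mul, TrivSqZeroExt.snd_inl, DualNumber.snd_eps,
      smul_eq_mul, mul_one, zero_add, MulOpposite.op_zero, zero_smul, TrivSqZeroExt.snd_zero,
      MulOpposite.smul_eq_mul_unop, MulOpposite.unop_op, zero_mul] at h1 h2
    apply TrivSqZeroExt.ext
    · simpa using h1
    · simpa using h2
  -- surjectivity on points
  have hsurj : Function.Surjective (Spec.map (CommRingCat.ofHom (R := DualNumber B)
      (S := DualNumber (DualNumber B)) ψ)).base := by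
    intro p
    let π' : DualNumber (DualNumber B) →+* DualNumber B :=
      (TrivSqZeroExt.fstHom (DualNumber B) (DualNumber B) (DualNumber B)).toRingHom
    let p' : PrimeSpectrum (DualNumber B) := p
    refine ⟨PrimeSpectrum.comap (R := DualNumber (DualNumber B)) (S := DualNumber B) π' p', ?_⟩
    change PrimeSpectrum.comap (R := DualNumber B) (S := DualNumber (DualNumber B)) ψ (PrimeSpectrum.comap (R := DualNumber (DualNumber B)) (S := DualNumber B) π' p') = p'
    apply PrimeSpectrum.ext
    ext x
    simp only [PrimeSpectrum.comap_asIdeal, Ideal.mem_comap]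
    have h3 : π' (ψ x) = algebraMap B (DualNumber B) (TrivSqZeroExt.fst x) := by
      rw [hψx]
      have hal : ∀ b : B, algebraMap B (DualNumber (DualNumber B)) b
          = TrivSqZeroExt.inl (TrivSqZeroExt.inl b) := fun b => rfl
      change TrivSqZeroExt.fst _ = _
      simp only [hal, TrivSqZeroExt.algebraMap_eq_inl, TrivSqZeroExt.fst_add, TrivSqZeroExt.fst_mul,
        TrivSqZeroExt.fst_inl, DualNumber.fst_eps, mul_zero, add_zero]
    rw [h3]
    have hnil : algebraMap B (DualNumber B) (TrivSqZeroExt.snd x) * DualNumber.eps ∈ p'.asIdeal := by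
      apply Ideal.mul_mem_left
      apply p'.isPrime.mem_of_pow_mem 2
      rw [sq, DualNumber.eps_mul_eps]
      exact Ideal.zero_mem _
    constructor
    · intro h
      rw [hdec x]
      exact Ideal.add_mem _ h hnil
    · intro h
      have e : algebraMap B (DualNumber B) (TrivSqZeroExt.fst x)
          = x - algebraMap B (DualNumber B) (TrivSqZeroExt.snd x) * DualNumber.eps := by
        rw [eq_sub_iff_add_eq]; exact (hdec x).symm
      rw [e]
      exact Ideal.sub_mem _ h hnil
  exact Groth.Agent.Helper6.SpecEpi.spec_cancel _ hinj hsurj u v huv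

end Groth.Agent.S13104
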