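import Groth.Statements.S13106
import Mathlib

set_option autoImplicit false
universe u
open GrpSch

namespace Groth.Agent.S13106

open AlgebraicGeometry CategoryTheory Limits in
lemma ker_ι_eq_bot {Y : Scheme.{u}} (U : Y.Opens) (hU : CInt.IsSchematicallyDense U) :
    U.ι.ker = ⊥ := by
  apply Scheme.IdealSheafData.ext
  funext V
  rw [Scheme.IdealSheafData.ideal_bot, Pi.bot_apply, eq_bot_iff]
  refine (U.ι.ideal_ker_le V).trans ?_
  intro s hs
  rw [RingHom.mem_ker] at hs
  rw [Ideal.mem_bot]
  apply hU V.1
  rw [map_zero]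
  have hle : V.1 ⊓ U ≤ U.ι ''ᵁ U.ι ⁻¹ᵁ V.1 := by
    rw [Scheme.Hom.image_preimage_eq_opensRange_inf, Scheme.Opens.opensRange_ι]
    exact inf_comm _ _ |>.le
  have h0 : (Y.presheaf.map (homOfLE (x := U.ι ''ᵁ U.ι ⁻¹ᵁ V.1)
      (Set.image_preimage_subset _ _)).op) s = 0 := hs
  have h1 := congrArg (Y.presheaf.map (homOfLE hle).op) h0
  rw [map_zero, ← CommRingCat.comp_apply, ← Functor.map_comp] at h1
  exact h1
open AlgebraicGeometry CategoryTheory Limits in
lemma main {X Y Z T : Scheme.{u}} (f : X ⟶ Y)
    (U : Y.Opens) (hU : CInt.IsSchematicallyDense U) [IsIso (f ∣_ U)]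
    (z : Z ⟶ T) [IsSeparated z] (v₁ v₂ : Y ⟶ Z) (hz : v₁ ≫ z = v₂ ≫ z) (h : f ≫ v₁ = f ≫ v₂) :
    v₁ = v₂ := by
  let d : Y ⟶ pullback z z := pullback.lift v₁ v₂ hz
  let i : pullback d (pullback.diagonal z) ⟶ Y := pullback.fst d (pullback.diagonal z)
  have hi : IsClosedImmersion i := inferInstance
  have hiv : i ≫ v₁ = i ≫ v₂ := by
    have hc := pullback.condition (f := d) (g := pullback.diagonal z)
    have h1 := congrArg (· ≫ pullback.fst z z) hc
    have h2 := congrArg (· ≫ pullback.snd z z) hc
    simp only [Category.assoc, d, pullback.lift_fst, pullback.lift_snd, pullback.diagonal_fst,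
      pullback.diagonal_snd, Category.comp_id] at h1 h2
    exact h1.trans h2.symm
  have hUv : U.ι ≫ v₁ = U.ι ≫ v₂ := by
    have : U.ι = inv (f ∣_ U) ≫ (f ⁻¹ᵁ U).ι ≫ f := by
      rw [IsIso.eq_inv_comp, morphismRestrict_ι]
    rw [this]; simp only [Category.assoc, h]
  let u : (U : Scheme.{u}) ⟶ pullback d (pullback.diagonal z) :=
    pullback.lift U.ι (U.ι ≫ v₁) (by
      apply pullback.hom_ext
      · simp only [Category.assoc, d, pullback.lift_fst, pullback.diagonal_fst, Category.comp_id]
      · simp only [Category.assoc, d, pullback.lift_snd, pullback.diagonal_snd, Category.comp_id]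
        exact hUv.symm)
  have hu : u ≫ i = U.ι := pullback.lift_fst _ _ _
  have hker : i.ker = ⊥ := by
    rw [eq_bot_iff, ← ker_ι_eq_bot U hU, ← hu]
    exact u.le_ker_comp i
  have hiso : IsIso i := by
    have h1 : IsIso i.imageι := (Scheme.isIso_subschemeι_iff_eq_bot _).mpr hker
    rw [← i.toImage_imageι]; infer_instance
  exact (cancel_epi i).mp hiv

open CategoryTheory AlgebraicGeometry in
/-- Let f : X → Y be a morphism of schemes and U ⊆ Y a schematically dense open subscheme (for every
open V of Y, restriction of functions from V to V ∩ U is injective) such that the restriction f⁻¹(U)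
→ U of f is an isomorphism. Then two morphisms from Y to a scheme separated over a base T that agree
after composing with f and have the same composite to T are equal: if Z → T is separated and v₁, v₂
: Y → Z satisfy v₁ ≫ (Z → T) = v₂ ≫ (Z → T) and f ≫ v₁ = f ≫ v₂, then v₁ = v₂. (The published
statement is the case of a morphism between two prolongations over A[[t]] of a finite group scheme
over A((t)), where U is the generic fibre, schematically dense by flatness; uniqueness of
prolongation maps follows.) -/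
theorem result {X Y Z T : Scheme.{u}} (f : X ⟶ Y)
    (U : Y.Opens) (hU : CInt.IsSchematicallyDense U) [IsIso (f ∣_ U)]
    (z : Z ⟶ T) [IsSeparated z] (v₁ v₂ : Y ⟶ Z) (hz : v₁ ≫ z = v₂ ≫ z) (h : f ≫ v₁ = f ≫ v₂) :
    v₁ = v₂ := by
  exact main f U hU z v₁ v₂ hz h

end Groth.Agent.S13106
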