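import Groth.Statements.S13109
import Groth.Agent.Helper8.PtFunSN2

set_option autoImplicit false
universe u
open HTop

namespace Groth.Agent.S13109

open AlgebraicGeometry W4c1hilbchowinc in
/-- Let A be a Noetherian seminormal ring whose integral closure in its total ring of fractions is a
finite A-module. Then a pointwise function on Spec A — one element of the residue field κ(y) for
every point y — which varies algebraically along complete discrete valuation rings (for every
complete discrete valuation ring R and every morphism Spec R → Spec A there is an element of R whose
values at the two points of Spec R are the images of the chosen values) is the family of values of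
exactly one global section. Seminormal is meant in the sense that x^3 = y^2 forces x = a^2 and y =
a^3 for a unique a, which for reduced Noetherian rings is equivalent to the criterion on elements of
the total ring of fractions; test rings range over the universe of A. -/
theorem result
    (A : Type u) [CommRing A] [IsNoetherianRing A] (hA : HTop.IsSeminormalRing A)
    (hfin : Module.Finite A (integralClosure A (FractionRing A)))
    (f : PtFun (Spec (CommRingCat.of A))) (hf : f.VariesAlongCompleteDVR) :
    ∃! a : Γ(Spec (CommRingCat.of A), ⊤), PtFun.ofSection (Spec (CommRingCat.of A)) a = f := by
  obtain ⟨b, hb⟩ := Groth.Agent.Helper8.PtFunSN.main_sn hA f hf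
  haveI : IsReduced A := Groth.Agent.Helper7.AwnR.isReduced_of_isSeminormalRing hA
  refine ⟨(AlgebraicGeometry.Scheme.ΓSpecIso (CommRingCat.of A)).inv b, ?_, ?_⟩
  · funext y
    exact (hb y).symm
  · intro a' ha'
    have h1 : (AlgebraicGeometry.Scheme.ΓSpecIso (CommRingCat.of A)).hom a' = b := by
      apply Groth.Agent.Helper8.PtFunGlue.eq_of_evA_eq
      intro y
      rw [← Groth.Agent.Helper8.PtFunGlue.evA_hom_inv, ← hb y]
      exact congrFun ha' y
    rw [← h1]
    exact (CategoryTheory.Iso.hom_inv_id_apply
      (AlgebraicGeometry.Scheme.ΓSpecIso (CommRingCat.of A)) a').symm

end Groth.Agent.S13109
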