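import Groth.Statements.S13114
import Mathlib

set_option autoImplicit false
universe u
open HilbChow

namespace Groth.Agent.S13114

/-- Let k be an algebraically closed field, A a commutative local k-algebra of finite dimension n over k
and u a unit of A. Then the determinant of multiplication by u on the k-vector space A, mapped to
the residue field of A, equals the n-th power of the residue class of u. -/
theorem result
    (k A : Type u) [Field k] [IsAlgClosed k] [CommRing A] [Algebra k A] [IsLocalRing A]
    [Module.Finite k A] (u : Aˣ) :
    algebraMap k (IsLocalRing.ResidueField A) (Algebra.norm k (u : A)) =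
      IsLocalRing.residue A (u : A) ^ Module.finrank k A := by
  classical
  have hfin : Module.Finite k (IsLocalRing.ResidueField A) :=
    Module.Finite.of_surjective (IsScalarTower.toAlgHom k A (IsLocalRing.ResidueField A)).toLinearMap
      (IsLocalRing.residue_surjective (R := A))
  have hint : Algebra.IsIntegral k (IsLocalRing.ResidueField A) := Algebra.IsIntegral.of_finite k _
  obtain ⟨c, hc⟩ := (IsAlgClosed.algebraMap_bijective_of_isIntegral (k := k)
    (K := IsLocalRing.ResidueField A)).2 (IsLocalRing.residue A (u : A))
  have hart : IsArtinianRing A := IsArtinianRing.of_finite k A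
  -- the nilpotent part
  have hxm : (u : A) - algebraMap k A c ∈ IsLocalRing.maximalIdeal A := by
    rw [← IsLocalRing.residue_eq_zero_iff, map_sub, ← hc, sub_eq_zero]
    exact (IsScalarTower.algebraMap_apply k A (IsLocalRing.ResidueField A) c)
  have hxnil : IsNilpotent ((u : A) - algebraMap k A c) := by
    have h1 := IsArtinianRing.isNilpotent_jacobson_bot (R := A)
    rw [IsLocalRing.jacobson_eq_maximalIdeal ⊥ bot_ne_top] at h1
    obtain ⟨N, hN⟩ := h1
    refine ⟨N, ?_⟩
    have : ((u : A) - algebraMap k A c) ^ N ∈ IsLocalRing.maximalIdeal A ^ N := Ideal.pow_mem_pow hxm N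
    rw [hN] at this
    exact this
  have hlnil : IsNilpotent (Algebra.lmul k A (algebraMap k A c - (u : A))) := by
    have : algebraMap k A c - (u : A) = -((u : A) - algebraMap k A c) := by ring
    rw [this]
    exact hxnil.neg.map (Algebra.lmul k A)
  have hdet : Algebra.norm k (u : A) = c ^ Module.finrank k A := by
    rw [Algebra.norm_apply]
    have h1 : Algebra.lmul k A (u : A) = algebraMap k (Module.End k A) c -
        Algebra.lmul k A (algebraMap k A c - (u : A)) := by
      rw [map_sub, AlgHom.commutes, sub_sub_cancel]
    rw [h1, ← LinearMap.eval_charpoly, IsNilpotent.charpoly_eq_X_pow_finrank hlnil]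
    simp
  rw [hdet, map_pow, hc]

end Groth.Agent.S13114
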