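import Groth.Statements.S1312
import Mathlib

set_option autoImplicit false
universe u
open FlatMor

namespace Groth.Agent.S1312

open AlgebraicGeometry CategoryTheory Limits in
/-- Let Y ⟶ Y' be a thickening, let X be the base change to Y of a scheme X' over Y', and assume both X
⟶ Y and X' ⟶ Y' are locally of finite type. Then X ⟶ Y is locally quasi-finite if and only if X' ⟶
Y' is. -/
theorem result {X X' Y Y' : Scheme.{u}} (iX : X ⟶ X') (iY : Y ⟶ Y') (f : X ⟶ Y) (f' : X' ⟶ Y')
    (hY : MoreMor.IsThickening iY) (hc : IsPullback iX f f' iY) [LocallyOfFiniteType f] [LocallyOfFiniteType f'] :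
    LocallyQuasiFinite f ↔ LocallyQuasiFinite f' := by
  obtain ⟨hci, hsurj⟩ := hY
  have hciX : IsClosedImmersion iX := MorphismProperty.of_isPullback hc.flip hci
  have hsX : Surjective iX := MorphismProperty.of_isPullback hc.flip hsurj
  have hcomm : ∀ x : X, f' (iX x) = iY (f x) := by
    intro x
    have := hc.w
    exact congr($(this) x)
  have hinjY : Function.Injective iY := iY.isClosedEmbedding.injective
  have hinjX : Function.Injective iX := iX.isClosedEmbedding.injective
  have himg : ∀ y : Y, f' ⁻¹' {iY y} = iX '' (f ⁻¹' {y}) := by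
    intro y
    ext x'
    constructor
    · intro hx'
      obtain ⟨x, rfl⟩ := hsX.surj x'
      refine ⟨x, ?_, rfl⟩
      apply hinjY
      rw [← hcomm x]
      exact hx'
    · rintro ⟨x, hx, rfl⟩
      show f' (iX x) = iY y
      rw [hcomm x, hx]
  rw [locallyQuasiFinite_iff_isDiscrete_preimage_singleton,
    locallyQuasiFinite_iff_isDiscrete_preimage_singleton]
  constructor
  · intro h y'
    obtain ⟨y, rfl⟩ := hsurj.surj y'
    rw [himg y]
    exact (h y).image iX.isClosedEmbedding.isInducing
  · intro h y
    have h1 := h (iY y)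
    have h2 : f ⁻¹' {y} = iX ⁻¹' (f' ⁻¹' {iY y}) := by
      rw [himg y, Set.preimage_image_eq _ hinjX]
    rw [h2]
    exact h1.preimage iX.continuous.continuousOn hinjX

end Groth.Agent.S1312
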