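import Groth.Statements.S13123
import Mathlib.Tactic

set_option autoImplicit false
universe u
open KumFam

namespace Groth.Agent.S13123

open Polynomial in
theorem result (R : Type u) [CommRing R] [CharP R 2]
    (p q r m ρ s t : R) (hm : m ^ 3 + p * m + q = 0) (hρ : (m ^ 2 + p) ^ 2 * (ρ ^ 2 + ρ) = r)
    (hs : m ^ 2 * (s ^ 2 + s) = (m ^ 2 + p) * ρ) (ht : m ^ 2 * (t ^ 2 + t) = (m ^ 2 + p) * (ρ + 1)) :
    (X ^ 4 + C p * X ^ 2 + C q * X + C r : R[X]) =
      (X - C (m * s)) * (X - C (m * (s + 1))) * (X - C (m * t)) * (X - C (m * (t + 1))) := by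
  have h2 : (2 : R) = 0 := by
    have := CharP.cast_eq_zero R 2
    exact_mod_cast this
  have h2' : (2 : R[X]) = 0 := by
    have : (C (2 : R) : R[X]) = 0 := by rw [h2, C_0]
    rwa [show (C (2 : R) : R[X]) = 2 from map_ofNat C 2] at this
  set a := m ^ 2 * (s ^ 2 + s) with ha
  set b := m ^ 2 * (t ^ 2 + t) with hb
  have hab1 : a + b = m ^ 2 + p := by
    rw [hs, ht]
    linear_combination ((m ^ 2 + p) * ρ) * h2
  have hab2 : a * b = r := by
    rw [hs, ht, ← hρ]
    ring
  have hq : m * (m ^ 2 + p) = q := by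
    linear_combination hm - q * h2
  have E1 : (X - C (m * s)) * (X - C (m * (s + 1))) = X ^ 2 + C m * X + C a := by
    rw [ha]
    simp only [C_mul, C_add, C_pow, C_1]
    linear_combination (-(C m * C s + C m) * X) * h2'
  have E2 : (X - C (m * t)) * (X - C (m * (t + 1))) = X ^ 2 + C m * X + C b := by
    rw [hb]
    simp only [C_mul, C_add, C_pow, C_1]
    linear_combination (-(C m * C t + C m) * X) * h2'
  rw [mul_assoc, E1, E2]
  have hab1' : (C a + C b : R[X]) = C m ^ 2 + C p := by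
    rw [← C_add, hab1]; simp
  have hab2' : (C a * C b : R[X]) = C r := by
    rw [← C_mul, hab2]
  have hq' : (C m * (C m ^ 2 + C p) : R[X]) = C q := by
    rw [← hq]; simp
  linear_combination (-(C m * X ^ 3) - C m ^ 2 * X ^ 2) * h2' - (X ^ 2 + C m * X) * hab1' - hab2' - X * hq'

end Groth.Agent.S13123
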