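import Groth.Statements.S13124
import Mathlib

set_option autoImplicit false
universe u v w
open KumFam

namespace Groth.Agent.S13124

/-- Let k be a commutative ring, A a commutative k-bialgebra that is flat over k, and R a commutative
k-algebra which is an integrally closed domain, with a coaction R → R ⊗ A that is an algebra
homomorphism. Then the ring of invariants (the elements f with coaction f ⊗ 1) is an integrally
closed domain. (The published statement is for a finite group scheme acting on a normal scheme whose
quotient is, locally, the spectrum of the ring of invariants; this row is the affine integral case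
and allows any commutative bialgebra flat over k, flatness being automatic over a field.) -/
theorem result (k : Type u) [CommRing k]
    (A : Type v) [CommRing A] [Bialgebra k A] [Module.Flat k A]
    (R : Type w) [CommRing R] [Algebra k R] [IsDomain R] [IsIntegrallyClosed R]
    [HopfRep.Comod k A R] [GLin.IsCoactAlg k A R] :
    IsIntegrallyClosed (GLin.invariants k A R) := by
  rw [isIntegrallyClosed_iff (FractionRing (GLin.invariants k A R))]
  intro x hx
  -- the field map Frac C → Frac R
  have hinj : Function.Injective (algebraMap (GLin.invariants k A R) R) := Subtype.val_injective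
  let φ : FractionRing (GLin.invariants k A R) →+* FractionRing R :=
    IsFractionRing.map (A := GLin.invariants k A R) (B := R) (K := FractionRing (GLin.invariants k A R))
      (L := FractionRing R) (j := algebraMap (GLin.invariants k A R) R) hinj
  have hφ : ∀ c : GLin.invariants k A R, φ (algebraMap _ _ c) = algebraMap R (FractionRing R) (c : R) := by
    intro c
    simp [φ, IsFractionRing.map, IsLocalization.map_eq]
  -- φ x integral over R
  have hint : IsIntegral R (φ x) := by
    obtain ⟨p, hp, hpx⟩ := hx
    refine ⟨p.map (algebraMap (GLin.invariants k A R) R), hp.map _, ?_⟩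
    rw [Polynomial.eval₂_map]
    have : (algebraMap R (FractionRing R)).comp (algebraMap (GLin.invariants k A R) R) =
        φ.comp (algebraMap (GLin.invariants k A R) (FractionRing (GLin.invariants k A R))) := by
      ext c; exact (hφ c).symm
    rw [this, ← Polynomial.hom_eval₂, hpx, map_zero]
  obtain ⟨r, hr⟩ := (isIntegrallyClosed_iff (FractionRing R)).1 inferInstance hint
  -- write x = c / d
  obtain ⟨c, d, hd, rfl⟩ := IsFractionRing.div_surjective (A := GLin.invariants k A R) x
  have hd0 : (d : GLin.invariants k A R) ≠ 0 := nonZeroDivisors.ne_zero hd
  have hdR : (d : R) ≠ 0 := fun h => hd0 (Subtype.ext h)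
  have hdr : (d : R) * r = (c : R) := by
    apply IsFractionRing.injective R (FractionRing R)
    rw [map_mul, hr, map_div₀, hφ, hφ]
    field_simp
    have : algebraMap R (FractionRing R) (d : R) ≠ 0 := by
      rw [Ne, map_eq_zero_iff _ (IsFractionRing.injective R (FractionRing R))]; exact hdR
    field_simp
  -- r is invariant
  have hrinv : r ∈ GLin.invariants k A R := by
    rw [GLin.mem_invariants_iff]
    have hmulinj : Function.Injective ((LinearMap.mulLeft k (d : R)).rTensor A) := by
      apply Module.Flat.rTensor_preserves_injective_linearMap
      intro a b hab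
      exact mul_left_cancel₀ hdR hab
    apply hmulinj
    have e1 : ∀ z : TensorProduct k R A, (LinearMap.mulLeft k (d : R)).rTensor A z =
        ((d : R) ⊗ₜ[k] (1 : A)) * z := by
      intro z
      induction z using TensorProduct.induction_on with
      | zero => simp
      | add x y hx hy => simp only [map_add, mul_add, hx, hy]
      | tmul x y => simp [Algebra.TensorProduct.tmul_mul_tmul]
    rw [e1, e1]
    have hdinv : HopfRep.Comod.coact (k := k) (A := A) (d : R) = (d : R) ⊗ₜ[k] (1 : A) := d.2
    have hcinv : HopfRep.Comod.coact (k := k) (A := A) (c : R) = (c : R) ⊗ₜ[k] (1 : A) := c.2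
    rw [← hdinv, ← GLin.IsCoactAlg.coact_mul (k := k) (A := A), hdr, hcinv, hdinv,
      Algebra.TensorProduct.tmul_mul_tmul, hdr, mul_one]
  refine ⟨⟨r, hrinv⟩, ?_⟩
  rw [eq_div_iff]
  · rw [← map_mul]
    congr 1
    apply Subtype.ext
    show r * (d : R) = (c : R)
    rw [mul_comm, hdr]
  · rw [Ne, map_eq_zero_iff _ (IsFractionRing.injective _ _)]; exact hd0

end Groth.Agent.S13124
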