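import Groth.Statements.S13125

set_option autoImplicit false
universe u v
open KumFam

namespace Groth.Agent.S13125

open DirectSum in
theorem key_backward {ι : Type u} [DecidableEq ι] [AddMonoid ι]
    {A : Type v} [CommRing A] (𝒜 : ι → AddSubgroup A) [GradedRing 𝒜] (I : Ideal A)
    (ℬ : ι → AddSubgroup (A ⧸ I)) [GradedRing ℬ]
    (hle : ∀ i : ι, (𝒜 i).map (Ideal.Quotient.mk I : A →+ A ⧸ I) ≤ ℬ i) (i : ι) (a : A) :
    ((decompose ℬ (Ideal.Quotient.mk I a) i : ℬ i) : A ⧸ I) =
      Ideal.Quotient.mk I ((decompose 𝒜 a i : 𝒜 i) : A) := by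
  induction a using DirectSum.Decomposition.inductionOn 𝒜 with
  | zero => simp
  | @homogeneous j m =>
    have hm : Ideal.Quotient.mk I (m : A) ∈ ℬ j := hle j ⟨m, m.2, rfl⟩
    rw [decompose_of_mem ℬ hm, decompose_coe]
    by_cases hij : i = j
    · subst hij
      rw [DirectSum.of_eq_same, DirectSum.of_eq_same]
    · rw [DirectSum.of_eq_of_ne _ _ _ hij, DirectSum.of_eq_of_ne _ _ _ hij]
      simp
  | add m m' h1 h2 =>
    rw [map_add, decompose_add, decompose_add, DirectSum.add_apply, DirectSum.add_apply,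
      AddSubgroup.coe_add, AddSubgroup.coe_add, map_add, h1, h2]

open DirectSum


/-- Let A be a commutative ring graded by an additive monoid ι (an abelian group in the published
statement) through additive subgroups 𝒜 i, and I an ideal of A. Then I is a homogeneous ideal if and
only if A/I carries a structure of ι-graded ring ℬ for which the quotient map sends 𝒜 i into ℬ i for
all i. -/
theorem result (ι : Type u) [DecidableEq ι] [AddMonoid ι]
    (A : Type v) [CommRing A] (𝒜 : ι → AddSubgroup A) [GradedRing 𝒜] (I : Ideal A) :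
    I.IsHomogeneous 𝒜 ↔
      ∃ ℬ : ι → AddSubgroup (A ⧸ I), Nonempty (GradedRing ℬ) ∧
        ∀ i : ι, (𝒜 i).map (Ideal.Quotient.mk I : A →+ A ⧸ I) ≤ ℬ i := by
  classical
  constructor
  · intro hI
    let π : A →+ A ⧸ I := (Ideal.Quotient.mk I : A →+ A ⧸ I)
    let ℬ : ι → AddSubgroup (A ⧸ I) := fun i => (𝒜 i).map π
    refine ⟨ℬ, ?_, fun i => le_rfl⟩
    have hgm : SetLike.GradedMonoid ℬ :=
      { one_mem := ⟨1, SetLike.GradedOne.one_mem, map_one (Ideal.Quotient.mk I)⟩
        mul_mem := by
          rintro i j _ _ ⟨a, ha, rfl⟩ ⟨b, hb, rfl⟩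
          exact ⟨a * b, SetLike.GradedMul.mul_mem ha hb, map_mul (Ideal.Quotient.mk I) a b⟩ }
    -- the component maps
    let comp : ∀ i, 𝒜 i →+ ℬ i := fun i =>
      { toFun := fun a => ⟨π (a : A), ⟨(a : A), a.2, rfl⟩⟩
        map_zero' := Subtype.ext (map_zero π)
        map_add' := fun a b => Subtype.ext (map_add π (a : A) (b : A)) }
    let φ : A →+ ⨁ i, ℬ i :=
      (DirectSum.map comp).comp (DirectSum.decomposeAddEquiv 𝒜).toAddMonoidHom
    have hφI : ∀ x ∈ I, φ x = 0 := by
      intro x hx
      change DirectSum.map comp (DirectSum.decompose 𝒜 x) = 0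
      refine DFinsupp.ext fun i => ?_
      rw [DirectSum.map_apply]
      apply Subtype.ext
      change Ideal.Quotient.mk I ((DirectSum.decompose 𝒜 x i : 𝒜 i) : A) = 0
      exact Ideal.Quotient.eq_zero_iff_mem.2 (hI i hx)
    let dec : A ⧸ I →+ ⨁ i, ℬ i := QuotientAddGroup.lift I.toAddSubgroup φ (fun x hx => hφI x hx)
    have hdec : ∀ a : A, dec (Ideal.Quotient.mk I a) = φ a := fun a => rfl
    have hφhom : ∀ (j : ι) (m : 𝒜 j), φ (m : A) = DirectSum.of (fun i => ℬ i) j (comp j m) := by
      intro j m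
      change DirectSum.map comp (DirectSum.decompose 𝒜 (m : A)) = _
      rw [DirectSum.decompose_coe, DirectSum.map_of]
    have hdecomp : DirectSum.Decomposition ℬ := by
      refine DirectSum.Decomposition.ofAddHom (ℳ := ℬ) dec ?_ ?_
      · ext y
        obtain ⟨a, rfl⟩ := Ideal.Quotient.mk_surjective y
        change DirectSum.coeAddMonoidHom ℬ (dec (Ideal.Quotient.mk I a)) = Ideal.Quotient.mk I a
        rw [hdec]
        induction a using DirectSum.Decomposition.inductionOn 𝒜 with
        | zero => simp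
        | @homogeneous j m =>
          rw [hφhom, DirectSum.coeAddMonoidHom_of]
          rfl
        | add m m' h1 h2 => rw [map_add, map_add, h1, h2, map_add]
      · refine DirectSum.addHom_ext fun j z => ?_
        obtain ⟨y, a, ha, rfl⟩ := z
        change dec (DirectSum.coeAddMonoidHom ℬ (DirectSum.of (fun i => ℬ i) j ⟨π a, _⟩)) = _
        rw [DirectSum.coeAddMonoidHom_of]
        change dec (Ideal.Quotient.mk I a) = _
        rw [hdec]
        have := hφhom j ⟨a, ha⟩
        exact this
    exact ⟨{ hgm, hdecomp with }⟩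
  · rintro ⟨ℬ, ⟨hG⟩, hle⟩
    intro i x hx
    have h := key_backward 𝒜 I ℬ hle i x
    rw [Ideal.Quotient.eq_zero_iff_mem.2 hx] at h
    rw [DirectSum.decompose_zero, DirectSum.zero_apply] at h
    exact Ideal.Quotient.eq_zero_iff_mem.1 h.symm

end Groth.Agent.S13125
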