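import Groth.Statements.S13126
import Mathlib

set_option autoImplicit false
universe u
open KumFam

namespace Groth.Agent.S13126

open Polynomial in
theorem prod_dvd_of_roots {R : Type u} [CommRing R] {ι : Type} [DecidableEq ι] (a : ι → R) (s : Finset ι)
    (hs : ∀ i ∈ s, ∀ j ∈ s, i ≠ j → IsUnit (a j - a i)) :
    ∀ f : R[X], (∀ i ∈ s, f.eval (a i) = 0) → ∏ i ∈ s, (X - C (a i)) ∣ f := by
  induction s using Finset.induction_on with
  | empty => intro f _; simp
  | insert i₀ s hi₀ ih =>
    intro f hf
    have h0 : f.IsRoot (a i₀) := hf i₀ (Finset.mem_insert_self _ _)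
    obtain ⟨g, rfl⟩ := dvd_iff_isRoot.2 h0
    rw [Finset.prod_insert hi₀]
    refine mul_dvd_mul_left _ (ih (fun i hi j hj hij => hs i (Finset.mem_insert_of_mem hi) j
      (Finset.mem_insert_of_mem hj) hij) g ?_)
    intro j hj
    have h1 := hf j (Finset.mem_insert_of_mem hj)
    rw [eval_mul, eval_sub, eval_X, eval_C] at h1
    have hu : IsUnit (a j - a i₀) := hs i₀ (Finset.mem_insert_self _ _) j (Finset.mem_insert_of_mem hj)
      (fun h => hi₀ (h ▸ hj))
    exact (hu.mul_right_eq_zero).1 h1

open Polynomial in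
theorem exists_interp {R : Type u} [CommRing R] {ι : Type} [DecidableEq ι] (a : ι → R) (s : Finset ι)
    (hs : ∀ i ∈ s, ∀ j ∈ s, i ≠ j → IsUnit (a j - a i)) (y : ι → R) :
    ∃ f : R[X], ∀ i ∈ s, f.eval (a i) = y i := by
  induction s using Finset.induction_on with
  | empty => exact ⟨0, fun i hi => absurd hi (Finset.notMem_empty i)⟩
  | insert i₀ s hi₀ ih =>
    obtain ⟨f, hf⟩ := ih (fun i hi j hj hij => hs i (Finset.mem_insert_of_mem hi) j
      (Finset.mem_insert_of_mem hj) hij)
    have hu : IsUnit (∏ j ∈ s, (a i₀ - a j)) := by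
      refine Finset.prod_induction _ IsUnit (fun _ _ => IsUnit.mul) isUnit_one fun j hj => ?_
      exact hs j (Finset.mem_insert_of_mem hj) i₀ (Finset.mem_insert_self _ _) (fun h => hi₀ (h ▸ hj))
    obtain ⟨u, hu⟩ := hu
    refine ⟨f + C ((y i₀ - f.eval (a i₀)) * (u⁻¹ : Rˣ)) * ∏ j ∈ s, (X - C (a j)), ?_⟩
    intro i hi
    rw [Finset.mem_insert] at hi
    rcases hi with rfl | hi
    · rw [eval_add, eval_mul, eval_C, eval_prod]
      simp only [eval_sub, eval_X, eval_C]
      rw [← hu, mul_assoc, Units.inv_mul, mul_one]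
      ring
    · rw [eval_add, eval_mul, eval_prod, Finset.prod_eq_zero hi (by simp), mul_zero, add_zero]
      exact hf i hi

open Polynomial in
/-- Let R be a commutative ring, n a natural number which is a unit in R, and ζ ∈ R with ζ^n = 1 and 1 −
ζ^i a unit for 0 < i < n (a primitive n-th root of unity in the fibrewise sense: the powers ζ^0, …,
ζ^(n−1) are roots of X^n − 1 with pairwise unit differences; over an integral domain in which n is a
unit this is the same as ζ having multiplicative order n). Then the R-algebra homomorphism R[X] →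
(Fin n → R) sending a polynomial to its values at ζ^0, …, ζ^(n−1) is surjective and its kernel is
the ideal generated by X^n − 1; hence R[X]/(X^n − 1) ≅ R^n as R-algebras, i.e. the scheme of n-th
roots of unity over Spec R is the disjoint union of n copies of Spec R. (The published statement
asks that R contain a primitive n-th root of unity without defining the term; its Chinese-remainder
argument uses that the ideals (X − ζ^i), i < n, are pairwise comaximal, which is the unit-difference
condition taken as the hypothesis here, whereas under the reading 'ζ has multiplicative order n'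
alone the surjectivity fails over a product of two fields. The published statement also asserts that
the isomorphism respects the group-scheme structures of the n-th roots of unity and of the constant
group ℤ/n; this row does not state that.) -/
theorem result (R : Type u) [CommRing R]
    (n : ℕ) (hn : IsUnit (n : R)) (ζ : R) (hζ : ζ ^ n = 1)
    (hprim : ∀ i : ℕ, 0 < i → i < n → IsUnit (1 - ζ ^ i)) :
    Function.Surjective (AlgHom.pi (fun i : Fin n => Polynomial.aeval (R := R) (ζ ^ (i : ℕ)))) ∧
      RingHom.ker (AlgHom.pi (fun i : Fin n => Polynomial.aeval (R := R) (ζ ^ (i : ℕ)))) =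
        Ideal.span {(X ^ n - 1 : R[X])} := by
  classical
  rcases subsingleton_or_nontrivial R with hsub | hnt
  · refine ⟨fun y => ⟨0, Subsingleton.elim _ _⟩, Subsingleton.elim _ _⟩
  have hnpos : 0 < n := by
    rcases Nat.eq_zero_or_pos n with hn0 | hnpos
    · subst hn0
      rw [Nat.cast_zero, isUnit_zero_iff] at hn
      exact absurd hn zero_ne_one
    · exact hnpos
  -- `ζ` is a unit
  have hζu : IsUnit ζ := by
    obtain ⟨m, rfl⟩ := Nat.exists_eq_succ_of_ne_zero hnpos.ne'
    rw [pow_succ] at hζ
    exact IsUnit.of_mul_eq_one _ (by rw [mul_comm]; exact hζ)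
  have hdiff : ∀ i ∈ (Finset.univ : Finset (Fin n)), ∀ j ∈ (Finset.univ : Finset (Fin n)), i ≠ j →
      IsUnit (ζ ^ (j : ℕ) - ζ ^ (i : ℕ)) := by
    intro i _ j _ hij
    have key : ∀ a b : ℕ, a < b → b < n → IsUnit (ζ ^ a - ζ ^ b) ∧ IsUnit (ζ ^ b - ζ ^ a) := by
      intro a b hab hb
      have h1 : IsUnit (1 - ζ ^ (b - a)) := hprim (b - a) (by omega) (by omega)
      have h2 : ζ ^ b = ζ ^ a * ζ ^ (b - a) := by rw [← pow_add]; congr 1; omega
      have h3 : ζ ^ a - ζ ^ b = ζ ^ a * (1 - ζ ^ (b - a)) := by rw [h2]; ring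
      have h4 : IsUnit (ζ ^ a - ζ ^ b) := by rw [h3]; exact (hζu.pow a).mul h1
      refine ⟨h4, ?_⟩
      have : ζ ^ b - ζ ^ a = -(ζ ^ a - ζ ^ b) := by ring
      rw [this]; exact h4.neg
    rcases lt_or_gt_of_ne (fun h => hij (Fin.ext h) : (i : ℕ) ≠ (j : ℕ)) with h | h
    · exact (key i j h j.2).2
    · exact (key j i h i.2).1
  have happ : ∀ (f : R[X]) (i : Fin n),
      (AlgHom.pi (fun i : Fin n => Polynomial.aeval (R := R) (ζ ^ (i : ℕ)))) f i =
        f.eval (ζ ^ (i : ℕ)) := by
    intro f i
    rw [AlgHom.pi_apply, Polynomial.coe_aeval_eq_eval]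
  refine ⟨?_, ?_⟩
  · intro y
    obtain ⟨f, hf⟩ := exists_interp (fun i : Fin n => ζ ^ (i : ℕ)) Finset.univ hdiff y
    refine ⟨f, funext fun i => ?_⟩
    rw [happ]
    exact hf i (Finset.mem_univ i)
  · have hprod : (X ^ n - 1 : R[X]) = ∏ i : Fin n, (X - C (ζ ^ (i : ℕ))) := by
      have hdvd : ∏ i : Fin n, (X - C (ζ ^ (i : ℕ))) ∣ (X ^ n - 1 : R[X]) := by
        refine prod_dvd_of_roots (fun i : Fin n => ζ ^ (i : ℕ)) Finset.univ hdiff _ ?_
        intro i _
        simp only [Polynomial.eval_sub, Polynomial.eval_pow, Polynomial.eval_X, Polynomial.eval_one]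
        rw [← pow_mul, mul_comm, pow_mul, hζ, one_pow, sub_self]
      have hm1 : (∏ i : Fin n, (X - C (ζ ^ (i : ℕ))) : R[X]).Monic :=
        Polynomial.monic_prod_of_monic _ _ fun i _ => Polynomial.monic_X_sub_C _
      have hm2 : (X ^ n - 1 : R[X]).Monic := by
        have := Polynomial.monic_X_pow_sub_C (1 : R) hnpos.ne'
        simpa using this
      refine Polynomial.eq_of_monic_of_dvd_of_natDegree_le hm1 hm2 hdvd ?_
      rw [Polynomial.natDegree_prod_of_monic _ _ fun i _ => Polynomial.monic_X_sub_C _]
      have : (X ^ n - 1 : R[X]).natDegree = n := by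
        have := Polynomial.natDegree_X_pow_sub_C (R := R) (n := n) (r := 1)
        simpa using this
      rw [this, Finset.sum_congr rfl (fun (i : Fin n) _ => Polynomial.natDegree_X_sub_C (ζ ^ (i : ℕ)))]
      simp
    ext f
    rw [RingHom.mem_ker, Ideal.mem_span_singleton, hprod]
    constructor
    · intro hf
      refine prod_dvd_of_roots (fun i : Fin n => ζ ^ (i : ℕ)) Finset.univ hdiff f ?_
      intro i _
      rw [← happ, hf]
      rfl
    · rintro ⟨g, rfl⟩
      funext i
      rw [happ, Polynomial.eval_mul, Polynomial.eval_prod, Finset.prod_eq_zero (Finset.mem_univ i) (by simp),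
        zero_mul]
      rfl

end Groth.Agent.S13126
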