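import Groth.Statements.S13127
import Groth.Agent.Helper6.PSAut
import Mathlib.Tactic

set_option autoImplicit false
universe u
open KumFam

namespace Groth.Agent.S13127

open MvPowerSeries in
/-- Let R be a commutative ring of characteristic 2 and l0, l2, l4, s0, s2, s4, τ, lam, sig ∈ R with l4,
s4, lam, sig units, and let κ₁, κ₂ ∈ R satisfy s4² κ₁³ = sig² and l4² κ₂³ = lam² (cube roots of
sig²/s4² and lam²/l4²). In the power series ring R[[a, b, c]] (a = X 0, b = X 1, c = X 2) put F = c²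
+ s0² a³ b⁴ + s2² a³ b² + s4² a³ + l0² a⁴ b³ + l2² a² b³ + l4² b³ + τ² a³ b³ and F₀ = c² + sig² a³ +
lam² b³. Then some R-algebra automorphism of R[[a, b, c]] maps F to F₀; consequently R[[a, b,
c]]/(F) ≅ R[[a, b, c]]/(F₀). (In the published statement lam, sig are the representatives in the
ground field of the residues of l4, s4 at a rational point, so that F₀ is the equation of the
special fibre made constant; this row takes them to be arbitrary units.) -/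
theorem result (R : Type u) [CommRing R] [CharP R 2]
    (l0 l2 l4 s0 s2 s4 τ lam sig κ₁ κ₂ : R) (hl4 : IsUnit l4) (hs4 : IsUnit s4) (hlam : IsUnit lam)
    (hsig : IsUnit sig) (h₁ : s4 ^ 2 * κ₁ ^ 3 = sig ^ 2) (h₂ : l4 ^ 2 * κ₂ ^ 3 = lam ^ 2) :
    ∃ φ : MvPowerSeries (Fin 3) R ≃ₐ[R] MvPowerSeries (Fin 3) R,
      φ ((X 2 ^ 2 + C (s0 ^ 2) * X 0 ^ 3 * X 1 ^ 4 + C (s2 ^ 2) * X 0 ^ 3 * X 1 ^ 2 +
          C (s4 ^ 2) * X 0 ^ 3 + C (l0 ^ 2) * X 0 ^ 4 * X 1 ^ 3 + C (l2 ^ 2) * X 0 ^ 2 * X 1 ^ 3 +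
          C (l4 ^ 2) * X 1 ^ 3 + C (τ ^ 2) * X 0 ^ 3 * X 1 ^ 3 : MvPowerSeries (Fin 3) R)) =
        (X 2 ^ 2 + C (sig ^ 2) * X 0 ^ 3 + C (lam ^ 2) * X 1 ^ 3 : MvPowerSeries (Fin 3) R) := by
  classical
  have h2R : (2 : R) = 0 := CharTwo.two_eq_zero
  have h3 : IsUnit (3 : R) := by
    have : (3 : R) = 1 := by linear_combination h2R
    rw [this]; exact isUnit_one
  obtain ⟨f, hf, hf3⟩ := Groth.Agent.Helper6.PSAut.exists_unit_cube h3 s4 sig κ₁ hs4 hsig h₁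
    (C (s2 ^ 2) * X 1 ^ 2 + C (s0 ^ 2) * X 1 ^ 4 + C (τ ^ 2) * X 1 ^ 3 : MvPowerSeries (Fin 3) R)
    (by simp)
  obtain ⟨g, hg, hg3⟩ := Groth.Agent.Helper6.PSAut.exists_unit_cube h3 l4 lam κ₂ hl4 hlam h₂
    (C (l2 ^ 2) * X 0 ^ 2 + C (l0 ^ 2) * X 0 ^ 4 : MvPowerSeries (Fin 3) R)
    (by simp)
  obtain ⟨θ₁, h10, h1s⟩ := Groth.Agent.Helper6.PSAut.exists_algEquiv_X_mul (0 : Fin 3) f hf
  obtain ⟨θ₂, h21, h2s⟩ := Groth.Agent.Helper6.PSAut.exists_algEquiv_X_mul (1 : Fin 3) (θ₁.symm g)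
    (hg.map θ₁.symm)
  refine ⟨(θ₂.trans θ₁).symm, ?_⟩
  rw [AlgEquiv.symm_apply_eq, AlgEquiv.trans_apply]
  have a1 : θ₁ (X 1) = X 1 := h1s 1 (by decide)
  have a2 : θ₁ (X 2) = X 2 := h1s 2 (by decide)
  have b0 : θ₂ (X 0) = X 0 := h2s 0 (by decide)
  have b2 : θ₂ (X 2) = X 2 := h2s 2 (by decide)
  simp only [map_add, map_mul, map_pow, h21, b0, b2, h10, a1, a2, AlgEquiv.apply_symm_apply,
    Groth.Agent.Helper6.PSAut.algEquiv_C]
  simp only [map_pow] at hf3 hg3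
  linear_combination (-(X 0 ^ 3)) * hf3 + (-(X 1 ^ 3)) * hg3

end Groth.Agent.S13127
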