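import Groth.Statements.S13128
import Groth.Agent.Helper6.PSAut
import Mathlib.Tactic

set_option autoImplicit false
universe u
open KumFam

namespace Groth.Agent.S13128

open MvPowerSeries in
/-- Let R be a commutative ring of characteristic 2, l0, l2, l4, s0, s2, s4, τ ∈ R with τ a unit, and α,
β ∈ R with l4² α⁴ + l2² α² + τ² α + l0² = 0 and s4² β⁴ + s2² β² + τ² β + s0² = 0. In characteristic
2 these relations give τ² α = (l4 α² + l2 α + l0)² and τ² β = (s4 β² + s2 β + s0)², so α = α′² and β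
= β′² with α′ = (l4 α² + l2 α + l0)/τ and β′ = (s4 β² + s2 β + s0)/τ. In R[[a, b, c]] (a = X 0, b =
X 1, c = X 2) put h = c² + τ² a b + (s4² b⁴ + s2² b²) a + (l4² a⁴ + l2² a²) b + l4² β a⁴ + l2² β a²
+ s4² α b⁴ + s2² α b²; this is the chart equation c² + τ² a b + (s4² b⁴ + s2² b² + s0²) a + (l4² a⁴
+ l2² a² + l0²) b after the substitution a ↦ a + α, b ↦ b + β, c ↦ c + τ α′ β′, which moves the
point (α, β, τ α′ β′) of that surface, where all partial derivatives vanish, to the origin. Then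
some R-algebra automorphism of R[[a, b, c]] maps h to c² + a b; consequently R[[a, b, c]]/(h) ≅
R[[a, b, c]]/(c² + a b), the completed local ring of an ordinary double point, constant over R. (The
published statement translates only a and b, so that its h carries the additional constant term τ² α
β; with that term h is a unit of R[[a, b, c]] whenever τ α β is a unit, for instance c² + a b + 1
over the field with two elements with l0 = s0 = τ = α = β = 1 and l2 = l4 = s2 = s4 = 0, and no ring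
automorphism carries a unit to c² + a b. The published proof begins by shifting c by a polynomial in
a, b whose constant term is τ α′ β′, a substitution of the polynomial ring which removes the term τ²
α β, and the rest of its argument takes place in R[[a, b, c]]; this row states the result for the
fully translated equation, which is what that argument proves.) -/
theorem result (R : Type u) [CommRing R] [CharP R 2]
    (l0 l2 l4 s0 s2 s4 τ α β : R) (hτ : IsUnit τ)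
    (hα : l4 ^ 2 * α ^ 4 + l2 ^ 2 * α ^ 2 + τ ^ 2 * α + l0 ^ 2 = 0)
    (hβ : s4 ^ 2 * β ^ 4 + s2 ^ 2 * β ^ 2 + τ ^ 2 * β + s0 ^ 2 = 0) :
    ∃ φ : MvPowerSeries (Fin 3) R ≃ₐ[R] MvPowerSeries (Fin 3) R,
      φ ((X 2 ^ 2 + C (τ ^ 2) * X 0 * X 1 + (C (s4 ^ 2) * X 1 ^ 4 + C (s2 ^ 2) * X 1 ^ 2) * X 0 +
          (C (l4 ^ 2) * X 0 ^ 4 + C (l2 ^ 2) * X 0 ^ 2) * X 1 + C (l4 ^ 2 * β) * X 0 ^ 4 +
          C (l2 ^ 2 * β) * X 0 ^ 2 + C (s4 ^ 2 * α) * X 1 ^ 4 + C (s2 ^ 2 * α) * X 1 ^ 2 :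
          MvPowerSeries (Fin 3) R)) =
        (X 2 ^ 2 + X 0 * X 1 : MvPowerSeries (Fin 3) R) := by
  classical
  obtain ⟨t, ht⟩ := hτ.exists_right_inv
  have h2R : (2 : R) = 0 := CharTwo.two_eq_zero
  obtain ⟨α', hα'⟩ : ∃ α', α' = t * (l4 * α ^ 2 + l2 * α + l0) := ⟨_, rfl⟩
  obtain ⟨β', hβ'⟩ : ∃ β', β' = t * (s4 * β ^ 2 + s2 * β + s0) := ⟨_, rfl⟩
  have hαsq : α' ^ 2 = α := by
    rw [hα']
    linear_combination t ^ 2 * hα + (t ^ 2 * (l4 * l2 * α ^ 3 + l4 * l0 * α ^ 2 + l2 * l0 * α) - α) * h2R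
      - α * (1 + τ * t) * ht
  have hβsq : β' ^ 2 = β := by
    rw [hβ']
    linear_combination t ^ 2 * hβ + (t ^ 2 * (s4 * s2 * β ^ 3 + s4 * s0 * β ^ 2 + s2 * s0 * β) - β) * h2R
      - β * (1 + τ * t) * ht
  have h2P : (2 : MvPowerSeries (Fin 3) R) = 0 := by
    have : (2 : MvPowerSeries (Fin 3) R) = C (2 : R) := by
      rw [map_ofNat]
    rw [this, h2R, map_zero]
  have hA : (C α' : MvPowerSeries (Fin 3) R) ^ 2 = C α := by rw [← map_pow, hαsq]
  have hB : (C β' : MvPowerSeries (Fin 3) R) ^ 2 = C β := by rw [← map_pow, hβsq]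
  obtain ⟨Q, hQdef⟩ : ∃ Q : MvPowerSeries (Fin 3) R, Q = C (l4 * β') * X 0 ^ 2 + C (l2 * β') * X 0 +
      C (s4 * α') * X 1 ^ 2 + C (s2 * α') * X 1 := ⟨_, rfl⟩
  obtain ⟨U, hUdef⟩ : ∃ U : MvPowerSeries (Fin 3) R, U = C (τ ^ 2) + C (s4 ^ 2) * X 1 ^ 3 +
      C (s2 ^ 2) * X 1 + C (l4 ^ 2) * X 0 ^ 3 + C (l2 ^ 2) * X 0 := ⟨_, rfl⟩
  have hU : IsUnit U := by
    rw [MvPowerSeries.isUnit_iff_constantCoeff, hUdef]
    simp
    exact hτ
  obtain ⟨θa, hθa0, hθas⟩ := Groth.Agent.Helper6.PSAut.exists_algEquiv_X_zero_mul U hU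
  obtain ⟨θc, hθc⟩ := Groth.Agent.Helper6.PSAut.exists_algEquiv_translate (2 : Fin 3) Q
    (by rw [hQdef]; simp) (by
      intro g hg hi
      have h0 : g 0 = X 0 := hi 0 (by decide)
      have h1 : g 1 = X 1 := hi 1 (by decide)
      rw [hQdef]
      simp only [subst_add hg, subst_mul hg, subst_pow hg, subst_C, subst_X hg, h0, h1])
  refine ⟨θc.symm.trans θa.symm, ?_⟩
  rw [AlgEquiv.trans_apply, AlgEquiv.symm_apply_eq, AlgEquiv.symm_apply_eq]
  have e1 : θa (X 1) = X 1 := hθas 0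
  have e2 : θa (X 2) = X 2 := hθas 1
  have c0 : θc (X 0) = X 0 := by simpa using hθc 0
  have c1 : θc (X 1) = X 1 := by simpa using hθc 1
  have c2 : θc (X 2) = X 2 + Q := by simpa using hθc 2
  have cC : ∀ r : R, θc (C r) = C r := fun r => by
    have := θc.commutes r
    simpa [MvPowerSeries.algebraMap_apply] using this
  simp only [map_add, map_mul, map_pow, hθa0, e1, e2, c0, c1, c2, hUdef, cC]
  rw [hQdef]
  simp only [map_mul, map_pow]
  linear_combination (-(C l4 ^ 2 * X 0 ^ 4 + C l2 ^ 2 * X 0 ^ 2)) * hB +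
    (-(C s4 ^ 2 * X 1 ^ 4 + C s2 ^ 2 * X 1 ^ 2)) * hA +
    (-(X 2 * (C l4 * C β' * X 0 ^ 2 + C l2 * C β' * X 0 + C s4 * C α' * X 1 ^ 2 + C s2 * C α' * X 1) +
      (C l4 * C β' * X 0 ^ 2) * (C l2 * C β' * X 0) + (C l4 * C β' * X 0 ^ 2) * (C s4 * C α' * X 1 ^ 2) +
      (C l4 * C β' * X 0 ^ 2) * (C s2 * C α' * X 1) + (C l2 * C β' * X 0) * (C s4 * C α' * X 1 ^ 2) +
      (C l2 * C β' * X 0) * (C s2 * C α' * X 1) + (C s4 * C α' * X 1 ^ 2) * (C s2 * C α' * X 1))) * h2P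

end Groth.Agent.S13128
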