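import Groth.Statements.S1313
import Groth.Agent.S0417

set_option autoImplicit false
universe u
open FlatMor

namespace Groth.Agent.S1313

open AlgebraicGeometry CategoryTheory Limits in
theorem aux {X X' Y Y' : Scheme.{u}} (iX : X ⟶ X') (iY : Y ⟶ Y') (f : X ⟶ Y) (f' : X' ⟶ Y')
    (hY : MoreMor.IsThickening iY) (hc : IsPullback iX f f' iY) [LocallyOfFiniteType f] [LocallyOfFiniteType f'] :
    IsClosedImmersion f ↔ IsClosedImmersion f' := by
  obtain ⟨hci, hsurj⟩ := hY
  constructor
  · intro hf
    haveI : IsClosedImmersion iX := MorphismProperty.of_isPullback hc.flip hci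
    haveI : Surjective iX := MorphismProperty.of_isPullback hc.flip hsurj
    haveI : QuasiCompact (iX ≫ f') := by rw [hc.w]; infer_instance
    haveI : QuasiCompact f' := Groth.Agent.Lead.quasiCompact_of_comp_surjective iX f'
    have hbij : Function.Bijective iY := ⟨iY.isClosedEmbedding.injective, hsurj.surj⟩
    have hsnd : pullback.snd f' iY = hc.isoPullback.inv ≫ f := by
      rw [Iso.eq_inv_comp]
      exact hc.isoPullback_hom_snd
    haveI : IsClosedImmersion (pullback.snd f' iY) := by rw [hsnd]; infer_instance
    exact Groth.Agent.S0417.aux f' iY hbij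
  · intro hf'
    exact MorphismProperty.of_isPullback hc hf'

open AlgebraicGeometry CategoryTheory Limits in
/-- Let Y ⟶ Y' be a thickening, let X be the base change to Y of a scheme X' over Y', and assume both X
⟶ Y and X' ⟶ Y' are locally of finite type. Then X ⟶ Y is a closed immersion if and only if X' ⟶ Y'
is. -/
theorem result {X X' Y Y' : Scheme.{u}} (iX : X ⟶ X') (iY : Y ⟶ Y') (f : X ⟶ Y) (f' : X' ⟶ Y')
    (hY : MoreMor.IsThickening iY) (hc : IsPullback iX f f' iY) [LocallyOfFiniteType f] [LocallyOfFiniteType f'] :
    IsClosedImmersion f ↔ IsClosedImmersion f' := by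
  exact aux iX iY f f' hY hc

end Groth.Agent.S1313
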