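import Groth.Statements.S13130
import Mathlib.Tactic

set_option autoImplicit false
universe u v
open KumFam

namespace Groth.Agent.S13130

/-- Let R be a nontrivial commutative ring and M a commutative group, with group algebra R[M], the
coordinate ring of the diagonalizable group scheme D(M) over Spec R. Then D(M) is integral over Spec
R, i.e. R[M] is an integral R-algebra, if and only if M is a torsion group. (The published statement
is over an arbitrary base scheme; the question is local and this row is the affine form, with R
nontrivial so that the elements of M are R-linearly independent.) -/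
theorem result (R : Type u) [CommRing R] [Nontrivial R]
    (M : Type v) [CommGroup M] :
    Algebra.IsIntegral R (MonoidAlgebra R M) ↔ IsMulTorsion M := by
  constructor
  · intro h g
    by_contra hg
    have hinj : Function.Injective (fun n : ℕ => g ^ n) := injective_pow_iff_not_isOfFinOrder.2 hg
    obtain ⟨P, hPm, hP⟩ := h.isIntegral (MonoidAlgebra.of R M g)
    rw [← Polynomial.aeval_def, Polynomial.aeval_eq_sum_range] at hP
    have hterm : ∀ i : ℕ, P.coeff i • (MonoidAlgebra.of R M g) ^ i = MonoidAlgebra.single (g ^ i) (P.coeff i) := by
      intro i
      rw [← map_pow, MonoidAlgebra.of_apply, MonoidAlgebra.smul_single, smul_eq_mul, mul_one]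
    simp only [hterm] at hP
    have h2 := congrArg (fun f : MonoidAlgebra R M => f.coeff (g ^ P.natDegree)) hP
    simp only [MonoidAlgebra.coeff_sum, MonoidAlgebra.coeff_zero, Finsupp.coe_zero, Pi.zero_apply,
      Finsupp.coe_finsetSum, Finset.sum_apply, MonoidAlgebra.coeff_single] at h2
    rw [Finset.sum_eq_single P.natDegree] at h2
    · rw [Finsupp.single_eq_same, Polynomial.coeff_natDegree, hPm.leadingCoeff] at h2
      exact one_ne_zero h2
    · intro i _ hi
      apply Finsupp.single_eq_of_ne
      intro heq
      exact hi (hinj heq).symm
    · intro hn
      exact absurd (Finset.mem_range.2 (Nat.lt_succ_self _)) hn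
  · intro h
    refine ⟨fun x => ?_⟩
    induction x using MonoidAlgebra.induction_on with
    | of g =>
      obtain ⟨n, hn, hgn⟩ := (h g).exists_pow_eq_one
      apply IsIntegral.of_pow hn
      rw [← map_pow, hgn, map_one]
      exact isIntegral_one
    | add a b ha hb => exact ha.add hb
    | smul r a ha => exact ha.smul r

end Groth.Agent.S13130
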