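import Groth.Statements.S13131
import Mathlib

set_option autoImplicit false
universe u
open CategoryTheory CategoryTheory.Limits AlgebraicGeometry
open KumFam

namespace Groth.Agent.S13131

open CategoryTheory CategoryTheory.Limits AlgebraicGeometry in
/-- index function -/
noncomputable def idx (S : Scheme.{u}) (M : Type u) (z : ↥(∐ (fun _ : M => S))) : M :=
  ((sigmaMk (fun _ : M => S)).symm z).1

open CategoryTheory CategoryTheory.Limits AlgebraicGeometry in
theorem idx_ι (S : Scheme.{u}) (M : Type u) (m : M) (s : S) :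
    idx S M (Sigma.ι (fun _ : M => S) m s) = m := by
  unfold idx
  rw [← sigmaMk_mk, Homeomorph.symm_apply_apply]

open CategoryTheory CategoryTheory.Limits AlgebraicGeometry in
theorem mem_range_ι_idx (S : Scheme.{u}) (M : Type u) (z : ↥(∐ (fun _ : M => S))) :
    z ∈ Set.range (Sigma.ι (fun _ : M => S) (idx S M z)) := by
  refine ⟨((sigmaMk (fun _ : M => S)).symm z).2, ?_⟩
  rw [← sigmaMk_mk]
  unfold idx
  simp

open CategoryTheory CategoryTheory.Limits AlgebraicGeometry in
theorem isLocallyConstant_idx (S : Scheme.{u}) (M : Type u) : IsLocallyConstant (idx S M) := by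
  intro s
  rw [isOpen_iff_forall_mem_open]
  intro z hz
  refine ⟨Set.range (Sigma.ι (fun _ : M => S) (idx S M z)), ?_,
    (Sigma.ι (fun _ : M => S) (idx S M z)).isOpenEmbedding.isOpen_range, mem_range_ι_idx S M z⟩
  rintro _ ⟨w, rfl⟩
  show idx S M _ ∈ s
  rw [idx_ι]
  exact hz

/-- Let S be a scheme, M a set and p : T → S a scheme over S. The S-morphisms T → ∐_{m ∈ M} S (the
constant S-scheme on M, with its structure map the codiagonal) are in bijection with the locally
constant maps T → M, a morphism f corresponding to the function sending t to the index of the copy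
of S containing f(t). (In the published statement M is a group and ∐_M S the constant group scheme;
the group structures play no role in this description of T-points.) -/
theorem result (S : Scheme.{u}) (M : Type u)
    (T : Scheme.{u}) (p : T ⟶ S) :
    ∃ e : {f : T ⟶ ∐ (fun _ : M => S) // f ≫ Sigma.desc (fun _ : M => 𝟙 S) = p} ≃
        LocallyConstant T M,
      ∀ (f : {f : T ⟶ ∐ (fun _ : M => S) // f ≫ Sigma.desc (fun _ : M => 𝟙 S) = p}) (t : T),
        e f t = ((sigmaMk (fun _ : M => S)).symm (f.1.base t)).1 := by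
  classical
  let ι := fun m => Sigma.ι (fun _ : M => S) m
  let d := Sigma.desc (fun _ : M => 𝟙 S)
  have hιd : ∀ m, ι m ≫ d = 𝟙 S := fun m => by simp [ι, d]
  let toLC : {f : T ⟶ ∐ (fun _ : M => S) // f ≫ d = p} → LocallyConstant T M := fun f =>
    ⟨fun t => Groth.Agent.S13131.idx S M (f.1.base t),
      (Groth.Agent.S13131.isLocallyConstant_idx S M).comp_continuous f.1.continuous⟩
  have key : ∀ (f : {f : T ⟶ ∐ (fun _ : M => S) // f ≫ d = p}) (m : M) (U : T.Opens),
      (∀ t ∈ U, Groth.Agent.S13131.idx S M (f.1.base t) = m) → U.ι ≫ f.1 = U.ι ≫ p ≫ ι m := by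
    intro f m U hU
    have hrange : Set.range (U.ι ≫ f.1) ⊆ Set.range (ι m) := by
      rintro _ ⟨t, rfl⟩
      have := Groth.Agent.S13131.mem_range_ι_idx S M (f.1.base (U.ι t))
      rw [hU _ (by exact t.2)] at this
      exact this
    have h1 : IsOpenImmersion.lift (ι m) (U.ι ≫ f.1) hrange ≫ ι m = U.ι ≫ f.1 :=
      IsOpenImmersion.lift_fac _ _ _
    have h2 : IsOpenImmersion.lift (ι m) (U.ι ≫ f.1) hrange = U.ι ≫ p := by
      calc IsOpenImmersion.lift (ι m) (U.ι ≫ f.1) hrange
          = IsOpenImmersion.lift (ι m) (U.ι ≫ f.1) hrange ≫ ι m ≫ d := by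
            rw [hιd, Category.comp_id]
        _ = (U.ι ≫ f.1) ≫ d := by rw [← Category.assoc, h1]
        _ = U.ι ≫ p := by rw [Category.assoc, f.2]
    rw [← h1, h2, Category.assoc]
  have hinj : Function.Injective toLC := by
    intro f f' hff'
    apply Subtype.ext
    let U : M → T.Opens := fun m =>
      ⟨(toLC f) ⁻¹' {m}, (toLC f).isLocallyConstant.isOpen_fiber m⟩
    have hU : TopologicalSpace.IsOpenCover U := by
      show ⨆ m, U m = ⊤
      rw [eq_top_iff]
      intro t _
      exact TopologicalSpace.Opens.mem_iSup.2 ⟨toLC f t, rfl⟩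
    apply (T.openCoverOfIsOpenCover U hU).hom_ext
    intro (m : M)
    show (U m).ι ≫ f.1 = (U m).ι ≫ f'.1
    rw [key f m (U m) (fun t ht => ht), key f' m (U m) (fun t ht => by
      have h1 : toLC f' t = toLC f t := by rw [hff']
      exact h1.trans ht)]
  have hsurj : Function.Surjective toLC := by
    intro l
    let U : M → T.Opens := fun m => ⟨l ⁻¹' {m}, l.isLocallyConstant.isOpen_fiber m⟩
    have hU : TopologicalSpace.IsOpenCover U := by
      show ⨆ m, U m = ⊤
      rw [eq_top_iff]
      intro t _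
      exact TopologicalSpace.Opens.mem_iSup.2 ⟨l t, rfl⟩
    let 𝒰 := T.openCoverOfIsOpenCover U hU
    have hcompat : ∀ m m' : M, pullback.fst (𝒰.f m) (𝒰.f m') ≫ ((U m).ι ≫ p ≫ ι m) =
        pullback.snd (𝒰.f m) (𝒰.f m') ≫ ((U m').ι ≫ p ≫ ι m') := by
      intro m m'
      by_cases hmm : m = m'
      · subst hmm
        have hc : pullback.fst (𝒰.f m) (𝒰.f m) ≫ (U m).ι = pullback.snd (𝒰.f m) (𝒰.f m) ≫ (U m).ι :=
          pullback.condition
        have := congrArg (fun φ => φ ≫ (p ≫ ι m)) hc
        exact (Category.assoc _ _ _).symm.trans (this.trans (Category.assoc _ _ _))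
      · haveI : IsEmpty ↑(pullback (𝒰.f m) (𝒰.f m')) := by
          constructor
          intro z
          have hc : pullback.fst (𝒰.f m) (𝒰.f m') ≫ (U m).ι =
              pullback.snd (𝒰.f m) (𝒰.f m') ≫ (U m').ι := pullback.condition
          have hz := congrArg (fun φ : pullback (𝒰.f m) (𝒰.f m') ⟶ T => φ z) hc
          have hz' : (U m).ι (pullback.fst (𝒰.f m) (𝒰.f m') z) =
              (U m').ι (pullback.snd (𝒰.f m) (𝒰.f m') z) := hz
          have h1 : l ((U m).ι (pullback.fst (𝒰.f m) (𝒰.f m') z)) = m :=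
            (pullback.fst (𝒰.f m) (𝒰.f m') z).2
          have h2 : l ((U m').ι (pullback.snd (𝒰.f m) (𝒰.f m') z)) = m' :=
            (pullback.snd (𝒰.f m) (𝒰.f m') z).2
          rw [hz'] at h1
          exact hmm (h1.symm.trans h2)
        exact (isInitialOfIsEmpty (X := pullback (𝒰.f m) (𝒰.f m'))).hom_ext _ _
    let f : T ⟶ ∐ (fun _ : M => S) := 𝒰.glueMorphisms (fun m => (U m).ι ≫ p ≫ ι m) hcompat
    have hf : ∀ m, (U m).ι ≫ f = (U m).ι ≫ p ≫ ι m := fun m =>
      𝒰.ι_glueMorphisms (fun m => (U m).ι ≫ p ≫ ι m) hcompat m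
    have hfd : f ≫ d = p := by
      apply 𝒰.hom_ext
      intro (m : M)
      show (U m).ι ≫ f ≫ d = (U m).ι ≫ p
      rw [← Category.assoc, hf m, Category.assoc, Category.assoc, hιd, Category.comp_id]
    refine ⟨⟨f, hfd⟩, ?_⟩
    ext t
    show Groth.Agent.S13131.idx S M (f.base t) = l t
    have ht : t ∈ U (l t) := rfl
    have h1 : f.base t = ((U (l t)).ι ≫ f) ⟨t, ht⟩ := rfl
    rw [h1, hf (l t)]
    simp only [Scheme.Hom.comp_apply]
    exact Groth.Agent.S13131.idx_ι S M (l t) _
  refine ⟨Equiv.ofBijective toLC ⟨hinj, hsurj⟩, ?_⟩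
  intro f t
  rfl

end Groth.Agent.S13131
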