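import Groth.Statements.S13132
import Groth.Agent.Helper2.ArtinReg
open Groth.Agent.Helper2.ArtinReg Function IsLocalRing
-- import your own Groth.Agent.* helpers here

set_option autoImplicit false
universe u v
open CAlg

namespace Groth.Agent.S13132

/-- Let A' be an Artinian local ring, I a proper ideal of A' and S' a flat A'-algebra. An element f' of
S' is a non-zero-divisor exactly when its image in S'/IS' is one; and when f' is a non-zero-divisor,
the quotient S'/(f') is flat over A'. (The published statement is for local Artinian algebras with a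
fixed residue field over a ring of Witt vectors and a surjection between two of them; the argument
uses only that A' is Artinian local and I is a proper ideal, which is the form taken here.) -/
theorem result
    {A' : Type u} [CommRing A'] [IsArtinianRing A'] [IsLocalRing A'] (I : Ideal A') (hI : I ≠ ⊤)
    {S' : Type v} [CommRing S'] [Algebra A' S'] [Module.Flat A' S'] (f' : S') :
    (f' ∈ nonZeroDivisors S' ↔
      Ideal.Quotient.mk (I.map (algebraMap A' S')) f' ∈ nonZeroDivisors (S' ⧸ I.map (algebraMap A' S'))) ∧
    (f' ∈ nonZeroDivisors S' → Module.Flat A' (S' ⧸ Ideal.span {f'})) := by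
  have hnil := isNilpotent_maximalIdeal A'
  let φ : S' →ₗ[A'] S' := LinearMap.mulLeft A' f'
  let π : S' →ₗ[A'] (S' ⧸ Ideal.span {f'}) := (Ideal.Quotient.mkₐ A' (Ideal.span {f'})).toLinearMap
  have hπ : Surjective π := Ideal.Quotient.mk_surjective
  have hex : Exact φ π := by
    intro y
    show Ideal.Quotient.mk _ y = 0 ↔ _
    rw [Ideal.Quotient.eq_zero_iff_mem, Ideal.mem_span_singleton']
    constructor
    · rintro ⟨a, rfl⟩
      exact ⟨a, mul_comm _ _⟩
    · rintro ⟨a, rfl⟩
      exact ⟨a, mul_comm _ _⟩
  obtain ⟨h1, h2⟩ := main hnil φ I hI π hπ hex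
  have e1 : f' ∈ nonZeroDivisors S' ↔ Injective φ := by
    rw [mem_nonZeroDivisors_iff_left, injective_iff_map_eq_zero]
    rfl
  have e2 : Ideal.Quotient.mk (I.map (algebraMap A' S')) f' ∈
      nonZeroDivisors (S' ⧸ I.map (algebraMap A' S')) ↔ InjMod φ I := by
    rw [mem_nonZeroDivisors_iff_left]
    unfold InjMod
    rw [Ideal.smul_top_eq_map]
    constructor
    · intro h z hz
      have := h (Ideal.Quotient.mk _ z) (by
        rw [← map_mul, Ideal.Quotient.eq_zero_iff_mem]
        exact hz)
      rw [Ideal.Quotient.eq_zero_iff_mem] at this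
      exact this
    · intro h z hz
      obtain ⟨z, rfl⟩ := Ideal.Quotient.mk_surjective z
      rw [← map_mul, Ideal.Quotient.eq_zero_iff_mem] at hz
      rw [Ideal.Quotient.eq_zero_iff_mem]
      exact h z hz
  rw [e1, e2]
  exact ⟨h1, h2⟩

end Groth.Agent.S13132
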