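import Groth.Statements.S13133
import Groth.Agent.Helper2.ArtinRegSeq
open Groth.Agent.Helper2.ArtinRegSeq RingTheory.Sequence Function IsLocalRing Groth.Agent.Helper2.ArtinReg
-- import your own Groth.Agent.* helpers here

set_option autoImplicit false
universe u v
open CAlg

namespace Groth.Agent.S13133

/-- Let A' be an Artinian local ring, I a proper ideal of A', S' a flat A'-algebra and f'_1, …, f'_n
elements of S' with n ≥ 1. A family f'_1, …, f'_n in S' is a regular sequence exactly when its
reduction modulo I·S' is a regular sequence of S'/IS'. (Regular sequences are defined in the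
published text over Noetherian rings; this row does not assume S' Noetherian, which the argument
does not use. The published statement is for a surjection of local Artinian algebras with a fixed
residue field over a ring of Witt vectors; only the Artinian local base and the proper ideal are
used, which is the form taken here.) -/
theorem result
    {A' : Type u} [CommRing A'] [IsArtinianRing A'] [IsLocalRing A'] (I : Ideal A') (hI : I ≠ ⊤)
    {S' : Type v} [CommRing S'] [Algebra A' S'] [Module.Flat A' S'] {n : ℕ} (hn : 1 ≤ n)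
    (f' : Fin n → S') :
    RingTheory.Sequence.IsRegular S' (List.ofFn f') ↔
      RingTheory.Sequence.IsRegular (S' ⧸ I.map (algebraMap A' S'))
        (List.ofFn fun i => Ideal.Quotient.mk (I.map (algebraMap A' S')) (f' i)) := by
  have hnil := isNilpotent_maximalIdeal A'
  have hJnil : ∃ k, (I.map (algebraMap A' S')) ^ k = ⊥ := by
    obtain ⟨k, hk⟩ := hnil
    refine ⟨k, ?_⟩
    rw [← Ideal.map_pow]
    have : I ^ k = ⊥ := by
      rw [← le_bot_iff, ← Ideal.zero_eq_bot, ← hk]
      exact Ideal.pow_right_mono (le_maximalIdeal hI) k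
    rw [this, Ideal.map_bot]
  set J := I.map (algebraMap A' S') with hJ
  set fs := List.ofFn f' with hfs
  have hmap : (List.ofFn fun i => Ideal.Quotient.mk J (f' i)) = fs.map (Ideal.Quotient.mk J) := by
    rw [hfs, List.map_ofFn]; rfl
  rw [hmap, isRegular_iff, isRegular_iff]
  have hW : IsWeaklyRegular S' fs ↔ IsWeaklyRegular (S' ⧸ J) (fs.map (Ideal.Quotient.mk J)) := by
    have h1 : IsWeaklyRegular (S' ⧸ J) (fs.map (Ideal.Quotient.mk J)) ↔
        IsWeaklyRegular (S' ⧸ J) fs :=
      isWeaklyRegular_map_algebraMap_iff (S' ⧸ J) (S' ⧸ J) fs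
    rw [h1, isWeaklyRegular_quot_iff, isWeaklyRegular_iff_E_bot]
    exact (flat_and_iff (A := A') (M := S') hnil I hI (J : Submodule S' S')
      (by rw [smul_eq_mul, Ideal.mul_top]) fs fs.length le_rfl).1
  have hT : (⊤ : Submodule S' S') ≠ Ideal.ofList fs • ⊤ ↔
      (⊤ : Submodule (S' ⧸ J) (S' ⧸ J)) ≠ Ideal.ofList (fs.map (Ideal.Quotient.mk J)) • ⊤ := by
    rw [smul_eq_mul, Ideal.mul_top, smul_eq_mul, Ideal.mul_top, ← Ideal.map_ofList]
    rw [not_iff_not]
    constructor
    · intro h
      rw [← h, Ideal.map_top]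
    · intro h
      have h2 : Ideal.ofList fs ⊔ J = ⊤ := by
        have := congrArg (Ideal.comap (Ideal.Quotient.mk J)) h.symm
        rw [Ideal.comap_map_of_surjective _ Ideal.Quotient.mk_surjective, Ideal.comap_top,
          ← RingHom.ker_eq_comap_bot, Ideal.mk_ker] at this
        exact this
      by_contra hne
      obtain ⟨𝔫, h𝔫, hle⟩ := Ideal.exists_le_maximal _ (Ne.symm hne)
      have hJ𝔫 : J ≤ 𝔫 := by
        obtain ⟨k, hk⟩ := hJnil
        exact Ideal.IsPrime.le_of_pow_le (hP := h𝔫.isPrime) (by rw [hk]; exact bot_le)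
      exact h𝔫.ne_top (top_le_iff.1 (h2 ▸ sup_le hle hJ𝔫))
  rw [hW, hT]

end Groth.Agent.S13133
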