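import Groth.Statements.S13134
import Groth.Agent.Helper2.NilpNak
open Groth.Agent.Helper2.NilpNak Function IsLocalRing Groth.Agent.Helper2.ArtinReg
-- import your own Groth.Agent.* helpers here

set_option autoImplicit false
universe u v
open CAlg

namespace Groth.Agent.S13134

/-- Let A' be an Artinian local ring, I a proper ideal, A = A'/I and f_1, …, f_m ∈ A[x_1, …, x_n]. Every
flat A'-algebra B' equipped with a surjection π onto A[x]/(f_1, …, f_m) with kernel I·B', compatible
with A' → A, is a quotient of A'[x_1, …, x_n] by the ideal generated by some lifts f'_1, …, f'_m of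
the f_i, compatibly with π and with reduction of polynomials modulo I. (The published statement is
for a surjection of local Artinian algebras with a fixed residue field over a ring of Witt vectors;
only the Artinian local base and the proper ideal are used, which is the form taken here.) -/
theorem result
    {A' : Type u} [CommRing A'] [IsArtinianRing A'] [IsLocalRing A'] (I : Ideal A') (hI : I ≠ ⊤)
    {n m : ℕ} (f : Fin m → MvPolynomial (Fin n) (A' ⧸ I))
    {B' : Type v} [CommRing B'] [Algebra A' B'] [Module.Flat A' B']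
    (π : B' →+* MvPolynomial (Fin n) (A' ⧸ I) ⧸ Ideal.span (Set.range f))
    (hπ : Function.Surjective π) (hker : RingHom.ker π = I.map (algebraMap A' B'))
    (hcomp : π.comp (algebraMap A' B') =
      ((Ideal.Quotient.mk (Ideal.span (Set.range f))).comp MvPolynomial.C).comp (Ideal.Quotient.mk I)) :
    ∃ (f' : Fin m → MvPolynomial (Fin n) A') (ψ : MvPolynomial (Fin n) A' →ₐ[A'] B'),
      (∀ i, MvPolynomial.map (Ideal.Quotient.mk I) (f' i) = f i) ∧
      Function.Surjective ψ ∧ RingHom.ker ψ.toRingHom = Ideal.span (Set.range f') ∧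
      ∀ q, π (ψ q) = Ideal.Quotient.mk (Ideal.span (Set.range f)) (MvPolynomial.map (Ideal.Quotient.mk I) q) := by
  classical
  have hnilm := isNilpotent_maximalIdeal A'
  have hInil : IsNilpotent I := by
    obtain ⟨k, hk⟩ := hnilm
    refine ⟨k, ?_⟩
    rw [Ideal.zero_eq_bot, ← le_bot_iff, ← Ideal.zero_eq_bot, ← hk]
    exact Ideal.pow_right_mono (le_maximalIdeal hI) k
  set ρ : MvPolynomial (Fin n) A' →+* MvPolynomial (Fin n) (A' ⧸ I) :=
    MvPolynomial.map (Ideal.Quotient.mk I) with hρ
  have hρs : Surjective ρ := MvPolynomial.map_surjective _ Ideal.Quotient.mk_surjective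
  have hρker : RingHom.ker ρ = I.map MvPolynomial.C := by
    rw [hρ, MvPolynomial.ker_map, Ideal.mk_ker]
  set mkF := Ideal.Quotient.mk (Ideal.span (Set.range f)) with hmkF
  choose b hb using fun j : Fin n => hπ (mkF (MvPolynomial.X j))
  let ψ : MvPolynomial (Fin n) A' →ₐ[A'] B' := MvPolynomial.aeval b
  have hπψ : ∀ q, π (ψ q) = mkF (ρ q) := by
    have : π.comp ψ.toRingHom = mkF.comp ρ := by
      apply MvPolynomial.ringHom_ext
      · intro a
        simp only [RingHom.comp_apply]
        have h1 : ψ.toRingHom (MvPolynomial.C a) = algebraMap A' B' a := by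
          simp [ψ]
        rw [h1]
        have := RingHom.congr_fun hcomp a
        simp only [RingHom.comp_apply] at this
        rw [this, hρ, MvPolynomial.map_C]
      · intro j
        simp only [RingHom.comp_apply]
        have h1 : ψ.toRingHom (MvPolynomial.X j) = b j := by
          simp [ψ]
        rw [h1, hb, hρ, MvPolynomial.map_X]
    intro q
    exact RingHom.congr_fun this q
  have hIB : ∀ y : B', y ∈ (I • ⊤ : Submodule A' B') ↔ π y = 0 := by
    intro y
    rw [Ideal.smul_top_eq_map, Submodule.restrictScalars_mem, ← hker, RingHom.mem_ker]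
  have hIP : ∀ q : MvPolynomial (Fin n) A', q ∈ (I • ⊤ : Submodule A' (MvPolynomial (Fin n) A')) ↔
      ρ q = 0 := by
    intro q
    rw [Ideal.smul_top_eq_map, Submodule.restrictScalars_mem, MvPolynomial.algebraMap_eq,
      ← hρker, RingHom.mem_ker]
  have hψs : Surjective ψ := by
    have h1 : (⊤ : Submodule A' B') ≤ LinearMap.range ψ.toLinearMap ⊔ I • ⊤ := by
      intro y _
      obtain ⟨qb, hqb⟩ := Ideal.Quotient.mk_surjective (π y)
      obtain ⟨q, rfl⟩ := hρs qb
      rw [Submodule.mem_sup]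
      refine ⟨ψ q, ⟨q, rfl⟩, y - ψ q, ?_, by abel⟩
      rw [hIB, map_sub, hπψ, ← hqb, sub_self]
    have h2 := le_of_le_sup_smul_of_isNilpotent I hInil ⊤ (LinearMap.range ψ.toLinearMap) h1
    intro y
    exact h2 (Submodule.mem_top (x := y))
  have hlift : ∀ i, ∃ q : MvPolynomial (Fin n) A', ρ q = f i ∧ ψ q = 0 := by
    intro i
    obtain ⟨g, hg⟩ := hρs (f i)
    have h1 : ψ g ∈ (I • ⊤ : Submodule A' B') := by
      rw [hIB, hπψ, hg, hmkF, Ideal.Quotient.eq_zero_iff_mem]
      exact Ideal.subset_span ⟨i, rfl⟩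
    have h2 : (I • ⊤ : Submodule A' B') = Submodule.map ψ.toLinearMap (I • ⊤) := by
      rw [Submodule.map_smul'', Submodule.map_top, LinearMap.range_eq_top.2 hψs]
    rw [h2] at h1
    obtain ⟨h, hh, hhg⟩ := h1
    refine ⟨g - h, ?_, ?_⟩
    · rw [map_sub, hg, (hIP h).1 hh, sub_zero]
    · rw [map_sub]
      exact sub_eq_zero.2 hhg.symm
  choose f' hf'1 hf'2 using hlift
  refine ⟨f', ψ, hf'1, hψs, ?_, hπψ⟩
  have hle : Ideal.span (Set.range f') ≤ RingHom.ker ψ.toRingHom := by
    rw [Ideal.span_le]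
    rintro _ ⟨i, rfl⟩
    exact hf'2 i
  apply le_antisymm _ hle
  set Ks : Submodule A' (MvPolynomial (Fin n) A') := LinearMap.ker ψ.toLinearMap with hKs
  set Fs : Submodule A' (MvPolynomial (Fin n) A') :=
    (Ideal.span (Set.range f')).restrictScalars A' with hFs
  have hFK : Fs ≤ Ks := by
    intro q hq
    exact hle hq
  have ha : Ks ≤ Fs ⊔ I • ⊤ := by
    intro q hq
    have hq0 : ψ q = 0 := hq
    have h1 : ρ q ∈ Ideal.span (Set.range f) := by
      rw [← Ideal.Quotient.eq_zero_iff_mem, ← hπψ, hq0, map_zero]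
    have h2 : Ideal.span (Set.range f) = (Ideal.span (Set.range f')).map ρ := by
      rw [Ideal.map_span]
      congr 1
      ext x
      constructor
      · rintro ⟨i, rfl⟩
        exact ⟨f' i, ⟨i, rfl⟩, hf'1 i⟩
      · rintro ⟨_, ⟨i, rfl⟩, rfl⟩
        exact ⟨i, (hf'1 i).symm⟩
    rw [h2, Ideal.mem_map_iff_of_surjective ρ hρs] at h1
    obtain ⟨q', hq', hqq⟩ := h1
    rw [Submodule.mem_sup]
    refine ⟨q', hq', q - q', ?_, by abel⟩
    rw [hIP, map_sub, hqq, sub_self]
  have hb' : Ks ⊓ I • ⊤ ≤ I • Ks := ker_inf_smul_le' ψ.toLinearMap hψs I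
  have hc : Ks ≤ Fs ⊔ I • Ks := by
    intro q hq
    obtain ⟨q', hq', r, hr, rfl⟩ := Submodule.mem_sup.1 (ha hq)
    have hrK : r ∈ Ks := by
      have := Ks.sub_mem hq (hFK hq')
      simpa using this
    exact Submodule.mem_sup.2 ⟨q', hq', r, hb' ⟨hrK, hr⟩, rfl⟩
  have hd := le_of_le_sup_smul_of_isNilpotent I hInil Ks Fs hc
  intro q hq
  exact hd hq

end Groth.Agent.S13134
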