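import Groth.Statements.S13135
import Groth.Agent.Helper2.ArtinRegSeq
open RingTheory.Sequence Function IsLocalRing Groth.Agent.Helper2.ArtinReg Groth.Agent.Helper2.ArtinRegSeq
-- import your own Groth.Agent.* helpers here

set_option autoImplicit false
universe u
open CAlg

namespace Groth.Agent.S13135

/-- Let A' be an Artinian local ring, I a proper ideal, A = A'/I and f_1, …, f_m a regular sequence in
A[x_1, …, x_n]. For every choice of lifts f'_1, …, f'_m in A'[x_1, …, x_n] the quotient A'[x]/(f'_1,
…, f'_m) is flat over A' (so it is a flat lifting of A[x]/(f_1, …, f_m)). (The published statement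
is for a surjection of local Artinian algebras with a fixed residue field over a ring of Witt
vectors; only the Artinian local base and the proper ideal are used, which is the form taken here.) -/
theorem result
    {A' : Type u} [CommRing A'] [IsArtinianRing A'] [IsLocalRing A'] (I : Ideal A') (hI : I ≠ ⊤)
    {n m : ℕ} (f : Fin m → MvPolynomial (Fin n) (A' ⧸ I))
    (hreg : RingTheory.Sequence.IsRegular (MvPolynomial (Fin n) (A' ⧸ I)) (List.ofFn f))
    (f' : Fin m → MvPolynomial (Fin n) A') (hf' : ∀ i, MvPolynomial.map (Ideal.Quotient.mk I) (f' i) = f i) :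
    Module.Flat A' (MvPolynomial (Fin n) A' ⧸ Ideal.span (Set.range f')) := by
  have hnil := isNilpotent_maximalIdeal A'
  set ρ : MvPolynomial (Fin n) A' →+* MvPolynomial (Fin n) (A' ⧸ I) :=
    MvPolynomial.map (Ideal.Quotient.mk I) with hρ
  have hρs : Surjective ρ := MvPolynomial.map_surjective _ Ideal.Quotient.mk_surjective
  letI : Algebra (MvPolynomial (Fin n) A') (MvPolynomial (Fin n) (A' ⧸ I)) := ρ.toAlgebra
  set fs := List.ofFn f' with hfs
  have hmap : List.ofFn f = fs.map (algebraMap (MvPolynomial (Fin n) A') (MvPolynomial (Fin n) (A' ⧸ I))) := by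
    rw [hfs, List.map_ofFn]
    congr 1
    funext i
    exact (hf' i).symm
  have h1 : IsWeaklyRegular (MvPolynomial (Fin n) (A' ⧸ I)) fs := by
    have := hreg.toIsWeaklyRegular
    rw [hmap] at this
    exact (isWeaklyRegular_map_algebraMap_iff (MvPolynomial (Fin n) (A' ⧸ I))
      (MvPolynomial (Fin n) (A' ⧸ I)) fs).1 this
  set K : Submodule (MvPolynomial (Fin n) A') (MvPolynomial (Fin n) A') :=
    LinearMap.ker (Algebra.linearMap (MvPolynomial (Fin n) A') (MvPolynomial (Fin n) (A' ⧸ I))) with hKdef
  let e : (MvPolynomial (Fin n) A' ⧸ K) ≃ₗ[MvPolynomial (Fin n) A'] MvPolynomial (Fin n) (A' ⧸ I) :=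
    LinearMap.quotKerEquivOfSurjective _ hρs
  have h2 : IsWeaklyRegular (MvPolynomial (Fin n) A' ⧸ K) fs := (e.isWeaklyRegular_congr fs).2 h1
  rw [isWeaklyRegular_quot_iff] at h2
  have hK : K = I.map (algebraMap A' (MvPolynomial (Fin n) A')) • ⊤ := by
    rw [smul_eq_mul, Ideal.mul_top, MvPolynomial.algebraMap_eq]
    have : RingHom.ker ρ = I.map MvPolynomial.C := by
      rw [hρ, MvPolynomial.ker_map, Ideal.mk_ker]
    rw [← this]
    rfl
  obtain ⟨h3, h4⟩ := flat_and_iff (A := A') (M := MvPolynomial (Fin n) A') hnil I hI K hK fs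
    fs.length le_rfl
  have h5 := h4 (h3.2 h2)
  have h6 : (Nq fs fs.length : Submodule (MvPolynomial (Fin n) A') (MvPolynomial (Fin n) A')) =
      Ideal.span (Set.range f') := by
    unfold Nq
    rw [List.take_length, smul_eq_mul, Ideal.mul_top]
    unfold Ideal.ofList
    congr 1
    ext x
    simp [hfs, List.mem_ofFn]
  exact Module.Flat.of_linearEquiv ((Submodule.quotEquivOfEq _ _ h6).restrictScalars A').symm

end Groth.Agent.S13135
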