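import Groth.Statements.S13140
import Mathlib

set_option autoImplicit false
universe u v w
open GrpAlg

namespace Groth.Agent.S13140

/-- Let G be a finite group, R a commutative ring in which |G| is a unit, and M a module over the group
algebra R[G] whose underlying R-module is projective. Then M is a projective R[G]-module. -/
theorem result
    (R : Type u) [CommRing R] (G : Type v) [Group G] [Finite G] (hG : IsUnit ((Nat.card G : ℕ) : R))
    (M : Type w) [AddCommGroup M] [Module R M] [Module (MonoidAlgebra R G) M]
    [IsScalarTower R (MonoidAlgebra R G) M] [Module.Projective R M] :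
    Module.Projective (MonoidAlgebra R G) M := by
  classical
  have : Fintype G := Fintype.ofFinite G
  let F := M →₀ MonoidAlgebra R G
  let p : F →ₗ[MonoidAlgebra R G] M := Finsupp.linearCombination (MonoidAlgebra R G) id
  have hp : Function.Surjective p := fun x => ⟨Finsupp.single x 1, by
    show (Finsupp.linearCombination (MonoidAlgebra R G) id) (Finsupp.single x 1) = x
    rw [Finsupp.linearCombination_single, one_smul]; rfl⟩
  let pR : F →ₗ[R] M := p.restrictScalars R
  obtain ⟨s, hs⟩ := Module.projective_lifting_property pR (LinearMap.id : M →ₗ[R] M) hp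
  have hs' : ∀ m, p (s m) = m := fun m => LinearMap.congr_fun hs m
  let s' : M →ₗ[MonoidAlgebra R G] F := s.equivariantProjection G
  apply Module.Projective.of_split s' p
  ext m
  simp only [LinearMap.coe_comp, Function.comp_apply, LinearMap.id_coe, id_eq]
  show p (s' m) = m
  rw [LinearMap.equivariantProjection_apply]
  have h1 : ∀ g : G, p (s.conjugate g m) = m := by
    intro g
    rw [LinearMap.conjugate_apply, map_smul, hs', smul_smul, MonoidAlgebra.single_mul_single,
      inv_mul_cancel, one_mul]
    exact one_smul _ m
  have h2 : p (Ring.inverse (Nat.card G : R) • ∑ g : G, s.conjugate g m) =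
      Ring.inverse (Nat.card G : R) • ∑ g : G, p (s.conjugate g m) := by
    rw [← map_sum]
    exact pR.map_smul _ _
  rw [h2]
  simp only [h1]
  rw [Finset.sum_const, Finset.card_univ, ← Nat.cast_smul_eq_nsmul R, smul_smul,
    Fintype.card_eq_nat_card, Ring.inverse_mul_cancel _ hG, one_smul]

end Groth.Agent.S13140
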