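import Groth.Statements.S13141
import Groth.Agent.Helper6.Reynolds

set_option autoImplicit false
universe u v w w'
open scoped TensorProduct
open GrpAlg

namespace Groth.Agent.S13141

/-- Let G be a finite group, R a commutative ring with |G| invertible in R, M a projective R-module with
an R-linear G-action and S an R-algebra. The natural map M^G ⊗_R S → M ⊗_R S is injective and its
image is the submodule of G-invariants of M ⊗_R S (G acting on the first factor); that is, M^G ⊗_R S
→ (M ⊗_R S)^G is bijective. -/
theorem result
    (R : Type u) [CommRing R] (G : Type v) [Group G] [Finite G] (hG : IsUnit ((Nat.card G : ℕ) : R))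
    (M : Type w) [AddCommGroup M] [Module R M] [Module.Projective R M] (ρ : Representation R G M)
    (S : Type w') [CommRing S] [Algebra R S] :
    Function.Injective (TensorProduct.map ρ.invariants.subtype (LinearMap.id : S →ₗ[R] S)) ∧
    LinearMap.range (TensorProduct.map ρ.invariants.subtype (LinearMap.id : S →ₗ[R] S)) =
      ⨅ g : G, LinearMap.eqLocus (LinearMap.rTensor S (ρ g)) LinearMap.id := by
  classical
  have : Fintype G := Fintype.ofFinite G
  have hG' : IsUnit ((Fintype.card G : ℕ) : R) := by rwa [Fintype.card_eq_nat_card]
  let e : M →ₗ[R] M := Groth.Agent.Helper6.Reynolds.avg ρ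
  have hmem : ∀ x, e x ∈ ρ.invariants := by
    intro x g
    exact Groth.Agent.Helper6.Reynolds.apply_avg ρ g x
  let r : M →ₗ[R] ρ.invariants := e.codRestrict ρ.invariants hmem
  have hri : r.comp ρ.invariants.subtype = LinearMap.id := by
    apply LinearMap.ext
    intro x
    apply Subtype.ext
    show e (x : M) = x
    exact Groth.Agent.Helper6.Reynolds.avg_of_fixed hG' ρ x x.2
  have hir : ρ.invariants.subtype.comp r = e := by
    apply LinearMap.ext
    intro x
    rfl
  have hret : (TensorProduct.map r (LinearMap.id : S →ₗ[R] S)).comp
      (TensorProduct.map ρ.invariants.subtype (LinearMap.id : S →ₗ[R] S)) = LinearMap.id := by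
    rw [← TensorProduct.map_comp, hri, LinearMap.id_comp, TensorProduct.map_id]
  refine ⟨?_, ?_⟩
  · intro x y hxy
    have := congrArg (TensorProduct.map r (LinearMap.id : S →ₗ[R] S)) hxy
    have hx := LinearMap.congr_fun hret x
    have hy := LinearMap.congr_fun hret y
    simp only [LinearMap.coe_comp, Function.comp_apply, LinearMap.id_coe, id_eq] at hx hy
    rw [hx, hy] at this
    exact this
  · apply le_antisymm
    · rintro _ ⟨x, rfl⟩
      rw [Submodule.mem_iInf]
      intro g
      rw [LinearMap.mem_eqLocus, LinearMap.id_apply]
      show (TensorProduct.map (ρ g) LinearMap.id) ((TensorProduct.map ρ.invariants.subtype LinearMap.id) x) = _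
      rw [← LinearMap.comp_apply, ← TensorProduct.map_comp]
      have : (ρ g).comp ρ.invariants.subtype = ρ.invariants.subtype := by
        apply LinearMap.ext
        intro v
        exact v.2 g
      rw [this, LinearMap.id_comp]
    · intro y hy
      rw [Submodule.mem_iInf] at hy
      have hy' : ∀ g : G, (TensorProduct.map (ρ g) (LinearMap.id : S →ₗ[R] S)) y = y := by
        intro g
        have := hy g
        rw [LinearMap.mem_eqLocus, LinearMap.id_apply] at this
        exact this
      have hey : (TensorProduct.map e (LinearMap.id : S →ₗ[R] S)) y = y := by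
        have he : e = Ring.inverse ((Fintype.card G : ℕ) : R) • ∑ g : G, ρ g := rfl
        have h1 : TensorProduct.map e (LinearMap.id : S →ₗ[R] S) = LinearMap.rTensorHom S e := rfl
        rw [h1, he, map_smul, map_sum, LinearMap.smul_apply, LinearMap.sum_apply]
        have h2 : ∀ g : G, (LinearMap.rTensorHom S (ρ g)) y = y := hy'
        simp only [h2]
        rw [Finset.sum_const, Finset.card_univ, ← Nat.cast_smul_eq_nsmul R, smul_smul,
          Ring.inverse_mul_cancel _ hG', one_smul]
      refine ⟨(TensorProduct.map r (LinearMap.id : S →ₗ[R] S)) y, ?_⟩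
      rw [← LinearMap.comp_apply, ← TensorProduct.map_comp, hir, LinearMap.id_comp, hey]

end Groth.Agent.S13141
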