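import Groth.Statements.S13142
import Groth.Agent.Helper6.Reynolds

set_option autoImplicit false
universe u v
open GrpAlg

namespace Groth.Agent.S13142

/-- Let G be a finite group and R a commutative ring with |G| invertible in R, acting on R[x_1, …, x_n]
by R-algebra automorphisms. The invariant subring R[x_1, …, x_n]^G is a flat R-module (so the
quotient of affine n-space over R by G is flat over R). -/
theorem result
    (R : Type u) [CommRing R] (G : Type v) [Group G] [Finite G] (hG : IsUnit ((Nat.card G : ℕ) : R))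
    (n : ℕ) (ρ : G →* (MvPolynomial (Fin n) R ≃ₐ[R] MvPolynomial (Fin n) R)) :
    Module.Flat R ↥(⨅ g : G, LinearMap.eqLocus (ρ g).toLinearMap (LinearMap.id : MvPolynomial (Fin n) R →ₗ[R] MvPolynomial (Fin n) R)) := by
  classical
  have : Fintype G := Fintype.ofFinite G
  have hG' : IsUnit ((Fintype.card G : ℕ) : R) := by rwa [Fintype.card_eq_nat_card]
  let ρ' : G →* (MvPolynomial (Fin n) R →ₗ[R] MvPolynomial (Fin n) R) :=
    { toFun := fun g => (ρ g).toLinearMap
      map_one' := by rw [map_one]; rfl
      map_mul' := fun g h => by rw [map_mul]; rfl }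
  let I : Submodule R (MvPolynomial (Fin n) R) :=
    ⨅ g : G, LinearMap.eqLocus (ρ g).toLinearMap (LinearMap.id : MvPolynomial (Fin n) R →ₗ[R] MvPolynomial (Fin n) R)
  have hmem : ∀ x, Groth.Agent.Helper6.Reynolds.avg ρ' x ∈ I := by
    intro x
    rw [Submodule.mem_iInf]
    intro g
    rw [LinearMap.mem_eqLocus]
    exact Groth.Agent.Helper6.Reynolds.apply_avg ρ' g x
  let r : MvPolynomial (Fin n) R →ₗ[R] I :=
    (Groth.Agent.Helper6.Reynolds.avg ρ').codRestrict I hmem
  show Module.Flat R I
  apply Module.Flat.of_retract I.subtype r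
  apply LinearMap.ext
  intro x
  apply Subtype.ext
  show Groth.Agent.Helper6.Reynolds.avg ρ' (x : MvPolynomial (Fin n) R) = x
  apply Groth.Agent.Helper6.Reynolds.avg_of_fixed hG'
  intro g
  have hx := x.2
  rw [Submodule.mem_iInf] at hx
  exact (hx g)

end Groth.Agent.S13142
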