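import Groth.Statements.S13151
import Mathlib.Tactic

set_option autoImplicit false
universe u
open CAlg

namespace Groth.Agent.S13151

theorem comap_eq {A B : Type u} [CommRing A] [CommRing B]
    [IsDomain A] [IsDomain B] [IsIntegrallyClosed A] [Algebra A B] [Algebra.IsIntegral A B]
    (hinj : Function.Injective (algebraMap A B)) (π : A) :
    (Ideal.span {algebraMap A B π}).comap (algebraMap A B) = Ideal.span {π} := by
  apply le_antisymm
  · intro a ha
    rw [Ideal.mem_comap, Ideal.mem_span_singleton'] at ha
    obtain ⟨b, hb⟩ := ha
    rw [Ideal.mem_span_singleton']
    by_cases hπ : π = 0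
    · subst hπ
      rw [map_zero, mul_zero] at hb
      have : a = 0 := hinj (by rw [← hb, map_zero])
      exact ⟨0, by rw [this, zero_mul]⟩
    let K := FractionRing A
    let L := FractionRing B
    let g₀ : A →+* L := (algebraMap B L).comp (algebraMap A B)
    have hg₀ : Function.Injective g₀ := (IsFractionRing.injective B L).comp hinj
    let g : K →+* L := IsFractionRing.lift hg₀
    have hg : ∀ y : A, g (algebraMap A K y) = g₀ y := fun y => IsFractionRing.lift_algebraMap hg₀ y
    have hginj : Function.Injective g := g.injective
    have hπK : algebraMap A K π ≠ 0 := fun h =>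
      hπ ((injective_iff_map_eq_zero _).1 (IsFractionRing.injective A K) _ h)
    have hπL : g₀ π ≠ 0 := fun h => hπ ((injective_iff_map_eq_zero _).1 hg₀ _ h)
    let x : K := algebraMap A K a / algebraMap A K π
    have hgx : g x = algebraMap B L b := by
      change g (algebraMap A K a / algebraMap A K π) = _
      rw [map_div₀, hg, hg]
      rw [div_eq_iff hπL]
      change algebraMap B L (algebraMap A B a) = algebraMap B L b * algebraMap B L (algebraMap A B π)
      rw [← map_mul, hb]
    obtain ⟨P, hPm, hP⟩ := Algebra.IsIntegral.isIntegral (R := A) b
    have hx : IsIntegral A x := by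
      refine ⟨P, hPm, ?_⟩
      apply hginj
      rw [map_zero, Polynomial.hom_eval₂, hgx]
      have : g.comp (algebraMap A K) = (algebraMap B L).comp (algebraMap A B) := by
        ext y
        exact hg y
      rw [this, ← Polynomial.hom_eval₂, hP, map_zero]
    obtain ⟨y, hy⟩ := IsIntegrallyClosed.algebraMap_eq_of_integral hx
    refine ⟨y, IsFractionRing.injective A K ?_⟩
    rw [map_mul, hy]
    exact div_mul_cancel₀ _ hπK
  · rw [Ideal.span_le]
    intro a ha
    rw [Set.mem_singleton_iff] at ha
    rw [ha]
    exact Ideal.subset_span (Set.mem_singleton _)


/-- Let A → B be an injective ring homomorphism of integral domains which is integral, with A integrally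
closed, and let π be an element of A. Then the contraction to A of the ideal πB is πA, i.e. an
element of A which is a multiple of π in B is already a multiple of π in A; in particular if B/πB is
an integral domain then A/πA is an integral domain. (The published statement is for an integral
dominant morphism of integral schemes flat over a discrete valuation ring, with normal target and π
a uniformizer; flatness and the valuation ring play no role, so π is an arbitrary element here.) -/
theorem result {A B : Type u} [CommRing A] [CommRing B]
    [IsDomain A] [IsDomain B] [IsIntegrallyClosed A] [Algebra A B] [Algebra.IsIntegral A B]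
    (hinj : Function.Injective (algebraMap A B)) (π : A) :
    (Ideal.span {algebraMap A B π}).comap (algebraMap A B) = Ideal.span {π} ∧
      (IsDomain (B ⧸ Ideal.span {algebraMap A B π}) → IsDomain (A ⧸ Ideal.span {π})) := by
  refine ⟨comap_eq hinj π, ?_⟩
  intro hdom
  have hle : Ideal.span {π} ≤ (Ideal.span {algebraMap A B π}).comap (algebraMap A B) :=
    (comap_eq hinj π).ge
  have hinj' : Function.Injective (Ideal.quotientMap (Ideal.span {algebraMap A B π}) (algebraMap A B) hle) :=
    Ideal.quotientMap_injective' (comap_eq hinj π).le
  exact Function.Injective.isDomain _ hinj'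

end Groth.Agent.S13151
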