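import Groth.Statements.S13153
import Mathlib
import Groth.Agent.Helper6.GlueKA
import Groth.Agent.Helper6.KerD

set_option autoImplicit false
universe u
open CAlg

namespace Groth.Agent.S13153

/-- Let R be a discrete valuation ring whose fraction field K has characteristic zero, A an integral
domain which is a faithfully flat R-algebra, with fraction field L, such that K is algebraically
closed in L (every element of L algebraic over K is in the image of K). If f ∈ A has vanishing
differential, df = 0 in Ω_{A/R}, then f is the image of an element of R. (The published statement is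
the sheaf form: for a faithfully flat morphism X → Spec R with geometrically integral generic fibre,
the kernel of d : O_X → Ω¹_{X/R} is the inverse image of O_{Spec R}; for integral X, geometric
integrality of the generic fibre in characteristic zero amounts to K being algebraically closed in
the function field, which is the form used here, and this row is the case of global sections over an
affine X = Spec A.) -/
theorem result (R : Type u) [CommRing R] [IsDomain R]
    [IsDiscreteValuationRing R] [CharZero R] (K : Type u) [Field K] [Algebra R K] [IsFractionRing R K]
    (A : Type u) [CommRing A] [IsDomain A] [Algebra R A] [Module.FaithfullyFlat R A]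
    (L : Type u) [Field L] [Algebra A L] [IsFractionRing A L] [Algebra R L] [Algebra K L]
    [IsScalarTower R A L] [IsScalarTower R K L]
    (hac : ∀ x : L, IsAlgebraic K x → x ∈ (algebraMap K L).range)
    (f : A) (hf : KaehlerDifferential.D R A f = 0) : f ∈ (algebraMap R A).range := by
  classical
  haveI hcK : CharZero K := charZero_of_injective_algebraMap (IsFractionRing.injective R K)
  haveI : SMulCommClass K A L := ⟨fun k a l => by
    simp only [Algebra.smul_def]; exact mul_left_comm _ _ _⟩
  have hD : KaehlerDifferential.D K L (algebraMap A L f) = 0 := by
    have := KaehlerDifferential.map_D R K A L f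
    rw [hf, map_zero] at this
    exact this.symm
  have halg : IsAlgebraic K (algebraMap A L f) :=
    Groth.Agent.Helper6.KerD.isAlgebraic_of_D_eq_zero K L _ hD
  obtain ⟨κ, hκ⟩ := hac _ halg
  obtain ⟨r, s, hs, rfl⟩ := IsFractionRing.div_surjective (A := R) κ
  have hs0 : s ≠ 0 := nonZeroDivisors.ne_zero hs
  have hsK : algebraMap R K s ≠ 0 := by
    intro h
    exact hs0 ((IsFractionRing.injective R K) (by rw [h, map_zero]))
  have hAL : Function.Injective (algebraMap A L) := IsFractionRing.injective A L
  have hRA : Function.Injective (algebraMap R A) := FaithfulSMul.algebraMap_injective R A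
  -- s • f = algebraMap r
  have h1 : s • f = algebraMap R A r := by
    apply hAL
    rw [Algebra.smul_def, map_mul, ← IsScalarTower.algebraMap_apply R A L,
      ← IsScalarTower.algebraMap_apply R A L, ← hκ,
      IsScalarTower.algebraMap_apply R K L s, IsScalarTower.algebraMap_apply R K L r,
      ← map_mul, mul_div_cancel₀ _ hsK]
  -- r ∈ s R by faithful flatness
  have h2 : (1 : A) ⊗ₜ[R] r = s • (f ⊗ₜ[R] (1 : R)) := by
    rw [TensorProduct.smul_tmul', h1, Algebra.algebraMap_eq_smul_one, TensorProduct.smul_tmul,
      smul_eq_mul, mul_one]
  obtain ⟨c₀, hc₀⟩ := Groth.Agent.Helper6.GlueKA.exists_eq_smul_of_tmul_eq_smul R A R s r _ h2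
  refine ⟨c₀, ?_⟩
  have h3 : algebraMap R A s * (f - algebraMap R A c₀) = 0 := by
    rw [mul_sub, ← Algebra.smul_def, h1, ← map_mul, hc₀, smul_eq_mul, sub_self]
  have hsA : algebraMap R A s ≠ 0 := by
    intro h
    exact hs0 (hRA (by rw [h, map_zero]))
  have := (mul_eq_zero.1 h3).resolve_left hsA
  exact (sub_eq_zero.1 this).symm

end Groth.Agent.S13153
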