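import Groth.Statements.S13154
import Mathlib
import Groth.Agent.Helper6.GlueKA

set_option autoImplicit false
universe u
open scoped TensorProduct
open CAlg

namespace Groth.Agent.S13154

/-- Let R be a discrete valuation ring with fraction field K, A a faithfully flat R-algebra (an affine
faithfully flat base change S' → S = Spec R) and B₁, B₂ flat R-algebras (two affine S-schemes X₁ =
Spec B₁, X₂ = Spec B₂, flat over S). Suppose given a K-algebra homomorphism φ_K : K ⊗ B₂ → K ⊗ B₁ (a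
morphism of the generic fibres X₁,K → X₂,K) and an A-algebra homomorphism φ_A : A ⊗ B₂ → A ⊗ B₁ (a
morphism X₁ ×_S S' → X₂ ×_S S' over S') which coincide after base change to K ⊗ A, in the sense that
for every b ∈ B₂ the images of φ_K(1 ⊗ b) and φ_A(1 ⊗ b) in (K ⊗ A) ⊗ B₁ agree. Then there is
exactly one R-algebra homomorphism φ : B₂ → B₁ (a morphism X₁ → X₂) whose base changes to K and to A
are φ_K and φ_A. (The published statement assumes only X₂ flat over S; flatness of X₁ is also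
needed: with B₂ = R[t], B₁ = R[e]/(e², πe) for a uniformizer π and A = R[x], the maps t ↦ 0 over K
and t ↦ e x over A agree over K ⊗ A = K[x] but come from no map over R.) -/
theorem result (R : Type u) [CommRing R] [IsDomain R]
    [IsDiscreteValuationRing R] (K : Type u) [Field K] [Algebra R K] [IsFractionRing R K]
    (A : Type u) [CommRing A] [Algebra R A] [Module.FaithfullyFlat R A]
    (B₁ B₂ : Type u) [CommRing B₁] [CommRing B₂] [Algebra R B₁] [Algebra R B₂]
    [Module.Flat R B₁] [Module.Flat R B₂]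
    (φK : K ⊗[R] B₂ →ₐ[K] K ⊗[R] B₁) (φA : A ⊗[R] B₂ →ₐ[A] A ⊗[R] B₁)
    (hcomp : ∀ b : B₂,
      Algebra.TensorProduct.map (Algebra.TensorProduct.includeLeft : K →ₐ[R] K ⊗[R] A) (AlgHom.id R B₁)
          (φK (1 ⊗ₜ b)) =
        Algebra.TensorProduct.map (Algebra.TensorProduct.includeRight : A →ₐ[R] K ⊗[R] A) (AlgHom.id R B₁)
          (φA (1 ⊗ₜ b))) :
    ∃! φ : B₂ →ₐ[R] B₁, (∀ b : B₂, φK (1 ⊗ₜ b) = 1 ⊗ₜ φ b) ∧ (∀ b : B₂, φA (1 ⊗ₜ b) = 1 ⊗ₜ φ b) := by
  classical
  have hex : ∀ b : B₂, ∃ c : B₁, φK (1 ⊗ₜ b) = (1 : K) ⊗ₜ[R] c ∧ φA (1 ⊗ₜ b) = (1 : A) ⊗ₜ[R] c :=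
    fun b => Groth.Agent.Helper6.GlueKA.key R K A B₁ _ _ (hcomp b)
  choose f hfK hfA using hex
  have hinj : ∀ c c' : B₁, (1 : K) ⊗ₜ[R] c = (1 : K) ⊗ₜ[R] c' → c = c' :=
    fun c c' h => Groth.Agent.Helper6.GlueKA.mk_injective R K B₁ h
  have hone : (1 : TensorProduct R K B₂) = (1 : K) ⊗ₜ[R] (1 : B₂) := Algebra.TensorProduct.one_def
  have hone1 : (1 : TensorProduct R K B₁) = (1 : K) ⊗ₜ[R] (1 : B₁) := Algebra.TensorProduct.one_def
  have f_one : f 1 = 1 := by
    apply hinj
    rw [← hfK, ← hone, map_one, hone1]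
  have f_mul : ∀ a b, f (a * b) = f a * f b := by
    intro a b
    apply hinj
    rw [← hfK]
    have : (1 : K) ⊗ₜ[R] (a * b) = ((1 : K) ⊗ₜ[R] a) * ((1 : K) ⊗ₜ[R] b) := by
      rw [Algebra.TensorProduct.tmul_mul_tmul, mul_one]
    rw [this, map_mul, hfK, hfK, Algebra.TensorProduct.tmul_mul_tmul, mul_one]
  have f_add : ∀ a b, f (a + b) = f a + f b := by
    intro a b
    apply hinj
    rw [← hfK, TensorProduct.tmul_add, map_add, hfK, hfK, TensorProduct.tmul_add]
  have f_zero : f 0 = 0 := by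
    apply hinj
    rw [← hfK, TensorProduct.tmul_zero, map_zero, TensorProduct.tmul_zero]
  have f_alg : ∀ r : R, f (algebraMap R B₂ r) = algebraMap R B₁ r := by
    intro r
    apply hinj
    rw [← hfK, Algebra.algebraMap_eq_smul_one, Algebra.algebraMap_eq_smul_one,
      TensorProduct.tmul_smul, TensorProduct.tmul_smul, ← hone, ← hone1]
    rw [← algebraMap_smul K r (1 : TensorProduct R K B₂), map_smul, map_one, algebraMap_smul]
  let φ : B₂ →ₐ[R] B₁ :=
    { toFun := f
      map_one' := f_one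
      map_mul' := f_mul
      map_zero' := f_zero
      map_add' := f_add
      commutes' := f_alg }
  refine ⟨φ, ⟨fun b => hfK b, fun b => hfA b⟩, ?_⟩
  rintro ψ ⟨hψK, -⟩
  ext b
  apply hinj
  rw [← hψK, hfK]
  rfl

end Groth.Agent.S13154
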