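import Groth.Statements.S1316
import Mathlib
import Groth.Agent.S1313

set_option autoImplicit false
universe u
open FlatMor

namespace Groth.Agent.S1316

open AlgebraicGeometry CategoryTheory Limits in
theorem aux {X X' Y Y' : Scheme.{u}} (iX : X ⟶ X') (iY : Y ⟶ Y') (f : X ⟶ Y) (f' : X' ⟶ Y')
    (hY : MoreMor.IsThickening iY) (hc : IsPullback iX f f' iY) [LocallyOfFiniteType f] [LocallyOfFiniteType f'] :
    IsImmersion f ↔ IsImmersion f' := by
  constructor
  · intro h
    haveI := hY.1
    haveI := hY.2
    haveI : Surjective iX := MorphismProperty.of_isPullback hc.flip hY.2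
    have hhomeo : IsHomeomorph iY :=
      isHomeomorph_iff_isEmbedding_surjective.mpr ⟨iY.isClosedEmbedding.isEmbedding, iY.surjective⟩
    let U : Y.Opens := f.coborderRange
    let U' : Y'.Opens := ⟨iY '' (U : Set Y), hhomeo.isOpenMap _ U.2⟩
    have hUU' : iY ⁻¹ᵁ U' = U := by
      ext y
      simp only [U', TopologicalSpace.Opens.map_coe, TopologicalSpace.Opens.coe_mk, Set.mem_preimage,
        SetLike.mem_coe]
      constructor
      · rintro ⟨z, hz, hzy⟩
        rw [← hhomeo.injective hzy]; exact hz
      · intro hy; exact ⟨y, hy, rfl⟩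
    have hrange' : Set.range f' ⊆ Set.range U'.ι := by
      rw [Scheme.Opens.range_ι]
      rintro _ ⟨x', rfl⟩
      obtain ⟨x, rfl⟩ := iX.surjective x'
      have : f' (iX x) = iY (f x) := by
        rw [← Scheme.Hom.comp_apply, ← Scheme.Hom.comp_apply, hc.w]
      rw [this]
      refine ⟨f x, ?_, rfl⟩
      exact subset_coborder ⟨x, rfl⟩
    let g' : X' ⟶ U' := IsOpenImmersion.lift U'.ι f' hrange'
    have hg' : g' ≫ U'.ι = f' := IsOpenImmersion.lift_fac _ _ _
    let fU : X ⟶ (iY ⁻¹ᵁ U') := f.liftCoborder ≫ (Y.isoOfEq hUU').inv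
    have hfU : fU ≫ (iY ⁻¹ᵁ U').ι = f := by
      simp only [fU, Category.assoc, Scheme.isoOfEq_inv_ι]
      exact f.liftCoborder_ι
    haveI : IsClosedImmersion fU := by dsimp only [fU]; infer_instance
    haveI : LocallyOfFiniteType g' := by
      haveI : LocallyOfFiniteType (g' ≫ U'.ι) := by rw [hg']; infer_instance
      exact locallyOfFiniteType_of_comp g' U'.ι
    have hbot : IsPullback (iY ⁻¹ᵁ U').ι (iY ∣_ U') iY U'.ι := (isPullback_morphismRestrict iY U').flip
    have htop : IsPullback iX fU g' (iY ∣_ U') := by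
      refine IsPullback.of_bot ?_ ?_ hbot.flip
      · rw [hfU, hg']; exact hc
      · rw [← cancel_mono U'.ι, Category.assoc, Category.assoc, hg', morphismRestrict_ι,
          ← Category.assoc, hfU]
        exact hc.w
    haveI : Surjective (iY ∣_ U') := MorphismProperty.of_isPullback (P := @Surjective) hbot inferInstance
    have hthick : MoreMor.IsThickening (iY ∣_ U') := ⟨inferInstance, inferInstance⟩
    haveI : IsClosedImmersion g' :=
      (Groth.Agent.S1313.result iX (iY ∣_ U') fU g' hthick htop).mp inferInstance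
    rw [← hg']
    infer_instance
  · intro h
    exact MorphismProperty.of_isPullback hc h

open AlgebraicGeometry CategoryTheory Limits in
/-- Let Y ⟶ Y' be a thickening, let X be the base change to Y of a scheme X' over Y', and assume both X
⟶ Y and X' ⟶ Y' are locally of finite type. Then X ⟶ Y is an immersion if and only if X' ⟶ Y' is. -/
theorem result {X X' Y Y' : Scheme.{u}} (iX : X ⟶ X') (iY : Y ⟶ Y') (f : X ⟶ Y) (f' : X' ⟶ Y')
    (hY : MoreMor.IsThickening iY) (hc : IsPullback iX f f' iY) [LocallyOfFiniteType f] [LocallyOfFiniteType f'] :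
    IsImmersion f ↔ IsImmersion f' := by
  exact aux iX iY f f' hY hc

end Groth.Agent.S1316
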