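import Groth.Statements.S13161
import Mathlib

set_option autoImplicit false
universe u
open scoped TensorProduct
open CAlg

namespace Groth.Agent.S13161

/-- Let R be a discrete valuation ring with fraction field K, A an R-algebra which is semireflexive as
an R-module (the map to its double dual is injective: every nonzero a ∈ A has an R-linear form f : A
→ R with f(a) ≠ 0), and B an A-algebra which is finitely generated as an A-module and flat over R.
Suppose B ⊗ K is semireflexive as a module over A ⊗ K, which for such B amounts to: every nonzero b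
∈ B has an A-linear map g : B → A ⊗_R K with g(b) ≠ 0. Then B is semireflexive as an R-module: every
nonzero b ∈ B has an R-linear form h : B → R with h(b) ≠ 0. (The published statement phrases the
hypothesis on B_K as an A_K-module; for B flat over R and finite over A this is the elementwise
condition used here.) -/
theorem result (R : Type u) [CommRing R] [IsDomain R]
    [IsDiscreteValuationRing R] (K : Type u) [Field K] [Algebra R K] [IsFractionRing R K]
    (A B : Type u) [CommRing A] [CommRing B] [Algebra R A] [Algebra R B] [Algebra A B] [IsScalarTower R A B]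
    [Module.Finite A B] [Module.Flat R B]
    (hA : ∀ a : A, a ≠ 0 → ∃ f : A →ₗ[R] R, f a ≠ 0)
    (hBK : ∀ b : B, b ≠ 0 → ∃ g : B →ₗ[A] A ⊗[R] K, g b ≠ 0) :
    ∀ b : B, b ≠ 0 → ∃ h : B →ₗ[R] R, h b ≠ 0 := by
  classical
  intro b hb
  obtain ⟨g, hg⟩ := hBK b hb
  -- ι : A → A ⊗ K
  let ι : A →ₗ[A] TensorProduct R A K :=
    { toFun := fun a => a ⊗ₜ[R] (1 : K)
      map_add' := fun a a' => TensorProduct.add_tmul a a' 1
      map_smul' := fun c a => by
        simp only [RingHom.id_apply, TensorProduct.smul_tmul'] }
  have hιa : ∀ a : A, ι a = a ⊗ₜ[R] (1 : K) := fun a => rfl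
  have hιinj : Function.Injective ι := by
    rw [injective_iff_map_eq_zero]
    intro a ha
    by_contra hne
    obtain ⟨f, hf⟩ := hA a hne
    have h1 := congrArg (fun z => TensorProduct.lid R K (LinearMap.rTensor K f z)) ha
    simp only [hιa, LinearMap.rTensor_tmul, TensorProduct.lid_tmul, map_zero] at h1
    rw [Algebra.smul_def, mul_one] at h1
    exact hf ((IsFractionRing.injective R K) (by rw [h1, map_zero]))
  -- denominators
  have hden : ∀ z : TensorProduct R A K, ∃ s : R, s ≠ 0 ∧ s • z ∈ LinearMap.range ι := by
    intro z
    induction z using TensorProduct.induction_on with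
    | zero => exact ⟨1, one_ne_zero, 0, by simp⟩
    | tmul a k =>
      obtain ⟨r, s, hs, rfl⟩ := IsFractionRing.div_surjective (A := R) k
      have hs0 : s ≠ 0 := nonZeroDivisors.ne_zero hs
      have hsK : algebraMap R K s ≠ 0 := by
        intro h
        exact hs0 ((IsFractionRing.injective R K) (by rw [h, map_zero]))
      refine ⟨s, hs0, r • a, ?_⟩
      have e1 : s • (algebraMap R K r / algebraMap R K s) = r • (1 : K) := by
        rw [Algebra.smul_def, mul_div_cancel₀ _ hsK, Algebra.smul_def, mul_one]
      rw [hιa, TensorProduct.smul_tmul, ← TensorProduct.tmul_smul s a, e1]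
    | add x y hx hy =>
      obtain ⟨s, hs, c, hc⟩ := hx
      obtain ⟨t, ht, d, hd⟩ := hy
      refine ⟨s * t, mul_ne_zero hs ht, t • c + s • d, ?_⟩
      rw [smul_add, mul_smul, mul_smul, smul_comm s t x, ← hc, ← hd, map_add,
        LinearMap.map_smul_of_tower ι t c, LinearMap.map_smul_of_tower ι s d]
  -- finite generation
  obtain ⟨S, hS⟩ := (Module.Finite.fg_top : (⊤ : Submodule A B).FG)
  choose sden hsden0 hsden using fun y : B => hden (g y)
  let s : R := ∏ y ∈ S, sden y
  have hs0 : s ≠ 0 := Finset.prod_ne_zero_iff.2 (fun y _ => hsden0 y)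
  have hgen : ∀ y ∈ S, s • g y ∈ LinearMap.range ι := by
    intro y hy
    obtain ⟨t, ht⟩ := Finset.dvd_prod_of_mem sden hy
    show (∏ y ∈ S, sden y) • g y ∈ LinearMap.range ι
    rw [ht, mul_comm, mul_smul]
    obtain ⟨c, hc⟩ := hsden y
    exact ⟨t • c, by rw [← hc]; exact LinearMap.map_smul_of_tower ι t c⟩
  have hall : ∀ y : B, s • g y ∈ LinearMap.range ι := by
    intro y
    have hy : y ∈ Submodule.span A (S : Set B) := by rw [hS]; trivial
    induction hy using Submodule.span_induction with
    | mem y hy => exact hgen y hy
    | zero => rw [map_zero, smul_zero]; exact Submodule.zero_mem _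
    | add x y _ _ hx hy => rw [map_add, smul_add]; exact Submodule.add_mem _ hx hy
    | smul a x _ hx =>
      rw [map_smul, smul_comm]
      exact Submodule.smul_mem _ a hx
  choose g'' hg'' using hall
  have hsK : algebraMap R K s ≠ 0 := by
    intro h
    exact hs0 ((IsFractionRing.injective R K) (by rw [h, map_zero]))
  have htf : ∀ z : TensorProduct R A K, s • z = 0 → z = 0 := by
    intro z hz
    have key : ∀ z : TensorProduct R A K,
        LinearMap.lTensor A (LinearMap.mulLeft R ((algebraMap R K s)⁻¹)) (s • z) = z := by
      intro z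
      induction z using TensorProduct.induction_on with
      | zero => simp
      | tmul a k =>
        rw [TensorProduct.smul_tmul', TensorProduct.smul_tmul, LinearMap.lTensor_tmul,
          LinearMap.mulLeft_apply, Algebra.smul_def, ← mul_assoc, inv_mul_cancel₀ hsK, one_mul]
      | add x y hx hy => rw [smul_add, map_add, hx, hy]
    rw [← key z, hz, map_zero]
  have hg''b : g'' b ≠ 0 := by
    intro h0
    have := hg'' b
    rw [h0, map_zero] at this
    exact hg (htf _ this.symm)
  obtain ⟨f, hf⟩ := hA _ hg''b
  -- g'' is R-linear
  have hg''add : ∀ x y, g'' (x + y) = g'' x + g'' y := by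
    intro x y
    apply hιinj
    rw [map_add, hg'', hg'', hg'', map_add, smul_add]
  have hg''smul : ∀ (r : R) (x : B), g'' (r • x) = r • g'' x := by
    intro r x
    apply hιinj
    rw [LinearMap.map_smul_of_tower ι r, hg'', hg'', LinearMap.map_smul_of_tower g r, smul_comm]
  let G : B →ₗ[R] A :=
    { toFun := g''
      map_add' := hg''add
      map_smul' := hg''smul }
  exact ⟨f ∘ₗ G, hf⟩

end Groth.Agent.S13161
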