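import Groth.Statements.S13162
import Groth.Agent.Helper6.InvariantLift

set_option autoImplicit false
universe u v
open ZeroCyc

namespace Groth.Agent.S13162

/-- Let a finite group G act on a commutative ring A by ring automorphisms and let p be a prime such
that every integer prime to p is a unit in A. If I is an ideal of A and f ∈ A has G-invariant class
modulo I, then f^(p^k) is congruent modulo I to a G-invariant element of A, where p^k is the exact
power of p dividing the order of G. (The published statement assumes I stable under G, so that G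
acts on A/I and the claim reads: the p^k-th power of an invariant of A/I lies in the image of the
invariants of A; the form here asks only that the class of f be invariant.) -/
theorem result {A : Type u} [CommRing A] {G : Type v} [Group G] [Fintype G]
    [MulSemiringAction G A] (p : ℕ) [Fact p.Prime]
    (hA : ∀ m : ℕ, ¬ p ∣ m → IsUnit (m : A))
    (I : Ideal A) (f : A) (hf : ∀ g : G, g • f - f ∈ I) :
    ∃ a : A, (∀ g : G, g • a = a) ∧ a - f ^ (p ^ (Fintype.card G).factorization p) ∈ I := by
  classical
  have hn : Fintype.card G ≠ 0 := Fintype.card_ne_zero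
  have hjn : p ^ (Fintype.card G).factorization p ≤ Fintype.card G :=
    Nat.le_of_dvd (Nat.pos_of_ne_zero hn) (Nat.ordProj_dvd _ p)
  obtain ⟨a', ha'inv, ha'⟩ := Groth.Agent.Helper6.InvariantLift.exists_invariant_lift_choose I f hf _ hjn
  obtain ⟨c, hc⟩ := hA _ (Groth.Agent.Helper6.InvariantLift.not_dvd_choose_ordProj p _ hn)
  have hcinv : ∀ g : G, g • (↑c⁻¹ : A) = ↑c⁻¹ := by
    intro g
    have h1 : g • (c : A) = c := by
      rw [hc]
      exact map_natCast (MulSemiringAction.toRingHom G A g) _
    have h2 : (g • (↑c⁻¹ : A)) * c = 1 := by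
      conv_lhs => rw [← h1]
      rw [← smul_mul', Units.inv_mul, smul_one]
    calc g • (↑c⁻¹ : A) = g • (↑c⁻¹ : A) * (c * ↑c⁻¹) := by rw [Units.mul_inv, mul_one]
      _ = (g • (↑c⁻¹ : A) * c) * ↑c⁻¹ := by rw [mul_assoc]
      _ = ↑c⁻¹ := by rw [h2, one_mul]
  refine ⟨↑c⁻¹ * a', ?_, ?_⟩
  · intro g
    rw [smul_mul', hcinv, ha'inv]
  · rw [← Ideal.Quotient.eq, map_mul, ha', map_pow]
    have : Ideal.Quotient.mk I (↑c⁻¹) * (((Fintype.card G).choose (p ^ (Fintype.card G).factorization p) : ℕ) : A ⧸ I) = 1 := by
      rw [← map_natCast (Ideal.Quotient.mk I), ← hc, ← map_mul, Units.inv_mul, map_one]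
    rw [← mul_assoc, this, one_mul]

end Groth.Agent.S13162
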