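import Groth.Statements.S13163

set_option autoImplicit false
universe u
open ZeroCyc

namespace Groth.Agent.S13163

open Polynomial in
/-- Let P_d(T) = ∏_{0 ≤ i < j ≤ d} (T^i − T^j) − 1 ∈ ℤ[T]. Every residue field of ℤ[T]/(P_d), i.e. every
field receiving a ring homomorphism from it, has at least d + 1 elements. -/
theorem result (d : ℕ) (k : Type u) [Field k]
    (φ : (ℤ[X] ⧸ Ideal.span {(∏ j ∈ Finset.range (d + 1), ∏ i ∈ Finset.range j,
        ((X : ℤ[X]) ^ i - X ^ j)) - 1}) →+* k) :
    ((d + 1 : ℕ) : Cardinal) ≤ Cardinal.mk k := by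
  classical
  set P : ℤ[X] := (∏ j ∈ Finset.range (d + 1), ∏ i ∈ Finset.range j, ((X : ℤ[X]) ^ i - X ^ j)) - 1 with hP
  let ψ : ℤ[X] →+* k := φ.comp (Ideal.Quotient.mk (Ideal.span {P}))
  set x : k := ψ X with hx
  have h0 : ψ P = 0 := by
    change φ (Ideal.Quotient.mk (Ideal.span {P}) P) = 0
    have hmem : P ∈ Ideal.span ({P} : Set ℤ[X]) := Ideal.subset_span (Set.mem_singleton P)
    rw [Ideal.Quotient.eq_zero_iff_mem.2 hmem, map_zero]
  have h1 : (∏ j ∈ Finset.range (d + 1), ∏ i ∈ Finset.range j, (x ^ i - x ^ j)) = 1 := by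
    rw [hP, map_sub, map_one, map_prod, sub_eq_zero] at h0
    rw [← h0]
    refine Finset.prod_congr rfl fun j _ => ?_
    rw [map_prod]
    refine Finset.prod_congr rfl fun i _ => ?_
    rw [map_sub, map_pow, map_pow]
  have hne : ∀ j, j < d + 1 → ∀ i, i < j → x ^ i ≠ x ^ j := by
    intro j hj i hi heq
    have hz : (∏ j ∈ Finset.range (d + 1), ∏ i ∈ Finset.range j, (x ^ i - x ^ j)) = 0 := by
      apply Finset.prod_eq_zero (Finset.mem_range.2 hj)
      apply Finset.prod_eq_zero (Finset.mem_range.2 hi)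
      rw [heq, sub_self]
    rw [h1] at hz
    exact one_ne_zero hz
  have hinj : Function.Injective (fun i : Fin (d + 1) => x ^ (i : ℕ)) := by
    intro a b hab
    by_contra hne'
    rcases lt_or_gt_of_ne (fun h => hne' (Fin.ext h)) with h | h
    · exact hne b b.2 a h hab
    · exact hne a a.2 b h hab.symm
  have := Cardinal.lift_mk_le_lift_mk_of_injective hinj
  rw [Cardinal.mk_fin, Cardinal.lift_natCast, Cardinal.lift_id'] at this
  simpa using this

end Groth.Agent.S13163
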