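import Groth.Statements.S13166
import Mathlib

set_option autoImplicit false
universe u
open ZeroCyc

namespace Groth.Agent.S13166

theorem union_ne_univ {ι K M : Type*} [Field K] [AddCommGroup M] [Module K M]
    (s : Finset ι) (p : ι → Submodule K M)
    (h₁ : ∀ i ∈ s, p i ≠ ⊤) (h₂ : (s.card : ℕ∞) ≤ ENat.card K) :
    ⋃ i ∈ s, (p i : Set M) ≠ Set.univ := by
  classical
  induction s using Finset.induction_on with
  | empty =>
    simp only [Finset.notMem_empty, Set.iUnion_of_empty, Set.iUnion_empty]
    exact (Set.empty_ne_univ (α := M))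
  | insert j s hj ih =>
    intro hcov
    rw [Finset.card_insert_of_notMem hj] at h₂
    have hlt : (s.card : ℕ∞) < ENat.card K := by
      refine lt_of_lt_of_le ?_ h₂
      exact_mod_cast Nat.lt_succ_self _
    have ih' := ih (fun i hi => h₁ i (Finset.mem_insert_of_mem hi)) hlt.le
    apply ih'
    have hcov' : (p j : Set M) ∪ (⋃ i ∈ s, (p i : Set M)) = Set.univ := by
      simpa only [Finset.mem_insert, Set.iUnion_iUnion_eq_or_left] using hcov
    suffices hsub : (p j : Set M) ⊆ ⋃ i ∈ s, (p i : Set M) by
      rwa [Set.union_eq_right.mpr hsub] at hcov'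
    intro x hx
    obtain ⟨y, hy⟩ : ∃ y, y ∉ p j := by
      by_contra hcon
      push Not at hcon
      exact h₁ j (Finset.mem_insert_self _ _) (eq_top_iff.mpr fun z _ => hcon z)
    have hz : ∀ t : K, t • x + y ∈ ⋃ i ∈ s, (p i : Set M) := by
      intro t
      have : t • x + y ∈ (p j : Set M) ∪ (⋃ i ∈ s, (p i : Set M)) := by rw [hcov']; trivial
      rcases this with h | h
      · exfalso
        apply hy
        have := (p j).sub_mem h ((p j).smul_mem t hx)
        simpa using this
      · exact h
    have hz' : ∀ t : K, ∃ i ∈ s, t • x + y ∈ p i := by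
      intro t
      have := hz t
      simp only [Set.mem_iUnion, SetLike.mem_coe, exists_prop] at this
      exact this
    choose g hg hg' using hz'
    have hmaps : Set.MapsTo g (Set.univ : Set K) (s : Set ι) := fun t _ => hg t
    have hcard : (s : Set ι).encard < (Set.univ : Set K).encard := by
      rw [Set.encard_coe_eq_coe_finsetCard, Set.encard_univ]
      exact hlt
    obtain ⟨t₁, -, t₂, -, hne, heq⟩ := Set.exists_ne_map_eq_of_encard_lt_of_maps_to hcard hmaps
    have h1 := hg' t₁
    have h2 := hg' t₂
    rw [heq] at h1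
    have h3 : (t₁ - t₂) • x ∈ p (g t₂) := by
      have := (p (g t₂)).sub_mem h1 h2
      convert this using 1
      rw [sub_smul]; abel
    have h4 : x ∈ p (g t₂) := ((p (g t₂)).smul_mem_iff (sub_ne_zero.mpr hne)).mp h3
    simp only [Set.mem_iUnion, SetLike.mem_coe, exists_prop]
    exact ⟨g t₂, hg t₂, h4⟩

/-- Let k be a field, B a k-algebra generated as an algebra by a k-subspace V, k'/k a field extension
and x_1, …, x_d pairwise distinct k'-points of B ⊗_k k' (equivalently, distinct k-algebra
homomorphisms B → k'). If k has at least d(d − 1)/2 elements, then there is b ∈ V whose values at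
x_1, …, x_d are pairwise distinct. -/
theorem result {k : Type u} [Field k] {B : Type u} [CommRing B] [Algebra k B] (V : Submodule k B)
    (hV : Algebra.adjoin k (V : Set B) = ⊤) {k' : Type u} [Field k'] [Algebra k k']
    {d : ℕ} (x : Fin d → (B →ₐ[k] k')) (hx : Function.Injective x)
    (hk : ((d.choose 2 : ℕ) : Cardinal) ≤ Cardinal.mk k) :
    ∃ b ∈ V, Function.Injective fun i => x i b := by
  classical
  let p : Finset (Fin d) → Submodule k V := fun T =>
    { carrier := {b | ∀ i ∈ T, ∀ j ∈ T, x i (b : B) = x j (b : B)}
      add_mem' := by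
        intro a b ha hb i hi j hj
        simp only [Submodule.coe_add, map_add, ha i hi j hj, hb i hi j hj]
      zero_mem' := by
        intro i _ j _
        simp
      smul_mem' := by
        intro c a ha i hi j hj
        simp only [Submodule.coe_smul, map_smul, ha i hi j hj] }
  have hp : ∀ T ∈ Finset.powersetCard 2 (Finset.univ : Finset (Fin d)), p T ≠ ⊤ := by
    intro T hT htop
    rw [Finset.mem_powersetCard] at hT
    obtain ⟨i, j, hij, rfl⟩ := Finset.card_eq_two.mp hT.2
    apply hij
    apply hx
    have hall : ∀ b : V, x i (b : B) = x j (b : B) := by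
      intro b
      have hb : b ∈ p {i, j} := by rw [htop]; trivial
      exact hb i (by simp) j (by simp)
    apply AlgHom.ext_of_adjoin_eq_top hV
    intro b hb
    exact hall ⟨b, hb⟩
  have hcard : ((Finset.powersetCard 2 (Finset.univ : Finset (Fin d))).card : ℕ∞) ≤ ENat.card k := by
    rw [Finset.card_powersetCard, Finset.card_univ, Fintype.card_fin, ENat.card,
      Cardinal.natCast_le_toENat]
    exact hk
  have hne := union_ne_univ _ p hp hcard
  rw [Ne, Set.eq_univ_iff_forall] at hne
  push Not at hne
  obtain ⟨b, hb⟩ := hne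
  refine ⟨b, b.2, ?_⟩
  intro i j hij
  by_contra hne'
  apply hb
  simp only [Set.mem_iUnion, SetLike.mem_coe, exists_prop]
  refine ⟨{i, j}, ?_, ?_⟩
  · rw [Finset.mem_powersetCard]
    exact ⟨Finset.subset_univ _, Finset.card_pair hne'⟩
  · intro a ha c hc
    simp only [Finset.mem_insert, Finset.mem_singleton] at ha hc
    rcases ha with rfl | rfl <;> rcases hc with rfl | rfl
    · rfl
    · exact hij
    · exact hij.symm
    · rfl

end Groth.Agent.S13166
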