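import Groth.Statements.S13168
import Mathlib
import Groth.Agent.Helper6.GrGen

set_option autoImplicit false
universe u
open AlgebraicGeometry
open ZeroCyc

namespace Groth.Agent.S13168

/-- Let B be a graded R-algebra generated by homogeneous elements f_1, …, f_s of positive degrees d_1,
…, d_s, let l be the least common multiple of the d_i and X = Proj B. For n = a l with a ≥ 1, X is
the union of the opens D_+(g), g ∈ B_n. -/
theorem result {R A : Type u} [CommRing R] [CommRing A] [Algebra R A] (𝒜 : ℕ → Submodule R A) [GradedAlgebra 𝒜]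
    {s : ℕ} (f : Fin s → A) (deg : Fin s → ℕ) (hdeg : ∀ i, 0 < deg i) (hf : ∀ i, f i ∈ 𝒜 (deg i))
    (hgen : Algebra.adjoin R (Set.range f) = ⊤) (a : ℕ) (ha : 0 < a) :
    (⨆ g : 𝒜 (a * Finset.univ.lcm deg), Proj.basicOpen 𝒜 (g : A)) = ⊤ := by
  rw [eq_top_iff]
  intro x _
  obtain ⟨i, hi⟩ := Groth.Agent.Helper6.GrGen.exists_not_mem 𝒜 f deg hf hgen x
  obtain ⟨q, hq⟩ : deg i ∣ Finset.univ.lcm deg := Finset.dvd_lcm (Finset.mem_univ i)
  have hmem : f i ^ (a * q) ∈ 𝒜 (a * Finset.univ.lcm deg) := by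
    have := SetLike.pow_mem_graded (a * q) (hf i)
    rw [smul_eq_mul] at this
    convert this using 2
    rw [hq]; ring
  rw [TopologicalSpace.Opens.mem_iSup]
  refine ⟨⟨_, hmem⟩, ?_⟩
  rw [Proj.mem_basicOpen]
  intro hcon
  exact hi (x.isPrime.mem_of_pow_mem _ hcon)

end Groth.Agent.S13168
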