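import Groth.Statements.S13176
import Mathlib
import Groth.Agent.Helper9.UnivHomeoQ
-- import your own Groth.Agent.* helpers here

set_option autoImplicit false
universe u
open CategoryTheory CategoryTheory.Limits AlgebraicGeometry
open ZeroCyc

namespace Groth.Agent.S13176

/-- Let a finite group G act on a scheme X over S through ρ, let q : X → Y be a quotient of X by G over
S (affine, G-invariant, O_Y = the G-invariant sections of O_X), let S' → S be any morphism and X' =
X ×_S S' with the induced action ρ', and let r : X' → Y' be a quotient of X' by G. Then the morphism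
Y' → Y ×_S S' through which the canonical map X' → Y ×_S S' factors via r is a universal
homeomorphism. (The published statement assumes every G-orbit lies in an affine open, which is what
makes the quotients exist; here the two quotients are hypotheses.) -/
theorem result {X Y S S' Y' : Scheme.{u}} {G : Type u} [Group G] [Finite G]
    (ρ : G →* Aut X) (f : X ⟶ S) (hρ : ∀ σ : G, (ρ σ).hom ≫ f = f)
    (q : X ⟶ Y) (h : Y ⟶ S) (hq : q ≫ h = f) (hquot : SGA1.IsQuot ρ q)
    (g : S' ⟶ S)
    (ρ' : G →* Aut (pullback f g))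
    (hρ' : ∀ σ : G, (ρ' σ).hom ≫ pullback.fst f g = pullback.fst f g ≫ (ρ σ).hom ∧
      (ρ' σ).hom ≫ pullback.snd f g = pullback.snd f g)
    (r : pullback f g ⟶ Y') (hr : SGA1.IsQuot ρ' r)
    (m : Y' ⟶ pullback h g)
    (hm : r ≫ m = pullback.map f g h g q (𝟙 S') (𝟙 S)
      ((Category.comp_id f).trans hq.symm) ((Category.comp_id g).trans (Category.id_comp g).symm)) :
    FlatMor.IsUnivHomeo m := by
  classical
  set Q := pullback.map f g h g q (𝟙 S') (𝟙 S)
      ((Category.comp_id f).trans hq.symm) ((Category.comp_id g).trans (Category.id_comp g).symm)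
    with hQ
  have Q_fst : Q ≫ pullback.fst h g = pullback.fst f g ≫ q := pullback.lift_fst _ _ _
  have Q_snd : Q ≫ pullback.snd h g = pullback.snd f g :=
    (pullback.lift_snd _ _ _).trans (Category.comp_id _)
  have hsq : IsPullback Q (pullback.fst f g) (pullback.fst h g) q := by
    refine IsPullback.of_right ?_ Q_fst (IsPullback.of_hasPullback h g).flip
    rw [Q_snd, hq]
    exact (IsPullback.of_hasPullback f g).flip
  haveI : IsIntegralHom q := Groth.Agent.Helper9.FinQuot.isIntegralHom hquot
  haveI : Surjective q := ⟨Groth.Agent.Helper9.FinQuot.surjective hquot⟩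
  haveI : IsIntegralHom Q := MorphismProperty.of_isPullback (P := @IsIntegralHom) hsq.flip
    inferInstance
  haveI : Surjective Q := MorphismProperty.of_isPullback (P := @Surjective) hsq.flip inferInstance
  haveI : Surjective r := ⟨Groth.Agent.Helper9.FinQuot.surjective hr⟩
  haveI : UniversallyClosed (r ≫ m) := by rw [hm]; infer_instance
  haveI : Surjective (r ≫ m) := by rw [hm]; infer_instance
  haveI : UniversallyInjective m := by
    refine ((tfae_universallyInjective m).out 0 1).mpr ?_
    intro K _ g₁ g₂ hg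
    change g₁ ≫ m = g₂ ≫ m at hg
    obtain ⟨L₁, _, π₁, ξ₁, h1⟩ := Groth.Agent.Helper9.GeomTrans.exists_lift r K g₁
    obtain ⟨L, _, π₂, ξ₂, h2⟩ := Groth.Agent.Helper9.GeomTrans.exists_lift r L₁ (π₁ ≫ g₂)
    have hcomp : (π₂ ≫ ξ₁) ≫ Q = ξ₂ ≫ Q := by
      rw [← hm, ← Category.assoc, ← Category.assoc ξ₂, h2, Category.assoc π₂, h1]
      simp only [Category.assoc]
      rw [hg]
    have hc1 : ((π₂ ≫ ξ₁) ≫ pullback.fst f g) ≫ q = (ξ₂ ≫ pullback.fst f g) ≫ q := by
      rw [Category.assoc, ← Q_fst, ← Category.assoc, hcomp, Category.assoc, Q_fst, Category.assoc]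
    have hc2 : (π₂ ≫ ξ₁) ≫ pullback.snd f g = ξ₂ ≫ pullback.snd f g := by
      rw [← Q_snd, ← Category.assoc, hcomp, Category.assoc]
    obtain ⟨σ, hσ⟩ := Groth.Agent.Helper9.GeomTrans.main hquot L _ _ hc1
    have h3 : ξ₂ = (π₂ ≫ ξ₁) ≫ (ρ' σ).hom := by
      apply pullback.hom_ext
      · rw [hσ, Category.assoc ((π₂ ≫ ξ₁)) (ρ' σ).hom, (hρ' σ).1]
        simp only [Category.assoc]
      · rw [← hc2, Category.assoc ((π₂ ≫ ξ₁)) (ρ' σ).hom, (hρ' σ).2]
    have h4 : ξ₂ ≫ r = (π₂ ≫ ξ₁) ≫ r := by
      rw [h3, Category.assoc, hr.inv]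
    rw [h2, Category.assoc, h1] at h4
    haveI := Groth.Agent.Helper9.GeomTrans.epi_of_fields K L₁ π₁
    haveI := Groth.Agent.Helper9.GeomTrans.epi_of_fields L₁ L π₂
    exact ((cancel_epi π₁).mp ((cancel_epi π₂).mp h4)).symm
  exact Groth.Agent.Helper9.UnivHomeoQ.isUnivHomeo_of r m

end Groth.Agent.S13176
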