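import Groth.Statements.S13177
import Mathlib
import Groth.Agent.Helper9.UnivHomeoQ
-- import your own Groth.Agent.* helpers here

set_option autoImplicit false
universe u
open CategoryTheory CategoryTheory.Limits AlgebraicGeometry
open ZeroCyc

namespace Groth.Agent.S13177

/-- Let a finite group G act on a scheme X with quotient q : X → Y (affine, G-invariant, O_Y = the
invariant sections), let i : Z → X be a G-stable closed subscheme with the induced action and r : Z
→ W a quotient of Z by G, and let q(Z) be the scheme-theoretic image of Z in Y. Then the morphism W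
→ q(Z) through which Z → q(Z) factors via r is a schematically dominant universal homeomorphism.
(The published statement assumes the quotient of X exists; here both quotients are hypotheses.) -/
theorem result {X Y Z W : Scheme.{u}} {G : Type u} [Group G] [Finite G]
    (ρ : G →* Aut X) (q : X ⟶ Y) (hquot : SGA1.IsQuot ρ q)
    (i : Z ⟶ X) [IsClosedImmersion i] (ρZ : G →* Aut Z) (hρZ : ∀ σ : G, (ρZ σ).hom ≫ i = i ≫ (ρ σ).hom)
    (r : Z ⟶ W) (hr : SGA1.IsQuot ρZ r)
    (m : W ⟶ (i ≫ q).ker.subscheme) (hm : r ≫ m ≫ (i ≫ q).ker.subschemeι = i ≫ q) :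
    FlatMor.IsUnivHomeo m ∧ IsSchemeTheoreticallyDominant m := by
  classical
  haveI : IsIntegralHom q := Groth.Agent.Helper9.FinQuot.isIntegralHom hquot
  haveI : Surjective r := ⟨Groth.Agent.Helper9.FinQuot.surjective hr⟩
  haveI : UniversallyClosed (i ≫ q) := inferInstance
  haveI : QuasiCompact (i ≫ q) := inferInstance
  -- `r ≫ m` is the canonical map to the scheme-theoretic image
  have hrm : r ≫ m = (i ≫ q).toImage := by
    apply (cancel_mono (i ≫ q).imageι).mp
    rw [Category.assoc, hm, Scheme.Hom.toImage_imageι]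
  haveI : UniversallyClosed (r ≫ m) := by rw [hrm]; infer_instance
  haveI : Surjective (r ≫ m) := by rw [hrm]; infer_instance
  haveI : QuasiCompact (r ≫ m) := inferInstance
  -- universal injectivity
  have hφ : UniversallyInjective (m ≫ (i ≫ q).ker.subschemeι) :=
    Groth.Agent.Helper9.UnivHomeoQ.univInj_of_mono hquot i ρZ hρZ r hr _ hm
  haveI : UniversallyInjective m := by
    refine ((tfae_universallyInjective m).out 0 1).mpr ?_
    intro K _ g₁ g₂ hg
    change g₁ ≫ m = g₂ ≫ m at hg
    have h2 : ∀ (K : Type u) [Field K], Function.Injective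
        (fun g : Spec (CommRingCat.of K) ⟶ W => g ≫ (m ≫ (i ≫ q).ker.subschemeι)) :=
      ((tfae_universallyInjective (m ≫ (i ≫ q).ker.subschemeι)).out 0 1).mp hφ
    apply h2 K
    change g₁ ≫ m ≫ _ = g₂ ≫ m ≫ _
    rw [← Category.assoc, hg, Category.assoc]
  refine ⟨Groth.Agent.Helper9.UnivHomeoQ.isUnivHomeo_of r m, ?_⟩
  -- scheme-theoretic dominance
  haveI : UniversallyClosed m := UniversallyClosed.of_comp_surjective r m
  haveI : QuasiCompact m := inferInstance
  constructor
  refine Scheme.IdealSheafData.ext_of_iSup_eq_top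
    (fun U : Y.affineOpens => (⟨(i ≫ q).imageι ⁻¹ᵁ U.1, U.2.preimage (i ≫ q).imageι⟩ :
      (i ≫ q).image.affineOpens)) ?_ ?_
  · rw [eq_top_iff]
    intro x _
    obtain ⟨_, ⟨U, hU : IsAffineOpen U, rfl⟩, hxU, -⟩ :=
      Y.isBasis_affineOpens.exists_subset_of_mem_open
        (Set.mem_univ ((i ≫ q).imageι.base x)) isOpen_univ
    exact TopologicalSpace.Opens.mem_iSup.mpr ⟨⟨U, hU⟩, hxU⟩
  · intro U
    rw [Scheme.Hom.ker_apply]
    have h0 : Function.Injective ((i ≫ q).toImage.app ((i ≫ q).imageι ⁻¹ᵁ U.1)).hom :=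
      (i ≫ q).toImage_app_injective U
    have h1 : Function.Injective ((r ≫ m).app ((i ≫ q).imageι ⁻¹ᵁ U.1)).hom := by
      rw [Scheme.Hom.congr_app hrm]
      have h3 : ∀ {A B : Z.Opens} (h : A = B),
          Function.Injective (Z.presheaf.map (eqToHom h).op).hom :=
        fun h => (ConcreteCategory.bijective_of_isIso (Z.presheaf.map (eqToHom h).op)).1
      rw [CommRingCat.hom_comp, RingHom.coe_comp]
      exact (h3 _).comp h0
    have h2 : Function.Injective (m.app ((i ≫ q).imageι ⁻¹ᵁ U.1)).hom := by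
      rw [Scheme.Hom.comp_app] at h1
      exact Function.Injective.of_comp (f := (r.app (m ⁻¹ᵁ ((i ≫ q).imageι ⁻¹ᵁ U.1))).hom) h1
    rw [(RingHom.injective_iff_ker_eq_bot _).mp h2]
    rfl

end Groth.Agent.S13177
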