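import Groth.Statements.S13184
import Mathlib

set_option autoImplicit false
universe u
open ZeroCyc

namespace Groth.Agent.S13184

/-- Let k ⊆ K be a finite extension of fields of characteristic p > 0, viewed inside an algebraically
closed field Ω, and for e ≥ 0 let k^{p^{-e}} ⊆ Ω be the field of elements whose p^e-th power lies in
k. Then the compositum k^{p^{-e}}K is separable over k^{p^{-e}} if and only if x^{p^e} is separable
over k for every x ∈ K; hence the exponent of K/k (the least n ≥ 1 with K^n separable over k, a
power of p) is the least p^e for which k^{p^{-e}} ⊆ k^{p^{-e}}K is separable. -/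
theorem result {k : Type u} [Field k] (p : ℕ) [Fact p.Prime] [CharP k p]
    {K : Type u} [Field K] [Algebra k K] [FiniteDimensional k K]
    {Ω : Type u} [Field Ω] [Algebra k Ω] [Algebra K Ω] [IsScalarTower k K Ω] [IsAlgClosed Ω] (e : ℕ) :
    (∀ x : Ω, x ∈ IntermediateField.adjoin k {y : Ω | y ^ (p ^ e) ∈ Set.range (algebraMap k Ω)} ⊔
        IntermediateField.adjoin k (Set.range (algebraMap K Ω)) →
      IsSeparable (IntermediateField.adjoin k {y : Ω | y ^ (p ^ e) ∈ Set.range (algebraMap k Ω)}) x) ↔
    ∀ x : K, x ^ (p ^ e) ∈ separableClosure k K := by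
  classical
  haveI hcharΩ : CharP Ω p := charP_of_injective_algebraMap (algebraMap k Ω).injective p
  haveI : ExpChar Ω p := ExpChar.prime (Fact.out : p.Prime)
  haveI : PerfectRing Ω p := PerfectField.toPerfectRing p
  -- elements of the root field have `p^e`-th powers in `k`
  have hA : ∀ y : Ω, y ∈ IntermediateField.adjoin k {y : Ω | y ^ (p ^ e) ∈ Set.range (algebraMap k Ω)} →
      y ^ (p ^ e) ∈ Set.range (algebraMap k Ω) := by
    let L : IntermediateField k Ω :=
      Subfield.toIntermediateField
        (Subfield.comap (iterateFrobenius Ω p e) (algebraMap k Ω).fieldRange)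
        (by
          intro a
          rw [Subfield.mem_comap, iterateFrobenius_def, ← map_pow]
          exact ⟨a ^ p ^ e, rfl⟩)
    have hle : IntermediateField.adjoin k {y : Ω | y ^ (p ^ e) ∈ Set.range (algebraMap k Ω)} ≤ L := by
      rw [IntermediateField.adjoin_le_iff]
      intro y hy
      obtain ⟨a, ha⟩ := hy
      change iterateFrobenius Ω p e y ∈ (algebraMap k Ω).fieldRange
      rw [iterateFrobenius_def]
      exact ⟨a, ha⟩
    intro y hy
    have := hle hy
    change iterateFrobenius Ω p e y ∈ (algebraMap k Ω).fieldRange at this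
    rw [iterateFrobenius_def] at this
    obtain ⟨a, ha⟩ := this
    exact ⟨a, ha⟩
  constructor
  · -- forward direction
    intro H x
    rw [mem_separableClosure_iff]
    have hx' : algebraMap K Ω x ∈ IntermediateField.adjoin k {y : Ω | y ^ (p ^ e) ∈ Set.range (algebraMap k Ω)} ⊔
        IntermediateField.adjoin k (Set.range (algebraMap K Ω)) :=
      (le_sup_right : IntermediateField.adjoin k (Set.range (algebraMap K Ω)) ≤ _)
        (IntermediateField.subset_adjoin _ _ ⟨x, rfl⟩)
    have hsep := H _ hx'
    -- the ring hom ψ : ke → k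
    choose c hc using fun a : IntermediateField.adjoin k {y : Ω | y ^ (p ^ e) ∈ Set.range (algebraMap k Ω)} =>
      hA a.1 a.2
    have hinj := (algebraMap k Ω).injective
    let ψ : IntermediateField.adjoin k {y : Ω | y ^ (p ^ e) ∈ Set.range (algebraMap k Ω)} →+* k :=
      { toFun := c
        map_one' := hinj (by rw [hc]; simp)
        map_mul' := fun a b => hinj (by rw [hc, map_mul, hc, hc]; simp [mul_pow])
        map_zero' := hinj (by rw [hc]; simp [(Fact.out : p.Prime).ne_zero])
        map_add' := fun a b => hinj (by
          rw [hc, map_add, hc, hc]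
          simp only [IntermediateField.coe_add]
          exact add_pow_char_pow (R := Ω) (p := p) (n := e) _ _) }
    have hψ : (algebraMap k Ω).comp ψ = (iterateFrobenius Ω p e).comp
        (algebraMap (IntermediateField.adjoin k {y : Ω | y ^ (p ^ e) ∈ Set.range (algebraMap k Ω)}) Ω) := by
      ext a
      simp only [RingHom.comp_apply, iterateFrobenius_def]
      exact hc a
    have hroot : Polynomial.aeval (x ^ (p ^ e)) ((minpoly (IntermediateField.adjoin k {y : Ω | y ^ (p ^ e) ∈ Set.range (algebraMap k Ω)}) (algebraMap K Ω x)).map ψ) = 0 := by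
      apply (algebraMap K Ω).injective
      rw [map_zero, ← Polynomial.aeval_algebraMap_apply, map_pow, Polynomial.aeval_def,
        Polynomial.eval₂_map, hψ, ← iterateFrobenius_def (R := Ω), ← Polynomial.hom_eval₂,
        ← Polynomial.aeval_def, minpoly.aeval, map_zero]
    have hsep' : ((minpoly (IntermediateField.adjoin k {y : Ω | y ^ (p ^ e) ∈ Set.range (algebraMap k Ω)}) (algebraMap K Ω x)).map ψ).Separable :=
      Polynomial.Separable.map hsep
    exact hsep'.of_dvd (minpoly.dvd k _ hroot)
  · -- backward direction
    intro H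
    let E := iterateFrobeniusEquiv Ω p e
    have hE : ∀ z : Ω, E z = z ^ (p ^ e) := fun z => rfl
    have hmemke : ∀ a : k, E.symm (algebraMap k Ω a) ∈
        IntermediateField.adjoin k {y : Ω | y ^ (p ^ e) ∈ Set.range (algebraMap k Ω)} := by
      intro a
      apply IntermediateField.subset_adjoin
      change (E.symm (algebraMap k Ω a)) ^ (p ^ e) ∈ Set.range (algebraMap k Ω)
      rw [← hE, E.apply_symm_apply]
      exact ⟨a, rfl⟩
    let θ : k →+* IntermediateField.adjoin k {y : Ω | y ^ (p ^ e) ∈ Set.range (algebraMap k Ω)} :=
      { toFun := fun a => ⟨E.symm (algebraMap k Ω a), hmemke a⟩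
        map_one' := Subtype.ext (by simp)
        map_mul' := fun a b => Subtype.ext (by simp)
        map_zero' := Subtype.ext (by simp)
        map_add' := fun a b => Subtype.ext (by simp) }
    have hθ : (algebraMap (IntermediateField.adjoin k {y : Ω | y ^ (p ^ e) ∈ Set.range (algebraMap k Ω)}) Ω).comp θ
        = (E.symm : Ω →+* Ω).comp (algebraMap k Ω) := by
      ext a
      rfl
    have hK : ∀ x : K, IsSeparable (IntermediateField.adjoin k {y : Ω | y ^ (p ^ e) ∈ Set.range (algebraMap k Ω)})
        (algebraMap K Ω x) := by
      intro x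
      have hx := H x
      rw [mem_separableClosure_iff] at hx
      have hroot : Polynomial.aeval (algebraMap K Ω x) ((minpoly k (x ^ (p ^ e))).map θ) = 0 := by
        rw [Polynomial.aeval_def, Polynomial.eval₂_map, hθ]
        have hy : algebraMap K Ω x = (E.symm : Ω →+* Ω) (algebraMap K Ω (x ^ (p ^ e))) := by
          change _ = E.symm _
          rw [map_pow, ← hE, E.symm_apply_apply]
        rw [hy, ← Polynomial.hom_eval₂, ← Polynomial.aeval_def, Polynomial.aeval_algebraMap_apply,
          minpoly.aeval, map_zero, map_zero]
      have hsep' : ((minpoly k (x ^ (p ^ e))).map θ).Separable := Polynomial.Separable.map hx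
      exact hsep'.of_dvd (minpoly.dvd _ _ hroot)
    have hle : IntermediateField.adjoin k {y : Ω | y ^ (p ^ e) ∈ Set.range (algebraMap k Ω)} ⊔
        IntermediateField.adjoin k (Set.range (algebraMap K Ω)) ≤
        (separableClosure (IntermediateField.adjoin k {y : Ω | y ^ (p ^ e) ∈ Set.range (algebraMap k Ω)}) Ω).restrictScalars k := by
      apply sup_le
      · intro a ha
        change IsSeparable _ a
        exact isSeparable_algebraMap (⟨a, ha⟩ : IntermediateField.adjoin k {y : Ω | y ^ (p ^ e) ∈ Set.range (algebraMap k Ω)})
      · rw [IntermediateField.adjoin_le_iff]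
        rintro _ ⟨x, rfl⟩
        exact hK x
    intro z hz
    exact hle hz

end Groth.Agent.S13184
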