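import Groth.Statements.S13185
import Groth.Agent.Helper6.GpH1X

set_option autoImplicit false
universe u v w x
open GalCoh

namespace Groth.Agent.S13185

/-- Let a group G act by automorphisms on groups A, B, C and let 1 → A → B → C → 1 (maps ι, π) be a
G-equivariant short exact sequence. For G-fixed elements c, c' of C, the connecting map to H¹(G, A)
takes equal values on c and c' if and only if c' = π(b) · c for some G-fixed b in B: the fibres of
the connecting map are the orbits of the fixed points of B acting on the fixed points of C by left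
multiplication. (The published statement is for a Galois group acting on discrete modules; this row
takes an arbitrary group acting on groups, which is what the argument proves.) -/
theorem result {G : Type u} {A : Type v} {B : Type w} {C : Type x}
    [Group G] [Group A] [Group B] [Group C]
    [MulDistribMulAction G A] [MulDistribMulAction G B] [MulDistribMulAction G C]
    {ι : A →* B} {π : B →* C} (h : GpH1.IsGExt G ι π)
    (c c' : MulAction.fixedPoints G C) :
    GpH1.delta0 h c = GpH1.delta0 h c' ↔
      ∃ b : B, b ∈ MulAction.fixedPoints G B ∧ (c' : C) = π b * (c : C) := by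
  have hπι : ∀ a : A, π (ι a) = 1 := fun a => (h.exact _).2 ⟨a, rfl⟩
  obtain ⟨β, hβ⟩ := h.surjective c.1
  have hβf : π β ∈ MulAction.fixedPoints G C := hβ.symm ▸ c.2
  rw [Groth.Agent.Helper6.GpH1X.delta0_eq_cl h c β hβf hβ]
  constructor
  · intro hd
    obtain ⟨β', hβ'⟩ := h.surjective c'.1
    have hβf' : π β' ∈ MulAction.fixedPoints G C := hβ'.symm ▸ c'.2
    rw [Groth.Agent.Helper6.GpH1X.delta0_eq_cl h c' β' hβf' hβ'] at hd
    obtain ⟨e, he⟩ := (GpH1.OneCocycle.cl_eq_cl_iff _ _).1 hd
    refine ⟨β' * ι e * β⁻¹, ?_, ?_⟩
    · intro σ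
      have h1 := congrArg ι (he σ)
      rw [h.ι_cocycleOfLift, map_mul, map_mul, map_inv, h.smul_ι, h.ι_cocycleOfLift] at h1
      rw [smul_mul', smul_mul', smul_inv']
      have h3 : σ • β = β * ((ι e)⁻¹ * (β'⁻¹ * σ • β') * σ • ι e) := by rw [← h1]; group
      rw [h3]
      group
    · rw [map_mul, map_mul, hπι, map_inv, hβ, hβ']
      group
  · rintro ⟨b, hbf, hbc⟩
    have hbβ : π (b * β) = c' := by rw [map_mul, hβ, hbc]
    have hbβf : π (b * β) ∈ MulAction.fixedPoints G C := hbβ.symm ▸ c'.2
    rw [Groth.Agent.Helper6.GpH1X.delta0_eq_cl h c' (b * β) hbβf hbβ]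
    congr 1
    apply GpH1.OneCocycle.ext
    intro σ
    apply h.injective
    rw [h.ι_cocycleOfLift, h.ι_cocycleOfLift, smul_mul', hbf σ]
    group

end Groth.Agent.S13185
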