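import Groth.Statements.S13186
import Groth.Agent.Helper6.GLnH90

set_option autoImplicit false
universe u
open GalCoh

namespace Groth.Agent.S13186

/-- Let L/K be a finite Galois extension of fields, n a natural number, and B a map from the Galois
group of L over K to the invertible n × n matrices over L such that B(σ) · σ(B(τ)) = B(στ) for all
σ, τ (σ acting on matrices entrywise, στ applying τ first) and det B(σ) = 1 for every σ. Then there
is an invertible matrix A over L of determinant 1 with B(σ) = A⁻¹ · σ(A) for every σ; that is, every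
1-cocycle of the Galois group with values in SL_n(L) is the coboundary of an element of SL_n(L), so
H¹ of the Galois group with values in SL_n(L) is a point. (The published statement says that every
torsor under the special linear group over K is trivial; this row is the finite-Galois-level cocycle
form that its proof establishes.) -/
theorem result (K L : Type u) [Field K] [Field L]
    [Algebra K L] [FiniteDimensional K L] [IsGalois K L] (n : ℕ)
    (B : (L ≃ₐ[K] L) → GL (Fin n) L)
    (hB : ∀ σ τ : L ≃ₐ[K] L,
      (B σ : Matrix (Fin n) (Fin n) L) * (B τ : Matrix (Fin n) (Fin n) L).map σ =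
        (B (σ * τ) : Matrix (Fin n) (Fin n) L))
    (hdet : ∀ σ : L ≃ₐ[K] L, Matrix.det (B σ : Matrix (Fin n) (Fin n) L) = 1) :
    ∃ A : GL (Fin n) L, Matrix.det (A : Matrix (Fin n) (Fin n) L) = 1 ∧ ∀ σ : L ≃ₐ[K] L,
      (B σ : Matrix (Fin n) (Fin n) L) =
        ((A⁻¹ : GL (Fin n) L) : Matrix (Fin n) (Fin n) L) * (A : Matrix (Fin n) (Fin n) L).map σ := by
  classical
  obtain ⟨A₀, hA₀⟩ := Groth.Agent.Helper6.GLnH90.exists_GL (K := K) (L := L) n B hB
  cases n with
  | zero =>
    refine ⟨A₀, ?_, hA₀⟩
    exact Matrix.det_isEmpty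
  | succ m =>
    set d : L := Matrix.det (A₀ : Matrix (Fin (m + 1)) (Fin (m + 1)) L) with hd
    have hdu : IsUnit d := (Matrix.isUnit_iff_isUnit_det _).1 A₀.isUnit
    have hd0 : d ≠ 0 := hdu.ne_zero
    -- σ d = d
    have hσd : ∀ σ : L ≃ₐ[K] L, σ d = d := by
      intro σ
      have h1 := congrArg Matrix.det (hA₀ σ)
      rw [hdet σ, Matrix.det_mul] at h1
      have h2 : Matrix.det ((A₀ : Matrix (Fin (m + 1)) (Fin (m + 1)) L).map σ) = σ d := by
        have : (A₀ : Matrix (Fin (m + 1)) (Fin (m + 1)) L).map σ =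
            (σ : L →+* L).mapMatrix (A₀ : Matrix (Fin (m + 1)) (Fin (m + 1)) L) := rfl
        rw [this, ← RingHom.map_det]
        rfl
      have h3 : Matrix.det ((A₀⁻¹ : GL (Fin (m + 1)) L) : Matrix (Fin (m + 1)) (Fin (m + 1)) L) * d = 1 := by
        rw [hd, ← Matrix.det_mul, ← Units.val_mul, inv_mul_cancel, Units.val_one, Matrix.det_one]
      rw [h2] at h1
      have h4 : Matrix.det ((A₀⁻¹ : GL (Fin (m + 1)) L) : Matrix (Fin (m + 1)) (Fin (m + 1)) L) = d⁻¹ := by
        field_simp
        exact h3
      rw [h4] at h1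
      field_simp at h1
      exact h1.symm
    -- the diagonal matrix
    let D : Matrix (Fin (m + 1)) (Fin (m + 1)) L :=
      Matrix.diagonal (Function.update (fun _ => (1 : L)) 0 d⁻¹)
    have hDdet : D.det = d⁻¹ := by
      rw [Matrix.det_diagonal, Fin.prod_univ_succ]
      simp [Function.update_of_ne (Fin.succ_ne_zero _)]
    have hDu : IsUnit D := by
      rw [Matrix.isUnit_iff_isUnit_det, hDdet]
      exact (hdu.inv)
    have hDσ : ∀ σ : L ≃ₐ[K] L, D.map σ = D := by
      intro σ
      ext i j
      simp only [D, Matrix.map_apply, Matrix.diagonal_apply]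
      split_ifs with h
      · by_cases hi : i = 0
        · subst hi
          rw [Function.update_self, map_inv₀, hσd]
        · rw [Function.update_of_ne hi, map_one]
      · rw [map_zero]
    obtain ⟨Du, hDu'⟩ := hDu
    refine ⟨Du * A₀, ?_, ?_⟩
    · rw [Units.val_mul, Matrix.det_mul, hDu', hDdet, ← hd]
      exact inv_mul_cancel₀ hd0
    · intro σ
      rw [hA₀ σ, mul_inv_rev, Units.val_mul, Units.val_mul]
      have e1 : ((Du : Matrix (Fin (m + 1)) (Fin (m + 1)) L) * (A₀ : Matrix (Fin (m + 1)) (Fin (m + 1)) L)).map σ =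
          (Du : Matrix (Fin (m + 1)) (Fin (m + 1)) L).map σ * (A₀ : Matrix (Fin (m + 1)) (Fin (m + 1)) L).map σ := by
        have : ∀ M : Matrix (Fin (m + 1)) (Fin (m + 1)) L, M.map σ = (σ : L →+* L).mapMatrix M := fun _ => rfl
        rw [this, this, this, map_mul]
      rw [e1, hDu', hDσ σ, Matrix.mul_assoc, ← Matrix.mul_assoc _ D, ← hDu', ← Units.val_mul,
        inv_mul_cancel, Units.val_one, Matrix.one_mul]

end Groth.Agent.S13186
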