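import Groth.Statements.S13189
import Mathlib.Tactic
import Mathlib.FieldTheory.Finite.Polynomial

set_option autoImplicit false
universe u
open CAlg

namespace Groth.Agent.S13189

open MvPolynomial in
theorem eq_zero_of_eval_zero_fin (K : Type u) [Field K] [Fintype K] (n : ℕ)
    (p : MvPolynomial (Fin n) K) (h : ∀ v : Fin n → K, eval v p = 0)
    (hp : p ∈ restrictDegree (Fin n) K (Fintype.card K - 1)) : p = 0 := by
  classical
  let e : Fin n ≃ ULift.{u} (Fin n) := Equiv.ulift.symm
  have h1 : rename e p = 0 := by
    apply MvPolynomial.eq_zero_of_eval_eq_zero (ULift.{u} (Fin n)) K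
    · intro v
      rw [eval_rename]
      exact h _
    · rw [mem_restrictDegree] at hp ⊢
      intro s hs i
      rw [support_rename_of_injective e.injective, Finset.mem_image] at hs
      obtain ⟨t, ht, rfl⟩ := hs
      rw [Finsupp.mapDomain_equiv_apply]
      exact hp t ht _
  have := rename_injective (R := K) e e.injective
  exact this (by rw [h1, map_zero])

/-- For a finite field K of cardinality q and n ≥ 0, a polynomial p in n variables over K vanishes at
every point of K^n if and only if p belongs to the ideal generated by the X_i^q − X_i, i = 1, …, n;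
in other words that ideal is the kernel of the evaluation homomorphism from K[X_1, …, X_n] to the
ring of K-valued functions on K^n. -/
theorem result (K : Type u) [Field K] [Fintype K]
    (n : ℕ) (p : MvPolynomial (Fin n) K) :
    (∀ a : Fin n → K, MvPolynomial.eval a p = 0) ↔
      p ∈ Ideal.span (Set.range fun i : Fin n =>
        (MvPolynomial.X i ^ Fintype.card K - MvPolynomial.X i : MvPolynomial (Fin n) K)) := by
  classical
  set q := Fintype.card K with hqdef
  set J := Ideal.span (Set.range fun i : Fin n =>
    (MvPolynomial.X i ^ q - MvPolynomial.X i : MvPolynomial (Fin n) K)) with hJ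
  have hq : 1 ≤ q := Fintype.card_pos
  have hq2 : 2 ≤ q := Fintype.one_lt_card
  have hgen : ∀ i, (MvPolynomial.X i ^ q - MvPolynomial.X i : MvPolynomial (Fin n) K) ∈ J :=
    fun i => Ideal.subset_span ⟨i, rfl⟩
  have hJeval : ∀ f ∈ J, ∀ a : Fin n → K, MvPolynomial.eval a f = 0 := by
    intro f hf a
    have : J ≤ RingHom.ker (MvPolynomial.eval a) := by
      rw [hJ, Ideal.span_le]
      rintro _ ⟨i, rfl⟩
      simp [RingHom.mem_ker, hqdef, FiniteField.pow_card]
    exact this hf
  have hpow : ∀ (i : Fin n) (m : ℕ), ∃ r ≤ q - 1,
      (MvPolynomial.X i ^ m - MvPolynomial.X i ^ r : MvPolynomial (Fin n) K) ∈ J := by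
    intro i m
    induction m using Nat.strong_induction_on with
    | _ m ih =>
      by_cases hm : m ≤ q - 1
      · exact ⟨m, hm, by simp⟩
      · have hmq : q ≤ m := by omega
        obtain ⟨r, hr, hmem⟩ := ih (m - q + 1) (by omega)
        refine ⟨r, hr, ?_⟩
        have : (MvPolynomial.X i ^ m - MvPolynomial.X i ^ r : MvPolynomial (Fin n) K) =
            MvPolynomial.X i ^ (m - q) * (MvPolynomial.X i ^ q - MvPolynomial.X i) +
              (MvPolynomial.X i ^ (m - q + 1) - MvPolynomial.X i ^ r) := by
          have : m = (m - q) + q := by omega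
          conv_lhs => rw [this]
          ring
        rw [this]
        exact J.add_mem (J.mul_mem_left _ (hgen i)) hmem
  have hmono : ∀ m : Fin n →₀ ℕ, ∃ p' ∈ MvPolynomial.restrictDegree (Fin n) K (q - 1),
      (MvPolynomial.monomial m (1 : K) - p') ∈ J := by
    intro m
    choose r hr hmem using fun i => hpow i (m i)
    refine ⟨MvPolynomial.monomial (Finsupp.equivFunOnFinite.symm r) 1, ?_, ?_⟩
    · rw [MvPolynomial.mem_restrictDegree]
      intro s hs i
      have := MvPolynomial.support_monomial_subset hs
      rw [Finset.mem_singleton] at this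
      rw [this]
      exact hr i
    · rw [← Ideal.Quotient.eq, MvPolynomial.monomial_eq, MvPolynomial.monomial_eq, map_mul, map_mul,
        Finsupp.prod_fintype _ _ (fun _ => pow_zero _), Finsupp.prod_fintype _ _ (fun _ => pow_zero _),
        map_prod, map_prod]
      congr 1
      apply Finset.prod_congr rfl
      intro i _
      rw [Ideal.Quotient.eq]
      exact hmem i
  have hred : ∀ p : MvPolynomial (Fin n) K, ∃ p' ∈ MvPolynomial.restrictDegree (Fin n) K (q - 1), p - p' ∈ J := by
    intro p
    choose g hg hgJ using hmono
    refine ⟨∑ v ∈ p.support, MvPolynomial.coeff v p • g v, ?_, ?_⟩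
    · exact Submodule.sum_mem _ fun v _ => Submodule.smul_mem _ _ (hg v)
    · have hsum : p - ∑ v ∈ p.support, MvPolynomial.coeff v p • g v =
          ∑ v ∈ p.support, (MvPolynomial.monomial v (MvPolynomial.coeff v p) - MvPolynomial.coeff v p • g v) := by
        rw [Finset.sum_sub_distrib, ← p.as_sum]
      rw [hsum]
      apply Ideal.sum_mem
      intro v _
      have : MvPolynomial.monomial v (MvPolynomial.coeff v p) - MvPolynomial.coeff v p • g v =
          MvPolynomial.C (MvPolynomial.coeff v p) * (MvPolynomial.monomial v 1 - g v) := by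
        rw [mul_sub, MvPolynomial.C_mul_monomial, mul_one, MvPolynomial.smul_eq_C_mul]
      rw [this]
      exact J.mul_mem_left _ (hgJ v)
  constructor
  · intro h
    obtain ⟨p', hp', hpJ⟩ := hred p
    have hp'0 : p' = 0 := by
      apply eq_zero_of_eval_zero_fin K n p' _ hp'
      intro v
      have h1 := hJeval _ hpJ v
      rw [map_sub, h v, zero_sub, neg_eq_zero] at h1
      exact h1
    rw [hp'0, sub_zero] at hpJ
    exact hpJ
  · intro h a
    exact hJeval p h a

end Groth.Agent.S13189
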