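import Groth.Statements.S13192
import Groth.Agent.Helper6.GpH1X

set_option autoImplicit false
universe u v
open GalCoh

namespace Groth.Agent.S13192

/-- The twisted torsor attached to a cocycle: a copy of `A`. -/
structure TwE (A : Type v) where
  val : A

theorem TwE.ext' {A : Type v} {x y : TwE A} (h : x.val = y.val) : x = y := by
  cases x; cases y; cases h; rfl

theorem cocycle_one {G : Type u} {A : Type v} [Group G] [Group A] [MulDistribMulAction G A]
    (a : G → A) (ha : GpH1.IsOneCocycle a) : a 1 = 1 := by
  have h := ha 1 1
  rw [one_smul, mul_one] at h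
  exact (mul_eq_left (a := a 1) (b := a 1)).1 h.symm |> fun h' => h'

def twG {G : Type u} {A : Type v} [Group G] [Group A] [MulDistribMulAction G A]
    (a : G → A) (ha : GpH1.IsOneCocycle a) : MulAction G (TwE A) where
  smul g x := ⟨a g * g • x.val⟩
  one_smul x := by
    apply TwE.ext'
    show a 1 * (1 : G) • x.val = x.val
    rw [cocycle_one a ha, one_smul, one_mul]
  mul_smul σ τ x := by
    apply TwE.ext'
    show a (σ * τ) * (σ * τ) • x.val = a σ * σ • (a τ * τ • x.val)
    rw [ha σ τ, smul_mul', mul_smul, mul_assoc]

def twA (A : Type v) [Group A] : MulAction Aᵐᵒᵖ (TwE A) where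
  smul b x := ⟨x.val * b.unop⟩
  one_smul x := by
    apply TwE.ext'
    show x.val * 1 = x.val
    rw [mul_one]
  mul_smul b c x := by
    apply TwE.ext'
    show x.val * (c.unop * b.unop) = x.val * c.unop * b.unop
    rw [mul_assoc]

/-- Let a group G act by automorphisms on a group A and let a : G → A be a 1-cocycle. Then there exist a
G-equivariant right A-torsor E (a set with a simply transitive right action of A, written m ↦ m·a,
and a left action of G with g(m·a) = (gm)·(ga)) and a point m of E whose attached map is a, i.e. g·m
= m·a(g) for every g in G. (E is taken in the universe of A. The published statement is for a Galois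
group acting on discrete modules; this row takes an arbitrary group acting on a group.) -/
theorem result {G : Type u} {A : Type v}
    [Group G] [Group A] [MulDistribMulAction G A] (a : G → A) (ha : GpH1.IsOneCocycle a) :
    ∃ (E : Type v) (_ : MulAction G E) (_ : MulAction Aᵐᵒᵖ E) (m : E),
      (∀ m₁ m₂ : E, ∃! b : A, m₂ = MulOpposite.op b • m₁) ∧
      (∀ (g : G) (b : A) (e : E), g • (MulOpposite.op b • e) = MulOpposite.op (g • b) • g • e) ∧
      ∀ g : G, g • m = MulOpposite.op (a g) • m := by
  refine ⟨TwE A, twG a ha, twA A, ⟨1⟩, ?_, ?_, ?_⟩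
  · intro m₁ m₂
    refine ⟨m₁.val⁻¹ * m₂.val, ?_, ?_⟩
    · apply TwE.ext'
      show m₂.val = m₁.val * (m₁.val⁻¹ * m₂.val)
      group
    · intro b hb
      have h1 : m₂.val = m₁.val * b := congrArg TwE.val hb
      rw [h1]
      group
  · intro g b e
    apply TwE.ext'
    show a g * g • (e.val * b) = a g * g • e.val * g • b
    rw [smul_mul', mul_assoc]
  · intro g
    apply TwE.ext'
    show a g * g • (1 : A) = 1 * a g
    rw [smul_one, mul_one, one_mul]

end Groth.Agent.S13192
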