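import Groth.Statements.S13195
import Groth.Agent.Helper6.KrullH90

set_option autoImplicit false
universe u
open GalCoh

namespace Groth.Agent.S13195

theorem units_H90 (K L : Type*) [Field K] [Field L]
    [Algebra K L] [IsGalois K L] (a : (L ≃ₐ[K] L) → Lˣ)
    (ha : ∀ σ τ : L ≃ₐ[K] L, a (σ * τ) = a σ * σ • a τ) (hlc : IsLocallyConstant a) :
    ∃ c : Lˣ, ∀ σ : L ≃ₐ[K] L, a σ = c⁻¹ * σ • c := by
  obtain ⟨c, hc0, hc⟩ := Groth.Agent.Helper6.KrullH90.krull_mul (fun σ => ((a σ : Lˣ) : L))
    (fun σ => (a σ).ne_zero) (by
      intro σ τ
      show ((a (σ * τ) : Lˣ) : L) = _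
      rw [ha σ τ, Units.val_mul, AlgEquiv.smul_units_def]
      rfl) (hlc.comp Units.val)
  refine ⟨Units.mk0 c hc0, fun σ => ?_⟩
  apply Units.ext
  rw [Units.val_mul, AlgEquiv.smul_units_def, Units.val_inv_eq_inv_val]
  exact hc σ

/-- Let K be a field and L a separable closure of K. Every map a from the automorphism group of L over K
to the units of L which is locally constant for the Krull topology and satisfies the 1-cocycle
identity a(στ) = a(σ) · σ(a(τ)) for all σ, τ has the form a(σ) = c⁻¹ · σ(c) for a single unit c of
L; that is, the first cohomology set of the absolute Galois group of K with continuous cochains and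
values in the multiplicative group of the separable closure is reduced to its base point. (The
finite-level statement for a finite Galois extension is the classical Hilbert 90; this row is the
statement for the absolute Galois group.) -/
theorem result (K L : Type u) [Field K] [Field L]
    [Algebra K L] [IsSepClosure K L] (a : (L ≃ₐ[K] L) → Lˣ)
    (ha : ∀ σ τ : L ≃ₐ[K] L, a (σ * τ) = a σ * σ • a τ) (hlc : IsLocallyConstant a) :
    ∃ c : Lˣ, ∀ σ : L ≃ₐ[K] L, a σ = c⁻¹ * σ • c := by
  exact units_H90 K L a ha hlc

end Groth.Agent.S13195
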