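import Groth.Statements.S13203
import Mathlib
import Groth.Agent.Helper6.NeronMP

set_option autoImplicit false
universe u
open CategoryTheory AlgebraicGeometry
open Neron

namespace Groth.Agent.S13203

/-- Let S be a scheme, U ⊆ S a schematically dense open subscheme and N → S a smooth S-scheme with the
Néron mapping property with respect to U: for every smooth S-scheme Y, sending an S-morphism Y → N
to its restriction Y ×_S U → N ×_S U is a bijection onto the U-morphisms. Then for every smooth
morphism g : S' → S the base change N ×_S S' → S' (again smooth) has the Néron mapping property with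
respect to g⁻¹(U): for every smooth S'-scheme Y', restriction to g⁻¹(U) is a bijection from
S'-morphisms Y' → N ×_S S' onto g⁻¹(U)-morphisms. (The published statement is for models which are
algebraic spaces, tested against smooth algebraic spaces, and also says that separatedness is
preserved; this row states the case of a smooth scheme model tested against smooth schemes.) -/
theorem result
    {S S' : Scheme.{u}} (g : S' ⟶ S) [Smooth g]
    (U : S.Opens) (hU : CInt.IsSchematicallyDense U) (N : Over S) [Smooth N.hom]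
    (hN : ∀ Y : Over S, Smooth Y.hom →
      Function.Bijective (fun f : Y ⟶ N => (Over.pullback U.ι).map f))
    (Y' : Over S') [Smooth Y'.hom] :
    Function.Bijective (fun f : Y' ⟶ (Over.pullback g).obj N => (Over.pullback (g ⁻¹ᵁ U).ι).map f) := by
  rw [Helper6.NeronMP.bijective_iff_plainExt]
  intro χ hχ
  change χ ≫ Limits.pullback.snd N.hom g = (Y'.hom ⁻¹ᵁ (g ⁻¹ᵁ U)).ι ≫ Y'.hom at hχ
  let Z : Over S := Over.mk (Y'.hom ≫ g)
  have hZ : Smooth Z.hom := by
    change Smooth (Y'.hom ≫ g)
    infer_instance
  have hP := (Helper6.NeronMP.bijective_iff_plainExt U Z N).1 (hN Z hZ)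
  have hχ' : (χ ≫ Limits.pullback.fst N.hom g) ≫ N.hom = (Y'.hom ⁻¹ᵁ (g ⁻¹ᵁ U)).ι ≫ Y'.hom ≫ g := by
    rw [Category.assoc, Limits.pullback.condition, ← Category.assoc, hχ, Category.assoc]
  obtain ⟨φ₁, ⟨h1, h2⟩, hu⟩ := hP (χ ≫ Limits.pullback.fst N.hom g) hχ'
  change φ₁ ≫ N.hom = Y'.hom ≫ g at h1
  change (Y'.hom ⁻¹ᵁ (g ⁻¹ᵁ U)).ι ≫ φ₁ = χ ≫ Limits.pullback.fst N.hom g at h2
  refine ⟨Limits.pullback.lift φ₁ Y'.hom h1, ⟨Limits.pullback.lift_snd _ _ _, ?_⟩, ?_⟩
  · apply Limits.pullback.hom_ext
    · rw [Category.assoc, Limits.pullback.lift_fst, h2]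
    · rw [Category.assoc, Limits.pullback.lift_snd, hχ]
  · rintro φ' ⟨e1, e2⟩
    change φ' ≫ Limits.pullback.snd N.hom g = Y'.hom at e1
    have : φ' ≫ Limits.pullback.fst N.hom g = φ₁ := by
      apply hu
      constructor
      · change (φ' ≫ Limits.pullback.fst N.hom g) ≫ N.hom = Y'.hom ≫ g
        rw [Category.assoc, Limits.pullback.condition, ← Category.assoc, e1]
      · change (Y'.hom ⁻¹ᵁ (g ⁻¹ᵁ U)).ι ≫ φ' ≫ Limits.pullback.fst N.hom g = χ ≫ Limits.pullback.fst N.hom g
        rw [← Category.assoc, e2]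
    apply Limits.pullback.hom_ext
    · rw [Limits.pullback.lift_fst, this]
    · rw [Limits.pullback.lift_snd, e1]

end Groth.Agent.S13203
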