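import Groth.Statements.S13355
import Groth.Agent.Helper6.GaQ

set_option autoImplicit false
universe u
open GaDual

namespace Groth.Agent.S13355

/-- Over a commutative algebra A over the rationals, the formal characters (power series with constant
term 1 satisfying χ(X+Y) = χ(X)χ(Y) in two variables) are exactly the power series exp(aX) for a in
A. -/
theorem result (A : Type u) [CommRing A] [Algebra ℚ A] (χ : PowerSeries A) :
    (PowerSeries.constantCoeff χ = 1 ∧
      PowerSeries.subst (MvPowerSeries.X 0 + MvPowerSeries.X 1 : MvPowerSeries (Fin 2) A) χ =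
        PowerSeries.subst (MvPowerSeries.X 0 : MvPowerSeries (Fin 2) A) χ *
          PowerSeries.subst (MvPowerSeries.X 1 : MvPowerSeries (Fin 2) A) χ) ↔
      ∃ a : A, χ = PowerSeries.rescale a (PowerSeries.exp A) := by
  constructor
  · rintro ⟨hconst, hmul⟩
    have hid := (Groth.Agent.Helper6.GaChar.ps_char_iff χ).1 hmul
    refine ⟨PowerSeries.coeff 1 χ, ?_⟩
    ext k
    rw [Groth.Agent.Helper6.GaChar.coeff_rescale_exp]
    exact Groth.Agent.Helper6.GaChar.ratChar_eq (fun k => PowerSeries.coeff k χ)
      (by show PowerSeries.coeff 0 χ = 1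
          rw [PowerSeries.coeff_zero_eq_constantCoeff_apply, hconst]) hid k
  · rintro ⟨a, rfl⟩
    constructor
    · rw [← PowerSeries.coeff_zero_eq_constantCoeff_apply,
        Groth.Agent.Helper6.GaChar.coeff_rescale_exp, pow_zero,
        Groth.Agent.Helper6.GaChar.w_zero, one_mul]
    · rw [Groth.Agent.Helper6.GaChar.ps_char_iff]
      intro i j
      simp only [Groth.Agent.Helper6.GaChar.coeff_rescale_exp]
      exact Groth.Agent.Helper6.GaChar.ratChar_of a i j

end Groth.Agent.S13355
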