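import Groth.Statements.S13356
import Groth.Agent.Helper6.GaQ

set_option autoImplicit false
universe u
open GaDual

namespace Groth.Agent.S13356

/-- Over a commutative algebra A over the rationals, the polynomials f with f(0) = 1 and f(X+Y) =
f(X)f(Y) (the characters of the additive group into the multiplicative group over A) are exactly the
polynomials exp(aX) with a in A nilpotent. -/
theorem result (A : Type u) [CommRing A] [Algebra ℚ A] (f : Polynomial A) :
    (f.eval 0 = 1 ∧
      Polynomial.aeval (MvPolynomial.X 0 + MvPolynomial.X 1 : MvPolynomial (Fin 2) A) f =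
        Polynomial.aeval (MvPolynomial.X 0 : MvPolynomial (Fin 2) A) f *
          Polynomial.aeval (MvPolynomial.X 1 : MvPolynomial (Fin 2) A) f) ↔
      ∃ a : A, IsNilpotent a ∧ (f : PowerSeries A) = PowerSeries.rescale a (PowerSeries.exp A) := by
  constructor
  · rintro ⟨h0, hmul⟩
    have hid := (Groth.Agent.Helper6.GaChar.poly_char_iff f).1 hmul
    have hc := Groth.Agent.Helper6.GaChar.ratChar_eq (fun k => f.coeff k)
      (by show f.coeff 0 = 1
          rw [Polynomial.coeff_zero_eq_eval_zero, h0]) hid
    refine ⟨f.coeff 1, ⟨f.natDegree + 1, ?_⟩, ?_⟩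
    · have h1 := hc (f.natDegree + 1)
      rw [Polynomial.coeff_eq_zero_of_natDegree_lt (Nat.lt_succ_self _)] at h1
      exact ((Groth.Agent.Helper6.GaChar.isUnit_w (A := A) (f.natDegree + 1)).mul_left_eq_zero).1
        h1.symm
    · ext k
      rw [Groth.Agent.Helper6.GaChar.coeff_rescale_exp, Polynomial.coeff_coe]
      exact hc k
  · rintro ⟨a, _, hf⟩
    have hc : ∀ k, f.coeff k = a ^ k * Groth.Agent.Helper6.GaChar.w A k := by
      intro k
      rw [← Polynomial.coeff_coe, hf, Groth.Agent.Helper6.GaChar.coeff_rescale_exp]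
    constructor
    · rw [← Polynomial.coeff_zero_eq_eval_zero, hc, pow_zero,
        Groth.Agent.Helper6.GaChar.w_zero, one_mul]
    · rw [Groth.Agent.Helper6.GaChar.poly_char_iff]
      intro i j
      simp only [hc]
      exact Groth.Agent.Helper6.GaChar.ratChar_of a i j

end Groth.Agent.S13356
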