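import Groth.Statements.S13357
import Groth.Agent.Helper6.GaExp

set_option autoImplicit false
universe u
open GaDual

namespace Groth.Agent.S13357

/-- Over a commutative algebra A of prime characteristic p, the polynomials f with f(0) = 1 and f(X+Y) =
f(X)f(Y) (the characters of the additive group into the multiplicative group over A) are exactly the
finite products of truncated exponentials exp_p(a_n X^(p^n)) = Σ_{j<p} a_n^j X^(j p^n)/j! with a_n^p
= 0. -/
theorem result (p : ℕ) [Fact p.Prime] (A : Type u) [CommRing A] [CharP A p]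
    (f : Polynomial A) :
    (f.eval 0 = 1 ∧
      Polynomial.aeval (MvPolynomial.X 0 + MvPolynomial.X 1 : MvPolynomial (Fin 2) A) f =
        Polynomial.aeval (MvPolynomial.X 0 : MvPolynomial (Fin 2) A) f *
          Polynomial.aeval (MvPolynomial.X 1 : MvPolynomial (Fin 2) A) f) ↔
      ∃ (N : ℕ) (a : ℕ → A), (∀ n, a n ^ p = 0) ∧
        f = ∏ n ∈ Finset.range N, ∑ j ∈ Finset.range p,
          Polynomial.C (Ring.inverse (j.factorial : A) * a n ^ j) * Polynomial.X ^ (j * p ^ n) := by
  constructor
  · rintro ⟨h0, hmul⟩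
    have hdeg : f.natDegree < p ^ f.natDegree := Nat.lt_pow_self (Fact.out : p.Prime).one_lt
    have hchar := Groth.Agent.Helper6.GaChar.isChar_of_trunc (p := p) f.natDegree f h0
      (congrArg _ hmul)
    refine ⟨f.natDegree, fun i => f.coeff (p ^ i), fun i => ?_, ?_⟩
    · show f.coeff (p ^ i) ^ p = 0
      by_cases hi : i < f.natDegree
      · exact Groth.Agent.Helper6.GaChar.isChar_nilp _ _ hchar i hi
      · have hle : p ^ f.natDegree ≤ p ^ i :=
          Nat.pow_le_pow_right (Fact.out : p.Prime).pos (by omega)
        rw [Polynomial.coeff_eq_zero_of_natDegree_lt (by omega),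
          zero_pow (Fact.out : p.Prime).ne_zero]
    · exact Groth.Agent.Helper6.GaChar.eq_prod_of_isChar f hdeg hchar
  · rintro ⟨N, a, ha, rfl⟩
    exact ⟨Groth.Agent.Helper6.GaChar.eval_zero_prod_F (p := p) N a,
      Groth.Agent.Helper6.GaChar.prod_F_isCharacter (p := p) N a ha _ _⟩

end Groth.Agent.S13357
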