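import Groth.Statements.S13360
import Mathlib

set_option autoImplicit false
universe u
open UltraProd

namespace Groth.Agent.S13360

open Classical in
theorem idem_mem_or {A : Type*} [CommRing A] (P : Ideal A) [P.IsPrime] (e : A) (he : e * (1 - e) = 0) :
    e ∈ P ∨ (1 - e) ∈ P := by
  have : e * (1 - e) ∈ P := by rw [he]; exact P.zero_mem
  exact Ideal.IsPrime.mem_or_mem ‹_› this

theorem map_eq_zero_of_mul {A : Type*} [CommRing A] (P : Ideal A) [P.IsPrime] (e a : A) (he : e ∉ P)
    (h : e * a = 0) : algebraMap A (Localization.AtPrime P) a = 0 := by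
  rw [IsLocalization.map_eq_zero_iff P.primeCompl]
  exact ⟨⟨e, he⟩, h⟩

/-- If (R_i) is a nonempty family of valuation rings, then the localization of the product ring ∏ R_i at
any prime ideal is a valuation ring: a domain in which, of any two elements, one divides the other. -/
theorem result {ι : Type u} [Nonempty ι] (R : ι → Type u)
    [∀ i, CommRing (R i)] [∀ i, IsDomain (R i)] [∀ i, ValuationRing (R i)]
    (P : Ideal (∀ i, R i)) [P.IsPrime] :
    IsDomain (Localization.AtPrime P) ∧ PreValuationRing (Localization.AtPrime P) := by
  classical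
  set L := Localization.AtPrime P with hL
  have key1 : ∀ (e : ∀ i, R i), e * (1 - e) = 0 → (1 - e) ∈ P → algebraMap _ L e = 1 := by
    intro e he h1
    have hne : e ∉ P := by
      intro h
      have : (1 : ∀ i, R i) ∈ P := by
        have := P.add_mem h h1
        simpa using this
      exact (Ideal.IsPrime.ne_top ‹_›) ((Ideal.eq_top_iff_one _).2 this)
    have := map_eq_zero_of_mul P e (1 - e) hne he
    rw [map_sub, map_one, sub_eq_zero] at this
    exact this.symm
  have key0 : ∀ (e : ∀ i, R i), e * (1 - e) = 0 → e ∈ P → algebraMap _ L e = 0 := by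
    intro e he h1
    have hne : (1 - e) ∉ P := by
      intro h
      have : (1 : ∀ i, R i) ∈ P := by
        have := P.add_mem h1 h
        simpa using this
      exact (Ideal.IsPrime.ne_top ‹_›) ((Ideal.eq_top_iff_one _).2 this)
    exact map_eq_zero_of_mul P (1 - e) e hne (by rw [mul_comm]; exact he)
  refine ⟨?_, ?_⟩
  · have : NoZeroDivisors L := by
      refine ⟨?_⟩
      intro x y hxy
      obtain ⟨a, s, rfl⟩ := IsLocalization.exists_mk'_eq P.primeCompl x
      obtain ⟨b, t, rfl⟩ := IsLocalization.exists_mk'_eq P.primeCompl y
      rw [← IsLocalization.mk'_mul, IsLocalization.mk'_eq_zero_iff] at hxy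
      obtain ⟨m, hm⟩ := hxy
      simp only [IsLocalization.mk'_eq_zero_iff]
      set e : ∀ i, R i := fun i => if a i = 0 then 1 else 0 with he
      set f : ∀ i, R i := fun i => if b i = 0 then 1 else 0 with hf
      have hea : e * a = 0 := by
        funext i
        simp only [he, Pi.mul_apply, Pi.zero_apply]
        split_ifs with h <;> simp [h]
      have hfb : f * b = 0 := by
        funext i
        simp only [hf, Pi.mul_apply, Pi.zero_apply]
        split_ifs with h <;> simp [h]
      have hee : e * (1 - e) = 0 := by
        funext i
        simp only [he, Pi.mul_apply, Pi.zero_apply, Pi.sub_apply, Pi.one_apply]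
        split_ifs with h <;> simp
      have hff : f * (1 - f) = 0 := by
        funext i
        simp only [hf, Pi.mul_apply, Pi.zero_apply, Pi.sub_apply, Pi.one_apply]
        split_ifs with h <;> simp
      have hmef : (m : ∀ i, R i) * ((1 - e) * (1 - f)) = 0 := by
        funext i
        have hmi := congrFun hm i
        simp only [Pi.mul_apply, Pi.zero_apply] at hmi
        simp only [he, hf, Pi.mul_apply, Pi.zero_apply, Pi.sub_apply, Pi.one_apply]
        split_ifs with h1 h2 h2
        · simp
        · simp
        · simp
        · rcases mul_eq_zero.1 hmi with h | h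
          · simp [h]
          · rcases mul_eq_zero.1 h with h | h
            · exact absurd h h1
            · exact absurd h h2
      have hmem : (1 - e) * (1 - f) ∈ P := by
        have : (m : ∀ i, R i) * ((1 - e) * (1 - f)) ∈ P := by rw [hmef]; exact P.zero_mem
        rcases Ideal.IsPrime.mem_or_mem ‹_› this with h | h
        · exact absurd h m.2
        · exact h
      rcases Ideal.IsPrime.mem_or_mem ‹_› hmem with h | h
      · left
        have hne : e ∉ P := by
          intro h'
          have : (1 : ∀ i, R i) ∈ P := by
            have := P.add_mem h' h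
            simpa using this
          exact (Ideal.IsPrime.ne_top ‹_›) ((Ideal.eq_top_iff_one _).2 this)
        exact ⟨⟨e, hne⟩, hea⟩
      · right
        have hne : f ∉ P := by
          intro h'
          have : (1 : ∀ i, R i) ∈ P := by
            have := P.add_mem h' h
            simpa using this
          exact (Ideal.IsPrime.ne_top ‹_›) ((Ideal.eq_top_iff_one _).2 this)
        exact ⟨⟨f, hne⟩, hfb⟩
    exact NoZeroDivisors.to_isDomain L
  · refine ⟨?_⟩
    intro x y
    obtain ⟨a, s, rfl⟩ := IsLocalization.exists_mk'_eq P.primeCompl x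
    obtain ⟨b, t, rfl⟩ := IsLocalization.exists_mk'_eq P.primeCompl y
    set e : ∀ i, R i := fun i => if a i ∣ b i then 1 else 0 with he
    have hee : e * (1 - e) = 0 := by
      funext i
      simp only [he, Pi.mul_apply, Pi.zero_apply, Pi.sub_apply, Pi.one_apply]
      split_ifs with h <;> simp
    have hc : ∃ c : ∀ i, R i, a * c = e * b := by
      refine ⟨fun i => if h : a i ∣ b i then h.choose else 0, ?_⟩
      funext i
      simp only [he, Pi.mul_apply]
      split_ifs with h
      · rw [one_mul]; exact h.choose_spec.symm
      · simp
    have hc' : ∃ c : ∀ i, R i, b * c = (1 - e) * a := by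
      have hdiv : ∀ i, ¬ a i ∣ b i → b i ∣ a i := by
        intro i h
        rcases ValuationRing.cond (a i) (b i) with ⟨c, hc | hc⟩
        · exact absurd ⟨c, hc.symm⟩ h
        · exact ⟨c, hc.symm⟩
      refine ⟨fun i => if h : a i ∣ b i then 0 else (hdiv i h).choose, ?_⟩
      funext i
      simp only [he, Pi.mul_apply, Pi.sub_apply, Pi.one_apply]
      split_ifs with h
      · simp
      · rw [sub_zero, one_mul]; exact (hdiv i h).choose_spec.symm
    obtain ⟨c, hc⟩ := hc
    obtain ⟨c', hc'⟩ := hc'
    rcases idem_mem_or P e hee with h | h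
    · -- e = 0 in L, so 1 - e = 1: b * c' = a
      have h0 := key0 e hee h
      have hbc : algebraMap _ L b * algebraMap _ L c' = algebraMap _ L a := by
        rw [← map_mul, hc', map_mul, map_sub, map_one, h0, sub_zero, one_mul]
      refine ⟨algebraMap _ L c' * algebraMap _ L (t : ∀ i, R i) * IsLocalization.mk' L 1 s, Or.inr ?_⟩
      have h1 : IsLocalization.mk' L b t * algebraMap _ L (t : ∀ i, R i) = algebraMap _ L b :=
        IsLocalization.mk'_spec L b t
      calc IsLocalization.mk' L b t * (algebraMap _ L c' * algebraMap _ L (t : ∀ i, R i) * IsLocalization.mk' L 1 s)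
          = (IsLocalization.mk' L b t * algebraMap _ L (t : ∀ i, R i)) * algebraMap _ L c' * IsLocalization.mk' L 1 s := by ring
        _ = algebraMap _ L a * IsLocalization.mk' L 1 s := by rw [h1, hbc]
        _ = IsLocalization.mk' L a s := by
          rw [← IsLocalization.mk'_eq_mul_mk'_one]
    · have h0 := key1 e hee h
      have hbc : algebraMap _ L a * algebraMap _ L c = algebraMap _ L b := by
        rw [← map_mul, hc, map_mul, h0, one_mul]
      refine ⟨algebraMap _ L c * algebraMap _ L (s : ∀ i, R i) * IsLocalization.mk' L 1 t, Or.inl ?_⟩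
      have h1 : IsLocalization.mk' L a s * algebraMap _ L (s : ∀ i, R i) = algebraMap _ L a :=
        IsLocalization.mk'_spec L a s
      calc IsLocalization.mk' L a s * (algebraMap _ L c * algebraMap _ L (s : ∀ i, R i) * IsLocalization.mk' L 1 t)
          = (IsLocalization.mk' L a s * algebraMap _ L (s : ∀ i, R i)) * algebraMap _ L c * IsLocalization.mk' L 1 t := by ring
        _ = algebraMap _ L b * IsLocalization.mk' L 1 t := by rw [h1, hbc]
        _ = IsLocalization.mk' L b t := by
          rw [← IsLocalization.mk'_eq_mul_mk'_one]

end Groth.Agent.S13360
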