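import Groth.Statements.S13362
import Groth.Agent.Helper6.SocleGroup

set_option autoImplicit false
universe u
open ProCompl

namespace Groth.Agent.S13362

/-- An abelian group of finite exponent having a nonzero element contained in every nonzero subgroup is
finite. -/
theorem result {A : Type u} [AddCommGroup A]
    (hA : AddMonoid.exponent A ≠ 0) (a : A) (ha : a ≠ 0) (h : ∀ B : AddSubgroup A, B ≠ ⊥ → a ∈ B) :
    Finite A := by
  exact Groth.Agent.Helper6.SocleGroup.finite_of_exponent hA a ha h

end Groth.Agent.S13362
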