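import Groth.Statements.S13363
import Groth.Agent.Helper6.SocleGroup
import Mathlib

set_option autoImplicit false
universe u
open ProCompl

namespace Groth.Agent.S13363

/-- Let A be a topological abelian group such that the subgroup n·A is open for each n > 0, and a ∈ A.
Then A has an open subgroup of finite index not containing a if and only if a does not lie in the
subgroup of divisible elements ∩_n nA. -/
theorem result {A : Type u} [AddCommGroup A]
    [TopologicalSpace A] [IsTopologicalAddGroup A]
    (hn : ∀ n : ℕ, 0 < n → IsOpen (Set.range (fun x : A => n • x))) (a : A) :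
    (∃ B : AddSubgroup A, IsOpen (B : Set A) ∧ B.FiniteIndex ∧ a ∉ B) ↔
      ¬ (∀ n : ℕ, 0 < n → ∃ b : A, n • b = a) := by
  constructor
  · rintro ⟨B, hBo, hBf, haB⟩ hdiv
    have hidx : B.index ≠ 0 := AddSubgroup.FiniteIndex.index_ne_zero
    obtain ⟨b, hb⟩ := hdiv B.index (Nat.pos_of_ne_zero hidx)
    apply haB
    rw [← hb]
    exact AddSubgroup.nsmul_index_mem B b
  · intro hnd
    push Not at hnd
    obtain ⟨n, hn0, hna⟩ := hnd
    -- the subgroup nA
    set nA : AddSubgroup A := (nsmulAddMonoidHom (α := A) n).range with hnA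
    have hnAset : (nA : Set A) = Set.range (fun x : A => n • x) := by
      ext x
      simp [hnA, AddMonoidHom.mem_range]
    have hnAo : IsOpen (nA : Set A) := by rw [hnAset]; exact hn n hn0
    have hanA : a ∉ nA := by
      intro hmem
      obtain ⟨b, hb⟩ := AddMonoidHom.mem_range.1 hmem
      exact hna b hb
    -- Zorn
    obtain ⟨B, hBmax⟩ := zorn_le₀ {B : AddSubgroup A | nA ≤ B ∧ a ∉ B} (by
      intro c hc hchain
      by_cases hce : c.Nonempty
      · refine ⟨sSup c, ⟨?_, ?_⟩, fun z hz => le_sSup hz⟩
        · obtain ⟨z, hz⟩ := hce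
          exact le_trans (hc hz).1 (le_sSup hz)
        · intro hmem
          rw [AddSubgroup.mem_sSup_of_directedOn hce hchain.directedOn] at hmem
          obtain ⟨s, hs, has⟩ := hmem
          exact (hc hs).2 has
      · rw [Set.not_nonempty_iff_eq_empty] at hce
        subst hce
        exact ⟨nA, ⟨le_refl _, hanA⟩, fun z hz => absurd hz (Set.notMem_empty z)⟩)
    have hBS : nA ≤ B ∧ a ∉ B := hBmax.prop
    refine ⟨B, AddSubgroup.isOpen_mono hBS.1 hnAo, ?_, hBS.2⟩
    -- finite index via the quotient
    have hexp : AddMonoid.exponent (A ⧸ B) ≠ 0 := by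
      rw [AddMonoid.exponent_ne_zero]
      refine ⟨n, hn0, ?_⟩
      intro q
      obtain ⟨x, rfl⟩ := QuotientAddGroup.mk_surjective q
      rw [← QuotientAddGroup.mk_nsmul, QuotientAddGroup.eq_zero_iff]
      exact hBS.1 (AddMonoidHom.mem_range.2 ⟨x, rfl⟩)
    have ha0 : (QuotientAddGroup.mk a : A ⧸ B) ≠ 0 := by
      intro h0
      exact hBS.2 ((QuotientAddGroup.eq_zero_iff a).1 h0)
    have hall : ∀ C : AddSubgroup (A ⧸ B), C ≠ ⊥ → (QuotientAddGroup.mk a : A ⧸ B) ∈ C := by
      intro C hC
      by_contra haC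
      set C' : AddSubgroup A := C.comap (QuotientAddGroup.mk' B) with hC'
      have hBC : B ≤ C' := by
        intro x hx
        rw [hC', AddSubgroup.mem_comap]
        have : (QuotientAddGroup.mk' B) x = 0 := (QuotientAddGroup.eq_zero_iff x).2 hx
        rw [this]
        exact C.zero_mem
      have hC'S : C' ∈ {B : AddSubgroup A | nA ≤ B ∧ a ∉ B} :=
        ⟨le_trans hBS.1 hBC, fun hmem => haC hmem⟩
      have hle : C' ≤ B := hBmax.le_of_ge hC'S hBC
      apply hC
      rw [eq_bot_iff]
      intro q hq
      obtain ⟨x, rfl⟩ := QuotientAddGroup.mk_surjective q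
      rw [AddSubgroup.mem_bot, QuotientAddGroup.eq_zero_iff]
      exact hle hq
    haveI : Finite (A ⧸ B) :=
      Groth.Agent.Helper6.SocleGroup.finite_of_exponent hexp _ ha0 hall
    exact AddSubgroup.finiteIndex_of_finite_quotient

end Groth.Agent.S13363
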