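import Groth.Statements.S13365
import Mathlib

set_option autoImplicit false
universe u
open ProCompl

namespace Groth.Agent.S13365

/-- The quotient of a profinite (compact, Hausdorff, totally disconnected) abelian topological group by
a compact subgroup is profinite. -/
theorem result {A : Type u} [AddCommGroup A] [TopologicalSpace A]
    [IsTopologicalAddGroup A] [CompactSpace A] [T2Space A] [TotallyDisconnectedSpace A]
    (B : AddSubgroup A) (hB : IsCompact (B : Set A)) :
    CompactSpace (A ⧸ B) ∧ T2Space (A ⧸ B) ∧ TotallyDisconnectedSpace (A ⧸ B) := by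
  have hBc : IsClosed (B : Set A) := hB.isClosed
  haveI : IsClosed (B : Set A) := hBc
  refine ⟨inferInstance, inferInstance, ?_⟩
  rw [totallyDisconnectedSpace_iff_connectedComponent_zero]
  apply Set.eq_singleton_iff_unique_mem.2
  refine ⟨mem_connectedComponent, ?_⟩
  intro x hx
  obtain ⟨a, rfl⟩ := QuotientAddGroup.mk_surjective x
  by_contra hne
  have haB : a ∉ B := by
    intro h
    exact hne ((QuotientAddGroup.eq_zero_iff a).2 h)
  have hBeq := ProfiniteGrp.closedAddSubgroup_eq_sInf_open (⟨B, hBc⟩ : ClosedAddSubgroup A)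
  have haB' : a ∉ sInf {N : AddSubgroup A | IsOpen (N : Set A) ∧ B ≤ N} := by
    intro h
    apply haB
    have : a ∈ ((⟨B, hBc⟩ : ClosedAddSubgroup A) : AddSubgroup A) := by
      rw [hBeq]; exact h
    exact this
  rw [AddSubgroup.mem_sInf] at haB'
  push Not at haB'
  obtain ⟨N, ⟨hNo, hBN⟩, haN⟩ := haB'
  -- image of N
  set S : Set (A ⧸ B) := (QuotientAddGroup.mk : A → A ⧸ B) '' (N : Set A) with hS
  have hSo : IsOpen S := QuotientAddGroup.isOpenMap_coe _ hNo
  have hSpre : (QuotientAddGroup.mk : A → A ⧸ B) ⁻¹' S = (N : Set A) := by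
    ext y
    constructor
    · rintro ⟨z, hz, hzy⟩
      have : -z + y ∈ B := (QuotientAddGroup.eq).1 hzy
      have h2 : -z + y ∈ N := hBN this
      have : y = z + (-z + y) := by abel
      rw [this]
      exact N.add_mem hz h2
    · intro hy
      exact ⟨y, hy, rfl⟩
  have hSc : IsClosed S := by
    have hq : Topology.IsQuotientMap (QuotientAddGroup.mk : A → A ⧸ B) := QuotientAddGroup.isQuotientMap_mk B
    rw [← hq.isClosed_preimage, hSpre]
    exact AddSubgroup.isClosed_of_isOpen N hNo
  have h0S : (0 : A ⧸ B) ∈ S := ⟨0, N.zero_mem, rfl⟩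
  have hsub := IsClopen.connectedComponent_subset (⟨hSc, hSo⟩ : IsClopen S) h0S
  have : (QuotientAddGroup.mk a : A ⧸ B) ∈ S := hsub hx
  have : a ∈ (QuotientAddGroup.mk : A → A ⧸ B) ⁻¹' S := this
  rw [hSpre] at this
  exact haN this

end Groth.Agent.S13365
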