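import Groth.Statements.S13367
import Groth.Agent.S13366
import Groth.Agent.Helper4.FrobDvrA
import Mathlib

set_option autoImplicit false
universe u v
open FrobMod

namespace Groth.Agent.S13367


/-- Over a strictly Henselian discrete valuation ring R of prime characteristic p with residue field κ,
for a finitely generated module M with n = dim_κ(κ ⊗ M) and a Frobenius-semilinear additive
bijection T of M (T(rm) = r^p T(m)), the map T − 1 is surjective and its kernel has cardinality p^n. -/
theorem result (p : ℕ) [Fact p.Prime] {R : Type u} [CommRing R] [IsDomain R]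
    [IsDiscreteValuationRing R] [HenselianLocalRing R] [IsSepClosed (IsLocalRing.ResidueField R)] [CharP R p]
    {M : Type v} [AddCommGroup M] [Module R M] [Module.Finite R M]
    (T : M →+ M) (hT : ∀ (r : R) (m : M), T (r • m) = r ^ p • T m) (hbij : Function.Bijective T) :
    Function.Surjective (fun m => T m - m) ∧
      Nat.card {m : M // T m = m} =
        p ^ Module.finrank (IsLocalRing.ResidueField R) (TensorProduct R (IsLocalRing.ResidueField R) M) := by

  classical
  have hp2 : 2 ≤ p := (Fact.out : p.Prime).two_le
  have h0 : IsLocalRing.maximalIdeal R • (⊤ : Submodule R M) = ⊥ :=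
    Groth.Agent.Helper4.FrobDvrA.smul_top_eq_bot p hp2 T hT hbij
  have htors : Module.IsTorsionBySet R M (IsLocalRing.maximalIdeal R : Set R) := by
    intro m r
    have : (r : R) • m ∈ IsLocalRing.maximalIdeal R • (⊤ : Submodule R M) :=
      Submodule.smul_mem_smul r.2 trivial
    rw [h0] at this
    exact (Submodule.mem_bot R).mp this
  letI modκ : Module (IsLocalRing.ResidueField R) M :=
    (Module.IsTorsionBySet.module htors : Module (R ⧸ IsLocalRing.maximalIdeal R) M)
  haveI tower : IsScalarTower R (IsLocalRing.ResidueField R) M :=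
    (Module.IsTorsionBySet.isScalarTower htors :
      @IsScalarTower R (R ⧸ IsLocalRing.maximalIdeal R) M _ htors.hasSMul _)
  haveI : Module.Finite (IsLocalRing.ResidueField R) M :=
    Module.Finite.of_restrictScalars_finite R _ _
  haveI : CharP (IsLocalRing.ResidueField R) p := Groth.Agent.Helper7.FrobSys.charP_residue p
  haveI : IsSepClosed (IsLocalRing.ResidueField (IsLocalRing.ResidueField R)) := by
    let e : IsLocalRing.ResidueField R ≃+* IsLocalRing.ResidueField (IsLocalRing.ResidueField R) :=
      RingEquiv.ofBijective (IsLocalRing.residue (IsLocalRing.ResidueField R))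
        ⟨(IsLocalRing.residue (IsLocalRing.ResidueField R)).injective,
          IsLocalRing.residue_surjective⟩
    refine IsSepClosed.of_exists_root _ fun q _ hq hsep => ?_
    have hdeg : (q.map e.symm.toRingHom).degree ≠ 0 := by
      rw [Polynomial.degree_map]
      exact ne_of_gt (Polynomial.degree_pos_of_irreducible hq)
    obtain ⟨x, hx⟩ := IsSepClosed.exists_root (q.map e.symm.toRingHom) hdeg hsep.map
    refine ⟨e x, ?_⟩
    apply e.symm.injective
    rw [map_zero, ← hx, Polynomial.eval_map]
    change e.symm.toRingHom (Polynomial.eval (e x) q) = _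
    rw [← Polynomial.eval₂_id (p := q), Polynomial.hom_eval₂]
    simp
  have hT' : ∀ (c : IsLocalRing.ResidueField R) (m : M), T (c • m) = c ^ p • T m := by
    intro c m
    obtain ⟨r, rfl⟩ := IsLocalRing.residue_surjective c
    have h1 : ∀ (s : R) (x : M), (IsLocalRing.residue R s) • x = s • x := fun s x => rfl
    rw [h1, hT, ← map_pow, h1]
  have hspan : Submodule.span (IsLocalRing.ResidueField R) (Set.range T) = ⊤ := by
    rw [hbij.2.range_eq, Submodule.span_univ]
  obtain ⟨hs, hc⟩ := Groth.Agent.S13366.result (R := IsLocalRing.ResidueField R) p T hT' hspan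
  refine ⟨hs, ?_⟩
  rw [hc]
  congr 1
  have e1 : TensorProduct R (IsLocalRing.ResidueField R) M ≃ₗ[R] M :=
    (TensorProduct.quotTensorEquivQuotSMul M (IsLocalRing.maximalIdeal R)).trans
      (Submodule.quotEquivOfEqBot _ h0)
  have e2 : TensorProduct R (IsLocalRing.ResidueField R) M ≃ₗ[IsLocalRing.ResidueField R] M :=
    LinearEquiv.extendScalarsOfSurjective IsLocalRing.residue_surjective e1
  exact e2.finrank_eq.symm

end Groth.Agent.S13367
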