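import Groth.Statements.S13373
import Groth.Agent.Helper6.GaPS

set_option autoImplicit false
universe u
open GaDual

namespace Groth.Agent.S13373

/-- Over a commutative algebra A of prime characteristic p, the formal characters (power series χ with
constant term 1 and χ(X+Y) = χ(X)χ(Y)) are exactly the infinite products ∏_n exp_p(a_n X^(p^n)) with
a_n^p = 0, where exp_p(Y) = Σ_{j<p} Y^j/j!; the infinite product is expressed through its
truncations: χ mod X^(p^m) equals the finite product over n < m. -/
theorem result (p : ℕ) [Fact p.Prime] (A : Type u) [CommRing A] [CharP A p]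
    (χ : PowerSeries A) :
    (PowerSeries.constantCoeff χ = 1 ∧
      PowerSeries.subst (MvPowerSeries.X 0 + MvPowerSeries.X 1 : MvPowerSeries (Fin 2) A) χ =
        PowerSeries.subst (MvPowerSeries.X 0 : MvPowerSeries (Fin 2) A) χ *
          PowerSeries.subst (MvPowerSeries.X 1 : MvPowerSeries (Fin 2) A) χ) ↔
      ∃ a : ℕ → A, (∀ n, a n ^ p = 0) ∧ ∀ m : ℕ,
        PowerSeries.trunc (p ^ m) χ = ∏ n ∈ Finset.range m, ∑ j ∈ Finset.range p,
          Polynomial.C (Ring.inverse (j.factorial : A) * a n ^ j) * Polynomial.X ^ (j * p ^ n) := by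
  have hp1 : 1 < p := (Fact.out : p.Prime).one_lt
  constructor
  · rintro ⟨hconst, hmul⟩
    have hid := (Groth.Agent.Helper6.GaChar.ps_char_iff χ).1 hmul
    have hchar : ∀ m, Groth.Agent.Helper6.GaChar.IsChar p m (fun k => PowerSeries.coeff k χ) := by
      intro m
      refine ⟨?_, fun i j _ _ => hid i j⟩
      show PowerSeries.coeff 0 χ = 1
      rw [PowerSeries.coeff_zero_eq_constantCoeff_apply, hconst]
    refine ⟨fun n => PowerSeries.coeff (p ^ n) χ, fun n => ?_, fun m => ?_⟩
    · exact Groth.Agent.Helper6.GaChar.isChar_nilp (n + 1) _ (hchar (n + 1)) n (by omega)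
    · rw [Groth.Agent.Helper6.GaChar.trunc_eq_sum]
      exact Groth.Agent.Helper6.GaChar.isChar_prod m _ (hchar m)
  · rintro ⟨a, ha, h⟩
    have hcoeff : ∀ m k, k < p ^ m → PowerSeries.coeff k χ =
        (∏ n ∈ Finset.range m, Groth.Agent.Helper6.GaChar.F p (a n) (p ^ n)).coeff k := by
      intro m k hk
      have := congrArg (fun q => Polynomial.coeff q k) (h m)
      simp only [PowerSeries.coeff_trunc, if_pos hk] at this
      exact this
    constructor
    · have := hcoeff 0 0 (by simp)
      rw [← PowerSeries.coeff_zero_eq_constantCoeff_apply, this]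
      simp
    · rw [Groth.Agent.Helper6.GaChar.ps_char_iff]
      intro i j
      have hlt : i + j < p ^ (i + j + 1) :=
        lt_trans (Nat.lt_succ_self _) (Nat.lt_pow_self hp1)
      rw [hcoeff (i + j + 1) (i + j) hlt, hcoeff (i + j + 1) i (by omega),
        hcoeff (i + j + 1) j (by omega)]
      exact Groth.Agent.Helper6.GaChar.coeff_prod_F (p := p) _ a ha i j

end Groth.Agent.S13373
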