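import Groth.Statements.S13374
import Groth.Agent.Helper6.GaChar

set_option autoImplicit false
universe u
open GaDual

namespace Groth.Agent.S13374

/-- Over a commutative algebra A of prime characteristic p, every character of the kernel α_(p^n) of the
n-th Frobenius of the additive group — i.e. every polynomial f of degree < p^n with f(0) = 1 and
f(X+Y) ≡ f(X)f(Y) modulo (X^(p^n), Y^(p^n)) — is the product ∏_{i<n} exp_p(a_i X^(p^i)) for some a_i
with a_i^p = 0, exp_p(Y) = Σ_{j<p} Y^j/j!. -/
theorem result (p : ℕ) [Fact p.Prime] (A : Type u) [CommRing A] [CharP A p]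
    (n : ℕ) (f : Polynomial A) (hdeg : f.natDegree < p ^ n) (h0 : f.eval 0 = 1)
    (hmul : Ideal.Quotient.mk
        (Ideal.span {(MvPolynomial.X 0 ^ p ^ n : MvPolynomial (Fin 2) A), MvPolynomial.X 1 ^ p ^ n})
        (Polynomial.aeval (MvPolynomial.X 0 + MvPolynomial.X 1 : MvPolynomial (Fin 2) A) f) =
      Ideal.Quotient.mk
        (Ideal.span {(MvPolynomial.X 0 ^ p ^ n : MvPolynomial (Fin 2) A), MvPolynomial.X 1 ^ p ^ n})
        (Polynomial.aeval (MvPolynomial.X 0 : MvPolynomial (Fin 2) A) f *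
          Polynomial.aeval (MvPolynomial.X 1 : MvPolynomial (Fin 2) A) f)) :
    ∃ a : ℕ → A, (∀ i, a i ^ p = 0) ∧
      f = ∏ i ∈ Finset.range n, ∑ j ∈ Finset.range p,
          Polynomial.C (Ring.inverse (j.factorial : A) * a i ^ j) * Polynomial.X ^ (j * p ^ i) := by
  have hchar := Groth.Agent.Helper6.GaChar.isChar_of_trunc (p := p) n f h0 hmul
  refine ⟨fun i => f.coeff (p ^ i), fun i => ?_, ?_⟩
  · show f.coeff (p ^ i) ^ p = 0
    by_cases hi : i < n
    · exact Groth.Agent.Helper6.GaChar.isChar_nilp n _ hchar i hi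
    · have hle : p ^ n ≤ p ^ i := Nat.pow_le_pow_right (Fact.out : p.Prime).pos (by omega)
      rw [Polynomial.coeff_eq_zero_of_natDegree_lt (by omega),
        zero_pow (Fact.out : p.Prime).ne_zero]
  · exact Groth.Agent.Helper6.GaChar.eq_prod_of_isChar f hdeg hchar

end Groth.Agent.S13374
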