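import Groth.Statements.S13379
import Mathlib
import Groth.Agent.Helper6.ProCompl2

set_option autoImplicit false
universe u
open ProCompl

namespace Groth.Agent.S13379

/-- Profinite completion is right exact: for an abelian group A (written multiplicatively, discrete) and
a subgroup A', the map on profinite completions induced by A → A/A' is surjective and its kernel is
the image of the completion of A'. (The published statement is right-exactness for topological
abelian groups with completions formed from open subgroups of finite index; this row is the case of
the discrete topology.) -/
theorem result (A : Type u) [CommGroup A] (A' : Subgroup A) :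
    Function.Surjective (ProfiniteGrp.profiniteCompletion.map (GrpCat.ofHom (QuotientGroup.mk' A'))).hom ∧
      (ProfiniteGrp.profiniteCompletion.map (GrpCat.ofHom (QuotientGroup.mk' A'))).hom.toMonoidHom.ker =
        (ProfiniteGrp.profiniteCompletion.map (GrpCat.ofHom A'.subtype)).hom.toMonoidHom.range := by
  constructor
  · exact Groth.Agent.Helper6.ProCompl.hat_surjective_of_surjective (QuotientGroup.mk' A')
      (QuotientGroup.mk'_surjective A')
  · ext z
    rw [MonoidHom.mem_ker, MonoidHom.mem_range]
    constructor
    · intro hz
      exact Groth.Agent.Helper6.ProCompl.mem_range_hat_subtype_of_hat_mk_eq_one A' z hz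
    · rintro ⟨y, rfl⟩
      exact Groth.Agent.Helper6.ProCompl.hat_mk_hat_subtype A' y

end Groth.Agent.S13379
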