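import Groth.Statements.S13387
import Groth.Agent.Helper4.DpSpanLoc
import Mathlib

set_option autoImplicit false
universe u
open ZeroCyc

namespace Groth.Agent.S13387


/-- Let A be a commutative ring, M an A-module and d ≥ 0. Suppose that at each prime p of A either k(p)
has d or more elements, or the localisation M_p is a cyclic A_p-module. Then the degree-d piece
Γ^d_A(M) of the divided power algebra Γ_A(M) is spanned over A by the d-th divided powers γ_d(m), m
∈ M. -/
theorem result {A M : Type u} [CommRing A] [AddCommGroup M]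
    [Module A M] (d : ℕ)
    (h : ∀ p : PrimeSpectrum A, (d : Cardinal) ≤ Cardinal.mk p.asIdeal.ResidueField ∨
      ∃ x : LocalizedModule p.asIdeal.primeCompl M, Submodule.span (Localization.AtPrime p.asIdeal) {x} = ⊤) :
    Submodule.span A (Set.range (DividedPowerAlgebra.dp A d : M → DividedPowerAlgebra A M)) =
      PolLaw.gammaPiece A M d := by

  classical
  apply le_antisymm
  · apply Submodule.span_le.2
    rintro _ ⟨m, rfl⟩
    apply Submodule.subset_span
    exact ⟨1, fun _ => d, fun _ => m, by simp, by simp⟩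
  · apply Submodule.span_le.2
    rintro _ ⟨n, k, m, hk, rfl⟩
    by_contra hg
    let 𝔞 : Ideal A :=
      { carrier := {a | a • (∏ i, DividedPowerAlgebra.dp A (k i) (m i)) ∈
          Groth.Agent.Helper4.DpSpan.Sp A M d}
        add_mem' := fun {a b} ha hb => by
          simp only [Set.mem_setOf_eq] at ha hb ⊢
          rw [add_smul]; exact Submodule.add_mem _ ha hb
        zero_mem' := by
          simp only [Set.mem_setOf_eq]
          rw [zero_smul]; exact Submodule.zero_mem _
        smul_mem' := fun c a ha => by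
          simp only [Set.mem_setOf_eq] at ha ⊢
          rw [smul_eq_mul, mul_smul]; exact Submodule.smul_mem _ _ ha }
    have hne : 𝔞 ≠ ⊤ := by
      intro htop
      have h1 : (1 : A) ∈ 𝔞 := htop ▸ Submodule.mem_top
      have h2 : (1 : A) • (∏ i, DividedPowerAlgebra.dp A (k i) (m i)) ∈
          Groth.Agent.Helper4.DpSpan.Sp A M d := h1
      rw [one_smul] at h2
      exact hg h2
    obtain ⟨𝔪, hmax, hle⟩ := Ideal.exists_le_maximal 𝔞 hne
    haveI : 𝔪.IsPrime := hmax.isPrime
    have hex : ∃ s ∈ 𝔪.primeCompl, s • (∏ i, DividedPowerAlgebra.dp A (k i) (m i)) ∈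
        Groth.Agent.Helper4.DpSpan.Sp A M d := by
      rcases h ⟨𝔪, hmax.isPrime⟩ with hc | ⟨x, hx⟩
      · obtain ⟨lam, hlam⟩ := Groth.Agent.Helper4.DpSpanLoc.exists_nodes_of_card 𝔪 d hc
        have := Groth.Agent.Helper4.DpSpanLoc.prodS 𝔪.primeCompl d
          (Groth.Agent.Helper4.DpSpanLoc.exists_nodes 𝔪.primeCompl d lam hlam) n k m (by omega)
        rwa [hk] at this
      · obtain ⟨m₀, hm₀⟩ := Groth.Agent.Helper4.DpSpanLoc.cyclic_of_loc 𝔪 x hx
        have := Groth.Agent.Helper4.DpSpanLoc.prod_cyclic 𝔪.primeCompl m₀ hm₀ n k m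
        rwa [hk] at this
    obtain ⟨s, hs, hsg⟩ := hex
    exact hs (hle hsg)

end Groth.Agent.S13387
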