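import Groth.Statements.S13388
import Groth.Agent.Helper4.GammaPair
import Mathlib

set_option autoImplicit false
universe u
open ZeroCyc

namespace Groth.Agent.S13388


/-- Let A be a commutative ring, M a finitely generated A-module and d ≥ 0. If the degree-d piece
Γ^d_A(M) of Γ_A(M) is spanned over A by the divided powers γ_d(m), m ∈ M, then at each prime p of A
either k(p) has d or more elements, or the localisation M_p is a cyclic A_p-module. -/
theorem result {A M : Type u} [CommRing A] [AddCommGroup M]
    [Module A M] [Module.Finite A M] (d : ℕ)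
    (h : Submodule.span A (Set.range (DividedPowerAlgebra.dp A d : M → DividedPowerAlgebra A M)) =
      PolLaw.gammaPiece A M d)
    (p : PrimeSpectrum A) :
    (d : Cardinal) ≤ Cardinal.mk p.asIdeal.ResidueField ∨
      ∃ x : LocalizedModule p.asIdeal.primeCompl M, Submodule.span (Localization.AtPrime p.asIdeal) {x} = ⊤ := by

  classical
  by_contra hcon
  rw [not_or, not_le, not_exists] at hcon
  obtain ⟨hk, hc⟩ := hcon
  have hfin : Finite p.asIdeal.ResidueField :=
    Cardinal.lt_aleph0_iff_finite.mp (hk.trans (Cardinal.nat_lt_aleph0 d))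
  haveI := Fintype.ofFinite p.asIdeal.ResidueField
  have hq : Fintype.card p.asIdeal.ResidueField < d := by
    rw [Cardinal.mk_fintype] at hk
    exact_mod_cast hk
  -- residue map is surjective
  have hsurj : Function.Surjective (algebraMap (Localization.AtPrime p.asIdeal)
      p.asIdeal.ResidueField) := IsLocalRing.residue_surjective
  have hmk := TensorProduct.mk_surjective (Localization.AtPrime p.asIdeal)
    (LocalizedModule p.asIdeal.primeCompl M) p.asIdeal.ResidueField hsurj
  -- rank at least two
  have hrank : 2 ≤ Module.finrank p.asIdeal.ResidueField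
      (TensorProduct (Localization.AtPrime p.asIdeal) p.asIdeal.ResidueField
        (LocalizedModule p.asIdeal.primeCompl M)) := by
    by_contra hlt
    have hle : Module.finrank p.asIdeal.ResidueField
      (TensorProduct (Localization.AtPrime p.asIdeal) p.asIdeal.ResidueField
        (LocalizedModule p.asIdeal.primeCompl M)) ≤ 1 := by omega
    obtain ⟨v, hv⟩ := finrank_le_one_iff.mp hle
    obtain ⟨n, rfl⟩ := hmk v
    refine hc n ?_
    rw [← IsLocalRing.map_tensorProduct_mk_eq_top, eq_top_iff]
    intro w _
    obtain ⟨c, rfl⟩ := hv w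
    obtain ⟨a, rfl⟩ := hsurj c
    refine ⟨a • n, Submodule.smul_mem _ _ (Submodule.mem_span_singleton_self n), ?_⟩
    rw [map_smul, algebraMap_smul]
  -- the map ψ : M → V
  let ψ : M →ₗ[A] (TensorProduct (Localization.AtPrime p.asIdeal) p.asIdeal.ResidueField
        (LocalizedModule p.asIdeal.primeCompl M)) :=
    ((TensorProduct.mk (Localization.AtPrime p.asIdeal) p.asIdeal.ResidueField
      (LocalizedModule p.asIdeal.primeCompl M) 1).restrictScalars A).comp
      (LocalizedModule.mkLinearMap p.asIdeal.primeCompl M)
  have hψ : ∀ m : M, ψ m = (1 : p.asIdeal.ResidueField) ⊗ₜ[Localization.AtPrime p.asIdeal]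
      (LocalizedModule.mk m (1 : p.asIdeal.primeCompl)) := fun m => rfl
  -- every vector is a unit multiple of something in the image of ψ
  have hlift : ∀ v : (TensorProduct (Localization.AtPrime p.asIdeal) p.asIdeal.ResidueField
        (LocalizedModule p.asIdeal.primeCompl M)), ∃ (m : M) (c : p.asIdeal.ResidueField),
        c ≠ 0 ∧ ψ m = c • v := by
    intro v
    obtain ⟨n, rfl⟩ := hmk v
    induction n using LocalizedModule.induction_on with
    | h m s =>
      have hu : IsUnit (algebraMap A (Localization.AtPrime p.asIdeal) (s : A)) :=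
        IsLocalization.map_units (Localization.AtPrime p.asIdeal) s
      refine ⟨m, algebraMap (Localization.AtPrime p.asIdeal) p.asIdeal.ResidueField
        (algebraMap A (Localization.AtPrime p.asIdeal) (s : A)), (hu.map _).ne_zero, ?_⟩
      rw [hψ, algebraMap_smul, ← map_smul, algebraMap_smul]
      congr 1
      rw [LocalizedModule.smul'_mk]
      exact (LocalizedModule.mk_cancel s m).symm
  -- a basis and two of its vectors
  let b := Module.finBasis p.asIdeal.ResidueField
      (TensorProduct (Localization.AtPrime p.asIdeal) p.asIdeal.ResidueField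
        (LocalizedModule p.asIdeal.primeCompl M))
  let i₀ : Fin (Module.finrank p.asIdeal.ResidueField
      (TensorProduct (Localization.AtPrime p.asIdeal) p.asIdeal.ResidueField
        (LocalizedModule p.asIdeal.primeCompl M))) := ⟨0, by omega⟩
  let i₁ : Fin (Module.finrank p.asIdeal.ResidueField
      (TensorProduct (Localization.AtPrime p.asIdeal) p.asIdeal.ResidueField
        (LocalizedModule p.asIdeal.primeCompl M))) := ⟨1, by omega⟩
  have hi : i₀ ≠ i₁ := by
    intro h
    have := congrArg Fin.val h
    simp [i₀, i₁] at this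
  obtain ⟨m₁, c₁, hc₁, hm₁⟩ := hlift (b i₀)
  obtain ⟨m₂, c₂, hc₂, hm₂⟩ := hlift (b i₁)
  refine Groth.Agent.Helper4.GammaPair.false_of_span_dp ψ (c₁⁻¹ • b.coord i₀) (c₂⁻¹ • b.coord i₁)
    m₁ m₂ ?_ ?_ ?_ ?_ d hq ?_
  · rw [hm₁, LinearMap.smul_apply, map_smul, Module.Basis.coord_apply, Module.Basis.repr_self,
      Finsupp.single_eq_same, smul_eq_mul, smul_eq_mul, mul_one, inv_mul_cancel₀ hc₁]
  · rw [hm₂, LinearMap.smul_apply, map_smul, Module.Basis.coord_apply, Module.Basis.repr_self,
      Finsupp.single_eq_of_ne hi, smul_zero, smul_zero]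
  · rw [hm₁, LinearMap.smul_apply, map_smul, Module.Basis.coord_apply, Module.Basis.repr_self,
      Finsupp.single_eq_of_ne hi.symm, smul_zero, smul_zero]
  · rw [hm₂, LinearMap.smul_apply, map_smul, Module.Basis.coord_apply, Module.Basis.repr_self,
      Finsupp.single_eq_same, smul_eq_mul, smul_eq_mul, mul_one, inv_mul_cancel₀ hc₂]
  · rw [h]
    refine Submodule.subset_span ⟨2, ![1, d - 1], ![m₁, m₂], ?_, ?_⟩
    · rw [Fin.sum_univ_two]
      simp only [Matrix.cons_val_zero, Matrix.cons_val_one]
      have := Fintype.card_pos (α := p.asIdeal.ResidueField)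
      omega
    · rw [Fin.prod_univ_two]
      simp only [Matrix.cons_val_zero, Matrix.cons_val_one]

end Groth.Agent.S13388
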