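import Groth.Statements.S13397
import Groth.Agent.Helper4.ZCNormD
import Mathlib

set_option autoImplicit false
universe u
open scoped TensorProduct
open ZeroCyc

namespace Groth.Agent.S13397


/-- Let A be a commutative ring, B an A-algebra, d ≥ 0, and let (C, γ) be the degree-d divided power
algebra Γ^d_A(B) with its universal multiplicative law γ : B → C of degree d (every multiplicative
law of degree d out of B factors uniquely through γ). Let φ : Γ^d_A(B) → TS^d_A(B) be the canonical
homomorphism to the symmetric tensors, taken here as data characterised by: after any base change S,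
φ ∘ γ sends Σ_j s_j ⊗ b_j to Σ_{c : [d] → [n]} (∏_i s_{c(i)}) ⊗ (b_{c(1)} ⊗ ⋯ ⊗ b_{c(d)}), i.e. φ
corresponds to the law x ↦ x ⊗ ⋯ ⊗ x. Then there is a multiplicative law F : TS^d_A(B) → Γ^d_A(B),
homogeneous of degree d!, such that φ ∘ F and F ∘ φ are both the d!-th power law x ↦ x^{d!}. (The
published statement calls F canonical; this row asserts the existence of such an F.) -/
theorem result {A B C : Type u} [CommRing A] [CommRing B] [Algebra A B] [CommRing C] [Algebra A C] (d : ℕ)
    (γ : PolLaw.MulLaw A B C d) (hγ : PolLaw.IsGammaD γ) (φ : C →ₐ[A] SymTen.TS A B d)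
    (hφ : ∀ (S : Type u) [CommSemiring S] [Algebra A S] (n : ℕ) (s : Fin n → S) (b : Fin n → B),
      ((SymTen.TS A B d).val.comp φ).toLinearMap.lTensor S (γ.law.toFun' S (∑ j, s j ⊗ₜ[A] b j)) =
        ∑ c : Fin d → Fin n, (∏ i, s (c i)) ⊗ₜ[A] PiTensorProduct.tprod A (fun i => b (c i))) :
    ∃ F : PolLaw.MulLaw A (SymTen.TS A B d) C d.factorial,
      PolLaw.MulLaw.postcomp φ F = PolLaw.MulLaw.pow A (SymTen.TS A B d) d.factorial ∧
      PolLaw.MulLaw.precomp F φ = PolLaw.MulLaw.pow A C d.factorial := by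

  classical
  set Φ : C →ₐ[A] (⨂[A] _ : Fin d, B) := (SymTen.TS A B d).val.comp φ with hΦdef
  have hΦγ := Groth.Agent.Helper4.ZCPowA.Φ_γ γ Φ hφ
  have hcomp : ∀ (S : Type u) [CommSemiring S] [Algebra A S] (x : S ⊗[A] C),
      (SymTen.TS A B d).val.toLinearMap.lTensor S (φ.toLinearMap.lTensor S x) =
        Φ.toLinearMap.lTensor S x := by
    intro S _ _ x
    rw [← LinearMap.comp_apply, ← LinearMap.lTensor_comp]
    rfl
  refine ⟨(Groth.Agent.Helper4.ZCNormD.F γ).precomp (SymTen.TS A B d).val, ?_, ?_⟩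
  · apply PolLaw.MulLaw.ext
    apply Groth.Agent.Helper4.PolLawExt.ext_of_mv
    intro n
    funext y
    show φ.toLinearMap.lTensor _ ((Groth.Agent.Helper4.ZCNormD.F γ).law.toFun' _
      ((SymTen.TS A B d).val.toLinearMap.lTensor _ y)) = y ^ d.factorial
    have hinj : Function.Injective
        ((SymTen.TS A B d).val.toLinearMap.lTensor (MvPolynomial (Fin n) A)) :=
      Module.Flat.lTensor_preserves_injective_linearMap _ Subtype.val_injective
    apply hinj
    rw [hcomp, Groth.Agent.Helper4.ZCNormD.Φ_F γ _ Φ hΦγ]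
    have hinv : ∀ (y : MvPolynomial (Fin n) A ⊗[A] SymTen.TS A B d) (σ : Equiv.Perm (Fin d)),
        (SymTen.perm A B d σ).toLinearMap.lTensor (MvPolynomial (Fin n) A)
          ((SymTen.TS A B d).val.toLinearMap.lTensor (MvPolynomial (Fin n) A) y) =
        (SymTen.TS A B d).val.toLinearMap.lTensor (MvPolynomial (Fin n) A) y := by
      intro y σ
      induction y using TensorProduct.induction_on with
      | zero => simp
      | tmul s t =>
        rw [LinearMap.lTensor_tmul, LinearMap.lTensor_tmul, AlgHom.toLinearMap_apply,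
          AlgHom.toLinearMap_apply, SymTen.perm_apply]
        congr 1
        exact t.2 σ
      | add x y hx hy => simp only [map_add, hx, hy]
    rw [Groth.Agent.Helper4.NormExpE.normLaw_of_invariant _ _ (hinv y),
      Groth.Agent.Helper4.ZCNormB.lT_eq, Groth.Agent.Helper4.ZCNormB.lT_eq, map_pow]
  · apply PolLaw.MulLaw.ext
    ext S _ _ x
    show (Groth.Agent.Helper4.ZCNormD.F γ).law.toFun' S
      ((SymTen.TS A B d).val.toLinearMap.lTensor S (φ.toLinearMap.lTensor S x)) = x ^ d.factorial
    rw [hcomp, Groth.Agent.Helper4.ZCNormD.F_Φ γ S Φ hΦγ hγ]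

end Groth.Agent.S13397
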