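import Groth.Statements.S13398
import Groth.Agent.Helper4.ZCPowA
import Mathlib

set_option autoImplicit false
universe u
open scoped TensorProduct
open ZeroCyc

namespace Groth.Agent.S13398


/-- Let A be a commutative ring, B an A-algebra, d ≥ 0, and let (C, γ) be the degree-d divided power
algebra Γ^d_A(B) with its universal multiplicative law γ : B → C of degree d (every multiplicative
law of degree d out of B factors uniquely through γ). Let φ : Γ^d_A(B) → TS^d_A(B) be the canonical
homomorphism to the symmetric tensors, taken here as data characterised by: after any base change S,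
φ ∘ γ sends Σ_j s_j ⊗ b_j to Σ_{c : [d] → [n]} (∏_i s_{c(i)}) ⊗ (b_{c(1)} ⊗ ⋯ ⊗ b_{c(d)}), i.e. φ
corresponds to the law x ↦ x ⊗ ⋯ ⊗ x. Then x^{d!} = 0 for every x in the kernel of φ, and y^{d!}
lies in the image of φ for every symmetric tensor y ∈ TS^d_A(B). -/
theorem result {A B C : Type u} [CommRing A] [CommRing B] [Algebra A B] [CommRing C] [Algebra A C] (d : ℕ)
    (γ : PolLaw.MulLaw A B C d) (hγ : PolLaw.IsGammaD γ) (φ : C →ₐ[A] SymTen.TS A B d)
    (hφ : ∀ (S : Type u) [CommSemiring S] [Algebra A S] (n : ℕ) (s : Fin n → S) (b : Fin n → B),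
      ((SymTen.TS A B d).val.comp φ).toLinearMap.lTensor S (γ.law.toFun' S (∑ j, s j ⊗ₜ[A] b j)) =
        ∑ c : Fin d → Fin n, (∏ i, s (c i)) ⊗ₜ[A] PiTensorProduct.tprod A (fun i => b (c i))) :
    (∀ x : C, φ x = 0 → x ^ d.factorial = 0) ∧
      (∀ y : SymTen.TS A B d, y ^ d.factorial ∈ φ.range) := by

  classical
  set Φ : C →ₐ[A] (⨂[A] _ : Fin d, B) := (SymTen.TS A B d).val.comp φ with hΦdef
  have hΦγ := Groth.Agent.Helper4.ZCPowA.Φ_γ γ Φ hφ
  have horb : ∀ (N : ℕ) (m : Fin N → B) (ν : Fin N →₀ ℕ),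
      (Groth.Agent.Helper4.NormExpB.orb m ν : ⨂[A] _ : Fin d, B) =
        Φ (Groth.Agent.Helper4.GammaSpan.cf ν
          (γ.law.toFun' (MvPolynomial (Fin N) A) (Groth.Agent.Helper4.NormExpB.gen m))) := by
    intro N m ν
    have h := Groth.Agent.Helper4.NormExpB.cf_lTensor (A := A) Φ.toLinearMap ν
      (γ.law.toFun' (MvPolynomial (Fin N) A) (Groth.Agent.Helper4.NormExpB.gen m))
    rw [hΦγ] at h
    rw [Groth.Agent.Helper4.NormExpB.orb_eq_cf, h]
    rfl
  constructor
  · -- kernel
    intro x hx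
    let π : MvPolynomial B A →ₐ[A] B := MvPolynomial.aeval id
    have hπ : Function.Surjective π := fun b => ⟨MvPolynomial.X b, by simp [π]⟩
    let e : Module.Basis (B →₀ ℕ) A (MvPolynomial B A) := MvPolynomial.basisMonomials B A
    let F : PolLaw.MulLaw A (MvPolynomial B A) C d := γ.precomp π
    have hF : ∀ (S : Type u) [CommSemiring S] [Algebra A S] (z : S ⊗[A] MvPolynomial B A),
        F.law.toFun' S z = γ.law.toFun' S (π.toLinearMap.lTensor S z) := fun S _ _ z => rfl
    let gF : (⨂[A] _ : Fin d, MvPolynomial B A) →ₗ[A] C := Groth.Agent.Helper4.FreeLawC.g e F.law d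
    have hsurj : ∀ x : C, ∃ t ∈ Submodule.span A
        (Groth.Agent.Helper4.GammaSpan.GenSet (SymTen.tpowLaw A (MvPolynomial B A) d).law),
        gF t = x := by
      intro x
      have hx : x ∈ Submodule.span A (Groth.Agent.Helper4.GammaSpan.GenSet γ.law) := by
        rw [← Groth.Agent.Helper4.GammaSpan.mem_Cgen_iff,
          Groth.Agent.Helper4.GammaSpan.Cgen_eq_top γ hγ]
        trivial
      induction hx using Submodule.span_induction with
      | mem x hx =>
        obtain ⟨S, _, _, ℓ, z', rfl⟩ := hx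
        obtain ⟨z, rfl⟩ := LinearMap.lTensor_surjective S (g := π.toLinearMap) hπ z'
        exact ⟨Groth.Agent.Helper4.GammaSpan.ev ℓ
            ((SymTen.tpowLaw A (MvPolynomial B A) d).law.toFun' S z),
          Submodule.subset_span ⟨S, inferInstance, inferInstance, ℓ, z, rfl⟩,
          Groth.Agent.Helper4.FreeGammaC.g_ev e F S ℓ z⟩
      | zero => exact ⟨0, zero_mem _, map_zero _⟩
      | add x y _ _ hx hy =>
        obtain ⟨t, ht, rfl⟩ := hx
        obtain ⟨t', ht', rfl⟩ := hy
        exact ⟨t + t', add_mem ht ht', map_add _ _ _⟩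
      | smul r x _ hx =>
        obtain ⟨t, ht, rfl⟩ := hx
        exact ⟨r • t, Submodule.smul_mem _ r ht, map_smul _ _ _⟩
    have hcomp : ∀ t ∈ Submodule.span A
        (Groth.Agent.Helper4.GammaSpan.GenSet (SymTen.tpowLaw A (MvPolynomial B A) d).law),
        Φ (gF t) = SymTen.tmap A d π t := by
      intro t ht
      induction ht using Submodule.span_induction with
      | mem t ht =>
        obtain ⟨S, _, _, ℓ, z, rfl⟩ := ht
        have h1 : gF (Groth.Agent.Helper4.GammaSpan.ev ℓ
            ((SymTen.tpowLaw A (MvPolynomial B A) d).law.toFun' S z)) =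
            Groth.Agent.Helper4.GammaSpan.ev ℓ (F.law.toFun' S z) :=
          Groth.Agent.Helper4.FreeGammaC.g_ev e F S ℓ z
        rw [h1, hF]
        have h2 := Groth.Agent.Helper4.PolarTS.ev_lTensor ℓ Φ.toLinearMap
          (γ.law.toFun' S (π.toLinearMap.lTensor S z))
        have h3 := Groth.Agent.Helper4.PolarTS.ev_lTensor ℓ (SymTen.tmap A d π).toLinearMap
          ((SymTen.tpowLaw A (MvPolynomial B A) d).law.toFun' S z)
        rw [hΦγ] at h2
        rw [Groth.Agent.Helper4.ZCPowA.tmap_tpow] at h3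
        exact h2.symm.trans h3
      | zero => simp
      | add x y _ _ hx hy => rw [map_add, map_add, map_add, hx, hy]
      | smul r x _ hx => rw [map_smul, map_smul, map_smul, hx]
    obtain ⟨t, ht, rfl⟩ := hsurj x
    have htm : SymTen.tmap A d π t = 0 := by
      rw [← hcomp t ht]
      show ((φ (gF t) : SymTen.TS A B d) : ⨂[A] _ : Fin d, B) = 0
      rw [hx]
      rfl
    have hsym : t ∈ SymTen.TS A (MvPolynomial B A) d :=
      Groth.Agent.Helper4.ZCPowA.span_GenSet_le_TS ht
    have hN : (∏ σ : Equiv.Perm (Fin d), SymTen.perm A (MvPolynomial B A) d σ t) =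
        t ^ d.factorial := by
      rw [Finset.prod_congr rfl (fun σ _ => (SymTen.perm_apply A (MvPolynomial B A) d σ t).trans
        (hsym σ)), Finset.prod_const, Finset.card_univ, Fintype.card_perm, Fintype.card_fin]
    obtain ⟨n, a, u, rfl, hu⟩ := Groth.Agent.Helper4.TensKer.exists_rep π hπ t htm
    obtain ⟨N, m, Ν, co, hexp, hI⟩ := Groth.Agent.Helper4.NormExpC.norm_expansion n a u
    rw [← Groth.Agent.Helper4.FreeGammaC.g_pow_span e F ht, ← hN, hexp, map_sum]
    refine Finset.sum_eq_zero fun ν hν => ?_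
    rw [map_smul]
    by_cases hco : co ν = 0
    · rw [hco, zero_smul]
    · obtain ⟨l, hl1, hl2⟩ := hI (RingHom.ker (π : MvPolynomial B A →+* B))
        (fun k => by obtain ⟨j, hj⟩ := hu k; exact ⟨j, hj⟩) ν hν hco
      rw [Groth.Agent.Helper4.NormExpB.orb_eq_cf]
      have h1 : Groth.Agent.Helper4.FreeLawC.g e F.law d
          (Groth.Agent.Helper4.GammaSpan.cf ν
            ((SymTen.tpowLaw A (MvPolynomial B A) d).law.toFun' (MvPolynomial (Fin N) A)
              (Groth.Agent.Helper4.NormExpB.gen m))) =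
          Groth.Agent.Helper4.GammaSpan.cf ν (F.law.toFun' (MvPolynomial (Fin N) A)
            (Groth.Agent.Helper4.NormExpB.gen m)) :=
        Groth.Agent.Helper4.FreeGammaC.g_ev e F (MvPolynomial (Fin N) A)
          (MvPolynomial.lcoeff A ν) (Groth.Agent.Helper4.NormExpB.gen m)
      rw [h1, hF]
      have h2 : π.toLinearMap.lTensor (MvPolynomial (Fin N) A)
          (Groth.Agent.Helper4.NormExpB.gen m) =
          Groth.Agent.Helper4.NormExpB.gen (fun l => π (m l)) := by
        simp [Groth.Agent.Helper4.NormExpB.gen, map_sum]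
      have hml : π (m l) = 0 := hl2
      rw [h2, Groth.Agent.Helper4.NormExpB.cf_eq_zero_of_kill γ.law (fun l => π (m l)) l hml ν hl1,
        smul_zero]
  · -- image
    intro y
    obtain ⟨n, a, u, hy⟩ := Groth.Agent.Helper4.ZCPowA.exists_rep_T (y : ⨂[A] _ : Fin d, B)
    obtain ⟨N, m, Ν, co, hexp, -⟩ := Groth.Agent.Helper4.NormExpC.norm_expansion n a u
    have hN : (∏ σ : Equiv.Perm (Fin d), SymTen.perm A B d σ (y : ⨂[A] _ : Fin d, B)) =
        (y : ⨂[A] _ : Fin d, B) ^ d.factorial := by
      rw [Finset.prod_congr rfl (fun σ _ => (SymTen.perm_apply A B d σ _).trans (y.2 σ)),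
        Finset.prod_const, Finset.card_univ, Fintype.card_perm, Fintype.card_fin]
    refine ⟨∑ ν ∈ Ν, co ν • Groth.Agent.Helper4.GammaSpan.cf ν
      (γ.law.toFun' (MvPolynomial (Fin N) A) (Groth.Agent.Helper4.NormExpB.gen m)), ?_⟩
    apply Subtype.ext
    show Φ _ = ((y ^ d.factorial : SymTen.TS A B d) : ⨂[A] _ : Fin d, B)
    rw [map_sum, SubmonoidClass.coe_pow, ← hN, hy, hexp]
    refine Finset.sum_congr rfl fun ν _ => ?_
    rw [map_smul, horb]

end Groth.Agent.S13398
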