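import Groth.Statements.S13399
import Groth.Agent.Helper4.Iversen
import Mathlib

set_option autoImplicit false
universe u
open scoped TensorProduct
open ZeroCyc

namespace Groth.Agent.S13399


/-- Let A be a commutative ring, B an A-algebra and e ≥ 0; let (C_{e+1}, γ_{e+1}) and (C_e, γ_e) be the
divided power algebras Γ^{e+1}_A(B) and Γ^e_A(B) of B with their universal multiplicative laws of
degrees e + 1 and e (every multiplicative law of that degree out of B factors uniquely through
them), and let ω : Γ^{e+1}_A(B) ⊗_A B → Γ^e_A(B) ⊗_A B be Iversen's canonical algebra homomorphism,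
taken here as data characterised by ω(γ_{e+1}(x) ⊗ y) = γ_e(x) ⊗ x·y for all x, y ∈ S ⊗_A B and
every base change A → S. Then ω is surjective. -/
theorem result {A B Cd Ce : Type u} [CommRing A] [CommRing B] [Algebra A B]
    [CommRing Cd] [Algebra A Cd] [CommRing Ce] [Algebra A Ce] (e : ℕ)
    (γd : PolLaw.MulLaw A B Cd (e + 1)) (hγd : PolLaw.IsGammaD γd)
    (γe : PolLaw.MulLaw A B Ce e) (hγe : PolLaw.IsGammaD γe)
    (ω : Cd ⊗[A] B →ₐ[A] Ce ⊗[A] B)
    (hω : ∀ (S : Type u) [CommSemiring S] [Algebra A S] (x y : S ⊗[A] B),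
      ω.toLinearMap.lTensor S
        ((Algebra.TensorProduct.includeLeft : Cd →ₐ[A] Cd ⊗[A] B).toLinearMap.lTensor S (γd.law.toFun' S x) *
          (Algebra.TensorProduct.includeRight : B →ₐ[A] Cd ⊗[A] B).toLinearMap.lTensor S y) =
      (Algebra.TensorProduct.includeLeft : Ce →ₐ[A] Ce ⊗[A] B).toLinearMap.lTensor S (γe.law.toFun' S x) *
        (Algebra.TensorProduct.includeRight : B →ₐ[A] Ce ⊗[A] B).toLinearMap.lTensor S (x * y)) :
    Function.Surjective ω := by

  classical
  -- 1 ⊗ b is in the range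
  have hone : ∀ (r : ℕ) (M : Fin r →₀ ℕ) (Z : MvPolynomial (Fin r) A ⊗[A] (Cd ⊗[A] B)),
      Groth.Agent.Helper4.GammaSpan.cf M (ω.toLinearMap.lTensor (MvPolynomial (Fin r) A) Z) ∈ ω.range := by
    intro r M Z
    rw [Groth.Agent.Helper4.Iversen.cf_lTensor]
    exact ⟨_, rfl⟩
  -- the key identity
  have hmulR : ∀ (r : ℕ) (G : MvPolynomial (Fin r) A ⊗[A] Ce) (p : MvPolynomial (Fin r) A) (b : B),
      (Algebra.TensorProduct.includeLeft : Ce →ₐ[A] Ce ⊗[A] B).toLinearMap.lTensor _ G *
        (p ⊗ₜ[A] ((1 : Ce) ⊗ₜ[A] b)) =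
      (p ⊗ₜ[A] (1 : Ce ⊗[A] B)) *
        ((TensorProduct.mk A Ce B).flip b).lTensor (MvPolynomial (Fin r) A) G := by
    intro r G p b
    induction G using TensorProduct.induction_on with
    | zero => simp
    | tmul q c =>
      simp only [LinearMap.lTensor_tmul, AlgHom.toLinearMap_apply,
        Algebra.TensorProduct.includeLeft_apply, Algebra.TensorProduct.tmul_mul_tmul,
        LinearMap.flip_apply, TensorProduct.mk_apply, mul_one, one_mul]
      rw [mul_comm]
    | add w₁ w₂ h₁ h₂ => rw [map_add, add_mul, h₁, h₂, map_add, mul_add]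
  have key : ∀ (r : ℕ) (e' : Fin (r + 1) → B) (M : Fin (r + 1) →₀ ℕ) (y : B),
      (∑ j, if 0 < M j then
        Groth.Agent.Helper4.GammaFin.coefG γe e' (M - Finsupp.single j 1) ⊗ₜ[A] (e' j * y) else 0) ∈ ω.range := by
    intro r e' M y
    have h := hω (MvPolynomial (Fin (r + 1)) A) (Groth.Agent.Helper4.GammaFin.gen _ MvPolynomial.X e') ((1 : MvPolynomial (Fin (r + 1)) A) ⊗ₜ[A] y)
    have h2' : ∀ (Z : MvPolynomial (Fin (r + 1)) A ⊗[A] (Cd ⊗[A] B))
        (Z' : MvPolynomial (Fin (r + 1)) A ⊗[A] (Ce ⊗[A] B)),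
        ω.toLinearMap.lTensor _ Z = Z' → Groth.Agent.Helper4.GammaSpan.cf M Z' ∈ ω.range :=
      fun Z Z' hZ => hZ ▸ hone (r + 1) M Z
    have h2 := h2' _ _ h
    convert h2 using 1
    have hxy : Groth.Agent.Helper4.GammaFin.gen (MvPolynomial (Fin (r + 1)) A) MvPolynomial.X e' * ((1 : MvPolynomial (Fin (r + 1)) A) ⊗ₜ[A] y) =
        ∑ j, (MvPolynomial.X j : MvPolynomial (Fin (r + 1)) A) ⊗ₜ[A] (e' j * y) := by
      rw [Groth.Agent.Helper4.GammaFin.gen, Finset.sum_mul]
      refine Finset.sum_congr rfl fun j _ => ?_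
      rw [Algebra.TensorProduct.tmul_mul_tmul, mul_one]
    rw [hxy, map_sum, Finset.mul_sum, map_sum]
    refine Finset.sum_congr rfl fun j _ => ?_
    rw [LinearMap.lTensor_tmul, AlgHom.toLinearMap_apply,
      Algebra.TensorProduct.includeRight_apply, hmulR, Groth.Agent.Helper4.Iversen.cf_X_mul, Groth.Agent.Helper4.Iversen.cf_lTensor]
    rfl
  -- induction
  have hind : ∀ (r : ℕ) (e' : Fin (r + 1) → B), e' 0 = 1 → ∀ (n : ℕ) (m : Fin (r + 1) →₀ ℕ),
      (∑ i : Fin r, m i.succ) ≤ n → ∀ y : B, Groth.Agent.Helper4.GammaFin.coefG γe e' m ⊗ₜ[A] y ∈ ω.range := by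
    intro r e' he n
    induction n with
    | zero =>
      intro m hm y
      have hk := key r e' (m + Finsupp.single 0 1) y
      rw [Fin.sum_univ_succ] at hk
      have hz : ∀ i : Fin r, m i.succ = 0 := by
        intro i
        have := Finset.single_le_sum (f := fun i : Fin r => m i.succ) (fun _ _ => Nat.zero_le _)
          (Finset.mem_univ i)
        omega
      have h0 : ∑ i : Fin r, (if 0 < (m + Finsupp.single 0 1 : Fin (r + 1) →₀ ℕ) i.succ then
          Groth.Agent.Helper4.GammaFin.coefG γe e' (m + Finsupp.single 0 1 - Finsupp.single i.succ 1) ⊗ₜ[A]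
            (e' i.succ * y) else 0) = 0 := by
        refine Finset.sum_eq_zero fun i _ => ?_
        rw [if_neg]
        simp [hz i, Fin.succ_ne_zero]
      rw [h0, add_zero, if_pos (by simp), he, one_mul, add_tsub_cancel_right] at hk
      exact hk
    | succ n ih =>
      intro m hm y
      have hk := key r e' (m + Finsupp.single 0 1) y
      rw [Fin.sum_univ_succ, if_pos (by simp), he, one_mul, add_tsub_cancel_right] at hk
      have hrest : ∑ i : Fin r, (if 0 < (m + Finsupp.single 0 1 : Fin (r + 1) →₀ ℕ) i.succ then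
          Groth.Agent.Helper4.GammaFin.coefG γe e' (m + Finsupp.single 0 1 - Finsupp.single i.succ 1) ⊗ₜ[A]
            (e' i.succ * y) else 0) ∈ ω.range := by
        refine Subalgebra.sum_mem _ fun i _ => ?_
        split_ifs with hi
        · apply ih
          have hi' : 0 < m i.succ := by
            simpa [Fin.succ_ne_zero] using hi
          have hlt : ∑ k : Fin r, (m + Finsupp.single 0 1 - Finsupp.single i.succ 1 : Fin (r + 1) →₀ ℕ) k.succ <
              ∑ k : Fin r, m k.succ := by
            apply Finset.sum_lt_sum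
            · intro k _
              simp [Finsupp.single_apply, Fin.succ_ne_zero, (Fin.succ_ne_zero _).symm]
            · refine ⟨i, Finset.mem_univ _, ?_⟩
              simp [Finsupp.single_apply, Fin.succ_ne_zero, (Fin.succ_ne_zero _).symm]
              omega
          omega
        · exact Subalgebra.zero_mem _
      have := Subalgebra.sub_mem _ hk hrest
      rwa [add_sub_cancel_right] at this
  -- values
  have hgen : ∀ c ∈ Groth.Agent.Helper4.GammaSpan.GenSet γe.law, ∀ y : B, c ⊗ₜ[A] y ∈ ω.range := by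
    rintro c ⟨S, _, _, ℓ, x, rfl⟩ y
    obtain ⟨r, e', s, he, rfl⟩ := Groth.Agent.Helper4.Iversen.exists_gen_one S x
    obtain ⟨t, ht⟩ := Groth.Agent.Helper4.GammaFin.exists_expansion γe e'
    rw [ht S s, map_sum, TensorProduct.sum_tmul]
    refine Subalgebra.sum_mem _ fun m _ => ?_
    rw [Groth.Agent.Helper4.GammaSpan.ev_tmul, ← TensorProduct.smul_tmul']
    exact Subalgebra.smul_mem _ (hind r e' he _ m le_rfl y) _
  have hall : ∀ (c : Ce) (y : B), c ⊗ₜ[A] y ∈ ω.range := by
    intro c y
    have hc : c ∈ Groth.Agent.Helper4.GammaSpan.Cgen γe := by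
      rw [Groth.Agent.Helper4.GammaSpan.Cgen_eq_top γe hγe]; trivial
    rw [Groth.Agent.Helper4.GammaSpan.mem_Cgen_iff] at hc
    induction hc using Submodule.span_induction with
    | mem c hc => exact hgen c hc y
    | zero => rw [TensorProduct.zero_tmul]; exact Subalgebra.zero_mem _
    | add c₁ c₂ _ _ h₁ h₂ => rw [TensorProduct.add_tmul]; exact Subalgebra.add_mem _ h₁ h₂
    | smul a c _ h => rw [← TensorProduct.smul_tmul']; exact Subalgebra.smul_mem _ h a
  intro z
  have : z ∈ ω.range := by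
    induction z using TensorProduct.induction_on with
    | zero => exact Subalgebra.zero_mem _
    | tmul c y => exact hall c y
    | add z₁ z₂ h₁ h₂ => exact Subalgebra.add_mem _ h₁ h₂
  exact this

end Groth.Agent.S13399
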