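import Groth.Statements.S13407
import Groth.Agent.Helper8.HopfDed

set_option autoImplicit false
universe u
open TensorProduct
open Hopf

namespace Groth.Agent.S13407

/-- Let R be a Dedekind domain with fraction field K and let G = Spec A be a finite flat group scheme
over R (A a commutative Hopf algebra over R, finite and flat as an R-module). Closed flat R-subgroup
schemes of G correspond one-to-one to closed K-subgroup schemes of the generic fibre G_K under H ↦
H_K: the map sending a Hopf ideal J' of A with A/J' flat over R to the ideal it generates in K ⊗_R A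
is a bijection onto the set of Hopf ideals of the Hopf algebra K ⊗_R A over K (its inverse takes a
Hopf ideal of K ⊗_R A to its preimage in A). -/
theorem result (R : Type u) [CommRing R] [IsDedekindDomain R]
    (K : Type u) [Field K] [Algebra R K] [IsFractionRing R K]
    (A : Type u) [CommRing A] [HopfAlgebra R A] [Module.Finite R A] [Module.Flat R A] :
    Set.BijOn (fun J' : Ideal A => Ideal.map (Algebra.TensorProduct.includeRight : A →ₐ[R] K ⊗[R] A) J')
      {J' : Ideal A | J'.IsHopfIdeal R ∧ Module.Flat R (A ⧸ J')}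
      {J : Ideal (K ⊗[R] A) | J.IsHopfIdeal K} := by
  refine ⟨?_, ?_, ?_⟩
  · rintro J' ⟨hH, hF⟩
    exact Groth.Agent.Helper8.HopfDed.isHopfIdeal_map J' _ Ideal.le_comap_map rfl
  · rintro J₁ ⟨h1, hF1⟩ J₂ ⟨h2, hF2⟩ heq
    have htf : ∀ (J' : Ideal A), Module.Flat R (A ⧸ J') →
        ∀ (r : R) (a : A), r ≠ 0 → r • a ∈ J' → a ∈ J' := by
      intro J' hF r a hr hra
      have hreg := Module.Flat.isSMulRegular_of_nonZeroDivisors (M := A ⧸ J')
        (mem_nonZeroDivisors_of_ne_zero hr)
      rw [← Ideal.Quotient.eq_zero_iff_mem] at hra ⊢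
      apply hreg
      simp only [smul_zero]
      exact hra
    have heq' : Ideal.map (Groth.Agent.Helper8.HopfDed.inc R K A) J₁ =
        Ideal.map (Groth.Agent.Helper8.HopfDed.inc R K A) J₂ := heq
    calc J₁ = Ideal.comap (Groth.Agent.Helper8.HopfDed.inc R K A)
          (Ideal.map (Groth.Agent.Helper8.HopfDed.inc R K A) J₁) :=
          (Groth.Agent.Helper8.HopfDed.comap_map_eq (K := K) J₁ (htf J₁ hF1)).symm
      _ = Ideal.comap (Groth.Agent.Helper8.HopfDed.inc R K A)
          (Ideal.map (Groth.Agent.Helper8.HopfDed.inc R K A) J₂) := by rw [heq']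
      _ = J₂ := Groth.Agent.Helper8.HopfDed.comap_map_eq (K := K) J₂ (htf J₂ hF2)
  · intro J hJ
    haveI : J.IsHopfIdeal K := hJ
    obtain ⟨h1, h2⟩ := Groth.Agent.Helper8.HopfDed.isHopfIdeal_comap J
    exact ⟨_, ⟨h1, h2⟩, Groth.Agent.Helper8.HopfDed.map_comap_eq J⟩

end Groth.Agent.S13407
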