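import Groth.Statements.S13409
import Mathlib

set_option autoImplicit false
universe u v
open CombGraph

namespace Groth.Agent.S13409

/-- Let `A` be an abelian group and `G` a finite connected simple graph on `V` that is bipartite for a
two-colouring `c : V → Bool` (adjacent vertices get different colours). If `a : V → A` has the same
sum over the vertices of each colour, then some labelling `x` of the edges by elements of `A` has,
at every vertex `v`, the sum of `x` over the edges incident to `v` equal to `a v`. (The published
statement concerns finite bipartite graphs in general; this row treats simple graphs.) -/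
theorem result {V : Type u} [Fintype V] [DecidableEq V]
    (G : SimpleGraph V) [DecidableRel G.Adj] (hconn : G.Connected) (c : V → Bool)
    (hbip : ∀ v w : V, G.Adj v w → c v ≠ c w) (A : Type v) [AddCommGroup A] (a : V → A)
    (hsum : ∑ v ∈ Finset.univ.filter (fun v => c v = true), a v =
      ∑ v ∈ Finset.univ.filter (fun v => c v = false), a v) :
    ∃ x : Sym2 V → A, ∀ v : V, ∑ e ∈ G.incidenceFinset v, x e = a v := by
  classical
  let Φ : (Sym2 V → A) →+ (V → A) :=
    { toFun := fun x v => ∑ e ∈ G.incidenceFinset v, x e
      map_zero' := by funext v; simp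
      map_add' := by intro x y; funext v; simp [Finset.sum_add_distrib] }
  let S : AddSubgroup (V → A) := Φ.range
  suffices hS : a ∈ S by
    obtain ⟨x, hx⟩ := hS
    exact ⟨x, fun v => congrFun hx v⟩
  -- edges
  have hedge : ∀ (v w : V) (t : A), G.Adj v w → Pi.single v t + Pi.single w t ∈ S := by
    intro v w t hvw
    refine ⟨Pi.single s(v, w) t, ?_⟩
    funext u
    change ∑ e ∈ G.incidenceFinset u, (Pi.single s(v, w) t : Sym2 V → A) e = _
    rw [Finset.sum_pi_single']
    have hne : v ≠ w := hvw.ne
    simp only [SimpleGraph.mem_incidenceFinset, SimpleGraph.mk'_mem_incidenceSet_iff, hvw, true_and,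
      Pi.add_apply]
    by_cases h1 : u = v
    · subst h1
      simp [hne]
    · by_cases h2 : u = w
      · subst h2
        simp [h1]
      · simp [h1, h2, Pi.single_apply]
  let ε : V → V → ℤ := fun v w => if c v = c w then 1 else -1
  have hε : ∀ v u w : V, c v ≠ c u → ε v w = - ε u w := by
    intro v u w h
    simp only [ε]
    cases hv : c v <;> cases hu : c u <;> cases hw : c w <;> simp_all
  have hwalk : ∀ (v w : V) (p : G.Walk v w) (t : A),
      (Pi.single v t : V → A) - Pi.single w (ε v w • t) ∈ S := by
    intro v w p
    induction p with
    | nil =>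
      intro t
      simp only [ε, if_true, one_smul, sub_self]
      exact S.zero_mem
    | cons h p ih =>
      rename_i v u w
      intro t
      have h1 := hedge v u t h
      have h2 := ih t
      have h3 := S.sub_mem h1 h2
      have : (Pi.single v t : V → A) - Pi.single w (ε v w • t)
          = Pi.single v t + Pi.single u t - (Pi.single u t - Pi.single w (ε u w • t)) := by
        rw [hε v u w (hbip v u h), neg_smul, Pi.single_neg]
        abel
      rw [this]
      exact h3
  obtain ⟨v0⟩ := hconn.nonempty
  have hdecomp : a = ∑ v, (Pi.single v (a v) : V → A) := by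
    funext u
    rw [Finset.sum_apply, Finset.sum_pi_single]
    simp
  have hmem : ∀ v : V, (Pi.single v (a v) : V → A) - Pi.single v0 (ε v v0 • a v) ∈ S := by
    intro v
    obtain ⟨p⟩ := hconn.preconnected v v0
    exact hwalk v v0 p (a v)
  have hzero : ∑ v, ε v v0 • a v = 0 := by
    rw [← Finset.sum_filter_add_sum_filter_not Finset.univ (fun v => c v = true)]
    have hf : (Finset.univ.filter fun v => ¬ c v = true) = Finset.univ.filter fun v => c v = false := by
      ext v; simp
    rw [hf]
    cases h0 : c v0
    · have e1 : ∀ v ∈ Finset.univ.filter (fun v => c v = true), ε v v0 • a v = - a v := by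
        intro v hv
        rw [Finset.mem_filter] at hv
        simp [ε, hv.2, h0]
      have e2 : ∀ v ∈ Finset.univ.filter (fun v => c v = false), ε v v0 • a v = a v := by
        intro v hv
        rw [Finset.mem_filter] at hv
        simp [ε, hv.2, h0]
      rw [Finset.sum_congr rfl e1, Finset.sum_congr rfl e2, Finset.sum_neg_distrib, hsum]
      abel
    · have e1 : ∀ v ∈ Finset.univ.filter (fun v => c v = true), ε v v0 • a v = a v := by
        intro v hv
        rw [Finset.mem_filter] at hv
        simp [ε, hv.2, h0]
      have e2 : ∀ v ∈ Finset.univ.filter (fun v => c v = false), ε v v0 • a v = - a v := by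
        intro v hv
        rw [Finset.mem_filter] at hv
        simp [ε, hv.2, h0]
      rw [Finset.sum_congr rfl e1, Finset.sum_congr rfl e2, Finset.sum_neg_distrib, hsum]
      abel
  have hfin : ∑ v, ((Pi.single v (a v) : V → A) - Pi.single v0 (ε v v0 • a v)) ∈ S :=
    S.sum_mem (fun v _ => hmem v)
  rw [Finset.sum_sub_distrib, ← hdecomp] at hfin
  have hlast : ∑ v, (Pi.single v0 (ε v v0 • a v) : V → A) = 0 := by
    have h5 := map_sum (AddMonoidHom.single (fun _ : V => A) v0) (fun v => ε v v0 • a v) Finset.univ
    simp only [AddMonoidHom.single_apply] at h5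
    rw [← h5, hzero, Pi.single_zero]
  rwa [hlast, sub_zero] at hfin

end Groth.Agent.S13409
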