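import Groth.Statements.S13410
import Mathlib
import Groth.Agent.S13409

set_option autoImplicit false
universe u v
open CombGraph

namespace Groth.Agent.S13410

/-- Let `A` be an abelian group and `G` a finite connected simple graph on `V`, bipartite for a
two-colouring `c`. Consider the additive group of labellings `x : Sym2 V → A` vanishing off the edge
set and with `∑_{e ∋ v} x e = 0` at every vertex `v`. If `e₀` is an edge whose deletion leaves `G`
connected, then evaluation at `e₀` restricted to this group is surjective and split: there is an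
additive map `φ : A → (Sym2 V → A)` with values in this group and with `φ a e₀ = a` for all `a`.
(The published statement concerns finite bipartite graphs in general; this row treats simple
graphs.) -/
theorem result {V : Type u} [Fintype V]
    [DecidableEq V] (G : SimpleGraph V) [DecidableRel G.Adj] (hconn : G.Connected) (c : V → Bool)
    (hbip : ∀ v w : V, G.Adj v w → c v ≠ c w) (A : Type v) [AddCommGroup A] (e₀ : Sym2 V)
    (he₀ : e₀ ∈ G.edgeSet) (hdel : (G.deleteEdges {e₀}).Connected) :
    ∃ φ : A →+ (Sym2 V → A),
      (∀ a : A, (∀ e : Sym2 V, e ∉ G.edgeSet → φ a e = 0) ∧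
        ∀ v : V, ∑ e ∈ G.incidenceFinset v, φ a e = 0) ∧
      ∀ a : A, φ a e₀ = a := by
  classical
  induction e₀ using Sym2.ind with
  | h v w =>
  have hvw : G.Adj v w := he₀
  have hne : v ≠ w := hvw.ne
  set G' : SimpleGraph V := G.deleteEdges {s(v, w)} with hG'
  have hbip' : ∀ a b : V, G'.Adj a b → c a ≠ c b := fun a b hab =>
    hbip a b ((SimpleGraph.deleteEdges_adj.mp hab).1)
  let tgt : V → ℤ := fun u => -((Pi.single v (1 : ℤ) : V → ℤ) u + (Pi.single w (1 : ℤ) : V → ℤ) u)
  have hcvw : c v ≠ c w := hbip v w hvw
  have hsum : ∑ u ∈ Finset.univ.filter (fun u => c u = true), tgt u =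
      ∑ u ∈ Finset.univ.filter (fun u => c u = false), tgt u := by
    simp only [tgt, Finset.sum_neg_distrib, Finset.sum_add_distrib, Finset.sum_pi_single',
      Finset.mem_filter, Finset.mem_univ, true_and]
    cases hv : c v <;> cases hw : c w <;> simp_all
  obtain ⟨y, hy⟩ := Groth.Agent.S13409.result G' hdel c hbip' ℤ tgt hsum
  let x : Sym2 V → ℤ := fun e =>
    (if e = s(v, w) then 1 else 0) + (if e ∈ G'.edgeSet then y e else 0)
  have hE' : ∀ e, e ∈ G'.edgeSet ↔ e ∈ G.edgeSet ∧ e ≠ s(v, w) := by
    intro e
    rw [hG', SimpleGraph.edgeSet_deleteEdges]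
    simp
  have hxsum : ∀ u : V, ∑ e ∈ G.incidenceFinset u, x e = 0 := by
    intro u
    simp only [x, Finset.sum_add_distrib]
    have h1 : ∑ e ∈ G.incidenceFinset u, (if e = s(v, w) then (1 : ℤ) else 0)
        = if u = v ∨ u = w then 1 else 0 := by
      rw [Finset.sum_ite_eq']
      simp only [SimpleGraph.mem_incidenceFinset, SimpleGraph.mk'_mem_incidenceSet_iff, hvw, true_and]
    have h2 : ∑ e ∈ G.incidenceFinset u, (if e ∈ G'.edgeSet then y e else 0)
        = ∑ e ∈ G'.incidenceFinset u, y e := by
      rw [← Finset.sum_filter]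
      apply Finset.sum_congr _ (fun _ _ => rfl)
      ext e
      simp only [Finset.mem_filter, SimpleGraph.mem_incidenceFinset, SimpleGraph.incidenceSet,
        Set.mem_setOf_eq, hE']
      tauto
    rw [h1, h2, hy u]
    simp only [tgt]
    by_cases hu1 : u = v
    · subst hu1; simp [hne]
    · by_cases hu2 : u = w
      · subst hu2; simp [hu1]
      · simp [hu1, hu2]
  refine ⟨{ toFun := fun a e => x e • a
            map_zero' := by funext e; simp
            map_add' := by intro a b; funext e; simp [smul_add] }, ?_, ?_⟩
  · intro a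
    constructor
    · intro e he
      change x e • a = 0
      have h1 : e ≠ s(v, w) := fun h => he (h ▸ hvw)
      have h2 : e ∉ G'.edgeSet := fun h => he ((hE' e).mp h).1
      simp [x, h1, h2]
    · intro u
      change ∑ e ∈ G.incidenceFinset u, x e • a = 0
      rw [← Finset.sum_smul, hxsum u, zero_smul]
  · intro a
    change x s(v, w) • a = a
    have h2 : s(v, w) ∉ G'.edgeSet := fun h => ((hE' _).mp h).2 rfl
    simp [x, h2]

end Groth.Agent.S13410
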