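import Groth.Statements.S13421
import Mathlib
import Groth.Agent.Helper6.NeronMP

set_option autoImplicit false
universe u
open CategoryTheory AlgebraicGeometry
open NeronHD

namespace Groth.Agent.S13421

/-- Let T be a locally Noetherian scheme over a field of characteristic 0 and T₀ ⊆ T a
scheme-theoretically dense open. Let f : S → T be étale and such that S, viewed as a T-scheme, has
the Néron mapping property for T₀ ⊆ T, and let g : N → S be smooth and such that N, viewed as an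
S-scheme, has the Néron mapping property for f⁻¹(T₀) ⊆ S (restriction of morphisms from smooth
schemes over the base is bijective). Then N → T, the composite g ≫ f, has the Néron mapping property
for T₀ ⊆ T. (Case of schemes, with smooth test schemes, of a statement about algebraic spaces.) -/
theorem result {k : Type u} [Field k] [CharZero k] {T : Scheme.{u}} (τ : T ⟶ Spec (CommRingCat.of k)) [IsLocallyNoetherian T] (T₀ : T.Opens) (hT₀ : CInt.IsSchematicallyDense T₀)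
    {S N : Scheme.{u}} (f : S ⟶ T) [Etale f] (g : N ⟶ S) [Smooth g]
    (hS : ∀ Z : Over T, Smooth Z.hom → Function.Bijective (fun g : Z ⟶ Over.mk f => (Over.pullback T₀.ι).map g))
    (hN : ∀ Z : Over S, Smooth Z.hom → Function.Bijective (fun g : Z ⟶ Over.mk g => (Over.pullback (f ⁻¹ᵁ T₀).ι).map g)) :
    ∀ Z : Over T, Smooth Z.hom → Function.Bijective (fun g : Z ⟶ Over.mk (g ≫ f) => (Over.pullback T₀.ι).map g) := by
  rintro ⟨ZL, ⟨⟨⟩⟩, zh⟩ hZ
  change Smooth zh at hZ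
  rw [Helper6.NeronMP.bijective_iff_plainExt]
  intro χ hχ
  change χ ≫ g ≫ f = (zh ⁻¹ᵁ T₀).ι ≫ zh at hχ
  change ZL ⟶ T at zh
  have hPS : ∀ χ' : (↑(zh ⁻¹ᵁ T₀) : Scheme.{u}) ⟶ S, χ' ≫ f = (zh ⁻¹ᵁ T₀).ι ≫ zh →
      ∃! φ : ZL ⟶ S, φ ≫ f = zh ∧ (zh ⁻¹ᵁ T₀).ι ≫ φ = χ' :=
    (Helper6.NeronMP.bijective_iff_plainExt T₀ (⟨ZL, ⟨⟨⟩⟩, zh⟩ : Over T) (Over.mk f)).1 (hS _ hZ)
  obtain ⟨s, ⟨hs1, hs2⟩, hsu⟩ := hPS (χ ≫ g) (by rw [Category.assoc]; exact hχ)
  subst hs1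
  change ((s ≫ f) ⁻¹ᵁ T₀).ι ≫ s = χ ≫ g at hs2
  haveI : Smooth (s ≫ f) := hZ
  have hsm : Smooth s := Helper6.NeronMP.smooth_of_comp_etale s f
  have hPN := (Helper6.NeronMP.bijective_iff_plainExt (f ⁻¹ᵁ T₀) (Over.mk s) (Over.mk g)).1
    (hN (Over.mk s) hsm)
  obtain ⟨φ, ⟨h1, h2⟩, hu⟩ := hPN χ hs2.symm
  change φ ≫ g = s at h1
  refine ⟨φ, ⟨?_, h2⟩, ?_⟩
  · change φ ≫ g ≫ f = s ≫ f
    rw [← Category.assoc, h1]
  · rintro φ' ⟨e1, e2⟩
    change φ' ≫ g ≫ f = s ≫ f at e1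
    have hs' : φ' ≫ g = s := by
      apply hsu
      constructor
      · change (φ' ≫ g) ≫ f = s ≫ f
        rw [Category.assoc, e1]
      · change ((s ≫ f) ⁻¹ᵁ T₀).ι ≫ φ' ≫ g = χ ≫ g
        rw [← Category.assoc]
        exact congrArg (· ≫ g) e2
    exact hu φ' ⟨hs', e2⟩

end Groth.Agent.S13421
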