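import Groth.Statements.S13427
import Mathlib
import Groth.Agent.Helper6.NeronMP

set_option autoImplicit false
universe u
open CategoryTheory AlgebraicGeometry
open NeronHD

namespace Groth.Agent.S13427

/-- Let S be a locally Noetherian scheme over a field of characteristic 0, S₀ ⊆ S a scheme-theoretically
dense open, and G, H smooth S-schemes with the Néron mapping property for S₀ ⊆ S (restriction to S₀
of S-morphisms from smooth S-schemes is bijective). Let f : G → H be an S-morphism and e : S → H a
section of H → S, and let K = G ×_H S be the fibre of f over e (the case in view: f a homomorphism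
of smooth group schemes, e the unit, K the kernel, so that 1 → K → G → H is left exact). If K → S is
smooth, then K has the Néron mapping property for S₀ ⊆ S. (Case of schemes, with smooth test
schemes, of a statement about group algebraic spaces.) -/
theorem result {k : Type u} [Field k] [CharZero k] {S : Scheme.{u}} (σ : S ⟶ Spec (CommRingCat.of k)) [IsLocallyNoetherian S] (S₀ : S.Opens) (hS₀ : CInt.IsSchematicallyDense S₀)
    (G H : Over S) [Smooth G.hom] [Smooth H.hom]
    (hG : ∀ Z : Over S, Smooth Z.hom → Function.Bijective (fun g : Z ⟶ G => (Over.pullback S₀.ι).map g))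
    (hH : ∀ Z : Over S, Smooth Z.hom → Function.Bijective (fun g : Z ⟶ H => (Over.pullback S₀.ι).map g))
    (f : G ⟶ H) (e : S ⟶ H.left) (he : e ≫ H.hom = 𝟙 S)
    [Smooth (Limits.pullback.snd f.left e)] :
    ∀ Z : Over S, Smooth Z.hom → Function.Bijective (fun g : Z ⟶ Over.mk (Limits.pullback.snd f.left e) => (Over.pullback S₀.ι).map g) := by
  haveI : IsSplitMono e := IsSplitMono.mk' ⟨H.hom, he⟩
  haveI : Mono e := inferInstance
  let K : Over S := Over.mk (Limits.pullback.snd f.left e)
  have hiw : Limits.pullback.fst f.left e ≫ G.hom = Limits.pullback.snd f.left e := by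
    have h1 := Over.w f
    rw [← h1, ← Category.assoc, Limits.pullback.condition, Category.assoc, he, Category.comp_id]
  let i : K ⟶ G := Over.homMk (Limits.pullback.fst f.left e) hiw
  let f' : G ⟶ H := Over.homMk (G.hom ≫ e) (by rw [Category.assoc, he, Category.comp_id])
  haveI : Mono i.left := by
    change Mono (Limits.pullback.fst f.left e)
    infer_instance
  haveI : Mono i := Over.mono_of_mono_left i
  haveI : Mono ((Over.pullback S₀.ι).map i) := inferInstance
  have hi : i ≫ f = i ≫ f' := by
    apply Over.OverMorphism.ext
    change Limits.pullback.fst f.left e ≫ f.left = Limits.pullback.fst f.left e ≫ G.hom ≫ e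
    rw [Limits.pullback.condition, ← Category.assoc, hiw]
  refine Helper6.NeronMP.NMP.of_equalizer (Over.pullback S₀.ι) i f f' hi ?_ hG hH
  intro Z a ha
  have ha' : a.left ≫ f.left = Z.hom ≫ e := by
    have := congrArg CommaMorphism.left ha
    change a.left ≫ f.left = a.left ≫ G.hom ≫ e at this
    rw [this, ← Category.assoc, Over.w a]
  refine ⟨Over.homMk (Limits.pullback.lift a.left Z.hom ha') (Limits.pullback.lift_snd _ _ _), ?_⟩
  apply Over.OverMorphism.ext
  exact Limits.pullback.lift_fst _ _ _

end Groth.Agent.S13427
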