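import Groth.Statements.S13441
import Mathlib
import Groth.Agent.Helper6.MonoIdeal

set_option autoImplicit false
universe u
open W4c1hilbpn

namespace Groth.Agent.S13441

theorem e3_apply (a b c : ℕ) (i : Fin 3) : e3 a b c i = ![a, b, c] i := by
  simp [e3]

theorem e3_inj_c (a b : ℕ) : Function.Injective (fun c => e3 a b c) := by
  intro c c' h
  have := congrArg (fun f => f 2) h
  simpa [e3_apply] using this

theorem e3_inj_b (a c : ℕ) : Function.Injective (fun b => e3 a b c) := by
  intro b b' h
  have := congrArg (fun f => f 1) h
  simpa [e3_apply] using this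

open W4c1hilbpn in
/-- Let k be an infinite field, S = k[x,y,z] with variables ordered x > y > z, and I a strongly stable
ideal of finite colength, with staircase numbers b^z_{i,j} = the number of c with x^i y^j z^c
outside I and b^y_{i,j} = the number of b with x^i y^b z^j outside I. Then b^z_{i+1,j} ≤ b^z_{i,j+1}
and b^y_{i+1,j} ≤ b^y_{i,j+1} for all i and j (equivalently the maximum of the two neighbouring
staircase numbers is the second one). -/
theorem result (k : Type u) [Field k] [Infinite k]
    (I : Ideal (MvPolynomial (Fin 3) k)) (hI : IsStronglyStable I) [Module.Finite k (MvPolynomial (Fin 3) k ⧸ I)] (i j : ℕ) :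
    stairZ I (i + 1) j ≤ stairZ I i (j + 1) ∧ stairY I (i + 1) j ≤ stairY I i (j + 1) := by
  have hfin := Groth.Agent.Helper6.MonoIdeal.finite_compl_exps I hI.1
  constructor
  · unfold stairZ
    apply Nat.card_mono (s := {c : ℕ | e3 (i + 1) j c ∉ exps I}) (t := {c : ℕ | e3 i (j + 1) c ∉ exps I})
    · exact hfin.preimage (Set.injOn_of_injective (e3_inj_c i (j + 1)))
    · intro c hc hmem
      apply hc
      have h := hI.2 _ hmem 0 1 (by decide) (by simp [e3_apply])
      convert h using 1
      ext l
      fin_cases l <;> simp [e3_apply]
  · unfold stairY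
    apply Nat.card_mono (s := {b : ℕ | e3 (i + 1) b j ∉ exps I}) (t := {b : ℕ | e3 i b (j + 1) ∉ exps I})
    · exact hfin.preimage (Set.injOn_of_injective (e3_inj_b i (j + 1)))
    · intro b hb hmem
      apply hb
      have h := hI.2 _ hmem 0 2 (by decide) (by simp [e3_apply])
      convert h using 1
      ext l
      fin_cases l <;> simp [e3_apply]

end Groth.Agent.S13441
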