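import Groth.Statements.S13455
import Mathlib

set_option autoImplicit false
universe u
open W4c1hilbpn

namespace Groth.Agent.S13455

open MvPolynomial in
theorem pair_le {σ : Type*} [DecidableEq σ] (ξ : σ →₀ ℕ) (p q : σ) (hpq : p ≠ q) :
    Finsupp.single p 1 + Finsupp.single q 1 ≤ ξ ↔ 1 ≤ ξ p ∧ 1 ≤ ξ q := by
  constructor
  · intro h
    constructor
    · have := h p
      simpa [Finsupp.single_eq_of_ne hpq] using this
    · have := h q
      simpa [Finsupp.single_eq_of_ne hpq.symm] using this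
  · rintro ⟨h1, h2⟩ i
    by_cases hip : i = p
    · subst hip
      simpa [Finsupp.single_eq_of_ne hpq] using h1
    · by_cases hiq : i = q
      · subst hiq
        simpa [Finsupp.single_eq_of_ne hpq.symm] using h2
      · simp [Finsupp.single_eq_of_ne hip, Finsupp.single_eq_of_ne hiq]

theorem double_le {σ : Type*} [DecidableEq σ] (ξ : σ →₀ ℕ) (p : σ) :
    Finsupp.single p 1 + Finsupp.single p 1 ≤ ξ ↔ 2 ≤ ξ p := by
  rw [← Finsupp.single_add]
  constructor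
  · intro h
    have := h p
    simpa using this
  · intro h i
    by_cases hip : i = p
    · subst hip; simpa using h
    · simp [Finsupp.single_eq_of_ne hip]

theorem single_le' {σ : Type*} [DecidableEq σ] (ξ : σ →₀ ℕ) (p : σ) (c : ℕ) :
    Finsupp.single p c ≤ ξ ↔ c ≤ ξ p := by
  constructor
  · intro h
    have := h p
    simpa using this
  · intro h i
    by_cases hip : i = p
    · subst hip; simpa using h
    · simp [Finsupp.single_eq_of_ne hip]

/-- Let k be an algebraically closed field of characteristic different from 2, k0 ≥ 1 and n ≥ 2k0 - 1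
natural numbers, S = k[x_0, ..., x_n], and e1 ≤ e2 ≤ k0 - 1. The ideal generated by all products x_p
x_q with e1 ≤ p, q ≤ e2 together with the products x_p x_{n-k0+1+q} for e1 ≤ p < q ≤ e2 is the
intersection, over j from e1 to e2, of the ideals generated by the variables x_i with e1 ≤ i ≤ e2
and i ≠ j, the square x_j^2, and the variables x_{n-k0+1+q} for j < q ≤ e2 (a primary decomposition
of this monomial ideal). -/
theorem result (k : Type u) [Field k] [IsAlgClosed k] (hchar : ringChar k ≠ 2)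
    (n k0 e1 e2 : ℕ) (hk : 1 ≤ k0) (hn : 2 * k0 ≤ n + 1) (he : e1 ≤ e2) (he2 : e2 + 1 ≤ k0) :
    Ideal.span ({f : MvPolynomial (Fin (n + 1)) k | ∃ p q : Fin (n + 1), e1 ≤ p.val ∧ p.val ≤ e2 ∧ e1 ≤ q.val ∧ q.val ≤ e2 ∧
        f = MvPolynomial.X p * MvPolynomial.X q} ∪
      {f : MvPolynomial (Fin (n + 1)) k | ∃ p q m : Fin (n + 1), e1 ≤ p.val ∧ p.val < q.val ∧ q.val ≤ e2 ∧
        m.val + k0 = n + 1 + q.val ∧ f = MvPolynomial.X p * MvPolynomial.X m}) =
    ⨅ j : Fin (n + 1), ⨅ (_ : e1 ≤ j.val ∧ j.val ≤ e2),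
      Ideal.span ({f : MvPolynomial (Fin (n + 1)) k | ∃ i : Fin (n + 1), e1 ≤ i.val ∧ i.val ≤ e2 ∧ i ≠ j ∧ f = MvPolynomial.X i} ∪
        {MvPolynomial.X j ^ 2} ∪
        {f : MvPolynomial (Fin (n + 1)) k | ∃ q m : Fin (n + 1), j.val < q.val ∧ q.val ≤ e2 ∧ m.val + k0 = n + 1 + q.val ∧
          f = MvPolynomial.X m}) := by
  classical
  -- exponent sets
  let SL : Set (Fin (n + 1) →₀ ℕ) :=
    {s | ∃ p q : Fin (n + 1), e1 ≤ p.val ∧ p.val ≤ e2 ∧ e1 ≤ q.val ∧ q.val ≤ e2 ∧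
        s = Finsupp.single p 1 + Finsupp.single q 1} ∪
    {s | ∃ p q m : Fin (n + 1), e1 ≤ p.val ∧ p.val < q.val ∧ q.val ≤ e2 ∧
        m.val + k0 = n + 1 + q.val ∧ s = Finsupp.single p 1 + Finsupp.single m 1}
  let SJ : Fin (n + 1) → Set (Fin (n + 1) →₀ ℕ) := fun j =>
    {s | ∃ i : Fin (n + 1), e1 ≤ i.val ∧ i.val ≤ e2 ∧ i ≠ j ∧ s = Finsupp.single i 1} ∪
      {Finsupp.single j 2} ∪
    {s | ∃ q m : Fin (n + 1), j.val < q.val ∧ q.val ≤ e2 ∧ m.val + k0 = n + 1 + q.val ∧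
        s = Finsupp.single m 1}
  have hXX : ∀ p q : Fin (n + 1), (MvPolynomial.X p * MvPolynomial.X q : MvPolynomial (Fin (n + 1)) k)
      = MvPolynomial.monomial (Finsupp.single p 1 + Finsupp.single q 1) 1 := by
    intro p q
    rw [MvPolynomial.X, MvPolynomial.X, MvPolynomial.monomial_mul, mul_one]
  have hL : ({f : MvPolynomial (Fin (n + 1)) k | ∃ p q : Fin (n + 1), e1 ≤ p.val ∧ p.val ≤ e2 ∧ e1 ≤ q.val ∧ q.val ≤ e2 ∧
        f = MvPolynomial.X p * MvPolynomial.X q} ∪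
      {f : MvPolynomial (Fin (n + 1)) k | ∃ p q m : Fin (n + 1), e1 ≤ p.val ∧ p.val < q.val ∧ q.val ≤ e2 ∧
        m.val + k0 = n + 1 + q.val ∧ f = MvPolynomial.X p * MvPolynomial.X m})
      = (fun s => MvPolynomial.monomial s (1 : k)) '' SL := by
    ext f
    simp only [Set.mem_union, Set.mem_setOf_eq, Set.mem_image, SL]
    constructor
    · rintro (⟨p, q, h1, h2, h3, h4, rfl⟩ | ⟨p, q, m, h1, h2, h3, h4, rfl⟩)
      · exact ⟨_, Or.inl ⟨p, q, h1, h2, h3, h4, rfl⟩, (hXX p q).symm⟩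
      · exact ⟨_, Or.inr ⟨p, q, m, h1, h2, h3, h4, rfl⟩, (hXX p m).symm⟩
    · rintro ⟨s, (⟨p, q, h1, h2, h3, h4, rfl⟩ | ⟨p, q, m, h1, h2, h3, h4, rfl⟩), rfl⟩
      · exact Or.inl ⟨p, q, h1, h2, h3, h4, (hXX p q).symm⟩
      · exact Or.inr ⟨p, q, m, h1, h2, h3, h4, (hXX p m).symm⟩
  have hJ : ∀ j : Fin (n + 1),
      ({f : MvPolynomial (Fin (n + 1)) k | ∃ i : Fin (n + 1), e1 ≤ i.val ∧ i.val ≤ e2 ∧ i ≠ j ∧ f = MvPolynomial.X i} ∪
        {MvPolynomial.X j ^ 2} ∪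
        {f : MvPolynomial (Fin (n + 1)) k | ∃ q m : Fin (n + 1), j.val < q.val ∧ q.val ≤ e2 ∧ m.val + k0 = n + 1 + q.val ∧
          f = MvPolynomial.X m})
      = (fun s => MvPolynomial.monomial s (1 : k)) '' SJ j := by
    intro j
    have hX2 : (MvPolynomial.X j ^ 2 : MvPolynomial (Fin (n + 1)) k)
        = MvPolynomial.monomial (Finsupp.single j 2) 1 := by
      rw [MvPolynomial.X_pow_eq_monomial]
    ext f
    simp only [Set.mem_union, Set.mem_setOf_eq, Set.mem_image, Set.mem_singleton_iff, SJ]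
    constructor
    · rintro ((⟨i, h1, h2, h3, rfl⟩ | rfl) | ⟨q, m, h1, h2, h3, rfl⟩)
      · exact ⟨_, Or.inl (Or.inl ⟨i, h1, h2, h3, rfl⟩), rfl⟩
      · exact ⟨_, Or.inl (Or.inr rfl), hX2.symm⟩
      · exact ⟨_, Or.inr ⟨q, m, h1, h2, h3, rfl⟩, rfl⟩
    · rintro ⟨s, ((⟨i, h1, h2, h3, rfl⟩ | rfl) | ⟨q, m, h1, h2, h3, rfl⟩), rfl⟩
      · exact Or.inl (Or.inl ⟨i, h1, h2, h3, rfl⟩)
      · exact Or.inl (Or.inr hX2.symm)
      · exact Or.inr ⟨q, m, h1, h2, h3, rfl⟩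
  -- the combinatorial core
  have hcore : ∀ ξ : Fin (n + 1) →₀ ℕ, (∃ s ∈ SL, s ≤ ξ) ↔
      ∀ j : Fin (n + 1), e1 ≤ j.val ∧ j.val ≤ e2 → ∃ s ∈ SJ j, s ≤ ξ := by
    intro ξ
    constructor
    · rintro ⟨s, hs, hsξ⟩ j ⟨hj1, hj2⟩
      rcases hs with ⟨p, q, h1, h2, h3, h4, rfl⟩ | ⟨p, q, m, h1, h2, h3, h4, rfl⟩
      · by_cases hpq : p = q
        · subst hpq
          rw [double_le] at hsξ
          by_cases hjp : p = j
          · subst hjp
            exact ⟨_, Or.inl (Or.inr rfl), (single_le' ξ p 2).mpr hsξ⟩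
          · exact ⟨_, Or.inl (Or.inl ⟨p, h1, h2, hjp, rfl⟩), (single_le' ξ p 1).mpr (by omega)⟩
        · rw [pair_le ξ p q hpq] at hsξ
          by_cases hjp : p = j
          · subst hjp
            exact ⟨_, Or.inl (Or.inl ⟨q, h3, h4, fun h => hpq h.symm, rfl⟩), (single_le' ξ q 1).mpr hsξ.2⟩
          · exact ⟨_, Or.inl (Or.inl ⟨p, h1, h2, hjp, rfl⟩), (single_le' ξ p 1).mpr hsξ.1⟩
      · have hpm : p ≠ m := by
          intro h
          have : p.val = m.val := congrArg Fin.val h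
          omega
        rw [pair_le ξ p m hpm] at hsξ
        by_cases hjp : p = j
        · subst hjp
          exact ⟨_, Or.inr ⟨q, m, h2, h3, h4, rfl⟩, (single_le' ξ m 1).mpr hsξ.2⟩
        · exact ⟨_, Or.inl (Or.inl ⟨p, h1, by omega, hjp, rfl⟩), (single_le' ξ p 1).mpr hsξ.1⟩
    · intro h
      -- first find p in range with ξ p ≥ 1
      have he2n : e2 < n + 1 := by omega
      obtain ⟨p, hp1, hp2, hpξ⟩ : ∃ p : Fin (n + 1), e1 ≤ p.val ∧ p.val ≤ e2 ∧ 1 ≤ ξ p := by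
        obtain ⟨s, hs, hsξ⟩ := h ⟨e2, he2n⟩ ⟨he, le_rfl⟩
        rcases hs with (⟨i, h1, h2, h3, rfl⟩ | hs) | ⟨q, m, h1, h2, h3, rfl⟩
        · exact ⟨i, h1, h2, (single_le' ξ i 1).mp hsξ⟩
        · rw [Set.mem_singleton_iff] at hs
          subst hs
          have := (single_le' ξ _ 2).mp hsξ
          exact ⟨⟨e2, he2n⟩, he, le_rfl, by omega⟩
        · exfalso
          simp only at h1
          omega
      obtain ⟨s, hs, hsξ⟩ := h p ⟨hp1, hp2⟩
      rcases hs with (⟨i, h1, h2, h3, rfl⟩ | hs) | ⟨q, m, h1, h2, h3, rfl⟩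
      · refine ⟨_, Or.inl ⟨p, i, hp1, hp2, h1, h2, rfl⟩, ?_⟩
        rw [pair_le ξ p i (fun h => h3 h.symm)]
        exact ⟨hpξ, (single_le' ξ i 1).mp hsξ⟩
      · rw [Set.mem_singleton_iff] at hs
        subst hs
        refine ⟨_, Or.inl ⟨p, p, hp1, hp2, hp1, hp2, rfl⟩, ?_⟩
        rw [double_le]
        exact (single_le' ξ p 2).mp hsξ
      · have hpm : p ≠ m := by
          intro h
          have : p.val = m.val := congrArg Fin.val h
          omega
        refine ⟨_, Or.inr ⟨p, q, m, hp1, h1, h2, h3, rfl⟩, ?_⟩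
        rw [pair_le ξ p m hpm]
        exact ⟨hpξ, (single_le' ξ m 1).mp hsξ⟩
  rw [hL]
  ext f
  rw [MvPolynomial.mem_ideal_span_monomial_image]
  simp only [Ideal.mem_iInf]
  simp_rw [hJ, MvPolynomial.mem_ideal_span_monomial_image]
  constructor
  · intro h j hj ξ hξ
    exact (hcore ξ).mp (h ξ hξ) j hj
  · intro h ξ hξ
    exact (hcore ξ).mpr (fun j hj => h j hj ξ hξ)

end Groth.Agent.S13455
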