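import Groth.Statements.S13506
import Groth.Agent.Helper1.IdemLift1
import Groth.Agent.Helper1.ClopenIdem1
import Groth.Agent.Helper1.FinCondTop

set_option autoImplicit false
universe u
open CategoryTheory CategoryTheory.Limits AlgebraicGeometry
open Hensel

namespace Groth.Agent.S13506

/-- Let A be a Noetherian ring which is complete for the adic topology of an ideal I, f : X → Spec A
proper and X_0 = X ×_{Spec A} Spec (A/I). Then the projection X_0 → X induces a bijection from the
connected components of X_0 to the connected components of X. -/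
theorem result (A : Type u) [CommRing A]
    [IsNoetherianRing A] (I : Ideal A) [IsAdicComplete I A] {X : Scheme.{u}}
    (f : X ⟶ Spec (CommRingCat.of A)) [IsProper f] :
    Function.Bijective
      (Continuous.connectedComponentsMap
        (pullback.fst f (Spec.map (CommRingCat.ofHom (Ideal.Quotient.mk I)))).continuous) := by
  classical
  letI : X.Over (Spec (CommRingCat.of A)) := ⟨f⟩
  haveI hprop : IsProper (X ↘ Spec (CommRingCat.of A)) := ‹IsProper f›
  set g := Spec.map (CommRingCat.ofHom (Ideal.Quotient.mk I)) with hg
  set p := pullback.fst f g with hp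
  -- the closed fibre is a Noetherian space
  haveI : IsLocallyNoetherian X := LocallyOfFiniteType.isLocallyNoetherian f
  haveI : CompactSpace X := QuasiCompact.compactSpace_of_compactSpace f
  haveI : IsClosedImmersion g := IsClosedImmersion.spec_of_surjective _ Ideal.Quotient.mk_surjective
  haveI : IsClosedImmersion p := by rw [hp]; infer_instance
  haveI : IsLocallyNoetherian (pullback f g : Scheme.{u}) := LocallyOfFiniteType.isLocallyNoetherian p
  haveI : CompactSpace (pullback f g : Scheme.{u}) := QuasiCompact.compactSpace_of_compactSpace p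
  haveI : IsNoetherian (pullback f g : Scheme.{u}) := {}
  constructor
  · -- injectivity
    intro a b hab
    obtain ⟨x, rfl⟩ := ConnectedComponents.surjective_coe a
    obtain ⟨y, rfl⟩ := ConnectedComponents.surjective_coe b
    rw [Continuous.connectedComponentsMap_mk, Continuous.connectedComponentsMap_mk] at hab
    have hxy : p y ∈ connectedComponent (p x) := ConnectedComponents.coe_eq_coe'.1 hab.symm
    have hclopen : IsClopen (connectedComponent x) :=
      ⟨isClosed_connectedComponent,
        Groth.Agent.Helper1.FinCondTop.isOpen_connectedComponent_of_noetherian x⟩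
    obtain ⟨e₀, he₀, hD₀⟩ :=
      Groth.Agent.Helper1.ClopenIdem.exists_idempotent_of_isClopen _ hclopen
    obtain ⟨e, he, hee₀⟩ := Groth.Agent.Helper1.IdemLift.exists_idempotent_lift A I X e₀ he₀
    have hDe : IsClopen (X.basicOpen e : Set X) :=
      Groth.Agent.Helper1.ClopenIdem.isClopen_basicOpen_of_idempotent e he
    have hpre : p ⁻¹ᵁ X.basicOpen e = (pullback f g : Scheme.{u}).basicOpen e₀ := by
      rw [Scheme.preimage_basicOpen_top]
      congr 1
    have hx0 : x ∈ (pullback f g : Scheme.{u}).basicOpen e₀ := by
      have : x ∈ ((pullback f g : Scheme.{u}).basicOpen e₀ : Set _) := by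
        rw [hD₀]; exact mem_connectedComponent
      exact this
    have hpx : p x ∈ (X.basicOpen e : Set X) := by
      have : x ∈ p ⁻¹ᵁ X.basicOpen e := by rw [hpre]; exact hx0
      exact this
    have hsub : connectedComponent (p x) ⊆ (X.basicOpen e : Set X) :=
      isPreconnected_connectedComponent.subset_isClopen hDe ⟨p x, mem_connectedComponent, hpx⟩
    have hpy : y ∈ p ⁻¹ᵁ X.basicOpen e := hsub hxy
    rw [hpre] at hpy
    have hy : y ∈ connectedComponent x := by
      rw [← hD₀]; exact hpy
    exact (ConnectedComponents.coe_eq_coe'.2 hy).symm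
  · -- surjectivity
    intro c
    obtain ⟨x, rfl⟩ := ConnectedComponents.surjective_coe c
    have hclosed : IsClosed (f '' connectedComponent x) :=
      f.isClosedMap _ isClosed_connectedComponent
    obtain ⟨J, hJ⟩ := (PrimeSpectrum.isClosed_iff_zeroLocus_ideal _).1 hclosed
    have hne : (f '' connectedComponent x).Nonempty := ⟨f x, x, mem_connectedComponent, rfl⟩
    have hJtop : J ≠ ⊤ := by
      intro h
      rw [hJ, h] at hne
      simp at hne
      exact Set.not_nonempty_empty hne
    obtain ⟨m, hm, hJm⟩ := Ideal.exists_le_maximal J hJtop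
    have hmem : (⟨m, hm.isPrime⟩ : PrimeSpectrum A) ∈ f '' connectedComponent x := by
      rw [hJ]
      exact hJm
    obtain ⟨x', hx', hfx'⟩ := hmem
    have hIm : I ≤ m := (IsAdicComplete.le_jacobson_bot I).trans (sInf_le ⟨bot_le, hm⟩)
    have hrange : f x' ∈ Set.range g := by
      rw [hfx']
      have := _root_.range_comap_of_surjective (A ⧸ I) (Ideal.Quotient.mk I)
        Ideal.Quotient.mk_surjective
      rw [Ideal.mk_ker] at this
      have h2 : (⟨m, hm.isPrime⟩ : PrimeSpectrum A) ∈ PrimeSpectrum.zeroLocus (I : Set A) := hIm
      rw [← this] at h2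
      exact h2
    have hx'range : x' ∈ Set.range p := by
      rw [hp, Scheme.Pullback.range_fst]
      exact hrange
    obtain ⟨x0, hx0⟩ := hx'range
    refine ⟨(x0 : _root_.ConnectedComponents _), ?_⟩
    rw [Continuous.connectedComponentsMap_mk, hx0]
    exact ConnectedComponents.coe_eq_coe'.2 hx'

end Groth.Agent.S13506
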