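import Groth.Statements.S13509
import Mathlib
import Groth.Agent.Helper6.FibSiteSh

set_option autoImplicit false
universe v₁ u₁ v₂ u₂ v₃ u₃
open CategoryTheory Opposite Pseudofunctor.CoGrothendieck
open FibSite

namespace Groth.Agent.S13509

set_option backward.isDefEq.respectTransparency false in
set_option backward.defeqAttrib.useBackward true in
theorem aux {𝒮 : Type u₁} [Category.{v₁} 𝒮]
    (F : Pseudofunctor (LocallyDiscrete 𝒮ᵒᵖ) Cat.{v₂, u₂}) {S : 𝒮} {V V' U : F.obj ⟨op S⟩}
    (r : V ⟶ U) (t : V' ⟶ U) (a : (ι F S).obj V ⟶ (ι F S).obj V')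
    (e : (ι F S).map r = a ≫ (ι F S).map t) : ∃ α : V ⟶ V', r = α ≫ t := by
  obtain ⟨b, α⟩ := a
  change S ⟶ S at b
  have e' : (ι F S).map r =
      (⟨b, α ≫ (F.map b.op.toLoc).toFunctor.map t⟩ : (⟨S, V⟩ : ∫ᶜ F) ⟶ (⟨S, U⟩ : ∫ᶜ F)) :=
    e.trans (Groth.Agent.Helper6.FibSiteLib.comp_ι_map F (Z := (⟨S, V⟩ : ∫ᶜ F)) t b α)
  have hb : 𝟙 S = b := congrArg Hom.base e'
  subst hb
  have hfib := Hom.congr e'
  refine ⟨α ≫ (F.mapId ⟨op S⟩).hom.toNatTrans.app V', ?_⟩
  have nat := (F.mapId ⟨op S⟩).hom.toNatTrans.naturality t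
  simp at hfib
  have h3 : (F.mapId ⟨op S⟩).inv.toNatTrans.app U ≫ (F.mapId ⟨op S⟩).hom.toNatTrans.app U = 𝟙 _ := by
    rw [← Cat.Hom₂.comp_app]
    simp
  calc r = r ≫ ((F.mapId ⟨op S⟩).inv.toNatTrans.app U ≫ (F.mapId ⟨op S⟩).hom.toNatTrans.app U) := by
        rw [h3]
        exact (Category.comp_id r).symm
    _ = (r ≫ (F.mapId ⟨op S⟩).inv.toNatTrans.app U) ≫ (F.mapId ⟨op S⟩).hom.toNatTrans.app U :=
        (Category.assoc _ _ _).symm
    _ = (α ≫ (F.map (𝟙 ⟨op S⟩)).toFunctor.map t) ≫ (F.mapId ⟨op S⟩).hom.toNatTrans.app U := by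
        rw [hfib]
    _ = α ≫ ((F.map (𝟙 ⟨op S⟩)).toFunctor.map t ≫ (F.mapId ⟨op S⟩).hom.toNatTrans.app U) :=
        Category.assoc _ _ _
    _ = α ≫ ((F.mapId ⟨op S⟩).hom.toNatTrans.app V' ≫ t) := by
        rw [nat]
        rfl
    _ = (α ≫ (F.mapId ⟨op S⟩).hom.toNatTrans.app V') ≫ t := (Category.assoc _ _ _).symm

/-- For a fibred category `F` over `𝒮` with topologies `J` on its fibres all of whose inverse-image
functors are continuous, the topology induced on the fibre over `S` by the total topology (the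
finest topology on `F(S)` for which the fibre inclusion is continuous towards the topology generated
by the coverings of the fibres) is `J S` itself. (The published statement is for fibred sites; its
proof uses only the continuity of the inverse-image functors.) -/
theorem result {𝒮 : Type u₁} [Category.{v₁} 𝒮]
    (F : Pseudofunctor (LocallyDiscrete 𝒮ᵒᵖ) Cat.{v₂, u₂}) (J : FibSite.Topologies F)
    (hF : FibSite.IsPreFibSite F J) (S : 𝒮) :
    (ι F S).inducedTopology (FibSite.totalTopology F J) = J S := by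
  apply le_antisymm
  · intro U T hT
    have h1 : T.functorPushforward (ι F S) ∈ FibSite.totalTopology F J ((ι F S).obj U) :=
      (CoverPreserving.of_isContinuous (ι F S) ((ι F S).inducedTopology (FibSite.totalTopology F J))
        (FibSite.totalTopology F J)).cover_preserve hT
    obtain ⟨R, hR, hle⟩ := (Groth.Agent.Helper6.FibSiteLib.mem_totalTopology_iff F J hF _ _).1 h1
    refine (J S).superset_covering ?_ hR
    intro V r hr
    obtain ⟨V', t, a, ht, e⟩ := hle _ ⟨V, r, 𝟙 _, hr, (Category.id_comp _).symm⟩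
    obtain ⟨α, rfl⟩ := aux F r t a e
    exact T.downward_closed ht α
  · rw [Functor.le_inducedTopology_iff]
    exact Groth.Agent.Helper6.FibSiteLib.isContinuous_ι F J hF S

end Groth.Agent.S13509
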