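import Groth.Statements.S13513
import Mathlib
import Groth.Agent.S13510
import Groth.Agent.Helper6.FibSiteFF

set_option autoImplicit false
universe u
open CategoryTheory CategoryTheory.Limits Opposite Pseudofunctor.CoGrothendieck
open FibSite

namespace Groth.Agent.S13513

/-- Let `F` be a fibred site over a small category `𝒮` with small fibres (every inverse-image functor is
a morphism of sites) and let `i` be a final object of `𝒮`. Then the left adjoint `α_{i!}` of the
restriction of sheaves of sets from the total site to the fibre over `i` is full and faithful;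
equivalently the composite "extend from the fibre over `i`, then restrict back" is isomorphic to the
identity through the unit of the adjunction. The continuity of the fibre inclusion and the existence
of the left adjoint are carried as instance hypotheses. -/
theorem result {𝒮 : Type u} [SmallCategory 𝒮]
    (F : Pseudofunctor (LocallyDiscrete 𝒮ᵒᵖ) Cat.{u, u}) (J : FibSite.Topologies F)
    (hF : FibSite.IsFibSite F J) (i : 𝒮) (hi : IsTerminal i)
    [(ι F i).IsContinuous (J i) (FibSite.totalTopology F J)]
    [((ι F i).sheafPushforwardContinuous (Type u) (J i) (FibSite.totalTopology F J)).IsRightAdjoint] :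
    (FibSite.extend F J (Type u) i).Full ∧ (FibSite.extend F J (Type u) i).Faithful := by
  have hpre := hF.isPreFibSite
  haveI : (ι F i).IsCocontinuous (J i) (FibSite.totalTopology F J) :=
    Groth.Agent.S13510.result F J hpre i
  haveI := Groth.Agent.Helper6.FibSiteLib.faithful_ι F i
  haveI := Groth.Agent.Helper6.FibSiteLib.full_ι F i hi
  let adj₁ := (ι F i).sheafAdjunctionContinuous (Type u) (J i) (FibSite.totalTopology F J)
  let adj₂ := (ι F i).sheafAdjunctionCocontinuous (Type u) (J i) (FibSite.totalTopology F J)
  haveI hc : IsIso adj₂.counit := by
    rw [NatTrans.isIso_iff_isIso_app]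
    intro Y
    haveI : IsIso ((sheafToPresheaf (J i) (Type u)).map (adj₂.counit.app Y)) := by
      change IsIso (adj₂.counit.app Y).hom
      rw [Functor.sheafAdjunctionCocontinuous_counit_app_hom, Functor.ranAdjunction_counit]
      haveI : (ι F i).op.Full := inferInstance
      haveI : (ι F i).op.Faithful := inferInstance
      haveI : ∀ (P : (F.obj ⟨op i⟩)ᵒᵖ ⥤ Type u), (ι F i).op.HasPointwiseRightKanExtension P := inferInstance
      haveI : ∀ (P : (F.obj ⟨op i⟩)ᵒᵖ ⥤ Type u), (ι F i).op.HasRightKanExtension P := inferInstance
      have hiso : IsIso ((ι F i).op.ranCounit.app Y.obj) := inferInstance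
      exact hiso
    exact isIso_of_reflects_iso _ (sheafToPresheaf (J i) (Type u))
  have hff : ((ι F i).sheafPushforwardCocontinuous (Type u) (J i) (FibSite.totalTopology F J)).FullyFaithful :=
    adj₂.fullyFaithfulROfIsIsoCounit
  have t : Adjunction.Triple (FibSite.extend F J (Type u) i)
      ((ι F i).sheafPushforwardContinuous (Type u) (J i) (FibSite.totalTopology F J))
      ((ι F i).sheafPushforwardCocontinuous (Type u) (J i) (FibSite.totalTopology F J)) := ⟨adj₁, adj₂⟩
  have hff' := t.fullyFaithfulEquiv.symm hff
  exact ⟨hff'.full, hff'.faithful⟩

end Groth.Agent.S13513
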