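import Groth.Statements.S1352
import Groth.Agent.Helper5.PolyIrr2

set_option autoImplicit false
universe u
open FlatMor

namespace Groth.Agent.S1352

/-- For a domain A and a polynomial P in finitely many variables over A which is irreducible over an
algebraic closure of the fraction field of A: Then there is a nonzero f in A such that for every
ring map from A[1/f] to a field (in the same universe) the image of P is irreducible. (The source
leaves the nonvanishing of f implicit; for f = 0 the conclusion would be vacuous.) -/
theorem result {A : Type u} [CommRing A] [IsDomain A] {n : ℕ} (P : MvPolynomial (Fin n) A)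
    (hP : Irreducible (MvPolynomial.map (algebraMap A (AlgebraicClosure (FractionRing A))) P)) :
    ∃ f : A, f ≠ 0 ∧ ∀ (κ : Type u) [Field κ] (φ : Localization.Away f →+* κ),
      Irreducible (MvPolynomial.map (φ.comp (algebraMap A (Localization.Away f))) P) := by
  obtain ⟨f, hf0, hf⟩ := Groth.Agent.Helper5.PolyIrr.main P hP
  refine ⟨f, hf0, ?_⟩
  intro κ _ φ
  exact hf κ (φ.comp (algebraMap A (Localization.Away f)))
    ((IsLocalization.Away.algebraMap_isUnit f).map φ)

end Groth.Agent.S1352
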