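import Groth.Statements.S13535
import Groth.Agent.Helper4.SN87
import Groth.Agent.Helper1.AffLin
import Groth.Agent.Helper1.PuncAff
import Groth.Agent.Helper4.FinitePush
import Mathlib

set_option autoImplicit false
universe u
open CategoryTheory CategoryTheory.Limits AlgebraicGeometry
open ResProp

namespace Groth.Agent.S13535


/-- Let X and Y be proper over a Noetherian ring A and let f : Y ⟶ X be a finite A-morphism. If a
sequence (E_n) of coherent modules on X is cohomologically d-ample (d a positive integer), meaning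
that for every coherent F the groups H^i(X, F ⊗ E_n) vanish for all i ≥ d + 1 and all large n, then
so is the sequence of pullbacks (f^*E_n) on Y. -/
theorem result (A : Type u) [CommRing A] [IsNoetherianRing A]
    {X Y : Scheme.{u}} (pX : X ⟶ Spec (CommRingCat.of A)) (pY : Y ⟶ Spec (CommRingCat.of A))
    [IsProper pX] [IsProper pY] (f : Y ⟶ X) (hf : f ≫ pX = pY) [IsFinite f]
    (d : ℕ) (hd : 0 < d) (E : ℕ → X.Modules) (hE : ∀ n, Coh.IsCoh (E n))
    (hamp : ∀ F : X.Modules, Coh.IsCoh F → ∃ n₀ : ℕ, ∀ n : ℕ, n₀ ≤ n → ∀ i : ℕ, d + 1 ≤ i →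
        Subsingleton (Coh.HH X (CohB1.tensorMod F (E n)) i)) :
    ∀ F : Y.Modules, Coh.IsCoh F → ∃ n₀ : ℕ, ∀ n : ℕ, n₀ ≤ n → ∀ i : ℕ, d + 1 ≤ i →
        Subsingleton (Coh.HH Y (CohB1.tensorMod F ((Scheme.Modules.pullback f).obj (E n))) i) := by

  intro F hF
  haveI : F.IsQuasicoherent := hF.1
  haveI : IsAffineHom f := inferInstance
  have hpush : Coh.IsCoh ((Scheme.Modules.pushforward f).obj F) :=
    ⟨Groth.Agent.Helper4.QcohGlue.isQuasicoherent_pushforward f F,
      Groth.Agent.Helper4.FinitePush.isFiniteType_pushforward_of_isFinite f F hF.2⟩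
  obtain ⟨n₀, hn₀⟩ := hamp _ hpush
  refine ⟨n₀, fun n hn i hi => ?_⟩
  have h1 := hn₀ n hn i hi
  haveI : (E n).IsQuasicoherent := (hE n).1
  haveI : ((Scheme.Modules.pullback f).obj (E n)).IsQuasicoherent :=
    Groth.Agent.Lead.StalkPull.isQuasicoherent_pullbackObj f (E n)
  haveI hq : Coh.IsQCoh (CohB1.tensorMod F ((Scheme.Modules.pullback f).obj (E n))) :=
    Groth.Agent.Lead.QcohTensor.isQuasicoherent_tensorMod _ _
  letI : X.Over (Spec (CommRingCat.of A)) := ⟨pX⟩
  letI : Y.Over (Spec (CommRingCat.of A)) := ⟨pY⟩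
  obtain ⟨e1⟩ := Groth.Agent.Helper1.AffLin.nonempty_HH_linearEquiv (f := f) A hf
    (CohB1.tensorMod F ((Scheme.Modules.pullback f).obj (E n))) i
  obtain ⟨e2⟩ := Groth.Agent.Helper1.PuncAff.nonempty_HH_equiv
    (Groth.Agent.Helper4.SN.projIsoAff f F (E n)) i
  exact (e1.toEquiv.trans e2.symm.toEquiv).subsingleton

end Groth.Agent.S13535
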