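import Groth.Statements.S13567
import Mathlib
import Groth.Agent.Helper6.AlgStPts2

set_option autoImplicit false
universe u
open CategoryTheory AlgebraicGeometry
open AlgSt

namespace Groth.Agent.S13567

/-- The base change of a universally injective morphism of algebraic stacks along any morphism of
algebraic stacks is universally injective: if every base change of `f : 𝒳 ⟶ 𝒴` to an algebraic stack
is injective on points, then the same holds for the projection `𝒵 ×_𝒴 𝒳 ⟶ 𝒵` for every morphism `g :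
𝒵 ⟶ 𝒴` of algebraic stacks. -/
theorem result {S : Scheme.{u}} {𝒳 𝒴 𝒵 : AlgSt.Cat S}
    (h𝒳 : AlgSt.IsAlgStack Scheme.fppfPrecoverage 𝒳) (h𝒴 : AlgSt.IsAlgStack Scheme.fppfPrecoverage 𝒴)
    (h𝒵 : AlgSt.IsAlgStack Scheme.fppfPrecoverage 𝒵)
    (f : 𝒳 ⥤ᵇ 𝒴) (g : 𝒵 ⥤ᵇ 𝒴) (hf : AlgSt.IsUnivInjective Scheme.fppfPrecoverage f) :
    AlgSt.IsUnivInjective Scheme.fppfPrecoverage (FibCat.fpFst g f) := by
  intro 𝒵' h𝒵' g'
  have h1 := hf 𝒵' h𝒵' (BasedFunctor.comp g' g)
  have h2 := Groth.Agent.Helper6.AlgStPts.points_map_surjective_of_isEquivOver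
    (Groth.Agent.Helper6.FpTools.pasteLeft g' g f) (Groth.Agent.Helper6.FpTools.isEquivOver_pasteLeft g' g f)
  intro P Q hPQ
  obtain ⟨P', rfl⟩ := h2 P
  obtain ⟨Q', rfl⟩ := h2 Q
  rw [← Groth.Agent.Helper6.AlgStPts.points_map_comp, ← Groth.Agent.Helper6.AlgStPts.points_map_comp] at hPQ
  have : P' = Q' := h1 hPQ
  rw [this]

end Groth.Agent.S13567
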