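import Groth.Statements.S13596
import Mathlib

set_option autoImplicit false
universe u
open CategoryTheory AlgebraicGeometry
open SGA1

namespace Groth.Agent.S13596

open AlgebraicGeometry CategoryTheory in
lemma appLE_of_eq {X : Scheme.{u}} {f f' : X ⟶ X} (h : f = f') (V : X.Opens) (e : V ≤ f ⁻¹ᵁ V)
    (e' : V ≤ f' ⁻¹ᵁ V) : f.appLE V V e = f'.appLE V V e' := by
  subst h; rfl
open AlgebraicGeometry CategoryTheory in
lemma id_appLE' {X : Scheme.{u}} (V : X.Opens) (e : V ≤ (𝟙 X) ⁻¹ᵁ V) :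
    Scheme.Hom.appLE (𝟙 X) V V e = 𝟙 _ := by
  simp only [Scheme.Hom.appLE, Scheme.Hom.id_app, Category.id_comp]
  exact X.presheaf.map_id _
open AlgebraicGeometry CategoryTheory Polynomial in
lemma key {Z Y : Scheme.{u}} {G : Type u} [Group G] [Finite G]
    (ρ : G →* Aut Z) (p : Z ⟶ Y) (hp : SGA1.IsQuot ρ p) (U : Y.Opens) :
    (p.app U).hom.IsIntegral := by
  classical
  haveI : Fintype G := Fintype.ofFinite G
  intro b
  let σ : G → (Γ(Z, p ⁻¹ᵁ U) →+* Γ(Z, p ⁻¹ᵁ U)) := fun g =>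
    ((ρ g).hom.appLE (p ⁻¹ᵁ U) (p ⁻¹ᵁ U) (SGA1.preimage_le_of_inv ρ p hp.inv g U)).hom
  have hσ1 : σ 1 = RingHom.id _ := by
    have h1 : (ρ 1).hom = 𝟙 Z := by rw [map_one]; rfl
    show ((ρ 1).hom.appLE _ _ _).hom = _
    rw [appLE_of_eq h1 (p ⁻¹ᵁ U) _ (by rw [Scheme.Hom.id_preimage]), id_appLE']
    rfl
  have hσmul : ∀ g h : G, (σ h).comp (σ g) = σ (g * h) := by
    intro g h
    have h1 : (ρ (g * h)).hom = (ρ h).hom ≫ (ρ g).hom := by rw [map_mul]; rfl
    show ((ρ h).hom.appLE _ _ _).hom.comp ((ρ g).hom.appLE _ _ _).hom = ((ρ (g * h)).hom.appLE _ _ _).hom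
    rw [← CommRingCat.hom_comp, Scheme.Hom.appLE_comp_appLE]
    congr 1
    exact (appLE_of_eq h1 (p ⁻¹ᵁ U) _ _).symm
  let P : Polynomial Γ(Z, p ⁻¹ᵁ U) := ∏ g : G, (X - C (σ g b))
  have hPmonic : P.Monic := monic_prod_of_monic _ _ (fun g _ => monic_X_sub_C _)
  have hPinv : ∀ h : G, P.map (σ h) = P := by
    intro h
    simp only [P, Polynomial.map_prod, Polynomial.map_sub, Polynomial.map_X, Polynomial.map_C]
    refine Fintype.prod_equiv (Equiv.mulRight h) _ _ (fun g => ?_)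
    have := congrArg (fun φ : Γ(Z, p ⁻¹ᵁ U) →+* Γ(Z, p ⁻¹ᵁ U) => φ b) (hσmul g h)
    simp only [RingHom.comp_apply] at this
    rw [this]
    rfl
  have hlift : P ∈ Polynomial.lifts (p.app U).hom := by
    rw [Polynomial.lifts_iff_coeff_lifts]
    intro n
    rw [hp.range_iff U]
    intro g
    have := congrArg (fun Q : Polynomial Γ(Z, p ⁻¹ᵁ U) => Q.coeff n) (hPinv g)
    simpa [Polynomial.coeff_map] using this
  obtain ⟨Q, hQ, -, hQm⟩ := Polynomial.lifts_and_natDegree_eq_and_monic hlift hPmonic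
  refine ⟨Q, hQm, ?_⟩
  rw [Polynomial.eval₂_eq_eval_map, hQ]
  simp only [P, Polynomial.eval_prod]
  refine Finset.prod_eq_zero (Finset.mem_univ (1 : G)) ?_
  rw [hσ1]
  simp

/-- Let a finite group G act on a scheme X and let p : X ⟶ Y be a quotient of X by G (affine,
G-invariant, and identifying the sections of O_Y over every open with the G-invariant sections of
O_X over its preimage). Then p is an integral morphism. -/
theorem result {X Y : Scheme.{u}} {G : Type u} [Group G] [Finite G]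
    (ρ : G →* Aut X) (p : X ⟶ Y) (hp : SGA1.IsQuot ρ p) :
    IsIntegralHom p := by
  haveI := hp.affine
  exact ⟨fun U _ => key ρ p hp U⟩

end Groth.Agent.S13596
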