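import Groth.Statements.S13598
import Mathlib

set_option autoImplicit false
universe u
open Hensel

namespace Groth.Agent.S13598

open Polynomial IsLocalRing in
theorem henselianLocalRing_quotient (R : Type u) [CommRing R] [hR : HenselianLocalRing R]
    (J : Ideal R) [hloc : IsLocalRing (R ⧸ J)] : HenselianLocalRing (R ⧸ J) := by
  have hsurj : Function.Surjective (Ideal.Quotient.mk J) := Ideal.Quotient.mk_surjective
  have hJ : J ≤ maximalIdeal R := by
    apply IsLocalRing.le_maximalIdeal
    intro h
    have : Subsingleton (R ⧸ J) := by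
      rw [h]; exact Ideal.Quotient.subsingleton_iff.mpr rfl
    exact not_subsingleton (R ⧸ J) this
  have hlh : IsLocalHom (Ideal.Quotient.mk J) := by
    apply isLocalHom_of_le_jacobson_bot
    rw [IsLocalRing.jacobson_eq_maximalIdeal ⊥ bot_ne_top]
    exact hJ
  have hmem : ∀ x : R, x ∈ maximalIdeal R ↔ Ideal.Quotient.mk J x ∈ maximalIdeal (R ⧸ J) := by
    intro x
    rw [IsLocalRing.mem_maximalIdeal, IsLocalRing.mem_maximalIdeal, mem_nonunits_iff,
      mem_nonunits_iff, not_iff_not]
    exact ⟨fun h => h.map _, fun h => hlh.map_nonunit x h⟩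
  refine { hloc with is_henselian := ?_ }
  intro f hf a₀ h₁ h₂
  obtain ⟨F, hF, -, hFm⟩ := Polynomial.lifts_and_degree_eq_and_monic
    ((Polynomial.mem_lifts _).mpr (Polynomial.map_surjective _ hsurj f)) hf
  obtain ⟨b₀, rfl⟩ := hsurj a₀
  subst hF
  have e1 : F.eval b₀ ∈ maximalIdeal R := by
    rw [hmem]
    rwa [Polynomial.eval_map, Polynomial.eval₂_hom] at h₁
  have e2 : IsUnit (F.derivative.eval b₀) := by
    rw [Polynomial.derivative_map, Polynomial.eval_map, Polynomial.eval₂_hom] at h₂
    exact hlh.map_nonunit _ h₂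
  obtain ⟨b, hb, hbb⟩ := hR.is_henselian F hFm b₀ e1 e2
  refine ⟨Ideal.Quotient.mk J b, ?_, ?_⟩
  · show (F.map (Ideal.Quotient.mk J)).eval (Ideal.Quotient.mk J b) = 0
    rw [Polynomial.eval_map, Polynomial.eval₂_hom, hb.eq_zero, map_zero]
  · rw [← map_sub, ← hmem]
    exact hbb

/-- For a local ring A, a henselization A ⟶ S of A (S a henselian local ring, the structure map local,
and initial among local homomorphisms from A to henselian local rings) and an ideal I of A inside
the maximal ideal, the quotient S/IS with its induced algebra structure over A/I is a henselization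
of A/I. (The local-ring and local-homomorphism instances on the quotients hold automatically; they
are taken as hypotheses only so that the conclusion can be stated.) -/
theorem result {A S : Type u} [CommRing A] [IsLocalRing A] [CommRing S]
    [IsLocalRing S] [Algebra A S] [IsLocalHom (algebraMap A S)] [Hensel.IsHenselization A S]
    (I : Ideal A) (hI : I ≤ IsLocalRing.maximalIdeal A)
    [IsLocalRing (A ⧸ I)] [IsLocalRing (S ⧸ I.map (algebraMap A S))]
    [IsLocalHom (algebraMap (A ⧸ I) (S ⧸ I.map (algebraMap A S)))] :
    Hensel.IsHenselization (A ⧸ I) (S ⧸ I.map (algebraMap A S)) := by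
  have hS : HenselianLocalRing S := Hensel.IsHenselization.henselian A
  refine ⟨henselianLocalRing_quotient S _, ?_⟩
  intro T _ _ f hf
  have hlq : IsLocalHom (Ideal.Quotient.mk I) := by
    apply isLocalHom_of_le_jacobson_bot
    rw [IsLocalRing.jacobson_eq_maximalIdeal ⊥ bot_ne_top]
    exact hI
  have hf' : IsLocalHom (f.comp (Ideal.Quotient.mk I)) := RingHom.isLocalHom_comp _ _
  obtain ⟨g₀, hg₀, huniq⟩ := Hensel.IsHenselization.universal (R := A) (S := S) T
    (f.comp (Ideal.Quotient.mk I)) hf'
  have hkill : ∀ s ∈ I.map (algebraMap A S), g₀ s = 0 := by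
    intro s hs
    have : I.map (algebraMap A S) ≤ RingHom.ker g₀ := by
      rw [Ideal.map_le_iff_le_comap]
      intro a ha
      show g₀ (algebraMap A S a) = 0
      have := congrArg (fun φ : A →+* T => φ a) hg₀
      simp only [RingHom.comp_apply] at this
      rw [this, Ideal.Quotient.eq_zero_iff_mem.mpr ha, map_zero]
    exact this hs
  refine ⟨Ideal.Quotient.lift _ g₀ hkill, ?_, ?_⟩
  · apply Ideal.Quotient.ringHom_ext
    ext a
    have := congrArg (fun φ : A →+* T => φ a) hg₀
    simp only [RingHom.comp_apply] at this ⊢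
    rw [← this]
    rfl
  · intro g hg
    apply Ideal.Quotient.ringHom_ext
    have h1 : (g.comp (Ideal.Quotient.mk (I.map (algebraMap A S)))).comp (algebraMap A S) =
        f.comp (Ideal.Quotient.mk I) := by
      rw [← hg]
      ext a
      rfl
    rw [huniq _ h1]
    ext s
    rfl

end Groth.Agent.S13598
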