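import Groth.Statements.S13602
import Groth.Agent.Helper4.SymOrbA
import Groth.Agent.Helper4.SymOrbB
import Mathlib

set_option autoImplicit false
universe u
open CategoryTheory AlgebraicGeometry
open SymProd

namespace Groth.Agent.S13602


/-- Let f : X ⟶ S be a morphism of schemes satisfying (AF): every finite set of points of X over a
single point of S lies in an affine open of X. Then for every d ≥ 0 and every point x of the d-fold
fibre power X ×_S ⋯ ×_S X, some affine open of the fibre power contains the whole orbit of x under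
the symmetric group on d letters permuting the factors. (With the existence of a quotient by a
finite group whose orbits lie in affine opens, this is the existence of the symmetric power
Sym^d(X/S) for X/S satisfying (AF).) -/
theorem result {X S : Scheme.{u}} (f : X ⟶ S) (hAF : SymProd.IsAF f)
    (d : ℕ) (x : ↥(SymProd.fibPow f d)) :
    ∃ U : (SymProd.fibPow f d).Opens, IsAffineOpen U ∧
      ∀ σ : Equiv.Perm (Fin d), (SymProd.permHom f d σ).base x ∈ U := by

  classical
  obtain ⟨V, hV, hsV⟩ : ∃ V : S.Opens, IsAffineOpen V ∧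
      (Limits.WidePullback.base (fun _ : Fin d => f)) x ∈ V := by
    obtain ⟨_, ⟨V, hV, rfl⟩, hsV, -⟩ := (S.isBasis_affineOpens).exists_subset_of_mem_open
      (Set.mem_univ ((Limits.WidePullback.base (fun _ : Fin d => f)) x)) isOpen_univ
    exact ⟨V, hV, hsV⟩
  let T : Finset X :=
    Finset.univ.image (fun i : Fin d => (Limits.WidePullback.π (fun _ : Fin d => f) i) x)
  have hTs : ∀ y ∈ T, f y = (Limits.WidePullback.base (fun _ : Fin d => f)) x := by
    intro y hy
    obtain ⟨i, -, rfl⟩ := Finset.mem_image.1 hy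
    rw [← Scheme.Hom.comp_apply, Limits.WidePullback.π_arrow]
  obtain ⟨U₀, hU₀, hTU₀⟩ := hAF ((Limits.WidePullback.base (fun _ : Fin d => f)) x) T hTs
  obtain ⟨g, hg1, hg2⟩ := Groth.Agent.Helper4.SymOrbA.exists_basicOpen_le_of_finset hU₀
    (U₀ ⊓ f ⁻¹ᵁ V) T (fun y hy => ⟨hTU₀ y hy, hTU₀ y hy, by
      show f y ∈ V
      rw [hTs y hy]; exact hsV⟩)
  have hU : IsAffineOpen (X.basicOpen g) := hU₀.basicOpen g
  have hUV : X.basicOpen g ≤ f ⁻¹ᵁ V := hg1.trans inf_le_right
  let W : (SymProd.fibPow f d).Opens := (Limits.WidePullback.base (fun _ : Fin d => f)) ⁻¹ᵁ V ⊓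
    ⨅ i : Fin d, (Limits.WidePullback.π (fun _ : Fin d => f) i) ⁻¹ᵁ (X.basicOpen g)
  have hW : ∀ z, z ∈ W ↔ (Limits.WidePullback.base (fun _ : Fin d => f)) z ∈ V ∧
      ∀ i, (Limits.WidePullback.π (fun _ : Fin d => f) i) z ∈ X.basicOpen g := by
    intro z
    show z ∈ ((Limits.WidePullback.base (fun _ : Fin d => f)) ⁻¹ᵁ V ⊓
      ⨅ i : Fin d, (Limits.WidePullback.π (fun _ : Fin d => f) i) ⁻¹ᵁ (X.basicOpen g) :
        (SymProd.fibPow f d).Opens) ↔ _
    rw [← SetLike.mem_coe, TopologicalSpace.Opens.coe_inf, TopologicalSpace.Opens.coe_iInf,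
      Set.mem_inter_iff, Set.mem_iInter]
    rfl
  refine ⟨W, Groth.Agent.Helper4.SymOrbB.isAffineOpen_W f d _ hU V hV hUV W hW, fun σ => ?_⟩
  show (SymProd.permHom f d σ) x ∈ W
  rw [hW]
  constructor
  · rw [← Scheme.Hom.comp_apply, SymProd.permHom_base]
    exact hsV
  · intro i
    rw [← Scheme.Hom.comp_apply, SymProd.permHom_π]
    exact hg2 _ (Finset.mem_image.2 ⟨σ.symm i, Finset.mem_univ _, rfl⟩)

end Groth.Agent.S13602
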