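import Groth.Statements.S13603
import Mathlib.Tactic

set_option autoImplicit false
universe u v
open CAlg

namespace Groth.Agent.S13603

theorem result {B : Type u} [CommRing B]
    {G : Type v} [Group G] [MulSemiringAction G B] (hfin : ∀ b : B, (MulAction.orbit G b).Finite)
    (S : Submonoid B) (hS : ∀ (g : G) (s : B), s ∈ S → g • s = s)
    (hS' : ∀ g : G, S ≤ S.comap (MulSemiringAction.toRingHom G B g)) (x : Localization S) :
    (∀ g : G, IsLocalization.map (Localization S) (MulSemiringAction.toRingHom G B g) (hS' g) x = x) ↔
      ∃ (b : B) (s : S), (∀ g : G, g • b = b) ∧ x = IsLocalization.mk' (Localization S) b s := by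
  classical
  have hsub : ∀ (g : G) (s : S),
      (⟨MulSemiringAction.toRingHom G B g s, hS' g s.2⟩ : S) = s := by
    intro g s
    apply Subtype.ext
    exact hS g s s.2
  constructor
  · intro h
    obtain ⟨b, s, rfl⟩ := IsLocalization.exists_mk'_eq S x
    -- for each g there is t ∈ S with t * (s * g • b) = t * (s * b)
    have hg : ∀ g : G, ∃ t : S, (t : B) * (s * g • b) = t * (s * b) := by
      intro g
      have := h g
      rw [IsLocalization.map_mk', hsub g s, IsLocalization.eq] at this
      simpa using this
    have key : ∀ F : Finset B, (∀ y ∈ F, y ∈ MulAction.orbit G b) →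
        ∃ t : S, ∀ y ∈ F, (t : B) * (s * y) = t * (s * b) := by
      intro F
      induction F using Finset.induction_on with
      | empty => intro _; exact ⟨1, by simp⟩
      | insert a F ha ih =>
        intro hF
        obtain ⟨t, ht⟩ := ih (fun y hy => hF y (Finset.mem_insert_of_mem hy))
        obtain ⟨g, rfl⟩ := hF _ (Finset.mem_insert_self _ _)
        obtain ⟨t', ht'⟩ := hg g
        refine ⟨t * t', ?_⟩
        intro y hy
        rcases Finset.mem_insert.mp hy with rfl | hy
        · push_cast
          rw [mul_assoc, ht', ← mul_assoc]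
        · push_cast
          rw [mul_comm (t : B) t', mul_assoc, ht y hy, ← mul_assoc]
    obtain ⟨t, ht⟩ := key (hfin b).toFinset (by simp)
    refine ⟨t * (s * b), t * s * s, ?_, ?_⟩
    · intro g
      rw [smul_mul', smul_mul', hS g t t.2, hS g s s.2]
      exact ht (g • b) (by simp)
    · rw [IsLocalization.eq]
      refine ⟨1, ?_⟩
      push_cast
      ring
  · rintro ⟨b, s, hb, rfl⟩ g
    rw [IsLocalization.map_mk', hsub g s]
    congr 1
    exact hb g

end Groth.Agent.S13603
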