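import Groth.Statements.S13605
import Groth.Agent.Helper4.SymOrbA
import Groth.Agent.Helper4.SymOrbB
import Groth.Agent.Helper9.QuotAff
import Mathlib

set_option autoImplicit false
universe u
open CategoryTheory AlgebraicGeometry
open CategoryTheory.Limits
open SymProd

namespace Groth.Agent.S13605


/-- Let f : X ⟶ S be a morphism of schemes satisfying (AF) (every finite set of points of X over a
single point of S lies in an affine open of X), let 𝒮 be a cover of S by affine opens, let d ≥ 1 and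
let (Y, q, g) be a d-th symmetric power of X over S: q : X ×_S ⋯ ×_S X ⟶ Y is a quotient by the
symmetric group on d letters permuting the factors (affine, invariant, sections of O_Y = invariant
sections) and q ≫ g is the structure map of the fibre power. Then Y is covered by affine opens of
the form Sym^d(U/V) with V in the given cover: for every point y of Y there are V ∈ 𝒮 and an affine
open U ⊆ f⁻¹V of X such that the open W = ⋂_i pr_i⁻¹ U of the fibre power (the fibre power of U over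
V) is affine and stable under every permutation of the factors, and an affine open W' of Y
containing y with q⁻¹ W' = W. (The published statement also fixes an affine open cover of X
subordinate to the cover of S, in which any d points over a common point of a member V lie in a
common member mapping into V, and concludes that the corresponding opens Sym^d(U/V) cover Y; this
row states the pointwise form, producing U for each y.) -/
theorem result {X S Y : Scheme.{u}} (f : X ⟶ S) (hAF : SymProd.IsAF f)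
    (𝒮 : Set S.Opens) (h𝒮 : ∀ V ∈ 𝒮, IsAffineOpen V) (hcov : ∀ s : S, ∃ V ∈ 𝒮, s ∈ V)
    (d : ℕ) (hd : 0 < d) (q : SymProd.fibPow f d ⟶ Y) (g : Y ⟶ S) (hq : SymProd.IsSymProd f d q g) (y : Y) :
    ∃ V ∈ 𝒮, ∃ U : X.Opens, IsAffineOpen U ∧ U ≤ f ⁻¹ᵁ V ∧
      ∃ W : (SymProd.fibPow f d).Opens,
        (W : Set ↥(SymProd.fibPow f d)) =
          ⋂ i : Fin d, (WidePullback.π (fun _ : Fin d => f) i).base ⁻¹' (U : Set X) ∧
        IsAffineOpen W ∧ (∀ σ : Equiv.Perm (Fin d), (SymProd.permHom f d σ) ⁻¹ᵁ W = W) ∧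
        ∃ W' : Y.Opens, y ∈ W' ∧ IsAffineOpen W' ∧ q ⁻¹ᵁ W' = W := by

  classical
  have hQ := hq.isQuot
  obtain ⟨x, hx⟩ := Groth.Agent.Helper9.FinQuot.surjective hQ y
  obtain ⟨V, hV𝒮, hsV⟩ := hcov ((Limits.WidePullback.base (fun _ : Fin d => f)) x)
  have hV : IsAffineOpen V := h𝒮 V hV𝒮
  let T : Finset X :=
    Finset.univ.image (fun i : Fin d => (Limits.WidePullback.π (fun _ : Fin d => f) i) x)
  have hTs : ∀ y ∈ T, f y = (Limits.WidePullback.base (fun _ : Fin d => f)) x := by
    intro y hy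
    obtain ⟨i, -, rfl⟩ := Finset.mem_image.1 hy
    rw [← Scheme.Hom.comp_apply, Limits.WidePullback.π_arrow]
  obtain ⟨U₀, hU₀, hTU₀⟩ := hAF ((Limits.WidePullback.base (fun _ : Fin d => f)) x) T hTs
  obtain ⟨r, hr1, hr2⟩ := Groth.Agent.Helper4.SymOrbA.exists_basicOpen_le_of_finset hU₀
    (U₀ ⊓ f ⁻¹ᵁ V) T (fun y hy => ⟨hTU₀ y hy, hTU₀ y hy, by
      show f y ∈ V
      rw [hTs y hy]; exact hsV⟩)
  have hU : IsAffineOpen (X.basicOpen r) := hU₀.basicOpen r
  have hUV : X.basicOpen r ≤ f ⁻¹ᵁ V := hr1.trans inf_le_right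
  let W : (SymProd.fibPow f d).Opens :=
    ⨅ i : Fin d, (Limits.WidePullback.π (fun _ : Fin d => f) i) ⁻¹ᵁ (X.basicOpen r)
  have hWcoe : (W : Set ↥(SymProd.fibPow f d)) =
      ⋂ i : Fin d, (Limits.WidePullback.π (fun _ : Fin d => f) i).base ⁻¹' (X.basicOpen r : Set X) := by
    show ((⨅ i : Fin d, (Limits.WidePullback.π (fun _ : Fin d => f) i) ⁻¹ᵁ (X.basicOpen r) :
      (SymProd.fibPow f d).Opens) : Set ↥(SymProd.fibPow f d)) = _
    rw [TopologicalSpace.Opens.coe_iInf]
    rfl
  have hWmem : ∀ z, z ∈ W ↔ ∀ i, (Limits.WidePullback.π (fun _ : Fin d => f) i) z ∈ X.basicOpen r := by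
    intro z
    rw [← SetLike.mem_coe, hWcoe, Set.mem_iInter]
    rfl
  have hWaff : IsAffineOpen W := by
    refine Groth.Agent.Helper4.SymOrbB.isAffineOpen_W f d _ hU V hV hUV W fun z => ?_
    rw [hWmem]
    refine ⟨fun h => ⟨?_, h⟩, fun h => h.2⟩
    have h0 := hUV (h ⟨0, hd⟩)
    have h1 : f ((Limits.WidePullback.π (fun _ : Fin d => f) ⟨0, hd⟩) z) ∈ V := h0
    rwa [← Scheme.Hom.comp_apply, Limits.WidePullback.π_arrow] at h1
  have hstab : ∀ σ : Equiv.Perm (Fin d), (SymProd.permHom f d σ) ⁻¹ᵁ W = W := by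
    intro σ
    ext z
    show (SymProd.permHom f d σ) z ∈ W ↔ z ∈ W
    rw [hWmem, hWmem]
    constructor
    · intro h i
      have := h (σ i)
      rwa [← Scheme.Hom.comp_apply, SymProd.permHom_π, Equiv.symm_apply_apply] at this
    · intro h i
      rw [← Scheme.Hom.comp_apply, SymProd.permHom_π]
      exact h _
  have hxW : x ∈ W := by
    rw [hWmem]
    intro i
    exact hr2 _ (Finset.mem_image.2 ⟨i, Finset.mem_univ _, rfl⟩)
  -- saturation
  have hsat : q.base ⁻¹' (q.base '' (W : Set ↥(SymProd.fibPow f d))) = W := by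
    apply Set.Subset.antisymm
    · rintro z ⟨w, hw, hwz⟩
      obtain ⟨σ, hσ⟩ := Groth.Agent.Helper9.FinQuot.orbit hQ w z hwz
      have h1 : w ∈ (SymProd.permHom f d σ.down) ⁻¹ᵁ W := by rw [hstab]; exact hw
      have h2 : (SymProd.permHom f d σ.down) w ∈ W := h1
      have h3 : (SymProd.permHom f d σ.down) w = z := hσ
      rw [← h3]; exact h2
    · exact Set.subset_preimage_image _ _
  have hopen : IsOpen (q.base '' (W : Set ↥(SymProd.fibPow f d))) := by
    rw [← (Groth.Agent.Helper9.FinQuot.isQuotientMap hQ).isOpen_preimage, hsat]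
    exact W.isOpen
  let W' : Y.Opens := ⟨q.base '' (W : Set ↥(SymProd.fibPow f d)), hopen⟩
  have hpre : q ⁻¹ᵁ W' = W := by
    ext z
    show z ∈ q.base ⁻¹' (q.base '' (W : Set ↥(SymProd.fibPow f d))) ↔ z ∈ W
    rw [hsat]; rfl
  have hW'aff : IsAffineOpen W' := by
    have hinvU : ∀ σ : ULift.{u} (Equiv.Perm (Fin d)),
        q ⁻¹ᵁ W' ≤ ((SymProd.permActU f d) σ).hom ⁻¹ᵁ (q ⁻¹ᵁ W') :=
      fun σ => SGA1.preimage_le_of_inv _ q hQ.inv σ W'
    have hQ' := Groth.Agent.S13606.result (SymProd.permActU f d) q hQ W'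
      (Groth.Agent.Helper9.QuotAff.restrictAct (SymProd.permActU f d) (q ⁻¹ᵁ W') hinvU)
      (fun σ => Groth.Agent.Helper9.QuotAff.restrictAct_ι (SymProd.permActU f d) (q ⁻¹ᵁ W') hinvU σ)
    haveI : IsAffine (q ⁻¹ᵁ W').toScheme := by
      have : IsAffineOpen (q ⁻¹ᵁ W') := by rw [hpre]; exact hWaff
      exact this
    exact Groth.Agent.Helper9.QuotAff.isAffine_of_isQuot hQ'
  exact ⟨V, hV𝒮, X.basicOpen r, hU, hUV, W, hWcoe, hWaff, hstab, W',
    ⟨x, hxW, hx⟩, hW'aff, hpre⟩

end Groth.Agent.S13605
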