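import Groth.Statements.S13608
import Mathlib

set_option autoImplicit false
universe u v
open CAlg

namespace Groth.Agent.S13608

/-- Let A be a commutative ring, I a finitely generated ideal of A and (M_n) an inverse system of
A-modules with transition maps f_n : M_(n+1) → M_n such that I^(n+1) M_n = 0 for every n. If L is an
inverse limit of the system (projections π_n compatible with the f_n, jointly injective, and such
that every compatible family of elements lifts to L), then L is complete and separated for the
I-adic topology. No surjectivity of the transition maps is assumed. -/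
theorem result
    (A : Type u) [CommRing A] (I : Ideal A) (hI : I.FG)
    (M : ℕ → Type v) [∀ n, AddCommGroup (M n)] [∀ n, Module A (M n)]
    (f : ∀ n, M (n + 1) →ₗ[A] M n)
    (hkill : ∀ n, I ^ (n + 1) • (⊤ : Submodule A (M n)) = ⊥)
    (L : Type v) [AddCommGroup L] [Module A L] (π : ∀ n, L →ₗ[A] M n)
    (hπ : ∀ n, f n ∘ₗ π (n + 1) = π n)
    (hinj : ∀ x : L, (∀ n, π n x = 0) → x = 0)
    (hlift : ∀ y : (∀ n, M n), (∀ n, f n (y (n + 1)) = y n) → ∃ x : L, ∀ n, π n x = y n) :
    IsAdicComplete I L := by
  classical
  have hker : ∀ n, (I ^ (n + 1) • (⊤ : Submodule A L)) ≤ LinearMap.ker (π n) := by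
    intro n x hx
    rw [LinearMap.mem_ker]
    have h1 : π n x ∈ I ^ (n + 1) • (⊤ : Submodule A (M n)) := by
      have h2 := Submodule.mem_map_of_mem (f := π n) hx
      rw [Submodule.map_smul''] at h2
      exact Submodule.smul_mono le_rfl le_top h2
    rw [hkill n] at h1
    simpa using h1
  let P : Submodule A (∀ n, M n) :=
    { carrier := {y | ∀ n, f n (y (n + 1)) = y n}
      add_mem' := by
        intro a b ha hb n
        simp only [Pi.add_apply, map_add, ha n, hb n]
      zero_mem' := by
        intro n
        simp
      smul_mem' := by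
        intro c a ha n
        simp only [Pi.smul_apply, map_smul, ha n] }
  let Φ : L →ₗ[A] P := LinearMap.codRestrict P (LinearMap.pi π) (fun x n => by
    have := congrArg (fun g => g x) (hπ n)
    simpa using this)
  have hΦ : Function.Bijective Φ := by
    constructor
    · rw [← LinearMap.ker_eq_bot, LinearMap.ker_eq_bot']
      intro x hx
      apply hinj
      intro n
      have := congrArg (fun y : P => (y : ∀ n, M n) n) hx
      simpa [Φ] using this
    · rintro ⟨y, hy⟩
      obtain ⟨x, hx⟩ := hlift y hy
      refine ⟨x, ?_⟩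
      apply Subtype.ext
      funext n
      simpa [Φ] using hx n
  let e : L ≃ₗ[A] P := LinearEquiv.ofBijective Φ hΦ
  let πb : ∀ n, (L ⧸ (I ^ (n + 1) • (⊤ : Submodule A L))) →ₗ[A] M n := fun n =>
    Submodule.liftQ _ (π n) (hker n)
  let Ψ : AdicCompletion I L →ₗ[A] P := LinearMap.codRestrict P
    (LinearMap.pi fun n => (πb n) ∘ₗ AdicCompletion.eval I L (n + 1)) (fun x n => by
      change f n (πb (n + 1) (x.val (n + 1 + 1))) = πb n (x.val (n + 1))
      obtain ⟨z, hz⟩ := Submodule.mkQ_surjective _ (x.val (n + 1 + 1))
      have h1 : x.val (n + 1) = Submodule.mkQ _ z := by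
        rw [← AdicCompletion.transitionMap_comp_eval_apply I L (Nat.le_succ (n + 1)) x, ← hz]
        rfl
      rw [h1, ← hz]
      change f n (π (n + 1) z) = π n z
      have := congrArg (fun g => g z) (hπ n)
      simpa using this)
  let ρ : AdicCompletion I L →ₗ[A] L := e.symm.toLinearMap ∘ₗ Ψ
  have hρι : ∀ x, ρ (AdicCompletion.of I L x) = x := by
    intro x
    change e.symm (Ψ (AdicCompletion.of I L x)) = x
    rw [LinearEquiv.symm_apply_eq]
    apply Subtype.ext
    funext n
    rfl
  haveI : IsAdicComplete I (AdicCompletion I L) := AdicCompletion.isAdicComplete hI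
  have hρpow : ∀ n (w : AdicCompletion I L), w ∈ I ^ n • (⊤ : Submodule A (AdicCompletion I L)) →
      ρ w ∈ I ^ n • (⊤ : Submodule A L) := by
    intro n w hw
    have h2 := Submodule.mem_map_of_mem (f := ρ) hw
    rw [Submodule.map_smul''] at h2
    exact Submodule.smul_mono le_rfl le_top h2
  refine { toIsHausdorff := ?_, toIsPrecomplete := ?_ }
  · rw [← AdicCompletion.of_injective_iff]
    exact Function.LeftInverse.injective hρι
  · constructor
    intro g hg
    have hg' : ∀ {m n}, m ≤ n → AdicCompletion.of I L (g m) ≡ AdicCompletion.of I L (g n)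
        [SMOD (I ^ m • ⊤ : Submodule A (AdicCompletion I L))] := by
      intro m n hmn
      have h3 := hg hmn
      rw [SModEq.sub_mem] at h3 ⊢
      rw [← map_sub]
      have h2 := Submodule.mem_map_of_mem (f := AdicCompletion.of I L) h3
      rw [Submodule.map_smul''] at h2
      exact Submodule.smul_mono le_rfl le_top h2
    obtain ⟨y, hy⟩ := IsPrecomplete.prec (I := I) (M := AdicCompletion I L) inferInstance hg'
    refine ⟨ρ y, fun n => ?_⟩
    have h4 := hy n
    rw [SModEq.sub_mem] at h4 ⊢
    have h5 := hρpow n _ h4
    rwa [map_sub, hρι] at h5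

end Groth.Agent.S13608
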