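import Groth.Statements.S13609

set_option autoImplicit false
universe u v
open CAlg

namespace Groth.Agent.S13609

theorem map_pow_smul_top_le {A : Type*} [CommRing A] (I : Ideal A) {M N : Type*} [AddCommGroup M] [Module A M]
    [AddCommGroup N] [Module A N] (φ : M →ₗ[A] N) (n : ℕ) :
    (I ^ n • ⊤ : Submodule A M).map φ ≤ (I ^ n • ⊤ : Submodule A N) := by
  rw [Submodule.map_smul'']
  exact Submodule.smul_mono le_rfl le_top

theorem smodEq_map {A : Type*} [CommRing A] (I : Ideal A) {M N : Type*} [AddCommGroup M] [Module A M]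
    [AddCommGroup N] [Module A N] (φ : M →ₗ[A] N) (n : ℕ) {x y : M}
    (h : x ≡ y [SMOD (I ^ n • ⊤ : Submodule A M)]) :
    φ x ≡ φ y [SMOD (I ^ n • ⊤ : Submodule A N)] :=
  (h.map φ).mono (map_pow_smul_top_le I φ n)

theorem result (A : Type u) [CommRing A] (I : Ideal A)
    (M₁ M₂ : Type v) [AddCommGroup M₁] [Module A M₁] [AddCommGroup M₂] [Module A M₂]
    [IsAdicComplete I (M₁ × M₂)] : IsAdicComplete I M₁ := by
  refine { haus' := ?_, prec' := ?_ }
  · intro x hx
    have h0 : LinearMap.inl A M₁ M₂ x = 0 := by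
      apply IsHausdorff.haus (I := I) inferInstance
      intro n
      have := smodEq_map I (LinearMap.inl A M₁ M₂) n (hx n)
      rwa [map_zero] at this
    simpa using congrArg Prod.fst h0
  · intro f hf
    obtain ⟨L, hL⟩ := IsPrecomplete.prec (I := I) (M := M₁ × M₂) inferInstance
      (f := fun n => LinearMap.inl A M₁ M₂ (f n))
      (fun {m n} hmn => smodEq_map I (LinearMap.inl A M₁ M₂) m (hf hmn))
    refine ⟨L.1, fun n => ?_⟩
    simpa using smodEq_map I (LinearMap.fst A M₁ M₂) n (hL n)

end Groth.Agent.S13609
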