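import Groth.Statements.S13615
import Groth.Agent.Helper6.ModCJ
import Groth.Agent.Helper4.SuppB

set_option autoImplicit false
open CategoryTheory CategoryTheory.Limits AlgebraicGeometry Opposite
universe u
open EtModW

namespace Groth.Agent.S13615

/-- Let X be a Noetherian scheme, i : A → X a closed immersion and j : U → X an open immersion whose
images are complementary, Λ a Noetherian ring, I an ideal of Λ and F = (F_n) an inverse system of
constructible sheaves of Λ-modules on the small etale site of X with I^(n+1) F_n = 0 for all n. Then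
F is AR I-adic (receives a morphism with kernel and cokernel null up to translation from an I-adic
system of constructible sheaves) if and only if both restricted systems (j^* F_n)_n on U and (i^*
F_n)_n on A are AR I-adic in the same sense. -/
theorem result
    (Λ : Type (u + 1)) [CommRing Λ] [IsNoetherianRing Λ] (I : Ideal Λ)
    {X A U : Scheme.{u}} [IsNoetherian X] (i : A ⟶ X) [IsClosedImmersion i] (j : U ⟶ X) [IsOpenImmersion j]
    (hAU : Set.range (fun a => i.base a) = (Set.range (fun t => j.base t))ᶜ)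
    (F : ARSys.PS (EtModW.Mod Λ X)) (hc : ∀ n : ℕ, EtModW.IsConstructible Λ (F.obj (op n)))
    (hk : ARSys.TermKilled I F) :
    (ARSys.TermKilled I F ∧ ∃ (Y : ARSys.PS (EtModW.Mod Λ X)) (v : Y ⟶ F), ARSys.IsAdic I Y ∧ (∀ n : ℕ, EtModW.IsConstructible Λ (Y.obj (op n))) ∧ ARSys.IsARIso v) ↔
      ((ARSys.TermKilled I (F ⋙ EtModW.pull Λ j) ∧ ∃ (Y : ARSys.PS (EtModW.Mod Λ U)) (v : Y ⟶ (F ⋙ EtModW.pull Λ j)), ARSys.IsAdic I Y ∧ (∀ n : ℕ, EtModW.IsConstructible Λ (Y.obj (op n))) ∧ ARSys.IsARIso v) ∧ (ARSys.TermKilled I (F ⋙ EtModW.pull Λ i) ∧ ∃ (Y : ARSys.PS (EtModW.Mod Λ A)) (v : Y ⟶ (F ⋙ EtModW.pull Λ i)), ARSys.IsAdic I Y ∧ (∀ n : ℕ, EtModW.IsConstructible Λ (Y.obj (op n))) ∧ ARSys.IsARIso v)) := by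
  constructor
  · intro h
    exact ⟨Groth.Agent.Helper6.ModCJ.arc_pull Λ I j h, Groth.Agent.Helper6.ModCJ.arc_pull Λ I i h⟩
  · rintro ⟨hU, hA⟩
    refine Groth.Agent.Helper6.ModCJ.arc_of_family Λ I (ι := Bool)
      (fun b => Bool.rec A U b)
      (fun b => Bool.rec (motive := fun b => (Bool.rec A U b : Scheme.{u}) ⟶ X) i j b)
      ?_ F hc hk ?_
    · intro Ω _ _ ξ
      by_cases hx : ξ default ∈ Set.range (fun t => j.base t)
      · obtain ⟨t, ht⟩ := hx
        obtain ⟨l, hl⟩ := Groth.Agent.Helper4.SuppB.exists_lift_of_isImmersion j ξ t ht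
        exact ⟨true, l, hl⟩
      · have hx' : ξ default ∈ Set.range (fun a => i.base a) := by
          rw [hAU]
          exact hx
        obtain ⟨t, ht⟩ := hx'
        obtain ⟨l, hl⟩ := Groth.Agent.Helper4.SuppB.exists_lift_of_isImmersion i ξ t ht
        exact ⟨false, l, hl⟩
    · intro b
      cases b
      · exact hA
      · exact hU

end Groth.Agent.S13615
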