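import Groth.Statements.S13618
import Groth.Agent.Helper6.ModCF
import Groth.Agent.Helper6.ModCG
import Groth.Agent.Helper9.ARAbel

set_option autoImplicit false
open CategoryTheory CategoryTheory.Limits AlgebraicGeometry Opposite
universe u
open EtModW

namespace Groth.Agent.S13618

/-- For a Noetherian scheme X, a Noetherian coefficient ring Λ and an ideal I of Λ, let w : F → G be a
morphism between I-adic inverse systems of constructible sheaves of Λ-modules on the small etale
site of X. Then the kernel and the cokernel of w in the abelian category of inverse systems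
(computed termwise) are AR I-adic: I^(n+1) kills their n-th terms and each receives a morphism with
kernel and cokernel null up to translation from an I-adic system of constructible sheaves.
Consequently AR I-adic systems form an abelian subcategory of the category of systems up to
translation. (The published statement is for objects isomorphic up to translation to I-adic systems
and morphisms up to translation; its argument first reduces to I-adic systems and a genuine morphism
of systems, the case stated here.) -/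
theorem result
    (Λ : Type (u + 1)) [CommRing Λ] [IsNoetherianRing Λ] (I : Ideal Λ)
    {X : Scheme.{u}} [IsNoetherian X]
    (F G : ARSys.PS (EtModW.Mod Λ X)) (hF : ARSys.IsAdic I F) (hG : ARSys.IsAdic I G)
    (hFc : ∀ n : ℕ, EtModW.IsConstructible Λ (F.obj (op n)))
    (hGc : ∀ n : ℕ, EtModW.IsConstructible Λ (G.obj (op n))) (w : F ⟶ G) :
    (ARSys.TermKilled I (kernel w) ∧ ∃ (Y : ARSys.PS (EtModW.Mod Λ X)) (v : Y ⟶ (kernel w)), ARSys.IsAdic I Y ∧ (∀ n : ℕ, EtModW.IsConstructible Λ (Y.obj (op n))) ∧ ARSys.IsARIso v) ∧ (ARSys.TermKilled I (cokernel w) ∧ ∃ (Y : ARSys.PS (EtModW.Mod Λ X)) (v : Y ⟶ (cokernel w)), ARSys.IsAdic I Y ∧ (∀ n : ℕ, EtModW.IsConstructible Λ (Y.obj (op n))) ∧ ARSys.IsARIso v) := by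
  have hJ : I.FG := IsNoetherian.noetherian I
  have hFN : ARSys.IsARAdicNoeth I F :=
    Groth.Agent.Helper9.ARAbel.arAdicNoeth_of_adicNoeth I
      ⟨hF, fun n => Groth.Agent.Helper6.ModCF.isNoetherianObject_of_isConstructible Λ _ (hFc n)⟩
  have hGN : ARSys.IsARAdicNoeth I G :=
    Groth.Agent.Helper9.ARAbel.arAdicNoeth_of_adicNoeth I
      ⟨hG, fun n => Groth.Agent.Helper6.ModCF.isNoetherianObject_of_isConstructible Λ _ (hGc n)⟩
  obtain ⟨hK, hC⟩ := Groth.Agent.Helper9.ARKerCoker.S3163 I w hFN hGN
  have key : ∀ {X' Y : ARSys.PS (EtModW.Mod Λ X)} (u : Y ⟶ X'), ARSys.IsAdic I Y → ARSys.IsARIso u →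
      (∀ n : ℕ, EtModW.IsConstructible Λ (X'.obj (op n))) →
      ∀ n : ℕ, EtModW.IsConstructible Λ (Y.obj (op n)) := by
    intro X' Y' u hY hu hX' n
    exact Groth.Agent.Helper6.ModCG.prop_of_model I (Or.inl hJ)
      (fun S => EtModW.IsConstructible Λ S)
      (fun i _ h => Groth.Agent.Helper6.ModCE.isConstructible_of_mono Λ i h)
      (fun q _ h => Groth.Agent.Helper6.ModCE.isConstructible_of_epi Λ q h) u hY hu hX' n
  constructor
  · obtain ⟨⟨kK, Y, u, hY, hu⟩, -⟩ := hK
    refine ⟨kK, Y, u, hY, key u hY hu ?_, hu⟩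
    intro k
    have := Groth.Agent.Helper9.ARSysML.ker_mono w (op k)
    exact Groth.Agent.Helper6.ModCE.isConstructible_of_mono Λ ((kernel.ι w).app (op k)) (hFc k)
  · obtain ⟨⟨kC, Y, u, hY, hu⟩, -⟩ := hC
    refine ⟨kC, Y, u, hY, key u hY hu ?_, hu⟩
    intro k
    have := Groth.Agent.Helper9.ARSysML.coker_epi w (op k)
    exact Groth.Agent.Helper6.ModCE.isConstructible_of_epi Λ ((cokernel.π w).app (op k)) (hGc k)

end Groth.Agent.S13618
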