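import Groth.Statements.S13620
import Groth.Agent.Helper4.ModStalk
import Groth.Agent.Helper4.ARLim
import Groth.Agent.Helper4.AdicKer
import Mathlib

set_option autoImplicit false
open CategoryTheory CategoryTheory.Limits AlgebraicGeometry Opposite
universe u
open EtModW

namespace Groth.Agent.S13620


/-- For a Noetherian scheme X, a Noetherian coefficient ring Λ and an ideal I of Λ, let F = (F_n) be an
inverse system of sheaves of Λ-modules on the small etale site of X which is AR I-adic (I^(n+1) F_n
= 0 for all n, and F receives a morphism with kernel and cokernel null up to translation from an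
I-adic system of constructible sheaves). Then F is null up to translation if and only if for every
geometric point x of X the limit of the stalk system, lim_n F_n,x, is the zero module. (The
published lemma assumes Λ I-adically complete, which only its first assertion uses; this row states
the second assertion without it.) -/
theorem result
    (Λ : Type (u + 1)) [CommRing Λ] [IsNoetherianRing Λ] (I : Ideal Λ)
    {X : Scheme.{u}} [IsNoetherian X]
    (F : ARSys.PS (EtModW.Mod Λ X))
    (hF : (ARSys.TermKilled I F ∧ ∃ (Y : ARSys.PS (EtModW.Mod Λ X)) (v : Y ⟶ F), ARSys.IsAdic I Y ∧ (∀ n : ℕ, EtModW.IsConstructible Λ (Y.obj (op n))) ∧ ARSys.IsARIso v)) :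
    ARSys.IsARNull F ↔
      ∀ (Ω : Type u) [Field Ω] [IsSepClosed Ω] (x : Spec (CommRingCat.of Ω) ⟶ X),
        IsZero (limit (F ⋙ EtModW.stalk Λ x)) := by

  haveI := Groth.Agent.Helper4.ModStalk.ab5_mod.{u} Λ
  haveI := Groth.Agent.Helper4.ModStalk.hasLimits_mod.{u} Λ
  constructor
  · intro h Ω _ _ x
    exact Groth.Agent.Helper4.ARLim.isZero_limit_of_isARNull _
      (Groth.Agent.Helper4.ARFunctor.isARNull_comp (EtModW.stalk Λ x) h)
  · intro h
    obtain ⟨hk, Y, v, hY, hYc, hv⟩ := hF
    have hYz : ∀ n : ℕ, IsZero (Y.obj (op n)) := by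
      intro n
      apply Groth.Agent.Helper4.ModStalk.isZero_of_stalksM
      intro Ω _ _ x
      have hvx := Groth.Agent.Helper4.ARFunctor.isARIso_whiskerRight (EtModW.stalk Λ x) v hv
      haveI : Mono (limMap (Functor.whiskerRight v (EtModW.stalk Λ x))) :=
        Groth.Agent.Helper4.ARLim.mono_limMap_of_isARNull_kernel _ hvx.1
      have hz : IsZero (limit (Y ⋙ EtModW.stalk Λ x)) :=
        IsZero.of_mono (limMap (Functor.whiskerRight v (EtModW.stalk Λ x))) (h Ω x)
      refine Groth.Agent.Helper4.ARLim.isZero_of_isZero_limit Λ (Y ⋙ EtModW.stalk Λ x) ?_ hz n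
      intro m
      haveI : Epi (ARSys.tr Y (Nat.le_succ m)) :=
        Groth.Agent.Helper4.AdicKer.epi_of_isQuot _ (hY.2 m (m + 1) (Nat.le_succ m))
      have : Epi ((EtModW.stalk Λ x).map (ARSys.tr Y (Nat.le_succ m))) := inferInstance
      exact (ModuleCat.epi_iff_surjective _).1 this
    have hv0 : v = 0 := by
      apply NatTrans.ext
      funext n
      exact (hYz n.unop).eq_of_src _ _
    subst hv0
    exact Groth.Agent.Helper4.ARFunctor.isARNull_of_iso cokernelZeroIsoTarget hv.2

end Groth.Agent.S13620
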