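import Groth.Statements.S13621
import Mathlib

set_option autoImplicit false
open CategoryTheory CategoryTheory.Limits Opposite
universe v u
open ARSys

namespace Groth.Agent.S13621

theorem exists_v {C : Type u} [Category.{v} C] [Abelian C] {X2 X1 X0 Y2 Y1 Y0 : C}
    (u2 : X2 ⟶ Y2) (u1 : X1 ⟶ Y1) (u0 : X0 ⟶ Y0) (x21 : X2 ⟶ X1) (x10 : X1 ⟶ X0)
    (y21 : Y2 ⟶ Y1) (y10 : Y1 ⟶ Y0)
    (c21 : x21 ≫ u1 = u2 ≫ y21) (c10 : x10 ≫ u0 = u1 ≫ y10)
    (P1 : ∀ (T : C) (t : T ⟶ X1), t ≫ u1 = 0 → t ≫ x10 = 0)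
    (P2 : ∀ (T : C) (t : Y1 ⟶ T), u1 ≫ t = 0 → y21 ≫ t = 0) :
    ∃ w : Y2 ⟶ X0, u2 ≫ w = x21 ≫ x10 ∧ w ≫ u0 = y21 ≫ y10 := by
  have h2 : y21 ≫ cokernel.π u1 = 0 := P2 _ _ (cokernel.condition u1)
  let a : Y2 ⟶ Abelian.image u1 := kernel.lift (cokernel.π u1) y21 h2
  have ha : a ≫ Abelian.image.ι u1 = y21 := kernel.lift_ι _ _ _
  have h1 : kernel.ι u1 ≫ x10 = 0 := P1 _ _ (kernel.condition u1)
  let b : Abelian.coimage u1 ⟶ X0 := cokernel.desc (kernel.ι u1) x10 h1
  have hb : Abelian.coimage.π u1 ≫ b = x10 := cokernel.π_desc _ _ _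
  let e := Abelian.coimageImageComparison u1
  have he : Abelian.coimage.π u1 ≫ e ≫ Abelian.image.ι u1 = u1 :=
    Abelian.coimage_image_factorisation u1
  refine ⟨a ≫ inv e ≫ b, ?_, ?_⟩
  · have h3 : u2 ≫ a = x21 ≫ Abelian.coimage.π u1 ≫ e := by
      rw [← cancel_mono (Abelian.image.ι u1)]
      simp only [Category.assoc]
      rw [ha, he, c21]
    rw [← Category.assoc, h3]
    simp only [Category.assoc, IsIso.hom_inv_id_assoc]
    rw [hb]
  · have h4 : b ≫ u0 = e ≫ Abelian.image.ι u1 ≫ y10 := by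
      rw [← cancel_epi (Abelian.coimage.π u1)]
      rw [← Category.assoc, hb, c10, ← Category.assoc, ← Category.assoc, Category.assoc _ e, he]
    simp only [Category.assoc]
    rw [h4, IsIso.inv_hom_id_assoc, ← Category.assoc, ha]

theorem tr_comp {C : Type u} [Category.{v} C] (X : ARSys.PS C) {n m k : ℕ} (h₁ : n ≤ m) (h₂ : m ≤ k) :
    ARSys.tr X h₂ ≫ ARSys.tr X h₁ = ARSys.tr X (h₁.trans h₂) := by
  unfold ARSys.tr
  rw [← X.map_comp]
  rfl

theorem tr_nat {C : Type u} [Category.{v} C] {X Y : ARSys.PS C} (u : X ⟶ Y) {n m : ℕ} (h : n ≤ m) :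
    ARSys.tr X h ≫ u.app (op n) = u.app (op m) ≫ ARSys.tr Y h := by
  unfold ARSys.tr
  exact u.naturality _

theorem P1 {C : Type u} [Category.{v} C] [Abelian C] {X Y : ARSys.PS C} (u : X ⟶ Y) (r : ℕ)
    (hr : ∀ n : ℕ, ARSys.shiftMap (kernel u) r n = 0) (n : ℕ) (T : C)
    (t : T ⟶ X.obj (op (n + r))) (ht : t ≫ u.app (op (n + r)) = 0) :
    t ≫ ARSys.tr X (Nat.le_add_right n r) = 0 := by
  have hc : IsLimit (KernelFork.ofι (kernel.ι u) (kernel.condition u)) := kernelIsKernel u
  have hc' := KernelFork.mapIsLimit _ hc ((evaluation ℕᵒᵖ C).obj (op (n + r)))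
  let s : KernelFork (((evaluation ℕᵒᵖ C).obj (op (n + r))).map u) := KernelFork.ofι t ht
  let l : T ⟶ (kernel u).obj (op (n + r)) := hc'.lift s
  have hl : l ≫ (kernel.ι u).app (op (n + r)) = t := hc'.fac s WalkingParallelPair.zero
  have hnat : (kernel u).map (homOfLE (Nat.le_add_right n r)).op ≫ (kernel.ι u).app (op n)
      = (kernel.ι u).app (op (n + r)) ≫ X.map (homOfLE (Nat.le_add_right n r)).op :=
    (kernel.ι u).naturality (homOfLE (Nat.le_add_right n r)).op
  have h0 : (kernel u).map (homOfLE (Nat.le_add_right n r)).op = 0 := hr n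
  calc t ≫ ARSys.tr X (Nat.le_add_right n r)
      = (l ≫ (kernel.ι u).app (op (n + r))) ≫ X.map (homOfLE (Nat.le_add_right n r)).op := by
        rw [hl]
    _ = l ≫ (kernel u).map (homOfLE (Nat.le_add_right n r)).op ≫ (kernel.ι u).app (op n) := by
        rw [Category.assoc, hnat]
    _ = 0 := by rw [h0, zero_comp, comp_zero]

theorem P2 {C : Type u} [Category.{v} C] [Abelian C] {X Y : ARSys.PS C} (u : X ⟶ Y) (r : ℕ)
    (hr : ∀ n : ℕ, ARSys.shiftMap (cokernel u) r n = 0) (n : ℕ) (T : C)
    (t : Y.obj (op n) ⟶ T) (ht : u.app (op n) ≫ t = 0) :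
    ARSys.tr Y (Nat.le_add_right n r) ≫ t = 0 := by
  have hc : IsColimit (CokernelCofork.ofπ (cokernel.π u) (cokernel.condition u)) :=
    cokernelIsCokernel u
  have hc' := CokernelCofork.mapIsColimit _ hc ((evaluation ℕᵒᵖ C).obj (op n))
  let s : CokernelCofork (((evaluation ℕᵒᵖ C).obj (op n)).map u) := CokernelCofork.ofπ t ht
  let l : (cokernel u).obj (op n) ⟶ T := hc'.desc s
  have hl : (cokernel.π u).app (op n) ≫ l = t := hc'.fac s WalkingParallelPair.one
  have hnat : Y.map (homOfLE (Nat.le_add_right n r)).op ≫ (cokernel.π u).app (op n)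
      = (cokernel.π u).app (op (n + r)) ≫ (cokernel u).map (homOfLE (Nat.le_add_right n r)).op :=
    (cokernel.π u).naturality (homOfLE (Nat.le_add_right n r)).op
  have h0 : (cokernel u).map (homOfLE (Nat.le_add_right n r)).op = 0 := hr n
  calc ARSys.tr Y (Nat.le_add_right n r) ≫ t
      = Y.map (homOfLE (Nat.le_add_right n r)).op ≫ (cokernel.π u).app (op n) ≫ l := by
        rw [hl]
    _ = ((cokernel.π u).app (op (n + r)) ≫ (cokernel u).map (homOfLE (Nat.le_add_right n r)).op) ≫ l := by
        rw [← Category.assoc, hnat]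
    _ = 0 := by rw [h0, comp_zero, zero_comp]

/-- The inverse limit is a well-defined functor on projective systems up to translation. Concretely: in
an abelian category with limits of shape ℕᵒᵖ, a morphism u : X ⟶ Y of projective systems indexed by
the natural numbers whose kernel and cokernel are null up to translation induces an isomorphism lim
X ⟶ lim Y. (The published statement is the functoriality of lim on the category of systems up to
translation; combined with the description of isomorphisms there as the morphisms with null kernel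
and cokernel, this is the form stated.) -/
theorem result {C : Type u} [Category.{v} C] [Abelian C] [HasLimitsOfShape ℕᵒᵖ C]
    {X Y : ARSys.PS C} (u : X ⟶ Y) (hu : ARSys.IsARIso u) : IsIso (limMap u) := by
  obtain ⟨⟨r, hr⟩, ⟨r', hr'⟩⟩ := hu
  -- v_n : Y_{n + r + r'} ⟶ X_n
  have hv : ∀ n : ℕ, ∃ w : Y.obj (op (n + r + r')) ⟶ X.obj (op n),
      u.app (op (n + r + r')) ≫ w = ARSys.tr X (show n ≤ n + r + r' by omega) ∧
      w ≫ u.app (op n) = ARSys.tr Y (show n ≤ n + r + r' by omega) := by
    intro n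
    obtain ⟨w, h1, h2⟩ := exists_v (u.app (op (n + r + r'))) (u.app (op (n + r))) (u.app (op n))
      (ARSys.tr X (Nat.le_add_right (n + r) r')) (ARSys.tr X (Nat.le_add_right n r))
      (ARSys.tr Y (Nat.le_add_right (n + r) r')) (ARSys.tr Y (Nat.le_add_right n r))
      (tr_nat u _) (tr_nat u _)
      (fun T t ht => P1 u r hr n T t ht)
      (fun T t ht => P2 u r' hr' (n + r) T t ht)
    refine ⟨w, ?_, ?_⟩
    · rw [h1, tr_comp]
    · rw [h2, tr_comp]
  choose vv hv1 hv2 using hv
  -- the cone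
  let cc : ∀ n : ℕ, limit Y ⟶ X.obj (op n) := fun n =>
    limit.π Y (op (n + r + r + r')) ≫ vv (n + r) ≫ ARSys.tr X (Nat.le_add_right n r)
  have hcc : ∀ n : ℕ, cc n ≫ u.app (op n) = limit.π Y (op n) := by
    intro n
    simp only [cc, Category.assoc]
    rw [tr_nat u, ← Category.assoc (vv (n + r)), hv2, tr_comp]
    exact limit.w Y (homOfLE (show n ≤ n + r + r + r' by omega)).op
  have hcone : ∀ (n m : ℕ) (h : n ≤ m), cc m ≫ ARSys.tr X h = cc n := by
    intro n m h
    have hh : n + r ≤ m + r := by omega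
    let δ : limit Y ⟶ X.obj (op (n + r)) :=
      limit.π Y (op (m + r + r + r')) ≫ vv (m + r) ≫ ARSys.tr X hh
        - limit.π Y (op (n + r + r + r')) ≫ vv (n + r)
    have hδ : δ ≫ u.app (op (n + r)) = 0 := by
      simp only [δ, Preadditive.sub_comp, Category.assoc]
      rw [tr_nat u, ← Category.assoc (vv (m + r)), hv2, tr_comp, hv2, sub_eq_zero]
      erw [limit.w Y (homOfLE (show n + r ≤ m + r + r + r' by omega)).op,
        limit.w Y (homOfLE (show n + r ≤ n + r + r + r' by omega)).op]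
    have h0 := P1 u r hr n _ δ hδ
    simp only [δ, Preadditive.sub_comp, Category.assoc, sub_eq_zero] at h0
    simp only [cc, Category.assoc]
    rw [tr_comp, ← h0, tr_comp]
  let cone : Cone X :=
    { pt := limit Y
      π := { app := fun n => cc n.unop
             naturality := by
               intro a b φ
               simp only [Functor.const_obj_obj, Functor.const_obj_map, Category.id_comp]
               have hle : b.unop ≤ a.unop := leOfHom φ.unop
               have := hcone b.unop a.unop hle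
               rw [← this]
               rfl } }
  let w : limit Y ⟶ limit X := limit.lift X cone
  have hw : ∀ n : ℕ, w ≫ limit.π X (op n) = cc n := fun n => limit.lift_π cone (op n)
  refine ⟨⟨w, ?_, ?_⟩⟩
  · apply limit.hom_ext
    rintro ⟨n⟩
    rw [Category.assoc, hw, Category.id_comp]
    simp only [cc]
    rw [← Category.assoc, limMap_π, Category.assoc, ← Category.assoc (u.app _), hv1, tr_comp]
    exact limit.w X (homOfLE (show n ≤ n + r + r + r' by omega)).op
  · apply limit.hom_ext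
    rintro ⟨n⟩
    rw [Category.assoc, limMap_π, ← Category.assoc, hw, hcc, Category.id_comp]

end Groth.Agent.S13621
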