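import Groth.Statements.S13622
import Mathlib
import Groth.Agent.S13608

set_option autoImplicit false
universe u v
open CAlg

namespace Groth.Agent.S13622

open Pointwise

theorem exists_seq : ∀ (k : ℕ) (M : ℕ → Type v) (f : ∀ n, M (n + 1) → M n)
    (_ : ∀ n, Function.Surjective (f n)) (m : M k),
    ∃ y : ∀ j, M j, (∀ j, f j (y (j + 1)) = y j) ∧ y k = m
  | 0, M, f, hf, m =>
    ⟨fun j => Nat.rec (motive := M) m (fun k yk => Classical.choose (hf k yk)) j,
      fun j => Classical.choose_spec (hf j _), rfl⟩
  | k + 1, M, f, hf, m => by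
    obtain ⟨y', hy', hm⟩ := exists_seq k (fun j => M (j + 1)) (fun j => f (j + 1))
      (fun j => hf (j + 1)) m
    refine ⟨fun j => Nat.casesOn (motive := M) j (f 0 (y' 0)) (fun j => y' j), ?_, hm⟩
    intro j
    cases j with
    | zero => rfl
    | succ j => exact hy' j

/-- Let A be a commutative ring, I a finitely generated ideal and (M_n) an inverse system of finitely
generated A-modules whose transition maps f_n : M_(n+1) → M_n are surjective with kernel I^(n+1)
M_(n+1), and with I^(n+1) M_n = 0 for all n. If L is an inverse limit of the system (projections π_n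
compatible with the f_n, jointly injective, every compatible family lifting to L), endowed with a
module structure over the I-adic completion A^ of A that is compatible with its A-module structure,
then L is finitely generated as an A^-module. No completeness of A is assumed. -/
theorem result
    (A : Type u) [CommRing A] (I : Ideal A) (hI : I.FG)
    (M : ℕ → Type v) [∀ n, AddCommGroup (M n)] [∀ n, Module A (M n)] [∀ n, Module.Finite A (M n)]
    (f : ∀ n, M (n + 1) →ₗ[A] M n) (hf : ∀ n, Function.Surjective (f n))
    (hker : ∀ n, LinearMap.ker (f n) = I ^ (n + 1) • (⊤ : Submodule A (M (n + 1))))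
    (hkill : ∀ n, I ^ (n + 1) • (⊤ : Submodule A (M n)) = ⊥)
    (L : Type v) [AddCommGroup L] [Module A L] (π : ∀ n, L →ₗ[A] M n)
    (hπ : ∀ n, f n ∘ₗ π (n + 1) = π n)
    (hinj : ∀ x : L, (∀ n, π n x = 0) → x = 0)
    (hlift : ∀ y : (∀ n, M n), (∀ n, f n (y (n + 1)) = y n) → ∃ x : L, ∀ n, π n x = y n)
    [Module (AdicCompletion I A) L] [IsScalarTower A (AdicCompletion I A) L] :
    Module.Finite (AdicCompletion I A) L := by
  classical
  haveI hcomp : IsAdicComplete I L :=
    Groth.Agent.S13608.result A I hI M f hkill L π hπ hinj hlift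
  have hI' : I.FG := hI
  -- π n surjective
  have hπsurj : ∀ n, Function.Surjective (π n) := by
    intro n m
    obtain ⟨y, hy, hm⟩ := exists_seq n M (fun k => f k) hf m
    obtain ⟨x, hx⟩ := hlift y hy
    exact ⟨x, by rw [hx, hm]⟩
  have hkerle : ∀ n, (I ^ (n + 1) • (⊤ : Submodule A L)) ≤ LinearMap.ker (π n) := by
    intro n x hx
    rw [LinearMap.mem_ker]
    have h1 : π n x ∈ I ^ (n + 1) • (⊤ : Submodule A (M n)) := by
      have h2 := Submodule.mem_map_of_mem (f := π n) hx
      rw [Submodule.map_smul''] at h2
      exact Submodule.smul_mono le_rfl le_top h2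
    rw [hkill n] at h1
    simpa using h1
  have hkermono : ∀ n, LinearMap.ker (π (n + 1)) ≤ LinearMap.ker (π n) := by
    intro n x hx
    rw [LinearMap.mem_ker] at hx ⊢
    rw [← hπ n, LinearMap.comp_apply, hx, map_zero]
  obtain ⟨S, hS⟩ := hI
  -- step
  have hstep : ∀ n (x : L), x ∈ LinearMap.ker (π n) → ∃ c : A → L,
      (∀ r, c r ∈ I ^ n • (⊤ : Submodule A L)) ∧
        x - ∑ r ∈ S, r • c r ∈ LinearMap.ker (π (n + 1)) := by
    intro n x hx
    have h1 : π (n + 1) x ∈ I ^ (n + 1) • (⊤ : Submodule A (M (n + 1))) := by
      rw [← hker n, LinearMap.mem_ker, ← LinearMap.comp_apply, hπ n]; exact hx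
    have h2 : I ^ (n + 1) • (⊤ : Submodule A (M (n + 1)))
        = Submodule.map (π (n + 1)) (I ^ (n + 1) • (⊤ : Submodule A L)) := by
      rw [Submodule.map_smul'', Submodule.map_top, LinearMap.range_eq_top.mpr (hπsurj (n + 1))]
    rw [h2] at h1
    obtain ⟨z, hz, hzx⟩ := h1
    have h3 : z ∈ (S : Set A) • (I ^ n • (⊤ : Submodule A L)) := by
      rw [← Submodule.span_smul_eq]
      change z ∈ (Ideal.span (S : Set A)) • (I ^ n • (⊤ : Submodule A L))
      rw [hS, ← mul_smul, ← pow_succ']; exact hz
    rw [Submodule.mem_set_smul] at h3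
    obtain ⟨c, hc, hzc⟩ := h3
    refine ⟨fun r => (c r : L), fun r => (c r).2, ?_⟩
    have h4 : z = ∑ r ∈ S, r • (c r : L) := by
      rw [hzc, Finsupp.sum, Submodule.coe_sum]
      simp only [Submodule.coe_smul]
      apply Finset.sum_subset (by exact_mod_cast hc)
      intro r _ hr
      rw [Finsupp.notMem_support_iff] at hr
      rw [hr]; simp
    rw [← h4, LinearMap.mem_ker, map_sub, hzx, sub_self]
  -- kernel of π 0
  have hker0 : LinearMap.ker (π 0) ≤ I • (⊤ : Submodule A L) := by
    intro x0 hx0
    choose! c hc1 hc2 using hstep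
    let X : ℕ → L := fun n => Nat.rec x0 (fun n xn => xn - ∑ r ∈ S, r • c n xn r) n
    have hXs : ∀ n, X (n + 1) = X n - ∑ r ∈ S, r • c n (X n) r := fun n => rfl
    have hX : ∀ n, X n ∈ LinearMap.ker (π n) := by
      intro n
      induction n with
      | zero => exact hx0
      | succ n ih => rw [hXs]; exact hc2 n (X n) ih
    let C : ℕ → A → L := fun n r => c n (X n) r
    have hC : ∀ n r, C n r ∈ I ^ n • (⊤ : Submodule A L) := fun n r => hc1 n (X n) (hX n) r
    have hcompat : ∀ r : A, ∀ n, f n (π (n + 1) (∑ k ∈ Finset.range (n + 1 + 1), C k r))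
        = π n (∑ k ∈ Finset.range (n + 1), C k r) := by
      intro r n
      rw [← LinearMap.comp_apply, hπ n, Finset.sum_range_succ _ (n + 1), map_add]
      have : π n (C (n + 1) r) = 0 := hkerle n (hC (n + 1) r)
      rw [this, add_zero]
    choose W hW using fun r : A => hlift (fun n => π n (∑ k ∈ Finset.range (n + 1), C k r)) (hcompat r)
    have htele : ∀ n, x0 - ∑ r ∈ S, r • ∑ k ∈ Finset.range n, C k r = X n := by
      intro n
      induction n with
      | zero => simp [X]
      | succ n ih =>
        have hCn : ∀ r, c n (X n) r = C n r := fun r => rfl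
        rw [hXs]
        simp only [hCn]
        rw [← ih]
        simp only [Finset.sum_range_succ, smul_add, Finset.sum_add_distrib]
        abel
    have hx0eq : x0 = ∑ r ∈ S, r • W r := by
      rw [← sub_eq_zero]
      apply hinj
      intro n
      rw [map_sub, map_sum]
      simp only [map_smul, hW]
      have h5 := congrArg (π n) (htele (n + 1))
      rw [map_sub, map_sum] at h5
      simp only [map_smul] at h5
      rw [h5]
      exact hkermono n (hX (n + 1))
    rw [hx0eq]
    apply Submodule.sum_mem
    intro r hr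
    apply Submodule.smul_mem_smul _ Submodule.mem_top
    rw [← hS]
    exact Ideal.subset_span hr
  obtain ⟨r, G, hG⟩ := Module.Finite.exists_fin (R := A) (M := M 0)
  choose lft hlft using hπsurj 0
  let g : (Fin r → AdicCompletion I A) →ₗ[AdicCompletion I A] L :=
    Fintype.linearCombination (AdicCompletion I A) (fun i : Fin r => lft (G i))
  let e := AdicCompletion.piEquivFin I (R := A) r
  let F : AdicCompletion I (Fin r → A) →ₗ[A] L := (g ∘ₗ e.toLinearMap).restrictScalars A
  haveI : IsPrecomplete I (AdicCompletion I (Fin r → A)) :=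
    (AdicCompletion.isAdicComplete (M := Fin r → A) hI').toIsPrecomplete
  have hFsurj : Function.Surjective F := by
    apply surjective_of_mkQ_comp_surjective (I := I) (f := F)
    intro ybar
    obtain ⟨y, rfl⟩ := Submodule.mkQ_surjective _ ybar
    have hy : π 0 y ∈ Submodule.span A (Set.range G) := by rw [hG]; trivial
    rw [Submodule.mem_span_range_iff_exists_fun] at hy
    obtain ⟨a, ha⟩ := hy
    refine ⟨e.symm (fun i => algebraMap A (AdicCompletion I A) (a i)), ?_⟩
    have hF : F (e.symm (fun i => algebraMap A (AdicCompletion I A) (a i)))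
        = ∑ i, a i • lft (G i) := by
      change g (e (e.symm _)) = _
      rw [LinearEquiv.apply_symm_apply, Fintype.linearCombination_apply]
      apply Finset.sum_congr rfl
      intro i _
      rw [algebraMap_smul]
    rw [LinearMap.comp_apply, hF]
    change Submodule.Quotient.mk _ = Submodule.Quotient.mk _
    rw [Submodule.Quotient.eq]
    apply hker0
    rw [LinearMap.mem_ker, map_sub, map_sum]
    simp only [map_smul, hlft]
    rw [ha, sub_self]
  have hgsurj : Function.Surjective g := by
    intro y
    obtain ⟨m, hm⟩ := hFsurj y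
    exact ⟨e m, hm⟩
  exact Module.Finite.of_surjective g hgsurj

end Groth.Agent.S13622
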