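import Groth.Statements.S13623
import Mathlib

set_option autoImplicit false
universe u
open TensorProduct
open CAlg

namespace Groth.Agent.S13623

theorem exists_maximal_smul_ne_top {A : Type u} [CommRing A] {Q : Type u} [AddCommGroup Q] [Module A Q]
    [Module.Finite A Q] [Nontrivial Q] :
    ∃ 𝔪 : Ideal A, 𝔪.IsMaximal ∧ 𝔪 • (⊤ : Submodule A Q) ≠ ⊤ := by
  have hann : Module.annihilator A Q ≠ ⊤ := by
    intro h
    have h1 : (1 : A) ∈ Module.annihilator A Q := by rw [h]; trivial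
    rw [Module.mem_annihilator] at h1
    obtain ⟨x, y, hxy⟩ := exists_pair_ne Q
    apply hxy
    rw [← one_smul A x, ← one_smul A y, h1, h1]
  obtain ⟨𝔪, hmax, hle⟩ := Ideal.exists_le_maximal _ hann
  refine ⟨𝔪, hmax, fun htop => ?_⟩
  obtain ⟨r, hr1, hr2⟩ := Submodule.exists_sub_one_mem_and_smul_eq_zero_of_fg_of_le_smul 𝔪
    (⊤ : Submodule A Q) Module.Finite.fg_top htop.ge
  have hr : r ∈ 𝔪 := hle (by
    rw [Module.mem_annihilator]
    intro q
    exact hr2 q trivial)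
  apply hmax.ne_top
  rw [Ideal.eq_top_iff_one]
  have := 𝔪.sub_mem hr hr1
  simpa using this

/-- Let A be a commutative ring and B a commutative A-algebra, graded by A-submodules B_m (m ≥ 0)
forming a graded-algebra structure, such that every B_m is a finitely generated A-module. If for
every algebraically closed field k and every A-algebra structure on k the k-algebra k ⊗_A B is
generated by the image of B_1 under b ↦ 1 ⊗ b, then its degree-one part B_1 generates the A-algebra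
B. (Algebraically closed fields are taken in the universe of A.) -/
theorem result
    (A : Type u) [CommRing A] (B : Type u) [CommRing B] [Algebra A B]
    (𝒜 : ℕ → Submodule A B) [GradedAlgebra 𝒜]
    (hfin : ∀ m : ℕ, Module.Finite A (𝒜 m))
    (hgen : ∀ (k : Type u) [Field k] [IsAlgClosed k] [Algebra A k],
      Algebra.adjoin k ((Algebra.TensorProduct.includeRight : B →ₐ[A] k ⊗[A] B) '' (𝒜 1 : Set B)) = ⊤) :
    Algebra.adjoin A (𝒜 1 : Set B) = ⊤ := by
  classical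
  -- the subalgebra generated in degree one
  have hproj : ∀ (m : ℕ) (y : B), y ∈ Algebra.adjoin A (𝒜 1 : Set B) →
      ((DirectSum.decompose 𝒜 y m : 𝒜 m) : B) ∈ Algebra.adjoin A (𝒜 1 : Set B) := by
    intro m y hy
    have hmono : ∀ w ∈ Submonoid.closure (𝒜 1 : Set B), ∃ j, w ∈ 𝒜 j := by
      intro w hw
      induction hw using Submonoid.closure_induction with
      | mem x hx => exact ⟨1, hx⟩
      | one => exact ⟨0, SetLike.GradedOne.one_mem⟩
      | mul x y _ _ hx hy =>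
        obtain ⟨i, hi⟩ := hx
        obtain ⟨j, hj⟩ := hy
        exact ⟨i + j, SetLike.GradedMul.mul_mem hi hj⟩
    let P : B →ₗ[A] B := (𝒜 m).subtype ∘ₗ (DirectSum.component A ℕ (fun i => 𝒜 i) m) ∘ₗ
      (DirectSum.decomposeLinearEquiv 𝒜).toLinearMap
    have hP : ∀ z, P z = ((DirectSum.decompose 𝒜 z m : 𝒜 m) : B) := fun z => rfl
    rw [← hP]
    have hle : Subalgebra.toSubmodule (Algebra.adjoin A (𝒜 1 : Set B))
        ≤ Submodule.comap P (Subalgebra.toSubmodule (Algebra.adjoin A (𝒜 1 : Set B))) := by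
      rw [Algebra.adjoin_eq_span, Submodule.span_le]
      intro w hw
      obtain ⟨j, hj⟩ := hmono w hw
      change P w ∈ Submodule.span A _
      rw [hP]
      by_cases hjm : j = m
      · subst hjm
        rw [DirectSum.decompose_of_mem_same _ hj]
        exact Submodule.subset_span hw
      · rw [DirectSum.decompose_of_mem_ne _ hj hjm]
        exact Submodule.zero_mem _
    exact hle hy
  -- reduce to showing every graded piece is in the subalgebra
  suffices hpieces : ∀ m, 𝒜 m ≤ Subalgebra.toSubmodule (Algebra.adjoin A (𝒜 1 : Set B)) by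
    rw [eq_top_iff]
    intro b _
    rw [← DirectSum.sum_support_decompose 𝒜 b]
    apply Subalgebra.sum_mem
    intro i _
    exact hpieces i (Subtype.mem _)
  intro m
  by_contra hcon
  let N : Submodule A (𝒜 m) := Submodule.comap (𝒜 m).subtype
    (Subalgebra.toSubmodule (Algebra.adjoin A (𝒜 1 : Set B)))
  have hN : N ≠ ⊤ := by
    intro htop
    apply hcon
    intro b hb
    have : (⟨b, hb⟩ : 𝒜 m) ∈ N := by rw [htop]; trivial
    exact this
  haveI : Nontrivial (𝒜 m ⧸ N) := Submodule.Quotient.nontrivial_iff.mpr hN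
  haveI := hfin m
  obtain ⟨𝔪, hmax, hne⟩ := exists_maximal_smul_ne_top (A := A) (Q := 𝒜 m ⧸ N)
  haveI := hmax
  letI : Field (A ⧸ 𝔪) := Ideal.Quotient.field 𝔪
  obtain ⟨v, hv⟩ : ∃ v : (𝒜 m ⧸ N) ⧸ (𝔪 • (⊤ : Submodule A (𝒜 m ⧸ N))), v ≠ 0 := by
    by_contra h
    push Not at h
    apply hne
    rw [eq_top_iff]
    intro q _
    have := h (Submodule.Quotient.mk q)
    rwa [Submodule.Quotient.mk_eq_zero] at this
  obtain ⟨φ, hφ⟩ := Module.Projective.exists_dual_ne_zero (A ⧸ 𝔪) hv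
  obtain ⟨q, rfl⟩ := Submodule.mkQ_surjective _ v
  obtain ⟨b0, rfl⟩ := Submodule.mkQ_surjective _ q
  let ψ : 𝒜 m →ₗ[A] (A ⧸ 𝔪) := (φ.restrictScalars A) ∘ₗ
    (Submodule.mkQ (𝔪 • (⊤ : Submodule A (𝒜 m ⧸ N)))) ∘ₗ (Submodule.mkQ N)
  have hψ0 : ψ b0 ≠ 0 := hφ
  have hψN : ∀ y ∈ N, ψ y = 0 := by
    intro y hy
    change φ (Submodule.mkQ _ (Submodule.mkQ N y)) = 0
    have h0 : N.mkQ y = 0 := (Submodule.Quotient.mk_eq_zero N).mpr hy
    rw [h0, map_zero, map_zero]
  -- the algebraically closed field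
  let P : B →ₗ[A] 𝒜 m := (DirectSum.component A ℕ (fun i => 𝒜 i) m) ∘ₗ
      (DirectSum.decomposeLinearEquiv 𝒜).toLinearMap
  have hP : ∀ z, P z = DirectSum.decompose 𝒜 z m := fun z => rfl
  let ψ'' : B →ₗ[A] AlgebraicClosure (A ⧸ 𝔪) :=
    ((Algebra.linearMap (A ⧸ 𝔪) (AlgebraicClosure (A ⧸ 𝔪))).restrictScalars A) ∘ₗ ψ ∘ₗ P
  have hψ''C : ∀ y ∈ Algebra.adjoin A (𝒜 1 : Set B), ψ'' y = 0 := by
    intro y hy
    change algebraMap (A ⧸ 𝔪) (AlgebraicClosure (A ⧸ 𝔪)) (ψ (P y)) = 0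
    rw [hψN (P y) (by rw [hP]; exact hproj m y hy), map_zero]
  have hψ''b0 : ψ'' (b0 : B) ≠ 0 := by
    change algebraMap (A ⧸ 𝔪) (AlgebraicClosure (A ⧸ 𝔪)) (ψ (P (b0 : B))) ≠ 0
    have : P (b0 : B) = b0 := by
      rw [hP]
      apply Subtype.ext
      exact DirectSum.decompose_of_mem_same _ b0.2
    rw [this]
    intro h
    apply hψ0
    exact (algebraMap (A ⧸ 𝔪) (AlgebraicClosure (A ⧸ 𝔪))).injective (by rw [h, map_zero])
  let Ψ : (AlgebraicClosure (A ⧸ 𝔪)) ⊗[A] B →ₗ[AlgebraicClosure (A ⧸ 𝔪)] AlgebraicClosure (A ⧸ 𝔪) :=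
    LinearMap.liftBaseChange (AlgebraicClosure (A ⧸ 𝔪)) ψ''
  have hΨ : ∀ t, Ψ t = 0 := by
    intro t
    have ht : t ∈ Algebra.adjoin (AlgebraicClosure (A ⧸ 𝔪))
        ((Algebra.TensorProduct.includeRight : B →ₐ[A] (AlgebraicClosure (A ⧸ 𝔪)) ⊗[A] B) ''
          (𝒜 1 : Set B)) := by
      rw [hgen (AlgebraicClosure (A ⧸ 𝔪))]; trivial
    have hle : Algebra.adjoin (AlgebraicClosure (A ⧸ 𝔪))
        ((Algebra.TensorProduct.includeRight : B →ₐ[A] (AlgebraicClosure (A ⧸ 𝔪)) ⊗[A] B) ''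
          (𝒜 1 : Set B)) ≤
        (Algebra.TensorProduct.map (AlgHom.id (AlgebraicClosure (A ⧸ 𝔪)) (AlgebraicClosure (A ⧸ 𝔪)))
          (Algebra.adjoin A (𝒜 1 : Set B)).val).range := by
      apply Algebra.adjoin_le
      rintro _ ⟨b, hb, rfl⟩
      refine ⟨(1 : AlgebraicClosure (A ⧸ 𝔪)) ⊗ₜ[A] (⟨b, Algebra.subset_adjoin hb⟩ :
        Algebra.adjoin A (𝒜 1 : Set B)), ?_⟩
      simp
    have hall : ∀ u, Ψ (Algebra.TensorProduct.map
        (AlgHom.id (AlgebraicClosure (A ⧸ 𝔪)) (AlgebraicClosure (A ⧸ 𝔪)))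
          (Algebra.adjoin A (𝒜 1 : Set B)).val u) = 0 := by
      intro u
      induction u using TensorProduct.induction_on with
      | zero => simp
      | tmul c y =>
        change Ψ (c ⊗ₜ[A] (y : B)) = 0
        rw [LinearMap.liftBaseChange_tmul, hψ''C y y.2, smul_zero]
      | add a b ha hb => rw [map_add, map_add, ha, hb, add_zero]
    obtain ⟨u, rfl⟩ := hle ht
    exact hall u
  apply hψ''b0
  have := hΨ ((1 : AlgebraicClosure (A ⧸ 𝔪)) ⊗ₜ[A] (b0 : B))
  rwa [LinearMap.liftBaseChange_tmul, one_smul] at this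

end Groth.Agent.S13623
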