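import Groth.Statements.S13628
import Mathlib
import Groth.Agent.S4664

set_option autoImplicit false
universe u
open CategoryTheory CategoryTheory.Limits AlgebraicGeometry Opposite
open FBase

namespace Groth.Agent.S13628

/-- Let P be a property of schemes over fields, invariant under isomorphisms of schemes over the base
field and invariant in both directions under every field extension k → K (Z over k has P if and only
if Z ×_k Spec K over K has P). Let f : X → T be a morphism of schemes, h : T' → T a surjective
morphism of schemes and f' : X' → T' a base change of f along h. If for every algebraically closed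
field k and every Spec k → T' the fibre X' ×_{T'} Spec k has P, then for every algebraically closed
field k and every Spec k → T the fibre X ×_T Spec k has P. (Fields are taken in the universe of the
schemes. The published statement is that families of del Pezzo surfaces form a stack for the étale
topology; this row is the step of its proof that descends the condition on geometric fibres along a
surjective base change, stated for any fibre property with the invariance above.) -/
theorem result
    (P : ∀ (k : Type u) [Field k] (Z : Scheme.{u}), (Z ⟶ Spec (CommRingCat.of k)) → Prop)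
    (hiso : ∀ (k : Type u) [Field k] (Z Z' : Scheme.{u}) (e : Z ≅ Z') (g : Z' ⟶ Spec (CommRingCat.of k)),
      P k Z' g → P k Z (e.hom ≫ g))
    (hext : ∀ (k K : Type u) [Field k] [Field K] (i : k →+* K) (Z : Scheme.{u}) (g : Z ⟶ Spec (CommRingCat.of k)),
      P k Z g ↔ P K (pullback g (Spec.map (CommRingCat.ofHom i))) (pullback.snd g (Spec.map (CommRingCat.ofHom i))))
    {X T X' T' : Scheme.{u}} (f : X ⟶ T) (h : T' ⟶ T) [Surjective h] (f' : X' ⟶ T') (h' : X' ⟶ X)
    (sq : IsPullback h' f' f h)
    (H : ∀ (k : Type u) [Field k] [IsAlgClosed k] (σ' : Spec (CommRingCat.of k) ⟶ T'),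
        P k (pullback f' σ') (pullback.snd f' σ'))
    (k : Type u) [Field k] [IsAlgClosed k] (σ : Spec (CommRingCat.of k) ⟶ T) :
    P k (pullback f σ) (pullback.snd f σ) := by
  obtain ⟨L, _, a, b, hab⟩ := Groth.Agent.S4664.exists_common_field h k σ
  let Ω := AlgebraicClosure L
  let c : Spec (CommRingCat.of Ω) ⟶ Spec (CommRingCat.of L) :=
    Spec.map (CommRingCat.ofHom (algebraMap L Ω))
  let i : k →+* Ω := (Spec.preimage (c ≫ a)).hom
  have hi : Spec.map (CommRingCat.ofHom i) = c ≫ a := Spec.map_preimage _
  have hcomm : Spec.map (CommRingCat.ofHom i) ≫ σ = (c ≫ b) ≫ h := by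
    rw [hi, Category.assoc, hab, Category.assoc]
  -- step 1: P over Ω for f' and c ≫ b
  have h1 := H Ω (c ≫ b)
  -- step 2: transport to pullback f ((c ≫ b) ≫ h)
  have hpb : IsPullback (pullback.fst f' (c ≫ b) ≫ h') (pullback.snd f' (c ≫ b)) f ((c ≫ b) ≫ h) :=
    (IsPullback.of_hasPullback f' (c ≫ b)).paste_horiz sq
  have h2 := hiso Ω _ _ hpb.isoPullback.symm _ h1
  have e2 : hpb.isoPullback.symm.hom ≫ pullback.snd f' (c ≫ b) = pullback.snd f ((c ≫ b) ≫ h) := by
    simp
  rw [e2, ← hcomm] at h2
  -- step 3: transport to pullback (snd f σ) (Spec i)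
  have h3 := hiso Ω _ _ (pullbackLeftPullbackSndIso f σ (Spec.map (CommRingCat.ofHom i))) _ h2
  have e3 : (pullbackLeftPullbackSndIso f σ (Spec.map (CommRingCat.ofHom i))).hom ≫
      pullback.snd f (Spec.map (CommRingCat.ofHom i) ≫ σ) =
      pullback.snd (pullback.snd f σ) (Spec.map (CommRingCat.ofHom i)) := by
    simp
  rw [e3] at h3
  exact (hext k Ω i _ _).mpr h3

end Groth.Agent.S13628
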