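import Groth.Statements.S13631
import Mathlib

set_option autoImplicit false
universe u v w
open CAlg

namespace Groth.Agent.S13631

/-- Let k be a field, R an integral domain which is a k-algebra of infinite dimension over k, M a finite
free R-module, σ a ring automorphism of R mapping the image of k onto itself, and φ : M → M a
σ-semilinear map. If the cokernel of φ is finite-dimensional over k, in the sense that some finitely
generated k-subspace N of M satisfies M = N + φ(M), then φ is injective. -/
theorem result
    {k : Type u} {R : Type v} {M : Type w} [Field k] [CommRing R] [IsDomain R] [Algebra k R]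
    (hR : ¬ Module.Finite k R)
    [AddCommGroup M] [Module R M] [Module k M] [IsScalarTower k R M]
    [Module.Finite R M] [Module.Free R M]
    (σ : R ≃+* R)
    (hσ : ∀ x : k, ∃ y : k, σ (algebraMap k R x) = algebraMap k R y)
    (hσ' : ∀ y : k, ∃ x : k, σ (algebraMap k R x) = algebraMap k R y)
    (φ : M →ₛₗ[(σ : R →+* R)] M)
    (hcoker : ∃ N : Submodule k M, N.FG ∧ ∀ m : M, ∃ n ∈ N, ∃ m' : M, m = n + φ m') :
    Function.Injective φ := by
  classical
  obtain ⟨N, hNfg, hN⟩ := hcoker
  let ι := Module.Free.ChooseBasisIndex R M
  let b : Module.Basis ι R M := Module.Free.chooseBasis R M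
  by_contra hinj
  rw [injective_iff_map_eq_zero] at hinj
  push Not at hinj
  obtain ⟨x, hx0, hxne⟩ := hinj
  -- the matrix of φ
  let Amat : Matrix ι ι R := fun i j => b.repr (φ (b j)) i
  have hφ : ∀ m : M, ∀ i, b.repr (φ m) i = ∑ j, Amat i j * σ (b.repr m j) := by
    intro m i
    conv_lhs => rw [← b.sum_repr m]
    rw [map_sum, map_sum, Finset.sum_apply']
    apply Finset.sum_congr rfl
    intro j _
    rw [map_smulₛₗ, map_smul]
    simp only [Finsupp.smul_apply, smul_eq_mul, RingHom.coe_coe, Amat]
    ring
  have hdet : Amat.det = 0 := by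
    rw [← Matrix.exists_mulVec_eq_zero_iff]
    refine ⟨fun j => σ (b.repr x j), ?_, ?_⟩
    · intro h
      apply hxne
      apply b.repr.injective
      ext j
      have := congrFun h j
      simpa using this
    · funext i
      have := hφ x i
      rw [hx0] at this
      simp only [map_zero, Finsupp.coe_zero, Pi.zero_apply] at this
      simp only [Matrix.mulVec, dotProduct, Pi.zero_apply]
      exact this.symm
  obtain ⟨v, hvne, hv⟩ := Matrix.exists_vecMul_eq_zero_iff.mpr hdet
  let lam : M →ₗ[R] R := ∑ i, v i • b.coord i
  have hlam : ∀ m, lam m = ∑ i, v i * b.repr m i := by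
    intro m
    simp [lam, LinearMap.sum_apply]
  have hlamφ : ∀ m, lam (φ m) = 0 := by
    intro m
    rw [hlam]
    simp only [hφ, Finset.mul_sum]
    rw [Finset.sum_comm]
    have : ∀ j, ∑ i, v i * (Amat i j * σ (b.repr m j)) = (Matrix.vecMul v Amat) j * σ (b.repr m j) := by
      intro j
      simp only [Matrix.vecMul, dotProduct, Finset.sum_mul]
      apply Finset.sum_congr rfl
      intro i _
      ring
    simp only [this, hv, Pi.zero_apply, zero_mul, Finset.sum_const_zero]
  obtain ⟨i0, hi0⟩ : ∃ i, v i ≠ 0 := by
    by_contra h
    push Not at h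
    exact hvne (funext h)
  -- the image of lam is finite-dimensional over k
  let lamk : M →ₗ[k] R := lam.restrictScalars k
  have hrange : LinearMap.range lamk ≤ Submodule.map lamk N := by
    rintro _ ⟨m, rfl⟩
    obtain ⟨n, hn, m', rfl⟩ := hN m
    refine ⟨n, hn, ?_⟩
    change lam n = lam (n + φ m')
    rw [map_add, hlamφ, add_zero]
  have hfg : (Submodule.map lamk N).FG := hNfg.map _
  haveI : Module.Finite k (Submodule.map lamk N) := Module.Finite.iff_fg.mpr hfg
  apply hR
  let g : R →ₗ[k] Submodule.map lamk N :=
    LinearMap.codRestrict _ (lamk ∘ₗ (LinearMap.toSpanSingleton R M (b i0)).restrictScalars k)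
      (fun r => hrange ⟨_, rfl⟩)
  have hg : Function.Injective g := by
    rw [← LinearMap.ker_eq_bot, LinearMap.ker_eq_bot']
    intro r hr
    have h1 := congrArg Subtype.val hr
    change lam (r • b i0) = 0 at h1
    rw [map_smul, hlam] at h1
    simp only [Module.Basis.repr_self, smul_eq_mul] at h1
    rw [Finset.sum_eq_single i0] at h1
    · simp only [Finsupp.single_eq_same, mul_one] at h1
      rcases mul_eq_zero.mp h1 with h | h
      · exact h
      · exact absurd h hi0
    · intro j _ hj
      rw [Finsupp.single_eq_of_ne hj, mul_zero]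
    · intro h; exact absurd (Finset.mem_univ _) h
  exact Module.Finite.of_injective g hg

end Groth.Agent.S13631
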