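import Groth.Statements.S13664
import Mathlib
import Groth.Agent.Helper6.GrTors

set_option autoImplicit false
universe u
open GrRing

namespace Groth.Agent.S13664

/-- Let A be a commutative ring graded by the integers whose ideal I generated by the homogeneous
elements of positive degree has homogeneous generators f_1, …, f_p, of positive degrees d_1, …, d_p,
let d be a positive integer divisible by each d_i, and let x be an element of an A-module M. The
following are equivalent: x is annihilated by some power of I; x is annihilated by (A_d)^n for all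
sufficiently large n; there is an integer s such that A_n x = 0 for all n ≥ s. (The published
statement is for a homogeneous element of a graded module; this row drops both the grading of M and
the homogeneity of x, which play no role.) -/
theorem result {R A : Type u} [CommRing R] [CommRing A] [Algebra R A]
    (𝒜 : ℤ → Submodule R A) [GradedAlgebra 𝒜]
    {p : ℕ} (f : Fin p → A) (deg : Fin p → ℤ) (hdeg : ∀ i, 0 < deg i) (hf : ∀ i, f i ∈ 𝒜 (deg i))
    (hgen : Ideal.span {a : A | ∃ n : ℤ, 0 < n ∧ a ∈ 𝒜 n} = Ideal.span (Set.range f))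
    (d : ℤ) (hd : 0 < d) (hdvd : ∀ i, deg i ∣ d)
    {M : Type u} [AddCommGroup M] [Module A M] (x : M) :
    [x ∈ GrLC.gam (Ideal.span (Set.range f)) M,
     ∃ n₀ : ℕ, ∀ n : ℕ, n₀ ≤ n → ∀ r ∈ (𝒜 d) ^ n, r • x = 0,
     ∃ s : ℤ, ∀ n : ℤ, s ≤ n → ∀ r ∈ 𝒜 n, r • x = 0].TFAE := by
  tfae_have 1 → 3 := by
    rintro ⟨n, hn⟩
    exact ⟨(n : ℤ) * d, Groth.Agent.Helper6.GrTors.one_to_three 𝒜 f deg hdeg hf hgen d hd hdvd x n hn⟩
  tfae_have 3 → 2 := by
    rintro ⟨s, hs⟩
    refine ⟨s.toNat, fun n hn r hr => ?_⟩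
    have h1 := Groth.Agent.Helper6.GrTors.pow_le_piece 𝒜 d n hr
    refine hs _ ?_ r h1
    have h2 : s ≤ (n : ℤ) := by omega
    have h3 : (n : ℤ) * 1 ≤ (n : ℤ) * d := mul_le_mul_of_nonneg_left (by omega) (Int.natCast_nonneg n)
    omega
  tfae_have 2 → 1 := by
    rintro ⟨n₀, hn₀⟩
    exact Groth.Agent.Helper6.GrTors.two_to_one 𝒜 f deg hf hdeg d hd hdvd x n₀ (hn₀ n₀ le_rfl)
  tfae_finish

end Groth.Agent.S13664
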