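import Groth.Statements.S1367
import Groth.Agent.Lead.TopBCM

set_option autoImplicit false
universe u
open FlatMor

namespace Groth.Agent.S1367

open AlgebraicGeometry CategoryTheory Limits in
/-- Let f : X → Y be proper and y a point whose fibre has dimension at most 1 and satisfies H^1(X_y, O)
= 0. Then there is an open neighbourhood V of y such that R^1 f_* O_X vanishes on V, in the concrete
sense that H^1 of the structure sheaf vanishes on the preimage of every affine open of V, and the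
same holds for the base change of f along any morphism to V. -/
theorem result {X Y : Scheme.{u}} (f : X ⟶ Y) [IsProper f] (y : Y)
    (hdim : topologicalKrullDim ↑(f.fiber y) ≤ 1) (hH1 : Subsingleton (Coh.HH (f.fiber y) (Coh.structureModule (f.fiber y)) 1)) :
    ∃ V : Y.Opens, y ∈ V ∧ ∀ (Y' : Scheme.{u}) (g : Y' ⟶ (V : Scheme.{u})) (U : Y'.Opens), IsAffineOpen U →
      Subsingleton (Coh.HHon (pullback f (g ≫ V.ι)) (Coh.structureModule (pullback f (g ≫ V.ι))) (pullback.snd f (g ≫ V.ι) ⁻¹ᵁ U) 1) := by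
  have hdim' : topologicalKrullDim ↥(f.fiber y) ≤ ((1 : ℕ) : WithBot ℕ∞) := by exact_mod_cast hdim
  obtain ⟨V₀, hyV₀, hV₀, hprop, hdV₀⟩ :=
    Groth.Agent.Lead.FibVan.exists_affine_nhd_fibreDimAt_le f y 1 hdim'
  haveI := hprop
  haveI : IsAffine (V₀ : Scheme) := hV₀
  have right : IsPullback (f ⁻¹ᵁ V₀).ι (f ∣_ V₀) f V₀.ι := (isPullback_morphismRestrict f V₀).flip
  have hfib₀ : Subsingleton (Coh.HH ((f ∣_ V₀).fiber ⟨y, hyV₀⟩)
      (Coh.structureModule ((f ∣_ V₀).fiber ⟨y, hyV₀⟩)) 1) :=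
    Groth.Agent.Lead.TopBC.subsingleton_HH_fiber_of_isPullback' right ⟨y, hyV₀⟩ 1 hdim' hH1
  obtain ⟨V₁, hyV₁, hV₁⟩ :=
    Groth.Agent.Lead.TopBC.exists_open_universal (f ∣_ V₀) 1 hdV₀ ⟨y, hyV₀⟩ hfib₀
  refine ⟨V₀.ι ''ᵁ V₁, ⟨⟨y, hyV₀⟩, hyV₁, rfl⟩, ?_⟩
  intro Y' g U hU
  haveI : IsAffine (U : Scheme) := hU
  have hVV₀ : V₀.ι ''ᵁ V₁ ≤ V₀ := by
    rintro _ ⟨v, _, rfl⟩
    exact v.2
  let t : (U : Scheme) ⟶ (V₀ : Scheme) := U.ι ≫ g ≫ Y.homOfLE hVV₀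
  have htι : t ≫ V₀.ι = U.ι ≫ g ≫ (V₀.ι ''ᵁ V₁).ι := by
    simp only [t, Category.assoc, Scheme.homOfLE_ι]
  have ht : ∀ u : (U : Scheme), t u ∈ V₁ := by
    intro u
    have h1 : (t ≫ V₀.ι) u ∈ V₀.ι ''ᵁ V₁ := by
      rw [htι]
      exact (g (U.ι u)).2
    obtain ⟨v, hv, hvu⟩ := h1
    have h2 : v = t u := V₀.ι.isOpenEmbedding.injective hvu
    rw [← h2]
    exact hv
  have big : IsPullback ((pullback.snd f (g ≫ (V₀.ι ''ᵁ V₁).ι) ⁻¹ᵁ U).ι ≫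
      pullback.fst f (g ≫ (V₀.ι ''ᵁ V₁).ι)) (pullback.snd f (g ≫ (V₀.ι ''ᵁ V₁).ι) ∣_ U) f
      (U.ι ≫ g ≫ (V₀.ι ''ᵁ V₁).ι) :=
    (isPullback_morphismRestrict (pullback.snd f (g ≫ (V₀.ι ''ᵁ V₁).ι)) U).flip.paste_horiz
      (IsPullback.of_hasPullback f (g ≫ (V₀.ι ''ᵁ V₁).ι))
  have w : ((pullback.snd f (g ≫ (V₀.ι ''ᵁ V₁).ι) ⁻¹ᵁ U).ι ≫
      pullback.fst f (g ≫ (V₀.ι ''ᵁ V₁).ι)) ≫ f =
      ((pullback.snd f (g ≫ (V₀.ι ''ᵁ V₁).ι) ∣_ U) ≫ t) ≫ V₀.ι := by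
    rw [Category.assoc _ t, htι]
    exact big.w
  have hpb : IsPullback (right.lift _ _ w) (pullback.snd f (g ≫ (V₀.ι ''ᵁ V₁).ι) ∣_ U)
      (f ∣_ V₀) t := by
    refine IsPullback.of_right ?_ (right.lift_snd _ _ _) right
    rw [right.lift_fst, htι]
    exact big
  have h5 := hV₁ U t ht _ _ _ hpb
  exact Groth.Agent.Lead.StratB.subsingleton_HH_of_iso
    (Scheme.Modules.restrictUnitIso (pullback.snd f (g ≫ (V₀.ι ''ᵁ V₁).ι) ⁻¹ᵁ U).ι).symm 1 h5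

end Groth.Agent.S1367
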