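import Groth.Statements.S13695
import Groth.Agent.Helper4.CHKer
import Mathlib

set_option autoImplicit false
universe u
open scoped TensorProduct
open ZeroCyc

namespace Groth.Agent.S13695


/-- For a commutative ring A, a commutative A-algebra B and a multiplicative polynomial law F : B → A
homogeneous of degree d, the quotient of B by the kernel of F (the largest ideal I of B such that F
factors through B/I) is integral over A. Geometrically: the image of a family of zero-cycles of
degree d on Spec B parametrised by Spec A is integral over Spec A. -/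
theorem result {A : Type u} [CommRing A] {B : Type u} [CommRing B] [Algebra A B]
    {d : ℕ} (F : PolLaw.MulLaw A B A d) :
    Algebra.IsIntegral A (PolLaw.image F.law) := by

  constructor
  intro y
  obtain ⟨b, rfl⟩ := Ideal.Quotient.mk_surjective y
  refine ⟨Groth.Agent.Helper4.CHKer.chiB F.law b, Groth.Agent.Helper4.CHKer.chiB_monic F b, ?_⟩
  have h1 := Groth.Agent.Helper4.CHKer.aeval_chiB_mem_ker F b
  have h2 : Polynomial.aeval (Ideal.Quotient.mkₐ A (PolLaw.ker F.law) b)
      (Groth.Agent.Helper4.CHKer.chiB F.law b) =
      Ideal.Quotient.mkₐ A (PolLaw.ker F.law)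
        (Polynomial.aeval b (Groth.Agent.Helper4.CHKer.chiB F.law b)) :=
    Polynomial.aeval_algHom_apply _ _ _
  rw [← Polynomial.aeval_def]
  show Polynomial.aeval (Ideal.Quotient.mkₐ A (PolLaw.ker F.law) b) _ = 0
  rw [h2]
  exact Ideal.Quotient.eq_zero_iff_mem.2 h1

end Groth.Agent.S13695
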