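import Groth.Statements.S13708
import Mathlib

set_option autoImplicit false
universe u
open CategoryTheory CategoryTheory.Limits AlgebraicGeometry
open ZeroCyc

namespace Groth.Agent.S13708

set_option backward.isDefEq.respectTransparency.types false in
open AlgebraicGeometry CategoryTheory Limits in
lemma key {X S : Scheme.{u}} (f : X ⟶ S) (U : X.Opens) (hU : IsAffineOpen U) :
    IsClosedImmersion
      (pullback.diagonal f ∣_ (pullback.fst f f ⁻¹ᵁ U ⊓ pullback.snd f f ⁻¹ᵁ U)) := by
  have H := IsPullback.of_hasPullback f f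
  have hpb := Scheme.Hom.isPullback_resLE H (US := ⊤) (UT := U) (UX := U) le_top le_top
    (UY := pullback.fst f f ⁻¹ᵁ U ⊓ pullback.snd f f ⁻¹ᵁ U) rfl
  have hUa : IsAffine U := hU
  have hsep : IsSeparated (f.resLE ⊤ U le_top) := inferInstance
  have hsep1 := MorphismProperty.of_isPullback (P := @IsSeparated) hpb.flip hsep
  have hpre : pullback.diagonal f ⁻¹ᵁ (pullback.fst f f ⁻¹ᵁ U ⊓ pullback.snd f f ⁻¹ᵁ U) = U := by
    rw [Scheme.Hom.preimage_inf, ← Scheme.Hom.comp_preimage, ← Scheme.Hom.comp_preimage,
      pullback.diagonal_fst, pullback.diagonal_snd, Scheme.Hom.id_preimage, inf_idem]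
  have hcomp : (pullback.diagonal f ∣_ (pullback.fst f f ⁻¹ᵁ U ⊓ pullback.snd f f ⁻¹ᵁ U)) ≫
      (pullback.fst f f).resLE U (pullback.fst f f ⁻¹ᵁ U ⊓ pullback.snd f f ⁻¹ᵁ U) inf_le_left =
      X.homOfLE hpre.le := by
    rw [← cancel_mono U.ι]
    simp
  have hiso : IsIso (X.homOfLE hpre.le) := by
    have : X.homOfLE hpre.le = (X.isoOfEq hpre).hom := by
      rw [← cancel_mono U.ι]; simp
    rw [this]; infer_instance
  have : IsClosedImmersion
      ((pullback.diagonal f ∣_ (pullback.fst f f ⁻¹ᵁ U ⊓ pullback.snd f f ⁻¹ᵁ U)) ≫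
      (pullback.fst f f).resLE U (pullback.fst f f ⁻¹ᵁ U ⊓ pullback.snd f f ⁻¹ᵁ U) inf_le_left) := by
    rw [hcomp]; infer_instance
  exact IsClosedImmersion.of_comp _
    ((pullback.fst f f).resLE U (pullback.fst f f ⁻¹ᵁ U ⊓ pullback.snd f f ⁻¹ᵁ U) inf_le_left)

/-- Let X be a scheme over S such that every finite set of points of X over a common point of S lies in
some affine open subscheme of X (the condition (AF)). Then X is separated over S. (The published
condition (AF) asks for an open U with U → S quasi-affine rather than U affine; with U affine, as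
here, the same argument applies verbatim, and the two conditions agree over a quasi-separated base.) -/
theorem result {X S : Scheme.{u}} (f : X ⟶ S) (hX : SymProd.IsAF f) :
    IsSeparated f := by
  classical
  constructor
  refine IsZariskiLocalAtTarget.of_forall_exists_morphismRestrict (P := @IsClosedImmersion) fun z => ?_
  have h12 : f (pullback.fst f f z) = f (pullback.snd f f z) := by
    rw [← Scheme.Hom.comp_apply, ← Scheme.Hom.comp_apply, pullback.condition]
  obtain ⟨U, hU, hmem⟩ := hX (f (pullback.fst f f z)) {pullback.fst f f z, pullback.snd f f z} (by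
    intro x hx
    simp only [Finset.mem_insert, Finset.mem_singleton] at hx
    rcases hx with rfl | rfl
    · rfl
    · exact h12.symm)
  refine ⟨pullback.fst f f ⁻¹ᵁ U ⊓ pullback.snd f f ⁻¹ᵁ U,
    ⟨hmem _ (by simp), hmem _ (by simp)⟩, key f U hU⟩

end Groth.Agent.S13708
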