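import Groth.Statements.S13711
import Mathlib
import Groth.Agent.Helper6.AffDesc

set_option autoImplicit false
universe u
open CategoryTheory CategoryTheory.Limits AlgebraicGeometry
open ZeroCyc

namespace Groth.Agent.S13711

set_option backward.isDefEq.respectTransparency.types false in
open AlgebraicGeometry CategoryTheory Limits in
lemma aux {X Y Y' : Scheme.{u}} (f : X ⟶ Y) (g : Y' ⟶ Y)
    [Flat g] [Surjective g] (hqc : QuasiCompact f) (hqs : QuasiSeparated f)
    (haff : IsAffineHom (pullback.snd f g)) (W : Y.Opens) (hW : IsAffineOpen W) :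
    IsAffineOpen (f ⁻¹ᵁ W) := by
  have hWa : IsAffine W := hW
  have hc : CompactSpace ↥(f ⁻¹ᵁ W) := by
    have : QuasiCompact (f ∣_ W) := inferInstance
    rwa [HasAffineProperty.iff_of_isAffine (P := @QuasiCompact)] at this
  have hs : QuasiSeparatedSpace ↥(f ⁻¹ᵁ W) := by
    have : QuasiSeparated (f ∣_ W) := inferInstance
    rwa [HasAffineProperty.iff_of_isAffine (P := @QuasiSeparated)] at this
  let J := {V : Y'.affineOpens // V.1 ≤ g ⁻¹ᵁ W}
  have H := IsPullback.of_hasPullback f g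
  have hUY : ∀ V : J, (pullback.fst f g ⁻¹ᵁ (f ⁻¹ᵁ W) ⊓ pullback.snd f g ⁻¹ᵁ V.1.1) =
      pullback.snd f g ⁻¹ᵁ V.1.1 := by
    intro V
    apply inf_eq_right.mpr
    rw [← Scheme.Hom.comp_preimage, pullback.condition, Scheme.Hom.comp_preimage]
    exact Scheme.Hom.preimage_mono _ V.2
  have hTa : ∀ V : J, IsAffine (V.1.1 : Scheme.{u}) := fun V => V.1.2
  have hYa : ∀ V : J, IsAffine
      ((pullback.fst f g ⁻¹ᵁ (f ⁻¹ᵁ W) ⊓ pullback.snd f g ⁻¹ᵁ V.1.1 : (pullback f g).Opens) : Scheme.{u}) := by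
    intro V
    show IsAffineOpen _
    rw [hUY V]
    exact V.1.2.preimage (pullback.snd f g)
  have hfl : ∀ V : J, Flat (g.resLE W V.1.1 V.2) := fun V => inferInstance
  refine @Groth.Agent.Helper6.AffDesc.isAffine_of_family _ _ (f.resLE W (f ⁻¹ᵁ W) le_rfl) hWa hc hs J
    (fun V => V.1.1)
    (fun V => ((pullback.fst f g ⁻¹ᵁ (f ⁻¹ᵁ W) ⊓ pullback.snd f g ⁻¹ᵁ V.1.1 : (pullback f g).Opens) : Scheme.{u}))
    (fun V => g.resLE W V.1.1 V.2) (fun V => (pullback.fst f g).resLE _ _ inf_le_left)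
    (fun V => (pullback.snd f g).resLE _ _ inf_le_right)
    (fun V => Scheme.Hom.isPullback_resLE H V.2 le_rfl rfl) hTa hYa hfl ?_
  intro s
  obtain ⟨y', hy'⟩ := ‹Surjective g›.surj s.1
  have hy'W : y' ∈ g ⁻¹ᵁ W := by
    show g y' ∈ W
    rw [hy']; exact s.2
  obtain ⟨V, hV, hyV, hVW⟩ := (TopologicalSpace.Opens.isBasis_iff_nbhd.1 Y'.isBasis_affineOpens) hy'W
  refine ⟨⟨⟨V, hV⟩, hVW⟩, ⟨y', hyV⟩, ?_⟩
  apply Subtype.ext
  rw [Scheme.Hom.coe_resLE_apply]
  exact hy'
set_option backward.isDefEq.respectTransparency.types false in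
open AlgebraicGeometry CategoryTheory Limits in
lemma aux2 {X Y Y' : Scheme.{u}} (f : X ⟶ Y) (g : Y' ⟶ Y) (h : IsAffineHom f) :
    IsAffineHom (pullback.snd f g) := MorphismProperty.pullback_snd (P := @IsAffineHom) f g h

/-- Let f : X → Y be a morphism of schemes and g : Y' → Y a faithfully flat morphism (flat and
surjective, not assumed quasi-compact). Then f is affine exactly when it is quasi-compact,
quasi-separated, and its base change X ×_Y Y' → Y' along g is affine. -/
theorem result {X Y Y' : Scheme.{u}} (f : X ⟶ Y) (g : Y' ⟶ Y)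
    [Flat g] [Surjective g] :
    IsAffineHom f ↔ QuasiCompact f ∧ QuasiSeparated f ∧ IsAffineHom (pullback.snd f g) := by
  constructor
  · intro h
    exact ⟨inferInstance, inferInstance, aux2 f g h⟩
  · rintro ⟨hqc, hqs, haff⟩
    exact ⟨fun W hW => aux f g hqc hqs haff W hW⟩

end Groth.Agent.S13711
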