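import Groth.Statements.S13715
import Groth.Agent.Helper4.GammaFin
import Mathlib

set_option autoImplicit false
universe u
open scoped TensorProduct
open ZeroCyc

namespace Groth.Agent.S13715


/-- Let (C, γ) be the algebra of divided powers Γ^d_A(B) of a commutative A-algebra B with its universal
multiplicative law γ : B → C homogeneous of degree d (every multiplicative law B → C' homogeneous of
degree d factors uniquely through γ by an algebra map C → C'). If B is finite (as a module) over A
then so is C = Γ^d_A(B). -/
theorem result {A : Type u} [CommRing A] {B : Type u} [CommRing B] [Algebra A B] {C : Type u} [CommRing C] [Algebra A C]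
    {d : ℕ} (γ : PolLaw.MulLaw A B C d) (hγ : PolLaw.IsGammaD γ) [Module.Finite A B] :
    Module.Finite A C := by

  classical
  open Groth.Agent.Helper4.GammaSpan Groth.Agent.Helper4.GammaFin in
  obtain ⟨r, e, he⟩ := Module.Finite.exists_fin (R := A) (M := B)
  have htop := Cgen_eq_top γ hγ
  have hsub : GenSet γ.law ⊆ V γ e := by
    rintro c ⟨S, _, _, ℓ, x, rfl⟩
    have hsurj : Function.Surjective (Submodule.span A (Set.range e)).subtype := by
      intro b
      exact ⟨⟨b, by rw [he]; trivial⟩, rfl⟩
    obtain ⟨s, hs⟩ := exists_gen e S x
      (LinearMap.range_eq_top.mpr (LinearMap.lTensor_surjective S hsurj) ▸ Submodule.mem_top)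
    exact ⟨S, _, _, ℓ, s, by rw [hs]⟩
  have hV : Submodule.span A (V γ e) = ⊤ := by
    rw [eq_top_iff]
    intro c _
    have hc : c ∈ Cgen γ := by rw [htop]; trivial
    rw [mem_Cgen_iff] at hc
    exact Submodule.span_mono hsub hc
  constructor
  rw [← hV]
  exact span_V_fg γ e

end Groth.Agent.S13715
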