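import Groth.Statements.S13716
import Groth.Agent.Helper4.GammaFin
import Mathlib

set_option autoImplicit false
universe u
open scoped TensorProduct
open ZeroCyc

namespace Groth.Agent.S13716


/-- Let (C, γ) be the algebra of divided powers Γ^d_A(B) of a commutative A-algebra B with its universal
multiplicative law γ : B → C homogeneous of degree d (every multiplicative law B → C' homogeneous of
degree d factors uniquely through γ by an algebra map C → C'). If B is integral over A then so is C
= Γ^d_A(B). -/
theorem result {A : Type u} [CommRing A] {B : Type u} [CommRing B] [Algebra A B] {C : Type u} [CommRing C] [Algebra A C]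
    {d : ℕ} (γ : PolLaw.MulLaw A B C d) (hγ : PolLaw.IsGammaD γ) [Algebra.IsIntegral A B] :
    Algebra.IsIntegral A C := by

  classical
  open Groth.Agent.Helper4.GammaSpan Groth.Agent.Helper4.GammaFin in
  constructor
  intro c
  have hc : c ∈ Cgen γ := by rw [Cgen_eq_top γ hγ]; trivial
  rw [mem_Cgen_iff] at hc
  induction hc using Submodule.span_induction with
  | mem c hc =>
    obtain ⟨S, _, _, ℓ, x, rfl⟩ := hc
    obtain ⟨t, ht⟩ := TensorProduct.exists_finset x
    let B₀ : Subalgebra A B := Algebra.adjoin A ((t.image Prod.snd : Finset B) : Set B)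
    have hfg : B₀.toSubmodule.FG :=
      fg_adjoin_of_finite (Finset.finite_toSet _) (fun b _ => Algebra.IsIntegral.isIntegral b)
    obtain ⟨r, e, he⟩ := Submodule.fg_iff_exists_fin_generating_family.mp hfg
    have hmem : ∀ j, e j ∈ B₀ := by
      intro j
      have : e j ∈ Submodule.span A (Set.range e) := Submodule.subset_span ⟨j, rfl⟩
      rw [he] at this
      exact this
    have h1 : (1 : B) ∈ Submodule.span A (Set.range e) := by
      rw [he]; exact B₀.one_mem
    have hmul : ∀ j k, e j * e k ∈ Submodule.span A (Set.range e) := by
      intro j k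
      rw [he]; exact B₀.mul_mem (hmem j) (hmem k)
    have hx : x ∈ LinearMap.range
        (LinearMap.lTensor S (Submodule.span A (Set.range e)).subtype) := by
      rw [ht]
      refine Submodule.sum_mem _ fun i hi => ?_
      have hi2 : i.2 ∈ Submodule.span A (Set.range e) := by
        rw [he]
        apply Algebra.subset_adjoin
        simp only [Finset.coe_image, Set.mem_image, Finset.mem_coe]
        exact ⟨i, hi, rfl⟩
      exact ⟨i.1 ⊗ₜ[A] ⟨i.2, hi2⟩, by simp⟩
    obtain ⟨s, hs⟩ := exists_gen e S x hx
    exact isIntegral_of_mem_V γ e h1 hmul ⟨S, _, _, ℓ, s, by rw [hs]⟩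
  | zero => exact isIntegral_zero
  | add c c' _ _ h h' => exact h.add h'
  | smul a c _ h => exact h.smul a

end Groth.Agent.S13716
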