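import Groth.Statements.S13717
import Groth.Agent.Helper4.GammaSpan
import Mathlib

set_option autoImplicit false
universe u
open scoped TensorProduct
open ZeroCyc

namespace Groth.Agent.S13717


/-- Let π : B → B' be a surjective map of commutative A-algebras and let (C, γ) and (C', γ') be the
degree-d divided power algebras Γ^d_A(B) and Γ^d_A(B') with their universal multiplicative laws
homogeneous of degree d. If φ : C → C' is the A-algebra map with φ ∘ γ = γ' ∘ π, then φ is
surjective; geometrically, for a closed subscheme X of an affine Y over an affine S, Γ^d(X/S) →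
Γ^d(Y/S) is a closed immersion. (The published statement is for Y affine over an algebraic space S;
this row is the case of an affine base.) -/
theorem result {A : Type u} [CommRing A] {B : Type u} [CommRing B] [Algebra A B]
    {B' : Type u} [CommRing B'] [Algebra A B'] {C : Type u} [CommRing C] [Algebra A C] {C' : Type u} [CommRing C'] [Algebra A C']
    {d : ℕ} (γ : PolLaw.MulLaw A B C d) (hγ : PolLaw.IsGammaD γ) (γ' : PolLaw.MulLaw A B' C' d) (hγ' : PolLaw.IsGammaD γ')
    (π : B →ₐ[A] B') (hπ : Function.Surjective π) (φ : C →ₐ[A] C')
    (hφ : PolLaw.postcomp φ.toLinearMap γ.law = (γ'.precomp π).law) :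
    Function.Surjective φ := by

  classical
  open Groth.Agent.Helper4.GammaSpan in
  have htop := Cgen_eq_top γ' hγ'
  have hsub : ∀ c ∈ GenSet γ'.law, c ∈ φ.range := by
    rintro c ⟨S, _, _, ℓ, x', rfl⟩
    have hπ' : Function.Surjective π.toLinearMap := hπ
    obtain ⟨x, rfl⟩ := LinearMap.lTensor_surjective S hπ' x'
    have h1 : γ'.law.toFun' S (π.toLinearMap.lTensor S x) =
        φ.toLinearMap.lTensor S (γ.law.toFun' S x) := by
      have := congrArg (fun F : B →ₚₗ[A] C' => F.toFun' S x) hφ
      exact this.symm
    rw [h1]
    refine ⟨ev ℓ (γ.law.toFun' S x), ?_⟩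
    generalize γ.law.toFun' S x = w
    induction w using TensorProduct.induction_on with
    | zero => simp
    | tmul s c => simp
    | add a b ha hb => simp only [map_add, ha, hb]
  intro c'
  have hc' : c' ∈ Cgen γ' := by rw [htop]; trivial
  rw [mem_Cgen_iff] at hc'
  have : c' ∈ φ.range.toSubmodule := by
    refine Submodule.span_le.mpr ?_ hc'
    intro c hc
    exact hsub c hc
  exact this

end Groth.Agent.S13717
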