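import Groth.Statements.S13720
import Mathlib

set_option autoImplicit false
universe u
open scoped TensorProduct
open ZeroCyc

namespace Groth.Agent.S13720


/-- Let B be the filtered direct limit of a directed system (B_i, t_ij : B_i → B_j) of commutative
algebras over the commutative ring A, with structure maps φ_i : B_i → B (jointly surjective, and an
element of B_i vanishing in B already vanishes in some B_j), and let F : B → C be a multiplicative
polynomial law homogeneous of degree d, with restrictions F_i = F ∘ φ_i. Then an element b of B lies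
in the kernel of F if and only if it is the image of some x ∈ B_i whose images in B_j lie in the
kernel of F_j for every j ≥ i; that is, the kernel of F is the direct limit of the kernels of the
F_i. -/
theorem result {A : Type u} [CommRing A] {B : Type u} [CommRing B] [Algebra A B]
    {C : Type u} [CommRing C] [Algebra A C] {ι : Type u} [Preorder ι] [IsDirected ι (fun i j => i ≤ j)] [Nonempty ι]
    (Bi : ι → Type u) [∀ i, CommRing (Bi i)] [∀ i, Algebra A (Bi i)]
    (t : ∀ i j : ι, i ≤ j → (Bi i →ₐ[A] Bi j)) (φ : ∀ i : ι, Bi i →ₐ[A] B)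
    (hcomp : ∀ (i j : ι) (h : i ≤ j), (φ j).comp (t i j h) = φ i)
    (hsurj : ∀ b : B, ∃ (i : ι) (x : Bi i), φ i x = b)
    (hzero : ∀ (i : ι) (x : Bi i), φ i x = 0 → ∃ (j : ι) (h : i ≤ j), t i j h x = 0)
    {d : ℕ} (F : PolLaw.MulLaw A B C d) (b : B) :
    b ∈ PolLaw.ker F.law ↔ ∃ (i : ι) (x : Bi i), φ i x = b ∧
      ∀ (j : ι) (h : i ≤ j), t i j h x ∈ PolLaw.ker (F.precomp (φ j)).law := by

  classical
  -- precomp apply
  have hpre : ∀ (j : ι) (S : Type u) [CommSemiring S] [Algebra A S] (y : S ⊗[A] Bi j),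
      (F.precomp (φ j)).law.toFun' S y = F.law.toFun' S ((φ j).toLinearMap.lTensor S y) := by
    intro j S _ _ y; rfl
  -- lifting lemma
  have hlift : ∀ (S : Type u) [CommSemiring S] [Algebra A S] (x' : S ⊗[A] B) (i₀ : ι),
      ∃ (j : ι) (_ : i₀ ≤ j) (y : S ⊗[A] Bi j), (φ j).toLinearMap.lTensor S y = x' := by
    intro S _ _ x'
    induction x' using TensorProduct.induction_on with
    | zero => intro i₀; exact ⟨i₀, le_refl _, 0, by simp⟩
    | tmul s b =>
      intro i₀
      obtain ⟨k, z, rfl⟩ := hsurj b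
      obtain ⟨j, hj1, hj2⟩ := directed_of (fun i j : ι => i ≤ j) i₀ k
      refine ⟨j, hj1, s ⊗ₜ[A] t k j hj2 z, ?_⟩
      rw [LinearMap.lTensor_tmul]
      congr 1
      have := hcomp k j hj2
      exact DFunLike.congr_fun this z
    | add x₁ x₂ h₁ h₂ =>
      intro i₀
      obtain ⟨j₁, hj₁, y₁, hy₁⟩ := h₁ i₀
      obtain ⟨j₂, hj₂, y₂, hy₂⟩ := h₂ j₁
      refine ⟨j₂, le_trans hj₁ hj₂, (t j₁ j₂ hj₂).toLinearMap.lTensor S y₁ + y₂, ?_⟩
      rw [map_add, hy₂, ← hy₁, ← LinearMap.comp_apply, ← LinearMap.lTensor_comp,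
        ← AlgHom.comp_toLinearMap, hcomp]
  constructor
  · intro hb
    obtain ⟨i, x, hx⟩ := hsurj b
    refine ⟨i, x, hx, ?_⟩
    intro j h S _ _ y w
    rw [hpre, hpre, map_add, PolLaw.lTensor_algHom_apply, PolLaw.lTensor_algHom_apply,
      map_mul, Algebra.TensorProduct.map_tmul]
    have h1 : (φ j) (t i j h x) = b := by
      rw [← hx, ← hcomp i j h]; rfl
    rw [h1]
    simp only [AlgHom.coe_id, id_eq]
    exact hb S _ _
  · rintro ⟨i, x, hx, hker⟩
    intro S _ _ x' w
    obtain ⟨j₁, hj₁, y₁, hy₁⟩ := hlift S x' i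
    obtain ⟨j₂, hj₂, v, hv⟩ := hlift S w j₁
    have hij : i ≤ j₂ := le_trans hj₁ hj₂
    have hk := hker j₂ hij S ((t j₁ j₂ hj₂).toLinearMap.lTensor S y₁) v
    rw [hpre, hpre] at hk
    have e1 : (φ j₂).toLinearMap.lTensor S ((t j₁ j₂ hj₂).toLinearMap.lTensor S y₁) = x' := by
      rw [← hy₁, ← LinearMap.comp_apply, ← LinearMap.lTensor_comp,
        ← AlgHom.comp_toLinearMap, hcomp]
    have h1 : (φ j₂) (t i j₂ hij x) = b := by
      rw [← hx, ← hcomp i j₂ hij]; rfl
    rw [map_add, e1, PolLaw.lTensor_algHom_apply (φ j₂) S (v * _), map_mul,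
      ← PolLaw.lTensor_algHom_apply, hv, Algebra.TensorProduct.map_tmul, h1] at hk
    simpa using hk

end Groth.Agent.S13720
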