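import Groth.Statements.S13722
import Groth.Agent.Helper4.PolLaw1
import Mathlib

set_option autoImplicit false
universe u
open scoped TensorProduct
open ZeroCyc

namespace Groth.Agent.S13722


/-- Let B and C be commutative algebras over the commutative ring A and F : B → C a multiplicative
polynomial law homogeneous of degree d. If C is reduced, then the quotient of B by the kernel of F
is reduced. In particular the image of a family of zero-cycles parametrised by a reduced base is
reduced. -/
theorem result {A : Type u} [CommRing A] {B : Type u} [CommRing B] [Algebra A B]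
    {C : Type u} [CommRing C] [Algebra A C] [IsReduced C] {d : ℕ} (F : PolLaw.MulLaw A B C d) :
    IsReduced (PolLaw.image F.law) := by

  classical
  open Groth.Agent.Helper4.PolLaw1 in
  -- reducedness of polynomial test algebras
  have hred : ∀ n : ℕ, IsReduced (MvPolynomial (Fin n) A ⊗[A] C) := by
    intro n
    let f : MvPolynomial (Fin n) A ⊗[A] C →+* MvPolynomial (Fin n) C :=
      ((MvPolynomial.algebraTensorAlgEquiv (σ := Fin n) A C).toRingEquiv.toRingHom).comp
        (Algebra.TensorProduct.comm A (MvPolynomial (Fin n) A) C).toRingEquiv.toRingHom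
    have hf : Function.Injective f := by
      show Function.Injective ((MvPolynomial.algebraTensorAlgEquiv (σ := Fin n) A C).toRingEquiv ∘
        (Algebra.TensorProduct.comm A (MvPolynomial (Fin n) A) C).toRingEquiv)
      exact Function.Injective.comp
        (MvPolynomial.algebraTensorAlgEquiv (σ := Fin n) A C).toRingEquiv.injective
        (Algebra.TensorProduct.comm A (MvPolynomial (Fin n) A) C).toRingEquiv.injective
    exact isReduced_of_injective f hf
  have hsq : ∀ b : B, b * b ∈ PolLaw.ker F.law → b ∈ PolLaw.ker F.law := by
    intro b hb S _ _ x w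
    obtain ⟨n, ψ, p, q, rfl, rfl⟩ := exists_lift₂ x w
    haveI := hred n
    have h := eq_of_sq_mem_ker F (MvPolynomial (Fin n) A) b hb p q
    have h1 : (1 : S) ⊗ₜ[A] b = Algebra.TensorProduct.map ψ (AlgHom.id A B)
        ((1 : MvPolynomial (Fin n) A) ⊗ₜ[A] b) := by
      rw [Algebra.TensorProduct.map_tmul, map_one]; rfl
    rw [h1, ← map_mul, ← map_add, compat, compat, h]
  have hpow : ∀ k : ℕ, ∀ b : B, b ^ (2 ^ k) ∈ PolLaw.ker F.law → b ∈ PolLaw.ker F.law := by
    intro k
    induction k with
    | zero => intro b hb; simpa using hb
    | succ k ih =>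
      intro b hb
      apply ih
      apply hsq
      rw [← pow_add, ← two_mul, ← pow_succ']
      exact hb
  show IsReduced (B ⧸ PolLaw.ker F.law)
  rw [← Ideal.isRadical_iff_quotient_reduced]
  intro b hb
  obtain ⟨n, hn⟩ := hb
  apply hpow n
  have : n ≤ 2 ^ n := Nat.lt_two_pow_self.le
  obtain ⟨m, hm⟩ := Nat.exists_eq_add_of_le this
  rw [hm, pow_add]
  exact Ideal.mul_mem_right _ _ hn

end Groth.Agent.S13722
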