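import Groth.Statements.S13725
import Mathlib

set_option autoImplicit false
universe u
open scoped TensorProduct
open ZeroCyc

namespace Groth.Agent.S13725


/-- Let k be a field of characteristic p > 0 and let F : k → k be the law x ↦ x^p, multiplicative and
homogeneous of degree p over k. The kernel of F is the zero ideal, but after the flat base change k
→ A' = k[X]/(X^p) the kernel of the base-changed law on A' ⊗_k k is not zero (the class of X lies in
it). So in characteristic p, forming the kernel of a multiplicative law is not compatible with flat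
base change. -/
theorem result {k : Type u} [Field k] (p : ℕ) [Fact p.Prime] [CharP k p] :
    PolLaw.ker (PolLaw.MulLaw.pow k k p).law = ⊥ ∧
      PolLaw.kerBC (PolLaw.MulLaw.pow k k p).law (AdjoinRoot ((Polynomial.X : Polynomial k) ^ p)) ≠ ⊥ := by

  have hp : p.Prime := Fact.out
  constructor
  · rw [eq_bot_iff]
    intro b hb
    have h := hb k 0 1
    have h' : ((0 : k ⊗[k] k) + 1 * ((1 : k) ⊗ₜ[k] b)) ^ p = (0 : k ⊗[k] k) ^ p := h
    rw [zero_add, one_mul, zero_pow hp.ne_zero, Algebra.TensorProduct.tmul_pow, one_pow] at h'
    have h2 := congrArg (Algebra.TensorProduct.lid k k) h'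
    rw [Algebra.TensorProduct.lid_tmul, map_zero, one_smul] at h2
    rw [Ideal.mem_bot]
    exact pow_eq_zero_iff hp.ne_zero |>.1 h2
  · intro hbot
    have hroot : (AdjoinRoot.root ((Polynomial.X : Polynomial k) ^ p)) ^ p = 0 := by
      rw [← AdjoinRoot.mk_X, ← map_pow, AdjoinRoot.mk_self]
    have hz : (AdjoinRoot.root ((Polynomial.X : Polynomial k) ^ p)) ⊗ₜ[k] (1 : k) ∈
        PolLaw.kerBC (PolLaw.MulLaw.pow k k p).law
          (AdjoinRoot ((Polynomial.X : Polynomial k) ^ p)) := by
      intro R _ _ _ _ x w
      show (x + w * _) ^ p = x ^ p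
      rcases subsingleton_or_nontrivial (R ⊗[k] k) with hs | hn
      · exact Subsingleton.elim _ _
      · haveI : CharP (R ⊗[k] k) p :=
          charP_of_injective_algebraMap (algebraMap k (R ⊗[k] k)).injective p
        rw [add_pow_char, mul_pow, Algebra.TensorProduct.map_tmul, Algebra.TensorProduct.tmul_pow,
          ← map_pow, hroot, map_zero, TensorProduct.zero_tmul, mul_zero, add_zero]
    rw [hbot, Ideal.mem_bot] at hz
    have h2 := congrArg (Algebra.TensorProduct.rid k (AdjoinRoot ((Polynomial.X : Polynomial k) ^ p))
      (AdjoinRoot ((Polynomial.X : Polynomial k) ^ p))) hz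
    rw [Algebra.TensorProduct.rid_tmul, map_zero, one_smul, ← AdjoinRoot.mk_X,
      AdjoinRoot.mk_eq_zero] at h2
    have h3 := Polynomial.natDegree_le_of_dvd h2 Polynomial.X_ne_zero
    rw [Polynomial.natDegree_X_pow, Polynomial.natDegree_X] at h3
    have := hp.two_le
    omega

end Groth.Agent.S13725
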