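import Groth.Statements.S13726
import Groth.Agent.Helper4.PowLawKer
import Mathlib

set_option autoImplicit false
universe u
open scoped TensorProduct
open ZeroCyc

namespace Groth.Agent.S13726


/-- Let k be a field of characteristic p > 0 and A = k[t_i : i ∈ ℕ]/(t_i^p : i ∈ ℕ). The law x ↦ x^p
from A to A is multiplicative and homogeneous of degree p over A; its kernel is the ideal generated
by the classes of the variables t_i, and this ideal is not finitely generated. Hence the image of a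
family of zero-cycles need not be of finite presentation over the base even when X → S is. -/
theorem result {k : Type u} [Field k] (p : ℕ) [Fact p.Prime] [CharP k p] :
    PolLaw.ker (PolLaw.MulLaw.pow
        (MvPolynomial ℕ k ⧸ Ideal.span (Set.range fun i : ℕ => (MvPolynomial.X i : MvPolynomial ℕ k) ^ p))
        (MvPolynomial ℕ k ⧸ Ideal.span (Set.range fun i : ℕ => (MvPolynomial.X i : MvPolynomial ℕ k) ^ p)) p).law =
      (Ideal.span (Set.range fun i : ℕ => (MvPolynomial.X i : MvPolynomial ℕ k))).map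
        (Ideal.Quotient.mk (Ideal.span (Set.range fun i : ℕ => (MvPolynomial.X i : MvPolynomial ℕ k) ^ p))) ∧
    ¬ (PolLaw.ker (PolLaw.MulLaw.pow
        (MvPolynomial ℕ k ⧸ Ideal.span (Set.range fun i : ℕ => (MvPolynomial.X i : MvPolynomial ℕ k) ^ p))
        (MvPolynomial ℕ k ⧸ Ideal.span (Set.range fun i : ℕ => (MvPolynomial.X i : MvPolynomial ℕ k) ^ p)) p).law).FG := by

  classical
  have hp : p.Prime := Fact.out
  set I : Ideal (MvPolynomial ℕ k) :=
    Ideal.span (Set.range fun i : ℕ => (MvPolynomial.X i : MvPolynomial ℕ k) ^ p) with hI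
  have hXp : ∀ i : ℕ, (Ideal.Quotient.mk I (MvPolynomial.X i)) ^ p = 0 := by
    intro i
    rw [← map_pow]
    exact Ideal.Quotient.eq_zero_iff_mem.2 (Ideal.subset_span ⟨i, rfl⟩)
  -- the augmentation
  have hIle : I ≤ RingHom.ker (MvPolynomial.constantCoeff : MvPolynomial ℕ k →+* k) := by
    rw [hI, Ideal.span_le]
    rintro _ ⟨i, rfl⟩
    rw [SetLike.mem_coe, RingHom.mem_ker, map_pow, MvPolynomial.constantCoeff_X,
      zero_pow hp.ne_zero]
  let ε : (MvPolynomial ℕ k ⧸ I) →+* k :=
    Ideal.Quotient.lift I MvPolynomial.constantCoeff (fun a ha => hIle ha)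
  have hker : PolLaw.ker (PolLaw.MulLaw.pow (MvPolynomial ℕ k ⧸ I) (MvPolynomial ℕ k ⧸ I) p).law =
      (Ideal.span (Set.range fun i : ℕ => (MvPolynomial.X i : MvPolynomial ℕ k))).map
        (Ideal.Quotient.mk I) := by
    apply le_antisymm
    · intro b hb
      have h2 := Groth.Agent.Helper4.PowLawKer.pow_eq_zero_of_mem_ker p hp.ne_zero b hb
      obtain ⟨q, rfl⟩ := Ideal.Quotient.mk_surjective b
      have h3 : ε (Ideal.Quotient.mk I q) ^ p = 0 := by rw [← map_pow, h2, map_zero]
      have h4 : MvPolynomial.constantCoeff q = 0 := by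
        have := pow_eq_zero_iff hp.ne_zero |>.1 h3
        exact this
      apply Ideal.mem_map_of_mem
      have h5 : q ∈ MvPolynomial.idealOfVars ℕ k ^ 1 := by
        rw [MvPolynomial.mem_pow_idealOfVars_iff']
        intro x hx
        have hx0 : x = 0 := by
          have : Finsupp.degree x = 0 := by omega
          exact (Finsupp.degree_eq_zero_iff x).1 this
        rw [hx0]
        exact h4
      rwa [pow_one] at h5
    · rw [Ideal.map_le_iff_le_comap, Ideal.span_le]
      rintro _ ⟨i, rfl⟩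
      rw [SetLike.mem_coe, Ideal.mem_comap]
      exact Groth.Agent.Helper4.PowLawKer.mem_ker_of_pow_eq_zero (k := k) p _ (hXp i)
  refine ⟨hker, ?_⟩
  rw [hker, Ideal.map_span]
  intro hfg0
  have hfg : (Submodule.span (MvPolynomial ℕ k ⧸ I) ((Ideal.Quotient.mk I) ''
      Set.range fun i : ℕ => (MvPolynomial.X i : MvPolynomial ℕ k))).FG := hfg0
  rw [Submodule.fg_span_iff_fg_span_finset_subset] at hfg
  obtain ⟨T, hT, hspan⟩ := hfg
  -- indices
  have hTi : ∀ y ∈ T, ∃ i : ℕ, y = Ideal.Quotient.mk I (MvPolynomial.X i) := by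
    intro y hy
    obtain ⟨_, ⟨i, rfl⟩, rfl⟩ := hT hy
    exact ⟨i, rfl⟩
  choose idx hidx using hTi
  let N : ℕ := (T.attach.sup fun y => idx y.1 y.2) + 1
  have hN : ∀ y (hy : y ∈ T), idx y hy < N := by
    intro y hy
    have : idx y hy ≤ T.attach.sup fun y => idx y.1 y.2 :=
      Finset.le_sup (f := fun y : T => idx y.1 y.2) (Finset.mem_attach T ⟨y, hy⟩)
    omega
  -- the test map
  have hroot : (AdjoinRoot.root ((Polynomial.X : Polynomial k) ^ p)) ^ p = 0 := by
    rw [← AdjoinRoot.mk_X, ← map_pow, AdjoinRoot.mk_self]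
  let g : ℕ → AdjoinRoot ((Polynomial.X : Polynomial k) ^ p) :=
    fun i => if i = N then AdjoinRoot.root _ else 0
  let ψ₀ : MvPolynomial ℕ k →+* AdjoinRoot ((Polynomial.X : Polynomial k) ^ p) :=
    MvPolynomial.eval₂Hom (algebraMap k _) g
  have hψI : ∀ a ∈ I, ψ₀ a = 0 := by
    intro a ha
    have : I ≤ RingHom.ker ψ₀ := by
      rw [hI, Ideal.span_le]
      rintro _ ⟨i, rfl⟩
      rw [SetLike.mem_coe, RingHom.mem_ker, map_pow]
      simp only [ψ₀, MvPolynomial.eval₂Hom_X', g]
      split_ifs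
      · exact hroot
      · exact zero_pow hp.ne_zero
    exact this ha
  let ψ : (MvPolynomial ℕ k ⧸ I) →+* AdjoinRoot ((Polynomial.X : Polynomial k) ^ p) :=
    Ideal.Quotient.lift I ψ₀ hψI
  have hmem : Ideal.Quotient.mk I (MvPolynomial.X N) ∈
      Ideal.span ((Ideal.Quotient.mk I) '' Set.range fun i : ℕ => (MvPolynomial.X i : MvPolynomial ℕ k)) :=
    Ideal.subset_span ⟨_, ⟨N, rfl⟩, rfl⟩
  have hspan' : Ideal.span ((Ideal.Quotient.mk I) '' Set.range fun i : ℕ => (MvPolynomial.X i : MvPolynomial ℕ k)) =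
      Ideal.span (T : Set (MvPolynomial ℕ k ⧸ I)) := hspan
  rw [hspan'] at hmem
  have hle : Ideal.span (T : Set (MvPolynomial ℕ k ⧸ I)) ≤ RingHom.ker ψ := by
    rw [Ideal.span_le]
    intro y hy
    rw [SetLike.mem_coe, RingHom.mem_ker, hidx y hy]
    simp only [ψ, Ideal.Quotient.lift_mk, ψ₀, MvPolynomial.eval₂Hom_X', g]
    rw [if_neg]
    have := hN y hy
    omega
  have h0 := hle hmem
  rw [RingHom.mem_ker] at h0
  simp only [ψ, Ideal.Quotient.lift_mk, ψ₀, MvPolynomial.eval₂Hom_X', g, if_true] at h0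
  rw [← AdjoinRoot.mk_X, AdjoinRoot.mk_eq_zero] at h0
  have h3 := Polynomial.natDegree_le_of_dvd h0 Polynomial.X_ne_zero
  rw [Polynomial.natDegree_X_pow, Polynomial.natDegree_X] at h3
  have := hp.two_le
  omega

end Groth.Agent.S13726
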