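import Groth.Statements.S13729
import Groth.Agent.Helper4.ZCGamC
import Groth.Agent.Helper4.LazLiteC
import Mathlib

set_option autoImplicit false
universe u
open scoped TensorProduct
open ZeroCyc

namespace Groth.Agent.S13729


/-- Let (C, γ) be the algebra of divided powers Γ^d_A(B) of a commutative A-algebra B with its universal
multiplicative law γ : B → C homogeneous of degree d (every multiplicative law B → C' homogeneous of
degree d factors uniquely through γ by an algebra map C → C'). If B is flat over A then C = Γ^d_A(B)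
is flat over A. (The published statement is that Γ^d(X/S) → S inherits flatness from X → S for any
separated algebraic space X over S; this row is the case X and S affine, where Γ^d(X/S) = Spec
Γ^d_A(B).) -/
theorem result {A : Type u} [CommRing A] {B : Type u} [CommRing B] [Algebra A B] {C : Type u} [CommRing C] [Algebra A C]
    {d : ℕ} (γ : PolLaw.MulLaw A B C d) (hγ : PolLaw.IsGammaD γ) [Module.Flat A B] :
    Module.Flat A C := by

  have hτ : PolLaw.IsGammaD (Groth.Agent.Helper4.ZCGamA.τ A B d) :=
    Groth.Agent.Helper4.ZCGamA.isGammaD_τ Groth.Agent.Helper4.ZCGamC.Sur_of_flat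
      Groth.Agent.Helper4.ZCGamC.Ker_of_flat
  -- flatness of the symmetric tensors
  let e : SymTen.TS A B d ≃ₗ[A] Groth.Agent.Helper4.LazLiteC.TSsub A B d :=
    { toFun := fun x => ⟨x.1, (Groth.Agent.Helper4.LazLiteC.mem_TSsub_iff _).2 x.2⟩
      invFun := fun x => ⟨x.1, (Groth.Agent.Helper4.LazLiteC.mem_TSsub_iff _).1 x.2⟩
      map_add' := fun _ _ => rfl
      map_smul' := fun _ _ => rfl
      left_inv := fun _ => rfl
      right_inv := fun _ => rfl }
  haveI : Module.Flat A (Groth.Agent.Helper4.LazLiteC.TSsub A B d) :=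
    Groth.Agent.Helper4.LazLiteC.flat_TSsub
  haveI : Module.Flat A (SymTen.TS A B d) := Module.Flat.of_linearEquiv e
  -- the two comparison maps
  obtain ⟨f, hf, -⟩ := hγ (SymTen.TS A B d) (Groth.Agent.Helper4.ZCGamA.τ A B d)
  obtain ⟨g, hg, -⟩ := hτ C γ
  have h1 : PolLaw.postcomp (g.comp f).toLinearMap γ.law = γ.law := by
    ext S _ _ x
    show (g.comp f).toLinearMap.lTensor S (γ.law.toFun' S x) = γ.law.toFun' S x
    rw [AlgHom.comp_toLinearMap, LinearMap.lTensor_comp, LinearMap.comp_apply]
    have h2 : f.toLinearMap.lTensor S (γ.law.toFun' S x) =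
        (Groth.Agent.Helper4.ZCGamA.τ A B d).law.toFun' S x := by
      have := congrArg (fun G : B →ₚₗ[A] (SymTen.TS A B d) => G.toFun' S x) hf
      exact this
    rw [h2]
    have h3 := congrArg (fun G : B →ₚₗ[A] C => G.toFun' S x) hg
    exact h3
  have h2 : PolLaw.postcomp (AlgHom.id A C).toLinearMap γ.law = γ.law := by
    ext S _ _ x
    show (AlgHom.id A C).toLinearMap.lTensor S (γ.law.toFun' S x) = γ.law.toFun' S x
    simp
  have huniq := (hγ C γ).unique h1 h2
  refine Module.Flat.of_retract f.toLinearMap g.toLinearMap ?_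
  ext c
  have := congrArg (fun k : C →ₐ[A] C => k c) huniq
  simpa using this

end Groth.Agent.S13729
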