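import Groth.Statements.S13730
import Groth.Agent.Helper4.ZCGamC
import Groth.Agent.Helper4.TSPure
import Groth.Agent.Helper4.TPowAlg
import Mathlib

set_option autoImplicit false
universe u
open scoped TensorProduct
open ZeroCyc

namespace Groth.Agent.S13730


/-- Let (C, γ) be the algebra of divided powers Γ^d_A(B) of a commutative A-algebra B with its universal
multiplicative law γ : B → C homogeneous of degree d (every multiplicative law B → C' homogeneous of
degree d factors uniquely through γ by an algebra map C → C'). If B is flat over A and K ⊗_A B is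
reduced for every field K receiving a ring map from A (X = Spec B → S = Spec A is flat with
geometrically reduced fibres), then K ⊗_A C is reduced for every such K: Γ^d_A(B) again has
geometrically reduced fibres over A. (The published statement is for a flat morphism of algebraic
spaces X → S with geometrically reduced fibres and also records that Γ^d(X/S) → S is flat; this row
is the affine case and states only the reducedness of the fibres, flatness of Γ^d_A(B) for flat B
being a separate statement.) -/
theorem result {A : Type u} [CommRing A] {B : Type u} [CommRing B] [Algebra A B] {C : Type u} [CommRing C] [Algebra A C]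
    {d : ℕ} (γ : PolLaw.MulLaw A B C d) (hγ : PolLaw.IsGammaD γ) [Module.Flat A B]
    (hred : ∀ (K : Type u) [Field K] [Algebra A K], IsReduced (K ⊗[A] B)) :
    ∀ (K : Type u) [Field K] [Algebra A K], IsReduced (K ⊗[A] C) := by

  intro K _ _
  have hτ : PolLaw.IsGammaD (Groth.Agent.Helper4.ZCGamA.τ A B d) :=
    Groth.Agent.Helper4.ZCGamA.isGammaD_τ Groth.Agent.Helper4.ZCGamC.Sur_of_flat
      Groth.Agent.Helper4.ZCGamC.Ker_of_flat
  let e : SymTen.TS A B d ≃ₗ[A] Groth.Agent.Helper4.LazLiteC.TSsub A B d :=
    { toFun := fun x => ⟨x.1, (Groth.Agent.Helper4.LazLiteC.mem_TSsub_iff _).2 x.2⟩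
      invFun := fun x => ⟨x.1, (Groth.Agent.Helper4.LazLiteC.mem_TSsub_iff _).1 x.2⟩
      map_add' := fun _ _ => rfl
      map_smul' := fun _ _ => rfl
      left_inv := fun _ => rfl
      right_inv := fun _ => rfl }
  -- the two comparison maps
  obtain ⟨f, hf, -⟩ := hγ (SymTen.TS A B d) (Groth.Agent.Helper4.ZCGamA.τ A B d)
  obtain ⟨g, hg, -⟩ := hτ C γ
  have h1 : PolLaw.postcomp (g.comp f).toLinearMap γ.law = γ.law := by
    ext S _ _ x
    show (g.comp f).toLinearMap.lTensor S (γ.law.toFun' S x) = γ.law.toFun' S x
    rw [AlgHom.comp_toLinearMap, LinearMap.lTensor_comp, LinearMap.comp_apply]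
    have h2 : f.toLinearMap.lTensor S (γ.law.toFun' S x) =
        (Groth.Agent.Helper4.ZCGamA.τ A B d).law.toFun' S x := by
      have := congrArg (fun G : B →ₚₗ[A] (SymTen.TS A B d) => G.toFun' S x) hf
      exact this
    rw [h2]
    have h3 := congrArg (fun G : B →ₚₗ[A] C => G.toFun' S x) hg
    exact h3
  have h2 : PolLaw.postcomp (AlgHom.id A C).toLinearMap γ.law = γ.law := by
    ext S _ _ x
    show (AlgHom.id A C).toLinearMap.lTensor S (γ.law.toFun' S x) = γ.law.toFun' S x
    simp
  have huniq := (hγ C γ).unique h1 h2
  have hgf : g.toLinearMap ∘ₗ f.toLinearMap = LinearMap.id := by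
    ext c
    have := congrArg (fun k : C →ₐ[A] C => k c) huniq
    simpa using this
  -- reducedness of the tensor power
  haveI hT : IsReduced (K ⊗[A] (⨂[A] _ : Fin d, B)) :=
    Groth.Agent.Helper4.TPowAlg.GR_tpow (fun K _ _ => hred K) d K
  let Φ : K ⊗[A] C →ₐ[K] K ⊗[A] (⨂[A] _ : Fin d, B) :=
    Algebra.TensorProduct.map (AlgHom.id K K) ((SymTen.TS A B d).val.comp f)
  refine isReduced_of_injective Φ ?_
  have hΦ : ∀ x, Φ x = (SymTen.TS A B d).val.toLinearMap.lTensor K (f.toLinearMap.lTensor K x) := by
    intro x
    induction x using TensorProduct.induction_on with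
    | zero => simp
    | tmul a c => rfl
    | add x y hx hy => rw [map_add, hx, hy, map_add, map_add]
  have inj1 : Function.Injective (f.toLinearMap.lTensor K) := by
    apply Function.LeftInverse.injective (g := g.toLinearMap.lTensor K)
    intro x
    rw [← LinearMap.comp_apply, ← LinearMap.lTensor_comp, hgf, LinearMap.lTensor_id,
      LinearMap.id_apply]
  have inj2 : Function.Injective ((SymTen.TS A B d).val.toLinearMap.lTensor K) := by
    have hval : (SymTen.TS A B d).val.toLinearMap =
        (Groth.Agent.Helper4.LazLiteC.TSsub A B d).subtype ∘ₗ e.toLinearMap := rfl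
    rw [hval, LinearMap.lTensor_comp]
    exact (Groth.Agent.Helper4.TSPure.lTensor_subtype_injective (A := A) (M := B) (n := d) K).comp
      (e.lTensor K).injective
  intro x y hxy
  rw [hΦ, hΦ] at hxy
  exact inj1 (inj2 hxy)

end Groth.Agent.S13730
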