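import Groth.Statements.S13750
import Groth.Agent.Helper6.NeronMP
import Groth.Agent.Lead.NeronLocD
import Mathlib

set_option autoImplicit false
universe u
open CategoryTheory AlgebraicGeometry
open Neron

namespace Groth.Agent.S13750

/-- Let S be a locally Noetherian scheme, U ⊆ S an open subscheme and N → S a smooth separated morphism
of finite type having the Néron mapping property with respect to U: for every smooth S-scheme Y,
restriction to U is a bijection from S-morphisms Y → N onto U-morphisms Y ×_S U → N ×_S U. Let s be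
a point of S and S̃ = Spec O_{S,s} → S the canonical morphism. Then N ×_S S̃ → S̃ has the Néron
mapping property with respect to the preimage Ũ of U: for every smooth S̃-scheme Ỹ, restriction to Ũ
is a bijection from S̃-morphisms Ỹ → N ×_S S̃ onto Ũ-morphisms. (The published statement is for N an
algebraic space which is a Néron model of an abelian scheme over U and also covers the strict
henselisation at a geometric point; this row is the localisation case for a scheme N, with no
abelian-scheme hypothesis.) -/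
theorem result
    {S : Scheme.{u}} [IsLocallyNoetherian S] (U : S.Opens)
    (N : Over S) [Smooth N.hom] [IsSeparated N.hom] [QuasiCompact N.hom]
    (hN : ∀ Y : Over S, Smooth Y.hom →
      Function.Bijective (fun f : Y ⟶ N => (Over.pullback U.ι).map f))
    (s : S) (Y' : Over (Spec (S.presheaf.stalk s))) [Smooth Y'.hom] :
    Function.Bijective (fun f : Y' ⟶ (Over.pullback (S.fromSpecStalk s)).obj N =>
      (Over.pullback ((S.fromSpecStalk s) ⁻¹ᵁ U).ι).map f) := by
  rw [Helper6.NeronMP.bijective_iff_plainExt]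
  intro χ hχ
  change χ ≫ Limits.pullback.snd N.hom (S.fromSpecStalk s) =
    (Y'.hom ⁻¹ᵁ ((S.fromSpecStalk s) ⁻¹ᵁ U)).ι ≫ Y'.hom at hχ
  have hN' : ∀ (Y : Scheme.{u}) (a : Y ⟶ S), Smooth a → Lead.NeronLocA.ExtG U N.hom a :=
    fun Y a ha ↦ Lead.NeronLocC.extG_of_plain U N.hom a
      ((Helper6.NeronMP.bijective_iff_plainExt U (Over.mk a) N).1 (hN (Over.mk a) ha))
  have hE := Lead.NeronLocD.ext_smooth U N.hom hN' s Y'.hom
  have hP := Lead.NeronLocC.plain_of_extG U N.hom _ hE
  have hχ' : (χ ≫ Limits.pullback.fst N.hom (S.fromSpecStalk s)) ≫ N.hom =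
      (Y'.hom ⁻¹ᵁ ((S.fromSpecStalk s) ⁻¹ᵁ U)).ι ≫ Y'.hom ≫ S.fromSpecStalk s := by
    rw [Category.assoc, Limits.pullback.condition, ← Category.assoc, hχ, Category.assoc]
  obtain ⟨φ₁, ⟨h1, h2⟩, hu⟩ := hP (χ ≫ Limits.pullback.fst N.hom (S.fromSpecStalk s)) hχ'
  change (Y'.hom ⁻¹ᵁ ((S.fromSpecStalk s) ⁻¹ᵁ U)).ι ≫ φ₁ =
    χ ≫ Limits.pullback.fst N.hom (S.fromSpecStalk s) at h2
  refine ⟨Limits.pullback.lift φ₁ Y'.hom h1, ⟨Limits.pullback.lift_snd _ _ _, ?_⟩, ?_⟩
  · apply Limits.pullback.hom_ext
    · rw [Category.assoc, Limits.pullback.lift_fst, h2]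
    · rw [Category.assoc, Limits.pullback.lift_snd, hχ]
  · rintro φ' ⟨e1, e2⟩
    change φ' ≫ Limits.pullback.snd N.hom (S.fromSpecStalk s) = Y'.hom at e1
    have : φ' ≫ Limits.pullback.fst N.hom (S.fromSpecStalk s) = φ₁ := by
      apply hu
      constructor
      · change (φ' ≫ Limits.pullback.fst N.hom (S.fromSpecStalk s)) ≫ N.hom =
          Y'.hom ≫ S.fromSpecStalk s
        rw [Category.assoc, Limits.pullback.condition, ← Category.assoc, e1]
      · change (Y'.hom ⁻¹ᵁ ((S.fromSpecStalk s) ⁻¹ᵁ U)).ι ≫ φ' ≫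
          Limits.pullback.fst N.hom (S.fromSpecStalk s) =
          χ ≫ Limits.pullback.fst N.hom (S.fromSpecStalk s)
        rw [← Category.assoc, e2]
    apply Limits.pullback.hom_ext
    · rw [Limits.pullback.lift_fst, this]
    · rw [Limits.pullback.lift_snd, e1]

end Groth.Agent.S13750
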