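import Groth.Statements.S13757
import Mathlib

set_option autoImplicit false
universe u
open LabGraph

namespace Groth.Agent.S13757

/-- Let G be a finite connected multigraph (loops and multiple edges allowed) with vertex set V, edge
set E, endpoint map E → V × V and a labelling of the edges by positive integers l. A vertex
labelling φ : V → ℤ is Cartier when l(e) divides the difference of the values of φ at the two
endpoints of every edge e; its multidegree is the vertex labelling whose value at v is the sum, over
the edge-ends at v, of (value of φ at the other endpoint − φ(v)) / l(e). Then the Cartier vertex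
labellings of multidegree zero are exactly the constant ones: the kernel of the multidegree operator
on Cartier labellings is ℤ, embedded as the constants. -/
theorem result
    {V E : Type u} [Fintype V] [Fintype E] [DecidableEq V] [DecidableEq E]
    (ends : E → V × V) (l : E → ℕ) (hl : ∀ e, 0 < l e) (hconn : LabGraph.Connected ends)
    (φ : V → ℤ) (hφ : LabGraph.IsCartier ends l φ) :
    (∀ v : V, LabGraph.mdeg ends l φ v = 0) ↔ ∀ v w : V, φ v = φ w := by
  constructor
  · intro h
    set d : E → ℤ := fun e => (φ (ends e).1 - φ (ends e).2) / (l e : ℤ) with hd
    have hd1 : ∀ e, d e * (l e : ℤ) = φ (ends e).1 - φ (ends e).2 := fun e => Int.ediv_mul_cancel (hφ e)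
    have hd2 : ∀ e, (φ (ends e).2 - φ (ends e).1) / (l e : ℤ) = - d e := by
      intro e
      rw [← neg_sub, Int.neg_ediv_of_dvd (hφ e)]
    have key : ∑ v, φ v * LabGraph.mdeg ends l φ v = - ∑ e, (l e : ℤ) * d e ^ 2 := by
      simp only [LabGraph.mdeg, hd2]
      simp_rw [Finset.mul_sum]
      rw [Finset.sum_comm, ← Finset.sum_neg_distrib]
      apply Finset.sum_congr rfl
      intro e _
      simp only [mul_add, mul_ite, mul_zero, Finset.sum_add_distrib, Finset.sum_ite_eq, Finset.mem_univ,
        if_true]
      have := hd1 e
      simp only [hd] at this ⊢
      linear_combination ((φ (ends e).1 - φ (ends e).2) / (l e : ℤ)) * this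
    have hsum : ∑ e, (l e : ℤ) * d e ^ 2 = 0 := by
      have h0 : ∑ v, φ v * LabGraph.mdeg ends l φ v = 0 := by simp [h]
      rw [key] at h0
      linarith
    have hz : ∀ e, (l e : ℤ) * d e ^ 2 = 0 := by
      have := (Finset.sum_eq_zero_iff_of_nonneg (fun e _ => by positivity)).1 hsum
      intro e
      exact this e (Finset.mem_univ e)
    have hde : ∀ e, φ (ends e).1 = φ (ends e).2 := by
      intro e
      have h1 := hz e
      have hle : (l e : ℤ) ≠ 0 := by exact_mod_cast (hl e).ne'
      have h2 : d e = 0 := by
        rcases mul_eq_zero.1 h1 with h3 | h3
        · exact absurd h3 hle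
        · exact pow_eq_zero_iff (two_ne_zero) |>.1 h3
      have h4 := hd1 e
      rw [h2] at h4
      linarith
    have hadj : ∀ v w, LabGraph.Adj ends v w → φ v = φ w := by
      rintro v w ⟨e, he | he⟩
      · have := hde e
        rw [he] at this
        exact this
      · have := hde e
        rw [he] at this
        exact this.symm
    intro v w
    have hvw := hconn.2 v w
    induction hvw with
    | refl => rfl
    | tail _ hab ih => exact ih.trans (hadj _ _ hab)
  · intro h v
    unfold LabGraph.mdeg
    apply Finset.sum_eq_zero
    intro e _
    rw [h (ends e).2 (ends e).1]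
    simp

end Groth.Agent.S13757
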