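import Groth.Statements.S1376
import Groth.Agent.S0385
import Mathlib

set_option autoImplicit false
universe u
open FlatMor

namespace Groth.Agent.S1376


open AlgebraicGeometry CategoryTheory Limits in
/-- Let S be quasi-compact and quasi-separated, U a quasi-compact open of S and V → U a surjective
finite morphism. Then there is a surjective finite morphism V' → S whose base change to U is V (V is
the fibre product of V' and U over S). -/
theorem result {S V : Scheme.{u}} [CompactSpace ↑S] [QuasiSeparatedSpace ↑S] (U : S.Opens) (hU : IsCompact (U : Set ↑S))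
    (v : V ⟶ (U : Scheme.{u})) [IsFinite v] [Surjective v] :
    ∃ (V' : Scheme.{u}) (π : V' ⟶ S) (i : V ⟶ V'), Surjective π ∧ IsFinite π ∧ IsPullback i v π U.ι := by

  haveI : CompactSpace (U : Scheme.{u}) := isCompact_iff_compactSpace.mp hU
  haveI : QuasiCompact U.ι := inferInstance
  let f : V ⟶ S := v ≫ U.ι
  haveI : QuasiCompact f := by show QuasiCompact (v ≫ U.ι); infer_instance
  haveI : LocallyQuasiFinite f := by show LocallyQuasiFinite (v ≫ U.ι); infer_instance
  haveI : LocallyOfFiniteType f := by show LocallyOfFiniteType (v ≫ U.ι); infer_instance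
  haveI : IsSeparated f := by show IsSeparated (v ≫ U.ι); infer_instance
  obtain ⟨T, j, π₀, hj1, hj2, hπ₀, hfac⟩ := Groth.Agent.S0385.result f
  haveI := hj1
  haveI := hj2
  haveI := hπ₀
  let π' : j.image ⟶ S := j.imageι ≫ π₀
  have hfac' : j.toImage ≫ π' = f := by
    show j.toImage ≫ j.imageι ≫ π₀ = f
    rw [Scheme.Hom.toImage_imageι_assoc]; exact hfac
  have hfx : ∀ x : V, f x ∈ U := fun x => by
    show (v ≫ U.ι) x ∈ U
    rw [Scheme.Hom.comp_apply]
    exact (v x).2
  have hrange : Set.range j.toImage ⊆ ((π' ⁻¹ᵁ U : j.image.Opens) : Set j.image) := by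
    rintro _ ⟨x, rfl⟩
    show π' (j.toImage x) ∈ U
    rw [← Scheme.Hom.comp_apply, hfac']
    exact hfx x
  let r : V ⟶ (π' ⁻¹ᵁ U : Scheme.{u}) := IsOpenImmersion.lift (π' ⁻¹ᵁ U).ι j.toImage
    (by rw [Scheme.Opens.range_ι]; exact hrange)
  have hr : r ≫ (π' ⁻¹ᵁ U).ι = j.toImage := IsOpenImmersion.lift_fac _ _ _
  have hrv : r ≫ (π' ∣_ U) = v := by
    rw [← cancel_mono U.ι, Category.assoc, morphismRestrict_ι, ← Category.assoc, hr, hfac']
  haveI : IsFinite π' := by show IsFinite (j.imageι ≫ π₀); infer_instance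
  haveI : UniversallyClosed r := by
    haveI : UniversallyClosed (r ≫ (π' ∣_ U)) := by rw [hrv]; infer_instance
    exact UniversallyClosed.of_comp_of_isSeparated r (π' ∣_ U)
  have hcl : IsClosed (Set.range r) := r.isClosedMap.isClosed_range
  have hd : Dense (Set.range r) := by
    rw [(π' ⁻¹ᵁ U).ι.isOpenEmbedding.isInducing.dense_iff]
    intro y
    have h1 : (π' ⁻¹ᵁ U).ι '' Set.range r = Set.range j.toImage := by
      rw [← Set.range_comp, ← hr]
      rfl
    rw [h1, j.toImage.denseRange.closure_range]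
    trivial
  have hsurj : Set.range r = Set.univ := by
    rw [← hcl.closure_eq]; exact hd.closure_eq
  have hrange' : Set.range j.toImage = ((π' ⁻¹ᵁ U : j.image.Opens) : Set j.image) := by
    rw [← hr, Scheme.Hom.comp_base, TopCat.coe_comp, Set.range_comp, hsurj, Set.image_univ,
      Scheme.Opens.range_ι]
  -- the complement
  let Zc : TopologicalSpace.Closeds S := ⟨(U : Set S)ᶜ, U.isOpen.isClosed_compl⟩
  let IZ := Scheme.IdealSheafData.vanishingIdeal Zc
  let z : IZ.subscheme ⟶ S := IZ.subschemeι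
  have hz : Set.range z = (U : Set S)ᶜ := by
    rw [Scheme.IdealSheafData.range_subschemeι, Scheme.IdealSheafData.coe_support_vanishingIdeal]
    rfl
  let π : j.image ⨿ IZ.subscheme ⟶ S := Limits.coprod.desc π' z
  let i : V ⟶ j.image ⨿ IZ.subscheme := j.toImage ≫ Limits.coprod.inl
  have hiπ : i ≫ π = f := by
    show (j.toImage ≫ Limits.coprod.inl) ≫ Limits.coprod.desc π' z = f
    rw [Category.assoc, Limits.coprod.inl_desc, hfac']
  have hinl : ∀ t : j.image, π ((Limits.coprod.inl : j.image ⟶ j.image ⨿ IZ.subscheme) t) =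
      π' t := fun t => by
    rw [← Scheme.Hom.comp_apply, Limits.coprod.inl_desc]
  have hinr : ∀ w : IZ.subscheme,
      π ((Limits.coprod.inr : IZ.subscheme ⟶ j.image ⨿ IZ.subscheme) w) = z w := fun w => by
    rw [← Scheme.Hom.comp_apply, Limits.coprod.inr_desc]
  have hri : Set.range i = ((π ⁻¹ᵁ U : (j.image ⨿ IZ.subscheme).Opens) : Set _) := by
    ext y
    constructor
    · rintro ⟨x, rfl⟩
      show π (i x) ∈ U
      rw [← Scheme.Hom.comp_apply, hiπ]
      exact hfx x
    · intro hy
      have hy' : π y ∈ U := hy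
      have hc := (isCompl_range_inl_inr j.image IZ.subscheme).sup_eq_top
      have hmem : y ∈ Set.range (Limits.coprod.inl : j.image ⟶ j.image ⨿ IZ.subscheme) ∪
          Set.range (Limits.coprod.inr : IZ.subscheme ⟶ j.image ⨿ IZ.subscheme) := by
        have : y ∈ (⊤ : Set _) := trivial
        rw [← hc] at this
        exact this
      rcases hmem with ⟨t, rfl⟩ | ⟨w, rfl⟩
      · rw [hinl] at hy'
        have ht : t ∈ Set.range j.toImage := by rw [hrange']; exact hy'
        obtain ⟨x, rfl⟩ := ht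
        exact ⟨x, by rw [Scheme.Hom.comp_apply]⟩
      · rw [hinr] at hy'
        have : z w ∈ (U : Set S)ᶜ := by rw [← hz]; exact ⟨w, rfl⟩
        exact absurd hy' this
  haveI : IsOpenImmersion i := by
    show IsOpenImmersion (j.toImage ≫ Limits.coprod.inl); infer_instance
  let e := IsOpenImmersion.isoOfRangeEq i (π ⁻¹ᵁ U).ι (by rw [hri, Scheme.Opens.range_ι])
  have he : e.hom ≫ (π ⁻¹ᵁ U).ι = i := IsOpenImmersion.isoOfRangeEq_hom_fac _ _ _
  refine ⟨j.image ⨿ IZ.subscheme, π, i, ?_, inferInstance, ?_⟩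
  · constructor
    intro x
    by_cases hx : x ∈ U
    · obtain ⟨y, hy⟩ := v.surjective ⟨x, hx⟩
      refine ⟨i y, ?_⟩
      rw [← Scheme.Hom.comp_apply, hiπ]
      show (v ≫ U.ι) y = x
      rw [Scheme.Hom.comp_apply, hy]
      rfl
    · have : x ∈ Set.range z := by rw [hz]; exact hx
      obtain ⟨w, rfl⟩ := this
      exact ⟨_, hinr w⟩
  · refine IsPullback.of_iso (isPullback_morphismRestrict π U).flip e.symm (Iso.refl _)
      (Iso.refl _) (Iso.refl _) ?_ ?_ ?_ ?_
    · simp [← he]
    · rw [← cancel_mono U.ι]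
      simp only [Iso.symm_hom, Iso.refl_hom, Category.comp_id, Category.assoc,
        morphismRestrict_ι]
      have h5 : v ≫ U.ι = e.hom ≫ (π ⁻¹ᵁ U).ι ≫ π := by
        rw [← Category.assoc, he, hiπ]
      rw [h5, Iso.inv_hom_id_assoc]
    · simp
    · simp

end Groth.Agent.S1376
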