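import Groth.Statements.S13771
import Mathlib

set_option autoImplicit false
universe u v w
open PLie

namespace Groth.Agent.S13771

/-- Let R be a commutative ring of prime characteristic p, L₁ and L₂ Lie algebras over R, φ a p-mapping
on L₁ and f : L₁ → L₂ a morphism of Lie algebras whose kernel is stable under φ (a p-ideal). Then
the image f(L₁), a Lie subalgebra of L₂, carries exactly one p-mapping ψ for which the corestriction
of f to its image is a morphism of p-Lie algebras, i.e. ψ (f x) = f (φ x) for all x. -/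
theorem result (R : Type u) [CommRing R] (p : ℕ) [Fact p.Prime] [CharP R p]
    (L₁ : Type v) [LieRing L₁] [LieAlgebra R L₁] (L₂ : Type w) [LieRing L₂] [LieAlgebra R L₂]
    (φ : PLie.PMap R p L₁) (f : L₁ →ₗ⁅R⁆ L₂) (hker : ∀ x : L₁, f x = 0 → f (φ x) = 0) :
    ∃! ψ : PLie.PMap R p f.range, PLie.IsPHom φ ψ f.rangeRestrict := by
  classical
  -- bracket words map under Lie homs
  have map_bw : ∀ (x₀ x₁ : L₁) (l : List Bool),
      f (PLie.bracketWord (PLie.pair x₀ x₁) x₁ l) =
        PLie.bracketWord (PLie.pair (f x₀) (f x₁)) (f x₁) l := by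
    intro x₀ x₁ l
    induction l with
    | nil => rfl
    | cons b l ih =>
      rw [PLie.bracketWord_cons, PLie.bracketWord_cons, LieHom.map_lie, ih]
      congr 1
      cases b <;> rfl
  have map_jac : ∀ x₀ x₁ : L₁, f (PLie.jacobson R p x₀ x₁) = PLie.jacobson R p (f x₀) (f x₁) := by
    intro x₀ x₁
    unfold PLie.jacobson
    rw [map_sum]
    apply Finset.sum_congr rfl
    intro t _
    rw [map_smul, map_bw]
  have bw_zero : ∀ (a : L₂) (l : List Bool),
      PLie.bracketWord (PLie.pair a (0 : L₂)) 0 l = 0 := by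
    intro a l
    induction l with
    | nil => rfl
    | cons b l ih => rw [PLie.bracketWord_cons, ih, lie_zero]
  have jac_zero : ∀ a : L₂, PLie.jacobson R p a (0 : L₂) = 0 := by
    intro a
    unfold PLie.jacobson
    apply Finset.sum_eq_zero
    intro t _
    rw [bw_zero, smul_zero]
  -- well-definedness
  have key : ∀ x x' : L₁, f x = f x' → f (φ x) = f (φ x') := by
    intro x x' h
    have hk : f (x' - x) = 0 := by rw [map_sub, h, sub_self]
    have h1 : φ x' = φ x + φ (x' - x) - PLie.jacobson R p x (x' - x) := by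
      rw [← φ.map_add, add_sub_cancel]
    rw [h1, map_sub, map_add, hker _ hk, add_zero, map_jac, hk, jac_zero, sub_zero]
  -- the inclusion
  let ι : f.range →ₗ⁅R⁆ L₂ := f.range.incl
  have hιinj : Function.Injective ι := Subtype.coe_injective
  have map_bw' : ∀ (y₀ y₁ : f.range) (l : List Bool),
      ι (PLie.bracketWord (PLie.pair y₀ y₁) y₁ l) =
        PLie.bracketWord (PLie.pair (ι y₀) (ι y₁)) (ι y₁) l := by
    intro y₀ y₁ l
    induction l with
    | nil => rfl
    | cons b l ih =>
      rw [PLie.bracketWord_cons, PLie.bracketWord_cons, LieHom.map_lie, ih]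
      congr 1
      cases b <;> rfl
  have map_jac' : ∀ y₀ y₁ : f.range,
      ι (PLie.jacobson R p y₀ y₁) = PLie.jacobson R p (ι y₀) (ι y₁) := by
    intro y₀ y₁
    unfold PLie.jacobson
    rw [map_sum]
    apply Finset.sum_congr rfl
    intro t _
    rw [map_smul, map_bw']
  -- choice of preimages
  have hex : ∀ y : f.range, ∃ x : L₁, f x = (y : L₂) := fun y => (LieHom.mem_range f (y : L₂)).1 y.2
  choose σ hσ using hex
  let ψf : f.range → f.range := fun y => f.rangeRestrict (φ (σ y))
  have hψ : ∀ x : L₁, ψf (f.rangeRestrict x) = f.rangeRestrict (φ x) := by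
    intro x
    apply Subtype.ext
    show f (φ (σ (f.rangeRestrict x))) = f (φ x)
    apply key
    rw [hσ]; rfl
  have hsurj : ∀ y : f.range, ∃ x, f.rangeRestrict x = y := fun y =>
    ⟨σ y, Subtype.ext (hσ y)⟩
  have ad_pow : ∀ (x w : L₁) (n : ℕ),
      f ((LieAlgebra.ad R L₁ x ^ n) w) = (LieAlgebra.ad R L₂ (f x) ^ n) (f w) := by
    intro x w n
    induction n generalizing w with
    | zero => simp
    | succ n ih =>
      rw [pow_succ, pow_succ, Module.End.mul_apply, Module.End.mul_apply, ih]
      congr 1
      show f ⁅x, w⁆ = ⁅f x, f w⁆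
      exact LieHom.map_lie f x w
  have ad_pow' : ∀ (y z : f.range) (n : ℕ),
      ι ((LieAlgebra.ad R f.range y ^ n) z) = (LieAlgebra.ad R L₂ (ι y) ^ n) (ι z) := by
    intro y z n
    induction n generalizing z with
    | zero => simp
    | succ n ih =>
      rw [pow_succ, pow_succ, Module.End.mul_apply, Module.End.mul_apply, ih]
      rfl
  let ψ : PLie.PMap R p f.range :=
    { toFun := ψf
      map_smul := by
        intro c y
        obtain ⟨x, rfl⟩ := hsurj y
        rw [← map_smul, hψ, hψ, φ.map_smul, map_smul]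
      ad_map := by
        intro y
        obtain ⟨x, rfl⟩ := hsurj y
        apply LinearMap.ext
        intro z
        obtain ⟨w, rfl⟩ := hsurj z
        rw [hψ]
        apply hιinj
        rw [ad_pow']
        show ⁅f (φ x), f w⁆ = (LieAlgebra.ad R L₂ (f x) ^ p) (f w)
        rw [← ad_pow, ← LieHom.map_lie]
        congr 1
        have := φ.ad_map x
        exact LinearMap.congr_fun this w
      map_add := by
        intro y₀ y₁
        obtain ⟨x₀, rfl⟩ := hsurj y₀
        obtain ⟨x₁, rfl⟩ := hsurj y₁
        rw [← map_add, hψ, hψ, hψ, φ.map_add]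
        apply hιinj
        have e1 : ∀ z : L₁, ι (f.rangeRestrict z) = f z := fun z => rfl
        simp only [map_sub, map_add, e1, map_jac', map_jac] }
  refine ⟨ψ, fun x => (hψ x).symm, ?_⟩
  intro ψ' hψ'
  have hfun : ψ'.toFun = ψ.toFun := by
    funext y
    obtain ⟨x, rfl⟩ := hsurj y
    show ψ' (f.rangeRestrict x) = ψf (f.rangeRestrict x)
    rw [hψ, ← hψ' x]
  cases ψ' with
  | mk tf a b c =>
    simp only at hfun
    subst hfun
    rfl

end Groth.Agent.S13771
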