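import Groth.Statements.S13784
import Mathlib.RingTheory.IntegralDomain
import Mathlib.RingTheory.LocalRing.ResidueField.Basic
import Mathlib.Tactic

set_option autoImplicit false
universe u
open CAlg

namespace Groth.Agent.S13784

theorem result {A : Type u} [CommRing A] [IsLocalRing A]
    (G : Subgroup Aˣ) [Finite G] (hG : IsUnit ((Nat.card G : ℕ) : A)) : IsCyclic G := by
  let f : G →* IsLocalRing.ResidueField A :=
    ((IsLocalRing.residue A).toMonoidHom.comp (Units.coeHom A)).comp G.subtype
  apply isCyclic_of_injective_ringHom f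
  rw [injective_iff_map_eq_one]
  intro g hg
  have hx : IsLocalRing.residue A ((g : Aˣ) : A) = 1 := hg
  set x : A := ((g : Aˣ) : A) with hxdef
  set n := Nat.card G with hn
  have hxn : x ^ n = 1 := by
    have h1 : g ^ n = 1 := pow_card_eq_one'
    have h2 := congrArg (fun u : G => ((u : Aˣ) : A)) h1
    simpa using h2
  have hgeom := geom_sum_mul x n
  rw [hxn, sub_self] at hgeom
  have hs : IsUnit (∑ i ∈ Finset.range n, x ^ i) := by
    rw [← IsLocalRing.residue_ne_zero_iff_isUnit, map_sum]
    simp only [map_pow, hx, one_pow, Finset.sum_const, Finset.card_range, nsmul_eq_mul, mul_one]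
    have : IsUnit (IsLocalRing.residue A ((n : ℕ) : A)) := hG.map _
    rw [map_natCast] at this
    exact this.ne_zero
  have hx1 : x - 1 = 0 := by
    have := hs.mul_right_eq_zero.mp hgeom
    exact this
  have hx1' : x = 1 := sub_eq_zero.mp hx1
  apply Subtype.ext
  apply Units.ext
  exact hx1'

end Groth.Agent.S13784
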