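import Groth.Statements.S13785
import Mathlib

set_option autoImplicit false
universe u
open CAlg

namespace Groth.Agent.S13785

open MvPolynomial in
theorem coeff_det_generic (A : Type*) [CommRing A] (n : ℕ) (d : Fin n × Fin n →₀ ℕ) :
    coeff d (Matrix.mvPolynomialX (Fin n) (Fin n) A).det = 0 ∨
    coeff d (Matrix.mvPolynomialX (Fin n) (Fin n) A).det = 1 ∨
    coeff d (Matrix.mvPolynomialX (Fin n) (Fin n) A).det = -1 := by
  classical
  let mσ : Equiv.Perm (Fin n) → (Fin n × Fin n →₀ ℕ) := fun σ => ∑ i, Finsupp.single (σ i, i) 1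
  have hprod : ∀ σ : Equiv.Perm (Fin n),
      ∏ i, Matrix.mvPolynomialX (Fin n) (Fin n) A (σ i) i = monomial (mσ σ) 1 := by
    intro σ
    rw [MvPolynomial.monomial_sum_one]
    rfl
  have hinj : Function.Injective mσ := by
    intro σ τ h
    ext i
    have h1 : mσ σ (σ i, i) = 1 := by
      simp only [mσ, Finsupp.coe_finsetSum, Finset.sum_apply]
      rw [Finset.sum_eq_single i]
      · simp
      · intro j _ hj
        rw [Finsupp.single_apply, if_neg]
        intro h'
        exact hj (Prod.ext_iff.1 h').2
      · intro h'; exact absurd (Finset.mem_univ i) h'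
    have h2 : mσ τ (σ i, i) = if τ i = σ i then 1 else 0 := by
      simp only [mσ, Finsupp.coe_finsetSum, Finset.sum_apply]
      rw [Finset.sum_eq_single i]
      · rw [Finsupp.single_apply]
        congr 1
        apply propext
        constructor
        · intro h'; exact (Prod.ext_iff.1 h').1
        · intro h'; rw [h']
      · intro j _ hj
        rw [Finsupp.single_apply, if_neg]
        intro h'
        exact hj (Prod.ext_iff.1 h').2
      · intro h'; exact absurd (Finset.mem_univ i) h'
    rw [h] at h1
    rw [h1] at h2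
    by_contra hne
    rw [if_neg (fun h' => hne (congrArg Fin.val h'.symm))] at h2
    exact one_ne_zero h2
  have hcoeff : coeff d (Matrix.mvPolynomialX (Fin n) (Fin n) A).det =
      ∑ σ : Equiv.Perm (Fin n), if mσ σ = d then ((Equiv.Perm.sign σ : ℤ) : A) else 0 := by
    rw [Matrix.det_apply, coeff_sum]
    refine Finset.sum_congr rfl fun σ _ => ?_
    rw [hprod, Units.smul_def, coeff_smul, coeff_monomial]
    split_ifs <;> simp
  rw [hcoeff]
  by_cases hex : ∃ σ, mσ σ = d
  · obtain ⟨σ₀, hσ₀⟩ := hex
    right
    rw [Finset.sum_eq_single σ₀]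
    · rw [if_pos hσ₀]
      rcases Int.units_eq_one_or (Equiv.Perm.sign σ₀) with h | h
      · left; rw [h]; simp
      · right; rw [h]; simp
    · intro τ _ hτ
      rw [if_neg]
      intro h'
      exact hτ (hinj (h'.trans hσ₀.symm))
    · intro h'; exact absurd (Finset.mem_univ σ₀) h'
  · left
    apply Finset.sum_eq_zero
    intro σ _
    rw [if_neg]
    intro h'
    exact hex ⟨σ, h'⟩

/-- For any commutative ring A, the determinant of the generic n × n matrix is a nonzerodivisor of the
polynomial ring over A in the n² matrix entries. -/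
theorem result (A : Type u) [CommRing A] (n : ℕ) :
    (Matrix.mvPolynomialX (Fin n) (Fin n) A).det ∈ nonZeroDivisors (MvPolynomial (Fin n × Fin n) A) := by
  classical
  rcases subsingleton_or_nontrivial A with hA | hA
  · have : Subsingleton (MvPolynomial (Fin n × Fin n) A) := inferInstance
    rw [mem_nonZeroDivisors_iff]
    exact ⟨fun x _ => Subsingleton.elim _ _, fun x _ => Subsingleton.elim _ _⟩
  · let lo : LinearOrder (Fin n × Fin n) := LinearOrder.lift' finProdFinEquiv finProdFinEquiv.injective
    have wf : @WellFoundedGT (Fin n × Fin n) lo.toLT := @Finite.to_wellFoundedGT _ _ lo.toPreorder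
    let m : MonomialOrder (Fin n × Fin n) := MonomialOrder.lex
    have hne : (Matrix.mvPolynomialX (Fin n) (Fin n) A).det ≠ 0 := Matrix.det_mvPolynomialX_ne_zero (Fin n) A
    have hlc : IsUnit (m.leadingCoeff (Matrix.mvPolynomialX (Fin n) (Fin n) A).det) := by
      have h0 : m.leadingCoeff (Matrix.mvPolynomialX (Fin n) (Fin n) A).det ≠ 0 :=
        m.leadingCoeff_ne_zero_iff.2 hne
      rcases coeff_det_generic A n (m.degree (Matrix.mvPolynomialX (Fin n) (Fin n) A).det) with h | h | h
      · exact absurd h h0
      · rw [MonomialOrder.leadingCoeff, h]; exact isUnit_one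
      · rw [MonomialOrder.leadingCoeff, h]; exact isUnit_one.neg
    have hmem := hlc.mem_nonZeroDivisors
    have key : ∀ g : MvPolynomial (Fin n × Fin n) A,
        (Matrix.mvPolynomialX (Fin n) (Fin n) A).det * g = 0 → g = 0 := by
      intro g hg
      have h1 := m.leadingCoeff_mul_of_left_mem_nonZeroDivisors (g := g) hmem
      rw [hg, MonomialOrder.leadingCoeff_zero] at h1
      have h2 : m.leadingCoeff g = 0 := hlc.mul_left_cancel (by rw [← h1, mul_zero])
      exact m.leadingCoeff_eq_zero_iff.1 h2
    rw [mem_nonZeroDivisors_iff]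
    exact ⟨key, fun g hg => key g (by rw [mul_comm]; exact hg)⟩

end Groth.Agent.S13785
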