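import Groth.Statements.S13787
import Mathlib
import Groth.Agent.S13785

set_option autoImplicit false
universe u
open CAlg

namespace Groth.Agent.S13787

/-- Let A be a nonzero commutative ring and n ≥ 1, let det be the determinant of the generic n × n
matrix in the polynomial ring A[X] in its n² entries, and let A[X, 1/det] be the localization at det
(the coordinate ring of GL_n over A). The homomorphism Aˣ × ℤ → (A[X, 1/det])ˣ sending (a, e) to a ·
det^e is injective. (The published statement takes the exponent in the group of locally constant
ℤ-valued functions on Spec A, which also covers A = 0; with integer exponents as here, A must be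
nonzero and n ≥ 1.) -/
theorem result (A : Type u) [CommRing A] [Nontrivial A] (n : ℕ) (hn : 0 < n) :
    Function.Injective (fun p : Aˣ × ℤ =>
        Units.map (algebraMap A (Localization.Away (Matrix.mvPolynomialX (Fin n) (Fin n) A).det)).toMonoidHom p.1 *
          (IsLocalization.Away.algebraMap_isUnit (S := Localization.Away (Matrix.mvPolynomialX (Fin n) (Fin n) A).det)
            (Matrix.mvPolynomialX (Fin n) (Fin n) A).det).unit ^ p.2) := by
  classical
  set D := (Matrix.mvPolynomialX (Fin n) (Fin n) A).det with hD
  set L := Localization.Away D with hL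
  have hDnzd : D ∈ nonZeroDivisors (MvPolynomial (Fin n × Fin n) A) := Groth.Agent.S13785.result A n
  have hinjL : Function.Injective (algebraMap (MvPolynomial (Fin n × Fin n) A) L) :=
    IsLocalization.injective L (M := Submonoid.powers D) (Submonoid.powers_le.2 hDnzd)
  have hev : MvPolynomial.eval (fun _ => (0 : A)) D = 0 := by
    rw [hD, Matrix.eval_det_mvPolynomialX]
    have : Nonempty (Fin n) := ⟨⟨0, hn⟩⟩
    exact Matrix.det_zero
  set u : Lˣ := (IsLocalization.Away.algebraMap_isUnit (S := L) D).unit with hu
  have huval : (u : L) = algebraMap _ L D := rfl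
  -- key one-directional lemma
  have key : ∀ (a b : Aˣ) (k : ℕ),
      Units.map (algebraMap A L).toMonoidHom a * u ^ k = Units.map (algebraMap A L).toMonoidHom b →
      k = 0 ∧ a = b := by
    intro a b k h
    have h1 : algebraMap A L a * (algebraMap _ L D) ^ k = algebraMap A L b := by
      have := congrArg Units.val h
      simpa [huval] using this
    have h2 : (MvPolynomial.C (a : A) * D ^ k : MvPolynomial (Fin n × Fin n) A) = MvPolynomial.C (b : A) := by
      apply hinjL
      rw [map_mul, map_pow, ← MvPolynomial.algebraMap_eq, ← IsScalarTower.algebraMap_apply,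
        ← IsScalarTower.algebraMap_apply]
      exact h1
    have h3 := congrArg (MvPolynomial.eval (fun _ => (0 : A))) h2
    rw [map_mul, map_pow, hev, MvPolynomial.eval_C, MvPolynomial.eval_C] at h3
    rcases Nat.eq_zero_or_pos k with hk | hk
    · subst hk
      rw [pow_zero, mul_one] at h3
      exact ⟨rfl, Units.ext h3⟩
    · rw [zero_pow (Nat.pos_iff_ne_zero.1 hk), mul_zero] at h3
      exact absurd h3.symm b.ne_zero
  rintro ⟨a, e⟩ ⟨b, e'⟩ h
  simp only at h
  rcases le_total e' e with hle | hle
  · obtain ⟨k, hk⟩ := Int.eq_ofNat_of_zero_le (sub_nonneg.2 hle)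
    have h' : Units.map (algebraMap A L).toMonoidHom a * u ^ k =
        Units.map (algebraMap A L).toMonoidHom b := by
      rw [← zpow_natCast, ← hk, zpow_sub, ← mul_assoc, h, mul_assoc, mul_inv_cancel, mul_one]
    obtain ⟨hk0, hab⟩ := key a b k h'
    rw [hk0] at hk
    have : e = e' := by simpa [sub_eq_zero] using hk
    rw [hab, this]
  · obtain ⟨k, hk⟩ := Int.eq_ofNat_of_zero_le (sub_nonneg.2 hle)
    have h' : Units.map (algebraMap A L).toMonoidHom b * u ^ k =
        Units.map (algebraMap A L).toMonoidHom a := by
      rw [← zpow_natCast, ← hk, zpow_sub, ← mul_assoc, ← h, mul_assoc, mul_inv_cancel, mul_one]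
    obtain ⟨hk0, hab⟩ := key b a k h'
    rw [hk0] at hk
    have : e' = e := by simpa [sub_eq_zero] using hk
    rw [hab, this]

end Groth.Agent.S13787
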