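import Groth.Statements.S13789
import Mathlib.Tactic

set_option autoImplicit false
universe u
open CAlg

namespace Groth.Agent.S13789

theorem result {A Q : Type u} [CommRing A] [CommRing Q] [Algebra A Q] [IsFractionRing A Q] (B : Subalgebra A Q) :
    (∀ a : A, a ∈ nonZeroDivisors A → algebraMap A B a ∈ nonZeroDivisors B) ∧
    (∀ b : B, b ∈ nonZeroDivisors B → ∃ r u : A, r ∈ nonZeroDivisors A ∧ u ∈ nonZeroDivisors A ∧
      (b : Q) * algebraMap A Q u = algebraMap A Q r) := by
  have hinj : Function.Injective (algebraMap A Q) := IsFractionRing.injective A Q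
  constructor
  · intro s hs
    rw [mem_nonZeroDivisors_iff_right]
    intro c hc
    have h1 : ((c : B) : Q) * algebraMap A Q s = 0 := by
      have := congrArg Subtype.val hc
      simpa using this
    have hsu : IsUnit (algebraMap A Q s) := IsLocalization.map_units Q ⟨s, hs⟩
    apply Subtype.ext
    exact hsu.mul_left_eq_zero.mp h1
  · intro b hb
    obtain ⟨⟨a, s⟩, hq⟩ := IsLocalization.surj (nonZeroDivisors A) ((b : B) : Q)
    simp only at hq
    have ha : a ∈ nonZeroDivisors A := by
      rw [mem_nonZeroDivisors_iff_right]
      intro c hc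
      have h1 : b * algebraMap A B c = 0 := by
        apply Subtype.ext
        show ((b : B) : Q) * algebraMap A Q c = 0
        have hs : IsUnit (algebraMap A Q s) := IsLocalization.map_units Q s
        apply hs.mul_left_cancel
        rw [mul_zero, ← mul_assoc, mul_comm (algebraMap A Q s), hq, ← map_mul, mul_comm, hc, map_zero]
      have h2 : algebraMap A B c = 0 :=
        (mem_nonZeroDivisors_iff_right.mp hb) _ (by rw [mul_comm]; exact h1)
      have h3 : algebraMap A Q c = 0 := congrArg Subtype.val h2
      exact hinj (by rw [h3, map_zero])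
    exact ⟨a, s, ha, s.2, hq⟩

end Groth.Agent.S13789
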