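import Groth.Statements.S13790
import Mathlib.Tactic

set_option autoImplicit false
universe u
open CAlg

namespace Groth.Agent.S13790

theorem result {A Q : Type u} [CommRing A] [CommRing Q] [Algebra A Q] [IsFractionRing A Q] (B : Subalgebra A Q) :
    IsFractionRing B Q := by
  have hinj : Function.Injective (algebraMap A Q) := IsFractionRing.injective A Q
  rw [IsFractionRing, isLocalization_iff]
  refine ⟨?_, ?_, ?_⟩
  · rintro ⟨b, hb⟩
    show IsUnit ((b : B) : Q)
    obtain ⟨⟨a, s⟩, hq⟩ := IsLocalization.surj (nonZeroDivisors A) ((b : B) : Q)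
    simp only at hq
    -- a is a non-zero-divisor of A
    have ha : a ∈ nonZeroDivisors A := by
      rw [mem_nonZeroDivisors_iff_right]
      intro c hc
      have h1 : b * algebraMap A B c = 0 := by
        apply Subtype.ext
        show ((b : B) : Q) * algebraMap A Q c = 0
        have hs : IsUnit (algebraMap A Q s) := IsLocalization.map_units Q s
        apply hs.mul_left_cancel
        rw [mul_zero, ← mul_assoc, mul_comm (algebraMap A Q s), hq, ← map_mul, mul_comm, hc, map_zero]
      have h2 : algebraMap A B c = 0 := (mem_nonZeroDivisors_iff_right.mp hb) _ (by rw [mul_comm]; exact h1)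
      have h3 : algebraMap A Q c = 0 := congrArg Subtype.val h2
      exact hinj (by rw [h3, map_zero])
    have hau : IsUnit (algebraMap A Q a) := IsLocalization.map_units Q ⟨a, ha⟩
    rw [← hq] at hau
    exact isUnit_of_mul_isUnit_left hau
  · intro q
    obtain ⟨⟨a, s⟩, hq⟩ := IsLocalization.surj (nonZeroDivisors A) q
    simp only at hq
    have hsB : algebraMap A B s ∈ nonZeroDivisors B := by
      rw [mem_nonZeroDivisors_iff_right]
      intro c hc
      have h1 : ((c : B) : Q) * algebraMap A Q s = 0 := by
        have := congrArg Subtype.val hc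
        simpa [mul_comm] using this
      have hs : IsUnit (algebraMap A Q s) := IsLocalization.map_units Q s
      apply Subtype.ext
      exact hs.mul_left_eq_zero.mp h1
    exact ⟨(algebraMap A B a, ⟨algebraMap A B s, hsB⟩), hq⟩
  · intro x y hxy
    refine ⟨1, ?_⟩
    have : x = y := Subtype.ext hxy
    rw [this]

end Groth.Agent.S13790
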