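import Groth.Statements.S13794
import Mathlib.Tactic

set_option autoImplicit false
universe u
open Polynomial
open Curves

namespace Groth.Agent.S13794

theorem cubic_coeffs_eq_zero {k : Type u} [Field k] (a b c d : k)
    (h : C a * X ^ 3 + C b * X ^ 2 + C c * X + C d = (0 : k[X])) : a = 0 ∧ b = 0 ∧ c = 0 ∧ d = 0 := by
  refine ⟨?_, ?_, ?_, ?_⟩
  · have := congrArg (fun P : k[X] => P.coeff 3) h
    simpa [coeff_X_pow, coeff_X, coeff_C] using this
  · have := congrArg (fun P : k[X] => P.coeff 2) h
    simpa [coeff_X_pow, coeff_X, coeff_C] using this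
  · have := congrArg (fun P : k[X] => P.coeff 1) h
    simpa [coeff_X_pow, coeff_X, coeff_C] using this
  · have := congrArg (fun P : k[X] => P.coeff 0) h
    simpa [coeff_X_pow, coeff_X, coeff_C] using this


/-- Let k be a field of characteristic not 3 and β ∈ k. If a line ax + by + c = 0 with a³ ≠ b³ is the
tangent line at a flex point of the affine cubic x³ + y³ + β = 3xy, then β is a cube in k. Here the
line is normalised to b ≠ 0 (the roles of x and y are symmetric) and the flex-tangency is expressed
by the restriction of the cubic to the line being λ (x − x₀)³. -/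
theorem result {k : Type u} [Field k] (h3 : (3 : k) ≠ 0)
    (β a b c : k) (hb : b ≠ 0) (hab : a ^ 3 ≠ b ^ 3) (lam x₀ : k)
    (hflex : (X : k[X]) ^ 3 + (C (-a / b) * X + C (-c / b)) ^ 3 + C β - 3 * X * (C (-a / b) * X + C (-c / b)) =
      C lam * (X - C x₀) ^ 3) :
    ∃ γ : k, β = γ ^ 3 := by
  set p : k := -a / b with hp
  set q : k := -c / b with hq
  have hP : C (1 + p ^ 3 - lam) * X ^ 3 + C (3 * p ^ 2 * q - 3 * p + 3 * lam * x₀) * X ^ 2 +
      C (3 * p * q ^ 2 - 3 * q - 3 * lam * x₀ ^ 2) * X + C (q ^ 3 + β + lam * x₀ ^ 3) = (0 : k[X]) := by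
    simp only [map_add, map_sub, map_mul, map_pow, map_one]
    have h3' : (C (3 : k) : k[X]) = 3 := map_ofNat C 3
    rw [h3']
    linear_combination hflex
  obtain ⟨e3, e2, e1, e0⟩ := cubic_coeffs_eq_zero _ _ _ _ hP
  have e1' : p * q ^ 2 - q - lam * x₀ ^ 2 = 0 := by
    have : 3 * (p * q ^ 2 - q - lam * x₀ ^ 2) = 0 := by linear_combination e1
    exact (mul_eq_zero.1 this).resolve_left h3
  have e2' : p ^ 2 * q - p + lam * x₀ = 0 := by
    have : 3 * (p ^ 2 * q - p + lam * x₀) = 0 := by linear_combination e2
    exact (mul_eq_zero.1 this).resolve_left h3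
  have hlam : lam ≠ 0 := by
    intro h0
    apply hab
    have h1 : 1 + p ^ 3 = 0 := by rw [h0, sub_zero] at e3; exact e3
    rw [hp] at h1
    field_simp at h1
    linear_combination -h1
  by_cases hx0 : x₀ = 0
  · refine ⟨-q, ?_⟩
    rw [hx0] at e0
    linear_combination e0
  · have ht : (p * q - 1) * (q + x₀ * p) = 0 := by linear_combination e1' + x₀ * e2'
    have ht1 : p * q - 1 ≠ 0 := by
      intro h
      have : lam * x₀ = 0 := by linear_combination e2' - p * h
      rcases mul_eq_zero.1 this with h' | h'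
      · exact hlam h'
      · exact hx0 h'
    have hq' : q + x₀ * p = 0 := (mul_eq_zero.1 ht).resolve_left ht1
    have hq'' : q = -(x₀ * p) := by linear_combination hq'
    have hpx : p = x₀ := by
      have : x₀ - p = 0 := by
        rw [hq''] at e2'
        linear_combination e2' + x₀ * e3
      linear_combination -this
    refine ⟨-x₀, ?_⟩
    have hl : lam = 1 + x₀ ^ 3 := by rw [hpx] at e3; linear_combination -e3
    rw [hq'', hpx, hl] at e0
    linear_combination e0

end Groth.Agent.S13794
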