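import Groth.Statements.S13801
import Mathlib.Tactic
import Mathlib.NumberTheory.Padics.PadicVal.Basic

set_option autoImplicit false
open ChowMon

namespace Groth.Agent.S13801

theorem sum_div_le {k : ℕ} (a : Fin k → ℕ) (d : ℕ) : ∑ j, a j / d ≤ (∑ j, a j) / d := by
  classical
  have : ∀ s : Finset (Fin k), ∑ j ∈ s, a j / d ≤ (∑ j ∈ s, a j) / d := by
    intro s
    induction s using Finset.induction_on with
    | empty => simp
    | insert x s hx ih =>
      rw [Finset.sum_insert hx, Finset.sum_insert hx]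
      exact (Nat.add_le_add_left ih _).trans Nat.div_add_div_le_add_div
  exact this Finset.univ

/-- For a prime p and positive natural numbers a_1, ..., a_k with sum n one has v_p(a_1!) + ... +
v_p(a_k!) ≤ v_p(n!), and the inequality is strict whenever some a_i is not divisible by p^(v_p(n)). -/
theorem result {k : ℕ} (p : ℕ) [Fact p.Prime]
    (a : Fin k → ℕ) (ha : ∀ i, 0 < a i) :
    (∑ i, padicValNat p (a i).factorial ≤ padicValNat p (∑ i, a i).factorial) ∧
      ((∃ i, ¬ p ^ padicValNat p (∑ j, a j) ∣ a i) →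
        ∑ i, padicValNat p (a i).factorial < padicValNat p (∑ i, a i).factorial) := by
  classical
  set N := ∑ i, a i with hN
  have hle : ∀ i, a i ≤ N := fun i => Finset.single_le_sum (f := a) (fun _ _ => Nat.zero_le _) (Finset.mem_univ i)
  have hlog : ∀ n, n ≤ N → Nat.log p n < N + 1 := by
    intro n hn
    exact Nat.lt_succ_of_le ((Nat.log_le_self p n).trans hn)
  have hL : padicValNat p N.factorial = ∑ i ∈ Finset.Ico 1 (N + 1), N / p ^ i := padicValNat_factorial (hlog N le_rfl)
  have hR : ∑ j, padicValNat p (a j).factorial = ∑ i ∈ Finset.Ico 1 (N + 1), ∑ j, a j / p ^ i := by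
    rw [Finset.sum_comm]
    exact Finset.sum_congr rfl fun j _ => padicValNat_factorial (hlog (a j) (hle j))
  have hterm : ∀ i ∈ Finset.Ico 1 (N + 1), ∑ j, a j / p ^ i ≤ N / p ^ i := fun i _ => sum_div_le a (p ^ i)
  refine ⟨?_, ?_⟩
  · rw [hL, hR]
    exact Finset.sum_le_sum hterm
  · rintro ⟨i₀, hi₀⟩
    rw [hL, hR]
    set v := padicValNat p N with hv
    have hp : p.Prime := Fact.out
    have hNpos : 0 < N := lt_of_lt_of_le (ha i₀) (hle i₀)
    have hdvd : p ^ v ∣ N := pow_padicValNat_dvd
    have hv1 : 1 ≤ v := by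
      by_contra h
      have : v = 0 := by omega
      rw [this, pow_zero] at hi₀
      exact hi₀ (one_dvd _)
    have hvN : v < N + 1 := by
      have h1 : p ^ v ≤ N := Nat.le_of_dvd hNpos hdvd
      have h2 : v < p ^ v := Nat.lt_pow_self hp.one_lt
      omega
    apply Finset.sum_lt_sum hterm
    refine ⟨v, Finset.mem_Ico.2 ⟨hv1, hvN⟩, ?_⟩
    have hpv : 0 < p ^ v := pow_pos hp.pos v
    have hdecomp : N = p ^ v * (∑ j, a j / p ^ v) + ∑ j, a j % p ^ v := by
      rw [hN, Finset.mul_sum, ← Finset.sum_add_distrib]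
      exact Finset.sum_congr rfl fun j _ => (Nat.div_add_mod (a j) (p ^ v)).symm
    have hr : p ^ v ∣ ∑ j, a j % p ^ v := by
      have := hdvd
      rw [hdecomp] at this
      exact (Nat.dvd_add_right (dvd_mul_right _ _)).1 this
    have hrpos : 0 < ∑ j, a j % p ^ v := by
      have h1 : a i₀ % p ^ v ≠ 0 := fun h => hi₀ (Nat.dvd_of_mod_eq_zero h)
      have h2 : a i₀ % p ^ v ≤ ∑ j, a j % p ^ v :=
        Finset.single_le_sum (f := fun j => a j % p ^ v) (fun _ _ => Nat.zero_le _) (Finset.mem_univ i₀)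
      omega
    have hrge : p ^ v ≤ ∑ j, a j % p ^ v := Nat.le_of_dvd hrpos hr
    have : (∑ j, a j / p ^ v) + 1 ≤ N / p ^ v := by
      rw [Nat.le_div_iff_mul_le hpv]
      nlinarith
    omega

end Groth.Agent.S13801
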