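import Groth.Statements.S13822
import Groth.Agent.Helper6.EtaRel

set_option autoImplicit false
universe u
open scoped TensorProduct
open EtaPt

namespace Groth.Agent.S13822

/-- Let A → A' be faithfully flat with A and A' having finitely many minimal prime ideals, and B an
A-algebra with Spec B → Spec A surjective; if q_{(A' ⊗ B)/A'} is bijective then q_{B/A} is
bijective. Here η is a natural transformation from the identity of the category of fields to an
endofunctor F with F(η_K) bijective and η_K purely inseparable for every field K, N_η(A) is the
product of the F(k(p)) over the primes p of A with diagonal map t_A, and M_η(A) ⊆ N_η(A) is the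
subring of elements sent into the range of t_R by every ring map from A to a valuation ring R at
whose fraction field η is bijective; q_A : A → M_η(A) is the corestriction of t_A. For a ring map f
: A → B, (B/A)_η ⊆ B denotes the subring of elements b with t_B(b) in N_η(f)(M_η(A)) (the image in B
of the fibre product of M_η(A) and B over M_η(B)), and q_{B/A} : A → (B/A)_η the corestriction of f. -/
theorem result (η : EtaPt.FieldEndo.{u}) (A A' B : Type u) [CommRing A] [CommRing A'] [CommRing B]
    [Algebra A A'] [Algebra A B] [Module.FaithfullyFlat A A']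
    (hA : (minimalPrimes A).Finite) (hA' : (minimalPrimes A').Finite)
    (hs : Function.Surjective (PrimeSpectrum.comap (algebraMap A B)))
    (h : Function.Bijective (η.qRel (Algebra.TensorProduct.includeLeftRingHom : A' →+* A' ⊗[A] B))) :
    Function.Bijective (η.qRel (algebraMap A B)) := by
  open Groth.Agent.Helper6.EtaRel Groth.Agent.Helper6.EtaBij Groth.Agent.Helper6.EtaBasic in
  rw [qRel_bijective_iff] at h ⊢
  obtain ⟨hinj, hsurj⟩ := h
  constructor
  · -- injectivity by faithfully flat descent
    have h1 : Function.Injective ((Algebra.linearMap A B).lTensor A') := by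
      have key : ∀ z : A' ⊗[A] A, (Algebra.linearMap A B).lTensor A' z =
          (Algebra.TensorProduct.includeLeftRingHom : A' →+* A' ⊗[A] B) (TensorProduct.rid A A' z) := by
        intro z
        induction z using TensorProduct.induction_on with
        | zero => simp
        | tmul a' a =>
          simp only [LinearMap.lTensor_tmul, Algebra.linearMap_apply, TensorProduct.rid_tmul,
            Algebra.TensorProduct.includeLeftRingHom_apply]
          rw [Algebra.algebraMap_eq_smul_one, TensorProduct.smul_tmul]
        | add x y hx hy => rw [map_add, map_add, map_add, hx, hy]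
      intro z₁ z₂ hz
      rw [key, key] at hz
      exact (TensorProduct.rid A A').injective (hinj hz)
    exact (Module.FaithfullyFlat.lTensor_injective_iff_injective A A' (Algebra.linearMap A B)).mp h1
  · intro b hb
    rw [mem_rel_iff] at hb
    obtain ⟨x, hx, hxb⟩ := hb
    have h3 : (1 : A') ⊗ₜ[A] b ∈ η.rel (Algebra.TensorProduct.includeLeftRingHom : A' →+* A' ⊗[A] B) := by
      rw [mem_rel_iff]
      refine ⟨η.Nmap (algebraMap A A') x, Nmap_mem_M η _ hx, ?_⟩
      rw [← Nmap_comp_apply, Algebra.TensorProduct.includeLeftRingHom_comp_algebraMap,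
        Nmap_comp_apply, hxb, Nmap_t]
      rfl
    obtain ⟨a'₀, ha'₀⟩ := hsurj _ h3
    let π := (LinearMap.range (Algebra.linearMap A B)).mkQ
    have h4 : (1 : A') ⊗ₜ[A] (π b) = 0 := by
      have h5 : (1 : A') ⊗ₜ[A] (π b) = π.lTensor A' ((1 : A') ⊗ₜ[A] b) := rfl
      rw [h5, ← ha'₀, Algebra.TensorProduct.includeLeftRingHom_apply, LinearMap.lTensor_tmul]
      have h6 : π 1 = 0 := by
        rw [Submodule.mkQ_apply, Submodule.Quotient.mk_eq_zero]
        exact ⟨1, by simp⟩
      rw [h6, TensorProduct.tmul_zero]
    have h7 : π b = 0 := (Module.FaithfullyFlat.one_tmul_eq_zero_iff A _ (A := A') (π b)).mp h4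
    rw [Submodule.mkQ_apply, Submodule.Quotient.mk_eq_zero] at h7
    obtain ⟨a, ha⟩ := h7
    exact ⟨a, ha⟩

end Groth.Agent.S13822
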