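import Groth.Statements.S13823
import Groth.Agent.Helper6.EtaRel

set_option autoImplicit false
universe u
open EtaPt

namespace Groth.Agent.S13823

/-- Let A → A' be faithfully flat with A and A' having finitely many minimal prime ideals, and let Ā, Ā'
be the integral closures of A, A' in their total rings of fractions; if q_{Ā'/A'} is bijective then
q_{Ā/A} is bijective. Here η is a natural transformation from the identity of the category of fields
to an endofunctor F with F(η_K) bijective and η_K purely inseparable for every field K, N_η(A) is
the product of the F(k(p)) over the primes p of A with diagonal map t_A, and M_η(A) ⊆ N_η(A) is the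
subring of elements sent into the range of t_R by every ring map from A to a valuation ring R at
whose fraction field η is bijective; q_A : A → M_η(A) is the corestriction of t_A. For a ring map f
: A → B, (B/A)_η ⊆ B denotes the subring of elements b with t_B(b) in N_η(f)(M_η(A)) (the image in B
of the fibre product of M_η(A) and B over M_η(B)), and q_{B/A} : A → (B/A)_η the corestriction of f. -/
theorem result (η : EtaPt.FieldEndo.{u}) (A A' : Type u) [CommRing A] [CommRing A'] [Algebra A A'] [Module.FaithfullyFlat A A']
    (hA : (minimalPrimes A).Finite) (hA' : (minimalPrimes A').Finite)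
    (h : Function.Bijective (η.qRel (algebraMap A' (integralClosure A' (FractionRing A'))))) :
    Function.Bijective (η.qRel (algebraMap A (integralClosure A (FractionRing A)))) := by
  open Groth.Agent.Helper6.EtaRel Groth.Agent.Helper6.EtaBij Groth.Agent.Helper6.EtaBasic in
  rw [qRel_bijective_iff] at h ⊢
  obtain ⟨-, hsurj⟩ := h
  have hinjA : Function.Injective (algebraMap A (FractionRing A)) := IsFractionRing.injective A _
  have hinjA' : Function.Injective (algebraMap A' (FractionRing A')) := IsFractionRing.injective A' _
  constructor
  · intro a b hab
    apply hinjA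
    exact congrArg Subtype.val hab
  · intro c hc
    rw [mem_rel_iff] at hc
    obtain ⟨x, hx, hxc⟩ := hc
    -- the map on fraction rings
    have hM : nonZeroDivisors A ≤ (nonZeroDivisors A').comap (algebraMap A A') := by
      intro s hs
      have h1 : IsSMulRegular A' s := Module.Flat.isSMulRegular_of_nonZeroDivisors hs
      rw [Submonoid.mem_comap, mem_nonZeroDivisors_iff_right]
      intro z hz
      apply h1
      change s • z = s • (0 : A')
      rw [smul_zero, Algebra.smul_def, mul_comm]
      exact hz
    let ψ : FractionRing A →+* FractionRing A' :=
      IsLocalization.map (FractionRing A') (algebraMap A A') hM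
    have hψ : ∀ a, ψ (algebraMap A _ a) = algebraMap A' _ (algebraMap A A' a) :=
      fun a => IsLocalization.map_eq hM a
    have hint : ∀ c : integralClosure A (FractionRing A),
        ψ c.1 ∈ (integralClosure A' (FractionRing A')).toSubring := by
      intro c
      obtain ⟨P, hPm, hP⟩ := c.2
      refine ⟨P.map (algebraMap A A'), hPm.map _, ?_⟩
      rw [Polynomial.eval₂_map]
      have h2 : (algebraMap A' (FractionRing A')).comp (algebraMap A A') =
          ψ.comp (algebraMap A (FractionRing A)) := by
        ext a; exact (hψ a).symm
      rw [h2, ← Polynomial.hom_eval₂, hP, map_zero]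
    let Ψ : integralClosure A (FractionRing A) →+* integralClosure A' (FractionRing A') :=
      (ψ.comp (integralClosure A (FractionRing A)).val.toRingHom).codRestrict
        (integralClosure A' (FractionRing A')).toSubring hint
    have hΨ : Ψ.comp (algebraMap A (integralClosure A (FractionRing A))) =
        (algebraMap A' (integralClosure A' (FractionRing A'))).comp (algebraMap A A') := by
      ext a
      exact hψ a
    have h3 : Ψ c ∈ η.rel (algebraMap A' (integralClosure A' (FractionRing A'))) := by
      rw [mem_rel_iff]
      refine ⟨η.Nmap (algebraMap A A') x, Nmap_mem_M η _ hx, ?_⟩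
      rw [← Nmap_comp_apply, ← hΨ, Nmap_comp_apply, hxc, Nmap_t]
    obtain ⟨a', ha'⟩ := hsurj _ h3
    have ha'' : algebraMap A' (FractionRing A') a' = ψ c.1 := congrArg Subtype.val ha'
    obtain ⟨⟨a, s⟩, hcs⟩ := IsLocalization.surj (nonZeroDivisors A) c.1
    -- hcs : c.1 * algebraMap s = algebraMap a
    have h4 : a' * algebraMap A A' s = algebraMap A A' a := by
      apply hinjA'
      rw [map_mul, ha'', ← hψ, ← hψ, ← map_mul, hcs]
    have h5 : a ∈ Ideal.span {(s : A)} := by
      rw [← Ideal.comap_map_eq_self_of_faithfullyFlat (B := A') (Ideal.span {(s : A)}), Ideal.mem_comap,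
        Ideal.map_span, Set.image_singleton, Ideal.mem_span_singleton']
      exact ⟨a', h4⟩
    rw [Ideal.mem_span_singleton'] at h5
    obtain ⟨a₀, ha₀⟩ := h5
    refine ⟨a₀, Subtype.ext ?_⟩
    change algebraMap A (FractionRing A) a₀ = c.1
    have hunit : IsUnit (algebraMap A (FractionRing A) s) := IsLocalization.map_units _ s
    apply hunit.mul_right_cancel
    rw [hcs, ← map_mul, ha₀]

end Groth.Agent.S13823
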