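import Groth.Statements.S13835
import Mathlib

set_option autoImplicit false
universe u
open AlgebraicGeometry CategoryTheory
open ChowMon

namespace Groth.Agent.S13835

open AlgebraicGeometry CategoryTheory Limits in
lemma surj_of_univHomeo {T' T P : Scheme.{u}} (p : T' ⟶ T) (hp : FlatMor.IsUnivHomeo p) (π : P ⟶ T) :
    Function.Surjective (Limits.pullback.snd p π) := by
  have h := hp (Limits.pullback.fst p π) π (Limits.pullback.snd p π) (IsPullback.of_hasPullback p π).flip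
  exact (show IsHomeomorph (Limits.pullback.snd p π) from h).surjective
open AlgebraicGeometry CategoryTheory Limits in
lemma factor_aux {T' T Y P : Scheme.{u}} (p : T' ⟶ T) (f' : T' ⟶ Y) (V : T.Opens)
    (fV : (V : Scheme.{u}) ⟶ Y) (hfV : (p ⁻¹ᵁ V).ι ≫ f' = (p ∣_ V) ≫ fV)
    (a : P ⟶ (V : Scheme.{u})) :
    Limits.pullback.snd p (a ≫ V.ι) ≫ a ≫ fV = Limits.pullback.fst p (a ≫ V.ι) ≫ f' := by
  have hrange : Set.range (Limits.pullback.fst p (a ≫ V.ι)) ⊆ Set.range (p ⁻¹ᵁ V).ι := by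
    rintro _ ⟨w, rfl⟩
    rw [Scheme.Opens.range_ι]
    show p (Limits.pullback.fst p (a ≫ V.ι) w) ∈ V
    have : p (Limits.pullback.fst p (a ≫ V.ι) w) = V.ι (a (Limits.pullback.snd p (a ≫ V.ι) w)) := by
      have := congrArg (fun g : Limits.pullback p (a ≫ V.ι) ⟶ T => g w) (Limits.pullback.condition (f := p) (g := a ≫ V.ι))
      exact this
    rw [this]
    exact (a (Limits.pullback.snd p (a ≫ V.ι) w)).2
  let wi : Limits.pullback p (a ≫ V.ι) ⟶ (p ⁻¹ᵁ V : Scheme.{u}) :=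
    IsOpenImmersion.lift (p ⁻¹ᵁ V).ι (Limits.pullback.fst p (a ≫ V.ι)) hrange
  have hwi : wi ≫ (p ⁻¹ᵁ V).ι = Limits.pullback.fst p (a ≫ V.ι) := IsOpenImmersion.lift_fac _ _ _
  have h2 : wi ≫ (p ∣_ V) = Limits.pullback.snd p (a ≫ V.ι) ≫ a := by
    rw [← cancel_mono V.ι]
    simp only [Category.assoc, morphismRestrict_ι]
    rw [reassoc_of% hwi, Limits.pullback.condition]
  rw [← hwi, Category.assoc, hfV, reassoc_of% h2]

/-- Let p : T' → T be a universal homeomorphism of separated schemes with T reduced and f' : T' → Y a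
morphism (Y separated); if T has an open cover by affine opens U_i such that each restriction of f'
to p⁻¹(U_i) factors through p⁻¹(U_i) → U_i, then f' factors through p. -/
theorem result {T' T Y : Scheme.{u}} (p : T' ⟶ T) (hp : FlatMor.IsUnivHomeo p) [IsReduced T]
    [T.IsSeparated] [T'.IsSeparated] [Y.IsSeparated] (f' : T' ⟶ Y)
    {ι : Type u} (U : ι → T.affineOpens) (hU : ⨆ i, (U i : T.Opens) = ⊤)
    (hloc : ∀ i, ∃ fi : ((U i : T.Opens) : Scheme.{u}) ⟶ Y, (p ⁻¹ᵁ (U i : T.Opens)).ι ≫ f' = (p ∣_ (U i : T.Opens)) ≫ fi) :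
    ∃ f : T ⟶ Y, p ≫ f = f' := by
  classical
  choose fi hfi using hloc
  let 𝒰 := T.openCoverOfIsOpenCover (fun i => ((U i : T.Opens))) hU
  have compat : ∀ i j : ι, Limits.pullback.fst (U i : T.Opens).ι (U j : T.Opens).ι ≫ fi i = Limits.pullback.snd (U i : T.Opens).ι (U j : T.Opens).ι ≫ fi j := by
    intro i j
    have hred : IsReduced (Limits.pullback (U i : T.Opens).ι (U j : T.Opens).ι) :=
      isReduced_of_isOpenImmersion (Limits.pullback.fst (U i : T.Opens).ι (U j : T.Opens).ι ≫ (U i : T.Opens).ι)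
    have hsurj := surj_of_univHomeo p hp (Limits.pullback.fst (U i : T.Opens).ι (U j : T.Opens).ι ≫ (U i : T.Opens).ι)
    have hdom : IsDominant (Limits.pullback.snd p (Limits.pullback.fst (U i : T.Opens).ι (U j : T.Opens).ι ≫ (U i : T.Opens).ι)) :=
      ⟨hsurj.denseRange⟩
    refine ext_of_isDominant (ι := Limits.pullback.snd p (Limits.pullback.fst (U i : T.Opens).ι (U j : T.Opens).ι ≫ (U i : T.Opens).ι)) ?_
    rw [factor_aux p f' (U i : T.Opens) (fi i) (hfi i) (Limits.pullback.fst (U i : T.Opens).ι (U j : T.Opens).ι)]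
    have hc : Limits.pullback.fst (U i : T.Opens).ι (U j : T.Opens).ι ≫ (U i : T.Opens).ι =
        Limits.pullback.snd (U i : T.Opens).ι (U j : T.Opens).ι ≫ (U j : T.Opens).ι := Limits.pullback.condition
    have := factor_aux p f' (U j : T.Opens) (fi j) (hfi j) (Limits.pullback.snd (U i : T.Opens).ι (U j : T.Opens).ι)
    rw [← hc] at this
    exact this.symm
  refine ⟨𝒰.glueMorphisms fi compat, ?_⟩
  have hU' : ⨆ i, (p ⁻¹ᵁ (U i : T.Opens)) = ⊤ := by
    rw [← Scheme.Hom.preimage_iSup, hU]; rfl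
  refine (T'.openCoverOfIsOpenCover (fun i => p ⁻¹ᵁ (U i : T.Opens)) hU').hom_ext _ _ ?_
  intro (i : ι)
  show (p ⁻¹ᵁ (U i : T.Opens)).ι ≫ p ≫ _ = (p ⁻¹ᵁ (U i : T.Opens)).ι ≫ f'
  rw [hfi i, ← morphismRestrict_ι_assoc]
  congr 1
  exact 𝒰.ι_glueMorphisms fi compat i

end Groth.Agent.S13835
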