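import Groth.Statements.S13860
import Mathlib

set_option autoImplicit false
universe u v w
open ModRep

namespace Groth.Agent.S13860

/-- For k a field of characteristic p > 0, G a finite group and P a Sylow p-subgroup of G, a short exact
sequence of k[G]-modules has a k[G]-linear splitting exactly when it has a k[P]-linear one. Stated
here for the surjection of the sequence: a G-equivariant k-linear map g : B → C between k-linear
representations of G admits a G-equivariant k-linear section if and only if it admits a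
P-equivariant k-linear section. -/
theorem result {k : Type u} [Field k] (p : ℕ) [Fact p.Prime]
    [CharP k p] {G : Type v} [Group G] [Finite G] (P : Sylow p G)
    {B C : Type w} [AddCommGroup B] [Module k B] [AddCommGroup C] [Module k C]
    (ρB : Representation k G B) (ρC : Representation k G C)
    (g : B →ₗ[k] C) (hg : ∀ x : G, g ∘ₗ ρB x = ρC x ∘ₗ g) :
    (∃ s : C →ₗ[k] B, g ∘ₗ s = LinearMap.id ∧ ∀ x : G, s ∘ₗ ρC x = ρB x ∘ₗ s) ↔
      (∃ s : C →ₗ[k] B, g ∘ₗ s = LinearMap.id ∧ ∀ x : G, x ∈ P → s ∘ₗ ρC x = ρB x ∘ₗ s) := by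
  constructor
  · rintro ⟨s, hs, hx⟩
    exact ⟨s, hs, fun x _ => hx x⟩
  rintro ⟨s, hs, hsP⟩
  classical
  letI : Fintype (G ⧸ (P : Subgroup G)) := Fintype.ofFinite _
  let T : G → (C →ₗ[k] B) := fun y => ρB y ∘ₗ s ∘ₗ ρC y⁻¹
  have hT : ∀ (y : G) (h : G), h ∈ P → T (y * h) = T y := by
    intro y h hh
    simp only [T]
    rw [map_mul, mul_inv_rev, map_mul]
    have h1 := hsP h hh
    ext c
    simp only [LinearMap.comp_apply, Module.End.mul_apply]
    have h2 : s (ρC h (ρC h⁻¹ (ρC y⁻¹ c))) = ρB h (s (ρC h⁻¹ (ρC y⁻¹ c))) := by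
      have := congrArg (fun φ => φ (ρC h⁻¹ (ρC y⁻¹ c))) h1
      simpa using this
    rw [← h2]
    have h3 : ρC h (ρC h⁻¹ (ρC y⁻¹ c)) = ρC y⁻¹ c := by
      rw [← Module.End.mul_apply, ← map_mul, mul_inv_cancel, map_one, Module.End.one_apply]
    rw [h3]
  let Tb : G ⧸ (P : Subgroup G) → (C →ₗ[k] B) := Quotient.lift T (by
    intro a b hab
    have hab' : a⁻¹ * b ∈ (P : Subgroup G) := QuotientGroup.leftRel_apply.mp hab
    have := hT a (a⁻¹ * b) hab'
    rw [mul_inv_cancel_left] at this
    exact this.symm)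
  have hTb : ∀ y : G, Tb (QuotientGroup.mk y) = T y := fun y => rfl
  have hgT : ∀ (y : G) (c : C), g (T y c) = c := by
    intro y c
    simp only [T, LinearMap.comp_apply]
    have h1 := congrArg (fun φ => φ (s (ρC y⁻¹ c))) (hg y)
    simp only [LinearMap.comp_apply] at h1
    rw [h1]
    have h2 := congrArg (fun φ => φ (ρC y⁻¹ c)) hs
    simp only [LinearMap.comp_apply, LinearMap.id_apply] at h2
    rw [h2, ← Module.End.mul_apply, ← map_mul, mul_inv_cancel, map_one, Module.End.one_apply]
  have hgTb : ∀ (q : G ⧸ (P : Subgroup G)) (c : C), g (Tb q c) = c := by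
    intro q c
    induction q using Quotient.inductionOn with
    | h y => exact hgT y c
  set m : ℕ := Fintype.card (G ⧸ (P : Subgroup G)) with hm
  have hmne : (m : k) ≠ 0 := by
    intro h0
    rw [CharP.cast_eq_zero_iff k p] at h0
    have hidx : (P : Subgroup G).index = m := by
      rw [hm, Subgroup.index, Nat.card_eq_fintype_card]
    rw [← hidx] at h0
    exact P.not_dvd_index h0
  let s' : C →ₗ[k] B := (m : k)⁻¹ • ∑ q : G ⧸ (P : Subgroup G), Tb q
  refine ⟨s', ?_, ?_⟩
  · ext c
    simp only [s', LinearMap.comp_apply, LinearMap.smul_apply, LinearMap.sum_apply, map_smul,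
      map_sum, hgTb, LinearMap.id_apply, Finset.sum_const, Finset.card_univ]
    rw [← hm, ← Nat.cast_smul_eq_nsmul k, smul_smul, inv_mul_cancel₀ hmne, one_smul]
  · intro x
    have hconj : ∀ q : G ⧸ (P : Subgroup G), ρB x ∘ₗ Tb q = Tb (x • q) ∘ₗ ρC x := by
      intro q
      induction q using Quotient.inductionOn with
      | h y =>
        change ρB x ∘ₗ T y = T (x * y) ∘ₗ ρC x
        simp only [T]
        ext c
        simp only [LinearMap.comp_apply]
        rw [map_mul, Module.End.mul_apply, mul_inv_rev, map_mul, Module.End.mul_apply,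
          ← Module.End.mul_apply (ρC x⁻¹), ← map_mul, inv_mul_cancel, map_one, Module.End.one_apply]
    have hsum : ρB x ∘ₗ (∑ q : G ⧸ (P : Subgroup G), Tb q)
        = (∑ q : G ⧸ (P : Subgroup G), Tb q) ∘ₗ ρC x := by
      ext c
      simp only [LinearMap.comp_apply, LinearMap.sum_apply, map_sum]
      have hc : ∀ q : G ⧸ (P : Subgroup G), ρB x (Tb q c) = Tb (x • q) (ρC x c) := fun q => by
        have := congrArg (fun φ => φ c) (hconj q)
        simpa using this
      simp only [hc]
      exact Fintype.sum_equiv (MulAction.toPerm x) _ _ (fun q => rfl)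
    simp only [s']
    rw [LinearMap.smul_comp, LinearMap.comp_smul, hsum]

end Groth.Agent.S13860
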