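import Groth.Statements.S13872
import Groth.Agent.Helper4.PolarTS
import Mathlib

set_option autoImplicit false
universe u
open scoped TensorProduct
open ZeroCyc

namespace Groth.Agent.S13872


/-- Let A be a commutative ring, B an A-algebra and d ≥ 1; let (C, γ) be the degree-d divided power
algebra Γ^d_A(B) with its universal multiplicative law γ : B → C of degree d (every multiplicative
law of degree d out of B factors uniquely through γ), and let φ : Γ^d_A(B) → TS^d_A(B) be the
canonical homomorphism to the symmetric tensors, taken as data characterised by: after any base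
change S, φ ∘ γ sends Σ_j s_j ⊗ b_j to Σ_{c : [d] → [n]} (∏_i s_{c(i)}) ⊗ (b_{c(1)} ⊗ ⋯ ⊗ b_{c(d)}),
i.e. φ corresponds to the law x ↦ x ⊗ ⋯ ⊗ x. Then d!·x = 0 for every x in the kernel of φ, and d!·y
lies in the image of φ for every symmetric tensor y ∈ TS^d_A(B). (The published statement also
asserts x^{d!} = 0 and y^{d!} in the image of φ; those two halves are a separate result and are not
restated here.) -/
theorem result {A B C : Type u} [CommRing A] [CommRing B] [Algebra A B] [CommRing C] [Algebra A C] (d : ℕ) (hd : 0 < d)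
    (γ : PolLaw.MulLaw A B C d) (hγ : PolLaw.IsGammaD γ) (φ : C →ₐ[A] SymTen.TS A B d)
    (hφ : ∀ (S : Type u) [CommSemiring S] [Algebra A S] (n : ℕ) (s : Fin n → S) (b : Fin n → B),
      ((SymTen.TS A B d).val.comp φ).toLinearMap.lTensor S (γ.law.toFun' S (∑ j, s j ⊗ₜ[A] b j)) =
        ∑ c : Fin d → Fin n, (∏ i, s (c i)) ⊗ₜ[A] PiTensorProduct.tprod A (fun i => b (c i))) :
    (∀ x : C, φ x = 0 → d.factorial • x = 0) ∧
      (∀ y : SymTen.TS A B d, d.factorial • y ∈ φ.range) := by

  have hP := Groth.Agent.Helper4.PolarTS.Pol_comp γ ((SymTen.TS A B d).val.comp φ) hγ hφ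
  constructor
  · intro x hx
    rw [← hP x]
    have : ((SymTen.TS A B d).val.comp φ) x = 0 := by
      rw [AlgHom.comp_apply, hx, map_zero]
    rw [this, map_zero]
  · intro y
    refine ⟨Groth.Agent.Helper4.Polar.Pol d γ.law (y : ⨂[A] _ : Fin d, B), ?_⟩
    apply Subtype.ext
    have h := Groth.Agent.Helper4.PolarTS.sum_perm_eq γ ((SymTen.TS A B d).val.comp φ) hφ
      (y : ⨂[A] _ : Fin d, B)
    have hy : ∀ σ : Equiv.Perm (Fin d), SymTen.perm A B d σ (y : ⨂[A] _ : Fin d, B) = y := by
      intro σ
      rw [SymTen.perm_apply]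
      exact y.2 σ
    rw [Finset.sum_congr rfl (fun σ _ => hy σ), Finset.sum_const, Finset.card_univ,
      Fintype.card_perm, Fintype.card_fin] at h
    rw [AlgHom.comp_apply] at h
    rw [AddSubmonoidClass.coe_nsmul, h]
    rfl

end Groth.Agent.S13872
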