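import Groth.Statements.S13873
import Groth.Agent.Helper4.ZCGamB
import Groth.Agent.Helper4.ZCGamC
import Mathlib

set_option autoImplicit false
universe u
open scoped TensorProduct
open ZeroCyc

namespace Groth.Agent.S13873


/-- Let A be a commutative ring, B an A-algebra and d ≥ 0, and assume that B is flat over A or that d!
is invertible in A. Then TS^d_A(B) with the law x ↦ x ⊗ ⋯ ⊗ x is the degree-d divided power algebra
of B: there is a multiplicative polynomial law τ : B → TS^d_A(B) over A, homogeneous of degree d,
which after any base change S sends Σ_j s_j ⊗ b_j to Σ_{c : [d] → [n]} (∏_i s_{c(i)}) ⊗ (b_{c(1)} ⊗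
⋯ ⊗ b_{c(d)}) inside S ⊗ T^d_A(B), and every multiplicative law of degree d out of B with values in
an A-algebra factors through τ by a unique algebra homomorphism. Equivalently, the canonical
homomorphism Γ^d_A(B) → TS^d_A(B) is an isomorphism. (The invertibility of d! is the hypothesis
printed for modules; for algebras the text names the case where A contains the rationals.) -/
theorem result {A B : Type u} [CommRing A] [CommRing B] [Algebra A B] (d : ℕ)
    (h : Module.Flat A B ∨ IsUnit ((d.factorial : ℕ) : A)) :
    ∃ τ : PolLaw.MulLaw A B (SymTen.TS A B d) d,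
      (∀ (S : Type u) [CommSemiring S] [Algebra A S] (n : ℕ) (s : Fin n → S) (b : Fin n → B),
        (SymTen.TS A B d).val.toLinearMap.lTensor S (τ.law.toFun' S (∑ j, s j ⊗ₜ[A] b j)) =
          ∑ c : Fin d → Fin n, (∏ i, s (c i)) ⊗ₜ[A] PiTensorProduct.tprod A (fun i => b (c i))) ∧
      PolLaw.IsGammaD τ := by

  have hS : Groth.Agent.Helper4.ZCGamA.Sur A B d := by
    rcases h with h | h
    · exact Groth.Agent.Helper4.ZCGamC.Sur_of_flat
    · exact Groth.Agent.Helper4.ZCGamB.Sur_of_unit h
  have hK : Groth.Agent.Helper4.ZCGamA.Ker A B d := by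
    rcases h with h | h
    · exact Groth.Agent.Helper4.ZCGamC.Ker_of_flat
    · exact Groth.Agent.Helper4.ZCGamB.Ker_of_unit h
  exact ⟨Groth.Agent.Helper4.ZCGamA.τ A B d,
    fun S _ _ n s b => Groth.Agent.Helper4.ZCGamA.τ_formula S n s b,
    Groth.Agent.Helper4.ZCGamA.isGammaD_τ hS hK⟩

end Groth.Agent.S13873
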