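import Groth.Statements.S13874
import Groth.Agent.S13398
import Groth.Agent.Helper4.ZCFieldPt
import Groth.Agent.Helper6.EtaSN
import Mathlib

set_option autoImplicit false
universe u
open scoped TensorProduct
open AlgebraicGeometry
open ZeroCyc

namespace Groth.Agent.S13874


/-- Affine form. Let A be a commutative ring, B an A-algebra and d ≥ 1; let (C, γ) be the degree-d
divided power algebra Γ^d_A(B) with its universal multiplicative law γ : B → C of degree d (every
multiplicative law of degree d out of B factors uniquely through γ), and let φ : Γ^d_A(B) →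
TS^d_A(B) be the canonical homomorphism to the symmetric tensors, taken as data characterised by:
after any base change S, φ ∘ γ sends Σ_j s_j ⊗ b_j to Σ_{c : [d] → [n]} (∏_i s_{c(i)}) ⊗ (b_{c(1)} ⊗
⋯ ⊗ b_{c(d)}), i.e. φ corresponds to the law x ↦ x ⊗ ⋯ ⊗ x. Then the morphism Spec TS^d_A(B) → Spec
Γ^d_A(B) induced by φ (the comparison map from the d-th symmetric product of Spec B over Spec A to
the scheme of degree-d divided powers) is a universal homeomorphism inducing an isomorphism on every
residue field. (The published statement is for a separated algebraic space X over an algebraic space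
S; this row is its content for X = Spec B over S = Spec A. The second assertion of the published
statement, that the map is an isomorphism when B is flat over A or A contains the rationals, is not
part of this row.) -/
theorem result {A B C : Type u} [CommRing A] [CommRing B] [Algebra A B] [CommRing C] [Algebra A C] (d : ℕ) (hd : 0 < d)
    (γ : PolLaw.MulLaw A B C d) (hγ : PolLaw.IsGammaD γ) (φ : C →ₐ[A] SymTen.TS A B d)
    (hφ : ∀ (S : Type u) [CommSemiring S] [Algebra A S] (n : ℕ) (s : Fin n → S) (b : Fin n → B),
      ((SymTen.TS A B d).val.comp φ).toLinearMap.lTensor S (γ.law.toFun' S (∑ j, s j ⊗ₜ[A] b j)) =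
        ∑ c : Fin d → Fin n, (∏ i, s (c i)) ⊗ₜ[A] PiTensorProduct.tprod A (fun i => b (c i))) :
    FlatMor.IsUnivHomeo (Spec.map (CommRingCat.ofHom φ.toRingHom)) ∧
      ∀ x : ↥(Spec (CommRingCat.of (SymTen.TS A B d))),
        Function.Surjective ((Spec.map (CommRingCat.ofHom φ.toRingHom)).residueFieldMap x).hom := by

  classical
  obtain ⟨hker, him⟩ := Groth.Agent.S13398.result d γ hγ φ hφ
  have hfac : d.factorial ≠ 0 := Nat.factorial_ne_zero d
  -- integrality
  have hint : φ.toRingHom.IsIntegral := by
    intro y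
    obtain ⟨c, hc'⟩ := him y
    have hc : φ c = y ^ d.factorial := hc'
    refine ⟨Polynomial.X ^ d.factorial - Polynomial.C c,
      Polynomial.monic_X_pow_sub_C c hfac, ?_⟩
    rw [Polynomial.eval₂_sub, Polynomial.eval₂_X_pow, Polynomial.eval₂_C]
    show y ^ d.factorial - φ c = 0
    rw [hc, sub_self]
  -- injectivity on spectra
  have key : ∀ Q Q' : PrimeSpectrum (SymTen.TS A B d),
      PrimeSpectrum.comap φ.toRingHom Q = PrimeSpectrum.comap φ.toRingHom Q' →
      Q.asIdeal ≤ Q'.asIdeal := by
    intro Q Q' h y hy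
    obtain ⟨c, hc'⟩ := him y
    have hc : φ c = y ^ d.factorial := hc'
    have h1 : c ∈ (PrimeSpectrum.comap φ.toRingHom Q).asIdeal := by
      show φ c ∈ Q.asIdeal
      rw [hc]
      exact Ideal.pow_mem_of_mem _ hy _ (Nat.factorial_pos d)
    rw [h] at h1
    have h2 : y ^ d.factorial ∈ Q'.asIdeal := by
      rw [← hc]
      exact h1
    exact Q'.isPrime.mem_of_pow_mem _ h2
  have hinj : Function.Injective (PrimeSpectrum.comap φ.toRingHom) := fun Q₁ Q₂ h =>
    PrimeSpectrum.ext (le_antisymm (key _ _ h) (key _ _ h.symm))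
  -- surjectivity on spectra
  have hsurj : Function.Surjective (PrimeSpectrum.comap φ.toRingHom) := by
    intro p
    letI : Algebra C (SymTen.TS A B d) := φ.toRingHom.toAlgebra
    haveI : Algebra.IsIntegral C (SymTen.TS A B d) := ⟨hint⟩
    obtain ⟨Q, -, hQ1, hQ2⟩ := Ideal.exists_ideal_over_prime_of_isIntegral p.asIdeal
      (⊥ : Ideal (SymTen.TS A B d)) (by
        intro x hx
        have hx0 : φ x = 0 := hx
        exact p.isPrime.mem_of_pow_mem _ (by rw [hker x hx0]; exact zero_mem _))
    exact ⟨⟨Q, hQ1⟩, PrimeSpectrum.ext hQ2⟩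
  -- residue fields
  have hres : ∀ Q : PrimeSpectrum (SymTen.TS A B d), Function.Bijective
      (Ideal.ResidueField.map (PrimeSpectrum.comap φ.toRingHom Q).asIdeal Q.asIdeal
        φ.toRingHom rfl) := by
    intro Q
    set p := PrimeSpectrum.comap φ.toRingHom Q with hp
    obtain ⟨χ, hχ⟩ := Groth.Agent.Helper4.ZCFieldPt.exists_lift_field_point γ hγ φ hφ
      p.asIdeal.ResidueField (algebraMap C p.asIdeal.ResidueField)
    -- the kernel of χ is Q
    have hkerχ : RingHom.ker χ = Q.asIdeal := by
      have hprime : (RingHom.ker χ).IsPrime := RingHom.ker_isPrime χ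
      have h1 : PrimeSpectrum.comap φ.toRingHom ⟨RingHom.ker χ, hprime⟩ = p := by
        apply PrimeSpectrum.ext
        ext c
        show χ (φ c) = 0 ↔ c ∈ p.asIdeal
        rw [hχ, Ideal.algebraMap_residueField_eq_zero]
      exact congrArg PrimeSpectrum.asIdeal (hinj h1)
    let ρ : Q.asIdeal.ResidueField →+* p.asIdeal.ResidueField :=
      Ideal.ResidueField.lift Q.asIdeal χ (le_of_eq hkerχ.symm) (by
        intro y hy
        show IsUnit (χ y)
        rw [isUnit_iff_ne_zero]
        intro h0
        exact hy (hkerχ ▸ (RingHom.mem_ker.2 h0)))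
    have hρ : ρ.comp (Ideal.ResidueField.map p.asIdeal Q.asIdeal φ.toRingHom rfl) =
        RingHom.id _ := by
      apply Ideal.ResidueField.ringHom_ext
      ext c
      simp only [RingHom.comp_apply, RingHom.id_apply]
      rw [Ideal.ResidueField.map_algebraMap]
      show ρ (algebraMap _ _ (φ c)) = _
      rw [Ideal.ResidueField.lift_algebraMap, hχ]
    refine ⟨RingHom.injective _, fun x => ⟨ρ x, ?_⟩⟩
    apply ρ.injective
    exact congrArg (fun f => f (ρ x)) hρ
  obtain ⟨h1, h2⟩ := Groth.Agent.Helper6.EtaSN.isUnivHomeo_SpecMap_of φ.toRingHom hint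
    ⟨hinj, hsurj⟩ hres
  exact ⟨h1, fun x => ((CategoryTheory.ConcreteCategory.isIso_iff_bijective _).mp (h2 x)).2⟩

end Groth.Agent.S13874
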