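import Groth.Statements.S13879
import Mathlib

set_option autoImplicit false
universe u
open Crimp

namespace Groth.Agent.S13879

/-- Over R = k⟦t⟧ with k an algebraically closed field of characteristic zero, let S' = R × R × R and
let S be the R-submodule R·1 + R·(t ^ m f) + t ^ n S' of S' for some f in S' and natural numbers m,
n. Then S is closed under multiplication (equivalently, is an R-subalgebra of S') if and only if t ^
(2m) f ^ 2 lies in S. (The published statement has m ≤ n and S' / S isomorphic to R / (t ^ m) ⊕ R /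
(t ^ n), under which S has this shape; this row states the criterion for every submodule of this
shape.) -/
theorem result {k : Type u} [Field k] [IsAlgClosed k] [CharZero k] (m n : ℕ) (f : (Fin 3 → PowerSeries k))
    (S : Submodule (PowerSeries k) (Fin 3 → PowerSeries k))
    (hS : S = Submodule.span (PowerSeries k) {(1 : (Fin 3 → PowerSeries k)), ((PowerSeries.X : PowerSeries k) ^ m) • f} ⊔
        Ideal.span {(PowerSeries.X : PowerSeries k) ^ n} • (⊤ : Submodule (PowerSeries k) (Fin 3 → PowerSeries k))) :
    (∀ x ∈ S, ∀ y ∈ S, x * y ∈ S) ↔ ((PowerSeries.X : PowerSeries k) ^ (2 * m)) • (f * f) ∈ S := by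
  set T : Submodule (PowerSeries k) (Fin 3 → PowerSeries k) :=
    Ideal.span {(PowerSeries.X : PowerSeries k) ^ n} •
      (⊤ : Submodule (PowerSeries k) (Fin 3 → PowerSeries k)) with hT
  set g : Fin 3 → PowerSeries k := ((PowerSeries.X : PowerSeries k) ^ m) • f with hg
  have hTS : T ≤ S := by rw [hS]; exact le_sup_right
  have h1S : (1 : Fin 3 → PowerSeries k) ∈ S := by
    rw [hS]; exact Submodule.mem_sup_left (Submodule.subset_span (by simp))
  have hgS : g ∈ S := by
    rw [hS]; exact Submodule.mem_sup_left (Submodule.subset_span (by simp))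
  have hgg : g * g = ((PowerSeries.X : PowerSeries k) ^ (2 * m)) • (f * f) := by
    rw [hg, smul_mul_smul_comm, ← pow_add, two_mul]
  -- T is an ideal
  have hTmul : ∀ s ∈ T, ∀ y : Fin 3 → PowerSeries k, s * y ∈ T := by
    intro s hs y
    refine Submodule.smul_induction_on hs ?_ ?_
    · intro r hr v _
      rw [smul_mul_assoc]
      exact Submodule.smul_mem_smul hr Submodule.mem_top
    · intro a b ha hb
      rw [add_mul]
      exact T.add_mem ha hb
  have hdecomp : ∀ x ∈ S, ∃ a b : PowerSeries k, ∃ s ∈ T, x = a • 1 + b • g + s := by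
    intro x hx
    rw [hS, Submodule.mem_sup] at hx
    obtain ⟨y, hy, z, hz, rfl⟩ := hx
    rw [Submodule.mem_span_pair] at hy
    obtain ⟨a, b, rfl⟩ := hy
    exact ⟨a, b, z, hz, rfl⟩
  constructor
  · intro h
    rw [← hgg]
    exact h g hgS g hgS
  · intro h x hx y hy
    rw [← hgg] at h
    obtain ⟨a, b, s, hs, rfl⟩ := hdecomp x hx
    obtain ⟨a', b', s', hs', rfl⟩ := hdecomp y hy
    have e : (a • 1 + b • g + s) * (a' • 1 + b' • g + s') =
        (a * a') • 1 + (a * b' + b * a') • g + (b * b') • (g * g) +
          (s * (a' • 1 + b' • g + s') + s' * (a • 1 + b • g)) := by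
      simp only [add_mul, mul_add, smul_mul_smul_comm, mul_one, one_mul, add_smul]
      ring_nf
    rw [e]
    refine S.add_mem (S.add_mem (S.add_mem (S.smul_mem _ h1S) (S.smul_mem _ hgS))
      (S.smul_mem _ h)) (hTS (T.add_mem (hTmul s hs _) (hTmul s' hs' _)))

end Groth.Agent.S13879
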