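import Groth.Statements.S13904
import Mathlib.Tactic
import Mathlib.RingTheory.KrullDimension.NonZeroDivisors
import Mathlib.RingTheory.KrullDimension.Polynomial
import Mathlib.RingTheory.KrullDimension.Field

set_option autoImplicit false
universe u
open CAlg

namespace Groth.Agent.S13904

/-- Let k be a field, A a commutative k-algebra and φ : k[x_1, …, x_r] → A a finite k-algebra map such
that A/p has Krull dimension r for every minimal prime p of A (an equidimensional affine scheme of
dimension r, finite over affine r-space). Then for every minimal prime p of A and every prime q of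
k[x_1, …, x_r] there is a prime P ⊇ p of A with φ⁻¹(P) = q: the finite map restricted to each
irreducible component of Spec A is surjective onto affine r-space. (The published statement is over
an algebraically closed field with φ a Noether normalisation; this row allows any field and any
finite k-algebra map φ.) -/
theorem result (k : Type u) [Field k] (r : ℕ)
    (A : Type u) [CommRing A] [Algebra k A] (φ : MvPolynomial (Fin r) k →ₐ[k] A)
    (hφ : φ.toRingHom.Finite)
    (hdim : ∀ p ∈ minimalPrimes A, ringKrullDim (A ⧸ p) = r)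
    (p : Ideal A) (hp : p ∈ minimalPrimes A)
    (q : Ideal (MvPolynomial (Fin r) k)) [q.IsPrime] :
    ∃ P : Ideal A, P.IsPrime ∧ p ≤ P ∧ P.comap φ.toRingHom = q := by
  classical
  haveI hpp : p.IsPrime := hp.1.1
  letI : Algebra (MvPolynomial (Fin r) k) A := φ.toRingHom.toAlgebra
  haveI : Algebra.IsIntegral (MvPolynomial (Fin r) k) A := ⟨hφ.to_isIntegral⟩
  have hK : p.comap (algebraMap (MvPolynomial (Fin r) k) A) = ⊥ := by
    by_contra hne
    obtain ⟨g, hgK, hg0⟩ := Submodule.exists_mem_ne_zero_of_ne_bot hne
    have hnzd : g ∈ nonZeroDivisors (MvPolynomial (Fin r) k) := mem_nonZeroDivisors_of_ne_zero hg0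
    have h1 : ringKrullDim (MvPolynomial (Fin r) k ⧸ p.comap (algebraMap (MvPolynomial (Fin r) k) A)) + 1 ≤
        ringKrullDim (MvPolynomial (Fin r) k) :=
      ringKrullDim_succ_le_of_surjective (Ideal.Quotient.mk _) Ideal.Quotient.mk_surjective hnzd
        (Ideal.Quotient.eq_zero_iff_mem.2 hgK)
    have h2 : ringKrullDim (A ⧸ p) ≤
        ringKrullDim (MvPolynomial (Fin r) k ⧸ p.comap (algebraMap (MvPolynomial (Fin r) k) A)) := by
      apply Order.krullDim_le_of_strictMono
        (PrimeSpectrum.comap (algebraMap (MvPolynomial (Fin r) k ⧸ p.comap (algebraMap (MvPolynomial (Fin r) k) A)) (A ⧸ p)))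
      intro I J hIJ
      exact Ideal.IsIntegral.comap_lt_comap (R := MvPolynomial (Fin r) k ⧸ p.comap (algebraMap (MvPolynomial (Fin r) k) A)) hIJ
    have h3 : ringKrullDim (MvPolynomial (Fin r) k) = r := by
      rw [MvPolynomial.ringKrullDim_of_isNoetherianRing, ringKrullDim_eq_zero_of_field, zero_add, Nat.card_fin]
    rw [h3] at h1
    rw [hdim p hp] at h2
    have h4 : ((r : WithBot ℕ∞)) + 1 ≤ r := (add_le_add_left h2 1).trans h1
    have h5 : ((r + 1 : ℕ) : WithBot ℕ∞) ≤ (r : ℕ) := by exact_mod_cast h4
    have h6 : r + 1 ≤ r := by exact_mod_cast h5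
    omega
  obtain ⟨Q, hQp, hQ, hQq⟩ := Ideal.exists_ideal_over_prime_of_isIntegral_of_isPrime q p (by rw [hK]; exact bot_le)
  exact ⟨Q, hQ, hQp, hQq⟩

end Groth.Agent.S13904
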