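import Groth.Statements.S13905
import Mathlib

set_option autoImplicit false
universe u
open ProjGeom

namespace Groth.Agent.S13905

open W4c1etcurveeff3b in
/-- Hyperplanes of projective n-space in general position, in linear-algebra form (V of dimension n + 1
over a field k, hyperplanes as n-dimensional subspaces, points as nonzero vectors): if S is a finite
set of hyperplanes in general position with at least n members and H is a hyperplane containing none
of the lines cut out by n members of S, then S with H added is again in general position. (The
published statement is for hyperplanes of P^n_k and closed points; a closed point lying on n + 1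
members is automatically one of the rational points cut out by n of them, so the condition on
nonzero vectors of V is the same condition.) -/
theorem result (k V : Type u) [Field k]
    [AddCommGroup V] [Module k V] [DecidableEq (Submodule k V)] (n : ℕ) (S : Finset (Submodule k V))
    (hS : InGeneralPosition k V n S) (hn : n ≤ S.card) (H : Submodule k V)
    (hH : Module.finrank k H = n)
    (havoid : ∀ T ⊆ S, T.card = n → ¬ (T.inf id ≤ H)) :
    InGeneralPosition k V n (insert H S) := by
  obtain ⟨hV, hdim, hinter, hpt⟩ := hS
  haveI : FiniteDimensional k V := Module.finite_of_finrank_pos (by rw [hV]; omega)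
  by_cases hHS : H ∈ S
  · rw [Finset.insert_eq_of_mem hHS]; exact ⟨hV, hdim, hinter, hpt⟩
  have hkey : ∀ T' ⊆ S, T'.card ≤ n → ¬ (T'.inf id ≤ H) := by
    intro T' hT' hcard hle
    obtain ⟨T'', hsub1, hsub2, hc⟩ := Finset.exists_subsuperset_card_eq hT' hcard hn
    exact havoid T'' hsub2 hc ((Finset.inf_mono hsub1).trans hle)
  have herase : ∀ T ⊆ insert H S, T.erase H ⊆ S := by
    intro T hT W hW
    have := hT (Finset.mem_of_mem_erase hW)
    rcases Finset.mem_insert.mp this with rfl | h
    · exact absurd hW (Finset.notMem_erase _ _)
    · exact h
  have hsubS : ∀ T ⊆ insert H S, H ∉ T → T ⊆ S := by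
    intro T hT hHT W hW
    rcases Finset.mem_insert.mp (hT hW) with rfl | h
    · exact absurd hW hHT
    · exact h
  refine ⟨hV, ?_, ?_, ?_⟩
  · intro H' hH'
    rcases Finset.mem_insert.mp hH' with rfl | h
    · exact hH
    · exact hdim H' h
  · intro T hT hcard
    by_cases hHT : H ∈ T
    · have hT' := herase T hT
      have hcard' : (T.erase H).card = T.card - 1 := Finset.card_erase_of_mem hHT
      have hTeq : T.inf id = H ⊓ (T.erase H).inf id := by
        conv_lhs => rw [← Finset.insert_erase hHT]
        rw [Finset.inf_insert]; rfl
      have hpos : 0 < T.card := Finset.card_pos.mpr ⟨H, hHT⟩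
      have hW := hinter (T.erase H) hT' (by omega)
      have hnle := hkey (T.erase H) hT' (by omega)
      have hsup : H ⊔ (T.erase H).inf id = ⊤ := by
        apply Submodule.eq_top_of_finrank_eq
        have hlt : H < H ⊔ (T.erase H).inf id := by
          apply lt_of_le_of_ne le_sup_left
          intro h
          apply hnle
          exact (le_sup_right : (T.erase H).inf id ≤ H ⊔ (T.erase H).inf id).trans h.ge
        have h1 := Submodule.finrank_lt_finrank_of_lt hlt
        have h2 := Submodule.finrank_le (H ⊔ (T.erase H).inf id)
        omega
      have h3 := Submodule.finrank_sup_add_finrank_inf_eq H ((T.erase H).inf id)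
      rw [hsup, finrank_top, hV, hH, hW] at h3
      rw [hTeq]; omega
    · exact hinter T (hsubS T hT hHT) hcard
  · intro v hv T hT hmem
    by_cases hHT : H ∈ T
    · have hT' := herase T hT
      have h1 := hpt v hv (T.erase H) hT' (fun W hW => hmem W (Finset.mem_of_mem_erase hW))
      have hcard' : (T.erase H).card = T.card - 1 := Finset.card_erase_of_mem hHT
      by_contra hgt
      push Not at hgt
      have hcn : (T.erase H).card = n := by omega
      have hdim1 := hinter (T.erase H) hT' hcn.le
      have hvin : v ∈ (T.erase H).inf id := by
        rw [Submodule.mem_finsetInf]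
        intro W hW
        exact hmem W (Finset.mem_of_mem_erase hW)
      apply havoid (T.erase H) hT' hcn
      intro w hw
      have hone : Module.finrank k ↥((T.erase H).inf id) = 1 := by omega
      have hv' : (⟨v, hvin⟩ : ↥((T.erase H).inf id)) ≠ 0 := by
        intro h
        apply hv
        exact congrArg Subtype.val h
      obtain ⟨c, hc⟩ := (finrank_eq_one_iff_of_nonzero' _ hv').mp hone ⟨w, hw⟩
      have hc' : c • v = w := congrArg Subtype.val hc
      rw [← hc']
      exact H.smul_mem c (hmem H hHT)
    · exact hpt v hv T (hsubS T hT hHT) hmem

end Groth.Agent.S13905
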