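import Groth.Statements.S13907
import Groth.Agent.Helper6.ProjDim4

set_option autoImplicit false
universe u
open ProjGeom

namespace Groth.Agent.S13907

open Groth.Agent.Helper6.ProjDim MvPolynomial

/-- the linear section by `x_1, …, x_i` -/
def S {k : Type u} [Field k] (n : ℕ) (C : Set (ProjectiveSpectrum (CohB1.polyGrading n k))) (i : ℕ) :
    Set (ProjectiveSpectrum (CohB1.polyGrading n k)) :=
  C ∩ ProjectiveSpectrum.zeroLocus (CohB1.polyGrading n k)
    ((fun j : Fin (n + 1) => (MvPolynomial.X j : MvPolynomial (Fin (n + 1)) k)) ''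
      {j : Fin (n + 1) | 1 ≤ j.val ∧ j.val ≤ i})

theorem mem_S {k : Type u} [Field k] (n : ℕ) (C : Set (ProjectiveSpectrum (CohB1.polyGrading n k)))
    (i : ℕ) (y : PS k n) : y ∈ S n C i ↔ y ∈ C ∧ ∀ j : Fin (n + 1), 1 ≤ j.val → j.val ≤ i →
      (X j : MvPolynomial (Fin (n + 1)) k) ∈ y.asHomogeneousIdeal.toIdeal := by
  unfold S
  rw [Set.mem_inter_iff, ProjectiveSpectrum.mem_zeroLocus]
  constructor
  · rintro ⟨h1, h2⟩
    exact ⟨h1, fun j hj1 hj2 => h2 ⟨j, ⟨hj1, hj2⟩, rfl⟩⟩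
  · rintro ⟨h1, h2⟩
    refine ⟨h1, ?_⟩
    rintro _ ⟨j, ⟨hj1, hj2⟩, rfl⟩
    exact h2 j hj1 hj2

theorem isClosed_S {k : Type u} [Field k] (n : ℕ)
    (C : Set (ProjectiveSpectrum (CohB1.polyGrading n k))) (hC : IsClosed C) (i : ℕ) :
    IsClosed (S n C i) :=
  hC.inter (ProjectiveSpectrum.isClosed_zeroLocus _ _)

theorem result (k : Type u) [Field k]
    [IsAlgClosed k] (n : ℕ) (C : Set (ProjectiveSpectrum (CohB1.polyGrading n k)))
    (hC : IsClosed C) (hirr : IsIrreducible C) :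
    ∃ i : ℕ, i ≤ n ∧
      (C ∩ ProjectiveSpectrum.zeroLocus (CohB1.polyGrading n k)
          ((fun j : Fin (n + 1) => (MvPolynomial.X j : MvPolynomial (Fin (n + 1)) k)) ''
            {j : Fin (n + 1) | 1 ≤ j.val ∧ j.val ≤ i})).Nonempty ∧
      topologicalKrullDim ↥(C ∩ ProjectiveSpectrum.zeroLocus (CohB1.polyGrading n k)
          ((fun j : Fin (n + 1) => (MvPolynomial.X j : MvPolynomial (Fin (n + 1)) k)) ''
            {j : Fin (n + 1) | 1 ≤ j.val ∧ j.val ≤ i})) = 0 := by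
  classical
  change ∃ i : ℕ, i ≤ n ∧ (S n C i).Nonempty ∧ topologicalKrullDim ↥(S n C i) = 0
  -- (A) the last section has dimension at most zero
  have hA : topologicalKrullDim ↥(S n C n) ≤ 0 := by
    rw [dim_closed _ _ (isClosed_S n C hC n)]
    by_contra hcon
    rw [not_le, Order.krullDim_pos_iff] at hcon
    obtain ⟨y₀, y₁, hlt⟩ := hcon
    have h2 := two_le_dim_of_lt (show y₀.1 < y₁.1 from hlt)
    have h1 := dim_le_one_of_X_mem y₀.1.asHomogeneousIdeal.toIdeal (point_isHomogeneous y₀.1) 0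
      (fun j hj => ((mem_S n C n y₀.1).1 y₀.2).2 j (by
        have : j.val ≠ 0 := fun h => hj (Fin.ext h)
        omega) (by omega))
    have h3 : (2 : WithBot ℕ∞) ≤ 1 := h2.trans h1
    have h4 : (2 : ℕ) ≤ 1 := by exact_mod_cast h3
    omega
  have hex : ∃ i, topologicalKrullDim ↥(S n C i) ≤ 0 := ⟨n, hA⟩
  have hi₀le : Nat.find hex ≤ n := Nat.find_min' hex hA
  have hi₀ : topologicalKrullDim ↥(S n C (Nat.find hex)) ≤ 0 := Nat.find_spec hex
  have hne : (S n C (Nat.find hex)).Nonempty := by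
    rcases Nat.eq_zero_or_eq_succ_pred (Nat.find hex) with h0 | hsucc
    · rw [h0]
      obtain ⟨y, hy⟩ := hirr.nonempty
      exact ⟨y, (mem_S n C 0 y).2 ⟨hy, fun j h1 h2 => by omega⟩⟩
    · set j := (Nat.find hex).pred with hj
      have hjlt : j < Nat.find hex := by omega
      have hnot := Nat.find_min hex hjlt
      rw [dim_closed _ _ (isClosed_S n C hC j), not_le, Order.krullDim_pos_iff] at hnot
      obtain ⟨y₀, y₁, hlt⟩ := hnot
      have h2 := two_le_dim_of_lt (show y₀.1 < y₁.1 from hlt)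
      have hjn : j + 1 < n + 1 := by omega
      obtain ⟨y, hy1, hy2⟩ := exists_point_sup_span y₀.1.asHomogeneousIdeal.toIdeal
        (point_isHomogeneous y₀.1) h2 (X (⟨j + 1, hjn⟩ : Fin (n + 1))) 1 le_rfl
        (isHomogeneous_X k _)
      have hy₀ := (mem_S n C j y₀.1).1 y₀.2
      rw [hsucc]
      refine ⟨y, (mem_S n C _ y).2 ⟨?_, ?_⟩⟩
      · apply zeroLocus_point_subset_of_mem _ hC hy₀.1
        rw [mem_zeroLocus_point]
        exact hy1
      · intro l hl1 hl2
        by_cases hl : l.val ≤ j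
        · exact hy1 (hy₀.2 l hl1 hl)
        · have : l = ⟨j + 1, hjn⟩ := Fin.ext (by simp only; omega)
          rw [this]
          exact hy2
  refine ⟨Nat.find hex, hi₀le, hne, le_antisymm hi₀ ?_⟩
  rw [dim_closed _ _ (isClosed_S n C hC _)]
  obtain ⟨y, hy⟩ := hne
  haveI : Nonempty {x : PS k n // x ∈ S n C (Nat.find hex)} := ⟨⟨y, hy⟩⟩
  exact Order.krullDim_nonneg

end Groth.Agent.S13907
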