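import Groth.Statements.S13913
import Mathlib.Tactic
import Mathlib.RingTheory.MvPolynomial.EulerIdentity

set_option autoImplicit false
universe u
open PlaneCubic

namespace Groth.Agent.S13913

open MvPolynomial in
theorem pderiv_eq_C_of_linear {k : Type u} [Field k] (z : MvPolynomial (Fin 3) k) (hz : z.IsHomogeneous 1)
    (p : Fin 3 → k) (i : Fin 3) : pderiv i z = C (eval p (pderiv i z)) := by
  have h0 : (pderiv i z).IsHomogeneous 0 := hz.pderiv
  rw [← totalDegree_zero_iff_isHomogeneous, totalDegree_eq_zero_iff_eq_C] at h0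
  rw [h0, eval_C]

open MvPolynomial in
theorem linear_eq_sum {k : Type u} [Field k] (z : MvPolynomial (Fin 3) k) (hz : z.IsHomogeneous 1)
    (p : Fin 3 → k) : z = ∑ i : Fin 3, X i * C (eval p (pderiv i z)) := by
  have h := hz.sum_X_mul_pderiv
  rw [one_smul] at h
  refine h.symm.trans ?_
  refine Finset.sum_congr rfl fun i _ => ?_
  rw [← pderiv_eq_C_of_linear z hz p i]


/-- Over an algebraically closed field of characteristic zero, for linearly independent linear forms z₁,
z₂ and quadratic forms q₁, q₂ in three variables and a nonzero common zero p of z₁ and z₂, the point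
p is a singular point of the plane cubic z₁q₂ − z₂q₁ = 0 (all three partial derivatives vanish at p)
if and only if q₁ and q₂ both vanish at p. -/
theorem result (k : Type u) [Field k] [IsAlgClosed k] [CharZero k]
    (z₁ z₂ q₁ q₂ : MvPolynomial (Fin 3) k) (hz₁ : z₁.IsHomogeneous 1) (hz₂ : z₂.IsHomogeneous 1)
    (hq₁ : q₁.IsHomogeneous 2) (hq₂ : q₂.IsHomogeneous 2) (hind : LinearIndependent k ![z₁, z₂])
    (p : Fin 3 → k) (hp : p ≠ 0) (hp₁ : MvPolynomial.eval p z₁ = 0) (hp₂ : MvPolynomial.eval p z₂ = 0) :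
    (∀ i : Fin 3, MvPolynomial.eval p (MvPolynomial.pderiv i (z₁ * q₂ - z₂ * q₁)) = 0) ↔
      (MvPolynomial.eval p q₁ = 0 ∧ MvPolynomial.eval p q₂ = 0) := by
  have hd : ∀ i : Fin 3, MvPolynomial.eval p (MvPolynomial.pderiv i (z₁ * q₂ - z₂ * q₁)) =
      MvPolynomial.eval p (MvPolynomial.pderiv i z₁) * MvPolynomial.eval p q₂ -
        MvPolynomial.eval p (MvPolynomial.pderiv i z₂) * MvPolynomial.eval p q₁ := by
    intro i
    rw [map_sub, Derivation.leibniz, Derivation.leibniz]
    simp only [map_sub, map_add, smul_eq_mul, map_mul, hp₁, hp₂]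
    ring
  constructor
  · intro h
    have hlin : MvPolynomial.eval p q₂ • z₁ + (-MvPolynomial.eval p q₁) • z₂ = 0 := by
      rw [linear_eq_sum z₁ hz₁ p, linear_eq_sum z₂ hz₂ p, Finset.smul_sum, Finset.smul_sum,
        ← Finset.sum_add_distrib]
      apply Finset.sum_eq_zero
      intro i _
      have hi := h i
      rw [hd i] at hi
      rw [MvPolynomial.smul_eq_C_mul, MvPolynomial.smul_eq_C_mul]
      have : MvPolynomial.C (MvPolynomial.eval p q₂) * (MvPolynomial.X i * MvPolynomial.C (MvPolynomial.eval p (MvPolynomial.pderiv i z₁))) +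
          MvPolynomial.C (-MvPolynomial.eval p q₁) * (MvPolynomial.X i * MvPolynomial.C (MvPolynomial.eval p (MvPolynomial.pderiv i z₂))) =
          MvPolynomial.X i * MvPolynomial.C (MvPolynomial.eval p (MvPolynomial.pderiv i z₁) * MvPolynomial.eval p q₂ -
            MvPolynomial.eval p (MvPolynomial.pderiv i z₂) * MvPolynomial.eval p q₁) := by
        simp only [map_sub, map_mul, map_neg]
        ring
      rw [this, hi, map_zero, mul_zero]
    have := (LinearIndependent.pair_iff.1 hind) _ _ hlin
    exact ⟨neg_eq_zero.1 this.2, this.1⟩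
  · rintro ⟨h1, h2⟩ i
    rw [hd i, h1, h2, mul_zero, mul_zero, sub_zero]

end Groth.Agent.S13913
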