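import Groth.Statements.S13916
import Mathlib

set_option autoImplicit false
universe u
open PlaneConic

namespace Groth.Agent.S13916

/-- Over an algebraically closed field k of characteristic zero, with u_0, u_1, u_2 the coordinate
linear forms of k[X_0, X_1, X_2] and 2 × 2 matrices of linear forms compared up to M ↦ g M h with g,
h invertible scalar matrices: (1) the matrices with rows (u_1, 0), (u_0, u_2) and (u_2, 0), (u_0,
u_1) are not equivalent; (2) for α ≠ 0 the matrix with rows (u_1, 0), (αu_0 + βu_1 + γu_2, u_2) is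
equivalent to the one with rows (u_1, 0), (u_0, u_2). -/
theorem result (k : Type u) [Field k] [IsAlgClosed k] [CharZero k] :
    (¬ ∃ g h : GL (Fin 2) k,
      (MvPolynomial.C : k →+* MvPolynomial (Fin 3) k).mapMatrix g.val *
          !![MvPolynomial.X 1, 0; MvPolynomial.X 0, MvPolynomial.X 2] *
        (MvPolynomial.C : k →+* MvPolynomial (Fin 3) k).mapMatrix h.val =
      !![MvPolynomial.X 2, 0; MvPolynomial.X 0, MvPolynomial.X 1]) ∧
    (∀ α β γ : k, α ≠ 0 → ∃ g h : GL (Fin 2) k,
      (MvPolynomial.C : k →+* MvPolynomial (Fin 3) k).mapMatrix g.val *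
          !![MvPolynomial.X 1, 0;
             MvPolynomial.C α * MvPolynomial.X 0 + MvPolynomial.C β * MvPolynomial.X 1 + MvPolynomial.C γ * MvPolynomial.X 2,
             MvPolynomial.X 2] *
        (MvPolynomial.C : k →+* MvPolynomial (Fin 3) k).mapMatrix h.val =
      !![MvPolynomial.X 1, 0; MvPolynomial.X 0, MvPolynomial.X 2]) := by
  constructor
  · rintro ⟨g, h, E⟩
    have key : ∀ x : Fin 3 → k, g.val * !![x 1, 0; x 0, x 2] * h.val = !![x 2, 0; x 0, x 1] := by
      intro x
      have := congrArg (MvPolynomial.eval x).mapMatrix E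
      rw [map_mul, map_mul] at this
      have e1 : ∀ m : Matrix (Fin 2) (Fin 2) k, (MvPolynomial.eval x).mapMatrix
          ((MvPolynomial.C : k →+* MvPolynomial (Fin 3) k).mapMatrix m) = m := by
        intro m; ext i j; simp [RingHom.mapMatrix_apply]
      rw [e1, e1] at this
      have e2 : (MvPolynomial.eval x).mapMatrix
          !![(MvPolynomial.X 1 : MvPolynomial (Fin 3) k), 0; MvPolynomial.X 0, MvPolynomial.X 2] =
          !![x 1, 0; x 0, x 2] := by
        ext i j; fin_cases i <;> fin_cases j <;> simp [RingHom.mapMatrix_apply]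
      have e3 : (MvPolynomial.eval x).mapMatrix
          !![(MvPolynomial.X 2 : MvPolynomial (Fin 3) k), 0; MvPolynomial.X 0, MvPolynomial.X 1] =
          !![x 2, 0; x 0, x 1] := by
        ext i j; fin_cases i <;> fin_cases j <;> simp [RingHom.mapMatrix_apply]
      rw [e2, e3] at this
      exact this
    have k1 := congrFun (congrFun (key ![0, 1, 0]) 1) 1
    have k2 := congrFun (congrFun (key ![0, 0, 1]) 0) 0
    have k0 := congrFun (congrFun (key ![1, 0, 0]) 0) 1
    simp [Matrix.mul_apply, Fin.sum_univ_two] at k1 k2 k0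
    rcases k0 with h0 | h0
    · rw [h0] at k2; simp at k2
    · rw [h0] at k1; simp at k1
  · intro α β γ hα
    have hdet1 : (!![1, 0; -β * α⁻¹, α⁻¹] : Matrix (Fin 2) (Fin 2) k).det ≠ 0 := by
      simp [Matrix.det_fin_two, hα]
    have hdet2 : (!![1, 0; -γ, α] : Matrix (Fin 2) (Fin 2) k).det ≠ 0 := by
      simp [Matrix.det_fin_two, hα]
    refine ⟨Matrix.GeneralLinearGroup.mkOfDetNeZero _ hdet1,
      Matrix.GeneralLinearGroup.mkOfDetNeZero _ hdet2, ?_⟩
    have hC : (MvPolynomial.C α⁻¹ : MvPolynomial (Fin 3) k) * MvPolynomial.C α = 1 := by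
      rw [← map_mul, inv_mul_cancel₀ hα, map_one]
    refine Matrix.ext fun i j => ?_
    fin_cases i <;> fin_cases j <;>
      simp [Matrix.mul_apply, Fin.sum_univ_two, Matrix.GeneralLinearGroup.mkOfDetNeZero,
        RingHom.mapMatrix_apply]
    · linear_combination (MvPolynomial.X 0 : MvPolynomial (Fin 3) k) * hC
    · linear_combination (MvPolynomial.X 2 : MvPolynomial (Fin 3) k) * hC

end Groth.Agent.S13916
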