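import Groth.Statements.S13925

set_option autoImplicit false
universe u v w x
open W4c1limliniiii

namespace Groth.Agent.S13925

theorem result (k : Type u) [Field k]
    (U : Type v) (E : Type w) (W : Type x) [AddCommGroup U] [Module k U] [AddCommGroup E]
    [Module k E] [AddCommGroup W] [Module k W]
    (f : U →ₗ[k] E) (g' : E →ₗ[k] U) (f₂ : E →ₗ[k] W) (g : W →ₗ[k] E)
    (hgf : g'.comp f = 0) (hII : LinearMap.ker f₂ ≤ LinearMap.range g)
    (hIII : LinearMap.range g ⊓ LinearMap.ker g' = ⊥)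
    (V₁ : Submodule k U) (V₂ : Submodule k E) (C' : Submodule k E) (hC : C' ≤ V₂)
    (hCg : C' ≤ LinearMap.ker g') (hCf : Submodule.map f V₁ ⊓ C' = ⊥) :
    iSupIndep ![Submodule.map f V₁, LinearMap.ker f₂ ⊓ V₂, C'] := by
  have hP : Submodule.map f V₁ ≤ LinearMap.ker g' := by
    rintro _ ⟨u, _, rfl⟩
    show g' (f u) = 0
    exact LinearMap.congr_fun hgf u
  have hQ : LinearMap.ker f₂ ⊓ V₂ ≤ LinearMap.range g := inf_le_left.trans hII
  have hz : ∀ y : E, y ∈ LinearMap.range g → y ∈ LinearMap.ker g' → y = 0 := by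
    intro y h1 h2
    have : y ∈ LinearMap.range g ⊓ LinearMap.ker g' := ⟨h1, h2⟩
    rwa [hIII, Submodule.mem_bot] at this
  have hz' : ∀ y : E, y ∈ Submodule.map f V₁ → y ∈ C' → y = 0 := by
    intro y h1 h2
    have : y ∈ Submodule.map f V₁ ⊓ C' := ⟨h1, h2⟩
    rwa [hCf, Submodule.mem_bot] at this
  rw [iSupIndep_fin_three]
  simp only [Matrix.cons_val_zero, Matrix.cons_val_one, Matrix.cons_val]
  refine ⟨?_, ?_, ?_⟩
  · rw [Submodule.disjoint_def]
    intro x hx hx'
    obtain ⟨q, hq, r, hr, rfl⟩ := Submodule.mem_sup.mp hx'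
    have hq0 : q = 0 := by
      apply hz q (hQ hq)
      have : q = (q + r) - r := (add_sub_cancel_right q r).symm
      rw [this]
      exact Submodule.sub_mem _ (hP hx) (hCg hr)
    subst hq0
    rw [zero_add] at hx ⊢
    exact hz' r hx hr
  · rw [Submodule.disjoint_def]
    intro x hx hx'
    obtain ⟨r, hr, p, hp, rfl⟩ := Submodule.mem_sup.mp hx'
    exact hz _ (hQ hx) (Submodule.add_mem _ (hCg hr) (hP hp))
  · rw [Submodule.disjoint_def]
    intro x hx hx'
    obtain ⟨p, hp, q, hq, rfl⟩ := Submodule.mem_sup.mp hx'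
    have hq0 : q = 0 := by
      apply hz q (hQ hq)
      have : q = (p + q) - p := (add_sub_cancel_left p q).symm
      rw [this]
      exact Submodule.sub_mem _ (hCg hx) (hP hp)
    subst hq0
    rw [add_zero] at hx ⊢
    exact hz' p hp hx

end Groth.Agent.S13925
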