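import Groth.Statements.S13926
import Mathlib.LinearAlgebra.FiniteDimensional.Lemmas
import Mathlib.LinearAlgebra.Dimension.RankNullity
import Mathlib.Tactic

set_option autoImplicit false
universe u v w
open W4c1limliniiii

namespace Groth.Agent.S13926

open Module in
theorem exists_between {K : Type*} {V : Type*} [Field K] [AddCommGroup V] [Module K V]
    [FiniteDimensional K V] (d : ℕ) :
    ∀ (k : ℕ) (A B : Submodule K V), A ≤ B → finrank K A + k = d → d ≤ finrank K B →
      ∃ C : Submodule K V, A ≤ C ∧ C ≤ B ∧ finrank K C = d := by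
  intro k
  induction k with
  | zero =>
    intro A B hAB h1 _
    exact ⟨A, le_rfl, hAB, by simpa using h1⟩
  | succ k ih =>
    intro A B hAB h1 h2
    have hlt : A < B := by
      refine lt_of_le_of_ne hAB ?_
      rintro rfl
      omega
    obtain ⟨x, hxB, hxA⟩ := SetLike.exists_of_lt hlt
    have hA' : A ⊔ Submodule.span K {x} ≤ B :=
      sup_le hAB ((Submodule.span_singleton_le_iff_mem x B).mpr hxB)
    have hfin : finrank K (A ⊔ Submodule.span K {x} : Submodule K V) = finrank K A + 1 :=
      Submodule.finrank_sup_span_singleton hxA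
    obtain ⟨C, hC1, hC2, hC3⟩ := ih (A ⊔ Submodule.span K {x}) B hA' (by rw [hfin]; omega) h2
    exact ⟨C, le_sup_left.trans hC1, hC2, hC3⟩

open Module in
theorem result (k : Type u) [Field k]
    (E₁ : Type v) (E₂ : Type w) [AddCommGroup E₁] [Module k E₁] [FiniteDimensional k E₁]
    [AddCommGroup E₂] [Module k E₂] [FiniteDimensional k E₂]
    (hdim : Module.finrank k E₁ = Module.finrank k E₂)
    (f : E₁ →ₗ[k] E₂) (g : E₂ →ₗ[k] E₁) (s : k) (hgf : g.comp f = s • LinearMap.id)
    (V₁ : Submodule k E₁) :
    ∃ V₂ : Submodule k E₂, Module.finrank k V₂ = Module.finrank k V₁ ∧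
      Submodule.map f V₁ ≤ V₂ ∧ Submodule.map g V₂ ≤ V₁ := by
  have hAB : Submodule.map f V₁ ≤ Submodule.comap g V₁ := by
    rintro _ ⟨v, hv, rfl⟩
    show g (f v) ∈ V₁
    have : g (f v) = s • v := by
      have := LinearMap.congr_fun hgf v
      simpa using this
    rw [this]
    exact V₁.smul_mem s hv
  have hA : finrank k (Submodule.map f V₁) ≤ finrank k V₁ := Submodule.finrank_map_le f V₁
  have hB : finrank k V₁ ≤ finrank k (Submodule.comap g V₁) := by
    have hker : Submodule.comap g V₁ = LinearMap.ker (V₁.mkQ.comp g) := by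
      rw [LinearMap.ker_comp, Submodule.ker_mkQ]
    rw [hker]
    have h1 := LinearMap.finrank_range_add_finrank_ker (V₁.mkQ.comp g)
    have h2 := Submodule.finrank_quotient_add_finrank V₁
    have h3 : finrank k (LinearMap.range (V₁.mkQ.comp g)) ≤ finrank k (E₁ ⧸ V₁) :=
      Submodule.finrank_le _
    omega
  obtain ⟨C, hC1, hC2, hC3⟩ := exists_between (finrank k V₁) (finrank k V₁ - finrank k (Submodule.map f V₁))
    (Submodule.map f V₁) (Submodule.comap g V₁) hAB (by omega) hB
  exact ⟨C, hC3, hC1, (Submodule.map_mono hC2).trans (Submodule.map_comap_le g V₁)⟩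

end Groth.Agent.S13926
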