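import Groth.Statements.S13927
import Groth.Agent.Helper1.GR40

set_option autoImplicit false
universe u
open W4c1limliniiii

namespace Groth.Agent.S13927

open AlgebraicGeometry CategoryTheory in
/-- Let R be a commutative ring, d, r and n natural numbers, and for each i < n let f_i and g_i be
R-linear maps forward and backward between the i-th and (i+1)-st of n + 1 copies of the free module
R^d. The linked Grassmannian functor sends an R-algebra A to the set of tuples of submodules V_0, …,
V_n of A^d whose quotients are locally free of rank d − r (sub-bundles of rank r) such that the base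
change of f_i carries V_i into V_{i+1} and that of g_i carries V_{i+1} into V_i. Then this functor
is representable by a scheme X over Spec R — there are bijections, one for each R-algebra A, between
Spec R-morphisms Spec A → X and the A-valued points, compatible with base change along R-algebra
maps on every Grassmannian component — and X is proper over Spec R. (The published statement is over
an arbitrary base scheme with vector bundles of rank d and gives X as a closed subscheme of the
product of the Grassmannians, projective over the base; this row takes the base affine and the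
bundles trivial, and records properness.) -/
theorem result (R : Type u) [CommRing R]
    (d r n : ℕ) (f g : Fin n → ((Fin d → R) →ₗ[R] (Fin d → R))) :
    ∃ (X : Over (Spec (CommRingCat.of R)))
      (e : ∀ A : CommAlgCat.{u} R,
        (Over.mk (Spec.map (CommRingCat.ofHom (algebraMap R A))) ⟶ X) ≃
          W4c1limliniiii.LGPoints R d r n f g A),
      (∀ (A B : CommAlgCat.{u} R) (φ : A ⟶ B)
        (x : Over.mk (Spec.map (CommRingCat.ofHom (algebraMap R A))) ⟶ X)
        (x' : Over.mk (Spec.map (CommRingCat.ofHom (algebraMap R B))) ⟶ X),
        x'.left = Spec.map (CommRingCat.ofHom φ.hom.toRingHom) ≫ x.left →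
          ∀ i, (e B x').1 i = Module.Grassmannian.map φ.hom ((e A x).1 i)) ∧
      IsProper X.hom := by
  obtain ⟨D⟩ := Helper1.GR.nonempty_prodData (R := R) (d - r) d (Nat.sub_le d r) n
  -- base change of linear maps is natural
  have hbc : ∀ (h : (Fin d → R) →ₗ[R] (Fin d → R)) (A B : CommAlgCat.{u} R) (φ : A ⟶ B)
      (t : TensorProduct R A (Fin d → R)),
      (h.baseChange B) (LinearMap.rTensor _ φ.hom.toLinearMap t) =
        LinearMap.rTensor _ φ.hom.toLinearMap (h.baseChange A t) := by
    intro h A B φ t
    induction t using TensorProduct.induction_on with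
    | zero => simp
    | tmul a m => rfl
    | add x y hx hy => rw [map_add, map_add, hx, hy, map_add, map_add]
  let 𝒦₁ : Helper1.GR.PtCond D.P := Helper1.GR.PtCond.ofMap (S := Fin n)
    (fun i => D.γ i.castSucc) (fun i => D.γ i.succ) (fun i A => (f i).baseChange A)
    (fun i A B φ t => hbc (f i) A B φ t)
  let 𝒦₂ : Helper1.GR.PtCond D.P := Helper1.GR.PtCond.ofMap (S := Fin n)
    (fun i => D.γ i.succ) (fun i => D.γ i.castSucc) (fun i A => (g i).baseChange A)
    (fun i A B φ t => hbc (g i) A B φ t)
  let 𝒦 := 𝒦₁.inf 𝒦₂
  -- the equivalence with tuples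
  let eP : ∀ A : CommAlgCat.{u} R, (Helper1.GR.ptO A ⟶ D.P) ≃
      (Fin (n + 1) → Module.Grassmannian A (TensorProduct R A (Fin d → R)) (d - r)) :=
    fun A => Equiv.ofBijective _ (D.bij A)
  have heP : ∀ (A : CommAlgCat.{u} R)
      (V : Fin (n + 1) → Module.Grassmannian A (TensorProduct R A (Fin d → R)) (d - r)) (i : Fin (n + 1)),
      (D.γ i).u A ((eP A).symm V) = V i :=
    fun A V i => congrFun ((eP A).apply_symm_apply V) i
  obtain ⟨Z, c, e', hc, he'⟩ := 𝒦.exists_sub
    (F' := fun A => ↥(W4c1limliniiii.LGPoints R d r n f g A))
    (fun A V => (eP A).symm V.1)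
    (fun A V V' h => Subtype.ext ((eP A).symm.injective h))
    (fun A x => by
      constructor
      · intro hx
        exact ⟨⟨eP A x, fun i => ⟨hx.1 i, hx.2 i⟩⟩, (eP A).symm_apply_apply x⟩
      · rintro ⟨V, rfl⟩
        have hV := V.2
        refine ⟨fun i => ?_, fun i => ?_⟩
        · change Submodule.map _ ((D.γ i.castSucc).u A _).toSubmodule ≤
            ((D.γ i.succ).u A _).toSubmodule
          rw [heP, heP]
          exact (hV i).1
        · change Submodule.map _ ((D.γ i.succ).u A _).toSubmodule ≤
            ((D.γ i.castSucc).u A _).toSubmodule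
          rw [heP, heP]
          exact (hV i).2)
  refine ⟨Z, e', ?_, ?_⟩
  · intro A B φ x x' hx i
    have h1 : ∀ (A : CommAlgCat.{u} R) (z : Helper1.GR.ptO A ⟶ Z) (i : Fin (n + 1)),
        (e' A z).1 i = (D.γ i).u A (z ≫ c) := by
      intro A z i
      rw [he' A z]
      exact (heP A (e' A z).1 i).symm
    rw [h1, h1]
    apply (D.γ i).hu A B φ (x ≫ c) (x' ≫ c)
    change x'.left ≫ c.left = _ ≫ x.left ≫ c.left
    rw [hx, Category.assoc]
  · rw [← Over.w c]
    haveI := D.proper
    infer_instance

end Groth.Agent.S13927
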