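import Groth.Statements.S1394
import Groth.Agent.Helper4.DimOneA
import Groth.Agent.Helper4.DimOneD
import Mathlib

set_option autoImplicit false
universe u
open FlatMor

namespace Groth.Agent.S1394


/-- Let A → B be a local homomorphism of local rings with A Noetherian, B essentially of finite type
over A, and the residue field of B finite over that of A. Let V ⊆ Spec B be an open subset
containing some prime that does not lie over the maximal ideal of A. Then V contains a prime q, not
lying over the maximal ideal of A, such that B/q is quasi-finite over A in the sense that every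
fibre ring of A → B/q is finite over the corresponding residue field of A. (The published statement
is stronger: there B/q is moreover a localization of a quasi-finite A-algebra of finite type, which
implies this.) -/
theorem result {A B : Type u} [CommRing A] [CommRing B] [IsLocalRing A] [IsLocalRing B] [IsNoetherianRing A]
    [Algebra A B] [IsLocalHom (algebraMap A B)] [Algebra.EssFiniteType A B]
    [Module.Finite (IsLocalRing.ResidueField A) (IsLocalRing.ResidueField B)]
    (V : Set (PrimeSpectrum B)) (hV : IsOpen V) (hne : ∃ q ∈ V, q.asIdeal.comap (algebraMap A B) ≠ IsLocalRing.maximalIdeal A) :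
    ∃ q ∈ V, q.asIdeal.comap (algebraMap A B) ≠ IsLocalRing.maximalIdeal A ∧ Algebra.QuasiFinite A (B ⧸ q.asIdeal) := by

  classical
  haveI : IsNoetherianRing B := Algebra.EssFiniteType.isNoetherianRing A B
  obtain ⟨q0, hq0V, hq0⟩ := hne
  obtain ⟨a0, ha0m, ha0q⟩ : ∃ a0 : A, a0 ∈ IsLocalRing.maximalIdeal A ∧
      algebraMap A B a0 ∉ q0.asIdeal := by
    by_contra hc
    push Not at hc
    apply hq0
    apply le_antisymm
    · exact IsLocalRing.le_maximalIdeal (Ideal.comap_isPrime _ _).ne_top
    · intro a ha
      exact hc a ha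
  obtain ⟨q, hqV, hqa, hqmax⟩ :=
    Groth.Agent.Helper4.DimOneA.exists_prime_coheight_one V hV (algebraMap A B a0) q0 hq0V ha0q
  refine ⟨q, hqV, ?_, ?_⟩
  · intro hc
    apply hqa
    have : a0 ∈ q.asIdeal.comap (algebraMap A B) := by rw [hc]; exact ha0m
    exact this
  · have hmk : Function.Surjective (Ideal.Quotient.mk q.asIdeal) := Ideal.Quotient.mk_surjective
    haveI : IsLocalRing (B ⧸ q.asIdeal) := IsLocalRing.of_surjective' (Ideal.Quotient.mk q.asIdeal) hmk
    haveI : IsLocalHom (Ideal.Quotient.mk q.asIdeal) := IsLocalHom.of_surjective _ hmk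
    haveI : Module.Finite A (IsLocalRing.ResidueField B) :=
      Module.Finite.trans (IsLocalRing.ResidueField A) (IsLocalRing.ResidueField B)
    have hqle : q.asIdeal ≤ IsLocalRing.maximalIdeal B := IsLocalRing.le_maximalIdeal q.2.ne_top
    set g : (B ⧸ q.asIdeal) →ₐ[A] IsLocalRing.ResidueField B :=
      Ideal.Quotient.liftₐ q.asIdeal (IsScalarTower.toAlgHom A B (IsLocalRing.ResidueField B))
        (fun b hb => by
          show IsLocalRing.residue B b = 0
          rw [IsLocalRing.residue_eq_zero_iff]; exact hqle hb) with hg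
    have hgmk : ∀ b : B, g (Ideal.Quotient.mk q.asIdeal b) = IsLocalRing.residue B b := fun b => by
      rw [hg]; exact Ideal.Quotient.liftₐ_apply _ _ _ _
    have hmem : ∀ b : B, Ideal.Quotient.mk q.asIdeal b ∈ IsLocalRing.maximalIdeal (B ⧸ q.asIdeal) ↔
        b ∈ IsLocalRing.maximalIdeal B := by
      intro b
      rw [IsLocalRing.mem_maximalIdeal, IsLocalRing.mem_maximalIdeal, mem_nonunits_iff,
        mem_nonunits_iff, isUnit_map_iff]
    refine Groth.Agent.Helper4.DimOneD.quasiFinite_of_dim_one g ?_ ?_ a0 ?_ ?_ ?_
    · intro t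
      obtain ⟨b, rfl⟩ := IsLocalRing.residue_surjective t
      exact ⟨Ideal.Quotient.mk q.asIdeal b, hgmk b⟩
    · intro d
      obtain ⟨b, rfl⟩ := hmk d
      rw [hgmk, IsLocalRing.residue_eq_zero_iff, hmem]
    · show Ideal.Quotient.mk q.asIdeal (algebraMap A B a0) ∈ _
      rw [hmem]
      exact _root_.map_nonunit (algebraMap A B) a0 ha0m
    · show Ideal.Quotient.mk q.asIdeal (algebraMap A B a0) ≠ 0
      rw [Ne, Ideal.Quotient.eq_zero_iff_mem]; exact hqa
    · intro P hP hPbot
      haveI := hP
      have hPc : (P.comap (Ideal.Quotient.mk q.asIdeal)).IsPrime := Ideal.comap_isPrime _ _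
      have hle : q.asIdeal ≤ P.comap (Ideal.Quotient.mk q.asIdeal) := by
        conv_lhs => rw [← Ideal.mk_ker (I := q.asIdeal)]
        exact Ideal.ker_le_comap _
      have hne' : q.asIdeal ≠ P.comap (Ideal.Quotient.mk q.asIdeal) := by
        intro he
        apply hPbot
        rw [← Ideal.map_comap_of_surjective _ hmk P, ← he, Ideal.map_quotient_self]
      have h1 := hqmax _ hPc (lt_of_le_of_ne hle hne')
      rw [← Ideal.map_comap_of_surjective _ hmk P, h1]
      exact IsLocalRing.map_maximalIdeal_of_surjective _ hmk

end Groth.Agent.S1394
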