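import Groth.Statements.S13951
import Groth.Agent.Lead.ConnFinGrp

set_option autoImplicit false
universe u
open TateLoc

namespace Groth.Agent.S13951

open CategoryTheory AlgebraicGeometry CategoryTheory.Limits in
/-- Let S be a reduced scheme and I a finite locally free commutative S-group scheme (finite, flat, of
finite presentation) whose fibres over all points of S are connected. Then the restriction of the
sheaf of points of I from the big fppf site of S to the small etale site of S is the zero sheaf. -/
theorem result (S : Scheme.{u}) [IsReduced S]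
    (I : Over S) [GrpObj I] [IsCommMonObj I] [IsFinite I.hom] [Flat I.hom] [LocallyOfFinitePresentation I.hom]
    (hconn : ∀ s : S, ConnectedSpace ↥(I.hom.fiber s)) :
    IsZero ((BigSite.resEt Scheme.fppfPrecoverage S).obj (CGrpSh.pts Scheme.fppfPrecoverage I)) := by
  rw [CategoryTheory.Limits.IsZero.iff_id_eq_zero]
  apply CategoryTheory.Sheaf.hom_ext
  apply CategoryTheory.NatTrans.ext
  funext U
  apply AddCommGrpCat.hom_ext
  apply AddMonoidHom.ext
  intro x
  have hU : AlgebraicGeometry.Etale (Opposite.unop U).hom := (Opposite.unop U).prop
  have key : ∀ σ τ : ((EtFppf.a S).obj (Opposite.unop U)) ⟶ I, σ = τ := fun σ τ =>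
    Groth.Agent.Lead.ConnFinGrp.hom_eq S I hconn _ hU σ τ
  have hx : ∀ y z : ((BigSite.resEt AlgebraicGeometry.Scheme.fppfPrecoverage S).obj (CGrpSh.pts AlgebraicGeometry.Scheme.fppfPrecoverage I)).val.obj U, y = z := by
    intro y z
    apply ULift.ext
    apply Additive.toMul.injective
    exact key _ _
  exact hx _ _

end Groth.Agent.S13951
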