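import Groth.Statements.S13953
import Mathlib

set_option autoImplicit false
universe u
open TateLoc

namespace Groth.Agent.S13953

/-- Let (R_i) be a family of local commutative rings and R = ∏ R_i. Any open cover of Spec R can be
refined by one coming from a finite partition of the index set: there is a map c from the index set
to a finite set such that, for each value m, the basic open subset of Spec R defined by the
idempotent which is 1 at the indices with c i = m and 0 elsewhere (this open is the spectrum of the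
product of the R_i over that class) is contained in some member of the cover. -/
theorem result {ι : Type u} (R : ι → Type u)
    [∀ i, CommRing (R i)] [∀ i, IsLocalRing (R i)] {J : Type u}
    (U : J → TopologicalSpace.Opens (PrimeSpectrum (∀ i, R i))) (hU : ⨆ j, U j = ⊤) :
    ∃ (n : ℕ) (c : ι → Fin n), ∀ m : Fin n, ∃ j : J,
      PrimeSpectrum.basicOpen (fun i => if c i = m then (1 : R i) else 0) ≤ U j := by
  classical
  have h1 : ∀ x : PrimeSpectrum (∀ i, R i), ∃ (j : J) (f : ∀ i, R i),
      x ∈ PrimeSpectrum.basicOpen f ∧ PrimeSpectrum.basicOpen f ≤ U j := by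
    intro x
    have hx : x ∈ (⨆ j, U j) := by rw [hU]; trivial
    rw [TopologicalSpace.Opens.mem_iSup] at hx
    obtain ⟨j, hj⟩ := hx
    obtain ⟨V, ⟨f, rfl⟩, hxV, hVU⟩ :=
      (TopologicalSpace.Opens.isBasis_iff_nbhd.1 PrimeSpectrum.isBasis_basic_opens) hj
    exact ⟨j, f, hxV, hVU⟩
  choose jj ff hmem hle using h1
  obtain ⟨t, ht⟩ := isCompact_univ.elim_finite_subcover
    (fun x => (PrimeSpectrum.basicOpen (ff x) : Set (PrimeSpectrum (∀ i, R i))))
    (fun x => (PrimeSpectrum.basicOpen (ff x)).2) (fun x _ => Set.mem_iUnion.2 ⟨x, hmem x⟩)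
  let e := t.equivFin
  let g : Fin t.card → (∀ i, R i) := fun l => ff (e.symm l)
  have hspan : Ideal.span (Set.range g) = ⊤ := by
    rw [← PrimeSpectrum.iSup_basicOpen_eq_top_iff]
    apply top_unique
    intro x _
    have hx := ht (Set.mem_univ x)
    simp only [Set.mem_iUnion] at hx
    obtain ⟨y, hy, hxy⟩ := hx
    rw [TopologicalSpace.Opens.mem_iSup]
    refine ⟨e ⟨y, hy⟩, ?_⟩
    show x ∈ PrimeSpectrum.basicOpen (ff (e.symm (e ⟨y, hy⟩)))
    rw [Equiv.symm_apply_apply]
    exact hxy
  have hunit : ∀ i : ι, ∃ l : Fin t.card, IsUnit (g l i) := by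
    intro i
    by_contra hcon
    have hcon' : ∀ l, g l i ∈ IsLocalRing.maximalIdeal (R i) := by
      intro l
      rw [IsLocalRing.mem_maximalIdeal, mem_nonunits_iff]
      exact fun h => hcon ⟨l, h⟩
    have hle' : Ideal.span (Set.range g) ≤
        (IsLocalRing.maximalIdeal (R i)).comap (Pi.evalRingHom R i) := by
      rw [Ideal.span_le]
      rintro _ ⟨l, rfl⟩
      exact hcon' l
    rw [hspan] at hle'
    have h1 : (1 : ∀ i, R i) ∈ (IsLocalRing.maximalIdeal (R i)).comap (Pi.evalRingHom R i) :=
      hle' Submodule.mem_top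
    rw [Ideal.mem_comap, map_one] at h1
    exact (Ideal.ne_top_iff_one _).1 (IsLocalRing.maximalIdeal.isMaximal (R i)).ne_top h1
  choose c hc using hunit
  refine ⟨t.card, c, fun m => ⟨jj (e.symm m), ?_⟩⟩
  refine le_trans ?_ (hle (e.symm m))
  have heq : (fun i => if c i = m then (1 : R i) else 0) =
      g m * (fun i => if h : c i = m then ((h ▸ hc i : IsUnit (g m i)).unit⁻¹ : (R i)ˣ).val else 0) := by
    ext i
    rw [Pi.mul_apply]
    by_cases h : c i = m
    · rw [if_pos h, dif_pos h]
      rw [IsUnit.mul_val_inv]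
    · rw [if_neg h, dif_neg h, mul_zero]
  rw [heq]
  exact PrimeSpectrum.basicOpen_mul_le_left _ _

end Groth.Agent.S13953
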