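import Groth.Statements.S13958
import Mathlib
import Groth.Agent.Helper6.ProCompl
import Groth.Agent.Helper6.FGSep

set_option autoImplicit false
universe u
open TateLoc

namespace Groth.Agent.S13958

open CategoryTheory in
/-- Let A' be a finitely generated abelian group (written multiplicatively, discrete) and A a subgroup.
If the image of x ∈ A' in the profinite completion of A' lies in the image of the profinite
completion of A under the map induced by the inclusion, then x ∈ A. (The published statement says
that the square formed by the two completion maps and the two inclusions is Cartesian; given the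
injectivity of the induced map on completions, which holds here, that amounts to this membership
criterion.) -/
theorem result (A' : Type u) [CommGroup A'] [Group.FG A']
    (A : Subgroup A') (x : A')
    (hx : ProfiniteGrp.ProfiniteCompletion.etaFn (GrpCat.of A') x ∈
      Set.range ⇑(ProfiniteGrp.profiniteCompletion.map (GrpCat.ofHom A.subtype)).hom) :
    x ∈ A := by
  by_contra hxA
  obtain ⟨N, hAN, hxN, hfin⟩ := Groth.Agent.Helper6.FGSep.exists_finiteIndex_avoiding A x hxA
  obtain ⟨y, hy⟩ := hx
  let N' : FiniteIndexNormalSubgroup A' := FiniteIndexNormalSubgroup.ofSubgroup N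
  have h1 := Groth.Agent.Helper6.ProCompl.hat_component A.subtype N' y
  have h2 : (Groth.Agent.Helper6.ProCompl.hat A.subtype y) =
      ProfiniteGrp.ProfiniteCompletion.etaFn (GrpCat.of A') x := hy
  rw [h2] at h1
  obtain ⟨a, ha⟩ := QuotientGroup.mk_surjective (y.val (N'.comap A.subtype))
  rw [← ha] at h1
  have h3 : (ProfiniteGrp.ProfiniteCompletion.etaFn (GrpCat.of A') x).val N' =
      (QuotientGroup.mk x : A' ⧸ N) := rfl
  rw [h3] at h1
  have h4 : (QuotientGroup.map (N'.comap A.subtype).toSubgroup N'.toSubgroup A.subtype
      (fun _ h => h)) (QuotientGroup.mk a) = (QuotientGroup.mk (a : A') : A' ⧸ N) := rfl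
  rw [h4] at h1
  have h5 : (QuotientGroup.mk (a : A') : A' ⧸ N) = 1 := by
    rw [QuotientGroup.eq_one_iff]
    exact hAN a.2
  rw [h5] at h1
  have h6 : (QuotientGroup.mk x : A' ⧸ N) = 1 := h1
  rw [QuotientGroup.eq_one_iff] at h6
  exact hxN h6

end Groth.Agent.S13958
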