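import Groth.Statements.S1396
import Mathlib
import Groth.Agent.Lead.QAff2

set_option autoImplicit false
universe u
open FlatMor

namespace Groth.Agent.S1396

open AlgebraicGeometry CategoryTheory Limits in
/-- (1) ⇔ (4): a morphism f : X → Y is ind-quasi-affine (the preimage of every affine open is a scheme
all of whose quasi-compact opens are quasi-affine) if and only if for every quasi-compact
quasi-separated open V of Y and every quasi-compact open U of the preimage of V, the induced
morphism U → V is quasi-affine (quasi-compact with quasi-affine preimages of affine opens). -/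
theorem result {X Y : Scheme.{u}} (f : X ⟶ Y) :
    MoreMor.IsIndQuasiAffineHom f ↔ ∀ (V : Y.Opens), IsCompact (V : Set ↑Y) → IsQuasiSeparated (V : Set ↑Y) →
      ∀ (U : X.Opens) (hUV : U ≤ f ⁻¹ᵁ V), IsCompact (U : Set ↑X) → MoreMor.IsQuasiAffineHom (f.resLE V U hUV) := by
  rw [Groth.Agent.Lead.QAff.isIndQuasiAffineHom_iff]
  constructor
  · intro h V hVc hVqs U hUV hU
    have : CompactSpace (U : Scheme.{u}) := isCompact_iff_compactSpace.mp hU
    have : QuasiSeparatedSpace (V : Scheme.{u}) :=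
      (isQuasiSeparated_iff_quasiSeparatedSpace _ V.2).mp hVqs
    have hqc : QuasiCompact (f.resLE V U hUV) := inferInstance
    refine ⟨hqc, fun W hW => ?_⟩
    set φ := f.resLE V U hUV with hφ
    have hWc : IsCompact ((φ ⁻¹ᵁ W : (U : Scheme.{u}).Opens) : Set (U : Scheme.{u})) :=
      hqc.isCompact_preimage _ W.2 hW.isCompact
    have hc : IsCompact ((U.ι ''ᵁ (φ ⁻¹ᵁ W) : X.Opens) : Set X) := by
      have h1 : ((U.ι ''ᵁ (φ ⁻¹ᵁ W) : X.Opens) : Set X) = U.ι '' ((φ ⁻¹ᵁ W : (U : Scheme.{u}).Opens) : Set _) := rfl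
      rw [h1]
      exact hWc.image U.ι.continuous
    have hle : U.ι ''ᵁ (φ ⁻¹ᵁ W) ≤ f ⁻¹ᵁ (V.ι ''ᵁ W) := by
      rintro _ ⟨y, hy, rfl⟩
      refine ⟨φ y, hy, ?_⟩
      have h2 : (φ ≫ V.ι) y = (U.ι ≫ f) y := by rw [hφ, Scheme.Hom.resLE_comp_ι]
      simpa using h2
    have := h (V.ι ''ᵁ W) (hW.image_of_isOpenImmersion V.ι) _ hle hc
    exact Groth.Agent.Lead.QAff.isQuasiAffine_of_iso (U.ι.isoImage _)
  · intro h V hV U hUV hU
    have hq := (h V hV.isCompact hV.isQuasiSeparated U hUV hU).2 ⊤ (by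
      have : IsAffine (V : Scheme.{u}) := hV
      exact isAffineOpen_top _)
    rw [Scheme.Hom.preimage_top] at hq
    exact Groth.Agent.Lead.QAff.isQuasiAffine_of_iso (U : Scheme.{u}).topIso.symm

end Groth.Agent.S1396
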