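import Groth.Statements.S13963
import Mathlib

set_option autoImplicit false
universe u
open TateLoc

namespace Groth.Agent.S13963

/-- Let A' → A → A'' be continuous homomorphisms of locally compact, second-countable, Hausdorff abelian
topological groups which form a short exact sequence of abstract groups (the first injective, the
second surjective, image equal to kernel). If A' and A'' are compact, then A is compact. -/
theorem result (A' A A'' : Type u)
    [AddCommGroup A'] [TopologicalSpace A'] [IsTopologicalAddGroup A'] [SecondCountableTopology A'] [T2Space A']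
    [CompactSpace A']
    [AddCommGroup A] [TopologicalSpace A] [IsTopologicalAddGroup A] [LocallyCompactSpace A]
    [SecondCountableTopology A] [T2Space A]
    [AddCommGroup A''] [TopologicalSpace A''] [IsTopologicalAddGroup A''] [SecondCountableTopology A''] [T2Space A'']
    [CompactSpace A'']
    (f : A' →+ A) (g : A →+ A'') (hf : Continuous f) (hg : Continuous g)
    (hinj : Function.Injective f) (hsurj : Function.Surjective g) (hex : g.ker = f.range) :
    CompactSpace A := by
  open scoped Pointwise in
  have hopen : IsOpenMap g := AddMonoidHom.isOpenMap_of_sigmaCompact g hsurj hg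
  obtain ⟨V, hVc, hV0⟩ := exists_compact_mem_nhds (0 : A)
  have hK : IsCompact (Set.range f) := isCompact_range hf
  have hcover : ∀ a : A, IsOpen (g '' ((fun v => a + v) '' interior V)) :=
    fun a => hopen _ ((isOpenMap_add_left a) _ isOpen_interior)
  obtain ⟨t, ht⟩ := isCompact_univ.elim_finite_subcover
    (fun a : A => g '' ((fun v => a + v) '' interior V)) hcover (by
      intro y _
      obtain ⟨a, rfl⟩ := hsurj y
      exact Set.mem_iUnion.2 ⟨a, ⟨a + 0, ⟨0, mem_interior_iff_mem_nhds.2 hV0, rfl⟩, by simp⟩⟩)
  rw [← isCompact_univ_iff]
  have hsub : (Set.univ : Set A) ⊆ ⋃ a ∈ t, (fun w => a + w) '' (V + Set.range f) := by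
    intro x _
    have := ht (Set.mem_univ (g x))
    simp only [Set.mem_iUnion] at this
    obtain ⟨a, hat, y, ⟨v, hv, rfl⟩, hy⟩ := this
    have hker : x - (a + v) ∈ g.ker := by
      rw [AddMonoidHom.mem_ker, map_sub, hy, sub_self]
    rw [hex] at hker
    obtain ⟨z, hz⟩ := hker
    simp only [Set.mem_iUnion]
    refine ⟨a, hat, v + f z, Set.add_mem_add (interior_subset hv) ⟨z, rfl⟩, ?_⟩
    show a + (v + f z) = x
    rw [hz]; abel
  exact IsCompact.of_isClosed_subset
    (t.isCompact_biUnion fun a _ => (hVc.add hK).image (continuous_const.add continuous_id))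
    isClosed_univ hsub

end Groth.Agent.S13963
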