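import Groth.Statements.S13981
import Groth.Agent.Helper6.ArtFunFormal
import Groth.Agent.Helper6.ArtFunTorsor

set_option autoImplicit false
universe u v
open CategoryTheory
open ArtFun

namespace Groth.Agent.S13981

open Groth.Agent.Helper6

/-- Let F be a functor on Artinian local Λ-algebras with residue field k (Λ Noetherian, Λ → k finite and
surjective) satisfying (RS) — the comparison map for A₁ ×_A A₂ is bijective whenever A₂ → A is
surjective — and let ξ be a versal family of F over a complete local Noetherian Λ-algebra R with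
residue field k. Then the lifting property defining versality also holds along surjections of
complete local Noetherian algebras: if g : A' → A is such a surjection, η' is a formal element of F
over A' (a compatible system over the truncations A'/m^(n+1)) and φ : R → A is a map under which the
formal element of ξ becomes the pushforward of η' along g, then φ lifts to ψ : R → A' with g ∘ ψ = φ
and with ξ inducing η' along ψ. (The published statement takes Λ complete local Noetherian with
residue field k; its proof does not use completeness of Λ, and this row assumes only Λ Noetherian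
with Λ → k surjective.) -/
theorem result {Λ : Type u} {k : Type u} [CommRing Λ] [Field k]
    [Algebra Λ k] [IsNoetherianRing Λ] [Module.Finite Λ k] (hΛ : Function.Surjective (algebraMap Λ k))
    {F : ArtFun.Art Λ k ⥤ Type v}
    (hRS : ∀ ⦃B A A₁ A₂ : ArtFun.Art Λ k⦄ (p₁ : B ⟶ A₁) (p₂ : B ⟶ A₂) (f₁ : A₁ ⟶ A) (f₂ : A₂ ⟶ A)
        (h : ArtFun.Art.IsFibreProd p₁ p₂ f₁ f₂), Function.Surjective f₂ → Function.Bijective (ArtFun.cmp F h))
    (R : ArtFun.CRing Λ k) (ξ : ArtFun.Family R.carrier R.res F) (hξ : ArtFun.IsVersal ξ)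
    (A' A : ArtFun.CRing Λ k) (g : A'.carrier →ₐ[Λ] A.carrier) (hg : A.res.comp g = A'.res)
    (hgs : Function.Surjective g) (η' : ArtFun.FormalElt F A')
    (φ : R.carrier →ₐ[Λ] A.carrier) (hφ : A.res.comp φ = R.res)
    (hsq : (ξ.along φ hφ).toFormalElt = η'.push g hg) :
    ∃ (ψ : R.carrier →ₐ[Λ] A'.carrier) (hψ : A'.res.comp ψ = R.res),
      g.comp ψ = φ ∧ (ξ.along ψ hψ).toFormalElt = η' := by
  classical
  -- notation
  let gn : ∀ n : ℕ, A'.trunc n ⟶ A.trunc n := fun n => ArtFun.CRing.truncMapOfHom g hg n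
  let φn : ∀ n : ℕ, ArtFun.HomSet R.carrier R.res (A.trunc n) := fun n =>
    ⟨(A.truncHom n).1.comp φ, by rw [← AlgHom.comp_assoc, (A.truncHom n).2, hφ]⟩
  have hφn : ∀ n, ArtFun.HomSet.map (A.truncMap n) (φn (n + 1)) = φn n := fun n =>
    Subtype.ext (AlgHom.ext fun _ => rfl)
  have hsqn : ∀ n, ξ.app _ (φn n) = F.map (gn n) (η'.elt n) := fun n =>
    congrArg (fun u => u.elt n) hsq
  have hgn_surj : ∀ n, Function.Surjective (gn n) := by
    intro n x
    obtain ⟨a, rfl⟩ := Ideal.Quotient.mk_surjective x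
    obtain ⟨a', rfl⟩ := hgs a
    exact ⟨Ideal.Quotient.mk _ a', rfl⟩
  -- the maximal ideal of A is the image of that of A'
  have hmap : Ideal.map g (IsLocalRing.maximalIdeal A'.carrier) = IsLocalRing.maximalIdeal A.carrier := by
    apply le_antisymm
    · exact Ideal.map_le_iff_le_comap.2 (ArtFun.CRing.maximalIdeal_le_comap g hg)
    · intro y hy
      obtain ⟨x, rfl⟩ := hgs y
      apply Ideal.mem_map_of_mem
      rw [ArtFun.CRing.mem_maximalIdeal_iff] at hy ⊢
      rw [← ArtFun.CRing.res_comp_apply g hg]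
      exact hy
  have hmappow : ∀ n : ℕ, Ideal.map g (A'.mpow n) = A.mpow n := by
    intro n
    change Ideal.map g (IsLocalRing.maximalIdeal A'.carrier ^ (n + 1)) = _
    rw [Ideal.map_pow, hmap]
  -- base step
  have hbase : ∃ ψ : ArtFun.HomSet R.carrier R.res (A'.trunc 0),
      ArtFun.HomSet.map (gn 0) ψ = φn 0 ∧ ξ.app _ ψ = η'.elt 0 :=
    hξ (gn 0) (hgn_surj 0) (φn 0) (η'.elt 0) (hsqn 0).symm
  -- inductive step
  have hstep : ∀ (n : ℕ) (prev : {ψ : ArtFun.HomSet R.carrier R.res (A'.trunc n) //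
        ArtFun.HomSet.map (gn n) ψ = φn n ∧ ξ.app _ ψ = η'.elt n}),
      ∃ ψ : ArtFun.HomSet R.carrier R.res (A'.trunc (n + 1)),
        (ArtFun.HomSet.map (gn (n + 1)) ψ = φn (n + 1) ∧ ξ.app _ ψ = η'.elt (n + 1)) ∧
          ArtFun.HomSet.map (A'.truncMap n) ψ = prev.1 := by
    intro n prev
    obtain ⟨ψn, ha, hb⟩ := prev
    have htsurj : Function.Surjective (A.truncMap n) := truncMap_surjective A n
    have hP := pb_isFibreProd (gn n) (A.truncMap n) htsurj
    -- the map q
    obtain ⟨q, hq1, hq2⟩ := IsFibreProd.exists_hom_lift hP (A'.truncMap n) (gn (n + 1))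
      (ArtFun.CRing.truncMapOfHom_truncMap g hg n).symm
    have hqsurj : Function.Surjective q := by
      intro x
      obtain ⟨a', ha'⟩ := Ideal.Quotient.mk_surjective (pbFst (gn n) (A.truncMap n) htsurj x)
      obtain ⟨a, ha⟩ := Ideal.Quotient.mk_surjective (pbSnd (gn n) (A.truncMap n) htsurj x)
      have hx := hP.w_apply x
      rw [← ha', ← ha] at hx
      have hx' : Ideal.Quotient.mk (A.mpow n) (g a') = Ideal.Quotient.mk (A.mpow n) a := hx
      have hmem : a - g a' ∈ A.mpow n := by
        rw [← Ideal.Quotient.eq, hx']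
      rw [← hmappow n] at hmem
      obtain ⟨c, hc, hgc⟩ := (Ideal.mem_map_iff_of_surjective g hgs).1 hmem
      refine ⟨Ideal.Quotient.mk _ (a' + c), ?_⟩
      apply hP.inj
      · have h1 : (pbFst (gn n) (A.truncMap n) htsurj) (q (Ideal.Quotient.mk _ (a' + c))) =
            (A'.truncMap n) (Ideal.Quotient.mk _ (a' + c)) :=
          congrArg (fun t : A'.trunc (n + 1) ⟶ A'.trunc n => t.toAlgHom (Ideal.Quotient.mk _ (a' + c))) hq1
        rw [h1, ← ha']
        change Ideal.Quotient.mk (A'.mpow n) (a' + c) = Ideal.Quotient.mk (A'.mpow n) a'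
        rw [Ideal.Quotient.eq]
        simpa using hc
      · have h2 : (pbSnd (gn n) (A.truncMap n) htsurj) (q (Ideal.Quotient.mk _ (a' + c))) =
            (gn (n + 1)) (Ideal.Quotient.mk _ (a' + c)) :=
          congrArg (fun t : A'.trunc (n + 1) ⟶ A.trunc (n + 1) => t.toAlgHom (Ideal.Quotient.mk _ (a' + c))) hq2
        rw [h2, ← ha]
        change Ideal.Quotient.mk (A.mpow (n + 1)) (g (a' + c)) = Ideal.Quotient.mk (A.mpow (n + 1)) a
        rw [map_add, hgc]
        congr 1
        ring
    -- the element χ of h_R(P)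
    obtain ⟨χ, hχ1, hχ2⟩ := IsFibreProd.exists_homSet_lift hP ψn (φn (n + 1)) (ha.trans (hφn n).symm)
    have hξχ : ξ.app _ χ = F.map q (η'.elt (n + 1)) := by
      apply (hRS _ _ _ _ hP htsurj).1
      apply Subtype.ext
      apply Prod.ext
      · change F.map (pbFst (gn n) (A.truncMap n) htsurj) (ξ.app _ χ) =
          F.map (pbFst (gn n) (A.truncMap n) htsurj) (F.map q (η'.elt (n + 1)))
        rw [← ξ.natural, hχ1, hb, ← Functor.map_comp_apply F q, hq1, η'.compat]
      · change F.map (pbSnd (gn n) (A.truncMap n) htsurj) (ξ.app _ χ) =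
          F.map (pbSnd (gn n) (A.truncMap n) htsurj) (F.map q (η'.elt (n + 1)))
        rw [← ξ.natural, hχ2, hsqn, ← Functor.map_comp_apply F q, hq2]
    obtain ⟨ψ, hψ1, hψ2⟩ := hξ q hqsurj χ (η'.elt (n + 1)) hξχ.symm
    refine ⟨ψ, ⟨?_, hψ2⟩, ?_⟩
    · rw [← hq2, homSet_map_comp, hψ1, hχ2]
    · rw [← hq1, homSet_map_comp, hψ1, hχ1]
  let seq : ∀ n : ℕ, {ψ : ArtFun.HomSet R.carrier R.res (A'.trunc n) //
        ArtFun.HomSet.map (gn n) ψ = φn n ∧ ξ.app _ ψ = η'.elt n} := fun n =>
    Nat.rec (motive := fun n => {ψ : ArtFun.HomSet R.carrier R.res (A'.trunc n) //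
        ArtFun.HomSet.map (gn n) ψ = φn n ∧ ξ.app _ ψ = η'.elt n})
      ⟨Classical.choose hbase, Classical.choose_spec hbase⟩
      (fun n prev => ⟨Classical.choose (hstep n prev), (Classical.choose_spec (hstep n prev)).1⟩) n
  have hseq : ∀ n, ArtFun.HomSet.map (A'.truncMap n) (seq (n + 1)).1 = (seq n).1 := fun n =>
    (Classical.choose_spec (hstep n (seq n))).2
  obtain ⟨ψ, hψ⟩ := CRing.exists_algHom_lift A' (fun n => (seq n).1.1)
    (fun n => congrArg Subtype.val (hseq n))
  have hres : A'.res.comp ψ = R.res := by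
    have h1 : A'.res = (A'.trunc 0).res.comp (A'.truncHom 0).1 := (A'.truncHom 0).2.symm
    rw [h1, AlgHom.comp_assoc, hψ 0]
    exact (seq 0).1.2
  refine ⟨ψ, hres, ?_, ?_⟩
  · apply AlgHom.ext
    intro r
    apply CRing.eq_of_forall_mk_eq A
    intro n
    have h1 : (gn n) ((seq n).1.1 r) = (φn n).1 r := congrArg (fun t => t.1 r) (seq n).2.1
    have h2 : (A'.truncHom n).1 (ψ r) = (seq n).1.1 r := congrArg (fun t : R.carrier →ₐ[Λ] (A'.trunc n) => t r) (hψ n)
    rw [← h2] at h1
    exact h1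
  · apply ArtFun.FormalElt.ext'
    intro n
    change ξ.app _ ⟨(A'.truncHom n).1.comp ψ, _⟩ = η'.elt n
    rw [← (seq n).2.2]
    congr 1
    exact Subtype.ext (hψ n)

end Groth.Agent.S13981
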