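import Groth.Statements.S13985

set_option autoImplicit false
universe u
open CategoryTheory
open CohGab

namespace Groth.Agent.S13985

theorem key (A : Type u) [Ring A]
    (φ : 𝟭 (FGModuleCat.{u} A) ⟶ 𝟭 (FGModuleCat.{u} A))
    (M : FGModuleCat.{u} A) (x : M) :
    (φ.app M).hom.hom x = ((φ.app (FGModuleCat.of A A)).hom.hom (1 : A)) • x := by
  let f : A →ₗ[A] M := LinearMap.toSpanSingleton A M x
  let g : FGModuleCat.of A A ⟶ M := ObjectProperty.homMk (ModuleCat.ofHom f)
  have h := φ.naturality g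
  have h2 := congrArg (fun k => k.hom.hom (1 : A)) h
  simp only [Functor.id_obj, Functor.id_map, FGModuleCat.hom_hom_comp, LinearMap.coe_comp,
    Function.comp_apply] at h2
  have e1 : g.hom.hom (1 : A) = x := by
    show f 1 = x
    simp [f]
  have e2 : ∀ r : A, g.hom.hom r = r • x := by
    intro r
    show f r = r • x
    simp [f]
  rw [e1] at h2
  rw [h2]
  exact e2 _

theorem result (A : Type u) [Ring A]
    (φ : 𝟭 (FGModuleCat.{u} A) ⟶ 𝟭 (FGModuleCat.{u} A)) :
    ∃! a : A, a ∈ Subring.center A ∧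
      ∀ (M : FGModuleCat.{u} A) (x : M), (φ.app M).hom.hom x = a • x := by
  refine ⟨(φ.app (FGModuleCat.of A A)).hom.hom (1 : A), ⟨?_, key A φ⟩, ?_⟩
  · rw [Subring.mem_center_iff]
    intro b
    have h1 := key A φ (FGModuleCat.of A A) b
    have h2 : (φ.app (FGModuleCat.of A A)).hom.hom b
        = b • (φ.app (FGModuleCat.of A A)).hom.hom (1 : A) := by
      rw [← LinearMap.map_smul]
      congr 1
      simp
    rw [h2] at h1
    simpa [smul_eq_mul] using h1
  · rintro a' ⟨_, ha'⟩
    have := ha' (FGModuleCat.of A A) (1 : A)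
    rw [this]
    simp

end Groth.Agent.S13985
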