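import Groth.Statements.S13992
import Mathlib
import Groth.Agent.Helper6.Hyper1
import Groth.Agent.Helper1.RegAB
import Groth.Agent.Helper7.PdLen

set_option autoImplicit false
universe u
open CategoryTheory
open CAlg

namespace Groth.Agent.S13992

/-- Let S be a regular local ring of Krull dimension two, f a non-zero element of S and R the quotient
of S by f, assumed reduced (the local ring of a reduced planar curve singularity). Let M and N be
finitely generated R-modules, each admitting a non-zero-divisor in the maximal ideal of R,
annihilated by ideals I and J respectively, where I + J contains a power of the maximal ideal. Then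
Ext²_R(M, N) = 0. (The published statement is global: Ext²(F, F') = 0 for torsion-free coherent
sheaves F and F' on a reduced projective curve over a characteristic-zero algebraically closed
field, supported on subcurves with no common irreducible component that meet only at points with
planar singularities; this row is the vanishing on stalks to which it reduces, stated over an
arbitrary two-dimensional regular local ring.) -/
theorem result (S : Type u) [CommRing S] [IsRegularLocalRing S] (hS : ringKrullDim S = 2) (f : S) (hf : f ≠ 0) (R : Type u) [CommRing R] [IsLocalRing R] [IsReduced R] (π : S →+* R) (hπ : Function.Surjective π) (hker : RingHom.ker π = Ideal.span {f}) (I J : Ideal R) (n : ℕ) (hIJ : IsLocalRing.maximalIdeal R ^ n ≤ I ⊔ J) (M N : Type u) [AddCommGroup M] [Module R M] [Module.Finite R M] [AddCommGroup N] [Module R N] [Module.Finite R N] (hI : I ≤ Module.annihilator R M) (hJ : J ≤ Module.annihilator R N) (x : R) (hx : x ∈ IsLocalRing.maximalIdeal R) (hxM : IsSMulRegular M x) (y : R) (hy : y ∈ IsLocalRing.maximalIdeal R) (hyN : IsSMulRegular N y) : Subsingleton (Abelian.Ext (ModuleCat.of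 R M) (ModuleCat.of R N) 2) := by
  classical
  letI : Algebra S R := π.toAlgebra
  have hπ' : Function.Surjective (algebraMap S R) := hπ
  have hker' : RingHom.ker (algebraMap S R) = Ideal.span {f} := hker
  letI : Module S M := Module.compHom M π
  haveI : IsScalarTower S R M := ⟨fun s r m => by
    change (π s * r) • m = π s • (r • m)
    rw [mul_smul]⟩
  haveI : Module.Finite S R := Module.Finite.of_surjective (Algebra.linearMap S R) hπ'
  haveI : Module.Finite S M := Module.Finite.trans R M
  obtain ⟨a, p, hp⟩ := Module.Finite.exists_fin' S M
  -- depth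
  obtain ⟨s, hs⟩ := hπ x
  have hsm : s ∈ IsLocalRing.maximalIdeal S := by
    rw [IsLocalRing.mem_maximalIdeal, mem_nonunits_iff]
    intro hu
    have h1 : IsUnit (π s) := hu.map π
    rw [hs] at h1
    exact (IsLocalRing.mem_maximalIdeal _).1 hx h1
  have hsreg : IsSMulRegular M s := by
    intro m1 m2 h
    apply hxM
    have h' : π s • m1 = π s • m2 := h
    rw [hs] at h'
    exact h'
  have hdepth : (1 : ℕ∞) ≤ LocCoh.depth S M := by
    unfold LocCoh.depth LocCoh.idealDepth
    split_ifs with h
    · exact le_top
    · refine le_iSup₂_of_le [s] ⟨?_, ?_⟩ ?_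
      · rw [RingTheory.Sequence.isWeaklyRegular_singleton_iff]
        exact hsreg
      · intro r hr
        rw [List.mem_singleton] at hr
        rw [hr]
        exact hsm
      · simp
  have hpd : HasProjectiveDimensionLE (ModuleCat.of S M) 1 := by
    refine Groth.Agent.Helper1.RegAB.pd_le_of_depth 2 (by rw [hS]; rfl) M 1 ?_
    calc ((2 : ℕ) : ℕ∞) = 1 + 1 := by norm_num
      _ ≤ ((1 : ℕ) : ℕ∞) + LocCoh.depth S M := by
        rw [Nat.cast_one]
        exact add_le_add_right hdepth 1
  haveI : Module.Projective S (LinearMap.ker p) :=
    Groth.Agent.Helper7.PdLen.pd_lt_one_iff.1 ((Groth.Agent.Helper7.PdLen.pd_shift p hp 0).1 hpd)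
  refine Groth.Agent.Helper6.Hyper.ext_two_subsingleton f hπ' hker' p hp N ?_
  intro X _ _ hX φ
  ext z
  rw [LinearMap.zero_apply]
  have hreg : IsSMulRegular N (y ^ n) := hyN.pow n
  have hyn : y ^ n ∈ I ⊔ J := hIJ (Ideal.pow_mem_pow hy n)
  obtain ⟨a', ha', b', hb', hab⟩ := Submodule.mem_sup.1 hyn
  apply hreg
  change y ^ n • φ z = y ^ n • 0
  rw [smul_zero, ← hab, add_smul, ← map_smul, hX a' (hI ha') z, map_zero, zero_add]
  exact Module.mem_annihilator.1 (hJ hb') _

end Groth.Agent.S13992
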