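import Groth.Statements.S13995
import Mathlib

set_option autoImplicit false
universe u
open CAlg

namespace Groth.Agent.S13995

theorem isField_of_minimal (R : Type u) [CommRing R] [IsReduced R] (p : Ideal R) [p.IsPrime]
    (hp : p ∈ minimalPrimes R) : IsField (Localization.AtPrime p) := by
  rw [IsLocalRing.isField_iff_maximalIdeal_eq]
  have h1 := IsLocalization.AtPrime.radical_map_of_mem_minimalPrimes
    (A := Localization.AtPrime p) p ⊥ hp
  rw [Ideal.map_bot, IsLocalization.AtPrime.map_eq_maximalIdeal p (Localization.AtPrime p)] at h1
  rw [← h1]
  exact nilradical_eq_zero _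

theorem inj_of_rank_one (R : Type u) [CommRing R] [IsReduced R] (M Q : Type u)
    [AddCommGroup M] [Module R M] [Module.Finite R M] [AddCommGroup Q] [Module R Q]
    [Module.Finite R Q] (g : M →ₗ[R] Q) (hg : Function.Surjective g)
    (p : PrimeSpectrum R) (hp : p.asIdeal ∈ minimalPrimes R)
    (hrk : Module.finrank (Localization.AtPrime p.asIdeal)
      (LocalizedModule p.asIdeal.primeCompl M) = 1)
    (hQ : p ∈ Module.support R Q) :
    Function.Injective (LocalizedModule.map p.asIdeal.primeCompl g) := by
  letI : Field (Localization.AtPrime p.asIdeal) := (isField_of_minimal R p.asIdeal hp).toField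
  haveI : Nontrivial (LocalizedModule p.asIdeal.primeCompl Q) := Module.mem_support_iff.mp hQ
  let G : LocalizedModule p.asIdeal.primeCompl M →ₗ[Localization.AtPrime p.asIdeal]
      LocalizedModule p.asIdeal.primeCompl Q :=
    (LocalizedModule.map p.asIdeal.primeCompl g).extendScalarsOfIsLocalization
      p.asIdeal.primeCompl (Localization.AtPrime p.asIdeal)
  have hGs : Function.Surjective G := by
    intro y
    induction y using LocalizedModule.induction_on with | h q s => ?_
    obtain ⟨m, rfl⟩ := hg q
    exact ⟨LocalizedModule.mk m s, by
      show LocalizedModule.map p.asIdeal.primeCompl g (LocalizedModule.mk m s) = _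
      rw [LocalizedModule.map_mk]⟩
  have h1 := LinearMap.finrank_range_add_finrank_ker G
  rw [hrk, LinearMap.range_eq_top.mpr hGs, finrank_top] at h1
  have h2 : 0 < Module.finrank (Localization.AtPrime p.asIdeal)
      (LocalizedModule p.asIdeal.primeCompl Q) := Module.finrank_pos
  have h3 : Module.finrank (Localization.AtPrime p.asIdeal) (LinearMap.ker G) = 0 := by omega
  have h4 : LinearMap.ker G = ⊥ := Submodule.finrank_eq_zero.mp h3
  exact LinearMap.ker_eq_bot.mp h4

theorem main (R : Type u) [CommRing R] [IsNoetherianRing R] [IsReduced R] (M : Type u)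
    [AddCommGroup M] [Module R M] [Module.Finite R M]
    (hrk : ∀ p : PrimeSpectrum R, p.asIdeal ∈ minimalPrimes R →
      Module.finrank (Localization.AtPrime p.asIdeal) (LocalizedModule p.asIdeal.primeCompl M) = 1)
    (Q : Type u) [AddCommGroup Q] [Module R Q] [Module.Finite R Q]
    (hQ : associatedPrimes R Q ⊆ minimalPrimes R) (g : M →ₗ[R] Q) (hg : Function.Surjective g) :
    LinearMap.ker g = ⨅ p ∈ {p : PrimeSpectrum R | p.asIdeal ∈ minimalPrimes R ∧
      p ∈ Module.support R Q}, LinearMap.ker (LocalizedModule.mkLinearMap p.asIdeal.primeCompl M) := by
  apply le_antisymm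
  · intro m hm
    rw [LinearMap.mem_ker] at hm
    simp only [Submodule.mem_iInf, LinearMap.mem_ker]
    rintro p ⟨hp, hpQ⟩
    apply inj_of_rank_one R M Q g hg p hp (hrk p hp) hpQ
    rw [LocalizedModule.mkLinearMap_apply, LocalizedModule.map_mk, hm, map_zero]
    exact LocalizedModule.zero_mk _
  · intro m hm
    simp only [Submodule.mem_iInf, LinearMap.mem_ker] at hm
    rw [LinearMap.mem_ker]
    by_contra hne
    obtain ⟨P, hP, hle⟩ := exists_le_isAssociatedPrime_of_isNoetherianRing R (g m) hne
    haveI := hP.isPrime
    have hPmin : P ∈ minimalPrimes R := hQ hP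
    have hPsupp : (⟨P, hP.isPrime⟩ : PrimeSpectrum R) ∈ Module.support R Q := by
      rw [Module.mem_support_iff_exists_annihilator]
      obtain ⟨y, hy⟩ := (isAssociatedPrime_iff.mp hP).2
      refine ⟨y, ?_⟩
      show (R ∙ y).annihilator ≤ P
      rw [hy]
      intro a ha
      rw [Submodule.mem_annihilator_span_singleton] at ha
      simpa [Submodule.mem_colon] using ha
    have h0 := hm ⟨P, hP.isPrime⟩ ⟨hPmin, hPsupp⟩
    rw [LocalizedModule.mkLinearMap_apply] at h0
    obtain ⟨c, hc⟩ := (IsLocalizedModule.eq_zero_iff P.primeCompl
      (LocalizedModule.mkLinearMap P.primeCompl M)).mp h0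
    have : (c : R) ∈ (⊥ : Submodule R Q).colon {g m} := by
      rw [Submodule.mem_colon]
      intro x hx
      rw [Set.mem_singleton_iff] at hx
      subst hx
      have h1 : g ((c : R) • m) = 0 := by
        have : (c : R) • m = 0 := hc
        rw [this, map_zero]
      rw [map_smul] at h1
      rw [Submodule.mem_bot]
      exact h1
    exact c.2 (hle this)

/-- Let R be a reduced Noetherian ring, M a finitely generated R-module all of whose associated primes
are minimal primes of R and whose localization at each minimal prime p is one-dimensional over the
field R_p, and let g : M → Q be a surjection onto a finitely generated R-module Q all of whose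
associated primes are minimal primes of R. Then the kernel of g is the intersection, over the
minimal primes p of R lying in the support of Q, of the kernels of the localization maps M → M_p.
(The published statement is for a torsion-free coherent sheaf F of uniform rank one on a reduced
connected projective curve over a characteristic-zero algebraically closed field: its non-zero
torsion-free quotients are exactly the maximal torsion-free quotients F_D of the restrictions of F
to subcurves D; this row is the corresponding statement for modules over a reduced Noetherian ring,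
a subcurve being a set of minimal primes, and identifies each torsion-free quotient with F_D for D
the set of generic points of its support.) -/
theorem result (R : Type u) [CommRing R] [IsNoetherianRing R] [IsReduced R] (M : Type u) [AddCommGroup M] [Module R M] [Module.Finite R M] (hM : associatedPrimes R M ⊆ minimalPrimes R) (hrk : ∀ p : PrimeSpectrum R, p.asIdeal ∈ minimalPrimes R → Module.finrank (Localization.AtPrime p.asIdeal) (LocalizedModule p.asIdeal.primeCompl M) = 1) (Q : Type u) [AddCommGroup Q] [Module R Q] [Module.Finite R Q] (hQ : associatedPrimes R Q ⊆ minimalPrimes R) (g : M →ₗ[R] Q) (hg : Function.Surjective g) : LinearMap.ker g = ⨅ p ∈ {p : PrimeSpectrum R | p.asIdeal ∈ minimalPrimes R ∧ p ∈ Module.support R Q}, LinearMap.ker (LocalizedModule.mkLinearMap p.asIdeal.primeCompl M) := by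
  exact main R M hrk Q hQ g hg

end Groth.Agent.S13995
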