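import Groth.Statements.S13996
import Mathlib

set_option autoImplicit false
universe u
open CAlg

namespace Groth.Agent.S13996

/-- Let R be a reduced Noetherian local ring of Krull dimension one with maximal ideal m, and M a
non-zero finitely generated R-module. Then M is torsion-free in the sense that no element of m which
is a non-zero-divisor on R is a zero-divisor on M, if and only if M has depth one, i.e. some element
of m is a non-zero-divisor on M. (The published statement is for a non-zero coherent sheaf F on a
connected reduced projective curve over a characteristic-zero algebraically closed field and asserts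
the equivalence of: F torsion-free in the above sense at every closed point; F pure of dimension
one; depth of F_p equal to one at every closed point p. This row is the equivalence of the first and
third conditions at a single closed point p with F_p ≠ 0; at points outside the support the third
condition as published cannot hold, so the row assumes the stalk non-zero.) -/
theorem result (R : Type u) [CommRing R] [IsLocalRing R] [IsNoetherianRing R] [IsReduced R] (hdim : ringKrullDim R = 1) (M : Type u) [AddCommGroup M] [Module R M] [Module.Finite R M] [Nontrivial M] : (∀ r : R, r ∈ IsLocalRing.maximalIdeal R → IsSMulRegular R r → IsSMulRegular M r) ↔ (∃ x : R, x ∈ IsLocalRing.maximalIdeal R ∧ IsSMulRegular M x) := by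
  classical
  have hle1 : Ring.KrullDimLE 1 R := by
    rw [Ring.krullDimLE_iff, hdim]; rfl
  have hnot0 : ¬ Ring.KrullDimLE 0 R := by
    rw [Ring.krullDimLE_iff, hdim]
    intro h
    exact absurd h (by decide)
  have hprimes := Ring.krullDimLE_one_iff.1 hle1
  have hmax := IsLocalRing.maximalIdeal.isMaximal R
  -- the maximal ideal is not a minimal prime
  have hmnotmin : IsLocalRing.maximalIdeal R ∉ minimalPrimes R := by
    intro hmin
    apply hnot0
    rw [Ring.krullDimLE_zero_iff_forall_minimalPrimes_isMaximal]
    intro I hI
    have hIle : I ≤ IsLocalRing.maximalIdeal R := IsLocalRing.le_maximalIdeal hI.1.1.ne_top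
    have := hmin.2 ⟨hI.1.1, bot_le⟩ hIle
    have heq : I = IsLocalRing.maximalIdeal R := le_antisymm hIle this
    rw [heq]; exact hmax
  constructor
  · intro h
    -- find r ∈ m outside all minimal primes
    have hfin : (minimalPrimes R).Finite := minimalPrimes.finite_of_isNoetherianRing R
    have hnotsub : ¬ ((IsLocalRing.maximalIdeal R : Set R) ⊆ ⋃ q ∈ (hfin.toFinset : Set (Ideal R)), (q : Set R)) := by
      intro hsub
      rw [Ideal.subset_union_prime (f := fun q : Ideal R => q) (IsLocalRing.maximalIdeal R)
        (IsLocalRing.maximalIdeal R)] at hsub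
      · obtain ⟨q, hq, hmq⟩ := hsub
        rw [Set.Finite.mem_toFinset] at hq
        have : q = IsLocalRing.maximalIdeal R :=
          (hmax.eq_of_le hq.1.1.ne_top hmq).symm
        exact hmnotmin (this ▸ hq)
      · intro q hq _ _
        rw [Set.Finite.mem_toFinset] at hq
        exact hq.1.1
    rw [Set.not_subset] at hnotsub
    obtain ⟨r, hrm, hrq⟩ := hnotsub
    have hrq' : ∀ q ∈ minimalPrimes R, r ∉ q := by
      intro q hq hrq'
      apply hrq
      simp only [Set.mem_iUnion]
      exact ⟨q, by simpa using hq, hrq'⟩
    have hreg : IsSMulRegular R r := by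
      rw [isSMulRegular_iff_right_eq_zero_of_smul]
      intro z hz
      have hz' : z ∈ sInf (minimalPrimes R) := by
        rw [Ideal.mem_sInf]
        intro q hq
        have : r * z ∈ q := by rw [← smul_eq_mul, hz]; exact q.zero_mem
        exact (hq.1.1.mem_or_mem this).resolve_left (hrq' q hq)
      have hrad : sInf (minimalPrimes R) = (⊥ : Ideal R) := by
        show sInf (⊥ : Ideal R).minimalPrimes = ⊥
        rw [Ideal.sInf_minimalPrimes]
        exact nilradical_eq_zero R
      rw [hrad] at hz'
      exact hz'
    exact ⟨r, hrm, h r hrm hreg⟩
  · rintro ⟨x, hxm, hx⟩ r hrm hr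
    rw [isSMulRegular_iff_right_eq_zero_of_smul]
    intro z hz
    by_contra hz0
    have hzd : r ∈ { r : R | ∃ x : M, x ≠ 0 ∧ r • x = 0 } := ⟨z, hz0, hz⟩
    rw [← biUnion_associatedPrimes_eq_zero_divisors R M] at hzd
    simp only [Set.mem_iUnion] at hzd
    obtain ⟨P, hP, hrP⟩ := hzd
    have hPprime : P.IsPrime := hP.isPrime
    rcases hprimes P hPprime with hmin | hPmax
    · have := Ideal.disjoint_nonZeroDivisors_of_mem_minimalPrimes hmin
      have hrnzd : r ∈ nonZeroDivisors R := by
        rw [mem_nonZeroDivisors_iff_right]
        intro y hy
        exact (isSMulRegular_iff_right_eq_zero_of_smul (M := R) (r := r)).1 hr y (by rwa [smul_eq_mul, mul_comm])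
      exact Set.disjoint_left.1 this hrP hrnzd
    · have hPm : P = IsLocalRing.maximalIdeal R := IsLocalRing.eq_maximalIdeal hPmax
      obtain ⟨z', hz'⟩ := (isAssociatedPrime_iff.1 (AssociatedPrimes.mem_iff.1 hP)).2
      have hxP : x ∈ P := hPm ▸ hxm
      rw [hz'] at hxP
      have hz'0 : z' ≠ 0 := by
        rintro rfl
        apply hPprime.ne_top
        rw [hz']
        simp
      rw [Submodule.mem_colon_singleton] at hxP
      exact hz'0 ((isSMulRegular_iff_right_eq_zero_of_smul (M := M) (r := x)).1 hx z' (by simpa using hxP))

end Groth.Agent.S13996
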