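import Groth.Statements.S14020
import Mathlib
import Groth.Agent.Helper7.ArtPow

set_option autoImplicit false
universe u
open CAlg

namespace Groth.Agent.S14020

/-- Let R be a commutative ring and I a finitely generated ideal such that the quotient ring R/I is
artinian. Then R/I^n is artinian for every n. -/
theorem result
    (R : Type u) [CommRing R] (I : Ideal R) (hI : I.FG) [IsArtinianRing (R ⧸ I)] (n : ℕ) :
    IsArtinianRing (R ⧸ I ^ n) := by
    exact Groth.Agent.Helper7.ArtPow.result R I hI n

end Groth.Agent.S14020
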