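import Groth.Statements.S14029
import Mathlib
import Groth.Agent.Helper9.SubTerm
-- import your own Groth.Agent.* helpers here

set_option autoImplicit false
open CategoryTheory CategoryTheory.Limits Opposite
universe v u
open CohSite

namespace Groth.Agent.S14029

/-- Let (C, J) be a site and U an object such that every object has at most one morphism to U; assume
extension by the empty set j_! from sheaves of sets on the localized site C/U to sheaves of sets on
C exists (through sheafification on C and left Kan extensions along C/U → C). If V is weakly
contractible in C — every epimorphism of sheaves of sets on C is surjective on sections over V —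
then for any morphism a : V ⟶ U the object V → U of C/U is weakly contractible in C/U: every
epimorphism of sheaves of sets on C/U is surjective on sections over it. Hence C/U has enough weakly
contractible objects when C does. -/
theorem result
    {C : Type u} [Category.{v} C] (J : GrothendieckTopology C) (U : C)
    (hU : ∀ W : C, Subsingleton (W ⟶ U))
    [HasWeakSheafify J (Type (max u v))]
    [∀ (P : (Over U)ᵒᵖ ⥤ Type (max u v)), (Over.forget U).op.HasLeftKanExtension P]
    (V : C) (hV : (∀ (A B : Sheaf J (Type (max u v))) (ψ : A ⟶ B), Epi ψ → Function.Surjective (ψ.hom.app (op V)))) (a : V ⟶ U) :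
    ∀ (A B : Sheaf (J.over U) (Type (max u v))) (ψ : A ⟶ B), Epi ψ →
      Function.Surjective (ψ.hom.app (op (Over.mk a))) := by
  intro A B ψ hψ s
  let adj := (Over.forget U).sheafAdjunctionContinuous (Type (max u v)) (J.over U) J
  haveI : ((Over.forget U).sheafPullback (Type (max u v)) (J.over U) J).PreservesEpimorphisms :=
    Functor.preservesEpimorphisms_of_adjunction adj
  haveI hA : IsIso (adj.unit.app A) :=
    Groth.Agent.Helper9.SubTerm.isIso_unit J U hU (Type (max u v)) adj A
  haveI hB : IsIso (adj.unit.app B) :=
    Groth.Agent.Helper9.SubTerm.isIso_unit J U hU (Type (max u v)) adj B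
  have hepi : Epi (((Over.forget U).sheafPullback (Type (max u v)) (J.over U) J).map ψ) :=
    inferInstance
  obtain ⟨t', ht'⟩ := hV _ _ _ hepi ((adj.unit.app B).hom.app (op (Over.mk a)) s)
  refine ⟨(inv (adj.unit.app A)).hom.app (op (Over.mk a)) t', ?_⟩
  have hinj : Function.Injective ((adj.unit.app B).hom.app (op (Over.mk a))) := by
    intro x y hxy
    have h1 : adj.unit.app B ≫ inv (adj.unit.app B) = 𝟙 _ := IsIso.hom_inv_id _
    have h2 := fun z => congrArg (fun f => f.hom.app (op (Over.mk a)) z) h1
    have h3 := congrArg ((inv (adj.unit.app B)).hom.app (op (Over.mk a))) hxy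
    exact (h2 x).symm.trans (h3.trans (h2 y))
  apply hinj
  refine Eq.trans ?_ ht'
  have nat := adj.unit.naturality ψ
  have h4 := congrArg (fun f => f.hom.app (op (Over.mk a))
    ((inv (adj.unit.app A)).hom.app (op (Over.mk a)) t')) nat
  refine h4.trans ?_
  have h5 : inv (adj.unit.app A) ≫ adj.unit.app A = 𝟙 _ := IsIso.inv_hom_id _
  have h6 := congrArg (fun f => f.hom.app (op (Over.mk a)) t') h5
  change (((Over.forget U).sheafPullback (Type (max u v)) (J.over U) J).map ψ).hom.app (op V)
    ((adj.unit.app A).hom.app (op (Over.mk a)) ((inv (adj.unit.app A)).hom.app (op (Over.mk a)) t')) = _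
  exact congrArg _ h6

end Groth.Agent.S14029
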