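import Groth.Statements.S1406
import Mathlib
import Groth.Agent.S0116

set_option autoImplicit false
universe u
open FlatMor

namespace Groth.Agent.S1406

open AlgebraicGeometry CategoryTheory Limits in
/-- Let a : X' → X be flat, locally of finite presentation and surjective. Then all fibres of f : X → Y
are locally Noetherian if and only if all fibres of a ≫ f are. -/
theorem result {X X' Y : Scheme.{u}} (f : X ⟶ Y) (a : X' ⟶ X) [Flat a] [LocallyOfFinitePresentation a] [Surjective a] :
    (∀ y : Y, IsLocallyNoetherian (f.fiber y)) ↔ ∀ y : Y, IsLocallyNoetherian ((a ≫ f).fiber y) := by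
  have key : ∀ y : Y, ∃ q : (a ≫ f).fiber y ⟶ f.fiber y,
      Flat q ∧ LocallyOfFinitePresentation q ∧ Surjective q := by
    intro y
    have h1 : Flat (pullback.snd a (pullback.fst f (Y.fromSpecResidueField y))) := inferInstance
    have h2 : LocallyOfFinitePresentation
      (pullback.snd a (pullback.fst f (Y.fromSpecResidueField y))) := inferInstance
    have h3 : Surjective (pullback.snd a (pullback.fst f (Y.fromSpecResidueField y))) :=
      inferInstance
    refine ⟨(pullbackRightPullbackFstIso f (Y.fromSpecResidueField y) a).inv ≫
      pullback.snd a (pullback.fst f (Y.fromSpecResidueField y)), ?_, ?_, ?_⟩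
    · exact (MorphismProperty.cancel_left_of_respectsIso @Flat _ _).mpr h1
    · exact (MorphismProperty.cancel_left_of_respectsIso @LocallyOfFinitePresentation _ _).mpr h2
    · exact (MorphismProperty.cancel_left_of_respectsIso @Surjective _ _).mpr h3
  constructor
  · intro h y
    obtain ⟨q, hq1, hq2, hq3⟩ := key y
    have := h y
    exact LocallyOfFiniteType.isLocallyNoetherian q
  · intro h y
    obtain ⟨q, hq1, hq2, hq3⟩ := key y
    have := h y
    exact Groth.Agent.S0116.result q

end Groth.Agent.S1406
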