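import Groth.Statements.S14073
import Groth.Agent.Helper6.FFRDet

set_option autoImplicit false
universe u
open FamCyc Polynomial

namespace Groth.Agent.S14073

open Groth.Agent.Helper6 in
set_option backward.isDefEq.respectTransparency false in
theorem aux (A : Type u) [CommRing A] [IsNoetherianRing A]
    (M : Type u) [AddCommGroup M] [Module A M] (n : ℕ) (hM : FamCyc.HasFiniteFreeResolutionLE A n M)
    (φ : M →ₗ[A] M) :
    ∃! a : A, ∀ (p : Ideal A) [p.IsPrime],
      Module.Free (Localization.AtPrime p) (LocalizedModule p.primeCompl M) →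
        algebraMap A (Localization.AtPrime p) a =
          LinearMap.det (LocalizedModule.map p.primeCompl φ) := by
  obtain ⟨a, b, ha, hb, hloc⟩ := FFRDet.exists_polys A n M hM (-φ)
  haveI hfin : Module.Finite A M := FFRDet.finite_of_ffr A n M hM
  have hex : ∀ (p : Ideal A) [p.IsPrime],
      Module.Free (Localization.AtPrime p) (LocalizedModule p.primeCompl M) →
        algebraMap A (Localization.AtPrime p) ((a /ₘ b).coeff 0) =
          LinearMap.det (LocalizedModule.map p.primeCompl φ) := by
    intro p _ hfree
    haveI := hfree
    have h1 := hloc p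
    have h2 : (a /ₘ b).map (algebraMap A (Localization.AtPrime p)) =
        (LocalizedModule.map p.primeCompl (-φ)).charpoly := by
      rw [Polynomial.map_divByMonic _ hb, h1, Polynomial.mul_divByMonic_cancel_left _ (hb.map _)]
    have h3 : algebraMap A (Localization.AtPrime p) ((a /ₘ b).coeff 0) =
        ((a /ₘ b).map (algebraMap A (Localization.AtPrime p))).coeff 0 :=
      (Polynomial.coeff_map _ _).symm
    rw [h3, h2, map_neg]
    exact (FFRDet.det_eq_charpoly_neg_coeff _).symm
  refine ⟨(a /ₘ b).coeff 0, hex, ?_⟩
  intro a' ha'
  by_contra hne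
  have hc0 : a' - (a /ₘ b).coeff 0 ≠ 0 := sub_ne_zero.mpr hne
  obtain ⟨P, hP, hle⟩ := exists_le_isAssociatedPrime_of_isNoetherianRing A
    (a' - (a /ₘ b).coeff 0) hc0
  obtain ⟨hPprime, x, hPx⟩ := (isAssociatedPrime_iff).mp hP
  haveI := hPprime
  have hfreeP : Module.Free (Localization.AtPrime P) (LocalizedModule P.primeCompl M) := by
    refine FFRDet.free_localized_of_ffr A P x ?_ n M hM
    intro r
    rw [hPx, Submodule.mem_colon_singleton, Submodule.mem_bot, smul_eq_mul]
  have e1 := ha' P hfreeP
  have e2 := hex P hfreeP
  have e3 : algebraMap A (Localization.AtPrime P) (a' - (a /ₘ b).coeff 0) = 0 := by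
    rw [map_sub, e1, e2, sub_self]
  obtain ⟨s, hs⟩ := (IsLocalization.map_eq_zero_iff P.primeCompl _ _).mp e3
  refine s.2 (hle ?_)
  rw [Submodule.mem_colon_singleton, Submodule.mem_bot, smul_eq_mul]
  exact hs

/-- Let A be a Noetherian ring, M an A-module with a finite resolution by finite free modules, and φ an
endomorphism of M. Then there is a unique element of A (the determinant of φ) whose image in A_p is
the determinant of the localized endomorphism φ_p of the free A_p-module M_p, for every prime p of A
at which M_p is free. -/
theorem result (A : Type u) [CommRing A] [IsNoetherianRing A]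
    (M : Type u) [AddCommGroup M] [Module A M] (n : ℕ) (hM : FamCyc.HasFiniteFreeResolutionLE A n M)
    (φ : M →ₗ[A] M) :
    ∃! a : A, ∀ (p : Ideal A) [p.IsPrime],
      Module.Free (Localization.AtPrime p) (LocalizedModule p.primeCompl M) →
        algebraMap A (Localization.AtPrime p) a =
          LinearMap.det (LocalizedModule.map p.primeCompl φ) := by
  exact aux A M n hM φ

end Groth.Agent.S14073
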