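import Groth.Statements.S1409
import Mathlib
import Groth.Agent.Helper1.DirLimFlat

set_option autoImplicit false
universe u
open FlatMor

namespace Groth.Agent.S1409

theorem comap_mem_minimalPrimes_of_flat {A B : Type*} [CommRing A] [CommRing B] (φ : A →+* B)
    (hφ : φ.Flat) (P : Ideal B) (hP : P ∈ minimalPrimes B) : P.comap φ ∈ minimalPrimes A := by
  letI := φ.toAlgebra
  have : Module.Flat A B := hφ
  have hPprime : P.IsPrime := hP.1.1
  obtain ⟨q, hq, hqle⟩ := Ideal.exists_minimalPrimes_le (I := ⊥) (J := P.comap φ) bot_le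
  have hqprime : q.IsPrime := hq.1.1
  have : P.LiesOver (P.comap φ) := ⟨rfl⟩
  obtain ⟨Q, hQP, hQprime, hQover⟩ :=
    Ideal.exists_ideal_le_liesOver_of_le (p := q) (q := P.comap φ) P hqle
  have hQP' : Q = P := le_antisymm hQP (hP.2 ⟨hQprime, bot_le⟩ hQP)
  have : q = P.comap φ := by rw [← hQP']; exact hQover.over
  rw [← this]; exact hq

/-- Let (R_i) be a directed system of commutative rings whose transition maps are faithfully flat, with
colimit R. Then, counting in the extended natural numbers, the minimal primes of R are exactly as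
numerous as the supremum over i of the count of minimal primes of R_i. -/
theorem result {ι : Type u} [Preorder ι] [IsDirected ι (· ≤ ·)] [Nonempty ι] (G : ι → Type u) [∀ i, CommRing (G i)]
    (f : ∀ i j, i ≤ j → G i →+* G j) [DirectedSystem G fun i j h => f i j h]
    (hf : ∀ i j (h : i ≤ j), letI := (f i j h).toAlgebra
      Module.FaithfullyFlat (G i) (G j)) :
    (minimalPrimes (Ring.DirectLimit G fun i j h => ⇑(f i j h))).encard = ⨆ i, (minimalPrimes (G i)).encard := by
  classical
  set R := Ring.DirectLimit G fun i j h => ⇑(f i j h) with hR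
  let ofR : ∀ i, G i →+* R := fun i => Ring.DirectLimit.of G (fun i j h => ⇑(f i j h)) i
  have hflatf : ∀ i j h, (f i j h).Flat := by
    intro i j h
    letI := (f i j h).toAlgebra
    have := hf i j h
    exact (inferInstance : Module.Flat (G i) (G j))
  have hinjf : ∀ i j h, Function.Injective (f i j h) := by
    intro i j h
    letI := (f i j h).toAlgebra
    have := hf i j h
    exact FaithfulSMul.algebraMap_injective (G i) (G j)
  have hflat : ∀ i, (ofR i).Flat := fun i => Groth.Agent.Helper1.DirLimFlat.flat_of G f hflatf i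
  have hinj : ∀ i, Function.Injective (ofR i) := fun i => Ring.DirectLimit.of_injective f hinjf i
  have hcomap : ∀ i, ∀ P ∈ minimalPrimes R, P.comap (ofR i) ∈ minimalPrimes (G i) :=
    fun i P hP => comap_mem_minimalPrimes_of_flat (ofR i) (hflat i) P hP
  apply le_antisymm
  · -- `≤`
    by_contra hlt
    rw [not_le] at hlt
    set n := ⨆ i, (minimalPrimes (G i)).encard with hn
    have hntop : n ≠ ⊤ := ne_top_of_lt hlt
    obtain ⟨k, hk⟩ := ENat.ne_top_iff_exists.mp hntop
    have hk1 : ((k + 1 : ℕ) : ℕ∞) ≤ (minimalPrimes R).encard := by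
      rw [← hk] at hlt
      exact Order.add_one_le_of_lt hlt
    obtain ⟨T, hTsub, hTcard⟩ := Set.exists_subset_encard_eq hk1
    have hTfin : T.Finite := Set.finite_of_encard_eq_coe hTcard
    -- separate pairs
    have key : ∀ P ∈ T, ∀ P' ∈ T, P ≠ P' →
        ∃ i, ∀ j, i ≤ j → P.comap (ofR j) ≠ P'.comap (ofR j) := by
      intro P hP P' hP' hne
      have hnle : ¬ P ≤ P' := by
        intro hle
        exact hne (le_antisymm hle ((hTsub hP').2 (hTsub hP).1 hle))
      obtain ⟨x, hxP, hxP'⟩ := SetLike.not_le_iff_exists.mp hnle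
      obtain ⟨i, y, rfl⟩ := Ring.DirectLimit.exists_of x
      refine ⟨i, fun j hij hEq => ?_⟩
      have h1 : f i j hij y ∈ P.comap (ofR j) := by
        rw [Ideal.mem_comap]
        change Ring.DirectLimit.of G (fun i j h => ⇑(f i j h)) j (f i j hij y) ∈ P
        rw [Ring.DirectLimit.of_f]; exact hxP
      rw [hEq, Ideal.mem_comap] at h1
      apply hxP'
      change Ring.DirectLimit.of G (fun i j h => ⇑(f i j h)) j (f i j hij y) ∈ P' at h1
      rw [Ring.DirectLimit.of_f] at h1; exact h1
    let I : Ideal R × Ideal R → ι := fun p =>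
      if h : p.1 ∈ T ∧ p.2 ∈ T ∧ p.1 ≠ p.2 then (key p.1 h.1 p.2 h.2.1 h.2.2).choose
      else Classical.arbitrary ι
    obtain ⟨i₀, hi₀⟩ := Finset.exists_le ((hTfin.toFinset ×ˢ hTfin.toFinset).image I)
    have hinjT : Set.InjOn (fun P : Ideal R => P.comap (ofR i₀)) T := by
      intro P hP P' hP' hEq
      by_contra hne
      have hcond : (P, P').1 ∈ T ∧ (P, P').2 ∈ T ∧ (P, P').1 ≠ (P, P').2 := ⟨hP, hP', hne⟩
      have hle : I (P, P') ≤ i₀ := by
        apply hi₀
        apply Finset.mem_image_of_mem
        simp [hP, hP']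
      have hI : I (P, P') = (key P hP P' hP' hne).choose := dif_pos hcond
      exact (key P hP P' hP' hne).choose_spec i₀ (hI ▸ hle) hEq
    have hsub : (fun P : Ideal R => P.comap (ofR i₀)) '' T ⊆ minimalPrimes (G i₀) := by
      rintro _ ⟨P, hP, rfl⟩
      exact hcomap i₀ P (hTsub hP)
    have h1 : ((k + 1 : ℕ) : ℕ∞) ≤ (minimalPrimes (G i₀)).encard := by
      rw [← hTcard, ← hinjT.encard_image]
      exact Set.encard_le_encard hsub
    have h2 : (minimalPrimes (G i₀)).encard ≤ n := le_iSup (fun i => (minimalPrimes (G i)).encard) i₀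
    have h3 := h1.trans h2
    rw [← hk] at h3
    have : (k + 1 : ℕ) ≤ k := by exact_mod_cast h3
    omega
  · -- `≥`
    apply iSup_le
    intro i
    have hsub : minimalPrimes (G i) ⊆ (fun P : Ideal R => P.comap (ofR i)) '' minimalPrimes R := by
      intro q hq
      obtain ⟨p', hp'prime, hp'⟩ :=
        Ideal.exists_comap_eq_of_mem_minimalPrimes_of_injective (hinj i) q hq
      obtain ⟨P, hP, hPle⟩ := Ideal.exists_minimalPrimes_le (I := ⊥) (J := p') bot_le
      refine ⟨P, hP, ?_⟩
      have hle : P.comap (ofR i) ≤ q := by rw [← hp']; exact Ideal.comap_mono hPle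
      have hPprime : P.IsPrime := hP.1.1
      exact le_antisymm hle (hq.2 ⟨Ideal.comap_isPrime _ _, bot_le⟩ hle)
    exact (Set.encard_le_encard hsub).trans (Set.encard_image_le _ _)

end Groth.Agent.S1409
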