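import Groth.Statements.S1410
import Groth.Agent.Lead.TopBCN

set_option autoImplicit false
universe u
open FlatMor

namespace Groth.Agent.S1410

open AlgebraicGeometry CategoryTheory Limits in
/-- Let f : X → Y be proper with every fibre of dimension at most 1 and with H^1(X_y, O) = 0 for all y,
and assume O_Y → f_* O_X is surjective (checked on affine opens). Then for every base change f' : X'
→ Y' of f, O_{Y'} → f'_* O_{X'} is surjective on every affine open of Y'. -/
theorem result {X Y : Scheme.{u}} (f : X ⟶ Y) [IsProper f]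
    (hdim : ∀ y : Y, topologicalKrullDim ↑(f.fiber y) ≤ 1) (hH1 : ∀ y : Y, Subsingleton (Coh.HH (f.fiber y) (Coh.structureModule (f.fiber y)) 1))
    (hsurj : ∀ U : Y.Opens, IsAffineOpen U → Function.Surjective (f.app U))
    {X' Y' : Scheme.{u}} (f' : X' ⟶ Y') (g' : X' ⟶ X) (g : Y' ⟶ Y) (hc : IsPullback g' f' f g) :
    ∀ U' : Y'.Opens, IsAffineOpen U' → Function.Surjective (f'.app U') := by
  have hd : ∀ x : X, FlatMor.fibreDimAt f x ≤ ((1 : ℕ) : WithBot ℕ∞) :=
    Groth.Agent.Lead.FibVan.forall_of_fiber_dim_le f 1 (fun y => by exact_mod_cast hdim y)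
  haveI : IsProper f' := MorphismProperty.of_isPullback hc inferInstance
  haveI hqY' := Groth.Agent.Lead.BlH1B.isQuasicoherent_unit Y'
  haveI hqX' := Groth.Agent.Lead.BlH1B.isQuasicoherent_unit X'
  haveI hpush : ((Scheme.Modules.pushforward f').obj (Coh.structureModule X')).IsQuasicoherent :=
    Groth.Agent.Helper4.QcohGlue.isQuasicoherent_pushforward f' _
  let υ : Coh.structureModule Y' ⟶ (Scheme.Modules.pushforward f').obj (Coh.structureModule X') :=
    SheafOfModules.unitToPushforwardObjUnit f'.toRingCatSheafHom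
  have hυ : ∀ (U : Y'.Opens) (x : Γ(Y', U)), υ.app U x = f'.app U x := fun U x => rfl
  -- transfer of surjectivity between `f.app U` and the restriction
  have htr : ∀ {P Q : Scheme.{u}} (φ : P ⟶ Q) (U : Q.Opens),
      Function.Surjective ((φ.resLE U (φ ⁻¹ᵁ U) le_rfl).app ⊤) ↔ Function.Surjective (φ.app U) := by
    intro P Q φ U
    rw [Scheme.Hom.resLE_app_top, Scheme.Hom.appLE_eq_app]
    have h1 : Function.Bijective (U.topIso.hom) := ConcreteCategory.bijective_of_isIso _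
    have h2 : Function.Bijective ((φ ⁻¹ᵁ U).topIso.inv) := ConcreteCategory.bijective_of_isIso _
    constructor
    · intro h x
      obtain ⟨y, hy⟩ := h ((φ ⁻¹ᵁ U).topIso.inv x)
      exact ⟨U.topIso.hom y, h2.1 hy⟩
    · intro h x
      obtain ⟨x', rfl⟩ := h2.2 x
      obtain ⟨y, rfl⟩ := h x'
      obtain ⟨y', rfl⟩ := h1.2 y
      exact ⟨y', rfl⟩
  suffices hepi : Epi υ by
    intro U' hU' r
    obtain ⟨x, hx⟩ := Groth.Agent.Helper4.QcohEpi.app_surjective_of_epi υ hU' r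
    exact ⟨x, hx⟩
  apply Groth.Agent.Helper4.QcohLocal.epi_of_app_surjective_of_affine_cover
  intro y'
  obtain ⟨V, hV, hyV⟩ := Groth.Agent.Helper4.QcohLimits.exists_affine_nhd (g y')
  obtain ⟨V', hV', hy'V', hV'V⟩ := (TopologicalSpace.Opens.isBasis_iff_nbhd.mp Y'.isBasis_affineOpens)
    (show y' ∈ g ⁻¹ᵁ V from hyV)
  refine ⟨V', hV', hy'V', ?_⟩
  have e : V' ≤ g ⁻¹ᵁ V := hV'V
  have hUY : f' ⁻¹ᵁ V' = g' ⁻¹ᵁ (f ⁻¹ᵁ V) ⊓ f' ⁻¹ᵁ V' :=
    Groth.Agent.Lead.BCMap.preimage_eq_inf f g g' f' hc V V' e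
  have hres := Scheme.Hom.isPullback_resLE hc e (le_refl (f ⁻¹ᵁ V)) hUY
  haveI : IsAffine (V : Scheme) := hV
  haveI : IsAffine (V' : Scheme) := hV'
  have sq : IsPullback (f ⁻¹ᵁ V).ι (f ∣_ V) f V.ι := (isPullback_morphismRestrict f V).flip
  have hfV : f.resLE V (f ⁻¹ᵁ V) le_rfl = f ∣_ V := Scheme.Hom.resLE_eq_morphismRestrict f
  haveI : IsProper (f ∣_ V) := MorphismProperty.of_isPullback sq inferInstance
  have hdV : ∀ x, FlatMor.fibreDimAt (f ∣_ V) x ≤ ((1 : ℕ) : WithBot ℕ∞) := fun x =>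
    (Groth.Agent.S9358.result f V.ι (f ⁻¹ᵁ V).ι (f ∣_ V) sq 1).2.1 hd x
  have hHV : ∀ y : (V : Scheme), Subsingleton (Coh.HH ((f ∣_ V).fiber y)
      (Coh.structureModule ((f ∣_ V).fiber y)) 1) := fun y =>
    Groth.Agent.Lead.TopBC.subsingleton_HH_fiber_of_isPullback' sq y 1
      (by exact_mod_cast hdim (V.ι y)) (hH1 (V.ι y))
  have hsV : Function.Surjective ((f ∣_ V).app ⊤) := by
    rw [← hfV]
    exact (htr f V).2 (hsurj V hV)
  rw [hfV] at hres
  have hmain := Groth.Agent.Lead.TopBC.app_top_surjective_of_isPullback (f ∣_ V) hdV hHV hsV _ _ _ hres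
  have h5 : Function.Surjective (f'.app V') := (htr f' V').1 hmain
  intro r
  obtain ⟨x, hx⟩ := h5 r
  exact ⟨x, hx⟩

end Groth.Agent.S1410
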