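import Groth.Statements.S1411
import Groth.Agent.Helper4.DimOneC
import Groth.Agent.Helper4.IsolFib
import Mathlib

set_option autoImplicit false
universe u
open FlatMor

namespace Groth.Agent.S1411


open AlgebraicGeometry CategoryTheory Limits in
/-- Let f : X → S be locally of finite type with S locally Noetherian, x a point closed in its fibre,
and U an open of X containing a point x' specializing to x with f x' ≠ f x. Then there is a closed
subscheme Z of X passing through x such that Z → S is quasi-finite at x and Z contains a point z ∈ U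
with z ⤳ x and f z ≠ f x. -/
theorem result {X S : Scheme.{u}} (f : X ⟶ S) [LocallyOfFiniteType f] [IsLocallyNoetherian S] (x : X)
    (hcl : IsClosed (Subtype.val ⁻¹' {x} : Set ↑(f ⁻¹' {f x}))) (U : X.Opens) (hx' : ∃ x' : X, x' ∈ U ∧ x' ⤳ x ∧ f x' ≠ f x) :
    ∃ (I : X.IdealSheafData) (z₀ x₀ : ↑I.subscheme), I.subschemeι x₀ = x ∧ (I.subschemeι ≫ f).QuasiFiniteAt x₀ ∧
      I.subschemeι z₀ ∈ U ∧ I.subschemeι z₀ ⤳ x ∧ f (I.subschemeι z₀) ≠ f x := by

  obtain ⟨x', hx'U, hsp, hne⟩ := hx'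
  obtain ⟨z, hzU, hzx, hzf, O, hO, hOeq⟩ :=
    Groth.Agent.Helper4.DimOneC.core f x hcl U x' hx'U hsp hne
  set I : X.IdealSheafData :=
    Scheme.IdealSheafData.vanishingIdeal ⟨closure {z}, isClosed_closure⟩ with hI
  have hrange : Set.range I.subschemeι = closure {z} := by
    rw [Scheme.IdealSheafData.range_subschemeι, hI,
      Scheme.IdealSheafData.coe_support_vanishingIdeal]
    rfl
  obtain ⟨x₀, hx₀⟩ : ∃ x₀ : ↑I.subscheme, I.subschemeι x₀ = x := by
    have : x ∈ Set.range I.subschemeι := by rw [hrange]; exact hzx.mem_closure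
    exact this
  obtain ⟨z₀, hz₀⟩ : ∃ z₀ : ↑I.subscheme, I.subschemeι z₀ = z := by
    have : z ∈ Set.range I.subschemeι := by rw [hrange]; exact subset_closure rfl
    exact this
  refine ⟨I, z₀, x₀, hx₀, ?_, by rw [hz₀]; exact hzU, by rw [hz₀]; exact hzx, by rw [hz₀]; exact hzf⟩
  rw [Groth.Agent.Helper4.IsolFib.quasiFiniteAt_iff]
  refine ⟨I.subschemeι ⁻¹' O, hO.preimage I.subschemeι.continuous, ?_⟩
  ext w
  simp only [Set.mem_inter_iff, Set.mem_preimage, Set.mem_singleton_iff, Scheme.Hom.comp_apply]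
  constructor
  · rintro ⟨hwO, hwf⟩
    rw [hx₀] at hwf
    have h1 : I.subschemeι w ∈ O ∩ (closure {z} ∩ f ⁻¹' {f x}) := by
      refine ⟨hwO, ?_, hwf⟩
      rw [← hrange]; exact ⟨w, rfl⟩
    rw [hOeq] at h1
    have h2 : I.subschemeι w = I.subschemeι x₀ := by rw [hx₀]; exact h1
    exact I.subschemeι.isEmbedding.injective h2
  · rintro rfl
    have h1 : x ∈ O ∩ (closure {z} ∩ f ⁻¹' {f x}) := by rw [hOeq]; rfl
    exact ⟨by rw [hx₀]; exact h1.1, rfl⟩

end Groth.Agent.S1411
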