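import Groth.Statements.S14113
import Groth.Agent.Helper4.AffKD
import Mathlib

set_option autoImplicit false
universe u
open CategoryTheory CategoryTheory.Limits AlgebraicGeometry Opposite TopologicalSpace
attribute [local instance] HasDerivedCategory.standard
open DCoh

namespace Groth.Agent.S14113


/-- Let X be an affine scheme and E a bounded above cochain complex of finite locally free O_X-modules
(a strictly pseudo-coherent complex). Then E is acyclic if and only if the identity of E is null
homotopic. -/
theorem result {X : Scheme.{u}} [IsAffine X]
    (E : CochainComplex X.Modules ℤ) (b : ℤ) (hEb : ∀ i : ℤ, b < i → IsZero (E.X i))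
    (hE : ∀ i : ℤ, FlatMod.IsFinLocFree (E.X i)) :
    E.Acyclic ↔ Nonempty (Homotopy (𝟙 E) 0) := by

  constructor
  · intro hac
    have hEq : ∀ i : ℤ, (E.X i).IsQuasicoherent := fun i =>
      Groth.Agent.Helper4.FinLocFree4.isQuasicoherent_of_isFinLocFree _ (hE i)
    have hbij := Groth.Agent.Helper4.AffKD.bijective_affine E E b hEb hE hEq
    have hz : Limits.IsZero (DerivedCategory.Q.obj E) := by
      apply Groth.Agent.Helper4.SuppLib.isZero_of_homology
      intro i
      have e := (DerivedCategory.homologyFunctorFactors X.Modules i).app E
      exact Limits.IsZero.of_iso ((HomologicalComplex.exactAt_iff_isZero_homology _ _).1 (hac i)) e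
    have h1 : (HomotopyCategory.quotient _ _).map (𝟙 E) = (HomotopyCategory.quotient _ _).map 0 := by
      apply hbij.1
      exact hz.eq_of_src _ _
    exact ⟨HomotopyCategory.homotopyOfEq _ _ h1⟩
  · rintro ⟨h⟩ i
    rw [HomologicalComplex.exactAt_iff_isZero_homology, Limits.IsZero.iff_id_eq_zero]
    have h1 := h.homologyMap_eq i
    rw [HomologicalComplex.homologyMap_id, HomologicalComplex.homologyMap_zero] at h1
    exact h1

end Groth.Agent.S14113
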