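import Groth.Statements.S6034
import Groth.Agent.Lead.HZAffC
import Groth.Agent.Helper9.HZshCrit
import Groth.Agent.Helper1.SerreE

set_option autoImplicit false
universe u
open CategoryTheory CategoryTheory.Limits TopologicalSpace AlgebraicGeometry
open LocCohZ

namespace Groth.Agent.S6034

/-- Let X be a locally Noetherian scheme, Y a closed subset with open complement U, M a coherent
O_X-module with underlying abelian sheaf F and n a natural number. Then ℋ^i_Y(F) = 0 for all i < n
if and only if depth M_x ≥ n for every x ∈ Y. -/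
theorem result (X : Scheme.{u}) [IsLocallyNoetherian X] (U : X.Opens)
    (M : X.Modules) (hM : Coh.IsCoh M) (n : ℕ) :
    (∀ i : ℕ, i < n → IsZero ((LocCohZ.HZsh (X := X.carrier) U i).obj (Coh.toAb M))) ↔
      ∀ x : X, x ∉ (U : Set X) →
        (n : ℕ∞) ≤ LocCoh.depth (X.presheaf.stalk x) (M.presheaf.stalk x) := by
  constructor
  · intro h x hx
    obtain ⟨_, ⟨W, hW, rfl⟩, hxW, -⟩ :=
      X.isBasis_affineOpens.exists_subset_of_mem_open (Set.mem_univ x) isOpen_univ
    have h1 := (Groth.Agent.Helper9.HZshCrit.main (X := X.carrier) U (Coh.toAb M) n).1 h W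
    exact (Groth.Agent.Lead.HZAff.affine_iff U M hM hW n).1 (fun i hi => h1 i hi) x hxW hx
  · intro h i hi
    refine IsZero.of_iso ?_ ((Groth.Agent.Helper9.HZshPsh.HZshIso (X := X.carrier) U i).app (Coh.toAb M))
    change IsZero ((presheafToSheaf (Opens.grothendieckTopology X.carrier) AddCommGrpCat.{u}).obj
      ((Groth.Agent.Helper9.ExtPshDelta.T.{u}
        (Groth.Agent.Helper9.HZshPsh.G (X := X.carrier) (le_top : U ≤ ⊤)) i).obj (Coh.toAb M)))
    apply Groth.Agent.Helper1.Serre.isZero_sheafify_of_basis _ {V | IsAffineOpen V}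
      X.isBasis_affineOpens
    intro V hV
    have h2 := (Groth.Agent.Lead.HZAff.affine_iff U M hM hV n).2 (fun x _ hx => h x hx) i hi
    exact (Groth.Agent.Helper9.HZshVanish.subsingleton_HZ_iff_of_eq (X := X.carrier) (Coh.toAb M) i
      (Groth.Agent.Helper9.HZshVanish.hV U V) (Groth.Agent.Helper9.HZshPsh.hp U V) (inf_comm _ _)
      (top_inf_eq _).symm).1 h2

end Groth.Agent.S6034
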