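import Groth.Statements.S14116
import Groth.Agent.Lead.HZAffD
import Groth.Agent.Lead.PerfLib5
import Groth.Agent.S6034

set_option autoImplicit false
universe u
open CategoryTheory CategoryTheory.Limits AlgebraicGeometry Opposite TopologicalSpace
open LocCohZ

namespace Groth.Agent.S14116

/-- Let X be a locally Noetherian scheme, U ⊆ X open with closed complement Y, d a natural number such
that the depth of O_X along Y is at least d (every local ring O_{X,y}, y ∈ Y, has depth at least d),
and M a finite locally free O_X-module. Then Γ(X, ℋ^d_Y(M)) is isomorphic to H^d_Y(X, M), where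
ℋ^d_Y is the d-th right derived functor of the sheaf of sections with support in Y (applied to the
underlying abelian sheaf of M) and H^d_Y(X, M) is cohomology with support in Y. Existence of an
additive isomorphism only; the published statement asserts a canonical functorial isomorphism that
is linear over the global functions Γ(X, O_X) (obtained in its proof as the edge map of the
local-to-global spectral sequence), and adds that U ↦ H^d_{Y∩U}(U, M), U ⊆ X open, is a sheaf; none
of this is part of this row. (The published statement assumes a flat morphism X → S with
Cohen–Macaulay fibres and relative codimension of Y at least d; these enter only through the depth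
bound, which is the hypothesis of this row.) -/
theorem result (X : Scheme.{u}) [IsLocallyNoetherian X]
    (U : X.Opens) (d : ℕ)
    (hdepth : ∀ x : ↥X, x ∉ (U : Set ↥X) → (d : ℕ∞) ≤ LocCoh.depth ↑(X.presheaf.stalk x) ↑(X.presheaf.stalk x))
    (M : X.Modules) (hM : FlatMod.IsFinLocFree M) :
    Nonempty (↑(((LocCohZ.HZsh (X := X.carrier) U d).obj (Coh.toAb M)).obj.obj (op ⊤)) ≃+ LocCohZ.HZM X M d U) := by
  have hcoh : Coh.IsCoh M := Groth.Agent.Lead.PerfLib.isCoh_of_isFinLocFree hM
  have hz : ∀ q : ℕ, q < d → IsZero ((LocCohZ.HZsh (X := X.carrier) U q).obj (Coh.toAb M)) :=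
    (Groth.Agent.S6034.result X U M hcoh d).2 (fun x hx =>
      (hdepth x hx).trans (Groth.Agent.Lead.HZAff.depth_le_depth_stalk_of_isFinLocFree M hM x))
  exact Groth.Agent.Lead.HZAff.nonempty_sections_addEquiv (X := X.carrier) (Coh.toAb M) U d hz

end Groth.Agent.S14116
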