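import Groth.Statements.S14173
import Groth.Agent.Helper1.SerreVan
import Groth.Agent.Helper1.HHLes3

set_option autoImplicit false
universe u
open CategoryTheory CategoryTheory.Limits AlgebraicGeometry
open Variety

namespace Groth.Agent.S14173

/-- Let k be an algebraically closed field of characteristic zero (the published statement is over the
complex numbers; this row allows any algebraically closed field of characteristic zero) and 0 → F₁ →
F₂ → F₃ → 0 a short exact sequence of coherent modules on P^n_k. If F₁ and F₃ are m-regular then so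
is F₂; equivalently reg F₂ ≤ max(reg F₁, reg F₃). -/
theorem result (k : Type u) [Field k] [IsAlgClosed k] [CharZero k]
    (n : ℕ) (S : ShortComplex (CohB1.ProjSpace n k).Modules) (hS : S.ShortExact)
    (h₁ : Coh.IsCoh S.X₁) (h₂ : Coh.IsCoh S.X₂) (h₃ : Coh.IsCoh S.X₃) (m : ℤ)
    (hreg₁ : Curv2.IsMRegular k n S.X₁ m) (hreg₃ : Curv2.IsMRegular k n S.X₃ m) :
    Curv2.IsMRegular k n S.X₂ m := by
  intro i hi1 hin
  have hB := Groth.Agent.Helper1.SerreVan.isInvertible_twist n k (m - i)
  have hS' := Groth.Agent.Helper1.TwistExact.shortExact_map_tensorRightMod hS _ hB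
  have hex := Groth.Agent.Helper1.HHLes.exact_f_g k _ hS' i
  haveI h1 : Subsingleton (Coh.HH (CohB1.ProjSpace n k)
      (S.map (DCoh.tensorRightMod (Twist.twistProjSpace n k (m - i)))).X₁ i) := hreg₁ i hi1 hin
  haveI h3 : Subsingleton (Coh.HH (CohB1.ProjSpace n k)
      (S.map (DCoh.tensorRightMod (Twist.twistProjSpace n k (m - i)))).X₃ i) := hreg₃ i hi1 hin
  have h0 : ∀ x : Coh.HH (CohB1.ProjSpace n k)
      (S.map (DCoh.tensorRightMod (Twist.twistProjSpace n k (m - i)))).X₂ i, x = 0 := by
    intro x
    obtain ⟨y, rfl⟩ := (hex x).1 (Subsingleton.elim _ _)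
    rw [Subsingleton.elim y 0, map_zero]
  exact ⟨fun x y => (h0 x).trans (h0 y).symm⟩

end Groth.Agent.S14173
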