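import Groth.Statements.S1425
import Groth.Agent.Helper4.WtC
import Mathlib

set_option autoImplicit false
universe u
open FlatMor

namespace Groth.Agent.S1425


open AlgebraicGeometry CategoryTheory Limits in
/-- A weighting of a locally quasi-finite morphism taking positive values is upper semicontinuous on X. -/
theorem result {X Y : Scheme.{u}} (f : X ⟶ Y) [LocallyQuasiFinite f] [LocallyOfFiniteType f] (w : ↑X → ℤ) (hw : MoreMor.IsWeighting f w) (hpos : ∀ x, 0 < w x) :
    UpperSemicontinuous w := by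

  intro x c hc
  obtain ⟨V, g, v, W, z, hg, hgv, hzW, hfin, hzv, hzx, huniq, hsd⟩ :=
    Groth.Agent.Helper4.WtC.exists_piece f x
  have hφ := Groth.Agent.Helper4.WtB.IsWeighting.locConst hw g (pullback.fst f g)
    (pullback.snd f g) (IsPullback.of_hasPullback f g) W hfin
  set φ := Groth.Agent.Helper4.WtA.FI (pullback.snd f g) (w ∘ pullback.fst f g) (W : Set _) with hφdef
  have hφv : φ v = w x := by
    rw [hφdef, Groth.Agent.Helper4.WtC.FI_of_fibre_singleton (pullback.snd f g) _ _ v z hzW hzv huniq,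
      hsd]
    simp [hzx]
  have hN : IsOpen (φ ⁻¹' {φ v}) := hφ.isOpen_fiber _
  have hO : IsOpen ((pullback.fst f g) '' ((W : Set _) ∩ (pullback.snd f g) ⁻¹' (φ ⁻¹' {φ v}))) := by
    apply (pullback.fst f g).isOpenMap
    exact W.2.inter (hN.preimage (pullback.snd f g).continuous)
  have hxO : x ∈ (pullback.fst f g) '' ((W : Set _) ∩ (pullback.snd f g) ⁻¹' (φ ⁻¹' {φ v})) := by
    refine ⟨z, ⟨hzW, ?_⟩, hzx⟩
    show φ (pullback.snd f g z) = φ v
    rw [hzv]
  refine Filter.eventually_of_mem (hO.mem_nhds hxO) ?_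
  rintro x' ⟨z₁, ⟨hz₁W, hz₁N⟩, rfl⟩
  have h1 := Groth.Agent.Helper4.WtC.le_FI_of_pos (pullback.snd f g) (w ∘ pullback.fst f g) (W : Set _)
    (fun z' _ => hpos _) z₁ hz₁W
    (Groth.Agent.Helper4.WtB.finite_fibre_of_isFinite _ W hfin _)
  have h2 : φ (pullback.snd f g z₁) = φ v := hz₁N
  have h3 : w (pullback.fst f g z₁) ≤ w x := by
    calc w (pullback.fst f g z₁) = (w ∘ pullback.fst f g) z₁ := rfl
      _ ≤ φ (pullback.snd f g z₁) := h1
      _ = w x := by rw [h2, hφv]
  exact lt_of_le_of_lt h3 hc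

end Groth.Agent.S1425
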