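import Groth.Statements.S1426
import Groth.Agent.Helper4.WtC
import Groth.Agent.Helper3.QFFibre
import Mathlib

set_option autoImplicit false
universe u
open FlatMor

namespace Groth.Agent.S1426


open AlgebraicGeometry CategoryTheory Limits in
/-- Let f : X → Y be a morphism of schemes which is separated, locally of finite type and locally
quasi-finite with finite fibres (finite fibres are assumed so that the fibre integral is a finite
sum), and let w be a weighting of f with w(x) > 0 for all x. Then the fibre integral of w along f is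
a lower semicontinuous function on Y. -/
theorem result {X Y : Scheme.{u}} (f : X ⟶ Y) [LocallyQuasiFinite f] [LocallyOfFiniteType f] [IsSeparated f] (hfin : ∀ y : Y, (f ⁻¹' {y}).Finite)
    (w : ↑X → ℤ) (hw : MoreMor.IsWeighting f w) (hpos : ∀ x, 0 < w x) :
    LowerSemicontinuous (MoreMor.fibreIntegral f w) := by

  intro y c hc
  obtain ⟨Y', g, y', hg, hgy, _, V, W, hVW, hVfin, hV⟩ :=
    Groth.Agent.Helper3.QFFibre.main f y (hfin y)
  have hφ := Groth.Agent.Helper4.WtB.IsWeighting.locConst hw g (pullback.fst f g)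
    (pullback.snd f g) (IsPullback.of_hasPullback f g) V hVfin
  set ω := w ∘ pullback.fst f g with hω
  set φ := Groth.Agent.Helper4.WtA.FI (pullback.snd f g) ω (V : Set _) with hφdef
  -- decomposition of the fibre integral
  have hdec : ∀ y₁ : Y', MoreMor.fibreIntegral f w (g y₁) =
      φ y₁ + Groth.Agent.Helper4.WtA.FI (pullback.snd f g) ω (W : Set _) y₁ := by
    intro y₁
    have hfib : ((Set.univ : Set X) ∩ f ⁻¹' {g y₁}).Finite := by
      rw [Set.univ_inter]; exact hfin _
    have hfib' := Groth.Agent.Helper4.WtC.finite_fibre_bc (IsPullback.of_hasPullback f g)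
      Set.univ y₁ hfib
    rw [Set.preimage_univ] at hfib'
    rw [Groth.Agent.Helper4.WtA.fibreIntegral_eq_FI,
      ← Groth.Agent.Helper4.WtA.FI_bc (IsPullback.of_hasPullback f g) w Set.univ y₁ hfib,
      Set.preimage_univ]
    have huniv : (Set.univ : Set ↑(pullback f g)) = (V : Set _) ∪ (W : Set _) := by
      have := hVW.sup_eq_top
      rw [← TopologicalSpace.Opens.coe_sup, this]; rfl
    rw [huniv]
    apply Groth.Agent.Helper4.WtC.FI_union
    · rw [Set.disjoint_iff_inter_eq_empty, ← TopologicalSpace.Opens.coe_inf, hVW.inf_eq_bot]; rfl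
    · exact hfib'.subset (Set.inter_subset_inter_left _ (Set.subset_univ _))
    · exact hfib'.subset (Set.inter_subset_inter_left _ (Set.subset_univ _))
  have hW0 : Groth.Agent.Helper4.WtA.FI (pullback.snd f g) ω (W : Set _) y' = 0 := by
    apply Groth.Agent.Helper4.WtC.FI_empty_fibre
    ext z
    simp only [Set.mem_inter_iff, SetLike.mem_coe, Set.mem_preimage, Set.mem_singleton_iff,
      Set.mem_empty_iff_false, iff_false, not_and]
    intro hzW hzy
    have hzV := hV z hzy
    have : z ∈ V ⊓ W := ⟨hzV, hzW⟩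
    rw [hVW.inf_eq_bot] at this
    exact this
  have hy : MoreMor.fibreIntegral f w y = φ y' := by
    rw [← hgy, hdec y', hW0, add_zero]
  have hN : IsOpen (φ ⁻¹' {φ y'}) := hφ.isOpen_fiber _
  have hO : IsOpen (g '' (φ ⁻¹' {φ y'})) := g.isOpenMap _ hN
  have hyO : y ∈ g '' (φ ⁻¹' {φ y'}) := ⟨y', rfl, hgy⟩
  refine Filter.eventually_of_mem (hO.mem_nhds hyO) ?_
  rintro _ ⟨y₁, hy₁, rfl⟩
  have h1 : φ y₁ = φ y' := hy₁
  have h2 : 0 ≤ Groth.Agent.Helper4.WtA.FI (pullback.snd f g) ω (W : Set _) y₁ :=
    Groth.Agent.Helper4.WtC.FI_nonneg _ _ _ _ (fun z _ => (hpos _).le)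
  rw [hdec y₁, h1, ← hy]
  linarith

end Groth.Agent.S1426
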