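import Groth.Statements.S14276
import Mathlib
import Groth.Agent.Helper9.TorsorProps
import Groth.Agent.S0412

set_option autoImplicit false
universe u
open CategoryTheory AlgebraicGeometry
open NonAbH1

namespace Groth.Agent.S14276

/-- Let X be a scheme and G a group scheme over X which is smooth over X. Then every G-torsor for the
fppf topology is locally trivial for the étale topology on X. Here a torsor is an X-scheme with an
action of G which is a pseudo-torsor and acquires sections on the members of some fppf covering
family of X, and the conclusion says that it acquires sections on the members of some étale covering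
family of X. (The published statement is about torsors in the sense of fppf sheaves; this row states
it for torsors that are schemes.) -/
theorem result {X : Scheme.{u}}
    (G : Over X) [GrpObj G] [Smooth G.hom] (P : Over X) (a : AlgGrp.Action G P)
    (h : NonAbH1.IsTorsorFor Scheme.fppfPrecoverage a) :
    NonAbH1.IsLocallyTrivialFor Scheme.etalePrecoverage P := by
  classical
  have hY' : NonAbH1.IsTorsorFor Scheme.fpqcPrecoverage a := by
    obtain ⟨h1, R, hR, hsec⟩ := h
    exact ⟨h1, R, Scheme.fppfPrecoverage_le_fpqcPrecoverage _ hR, hsec⟩
  haveI hsm : Smooth P.hom := Groth.Agent.Helper9.TorsorProps.smooth a hY' inferInstance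
  have hsurj : Surjective P.hom := Groth.Agent.Helper9.TorsorProps.surjective a hY'
  have key : ∀ x : X, ∃ (S' : Scheme.{u}) (g : S' ⟶ X) (s' : S'), Etale g ∧ g s' = x ∧
      ∃ t : S' ⟶ P.left, t ≫ P.hom = g := fun x =>
    Groth.Agent.S0412.result P.hom x (hsurj.surj x)
  choose S' g s' hg hgs t ht using key
  refine ⟨Presieve.ofArrows S' g, ?_, ?_⟩
  · show Presieve.ofArrows S' g ∈ Scheme.precoverage @Etale X
    rw [Scheme.ofArrows_mem_precoverage_iff]
    exact ⟨fun x => ⟨x, s' x, hgs x⟩, hg⟩
  · intro T f hf
    obtain ⟨x⟩ := hf
    exact ⟨t x, ht x⟩

end Groth.Agent.S14276
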