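import Groth.Statements.S1428
import Groth.Agent.Helper4.WtG
import Mathlib

set_option autoImplicit false
universe u
open FlatMor

namespace Groth.Agent.S1428


open AlgebraicGeometry CategoryTheory Limits in
/-- Let f : X → Y be separated, locally of finite type and locally quasi-finite with finite fibres, w a
positive weighting of f, and suppose the fibre integral of w is at most d at every point of Y and
equals d at some point. Then the set Y_d of points where the integral equals d is open and the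
restriction of f over Y_d is finite. (Finiteness of the fibres, which makes the fibre integral a
finite sum, is carried here as an explicit hypothesis.) -/
theorem result {X Y : Scheme.{u}} (f : X ⟶ Y) [LocallyQuasiFinite f] [LocallyOfFiniteType f] [IsSeparated f] (hfin : ∀ y : Y, (f ⁻¹' {y}).Finite)
    (w : ↑X → ℤ) (hw : MoreMor.IsWeighting f w) (hpos : ∀ x, 0 < w x) (d : ℤ)
    (hmax : ∀ y : Y, MoreMor.fibreIntegral f w y ≤ d) (hatt : ∃ y : Y, MoreMor.fibreIntegral f w y = d) :
    ∃ hYd : IsOpen {y : ↑Y | MoreMor.fibreIntegral f w y = d}, IsFinite (f ∣_ ⟨{y : ↑Y | MoreMor.fibreIntegral f w y = d}, hYd⟩) := by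

  have hYd : IsOpen {y : ↑Y | MoreMor.fibreIntegral f w y = d} := by
    rw [isOpen_iff_mem_nhds]
    intro y hy
    obtain ⟨O, hyO, hO, _⟩ :=
      Groth.Agent.Helper4.WtG.exists_finite_nbhd f hfin w hw hpos d hmax y hy
    exact Filter.mem_of_superset (O.2.mem_nhds hyO) (fun y₁ h => hO y₁ h)
  refine ⟨hYd, ?_⟩
  apply IsZariskiLocalAtTarget.of_forall_exists_morphismRestrict (P := @IsFinite)
  intro yd
  obtain ⟨O, hyO, hO, hfinO⟩ :=
    Groth.Agent.Helper4.WtG.exists_finite_nbhd f hfin w hw hpos d hmax yd.1 yd.2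
  set Yd : Y.Opens := ⟨{y : ↑Y | MoreMor.fibreIntegral f w y = d}, hYd⟩ with hYdd
  refine ⟨Yd.ι ⁻¹ᵁ O, hyO, ?_⟩
  rw [MorphismProperty.arrow_mk_iso_iff @IsFinite (morphismRestrictRestrict f Yd (Yd.ι ⁻¹ᵁ O))]
  have heq : Yd.ι ''ᵁ (Yd.ι ⁻¹ᵁ O) = O := by
    rw [Scheme.Hom.image_preimage_eq_opensRange_inf, Scheme.Opens.opensRange_ι]
    exact inf_eq_right.mpr (fun y₁ h => hO y₁ h)
  rw [heq]
  exact hfinO

end Groth.Agent.S1428
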