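import Groth.Statements.S14294
import Mathlib
import Groth.Agent.Helper7.PtDeg

set_option autoImplicit false
universe u v
open PtDeg

namespace Groth.Agent.S14294

/-- Let A and G be abelian groups, written additively, and f : A → G a map which is pointed of degree 2,
that is f(x+y+z) + f(x) + f(y) + f(z) = f(x+y) + f(x+z) + f(y+z) for all x, y, z in A. If an integer
n satisfies n·x = 0 for every x in A, then 2n·f(x) = 0 for every x in A, and if moreover n is odd
then n·f(x) = 0 for every x in A. -/
theorem result {A : Type u} {G : Type v} [AddCommGroup A] [AddCommGroup G]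
    (f : A → G) (hf : ∀ x y z : A, f (x + y + z) + f x + f y + f z = f (x + y) + f (x + z) + f (y + z))
    (n : ℤ) (hn : ∀ x : A, n • x = 0) :
    (∀ x : A, (2 * n) • f x = 0) ∧ (Odd n → ∀ x : A, n • f x = 0) := by
  have h0 := Groth.Agent.Helper7.ptdeg_zero f hf
  have key : ∀ x : A, n • f x - n • f (-x) = 0 ∧ n • f x + n • f (-x) = 0 := by
    intro x
    obtain ⟨b, hb⟩ : ∃ b : ℤ, 2 * b = n * (n - 1) := by
      obtain ⟨r, hr⟩ := Int.even_mul_succ_self (n - 1)
      exact ⟨r, by rw [sub_add_cancel] at hr; linarith⟩
    have H1 := Groth.Agent.Helper7.ptdeg_formula f hf x n (b + n) b (by linarith) hb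
    have H2 := Groth.Agent.Helper7.ptdeg_formula f hf (-x) n (b + n) b (by linarith) hb
    have H3 := Groth.Agent.Helper7.ptdeg_formula f hf x (n + 1) (b + n + n + 1) (b + n) (by linarith) (by linarith)
    rw [hn, h0] at H1 H2
    rw [neg_neg] at H2
    have e : (n + 1) • x = x := by
      rw [add_smul, hn, zero_add, one_smul]
    rw [e] at H3
    constructor
    · linear_combination (norm := module) H2 - H1
    · linear_combination (norm := module) H1 - H3
  refine ⟨fun x => ?_, fun hodd x => ?_⟩
  · obtain ⟨k1, k2⟩ := key x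
    linear_combination (norm := module) k1 + k2
  · obtain ⟨k1, k2⟩ := key x
    obtain ⟨m, hm⟩ := hodd
    obtain ⟨b, hb⟩ : ∃ b : ℤ, 2 * b = n * (n - 1) := by
      obtain ⟨r, hr⟩ := Int.even_mul_succ_self (n - 1)
      exact ⟨r, by rw [sub_add_cancel] at hr; linarith⟩
    have H1 := Groth.Agent.Helper7.ptdeg_formula f hf x n (b + n) b (by linarith) hb
    rw [hn, h0] at H1
    have hbm : b = (2 * m + 1) * m := by
      subst hm
      have : 2 * b = 2 * ((2 * m + 1) * m) := by rw [hb]; ring
      linarith
    subst hm
    subst hbm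
    linear_combination (norm := module) (-1 : ℤ) • H1 - m • k2

end Groth.Agent.S14294
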