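import Groth.Statements.S1431
import Groth.Agent.Helper1.SS11

set_option autoImplicit false
universe u
open FlatMor

namespace Groth.Agent.S1431

open AlgebraicGeometry CategoryTheory Limits in
/-- Let f : X → S be flat, proper and of finite presentation such that for every base change p : X_T → T
the map O_T → p_* O_{X_T} is an isomorphism, and let E be a finite locally free O_X-module. Then
some immersion j : Z → S of finite presentation has the property that a morphism g : T → S factors
through j exactly when the pullback of E to X_T is isomorphic to the pullback along p of some finite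
locally free O_T-module. -/
theorem result {X S : Scheme.{u}} (f : X ⟶ S) [Flat f] [IsProper f] [LocallyOfFinitePresentation f]
    (hO : ∀ (T : Scheme.{u}) (g : T ⟶ S) (U : T.Opens), IsIso ((pullback.snd f g).app U))
    (E : X.Modules) (hE : FlatMod.IsFinLocFree E) :
    ∃ (Z : Scheme.{u}) (j : Z ⟶ S), IsImmersion j ∧ LocallyOfFinitePresentation j ∧
      ∀ (T : Scheme.{u}) (g : T ⟶ S), (∃ g' : T ⟶ Z, g' ≫ j = g) ↔
        ∃ N : T.Modules, FlatMod.IsFinLocFree N ∧
          Nonempty ((Scheme.Modules.pullback (pullback.snd f g)).obj N ≅ (Scheme.Modules.pullback (pullback.fst f g)).obj E) := by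
  have h : ∀ s : S, IsIso (f.fiberToSpecResidueField s).appTop :=
    fun s => hO _ (S.fromSpecResidueField s) ⊤
  obtain ⟨Z, j, himm, hlfp, -, hUP⟩ := Groth.Agent.Helper1.SS.assemble f h E hE
    (fun r => (Groth.Agent.Helper1.SS.nonempty_rankPiece f h E hE r).some)
  refine ⟨Z, j, himm, hlfp, fun T g => ?_⟩
  rw [hUP g (pullback.snd f g) (pullback.fst f g) (IsPullback.of_hasPullback f g)]
  constructor
  · rintro ⟨N, hN, ⟨θ⟩⟩
    exact ⟨N, hN, ⟨θ.symm⟩⟩
  · rintro ⟨N, hN, ⟨θ⟩⟩
    exact ⟨N, hN, ⟨θ.symm⟩⟩

end Groth.Agent.S1431
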