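import Groth.Statements.S1432
import Mathlib

set_option autoImplicit false
universe u
open FlatMor

namespace Groth.Agent.S1432

open AlgebraicGeometry CategoryTheory Limits in
theorem appTop_specMap_injective {A B : CommRingCat.{u}} (φ : A ⟶ B)
    (hφ : Function.Injective φ.hom) : Function.Injective (Spec.map φ).appTop.hom := by
  have h1 := Scheme.ΓSpecIso_naturality φ
  have h2 : (Spec.map φ).appTop = (Scheme.ΓSpecIso A).hom ≫ φ ≫ (Scheme.ΓSpecIso B).inv := by
    rw [← Category.assoc, ← h1, Category.assoc, Iso.hom_inv_id, Category.comp_id]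
  rw [h2]
  simp only [CommRingCat.hom_comp, RingHom.coe_comp]
  exact ((ConcreteCategory.bijective_of_isIso (Scheme.ΓSpecIso B).inv).1.comp hφ).comp
    (ConcreteCategory.bijective_of_isIso (Scheme.ΓSpecIso A).hom).1

open AlgebraicGeometry CategoryTheory Limits in
theorem forward {X Y : Scheme.{u}} (f : X ⟶ Y) [IsClosedImmersion f]
    (A B : CommRingCat.{u}) (φ : A ⟶ B) (hφ : Function.Injective φ.hom)
    (a : Spec B ⟶ X) (b : Spec A ⟶ Y) (comm : Spec.map φ ≫ b = a ≫ f) :
    ∃ l : Spec A ⟶ X, Spec.map φ ≫ l = a ∧ l ≫ f = b := by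
  let g := pullback.snd f b
  let c : Spec B ⟶ pullback f b := pullback.lift a (Spec.map φ) comm.symm
  have hc : c ≫ g = Spec.map φ := pullback.lift_snd _ _ _
  have hinj : Function.Injective g.appTop.hom := by
    have h1 : (Spec.map φ).appTop = g.appTop ≫ c.appTop := by
      rw [← hc, Scheme.Hom.comp_appTop]
    have h2 := appTop_specMap_injective φ hφ
    rw [h1] at h2
    simp only [CommRingCat.hom_comp, RingHom.coe_comp] at h2
    exact h2.of_comp
  have hiso : IsIso g := IsClosedImmersion.isIso_of_injective_of_isAffine hinj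
  refine ⟨inv g ≫ pullback.fst f b, ?_, ?_⟩
  · rw [← hc, Category.assoc, IsIso.hom_inv_id_assoc]
    exact pullback.lift_fst _ _ _
  · rw [Category.assoc, pullback.condition, IsIso.inv_hom_id_assoc]


open AlgebraicGeometry CategoryTheory Limits MorphismProperty in
/-- a monomorphism which has sections over an open cover of the target is an isomorphism -/
theorem isIso_of_mono_of_local_sections {Z X : Scheme.{u}} (l : Z ⟶ X) [Mono l] (𝒰 : X.OpenCover)
    (j : ∀ i, 𝒰.X i ⟶ Z) (hj : ∀ i, j i ≫ l = 𝒰.f i) : IsIso l := by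
  change isomorphisms Scheme l
  rw [IsZariskiLocalAtTarget.iff_of_openCover (P := isomorphisms Scheme) 𝒰]
  intro i
  change IsIso (pullback.snd l (𝒰.f i))
  let s : 𝒰.X i ⟶ pullback l (𝒰.f i) := pullback.lift (j i) (𝟙 _) (by rw [hj, Category.id_comp])
  have hs : s ≫ pullback.snd l (𝒰.f i) = 𝟙 _ := pullback.lift_snd _ _ _
  have : IsSplitEpi (pullback.snd l (𝒰.f i)) := ⟨⟨s, hs⟩⟩
  exact isIso_of_mono_of_isSplitEpi _


open AlgebraicGeometry CategoryTheory Limits in
/-- the lifting property, for `CommRingCat` objects -/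
def LP {X Y : Scheme.{u}} (f : X ⟶ Y) : Prop :=
  ∀ (A B : CommRingCat.{u}) (φ : A ⟶ B), Function.Injective φ.hom →
    ∀ (a : Spec B ⟶ X) (b : Spec A ⟶ Y), Spec.map φ ≫ b = a ≫ f →
      ∃ l : Spec A ⟶ X, Spec.map φ ≫ l = a ∧ l ≫ f = b

open AlgebraicGeometry CategoryTheory Limits in
theorem lp_of {X Y : Scheme.{u}} (f : X ⟶ Y)
    (h : ∀ (A B : Type u) [CommRing A] [CommRing B] (φ : A →+* B), Function.Injective φ →
      ∀ (a : Spec (CommRingCat.of B) ⟶ X) (b : Spec (CommRingCat.of A) ⟶ Y), Spec.map (CommRingCat.ofHom φ) ≫ b = a ≫ f →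
        ∃ l : Spec (CommRingCat.of A) ⟶ X, Spec.map (CommRingCat.ofHom φ) ≫ l = a ∧ l ≫ f = b) :
    LP f := by
  intro A B φ hφ a b comm
  exact h A B φ.hom hφ a b comm

open AlgebraicGeometry CategoryTheory Limits in
theorem affine_case {X Y : Scheme.{u}} (f : X ⟶ Y) [IsAffine Y] [CompactSpace X] (h : LP f) :
    IsClosedImmersion f := by
  let 𝒰 : X.OpenCover := X.affineCover.finiteSubcover
  let W : Scheme.{u} := ∐ (fun i : 𝒰.I₀ ↦ 𝒰.X i)
  let a' : W ⟶ X := Sigma.desc (fun i ↦ 𝒰.f i)
  have : IsAffine W := inferInstance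
  let ψ : Γ(Y, ⊤) ⟶ Γ(W, ⊤) := (a' ≫ f).appTop
  let A' : CommRingCat.{u} := CommRingCat.of (Γ(Y, ⊤) ⧸ RingHom.ker ψ.hom)
  let φ : A' ⟶ Γ(W, ⊤) := CommRingCat.ofHom (RingHom.kerLift ψ.hom)
  let π : Γ(Y, ⊤) ⟶ A' := CommRingCat.ofHom (Ideal.Quotient.mk (RingHom.ker ψ.hom))
  have hπφ : π ≫ φ = ψ := by
    ext x
    rfl
  have hφ : Function.Injective φ.hom := RingHom.kerLift_injective ψ.hom
  let b : Spec A' ⟶ Y := Spec.map π ≫ Y.isoSpec.inv
  have hb : IsClosedImmersion b := by
    have : IsClosedImmersion (Spec.map π) :=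
      IsClosedImmersion.spec_of_surjective π Ideal.Quotient.mk_surjective
    infer_instance
  let a : Spec Γ(W, ⊤) ⟶ X := W.isoSpec.inv ≫ a'
  have comm : Spec.map φ ≫ b = a ≫ f := by
    change Spec.map φ ≫ Spec.map π ≫ Y.isoSpec.inv = (W.isoSpec.inv ≫ a') ≫ f
    rw [← Category.assoc, ← Spec.map_comp, hπφ, Category.assoc,
      ← Scheme.isoSpec_inv_naturality (a' ≫ f)]
  obtain ⟨l, hl1, hl2⟩ := h A' Γ(W, ⊤) φ hφ a b comm
  have hmono : Mono l := by
    have : Mono (l ≫ f) := by rw [hl2]; infer_instance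
    exact mono_of_mono l f
  have hiso : IsIso l := by
    refine isIso_of_mono_of_local_sections l 𝒰
      (fun i => Sigma.ι (fun i : 𝒰.I₀ ↦ 𝒰.X i) i ≫ W.isoSpec.hom ≫ Spec.map φ) ?_
    intro i
    rw [Category.assoc, Category.assoc, hl1]
    change Sigma.ι _ i ≫ W.isoSpec.hom ≫ W.isoSpec.inv ≫ a' = _
    rw [Iso.hom_inv_id_assoc]
    exact Sigma.ι_desc _ _
  have hf : f = inv l ≫ b := by rw [← hl2, IsIso.inv_hom_id_assoc]
  rw [hf]
  infer_instance

open AlgebraicGeometry CategoryTheory Limits in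
theorem lp_baseChange {X Y Y' : Scheme.{u}} (f : X ⟶ Y) (g : Y' ⟶ Y) (h : LP f) :
    LP (pullback.snd f g) := by
  intro A B φ hφ a b comm
  obtain ⟨l₀, h1, h2⟩ := h A B φ hφ (a ≫ pullback.fst f g) (b ≫ g) (by
    rw [← Category.assoc, comm, Category.assoc, Category.assoc, pullback.condition])
  refine ⟨pullback.lift l₀ b h2, ?_, pullback.lift_snd _ _ _⟩
  apply pullback.hom_ext
  · rw [Category.assoc, pullback.lift_fst, h1]
  · rw [Category.assoc, pullback.lift_snd, comm]

open AlgebraicGeometry CategoryTheory Limits in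
theorem backward {X Y : Scheme.{u}} (f : X ⟶ Y) [QuasiCompact f] (h : LP f) :
    IsClosedImmersion f := by
  rw [IsZariskiLocalAtTarget.iff_of_openCover (P := @IsClosedImmersion) Y.affineCover]
  intro i
  have h1 : LP (pullback.snd f (Y.affineCover.f i)) := lp_baseChange f _ h
  have : QuasiCompact (pullback.snd f (Y.affineCover.f i)) := inferInstance
  have : CompactSpace ↥(pullback f (Y.affineCover.f i)) :=
    QuasiCompact.compactSpace_of_compactSpace (pullback.snd f (Y.affineCover.f i))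
  change IsClosedImmersion (pullback.snd f (Y.affineCover.f i))
  exact affine_case _ h1

open AlgebraicGeometry CategoryTheory Limits in
/-- For a quasi-compact morphism f : X → Y, being a closed immersion is equivalent to the following
lifting property: for each injective ring map A → B and each commutative square with Spec B → X on
top and Spec A → Y at the bottom there is a lift Spec A → X making both triangles commute. -/
theorem result {X Y : Scheme.{u}} (f : X ⟶ Y) [QuasiCompact f] :
    IsClosedImmersion f ↔ ∀ (A B : Type u) [CommRing A] [CommRing B] (φ : A →+* B), Function.Injective φ →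
      ∀ (a : Spec (CommRingCat.of B) ⟶ X) (b : Spec (CommRingCat.of A) ⟶ Y), Spec.map (CommRingCat.ofHom φ) ≫ b = a ≫ f →
        ∃ l : Spec (CommRingCat.of A) ⟶ X, Spec.map (CommRingCat.ofHom φ) ≫ l = a ∧ l ≫ f = b := by
  constructor
  · intro hf A B _ _ φ hφ a b comm
    exact forward f (CommRingCat.of A) (CommRingCat.of B) (CommRingCat.ofHom φ) hφ a b comm
  · intro h
    exact backward f (lp_of f h)

end Groth.Agent.S1432
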