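import Groth.Statements.S14332
import Groth.Agent.Helper1.CIMV3

set_option autoImplicit false
universe u
open CategoryTheory CategoryTheory.Limits AlgebraicGeometry
open Coherent

namespace Groth.Agent.S14332

/-- Let k be a field, r ≤ n, and G_1, …, G_r homogeneous forms of positive degrees in the homogeneous
coordinates of P = P^n_k whose common zero scheme X = V(G_1, …, G_r), with its closed immersion ι :
X → P, has dimension n − r, so that X is a global complete intersection in P. Then H^p(X, ι^*O(i))
vanishes for every integer i and every p with 0 < p < n − r. -/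
theorem result (k : Type u) [Field k] (n r : ℕ) (hr : r ≤ n) (a : Fin r → ℕ) (ha : ∀ j, 1 ≤ a j) (G : ∀ j : Fin r, LefPen.Form n k (a j)) (hdim : topologicalKrullDim ↥(LefPen.ciIdeal G).subscheme = ((n - r : ℕ) : WithBot ℕ∞)) (i : ℤ) (p : ℕ) (hp : 0 < p) (hpn : p < n - r) : Subsingleton (Coh.HH (LefPen.ciIdeal G).subscheme ((Scheme.Modules.pullback (LefPen.ciIdeal G).subschemeι).obj (Twist.twistProjSpace n k i)) p) := by
  classical
  set I := LefPen.ciIdeal G with hI
  letI : I.subscheme.Over (Spec (CommRingCat.of k)) :=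
    ⟨I.subschemeι ≫ CohB1.ProjSpace.toSpec n k⟩
  haveI : Coh.IsQCoh ((Scheme.Modules.pullback I.subschemeι).obj (Twist.twistProjSpace n k i)) :=
    (Groth.Agent.Helper1.Dev.isCoh_pullback I.subschemeι _
      (Groth.Agent.Helper1.SerreFin.isCoh_twist n k i)).1
  obtain ⟨σ, -⟩ := Groth.Agent.Helper1.AffLin.exists_HH_linearEquiv_end I.subschemeι k
    (show I.subschemeι ≫ (CohB1.ProjSpace n k ↘ Spec (CommRingCat.of k)) = _ from rfl)
    ((Scheme.Modules.pullback I.subschemeι).obj (Twist.twistProjSpace n k i)) p
  have hiso : IsIso (Groth.Agent.Helper1.PF.projMap I.subschemeι (Coh.structureModule I.subscheme)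
      (Twist.twistProjSpace n k i)) :=
    Groth.Agent.Helper9.ClImmPF1.isIso_projMap I.subschemeι _ _
  let e : CohB1.tensorMod (ClSub.quotMod I) (Twist.twistProjSpace n k i) ≅
      (Scheme.Modules.pushforward I.subschemeι).obj
        ((Scheme.Modules.pullback I.subschemeι).obj (Twist.twistProjSpace n k i)) :=
    @asIso _ _ _ _ (Groth.Agent.Helper1.PF.projMap I.subschemeι (Coh.structureModule I.subscheme)
      (Twist.twistProjSpace n k i)) hiso ≪≫
    (Scheme.Modules.pushforward I.subschemeι).mapIso
      (Groth.Agent.Helper4.AmpleBasis.unitorL _)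
  have h1 := Groth.Agent.Helper1.CIMV.subsingleton_HH_quotMod G hr ha hdim.le i p hp (by omega)
  haveI h2 : Subsingleton (Coh.HH (CohB1.ProjSpace n k)
      ((Scheme.Modules.pushforward I.subschemeι).obj
        ((Scheme.Modules.pullback I.subschemeι).obj (Twist.twistProjSpace n k i))) p) :=
    Groth.Agent.Helper1.CIMV.subsingleton_of_iso k e.symm p h1
  exact σ.toEquiv.subsingleton

end Groth.Agent.S14332
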