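import Groth.Statements.S14333
import Groth.Agent.Helper1.CIMV3

set_option autoImplicit false
universe u
open CategoryTheory CategoryTheory.Limits AlgebraicGeometry Opposite
open Coherent

namespace Groth.Agent.S14333

/-- Let k be a field, r ≤ n, and G_1, …, G_r homogeneous forms of positive degrees in the homogeneous
coordinates of P = P^n_k whose common zero scheme X = V(G_1, …, G_r), with its closed immersion ι :
X → P, has dimension n − r, so that X is a global complete intersection in P. Assume n − r ≥ 1. Then
for every integer i the restriction map H^0(P, O(i)) → H^0(X, ι^*O(i)) is surjective; it is written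
here as the map on global sections of the unit O(i) → ι_*ι^*O(i) of the adjunction between ι^* and
ι_*, whose target is the module of global sections of ι^*O(i). -/
theorem result (k : Type u) [Field k] (n r : ℕ) (hr : r ≤ n) (a : Fin r → ℕ) (ha : ∀ j, 1 ≤ a j) (G : ∀ j : Fin r, LefPen.Form n k (a j)) (hdim : topologicalKrullDim ↥(LefPen.ciIdeal G).subscheme = ((n - r : ℕ) : WithBot ℕ∞)) (h1 : 1 ≤ n - r) (i : ℤ) : Function.Surjective (((Scheme.Modules.pullbackPushforwardAdjunction (LefPen.ciIdeal G).subschemeι).unit.app (Twist.twistProjSpace n k i)).val.app (op ⊤)) := by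
  classical
  set I := LefPen.ciIdeal G with hI
  set L := Twist.twistProjSpace n k i with hL
  -- the unit through the projection morphism
  have hunit := Groth.Agent.Helper1.CIMV.unitorL_hom_comp_η I.subschemeι L
  have hiso : IsIso (Groth.Agent.Helper1.PF.projMap I.subschemeι (Coh.structureModule I.subscheme)
      L) := Groth.Agent.Helper9.ClImmPF1.isIso_projMap I.subschemeι _ _
  -- bijectivity of isomorphisms on sections
  have hbij : ∀ {A B : (CohB1.ProjSpace n k).Modules} (φ : A ⟶ B), IsIso φ →
      Function.Surjective (φ.app ⊤) := by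
    intro A B φ hφ c
    refine ⟨(inv φ).app ⊤ c, ?_⟩
    have := congrArg (fun ψ => (Scheme.Modules.Hom.app ψ ⊤) c) (IsIso.inv_hom_id φ)
    exact this
  have hs1 := Groth.Agent.Helper1.CIMV.surjective_app_top G hr ha hdim.le (by omega) i
  have hη : Groth.Agent.Helper4.PullTensor.η I.subschemeι L =
      (Groth.Agent.Helper4.AmpleBasis.unitorL L).inv ≫
      KoszTw.tensorMap (ClSub.unitToPush I.subschemeι) (𝟙 L) ≫
        Groth.Agent.Helper1.PF.projMap I.subschemeι (Coh.structureModule I.subscheme) L ≫
          (Scheme.Modules.pushforward I.subschemeι).map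
            (Groth.Agent.Helper4.AmpleBasis.unitorL
              ((Scheme.Modules.pullback I.subschemeι).obj L)).hom := by
    rw [← hunit, Iso.inv_hom_id_assoc]
  have hsurj : Function.Surjective ((Groth.Agent.Helper4.PullTensor.η I.subschemeι L).app ⊤) := by
    rw [hη]
    intro c
    obtain ⟨c₃, h₃⟩ := hbij ((Scheme.Modules.pushforward I.subschemeι).map
      (Groth.Agent.Helper4.AmpleBasis.unitorL
        ((Scheme.Modules.pullback I.subschemeι).obj L)).hom) inferInstance c
    obtain ⟨c₂, h₂⟩ := hbij _ hiso c₃
    obtain ⟨c₁, h₁⟩ := hs1 c₂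
    obtain ⟨c₀, h₀⟩ := hbij (Groth.Agent.Helper4.AmpleBasis.unitorL L).inv inferInstance c₁
    refine ⟨c₀, ?_⟩
    rw [← h₃, ← h₂, ← h₁, ← h₀]
    rfl
  exact hsurj

end Groth.Agent.S14333
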