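import Groth.Statements.S14335
import Groth.Agent.Helper1.Hyp9
import Groth.Agent.Helper6.ProjDim5

set_option autoImplicit false
universe u
open CategoryTheory CategoryTheory.Limits AlgebraicGeometry
open Coherent

namespace Groth.Agent.S14335

/-- Let k be a field, r ≤ n, and G_1, …, G_r homogeneous forms of positive degrees in the homogeneous
coordinates of P = P^n_k whose common zero scheme X = V(G_1, …, G_r), with its closed immersion ι :
X → P, has dimension n − r, so that X is a global complete intersection in P. Then X is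
equidimensional: every irreducible component of X, with the subspace topology, has dimension exactly
n − r. -/
theorem result (k : Type u) [Field k] (n r : ℕ) (hr : r ≤ n) (a : Fin r → ℕ) (ha : ∀ j, 1 ≤ a j) (G : ∀ j : Fin r, LefPen.Form n k (a j)) (hdim : topologicalKrullDim ↥(LefPen.ciIdeal G).subscheme = ((n - r : ℕ) : WithBot ℕ∞)) (Z : Set ↥(LefPen.ciIdeal G).subscheme) (hZ : Z ∈ irreducibleComponents ↥(LefPen.ciIdeal G).subscheme) : topologicalKrullDim ↥Z = ((n - r : ℕ) : WithBot ℕ∞) := by
  classical
  set J : Ideal (MvPolynomial (Fin (n + 1)) k) :=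
    Ideal.span (Set.range fun j : Fin r => (G j).1) with hJ
  have hJh : J.IsHomogeneous (MvPolynomial.homogeneousSubmodule (Fin (n + 1)) k) := by
    apply Ideal.homogeneous_span
    rintro _ ⟨j, rfl⟩
    exact ⟨a j, (G j).2⟩
  have hS := Groth.Agent.Helper1.Hyp.support_ciIdeal G
  obtain ⟨Q, hQmin, -, hQdim⟩ :=
    Groth.Agent.Helper6.ProjDim.exists_minimalPrime_of_mem_irreducibleComponents J hJh
      ((LefPen.ciIdeal G).support : Set (CohB1.ProjSpace n k)) hS Z hZ
  set s : Finset (MvPolynomial (Fin (n + 1)) k) :=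
    Finset.univ.image (fun j : Fin r => (G j).1) with hs
  have hscoe : (s : Set (MvPolynomial (Fin (n + 1)) k)) = Set.range fun j : Fin r => (G j).1 := by
    rw [hs, Finset.coe_image, Finset.coe_univ, Set.image_univ]
  haveI : (⊥ : Ideal (MvPolynomial (Fin (n + 1)) k)).IsPrime := Ideal.isPrime_bot
  have hdrop := Groth.Agent.Helper6.ProjDim.dim_drop_le (⊥ : Ideal (MvPolynomial (Fin (n + 1)) k))
    s Q (by rw [bot_sup_eq, hscoe]; exact hQmin)
  rw [Groth.Agent.Helper6.ProjDim.dim_quot_bot, ← hQdim] at hdrop
  have hdrop' : ((n + 1 : ℕ) : WithBot ℕ∞) ≤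
      topologicalKrullDim ↥Z + 1 + (s.card : WithBot ℕ∞) := hdrop
  have hcard : s.card ≤ r := by
    refine Finset.card_image_le.trans ?_
    simp
  have hle : topologicalKrullDim ↥Z ≤ ((n - r : ℕ) : WithBot ℕ∞) := by
    rw [← hdim]
    exact topologicalKrullDim_subspace_le _ Z
  obtain ⟨m, hm⟩ : ∃ m : ℕ, topologicalKrullDim ↥Z = (m : WithBot ℕ∞) := by
    cases hx : topologicalKrullDim ↥Z with
    | bot =>
      rw [hx, WithBot.bot_add, WithBot.bot_add] at hdrop'
      exact absurd hdrop' (by simp)
    | coe x =>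
      cases hx' : x with
      | top =>
        rw [hx, hx'] at hle
        exact absurd hle (by
          rw [show ((n - r : ℕ) : WithBot ℕ∞) = (((n - r : ℕ) : ℕ∞) : WithBot ℕ∞) from rfl,
            WithBot.coe_le_coe]
          exact not_le.2 (ENat.natCast_lt_top _))
      | coe m => exact ⟨m, rfl⟩
  rw [hm] at hdrop' hle ⊢
  have h1 : n + 1 ≤ m + 1 + s.card := by exact_mod_cast hdrop'
  have h2 : m ≤ n - r := by exact_mod_cast hle
  have : m = n - r := by omega
  rw [this]

end Groth.Agent.S14335
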