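import Groth.Statements.S14351
import Mathlib

set_option autoImplicit false
universe u
open CAlg

namespace Groth.Agent.S14351

open TensorProduct

/-- For ring maps A → B → C with C faithfully flat over B and C faithfully flat over A, the ring B is
faithfully flat over A. -/
theorem result (A B C : Type u) [CommRing A] [CommRing B]
    [CommRing C] [Algebra A B] [Algebra B C] [Algebra A C] [IsScalarTower A B C]
    [Module.FaithfullyFlat B C] [Module.FaithfullyFlat A C] : Module.FaithfullyFlat A B := by
  have key : ∀ (N N' : Type u) [AddCommGroup N] [AddCommGroup N'] [Module A N] [Module A N']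
      (f : N →ₗ[A] N'), Function.Injective (f.lTensor C) → Function.Injective (f.lTensor B) := by
    intro N N' _ _ _ _ f hf
    let g : B ⊗[A] N →ₗ[B] B ⊗[A] N' := AlgebraTensorModule.map (LinearMap.id : B →ₗ[B] B) f
    let h : C ⊗[A] N →ₗ[B] C ⊗[A] N' := AlgebraTensorModule.map (LinearMap.id : C →ₗ[B] C) f
    have hh : Function.Injective h := hf
    have hg : Function.Injective g := by
      rw [← Module.FaithfullyFlat.lTensor_injective_iff_injective B C]
      have : (AlgebraTensorModule.cancelBaseChange A B B C N').toLinearMap ∘ₗ (g.lTensor C) =
          h ∘ₗ (AlgebraTensorModule.cancelBaseChange A B B C N).toLinearMap := by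
        ext c n
        simp [g, h]
      have h2 : Function.Injective ((AlgebraTensorModule.cancelBaseChange A B B C N').toLinearMap ∘ₗ (g.lTensor C)) := by
        rw [this]
        exact hh.comp (LinearEquiv.injective _)
      rw [LinearMap.coe_comp] at h2
      exact Function.Injective.of_comp h2
    exact hg
  rw [Module.FaithfullyFlat.iff_flat_and_lTensor_reflects_triviality]
  refine ⟨?_, ?_⟩
  · rw [Module.Flat.iff_lTensor_preserves_injective_linearMap]
    intro N N' _ _ _ _ f hf
    exact key N N' f (Module.Flat.lTensor_preserves_injective_linearMap f hf)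
  · intro N _ _ hN
    have e := AlgebraTensorModule.cancelBaseChange A B B C N
    have : Subsingleton (C ⊗[B] (B ⊗[A] N)) := inferInstance
    have : Subsingleton (C ⊗[A] N) := e.symm.subsingleton
    exact Module.FaithfullyFlat.lTensor_reflects_triviality A C N

end Groth.Agent.S14351
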