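import Groth.Statements.S14360
import Mathlib
import Groth.Agent.Helper3.Birat

set_option autoImplicit false
universe u
open scoped TensorProduct
open AlgebraicGeometry
open Variety

namespace Groth.Agent.S14360

/-- Let X and Y be integral schemes. Then X and Y have isomorphic dense open subschemes if and only if
they are birational in the sense of rational maps, i.e. there exist dominant rational maps f : X ⤏ Y
and g : Y ⤏ X such that the composites g ∘ f and f ∘ g are the identity rational maps of X and of Y. -/
theorem result (X Y : Scheme.{u})
    [IsIntegral X] [IsIntegral Y] :
    Scheme.Birational X Y ↔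
      ∃ (f : X ⤏ Y) (g : Y ⤏ X) (_ : f.IsDominant) (_ : g.IsDominant),
        f.comp g = Scheme.RationalMap.id X ∧ g.comp f = Scheme.RationalMap.id Y := by
  exact Groth.Agent.Helper3.Birat.main X Y

end Groth.Agent.S14360
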