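import Groth.Statements.S14361
import Mathlib
import Groth.Agent.S4372

set_option autoImplicit false
universe u
open AlgebraicGeometry
open SchImage

namespace Groth.Agent.S14361

/-- Let π : X → Y be a morphism of schemes with X reduced. Then the scheme-theoretic image of π is
computed affine-locally: on every affine open U of Y, the ideal of the kernel ideal sheaf of π (the
largest quasi-coherent ideal sheaf contained in the componentwise kernels) equals the ideal of those
sections over U which pull back to zero on π⁻¹(U). (The published statement allows, as an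
alternative to X being reduced, that π be quasi-compact; this row is the reduced case and assumes no
quasi-compactness.) -/
theorem result (X Y : Scheme.{u}) [IsReduced X]
    (π : X ⟶ Y) (U : Y.affineOpens) :
    π.ker.ideal U = RingHom.ker (π.app U).hom := by
  apply le_antisymm (π.ideal_ker_le U)
  intro s hs
  rw [RingHom.mem_ker] at hs
  rw [Groth.Agent.S4372.ker_eq_vanishingIdeal, Scheme.IdealSheafData.vanishingIdeal_ideal,
    PrimeSpectrum.mem_vanishingIdeal]
  intro p hp
  have hp' : p ∈ U.2.fromSpec ⁻¹' closure (Set.range π) := hp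
  have hcl : U.2.fromSpec ⁻¹' closure (Set.range π) = closure (U.2.fromSpec ⁻¹' Set.range π) :=
    U.2.fromSpec.isOpenEmbedding.isOpenMap.preimage_closure_eq_closure_preimage
      U.2.fromSpec.continuous _
  have hsub : U.2.fromSpec ⁻¹' Set.range π ⊆ PrimeSpectrum.zeroLocus {s} := by
    rintro (q : PrimeSpectrum Γ(Y, U.1)) ⟨x, hx⟩
    change q ∈ PrimeSpectrum.zeroLocus {s}
    rw [PrimeSpectrum.mem_zeroLocus, Set.singleton_subset_iff]
    by_contra hsq
    have h1 : q ∈ U.2.fromSpec ⁻¹ᵁ Y.basicOpen s := by
      rw [U.2.fromSpec_preimage_basicOpen]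
      exact hsq
    have h2 : π x ∈ Y.basicOpen s := by
      rw [hx]; exact h1
    have h3 : x ∈ π ⁻¹ᵁ Y.basicOpen s := h2
    rw [Scheme.preimage_basicOpen, hs, Scheme.basicOpen_zero] at h3
    exact h3
  rw [hcl] at hp'
  have : p ∈ PrimeSpectrum.zeroLocus {s} :=
    closure_minimal hsub (PrimeSpectrum.isClosed_zeroLocus _) hp'
  rw [PrimeSpectrum.mem_zeroLocus, Set.singleton_subset_iff] at this
  exact this

end Groth.Agent.S14361
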