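import Groth.Statements.S14363
import Mathlib

set_option autoImplicit false
universe u
open CAlg

namespace Groth.Agent.S14363

/-- Let A be a Noetherian ring and 0 → M' → M → M'' → 0 a short exact sequence of A-modules. If a prime
p of A is an associated prime of M'' and is not in the support of M', then p is an associated prime
of M. -/
theorem result (A : Type u) [CommRing A] [IsNoetherianRing A]
    (M' M M'' : Type u) [AddCommGroup M'] [Module A M'] [AddCommGroup M] [Module A M]
    [AddCommGroup M''] [Module A M'']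
    (f : M' →ₗ[A] M) (g : M →ₗ[A] M'') (hf : Function.Injective f) (hg : Function.Surjective g)
    (hfg : Function.Exact f g)
    (p : PrimeSpectrum A) (hp : p.asIdeal ∈ associatedPrimes A M'') (hsupp : p ∉ Module.support A M') :
    p.asIdeal ∈ associatedPrimes A M := by
  classical
  change IsAssociatedPrime p.asIdeal M'' at hp
  change IsAssociatedPrime p.asIdeal M
  rw [isAssociatedPrime_iff] at hp ⊢
  obtain ⟨hprime, m'', hm''⟩ := hp
  refine ⟨hprime, ?_⟩
  obtain ⟨m, rfl⟩ := hg m''
  have hmem : ∀ x : A, x ∈ p.asIdeal ↔ x • g m = 0 := by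
    intro x
    rw [hm'', Submodule.mem_colon_singleton, Submodule.mem_bot]
  -- p is finitely generated
  obtain ⟨T, hT⟩ := (isNoetherianRing_iff_ideal_fg A).mp inferInstance p.asIdeal
  -- for every x ∈ p there is s ∉ p with s • x • m = 0
  have hkill : ∀ x ∈ p.asIdeal, ∃ s : A, s ∉ p.asIdeal ∧ s • x • m = 0 := by
    intro x hx
    have h1 : g (x • m) = 0 := by rw [map_smul]; exact (hmem x).mp hx
    obtain ⟨m', hm'⟩ := (hfg (x • m)).mp h1
    rw [Module.notMem_support_iff'] at hsupp
    obtain ⟨s, hs, hsm⟩ := hsupp m'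
    refine ⟨s, hs, ?_⟩
    rw [← hm', ← map_smul, hsm, map_zero]
  choose! σ hσ1 hσ2 using hkill
  let s : A := ∏ t ∈ T, σ t
  have hs : s ∉ p.asIdeal := by
    intro h
    rw [Ideal.IsPrime.prod_mem_iff] at h
    obtain ⟨t, ht, hmem'⟩ := h
    have : t ∈ p.asIdeal := by rw [← hT]; exact Ideal.subset_span ht
    exact hσ1 t this hmem'
  have hsT : ∀ t ∈ T, s • t • m = 0 := by
    intro t ht
    have htp : t ∈ p.asIdeal := by rw [← hT]; exact Ideal.subset_span ht
    obtain ⟨c, hc⟩ : σ t ∣ s := Finset.dvd_prod_of_mem σ ht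
    rw [hc, mul_comm, mul_smul, hσ2 t htp, smul_zero]
  refine ⟨s • m, ?_⟩
  ext x
  rw [Submodule.mem_colon_singleton, Submodule.mem_bot]
  constructor
  · intro hx
    -- x ∈ span T
    rw [← hT] at hx
    refine Submodule.span_induction (p := fun x _ => x • s • m = 0) ?_ ?_ ?_ ?_ hx
    · intro t ht
      rw [smul_comm]; exact hsT t ht
    · simp
    · intro a b _ _ ha hb
      rw [add_smul, ha, hb, add_zero]
    · intro a b _ hb
      rw [smul_eq_mul, mul_smul, hb, smul_zero]
  · intro hx
    have : (x * s) • g m = 0 := by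
      rw [mul_smul, ← map_smul, ← map_smul, hx, map_zero]
    have h2 : x * s ∈ p.asIdeal := (hmem _).mpr this
    rcases hprime.mem_or_mem h2 with h | h
    · exact h
    · exact absurd h hs

end Groth.Agent.S14363
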