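import Groth.Statements.S14364
import Groth.Agent.Helper4.RGammaZTri2
import Groth.Agent.Helper4.HasRD
import Groth.Agent.Helper4.RGammaZLib
import Groth.Agent.S0922
import Mathlib

set_option autoImplicit false
universe u
open CategoryTheory CategoryTheory.Limits AlgebraicGeometry
attribute [local instance] HasDerivedCategory.standard
open CxOX

namespace Groth.Agent.S14364


/-- Let f : X ⟶ Y be a finite-type morphism between Noetherian schemes, U ⊆ Y an open subscheme with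
closed complement Z, and Z' = f⁻¹(Z), the closed complement of f⁻¹(U) in X. For every K in D(O_X)
with quasi-coherent cohomology sheaves, the morphism Rf_*(RΓ_{Z'}(K) ⟶ K) factors through the
canonical morphism RΓ_Z(Rf_* K) ⟶ Rf_* K, and every morphism Rf_* RΓ_{Z'}(K) ⟶ RΓ_Z(Rf_* K) giving
such a factorisation is an isomorphism; this is the isomorphism Rf_* RΓ_{Z'} ≅ RΓ_Z Rf_*.
(Throughout, RΓ with support is the total right derived functor of the sheaf of sections supported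
in the closed subset. The published statement derives instead the functor of sections killed by some
power of a defining ideal; on complexes with quasi-coherent cohomology sheaves over a Noetherian
scheme the two derived functors agree.) -/
theorem result {X Y : Scheme.{u}} [IsNoetherian X] [IsNoetherian Y]
    (f : X ⟶ Y) [LocallyOfFiniteType f] (U : Y.Opens)
    [CxOX.HasRgammaZ U.ι] [CxOX.HasRgammaZ (f ⁻¹ᵁ U).ι] [DCoh.HasRpush f]
    (K : DCoh.D X) (hK : DCoh.IsQCohD K) :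
    (∃ α : (DCoh.Rpush f).obj ((CxOX.RgammaZ (f ⁻¹ᵁ U).ι).obj K) ⟶ (CxOX.RgammaZ U.ι).obj ((DCoh.Rpush f).obj K),
        α ≫ (CxOX.RgammaZToId U.ι).app ((DCoh.Rpush f).obj K) =
          (DCoh.Rpush f).map ((CxOX.RgammaZToId (f ⁻¹ᵁ U).ι).app K)) ∧
    ∀ α : (DCoh.Rpush f).obj ((CxOX.RgammaZ (f ⁻¹ᵁ U).ι).obj K) ⟶ (CxOX.RgammaZ U.ι).obj ((DCoh.Rpush f).obj K),
        α ≫ (CxOX.RgammaZToId U.ι).app ((DCoh.Rpush f).obj K) =
          (DCoh.Rpush f).map ((CxOX.RgammaZToId (f ⁻¹ᵁ U).ι).app K) → IsIso α := by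

  haveI := Groth.Agent.Helper4.SchAdj.isGrothendieckAbelian_modules X
  haveI : DCoh.HasRpush U.ι := Groth.Agent.Helper4.HasRD.hasRpush _
  haveI : DCoh.HasRpush (f ⁻¹ᵁ U).ι := Groth.Agent.Helper4.HasRD.hasRpush _
  haveI : DCoh.HasRpush (f ∣_ U) := Groth.Agent.Helper4.HasRD.hasRpush _
  haveI : DCoh.HasRpush ((f ⁻¹ᵁ U).ι ≫ f) := Groth.Agent.Helper4.HasRD.hasRpush _
  haveI : DCoh.HasRpush ((f ∣_ U) ≫ U.ι) := Groth.Agent.Helper4.HasRD.hasRpush _
  -- the triangle on X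
  obtain ⟨N', g', h', hT'⟩ := Groth.Agent.Helper4.RGammaZTri2.exists_triangle (f ⁻¹ᵁ U) K
  -- its image under Rf_*
  let β := (DCoh.pushKh f).totalRightDerivedUnit DerivedCategory.Qh
    (HomotopyCategory.quasiIso X.Modules (ComplexShape.up ℤ))
  obtain ⟨(c1 : (DCoh.Rpush f).obj ((DCoh.Rpush (f ⁻¹ᵁ U).ι).obj N') ⟶
      ((DCoh.Rpush f).obj ((CxOX.RgammaZ (f ⁻¹ᵁ U).ι).obj K))⟦(1 : ℤ)⟧),
    (h1 : Pretriangulated.Triangle.mk
      ((DCoh.Rpush f).map ((CxOX.RgammaZToId (f ⁻¹ᵁ U).ι).app K)) ((DCoh.Rpush f).map g') c1 ∈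
      Pretriangulated.distinguishedTriangles)⟩ :=
    Groth.Agent.Helper4.RDerTri.exists_distinguished_map (Scheme.Modules.pushforward f)
      (DCoh.Rpush f) β _ hT'
  -- the third vertex is local
  have hloc1 : Groth.Agent.Helper4.LocalObj.IsLocal U
      ((DCoh.Rpush f).obj ((DCoh.Rpush (f ⁻¹ᵁ U).ι).obj N')) := by
    obtain ⟨e1⟩ := Groth.Agent.S0922.result (f ⁻¹ᵁ U).ι f
    obtain ⟨e2⟩ := Groth.Agent.S0922.result (f ∣_ U) U.ι
    have e3 : ∀ (a b : ((f ⁻¹ᵁ U : X.Opens) : Scheme.{u}) ⟶ Y) (hab : a = b)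
        [DCoh.HasRpush a] [DCoh.HasRpush b], Nonempty (DCoh.Rpush a ≅ DCoh.Rpush b) := by
      intro a b hab _ _
      subst hab
      exact ⟨Iso.refl _⟩
    obtain ⟨e3⟩ := e3 ((f ∣_ U) ≫ U.ι) ((f ⁻¹ᵁ U).ι ≫ f) (morphismRestrict_ι f U)
    have hl := Groth.Agent.Helper4.LocalObj.isLocal_Rpush U ((DCoh.Rpush (f ∣_ U)).obj N')
    exact Groth.Agent.Helper4.RGammaZTri2.IsLocal.of_iso U
      ((e2.app N') ≪≫ e3.app N' ≪≫ (e1.app N').symm) hl
  have hz1 : IsZero ((DCoh.restrictD U.ι).obj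
      ((DCoh.Rpush f).obj ((CxOX.RgammaZ (f ⁻¹ᵁ U).ι).obj K))) :=
    Groth.Agent.Helper4.RjSupp.isZero_restrictD_Rpush f U _
      (Groth.Agent.Helper4.RGammaZLib.isZero_restrictD_RgammaZ (f ⁻¹ᵁ U) K)
  -- the triangle on Y
  obtain ⟨N, g, h, hT⟩ := Groth.Agent.Helper4.RGammaZTri2.exists_triangle U ((DCoh.Rpush f).obj K)
  have hloc2 := Groth.Agent.Helper4.LocalObj.isLocal_Rpush U N
  have hz2 := Groth.Agent.Helper4.RGammaZLib.isZero_restrictD_RgammaZ U ((DCoh.Rpush f).obj K)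
  refine ⟨?_, ?_⟩
  · exact Groth.Agent.Helper4.RGammaZTri2.exists_factor U _ g h hT hloc2 hz1 _
  · intro α hα
    exact Groth.Agent.Helper4.RGammaZTri2.isIso_of_colocal U _ _ c1 h1 hloc1 _ g h hT hloc2 hz1 hz2 α hα

end Groth.Agent.S14364
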