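import Groth.Statements.S14366
import Groth.Agent.Helper4.RjEquivLib
import Groth.Agent.Helper4.HasRD
import Mathlib

set_option autoImplicit false
universe u
open CategoryTheory CategoryTheory.Limits AlgebraicGeometry
attribute [local instance] HasDerivedCategory.standard
open CxOX

namespace Groth.Agent.S14366


/-- Let j : X ⟶ X̄ be an open immersion of Noetherian schemes, U ⊆ X an open subscheme with closed
complement Z, U' ⊆ X̄ the open complement of the closure Z̄ of j(Z) in X̄, and T = U' ∪ j(X), the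
open complement of the closed subset Z̄ ∖ j(X). Let Rj_* exist and preserve complexes with
quasi-coherent cohomology, and let an adjunction j^* ⊣ Rj_* between D(O_X̄) and D(O_X) be given.
Then Rj_* and j^* are inverse equivalences between the objects of D_qc(O_X) whose cohomology sheaves
are supported on Z and the objects of D_qc(O_X̄) whose cohomology sheaves are supported on Z̄ and on
which RΓ_{Z̄ ∖ j(X)} vanishes: for F in the first class, Rj_* F has cohomology supported on Z̄ and
RΓ_{Z̄ ∖ j(X)}(Rj_* F) is zero; the counit j^* Rj_* F ⟶ F is an isomorphism for every F; and for G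
in the second class the unit G ⟶ Rj_* j^* G is an isomorphism and j^* G is in the first class.
(Throughout, RΓ with support is the total right derived functor of the sheaf of sections supported
in the closed subset. The published statement derives instead the functor of sections killed by some
power of a defining ideal; on complexes with quasi-coherent cohomology sheaves over a Noetherian
scheme the two derived functors agree.) -/
theorem result {X Xbar : Scheme.{u}} [IsNoetherian Xbar] [IsNoetherian X]
    (j : X ⟶ Xbar) [IsOpenImmersion j] (U : X.Opens) (U' T : Xbar.Opens)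
    (hU' : (U' : Set Xbar) = (closure (j.base '' ((U : Set X)ᶜ)))ᶜ)
    (hT : (T : Set Xbar) = (U' : Set Xbar) ∪ Set.range j.base)
    [DCoh.HasRpush j] [CxOX.HasRgammaZ T.ι] (hj : DCoh.RpushPreservesQCoh j)
    (adj : DCoh.restrictD j ⊣ DCoh.Rpush j) :
    (∀ F : DCoh.D X, DCoh.IsQCohD F → CxOX.IsSuppD U.ι F →
        CxOX.IsSuppD U'.ι ((DCoh.Rpush j).obj F) ∧ IsZero ((CxOX.RgammaZ T.ι).obj ((DCoh.Rpush j).obj F))) ∧
    (∀ F : DCoh.D X, IsIso (adj.counit.app F)) ∧
    (∀ G : DCoh.D Xbar, DCoh.IsQCohD G → CxOX.IsSuppD U'.ι G → IsZero ((CxOX.RgammaZ T.ι).obj G) →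
        IsIso (adj.unit.app G) ∧ DCoh.IsQCohD ((DCoh.restrictD j).obj G) ∧ CxOX.IsSuppD U.ι ((DCoh.restrictD j).obj G)) := by

  haveI hcounit : IsIso adj.counit := Groth.Agent.Helper4.RjSuppGen.isIso_counit_of_adj j adj
  have hrange : Set.range j.base ⊆ Set.range T.ι.base := by
    rw [Scheme.Opens.range_ι, hT]
    exact Set.subset_union_right
  let jT : X ⟶ (T : Scheme.{u}) := IsOpenImmersion.lift T.ι j hrange
  have hjT : jT ≫ T.ι = j := IsOpenImmersion.lift_fac _ _ _
  haveI : IsOpenImmersion (jT ≫ T.ι) := by rw [hjT]; infer_instance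
  haveI : IsOpenImmersion jT := IsOpenImmersion.of_comp jT T.ι
  haveI : DCoh.HasRpush jT := Groth.Agent.Helper4.HasRD.hasRpush _
  haveI : DCoh.HasRpush T.ι := Groth.Agent.Helper4.HasRD.hasRpush _
  obtain ⟨θ⟩ := Groth.Agent.Helper4.GlueLib.nonempty_RpushComp_iso jT T.ι j hjT
  refine ⟨?_, ?_, ?_⟩
  · intro F _ hF
    refine ⟨Groth.Agent.Helper4.RjEquivLib.isSuppD_Rpush j U U' hU' F hF, ?_⟩
    have h1 := Groth.Agent.Helper4.RGammaZTri.isZero_RgammaZ_Rpush T ((DCoh.Rpush jT).obj F)
    exact h1.of_iso ((CxOX.RgammaZ T.ι).mapIso (θ.app F).symm)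
  · intro F
    infer_instance
  · intro G hGq hGs hGz
    refine ⟨?_, Groth.Agent.Helper4.RjEquivLib.isQCohD_restrictD j G hGq,
      Groth.Agent.Helper4.RjEquivLib.isSuppD_restrictD j U U' hU' G hGs⟩
    obtain ⟨N, ⟨eN⟩⟩ := Groth.Agent.Helper4.RGammaZTri.exists_iso_Rpush_of_isZero_RgammaZ T G hGz
    -- N ≅ G|_T
    haveI : IsIso ((Groth.Agent.Helper4.RjSupp.dAdj T).counit.app N) := inferInstance
    let eN' : (DCoh.restrictD T.ι).obj G ≅ N :=
      (DCoh.restrictD T.ι).mapIso eN ≪≫ asIso ((Groth.Agent.Helper4.RjSupp.dAdj T).counit.app N)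
    let W' : (T : Scheme.{u}).Opens := T.ι ⁻¹ᵁ U'
    have hW' : (W' : Set (T : Scheme.{u}))ᶜ ⊆ Set.range jT.base := by
      intro t ht
      have h1 : T.ι t ∈ (T : Set Xbar) := t.2
      rw [hT] at h1
      rcases h1 with h1 | h1
      · exact absurd h1 ht
      · obtain ⟨x, hx⟩ := h1
        refine ⟨x, ?_⟩
        apply T.ι.isOpenEmbedding.injective
        rw [← hx]
        have := congrArg (fun f => f.base x) hjT
        exact this
    have hNz : IsZero ((DCoh.restrictD W'.ι).obj N) := by
      apply IsZero.of_iso _ ((DCoh.restrictD W'.ι).mapIso eN'.symm)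
      rw [Groth.Agent.Helper4.SuppLib.isZero_restrictD_iff]
      intro i w hw
      rw [Groth.Agent.Helper4.SuppLib.support_HD_restrictD] at hw
      have h1 := hGs i hw
      apply h1
      rw [Scheme.Opens.range_ι]
      exact w.2
    have hiso := Groth.Agent.Helper4.RjSuppGen.isIso_unit_of_isZero_restrict jT
      (Groth.Agent.Helper4.RjSuppGen.dAdj' jT) W' hW' N hNz
    let e : G ≅ (DCoh.Rpush j).obj ((DCoh.restrictD jT).obj N) :=
      eN ≪≫ (DCoh.Rpush T.ι).mapIso (asIso ((Groth.Agent.Helper4.RjSuppGen.dAdj' jT).unit.app N)) ≪≫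
        θ.app _
    exact Groth.Agent.Helper4.RjEquivLib.isIso_unit_of_iso_obj adj G _ e

end Groth.Agent.S14366
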