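import Groth.Statements.S1438
import Groth.Agent.Helper4.AffStratA
import Mathlib

set_option autoImplicit false
universe u
open FlatMor

namespace Groth.Agent.S1438


open AlgebraicGeometry CategoryTheory Limits in
/-- A separated scheme with an open covering by n + 1 affine opens has affine stratification number at
most n: it admits an affine stratification with index set {0, …, n}. -/
theorem result (X : Scheme.{u}) [X.IsSeparated] (n : ℕ) (U : Fin (n + 1) → X.Opens)
    (hU : ∀ i, IsAffineOpen (U i)) (hcov : ⨆ i, U i = ⊤) :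
    MoreMor.HasAffineStratification X n := by

  classical
  let A : X → Finset (Fin (n + 1)) := fun x => Finset.univ.filter (fun i => x ∈ U i)
  let m : X → ℕ := fun x => (A x).card
  have hA : ∀ x i, i ∈ A x ↔ x ∈ U i := fun x i => by simp [A]
  have hm1 : ∀ x, 1 ≤ m x := by
    intro x
    have : x ∈ ⨆ i, U i := by rw [hcov]; trivial
    obtain ⟨i, hi⟩ := TopologicalSpace.Opens.mem_iSup.1 this
    exact Finset.card_pos.2 ⟨i, (hA x i).2 hi⟩
  have hm2 : ∀ x, m x ≤ n + 1 := fun x => by simpa using Finset.card_le_univ (A x)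
  have hle : ∀ (x : X) (I : Finset (Fin (n + 1))), (∀ i ∈ I, x ∈ U i) → I.card ≤ m x := by
    intro x I hI
    exact Finset.card_le_card fun i hi => (hA x i).2 (hI i hi)
  have hopen : ∀ k : ℕ, IsOpen {x : X | k ≤ m x} := by
    intro k
    have : {x : X | k ≤ m x} =
        ⋃ (I : Finset (Fin (n + 1))) (_ : k ≤ I.card), ⋂ i ∈ I, (U i : Set X) := by
      ext x
      simp only [Set.mem_ofPred_eq, Set.mem_iUnion, Set.mem_iInter, SetLike.mem_coe, exists_prop]
      constructor
      · intro h
        exact ⟨A x, h, fun i hi => (hA x i).1 hi⟩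
      · rintro ⟨I, hI, hx⟩
        exact hI.trans (hle x I hx)
    rw [this]
    exact isOpen_iUnion fun I => isOpen_iUnion fun _ =>
      isOpen_biInter_finset fun i _ => (U i).isOpen
  refine ⟨fun x => ⟨m x - 1, by have := hm1 x; have := hm2 x; omega⟩, ?_, ?_⟩
  · intro i
    have : {x : X | (⟨m x - 1, by have := hm1 x; have := hm2 x; omega⟩ : Fin (n + 1)) ≤ i} =
        {x | (i : ℕ) + 2 ≤ m x}ᶜ := by
      ext x
      simp only [Set.mem_ofPred_eq, Set.mem_compl_iff, Fin.le_def]
      have := hm1 x
      omega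
    rw [this]
    exact (hopen _).isClosed_compl
  · intro k
    let W : X.Opens := ⟨{x : X | (k : ℕ) + 1 ≤ m x}, hopen _⟩
    have hTcl : IsClosed {w : W | m w.1 ≤ (k : ℕ) + 1} := by
      have : {w : W | m w.1 ≤ (k : ℕ) + 1} =
          (Subtype.val ⁻¹' {x : X | (k : ℕ) + 2 ≤ m x} : Set W)ᶜ := by
        ext w
        simp only [Set.mem_ofPred_eq, Set.mem_compl_iff, Set.mem_preimage]
        change m w.1 ≤ (k : ℕ) + 1 ↔ ¬ ((k : ℕ) + 2 ≤ m w.1)
        omega
      rw [this]
      exact ((hopen _).preimage continuous_subtype_val).isClosed_compl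
    let T : TopologicalSpace.Closeds W := ⟨{w : W | m w.1 ≤ (k : ℕ) + 1}, hTcl⟩
    let I := Scheme.IdealSheafData.vanishingIdeal T
    let ι : I.subscheme ⟶ X := I.subschemeι ≫ W.ι
    have hrange : Set.range ι = {x : X | m x = (k : ℕ) + 1} := by
      change Set.range (I.subschemeι ≫ W.ι) = _
      rw [Scheme.Hom.comp_base, TopCat.coe_comp, Set.range_comp,
        Scheme.IdealSheafData.range_subschemeι,
        Scheme.IdealSheafData.coe_support_vanishingIdeal]
      ext x
      simp only [Set.mem_image, Set.mem_ofPred_eq]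
      constructor
      · rintro ⟨w, hw, rfl⟩
        have h1 : (k : ℕ) + 1 ≤ m w.1 := w.2
        have h2 : m w.1 ≤ (k : ℕ) + 1 := hw
        exact le_antisymm h2 h1
      · intro hx
        exact ⟨⟨x, hx.ge⟩, hx.le, rfl⟩
    have hmι : ∀ z : I.subscheme, m (ι z) = (k : ℕ) + 1 := by
      intro z
      have : ι z ∈ Set.range ι := ⟨z, rfl⟩
      rw [hrange] at this
      exact this
    -- the pieces
    let σ := {J : Finset (Fin (n + 1)) // J.card = (k : ℕ) + 1}
    let UJ : σ → X.Opens := fun J => ⨅ i : {i // i ∈ J.1}, U i.1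
    have hUJmem : ∀ (J : σ) (x : X), x ∈ UJ J ↔ ∀ i ∈ J.1, x ∈ U i := by
      intro J x
      change x ∈ (⨅ i : {i // i ∈ J.1}, U i.1) ↔ _
      rw [← SetLike.mem_coe, TopologicalSpace.Opens.coe_iInf]
      simp
    have hUJ : ∀ J : σ, IsAffineOpen (UJ J) := by
      intro J
      have hne : Nonempty {i // i ∈ J.1} := by
        have : 0 < J.1.card := by rw [J.2]; omega
        obtain ⟨i, hi⟩ := Finset.card_pos.1 this
        exact ⟨⟨i, hi⟩⟩
      exact IsAffineOpen.iInf fun i => hU i.1
    have hVaff : ∀ J : σ, IsAffineOpen (ι ⁻¹ᵁ UJ J) := by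
      intro J
      haveI : IsAffine ((UJ J : X.Opens) : Scheme) := hUJ J
      haveI : IsImmersion ι := inferInstance
      haveI : IsImmersion (ι ∣_ UJ J) := IsZariskiLocalAtTarget.restrict ‹_› _
      have hcl : IsClosed (Set.range (ι ∣_ UJ J)) := by
        have h1 : Set.range (ι ∣_ UJ J) =
            (Subtype.val ⁻¹' {x : X | (k : ℕ) + 2 ≤ m x} : Set (UJ J))ᶜ := by
          ext w
          have hw : (k : ℕ) + 1 ≤ m w.1 := by
            have := hle w.1 J.1 ((hUJmem J w.1).1 w.2)
            rwa [J.2] at this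
          simp only [Set.mem_preimage, Set.mem_ofPred_eq, Set.mem_compl_iff, Set.mem_range]
          constructor
          · rintro ⟨z, rfl⟩
            have h2 : ((ι ∣_ UJ J) z).1 = ι z.1 := morphismRestrict_base_coe ι (UJ J) z
            rw [h2, hmι]
            omega
          · intro h2
            have h3 : w.1 ∈ Set.range ι := by
              rw [hrange]
              change m w.1 = (k : ℕ) + 1
              omega
            obtain ⟨z, hz⟩ := h3
            have hz' : z ∈ ι ⁻¹ᵁ UJ J := by
              change ι z ∈ UJ J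
              rw [hz]
              exact w.2
            refine ⟨⟨z, hz'⟩, Subtype.ext ?_⟩
            rw [morphismRestrict_base_coe]
            exact hz
        rw [h1]
        exact ((hopen _).preimage continuous_subtype_val).isClosed_compl
      haveI : IsClosedImmersion (ι ∣_ UJ J) := IsClosedImmersion.of_isPreimmersion _ hcl
      exact isAffine_of_isAffineHom (ι ∣_ UJ J)
    have hVcov : ⨆ J : σ, ι ⁻¹ᵁ UJ J = ⊤ := by
      rw [eq_top_iff]
      intro z _
      rw [TopologicalSpace.Opens.mem_iSup]
      refine ⟨⟨A (ι z), hmι z⟩, ?_⟩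
      change ι z ∈ UJ ⟨A (ι z), hmι z⟩
      rw [hUJmem]
      intro i hi
      exact (hA _ i).1 hi
    have hVdisj : Pairwise (Function.onFun Disjoint fun J : σ => ι ⁻¹ᵁ UJ J) := by
      intro J J' hJJ'
      rw [Function.onFun, disjoint_iff]
      ext z
      simp only [TopologicalSpace.Opens.coe_inf, Set.mem_inter_iff, SetLike.mem_coe,
        TopologicalSpace.Opens.coe_bot, Set.mem_empty_iff_false, iff_false, not_and]
      intro h1 h2
      have h1' : ∀ i ∈ J.1, ι z ∈ U i := (hUJmem J (ι z)).1 h1
      have h2' : ∀ i ∈ J'.1, ι z ∈ U i := (hUJmem J' (ι z)).1 h2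
      have h3 : (J.1 ∪ J'.1).card ≤ (k : ℕ) + 1 := by
        refine le_trans ?_ (hmι z).le
        apply hle
        intro i hi
        rcases Finset.mem_union.1 hi with hi | hi
        · exact h1' i hi
        · exact h2' i hi
      have h4 : J.1 = J.1 ∪ J'.1 :=
        Finset.eq_of_subset_of_card_le Finset.subset_union_left (h3.trans J.2.ge)
      have h5 : J'.1 = J.1 ∪ J'.1 :=
        Finset.eq_of_subset_of_card_le Finset.subset_union_right (h3.trans J'.2.ge)
      exact hJJ' (Subtype.ext (h4.trans h5.symm))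
    haveI : Finite σ := inferInstance
    have hZaff : IsAffine I.subscheme :=
      Groth.Agent.Helper4.AffStratA.isAffine_of_disjoint_affine_cover
        (fun J : σ => ι ⁻¹ᵁ UJ J) hVaff hVcov hVdisj
    refine ⟨I.subscheme, ι, inferInstance, hZaff, ?_, ?_⟩
    · haveI : IsAffineHom (ι ≫ terminal.from X) := by
        haveI := hZaff
        exact isAffineHom_of_isAffine _
      exact IsAffineHom.of_comp ι (terminal.from X)
    · rw [hrange]
      ext x
      simp only [Set.mem_ofPred_eq, Fin.ext_iff]
      have := hm1 x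
      omega

end Groth.Agent.S1438
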