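import Groth.Statements.S14383
import Mathlib
import Groth.Agent.Helper7.EtaEtC

set_option autoImplicit false
open scoped TensorProduct
open AlgebraicGeometry
universe u
open CAlg

namespace Groth.Agent.S14383

/-- Let V be a discrete valuation ring of characteristic zero with uniformizer ϖ, whose residue field k
is perfect of characteristic p > 0, and let A → R be a homomorphism of V-algebras of finite type,
viewed as a morphism f : Spec R → Spec A of schemes of finite type over Spec V. Say f is η-étale
when there is an open neighbourhood of the closed fibre of Spec R on whose generic fibre f is étale;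
for affine Spec R this means: some a ∈ R with (a) + (ϖ) = R has R[1/(aϖ)] étale over A. First: if f
is η-étale then for some n ≥ 0 the submodule p^n Ω_{R/A} of the module of differentials is contained
in ϖ p^n Ω_{R/A} (that is, p^n Ω_{R/A} vanishes along the closed fibre). Conversely: if the generic
fibres Spec(K ⊗_V A) and Spec(K ⊗_V R) are both smooth over K of the same relative dimension d, K
the fraction field of V, then such an n forces f to be η-étale. (The published statement is for
arbitrary schemes X → Y of finite type over V and also lists an intermediate equivalent condition,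
that the restriction of p^n Ω_{X/Y} to the closed fibre as an abelian sheaf vanishes for some n;
this row is the case of affine schemes and states the other two conditions.) -/
theorem result (V : Type u) [CommRing V] [IsDomain V] [IsDiscreteValuationRing V] [CharZero V]
    (ϖ : V) (hϖ : Irreducible ϖ) (p : ℕ) [Fact p.Prime] [CharP (IsLocalRing.ResidueField V) p]
    [PerfectField (IsLocalRing.ResidueField V)]
    (A : Type u) [CommRing A] [Algebra V A] [Algebra.FiniteType V A]
    (R : Type u) [CommRing R] [Algebra V R] [Algebra.FiniteType V R] [Algebra A R] [IsScalarTower V A R] :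
    ((∃ a : R, Ideal.span {a} ⊔ Ideal.span {algebraMap V R ϖ} = ⊤ ∧
        ((algebraMap R (Localization.Away (a * algebraMap V R ϖ))).comp (algebraMap A R)).Etale) →
      ∃ n : ℕ, Ideal.span {((p : R)) ^ n} • (⊤ : Submodule R (Ω[R⁄A])) ≤
        Ideal.span {algebraMap V R ϖ * (p : R) ^ n} • (⊤ : Submodule R (Ω[R⁄A]))) ∧
    (∀ d : ℕ, SmoothOfRelativeDimension d
        (Spec.map (CommRingCat.ofHom (algebraMap (FractionRing V) (FractionRing V ⊗[V] A)))) →
      SmoothOfRelativeDimension d
        (Spec.map (CommRingCat.ofHom (algebraMap (FractionRing V) (FractionRing V ⊗[V] R)))) →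
      (∃ n : ℕ, Ideal.span {((p : R)) ^ n} • (⊤ : Submodule R (Ω[R⁄A])) ≤
        Ideal.span {algebraMap V R ϖ * (p : R) ^ n} • (⊤ : Submodule R (Ω[R⁄A]))) →
      ∃ a : R, Ideal.span {a} ⊔ Ideal.span {algebraMap V R ϖ} = ⊤ ∧
        ((algebraMap R (Localization.Away (a * algebraMap V R ϖ))).comp (algebraMap A R)).Etale) := by
  haveI : Algebra.FiniteType A R := Algebra.FiniteType.of_restrictScalars_finiteType V A R
  -- `p` is a multiple of `ϖ` in `V`
  have hpmem : (p : V) ∈ IsLocalRing.maximalIdeal V := by
    rw [← IsLocalRing.residue_eq_zero_iff, map_natCast]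
    exact CharP.cast_eq_zero _ p
  rw [Irreducible.maximalIdeal_eq hϖ, Ideal.mem_span_singleton] at hpmem
  obtain ⟨p', hp'⟩ := hpmem
  have hpR : (p : R) = algebraMap V R ϖ * algebraMap V R p' := by
    rw [← map_mul, ← hp', map_natCast]
  have hp0 : (p : V) ≠ 0 := by
    have := (Fact.out : p.Prime).ne_zero
    exact_mod_cast this
  refine ⟨?_, ?_⟩
  · rintro ⟨a, hcomax, hét⟩
    obtain ⟨m, hm⟩ := Groth.Agent.Helper7.EtaEt.exists_pow_smul_eq_zero
      (T := Localization.Away (a * algebraMap V R ϖ)) (a * algebraMap V R ϖ) hét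
    refine ⟨m, ?_⟩
    have hcop : IsCoprime a (algebraMap V R ϖ) := by
      rw [← Ideal.isCoprime_span_singleton_iff, Ideal.isCoprime_iff_sup_eq]
      exact hcomax
    obtain ⟨α, β, hαβ⟩ := hcop.pow_left (m := m)
    have key : ∀ ω : Ω[R⁄A], (p : R) ^ m • ω ∈
        Ideal.span {algebraMap V R ϖ * (p : R) ^ m} • (⊤ : Submodule R (Ω[R⁄A])) := by
      intro ω
      have h0 : (a ^ m * (p : R) ^ m) • ω = 0 := by
        have : a ^ m * (p : R) ^ m = algebraMap V R p' ^ m * (a * algebraMap V R ϖ) ^ m := by
          rw [hpR]; ring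
        rw [this, mul_smul, hm, smul_zero]
      have h1 : (p : R) ^ m • ω = (algebraMap V R ϖ * (p : R) ^ m) • (β • ω) := by
        have : (p : R) ^ m = α * (a ^ m * (p : R) ^ m) + (algebraMap V R ϖ * (p : R) ^ m) * β := by
          calc (p : R) ^ m = (α * a ^ m + β * algebraMap V R ϖ) * (p : R) ^ m := by
                rw [hαβ, one_mul]
            _ = _ := by ring
        conv_lhs => rw [this]
        rw [add_smul, mul_smul α, h0, smul_zero, zero_add, mul_smul]
      rw [h1]
      exact Submodule.smul_mem_smul (Ideal.subset_span rfl) Submodule.mem_top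
    rw [Submodule.smul_le]
    intro r hr ω _
    rw [Ideal.mem_span_singleton'] at hr
    obtain ⟨c, rfl⟩ := hr
    have hcm : (c * (p : R) ^ m) • ω = (p : R) ^ m • (c • ω) := by rw [mul_comm, mul_smul]
    rw [hcm]
    exact key _
  · rintro d hA hR ⟨n, hn⟩
    have hFG : (Ideal.span {((p : R)) ^ n} • (⊤ : Submodule R (Ω[R⁄A]))).FG :=
      Submodule.FG.smul ⟨{(p : R) ^ n}, by simp⟩ Module.Finite.fg_top
    have hle : Ideal.span {((p : R)) ^ n} • (⊤ : Submodule R (Ω[R⁄A])) ≤
        Ideal.span {algebraMap V R ϖ} • (Ideal.span {((p : R)) ^ n} • (⊤ : Submodule R (Ω[R⁄A]))) := by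
      rw [← Submodule.mul_smul, Ideal.span_singleton_mul_span_singleton]
      exact hn
    obtain ⟨a, hcomax, ha⟩ :=
      Groth.Agent.Helper7.EtaEt.exists_comaximal_smul_eq_zero _ hFG (algebraMap V R ϖ) hle
    refine ⟨a, hcomax, ?_⟩
    have hprod : IsUnit (algebraMap R (Localization.Away (a * algebraMap V R ϖ))
        (a * algebraMap V R ϖ)) := IsLocalization.Away.algebraMap_isUnit _
    rw [map_mul, IsUnit.mul_iff] at hprod
    have hϖT : IsUnit (algebraMap V (Localization.Away (a * algebraMap V R ϖ)) ϖ) := by
      rw [IsScalarTower.algebraMap_apply V R (Localization.Away (a * algebraMap V R ϖ))]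
      exact hprod.2
    have hpT : IsUnit (algebraMap R (Localization.Away (a * algebraMap V R ϖ)) (p : R)) := by
      have := Groth.Agent.Helper7.EtaEt.isUnit_algebraMap_of_ne_zero hϖ hϖT hp0
      rw [map_natCast] at this ⊢
      exact this
    refine Groth.Agent.Helper7.EtaEt.etale_of_kill V hϖ (FractionRing V) A R d hA hR a
      (a * (p : R) ^ n) ?_ (Localization.Away (a * algebraMap V R ϖ)) ?_
    · intro ω
      rw [mul_smul]
      exact ha _ (Submodule.smul_mem_smul (Ideal.subset_span rfl) Submodule.mem_top)
    · rw [map_mul, map_pow]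
      exact hprod.1.mul (hpT.pow n)

end Groth.Agent.S14383
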