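import Groth.Statements.S14392
import Groth.Agent.Helper6.KFilF
import Groth.Agent.Helper6.KFilH
import Groth.Agent.Helper6.TorsRepD
import Groth.Agent.S0103

set_option autoImplicit false
open CategoryTheory CategoryTheory.Limits AlgebraicGeometry Opposite
universe u
open EtCoh

namespace Groth.Agent.S14392

/-- Let p be a prime number and X a connected affine scheme of characteristic p (p = 0 in the ring of
global sections). Then X is a K(π,1) for p-torsion coefficients: for every finite locally constant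
abelian sheaf F on the small étale site of X killed by some power p^h (h ≥ 0, equivalently by an
integer n ≥ 1 whose only prime factor is p), every q > 0 and every class ζ ∈ H^q(X_ét, F), there is
a finite étale surjective morphism g : X' → X such that g^*ζ = 0 in H^q(X'_ét, g⁻¹F). (Exactness of
pullback of abelian sheaves, which always holds, is carried as an instance hypothesis.) -/
theorem result (p : ℕ) [Fact p.Prime] (X : Scheme.{u}) [IsAffine X]
    [ConnectedSpace ↥X] [CharP Γ(X, ⊤) p] (F : EtCoh.Ab X) (hF : EtCoh.IsFiniteLocallyConstant F)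
    (htor : ∃ h : ℕ, EtCoh.KilledBy (p ^ h) F) (q : ℕ) (hq : 0 < q) (ζ : EtCoh.H X F q) :
    ∃ (X' : Scheme.{u}) (g : X' ⟶ X), IsFinite g ∧ Etale g ∧ Surjective g ∧
      ∀ [PreservesFiniteLimits (EtCoh.pull g)], EtCore.Hpull g F q ζ = 0 := by
  by_cases hq1 : q = 1
  · subst hq1
    exact Groth.Agent.Helper6.TorsRepD.main X F hF ζ
  have hq2 : 2 ≤ q := by omega
  obtain ⟨x⟩ : Nonempty X := inferInstance
  obtain ⟨n, hx⟩ := Groth.Agent.Helper6.KFilD.exists_LCn F hF x
  obtain ⟨T, f, hf, he, d, hcop, hd, ⟨ch⟩⟩ := Groth.Agent.Helper6.KFilF.main p n X F hF htor ⟨x, hx⟩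
  have hp : p.Prime := Fact.out
  have hd0 : d ≠ 0 := by
    rintro rfl
    rw [Nat.coprime_zero_right] at hcop
    exact hp.one_lt.ne' hcop
  have hsurj : Surjective f := by
    rw [← Scheme.Hom.one_le_finrank_iff_surjective]
    intro s
    rw [hd s]
    exact Nat.one_le_iff_ne_zero.2 hd0
  refine ⟨T, f, hf, he, hsurj, ?_⟩
  intro inst
  have : IsAffine T := isAffine_of_isAffineHom f
  have : Nonempty T := by
    obtain ⟨t, -⟩ := hsurj.surj x
    exact ⟨t⟩
  have : Nonempty (⊤ : T.Opens) := ⟨⟨Classical.arbitrary T, trivial⟩⟩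
  have : Nontrivial Γ(T, ⊤) := Scheme.component_nontrivial T ⊤
  have : CharP Γ(T, ⊤) p := by
    rw [CharP.charP_iff_prime_eq_zero hp]
    have h1 : ((p : Γ(X, ⊤)) : Γ(X, ⊤)) = 0 := CharP.cast_eq_zero _ p
    have h2 : f.appTop.hom (p : Γ(X, ⊤)) = (p : Γ(T, ⊤)) := map_natCast _ p
    rw [← h2, h1, map_zero]
  have := Groth.Agent.S0103.result T p q hq2
  have hZ : ∀ z : EtCoh.H T (EtCoh.const T (ZMod p)) q, z = 0 := fun z => Subsingleton.elim _ _
  have hV : ∀ z : EtCoh.H T ((EtCoh.pull f).obj F) q, z = 0 :=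
    Groth.Agent.Helper6.KFilH.Van.of_chain hZ ch
  exact hV _

end Groth.Agent.S14392
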