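import Groth.Statements.S14397
-- import your own Groth.Agent.* helpers here

set_option autoImplicit false
universe u
open DualGr

namespace Groth.Agent.S14397

/-- Let (V, E) with endpoint map E → V × V be a finite multigraph (loops and parallel edges allowed; the
order of the two endpoints is an auxiliary orientation), and let D_1, …, D_n be finite sets of edges
such that every edge lies outside at least one D_i. For each i let Γ_i be the multigraph obtained by
contracting the edges of D_i, and let H₁(Γ, ℤ) → H₁(Γ_i, ℤ) be the map of cycle lattices (integer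
edge vectors with zero boundary) given by restriction to the surviving edges. Then the map H₁(Γ, ℤ)
→ ⊕_i H₁(Γ_i, ℤ) has torsion-free cokernel. (The published statement is about the connected labelled
dual graph of the closed fibre of a nodal curve, smooth outside a normal crossing divisor with
components D_1, …, D_n, over a Noetherian regular strictly local base; Γ_i is the dual graph of the
fibre over the generic point of D_i, the lattices are identified with the character groups of the
toric parts of the Picard schemes of these fibres, and the map is the generization map of character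
groups; this row states the assertion about cycle lattices, for any finite multigraph, which is what
the argument establishes.) -/
theorem result
    {V E : Type u} [Fintype V] [Fintype E] [DecidableEq V] [DecidableEq E]
    (ends : E → V × V) {n : ℕ} (D : Fin n → Finset E) (hcover : ∀ e : E, ∃ i : Fin n, e ∉ D i) :
    IsAddTorsionFree (((i : Fin n) → ↥(DualGr.cycleLattice (DualGr.ctrEnds ends (D i)))) ⧸
      LinearMap.range (LinearMap.pi fun i : Fin n => DualGr.genMap ends (D i))) := by
  constructor
  intro m hm a b hab
  have hm' : (m : ℤ) ≠ 0 := by exact_mod_cast hm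
  obtain ⟨y, rfl⟩ := Submodule.Quotient.mk_surjective _ a
  obtain ⟨y', rfl⟩ := Submodule.Quotient.mk_surjective _ b
  have hab' : m • (Submodule.Quotient.mk y : ((i : Fin n) →
      ↥(DualGr.cycleLattice (DualGr.ctrEnds ends (D i)))) ⧸
      LinearMap.range (LinearMap.pi fun i : Fin n => DualGr.genMap ends (D i))) =
      m • Submodule.Quotient.mk y' := hab
  have h1 : (Submodule.Quotient.mk (m • y) : ((i : Fin n) →
      ↥(DualGr.cycleLattice (DualGr.ctrEnds ends (D i)))) ⧸
      LinearMap.range (LinearMap.pi fun i : Fin n => DualGr.genMap ends (D i))) =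
      Submodule.Quotient.mk (m • y') := by
    rw [← Submodule.mkQ_apply, ← Submodule.mkQ_apply, map_nsmul, map_nsmul]
    exact hab'
  have h2 := (Submodule.Quotient.eq _).mp h1
  obtain ⟨z, hz⟩ := LinearMap.mem_range.mp h2
  rw [← nsmul_sub, ← Nat.cast_smul_eq_nsmul ℤ] at hz
  obtain ⟨u, hu⟩ : ∃ u : (i : Fin n) → ↥(DualGr.cycleLattice (DualGr.ctrEnds ends (D i))),
      u = y - y' := ⟨_, rfl⟩
  rw [← hu] at hz
  have hkey : ∀ (i : Fin n) (e : E) (he : e ∉ D i), (z : E → ℤ) e =
      (m : ℤ) * ((u i : DualGr.CtrEdge (D i) → ℤ) ⟨e, he⟩) := by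
    intro i e he
    have h3 : DualGr.genMap ends (D i) z = (m : ℤ) • u i := congrFun hz i
    have h4 : ((DualGr.genMap ends (D i) z :
        ↥(DualGr.cycleLattice (DualGr.ctrEnds ends (D i)))) :
        DualGr.CtrEdge (D i) → ℤ) ⟨e, he⟩ =
        (((m : ℤ) • u i : ↥(DualGr.cycleLattice (DualGr.ctrEnds ends (D i)))) :
        DualGr.CtrEdge (D i) → ℤ) ⟨e, he⟩ := by rw [h3]
    rw [Submodule.coe_smul, Pi.smul_apply, smul_eq_mul] at h4
    exact h4
  have hdvd : ∀ e : E, (m : ℤ) ∣ (z : E → ℤ) e := by
    intro e
    obtain ⟨i, hi⟩ := hcover e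
    exact ⟨_, hkey i e hi⟩
  obtain ⟨z', hz'⟩ : ∃ z' : E → ℤ, z' = fun e => (z : E → ℤ) e / (m : ℤ) := ⟨_, rfl⟩
  have hz'm : ∀ e, (m : ℤ) * z' e = (z : E → ℤ) e := by
    intro e
    rw [hz']
    exact Int.mul_ediv_cancel' (hdvd e)
  have hmz' : (m : ℤ) • z' = (z : E → ℤ) := by
    funext e
    rw [Pi.smul_apply, smul_eq_mul]
    exact hz'm e
  have hb : DualGr.boundaryHom ends z' = 0 := by
    have h5 : DualGr.boundaryHom ends ((m : ℤ) • z') = 0 := by
      rw [hmz']
      exact LinearMap.mem_ker.mp z.2
    rw [map_smul] at h5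
    funext v
    have h6 := congrFun h5 v
    rw [Pi.smul_apply, smul_eq_mul, Pi.zero_apply] at h6
    rcases mul_eq_zero.mp h6 with h7 | h7
    · exact absurd h7 hm'
    · exact h7
  have hz'mem : z' ∈ DualGr.cycleLattice ends := LinearMap.mem_ker.mpr hb
  apply (Submodule.Quotient.eq _).mpr
  rw [← hu]
  refine LinearMap.mem_range.mpr ⟨⟨z', hz'mem⟩, ?_⟩
  funext i
  apply Subtype.ext
  funext e
  obtain ⟨e, he⟩ := e
  have h8 := hkey i e he
  rw [← hz'm e] at h8
  exact mul_left_cancel₀ hm' h8

end Groth.Agent.S14397
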