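import Groth.Statements.S14403
import Groth.Agent.Helper5.VarDim12

set_option autoImplicit false
universe u
open CategoryTheory AlgebraicGeometry
open FlatMor

namespace Groth.Agent.S14403

/-- Let k be a field, X and Y schemes of finite type over k, f : X ⟶ Y a flat k-morphism, and d, n
natural numbers such that every irreducible component of Y has dimension d (Y equidimensional of
dimension d). Then every irreducible component of X has dimension d + n if and only if for every
point y of Y, closed or not, every irreducible component of the scheme-theoretic fibre of f over y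
has dimension n (empty fibres impose no condition). -/
theorem result (k : Type u) [Field k]
    {X Y : Scheme.{u}} (qX : X ⟶ Spec (CommRingCat.of k)) (qY : Y ⟶ Spec (CommRingCat.of k))
    [LocallyOfFiniteType qX] [QuasiCompact qX] [LocallyOfFiniteType qY] [QuasiCompact qY]
    (f : X ⟶ Y) (hf : f ≫ qY = qX) [Flat f] (d n : ℕ)
    (hY : ∀ Z ∈ irreducibleComponents (Y : Type u), topologicalKrullDim Z = (d : WithBot ℕ∞)) :
    (∀ Z ∈ irreducibleComponents (X : Type u), topologicalKrullDim Z = ((d + n : ℕ) : WithBot ℕ∞)) ↔
      ∀ (y : Y), ∀ Z ∈ irreducibleComponents (f.fiber y : Type u),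
        topologicalKrullDim Z = (n : WithBot ℕ∞) := by
  have hflft : LocallyOfFiniteType f := by
    have : LocallyOfFiniteType (f ≫ qY) := hf ▸ inferInstance
    exact locallyOfFiniteType_of_comp f qY
  have key : ∀ x : X, FlatMor.localDim X x = (d : WithBot ℕ∞) + FlatMor.fibreDimAt f x := by
    intro x
    have h := Groth.Agent.Helper5.VarDim.flat_formula k qX qY f hf x (Flat.stalkMap f x)
    rwa [Groth.Agent.Helper5.VarDim.localDim_eq_of_components k qY (d : WithBot ℕ∞) hY (f x)] at h
  constructor
  · intro H y Z hZ
    have hft : LocallyOfFiniteType (f.fiberToSpecResidueField y) :=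
      inferInstanceAs (LocallyOfFiniteType (Limits.pullback.snd f (Y.fromSpecResidueField y)))
    obtain ⟨ζ, -, hζ2⟩ := Groth.Agent.Helper5.VarDim.exists_generic_component (Y.residueField y)
      (f.fiberToSpecResidueField y) Z hZ
    have h1 := Groth.Agent.Helper5.VarDim.localDim_fiber_eq_fibreDimAt f y ζ (f.fiberι y ζ) rfl
      (Groth.Agent.Helper5.VarDim.apply_fiberι f y ζ)
    have h2 := key (f.fiberι y ζ)
    have h3 := Groth.Agent.Helper5.VarDim.localDim_eq_of_components k qX
      (((d + n : ℕ) : WithBot ℕ∞)) H (f.fiberι y ζ)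
    rw [h3, ← h1, hζ2] at h2
    have h4 : (d : WithBot ℕ∞) + (n : WithBot ℕ∞) = (d : WithBot ℕ∞) + topologicalKrullDim ↥Z := by
      rw [← h2]; push_cast; rfl
    exact (Groth.Agent.Helper5.VarDim.withBot_enat_add_left_cancel d _ _ h4).symm
  · intro H Z hZ
    obtain ⟨ζ, -, hζ2⟩ := Groth.Agent.Helper5.VarDim.exists_generic_component k qX Z hZ
    rw [← hζ2, key ζ]
    have hft : LocallyOfFiniteType (f.fiberToSpecResidueField (f ζ)) :=
      inferInstanceAs (LocallyOfFiniteType (Limits.pullback.snd f (Y.fromSpecResidueField (f ζ))))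
    have h5 : FlatMor.fibreDimAt f ζ = (n : WithBot ℕ∞) :=
      Groth.Agent.Helper5.VarDim.localDim_eq_of_components (Y.residueField (f ζ))
        (f.fiberToSpecResidueField (f ζ)) (n : WithBot ℕ∞) (H (f ζ)) (f.asFiber ζ)
    rw [h5]
    push_cast
    rfl

end Groth.Agent.S14403
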