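import Groth.Statements.S14404
import Groth.Agent.Helper5.VarDim10

set_option autoImplicit false
universe u
open CategoryTheory AlgebraicGeometry
open FlatMor

namespace Groth.Agent.S14404

/-- Let k be a field, X and Y irreducible schemes of finite type over k and f : X ⟶ Y a flat k-morphism.
Then dim Y ≤ dim X, and for every point y of Y every irreducible component Z of the scheme-theoretic
fibre of f over y has dim Z + dim Y = dim X; that is, every non-empty fibre has all its irreducible
components of dimension dim X − dim Y. -/
theorem result (k : Type u) [Field k]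
    {X Y : Scheme.{u}} (qX : X ⟶ Spec (CommRingCat.of k)) (qY : Y ⟶ Spec (CommRingCat.of k))
    [LocallyOfFiniteType qX] [QuasiCompact qX] [LocallyOfFiniteType qY] [QuasiCompact qY]
    [IrreducibleSpace X] [IrreducibleSpace Y] (f : X ⟶ Y) (hf : f ≫ qY = qX) [Flat f] :
    topologicalKrullDim Y ≤ topologicalKrullDim X ∧
      ∀ (y : Y), ∀ Z ∈ irreducibleComponents (f.fiber y : Type u),
        topologicalKrullDim Z + topologicalKrullDim Y = topologicalKrullDim X := by
  have key : ∀ x : X, topologicalKrullDim X = topologicalKrullDim Y + FlatMor.fibreDimAt f x := by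
    intro x
    have h := Groth.Agent.Helper5.VarDim.flat_formula k qX qY f hf x (Flat.stalkMap f x)
    rwa [Groth.Agent.Helper5.VarDim.localDim_eq_dim_of_irreducible k qX x,
      Groth.Agent.Helper5.VarDim.localDim_eq_dim_of_irreducible k qY (f x)] at h
  have hflft : LocallyOfFiniteType f := by
    have : LocallyOfFiniteType (f ≫ qY) := hf ▸ inferInstance
    exact locallyOfFiniteType_of_comp f qY
  constructor
  · have x : X := (inferInstance : Nonempty X).some
    rw [key x]
    have hft : LocallyOfFiniteType (f.fiberToSpecResidueField (f x)) :=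
      inferInstanceAs (LocallyOfFiniteType (Limits.pullback.snd f (Y.fromSpecResidueField (f x))))
    obtain ⟨nF, -, hF2, -⟩ := Groth.Agent.Helper5.VarDim.localDim_formula (Y.residueField (f x))
      (f.fiberToSpecResidueField (f x)) (f.asFiber x)
    have h0 : (0 : WithBot ℕ∞) ≤ FlatMor.fibreDimAt f x := by
      show (0 : WithBot ℕ∞) ≤ FlatMor.localDim ↥(f.fiber (f x)) (f.asFiber x)
      rw [hF2, ringKrullDim_stalk_eq_coheight]
      exact_mod_cast (zero_le : (0 : ℕ∞) ≤ Order.coheight (f.asFiber x) + (nF : ℕ∞))
    calc topologicalKrullDim Y = topologicalKrullDim Y + 0 := (add_zero _).symm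
      _ ≤ topologicalKrullDim Y + FlatMor.fibreDimAt f x := by gcongr
  · intro y Z hZ
    have hft : LocallyOfFiniteType (f.fiberToSpecResidueField y) :=
      inferInstanceAs (LocallyOfFiniteType (Limits.pullback.snd f (Y.fromSpecResidueField y)))
    obtain ⟨ζ, -, hζ2⟩ := Groth.Agent.Helper5.VarDim.exists_generic_component (Y.residueField y)
      (f.fiberToSpecResidueField y) Z hZ
    rw [← hζ2, Groth.Agent.Helper5.VarDim.localDim_fiber_eq_fibreDimAt f y ζ (f.fiberι y ζ) rfl
      (Groth.Agent.Helper5.VarDim.apply_fiberι f y ζ), key (f.fiberι y ζ), add_comm]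

end Groth.Agent.S14404
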