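import Groth.Statements.S14416
import Mathlib

set_option autoImplicit false
universe u
open scoped TensorProduct
open CAlg

namespace Groth.Agent.S14416

open TensorProduct

/-- Let B → A be a ring map with A a finitely generated B-module such that for every prime ideal p of B
the fibre κ(p) ⊗_B A has dimension at most one over the residue field κ(p). Then B → A is
surjective. In scheme language: a finite morphism whose degree at every point of the target is 0 or
1 is a closed immersion. (The published statement assumes the two schemes Noetherian; that
hypothesis plays no role and is dropped here.) -/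
theorem result
    (B A : Type u) [CommRing B] [CommRing A] [Algebra B A] [Module.Finite B A]
    (h : ∀ p : PrimeSpectrum B,
      Module.finrank p.asIdeal.ResidueField (p.asIdeal.ResidueField ⊗[B] A) ≤ 1) :
    Function.Surjective (algebraMap B A) := by
  classical
  let f : B →ₗ[B] A := Algebra.linearMap B A
  let C := A ⧸ LinearMap.range f
  let g : A →ₗ[B] C := (LinearMap.range f).mkQ
  have hg : Function.Surjective g := Submodule.mkQ_surjective _
  have hfg : Function.Exact f g := by
    intro y
    change (LinearMap.range f).mkQ y = 0 ↔ y ∈ Set.range f
    rw [Submodule.mkQ_apply, Submodule.Quotient.mk_eq_zero]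
    rfl
  have hC : Subsingleton C := by
    rw [← Module.support_eq_empty_iff (R := B)]
    ext p
    simp only [Set.mem_empty_iff_false, iff_false]
    rw [Module.mem_support_iff_nontrivial_residueField_tensorProduct, not_nontrivial_iff_subsingleton]
    let κ := p.asIdeal.ResidueField
    have hex : Function.Exact (f.lTensor κ) (g.lTensor κ) := lTensor_exact κ hfg hg
    have hsurj : Function.Surjective (g.lTensor κ) := LinearMap.lTensor_surjective κ hg
    -- algebraMap κ (κ ⊗ A) is surjective
    have hT : Function.Surjective (algebraMap κ (κ ⊗[B] A)) := by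
      by_cases hn : Nontrivial (κ ⊗[B] A)
      · have h1 : Module.finrank κ (κ ⊗[B] A) = 1 := by
          have hpos : 0 < Module.finrank κ (κ ⊗[B] A) := Module.finrank_pos
          have hp : Module.finrank κ (κ ⊗[B] A) ≤ 1 := h p
          omega
        have := (Subalgebra.bot_eq_top_iff_finrank_eq_one (F := κ) (E := κ ⊗[B] A)).mpr h1
        intro y
        have hy : y ∈ (⊥ : Subalgebra κ (κ ⊗[B] A)) := by rw [this]; trivial
        exact Algebra.mem_bot.mp hy
      · rw [not_nontrivial_iff_subsingleton] at hn
        intro y
        exact ⟨0, Subsingleton.elim _ _⟩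
    refine ⟨fun a b => ?_⟩
    obtain ⟨a', rfl⟩ := hsurj a
    obtain ⟨b', rfl⟩ := hsurj b
    have hz : ∀ y : κ ⊗[B] A, g.lTensor κ y = 0 := by
      intro y
      obtain ⟨x, rfl⟩ := hT y
      rw [hex]
      refine ⟨x ⊗ₜ[B] (1 : B), ?_⟩
      simp [f, Algebra.TensorProduct.algebraMap_apply]
    rw [hz a', hz b']
  have htop : LinearMap.range f = ⊤ := by
    exact Submodule.Quotient.subsingleton_iff.mp hC
  intro a
  have : a ∈ LinearMap.range f := by rw [htop]; trivial
  obtain ⟨b, hb⟩ := this
  exact ⟨b, hb⟩

end Groth.Agent.S14416
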