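import Groth.Statements.S14421
import Mathlib

set_option autoImplicit false
universe u v
open CategoryTheory
open HomAlg

namespace Groth.Agent.S14421

/-- Let φ : K → J be a morphism of cochain complexes of modules over a ring which is surjective in
degree p − 1. Then the map induced on cohomology in degree p is surjective if and only if the map
induced on cocycles in degree p is surjective. (Stated for cochain complexes indexed by the
integers; the published statement is for three-term complexes in degrees p − 1, p, p + 1, which
embed as such complexes.) -/
theorem result {R : Type u} [Ring R]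
    (K J : CochainComplex (ModuleCat.{v} R) ℤ) (φ : K ⟶ J) (p : ℤ) [Epi (φ.f (p - 1))] :
    Epi (HomologicalComplex.homologyMap φ p) ↔ Epi (HomologicalComplex.cyclesMap φ p) := by
  have hnat : K.toCycles (p - 1) p ≫ HomologicalComplex.cyclesMap φ p =
      φ.f (p - 1) ≫ J.toCycles (p - 1) p := by
    rw [← cancel_mono (J.iCycles p)]
    simp
  constructor
  · intro h
    -- element chase
    rw [ModuleCat.epi_iff_surjective] at h ⊢
    have hπK : Function.Surjective (K.homologyπ p) :=
      (ModuleCat.epi_iff_surjective _).mp inferInstance
    have hφ : Function.Surjective (φ.f (p - 1)) :=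
      (ModuleCat.epi_iff_surjective _).mp inferInstance
    have hexact : (ShortComplex.mk (J.toCycles (p - 1) p) (J.homologyπ p)
        (J.toCycles_comp_homologyπ (p - 1) p)).Exact :=
      ShortComplex.exact_of_g_is_cokernel _ (J.homologyIsCokernel (p - 1) p (by simp))
    rw [ShortComplex.moduleCat_exact_iff] at hexact
    intro z
    obtain ⟨c, hc⟩ := h (J.homologyπ p z)
    obtain ⟨w, rfl⟩ := hπK c
    have h1 : J.homologyπ p (z - HomologicalComplex.cyclesMap φ p w) = 0 := by
      rw [map_sub, ← hc]
      have := congrArg (fun f => f w) (congrArg (fun f => f.hom) (HomologicalComplex.homologyπ_naturality φ p))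
      simp only [ModuleCat.hom_comp, LinearMap.comp_apply] at this
      rw [this, sub_self]
    obtain ⟨y, hy⟩ := hexact (z - HomologicalComplex.cyclesMap φ p w) h1
    obtain ⟨x, rfl⟩ := hφ y
    refine ⟨w + K.toCycles (p - 1) p x, ?_⟩
    rw [map_add]
    have := congrArg (fun f => f x) (congrArg (fun f => f.hom) hnat)
    simp only [ModuleCat.hom_comp, LinearMap.comp_apply] at this
    rw [this]
    change _ + (J.toCycles (p - 1) p) (φ.f (p - 1) x) = z at *
    rw [hy]
    abel
  · intro h
    have h2 : Epi (K.homologyπ p ≫ HomologicalComplex.homologyMap φ p) := by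
      rw [HomologicalComplex.homologyπ_naturality]
      infer_instance
    exact epi_of_epi (K.homologyπ p) _

end Groth.Agent.S14421
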