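import Groth.Statements.S14425
import Groth.Agent.Helper1.KoszulAcyclic
import Groth.Agent.Helper1.LocCohDepth

set_option autoImplicit false
universe u
open LocCoh

namespace Groth.Agent.S14425

/-- Let (R, m) be a Noetherian local ring, M a nonzero finitely generated R-module and x_1, …, x_n
elements of m generating the ideal a. Then depth(a, M) = n if and only if x_1, …, x_n is an
M-regular sequence (each x_i a non-zero-divisor on M/(x_1, …, x_{i-1})M; the condition (x)M ≠ M is
automatic here). -/
theorem result {R : Type u} [CommRing R] [IsNoetherianRing R] [IsLocalRing R]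
    {M : Type u} [AddCommGroup M] [Module R M] [Module.Finite R M] [Nontrivial M]
    (xs : List R) (hxs : ∀ x ∈ xs, x ∈ IsLocalRing.maximalIdeal R) :
    LocCoh.idealDepth (Ideal.span {x | x ∈ xs}) M = xs.length ↔ RingTheory.Sequence.IsWeaklyRegular M xs := by
  have hle : Ideal.span {x | x ∈ xs} ≤ IsLocalRing.maximalIdeal R := by
    rw [Ideal.span_le]
    exact fun x hx => hxs x hx
  have hIM : Ideal.span {x | x ∈ xs} • (⊤ : Submodule R M) ≠ ⊤ := by
    intro h
    have h1 : IsLocalRing.maximalIdeal R • (⊤ : Submodule R M) = ⊤ :=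
      top_le_iff.1 (h.symm.le.trans (Submodule.smul_mono_left hle))
    exact (Submodule.top_ne_ideal_smul_of_le_jacobson_annihilator
      (IsLocalRing.maximalIdeal_le_jacobson _)) h1.symm
  obtain ⟨t, ht, htle, hvan, hnv⟩ := Groth.Agent.Helper1.Koszul.depth_sensitivity xs M hIM
  constructor
  · intro h
    have htn : t = xs.length := by
      rw [ht] at h
      exact_mod_cast h
    apply Groth.Agent.Helper1.Koszul.isWeaklyRegular_of_acyclic M xs
    · intro x hx
      rw [IsLocalRing.jacobson_eq_maximalIdeal ⊥ bot_ne_top]
      exact hxs x hx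
    · intro j hj
      apply hvan
      rw [htn]
      omega
  · intro hreg
    rw [ht]
    have h1 : ((xs.length : ℕ) : ℕ∞) ≤ LocCoh.idealDepth (Ideal.span {x | x ∈ xs}) M := by
      rw [Groth.Agent.Helper1.LocCohDepth.le_idealDepth_iff _ M hIM]
      exact ⟨xs, rfl, fun r hr => Ideal.subset_span hr, hreg⟩
    rw [ht] at h1
    have h2 : xs.length ≤ t := by exact_mod_cast h1
    have : t = xs.length := le_antisymm htle h2
    rw [this]

end Groth.Agent.S14425
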