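import Groth.Statements.S14426
import Groth.Agent.Helper1.KoszulDepth

set_option autoImplicit false
universe u
open Koszul3

namespace Groth.Agent.S14426

open CategoryTheory CategoryTheory.Limits in
/-- Let (R, m) be a Noetherian local ring, M a nonzero finitely generated R-module and x_1, …, x_n
elements of m generating the ideal a. Then depth(a, M) ≤ n; the Koszul cohomology H^p(x; M) vanishes
for every p < depth(a, M); and H^r(x; M) is nonzero for r = depth(a, M). (Cohomological indexing
with H^n(x; M) = M/(x)M; in homological indexing this reads H_i = 0 for i > n − r and H_{n−r} ≠ 0.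
Koszul complex realised by iterated mapping cones, as in the prelude.) -/
theorem result {R : Type u} [CommRing R] [IsNoetherianRing R] [IsLocalRing R]
    (M : Type u) [AddCommGroup M] [Module R M] [Module.Finite R M] [Nontrivial M]
    (xs : List R) (hxs : ∀ x ∈ xs, x ∈ IsLocalRing.maximalIdeal R) :
    LocCoh.idealDepth (Ideal.span {x | x ∈ xs}) M ≤ xs.length ∧
      (∀ p : ℕ, (p : ℕ∞) < LocCoh.idealDepth (Ideal.span {x | x ∈ xs}) M → IsZero (CohIII.koszulH xs (ModuleCat.of R M) p)) ∧
      (∀ r : ℕ, LocCoh.idealDepth (Ideal.span {x | x ∈ xs}) M = r → ¬ IsZero (CohIII.koszulH xs (ModuleCat.of R M) r)) := by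
  have hle : Ideal.span {x | x ∈ xs} ≤ IsLocalRing.maximalIdeal R := by
    rw [Ideal.span_le]
    exact fun x hx => hxs x hx
  have hIM : Ideal.span {x | x ∈ xs} • (⊤ : Submodule R M) ≠ ⊤ := by
    intro h
    have h1 : IsLocalRing.maximalIdeal R • (⊤ : Submodule R M) = ⊤ :=
      top_le_iff.1 (h.symm.le.trans (Submodule.smul_mono_left hle))
    exact (Submodule.top_ne_ideal_smul_of_le_jacobson_annihilator
      (IsLocalRing.maximalIdeal_le_jacobson _)) h1.symm
  obtain ⟨t, ht, htle, hvan, hnv⟩ := Groth.Agent.Helper1.Koszul.depth_sensitivity xs M hIM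
  rw [ht]
  refine ⟨by exact_mod_cast htle, ?_, ?_⟩
  · intro p hp
    have hp' : p < t := by exact_mod_cast hp
    apply hvan
    omega
  · intro r hr
    have : t = r := by exact_mod_cast hr
    subst this
    exact hnv

end Groth.Agent.S14426
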