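import Groth.Statements.S1443
import Groth.Agent.Lead.FibVanE

set_option autoImplicit false
universe u
open FlatMor

namespace Groth.Agent.S1443

open AlgebraicGeometry CategoryTheory Limits in
/-- Let f : X → Y be a proper morphism with Y affine such that every fibre X_y has dimension ≤ 1 and
H¹(X_y, O_{X_y}) = 0. Then H^p(X, F) = 0 for every quasi-coherent O_X-module F and every p ≥ 2. -/
theorem result {X Y : Scheme.{u}} (f : X ⟶ Y) [IsProper f] [IsAffine Y]
    (hdim : ∀ y : Y, topologicalKrullDim ↑(f.fiber y) ≤ 1) (hH1 : ∀ y : Y, Subsingleton (Coh.HH (f.fiber y) (Coh.structureModule (f.fiber y)) 1))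
    (F : X.Modules) (hF : Coh.IsQCoh F) (p : ℕ) (hp : 2 ≤ p) : Subsingleton (Coh.HH X F p) := by
  haveI : F.IsQuasicoherent := hF
  have hd : ∀ y : Y, topologicalKrullDim ↥(f.fiber y) ≤ ((1 : ℕ) : WithBot ℕ∞) := fun y => by
    rw [Nat.cast_one]; exact hdim y
  exact Groth.Agent.Lead.FibVan.subsingleton_HH_of_fibreDimAt f 1
    (Groth.Agent.Lead.FibVan.forall_of_fiber_dim_le f 1 hd) F p (by omega)

end Groth.Agent.S1443
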