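import Groth.Statements.S1444
import Groth.Agent.Lead.TopBCL

set_option autoImplicit false
universe u
open FlatMor

namespace Groth.Agent.S1444

open AlgebraicGeometry CategoryTheory Limits in
/-- Let f : X → Y be proper with Y affine, all fibres of f of dimension at most 1, and H¹(X_y, O_{X_y})
= 0 for every point y of Y. Then H¹(X, F) = 0 for every quasi-coherent O_X-module F which is
globally generated (a quotient of a direct sum of copies of the structure sheaf). -/
theorem result {X Y : Scheme.{u}} (f : X ⟶ Y) [IsProper f] [IsAffine Y]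
    (hdim : ∀ y : Y, topologicalKrullDim ↑(f.fiber y) ≤ 1) (hH1 : ∀ y : Y, Subsingleton (Coh.HH (f.fiber y) (Coh.structureModule (f.fiber y)) 1))
    (F : X.Modules) (hF : Coh.IsQCoh F) (ι : Type u) (e : (∐ fun _ : ι => Coh.structureModule X) ⟶ F) [Epi e] :
    Subsingleton (Coh.HH X F 1) := by
  have hd : ∀ x : X, FlatMor.fibreDimAt f x ≤ ((1 : ℕ) : WithBot ℕ∞) :=
    Groth.Agent.Lead.FibVan.forall_of_fiber_dim_le f 1 (fun y => by exact_mod_cast hdim y)
  haveI : CompactSpace X := QuasiCompact.compactSpace_of_compactSpace f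
  haveI : QuasiSeparatedSpace X := quasiSeparatedSpace_of_quasiSeparated f
  haveI hq := Groth.Agent.Lead.BlH1B.isQuasicoherent_unit X
  haveI : F.IsQuasicoherent := hF
  have h1 : Subsingleton (Coh.HH X (Coh.structureModule X) 1) :=
    Groth.Agent.Lead.TopBC.subsingleton_HH_of_fibers' f 1 hd hH1
  haveI hS : (∐ fun _ : ι => Coh.structureModule X).IsQuasicoherent :=
    Groth.Agent.Helper4.QcohLimits.isQuasicoherent_sigma _ (fun _ => hq)
  haveI : (kernel e).IsQuasicoherent := Groth.Agent.Helper4.QcohLimits.isQuasicoherent_kernel e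
  let S : ShortComplex X.Modules := ShortComplex.mk (kernel.ι e) e (kernel.condition _)
  have hSe : S.ShortExact :=
    { exact := ShortComplex.exact_kernel _
      mono_f := inferInstanceAs (Mono (kernel.ι e))
      epi_g := inferInstanceAs (Epi e) }
  exact Groth.Agent.Lead.BlH1B.subsingleton_HH_right S hSe 1
    (Groth.Agent.Lead.BlH1B.subsingleton_HH_sigma 1 _ (fun _ => h1))
    (Groth.Agent.Lead.FibVan.subsingleton_HH_of_fibreDimAt f 1 hd (kernel e) 2 (by norm_num))

end Groth.Agent.S1444
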