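import Groth.Statements.S14442
import Mathlib

set_option autoImplicit false
universe u
open GrNak

namespace Groth.Agent.S14442

/-- Let R be a commutative ℕ-graded ring with irrelevant ideal R_+ = ⊕_{i>0} R_i, M an ℕ-graded R-module
and N a graded submodule of M (closed under taking homogeneous components). If M = R_+ M + N then N
= M. (The published statement is for finitely generated ℤ-graded modules over a graded quotient of a
polynomial ring, whose degrees are then bounded below; stated here for non-negatively graded modules
over any ℕ-graded commutative ring, where the same lowest-degree argument applies without finite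
generation.) -/
theorem result {R : Type u} [CommRing R] {σ : Type u} [SetLike σ R] [AddSubmonoidClass σ R]
    (𝒜 : ℕ → σ) [GradedRing 𝒜]
    {M : Type u} [AddCommGroup M] [Module R M] {τ : Type u} [SetLike τ M] [AddSubmonoidClass τ M]
    (ℳ : ℕ → τ) [DirectSum.Decomposition ℳ] [SetLike.GradedSMul 𝒜 ℳ]
    (N : Submodule R M) (hN : ∀ x ∈ N, ∀ i : ℕ, (DirectSum.decompose ℳ x i : M) ∈ N)
    (h : (HomogeneousIdeal.irrelevant 𝒜).toIdeal • (⊤ : Submodule R M) ⊔ N = ⊤) :
    N = ⊤ := by
  classical
  -- projection to degree d as an additive map
  let π : ℕ → M →+ M := fun d =>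
    (AddSubmonoidClass.subtype (ℳ d)).comp
      ((DFinsupp.evalAddMonoidHom d).comp (DirectSum.decomposeAddEquiv ℳ).toAddMonoidHom)
  have hπ : ∀ d x, π d x = (DirectSum.decompose ℳ x d : M) := fun d x => rfl
  have key : ∀ d : ℕ, ∀ m : M, π d m ∈ N := by
    intro d
    induction d using Nat.strong_induction_on with
    | _ d ih =>
      intro m
      have hm : m ∈ (HomogeneousIdeal.irrelevant 𝒜).toIdeal • (⊤ : Submodule R M) ⊔ N := by
        rw [h]; trivial
      obtain ⟨u, hu, n, hn, rfl⟩ := Submodule.mem_sup.mp hm
      rw [map_add]
      refine N.add_mem ?_ (by rw [hπ]; exact hN n hn d)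
      refine Submodule.smul_induction_on hu ?_ ?_
      · intro r hr m' _
        have hr0 : (DirectSum.decompose 𝒜 r 0 : R) = 0 := by
          have := (HomogeneousIdeal.mem_irrelevant_iff 𝒜 r).mp hr
          rwa [GradedRing.proj_apply] at this
        have e1 : r = ∑ a ∈ (DirectSum.decompose 𝒜 r).support, (DirectSum.decompose 𝒜 r a : R) :=
          (DirectSum.sum_support_decompose 𝒜 r).symm
        have e2 : m' = ∑ b ∈ (DirectSum.decompose ℳ m').support, (DirectSum.decompose ℳ m' b : M) :=
          (DirectSum.sum_support_decompose ℳ m').symm
        rw [e1, e2, Finset.sum_smul_sum, map_sum]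
        refine N.sum_mem fun a _ => ?_
        rw [map_sum]
        refine N.sum_mem fun b _ => ?_
        have hmem : (DirectSum.decompose 𝒜 r a : R) • (DirectSum.decompose ℳ m' b : M) ∈ ℳ (a + b) :=
          SetLike.GradedSMul.smul_mem (DirectSum.decompose 𝒜 r a).2 (DirectSum.decompose ℳ m' b).2
        by_cases hab : a + b = d
        · rw [hπ, ← hab, DirectSum.decompose_of_mem_same ℳ hmem]
          by_cases ha : a = 0
          · subst ha
            rw [hr0, zero_smul]
            exact N.zero_mem
          · have hb : b < d := by omega
            exact N.smul_mem _ (by rw [← hπ]; exact ih b hb m')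
        · rw [hπ, DirectSum.decompose_of_mem_ne ℳ hmem hab]
          exact N.zero_mem
      · intro x y hx hy
        rw [map_add]
        exact N.add_mem hx hy
  rw [eq_top_iff]
  intro m _
  rw [← DirectSum.sum_support_decompose ℳ m]
  exact N.sum_mem fun d _ => key d m

end Groth.Agent.S14442
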