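import Groth.Statements.S14445
import Mathlib
import Groth.Agent.Helper9.LocTriv
-- import your own Groth.Agent.* helpers here

set_option autoImplicit false
universe u
open NonAbH1

namespace Groth.Agent.S14445

open CategoryTheory MonoidalCategory CartesianMonoidalCategory AlgebraicGeometry in
/-- Let S be a scheme, G a group scheme over S and X an S-scheme with an action of G. Then X is a
G-torsor for the fpqc topology — the morphism G ×_S X → X ×_S X, (g, x) ↦ (gx, x), is an isomorphism
and X → S acquires sections over the members of some fpqc covering family of S — if and only if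
there are an fpqc covering family of S and, for each member S' → S, an S-morphism s : S' → X for
which the G-equivariant S'-morphism G ×_S S' → X ×_S S', (g, t) ↦ (g·s(t), t), is an isomorphism; in
words, X becomes equivariantly isomorphic to the trivial torsor over each member of the covering.
(The published statement is set in any subcanonical site with fibre products, for an invariant arrow
X → Y; this row is its instance for schemes over S with the fpqc topology and Y = S.) -/
theorem result {S : Scheme.{u}} {G X : Over S} [GrpObj G]
    (a : AlgGrp.Action G X) :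
    NonAbH1.IsTorsorFor Scheme.fpqcPrecoverage a ↔
      ∃ R ∈ Scheme.fpqcPrecoverage S, ∀ ⦃S' : Scheme.{u}⦄ (f : S' ⟶ S), R f →
        ∃ s : Over.mk f ⟶ X, IsIso (lift ((G ◁ s) ≫ a.act) (snd G (Over.mk f))) := by
  constructor
  · rintro ⟨hps, R, hR, hsec⟩
    refine ⟨R, hR, ?_⟩
    intro S' f hf
    obtain ⟨s, hs⟩ := hsec f hf
    exact ⟨Over.homMk s hs, Groth.Agent.Helper9.TorsorTriv.triv_isIso a hps _⟩
  · rintro ⟨R, hR, h⟩
    refine ⟨?_, R, hR, ?_⟩
    · apply Groth.Agent.Helper9.LocTriv.isIso_of_loc _ R hR
      intro U t ht
      obtain ⟨s, hs⟩ := h t ht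
      exact Groth.Agent.Helper9.LocTriv.psi_whisker_isIso a s hs
    · intro S' f hf
      obtain ⟨s, hs⟩ := h f hf
      exact ⟨s.left, Over.w s⟩

end Groth.Agent.S14445
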