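import Groth.Statements.S1449
import Groth.Agent.Helper4.SN457
import Mathlib

set_option autoImplicit false
universe u
open FlatMor

namespace Groth.Agent.S1449


set_option backward.isDefEq.respectTransparency.types false in
open AlgebraicGeometry CategoryTheory Limits in
/-- Consider a separated, flat, locally quasi-finite morphism f : X → S which is locally of finite
presentation. Then there are opens S = U_0 ⊇ U_1 ⊇ U_2 ⊇ ... of S with the property that a morphism
from the spectrum of a field to S lands in U_d exactly when the base change of X to that field has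
rank (of its ring of global functions over the field) at least d. -/
theorem result {X S : Scheme.{u}} (f : X ⟶ S) [Flat f] [LocallyOfFinitePresentation f] [IsSeparated f] [LocallyQuasiFinite f] :
    ∃ U : ℕ → S.Opens, Antitone U ∧ U 0 = ⊤ ∧ ∀ (K : Type u) [Field K] (g : Spec (CommRingCat.of K) ⟶ S) (d : ℕ),
      Set.range ⇑g ⊆ (U d : Set ↑S) ↔ (d : Cardinal.{u}) ≤ (letI := ((Scheme.ΓSpecIso (CommRingCat.of K)).inv ≫ (pullback.snd f g).appTop).hom.toAlgebra
        Module.rank K (Γ(pullback f g, ⊤) : Type u)) := by

  have hiff : ∀ (K : Type u) [Field K] (g : Spec (CommRingCat.of K) ⟶ S) (d : ℕ),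
      Groth.Agent.Helper4.SN457.Wit f d (g (IsLocalRing.closedPoint K)) ↔
        (d : Cardinal.{u}) ≤ Groth.Agent.Helper4.SN456.crk K (pullback.snd f g) :=
    fun K _ g d => ⟨Groth.Agent.Helper4.SN457.le_crk_of_wit K f g d,
      Groth.Agent.Helper4.SN457.wit_of_le_crk K f g d⟩
  refine ⟨fun d => ⟨{s | Groth.Agent.Helper4.SN457.Wit f d s},
    Groth.Agent.Helper4.SN457.isOpen_wit f d⟩, ?_, ?_, ?_⟩
  · intro d d' h s hs
    exact Groth.Agent.Helper4.SN457.Wit.mono f h s hs
  · rw [eq_top_iff]
    intro s _
    have h0 := (hiff (S.residueField s) (S.fromSpecResidueField s) 0).mpr (by simp)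
    rw [Scheme.fromSpecResidueField_apply] at h0
    exact h0
  · intro K _ g d
    haveI : Subsingleton (Spec (CommRingCat.of K)) :=
      inferInstanceAs (Subsingleton (PrimeSpectrum K))
    refine Iff.trans ?_ (hiff K g d)
    constructor
    · intro h
      exact h ⟨IsLocalRing.closedPoint K, rfl⟩
    · rintro h _ ⟨z, rfl⟩
      rw [Subsingleton.elim z (IsLocalRing.closedPoint K)]
      exact h

end Groth.Agent.S1449
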