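import Groth.Statements.S14491
import Mathlib

set_option autoImplicit false
universe w v u
open DerTri

namespace Groth.Agent.S14491

open CategoryTheory Pretriangulated Limits

open CategoryTheory Pretriangulated in
/-- In the derived category D(C) of an abelian category C, let E ⟶ F ⟶ G be two morphisms with E
concentrated in non-positive degrees and G concentrated in non-negative degrees for the canonical
t-structure. If two morphisms G ⟶ E⟦1⟧ both complete E ⟶ F ⟶ G to a distinguished triangle, then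
they are equal. (The published statement is phrased with the morphism G⟦-1⟧ ⟶ E of the triangle
G⟦-1⟧ ⟶ E ⟶ F ⟶ G; this row uses the equivalent connecting morphism G ⟶ E⟦1⟧ of the rotated
triangle.) -/
theorem result {C : Type u} [Category.{v} C] [Abelian C]
    [HasDerivedCategory.{w} C] {E F G : DerivedCategory C} (u : E ⟶ F) (v : F ⟶ G)
    [E.IsLE 0] [G.IsGE 0] (w w' : G ⟶ E⟦(1 : ℤ)⟧)
    (hw : Triangle.mk u v w ∈ distTriang (DerivedCategory C))
    (hw' : Triangle.mk u v w' ∈ distTriang (DerivedCategory C)) :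
    w = w' := by
  obtain ⟨γ, hγ1, hγ2⟩ := Pretriangulated.complete_distinguished_triangle_morphism _ _ hw hw' (𝟙 E) (𝟙 F)
    (by change u ≫ 𝟙 F = 𝟙 E ≫ u; rw [Category.comp_id, Category.id_comp])
  change G ⟶ G at γ
  change v ≫ γ = 𝟙 F ≫ v at hγ1
  change w ≫ (𝟙 E)⟦(1:ℤ)⟧' = γ ≫ w' at hγ2
  rw [Category.id_comp] at hγ1
  rw [CategoryTheory.Functor.map_id, Category.comp_id] at hγ2
  -- (γ - 𝟙) factors through w
  have h0 : v ≫ (γ - 𝟙 G) = 0 := by
    rw [Preadditive.comp_sub, hγ1, Category.comp_id, sub_self]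
  obtain ⟨θ, hθ⟩ := Pretriangulated.Triangle.yoneda_exact₃ (Triangle.mk u v w) hw (γ - 𝟙 G) h0
  change E⟦(1:ℤ)⟧ ⟶ G at θ
  change γ - 𝟙 G = w ≫ θ at hθ
  have : DerivedCategory.TStructure.t.IsLE (E⟦(1 : ℤ)⟧) (-1) :=
    DerivedCategory.TStructure.t.isLE_shift E 0 1 (-1) (by norm_num)
  have hθ0 : θ = 0 := DerivedCategory.TStructure.t.zero θ (-1) 0 (by norm_num)
  rw [hθ0, comp_zero, sub_eq_zero] at hθ
  rw [hγ2, hθ, Category.id_comp]

end Groth.Agent.S14491
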