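import Groth.Statements.S1458
import Mathlib

set_option autoImplicit false
universe u
open FlatMor

namespace Groth.Agent.S1458

open TensorProduct

section
variable {A B : Type u} [CommRing A] [CommRing B] [Algebra A B]
variable {n m : ℕ} (π : (Fin n → A) →ₗ[A] B) (κ : (Fin m → A) →ₗ[A] (Fin n → A))

/-- the generators. -/
noncomputable def gen (k : Fin n) : B := π (Pi.single k 1)

theorem pi_eq (f : Fin n → A) : π f = ∑ k, f k • gen π k := by
  rw [LinearMap.pi_apply_eq_sum_univ π f]
  refine Finset.sum_congr rfl fun k _ => ?_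
  congr 2
  ext j
  simp [Pi.single_apply, eq_comm]

variable (A' : Type u) [CommRing A'] [Algebra A A']

/-- right exactness in coordinates. -/
theorem rel_of_sum_eq_zero (hπ : Function.Surjective π) (hex : Function.Exact κ π)
    (z : Fin n → A') (hz : ∑ k, z k ⊗ₜ[A] gen π k = 0) :
    ∃ y : Fin m → A', ∀ k, z k = ∑ l, (κ (Pi.single l 1) k) • y l := by
  let en := TensorProduct.piScalarRight A A A' (Fin n)
  let em := TensorProduct.piScalarRight A A A' (Fin m)
  have hsymm : ∀ (N : ℕ) (x : Fin N → A'),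
      (TensorProduct.piScalarRight A A A' (Fin N)).symm x = ∑ k, x k ⊗ₜ[A] (Pi.single k (1 : A)) := by
    intro N x
    conv_lhs => rw [← Finset.univ_sum_single x]
    rw [map_sum]
    refine Finset.sum_congr rfl fun k _ => ?_
    exact TensorProduct.piScalarRight_symm_single A A A' (Fin N) (x k) k
  set W := en.symm z with hW
  have hW0 : (π.lTensor A') W = 0 := by
    rw [hW, hsymm n z, map_sum]
    simpa [gen] using hz
  have hexact := lTensor_exact A' hex hπ
  obtain ⟨w, hw⟩ := (hexact W).mp hW0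
  refine ⟨em w, fun k => ?_⟩
  have h1 : w = ∑ l, (em w) l ⊗ₜ[A] (Pi.single l (1 : A)) := by
    rw [← hsymm m (em w)]
    exact (em.symm_apply_apply w).symm
  have h2 : z = en ((κ.lTensor A') w) := by
    rw [hw, hW]
    exact (en.apply_symm_apply z).symm
  rw [h2]
  conv_lhs => rw [h1]
  rw [map_sum, map_sum, Finset.sum_apply]
  refine Finset.sum_congr rfl fun l _ => ?_
  simp [en, TensorProduct.piScalarRight_apply, TensorProduct.piScalarRightHom_tmul]

/-- the element with coordinates `x`. -/
noncomputable def E (x : Fin n → A') : B ⊗[A] A' := ∑ k, gen π k ⊗ₜ[A] x k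

theorem exists_E (hπ : Function.Surjective π) (e : B ⊗[A] A') : ∃ x : Fin n → A', e = E π A' x := by
  induction e using TensorProduct.induction_on with
  | zero => exact ⟨0, by simp [E]⟩
  | tmul b a =>
    obtain ⟨f, rfl⟩ := hπ b
    refine ⟨fun k => f k • a, ?_⟩
    rw [pi_eq, E, TensorProduct.sum_tmul]
    refine Finset.sum_congr rfl fun k _ => ?_
    rw [TensorProduct.smul_tmul]
  | add e₁ e₂ h₁ h₂ =>
    obtain ⟨x₁, rfl⟩ := h₁
    obtain ⟨x₂, rfl⟩ := h₂
    refine ⟨x₁ + x₂, ?_⟩
    simp [E, TensorProduct.tmul_add, Finset.sum_add_distrib]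

theorem E_mul_E (c : Fin n → Fin n → Fin n → A)
    (hc : ∀ i j, gen π i * gen π j = ∑ k, c i j k • gen π k) (x : Fin n → A') :
    E π A' x * E π A' x = E π A' (fun k => ∑ i, ∑ j, c i j k • (x i * x j)) := by
  simp only [E]
  rw [Finset.sum_mul_sum]
  have h1 : ∀ i j, (gen π i ⊗ₜ[A] x i) * (gen π j ⊗ₜ[A] x j) =
      ∑ k, gen π k ⊗ₜ[A] (c i j k • (x i * x j)) := by
    intro i j
    rw [Algebra.TensorProduct.tmul_mul_tmul, hc, TensorProduct.sum_tmul]
    refine Finset.sum_congr rfl fun k _ => ?_
    rw [TensorProduct.smul_tmul]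
  simp only [h1, TensorProduct.tmul_sum]
  rw [Finset.sum_congr rfl (fun i _ => Finset.sum_comm), Finset.sum_comm]


theorem E_add (x x' : Fin n → A') : E π A' (x + x') = E π A' x + E π A' x' := by
  simp [E, TensorProduct.tmul_add, Finset.sum_add_distrib]

theorem E_sub (x x' : Fin n → A') : E π A' (x - x') = E π A' x - E π A' x' := by
  simp [E, TensorProduct.tmul_sub, Finset.sum_sub_distrib]

theorem E_rel (kk : Fin m → Fin n → A) (hkk : ∀ l, ∑ k, kk l k • gen π k = 0) (y : Fin m → A') :
    E π A' (fun k => ∑ l, kk l k • y l) = 0 := by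
  simp only [E, TensorProduct.tmul_sum]
  rw [Finset.sum_comm]
  apply Finset.sum_eq_zero
  intro l _
  have : ∀ k, gen π k ⊗ₜ[A] (kk l k • y l) = (kk l k • gen π k) ⊗ₜ[A] y l := fun k => by
    rw [TensorProduct.smul_tmul]
  simp only [this]
  rw [← TensorProduct.sum_tmul, hkk, TensorProduct.zero_tmul]

theorem sum_comm_eq_zero (z : Fin n → A') (h : E π A' z = 0) : ∑ k, z k ⊗ₜ[A] gen π k = 0 := by
  have := congrArg (TensorProduct.comm A B A') h
  simpa [E] using this

end

open MvPolynomial

open TensorProduct in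
/-- Let A → B be a finite ring map of finite presentation. Then there are a finitely presented A-algebra
A_u and an idempotent e_u of B ⊗_A A_u such that for every A-algebra A' and every idempotent e of B
⊗_A A' there is an A-algebra map A_u → A' whose induced map B ⊗ A_u → B ⊗ A' sends e_u to e. -/
theorem result {A B : Type u} [CommRing A] [CommRing B] [Algebra A B] [Module.Finite A B] [Algebra.FinitePresentation A B] :
    ∃ (Au : Type u) (_ : CommRing Au) (_ : Algebra A Au) (eu : B ⊗[A] Au), Algebra.FinitePresentation A Au ∧ IsIdempotentElem eu ∧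
      ∀ (A' : Type u) [CommRing A'] [Algebra A A'] (e : B ⊗[A] A'), IsIdempotentElem e →
        ∃ φ : Au →ₐ[A] A', Algebra.TensorProduct.map (AlgHom.id A B) φ eu = e := by
  have hfp : Module.FinitePresentation A B :=
    Module.FinitePresentation.of_finite_of_finitePresentation A B
  obtain ⟨n, m, π, κ, hπ, hex⟩ := Module.FinitePresentation.exists_fin' A B
  have hc' : ∀ i j, ∃ f : Fin n → A, π f = gen π i * gen π j := fun i j => hπ _
  choose c hc using hc'
  have hc2 : ∀ i j, gen π i * gen π j = ∑ k, c i j k • gen π k := fun i j => by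
    rw [← hc, pi_eq]
  let kk : Fin m → Fin n → A := fun l => κ (Pi.single l 1)
  have hkk : ∀ l, ∑ k, kk l k • gen π k = 0 := fun l => by
    rw [← pi_eq]; exact hex.apply_apply_eq_zero _
  let P := MvPolynomial (Fin n ⊕ Fin m) A
  let rel : Fin n → P := fun k =>
    (∑ i, ∑ j, C (c i j k) * (X (Sum.inl i) * X (Sum.inl j))) - X (Sum.inl k) -
      ∑ l, C (kk l k) * X (Sum.inr l)
  let I : Ideal P := Ideal.span (Set.range rel)
  have hIfg : I.FG := Submodule.fg_span (Set.finite_range rel)
  have hAufp : Algebra.FinitePresentation A (P ⧸ I) := Algebra.FinitePresentation.quotient hIfg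
  let xb : Fin n → P ⧸ I := fun i => Ideal.Quotient.mk I (X (Sum.inl i))
  let yb : Fin m → P ⧸ I := fun l => Ideal.Quotient.mk I (X (Sum.inr l))
  have hsmul : ∀ (a : A) (z : P ⧸ I), a • z = Ideal.Quotient.mk I (C a) * z := by
    intro a z
    exact (Algebra.smul_def a z).trans rfl
  have hrel : (fun k => ∑ i, ∑ j, c i j k • (xb i * xb j)) =
      xb + fun k => ∑ l, kk l k • yb l := by
    funext k
    have h0 : Ideal.Quotient.mk I (rel k) = 0 :=
      Ideal.Quotient.eq_zero_iff_mem.mpr (Ideal.subset_span ⟨k, rfl⟩)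
    simp only [rel, map_sub, map_sum, map_mul] at h0
    rw [sub_sub, sub_eq_zero] at h0
    simp only [Pi.add_apply, xb, yb, hsmul]
    exact h0
  refine ⟨P ⧸ I, inferInstance, inferInstance, E π (P ⧸ I) xb, hAufp, ?_, ?_⟩
  · change E π (P ⧸ I) xb * E π (P ⧸ I) xb = E π (P ⧸ I) xb
    rw [E_mul_E π (P ⧸ I) c hc2 xb, hrel, E_add, E_rel π (P ⧸ I) kk hkk yb, add_zero]
  · intro A' _ _ e he
    obtain ⟨x, rfl⟩ := exists_E π A' hπ e
    have h0 : E π A' ((fun k => ∑ i, ∑ j, c i j k • (x i * x j)) - x) = 0 := by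
      rw [E_sub, ← E_mul_E π A' c hc2 x, he.eq, sub_self]
    obtain ⟨y, hy⟩ := rel_of_sum_eq_zero π κ A' hπ hex _ (sum_comm_eq_zero π A' _ h0)
    let φ0 : P →ₐ[A] A' := MvPolynomial.aeval (Sum.elim x y)
    have hφ0 : ∀ a ∈ I, φ0 a = 0 := by
      intro a ha
      have hle : I ≤ RingHom.ker φ0.toRingHom := by
        rw [Ideal.span_le]
        rintro _ ⟨k, rfl⟩
        rw [SetLike.mem_coe, RingHom.mem_ker]
        have := hy k
        simp only [Pi.sub_apply, Algebra.smul_def] at this
        change MvPolynomial.aeval (Sum.elim x y) (rel k) = 0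
        simp only [rel, map_sub, map_sum, map_mul, MvPolynomial.aeval_X, Sum.elim_inl,
          Sum.elim_inr]
        rw [sub_eq_zero]
        convert this using 3 with i _ j _ l _
        · exact Finset.sum_congr rfl fun j _ => by rw [MvPolynomial.aeval_C]
        · rw [MvPolynomial.aeval_C]
      exact hle ha
    refine ⟨Ideal.Quotient.liftₐ I φ0 hφ0, ?_⟩
    simp only [E, map_sum, Algebra.TensorProduct.map_tmul, AlgHom.coe_id, id_eq]
    refine Finset.sum_congr rfl fun k _ => ?_
    congr 1
    exact (MvPolynomial.aeval_X (Sum.elim x y) (Sum.inl k)).trans rfl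

end Groth.Agent.S1458
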