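import Groth.Statements.S14586
import Mathlib
import Groth.Agent.Helper2.OrbitCl
import Groth.Agent.S7984
open Groth.Agent.Helper2 Groth.Agent.Helper2.OrbitCl Groth.Agent.Helper2.OrbitLC Groth.Agent.Helper2.HS2 Topology
-- import your own Groth.Agent.* helpers here

set_option autoImplicit false
universe u
open CategoryTheory MonoidalCategory CartesianMonoidalCategory MonObj GrpObj AlgebraicGeometry CategoryTheory.Limits
open AlgGrp

namespace Groth.Agent.S14586

/-- Let k be an algebraically closed field, G a smooth k-group scheme of finite type and X a non-empty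
separated k-scheme of finite type with an action of G. Then there is a rational point x of X whose
orbit, the image of the orbit map g ↦ g · x, is closed in X. -/
theorem result (k : Type u) [Field k] [IsAlgClosed k]
    (G X : Over (Spec (CommRingCat.of k))) [GrpObj G] [Smooth G.hom] [QuasiCompact G.hom]
    [LocallyOfFiniteType X.hom] [QuasiCompact X.hom] [IsSeparated X.hom] [Nonempty ↥X.left]
    (a : AlgGrp.Action G X) :
    ∃ x : 𝟙_ (Over (Spec (CommRingCat.of k))) ⟶ X, IsClosed (Set.range ⇑(a.orbitMap x).left.base) := by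
  haveI : IsLocallyNoetherian X.left := LocallyOfFiniteType.isLocallyNoetherian X.hom
  haveI : CompactSpace X.left :=
    (HasAffineProperty.iff_of_isAffine (P := @QuasiCompact)).mp ‹QuasiCompact X.hom›
  haveI : IsNoetherian X.left := { }
  haveI : JacobsonSpace X.left := LocallyOfFiniteType.jacobsonSpace X.hom
  haveI : LocallyOfFiniteType G.hom := inferInstance
  have hrat : ∀ y : X.left, IsClosed ({y} : Set X.left) →
      ∃ x' : 𝟙_ (Over (Spec (CommRingCat.of k))) ⟶ X, x'.left (IsLocalRing.closedPoint k) = y := by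
    intro y hy
    exact ⟨Over.homMk (pointOfClosedPoint X.hom y hy) (pointOfClosedPoint_comp X.hom y hy),
      pointOfClosedPoint_apply _ _ _ _⟩
  let 𝒮 : Set (TopologicalSpace.Closeds X.left) :=
    {Z | ∃ x : 𝟙_ (Over (Spec (CommRingCat.of k))) ⟶ X,
      (Z : Set X.left) = closure (Set.range (a.orbitMap x).left)}
  have hne : 𝒮.Nonempty := by
    obtain ⟨y, -, hy⟩ := nonempty_inter_closedPoints (Set.univ_nonempty (α := X.left))
      isOpen_univ.isLocallyClosed
    obtain ⟨x', -⟩ := hrat y hy
    exact ⟨⟨closure _, isClosed_closure⟩, x', rfl⟩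
  obtain ⟨Z, ⟨x, hZx⟩, hmin⟩ := wellFounded_lt.has_min 𝒮 hne
  refine ⟨x, ?_⟩
  set O := Set.range (a.orbitMap x).left with hO
  have hlc : IsLocallyClosed O := Groth.Agent.S7984.result k G X a x
  have hcl2 : IsClosed ((Z : Set X.left) \ O) := by
    rw [hZx]
    have := hlc.isOpen_coborder
    rw [coborder] at this
    exact isOpen_compl_iff.mp this
  by_contra hcl
  have hne2 : ((Z : Set X.left) \ O).Nonempty := by
    by_contra hemp
    rw [Set.not_nonempty_iff_eq_empty, Set.sdiff_eq_empty] at hemp
    apply hcl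
    have hOZ : O = (Z : Set X.left) := by
      refine Set.Subset.antisymm ?_ hemp
      rw [hZx]
      exact subset_closure
    change IsClosed O
    rw [hOZ]
    exact Z.2
  obtain ⟨y, ⟨hyZ, hyO⟩, hy⟩ := nonempty_inter_closedPoints hne2 hcl2.isLocallyClosed
  obtain ⟨x', hx'⟩ := hrat y hy
  -- the complement is stable
  have hstab : ∀ p : ↥(G ⊗ X).left, (snd G X).left p ∈ (Z : Set X.left) \ O →
      a.act.left p ∈ (Z : Set X.left) \ O := by
    intro p ⟨hp1, hp2⟩
    refine ⟨?_, fun h => hp2 (orbit_stable' a x p h)⟩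
    rw [hZx] at hp1 ⊢
    exact closure_orbit_stable a x p hp1
  have hsub : Set.range (a.orbitMap x').left ⊆ (Z : Set X.left) \ O :=
    orbit_subset a x' _ hstab (hx' ▸ ⟨hyZ, hyO⟩)
  let Z' : TopologicalSpace.Closeds X.left := ⟨closure (Set.range (a.orbitMap x').left),
    isClosed_closure⟩
  have hZ'le : (Z' : Set X.left) ⊆ (Z : Set X.left) \ O := closure_minimal hsub hcl2
  have hZ'S : Z' ∈ 𝒮 := ⟨x', rfl⟩
  have hlt : Z' < Z := by
    refine lt_of_le_of_ne (fun z hz => (hZ'le hz).1) ?_
    intro heq
    have hxO : x.left (IsLocalRing.closedPoint k) ∈ O := by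
      refine ⟨η[G].left (IsLocalRing.closedPoint k), ?_⟩
      have h1 : η[G] ≫ a.orbitMap x = x := by
        rw [comp_orbitMap]
        have h2 : η[G] = (1 : 𝟙_ (Over (Spec (CommRingCat.of k))) ⟶ G) := by
          rw [Hom.one_def, toUnit_unique (toUnit _) (𝟙 _), Category.id_comp]
        rw [h2, HS2.one_smul, toUnit_unique (toUnit _) (𝟙 _), Category.id_comp]
      rw [← Scheme.Hom.comp_apply, ← Over.comp_left, h1]
    have : x.left (IsLocalRing.closedPoint k) ∈ (Z' : Set X.left) := by
      rw [heq, hZx]
      exact subset_closure hxO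
    exact (hZ'le this).2 hxO
  exact hmin Z' hZ'S hlt

end Groth.Agent.S14586
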