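import Groth.Statements.S1460
import Groth.Agent.Lead.LimModelFT
import Mathlib

set_option autoImplicit false
universe u
open FlatMor

namespace Groth.Agent.S1460

open AlgebraicGeometry CategoryTheory Limits in
/-- Let f : X → S be a morphism of finite presentation between affine schemes. Then f is the base change
of a morphism of finite type f₀ : X₀ → S₀ between affine schemes with S₀ of finite type over ℤ. -/
theorem result {X S : Scheme.{u}} (f : X ⟶ S) [IsAffine X] [IsAffine S] [LocallyOfFinitePresentation f] :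
    ∃ (X₀ S₀ : Scheme.{u}) (f₀ : X₀ ⟶ S₀) (g : S ⟶ S₀) (g' : X ⟶ X₀), IsAffine X₀ ∧ IsAffine S₀ ∧ IsPullback g' f f₀ g ∧
      Algebra.FiniteType ℤ Γ(S₀, ⊤) ∧ LocallyOfFiniteType f₀ := by
  obtain ⟨A₀, B₀, _, _, b, hfg, hQ₀, hfp₀, hpb⟩ := Groth.Agent.Lead.LimModel.exists_spec_model
    @LocallyOfFinitePresentation RingHom.FinitePresentation
    Groth.Agent.Lead.LimModel.finitePresentation_core f inferInstance
  refine ⟨Spec (.of B₀), Spec (.of A₀), Spec.map (CommRingCat.ofHom (algebraMap A₀ B₀)), _, b,
    inferInstance, inferInstance, hpb, ?_, ?_⟩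
  · have hft : Algebra.FiniteType ℤ A₀ := (Subalgebra.fg_iff_finiteType A₀).mp hfg
    exact Algebra.FiniteType.equiv hft
      (Scheme.ΓSpecIso (.of A₀)).symm.commRingCatIsoToRingEquiv.toIntAlgEquiv
  · have : LocallyOfFinitePresentation (Spec.map (CommRingCat.ofHom (algebraMap A₀ B₀))) :=
      (HasRingHomProperty.Spec_iff (P := @LocallyOfFinitePresentation)).mpr hQ₀
    infer_instance

end Groth.Agent.S1460
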