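import Groth.Statements.S14619
import Groth.Agent.Helper1.TruncFin4
import Groth.Agent.Helper1.Bridge9
import Groth.Agent.Helper1.DRankVanish

set_option autoImplicit false
universe u
open Coherent

namespace Groth.Agent.S14619

open CategoryTheory CategoryTheory.Limits AlgebraicGeometry in
/-- Let A be a Noetherian ring, X a proper scheme over Spec A and F a coherent O_X-module flat over Spec
A. Suppose H^p(X, F) = 0 for all p > d and H^p(X_y, F|X_y) = 0 for every point y of Spec A and every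
p < d'. Then there is a cochain complex L of finitely generated projective A-modules, with L^i = 0
unless d' ≤ i ≤ d and with L = 0 when all H^p(X, F) vanish, such that for every A-algebra B and
every p the cohomology H^p(X ×_A Spec B, ξ^*F) of the pulled-back module is isomorphic to H^p(L ⊗_A
B). Only the existence of these isomorphisms of abelian groups is asserted (no naturality in B). -/
theorem result (A : Type u) [CommRing A] [IsNoetherianRing A] (X : Scheme.{u}) [X.Over (Spec (CommRingCat.of A))]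
    [IsProper (X ↘ Spec (CommRingCat.of A))] (F : X.Modules) (hF : Coh.IsCoh F)
    (hfl : FlatMod.IsFlatOver (X ↘ Spec (CommRingCat.of A)) F) (d' d : ℕ)
    (hd : ∀ p : ℕ, d < p → Subsingleton (Coh.HH X F p))
    (hd' : ∀ (y : ↑(Spec (CommRingCat.of A))) (p : ℕ), p < d' →
      Subsingleton (CohIII.fiberH (X ↘ Spec (CommRingCat.of A)) F y p)) :
    ∃ L : CochainComplex (ModuleCat.{u} A) ℤ,
      (∀ i, Module.Finite A (L.X i) ∧ Module.Projective A (L.X i)) ∧
      (∀ i : ℤ, i < (d' : ℤ) ∨ (d : ℤ) < i → IsZero (L.X i)) ∧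
      ((∀ p : ℕ, Subsingleton (Coh.HH X F p)) → ∀ i, IsZero (L.X i)) ∧
      ∀ (B : Type u) [CommRing B] [Algebra A B] (p : ℕ),
        Nonempty (Coh.HH (pullback (X ↘ Spec (CommRingCat.of A)) (Spec.map (CommRingCat.ofHom (algebraMap A B))))
            ((Scheme.Modules.pullback (pullback.fst (X ↘ Spec (CommRingCat.of A))
              (Spec.map (CommRingCat.ofHom (algebraMap A B))))).obj F) p ≃+
          CohIII.T L (p : ℤ) (ModuleCat.of A B)) := by
  classical
  obtain ⟨L, hLff, ⟨b, hb⟩, hpos, -, hrank, hBC, hhom⟩ :=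
    Groth.Agent.Helper1.Bridge.exists_complex'' A X F hF hfl
  have hL : ∀ i, Module.Finite A (L.X i) ∧ Module.Projective A (L.X i) := fun i => by
    haveI := (hLff i).2
    exact ⟨(hLff i).1, inferInstance⟩
  have hLfl : ∀ i, Module.Finite A (L.X i) ∧ Module.Flat A (L.X i) := fun i => by
    haveI := (hLff i).2
    exact ⟨(hLff i).1, inferInstance⟩
  -- the `B`-points of a complex quasi-isomorphic to `L`
  have hpts : ∀ (L₂ : ChainComplex (ModuleCat.{u} A) ℤ),
      (∀ (B : Type u) [CommRing B] [Algebra A B] (p : ℤ),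
        Nonempty ((CohIII.bcCx (algebraMap A B) L₂).homology p ≅
          (CohIII.bcCx (algebraMap A B) L).homology p)) →
      ∀ (B : Type u) [CommRing B] [Algebra A B] (p : ℕ),
        Nonempty (Coh.HH (pullback (X ↘ Spec (CommRingCat.of A))
              (Spec.map (CommRingCat.ofHom (algebraMap A B))))
            ((Scheme.Modules.pullback (pullback.fst (X ↘ Spec (CommRingCat.of A))
              (Spec.map (CommRingCat.ofHom (algebraMap A B))))).obj F) p ≃+
          CohIII.T (L₂.extend Groth.Agent.Helper1.Bridge.embFlip) (p : ℤ) (ModuleCat.of A B)) := by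
    intro L₂ h₂ B _ _ p
    letI : (pullback (X ↘ Spec (CommRingCat.of A))
        (Spec.map (CommRingCat.ofHom (algebraMap A B)))).Over (Spec (CommRingCat.of B)) :=
      ⟨pullback.snd _ _⟩
    obtain ⟨e1⟩ := hBC B (pullback (X ↘ Spec (CommRingCat.of A))
        (Spec.map (CommRingCat.ofHom (algebraMap A B)))) (pullback.fst _ _)
      (IsPullback.of_hasPullback _ _) p
    obtain ⟨e2⟩ := h₂ B (-(p : ℤ))
    let e3 := Groth.Agent.Helper1.BCFlatCoh.bcHomologyIso' B L₂ (-(p : ℤ))
    have hpp : Groth.Agent.Helper1.Bridge.embFlip.f (-(p : ℤ)) = (p : ℤ) := by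
      simp
    let e4 := (Groth.Agent.Helper1.Bridge.tfunExtendIso Groth.Agent.Helper1.Bridge.embFlip L₂
      (-(p : ℤ))).app (ModuleCat.of A B)
    have e5 : CohIII.T (L₂.extend Groth.Agent.Helper1.Bridge.embFlip)
        (Groth.Agent.Helper1.Bridge.embFlip.f (-(p : ℤ))) (ModuleCat.of A B) ≃+
        CohIII.T (L₂.extend Groth.Agent.Helper1.Bridge.embFlip) (p : ℤ) (ModuleCat.of A B) := by
      rw [hpp]
    exact ⟨(e1.symm.toAddEquiv.trans e2.symm.toLinearEquiv.toAddEquiv).trans
      ((e3.toLinearEquiv.toAddEquiv.trans e4.symm.toLinearEquiv.toAddEquiv).trans e5)⟩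
  -- terms of the flipped complex
  have hX : ∀ (L₂ : ChainComplex (ModuleCat.{u} A) ℤ) (i : ℤ),
      Nonempty ((L₂.extend Groth.Agent.Helper1.Bridge.embFlip).X i ≅ L₂.X (-i)) := by
    intro L₂ i
    have hi : Groth.Agent.Helper1.Bridge.embFlip.f (-i) = i := by simp
    exact ⟨L₂.extendXIso Groth.Agent.Helper1.Bridge.embFlip hi⟩
  have hfin : ∀ (L₂ : ChainComplex (ModuleCat.{u} A) ℤ),
      (∀ i, Module.Finite A (L₂.X i) ∧ Module.Projective A (L₂.X i)) →
      ∀ i, Module.Finite A ((L₂.extend Groth.Agent.Helper1.Bridge.embFlip).X i) ∧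
        Module.Projective A ((L₂.extend Groth.Agent.Helper1.Bridge.embFlip).X i) := by
    intro L₂ h₂ i
    obtain ⟨e⟩ := hX L₂ i
    obtain ⟨h1, h2⟩ := h₂ (-i)
    haveI := h1
    haveI := h2
    exact ⟨Module.Finite.equiv e.toLinearEquiv.symm, Module.Projective.of_equiv e.toLinearEquiv.symm⟩
  have hlo0 : ∀ (c : ℕ), (∀ p : ℕ, c < p → Subsingleton (Coh.HH X F p)) →
      ∀ q : ℤ, q < -(c : ℤ) → IsZero (L.homology q) := by
    intro c hc q hq
    obtain ⟨p, rfl⟩ : ∃ p : ℕ, q = -(p : ℤ) := ⟨q.natAbs, by omega⟩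
    obtain ⟨e⟩ := hhom p
    haveI := hc p (by omega)
    haveI : Subsingleton (L.homology (-(p : ℤ))) := e.toEquiv.subsingleton
    exact ModuleCat.isZero_of_subsingleton _
  by_cases hall : ∀ p : ℕ, Subsingleton (Coh.HH X F p)
  · have hlo : ∀ q : ℤ, q < 1 → IsZero (L.homology q) := by
      intro q hq
      obtain ⟨p, rfl⟩ : ∃ p : ℕ, q = -(p : ℤ) := ⟨q.natAbs, by omega⟩
      obtain ⟨e⟩ := hhom p
      haveI := hall p
      haveI : Subsingleton (L.homology (-(p : ℤ))) := e.toEquiv.subsingleton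
      exact ModuleCat.isZero_of_subsingleton _
    obtain ⟨L₂, hL₂, hz₂, hbc₂⟩ := Groth.Agent.Helper1.TruncFin.exists_trunc L hL b hb 1 0
      hpos hlo
    have hz : ∀ i, IsZero ((L₂.extend Groth.Agent.Helper1.Bridge.embFlip).X i) := by
      intro i
      obtain ⟨e⟩ := hX L₂ i
      exact (hz₂ (-i) (by omega)).of_iso e
    exact ⟨L₂.extend Groth.Agent.Helper1.Bridge.embFlip, hfin L₂ hL₂, fun i _ => hz i,
      fun _ => hz, hpts L₂ hbc₂⟩
  · have hhi : ∀ q : ℤ, -(d' : ℤ) < q → ∀ M : ModuleCat.{u} A,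
        IsZero ((CohIII.TFun L q).obj M) := by
      intro q hq M
      by_cases hq0 : 0 < q
      · exact hpos q hq0 M
      · obtain ⟨p, rfl⟩ : ∃ p : ℕ, q = -(p : ℤ) := ⟨q.natAbs, by omega⟩
        have hp : p < d' := by omega
        refine Groth.Agent.Helper1.DRankVanish.isZero_TFun_of_dRank_eq_zero L hLfl _
          (fun y => ?_) M
        rw [hrank p y]
        haveI := hd' y p hp
        exact Module.finrank_zero_of_subsingleton
    obtain ⟨L₂, hL₂, hz₂, hbc₂⟩ := Groth.Agent.Helper1.TruncFin.exists_trunc L hL b hb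
      (-(d : ℤ)) (-(d' : ℤ)) hhi (hlo0 d hd)
    refine ⟨L₂.extend Groth.Agent.Helper1.Bridge.embFlip, hfin L₂ hL₂, ?_,
      fun h => absurd h hall, hpts L₂ hbc₂⟩
    intro i hi
    obtain ⟨e⟩ := hX L₂ i
    refine (hz₂ (-i) ?_).of_iso e
    rcases hi with hi | hi
    · right
      omega
    · left
      omega

end Groth.Agent.S14619
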