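import Groth.Statements.S14628
import Groth.Agent.Helper4.EtGeom
import Groth.Agent.Helper4.CechGenC
import Mathlib

set_option autoImplicit false
open CategoryTheory CategoryTheory.Limits AlgebraicGeometry
universe u
open EtBase

namespace Groth.Agent.S14628


/-- On the small étale site of a scheme, let 0 → F' → F → F'' → 0 be a short exact sequence of abelian
étale sheaves on a scheme X. If F' and F are flasque in the Čech sense (for every étale U over X and
every jointly surjective family of étale U-schemes, Čech cohomology in positive degrees vanishes),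
then so is F''. The finite products of the over categories (the fibre products entering the Čech
complexes) are carried as instance hypotheses. -/
theorem result {X : Scheme.{u}}
    [∀ U : X.Etale, HasFiniteProducts (Over U)] (S : ShortComplex (EtCoh.Ab X)) (hS : S.ShortExact)
    (h1 : (∀ (U : X.Etale) (ι : Type (u + 1)) (Uf : ι → Over U),
      (∀ x : ↥(U.left), ∃ (i : ι) (y : ↥((Uf i).left.left)), (Uf i).hom.left.base y = x) →
      ∀ p : ℕ, 0 < p → IsZero (EtCech.cechH Uf S.X₁.obj p)))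
    (h2 : (∀ (U : X.Etale) (ι : Type (u + 1)) (Uf : ι → Over U),
      (∀ x : ↥(U.left), ∃ (i : ι) (y : ↥((Uf i).left.left)), (Uf i).hom.left.base y = x) →
      ∀ p : ℕ, 0 < p → IsZero (EtCech.cechH Uf S.X₂.obj p)))
    (U : X.Etale) (ι : Type (u + 1)) (Uf : ι → Over U)
    (hU : ∀ x : ↥(U.left), ∃ (i : ι) (y : ↥((Uf i).left.left)), (Uf i).hom.left.base y = x)
    (p : ℕ) (hp : 0 < p) :
    IsZero (EtCech.cechH Uf S.X₃.obj p) := by

  obtain ⟨q, rfl⟩ : ∃ q, p = q + 1 := ⟨p - 1, by omega⟩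
  let Cov : ∀ (V : X.Etale) (ι : Type (u + 1)), (ι → Over V) → Prop := fun V ι Y =>
    ∀ x : ↥(V.left), ∃ (i : ι) (y : ↥((Y i).left.left)), (Y i).hom.left.base y = x
  have hh1 : ∀ (V : X.Etale) (ι : Type (u + 1)) (Y : ι → Over V), Cov V ι Y →
      V ∈ (Set.univ : Set X.Etale) ∧
      Sieve.ofArrows (fun i => (Y i).left) (fun i => (Y i).hom) ∈ X.smallEtaleTopology V ∧
      ∀ (p : ℕ) (a : Fin (p + 1) → ι), (∏ᶜ fun k => Y (a k)).left ∈ (Set.univ : Set X.Etale) := by
    intro V ι Y hY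
    refine ⟨trivial, ?_, fun _ _ => trivial⟩
    exact Groth.Agent.Helper4.EtGeom.ofArrows_mem _ _ hY
  have hh2 : ∀ V ∈ (Set.univ : Set X.Etale), ∀ T ∈ X.smallEtaleTopology V,
      ∃ (ι : Type (u + 1)) (Y : ι → Over V), Cov V ι Y ∧ ∀ i, T.arrows (Y i).hom := by
    intro V _ T hT
    refine ⟨Σ W : X.Etale, {g : W ⟶ V // T g}, fun i => Over.mk i.2.1, ?_, fun i => i.2.2⟩
    intro x
    obtain ⟨W, g, w, hg, hw⟩ := (Groth.Agent.Helper4.EtGeom.mem_iff V T).1 hT x
    exact ⟨⟨W, g, hg⟩, w, hw⟩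
  exact Groth.Agent.Helper4.CechGenC.acyc_X₃ (Set.univ : Set X.Etale) Cov hh1 hh2 S hS
    (fun V ι Y hY p => h1 V ι Y hY (p + 1) (by omega))
    (fun V ι Y hY p => h2 V ι Y hY (p + 1) (by omega)) U ι Uf hU q

end Groth.Agent.S14628
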