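import Groth.Statements.S14631


set_option autoImplicit false
open CategoryTheory AlgebraicGeometry
universe u
open EtBase

namespace Groth.Agent.S14631

set_option backward.isDefEq.respectTransparency.types false in
theorem aux (X : Scheme.{u})
    [QuasiSeparatedSpace ↥X] (U : X.Etale) :
    ∃ (ι : Type u) (V : ι → Over U), (∀ i, QuasiCompact (V i).left.hom ∧ QuasiSeparated (V i).left.hom) ∧
      ∀ x : ↥(U.left), ∃ (i : ι) (y : ↥((V i).left.left)), (V i).hom.left.base y = x := by
  let Y : U.left.affineOpens → X.Etale := fun W =>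
    Scheme.Etale.mk ((W : U.left.Opens).ι ≫ (U.hom : U.left ⟶ X))
  let h : ∀ W : U.left.affineOpens, Y W ⟶ U := fun W =>
    MorphismProperty.Over.homMk (W : U.left.Opens).ι rfl trivial
  have hgen : ∀ {A : Scheme.{u}} (f : A ⟶ X) [IsAffine A], QuasiCompact f ∧ QuasiSeparated f :=
    fun f _ => ⟨inferInstance, inferInstance⟩
  refine ⟨U.left.affineOpens, fun W => Over.mk (h W), fun W => ?_, fun x => ?_⟩
  · haveI : IsAffine (W : U.left.Opens) := W.2
    exact hgen ((W : U.left.Opens).ι ≫ (U.hom : U.left ⟶ X))
  · obtain ⟨W, hW, hxW, -⟩ := TopologicalSpace.Opens.isBasis_iff_nbhd.mp U.left.isBasis_affineOpens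
      (show x ∈ (⊤ : U.left.Opens) from trivial)
    refine ⟨⟨W, hW⟩, ⟨x, hxW⟩, ?_⟩
    rfl

/-- Let X be a quasi-separated scheme and U an étale X-scheme. Then there is a jointly surjective family
of étale U-schemes each of which is quasi-compact and quasi-separated, hence of finite presentation,
over X. (Sheaves on the small étale site are therefore determined by their values on étale X-schemes
of finite presentation; that equivalence is not stated here.) -/
theorem result (X : Scheme.{u})
    [QuasiSeparatedSpace ↥X] (U : X.Etale) :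
    ∃ (ι : Type u) (V : ι → Over U), (∀ i, QuasiCompact (V i).left.hom ∧ QuasiSeparated (V i).left.hom) ∧
      ∀ x : ↥(U.left), ∃ (i : ι) (y : ↥((V i).left.left)), (V i).hom.left.base y = x := by
  exact aux X U

end Groth.Agent.S14631
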