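import Groth.Statements.S14649
import Mathlib
import Groth.Agent.Helper7.ExtRees1
import Groth.Agent.Helper7.CMQuot2

set_option autoImplicit false
universe u
open FiltBl

namespace Groth.Agent.S14649

/-- Let A be a Noetherian local ring that is a quotient of a Gorenstein ring, and F a filtration of
ideals on A (F^0 = A ⊇ F^1 ⊇ ⋯, F^i F^j ⊆ F^{i+j}) with every F^n nonzero and ⋂ F^n = 0, whose Rees
algebra ⊕_{n ≥ 0} F^n X^n is finitely generated over A and with F^1 of height at least 2
(equivalently, every F^n with n ≥ 1 has height at least 2, all F^n having the same radical). Then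
the extended Rees algebra R' = ⊕_{n ∈ ℤ} F^n T^n ⊆ A[T, T⁻¹] is a Cohen–Macaulay ring if and only if
the associated graded ring G = ⊕ F^n/F^{n+1}, realised as R'/uR' with u = T⁻¹, is a Cohen–Macaulay
ring. (The published statement is made under the further standing assumption that no nonzero element
of the Rees algebra ⊕_{n ≥ 0} F^n T^n is annihilated by a power of the ideal generated by its
homogeneous elements of positive degree; this row does not assume it, and the assertion holds
without it.) -/
theorem result (A : Type u) [CommRing A] [IsNoetherianRing A] [IsLocalRing A]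
    (S : Type u) [CommRing S] [LocCoh.IsGorensteinRing S] (π : S →+* A) (hπ : Function.Surjective π)
    (𝓕 : FiltBl.IdealFiltration A) (hne : ∀ n, 𝓕.F n ≠ ⊥) (hsep : ⨅ n, 𝓕.F n = ⊥)
    (hfg : Algebra.FiniteType A 𝓕.rees) (hht : 2 ≤ (𝓕.F 1).height) :
    LocCoh.IsCohenMacaulayRing 𝓕.extRees ↔ LocCoh.IsCohenMacaulayRing 𝓕.Gr := by
    have hF1 : 𝓕.F 1 ≠ ⊤ := Groth.Agent.Helper7.ExtRees.F_one_ne_top 𝓕 hsep
    have hreg : IsSMulRegular ↥𝓕.extRees 𝓕.u := Groth.Agent.Helper7.ExtRees.u_regular 𝓕
    constructor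
    · intro h
      exact Groth.Agent.Helper7.CMQuot.cm_quotient 𝓕.u hreg
    · intro h
      haveI : IsNoetherianRing ↥𝓕.extRees := Groth.Agent.Helper7.ExtRees.isNoetherianRing 𝓕 hfg
      haveI : (Groth.Agent.Helper7.ExtRees.mH 𝓕 hF1).toIdeal.IsPrime :=
        (Groth.Agent.Helper7.ExtRees.mI_isMaximal 𝓕 hF1).isPrime
      exact Groth.Agent.Helper7.CMQuot.cm_of_quotient_graded
        (Groth.Agent.Helper7.LaurSub.gr 𝓕.extRees) (Groth.Agent.Helper7.ExtRees.mH 𝓕 hF1)
        (Groth.Agent.Helper7.ExtRees.isStarLocal 𝓕 hF1) 𝓕.u hreg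
        (Groth.Agent.Helper7.ExtRees.u_mem_mI 𝓕 hF1)

end Groth.Agent.S14649
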