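import Groth.Statements.S14676
import Mathlib
import Groth.Agent.Helper7.HenselNonMonic

set_option autoImplicit false
universe u
open CAlg

namespace Groth.Agent.S14676

/-- Let A be a commutative ring which is separated and complete for the I-adic topology of an ideal I,
let P be any polynomial over A (not assumed monic) and a₀ an element of A such that P(a₀) lies in I
and P'(a₀) is a unit modulo I. Then there is a unique a in A congruent to a₀ modulo I with P(a) = 0. -/
theorem result (A : Type u) [CommRing A] (I : Ideal A) [IsAdicComplete I A]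
    (P : Polynomial A) (a₀ : A) (h₀ : P.eval a₀ ∈ I)
    (h₁ : IsUnit (Ideal.Quotient.mk I (P.derivative.eval a₀))) :
    ∃! a : A, a - a₀ ∈ I ∧ P.IsRoot a := by
  obtain ⟨a, ha, ha'⟩ := Groth.Agent.Helper7.hensel_adic_nonmonic A I P a₀ h₀ h₁
  refine ⟨a, ⟨ha', ha⟩, ?_⟩
  rintro b ⟨hb', hb⟩
  exact (Groth.Agent.Helper7.hensel_adic_unique A I P a₀ h₁ a b ha hb ha' hb').symm

end Groth.Agent.S14676
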