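import Groth.Statements.S14679
import Mathlib

set_option autoImplicit false
universe u
open CategoryTheory CategoryTheory.Limits AlgebraicGeometry
open EtBase

namespace Groth.Agent.S14679

/-- general form: `g : Spec ℓ ⟶ Y` from a field hitting `f x`. -/
theorem unique_point {X Y : Scheme.{u}} (f : X ⟶ Y) (x : ↥X)
    (hx : Function.Bijective (f.residueFieldMap x).hom)
    (ℓ : Type u) [Field ℓ] (g : Spec (CommRingCat.of ℓ) ⟶ Y)
    (hg : g (IsLocalRing.closedPoint ℓ) = f x) :
    ∃! z : ↥(pullback f g), (pullback.fst f g).base z = x := by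
  obtain ⟨z, hz, -⟩ := Scheme.Pullback.exists_preimage_pullback (f := f) (g := g) x
    (IsLocalRing.closedPoint ℓ) hg.symm
  refine ⟨z, hz, ?_⟩
  have key : ∀ x' : X, x' = x → IsIso (f.residueFieldMap x') := by
    rintro _ rfl
    exact (ConcreteCategory.isIso_iff_bijective _).mpr hx
  have huniq : ∀ z₁ z₂ : ↥(pullback f g), (pullback.fst f g).base z₁ = x →
      (pullback.fst f g).base z₂ = x → z₁ = z₂ := by
    intro z₁ z₂ h₁ h₂
    apply Scheme.Pullback.carrierEquiv.injective
    apply Scheme.Pullback.carrierEquiv_eq_iff.mpr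
    have hT : Scheme.Pullback.Triplet.ofPoint z₁ = Scheme.Pullback.Triplet.ofPoint z₂ := by
      apply Scheme.Pullback.Triplet.ext
      · change (pullback.fst f g) z₁ = (pullback.fst f g) z₂
        rw [h₁, h₂]
      · exact Subsingleton.elim (α := PrimeSpectrum ℓ) _ _
    refine ⟨hT, ?_⟩
    have : IsIso (f.residueFieldMap (Scheme.Pullback.Triplet.ofPoint z₂).x) := key _ h₂
    have hiso : IsIso (Scheme.Pullback.Triplet.ofPoint z₂).tensorInr := by
      unfold Scheme.Pullback.Triplet.tensorInr
      have : IsIso ((Y.residueFieldCongr (Scheme.Pullback.Triplet.ofPoint z₂).hx).inv ≫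
          f.residueFieldMap (Scheme.Pullback.Triplet.ofPoint z₂).x) := inferInstance
      exact pushout_inr_iso_of_left_iso _ _
    have hsub : Subsingleton ↥(Spec (Scheme.Pullback.Triplet.ofPoint z₂).tensor) := by
      have : IsIso (Spec.map (Scheme.Pullback.Triplet.ofPoint z₂).tensorInr) := inferInstance
      have hinj := (Spec.map (Scheme.Pullback.Triplet.ofPoint z₂).tensorInr).homeomorph.injective
      constructor
      intro a b
      apply hinj
      exact Subsingleton.elim _ _
    exact hsub.elim _ _
  intro z' hz'
  exact huniq z' z hz' hz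

theorem aux {X Y : Scheme.{u}} (f : X ⟶ Y) (x : ↥X)
    (hx : Function.Bijective (f.residueFieldMap x).hom)
    (ℓ : Type u) [Field ℓ] [Algebra (Y.residueField (f.base x)) ℓ] [Algebra.IsAlgebraic (Y.residueField (f.base x)) ℓ] :
    ∃! z : ↥(pullback f (Spec.map (CommRingCat.ofHom (algebraMap (Y.residueField (f.base x)) ℓ)) ≫ Y.fromSpecResidueField (f.base x))),
      (pullback.fst f (Spec.map (CommRingCat.ofHom (algebraMap (Y.residueField (f.base x)) ℓ)) ≫ Y.fromSpecResidueField (f.base x))).base z = x := by
  apply unique_point f x hx ℓ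
  rw [Scheme.Hom.comp_apply]
  exact Scheme.fromSpecResidueField_apply (f x) _

/-- Given a morphism of schemes f : X ⟶ Y and a point x ∈ X with image y = f(x), such that the residue
field map κ(y) → κ(x) is bijective; let ℓ be an algebraic extension field of κ(y) and form the base
change X ×_Y Spec ℓ along Spec ℓ ⟶ Spec κ(y) ⟶ Y. Then there is exactly one point of X ×_Y Spec ℓ
mapping to x under the first projection. (The published statement takes ℓ to be an algebraic closure
of κ(y), noting that any algebraic extension works, and also identifies the local ring at the point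
with O_{X,x} ⊗_{O_{Y,y}} ℓ; this row allows any algebraic extension ℓ and states only the first
assertion.) -/
theorem result {X Y : Scheme.{u}} (f : X ⟶ Y) (x : ↥X)
    (hx : Function.Bijective (f.residueFieldMap x).hom)
    (ℓ : Type u) [Field ℓ] [Algebra (Y.residueField (f.base x)) ℓ] [Algebra.IsAlgebraic (Y.residueField (f.base x)) ℓ] :
    ∃! z : ↥(pullback f (Spec.map (CommRingCat.ofHom (algebraMap (Y.residueField (f.base x)) ℓ)) ≫ Y.fromSpecResidueField (f.base x))),
      (pullback.fst f (Spec.map (CommRingCat.ofHom (algebraMap (Y.residueField (f.base x)) ℓ)) ≫ Y.fromSpecResidueField (f.base x))).base z = x := by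
  exact aux f x hx ℓ

end Groth.Agent.S14679
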