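import Groth.Statements.S1471
import Groth.Agent.Helper5.RedFib

set_option autoImplicit false
universe u
open FlatMor

namespace Groth.Agent.S1471

open AlgebraicGeometry CategoryTheory Limits in
/-- Let f : X → Y and η a generic point of an irreducible component of Y. Then the fibre over η of the
composite X_red → X → Y is reduced; since it is a closed subscheme of X_η with the same underlying
set, this says (X_η)_red = (X_red)_η. -/
theorem result {X Y : Scheme.{u}} (f : X ⟶ Y) (η : Y) (W : Set ↑Y) (hW : W ∈ irreducibleComponents ↑Y) (hη : IsGenericPoint η W) :
    IsReduced ((X.nilradical.subschemeι ≫ f).fiber η) := by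
  have := Groth.Agent.Helper5.RedFib.isReduced_nilradical_subscheme X
  exact Groth.Agent.Helper5.RedFib.isReduced_fiber _ η
    (fun η' h => Groth.Agent.Helper5.RedFib.eq_of_specializes_genericPoint η W hW hη η' h)

end Groth.Agent.S1471
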