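import Groth.Statements.S14742
import Mathlib
import Groth.Agent.Helper9.VP8
-- import your own Groth.Agent.* helpers here

set_option autoImplicit false
universe u
open ValPrufer

namespace Groth.Agent.S14742

/-- Let R be a Prüfer domain (an integral domain whose localisations at primes are valuation rings) and
A a finitely presented R-algebra. Then A is a coherent ring: every finitely generated ideal I of A
is finitely presented as an A-module. -/
theorem result
    (R : Type u) [CommRing R] [IsDomain R]
    (hR : ∀ (p : Ideal R) [p.IsPrime], ValuationRing (Localization.AtPrime p))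
    (A : Type u) [CommRing A] [Algebra R A] [Algebra.FinitePresentation R A]
    (I : Ideal A) (hI : I.FG) : Module.FinitePresentation A I := by
  classical
  obtain ⟨n, φ, hφ, hker⟩ := (inferInstance : Algebra.FinitePresentation R A).out
  let f : MvPolynomial (Fin n) R →+* A := φ.toRingHom
  have hf : Function.Surjective f := hφ
  set It : Ideal (MvPolynomial (Fin n) R) := I.comap f with hIt
  have hkerle : RingHom.ker f ≤ It := by
    intro x hx
    rw [hIt, Ideal.mem_comap, (RingHom.mem_ker).1 hx]
    exact I.zero_mem
  have hItfg : It.FG := by
    refine Ideal.fg_of_fg_map_of_fg_inf_ker_of_surjective (f := f) ?_ ?_ hf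
    · rw [hIt, Ideal.map_comap_of_surjective f hf]
      exact hI
    · rw [inf_eq_right.2 hkerle]
      exact hker
  have hfin : Module.Finite (MvPolynomial (Fin n) R) It := Module.Finite.iff_fg.2 hItfg
  have hItfp : Module.FinitePresentation (MvPolynomial (Fin n) R) It := by
    refine Groth.Agent.Helper9.VP8.fp_of_torsionFree_prufer hR ?_
    intro c hc m hm
    have h1 : c • (m : MvPolynomial (Fin n) R) = 0 := by
      have := congrArg Subtype.val hm
      simpa using this
    rcases smul_eq_zero.1 h1 with h | h
    · exact absurd h hc
    · exact Subtype.ext h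
  let _ : Algebra (MvPolynomial (Fin n) R) A := f.toAlgebra
  let ψ : It →ₗ[MvPolynomial (Fin n) R] I :=
    { toFun := fun x => ⟨f x, x.2⟩
      map_add' := fun x y => Subtype.ext (map_add f _ _)
      map_smul' := fun r x => Subtype.ext (by
        show f (r * (x : MvPolynomial (Fin n) R)) = f r * f x
        exact map_mul f _ _) }
  have hψ : Function.Surjective ψ := by
    rintro ⟨y, hy⟩
    obtain ⟨x, rfl⟩ := hf y
    exact ⟨⟨x, hy⟩, rfl⟩
  have hkerψ : (LinearMap.ker ψ).FG := by
    refine Submodule.fg_of_fg_map_injective It.subtype It.injective_subtype ?_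
    have : (LinearMap.ker ψ).map It.subtype = RingHom.ker f := by
      ext x
      constructor
      · rintro ⟨y, hy, rfl⟩
        have := congrArg Subtype.val (LinearMap.mem_ker.1 hy)
        exact (RingHom.mem_ker).2 this
      · intro hx
        refine ⟨⟨x, hkerle hx⟩, ?_, rfl⟩
        show ψ ⟨x, hkerle hx⟩ = 0
        exact Subtype.ext ((RingHom.mem_ker).1 hx)
    rw [this]
    exact hker
  have hIfpP : Module.FinitePresentation (MvPolynomial (Fin n) R) I :=
    Module.finitePresentation_of_surjective ψ hψ hkerψ
  exact Groth.Agent.Helper9.VP4.finitePresentation_of_surjective_algebraMap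
    (R := MvPolynomial (Fin n) R) (S := A) hf

end Groth.Agent.S14742
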