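import Groth.Statements.S14743
import Mathlib
-- import your own Groth.Agent.* helpers here

set_option autoImplicit false
universe u
open CategoryTheory MonoidalCategory CartesianMonoidalCategory MonObj GrpObj AlgebraicGeometry
open AlgGrp

namespace Groth.Agent.S14743

/-- Over an algebraically closed field k let L, G, B be commutative k-group schemes, i : L → G and π : G
→ B homomorphisms with i the kernel of π, and suppose that every k-morphism B × B → L is constant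
(factors through a k-point of L). If π admits a section which is a morphism of k-schemes, then it
admits a section which is a homomorphism, so the extension splits. (The published statement is for
algebraic groups, that is, of finite type over k; finiteness plays no role and is not assumed here.) -/
theorem result (k : Type u) [Field k] [IsAlgClosed k]
    (L G B : Over (Spec (CommRingCat.of k))) [GrpObj L] [GrpObj G] [GrpObj B]
    [IsCommMonObj L] [IsCommMonObj G] [IsCommMonObj B]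
    (i : L ⟶ G) [IsMonHom i] (π : G ⟶ B) [IsMonHom π] (hker : AlgGrp.IsKernel i π)
    (hconst : ∀ f : B ⊗ B ⟶ L, ∃ l : 𝟙_ (Over (Spec (CommRingCat.of k))) ⟶ L, f = toUnit (B ⊗ B) ≫ l)
    (s : B ⟶ G) (hs : s ≫ π = 𝟙 B) :
    ∃ s' : B ⟶ G, IsMonHom s' ∧ s' ≫ π = 𝟙 B := by
  -- the cocycle
  let c : B ⊗ B ⟶ G := (μ[B] ≫ s) * (fst B B ≫ s)⁻¹ * (snd B B ≫ s)⁻¹
  have hμ : μ[B] = fst B B * snd B B := by
    rw [Hom.mul_def, lift_fst_snd, Category.id_comp]
  have hc : c ≫ π = toUnit (B ⊗ B) ≫ η[B] := by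
    change ((μ[B] ≫ s) * (fst B B ≫ s)⁻¹ * (snd B B ≫ s)⁻¹) ≫ π = _
    rw [MonObj.mul_comp, MonObj.mul_comp, GrpObj.inv_comp, GrpObj.inv_comp, Category.assoc,
      Category.assoc, Category.assoc, hs, Category.comp_id, Category.comp_id, Category.comp_id, hμ,
      ← Hom.one_def]
    have hcm : fst B B * snd B B = snd B B * fst B B := _root_.mul_comm _ _
    rw [hcm]
    group
  obtain ⟨l, hl⟩ := hconst (hker.lift c (toUnit _) hc)
  have hci : c = toUnit (B ⊗ B) ≫ l ≫ i := by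
    rw [← Category.assoc, ← hl]
    exact (hker.lift_fst c (toUnit _) hc).symm
  have hiπ : ∀ {T : Over (Spec (CommRingCat.of k))} (x : T ⟶ L), (x ≫ i) ≫ π = 1 := by
    intro T x
    rw [Category.assoc, hker.w, ← Category.assoc, toUnit_unique (x ≫ toUnit L) (toUnit T),
      Hom.one_def]
  -- pointwise cocycle relation
  have hpt : ∀ {T : Over (Spec (CommRingCat.of k))} (b₁ b₂ : T ⟶ B),
      (b₁ * b₂) ≫ s = (b₁ ≫ s) * (b₂ ≫ s) * (toUnit T ≫ l ≫ i) := by
    intro T b₁ b₂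
    have h1 := congrArg (fun e => lift b₁ b₂ ≫ e) hci
    simp only [c] at h1
    rw [MonObj.comp_mul, MonObj.comp_mul, GrpObj.comp_inv, GrpObj.comp_inv, lift_fst_assoc,
      lift_snd_assoc, ← Category.assoc (lift b₁ b₂), ← Hom.mul_def, ← Category.assoc (lift b₁ b₂),
      toUnit_unique (lift b₁ b₂ ≫ toUnit (B ⊗ B)) (toUnit T)] at h1
    have h2 : (b₁ * b₂) ≫ s = (toUnit T ≫ l ≫ i) * (b₂ ≫ s) * (b₁ ≫ s) := by
      rw [← h1]
      group
    rw [h2, _root_.mul_comm ((toUnit T ≫ l ≫ i) * (b₂ ≫ s)) (b₁ ≫ s),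
      _root_.mul_comm (toUnit T ≫ l ≫ i) (b₂ ≫ s), ← _root_.mul_assoc]
  let s' : B ⟶ G := s * (toUnit B ≫ l ≫ i)
  have hs'pt : ∀ {T : Over (Spec (CommRingCat.of k))} (b : T ⟶ B),
      b ≫ s' = (b ≫ s) * (toUnit T ≫ l ≫ i) := by
    intro T b
    change b ≫ (s * (toUnit B ≫ l ≫ i)) = _
    rw [MonObj.comp_mul, ← Category.assoc b, toUnit_unique (b ≫ toUnit B) (toUnit T)]
  have hmul : ∀ {T : Over (Spec (CommRingCat.of k))} (b₁ b₂ : T ⟶ B),
      (b₁ * b₂) ≫ s' = (b₁ ≫ s') * (b₂ ≫ s') := by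
    intro T b₁ b₂
    rw [hs'pt, hs'pt, hs'pt, hpt]
    have hcomm : (toUnit T ≫ l ≫ i) * (b₂ ≫ s) = (b₂ ≫ s) * (toUnit T ≫ l ≫ i) :=
      _root_.mul_comm _ _
    calc (b₁ ≫ s) * (b₂ ≫ s) * (toUnit T ≫ l ≫ i) * (toUnit T ≫ l ≫ i)
        = (b₁ ≫ s) * ((b₂ ≫ s) * (toUnit T ≫ l ≫ i)) * (toUnit T ≫ l ≫ i) := by group
      _ = (b₁ ≫ s) * ((toUnit T ≫ l ≫ i) * (b₂ ≫ s)) * (toUnit T ≫ l ≫ i) := by rw [hcomm]
      _ = (b₁ ≫ s) * (toUnit T ≫ l ≫ i) * ((b₂ ≫ s) * (toUnit T ≫ l ≫ i)) := by group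
  refine ⟨s', ⟨?_, ?_⟩, ?_⟩
  · have h1 := hmul (1 : 𝟙_ (Over (Spec (CommRingCat.of k))) ⟶ B) 1
    rw [_root_.mul_one] at h1
    have h2 : (1 : 𝟙_ (Over (Spec (CommRingCat.of k))) ⟶ B) ≫ s' = 1 := by
      exact (mul_eq_left (a := (1 : 𝟙_ (Over (Spec (CommRingCat.of k))) ⟶ B) ≫ s')).mp h1.symm
    rw [Hom.one_def, Hom.one_def, toUnit_unique (toUnit (𝟙_ (Over (Spec (CommRingCat.of k))))) (𝟙 _),
      Category.id_comp, Category.id_comp] at h2
    exact h2
  · have h1 := hmul (fst B B) (snd B B)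
    rw [← hμ] at h1
    rw [h1, Hom.mul_def, lift_fst_comp_snd_comp]
  · change (s * (toUnit B ≫ l ≫ i)) ≫ π = 𝟙 B
    rw [MonObj.mul_comp, hs, Category.assoc, Category.assoc, ← Category.assoc l, hiπ, MonObj.comp_one,
      _root_.mul_one]

end Groth.Agent.S14743
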