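import Groth.Statements.S14769
import Groth.Agent.Lead.ValSpec
import Groth.Agent.S14768

set_option autoImplicit false
universe u
open CategoryTheory CategoryTheory.Limits AlgebraicGeometry
open Subtr

namespace Groth.Agent.S14769

/-- a morphism of spectra of valuation rings preserving generic and closed points is surjective -/
theorem surjective_of_val {V V' : Type u} [CommRing V] [IsDomain V] [ValuationRing V]
    [CommRing V'] [IsDomain V'] [ValuationRing V']
    (b : Spec (CommRingCat.of V') ⟶ Spec (CommRingCat.of V))
    (h1 : b.base (IsLocalRing.closedPoint V') = IsLocalRing.closedPoint V)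
    (h2 : b.base (⊥ : PrimeSpectrum V') = (⊥ : PrimeSpectrum V)) : Surjective b := by
  obtain ⟨φ, rfl⟩ := Spec.map_surjective b
  let ψ : V →+* V' := φ.hom
  have hinj : Function.Injective ψ := by
    rw [injective_iff_map_eq_zero]
    intro x hx
    have : x ∈ (PrimeSpectrum.comap ψ (⊥ : PrimeSpectrum V')).asIdeal := by
      change ψ x ∈ (⊥ : Ideal V')
      rw [hx]; exact Ideal.zero_mem _
    have h2' : PrimeSpectrum.comap ψ (⊥ : PrimeSpectrum V') = (⊥ : PrimeSpectrum V) := h2
    rw [h2'] at this
    exact this
  have hloc : IsLocalHom ψ := by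
    have h1' : PrimeSpectrum.comap ψ (IsLocalRing.closedPoint V') = IsLocalRing.closedPoint V := h1
    exact (IsLocalRing.local_hom_TFAE ψ).out 4 0 |>.mp (by
      have := congrArg PrimeSpectrum.asIdeal h1'
      exact this)
  algebraize [ψ]
  haveI : IsLocalHom (algebraMap V V') := hloc
  haveI : Module.Flat V V' := by
    rw [Module.Flat.flat_iff_torsion_eq_bot_of_isBezout]
    rw [Submodule.eq_bot_iff]
    intro x hx
    obtain ⟨a, ha⟩ := (Submodule.mem_torsion_iff x).mp hx
    have : algebraMap V V' a * x = 0 := by rw [← Algebra.smul_def]; exact ha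
    rcases mul_eq_zero.mp this with h | h
    · exfalso
      have : (a : V) = 0 := hinj (by rw [map_zero]; exact h)
      exact nonZeroDivisors.coe_ne_zero a this
    · exact h
  haveI : Module.FaithfullyFlat V V' := Module.FaithfullyFlat.of_flat_of_isLocalHom
  constructor
  exact PrimeSpectrum.comap_surjective_of_faithfullyFlat (A := V) (B := V')

/-- Let f : X ⟶ Y be any morphism of schemes. Then every base change of f has the lifting property for
ordered pairs of points if and only if, for every valuation ring V and morphism g : Spec V ⟶ Y,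
there are a valuation ring V', a morphism a : Spec V' ⟶ X and a surjective morphism b : Spec V' ⟶
Spec V with a ≫ f = b ≫ g. (The published statement assumes f universally submersive for the
constructible topologies and concludes universal subtrusiveness; for quasi-compact f the two agree.) -/
theorem result {X Y : Scheme.{u}} (f : X ⟶ Y) :
    Subtr.UnivSSubtrusive f ↔
      ∀ (V : Type u) [CommRing V] [IsDomain V] [ValuationRing V] (g : Spec (CommRingCat.of V) ⟶ Y),
        ∃ (V' : Type u) (_ : CommRing V') (_ : IsDomain V') (_ : ValuationRing V')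
          (a : Spec (CommRingCat.of V') ⟶ X) (b : Spec (CommRingCat.of V') ⟶ Spec (CommRingCat.of V)),
          Surjective b ∧ a ≫ f = b ≫ g := by
  constructor
  · intro h V _ _ _ g
    have hsub := (Groth.Agent.S14768.result f).mp h V g
    have hspec : (⊥ : PrimeSpectrum V) ⤳ IsLocalRing.closedPoint V :=
      IsLocalRing.specializes_closedPoint _
    obtain ⟨z, z', hz'z, hz, hz'⟩ := hsub hspec
    obtain ⟨V', _, _, _, g', hgc, hgb⟩ :=
      Groth.Agent.Lead.ValSpec.exists_valuationRing_of_specializes hz'z
    refine ⟨V', inferInstance, inferInstance, inferInstance, g' ≫ pullback.fst f g,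
      g' ≫ pullback.snd f g, ?_, ?_⟩
    · apply surjective_of_val
      · rw [Scheme.Hom.comp_apply, hgc]; exact hz
      · rw [Scheme.Hom.comp_apply, hgb]; exact hz'
    · rw [Category.assoc, Category.assoc, pullback.condition]
  · intro h
    rw [Groth.Agent.S14768.result]
    intro V _ _ _ g p p' hp'p
    obtain ⟨V', _, _, _, a, b, hb, hab⟩ := h V g
    let c : Spec (CommRingCat.of V') ⟶ pullback f g := pullback.lift a b hab
    have hc : c ≫ pullback.snd f g = b := pullback.lift_snd _ _ _
    obtain ⟨q, hq⟩ := hb.surj p
    obtain ⟨q', hq'⟩ := hb.surj p'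
    rcases (ValuationRing.le_total_ideal (A := V')).total q'.asIdeal q.asIdeal with hle | hle
    · have hspec : q' ⤳ q := (PrimeSpectrum.le_iff_specializes q' q).mp hle
      refine ⟨c.base q, c.base q', hspec.map c.continuous, ?_, ?_⟩
      · rw [← Scheme.Hom.comp_apply, hc]; exact hq
      · rw [← Scheme.Hom.comp_apply, hc]; exact hq'
    · have hspec : q ⤳ q' := (PrimeSpectrum.le_iff_specializes q q').mp hle
      have h1 : p ⤳ p' := by
        have := hspec.map b.continuous
        rwa [hq, hq'] at this
      have heq : p = p' := (h1.antisymm hp'p).eq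
      subst heq
      refine ⟨c.base q, c.base q, specializes_rfl, ?_, ?_⟩
      · rw [← Scheme.Hom.comp_apply, hc]; exact hq
      · rw [← Scheme.Hom.comp_apply, hc]; exact hq

end Groth.Agent.S14769
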