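import Groth.Statements.S1477
import Groth.Agent.S0385
import Groth.Agent.S0590
import Groth.Agent.Helper4.NApx4
import Groth.Agent.Lead.LimExistProp
import Groth.Agent.Lead.LimSep
import Groth.Agent.Lead.LimQF
import Groth.Agent.Lead.LimBC
import Mathlib

set_option autoImplicit false
universe u
open FlatMor

namespace Groth.Agent.S1477


open AlgebraicGeometry CategoryTheory Limits in
/-- Let S be quasi-compact and quasi-separated and f : X → S separated, quasi-compact, locally
quasi-finite and locally of finite presentation. Then f factors as a quasi-compact open immersion X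
→ T followed by a morphism T → S which is finite and of finite presentation. -/
theorem result {X S : Scheme.{u}} (f : X ⟶ S) [CompactSpace ↑S] [QuasiSeparatedSpace ↑S]
    [IsSeparated f] [QuasiCompact f] [LocallyQuasiFinite f] [LocallyOfFinitePresentation f] :
    ∃ (T : Scheme.{u}) (j : X ⟶ T) (π : T ⟶ S), IsOpenImmersion j ∧ QuasiCompact j ∧ IsFinite π ∧ LocallyOfFinitePresentation π ∧ j ≫ π = f := by

  obtain ⟨A, hPA, hDA, hNA, D, c, hc, hA1, hA2, ⟨eS⟩⟩ := Groth.Agent.S0590.result S
  haveI haff : ∀ {i j : Aᵒᵖ} (a : i ⟶ j), IsAffineHom (D.map a) := fun {i j} a => hA1 i j a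
  haveI hAn : ∀ i, IsLocallyNoetherian (D.obj i) := fun i => by
    haveI := (hA2 i).2
    exact LocallyOfFiniteType.isLocallyNoetherian (specULiftZIsTerminal.from (D.obj i))
  haveI : ∀ i, CompactSpace (D.obj i) := fun i => (hA2 i).1
  haveI : ∀ i, QuasiSeparatedSpace (D.obj i) := fun i => inferInstance
  haveI : IsCofiltered Aᵒᵖ := Groth.Agent.Helper4.NApx0.isCofiltered_op_of_directed A
  let f' : X ⟶ c.pt := f ≫ eS.inv
  haveI : LocallyOfFinitePresentation f' := by
    show LocallyOfFinitePresentation (f ≫ eS.inv); infer_instance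
  haveI : CompactSpace X := QuasiCompact.compactSpace_of_compactSpace f
  haveI : QuasiSeparatedSpace X := quasiSeparatedSpace_of_quasiSeparated f
  haveI : MorphismProperty.RespectsIso (@LocallyQuasiFinite : MorphismProperty Scheme.{u}) :=
    MorphismProperty.IsStableUnderBaseChange.respectsIso
  haveI : MorphismProperty.RespectsIso
      (@IsSeparated ⊓ @LocallyQuasiFinite : MorphismProperty Scheme.{u}) :=
    MorphismProperty.RespectsIso.inf _ _
  have hP : (@IsSeparated ⊓ @LocallyQuasiFinite : MorphismProperty Scheme.{u}) f' := by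
    refine ⟨?_, ?_⟩
    · show IsSeparated (f ≫ eS.inv); infer_instance
    · show LocallyQuasiFinite (f ≫ eS.inv); infer_instance
  obtain ⟨j, M, hM⟩ := Groth.Agent.Lead.LimExist.exists_model_prop hc
    (@IsSeparated ⊓ @LocallyQuasiFinite : MorphismProperty Scheme.{u}) (by
    intro i₀ X₀ f₀ _ _ _ h
    obtain ⟨j1, hj1⟩ := Groth.Agent.Lead.LimSep.isSeparated_descends hc i₀ (𝟙 _) f₀ h.1
    obtain ⟨j2, hj2⟩ := Groth.Agent.Lead.LimQF.locallyQuasiFinite_descends hc i₀ (𝟙 _) f₀ h.2
    let j3 := IsCofiltered.min j1 j2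
    exact ⟨j3, Groth.Agent.Lead.LimBC.stage_of_hom @IsSeparated (IsCofiltered.minToLeft j1 j2) hj1,
      Groth.Agent.Lead.LimBC.stage_of_hom @LocallyQuasiFinite (IsCofiltered.minToRight j1 j2) hj2⟩)
    f' hP
  haveI := M.lfp
  haveI := M.cpt
  haveI := M.qsep
  haveI : IsSeparated M.fi := hM.1
  haveI : LocallyQuasiFinite M.fi := hM.2
  haveI : QuasiCompact M.fi := inferInstance
  obtain ⟨T, j', π, h1, h2, h3, h4⟩ := Groth.Agent.S0385.result M.fi
  haveI := h1
  haveI := h2
  haveI := h3
  haveI : LocallyOfFinitePresentation π :=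
    Groth.Agent.Helper4.NApx4.lofp_of_loft_of_isLocallyNoetherian π
  let j'' : X ⟶ pullback π (c.π.app j) :=
    pullback.lift (M.g ≫ j') f' (by rw [Category.assoc, h4]; exact M.sq.w)
  have hsq : IsPullback j'' M.g (pullback.fst π (c.π.app j)) j' := by
    refine IsPullback.of_right ?_ (pullback.lift_fst _ _ _)
      (IsPullback.of_hasPullback π (c.π.app j)).flip
    rw [pullback.lift_snd, h4]
    exact M.sq.flip
  refine ⟨pullback π (c.π.app j), j'', pullback.snd π (c.π.app j) ≫ eS.hom, ?_, ?_, ?_, ?_, ?_⟩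
  · exact MorphismProperty.of_isPullback (P := @IsOpenImmersion) hsq.flip h1
  · exact MorphismProperty.of_isPullback (P := @QuasiCompact) hsq.flip h2
  · infer_instance
  · infer_instance
  · rw [← Category.assoc, pullback.lift_snd]
    show (f ≫ eS.inv) ≫ eS.hom = f
    rw [Category.assoc, Iso.inv_hom_id, Category.comp_id]

end Groth.Agent.S1477
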