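import Groth.Statements.S14789


set_option autoImplicit false
universe u
open CategoryTheory CategoryTheory.Limits AlgebraicGeometry
open Subtr

namespace Groth.Agent.S14789

/-- every point of a scheme has a maximal generization -/
theorem exists_maximal_generization {Y : Scheme.{u}} (y : Y) :
    ∃ η : Y, η ⤳ y ∧ ∀ y' : Y, y' ⤳ η → y' = η := by
  obtain ⟨W, hW, hyW, -⟩ := exists_isAffineOpen_mem_and_subset (x := y) (U := ⊤) trivial
  let j := hW.fromSpec
  have hrange : Set.range j.base = (W : Set Y) := hW.range_fromSpec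
  obtain ⟨p, rfl⟩ : y ∈ Set.range j.base := by rw [hrange]; exact hyW
  obtain ⟨q, hq, hqp⟩ := Ideal.exists_minimalPrimes_le (I := ⊥) (J := p.asIdeal) bot_le
  let q' : PrimeSpectrum Γ(Y, W) := ⟨q, hq.1.1⟩
  refine ⟨j.base q', ?_, ?_⟩
  · have : q' ⤳ p := (PrimeSpectrum.le_iff_specializes q' p).mp hqp
    exact this.map j.continuous
  · intro y' hy'
    have hy'W : y' ∈ Set.range j.base := by
      rw [hrange]
      exact hy'.mem_open W.2 (hrange ▸ Set.mem_range_self q')
    obtain ⟨r, rfl⟩ := hy'W
    have hrq : r ⤳ q' := (j.isOpenEmbedding.isInducing.specializes_iff).mp hy'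
    have hle : r.asIdeal ≤ q := (PrimeSpectrum.le_iff_specializes r q').mpr hrq
    have : q ≤ r.asIdeal := hq.2 ⟨r.2, bot_le⟩ hle
    congr 1
    exact PrimeSpectrum.ext (le_antisymm hle this)

/-- Let f : X ⟶ Y be a morphism of schemes with the lifting property for ordered pairs of points, and U
⊆ Y a subset containing every maximal point of Y (every point all of whose generizations are equal
to it). Then the closure of f⁻¹(U) maps onto Y. -/
theorem result {X Y : Scheme.{u}} (f : X ⟶ Y)
    (hf : Subtr.IsSSubtrusive f) (U : Set Y) (hU : ∀ y : Y, (∀ y' : Y, y' ⤳ y → y' = y) → y ∈ U) :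
    f '' closure (f ⁻¹' U) = Set.univ := by
  rw [Set.eq_univ_iff_forall]
  intro y
  obtain ⟨η, hηy, hη⟩ := exists_maximal_generization y
  obtain ⟨x, x', hx'x, hxy, hx'η⟩ := hf hηy
  refine ⟨x, ?_, hxy⟩
  refine hx'x.mem_closed isClosed_closure (subset_closure ?_)
  change f x' ∈ U
  rw [hx'η]
  exact hU η hη

end Groth.Agent.S14789
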