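import Groth.Statements.S14807
import Mathlib

set_option autoImplicit false
universe u
open CAlg

namespace Groth.Agent.S14807

/-- Let G be a finite abelian group, written additively, and ℓ a prime number. Every sequence (g_n)_{n ≥
0} of elements of G with ℓ^n · g_n = 0 and ℓ · g_{n+1} = g_n for all n is identically zero; in other
words the inverse limit of the subgroups of ℓ^n-torsion elements, with transition maps
multiplication by ℓ, vanishes. -/
theorem result (G : Type u) [AddCommGroup G] [Finite G]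
    (ℓ : ℕ) (hℓ : ℓ.Prime) (g : ℕ → G) (htor : ∀ n : ℕ, ℓ ^ n • g n = 0)
    (hcomp : ∀ n : ℕ, ℓ • g (n + 1) = g n) (n : ℕ) : g n = 0 := by
  have hshift : ∀ k n : ℕ, ℓ ^ k • g (n + k) = g n := by
    intro k
    induction k with
    | zero => intro n; simp
    | succ k ih =>
      intro n
      rw [pow_succ, mul_smul, ← add_assoc, hcomp, ih]
  set k := Nat.card G with hk
  have hkpos : 0 < k := Nat.card_pos
  rw [← hshift k n]
  have h1 : addOrderOf (g (n + k)) ∣ ℓ ^ (n + k) := addOrderOf_dvd_of_nsmul_eq_zero (htor (n + k))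
  obtain ⟨j, hj, hjeq⟩ := (Nat.dvd_prime_pow hℓ).mp h1
  have h2 : addOrderOf (g (n + k)) ∣ k := addOrderOf_dvd_natCard _
  have h3 : ℓ ^ j ≤ k := by rw [← hjeq]; exact Nat.le_of_dvd hkpos h2
  have h4 : k < ℓ ^ k := Nat.lt_pow_self hℓ.one_lt
  have h5 : j < k := by
    by_contra hcon
    push Not at hcon
    have : ℓ ^ k ≤ ℓ ^ j := Nat.pow_le_pow_right hℓ.pos hcon
    omega
  have h6 : ℓ ^ j • g (n + k) = 0 := by rw [← hjeq]; exact addOrderOf_nsmul_eq_zero _
  obtain ⟨d, hd⟩ := Nat.exists_eq_add_of_lt h5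
  have hpow : ℓ ^ k = ℓ ^ (d + 1) * ℓ ^ j := by rw [hd, add_assoc, pow_add, mul_comm]
  rw [hpow, mul_smul, h6, smul_zero]

end Groth.Agent.S14807
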