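import Groth.Statements.S14825
import Groth.Agent.Helper8.ConstMor

set_option autoImplicit false
universe u
open CategoryTheory MonoidalCategory CartesianMonoidalCategory MonObj GrpObj AlgebraicGeometry
open AbVar

namespace Groth.Agent.S14825

/-- In the pointed case, let k be a field and X a proper k-scheme with H^0(X, O_X) one-dimensional and a
k-rational point x₀; let alb : X → A be the Albanese morphism (A an abelian variety over k — proper,
geometrically integral group scheme — with alb(x₀) = 0, universal among pointed k-morphisms from X
to abelian varieties, the latter being geometrically reduced, connected, proper group schemes). Then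
X has Albanese dimension zero, i.e. the image of alb is a single point of A (X is connected, so this
says the image is zero-dimensional), if and only if A is the trivial abelian variety, i.e. A → Spec
k is an isomorphism. (The published statement does not assume a rational point (it works with the
Albanese torsor); this row assumes one.) -/
theorem result (k : Type u) [Field k] (X : Scheme.{u}) [X.Over (Spec (CommRingCat.of k))]
    [IsProper (X ↘ Spec (CommRingCat.of k))] (h0 : Module.finrank k (Coh.HH X (Coh.structureModule X) 0) = 1)
    (x₀ : 𝟙_ (Over (Spec (CommRingCat.of k))) ⟶ Over.mk (X ↘ Spec (CommRingCat.of k)))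
    (A : Over (Spec (CommRingCat.of k))) [GrpObj A] [IsProper A.hom] [GeometricallyIntegral A.hom]
    (alb : Over.mk (X ↘ Spec (CommRingCat.of k)) ⟶ A) (halb : x₀ ≫ alb = η[A])
    (huniv : ∀ (B : Over (Spec (CommRingCat.of k))) [GrpObj B] [IsProper B.hom] [GeometricallyReduced B.hom] [ConnectedSpace ↥B.left]
      (g : Over.mk (X ↘ Spec (CommRingCat.of k)) ⟶ B), x₀ ≫ g = η[B] → ∃! h : A ⟶ B, IsMonHom h ∧ alb ≫ h = g) :
    (Set.range alb.left.base).Subsingleton ↔ IsIso A.hom := by
  constructor
  · intro hsub
    have hsp : x₀.left ≫ (X ↘ Spec (CommRingCat.of k)) = 𝟙 _ := by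
      have := Over.w x₀
      simpa using this
    have hconst : alb.left = (X ↘ Spec (CommRingCat.of k)) ≫ x₀.left ≫ alb.left :=
      Groth.Agent.Helper8.ConstMor.eq_const (X ↘ Spec (CommRingCat.of k)) h0 x₀.left hsp
        alb.left hsub
    have halb' : alb = toUnit _ ≫ η[A] := by
      ext1
      rw [hconst, ← halb]
      rfl
    haveI : IsIntegral A.left := GeometricallyIntegral.isIntegral_of_subsingleton A.hom
    haveI : ConnectedSpace ↥A.left := inferInstance
    obtain ⟨h, -, huniq⟩ := huniv A alb halb
    have h1 : 𝟙 A = h := huniq _ ⟨inferInstance, Category.comp_id _⟩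
    have h2 : toUnit A ≫ η[A] = h := by
      refine huniq _ ⟨inferInstance, ?_⟩
      rw [← Category.assoc, toUnit_unique (alb ≫ toUnit A) (toUnit _), ← halb']
    have h3 : toUnit A ≫ η[A] = 𝟙 A := h2.trans h1.symm
    refine ⟨η[A].left, ?_, ?_⟩
    · have := congrArg (fun t => t.left) h3
      simpa using this
    · have := Over.w η[A]
      simpa using this
  · intro hiso
    haveI : Subsingleton ↥A.left := by
      have hinj : Function.Injective A.hom.base :=
        (ConcreteCategory.bijective_of_isIso A.hom.base).injective
      exact hinj.subsingleton
    exact Set.subsingleton_of_subsingleton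

end Groth.Agent.S14825
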