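import Groth.Statements.S14826
import Groth.Agent.Helper8.PointedHom

set_option autoImplicit false
universe u
open CategoryTheory MonoidalCategory CartesianMonoidalCategory MonObj GrpObj AlgebraicGeometry
open AbVar

namespace Groth.Agent.S14826

/-- Over a field k (the published statement is over a base scheme S), let X be a proper k-scheme with
H^0(X, O_X) one-dimensional and a k-rational point x₀, and alb : X → A the Albanese morphism (A an
abelian variety — proper, geometrically integral group scheme — with alb(x₀) = 0, universal among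
pointed morphisms from X to geometrically reduced, connected, proper group schemes). Let φ : X → A'
be an arbitrary k-morphism to such an abelian variety A', not necessarily pointed. Then φ factors
through alb by exactly one k-morphism A → A', and that morphism is a homomorphism h followed by the
translation of A' by the k-point φ(x₀): there is a homomorphism h : A → A' with φ = (alb ≫ h) ·
(constant map with value φ(x₀)) in the group of morphisms into A', and every k-morphism g : A → A'
with alb ≫ g = φ equals h · (constant map A → A' with value φ(x₀)). -/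
theorem result (k : Type u) [Field k] (X : Scheme.{u}) [X.Over (Spec (CommRingCat.of k))]
    [IsProper (X ↘ Spec (CommRingCat.of k))] (h0 : Module.finrank k (Coh.HH X (Coh.structureModule X) 0) = 1)
    (x₀ : 𝟙_ (Over (Spec (CommRingCat.of k))) ⟶ Over.mk (X ↘ Spec (CommRingCat.of k)))
    (A : Over (Spec (CommRingCat.of k))) [GrpObj A] [IsProper A.hom] [GeometricallyIntegral A.hom]
    (alb : Over.mk (X ↘ Spec (CommRingCat.of k)) ⟶ A) (halb : x₀ ≫ alb = η[A])
    (huniv : ∀ (B : Over (Spec (CommRingCat.of k))) [GrpObj B] [IsProper B.hom] [GeometricallyReduced B.hom] [ConnectedSpace ↥B.left]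
      (g : Over.mk (X ↘ Spec (CommRingCat.of k)) ⟶ B), x₀ ≫ g = η[B] → ∃! h : A ⟶ B, IsMonHom h ∧ alb ≫ h = g)
    (A' : Over (Spec (CommRingCat.of k))) [GrpObj A'] [IsProper A'.hom] [GeometricallyReduced A'.hom] [ConnectedSpace ↥A'.left]
    (φ : Over.mk (X ↘ Spec (CommRingCat.of k)) ⟶ A') :
    ∃ h : A ⟶ A', IsMonHom h ∧ (alb ≫ h) * (toUnit (Over.mk (X ↘ Spec (CommRingCat.of k))) ≫ x₀ ≫ φ) = φ ∧
      ∀ g : A ⟶ A', alb ≫ g = φ → g = h * (toUnit A ≫ x₀ ≫ φ) := by
  set c : Over.mk (X ↘ Spec (CommRingCat.of k)) ⟶ A' :=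
    toUnit (Over.mk (X ↘ Spec (CommRingCat.of k))) ≫ x₀ ≫ φ with hc
  have hx₀u : x₀ ≫ toUnit (Over.mk (X ↘ Spec (CommRingCat.of k))) = 𝟙 _ := toUnit_unique _ _
  have hpt : x₀ ≫ (φ * c⁻¹) = η[A'] := by
    rw [MonObj.comp_mul, GrpObj.comp_inv, hc, ← Category.assoc, hx₀u, Category.id_comp,
      mul_inv_cancel, MonObj.one_eq_one]
  obtain ⟨h, ⟨hm, hh⟩, huniq⟩ := huniv A' (φ * c⁻¹) hpt
  refine ⟨h, hm, ?_, ?_⟩
  · rw [hh, inv_mul_cancel_right]
  · intro g hg
    set cA : A ⟶ A' := toUnit A ≫ x₀ ≫ φ with hcA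
    have hηu : η[A] ≫ toUnit A = 𝟙 _ := toUnit_unique _ _
    have hg'pt : η[A] ≫ (g * cA⁻¹) = η[A'] := by
      rw [MonObj.comp_mul, GrpObj.comp_inv, hcA, ← Category.assoc, hηu, Category.id_comp,
        ← halb, Category.assoc, hg, mul_inv_cancel, MonObj.one_eq_one]
    haveI : IsMonHom (g * cA⁻¹) := Groth.Agent.Helper8.PointedHom.isMonHom_of_pointed _ hg'pt
    have halbu : alb ≫ toUnit A = toUnit (Over.mk (X ↘ Spec (CommRingCat.of k))) :=
      toUnit_unique _ _
    have h2 : alb ≫ (g * cA⁻¹) = φ * c⁻¹ := by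
      rw [MonObj.comp_mul, GrpObj.comp_inv, hg, hcA, ← Category.assoc, halbu]
    have h3 : g * cA⁻¹ = h := huniq _ ⟨inferInstance, h2⟩
    rw [← h3, inv_mul_cancel_right]

end Groth.Agent.S14826
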