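import Groth.Statements.S14827


set_option autoImplicit false
universe u
open CategoryTheory MonoidalCategory CartesianMonoidalCategory MonObj GrpObj AlgebraicGeometry
open AbVar

namespace Groth.Agent.S14827

/-- Over a field k (the published statement is over a base scheme S), let X be a proper k-scheme with
H^0(X, O_X) one-dimensional and a k-rational point x₀, and alb : X → A the Albanese morphism for the
base point x₀ (A an abelian variety — proper, geometrically integral group scheme — with alb(x₀) =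
0, universal among pointed morphisms to geometrically reduced, connected, proper group schemes). For
a second k-rational point x₁ let alb' = alb · (constant map with value alb(x₁))⁻¹, i.e. alb followed
by the translation of A by −alb(x₁). Then alb' is the Albanese morphism of X pointed by x₁: alb'(x₁)
= 0, and every k-morphism g : X → B to an abelian variety B with g(x₁) = 0 equals alb' ≫ h for a
unique homomorphism h : A → B. -/
theorem result (k : Type u) [Field k] (X : Scheme.{u}) [X.Over (Spec (CommRingCat.of k))]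
    [IsProper (X ↘ Spec (CommRingCat.of k))] (h0 : Module.finrank k (Coh.HH X (Coh.structureModule X) 0) = 1)
    (x₀ : 𝟙_ (Over (Spec (CommRingCat.of k))) ⟶ Over.mk (X ↘ Spec (CommRingCat.of k)))
    (A : Over (Spec (CommRingCat.of k))) [GrpObj A] [IsProper A.hom] [GeometricallyIntegral A.hom]
    (alb : Over.mk (X ↘ Spec (CommRingCat.of k)) ⟶ A) (halb : x₀ ≫ alb = η[A])
    (huniv : ∀ (B : Over (Spec (CommRingCat.of k))) [GrpObj B] [IsProper B.hom] [GeometricallyReduced B.hom] [ConnectedSpace ↥B.left]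
      (g : Over.mk (X ↘ Spec (CommRingCat.of k)) ⟶ B), x₀ ≫ g = η[B] → ∃! h : A ⟶ B, IsMonHom h ∧ alb ≫ h = g)
    (x₁ : 𝟙_ (Over (Spec (CommRingCat.of k))) ⟶ Over.mk (X ↘ Spec (CommRingCat.of k))) :
    x₁ ≫ (alb * (toUnit (Over.mk (X ↘ Spec (CommRingCat.of k))) ≫ x₁ ≫ alb)⁻¹) = η[A] ∧
    ∀ (B : Over (Spec (CommRingCat.of k))) [GrpObj B] [IsProper B.hom] [GeometricallyReduced B.hom] [ConnectedSpace ↥B.left]
      (g : Over.mk (X ↘ Spec (CommRingCat.of k)) ⟶ B), x₁ ≫ g = η[B] →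
        ∃! h : A ⟶ B, IsMonHom h ∧ (alb * (toUnit (Over.mk (X ↘ Spec (CommRingCat.of k))) ≫ x₁ ≫ alb)⁻¹) ≫ h = g := by
  have hx₀u : x₀ ≫ toUnit (Over.mk (X ↘ Spec (CommRingCat.of k))) = 𝟙 _ := toUnit_unique _ _
  have hx₁u : x₁ ≫ toUnit (Over.mk (X ↘ Spec (CommRingCat.of k))) = 𝟙 _ := toUnit_unique _ _
  refine ⟨?_, ?_⟩
  · rw [MonObj.comp_mul, GrpObj.comp_inv, ← Category.assoc, hx₁u, Category.id_comp,
      mul_inv_cancel, MonObj.one_eq_one]
  · intro B _ _ _ _ g hg
    set c₀ : Over.mk (X ↘ Spec (CommRingCat.of k)) ⟶ B :=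
      toUnit (Over.mk (X ↘ Spec (CommRingCat.of k))) ≫ x₀ ≫ g with hc₀
    have hpt : x₀ ≫ (g * c₀⁻¹) = η[B] := by
      rw [MonObj.comp_mul, GrpObj.comp_inv, hc₀, ← Category.assoc, hx₀u, Category.id_comp,
        mul_inv_cancel, MonObj.one_eq_one]
    obtain ⟨h, ⟨hm, hh⟩, huniq⟩ := huniv B (g * c₀⁻¹) hpt
    -- key computation for a homomorphism `h'`
    have key : ∀ (h' : A ⟶ B) [IsMonHom h'],
        (alb * (toUnit (Over.mk (X ↘ Spec (CommRingCat.of k))) ≫ x₁ ≫ alb)⁻¹) ≫ h' = g ↔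
          alb ≫ h' = g * c₀⁻¹ := by
      intro h' _
      have e1 : (alb * (toUnit (Over.mk (X ↘ Spec (CommRingCat.of k))) ≫ x₁ ≫ alb)⁻¹) ≫ h' =
          (alb ≫ h') * (toUnit (Over.mk (X ↘ Spec (CommRingCat.of k))) ≫ x₁ ≫ alb ≫ h')⁻¹ := by
        rw [MonObj.mul_comp, GrpObj.inv_comp, Category.assoc, Category.assoc]
      have e0 : x₀ ≫ alb ≫ h' = (1 : _ ⟶ B) := by
        rw [← Category.assoc, halb, IsMonHom.one_hom, MonObj.one_eq_one]
      constructor
      · intro H
        rw [e1] at H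
        -- alb ≫ h' = g * (toUnit ≫ p), p = x₁ ≫ alb ≫ h'
        have H2 : alb ≫ h' =
            g * (toUnit (Over.mk (X ↘ Spec (CommRingCat.of k))) ≫ x₁ ≫ alb ≫ h') :=
          mul_inv_eq_iff_eq_mul.1 H
        have H3 : (1 : _ ⟶ B) = (x₀ ≫ g) * (x₁ ≫ alb ≫ h') := by
          have H3' : x₀ ≫ (alb ≫ h') = x₀ ≫ (g *
              (toUnit (Over.mk (X ↘ Spec (CommRingCat.of k))) ≫ x₁ ≫ alb ≫ h')) :=
            congrArg (fun t => x₀ ≫ t) H2
          rw [e0, MonObj.comp_mul, ← Category.assoc x₀ (toUnit _), hx₀u, Category.id_comp] at H3'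
          exact H3'
        have H4 : x₁ ≫ alb ≫ h' = (x₀ ≫ g)⁻¹ := (inv_eq_of_mul_eq_one_right H3.symm).symm
        rw [H2, H4, hc₀, GrpObj.comp_inv]
      · intro H
        rw [e1, H]
        have H5 : x₁ ≫ (g * c₀⁻¹) = (x₀ ≫ g)⁻¹ := by
          rw [MonObj.comp_mul, GrpObj.comp_inv, hc₀, ← Category.assoc x₁, hx₁u, Category.id_comp,
            hg, MonObj.one_eq_one, _root_.one_mul]
        rw [H5, GrpObj.comp_inv, _root_.inv_inv, inv_mul_cancel_right]
    refine ⟨h, ⟨hm, (key h).2 hh⟩, ?_⟩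
    rintro h' ⟨hm', hh'⟩
    exact huniq h' ⟨hm', (key h').1 hh'⟩

end Groth.Agent.S14827
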