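import Groth.Statements.S14836
import Groth.Agent.Lead.PullFF
import Mathlib

set_option autoImplicit false
universe u
open CategoryTheory CategoryTheory.Limits AlgebraicGeometry
open Formal2

namespace Groth.Agent.S14836

/-- Let k be a field and f : X → Y a k-morphism between proper k-schemes which is a fibration, i.e. O_Y
→ f_*O_X is an isomorphism (Γ(V, O_Y) → Γ(f⁻¹V, O_X) bijective for every open V ⊆ Y). Then N ↦ f^*N
is injective on Picard groups: every invertible O_Y-module whose pullback to X is trivial is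
trivial. -/
theorem result (k : Type u) [Field k] (X Y : Scheme.{u})
    [X.Over (Spec (CommRingCat.of k))] [Y.Over (Spec (CommRingCat.of k))] [IsProper (X ↘ Spec (CommRingCat.of k))] [IsProper (Y ↘ Spec (CommRingCat.of k))]
    (f : X ⟶ Y) (hf : f ≫ (Y ↘ Spec (CommRingCat.of k)) = X ↘ Spec (CommRingCat.of k)) (hfib : ∀ V : Y.Opens, IsIso (f.app V)) :
    Formal2.PicPullbackInjective f := by
  intro L hL htriv
  have hf' : ∀ U : Y.Opens, Function.Bijective (f.app U) := fun U =>
    (ConcreteCategory.isIso_iff_bijective _).mp (hfib U)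
  have hfl : FlatMod.IsFinLocFree L := by
    intro x
    obtain ⟨U', hxU, ⟨e⟩⟩ := hL x
    exact ⟨U', 1, hxU, ⟨e ≪≫ (Limits.coproductUniqueIso (fun _ : Fin 1 => Coh.structureModule (↑U'))).symm⟩⟩
  haveI := Groth.Agent.Lead.PullFF.isIso_unit_of_isFinLocFree f hf' L hfl
  haveI := Groth.Agent.Lead.PullFF.isIso_toPush f hf'
  obtain ⟨e⟩ := htriv
  exact ⟨asIso ((Scheme.Modules.pullbackPushforwardAdjunction f).unit.app L) ≪≫ (Scheme.Modules.pushforward f).mapIso e ≪≫ (asIso (Groth.Agent.Lead.PullFF.toPush f)).symm⟩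

end Groth.Agent.S14836
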