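import Groth.Statements.S14837
import Groth.Agent.Lead.EdgeInjSch
import Groth.Agent.S0002
import Groth.Agent.Lead.PerfLib5
import Groth.Agent.Helper4.FinLocFree6

set_option autoImplicit false
universe u
open CategoryTheory CategoryTheory.Limits AlgebraicGeometry
open Coh

namespace Groth.Agent.S14837

/-- Let k be a field and f : X → Y a k-morphism between proper k-schemes which is a fibration (Γ(V, O_Y)
→ Γ(f⁻¹V, O_X) bijective for every open V ⊆ Y). Then H^1(Y, O_Y) injects naturally into H^1(X, O_X)
(edge map of the Leray spectral sequence); stated here as the inequality dim_k H^1(Y, O_Y) ≤ dim_k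
H^1(X, O_X) of finite dimensions. -/
theorem result (k : Type u) [Field k] (X Y : Scheme.{u})
    [X.Over (Spec (CommRingCat.of k))] [Y.Over (Spec (CommRingCat.of k))] [IsProper (X ↘ Spec (CommRingCat.of k))] [IsProper (Y ↘ Spec (CommRingCat.of k))]
    (f : X ⟶ Y) (hf : f ≫ (Y ↘ Spec (CommRingCat.of k)) = X ↘ Spec (CommRingCat.of k)) (hfib : ∀ V : Y.Opens, IsIso (f.app V)) :
    Module.finrank k (Coh.HH Y (Coh.structureModule Y) 1) ≤ Module.finrank k (Coh.HH X (Coh.structureModule X) 1) := by
  have hiso : IsIso (ClSub.unitToPush f) := Groth.Agent.Lead.EdgeInjSch.isIso_unitToPush f hfib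
  haveI : Module.Finite k (Coh.HH X (Coh.structureModule X) 1) :=
    Groth.Agent.S0002.result k X (Coh.structureModule X)
      (Groth.Agent.Lead.PerfLib.isCoh_of_isFinLocFree
        Groth.Agent.Helper4.FinLocFree6.isFinLocFree_unit) 1
  let Φ : Coh.HH Y (Coh.structureModule Y) 1 →ₗ[k] Coh.HH X (Coh.structureModule X) 1 :=
    (Groth.Agent.Lead.EdgeInjSch.edgeLin f k hf (Coh.structureModule X)) ∘ₗ
      (Canon.HHlin k (ClSub.unitToPush f) 1)
  refine LinearMap.finrank_le_finrank_of_injective (f := Φ) ?_
  exact (Groth.Agent.Lead.EdgeInjSch.edgeLin_injective f k hf _).comp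
    (Groth.Agent.Lead.EdgeInjSch.H_map_injective_of_isIso _ hiso 1)

end Groth.Agent.S14837
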