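import Groth.Statements.S14839
import Mathlib
import Groth.Agent.Helper7.ComodQ

set_option autoImplicit false
universe u v
open HopfRep

namespace Groth.Agent.S14839

open TensorProduct in
/-- Over a field K, every simple coalgebra is finite-dimensional. Here a subcoalgebra of C is a subspace
B whose comultiplication lands in the image of B ⊗ B in C ⊗ C, and C is simple when it is nonzero
and its only subcoalgebras are 0 and C. -/
theorem result {K : Type u} {C : Type v} [Field K] [AddCommGroup C]
    [Module K C] [Coalgebra K C] [Nontrivial C]
    (hsimple : ∀ B : Submodule K C,
      (∀ b ∈ B, CoalgebraStruct.comul (R := K) b ∈ LinearMap.range (TensorProduct.map B.subtype B.subtype)) →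
        B = ⊥ ∨ B = ⊤) :
    Module.Finite K C := by
    exact Groth.Agent.Helper7.Comodule.finite_of_simple_coalgebra hsimple

end Groth.Agent.S14839
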