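import Groth.Statements.S1485
import Groth.Agent.Lead.TopBCB
import Groth.Agent.S9358

set_option autoImplicit false
universe u
open FlatMor

namespace Groth.Agent.S1485

open AlgebraicGeometry CategoryTheory Limits in
/-- Let f : X → Y be proper and y a point with fibre of dimension ≤ 1. Suppose there is a morphism g :
Y' → Y whose image contains y such that, for the base change f' : X' → Y', H^1 of the structure
sheaf vanishes over the preimage of every affine open of Y' (that is, R^1 f'_* O = 0; taking g the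
identity covers the case R^1 f_* O_X = 0). Then H^1(X_y, O_{X_y}) = 0. -/
theorem result {X Y Y' : Scheme.{u}} (f : X ⟶ Y) [IsProper f] (y : Y) (hdim : topologicalKrullDim ↑(f.fiber y) ≤ 1)
    (g : Y' ⟶ Y) (hy : y ∈ Set.range ⇑g)
    (hR1 : ∀ U : Y'.Opens, IsAffineOpen U → Subsingleton (Coh.HHon (pullback f g) (Coh.structureModule (pullback f g)) (pullback.snd f g ⁻¹ᵁ U) 1)) :
    Subsingleton (Coh.HH (f.fiber y) (Coh.structureModule (f.fiber y)) 1) := by
  obtain ⟨y', rfl⟩ := hy
  have hpb : IsPullback (pullback.fst f g) (pullback.snd f g) f g := IsPullback.of_hasPullback f g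
  refine Groth.Agent.Lead.TopBC.subsingleton_HH_fiber_of_isPullback hpb y' 1 ?_
  have hdim' : topologicalKrullDim ↥(f.fiber (g y')) ≤ ((1 : ℕ) : WithBot ℕ∞) := by
    exact_mod_cast hdim
  have hd₁ : topologicalKrullDim ↥((pullback.snd f g).fiber y') ≤ ((1 : ℕ) : WithBot ℕ∞) := by
    refine (Groth.Agent.Lead.FibVan.fiber_dim_le_iff (pullback.snd f g) y' 1).2 ?_
    intro x₁ hx₁
    rw [(Groth.Agent.S9358.result f g (pullback.fst f g) (pullback.snd f g) hpb 1).1 x₁]
    refine (Groth.Agent.Lead.FibVan.fiber_dim_le_iff f (g y') 1).1 hdim' _ ?_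
    have hw : (pullback.fst f g ≫ f).base x₁ = (pullback.snd f g ≫ g).base x₁ := by
      rw [pullback.condition]
    rw [Scheme.Hom.comp_base, Scheme.Hom.comp_base] at hw
    refine hw.trans ?_
    exact congrArg (fun z => g.base z) hx₁
  obtain ⟨V, hyV, hV, hprop, hdV⟩ :=
    Groth.Agent.Lead.FibVan.exists_affine_nhd_fibreDimAt_le (pullback.snd f g) y' 1 hd₁
  haveI := hprop
  haveI : IsAffine (V : Scheme) := hV
  have h0 := hR1 V hV
  have h0' : Subsingleton (Coh.HH ((pullback.snd f g) ⁻¹ᵁ V)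
      (Coh.structureModule ((pullback.snd f g) ⁻¹ᵁ V)) 1) :=
    Groth.Agent.Lead.StratB.subsingleton_HH_of_iso
      (Scheme.Modules.restrictUnitIso ((pullback.snd f g) ⁻¹ᵁ V).ι) 1 h0
  have h2 := Groth.Agent.Lead.TopBC.subsingleton_HH_fiber (pullback.snd f g ∣_ V) 1 hdV h0'
    ⟨y', hyV⟩
  exact Groth.Agent.Lead.TopBC.subsingleton_HH_fiber_of_isPullback
    (isPullback_morphismRestrict (pullback.snd f g) V).flip ⟨y', hyV⟩ 1 h2

end Groth.Agent.S1485
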