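import Groth.Statements.S14857
import Mathlib
import Groth.Agent.Helper7.TeichP

set_option autoImplicit false
open CAlg

namespace Groth.Agent.S14857

/-- For a prime p, the Teichmüller representative [p^p] of the element p^p of the p-adic integers is
divisible by p in the ring of p-typical Witt vectors W(ℤ_p). -/
theorem result (p : ℕ) [Fact p.Prime] :
    (p : WittVector p ℤ_[p]) ∣ WittVector.teichmuller p ((p : ℤ_[p]) ^ p) := by
  exact Groth.Agent.Helper7.TeichP.main p ℤ_[p] (p : ℤ_[p]) rfl

end Groth.Agent.S14857
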