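import Groth.Statements.S14885
import Mathlib
import Groth.Agent.Helper9.RSQuot
-- import your own Groth.Agent.* helpers here

set_option autoImplicit false
universe u v
open CategoryTheory TopologicalSpace Opposite AlgebraicGeometry Topology
open AlgGrp

namespace Groth.Agent.S14885

/-- Let a group Γ act on a ringed space X (a topological space with a sheaf of rings) by automorphisms
τ_g, and let π : X → Y be a Γ-invariant morphism of ringed spaces which exhibits Y as the quotient
ringed space X/Γ: the underlying continuous map of π is a topological quotient map whose fibres are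
exactly the Γ-orbits, and for every open subset V of Y the ring map O_Y(V) → O_X(π⁻¹V) is injective
with image the sections s satisfying τ_g^♯(s) = s for all g. Then (Y, π) is a categorical quotient
for the action in the category of ringed spaces: every morphism of ringed spaces f : X → Z with f ∘
τ_g = f for all g (as morphisms of ringed spaces) factors uniquely as f = f̄ ∘ π. -/
theorem result (X Y : SheafedSpace CommRingCat.{u}) (Γ : Type v) [Group Γ]
    (τ : Γ →* Aut X) (π : X ⟶ Y) (hτ : ∀ g : Γ, (τ g).hom ≫ π = π)
    (h1 : IsQuotientMap π.hom.base)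
    (h2 : ∀ x x' : X, π.hom.base x = π.hom.base x' ↔ ∃ g : Γ, (τ g).hom.hom.base x = x')
    (h3 : ∀ V : Opens Y, Function.Injective (π.hom.c.app (op V)) ∧
      Set.range (π.hom.c.app (op V)) =
        {s | ∀ g : Γ, (τ g).hom.hom.c.app (op ((Opens.map π.hom.base).obj V)) s =
          X.presheaf.map (eqToHom (congrArg (fun f : X ⟶ Y => op ((Opens.map f.hom.base).obj V)) (hτ g).symm)) s})
    (Z : SheafedSpace CommRingCat.{u}) (f : X ⟶ Z) (hf : ∀ g : Γ, (τ g).hom ≫ f = f) :
    ∃! fbar : Y ⟶ Z, π ≫ fbar = f := by
  have hconst : ∀ x x' : X, π.hom.base x = π.hom.base x' → f.hom.base x = f.hom.base x' := by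
    intro x x' hx
    obtain ⟨g, rfl⟩ := (h2 x x').mp hx
    have := congrArg (fun k : X ⟶ Z => k.hom.base x) (hf g)
    exact this.symm
  have hrange : ∀ (W : Opens Z) (V : Opens Y)
      (e : (Opens.map π.hom.base).obj V = (Opens.map f.hom.base).obj W) (s : Z.presheaf.obj (op W)),
      X.presheaf.map (eqToHom e).op (f.hom.c.app (op W) s) ∈ Set.range (π.hom.c.app (op V)) := by
    intro W V e s
    rw [(h3 V).2]
    intro g
    exact Groth.Agent.Helper9.RSQuot.invariant_of_comp_eq (τ g).hom.hom f.hom
      (congrArg InducedCategory.Hom.hom (hf g)) W _ e s _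
  obtain ⟨fb, hfb, huniq⟩ := Groth.Agent.Helper9.RSQuot.existsUnique_desc π.hom f.hom h1 hconst
    (fun V => (h3 V).1) hrange
  exact ⟨InducedCategory.homMk fb, InducedCategory.hom_ext hfb, fun fb' h' =>
    InducedCategory.hom_ext (huniq fb'.hom (congrArg InducedCategory.Hom.hom h'))⟩

end Groth.Agent.S14885
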