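import Groth.Statements.S14955
import Mathlib
import Groth.Agent.Helper7.EtMil

set_option autoImplicit false
universe u
open TensorProduct
open EtAlg

namespace Groth.Agent.S14955

/-- Let B' = B ×_A A' be a fibre product of commutative rings with A' → A surjective. Then the square is
also a pushout of commutative rings: the canonical map B ⊗_{B'} A' → A is an isomorphism. -/
theorem result (B' B A' A : Type u) [CommRing B'] [CommRing B] [CommRing A'] [CommRing A]
    [Algebra B' B] [Algebra B' A'] [Algebra B A] [Algebra A' A] [Algebra B' A] [IsScalarTower B' B A] [IsScalarTower B' A' A]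
    (hsq : EtMil.IsFibreSquare B' B A' A) : Algebra.IsPushout B' B A' A := by
  constructor
  have hsurjB := Groth.Agent.Helper7.EtMilH.surjB hsq
  set f : A' →ₗ[B'] A := (IsScalarTower.toAlgHom B' A' A).toLinearMap with hf
  have hfapp : ∀ x, f x = algebraMap A' A x := fun x => rfl
  have hfsurj : Function.Surjective f := hsq.1
  apply IsBaseChange.of_lift_unique
  intro Q _ _ _ _ g
  letI : AddCommGroup Q := Module.addCommMonoidToAddCommGroup B
  -- g kills the kernel of f
  have hker : LinearMap.ker f ≤ LinearMap.ker g := by
    intro x hx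
    rw [LinearMap.mem_ker, hfapp] at hx
    -- x is the image of some j ∈ J
    have h0 : algebraMap B A 0 = algebraMap A' A x := by rw [map_zero, hx]
    obtain ⟨j, ⟨hj1, hj2⟩, _⟩ := hsq.2 0 x h0
    rw [LinearMap.mem_ker]
    have hx' : x = j • (1 : A') := by rw [Algebra.smul_def, mul_one, hj2]
    rw [hx', map_smul, ← algebraMap_smul B j (g 1), hj1, zero_smul]
  let g₀ : A →ₗ[B'] Q := ((LinearMap.ker f).liftQ g hker) ∘ₗ (f.quotKerEquivOfSurjective hfsurj).symm.toLinearMap
  have hg₀ : ∀ x, g₀ (f x) = g x := by
    intro x
    simp only [g₀, LinearMap.comp_apply, LinearEquiv.coe_coe]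
    have : (f.quotKerEquivOfSurjective hfsurj).symm (f x) = Submodule.Quotient.mk x := by
      rw [LinearEquiv.symm_apply_eq]
      rfl
    rw [this, Submodule.liftQ_apply]
  let g' : A →ₗ[B] Q :=
    { toFun := g₀
      map_add' := g₀.map_add
      map_smul' := by
        intro b a
        obtain ⟨b', rfl⟩ := hsurjB b
        simp only [RingHom.id_apply]
        rw [algebraMap_smul, algebraMap_smul]
        exact g₀.map_smul b' a }
  refine ⟨g', ?_, ?_⟩
  · ext x
    exact hg₀ x
  · intro g'' hg''
    ext a
    obtain ⟨x, rfl⟩ := hfsurj a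
    have := congrArg (fun φ => φ x) hg''
    simp only [LinearMap.comp_apply, LinearMap.restrictScalars_apply] at this
    rw [this]
    exact (hg₀ x).symm

end Groth.Agent.S14955
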