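import Groth.Statements.S14958
import Groth.Agent.Helper1.TorSecond

set_option autoImplicit false
universe u
open TensorProduct CategoryTheory CategoryTheory.Limits
open EtAlg

namespace Groth.Agent.S14958

section A

variable {R : Type u} [CommRing R] (T : ModuleCat.{u} R ⥤ ModuleCat.{u} R) [T.Additive]
  {X Y Z : Type u} [AddCommGroup X] [Module R X] [AddCommGroup Y] [Module R Y]
  [AddCommGroup Z] [Module R Z] (a : X →ₗ[R] Z) (b : Y →ₗ[R] Z)

lemma epi_map_coprod_iff :
    Epi (T.map (ModuleCat.ofHom (a.coprod b))) ↔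
      Epi (biprod.desc (T.map (ModuleCat.ofHom a)) (T.map (ModuleCat.ofHom b))) := by
  set inl : ModuleCat.of R X ⟶ ModuleCat.of R (X × Y) := ModuleCat.ofHom (LinearMap.inl R X Y)
  set inr : ModuleCat.of R Y ⟶ ModuleCat.of R (X × Y) := ModuleCat.ofHom (LinearMap.inr R X Y)
  set fst : ModuleCat.of R (X × Y) ⟶ ModuleCat.of R X := ModuleCat.ofHom (LinearMap.fst R X Y)
  set snd : ModuleCat.of R (X × Y) ⟶ ModuleCat.of R Y := ModuleCat.ofHom (LinearMap.snd R X Y)
  set g : ModuleCat.of R (X × Y) ⟶ ModuleCat.of R Z := ModuleCat.ofHom (a.coprod b)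
  have h1 : inl ≫ g = ModuleCat.ofHom a := by
    ext x
    simp [inl, g]
  have h2 : inr ≫ g = ModuleCat.ofHom b := by
    ext x
    simp [inr, g]
  have h3 : fst ≫ inl + snd ≫ inr = 𝟙 _ := by
    apply ModuleCat.hom_ext
    apply LinearMap.ext
    rintro ⟨x, y⟩
    show (LinearMap.inl R X Y) ((LinearMap.fst R X Y) (x, y)) +
      (LinearMap.inr R X Y) ((LinearMap.snd R X Y) (x, y)) = (x, y)
    simp
  set φ := biprod.desc (T.map inl) (T.map inr)
  set ψ := biprod.lift (T.map fst) (T.map snd)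
  have hψφ : ψ ≫ φ = 𝟙 _ := by
    rw [biprod.lift_desc, ← T.map_comp, ← T.map_comp, ← T.map_add, h3, T.map_id]
  have hφg : φ ≫ T.map g = biprod.desc (T.map (ModuleCat.ofHom a)) (T.map (ModuleCat.ofHom b)) := by
    apply biprod.hom_ext'
    · rw [biprod.inl_desc_assoc, biprod.inl_desc, ← T.map_comp, h1]
    · rw [biprod.inr_desc_assoc, biprod.inr_desc, ← T.map_comp, h2]
  rw [← hφg]
  constructor
  · intro h
    haveI : IsSplitEpi φ := IsSplitEpi.mk' ⟨ψ, hψφ⟩
    exact epi_comp _ _
  · intro h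
    exact epi_of_epi φ (T.map g)

end A

section B

variable (B' B A' A : Type u) [CommRing B'] [CommRing B] [CommRing A'] [CommRing A]
  [Algebra B' B] [Algebra B' A'] [Algebra B A] [Algebra A' A] [Algebra B' A]
  [IsScalarTower B' B A] [IsScalarTower B' A' A]

/-- `b' ↦ (b', -b')`. -/
noncomputable def fMap : B' →ₗ[B'] B × A' :=
  (Algebra.linearMap B' B).prod (-(Algebra.linearMap B' A'))

/-- `(b, a') ↦ b + a'` in `A`. -/
noncomputable def gMap : B × A' →ₗ[B'] A :=
  ((IsScalarTower.toAlgHom B' B A).toLinearMap).coprod ((IsScalarTower.toAlgHom B' A' A).toLinearMap)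

lemma gMap_apply (b : B) (a' : A') :
    gMap B' B A' A (b, a') = algebraMap B A b + algebraMap A' A a' := by
  simp [gMap]

lemma fMap_apply (b' : B') :
    fMap B' B A' b' = (algebraMap B' B b', -algebraMap B' A' b') := by
  simp [fMap]

variable {B' B A' A}

lemma fMap_injective (hsq : EtMil.IsFibreSquare B' B A' A) :
    Function.Injective (fMap B' B A') := by
  rw [← LinearMap.ker_eq_bot, LinearMap.ker_eq_bot']
  intro b' hb'
  rw [fMap_apply, Prod.mk_eq_zero, neg_eq_zero] at hb'
  obtain ⟨c, -, hc⟩ := hsq.2 0 0 (by simp)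
  rw [hc b' hb', hc 0 ⟨map_zero _, map_zero _⟩]

lemma gMap_surjective (hsq : EtMil.IsFibreSquare B' B A' A) :
    Function.Surjective (gMap B' B A' A) := by
  intro a
  obtain ⟨a', rfl⟩ := hsq.1 a
  exact ⟨(0, a'), by rw [gMap_apply, map_zero, zero_add]⟩

lemma exact_fMap_gMap (hsq : EtMil.IsFibreSquare B' B A' A) :
    Function.Exact (fMap B' B A') (gMap B' B A' A) := by
  rintro ⟨b, a'⟩
  constructor
  · intro h
    rw [gMap_apply] at h
    have h' : algebraMap B A b = algebraMap A' A (-a') := by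
      rw [map_neg]
      exact eq_neg_of_add_eq_zero_left h
    obtain ⟨b', ⟨hb1, hb2⟩, -⟩ := hsq.2 b (-a') h'
    refine ⟨b', ?_⟩
    rw [fMap_apply, hb1, hb2, neg_neg]
  · rintro ⟨b', hb'⟩
    rw [fMap_apply] at hb'
    rw [← hb', gMap_apply, map_neg, ← IsScalarTower.algebraMap_apply,
      ← IsScalarTower.algebraMap_apply, add_neg_cancel]

end B

section C

variable {B' B A' : Type u} [CommRing B'] [CommRing B] [CommRing A']
  [Algebra B' B] [Algebra B' A'] (L' : Type u) [AddCommGroup L'] [Module B' L']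

lemma lTensor_fMap_injective_iff :
    Function.Injective (LinearMap.lTensor L' (fMap B' B A')) ↔
      (∀ l : L', ((1 : B) ⊗ₜ[B'] l : B ⊗[B'] L') = 0 →
        ((1 : A') ⊗ₜ[B'] l : A' ⊗[B'] L') = 0 → l = 0) := by
  -- the composite `L' ≃ L' ⊗ B' → L' ⊗ (B × A') ≃ (B ⊗ L') × (A' ⊗ L')`
  let e1 : L' ≃ₗ[B'] L' ⊗[B'] B' := (TensorProduct.rid B' L').symm
  let e2 : L' ⊗[B'] (B × A') ≃ₗ[B'] (B ⊗[B'] L') × (A' ⊗[B'] L') :=
    (TensorProduct.prodRight B' B' L' B A') ≪≫ₗ
      LinearEquiv.prodCongr (TensorProduct.comm B' L' B) (TensorProduct.comm B' L' A')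
  let φ : L' →ₗ[B'] (B ⊗[B'] L') × (A' ⊗[B'] L') :=
    e2.toLinearMap ∘ₗ (LinearMap.lTensor L' (fMap B' B A')) ∘ₗ e1.toLinearMap
  have hφ : ∀ l, φ l = ((1 : B) ⊗ₜ[B'] l, -((1 : A') ⊗ₜ[B'] l)) := by
    intro l
    show e2 (LinearMap.lTensor L' (fMap B' B A') ((TensorProduct.rid B' L').symm l)) = _
    rw [TensorProduct.rid_symm_apply, LinearMap.lTensor_tmul, fMap_apply, map_one, map_one]
    show (LinearEquiv.prodCongr (TensorProduct.comm B' L' B) (TensorProduct.comm B' L' A'))
      (TensorProduct.prodRight B' B' L' B A' (l ⊗ₜ[B'] ((1 : B), -(1 : A')))) = _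
    rw [TensorProduct.prodRight_tmul]
    simp [TensorProduct.neg_tmul]
  have hinj : Function.Injective (LinearMap.lTensor L' (fMap B' B A')) ↔ Function.Injective φ := by
    constructor
    · intro h
      exact e2.injective.comp (h.comp e1.injective)
    · intro h x y hxy
      have : φ (e1.symm x) = φ (e1.symm y) := by
        show e2 (LinearMap.lTensor L' (fMap B' B A') (e1 (e1.symm x))) =
          e2 (LinearMap.lTensor L' (fMap B' B A') (e1 (e1.symm y)))
        rw [e1.apply_symm_apply, e1.apply_symm_apply, hxy]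
      exact e1.symm.injective (h this)
  rw [hinj, ← LinearMap.ker_eq_bot, LinearMap.ker_eq_bot']
  constructor
  · intro h l h1 h2
    apply h l
    rw [hφ, h1, h2, neg_zero]
    rfl
  · intro h l hl
    rw [hφ, Prod.mk_eq_zero, neg_eq_zero] at hl
    exact h l hl.1 hl.2

end C

/-- Let B' = B ×_A A' be a fibre product of commutative rings with A' → A surjective and L' a B'-module.
Then L' is a fixed point of the glueing adjunction, i.e. the canonical map from L' to the compatible
pairs in (B ⊗_{B'} L') × (A' ⊗_{B'} L') is injective (it is always surjective), if and only if the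
map Tor_1(L', B) ⊕ Tor_1(L', A') → Tor_1(L', A) over B' induced by B → A and A' → A is surjective.
Here Tor_1(L', –) is the first left derived functor of L' ⊗_{B'} – on B'-modules. -/
theorem result (B' B A' A : Type u) [CommRing B'] [CommRing B] [CommRing A'] [CommRing A]
    [Algebra B' B] [Algebra B' A'] [Algebra B A] [Algebra A' A] [Algebra B' A] [IsScalarTower B' B A] [IsScalarTower B' A' A]
    (hsq : EtMil.IsFibreSquare B' B A' A)
    (L' : Type u) [AddCommGroup L'] [Module B' L'] :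
    (∀ l : L', ((1 : B) ⊗ₜ[B'] l : B ⊗[B'] L') = 0 → ((1 : A') ⊗ₜ[B'] l : A' ⊗[B'] L') = 0 → l = 0) ↔
    Epi (biprod.desc
      (((Tor (ModuleCat.{u} B') 1).obj (ModuleCat.of B' L')).map
        (ModuleCat.ofHom (IsScalarTower.toAlgHom B' B A).toLinearMap))
      (((Tor (ModuleCat.{u} B') 1).obj (ModuleCat.of B' L')).map
        (ModuleCat.ofHom (IsScalarTower.toAlgHom B' A' A).toLinearMap))) := by
  have hS := Groth.Agent.Helper1.TorLib.scOfLinear_shortExact (fMap B' B A') (gMap B' B A' A)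
    (fMap_injective hsq) (gMap_surjective hsq) (exact_fMap_gMap hsq)
  rw [← lTensor_fMap_injective_iff L',
    ← epi_map_coprod_iff ((Tor (ModuleCat.{u} B') 1).obj (ModuleCat.of B' L'))
      (IsScalarTower.toAlgHom B' B A).toLinearMap (IsScalarTower.toAlgHom B' A' A).toLinearMap]
  exact (Groth.Agent.Helper1.TorLib.epi_torOne_map_iff (ModuleCat.of B' L') hS).symm

end Groth.Agent.S14958
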