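import Groth.Statements.S14966
import Mathlib
import Groth.Agent.Helper7.EtMil

set_option autoImplicit false
universe u
open EtAlg

namespace Groth.Agent.S14966

/-- Let A → A' be an injective homomorphism of commutative rings and let I ⊆ A be the conductor, i.e.
the annihilator of the A-module A'/A. Then the conductor square formed by A → A/I, A → A', A/I →
A'/IA' and A' → A'/IA' is a fibre product square of rings with A' → A'/IA' surjective: A = A/I
×_{A'/IA'} A'. (The published Lemma is for the conductor square of a finite modification of schemes;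
this row is the underlying statement for one injective ring map, which needs no finiteness.) -/
theorem result (A A' : Type u) [CommRing A] [CommRing A'] [Algebra A A']
    (hinj : Function.Injective (algebraMap A A')) :
    EtMil.IsFibreSquare A (A ⧸ Module.annihilator A (A' ⧸ LinearMap.range (Algebra.linearMap A A'))) A'
      (A' ⧸ Ideal.map (algebraMap A A') (Module.annihilator A (A' ⧸ LinearMap.range (Algebra.linearMap A A')))) := by
  refine ⟨Ideal.Quotient.mk_surjective, ?_⟩
  intro b a' h
  obtain ⟨a, rfl⟩ := Ideal.Quotient.mk_surjective b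
  set I := Module.annihilator A (A' ⧸ LinearMap.range (Algebra.linearMap A A')) with hI
  -- elements of I multiply A' into A
  have hImem : ∀ i ∈ I, ∀ x : A', ∃ y : A, algebraMap A A' y = algebraMap A A' i * x := by
    intro i hi x
    have := Module.mem_annihilator.mp hi (Submodule.Quotient.mk x)
    rw [← Submodule.Quotient.mk_smul, Submodule.Quotient.mk_eq_zero] at this
    obtain ⟨y, hy⟩ := this
    exact ⟨y, by rw [Algebra.smul_def] at hy; exact hy⟩
  -- the ideal generated by I in A' is contained in the image of I
  have hmap : ∀ z ∈ Ideal.map (algebraMap A A') I, ∃ i ∈ I, algebraMap A A' i = z := by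
    intro z hz
    refine Submodule.span_induction (p := fun z _ => ∃ i ∈ I, algebraMap A A' i = z) ?_ ?_ ?_ ?_ hz
    · rintro _ ⟨i, hi, rfl⟩
      exact ⟨i, hi, rfl⟩
    · exact ⟨0, I.zero_mem, map_zero _⟩
    · rintro x y _ _ ⟨i, hi, rfl⟩ ⟨j, hj, rfl⟩
      exact ⟨i + j, I.add_mem hi hj, map_add _ _ _⟩
    · rintro c x _ ⟨i, hi, rfl⟩
      obtain ⟨y, hy⟩ := hImem i hi c
      refine ⟨y, ?_, ?_⟩
      · -- y ∈ I
        rw [hI, Module.mem_annihilator]
        intro q
        obtain ⟨w, rfl⟩ := Submodule.Quotient.mk_surjective _ q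
        rw [← Submodule.Quotient.mk_smul, Submodule.Quotient.mk_eq_zero, Algebra.smul_def, hy]
        obtain ⟨v, hv⟩ := hImem i hi (c * w)
        exact ⟨v, by rw [Algebra.linearMap_apply, hv]; ring⟩
      · rw [hy, smul_eq_mul, mul_comm]
  have h' : Ideal.Quotient.mk (Ideal.map (algebraMap A A') I) (algebraMap A A' a) =
      Ideal.Quotient.mk (Ideal.map (algebraMap A A') I) a' := h
  obtain ⟨i, hi, hiz⟩ := hmap (algebraMap A A' a - a') (Ideal.Quotient.eq.mp h')
  refine ⟨a - i, ⟨?_, ?_⟩, ?_⟩
  · change Ideal.Quotient.mk I (a - i) = Ideal.Quotient.mk I a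
    rw [map_sub, Ideal.Quotient.eq_zero_iff_mem.mpr hi, sub_zero]
  · rw [map_sub, hiz]; ring
  · rintro y ⟨_, hy2⟩
    apply hinj
    rw [hy2, map_sub, hiz]; ring

end Groth.Agent.S14966
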