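import Groth.Statements.S14973
import Mathlib

set_option autoImplicit false
universe u v
open Diff16

namespace Groth.Agent.S14973

/-- In ring form. Let B be a commutative ring, L a ring with a ring homomorphism f from B, and L_0, L_1,
L_2, … additive subgroups of L exhausting L such that for every b in B, f(b) commutes with every
element of L_0 and, for each i, the commutator f(b) x - x f(b) of f(b) with an element x of L_(i+1)
lies in L_i. Let M be a multiplicative subset of B. Then M acts invertibly on the right of the left
localisation of L at M (L viewed as a B-module through left multiplication): in elementwise terms,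
(a) if x is in L and m, u are in M with f(u) x f(m) = 0, then f(u') x = 0 for some u' in M; (b) for
every x in L and m in M there are e in M and y in L with f(e) x = y f(m). (The published statement
assumes a filtration satisfying all the axioms of a filtered ring of differential operators on an
affine scheme; this row assumes only an exhaustive family of additive subgroups on which commutators
with the image of B lower the index.) -/
theorem result
    {B : Type u} [CommRing B] {L : Type v} [Ring L] (f : B →+* L) (F : ℕ → AddSubgroup L)
    (hex : ∀ x : L, ∃ i : ℕ, x ∈ F i)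
    (h0 : ∀ x ∈ F 0, ∀ b : B, f b * x = x * f b)
    (hS : ∀ (i : ℕ), ∀ x ∈ F (i + 1), ∀ b : B, f b * x - x * f b ∈ F i)
    (M : Submonoid B) :
    (∀ (x : L) (m u : B), m ∈ M → u ∈ M → f u * x * f m = 0 → ∃ u' ∈ M, f u' * x = 0) ∧
    (∀ (x : L) (m : B), m ∈ M → ∃ e ∈ M, ∃ y : L, f e * x = y * f m) := by
  have hcomm : ∀ a b : B, f a * f b = f b * f a := by
    intro a b
    rw [← map_mul, ← map_mul, mul_comm]
  have hb : ∀ i, ∀ x ∈ F i, ∀ m ∈ M, ∃ e ∈ M, ∃ y : L, f e * x = y * f m := by
    intro i
    induction i with
    | zero =>
      intro x hx m hm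
      exact ⟨m, hm, x, h0 x hx m⟩
    | succ i ih =>
      intro x hx m hm
      obtain ⟨e, he, y', hy'⟩ := ih _ (hS i x hx m) m hm
      refine ⟨e * m, M.mul_mem he hm, f e * x + y', ?_⟩
      rw [map_mul, add_mul, ← hy']
      noncomm_ring
  have ha : ∀ i, ∀ x ∈ F i, ∀ m ∈ M, ∀ u ∈ M, f u * x * f m = 0 → ∃ u' ∈ M, f u' * x = 0 := by
    intro i
    induction i with
    | zero =>
      intro x hx m hm u hu h
      refine ⟨u * m, M.mul_mem hu hm, ?_⟩
      rw [map_mul, mul_assoc, h0 x hx m, ← mul_assoc]
      exact h
    | succ i ih =>
      intro x hx m hm u hu h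
      have hz := hS i x hx m
      set z := f m * x - x * f m with hzdef
      -- f u * z = f (u * m) * x
      have h1 : f u * z = f u * f m * x := by
        rw [hzdef, mul_sub, ← mul_assoc, ← mul_assoc, h, sub_zero]
      have h2 : f u * z * f m = 0 := by
        rw [h1, hcomm u m, mul_assoc, mul_assoc, ← mul_assoc (f u), h, mul_zero]
      obtain ⟨u₁, hu₁, hu₁z⟩ := ih z hz m hm u hu h2
      refine ⟨u₁ * (u * m), M.mul_mem hu₁ (M.mul_mem hu hm), ?_⟩
      rw [map_mul, map_mul, mul_assoc, ← h1, ← mul_assoc, hcomm u₁ u, mul_assoc, hu₁z, mul_zero]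
  refine ⟨?_, ?_⟩
  · intro x m u hm hu h
    obtain ⟨i, hi⟩ := hex x
    exact ha i x hi m hm u hu h
  · intro x m hm
    obtain ⟨i, hi⟩ := hex x
    exact hb i x hi m hm

end Groth.Agent.S14973
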