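import Groth.Statements.S14988
import Groth.Agent.Lead.ResPropF

set_option autoImplicit false
universe u
open CategoryTheory CategoryTheory.Limits AlgebraicGeometry
open ResProp

namespace Groth.Agent.S14988

/-- In the case of schemes, let f : X ⟶ Y be a morphism of quasi-compact quasi-separated schemes. If
every quasi-coherent module on Y is a quotient of a direct sum of finite locally free modules (Y has
the resolution property) and some family (W_i) of finite locally free modules on X is f-generating,
i.e. every quasi-coherent module on X is a quotient of a direct sum of modules W_i ⊗ f^*N with N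
quasi-coherent on Y, then every quasi-coherent module on X is a quotient of a direct sum of finite
locally free modules (X has the resolution property). (The published statement is for quasi-compact
quasi-separated morphisms of algebraic stacks and assumes the family universally f-generating; this
row is the case of schemes and assumes the family only f-generating, which is what the argument
uses.) -/
theorem result {X Y : Scheme.{u}}
    [CompactSpace X] [QuasiSeparatedSpace X] [CompactSpace Y] [QuasiSeparatedSpace Y] (f : X ⟶ Y)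
    (hY : ∀ N : Y.Modules, Coh.IsQCoh N →
      ∃ (κ : Type u) (V : κ → Y.Modules) (π : (∐ V) ⟶ N), (∀ k, FlatMod.IsFinLocFree (V k)) ∧ Epi π)
    {ι : Type u} (W : ι → X.Modules) (hW : ∀ i, FlatMod.IsFinLocFree (W i))
    (hf : ∀ M : X.Modules, Coh.IsQCoh M →
      ∃ (κ : Type u) (j : κ → ι) (N : κ → Y.Modules)
        (π : (∐ fun k => CohB1.tensorMod (W (j k)) ((Scheme.Modules.pullback f).obj (N k))) ⟶ M),
        (∀ k, Coh.IsQCoh (N k)) ∧ Epi π) :
    ∀ M : X.Modules, Coh.IsQCoh M →
      ∃ (κ : Type u) (E : κ → X.Modules) (π : (∐ E) ⟶ M), (∀ k, FlatMod.IsFinLocFree (E k)) ∧ Epi π := by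
  intro M hM
  obtain ⟨κ, j, N, π, hN, hπ⟩ := hf M hM
  choose κ' V ρ hV hρ using fun k => hY (N k) (hN k)
  let E : (Σ k, κ' k) → X.Modules := fun p =>
    CohB1.tensorMod (W (j p.1)) ((Scheme.Modules.pullback f).obj (V p.1 p.2))
  let φ : ∀ p, E p ⟶ M := fun p =>
    KoszTw.tensorMap (𝟙 (W (j p.1)))
        ((Scheme.Modules.pullback f).map (Sigma.ι (V p.1) p.2 ≫ ρ p.1)) ≫
      Sigma.ι (fun k => CohB1.tensorMod (W (j k)) ((Scheme.Modules.pullback f).obj (N k))) p.1 ≫ π
  refine ⟨Σ k, κ' k, E, Sigma.desc φ, fun p =>
    Groth.Agent.Lead.ResProp.isFinLocFree_tensorMod (hW _)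
      (Groth.Agent.Lead.LocLift.isFinLocFree_pullback f (hV _ _)), ?_⟩
  rw [← Groth.Agent.Lead.ResProp.jointlyEpi_iff_epi_desc]
  intro Q q hq
  have hk : ∀ k, (Sigma.ι (fun k => CohB1.tensorMod (W (j k))
      ((Scheme.Modules.pullback f).obj (N k))) k ≫ π) ≫ q = 0 := by
    intro k
    have h1 : Groth.Agent.Lead.ResProp.JointlyEpi (V k) (fun l => Sigma.ι (V k) l ≫ ρ k) := by
      rw [Groth.Agent.Lead.ResProp.jointlyEpi_iff_epi_desc]
      have h0 : Sigma.desc (fun l => Sigma.ι (V k) l ≫ ρ k) = ρ k := by
        apply Sigma.hom_ext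
        intro l
        rw [Sigma.ι_desc]
      rw [h0]
      exact hρ k
    have h2 := Groth.Agent.Lead.ResProp.jointlyEpi_tensorLeft (W (j k)) _ _
      (Groth.Agent.Lead.ResProp.jointlyEpi_pullback f _ _ h1)
    apply h2
    intro l
    have h3 := hq ⟨k, l⟩
    simp only [φ, Category.assoc] at h3
    exact h3
  have h4 : π ≫ q = 0 := by
    apply Sigma.hom_ext
    intro k
    rw [← Category.assoc, comp_zero]
    exact hk k
  exact (cancel_epi π).1 (h4.trans comp_zero.symm)

end Groth.Agent.S14988
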