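import Groth.Statements.S15018
import Mathlib

set_option autoImplicit false
open TFCurv

namespace Groth.Agent.S15018

/-- Let Γ be a numerical semigroup (a submonoid of (ℕ, +) with finite complement), Γ ≠ ℕ, with conductor
c (every n ≥ c lies in Γ, c − 1 does not). Then Γ is symmetric (for x < c, x is a gap exactly when c
− 1 − x ∈ Γ) if and only if there is exactly one gap n of Γ such that Γ ∪ {n} is again stable under
adding elements of Γ, i.e. n + γ ∈ Γ for every nonzero γ ∈ Γ. -/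
theorem result (Γ : AddSubmonoid ℕ) (c : ℕ) (hc : ∀ n : ℕ, c ≤ n → n ∈ Γ) (hc0 : c ≠ 0) (hc1 : c - 1 ∉ Γ) : (∀ x : ℕ, x < c → (x ∉ Γ ↔ c - 1 - x ∈ Γ)) ↔ ∃! n : ℕ, n ∉ Γ ∧ ∀ γ : ℕ, γ ∈ Γ → γ ≠ 0 → n + γ ∈ Γ := by
  have hgap_lt : ∀ n, n ∉ Γ → n < c := by
    intro n hn
    by_contra hcon
    push Not at hcon
    exact hn (hc n hcon)
  have hadd : c - 1 ∉ Γ ∧ ∀ γ : ℕ, γ ∈ Γ → γ ≠ 0 → c - 1 + γ ∈ Γ :=
    ⟨hc1, fun γ _ hγ0 => hc _ (by omega)⟩
  constructor
  · intro hsymm
    refine ⟨c - 1, hadd, ?_⟩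
    rintro n ⟨hn, hnadd⟩
    by_contra hne
    have hlt : n < c := hgap_lt n hn
    have h1 : c - 1 - n ∈ Γ := (hsymm n hlt).mp hn
    have h2 : c - 1 - n ≠ 0 := by omega
    have := hnadd _ h1 h2
    have heq : n + (c - 1 - n) = c - 1 := by omega
    rw [heq] at this
    exact hc1 this
  · rintro ⟨n₀, hn₀, huniq⟩ x hx
    have hn₀eq : c - 1 = n₀ := huniq (c - 1) hadd
    constructor
    · intro hxΓ
      by_contra hcon
      -- the set of bad gaps is nonempty; take the largest
      classical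
      let T : Finset ℕ := (Finset.range c).filter (fun y => y ∉ Γ ∧ c - 1 - y ∉ Γ)
      have hTne : T.Nonempty := ⟨x, by simp [T, hx, hxΓ, hcon]⟩
      set y := T.max' hTne with hy
      have hyT : y ∈ T := T.max'_mem hTne
      simp only [T, Finset.mem_filter, Finset.mem_range] at hyT
      obtain ⟨hyc, hyΓ, hyΓ'⟩ := hyT
      have hyadd : y ∉ Γ ∧ ∀ γ : ℕ, γ ∈ Γ → γ ≠ 0 → y + γ ∈ Γ := by
        refine ⟨hyΓ, fun γ hγ hγ0 => ?_⟩
        by_contra hnot
        have hlt : y + γ < c := hgap_lt _ hnot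
        -- y + γ is a larger gap, so not bad
        have hnotT : y + γ ∉ T := by
          intro hmem
          have := T.le_max' _ hmem
          omega
        simp only [T, Finset.mem_filter, Finset.mem_range, not_and, not_not] at hnotT
        have h3 : c - 1 - (y + γ) ∈ Γ := hnotT hlt hnot
        apply hyΓ'
        have : c - 1 - y = (c - 1 - (y + γ)) + γ := by omega
        rw [this]
        exact Γ.add_mem h3 hγ
      have hyeq : y = n₀ := huniq y hyadd
      have : c - 1 - y = 0 := by omega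
      rw [this] at hyΓ'
      exact hyΓ' Γ.zero_mem
    · intro h1 hxΓ
      apply hc1
      have : c - 1 = (c - 1 - x) + x := by omega
      rw [this]
      exact Γ.add_mem h1 hxΓ

end Groth.Agent.S15018
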