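import Groth.Statements.S15019
import Mathlib

set_option autoImplicit false
open TFCurv

namespace Groth.Agent.S15019

/-- Let Γ be a numerical semigroup (a submonoid of (ℕ, +) with finite complement), Γ ≠ ℕ, with conductor
c (every n ≥ c lies in Γ, c − 1 does not), let e be its multiplicity (the least nonzero element of
Γ), and let S ⊆ ℕ be a Γ-module in normal form: 0 ∈ S and γ + s ∈ S for all γ ∈ Γ, s ∈ S. Then the
set of gaps n of S with S ∪ {n} again a Γ-module (n + γ ∈ S for every nonzero γ ∈ Γ) has at most e −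
1 elements, and so does the set of nonzero s ∈ S with S ∖ {s} again a Γ-module (s − γ ∉ S for every
nonzero γ ∈ Γ with γ ≤ s). -/
theorem result (Γ : AddSubmonoid ℕ) (c : ℕ) (hc : ∀ n : ℕ, c ≤ n → n ∈ Γ) (hc0 : c ≠ 0) (hc1 : c - 1 ∉ Γ) (e : ℕ) (he : e ∈ Γ) (he0 : e ≠ 0) (hemin : ∀ γ : ℕ, γ ∈ Γ → γ ≠ 0 → e ≤ γ) (S : Set ℕ) (hS0 : (0 : ℕ) ∈ S) (hS : ∀ γ : ℕ, γ ∈ Γ → ∀ s : ℕ, s ∈ S → γ + s ∈ S) : {n : ℕ | n ∉ S ∧ ∀ γ : ℕ, γ ∈ Γ → γ ≠ 0 → n + γ ∈ S}.encard ≤ ((e - 1 : ℕ) : ℕ∞) ∧ {s : ℕ | s ∈ S ∧ s ≠ 0 ∧ ∀ γ : ℕ, γ ∈ Γ → γ ≠ 0 → γ ≤ s → s - γ ∉ S}.encard ≤ ((e - 1 : ℕ) : ℕ∞) := by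
  classical
  have hke : ∀ k : ℕ, k * e ∈ Γ := by
    intro k
    have := Γ.nsmul_mem he k
    simpa [smul_eq_mul] using this
  have hepos : 0 < e := Nat.pos_of_ne_zero he0
  have hcard : (((Finset.range e).erase 0 : Finset ℕ) : Set ℕ).encard = ((e - 1 : ℕ) : ℕ∞) := by
    rw [Set.encard_coe_eq_coe_finsetCard]
    congr 1
    rw [Finset.card_erase_of_mem (by simpa using hepos), Finset.card_range]
  -- a general lemma: a set of naturals, pairwise incongruent mod e and never ≡ 0, has ≤ e - 1 elements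
  have key : ∀ A : Set ℕ, (∀ n ∈ A, n % e ≠ 0) →
      (∀ n ∈ A, ∀ k : ℕ, k ≠ 0 → n + k * e ∉ A) → A.encard ≤ ((e - 1 : ℕ) : ℕ∞) := by
    intro A h1 h2
    rw [← hcard]
    refine Set.encard_le_encard_of_injOn (f := fun n => n % e) ?_ ?_
    · intro n hn
      simp only [Finset.coe_erase, Finset.coe_range, Set.mem_diff, Set.mem_Iio, Set.mem_singleton_iff]
      exact ⟨Nat.mod_lt _ hepos, h1 n hn⟩
    · intro a ha b hb hab
      simp only at hab
      by_contra hne
      rcases Nat.lt_or_gt_of_ne hne with hlt | hlt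
      · -- b = a + k * e
        obtain ⟨k, hk⟩ : ∃ k, b = a + k * e := by
          have h3 : (b - a) % e = 0 := by
            have := (Nat.modEq_iff_dvd' hlt.le).mp hab
            exact Nat.mod_eq_zero_of_dvd this
          exact ⟨(b - a) / e, by have := Nat.div_add_mod (b - a) e; rw [h3] at this; rw [mul_comm]; omega⟩
        have hk0 : k ≠ 0 := by rintro rfl; omega
        exact h2 a ha k hk0 (hk ▸ hb)
      · obtain ⟨k, hk⟩ : ∃ k, a = b + k * e := by
          have h3 : (a - b) % e = 0 := by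
            have := (Nat.modEq_iff_dvd' hlt.le).mp hab.symm
            exact Nat.mod_eq_zero_of_dvd this
          exact ⟨(a - b) / e, by have := Nat.div_add_mod (a - b) e; rw [h3] at this; rw [mul_comm]; omega⟩
        have hk0 : k ≠ 0 := by rintro rfl; omega
        exact h2 b hb k hk0 (hk ▸ ha)
  constructor
  · apply key
    · rintro n ⟨hnS, hn⟩ hmod
      obtain ⟨k, hk⟩ : ∃ k, n = k * e := ⟨n / e, by have := Nat.div_add_mod n e; rw [hmod] at this; rw [mul_comm]; omega⟩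
      apply hnS
      have := hS _ (hke k) 0 hS0
      rw [add_zero, ← hk] at this
      exact this
    · rintro n ⟨hnS, hn⟩ k hk0 ⟨hmem, _⟩
      apply hmem
      have hkne : k * e ≠ 0 := Nat.mul_ne_zero hk0 he0
      exact hn _ (hke k) hkne
  · apply key
    · rintro s ⟨hsS, hs0, hs⟩ hmod
      obtain ⟨k, hk⟩ : ∃ k, s = k * e := ⟨s / e, by have := Nat.div_add_mod s e; rw [hmod] at this; rw [mul_comm]; omega⟩
      have hkne : k * e ≠ 0 := by rw [← hk]; exact hs0
      have := hs _ (hke k) hkne (by omega)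
      rw [hk, Nat.sub_self] at this
      exact this hS0
    · rintro s ⟨hsS, hs0, hs⟩ k hk0 ⟨hmem, _, hrem⟩
      have hkne : k * e ≠ 0 := Nat.mul_ne_zero hk0 he0
      have := hrem _ (hke k) hkne (by omega)
      rw [Nat.add_sub_cancel] at this
      exact this hsS

end Groth.Agent.S15019
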