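import Groth.Statements.S15025
import Groth.Agent.Helper6.TFC8

set_option autoImplicit false
universe u
open CategoryTheory
open TFCurv

namespace Groth.Agent.S15025

/-- Let O be a one-dimensional Noetherian local domain with algebraically closed residue field whose
integral closure O~ in its fraction field K is a finite O-module, M a finitely generated
torsion-free O-module and g : M → O^n an injective O-linear map whose cokernel T' has finite length.
Then the torsion submodule of O~ ⊗_O M is O-linearly isomorphic to Tor_1^O(O~, T') (existence of an
isomorphism only). -/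
theorem result (O : Type u) [CommRing O] [IsDomain O] [IsNoetherianRing O] [IsLocalRing O] (hdim : ringKrullDim O = 1) [IsAlgClosed (IsLocalRing.ResidueField O)] (K : Type u) [Field K] [Algebra O K] [IsFractionRing O K] (hfin : Module.Finite O ↥(integralClosure O K)) (M : Type u) [AddCommGroup M] [Module O M] [Module.Finite O M] [NoZeroSMulDivisors O M] (n : ℕ) (g : M →ₗ[O] (Fin n → O)) (hg : Function.Injective g) (hT : IsFiniteLength O ((Fin n → O) ⧸ LinearMap.range g)) : Nonempty (↥(Submodule.torsion O (TensorProduct O ↥(integralClosure O K) M)) ≃ₗ[O] ↑(((Tor (ModuleCat.{u} O) 1).obj (ModuleCat.of O ↥(integralClosure O K))).obj (ModuleCat.of O ((Fin n → O) ⧸ LinearMap.range g)))) := by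
  have hnf : ¬ IsField O := Groth.Agent.Helper6.Dim1.not_isField_of_dim_one hdim
  have hX : ∀ d : O, d ≠ 0 → ∀ x : ↥(integralClosure O K), d • x = 0 → x = 0 := by
    intro d hd x hx
    have h1 : ((d • x : ↥(integralClosure O K)) : K) = 0 := by rw [hx]; rfl
    rw [Subalgebra.coe_smul, Algebra.smul_def, mul_eq_zero] at h1
    rcases h1 with h1 | h1
    · exact absurd ((IsFractionRing.injective O K) (by rw [h1, map_zero])) hd
    · exact Subtype.ext h1
  exact Groth.Agent.Helper6.TFC.torsion_equiv_tor_one O hnf _ hX M n g hg hT

end Groth.Agent.S15025
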