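import Groth.Statements.S15029
import Mathlib

set_option autoImplicit false
open TFCurv

namespace Groth.Agent.S15029

/-- Let Γ be a numerical semigroup (a submonoid of (ℕ, +) with finite complement), Γ ≠ ℕ, with conductor
c (every n ≥ c lies in Γ, c − 1 does not), and let S ⊆ ℕ be a Γ-module in normal form (0 ∈ S and γ +
s ∈ S for γ ∈ Γ, s ∈ S). If S ≠ ℕ then some gap n of S can be added (n + γ ∈ S for every nonzero γ ∈
Γ, so S ∪ {n} is a Γ-module), and if S ≠ Γ then some s ∈ S outside Γ can be removed (s − γ ∉ S for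
every nonzero γ ∈ Γ with γ ≤ s, so S ∖ {s} is a Γ-module containing Γ); iterating, S is joined to ℕ
and to Γ by chains in the diagram of Γ-modules, which is therefore connected. -/
theorem result (Γ : AddSubmonoid ℕ) (c : ℕ) (hc : ∀ n : ℕ, c ≤ n → n ∈ Γ) (hc0 : c ≠ 0) (hc1 : c - 1 ∉ Γ) (S : Set ℕ) (hS0 : (0 : ℕ) ∈ S) (hS : ∀ γ : ℕ, γ ∈ Γ → ∀ s : ℕ, s ∈ S → γ + s ∈ S) : (S ≠ Set.univ → ∃ n : ℕ, n ∉ S ∧ ∀ γ : ℕ, γ ∈ Γ → γ ≠ 0 → n + γ ∈ S) ∧ ((↑Γ : Set ℕ) ≠ S → ∃ s : ℕ, s ∈ S ∧ s ∉ Γ ∧ ∀ γ : ℕ, γ ∈ Γ → γ ≠ 0 → γ ≤ s → s - γ ∉ S) := by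
  have hΓS : ∀ n, n ∈ Γ → n ∈ S := fun n hn => by simpa using hS n hn 0 hS0
  constructor
  · intro hne
    -- the complement of S is nonempty and bounded by c
    have hex : ∃ n, n ∉ S := by
      by_contra hcon
      push Not at hcon
      exact hne (Set.eq_univ_of_forall hcon)
    -- take the maximum gap
    have hbdd : ∀ n, n ∉ S → n < c := by
      intro n hn
      by_contra hcon
      push Not at hcon
      exact hn (hΓS n (hc n hcon))
    classical
    let T : Finset ℕ := (Finset.range c).filter (fun n => n ∉ S)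
    have hTne : T.Nonempty := by
      obtain ⟨n, hn⟩ := hex
      exact ⟨n, by simp [T, hbdd n hn, hn]⟩
    refine ⟨T.max' hTne, ?_, ?_⟩
    · have := T.max'_mem hTne
      simp only [T, Finset.mem_filter] at this
      exact this.2
    · intro γ hγ hγ0
      by_contra hcon
      have hlt : T.max' hTne + γ < c := hbdd _ hcon
      have hmemT : T.max' hTne + γ ∈ T := by
        simp only [T, Finset.mem_filter, Finset.mem_range]
        exact ⟨hlt, hcon⟩
      have := T.le_max' _ hmemT
      omega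
  · intro hne
    have hex : ∃ s, s ∈ S ∧ s ∉ Γ := by
      by_contra hcon
      push Not at hcon
      apply hne
      ext n
      exact ⟨fun h => hΓS n h, fun h => hcon n h⟩
    classical
    let s := Nat.find hex
    have hs : s ∈ S ∧ s ∉ Γ := Nat.find_spec hex
    refine ⟨s, hs.1, hs.2, ?_⟩
    intro γ hγ hγ0 hle hmem
    have hlt : s - γ < s := by omega
    have hnot := Nat.find_min hex hlt
    push Not at hnot
    have hΓ : s - γ ∈ Γ := hnot hmem
    have : s = (s - γ) + γ := by omega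
    apply hs.2
    rw [this]
    exact Γ.add_mem hΓ hγ

end Groth.Agent.S15029
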