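import Groth.Statements.S15066
import Mathlib
import Groth.Agent.Helper7.MuSimple
import Groth.Agent.S11928
import Groth.Prelude.Def_CartDual

set_option autoImplicit false
universe u
open Hopf

namespace Groth.Agent.S15066

/-- Let k be an algebraically closed field of characteristic p > 0 and A a finite-dimensional
commutative and cocommutative Hopf algebra over k (a finite commutative k-group G = Spec A) which is
a local ring (G connected) and whose dual algebra Hom_k(A, k) with the convolution product is
reduced (the Cartier dual of G is étale, i.e. G is multiplicative), with dim_k A > 1, and assume G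
is simple: every Hopf ideal of A is either zero or the augmentation ideal (no closed subgroup
schemes other than G and 1). Then G is isomorphic to μ_p: A has a group-like element g (Δ(g) = g ⊗
g, ε(g) = 1) with g^p = 1 whose powers 1, g, …, g^(p−1) are linearly independent over k, and dim_k A
= p (so A = k[g]/(g^p − 1)). -/
theorem result (k : Type u) [Field k] [IsAlgClosed k] (p : ℕ) [Fact p.Prime]
    [CharP k p] (A : Type u) [CommRing A] [HopfAlgebra k A] [Coalgebra.IsCocomm k A] [FiniteDimensional k A]
    [IsLocalRing A] (hdual : IsReduced (WithConv (A →ₗ[k] k))) (hA : 1 < Module.finrank k A)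
    (hsimple : ∀ I : Ideal A, I.IsHopfIdeal k → I = ⊥ ∨ I = RingHom.ker (Bialgebra.counitAlgHom k A)) :
    ∃ g : A, IsGroupLikeElem k g ∧ g ^ p = 1 ∧ LinearIndependent k (fun i : Fin p => g ^ (i : ℕ)) ∧
      Module.finrank k A = p := by
  have hfinD : Module.Finite k (WithConv (A →ₗ[k] k)) := CartDual.instModuleFinite k A
  have hrank : Module.finrank k (WithConv (A →ₗ[k] k)) = Module.finrank k A := by
    rw [(CartDual.toDual k A).finrank_eq]
    exact Subspace.dual_finrank_eq
  obtain ⟨f₁, f₂, hf⟩ := Groth.Agent.Helper7.MuSimple.exists_two_algHom (k := k)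
    (D := WithConv (A →ₗ[k] k)) (by rw [hrank]; exact hA)
  have h28 := (Groth.Agent.S11928.result k A).1
  obtain ⟨x₁, ⟨hx₁, hx₁'⟩, -⟩ := h28 f₁
  obtain ⟨x₂, ⟨hx₂, hx₂'⟩, -⟩ := h28 f₂
  have hne : x₁ ≠ x₂ := by
    intro h
    apply hf
    ext φ
    have h1 := hx₁' φ.ofConv
    have h2 := hx₂' φ.ofConv
    rw [WithConv.toConv_ofConv] at h1 h2
    rw [h1, h2, h]
  have hex : ∃ g : A, IsGroupLikeElem k g ∧ g ≠ 1 := by
    by_cases h : x₁ = 1
    · exact ⟨x₂, hx₂, fun h2 => hne (h.trans h2.symm)⟩
    · exact ⟨x₁, hx₁, h⟩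
  obtain ⟨g, hg, hg1⟩ := hex
  obtain ⟨h1, h2, h3⟩ := Groth.Agent.Helper7.MuSimple.main (k := k) (A := A) p hsimple g hg hg1
  exact ⟨g, hg, h1, h2, h3⟩

end Groth.Agent.S15066
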