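import Groth.Statements.S15084
import Mathlib
import Groth.Agent.Helper3.NumTypeS

set_option autoImplicit false
universe u
open scoped TensorProduct
open MovLem

namespace Groth.Agent.S15084

/-- Let A be a Noetherian integrally closed domain with fraction field K, let B be a domain with
fraction field L, and let A → B be an injective ring homomorphism, with K → L the induced map of
fraction fields, such that Spec B → Spec A is surjective (every prime ideal of A is the contraction
of a prime ideal of B). If a ∈ K is such that its image in L lies in B, then a ∈ A. (The published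
statement: for a surjective morphism f : Y → X of normal integral separated schemes of finite type
over a perfect field and a Cartier divisor D on X, if f^*D is effective then D is effective; a
Cartier divisor is locally the divisor of a nonzero rational function a, effectivity of div(a) on a
normal scheme means that a is a regular function, and this row is that local statement, which is
what the published proof establishes.) -/
theorem result
    (A B K L : Type u) [CommRing A] [IsDomain A] [IsNoetherianRing A] [IsIntegrallyClosed A]
    [CommRing B] [IsDomain B] [Field K] [Field L]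
    [Algebra A B] [Algebra A K] [IsFractionRing A K] [Algebra B L] [IsFractionRing B L]
    [Algebra K L] [Algebra A L] [IsScalarTower A K L] [IsScalarTower A B L]
    (hinj : Function.Injective (algebraMap A B))
    (hsurj : ∀ p : Ideal A, p.IsPrime → ∃ q : Ideal B, q.IsPrime ∧ q.comap (algebraMap A B) = p)
    (a : K) (ha : algebraMap K L a ∈ (algebraMap B L).range) :
    a ∈ (algebraMap A K).range := by
  by_contra hna
  let N : Submodule A K := LinearMap.range (Algebra.linearMap A K)
  have hN : ∀ x : K, x ∈ N ↔ x ∈ (algebraMap A K).range := fun x => Iff.rfl
  let S : Set (Ideal A) := {P | ∃ z : A, z • a ∉ N ∧ P = N.colon {z • a}}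
  have hSne : S.Nonempty := ⟨_, 1, by rwa [one_smul, hN], rfl⟩
  obtain ⟨p, ⟨z, hz, hpz⟩, hmax⟩ : ∃ p : Ideal A, p ∈ S ∧ ∀ P ∈ S, ¬ p < P :=
    set_has_maximal_iff_noetherian.mpr ‹IsNoetherianRing A› S hSne
  set a' := z • a with ha'
  have hmem : ∀ d : A, d ∈ p ↔ d • a' ∈ N := by
    intro d
    rw [hpz, Submodule.mem_colon_singleton]
  have hpprime : p.IsPrime := by
    refine ⟨?_, ?_⟩
    · intro htop
      have : (1 : A) ∈ p := htop ▸ Submodule.mem_top
      rw [hmem, one_smul] at this
      exact hz this
    · intro x y hxy
      by_contra hcon
      push Not at hcon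
      obtain ⟨hx, hy⟩ := hcon
      have hy' : (y * z) • a ∉ N := by
        rw [mul_smul]
        exact fun h => hy ((hmem y).mpr h)
      have hle : p ≤ N.colon {(y * z) • a} := by
        intro d hd
        rw [Submodule.mem_colon_singleton, mul_smul, smul_comm]
        exact N.smul_mem y ((hmem d).mp hd)
      have hP' : N.colon {(y * z) • a} ∈ S := ⟨y * z, hy', rfl⟩
      have heq : p = N.colon {(y * z) • a} := by
        by_contra hne
        exact hmax _ hP' (lt_of_le_of_ne hle hne)
      apply hx
      rw [heq, Submodule.mem_colon_singleton, mul_smul, ← mul_smul x y, ← hmem]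
      exact hxy
  by_cases h : ∀ d ∈ p, ∀ c : A, algebraMap A K c = d • a' → c ∈ p
  · -- integrality
    have hint : IsIntegral A a' := by
      refine isIntegral_of_smul_mem_submodule (R := A) (A := K) (M := K)
        (Submodule.map (Algebra.linearMap A K) p) ?_ ?_ a' ?_
      · obtain ⟨⟨y, hy⟩, hya⟩ := IsLocalization.exists_integer_multiple (nonZeroDivisors A) a
        have hy0 : y ≠ 0 := nonZeroDivisors.ne_zero hy
        have hyp : y ∈ p := by
          rw [hmem, ha', smul_comm]
          refine N.smul_mem z ?_
          obtain ⟨c, hc⟩ := hya
          exact ⟨c, hc⟩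
        intro hbot
        have : algebraMap A K y ∈ Submodule.map (Algebra.linearMap A K) p :=
          ⟨y, hyp, rfl⟩
        rw [hbot, Submodule.mem_bot] at this
        exact hy0 ((map_eq_zero_iff _ (IsFractionRing.injective A K)).mp this)
      · exact Submodule.FG.map _ ((isNoetherianRing_iff_ideal_fg A).mp ‹_› p)
      · rintro _ ⟨d, hd, rfl⟩
        obtain ⟨c, hc⟩ := (hmem d).mp hd
        refine ⟨c, h d hd c ?_, ?_⟩
        · exact hc
        · change algebraMap A K c = a' * algebraMap A K d
          rw [mul_comm, ← Algebra.smul_def]
          exact hc
    rw [IsIntegrallyClosed.isIntegral_iff] at hint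
    obtain ⟨c, hc⟩ := hint
    exact hz ⟨c, hc⟩
  · push Not at h
    obtain ⟨d, hd, c, hc, hcp⟩ := h
    obtain ⟨q, hq, hqp⟩ := hsurj p hpprime
    obtain ⟨b, hb⟩ := ha
    apply hcp
    rw [← hqp, Ideal.mem_comap]
    have hBL : Function.Injective (algebraMap B L) := IsFractionRing.injective B L
    have key : algebraMap A B c = algebraMap A B d * (algebraMap A B z * b) := by
      apply hBL
      rw [map_mul, map_mul, hb, ← IsScalarTower.algebraMap_apply,
        ← IsScalarTower.algebraMap_apply, ← IsScalarTower.algebraMap_apply,
        IsScalarTower.algebraMap_apply A K L c, hc, ha', Algebra.smul_def, Algebra.smul_def,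
        map_mul, map_mul, ← IsScalarTower.algebraMap_apply, ← IsScalarTower.algebraMap_apply]
    rw [key]
    refine Ideal.mul_mem_right _ _ ?_
    rw [← Ideal.mem_comap, hqp]
    exact hd

end Groth.Agent.S15084
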