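import Groth.Statements.S15151
import Mathlib

set_option autoImplicit false
universe u
open CategoryTheory AlgebraicGeometry
open HilbZeta

namespace Groth.Agent.S15151

/-- a ring map from a Dedekind domain is flat as soon as nonzero elements act injectively -/
theorem flat_of_torsionFree {R B : Type u} [CommRing R] [IsDedekindDomain R] [CommRing B]
    (φ : R →+* B) (h : ∀ (r : R) (b : B), r ≠ 0 → φ r * b = 0 → b = 0) : φ.Flat := by
  algebraize [φ]
  change Module.Flat R B
  haveI : Module.IsTorsionFree R B := by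
    rw [Module.isTorsionFree_iff_smul_eq_zero]
    intro r b hrb
    by_cases hr : r = 0
    · exact Or.inl hr
    · right
      apply h r b hr
      rw [← hrb, Algebra.smul_def]
      rfl
  infer_instance

theorem torsionFree_of_flat {R B : Type u} [CommRing R] [IsDomain R] [CommRing B]
    (φ : R →+* B) (hφ : φ.Flat) (r : R) (b : B) (hr : r ≠ 0) (h : φ r * b = 0) : b = 0 := by
  algebraize [φ]
  haveI : Module.Flat R B := hφ
  have h1 : r • b = 0 := by
    rw [Algebra.smul_def]; exact h
  rcases smul_eq_zero.mp h1 with h2 | h2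
  · exact absurd h2 hr
  · exact h2

theorem aux (k : Type u) [Field k]
    (X Y : Scheme.{u}) (f : X ⟶ Y) (g : Y ⟶ Spec (CommRingCat.of (Polynomial k)))
    [QuasiCompact f] (hker : f.ker = ⊥) [Flat (f ≫ g)] : Flat g := by
  refine HasRingHomProperty.of_iSup_eq_top (P := @Flat) (fun V : Y.affineOpens => V)
    (iSup_affineOpens_eq_top Y) fun V => ?_
  -- reduce to a map out of `k[t]`
  let e := (Scheme.ΓSpecIso (CommRingCat.of (Polynomial k))).inv
  rw [← RingHom.Flat.respectsIso.cancel_left_isIso e, ← CommRingCat.hom_comp]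
  refine flat_of_torsionFree _ fun r b hr hrb => ?_
  -- injectivity of `f.app V`
  have hinj : Function.Injective (f.app V.1).hom := by
    rw [RingHom.injective_iff_ker_eq_bot, ← Scheme.Hom.ker_apply f V, hker]
    rfl
  apply hinj
  rw [map_zero]
  -- check on affine opens of the preimage
  let ι := {W : X.affineOpens // W.1 ≤ f ⁻¹ᵁ V.1}
  refine TopCat.Sheaf.eq_of_locally_eq' X.sheaf (fun W : ι => W.1.1) (f ⁻¹ᵁ V.1)
    (fun W => homOfLE W.2) ?_ _ _ fun W => ?_
  · intro x hx
    obtain ⟨W, hW, hxW, hWsub⟩ := exists_isAffineOpen_mem_and_subset (x := x) (U := f ⁻¹ᵁ V.1) hx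
    exact TopologicalSpace.Opens.mem_iSup.mpr ⟨⟨⟨W, hW⟩, hWsub⟩, hxW⟩
  · refine Eq.trans (b := (0 : Γ(X, W.1.1))) ?_ (map_zero _).symm
    have hflat : ((f ≫ g).appLE ⊤ W.1.1 le_top).hom.Flat :=
      HasRingHomProperty.appLE (P := @Flat) _ inferInstance ⟨⊤, isAffineOpen_top _⟩ W.1 le_top
    rw [← RingHom.Flat.respectsIso.cancel_left_isIso e, ← CommRingCat.hom_comp] at hflat
    have hcomp : (f ≫ g).appLE ⊤ W.1.1 le_top = g.appLE ⊤ V.1 le_top ≫ f.appLE V.1 W.1.1 W.2 :=
      (Scheme.Hom.appLE_comp_appLE f g ⊤ V.1 W.1.1 le_top W.2).symm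
    have h1 : (e ≫ (f ≫ g).appLE ⊤ W.1.1 le_top).hom r =
        (f.appLE V.1 W.1.1 W.2).hom ((e ≫ g.appLE ⊤ V.1 le_top).hom r) := by
      rw [hcomp]; rfl
    change (f.appLE V.1 W.1.1 W.2).hom b = 0
    refine torsionFree_of_flat _ hflat r _ hr ?_
    rw [h1, ← map_mul, hrb, map_zero]

/-- Let k be a field, and let f : X → Y and g : Y → Spec k[t] be morphisms of schemes with f
quasi-compact and with zero kernel ideal sheaf (Y is the scheme-theoretic image of f), such that the
composite X → Spec k[t] is flat. Then g is flat; in particular a k[t]-subalgebra of a flat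
k[t]-algebra is flat. (The published statement has no quasi-compactness hypothesis on f and is over
an algebraically closed field; this row assumes f quasi-compact and allows any field.) -/
theorem result (k : Type u) [Field k]
    (X Y : Scheme.{u}) (f : X ⟶ Y) (g : Y ⟶ Spec (CommRingCat.of (Polynomial k)))
    [QuasiCompact f] (hker : f.ker = ⊥) [Flat (f ≫ g)] : Flat g := by
  exact aux k X Y f g hker

end Groth.Agent.S15151
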