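import Groth.Statements.S15164
import Mathlib

set_option autoImplicit false
universe u v
open BddFin

namespace Groth.Agent.S15164

/-- Let K be a field of characteristic p > 2, V a finite-dimensional K-vector space and q a quadratic
form on V that does not represent zero (q x = 0 only for x = 0). Then the group of K-linear
automorphisms of V preserving q has no element of order p: if g preserves q and g ^ p = 1 then g =
1. (Non-degeneracy of q, also assumed in the published statement, follows from anisotropy since 2 is
invertible, so it is not repeated here.) -/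
theorem result
    (K : Type u) [Field K] (p : ℕ) [Fact p.Prime] [CharP K p] (hp : p ≠ 2)
    (V : Type v) [AddCommGroup V] [Module K V] [FiniteDimensional K V]
    (q : QuadraticForm K V) (hq : q.Anisotropic)
    (g : V ≃ₗ[K] V) (hg : ∀ x : V, q (g x) = q x) (hgp : g ^ p = 1) : g = 1 := by
  classical
  -- polar form is preserved
  have hB : ∀ x y : V, QuadraticMap.polar q (g x) (g y) = QuadraticMap.polar q x y := by
    intro x y
    unfold QuadraticMap.polar
    rw [← map_add, hg, hg, hg]
  -- N = g - 1 as an endomorphism
  set N : Module.End K V := g.toLinearMap - 1 with hN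
  have hNp : N ^ p = 0 := by
    have h1 : (Polynomial.aeval (g.toLinearMap : Module.End K V)) ((Polynomial.X - 1 : Polynomial K) ^ p) = N ^ p := by
      simp [hN]
    have h2 : ((Polynomial.X - 1 : Polynomial K) ^ p) = Polynomial.X ^ p - 1 := by
      rw [sub_pow_char_of_commute p (Commute.one_right _), one_pow]
    rw [h2] at h1
    rw [← h1]
    simp only [map_sub, map_pow, Polynomial.aeval_X, map_one]
    have : (g.toLinearMap : Module.End K V) ^ p = 1 := by
      have := congrArg (LinearEquiv.automorphismGroup.toLinearMapMonoidHom (R := K) (M := V)) hgp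
      rw [map_pow, map_one] at this
      exact this
    rw [this, sub_self]
  by_contra hne
  have hN0 : N ≠ 0 := by
    intro h0
    apply hne
    ext x
    have : N x = 0 := by rw [h0]; rfl
    simp only [hN, LinearMap.sub_apply, LinearEquiv.coe_coe, Module.End.one_apply, sub_eq_zero] at this
    simpa using this
  -- minimal k with N^k = 0
  have hex : ∃ k, N ^ k = 0 := ⟨p, hNp⟩
  set k := Nat.find hex with hk
  have hkz : N ^ k = 0 := Nat.find_spec hex
  have hk2 : 2 ≤ k := by
    by_contra hlt
    push Not at hlt
    interval_cases k
    · have := hkz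
      rw [pow_zero] at this
      apply hN0
      rw [← mul_one N, this, mul_zero]
    · rw [pow_one] at hkz; exact hN0 hkz
  have hkm : N ^ (k - 1) ≠ 0 := Nat.find_min hex (by omega)
  obtain ⟨v, hv⟩ : ∃ v, (N ^ (k - 1)) v ≠ 0 := by
    by_contra hall
    push Not at hall
    apply hkm
    ext x
    simpa using hall x
  set u := (N ^ (k - 2)) v with hu
  set w := (N ^ (k - 1)) v with hw
  have hNu : N u = w := by
    rw [hu, hw, ← Module.End.mul_apply, ← pow_succ']
    congr 2
    omega
  have hNw : N w = 0 := by
    rw [hw, ← Module.End.mul_apply, ← pow_succ']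
    have : k - 1 + 1 = k := by omega
    rw [this, hkz]; rfl
  have hgu : g u = u + w := by
    have : N u = g u - u := by simp [hN]
    rw [← hNu, this]; abel
  have hgw : g w = w := by
    have : N w = g w - w := by simp [hN]
    rw [this, sub_eq_zero] at hNw
    exact hNw
  have h1 := hB u w
  rw [hgu, hgw, QuadraticMap.polar_add_left] at h1
  have h2 : QuadraticMap.polar q w w = 0 := by linear_combination h1
  rw [QuadraticMap.polar_self, nsmul_eq_mul] at h2
  push_cast at h2
  have h2K : (2 : K) ≠ 0 := by
    intro h
    have h' : ((2 : ℕ) : K) = 0 := by exact_mod_cast h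
    rw [CharP.cast_eq_zero_iff K p] at h'
    have := (Nat.prime_dvd_prime_iff_eq (Fact.out : p.Prime) Nat.prime_two).mp h'
    exact hp this
  have h3 : q w = 0 := by
    rcases mul_eq_zero.mp h2 with h | h
    · exact absurd h h2K
    · exact h
  exact hv (hq w h3)

end Groth.Agent.S15164
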