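import Groth.Statements.S15165
import Mathlib

set_option autoImplicit false
universe u v
open Polynomial
open BddFin

namespace Groth.Agent.S15165

/-- Let K be a field of characteristic different from 2 such that K contains all roots of unity (for
every n ≥ 1 the polynomial X^n − 1 splits into linear factors over K), V a finite-dimensional
K-vector space and q a quadratic form on V that does not represent zero. If a K-linear automorphism
g of V preserves q and has finite order (g ^ d = 1 for some d ≥ 1), then g ^ 2 = 1. (The published
statement also covers perfect fields of characteristic 2; this row is the case of characteristic ≠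
2.) -/
theorem result
    (K : Type u) [Field K] (hK : ∀ n : ℕ, 0 < n → (X ^ n - 1 : K[X]).Splits) (h2 : (2 : K) ≠ 0)
    (V : Type v) [AddCommGroup V] [Module K V] [FiniteDimensional K V]
    (q : QuadraticForm K V) (hq : q.Anisotropic)
    (g : V ≃ₗ[K] V) (hg : ∀ x : V, q (g x) = q x) (d : ℕ) (hd : 0 < d) (hgd : g ^ d = 1) :
    g ^ 2 = 1 := by
  classical
  have hB : ∀ x y : V, QuadraticMap.polar q (g x) (g y) = QuadraticMap.polar q x y := by
    intro x y
    unfold QuadraticMap.polar
    rw [← map_add, hg, hg, hg]
  set G : Module.End K V := g.toLinearMap with hGdef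
  have hGd : G ^ d = 1 := by
    have := congrArg (LinearEquiv.automorphismGroup.toLinearMapMonoidHom (R := K) (M := V)) hgd
    rw [map_pow, map_one] at this
    exact this
  have hGapp : ∀ x, G x = g x := fun x => rfl
  -- G*G preserves q and polar
  have hBB : ∀ x y : V, QuadraticMap.polar q ((G * G) x) ((G * G) y) = QuadraticMap.polar q x y := by
    intro x y
    rw [Module.End.mul_apply, Module.End.mul_apply, hGapp, hGapp, hGapp, hGapp, hB, hB]
  -- Lemma A for h = G*G
  have hA : ∀ v : V, (G * G - 1) ((G * G - 1) v) = 0 → (G * G - 1) v = 0 := by
    intro v hv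
    set z := (G * G - 1) v with hz
    have h1 : (G * G) v = v + z := by
      rw [hz]; simp
    have h2' : (G * G) z = z := by
      have : (G * G - 1) z = (G * G) z - z := by simp
      rw [this, sub_eq_zero] at hv
      exact hv
    have h3 := hBB v z
    rw [h1, h2', QuadraticMap.polar_add_left] at h3
    have h4 : QuadraticMap.polar q z z = 0 := by linear_combination h3
    rw [QuadraticMap.polar_self, nsmul_eq_mul] at h4
    push_cast at h4
    rcases mul_eq_zero.mp h4 with h | h
    · exact absurd h h2
    · exact hq z h
  -- Lemma B: eigenvalues square to one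
  have hBl : ∀ (lam : K) (z : V), G z = lam • z → z ≠ 0 → lam * lam = 1 := by
    intro lam z hz hz0
    have h1 : q (G z) = q z := by rw [hGapp]; exact hg z
    rw [hz, QuadraticMap.map_smul] at h1
    have hqz : q z ≠ 0 := fun h => hz0 (hq z h)
    have : (lam * lam - 1) * q z = 0 := by
      rw [sub_mul, one_mul, sub_eq_zero]
      simpa [smul_eq_mul] using h1
    rcases mul_eq_zero.mp this with h | h
    · exact sub_eq_zero.mp h
    · exact absurd h hqz
  -- induction over multisets
  have key : ∀ S : Multiset K, ∀ v : V,
      (Polynomial.aeval G (S.map (fun a => (X : K[X]) - C a)).prod) v = 0 → (G * G - 1) v = 0 := by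
    intro S
    induction S using Multiset.induction_on with
    | empty =>
      intro v hv
      simp only [Multiset.map_zero, Multiset.prod_zero, map_one, Module.End.one_apply] at hv
      rw [hv, map_zero]
    | cons lam S ih =>
      intro v hv
      rw [Multiset.map_cons, Multiset.prod_cons, mul_comm, map_mul, Module.End.mul_apply] at hv
      have h1 := ih _ hv
      have e1 : (Polynomial.aeval G (X - C lam : K[X])) v = G v - lam • v := by
        simp only [map_sub, Polynomial.aeval_X, Polynomial.aeval_C, LinearMap.sub_apply,
          Module.algebraMap_end_apply]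
      rw [e1] at h1
      -- (G*G-1)(G v - lam • v) = 0
      set z := (G * G - 1) v with hz
      have h2' : G z = lam • z := by
        have : (G * G - 1) (G v) = G ((G * G - 1) v) := by
          simp only [LinearMap.sub_apply, Module.End.mul_apply, Module.End.one_apply, map_sub]
        rw [map_sub, this, map_smul, sub_eq_zero] at h1
        exact h1
      by_cases hz0 : z = 0
      · exact hz0
      · have hl := hBl lam z h2' hz0
        apply hA
        show (G * G - 1) z = 0
        simp only [LinearMap.sub_apply, Module.End.mul_apply, Module.End.one_apply]
        rw [h2', map_smul, h2', smul_smul, hl, one_smul, sub_self]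
  have hsplit := hK d hd
  have hmonic : (X ^ d - 1 : K[X]).Monic := Polynomial.monic_X_pow_sub_C (1 : K) (Nat.pos_iff_ne_zero.mp hd)
  have hprod := hsplit.eq_prod_roots_of_monic hmonic
  have hzero : Polynomial.aeval G (X ^ d - 1 : K[X]) = 0 := by
    simp only [map_sub, map_pow, Polynomial.aeval_X, map_one]
    rw [hGd, sub_self]
  rw [hprod] at hzero
  have hfin : ∀ v : V, (G * G - 1) v = 0 := by
    intro v
    apply key _ v
    rw [hzero]; rfl
  ext v
  have := hfin v
  simp only [LinearMap.sub_apply, Module.End.mul_apply, Module.End.one_apply, sub_eq_zero] at this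
  rw [pow_two]
  exact this

end Groth.Agent.S15165
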