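import Groth.Statements.S1517
import Mathlib

set_option autoImplicit false
universe u
open Brauer

namespace Groth.Agent.S1517

open MulOpposite Pointwise

/-- Let A be a ring with no nontrivial two-sided ideals and M a nonzero right ideal, viewed as a right
A-module with endomorphism ring A'. Then every A'-linear endomorphism of M is right multiplication
by exactly one element of A; that is, the natural map from A to the bicommutant of M is a bijection. -/
theorem result (A : Type u) [Ring A] [IsSimpleRing A]
    (M : Submodule Aᵐᵒᵖ A) (hM : M ≠ ⊥)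
    (g : Module.End (Module.End Aᵐᵒᵖ M) M) :
    ∃! a : A, ∀ m : M, (g m : A) = (m : A) * a := by
  classical
  -- M is a right ideal
  have hright : ∀ x ∈ M, ∀ a : A, x * a ∈ M := by
    intro x hx a
    have := M.smul_mem (op a) hx
    simpa using this
  -- left multiplication by x ∈ M
  let L : M → Module.End Aᵐᵒᵖ M := fun x =>
    { toFun := fun m => ⟨(x : A) * (m : A), hright x x.2 m⟩
      map_add' := fun m m' => by
        apply Subtype.ext
        simp [mul_add]
      map_smul' := fun a m => by
        apply Subtype.ext
        simp [mul_assoc] }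
  have hg : ∀ x l : M, ∀ h : (x : A) * (l : A) ∈ M,
      (g ⟨(x : A) * (l : A), h⟩ : A) = (x : A) * (g l : A) := by
    intro x l h
    have h1 : (⟨(x : A) * (l : A), h⟩ : M) = L x • l := rfl
    rw [h1, map_smul]
    rfl
  -- the two-sided ideal generated by M is everything
  have hspan : TwoSidedIdeal.span (M : Set A) = ⊤ := by
    rcases eq_bot_or_eq_top (TwoSidedIdeal.span (M : Set A)) with h | h
    · exfalso
      apply hM
      rw [eq_bot_iff]
      intro x hx
      have : x ∈ TwoSidedIdeal.span (M : Set A) := TwoSidedIdeal.subset_span hx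
      rw [h] at this
      exact this
    · exact h
  have h1mem : (1 : A) ∈ TwoSidedIdeal.span (M : Set A) := by rw [hspan]; trivial
  rw [TwoSidedIdeal.mem_span_iff_mem_addSubgroup_closure] at h1mem
  have hgen : ∀ z ∈ ((Set.univ : Set A) * (M : Set A) * (Set.univ : Set A)), ∃ a b : A, ∃ m ∈ M, z = a * m * b := by
    rintro z ⟨y, ⟨a, -, m, hm, rfl⟩, b, -, rfl⟩
    exact ⟨a, b, m, hm, rfl⟩
  let mulR : M → A → M := fun x z => ⟨(x : A) * z, hright x x.2 z⟩
  -- the property
  have hP : ∀ z ∈ AddSubgroup.closure ((Set.univ : Set A) * (M : Set A) * (Set.univ : Set A)),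
      ∃ c : A, ∀ x : M, (g (mulR x z) : A) = (x : A) * c := by
    intro z hz
    induction hz using AddSubgroup.closure_induction with
    | mem z hz =>
      obtain ⟨a, b, m, hm, rfl⟩ := hgen z hz
      refine ⟨a * (g ⟨m * b, hright m hm b⟩ : A), fun x => ?_⟩
      have hxa : (x : A) * a ∈ M := hright x x.2 a
      have hmem : ((⟨(x : A) * a, hxa⟩ : M) : A) * ((⟨m * b, hright m hm b⟩ : M) : A) ∈ M := by
        change (x : A) * a * (m * b) ∈ M
        exact hright _ hxa _
      have h2 := hg ⟨(x : A) * a, hxa⟩ ⟨m * b, hright m hm b⟩ hmem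
      have heq : mulR x (a * m * b) =
          ⟨((⟨(x : A) * a, hxa⟩ : M) : A) * ((⟨m * b, hright m hm b⟩ : M) : A), hmem⟩ := by
        apply Subtype.ext
        change (x : A) * (a * m * b) = (x : A) * a * (m * b)
        noncomm_ring
      rw [heq, h2, mul_assoc]
    | zero =>
      refine ⟨0, fun x => ?_⟩
      have : mulR x 0 = 0 := by
        apply Subtype.ext
        change (x : A) * 0 = 0
        simp
      rw [this, map_zero]; simp
    | add z w _ _ hz hw =>
      obtain ⟨c, hc⟩ := hz
      obtain ⟨d, hd⟩ := hw
      refine ⟨c + d, fun x => ?_⟩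
      have : mulR x (z + w) = mulR x z + mulR x w := by
        apply Subtype.ext
        change (x : A) * (z + w) = (x : A) * z + (x : A) * w
        rw [mul_add]
      rw [this, map_add, Submodule.coe_add, hc, hd, mul_add]
    | neg z _ hz =>
      obtain ⟨c, hc⟩ := hz
      refine ⟨-c, fun x => ?_⟩
      have : mulR x (-z) = - mulR x z := by
        apply Subtype.ext
        change (x : A) * (-z) = -((x : A) * z)
        rw [mul_neg]
      rw [this, map_neg, Submodule.coe_neg, hc, mul_neg]
  obtain ⟨c, hc⟩ := hP 1 h1mem
  refine ⟨c, fun m => ?_, fun c' hc' => ?_⟩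
  · have h1 := hc m
    have : mulR m 1 = m := by
      apply Subtype.ext
      change (m : A) * 1 = m
      rw [mul_one]
    rw [this] at h1
    exact h1
  · have hδ : ∀ m : M, (m : A) * (c' - c) = 0 := by
      intro m
      have h1 := hc m
      have : mulR m 1 = m := by
        apply Subtype.ext
        change (m : A) * 1 = m
        rw [mul_one]
      rw [this] at h1
      rw [mul_sub, ← hc' m, ← h1, sub_self]
    have hQ : ∀ z ∈ AddSubgroup.closure ((Set.univ : Set A) * (M : Set A) * (Set.univ : Set A)),
        z * (c' - c) = 0 := by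
      intro z hz
      induction hz using AddSubgroup.closure_induction with
      | mem z hz =>
        obtain ⟨a, b, m, hm, rfl⟩ := hgen z hz
        have := hδ ⟨m * b, hright m hm b⟩
        change m * b * (c' - c) = 0 at this
        rw [mul_assoc, mul_assoc, ← mul_assoc m, this, mul_zero]
      | zero => rw [zero_mul]
      | add z w _ _ hz hw => rw [add_mul, hz, hw, add_zero]
      | neg z _ hz => rw [neg_mul, hz, neg_zero]
    have := hQ 1 h1mem
    rw [one_mul] at this
    exact sub_eq_zero.1 this

end Groth.Agent.S1517
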