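import Groth.Statements.S15171
import Mathlib
import Groth.Agent.Helper7.DivAlgP

set_option autoImplicit false
universe u v w
open BddFin

namespace Groth.Agent.S15171

/-- (3) ⇒ (1): let K be a field with char K = p > 0 and A a central division K-algebra with dim_K A = p
^ 2. If some Galois extension L of K with [L : K] = p admits a K-algebra embedding into A, then some
element of A is not separable over K. -/
theorem result
    (K : Type u) [Field K] (p : ℕ) [Fact p.Prime] [CharP K p]
    (A : Type v) [DivisionRing A] [Algebra K A] [Algebra.IsCentral K A] [FiniteDimensional K A]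
    (hA : Module.finrank K A = p ^ 2) (L : Type w) [Field L] [Algebra K L] [IsGalois K L]
    (hL : Module.finrank K L = p) (ι : L →ₐ[K] A) :
    ∃ v : A, ¬ IsSeparable K v := by
    obtain ⟨θ, σ, hσθ, a₀, ha₀⟩ := Groth.Agent.Helper7.ArtinSchreier.exists_artinSchreier K p L hL
    have hinj : Function.Injective ι := ι.toRingHom.injective
    have hθ : θ ∉ Set.range (algebraMap K L) := by
      rintro ⟨k, hk⟩
      rw [← hk, AlgEquiv.commutes] at hσθ
      have : (0 : L) = 1 := by
        have h := hσθ
        rw [left_eq_add] at h
        exact h.symm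
      exact zero_ne_one this
    have ht : (ι θ) ^ p - ι θ = algebraMap K A a₀ := by
      rw [← map_pow, ← map_sub, ← ha₀, AlgHom.commutes]
    have hnc : ∃ w : A, ι θ * w ≠ w * ι θ := by
      by_contra h
      push Not at h
      have hmem : ι θ ∈ Subalgebra.center K A := by
        rw [Subalgebra.mem_center_iff]
        intro b
        exact (h b).symm
      rw [Algebra.IsCentral.center_eq_bot, Algebra.mem_bot] at hmem
      obtain ⟨k, hk⟩ := hmem
      apply hθ
      refine ⟨k, hinj ?_⟩
      rw [AlgHom.commutes, hk]
    obtain ⟨w, hw⟩ := hnc
    exact Groth.Agent.Helper7.DivAlgP.exists_not_isSeparable K p A (ι θ) a₀ ht w hw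

end Groth.Agent.S15171
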