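import Groth.Statements.S15172
import Mathlib

set_option autoImplicit false
universe u v
open Polynomial
open BddFin

namespace Groth.Agent.S15172

/-- Let L be a field of characteristic p > 0 and s a finite subset of L containing 0 and closed under
addition (a finite additive subgroup). Then the polynomial f = ∏_{a ∈ s} (X - a) is additive: f (x +
y) = f x + f y for all x, y in any commutative L-algebra (equivalently, as an identity of
polynomials in two variables). -/
theorem result
    (L : Type u) [Field L] (p : ℕ) [Fact p.Prime] [CharP L p] (s : Finset L) (h0 : (0 : L) ∈ s)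
    (hadd : ∀ a ∈ s, ∀ b ∈ s, a + b ∈ s) (R : Type v) [CommRing R] [Algebra L R] (x y : R) :
    aeval (x + y) (∏ a ∈ s, (X - C a)) = aeval x (∏ a ∈ s, (X - C a)) + aeval y (∏ a ∈ s, (X - C a)) := by
  classical
  set f : L[X] := ∏ a ∈ s, (X - C a) with hf
  have hmonic : f.Monic := monic_prod_of_monic _ _ (fun a _ => monic_X_sub_C a)
  have hdeg : f.natDegree = s.card := by
    rw [hf, natDegree_prod_of_monic _ _ (fun a _ => monic_X_sub_C a)]
    simp
  have hcard : 0 < s.card := Finset.card_pos.2 ⟨0, h0⟩
  -- negation closed
  have hneg : ∀ a ∈ s, -a ∈ s := by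
    intro a ha
    -- (p-1) • a = -a
    have h1 : ∀ n : ℕ, (n : L) * a ∈ s := by
      intro n
      induction n with
      | zero => simpa using h0
      | succ n ih =>
        rw [Nat.cast_succ, add_mul, one_mul]
        exact hadd _ ih _ ha
    have h2 := h1 (p - 1)
    have hp : p.Prime := Fact.out
    have h3 : ((p - 1 : ℕ) : L) = -1 := by
      rw [Nat.cast_sub hp.one_lt.le, CharP.cast_eq_zero, Nat.cast_one, zero_sub]
    rw [h3, neg_one_mul] at h2
    exact h2
  -- translation invariance
  have htrans : ∀ a ∈ s, f.comp (X + C a) = f := by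
    intro a ha
    rw [hf, prod_comp]
    have : ∀ b ∈ s, (X - C b : L[X]).comp (X + C a) = X - C (b - a) := by
      intro b _
      rw [sub_comp, X_comp, C_comp, C_sub]
      ring
    rw [Finset.prod_congr rfl this]
    apply Finset.prod_nbij' (fun b => b - a) (fun b => b + a)
    · intro b hb
      rw [sub_eq_add_neg]
      exact hadd _ hb _ (hneg a ha)
    · intro b hb
      exact hadd _ hb _ ha
    · intro b _
      ring
    · intro b _
      ring
    · intro b _
      rfl
  -- the two-variable polynomial
  let S := L[X]
  set F : S[X] := (f.map (C : L →+* S)).comp (X + C (X : S)) - f.map (C : L →+* S) - C f with hF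
  have hPmonic : (f.map (C : L →+* S)).Monic := hmonic.map _
  have hPdeg : (f.map (C : L →+* S)).natDegree = s.card := by
    rw [natDegree_map_eq_of_injective C_injective, hdeg]
  have hQmonic : ((f.map (C : L →+* S)).comp (X + C (X : S))).Monic := hPmonic.comp_X_add_C _
  have hQdeg : ((f.map (C : L →+* S)).comp (X + C (X : S))).natDegree = s.card := by
    rw [natDegree_comp, natDegree_X_add_C, mul_one, hPdeg]
  have hFdeg : F.natDegree < s.card := by
    have h1 : ((f.map (C : L →+* S)).comp (X + C (X : S)) - f.map (C : L →+* S)).natDegree <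
        s.card := by
      by_cases hz : (f.map (C : L →+* S)).comp (X + C (X : S)) - f.map (C : L →+* S) = 0
      · rw [hz, natDegree_zero]
        exact hcard
      · rw [natDegree_lt_iff_degree_lt hz]
        have h2 := degree_sub_lt_left (p := (f.map (C : L →+* S)).comp (X + C (X : S)))
          (q := f.map (C : L →+* S))
          (by rw [degree_eq_natDegree hQmonic.ne_zero, degree_eq_natDegree hPmonic.ne_zero,
            hQdeg, hPdeg]) hQmonic.ne_zero (by rw [hQmonic.leadingCoeff, hPmonic.leadingCoeff])
        rw [degree_eq_natDegree hQmonic.ne_zero, hQdeg] at h2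
        exact h2
    rw [hF]
    calc _ ≤ max ((f.map (C : L →+* S)).comp (X + C (X : S)) - f.map (C : L →+* S)).natDegree
          (C f : S[X]).natDegree := natDegree_sub_le _ _
      _ < s.card := by
        rw [natDegree_C]
        exact max_lt h1 hcard
  have hFroots : ∀ i ∈ s.image (C : L → S), F.eval i = 0 := by
    intro i hi
    obtain ⟨a, ha, rfl⟩ := Finset.mem_image.1 hi
    have hroot : f.eval a = 0 := by
      rw [hf, eval_prod]
      exact Finset.prod_eq_zero ha (by rw [eval_sub, eval_X, eval_C, sub_self])
    rw [hF, eval_sub, eval_sub, eval_comp, eval_add, eval_X, eval_C, eval_C, eval_map, eval_map]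
    have e1 : eval₂ (C : L →+* S) (C a + X) f = f.comp (X + C a) := by
      rw [add_comm]
      rfl
    have e2 : eval₂ (C : L →+* S) (C a) f = f.comp (C a) := rfl
    rw [e1, e2, htrans a ha, comp_C, hroot, C_0]
    ring
  have hF0 : F = 0 := by
    apply Polynomial.eq_zero_of_natDegree_lt_card_of_eval_eq_zero' F (s.image (C : L → S)) hFroots
    rw [Finset.card_image_of_injective _ C_injective]
    exact hFdeg
  have hev := congrArg (Polynomial.eval₂ ((aeval y : S →ₐ[L] R) : S →+* R) x) hF0
  have hψ : ((aeval y : S →ₐ[L] R) : S →+* R).comp (C : L →+* S) = algebraMap L R := by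
    ext a
    exact aeval_C y a
  rw [hF, eval₂_sub, eval₂_sub, eval₂_comp, eval₂_add, eval₂_X, eval₂_C, eval₂_C, eval₂_map,
    eval₂_map, hψ, eval₂_zero] at hev
  have e3 : ((aeval y : S →ₐ[L] R) : S →+* R) (X : S) = y := aeval_X y
  have e4 : ((aeval y : S →ₐ[L] R) : S →+* R) f = aeval y f := rfl
  rw [e3, e4, ← aeval_def, ← aeval_def] at hev
  rw [sub_sub, sub_eq_zero] at hev
  exact hev

end Groth.Agent.S15172
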