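import Groth.Statements.S15224
import Mathlib

set_option autoImplicit false
open Finset
open W4c2rk2extmaps

namespace Groth.Agent.S15224

/-- In a commutative ℚ-algebra R let y be an element and put c_k = y^k / k! for every k. Then for k ≥ 2,
Σ_{i=1}^{k-1} (-1)^(i-1) c_i c_(k-i) + (-1)^(k-1) c_k = c_k. (The published statement concerns the
Chern classes of a specific vector bundle on a Jacobian, which are of the form c_k = (4θ)^k / k!;
the printed argument establishes the identity for every sequence of this form in a commutative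
ℚ-algebra, which is the form stated here.) -/
theorem result (R : Type*) [CommRing R] [Algebra ℚ R] (y : R)
    (c : ℕ → R) (hc : ∀ k : ℕ, c k = ((Nat.factorial k : ℚ)⁻¹) • y ^ k)
    (k : ℕ) (hk : 2 ≤ k) :
    (∑ i ∈ Finset.Ico 1 k, (-1 : R) ^ (i - 1) * c i * c (k - i)) + (-1 : R) ^ (k - 1) * c k = c k := by
  classical
  have hk1 : 1 ≤ k := by omega
  -- rational identity
  have hQ : (∑ i ∈ Finset.Ico 1 k, (-1 : ℚ) ^ (i - 1) * ((Nat.factorial i : ℚ)⁻¹ * (Nat.factorial (k - i) : ℚ)⁻¹))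
      + (-1 : ℚ) ^ (k - 1) * (Nat.factorial k : ℚ)⁻¹ = (Nat.factorial k : ℚ)⁻¹ := by
    have hkf : (Nat.factorial k : ℚ) ≠ 0 := by exact_mod_cast Nat.factorial_ne_zero k
    have hterm : ∀ i ∈ Finset.Ico 1 k, (-1 : ℚ) ^ (i - 1) * ((Nat.factorial i : ℚ)⁻¹ * (Nat.factorial (k - i) : ℚ)⁻¹)
        = -((-1 : ℚ) ^ i * (k.choose i : ℚ)) * (Nat.factorial k : ℚ)⁻¹ := by
      intro i hi
      rw [Finset.mem_Ico] at hi
      have hik : i ≤ k := by omega
      rw [Nat.cast_choose ℚ hik]
      have hif : (Nat.factorial i : ℚ) ≠ 0 := by exact_mod_cast Nat.factorial_ne_zero i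
      have hkif : (Nat.factorial (k - i) : ℚ) ≠ 0 := by exact_mod_cast Nat.factorial_ne_zero (k - i)
      have hpow : (-1 : ℚ) ^ i = -((-1 : ℚ) ^ (i - 1)) := by
        have : i = (i - 1) + 1 := by omega
        conv_lhs => rw [this, pow_succ]
        ring
      rw [hpow]
      field_simp
    rw [Finset.sum_congr rfl hterm, ← Finset.sum_mul, Finset.sum_neg_distrib]
    have halt := Int.alternating_sum_range_choose_of_ne (n := k) (by omega)
    have halt' : (∑ m ∈ Finset.range (k + 1), ((-1 : ℚ) ^ m * (k.choose m : ℚ))) = 0 := by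
      have := congrArg (fun z : ℤ => (z : ℚ)) halt
      push_cast at this
      exact this
    rw [Finset.range_eq_Ico, Finset.sum_Ico_succ_top (by omega), Finset.sum_eq_sum_Ico_succ_bot (by omega)] at halt'
    simp only [pow_zero, Nat.choose_zero_right, Nat.cast_one, mul_one, Nat.choose_self, zero_add] at halt'
    have hS : (∑ i ∈ Finset.Ico 1 k, ((-1 : ℚ) ^ i * (k.choose i : ℚ))) = -1 - (-1 : ℚ) ^ k := by
      linear_combination halt'
    rw [hS]
    have hpowk : (-1 : ℚ) ^ k = -((-1 : ℚ) ^ (k - 1)) := by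
      have : k = (k - 1) + 1 := by omega
      conv_lhs => rw [this, pow_succ]
      ring
    rw [hpowk]
    ring
  -- transport to R
  have hR : ∀ i, i ≤ k → (-1 : R) ^ (i - 1) * c i * c (k - i) =
      algebraMap ℚ R ((-1 : ℚ) ^ (i - 1) * ((Nat.factorial i : ℚ)⁻¹ * (Nat.factorial (k - i) : ℚ)⁻¹)) * y ^ k := by
    intro i hi
    rw [hc i, hc (k - i), Algebra.smul_def, Algebra.smul_def, map_mul, map_mul, map_pow, map_neg, map_one]
    have : y ^ k = y ^ i * y ^ (k - i) := by rw [← pow_add]; congr 1; omega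
    rw [this]; ring
  have hsum : (∑ i ∈ Finset.Ico 1 k, (-1 : R) ^ (i - 1) * c i * c (k - i)) =
      algebraMap ℚ R (∑ i ∈ Finset.Ico 1 k, (-1 : ℚ) ^ (i - 1) * ((Nat.factorial i : ℚ)⁻¹ * (Nat.factorial (k - i) : ℚ)⁻¹)) * y ^ k := by
    rw [map_sum, Finset.sum_mul]
    apply Finset.sum_congr rfl
    intro i hi
    rw [Finset.mem_Ico] at hi
    exact hR i (by omega)
  have hlast : (-1 : R) ^ (k - 1) * c k = algebraMap ℚ R ((-1 : ℚ) ^ (k - 1) * (Nat.factorial k : ℚ)⁻¹) * y ^ k := by
    rw [hc k, Algebra.smul_def, map_mul, map_pow, map_neg, map_one]; ring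
  rw [hsum, hlast, ← add_mul, ← map_add, hQ, hc k, Algebra.smul_def]

end Groth.Agent.S15224
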