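import Groth.Statements.S15229
import Mathlib
import Groth.Agent.S15224

set_option autoImplicit false
open Finset
open W4c2rk2extmaps

namespace Groth.Agent.S15229

/-- In a commutative ℚ-algebra R let θ, η be elements and g a natural number, and put c_k = (4θ)^k / k!.
Suppose θ^(g+1) = 0 and that η satisfies the relation η^(g+1) = Σ_{i=1}^{g+1} (-1)^(i-1) c_i
η^(g+1-i). Then η^(g+k) θ^(g-k) = c_k η^g θ^(g-k) for every 1 ≤ k ≤ g. (The published statement
concerns the first Chern class η of the tautological line bundle on a projective bundle P(U) over a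
g-dimensional Jacobian, with c_k the Chern classes of U, which are (4θ)^k / k!; there θ^(g+1)
vanishes for dimension reasons and the displayed relation is the projective-bundle relation, and the
printed argument derives the identity from exactly these three inputs, which is the form stated
here.) -/
theorem result (R : Type*) [CommRing R] [Algebra ℚ R]
    (θ η : R) (g : ℕ) (c : ℕ → R) (hc : ∀ k : ℕ, c k = ((Nat.factorial k : ℚ)⁻¹) • ((4 : R) * θ) ^ k)
    (hθ : θ ^ (g + 1) = 0)
    (hrel : η ^ (g + 1) = ∑ i ∈ Finset.Ico 1 (g + 2), (-1 : R) ^ (i - 1) * c i * η ^ (g + 1 - i))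
    (k : ℕ) (hk1 : 1 ≤ k) (hkg : k ≤ g) :
    η ^ (g + k) * θ ^ (g - k) = c k * η ^ g * θ ^ (g - k) := by
  classical
  -- c i = a i * θ^i
  set a : ℕ → R := fun i => algebraMap ℚ R ((Nat.factorial i : ℚ)⁻¹) * (4 : R) ^ i with ha
  have hca : ∀ i, c i = a i * θ ^ i := by
    intro i
    rw [hc i, Algebra.smul_def, mul_pow, ha]; ring
  have hθbig : ∀ m, g + 1 ≤ m → θ ^ m = 0 := by
    intro m hm
    have : m = (g + 1) + (m - (g + 1)) := by omega
    rw [this, pow_add, hθ, zero_mul]
  have main : ∀ k, 1 ≤ k → k ≤ g → η ^ (g + k) * θ ^ (g - k) = c k * η ^ g * θ ^ (g - k) := by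
    intro k
    induction k using Nat.strong_induction_on with
    | _ k ih =>
      intro hk1 hkg
      have h1 : η ^ (g + k) * θ ^ (g - k) =
          ∑ i ∈ Finset.Ico 1 (g + 2), (-1 : R) ^ (i - 1) * c i * η ^ (g + k - i) * θ ^ (g - k) := by
        have : η ^ (g + k) = η ^ (k - 1) * η ^ (g + 1) := by
          rw [← pow_add]; congr 1; omega
        rw [this, hrel, Finset.mul_sum, Finset.sum_mul]
        apply Finset.sum_congr rfl
        intro i hi
        rw [Finset.mem_Ico] at hi
        have : η ^ (g + k - i) = η ^ (k - 1) * η ^ (g + 1 - i) := by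
          rw [← pow_add]; congr 1; omega
        rw [this]; ring
      rw [h1, ← Finset.sum_Ico_consecutive _ (show 1 ≤ k + 1 by omega) (show k + 1 ≤ g + 2 by omega)]
      have hzero : ∑ i ∈ Finset.Ico (k + 1) (g + 2), (-1 : R) ^ (i - 1) * c i * η ^ (g + k - i) * θ ^ (g - k) = 0 := by
        apply Finset.sum_eq_zero
        intro i hi
        rw [Finset.mem_Ico] at hi
        have : c i * θ ^ (g - k) = 0 := by
          rw [hca i, mul_assoc, ← pow_add, hθbig _ (by omega), mul_zero]
        calc (-1 : R) ^ (i - 1) * c i * η ^ (g + k - i) * θ ^ (g - k)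
            = (-1 : R) ^ (i - 1) * η ^ (g + k - i) * (c i * θ ^ (g - k)) := by ring
          _ = 0 := by rw [this, mul_zero]
      rw [hzero, add_zero, Finset.sum_Ico_succ_top hk1]
      have hterm : ∀ i ∈ Finset.Ico 1 k, (-1 : R) ^ (i - 1) * c i * η ^ (g + k - i) * θ ^ (g - k) =
          ((-1 : R) ^ (i - 1) * c i * c (k - i)) * (η ^ g * θ ^ (g - k)) := by
        intro i hi
        rw [Finset.mem_Ico] at hi
        have hih := ih (k - i) (by omega) (by omega) (by omega)
        have e1 : g + k - i = g + (k - i) := by omega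
        have e2 : θ ^ i * θ ^ (g - k) = θ ^ (g - (k - i)) := by rw [← pow_add]; congr 1; omega
        calc (-1 : R) ^ (i - 1) * c i * η ^ (g + k - i) * θ ^ (g - k)
            = (-1 : R) ^ (i - 1) * a i * (η ^ (g + (k - i)) * (θ ^ i * θ ^ (g - k))) := by
              rw [hca i, e1]; ring
          _ = (-1 : R) ^ (i - 1) * a i * (c (k - i) * η ^ g * θ ^ (g - (k - i))) := by rw [e2, hih]
          _ = (-1 : R) ^ (i - 1) * a i * (c (k - i) * η ^ g * (θ ^ i * θ ^ (g - k))) := by rw [e2]
          _ = ((-1 : R) ^ (i - 1) * c i * c (k - i)) * (η ^ g * θ ^ (g - k)) := by rw [hca i]; ring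
      rw [Finset.sum_congr rfl hterm, ← Finset.sum_mul]
      have hkk : g + k - k = g := by omega
      rw [hkk]
      by_cases hk2 : 2 ≤ k
      · have hS := Groth.Agent.S15224.result R ((4 : R) * θ) c hc k hk2
        calc (∑ i ∈ Finset.Ico 1 k, (-1 : R) ^ (i - 1) * c i * c (k - i)) * (η ^ g * θ ^ (g - k)) +
              (-1 : R) ^ (k - 1) * c k * η ^ g * θ ^ (g - k)
            = ((∑ i ∈ Finset.Ico 1 k, (-1 : R) ^ (i - 1) * c i * c (k - i)) + (-1 : R) ^ (k - 1) * c k) *
                (η ^ g * θ ^ (g - k)) := by ring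
          _ = c k * η ^ g * θ ^ (g - k) := by rw [hS]; ring
      · have hk : k = 1 := by omega
        subst hk
        simp
  exact main k hk1 hkg

end Groth.Agent.S15229
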