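import Groth.Statements.S15231
import Groth.Agent.Helper6.LTenModCompute
import Groth.Agent.Helper6.KProjRes
import Groth.Agent.Helper6.LBCFibre
import Groth.Agent.Helper6.FinLenTor

set_option autoImplicit false
universe u
open CategoryTheory CategoryTheory.Limits
attribute [local instance] HasDerivedCategory.standard
open DRing

namespace Groth.Agent.S15231

/-- Let R be a Noetherian local commutative ring with residue field κ, let P be any object of D(R) and
a, b integers. Suppose that H^i(P ⊗^L_R κ) = 0 for every i outside [a, b] (over the field κ this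
says exactly that P ⊗^L_R κ has tor amplitude in [a, b] as an object of D(κ)). Then for every
R-module N of finite length, H^i(P ⊗^L_R N) = 0 for every i outside [a, b]. The derived base change
to κ and the derived tensor products with R-modules are the total left derived functors on D(R),
assumed to exist for every R-module (as they do). -/
theorem result (R : Type u) [CommRing R] [IsNoetherianRing R]
    [IsLocalRing R] [DRing.HasLBaseChange (IsLocalRing.residue R)] [∀ M : ModuleCat.{u} R, DRing.HasLTensor R M]
    (P : Dual.D R) (a b : ℤ)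
    (h : ∀ i : ℤ, (i < a ∨ b < i) →
      Subsingleton (Dual.HD (IsLocalRing.ResidueField R) ((DRing.LBaseChange (IsLocalRing.residue R)).obj P) i))
    (N : Type u) [AddCommGroup N] [Module R N] (hN : IsFiniteLength R N) (i : ℤ) (hi : i < a ∨ b < i) :
    Subsingleton (Dual.HD R ((DRing.LTensor R (ModuleCat.of R N)).obj P) i) := by
  obtain ⟨Pc, f, hP1, -, pP, hf, -⟩ :=
    Groth.Agent.Helper6.KProjRes.exists_resolution (DerivedCategory.Q.objPreimage P)
  haveI := hP1
  haveI : IsIso (DerivedCategory.Q.map f) :=
    (DerivedCategory.isIso_Q_map_iff_quasiIso (ModuleCat.{u} R) _).mpr hf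
  let e : DRing.toD Pc ≅ P :=
    asIso (DerivedCategory.Q.map f) ≪≫ DerivedCategory.Q.objObjPreimageIso P
  rw [Groth.Agent.Helper6.LTenModCompute.subsingleton_HD_iff (ModuleCat.of R N) Pc e i]
  have hfib : ((Groth.Agent.Helper3.DRingLib.bcCx R (IsLocalRing.ResidueField R)).obj Pc).ExactAt i := by
    have h1 := h i hi
    have h2 : IsZero ((DerivedCategory.homologyFunctor
        (ModuleCat.{u} (IsLocalRing.ResidueField R)) i).obj
        ((DRing.LBaseChange (IsLocalRing.residue R)).obj P)) :=
      ModuleCat.isZero_of_subsingleton _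
    apply Groth.Agent.Helper3.DRingLib.exactAt_of_isZero
    refine h2.of_iso ((DerivedCategory.homologyFunctor _ i).mapIso ?_)
    exact (Groth.Agent.Helper6.LBCCompute.lbcIso (IsLocalRing.residue R) Pc).symm ≪≫
      (DRing.LBaseChange (IsLocalRing.residue R)).mapIso e
  have hex := Groth.Agent.Helper6.LBCFibre.exact_lTensor_of_exactAt_bcCx
    (IsLocalRing.ResidueField R) Pc (i - 1) i (i + 1) (by omega) rfl hfib
  rw [Groth.Agent.Helper3.DRingLib.exactAt_iff_forall _ (i - 1) i (i + 1) (by omega) rfl]
  intro z hz
  haveI : Module.Flat R (Pc.X (i + 1)) := by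
    have := pP (i + 1)
    infer_instance
  have hd : (Pc.d i (i + 1)).hom ∘ₗ (Pc.d (i - 1) i).hom = 0 := by
    have := Pc.d_comp_d (i - 1) i (i + 1)
    exact congrArg ModuleCat.Hom.hom this
  exact Groth.Agent.Helper6.FinLenTor.exact_rTensor_of_isFiniteLength
    (d₁ := (Pc.d (i - 1) i).hom) (d₂ := (Pc.d i (i + 1)).hom) hd hex N hN z hz

end Groth.Agent.S15231
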