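import Groth.Statements.S15233
import Mathlib

set_option autoImplicit false
universe u
open scoped TensorProduct
open CategoryTheory CategoryTheory.Limits Opposite
open CohSite

namespace Groth.Agent.S15233

/-- Let C be a small category with a Grothendieck topology J, and let B be a class of objects forming a
prebasis: for every object V and every covering sieve S of V, the arrows of S whose domain lies in B
generate a covering sieve of V. If F is a presheaf of abelian groups on C such that F(U) = 0 for
every object U in B, then the sheafification of F is zero. -/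
theorem result {C : Type u} [SmallCategory C] (J : GrothendieckTopology C)
    (B : ObjectProperty C)
    (hB : ∀ (V : C) (S : Sieve V), S ∈ J V →
      Sieve.generate (fun (U : C) => {g : U ⟶ V | S.arrows g ∧ B U}) ∈ J V)
    (F : Cᵒᵖ ⥤ AddCommGrpCat.{u}) (hF : ∀ U : C, B U → IsZero (F.obj (op U))) :
    IsZero ((presheafToSheaf J AddCommGrpCat.{u}).obj F) := by
  let adj := sheafificationAdjunction J AddCommGrpCat.{u}
  rw [IsZero.iff_id_eq_zero]
  apply (adj.homEquiv F _).injective
  -- the sheaf
  let G := (presheafToSheaf J AddCommGrpCat.{u}).obj F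
  have hG : Presieve.IsSheaf J (G.obj ⋙ forget AddCommGrpCat) := by
    rw [← isSheaf_iff_isSheaf_of_type, ← Presheaf.isSheaf_iff_isSheaf_forget]
    exact G.property
  let η : F ⟶ G.obj := adj.homEquiv F G (𝟙 G)
  have hη : η = 0 := by
    ext V x
    obtain ⟨V⟩ := V
    have hcov := hB V ⊤ (J.top_mem V)
    change (η.app (op V)).hom x = 0
    refine (hG _ hcov).isSeparatedFor.ext (t₁ := (η.app (op V)).hom x) (t₂ := (0 : G.obj.obj (op V))) ?_
    rintro W _ ⟨U, q, g0, ⟨-, hU⟩, rfl⟩
    change (G.obj.map (q ≫ g0).op).hom ((η.app (op V)).hom x) = (G.obj.map (q ≫ g0).op).hom 0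
    rw [map_zero]
    have n1 := ConcreteCategory.congr_hom (η.naturality (q ≫ g0).op) x
    refine n1.symm.trans ?_
    change (η.app (op W)).hom ((F.map (q ≫ g0).op).hom x) = 0
    have hz : (F.map (q ≫ g0).op).hom x = 0 := by
      rw [op_comp, Functor.map_comp]
      change (F.map q.op).hom ((F.map g0.op).hom x) = 0
      have : (F.map g0.op).hom x = 0 := by
        have hzero := hF U hU
        have := hzero.eq_of_tgt (F.map g0.op) 0
        rw [this]
        rfl
      rw [this, map_zero]
    rw [hz, map_zero]
  change η = adj.homEquiv F G 0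
  rw [hη, Adjunction.homEquiv_unit]
  have : (sheafToPresheaf J AddCommGrpCat.{u}).map (0 : G ⟶ G) = 0 := rfl
  rw [this, Limits.comp_zero]

end Groth.Agent.S15233
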