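import Groth.Statements.S15247
import Groth.Agent.Helper4.SN204
import Mathlib

set_option autoImplicit false
open Fano

namespace Groth.Agent.S15247


/-- Over ℂ, let Y be an irreducible closed subscheme of projective m-space of dimension m − d, where 1 ≤
d and d + 1 ≤ m. Then the hypersurfaces of degree d + 1 containing Y form a linear family of
codimension at least m + 1 (that is, greater than m) in the projective space of all hypersurfaces of
degree d + 1. Here Y is given by a homogeneous ideal I of ℂ[x_0, …, x_m] whose radical is prime and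
with dim ℂ[x_0, …, x_m]/I = m + 1 − d, a hypersurface contains Y when its form lies in I, and the
conclusion reads: the forms of degree d + 1 in I span a subspace of codimension at least m + 1 in
the space of all forms of degree d + 1. -/
theorem result (m d : ℕ) (hd : 1 ≤ d) (hdm : d + 1 ≤ m)
    (I : Ideal (MvPolynomial (Fin (m + 1)) ℂ))
    (hI : I.IsHomogeneous (CohB1.polyGrading m ℂ))
    (hirr : I.radical.IsPrime)
    (hdim : ringKrullDim (MvPolynomial (Fin (m + 1)) ℂ ⧸ I) = ((m + 1 - d : ℕ) : WithBot ℕ∞)) :
    m + 1 + Module.finrank ℂ ↥(CohB1.polyGrading m ℂ (d + 1) ⊓ Submodule.restrictScalars ℂ I)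
      ≤ Module.finrank ℂ (LefPen.Form m ℂ (d + 1)) := by

  classical
  haveI := hirr
  -- dimension of the quotient by the radical
  have hdimP : ringKrullDim (MvPolynomial (Fin (m + 1)) ℂ ⧸ I.radical) =
      ((m + 1 - d : ℕ) : WithBot ℕ∞) := by
    rw [← hdim, ringKrullDim_quotient, ringKrullDim_quotient, PrimeSpectrum.zeroLocus_radical]
  have hb : (m + 1 - d) + d + Module.finrank ℂ
      ↥(CohB1.polyGrading m ℂ (d + 1) ⊓ Submodule.restrictScalars ℂ I.radical) ≤
      Module.finrank ℂ ↥(CohB1.polyGrading m ℂ (d + 1)) :=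
    Groth.Agent.Helper4.SN204.poly_bound (k := ℂ) (σ := Fin (m + 1)) I.radical
      (m + 1 - d) (by omega) hdimP.ge d
  have hmono : Module.finrank ℂ
      ↥(CohB1.polyGrading m ℂ (d + 1) ⊓ Submodule.restrictScalars ℂ I) ≤
      Module.finrank ℂ
      ↥(CohB1.polyGrading m ℂ (d + 1) ⊓ Submodule.restrictScalars ℂ I.radical) := by
    haveI : Module.Finite ℂ ↥(CohB1.polyGrading m ℂ (d + 1)) :=
      Module.Finite.iff_fg.mpr (MvPolynomial.homogeneousSubmodule_fg _ ℂ (d + 1))
    haveI : Module.Finite ℂ
        ↥(CohB1.polyGrading m ℂ (d + 1) ⊓ Submodule.restrictScalars ℂ I.radical) :=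
      Module.Finite.of_injective (Submodule.inclusion inf_le_left)
        (Submodule.inclusion_injective _)
    refine Submodule.finrank_mono ?_
    exact inf_le_inf_left _ (fun a ha => Ideal.le_radical ha)
  change m + 1 + _ ≤ Module.finrank ℂ ↥(CohB1.polyGrading m ℂ (d + 1))
  have h3 : m + 1 - d + d = m + 1 := by omega
  rw [h3] at hb
  omega

end Groth.Agent.S15247
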