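import Groth.Statements.S1526
import Groth.Agent.Helper1.RegMono

set_option autoImplicit false
universe u
open CategoryTheory CategoryTheory.Limits AlgebraicGeometry
open Variety

namespace Groth.Agent.S1526

/-- On a proper scheme over a field, a coherent module whose support has dimension at most zero has
vanishing cohomology in all positive degrees. -/
theorem result (k : Type u) [Field k] (X : Scheme.{u}) [X.Over (Spec (CommRingCat.of k))] [IsProper (X ↘ (Spec (CommRingCat.of k)))]
    (F : X.Modules) (hF : Coh.IsCoh F) (hsupp : topologicalKrullDim (CohB1.support F) ≤ 0)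
    (i : ℕ) (hi : 1 ≤ i) : Subsingleton (Coh.HH X F i) := by
  haveI : IsNoetherianRing (CommRingCat.of k) := by
    show IsNoetherianRing k
    infer_instance
  haveI : IsLocallyNoetherian (Spec (CommRingCat.of k)) := inferInstance
  haveI : IsLocallyNoetherian X :=
    LocallyOfFiniteType.isLocallyNoetherian (X ↘ (Spec (CommRingCat.of k)))
  have hZ : IsClosed (CohB1.support F) := Groth.Agent.S0020.result _ F hF.2
  apply Groth.Agent.Helper1.ZeroDimAcyc.subsingleton_HH _ _ hF _ i hi
  intro x hx
  exact Groth.Agent.Helper1.RegMono.isClosed_singleton_of_dim_le_zero _ hZ hsupp x hx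

end Groth.Agent.S1526
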