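import Groth.Statements.S15344
import Groth.Agent.Lead.MonoRes
import Groth.Agent.Lead.ValSpec
import Mathlib

set_option autoImplicit false
universe u
open CategoryTheory CategoryTheory.Limits AlgebraicGeometry
open Mor

namespace Groth.Agent.S15344

open Groth.Agent.Lead in
/-- (⇐): valuative lifting ⇒ reflects specializations after base change (needs `Mono f`). -/
theorem reflects_of_lift {X Y : Scheme.{u}} (f : Y ⟶ X) [Mono f]
    (H : ∀ S : ValuativeCommSq f,
        (∃ l₀ : Spec (CommRingCat.of (IsLocalRing.ResidueField S.R)) ⟶ Y,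
            l₀ ≫ f = Spec.map (CommRingCat.ofHom (IsLocalRing.residue S.R)) ≫ S.i₂) →
          S.commSq.HasLift)
    (X' : Scheme.{u}) (g : X' ⟶ X) (y₀ y₁ : ↥(pullback f g))
    (hspec : (pullback.snd f g).base y₁ ⤳ (pullback.snd f g).base y₀) : y₁ ⤳ y₀ := by
  let p := pullback.snd f g
  have hpinj : Function.Injective p := p.injective
  obtain ⟨V, _, _, _, gV, hcl, hgen⟩ := ValSpec.exists_valuationRing_of_specializes hspec
  let K := FractionRing V
  have : IsIso (p.residueFieldMap y₁) := MonoRes.isIso_residueFieldMap_of_mono p y₁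
  have : IsIso (p.residueFieldMap y₀) := MonoRes.isIso_residueFieldMap_of_mono p y₀
  -- the generic point
  let t₁ : Spec (CommRingCat.of K) ⟶ X' := Spec.map (CommRingCat.ofHom (algebraMap V K)) ≫ gV
  have ht₁ : t₁ (IsLocalRing.closedPoint K) = p y₁ := by
    have : (Spec.map (CommRingCat.ofHom (algebraMap V K))) (IsLocalRing.closedPoint K) =
        (⊥ : PrimeSpectrum V) := by
      apply PrimeSpectrum.ext
      ext a
      have hbot : (IsLocalRing.closedPoint K).asIdeal = ⊥ := IsLocalRing.maximalIdeal_eq_bot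
      change algebraMap V K a ∈ (IsLocalRing.closedPoint K).asIdeal ↔ a ∈ (⊥ : Ideal V)
      rw [hbot, Ideal.mem_bot, Ideal.mem_bot]
      exact (IsFractionRing.to_map_eq_zero_iff (K := K))
    change gV ((Spec.map (CommRingCat.ofHom (algebraMap V K))) (IsLocalRing.closedPoint K)) = _
    rw [this]; exact hgen
  obtain ⟨t₁', ht₁', -⟩ := MonoRes.exists_lift_of_field_point p y₁ K t₁ ht₁
  -- the closed point
  let κ := IsLocalRing.ResidueField V
  let t₀ : Spec (CommRingCat.of κ) ⟶ X' := Spec.map (CommRingCat.ofHom (IsLocalRing.residue V)) ≫ gV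
  have ht₀ : t₀ (IsLocalRing.closedPoint κ) = p y₀ := by
    have : (Spec.map (CommRingCat.ofHom (IsLocalRing.residue V))) (IsLocalRing.closedPoint κ) =
        IsLocalRing.closedPoint V := IsLocalRing.comap_closedPoint (IsLocalRing.residue V)
    change gV ((Spec.map (CommRingCat.ofHom (IsLocalRing.residue V))) (IsLocalRing.closedPoint κ)) = _
    rw [this]; exact hcl
  obtain ⟨t₀', ht₀', -⟩ := MonoRes.exists_lift_of_field_point p y₀ κ t₀ ht₀
  -- the valuative square
  have hsq : CommSq (t₁' ≫ pullback.fst f g) (Spec.map (CommRingCat.ofHom (algebraMap V K))) f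
      (gV ≫ g) := by
    constructor
    rw [Category.assoc, pullback.condition, ← Category.assoc, ht₁', Category.assoc]
  let S : ValuativeCommSq f := ⟨V, K, t₁' ≫ pullback.fst f g, gV ≫ g, hsq⟩
  obtain ⟨⟨l, -, hl⟩⟩ := H S ⟨t₀' ≫ pullback.fst f g, by
    rw [Category.assoc, pullback.condition, ← Category.assoc, ht₀', Category.assoc]⟩
  let m : Spec (CommRingCat.of V) ⟶ pullback f g := pullback.lift l gV hl
  have hm : m ≫ p = gV := pullback.lift_snd _ _ _
  have hm0 : m (IsLocalRing.closedPoint V) = y₀ := by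
    apply hpinj
    change (m ≫ p) _ = _
    rw [hm]; exact hcl
  have hm1 : m (⊥ : PrimeSpectrum V) = y₁ := by
    apply hpinj
    change (m ≫ p) _ = _
    rw [hm]; exact hgen
  rw [← hm0, ← hm1]
  exact (IsLocalRing.specializes_closedPoint (⊥ : PrimeSpectrum V)).map m.continuous

/-- (⇒): reflecting specializations after base change to `Spec R` gives the lift. -/
theorem lift_of_reflects {X Y : Scheme.{u}} (f : Y ⟶ X)
    (S : ValuativeCommSq f)
    (H : ∀ (y₀ y₁ : ↥(pullback f S.i₂)),
        (pullback.snd f S.i₂).base y₁ ⤳ (pullback.snd f S.i₂).base y₀ → y₁ ⤳ y₀)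
    (l₀ : Spec (CommRingCat.of (IsLocalRing.ResidueField S.R)) ⟶ Y)
    (hl₀ : l₀ ≫ f = Spec.map (CommRingCat.ofHom (IsLocalRing.residue S.R)) ≫ S.i₂) :
    S.commSq.HasLift := by
  let p := pullback.snd f S.i₂
  let t₁ : Spec (CommRingCat.of S.K) ⟶ pullback f S.i₂ :=
    pullback.lift S.i₁ (Spec.map (CommRingCat.ofHom (algebraMap S.R S.K))) S.commSq.w
  let t₀ : Spec (CommRingCat.of (IsLocalRing.ResidueField S.R)) ⟶ pullback f S.i₂ :=
    pullback.lift l₀ (Spec.map (CommRingCat.ofHom (IsLocalRing.residue S.R))) hl₀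
  have ht₁ : t₁ ≫ p = Spec.map (CommRingCat.ofHom (algebraMap S.R S.K)) := pullback.lift_snd _ _ _
  have ht₁f : t₁ ≫ pullback.fst f S.i₂ = S.i₁ := pullback.lift_fst _ _ _
  have ht₀ : t₀ ≫ p = Spec.map (CommRingCat.ofHom (IsLocalRing.residue S.R)) := pullback.lift_snd _ _ _
  let y₁ := t₁ (IsLocalRing.closedPoint S.K)
  let y₀ := t₀ (IsLocalRing.closedPoint (IsLocalRing.ResidueField S.R))
  have hpy₀ : p y₀ = IsLocalRing.closedPoint S.R := by
    change (t₀ ≫ p) _ = _
    rw [ht₀]
    exact IsLocalRing.comap_closedPoint (IsLocalRing.residue S.R)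
  have hspec : y₁ ⤳ y₀ := by
    apply H
    change p y₁ ⤳ p y₀
    rw [hpy₀]
    exact IsLocalRing.specializes_closedPoint _
  -- the local ring at y₀
  let B := (pullback f S.i₂).presheaf.stalk y₀
  let ψ : B ⟶ CommRingCat.of S.K :=
    (pullback f S.i₂).presheaf.stalkSpecializes hspec ≫ Scheme.stalkClosedPointTo t₁
  have hψ : Spec.map ψ ≫ (pullback f S.i₂).fromSpecStalk y₀ = t₁ := by
    rw [Spec.map_comp, Category.assoc, Scheme.SpecMap_stalkSpecializes_fromSpecStalk]
    exact Scheme.Spec_stalkClosedPointTo_fromSpecStalk t₁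
  let ρ : CommRingCat.of S.R ⟶ B := Spec.preimage ((pullback f S.i₂).fromSpecStalk y₀ ≫ p)
  have hρ : Spec.map ρ = (pullback f S.i₂).fromSpecStalk y₀ ≫ p := Spec.map_preimage _
  have hρψ : ρ ≫ ψ = CommRingCat.ofHom (algebraMap S.R S.K) := by
    apply Spec.map_injective
    rw [Spec.map_comp, hρ, ← Category.assoc, hψ, ht₁]
  have hρψ' : ∀ r : S.R, ψ.hom (ρ.hom r) = algebraMap S.R S.K r := fun r => by
    have := congrArg (fun φ => φ.hom r) hρψ
    exact this
  -- ρ is local
  have hρloc : ∀ r : S.R, r ∈ IsLocalRing.maximalIdeal S.R → ρ.hom r ∈ IsLocalRing.maximalIdeal B := by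
    intro r hr
    have h1 : (Spec.map ρ) (IsLocalRing.closedPoint B) = IsLocalRing.closedPoint S.R := by
      rw [hρ]
      change p (((pullback f S.i₂).fromSpecStalk y₀) (IsLocalRing.closedPoint B)) = _
      rw [Scheme.fromSpecStalk_closedPoint, hpy₀]
    have h2 : r ∈ ((Spec.map ρ) (IsLocalRing.closedPoint B)).asIdeal := by
      rw [h1]; exact hr
    exact h2
  -- the image of ψ lies in R
  have hψR : ∀ b : B, ∃ r : S.R, algebraMap S.R S.K r = ψ.hom b := by
    intro b
    by_contra hb
    obtain ⟨r, hr⟩ | ⟨r, hr⟩ := ValuationRing.isInteger_or_isInteger S.R (ψ.hom b)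
    · exact hb ⟨r, hr⟩
    · -- (ψ b)⁻¹ = r ∈ R, and r is not a unit
      have hb0 : ψ.hom b ≠ 0 := by
        intro h0
        exact hb ⟨0, by rw [map_zero, h0]⟩
      have hrm : r ∈ IsLocalRing.maximalIdeal S.R := by
        rw [IsLocalRing.mem_maximalIdeal, mem_nonunits_iff]
        intro hu
        obtain ⟨u, rfl⟩ := hu
        apply hb
        refine ⟨((u⁻¹ : S.Rˣ) : S.R), ?_⟩
        have h3 : algebraMap S.R S.K ((u⁻¹ : S.Rˣ) : S.R) * algebraMap S.R S.K (u : S.R) = 1 := by
          rw [← map_mul, Units.inv_mul, map_one]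
        rw [hr] at h3
        have h4 : (ψ.hom b)⁻¹ * ψ.hom b = 1 := inv_mul_cancel₀ hb0
        have h5 : (ψ.hom b)⁻¹ ≠ 0 := inv_ne_zero hb0
        exact mul_right_cancel₀ h5 (by rw [h3, mul_comm, h4])
      have h6 : ψ.hom (b * ρ.hom r) = 1 := by
        rw [map_mul, hρψ', hr, mul_inv_cancel₀ hb0]
      have h7 : b * ρ.hom r ∈ IsLocalRing.maximalIdeal B :=
        Ideal.mul_mem_left _ _ (hρloc r hrm)
      have h8 : IsUnit (1 - b * ρ.hom r) := by
        by_contra hnu
        have h9 : 1 - b * ρ.hom r ∈ IsLocalRing.maximalIdeal B := hnu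
        have h10 : (1 : B) ∈ IsLocalRing.maximalIdeal B := by
          have := Ideal.add_mem _ h9 h7
          simpa using this
        exact (Ideal.ne_top_iff_one _).mp (IsLocalRing.maximalIdeal.isMaximal B).ne_top h10
      have h11 : ψ.hom (1 - b * ρ.hom r) = 0 := by
        rw [map_sub, map_one, h6, sub_self]
      have h12 := h8.map ψ.hom
      rw [h11] at h12
      exact not_isUnit_zero h12
  have hinj : Function.Injective (algebraMap S.R S.K) := IsFractionRing.injective S.R S.K
  -- the retraction τ : B → R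
  let τf : B → S.R := fun b => (hψR b).choose
  have hτf : ∀ b, algebraMap S.R S.K (τf b) = ψ.hom b := fun b => (hψR b).choose_spec
  let τ : B →+* S.R :=
    { toFun := τf
      map_one' := hinj (by rw [hτf, map_one, map_one])
      map_mul' := fun a b => hinj (by rw [hτf, map_mul, map_mul, hτf, hτf])
      map_zero' := hinj (by rw [hτf, map_zero, map_zero])
      map_add' := fun a b => hinj (by rw [hτf, map_add, map_add, hτf, hτf]) }
  let τ' : B ⟶ CommRingCat.of S.R := CommRingCat.ofHom τ
  have hτψ : τ' ≫ CommRingCat.ofHom (algebraMap S.R S.K) = ψ := by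
    ext b
    exact hτf b
  have hρτ : ρ ≫ τ' = 𝟙 _ := by
    ext r
    apply hinj
    change algebraMap S.R S.K (τf (ρ.hom r)) = algebraMap S.R S.K r
    rw [hτf, hρψ']
  refine ⟨⟨⟨Spec.map τ' ≫ (pullback f S.i₂).fromSpecStalk y₀ ≫ pullback.fst f S.i₂, ?_, ?_⟩⟩⟩
  · rw [← Category.assoc, ← Spec.map_comp, hτψ, ← Category.assoc, hψ, ht₁f]
  · rw [Category.assoc, Category.assoc, pullback.condition, ← Category.assoc ((pullback f S.i₂).fromSpecStalk y₀),
      ← hρ, ← Category.assoc, ← Spec.map_comp, hρτ, Spec.map_id, Category.id_comp]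

theorem aux {X Y : Scheme.{u}} [QuasiSeparatedSpace ↥X]
    (f : Y ⟶ X) [Mono f] :
    (∀ (X' : Scheme.{u}) (g : X' ⟶ X) (y₀ y₁ : ↥(pullback f g)),
        (pullback.snd f g).base y₁ ⤳ (pullback.snd f g).base y₀ → y₁ ⤳ y₀) ↔
      ∀ S : ValuativeCommSq f,
        (∃ l₀ : Spec (CommRingCat.of (IsLocalRing.ResidueField S.R)) ⟶ Y,
            l₀ ≫ f = Spec.map (CommRingCat.ofHom (IsLocalRing.residue S.R)) ≫ S.i₂) →
          S.commSq.HasLift := by
  constructor
  · intro H S ⟨l₀, hl₀⟩
    exact lift_of_reflects f S (H _ S.i₂) l₀ hl₀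
  · intro H X' g y₀ y₁ h
    exact reflects_of_lift f H X' g y₀ y₁ h

/-- Let f : Y ⟶ X be a monomorphism of schemes, X quasi-separated. Then the projection Y ×_X X' ⟶ X'
reflects specializations (if the image of y₁ specializes to the image of y₀ then y₁ specializes to
y₀) after every base change X' ⟶ X if and only if, for every valuation ring A with fraction field K
and every commutative square Spec K ⟶ Y, Spec A ⟶ X over f such that, in addition, some morphism
from the spectrum of the residue field of A to Y lies over Spec A ⟶ X, the square admits a lift Spec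
A ⟶ Y. -/
theorem result {X Y : Scheme.{u}} [QuasiSeparatedSpace ↥X]
    (f : Y ⟶ X) [Mono f] :
    (∀ (X' : Scheme.{u}) (g : X' ⟶ X) (y₀ y₁ : ↥(pullback f g)),
        (pullback.snd f g).base y₁ ⤳ (pullback.snd f g).base y₀ → y₁ ⤳ y₀) ↔
      ∀ S : ValuativeCommSq f,
        (∃ l₀ : Spec (CommRingCat.of (IsLocalRing.ResidueField S.R)) ⟶ Y,
            l₀ ≫ f = Spec.map (CommRingCat.ofHom (IsLocalRing.residue S.R)) ≫ S.i₂) →
          S.commSq.HasLift := by
  exact aux f

end Groth.Agent.S15344
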