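import Groth.Statements.S15347
import Mathlib

set_option autoImplicit false
universe u
open CategoryTheory CategoryTheory.Limits AlgebraicGeometry
open Mor

namespace Groth.Agent.S15347

/-- dense-lift part: a general lemma -/
theorem dense_lift {X Y : Scheme.{u}} (f : Y ⟶ X) [IsImmersion f]
    (A : Type u) [CommRing A] [IsDomain A] (s : Spec (CommRingCat.of A) ⟶ X)
    (D : Set ↥(Spec (CommRingCat.of A))) (hD : Dense D)
    (hpt : ∀ p ∈ D, ∃ l : Spec ((Spec (CommRingCat.of A)).residueField p) ⟶ Y,
            l ≫ f = (Spec (CommRingCat.of A)).fromSpecResidueField p ≫ s) :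
    ∃ U : (Spec (CommRingCat.of A)).Opens, (U : Set ↥(Spec (CommRingCat.of A))).Nonempty ∧
            ∃ l : (U : Scheme.{u}) ⟶ Y, l ≫ f = U.ι ≫ s := by
  let i' := pullback.snd f s
  have hDr : D ⊆ Set.range i' := by
    intro p hp
    obtain ⟨l, hl⟩ := hpt p hp
    let t : Spec ((Spec (CommRingCat.of A)).residueField p) ⟶ pullback f s :=
      pullback.lift l ((Spec (CommRingCat.of A)).fromSpecResidueField p) hl
    have ht : t ≫ i' = (Spec (CommRingCat.of A)).fromSpecResidueField p := pullback.lift_snd _ _ _
    have hne : Nonempty ↥(Spec ((Spec (CommRingCat.of A)).residueField p)) := inferInstance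
    obtain ⟨z⟩ := hne
    refine ⟨t z, ?_⟩
    have h1 : i' (t z) = ((Spec (CommRingCat.of A)).fromSpecResidueField p) z := by
      rw [← ht]; rfl
    rw [h1]
    have h2 : ((Spec (CommRingCat.of A)).fromSpecResidueField p) z ∈
        Set.range ((Spec (CommRingCat.of A)).fromSpecResidueField p) := ⟨z, rfl⟩
    rw [Scheme.range_fromSpecResidueField] at h2
    exact h2
  have hdense : Dense (Set.range i') := hD.mono hDr
  have hopen : IsOpen (Set.range i') := by
    obtain ⟨U, Z, hU, hZ, hUZ⟩ := i'.isLocallyClosed_range
    have hZu : Z = Set.univ := by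
      have : closure (Set.range i') ⊆ Z := by
        apply closure_minimal _ hZ
        rw [hUZ]; exact Set.inter_subset_right
      rw [hdense.closure_eq] at this
      exact Set.eq_univ_of_univ_subset this
    rw [hUZ, hZu, Set.inter_univ]; exact hU
  let U : (Spec (CommRingCat.of A)).Opens := ⟨Set.range i', hopen⟩
  have hUne : (U : Set ↥(Spec (CommRingCat.of A))).Nonempty := hdense.nonempty
  have hsub : Set.range i' ⊆ Set.range U.ι := by
    rw [Scheme.Opens.range_ι]; exact subset_rfl
  let j : pullback f s ⟶ (U : Scheme.{u}) := IsOpenImmersion.lift U.ι i' hsub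
  have hj : j ≫ U.ι = i' := IsOpenImmersion.lift_fac _ _ _
  have : IsImmersion (j ≫ U.ι) := by rw [hj]; infer_instance
  have : IsImmersion j := IsImmersion.of_comp j U.ι
  have hjsurj : Function.Surjective j := by
    intro ⟨z, hz⟩
    obtain ⟨w, hw⟩ := hz
    refine ⟨w, ?_⟩
    apply U.ι.isOpenEmbedding.injective
    have : U.ι (j w) = i' w := by rw [← hj]; rfl
    rw [this, hw]; rfl
  have : Surjective j := ⟨hjsurj⟩
  have : IsClosedImmersion j := by
    apply IsClosedImmersion.of_isPreimmersion
    rw [Set.range_eq_univ.mpr hjsurj]; exact isClosed_univ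
  have : IsIso j := isIso_of_isClosedImmersion_of_surjective j
  refine ⟨U, hUne, inv j ≫ pullback.fst f s, ?_⟩
  have hj' : inv j ≫ pullback.snd f s = U.ι := by
    rw [IsIso.inv_comp_eq]; exact hj.symm
  rw [Category.assoc, pullback.condition, ← Category.assoc, hj']

theorem aux {X Y : Scheme.{u}} (f : Y ⟶ X) [IsImmersion f] :
    (∀ S : ValuativeCommSq f,
        (∃ l₀ : Spec (CommRingCat.of (IsLocalRing.ResidueField S.R)) ⟶ Y,
            l₀ ≫ f = Spec.map (CommRingCat.ofHom (IsLocalRing.residue S.R)) ≫ S.i₂) →
          S.commSq.HasLift) ∧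
      ∀ (A : Type u) [CommRing A] [IsDomain A] (s : Spec (CommRingCat.of A) ⟶ X) (D : Set ↥(Spec (CommRingCat.of A))),
        Dense D →
        (∀ p ∈ D, ∃ l : Spec ((Spec (CommRingCat.of A)).residueField p) ⟶ Y,
            l ≫ f = (Spec (CommRingCat.of A)).fromSpecResidueField p ≫ s) →
          ∃ U : (Spec (CommRingCat.of A)).Opens, (U : Set ↥(Spec (CommRingCat.of A))).Nonempty ∧
            ∃ l : (U : Scheme.{u}) ⟶ Y, l ≫ f = U.ι ≫ s := by
  refine ⟨?_, fun A _ _ s D hD hpt => dense_lift f A s D hD hpt⟩
  intro S ⟨l₀, hl₀⟩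
  -- i₂ factors through the coborder open
  have hrange : Set.range S.i₂ ⊆ Set.range f.coborderRange.ι := by
    rw [Scheme.Opens.range_ι]
    rintro _ ⟨z, rfl⟩
    have hspec : z ⤳ IsLocalRing.closedPoint S.R := IsLocalRing.specializes_closedPoint z
    have hcl : S.i₂ (IsLocalRing.closedPoint S.R) ∈ (f.coborderRange : Set X) := by
      have hne : Nonempty ↥(Spec (CommRingCat.of (IsLocalRing.ResidueField S.R))) := inferInstance
      obtain ⟨w⟩ := hne
      have h1 : (Spec.map (CommRingCat.ofHom (IsLocalRing.residue S.R))) w =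
          IsLocalRing.closedPoint S.R := by
        have hw : w = IsLocalRing.closedPoint (IsLocalRing.ResidueField S.R) :=
          Subsingleton.elim _ _
        rw [hw]
        exact IsLocalRing.comap_closedPoint (IsLocalRing.residue S.R)
      have h2 : S.i₂ (IsLocalRing.closedPoint S.R) = f (l₀ w) := by
        rw [← h1]
        change (Spec.map (CommRingCat.ofHom (IsLocalRing.residue S.R)) ≫ S.i₂) w = (l₀ ≫ f) w
        rw [hl₀]
      rw [h2]
      exact subset_coborder ⟨_, rfl⟩
    exact (hspec.map S.i₂.continuous).mem_open f.coborderRange.2 hcl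
  let i₂' : Spec (.of S.R) ⟶ f.coborderRange.toScheme := IsOpenImmersion.lift f.coborderRange.ι S.i₂ hrange
  have hi₂' : i₂' ≫ f.coborderRange.ι = S.i₂ := IsOpenImmersion.lift_fac _ _ _
  have hsq : CommSq S.i₁ (Spec.map (CommRingCat.ofHom (algebraMap S.R S.K))) f.liftCoborder i₂' := by
    constructor
    rw [← cancel_mono f.coborderRange.ι, Category.assoc, Category.assoc, hi₂', f.liftCoborder_ι]
    exact S.commSq.w
  let S' : ValuativeCommSq f.liftCoborder := ⟨S.R, S.K, S.i₁, i₂', hsq⟩
  have hex : ValuativeCriterion.Existence f.liftCoborder := by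
    have : UniversallyClosed f.liftCoborder := inferInstance
    rw [UniversallyClosed.eq_valuativeCriterion] at this
    exact this.1
  obtain ⟨⟨l, h1, h2⟩⟩ := hex S'
  refine ⟨⟨⟨l, h1, ?_⟩⟩⟩
  have h3 : l ≫ f.liftCoborder ≫ f.coborderRange.ι = S.i₂ := by
    rw [← Category.assoc, h2, hi₂']
  rwa [f.liftCoborder_ι] at h3

/-- Let f : Y ⟶ X be an immersion of schemes. Then: for every valuation ring A with fraction field K and
every commutative square Spec K ⟶ Y, Spec A ⟶ X over f such that some morphism from the spectrum of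
the residue field of A to Y lies over Spec A ⟶ X, the square admits a lift; and for every integral
domain A and every morphism s : Spec A ⟶ X such that the points of a dense subset of Spec A lift to
Y (the residue field of each such point maps to Y over s), there is a nonempty open subscheme U of
Spec A with a morphism U ⟶ Y over s. (The published statement is for a representable, locally
finitely presented morphism of algebraic stacks with locally Noetherian target and a quasi-compact
immersion, and also lists that f is a monomorphism; this row is the case of schemes, for any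
immersion and any target.) -/
theorem result {X Y : Scheme.{u}} (f : Y ⟶ X) [IsImmersion f] :
    (∀ S : ValuativeCommSq f,
        (∃ l₀ : Spec (CommRingCat.of (IsLocalRing.ResidueField S.R)) ⟶ Y,
            l₀ ≫ f = Spec.map (CommRingCat.ofHom (IsLocalRing.residue S.R)) ≫ S.i₂) →
          S.commSq.HasLift) ∧
      ∀ (A : Type u) [CommRing A] [IsDomain A] (s : Spec (CommRingCat.of A) ⟶ X) (D : Set ↥(Spec (CommRingCat.of A))),
        Dense D →
        (∀ p ∈ D, ∃ l : Spec ((Spec (CommRingCat.of A)).residueField p) ⟶ Y,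
            l ≫ f = (Spec (CommRingCat.of A)).fromSpecResidueField p ≫ s) →
          ∃ U : (Spec (CommRingCat.of A)).Opens, (U : Set ↥(Spec (CommRingCat.of A))).Nonempty ∧
            ∃ l : (U : Scheme.{u}) ⟶ Y, l ≫ f = U.ι ≫ s := by
  exact aux f

end Groth.Agent.S15347
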