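import Groth.Statements.S15354
import Mathlib

set_option autoImplicit false
universe u
open CategoryTheory CategoryTheory.Limits AlgebraicGeometry
open Mor

namespace Groth.Agent.S15354

/-- Let f : Y ⟶ X be a morphism of schemes, A a valuation ring with fraction field K and residue field
k, and ξ, η : Spec A ⟶ Y two A-points of Y over the same A-point of X. If ξ and η restrict to the
same K-point and to the same k-point of Y, then ξ = η. (The published statement is an equivalence,
for algebraic spaces locally of finite presentation over a Noetherian scheme, between local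
separatedness of f and conditions (a), (b); this row is the necessity of (a) in the case of schemes,
where no hypothesis on f is needed.) -/
theorem result {X Y : Scheme.{u}} (f : Y ⟶ X)
    (A : Type u) [CommRing A] [IsDomain A] [ValuationRing A] (K : Type u) [Field K] [Algebra A K]
    [IsFractionRing A K] (ξ η : Spec (CommRingCat.of A) ⟶ Y) (hf : ξ ≫ f = η ≫ f)
    (hK : Spec.map (CommRingCat.ofHom (algebraMap A K)) ≫ ξ = Spec.map (CommRingCat.ofHom (algebraMap A K)) ≫ η)
    (hk : Spec.map (CommRingCat.ofHom (IsLocalRing.residue A)) ≫ ξ =
      Spec.map (CommRingCat.ofHom (IsLocalRing.residue A)) ≫ η) :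
    ξ = η := by
  classical
  haveI : IsLocalRing (CommRingCat.of A) := inferInstanceAs (IsLocalRing A)
  -- general lemma with free base point
  have key : ∀ (y y' : Y) (_ : y = y') (φ : Y.presheaf.stalk y ⟶ CommRingCat.of A)
      (ψ : Y.presheaf.stalk y' ⟶ CommRingCat.of A),
      Spec.map (CommRingCat.ofHom (algebraMap A K)) ≫ Spec.map φ ≫ Y.fromSpecStalk y =
        Spec.map (CommRingCat.ofHom (algebraMap A K)) ≫ Spec.map ψ ≫ Y.fromSpecStalk y' →
      Spec.map φ ≫ Y.fromSpecStalk y = Spec.map ψ ≫ Y.fromSpecStalk y' := by
    intro y y' hyy φ ψ h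
    subst hyy
    rw [← Category.assoc, ← Category.assoc, cancel_mono, ← Spec.map_comp, ← Spec.map_comp,
      Spec.map_inj] at h
    have : φ = ψ := by
      ext x
      have h1 := congrArg (fun g => g.hom x) h
      simp only [CommRingCat.hom_comp, CommRingCat.hom_ofHom, RingHom.comp_apply] at h1
      exact (IsFractionRing.injective A K) h1
    rw [this]
  have hc : ξ (IsLocalRing.closedPoint A) = η (IsLocalRing.closedPoint A) := by
    haveI : IsLocalRing (CommRingCat.of (IsLocalRing.ResidueField A)) :=
      inferInstanceAs (IsLocalRing (IsLocalRing.ResidueField A))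
    haveI : IsLocalHom (CommRingCat.ofHom (IsLocalRing.residue A)).hom :=
      inferInstanceAs (IsLocalHom (IsLocalRing.residue A))
    have h1 : Spec.map (CommRingCat.ofHom (IsLocalRing.residue A))
        (IsLocalRing.closedPoint (CommRingCat.of (IsLocalRing.ResidueField A))) = IsLocalRing.closedPoint (CommRingCat.of A) :=
      Spec_closedPoint
    have h2 := congrArg (fun g => g (IsLocalRing.closedPoint (CommRingCat.of (IsLocalRing.ResidueField A)))) hk
    simp only [Scheme.Hom.comp_apply] at h2
    rw [h1] at h2
    exact h2
  have eξ := Scheme.Spec_stalkClosedPointTo_fromSpecStalk (R := CommRingCat.of A) ξ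
  have eη := Scheme.Spec_stalkClosedPointTo_fromSpecStalk (R := CommRingCat.of A) η
  rw [← eξ, ← eη]
  apply key _ _ hc
  rw [eξ, eη]
  exact hK

end Groth.Agent.S15354
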