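import Groth.Statements.S15355
import Groth.Agent.S15347
import Mathlib

set_option autoImplicit false
universe u
open CategoryTheory CategoryTheory.Limits AlgebraicGeometry
open Mor

namespace Groth.Agent.S15355

theorem aux {X Y : Scheme.{u}} (f : Y ⟶ X)
    (A : Type u) [CommRing A] [IsDomain A] (ξ η : Spec (CommRingCat.of A) ⟶ Y) (hf : ξ ≫ f = η ≫ f)
    (D : Set ↥(Spec (CommRingCat.of A))) (hD : Dense D)
    (hpt : ∀ p ∈ D, (Spec (CommRingCat.of A)).fromSpecResidueField p ≫ ξ =
      (Spec (CommRingCat.of A)).fromSpecResidueField p ≫ η) :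
    ∃ U : (Spec (CommRingCat.of A)).Opens, (U : Set ↥(Spec (CommRingCat.of A))).Nonempty ∧ U.ι ≫ ξ = U.ι ≫ η := by
  let s : Spec (CommRingCat.of A) ⟶ pullback f f := pullback.lift ξ η hf
  have e1 : s ≫ pullback.fst f f = ξ := pullback.lift_fst _ _ _
  have e2 : s ≫ pullback.snd f f = η := pullback.lift_snd _ _ _
  obtain ⟨U, hU, l, hl⟩ := Groth.Agent.S15347.dense_lift (pullback.diagonal f) A s D hD (by
    intro p hp
    refine ⟨(Spec (CommRingCat.of A)).fromSpecResidueField p ≫ ξ, ?_⟩
    apply pullback.hom_ext
    · rw [Category.assoc, pullback.diagonal_fst, Category.comp_id, Category.assoc, e1]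
    · rw [Category.assoc, pullback.diagonal_snd, Category.comp_id, Category.assoc, e2, hpt p hp])
  refine ⟨U, hU, ?_⟩
  have h1 : U.ι ≫ ξ = l := by
    have := congrArg (· ≫ pullback.fst f f) hl
    simp only [Category.assoc, pullback.diagonal_fst, Category.comp_id, e1] at this
    exact this.symm
  have h2 : U.ι ≫ η = l := by
    have := congrArg (· ≫ pullback.snd f f) hl
    simp only [Category.assoc, pullback.diagonal_snd, Category.comp_id, e2] at this
    exact this.symm
  rw [h1, h2]

/-- Let f : Y ⟶ X be a morphism of schemes, A an integral domain and ξ, η : Spec A ⟶ Y two A-points of Y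
over the same A-point of X. If ξ and η induce the same κ(p)-point of Y at every point p of some
dense subset of Spec A, then ξ and η agree on a nonempty open subscheme of Spec A. (The published
statement is an equivalence, for algebraic spaces locally of finite presentation over a Noetherian
scheme, between local separatedness of f and conditions (a), (b); this row is the necessity of (b)
in the case of schemes, where no hypothesis on f is needed.) -/
theorem result {X Y : Scheme.{u}} (f : Y ⟶ X)
    (A : Type u) [CommRing A] [IsDomain A] (ξ η : Spec (CommRingCat.of A) ⟶ Y) (hf : ξ ≫ f = η ≫ f)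
    (D : Set ↥(Spec (CommRingCat.of A))) (hD : Dense D)
    (hpt : ∀ p ∈ D, (Spec (CommRingCat.of A)).fromSpecResidueField p ≫ ξ =
      (Spec (CommRingCat.of A)).fromSpecResidueField p ≫ η) :
    ∃ U : (Spec (CommRingCat.of A)).Opens, (U : Set ↥(Spec (CommRingCat.of A))).Nonempty ∧ U.ι ≫ ξ = U.ι ≫ η := by
  exact aux f A ξ η hf D hD hpt

end Groth.Agent.S15355
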