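import Groth.Statements.S15424
import Mathlib
import Groth.Agent.Helper7.GrLCReg
import Groth.Agent.Helper7.RegSup

set_option autoImplicit false
universe u
open GrSyz

namespace Groth.Agent.S15424

/-- Let k be a field, S = k[x_0, …, x_r] graded by degree, 𝔪 = (x_0, …, x_r) and M a finitely generated
ℤ-graded S-module; graded local cohomology is computed from any *injective resolution of M in the
graded category. Then the Castelnuovo–Mumford regularity of M in the sense of minimal graded free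
resolutions (an extended integer, −∞ for the zero module) equals the supremum over i ≥ 0 of
end(H^i_𝔪(M)) + i, where end is the largest degree of a nonzero piece. -/
theorem result (k : Type u) [Field k] (r : ℕ)
    (M : Type u) [AddCommGroup M] [Module k M] [Module (MvPolynomial (Fin (r + 1)) k) M]
    [IsScalarTower k (MvPolynomial (Fin (r + 1)) k) M] [Module.Finite (MvPolynomial (Fin (r + 1)) k) M]
    (ℳ : ℤ → Submodule k M) [DirectSum.Decomposition ℳ] [SetLike.GradedSMul (GrSyz.stdGr k (Fin (r + 1))) ℳ]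
    (E : GrLC.StarInjRes (GrSyz.stdGr k (Fin (r + 1))) ℳ) :
    GrSyz.reg (GrSyz.stdGr k (Fin (r + 1))) ℳ (GrSyz.irrel (GrSyz.stdGr k (Fin (r + 1)))).toIdeal = ⨆ i : ℕ, (GrLC.endDeg (E.Hgr (GrSyz.irrel (GrSyz.stdGr k (Fin (r + 1)))) i) + (((i : ℤ) : WithTop ℤ) : WithBot (WithTop ℤ))) := by
  have key : ∀ d : ℤ, GrSyz.IsRegLE (GrSyz.stdGr k (Fin (r + 1))) ℳ
      (GrSyz.irrel (GrSyz.stdGr k (Fin (r + 1)))).toIdeal d ↔
      (⨆ i : ℕ, (GrLC.endDeg (E.Hgr (GrSyz.irrel (GrSyz.stdGr k (Fin (r + 1)))) i) +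
        (((i : ℤ) : WithTop ℤ) : WithBot (WithTop ℤ)))) ≤ ((d : WithTop ℤ) : WithBot (WithTop ℤ)) := by
    intro d
    rw [iSup_le_iff]
    constructor
    · rintro ⟨F, hF, hgen⟩
      exact (Groth.Agent.Helper7.GrLCReg.isGenLE_iff_endDeg M ℳ E F hF d).1 hgen
    · intro h
      obtain ⟨F, hF⟩ := Groth.Agent.Helper7.MinRes.exists_minimal_res (k := k) (r := r) M ℳ
      exact ⟨F, hF, (Groth.Agent.Helper7.GrLCReg.isGenLE_iff_endDeg M ℳ E F hF d).2 h⟩
  unfold GrSyz.reg
  simp_rw [key]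
  exact Groth.Agent.Helper7.RegSup.iInf_ge_eq _

end Groth.Agent.S15424
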