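import Groth.Statements.S1543
import Groth.Agent.Helper4.GeomRedPt
import Groth.Agent.Helper4.GeomRedMin
import Mathlib

set_option autoImplicit false
universe u
open CategoryTheory CategoryTheory.Limits AlgebraicGeometry
open Variety

namespace Groth.Agent.S1543


/-- A reduced scheme over k which is geometrically reduced at every generic point of an irreducible
component is geometrically reduced over k. -/
theorem result (k : Type u) [Field k] (X : Scheme.{u}) [X.Over (Spec (CommRingCat.of k))] [IsReduced X]
    (h : ∀ Z ∈ irreducibleComponents (X : Type u), ∀ η : X, IsGenericPoint η Z → Curv2.IsGeomReducedAt k X η) :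
    GeometricallyReduced (X ↘ (Spec (CommRingCat.of k))) := by

  have hx : ∀ x : X, Curv2.IsGeomReducedAt k X x := by
    intro x
    rw [Groth.Agent.Helper4.GeomRedPt.curv2_geomReducedAt_iff]
    letI := Curv2.stalkAlgebra k X x
    show Algebra.IsGeometricallyReduced k (X.presheaf.stalk x)
    apply Groth.Agent.Helper4.GeomRedMin.isGeometricallyReduced_of_minimalPrimes
    intro 𝔭 h𝔭
    haveI h𝔭p : 𝔭.IsPrime := h𝔭.1.1
    let j := X.fromSpecStalk x
    let r : ↥(Spec (X.presheaf.stalk x)) := ⟨𝔭, h𝔭p⟩
    let η : X := j r
    have hηx : η ⤳ x := by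
      have : η ∈ Set.range j := ⟨r, rfl⟩
      rw [Scheme.range_fromSpecStalk] at this
      exact this
    have hjinj : Function.Injective j := j.isEmbedding.injective
    -- η is the generic point of an irreducible component
    have hcomp : closure {η} ∈ irreducibleComponents (X : Type u) := by
      refine ⟨isIrreducible_singleton.closure, ?_⟩
      intro Z' hZ' hle
      have hZc : IsIrreducible (closure Z') := hZ'.closure
      obtain ⟨ζ, hζ⟩ := QuasiSober.sober hZc isClosed_closure
      have hηZ : η ∈ closure Z' := subset_closure (hle (subset_closure rfl))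
      have hζη : ζ ⤳ η := by
        rw [specializes_iff_mem_closure, hζ.def]
        exact hηZ
      have hζmem : ζ ∈ Set.range j := by
        rw [Scheme.range_fromSpecStalk]
        exact hζη.trans hηx
      obtain ⟨r', hr'⟩ := hζmem
      have hspec : r' ⤳ r := by
        rw [← j.isEmbedding.toIsInducing.specializes_iff, hr']
        exact hζη
      have hle' : r'.asIdeal ≤ 𝔭 := (PrimeSpectrum.le_iff_specializes r' r).mpr hspec
      have heq : r'.asIdeal = 𝔭 := le_antisymm hle' (h𝔭.2 ⟨r'.isPrime, bot_le⟩ hle')
      have hrr : r' = r := PrimeSpectrum.ext heq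
      have hζeq : ζ = η := by rw [← hr', hrr]
      calc Z' ⊆ closure Z' := subset_closure
        _ = closure {ζ} := hζ.def.symm
        _ = closure {η} := by rw [hζeq]
    have hgr : Curv2.IsGeomReducedAt k X η := h _ hcomp η rfl
    rw [Groth.Agent.Helper4.GeomRedPt.curv2_geomReducedAt_iff] at hgr
    letI := Curv2.stalkAlgebra k X η
    let φ : X.presheaf.stalk x →ₐ[k] X.presheaf.stalk η :=
      { toRingHom := (X.presheaf.stalkSpecializes hηx).hom
        commutes' := by
          intro a
          show (X.presheaf.stalkSpecializes _).hom ((X.presheaf.germ ⊤ x trivial).hom _) =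
            (X.presheaf.germ ⊤ η trivial).hom _
          rw [← CommRingCat.comp_apply, TopCat.Presheaf.germ_stalkSpecializes] }
    refine ⟨X.presheaf.stalk η, inferInstance, Curv2.stalkAlgebra k X η, hgr, φ, ?_⟩
    have hpt : (Spec.map (X.presheaf.stalkSpecializes hηx))
        (IsLocalRing.closedPoint (X.presheaf.stalk η)) = r := by
      apply hjinj
      rw [← Scheme.Hom.comp_apply, Scheme.SpecMap_stalkSpecializes_fromSpecStalk]
      exact Scheme.fromSpecStalk_closedPoint
    intro a ha
    have h1 : a ∈ ((Spec.map (X.presheaf.stalkSpecializes hηx))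
        (IsLocalRing.closedPoint (X.presheaf.stalk η))).asIdeal := by
      show (X.presheaf.stalkSpecializes hηx).hom a ∈ IsLocalRing.maximalIdeal _
      have : (X.presheaf.stalkSpecializes hηx).hom a = 0 := ha
      rw [this]
      exact Ideal.zero_mem _
    rw [hpt] at h1
    exact h1
  constructor
  rw [geometrically_iff_of_commRing_of_isClosedUnderIsomorphisms]
  intro K _ _
  haveI : ∀ x' : ↥(pullback (X ↘ (Spec (CommRingCat.of k)))
      (Spec.map (CommRingCat.ofHom (algebraMap k K)))),
      _root_.IsReduced ((pullback (X ↘ (Spec (CommRingCat.of k)))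
        (Spec.map (CommRingCat.ofHom (algebraMap k K)))).presheaf.stalk x') :=
    fun x' => hx _ K x' rfl
  exact isReduced_of_isReduced_stalk _

end Groth.Agent.S1543
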