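import Groth.Statements.S1544
import Groth.Agent.Helper4.GeomRedPt
import Mathlib

set_option autoImplicit false
universe u
open CategoryTheory CategoryTheory.Limits AlgebraicGeometry
attribute [local instance] Curv2.resAlgebra Curv2.stalkAlgebra
open Variety

namespace Groth.Agent.S1544


/-- For an integral scheme over k, geometric reducedness of the scheme is equivalent to geometric
reducedness over k of the function field (the local ring at the generic point), i.e. a separable
extension of k in the sense of commutative algebra. The source states this for varieties;
integrality is what the proof uses. -/
theorem result (k : Type u) [Field k] (X : Scheme.{u}) [X.Over (Spec (CommRingCat.of k))] [IsIntegral X] :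
    GeometricallyReduced (X ↘ (Spec (CommRingCat.of k))) ↔ Algebra.IsGeometricallyReduced k X.functionField := by

  constructor
  · intro h
    have h1 : Curv2.IsGeomReducedAt k X (genericPoint X) := by
      intro L _ _ y _
      haveI : AlgebraicGeometry.IsReduced (Curv2.bc k X L) :=
        pullback_of_geometrically h.geometrically_isReduced L _
      infer_instance
    exact (Groth.Agent.Helper4.GeomRedPt.curv2_geomReducedAt_iff (genericPoint X)).mp h1
  · intro h
    have hx : ∀ x : X, Curv2.IsGeomReducedAt k X x := by
      intro x
      rw [Groth.Agent.Helper4.GeomRedPt.curv2_geomReducedAt_iff]
      let φ : X.presheaf.stalk x →ₐ[k] X.functionField :=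
        { toRingHom := algebraMap (X.presheaf.stalk x) X.functionField
          commutes' := by
            intro r
            show (X.presheaf.stalkSpecializes _).hom ((X.presheaf.germ ⊤ x trivial).hom _) =
              (X.presheaf.germ ⊤ (genericPoint X) trivial).hom _
            rw [← CommRingCat.comp_apply, TopCat.Presheaf.germ_stalkSpecializes] }
      exact Algebra.IsGeometricallyReduced.of_injective φ
        (IsFractionRing.injective (X.presheaf.stalk x) X.functionField)
    constructor
    rw [geometrically_iff_of_commRing_of_isClosedUnderIsomorphisms]
    intro K _ _
    haveI : ∀ x' : ↥(pullback (X ↘ (Spec (CommRingCat.of k)))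
        (Spec.map (CommRingCat.ofHom (algebraMap k K)))),
        _root_.IsReduced ((pullback (X ↘ (Spec (CommRingCat.of k)))
          (Spec.map (CommRingCat.ofHom (algebraMap k K)))).presheaf.stalk x') :=
      fun x' => hx _ K x' rfl
    exact isReduced_of_isReduced_stalk _

end Groth.Agent.S1544
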