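import Groth.Statements.S15495
import Mathlib

set_option autoImplicit false
universe u
open CAlg

namespace Groth.Agent.S15495

/-- In an Artinian local ring R whose maximal ideal m contains the prime number p, the multiplicative
group 1 + m is annihilated under some power of p: there is n with (1 + x)^(p^n) = 1 for every x in
m. (The published text makes this assertion inside a proof, for Artinian local algebras over the
Witt ring of a perfect field of characteristic p; only p ∈ m and the nilpotence of m are used.) -/
theorem result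
    (R : Type u) [CommRing R] [IsLocalRing R] [IsArtinianRing R]
    (p : ℕ) (hp : p.Prime) (hpm : (p : R) ∈ IsLocalRing.maximalIdeal R) :
    ∃ n : ℕ, ∀ x ∈ IsLocalRing.maximalIdeal R, (1 + x) ^ (p ^ n) = 1 := by
  classical
  set m := IsLocalRing.maximalIdeal R with hm
  obtain ⟨N, hN⟩ : ∃ N : ℕ, m ^ N = ⊥ := by
    have h1 : IsNilpotent ((⊥ : Ideal R).jacobson) := IsArtinianRing.isNilpotent_jacobson_bot
    rw [IsLocalRing.jacobson_eq_maximalIdeal ⊥ bot_ne_top] at h1
    obtain ⟨N, hN⟩ := h1
    exact ⟨N, hN⟩
  -- key: (1+x)^(p^k) - 1 ∈ m^(k+1)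
  have key : ∀ k : ℕ, ∀ x ∈ m, (1 + x) ^ (p ^ k) - 1 ∈ m ^ (k + 1) := by
    intro k
    induction k with
    | zero =>
      intro x hx
      simpa using hx
    | succ k ih =>
      intro x hx
      set y := (1 + x) ^ (p ^ k) - 1 with hy
      have hy1 : y ∈ m ^ (k + 1) := ih x hx
      have hym : y ∈ m := Ideal.pow_le_self (by omega) hy1
      have h1 : (1 + x) ^ (p ^ (k + 1)) = (1 + y) ^ p := by
        rw [pow_succ, pow_mul, hy]; ring
      obtain ⟨r, hr⟩ := exists_add_pow_prime_eq hp (1 : R) y
      rw [h1, hr, one_pow]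
      have e : (1 : R) + y ^ p + (p : R) * 1 * y * r - 1 = y ^ p + (p : R) * y * r := by ring
      rw [e]
      apply Ideal.add_mem
      · -- y^p = y * y^(p-1)
        have hyp : y ^ p = y * y ^ (p - 1) := by
          rw [← pow_succ']; congr 1; have := hp.two_le; omega
        rw [hyp, pow_succ m (k + 1)]
        apply Ideal.mul_mem_mul hy1
        exact Ideal.pow_mem_of_mem _ hym _ (by have := hp.two_le; omega)
      · rw [pow_succ m (k + 1), mul_comm (p : R) y, mul_assoc]
        apply Ideal.mul_mem_mul hy1
        exact Ideal.mul_mem_right _ _ hpm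
  refine ⟨N, fun x hx => ?_⟩
  have h := key N x hx
  have hle : m ^ (N + 1) ≤ m ^ N := Ideal.pow_le_pow_right (by omega)
  have h2 := hle h
  rw [hN, Ideal.mem_bot, sub_eq_zero] at h2
  exact h2

end Groth.Agent.S15495
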