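import Groth.Statements.S15501
import Mathlib

set_option autoImplicit false
open CategoryTheory CategoryTheory.Limits AlgebraicGeometry
open An

namespace Groth.Agent.S15501


/-- The base change of an elementary fibration f : X → S of smooth complex varieties along any morphism
u : S' → S of smooth complex varieties is an elementary fibration X ×_S S' → S', elementary
fibration being taken in the following sense: f factors as an open immersion j : X → X̄ followed by
f̄ : X̄ → S, where f̄ is smooth and is a closed subscheme of some projective space over S with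
geometrically irreducible fibres of dimension one, the complement of j(X) is the image of a closed
immersion Y → X̄ with Y finite, etale and surjective over S, and j(X) is dense in every fibre of f̄
(for smooth complex varieties the last clause is automatic, and this is the usual notion: a smooth
projective family of irreducible curves minus a finite etale multisection). (The published statement
also treats rational and coordinatised elementary fibrations; this row states only the plain case.) -/
theorem result (X S S' : Scheme.{0})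
    [X.Over An.SC] [Smooth (X ↘ An.SC)] [IsSeparated (X ↘ An.SC)] [QuasiCompact (X ↘ An.SC)]
    [S.Over An.SC] [Smooth (S ↘ An.SC)] [IsSeparated (S ↘ An.SC)] [QuasiCompact (S ↘ An.SC)]
    [S'.Over An.SC] [Smooth (S' ↘ An.SC)] [IsSeparated (S' ↘ An.SC)] [QuasiCompact (S' ↘ An.SC)]
    (f : X ⟶ S) [f.IsOver An.SC] (u : S' ⟶ S) [u.IsOver An.SC]
    (hf : An.IsElementaryFibration f) :
    An.IsElementaryFibration (pullback.snd f u) := by

  obtain ⟨Xb, Y, j, fb, i, hjf, hj, hi, hrange, hdense, hsm, ⟨n, c, hc, hcf⟩, hgeom, hfin, het,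
    hsurj⟩ := hf
  -- the base-changed data
  have e₁ : f = j ≫ fb := hjf.symm
  have e₂ : u = 𝟙 S' ≫ u := (Category.id_comp u).symm
  have e₃ : i ≫ fb = i ≫ fb := rfl
  let j' : pullback f u ⟶ pullback fb u :=
    pullback.map f u fb u j (𝟙 S') (𝟙 S) ((Category.comp_id _).trans e₁)
      ((Category.comp_id _).trans e₂)
  let i' : pullback (i ≫ fb) u ⟶ pullback fb u :=
    pullback.map (i ≫ fb) u fb u i (𝟙 S') (𝟙 S) ((Category.comp_id _).trans e₃)
      ((Category.comp_id _).trans e₂)
  have hj' : IsOpenImmersion j' := inferInstance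
  have hi' : IsClosedImmersion i' :=
    MorphismProperty.pullbackMap (P := @IsClosedImmersion) hi
      (inferInstanceAs (IsClosedImmersion (𝟙 S'))) e₃ e₂
  have hrj : Set.range j'.base = (pullback.fst fb u).base ⁻¹' Set.range j.base := by
    have := Scheme.Pullback.range_map (f := f) (g := u) fb u j (𝟙 S') (𝟙 S)
      ((Category.comp_id _).trans e₁) ((Category.comp_id _).trans e₂)
    rw [this]
    simp
  have hri : Set.range i'.base = (pullback.fst fb u).base ⁻¹' Set.range i.base := by
    have := Scheme.Pullback.range_map (f := i ≫ fb) (g := u) fb u i (𝟙 S') (𝟙 S)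
      ((Category.comp_id _).trans e₃) ((Category.comp_id _).trans e₂)
    rw [this]
    simp
  -- geometric fibres
  have hgeom' : ∀ (Ω : Type) [Field Ω] [IsAlgClosed Ω] (σ : Spec (CommRingCat.of Ω) ⟶ S'),
      IrreducibleSpace ↥(pullback (pullback.snd fb u) σ) ∧
        topologicalKrullDim ↥(pullback (pullback.snd fb u) σ) = 1 := by
    intro Ω _ _ σ
    obtain ⟨h1, h2⟩ := hgeom Ω (σ ≫ u)
    let e := Scheme.homeoOfIso (pullbackLeftPullbackSndIso fb u σ)
    refine ⟨?_, ?_⟩
    · rw [irreducibleSpace_def]
      have h3 := ((irreducibleSpace_def _).1 h1).image e.symm e.symm.continuous.continuousOn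
      have h4 : (e.symm '' (⊤ : Set _)) = Set.univ := Set.image_univ_of_surjective e.symm.surjective
      rwa [h4] at h3
    · rw [← h2]
      exact IsHomeomorph.topologicalKrullDim_eq e e.isHomeomorph
  -- geometric points
  have hgp : ∀ {T : Scheme.{0}} (t : T), ∃ (Ω : Type) (_ : Field Ω) (_ : IsAlgClosed Ω)
      (σ : Spec (CommRingCat.of Ω) ⟶ T), Set.range σ.base = {t} := by
    intro T t
    refine ⟨AlgebraicClosure (T.residueField t), inferInstance, inferInstance,
      Spec.map (CommRingCat.ofHom (algebraMap (T.residueField t)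
        (AlgebraicClosure (T.residueField t)))) ≫ T.fromSpecResidueField t, ?_⟩
    have key : ∀ y, (T.fromSpecResidueField t) y = t := fun y => by
      have : (T.fromSpecResidueField t) y ∈ Set.range (T.fromSpecResidueField t) := ⟨y, rfl⟩
      rw [Scheme.range_fromSpecResidueField] at this
      exact this
    apply Set.Subset.antisymm
    · rintro _ ⟨z, rfl⟩
      rw [Scheme.Hom.comp_apply]
      exact key _
    · intro x hx
      rw [Set.mem_singleton_iff] at hx
      rw [hx]
      have hne : Nonempty ↥(Spec (CommRingCat.of (AlgebraicClosure (T.residueField t)))) :=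
        inferInstanceAs (Nonempty (PrimeSpectrum (AlgebraicClosure (T.residueField t))))
      obtain ⟨z⟩ := hne
      refine ⟨z, ?_⟩
      rw [Scheme.Hom.comp_apply]
      exact key _
  -- fibres of the base change are irreducible
  have hirr : ∀ s' : S', IsIrreducible ((pullback.snd fb u).base ⁻¹' {s'}) := by
    intro s'
    obtain ⟨Ω, _, _, σ, hσ⟩ := hgp s'
    obtain ⟨h1, -⟩ := hgeom' Ω σ
    have h2 := ((irreducibleSpace_def _).1 h1).image (pullback.fst (pullback.snd fb u) σ).base
      (pullback.fst (pullback.snd fb u) σ).continuous.continuousOn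
    have h3 : (pullback.fst (pullback.snd fb u) σ).base '' (⊤ : Set _) =
        (pullback.snd fb u).base ⁻¹' {s'} := by
      rw [← hσ]
      have := Scheme.Pullback.range_fst (pullback.snd fb u) σ
      rw [← this]
      exact Set.image_univ
    rwa [h3] at h2
  -- density in fibres
  have hdense' : ∀ s' : S', (pullback.snd fb u).base ⁻¹' {s'} ⊆
      closure (Set.range j'.base ∩ (pullback.snd fb u).base ⁻¹' {s'}) := by
    intro s'
    -- a point of X' in the fibre
    obtain ⟨Ω, _, _, σ, hσ⟩ := hgp (u s')
    obtain ⟨h1, -⟩ := hgeom Ω σ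
    obtain ⟨w⟩ := h1.toNonempty
    have hw : (pullback.fst fb σ) w ∈ fb.base ⁻¹' {u s'} := by
      have : (pullback.fst fb σ) w ∈ Set.range (pullback.fst fb σ) := ⟨w, rfl⟩
      rw [Scheme.Pullback.range_fst, hσ] at this
      exact this
    have hw2 := hdense (u s') hw
    obtain ⟨_, ⟨⟨x, rfl⟩, hx⟩⟩ : (Set.range j.base ∩ fb.base ⁻¹' {u s'}).Nonempty := by
      by_contra hne
      rw [Set.not_nonempty_iff_eq_empty] at hne
      rw [hne, closure_empty] at hw2
      exact hw2
    have hfx : f x = u s' := by
      have : fb (j x) = u s' := hx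
      rw [← Scheme.Hom.comp_apply, hjf] at this
      exact this
    obtain ⟨z, hz1, hz2⟩ := Scheme.Pullback.exists_preimage_pullback x s' hfx
    have hz3 : (pullback.snd fb u) (j' z) = s' := by
      rw [← Scheme.Hom.comp_apply]
      have : j' ≫ pullback.snd fb u = pullback.snd f u ≫ 𝟙 S' := pullback.lift_snd _ _ _
      rw [this, Category.comp_id]
      exact hz2
    intro t ht
    rw [mem_closure_iff]
    intro o ho hto
    have h4 := (hirr s').isPreirreducible (Set.range j'.base) o j'.isOpenEmbedding.isOpen_range ho
      ⟨j' z, hz3, ⟨z, rfl⟩⟩ ⟨t, ht, hto⟩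
    obtain ⟨r, hr1, hr2, hr3⟩ := h4
    exact ⟨r, hr3, hr2, hr1⟩
  -- strongly projective
  have hproj : IsStronglyProjective (pullback.snd fb u) := by
    have ht : u ≫ specULiftZIsTerminal.from S = specULiftZIsTerminal.from S' :=
      specULiftZIsTerminal.hom_ext _ _
    let c₁ : pullback fb u ⟶ pullback (CohB1.ProjSpaceOver.toBase n S) u :=
      pullback.map fb u (CohB1.ProjSpaceOver.toBase n S) u c (𝟙 S') (𝟙 S)
        ((Category.comp_id _).trans hcf.symm) ((Category.comp_id _).trans e₂)
    have hc₁ : IsClosedImmersion c₁ :=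
      MorphismProperty.pullbackMap (P := @IsClosedImmersion) hc
        (inferInstanceAs (IsClosedImmersion (𝟙 S'))) hcf.symm e₂
    let e₁ : pullback (pullback.snd (CohB1.ProjSpace.toSpec n (ULift.{0} ℤ))
        (specULiftZIsTerminal.from S)) u ≅
        pullback (CohB1.ProjSpace.toSpec n (ULift.{0} ℤ)) (u ≫ specULiftZIsTerminal.from S) :=
      pullbackLeftPullbackSndIso (CohB1.ProjSpace.toSpec n (ULift.{0} ℤ))
        (specULiftZIsTerminal.from S) u
    let e₂' : pullback (CohB1.ProjSpace.toSpec n (ULift.{0} ℤ))
        (u ≫ specULiftZIsTerminal.from S) ≅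
        pullback (CohB1.ProjSpace.toSpec n (ULift.{0} ℤ)) (specULiftZIsTerminal.from S') :=
      pullback.congrHom rfl ht
    have a1 : e₁.hom ≫ pullback.snd (CohB1.ProjSpace.toSpec n (ULift.{0} ℤ))
        (u ≫ specULiftZIsTerminal.from S) =
        pullback.snd (pullback.snd (CohB1.ProjSpace.toSpec n (ULift.{0} ℤ))
          (specULiftZIsTerminal.from S)) u := pullbackLeftPullbackSndIso_hom_snd _ _ _
    have a2 : e₂'.hom ≫ pullback.snd (CohB1.ProjSpace.toSpec n (ULift.{0} ℤ))
        (specULiftZIsTerminal.from S') =
        pullback.snd (CohB1.ProjSpace.toSpec n (ULift.{0} ℤ))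
          (u ≫ specULiftZIsTerminal.from S) := by
      simp only [e₂', pullback.congrHom_hom]
      refine (pullback.lift_snd _ _ _).trans ?_
      exact Category.comp_id _
    let e : pullback (CohB1.ProjSpaceOver.toBase n S) u ≅ CohB1.ProjSpaceOver n S' := e₁ ≪≫ e₂'
    refine ⟨n, c₁ ≫ e.hom, inferInstance, ?_⟩
    have h1 : e.hom ≫ CohB1.ProjSpaceOver.toBase n S' =
        pullback.snd (CohB1.ProjSpaceOver.toBase n S) u := by
      change (e₁.hom ≫ e₂'.hom) ≫ pullback.snd (CohB1.ProjSpace.toSpec n (ULift.{0} ℤ))
        (specULiftZIsTerminal.from S') = pullback.snd (pullback.snd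
          (CohB1.ProjSpace.toSpec n (ULift.{0} ℤ)) (specULiftZIsTerminal.from S)) u
      rw [Category.assoc, a2, a1]
    rw [Category.assoc, h1]
    have : c₁ ≫ pullback.snd (CohB1.ProjSpaceOver.toBase n S) u = pullback.snd fb u ≫ 𝟙 S' :=
      pullback.lift_snd _ _ _
    rw [this, Category.comp_id]
  refine ⟨pullback fb u, pullback (i ≫ fb) u, j', pullback.snd fb u, i', ?_, hj', hi', ?_,
    hdense', inferInstance, hproj, hgeom', ?_, ?_, ?_⟩
  · have : j' ≫ pullback.snd fb u = pullback.snd f u ≫ 𝟙 S' := pullback.lift_snd _ _ _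
    rw [this, Category.comp_id]
  · rw [hrj, hri, hrange, Set.preimage_compl]
  · have : i' ≫ pullback.snd fb u = pullback.snd (i ≫ fb) u := by
      have : i' ≫ pullback.snd fb u = pullback.snd (i ≫ fb) u ≫ 𝟙 S' := pullback.lift_snd _ _ _
      rw [this, Category.comp_id]
    rw [this]
    infer_instance
  · have : i' ≫ pullback.snd fb u = pullback.snd (i ≫ fb) u := by
      have : i' ≫ pullback.snd fb u = pullback.snd (i ≫ fb) u ≫ 𝟙 S' := pullback.lift_snd _ _ _
      rw [this, Category.comp_id]
    rw [this]
    infer_instance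
  · have : i' ≫ pullback.snd fb u = pullback.snd (i ≫ fb) u := by
      have : i' ≫ pullback.snd fb u = pullback.snd (i ≫ fb) u ≫ 𝟙 S' := pullback.lift_snd _ _ _
      rw [this, Category.comp_id]
    rw [this]
    haveI : Surjective (i ≫ fb) := ⟨hsurj⟩
    exact (inferInstance : Surjective (pullback.snd (i ≫ fb) u)).surj

end Groth.Agent.S15501
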