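import Groth.Statements.S15505
import Mathlib

set_option autoImplicit false
universe u v w
open FrobAlg

namespace Groth.Agent.S15505

/-- Let k be an algebraically closed field of characteristic p, V a k-vector space, φ a p⁻¹-linear
endomorphism of V (additive, φ(a·v) = a^{1/p}·φ(v)) and b a finite basis of V consisting of vectors
fixed by φ. Then the vectors fixed by φ are exactly the combinations of the b_i with coefficients in
the prime field: v is fixed if and only if v = Σ c_i·b_i with all c_i in the image of ℤ/p. -/
theorem result (p : ℕ) [Fact p.Prime]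
    (k : Type u) [Field k] [CharP k p] [IsAlgClosed k]
    (V : Type v) [AddCommGroup V] [Module k V]
    (φ : V →ₛₗ[((frobeniusEquiv k p).symm : k →+* k)] V)
    {ι : Type w} [Fintype ι] (b : Module.Basis ι k V) (hb : ∀ i, φ (b i) = b i) (v : V) :
    φ v = v ↔ ∃ c : ι → ZMod p, v = ∑ i, (ZMod.castHom (dvd_refl p) k (c i)) • b i := by
  classical
  have hσfix : ∀ z : ZMod p, ((frobeniusEquiv k p).symm : k →+* k) (ZMod.castHom (dvd_refl p) k z) = ZMod.castHom (dvd_refl p) k z := by
    intro z
    show (frobeniusEquiv k p).symm _ = _
    rw [RingEquiv.symm_apply_eq, frobeniusEquiv_apply, frobenius_def, ← map_pow, ZMod.pow_card]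
  have hφsum : ∀ c : ι → k, φ (∑ i, c i • b i) = ∑ i, ((frobeniusEquiv k p).symm : k →+* k) (c i) • b i := by
    intro c
    rw [map_sum]
    apply Finset.sum_congr rfl
    intro i _
    rw [map_smulₛₗ, hb]
  constructor
  · intro hv
    have hrepr : v = ∑ i, b.repr v i • b i := (b.sum_repr v).symm
    have h1 : φ v = ∑ i, ((frobeniusEquiv k p).symm : k →+* k) (b.repr v i) • b i := by
      conv_lhs => rw [hrepr]
      exact hφsum _
    rw [hv] at h1
    have h2 : ∀ i, b.repr v i = ((frobeniusEquiv k p).symm : k →+* k) (b.repr v i) := by
      intro i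
      have := congrArg (fun w => b.repr w i) h1
      simp only [map_sum, map_smul, Module.Basis.repr_self, Finsupp.smul_single, smul_eq_mul, mul_one,
        Finsupp.coe_finsetSum, Finset.sum_apply, Finsupp.single_apply, Finset.sum_ite_eq',
        Finset.mem_univ, if_true] at this
      exact this
    have h3 : ∀ i, b.repr v i ∈ (⊥ : Subfield k) := by
      intro i
      rw [Subfield.mem_bot_iff_pow_eq_self k p]
      have := h2 i
      have h4 : (frobeniusEquiv k p) (((frobeniusEquiv k p).symm : k →+* k) (b.repr v i)) = b.repr v i := by
        show (frobeniusEquiv k p) ((frobeniusEquiv k p).symm _) = _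
        simp
      rw [← this, frobeniusEquiv_apply, frobenius_def] at h4
      exact h4
    have h5 : ∀ i, ∃ z : ZMod p, ZMod.castHom (dvd_refl p) k z = b.repr v i := by
      intro i
      have := h3 i
      rw [← ZMod.fieldRange_castHom_eq_bot p] at this
      exact this
    choose c hc using h5
    refine ⟨c, ?_⟩
    conv_lhs => rw [hrepr]
    apply Finset.sum_congr rfl
    intro i _
    rw [hc]
  · rintro ⟨c, rfl⟩
    rw [hφsum]
    apply Finset.sum_congr rfl
    intro i _
    rw [hσfix]

end Groth.Agent.S15505
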