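import Groth.Statements.S15522
import Groth.Agent.Helper1.Bridge8
import Groth.Agent.Helper1.Bridge4
import Groth.Agent.S2381

set_option autoImplicit false
universe u
attribute [local instance] HasDerivedCategory.standard
open Coherent

namespace Groth.Agent.S15522

open AlgebraicGeometry CategoryTheory in
/-- Let A be a reduced Noetherian ring, X a proper scheme over Spec A with structure morphism f, F a
coherent O_X-module flat over Spec A, and p a natural number such that the function y ↦ dim_{κ(y)}
H^p(X_y, F_y) is locally constant on Spec A. For each q write T^q for the functor M ↦ H^q(X, f^*(M~)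
⊗ F) from A-modules to abelian groups. Then T^p takes surjections to surjections, and so does
T^(p-1) when p ≥ 1; equivalently, every base-change map H^q(X, F) ⊗_A M → H^q(X, F ⊗_A M) is
bijective for q = p and q = p - 1. (The published statement also asserts that R^p f_*F is locally
free of finite rank; this row states the two exchange properties only, over an affine base.) -/
theorem result (A : Type u) [CommRing A]
    [IsNoetherianRing A] [IsReduced A] (X : Scheme.{u}) [X.Over (Spec (CommRingCat.of A))]
    [IsProper (X ↘ Spec (CommRingCat.of A))] (F : X.Modules) (hF : Coh.IsCoh F)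
    (hfl : FlatMod.IsFlatOver (X ↘ Spec (CommRingCat.of A)) F) (p : ℕ)
    (hconst : IsLocallyConstant (CohIII.fiberRank (X ↘ Spec (CommRingCat.of A)) F p)) :
    (CohIII.tensorAFunctor A F ⋙ CohIII.HAb X p).PreservesEpimorphisms ∧
      ∀ q : ℕ, q + 1 = p → (CohIII.tensorAFunctor A F ⋙ CohIII.HAb X q).PreservesEpimorphisms := by
  obtain ⟨L, hLff, -, -, hbr, hrank, -⟩ :=
    Groth.Agent.Helper1.Bridge.exists_complex' A X F hF hfl
  have hLfl : ∀ i, Module.Flat A (L.X i) := fun i => by
    haveI := (hLff i).2
    infer_instance
  have hP : ∀ i, Module.Finite A (L.X i) ∧ Module.Flat A (L.X i) := fun i => ⟨(hLff i).1, hLfl i⟩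
  have hfun : CohIII.dRank L (-(p : ℤ)) = CohIII.fiberRank (X ↘ Spec (CommRingCat.of A)) F p :=
    funext fun y => hrank p y
  have hlc : IsLocallyConstant (CohIII.dRank L (-(p : ℤ))) := by
    rw [hfun]
    exact hconst
  have hex := (Groth.Agent.S2381.result L hP (-(p : ℤ))).2 inferInstance hlc
  constructor
  · obtain ⟨e⟩ := hbr p
    exact (Groth.Agent.Helper1.Bridge.preservesEpi_iff e).mpr hex.2
  · intro q hq
    obtain ⟨e⟩ := hbr q
    refine (Groth.Agent.Helper1.Bridge.preservesEpi_iff e).mpr ?_
    exact (Groth.Agent.Helper1.FlatCx.chain_preservesEpi_iff_preservesMono L hLfl (-(q : ℤ))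
      (-(p : ℤ)) (by omega)).mpr hex.1

end Groth.Agent.S15522
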