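import Groth.Statements.S15524
import Mathlib
import Groth.Agent.S7825
-- import your own Groth.Agent.* helpers here

set_option autoImplicit false
open Finset
open Zeta

namespace Groth.Agent.S15524

/-- Let q ≥ 1 and let α_1, …, α_{2g} be complex numbers permuted by α ↦ q/α, i.e. α_{σ(i)} α_i = q for a
permutation σ of the indices; these play the role of the inverse roots of the numerator of the zeta
function of a curve over a field with q elements, for which #X(F_{q^N}) = q^N + 1 − Σ_i α_i^N. If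
for some d ≥ 1 and real C one has |Σ_i α_i^{dN}| ≤ C q^{dN/2} for every N ≥ 1, then |α_i|^2 = q for
every i (the Riemann hypothesis for the curve). -/
theorem result {g : ℕ} (q : ℕ) (hq : 0 < q)
    (α : Fin (2 * g) → ℂ) (σ : Equiv.Perm (Fin (2 * g))) (hσ : ∀ i, α (σ i) * α i = q)
    (d : ℕ) (hd : 0 < d) (C : ℝ)
    (hC : ∀ N : ℕ, 1 ≤ N → ‖∑ i, α i ^ (d * N)‖ ≤ C * (q : ℝ) ^ ((d : ℝ) * N / 2))
    (i : Fin (2 * g)) : ‖α i‖ ^ 2 = q := by
  have hq0 : (0 : ℝ) < q := by exact_mod_cast hq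
  set s : ℝ := (q : ℝ) ^ ((d : ℝ) / 2) with hs
  have hs0 : 0 < s := Real.rpow_pos_of_pos hq0 _
  have hsN : ∀ N : ℕ, s ^ N = (q : ℝ) ^ ((d : ℝ) * N / 2) := by
    intro N
    rw [hs, ← Real.rpow_natCast, ← Real.rpow_mul hq0.le]
    congr 1
    ring
  let β : Fin (2 * g) → ℂ := fun j => α j ^ d / (s : ℂ)
  have hβ : ∀ r : ℕ, 1 ≤ r → ‖∑ j, β j ^ r‖ ≤ C := by
    intro r hr
    have h1 : ∑ j, β j ^ r = (∑ j, α j ^ (d * r)) / ((s : ℂ) ^ r) := by
      rw [Finset.sum_div]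
      apply Finset.sum_congr rfl
      intro j _
      simp only [β]
      rw [div_pow, ← pow_mul]
    rw [h1, norm_div, norm_pow, Complex.norm_real, Real.norm_of_nonneg hs0.le, div_le_iff₀ (pow_pos hs0 r),
      hsN r]
    exact hC r hr
  have hle : ∀ j, ‖α j‖ ≤ (q : ℝ) ^ ((1 : ℝ) / 2) := by
    intro j
    have h1 := Groth.Agent.S7825.result β C hβ j
    simp only [β] at h1
    rw [norm_div, norm_pow, Complex.norm_real, Real.norm_of_nonneg hs0.le, div_le_one hs0] at h1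
    have h2 : s = ((q : ℝ) ^ ((1 : ℝ) / 2)) ^ d := by
      rw [hs, ← Real.rpow_natCast, ← Real.rpow_mul hq0.le]
      congr 1
      ring
    rw [h2] at h1
    exact (pow_le_pow_iff_left₀ (norm_nonneg _) (Real.rpow_nonneg hq0.le _) (by omega)).1 h1
  have hsq : ((q : ℝ) ^ ((1 : ℝ) / 2)) ^ 2 = q := by
    rw [← Real.rpow_natCast, ← Real.rpow_mul hq0.le]
    norm_num
  have hprod : ‖α (σ i)‖ * ‖α i‖ = q := by
    rw [← norm_mul, hσ i]
    simp
  set t := (q : ℝ) ^ ((1 : ℝ) / 2) with ht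
  have ht0 : 0 < t := Real.rpow_pos_of_pos hq0 _
  have h1 := hle i
  have h2 := hle (σ i)
  have h3 : t ≤ ‖α i‖ := by
    by_contra hlt
    push Not at hlt
    have : ‖α (σ i)‖ * ‖α i‖ < t * t := by
      calc ‖α (σ i)‖ * ‖α i‖ ≤ t * ‖α i‖ := mul_le_mul_of_nonneg_right h2 (norm_nonneg _)
        _ < t * t := mul_lt_mul_of_pos_left hlt ht0
    rw [hprod, ← sq, hsq] at this
    exact lt_irrefl _ this
  have h4 : ‖α i‖ = t := le_antisymm h1 h3
  rw [h4, hsq]

end Groth.Agent.S15524
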