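import Groth.Statements.S15544
import Groth.Agent.Helper1.ZCon5
import Groth.Agent.S2422

set_option autoImplicit false
open CategoryTheory AlgebraicGeometry
universe u
open Coherent

namespace Groth.Agent.S15544

/-- Let X and Y be integral schemes, Y locally Noetherian with all local rings integrally closed, and f
: X ⟶ Y a proper birational morphism (the generic point of X maps to that of Y and the stalk map
there is an isomorphism). Then every fibre of f is connected and nonempty. (The published statement
takes X and Y Noetherian; over a locally Noetherian Y this is the same assertion fibre by fibre.) -/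
theorem result {X Y : Scheme.{u}} [IsIntegral X]
    [IsIntegral Y] [IsLocallyNoetherian Y] (hY : Pi1.IsNormalScheme Y) (f : X ⟶ Y) [IsProper f]
    (hgen : f.base (genericPoint X) = genericPoint Y) (hbir : IsIso (f.stalkMap (genericPoint X)))
    (y : Y) : ConnectedSpace ↥(f.fiber y) := by
  haveI : IsLocallyNoetherian X := LocallyOfFiniteType.isLocallyNoetherian f
  have hdom : f.base (genericPoint X) ⤳ genericPoint Y := hgen ▸ specializes_rfl
  have hsurj : Function.Surjective (CohIII.stalkToFunctionField f (genericPoint Y) hdom) := by
    unfold CohIII.stalkToFunctionField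
    have h1 : Function.Bijective (f.stalkMap (genericPoint X)).hom :=
      (ConcreteCategory.isIso_iff_bijective _).mp hbir
    have e : Inseparable (f.base (genericPoint X)) (genericPoint Y) := Inseparable.of_eq hgen
    have h2 : Function.Bijective (Y.presheaf.stalkSpecializes hdom).hom :=
      (ConcreteCategory.isIso_iff_bijective _).mp
        (inferInstanceAs (IsIso (Y.presheaf.stalkCongr e).inv))
    rw [RingHom.coe_comp]
    exact h1.2.comp h2.2
  have hiso := Groth.Agent.S2422.result hY f hdom (fun x _ => hsurj x)
  obtain ⟨_, ⟨V, hV : IsAffineOpen V, rfl⟩, hyV, -⟩ :=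
    Y.isBasis_affineOpens.exists_subset_of_mem_open (Set.mem_univ y) isOpen_univ
  exact Groth.Agent.Helper1.ZCon.connectedSpace_fiber_of_bijective_app f y hV hyV
    ((ConcreteCategory.isIso_iff_bijective _).mp (hiso V))

end Groth.Agent.S15544
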