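import Groth.Statements.S15548
import Groth.Agent.Helper1.TorZeroNat
import Groth.Agent.Helper1.FlatCxChase
open Groth.Agent.Helper1.TorLib CategoryTheory CategoryTheory.MonoidalCategory

set_option autoImplicit false
universe u
open CategoryTheory
open CAlg

namespace Groth.Agent.S15548

open Groth.Agent.Helper1.FlatCx TensorProduct in
lemma aux {R : Type u} [CommRing R] (I : Ideal R) {F : Type u} [AddCommGroup F] [Module R F]
    (K : Submodule R F) (n c : ℕ)
    (hc : I ^ (n + c) • (⊤ : Submodule R F) ⊓ K ≤ I ^ n • K) (h : I ^ (n + c) ≤ I ^ n)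
    (w : K ⊗[R] (R ⧸ I ^ (n + c)))
    (hw0 : (LinearMap.rTensor (R ⧸ I ^ (n + c)) K.subtype) w = 0) :
    (LinearMap.lTensor K (Submodule.factor h)) w = 0 := by
  obtain ⟨x, hx⟩ := exists_tmul_one K (I ^ (n + c)) w
  rw [hx, LinearMap.rTensor_tmul, tmul_one_eq_zero_iff] at hw0
  have hxK : (x : F) ∈ I ^ n • K := hc ⟨hw0, x.2⟩
  have hx' : x ∈ I ^ n • (⊤ : Submodule R K) := (Submodule.mem_smul_top_iff _ K x).mpr hxK
  rw [hx, LinearMap.lTensor_tmul]
  have h1 : Submodule.factor h (1 : R ⧸ I ^ (n + c)) = 1 := rfl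
  rw [h1, tmul_one_eq_zero_iff]
  exact hx'

/-- Let R be a Noetherian commutative ring, I an ideal of R and M a finitely generated R-module. Then
for every natural number n there is m ≥ n such that the map Tor_1^R(M, R/I^m) → Tor_1^R(M, R/I^n)
induced by the projection R/I^m → R/I^n is the zero map. Here Tor_1^R(M, -) is the first left
derived functor of M ⊗_R - (derived in the second variable). -/
theorem result (R : Type u) [CommRing R] [IsNoetherianRing R] (I : Ideal R)
    (M : Type u) [AddCommGroup M] [Module R M] [Module.Finite R M] (n : ℕ) :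
    ∃ m : ℕ, n ≤ m ∧ ∀ h : I ^ m ≤ I ^ n,
      ((CategoryTheory.Tor (ModuleCat.{u} R) 1).obj (ModuleCat.of R M)).map
        (ModuleCat.ofHom (Submodule.factor h)) = 0 := by
  classical
  obtain ⟨k, π, hπ⟩ := Module.Finite.exists_fin' R M
  let K : Submodule R (Fin k → R) := LinearMap.ker π
  have hS := scOfLinear_shortExact (N₁ := K) (N₂ := (Fin k → R)) (N₃ := M) K.subtype π
    K.injective_subtype hπ (LinearMap.exact_subtype_ker_map π)
  obtain ⟨c, hc⟩ := Ideal.exists_pow_inf_eq_pow_smul I K
  refine ⟨n + c, Nat.le_add_right n c, fun h => ?_⟩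
  haveI : Module.Flat R ↑(scOfLinear K.subtype π (LinearMap.exact_subtype_ker_map π)).X₂ :=
    inferInstanceAs (Module.Flat R (Fin k → R))
  haveI := mono_torOneToTensor hS (ModuleCat.of R (R ⧸ I ^ n))
  refine (cancel_mono (torOneToTensor hS (ModuleCat.of R (R ⧸ I ^ n)))).mp ?_
  refine Eq.trans (torOneToTensor_naturality hS (ModuleCat.ofHom (Submodule.factor h))) ?_
  refine Eq.trans ?_ Limits.zero_comp.symm
  ext z
  have hw0 := LinearMap.congr_fun (congrArg ModuleCat.Hom.hom
    (torOneToTensor_comp hS (ModuleCat.of R (R ⧸ I ^ (n + c))))) z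
  have hc' : I ^ (n + c) • (⊤ : Submodule R (Fin k → R)) ⊓ K ≤ I ^ n • K := by
    rw [hc (n + c) (Nat.le_add_left c n), Nat.add_sub_cancel]
    exact Submodule.smul_mono le_rfl inf_le_right
  exact aux I K n c hc' h _ hw0

end Groth.Agent.S15548
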