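import Groth.Statements.S15553
import Groth.Agent.Helper6.StkKanF

set_option autoImplicit false
universe v₁ v₂ v₃ u₁ u₂ u₃
open CategoryTheory
open FibCat

namespace Groth.Agent.S15553

/-- Let f : C ⥤ D be a fibred category such that every fibre of f is non-empty and has trivial
fundamental groupoid in the sense that for every groupoid G the constant-functor functor G ⥤ (f⁻¹(Y)
⥤ G) is an equivalence; let p : F ⥤ D be a category fibred in groupoids over D. Then restriction
along f, from sections of F over D (functors D ⥤ F over D, with natural transformations over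
identities) to sections of F over the diagram f (functors C ⥤ F over D), is an equivalence of
categories. (The published statement allows any fibred category F with its cartesian sections; this
row takes F fibred in groupoids, where every arrow is cartesian and every section is a cartesian
section. The test groupoids G are taken with objects and morphisms in a universe level containing
all the categories involved.) -/
theorem result
    {C : Type u₁} [Category.{v₁} C] {D : Type u₂} [Category.{v₂} D] {F : Type u₃} [Category.{v₃} F]
    (f : C ⥤ D) [f.IsFibered] (p : F ⥤ D) [FibCat.IsFibGrpd p]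
    (hf : ∀ Y : D, W4c2modmodulilect.HasContractibleNerve.{max u₁ u₂ u₃ v₁ v₂ v₃, max u₁ u₂ u₃ v₁ v₂ v₃} (f.Fiber Y)) :
    (Stk.restr (FibCat.toSelf (BasedCategory.ofFunctor f)) (BasedCategory.ofFunctor p)).IsEquivalence := by
  have hp : FibCat.IsFibGrpd p := inferInstance
  have h𝒮 : FibCat.IsFibGrpd (BasedCategory.ofFunctor p).p := hp
  have Hc : ∀ b : D, IsConnected (StructuredArrow b f) := fun b =>
    Groth.Agent.Helper6.StkKanF.isConnected_structuredArrow f b
      (Groth.Agent.Helper6.StkKanC.isConnected_of_contractible.{max u₁ u₂ u₃ v₁ v₂ v₃} (hf b))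
  have H3 : ∀ (b : D) (Φ : StructuredArrow b f ⥤ p.Fiber b),
      ∃ t, Nonempty ((Functor.const _).obj t ⟶ Φ) := fun b Φ =>
    Groth.Agent.Helper6.StkKanF.exists_cone_structuredArrow f b (fun Ψ =>
      @Groth.Agent.Helper6.StkKanC.exists_cone_of_contractible.{max u₁ u₂ u₃ v₁ v₂ v₃} _ _ _ _
        (Groth.Agent.Helper3.FibGrpd.isGroupoid_fiber hp b) (hf b) Ψ) Φ
  exact Groth.Agent.Helper6.StkKan.restr_isEquivalence (𝒜 := BasedCategory.ofFunctor f)
    (ℬ := FibCat.selfOver D) (𝒮 := BasedCategory.ofFunctor p) h𝒮
    (FibCat.toSelf (BasedCategory.ofFunctor f)) Hc H3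

end Groth.Agent.S15553
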