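import Groth.Statements.S15557
import Mathlib

set_option autoImplicit false
universe v u
open CategoryTheory
open CohDer

namespace Groth.Agent.S15557

open CategoryTheory.Pretriangulated in
/-- Let T = (X, Y, Z) and T' = (X', Y', Z') be distinguished triangles in a pretriangulated category and
assume that every morphism X → Z' and every morphism X → Z'[-1] is zero. Then composing with the
first map X' → Y' of T' is a bijection Hom(X, X') → Hom(X, Y'), and composing with the second map Y
→ Z of T is a bijection Hom(Z, Z') → Hom(Y, Z'). (The published lemma is for triangulated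
categories; the octahedral axiom plays no role.) -/
theorem result {D : Type u} [Category.{v} D] [Preadditive D]
    [Limits.HasZeroObject D] [HasShift D ℤ] [∀ n : ℤ, (shiftFunctor D n).Additive] [Pretriangulated D]
    (T T' : Triangle D) (hT : T ∈ distinguishedTriangles) (hT' : T' ∈ distinguishedTriangles)
    (hXZ : ∀ u : T.obj₁ ⟶ T'.obj₃, u = 0)
    (hXZ' : ∀ u : T.obj₁ ⟶ (shiftFunctor D (-1 : ℤ)).obj T'.obj₃, u = 0) :
    Function.Bijective (fun u : T.obj₁ ⟶ T'.obj₁ => u ≫ T'.mor₁) ∧
      Function.Bijective (fun w : T.obj₃ ⟶ T'.obj₃ => T.mor₂ ≫ w) := by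
  classical
  refine ⟨⟨?_, ?_⟩, ⟨?_, ?_⟩⟩
  · -- injective
    intro u u' huu
    simp only at huu
    have h0 : (u - u') ≫ T'.mor₁ = 0 := by rw [Preadditive.sub_comp, huu, sub_self]
    have hd := Pretriangulated.inv_rot_of_distTriang T' hT'
    obtain ⟨g, hg⟩ := Pretriangulated.Triangle.coyoneda_exact₂ T'.invRotate hd (u - u') h0
    have hg0 : g = 0 := hXZ' g
    exact sub_eq_zero.mp (hg.trans (by rw [hg0]; exact Limits.zero_comp))
  · -- surjective
    intro v
    obtain ⟨g, hg⟩ := Pretriangulated.Triangle.coyoneda_exact₂ T' hT' v (hXZ _)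
    exact ⟨g, hg.symm⟩
  · intro w w' hww
    simp only at hww
    have h0 : T.mor₂ ≫ (w - w') = 0 := by rw [Preadditive.comp_sub, hww, sub_self]
    obtain ⟨g, hg⟩ := Pretriangulated.Triangle.yoneda_exact₃ T hT (w - w') h0
    have hg0 : g = 0 := by
      let e := (shiftFunctorCompIsoId D (-1 : ℤ) (1 : ℤ) (by simp)).app T'.obj₃
      have h1 : g ≫ e.inv = (shiftFunctor D (1 : ℤ)).map ((shiftFunctor D (1 : ℤ)).preimage (g ≫ e.inv)) :=
        ((shiftFunctor D (1 : ℤ)).map_preimage (g ≫ e.inv)).symm
      have hp := hXZ' ((shiftFunctor D (1 : ℤ)).preimage (g ≫ e.inv))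
      rw [hp, Functor.map_zero] at h1
      have h2 : g ≫ e.inv = 0 ≫ e.inv := by rw [h1, Limits.zero_comp]
      exact (cancel_mono e.inv).mp h2
    rw [hg0, Limits.comp_zero] at hg
    exact sub_eq_zero.mp hg
  · intro v
    obtain ⟨g, hg⟩ := Pretriangulated.Triangle.yoneda_exact₂ T hT v (hXZ _)
    exact ⟨g, hg.symm⟩

end Groth.Agent.S15557
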