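import Groth.Statements.S15560
import Mathlib

set_option autoImplicit false
universe u v w
open KronMod

namespace Groth.Agent.S15560

/-- Let f be a Kronecker module with n arrows over a field K, from a space V of dimension d₋₁ > 0 to a
space W of dimension d₀ > 0. If n·d₋₁ < d₀ or n·d₀ < d₋₁, then f is not semistable; that is, there
are no semistable Kronecker modules of dimension vector (d₋₁, d₀). (The published statement assumes
K algebraically closed of characteristic zero and n ≥ 2; this row allows any field K and any number
n of arrows.) -/
theorem result (K : Type u) [Field K] (V : Type v) (W : Type w)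
    [AddCommGroup V] [Module K V] [FiniteDimensional K V]
    [AddCommGroup W] [Module K W] [FiniteDimensional K W]
    (n : ℕ) (f : Fin n → (V →ₗ[K] W))
    (hV : 0 < Module.finrank K V) (hW : 0 < Module.finrank K W)
    (h : n * Module.finrank K V < Module.finrank K W ∨ n * Module.finrank K W < Module.finrank K V) :
    ¬ KronMod.IsSemistable f := by
  classical
  rintro ⟨_, hss⟩
  rcases h with h | h
  · -- W' = range of the sum map
    set Φ : (Fin n → V) →ₗ[K] W := LinearMap.lsum K (fun _ : Fin n => V) K f with hΦ
    have hsub : KronMod.IsSubrep f ⊤ (LinearMap.range Φ) := by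
      intro j
      rintro _ ⟨v, _, rfl⟩
      refine ⟨Pi.single j v, ?_⟩
      rw [hΦ, LinearMap.lsum_apply]
      simp only [LinearMap.sum_apply, LinearMap.comp_apply, LinearMap.proj_apply]
      rw [Finset.sum_eq_single j]
      · simp
      · intro i _ hij
        simp [Pi.single_eq_of_ne hij]
      · intro hj; exact absurd (Finset.mem_univ j) hj
    have hrk : Module.finrank K (LinearMap.range Φ) ≤ n * Module.finrank K V := by
      have := LinearMap.finrank_range_le Φ
      rw [Module.finrank_pi_fintype] at this
      simpa using this
    have hne : (LinearMap.range Φ) ≠ ⊤ := by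
      intro htop
      rw [htop, finrank_top] at hrk
      omega
    have h1 := hss ⊤ (LinearMap.range Φ) hsub
      (by
        rintro ⟨hb, _⟩
        have : Module.finrank K (⊤ : Submodule K V) = 0 := by rw [hb]; simp
        rw [finrank_top] at this
        omega)
      (by rintro ⟨_, ht⟩; exact hne ht)
    rw [finrank_top] at h1
    have : Module.finrank K W * Module.finrank K V ≤ Module.finrank K V * (n * Module.finrank K V) :=
      h1.trans (Nat.mul_le_mul_left _ hrk)
    have h2 : Module.finrank K W ≤ n * Module.finrank K V := by
      rw [mul_comm] at this
      exact Nat.le_of_mul_le_mul_left this hV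
    omega
  · set Ψ : V →ₗ[K] (Fin n → W) := LinearMap.pi f with hΨ
    have hsub : KronMod.IsSubrep f (LinearMap.ker Ψ) ⊥ := by
      intro j
      rintro _ ⟨v, hv, rfl⟩
      rw [SetLike.mem_coe, LinearMap.mem_ker] at hv
      have := congrFun hv j
      simp only [hΨ, LinearMap.pi_apply, Pi.zero_apply] at this
      rw [this]
      exact Submodule.zero_mem _
    have hrn := LinearMap.finrank_range_add_finrank_ker Ψ
    have hrk : Module.finrank K (LinearMap.range Ψ) ≤ n * Module.finrank K W := by
      have := Submodule.finrank_le (LinearMap.range Ψ)
      rw [Module.finrank_pi_fintype] at this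
      simpa using this
    have hker : 0 < Module.finrank K (LinearMap.ker Ψ) := by omega
    have hne : LinearMap.ker Ψ ≠ ⊥ := by
      intro hb
      rw [hb] at hker
      simp at hker
    have h1 := hss (LinearMap.ker Ψ) ⊥ hsub (by rintro ⟨hb, _⟩; exact hne hb)
      (by
        rintro ⟨_, ht⟩
        have : Module.finrank K (⊥ : Submodule K W) = Module.finrank K W := by rw [ht, finrank_top]
        simp at this
        omega)
    simp only [finrank_bot, mul_zero, Nat.le_zero, mul_eq_zero] at h1
    omega

end Groth.Agent.S15560
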