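import Groth.Statements.S15562
import Mathlib
import Groth.Agent.Helper7.Kron

set_option autoImplicit false
universe u v w
open KronMod

namespace Groth.Agent.S15562

/-- Over a field K, for V of dimension d₋₁ > 0 and W of dimension n·d₋₁, semistable Kronecker modules
with n arrows from V to W exist, and any two of them are isomorphic as Kronecker modules; in other
words the moduli space K(n; d₋₁, n·d₋₁) of semistable Kronecker modules is a single point. (The
published statement assumes K algebraically closed of characteristic zero and n ≥ 2; this row allows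
any field K and any number n of arrows.) -/
theorem result (K : Type u) [Field K] (V : Type v) (W : Type w)
    [AddCommGroup V] [Module K V] [FiniteDimensional K V]
    [AddCommGroup W] [Module K W] [FiniteDimensional K W]
    (n : ℕ) (hV : 0 < Module.finrank K V) (hW : Module.finrank K W = n * Module.finrank K V) :
    (∃ f : Fin n → (V →ₗ[K] W), KronMod.IsSemistable f) ∧
    ∀ f f' : Fin n → (V →ₗ[K] W), KronMod.IsSemistable f → KronMod.IsSemistable f' →
      KronMod.AreIso f f' := by
  classical
  have hdim : Module.finrank K (Fin n → V) = Module.finrank K W := by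
    rw [Module.finrank_pi_fintype, hW]; simp
  constructor
  · let e : (Fin n → V) ≃ₗ[K] W := LinearEquiv.ofFinrankEq _ _ hdim
    refine ⟨fun j => (e : (Fin n → V) →ₗ[K] W) ∘ₗ LinearMap.single K (fun _ : Fin n => V) j, ?_⟩
    rw [Groth.Agent.Helper7.Kron.ss_iff_Phi_bij _ hV hW]
    have : ⇑(Groth.Agent.Helper7.Kron.Phi
        (fun j => (e : (Fin n → V) →ₗ[K] W) ∘ₗ LinearMap.single K (fun _ : Fin n => V) j)) = ⇑e := by
      funext v
      rw [Groth.Agent.Helper7.Kron.Phi_apply]
      simp only [LinearMap.comp_apply, LinearEquiv.coe_coe, LinearMap.coe_single]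
      rw [← map_sum]
      congr 1
      funext i
      simp [Finset.sum_apply, Pi.single_apply]
    rw [this]
    exact e.bijective
  · intro f f' hf hf'
    rw [Groth.Agent.Helper7.Kron.ss_iff_Phi_bij _ hV hW] at hf hf'
    let eΦ := LinearEquiv.ofBijective (Groth.Agent.Helper7.Kron.Phi f) hf
    let eΦ' := LinearEquiv.ofBijective (Groth.Agent.Helper7.Kron.Phi f') hf'
    refine ⟨LinearEquiv.refl K V, eΦ.symm.trans eΦ', ?_⟩
    intro j
    ext v
    simp only [LinearMap.comp_apply, LinearEquiv.coe_coe, LinearEquiv.trans_apply, LinearEquiv.refl_apply]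
    have h1 : f j v = eΦ (Pi.single j v) := (Groth.Agent.Helper7.Kron.Phi_single f j v).symm
    rw [h1, LinearEquiv.symm_apply_apply]
    exact Groth.Agent.Helper7.Kron.Phi_single f' j v

end Groth.Agent.S15562
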