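import Groth.Statements.S15563
import Mathlib
import Groth.Agent.Helper7.Kron

set_option autoImplicit false
universe u v w
open KronMod

namespace Groth.Agent.S15563

/-- Let f be a Kronecker module with n arrows over a field K, from V of dimension d₋₁ > 0 to W of
dimension n·d₋₁. Then f is stable if and only if f is semistable and d₋₁ = 1: for d₋₁ = 1 every
semistable module is stable (so the stable locus of K(n; 1, n) is the one point), while for d₋₁ > 1
no module is stable. (The published statement assumes K algebraically closed of characteristic zero
and n ≥ 2; this row allows any field K and any number n of arrows.) -/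
theorem result (K : Type u) [Field K] (V : Type v) (W : Type w)
    [AddCommGroup V] [Module K V] [FiniteDimensional K V]
    [AddCommGroup W] [Module K W] [FiniteDimensional K W]
    (n : ℕ) (f : Fin n → (V →ₗ[K] W))
    (hV : 0 < Module.finrank K V) (hW : Module.finrank K W = n * Module.finrank K V) :
    KronMod.IsStable f ↔ (KronMod.IsSemistable f ∧ Module.finrank K V = 1) := by
  classical
  have hss_of_stab : KronMod.IsStable f → KronMod.IsSemistable f := by
    rintro ⟨h0, hs⟩
    exact ⟨h0, fun V' W' a b c => (hs V' W' a b c).le⟩
  constructor
  · intro hst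
    refine ⟨hss_of_stab hst, ?_⟩
    by_contra hne
    have hV2 : 2 ≤ Module.finrank K V := by omega
    obtain ⟨v, hv⟩ := Module.finrank_pos_iff_exists_ne_zero.mp hV
    set V' : Submodule K V := Submodule.span K {v} with hV'
    have hV'dim : Module.finrank K V' = 1 := finrank_span_singleton hv
    let P : Submodule K (Fin n → V) := Submodule.pi Set.univ (fun _ => V')
    set W' : Submodule K W := P.map (Groth.Agent.Helper7.Kron.Phi f) with hW'
    have hsub : KronMod.IsSubrep f V' W' := by
      intro j
      rintro _ ⟨x, hx, rfl⟩
      refine ⟨Pi.single j x, ?_, Groth.Agent.Helper7.Kron.Phi_single f j x⟩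
      intro i _
      by_cases hij : i = j
      · subst hij; simpa using hx
      · rw [Pi.single_eq_of_ne hij]; exact Submodule.zero_mem _
    have hPdim : Module.finrank K P = n * Module.finrank K V' := by
      have e : P ≃ₗ[K] (Fin n → V') :=
        { toFun := fun x j => ⟨x.1 j, x.2 j (Set.mem_univ j)⟩
          map_add' := fun x y => rfl
          map_smul' := fun c x => rfl
          invFun := fun y => ⟨fun j => (y j).1, fun j _ => (y j).2⟩
          left_inv := fun x => rfl
          right_inv := fun y => rfl }
      rw [LinearEquiv.finrank_eq e, Module.finrank_pi_fintype]; simp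
    have hW'dim : Module.finrank K W' ≤ n := by
      have h1 : Module.finrank K W' ≤ Module.finrank K P := by
        have := LinearMap.finrank_range_le ((Groth.Agent.Helper7.Kron.Phi f).domRestrict P)
        have hr : LinearMap.range ((Groth.Agent.Helper7.Kron.Phi f).domRestrict P) = W' := by
          ext w
          constructor
          · rintro ⟨x, rfl⟩
            exact ⟨x.1, x.2, rfl⟩
          · rintro ⟨x, hx, rfl⟩
            exact ⟨⟨x, hx⟩, rfl⟩
        rw [hr] at this
        exact this
      rw [hPdim, hV'dim, mul_one] at h1
      exact h1
    have h1 := hst.2 V' W' hsub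
      (by
        rintro ⟨hb, _⟩
        rw [hb] at hV'dim
        simp at hV'dim)
      (by
        rintro ⟨ht, _⟩
        rw [ht, finrank_top] at hV'dim
        omega)
    rw [hV'dim, mul_one, hW] at h1
    have : Module.finrank K V * Module.finrank K W' ≤ Module.finrank K V * n := Nat.mul_le_mul_left _ hW'dim
    have h3 : n * Module.finrank K V = Module.finrank K V * n := mul_comm _ _
    omega
  · rintro ⟨hss, hV1⟩
    have hbij := (Groth.Agent.Helper7.Kron.ss_iff_Phi_bij f hV hW).mp hss
    refine ⟨hss.1, ?_⟩
    intro V' W' hsub hnb hnt
    rw [hV1, one_mul]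
    by_cases hV' : V' = ⊥
    · have hW' : W' ≠ ⊥ := fun h => hnb ⟨hV', h⟩
      rw [hV', finrank_bot, mul_zero]
      rw [Nat.pos_iff_ne_zero]
      intro h0
      exact hW' (Submodule.finrank_eq_zero.mp h0)
    · exfalso
      have hVt : V' = ⊤ := by
        apply Submodule.eq_top_of_finrank_eq
        have h1 : Module.finrank K V' ≤ 1 := hV1 ▸ Submodule.finrank_le V'
        have h2 : Module.finrank K V' ≠ 0 := fun h0 => hV' (Submodule.finrank_eq_zero.mp h0)
        omega
      apply hnt
      refine ⟨hVt, ?_⟩
      rw [eq_top_iff]
      intro w _
      obtain ⟨x, rfl⟩ := hbij.2 w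
      rw [Groth.Agent.Helper7.Kron.Phi_apply]
      apply Submodule.sum_mem
      intro j _
      exact hsub j ⟨x j, by rw [hVt]; trivial, rfl⟩

end Groth.Agent.S15563
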