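import Groth.Statements.S15564
import Mathlib

set_option autoImplicit false
universe u v w
open KronMod

namespace Groth.Agent.S15564

/-- For a Kronecker module f with n arrows over a field K between one-dimensional spaces V and W,
semistability, stability and f ≠ 0 are equivalent: the semistable locus and the stable locus of
dimension vector (1, 1) are both the complement of the zero module. (The published statement assumes
K algebraically closed of characteristic zero and n ≥ 2; this row allows any field K and any n.) -/
theorem result (K : Type u) [Field K] (V : Type v) (W : Type w)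
    [AddCommGroup V] [Module K V] [FiniteDimensional K V]
    [AddCommGroup W] [Module K W] [FiniteDimensional K W]
    (n : ℕ) (f : Fin n → (V →ₗ[K] W))
    (hV : Module.finrank K V = 1) (hW : Module.finrank K W = 1) :
    (KronMod.IsSemistable f ↔ f ≠ 0) ∧ (KronMod.IsStable f ↔ f ≠ 0) := by
  classical
  -- key: if f ≠ 0 then for subrep with V' ≠ ⊥ we get W' = ⊤ and V' = ⊤
  have hVtop : ∀ V' : Submodule K V, V' ≠ ⊥ → V' = ⊤ := by
    intro V' hne
    apply Submodule.eq_top_of_finrank_eq
    have h1 : Module.finrank K V' ≤ 1 := hV ▸ Submodule.finrank_le V'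
    have h2 : Module.finrank K V' ≠ 0 := by
      intro h0
      exact hne (Submodule.finrank_eq_zero.mp h0)
    omega
  have hWtop : ∀ W' : Submodule K W, W' ≠ ⊥ → W' = ⊤ := by
    intro W' hne
    apply Submodule.eq_top_of_finrank_eq
    have h1 : Module.finrank K W' ≤ 1 := hW ▸ Submodule.finrank_le W'
    have h2 : Module.finrank K W' ≠ 0 := by
      intro h0
      exact hne (Submodule.finrank_eq_zero.mp h0)
    omega
  have hstab_of_ne : f ≠ 0 → KronMod.IsStable f := by
    intro hf
    refine ⟨by omega, ?_⟩
    intro V' W' hsub hnb hnt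
    rw [hV, hW, one_mul, one_mul]
    by_cases hV' : V' = ⊥
    · have hW' : W' ≠ ⊥ := fun h => hnb ⟨hV', h⟩
      rw [hV', hWtop W' hW', finrank_bot, finrank_top, hW]
      exact Nat.one_pos
    · exfalso
      have hVt := hVtop V' hV'
      apply hnt
      refine ⟨hVt, hWtop W' ?_⟩
      intro hWb
      apply hf
      ext j v
      have : f j v ∈ W' := hsub j ⟨v, by rw [hVt]; trivial, rfl⟩
      rw [hWb, Submodule.mem_bot] at this
      simpa using this
  have hne_of_ss : KronMod.IsSemistable f → f ≠ 0 := by
    rintro ⟨_, hss⟩ hf0
    have hsub : KronMod.IsSubrep f ⊤ ⊥ := by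
      intro j
      rintro _ ⟨v, _, rfl⟩
      rw [hf0]
      simp
    have h1 := hss ⊤ ⊥ hsub
      (by
        rintro ⟨hb, _⟩
        have : Module.finrank K (⊤ : Submodule K V) = 0 := by rw [hb]; simp
        rw [finrank_top] at this
        omega)
      (by
        rintro ⟨_, ht⟩
        have : Module.finrank K (⊥ : Submodule K W) = Module.finrank K W := by rw [ht, finrank_top]
        simp at this
        omega)
    simp only [finrank_top, finrank_bot, mul_zero] at h1
    rw [hV, hW] at h1
    omega
  have hss_of_stab : KronMod.IsStable f → KronMod.IsSemistable f := by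
    rintro ⟨h0, hs⟩
    exact ⟨h0, fun V' W' a b c => (hs V' W' a b c).le⟩
  exact ⟨⟨hne_of_ss, fun hf => hss_of_stab (hstab_of_ne hf)⟩,
    ⟨fun hs => hne_of_ss (hss_of_stab hs), hstab_of_ne⟩⟩

end Groth.Agent.S15564
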