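import Groth.Statements.S15565
import Mathlib

set_option autoImplicit false
universe u v w
open KronMod

namespace Groth.Agent.S15565

/-- Over an algebraically closed field K, a Kronecker module with two arrows between spaces V and W of
the same dimension k ≥ 2 is never stable: the stable locus of dimension vector (k, k) for the
Kronecker quiver with two arrows is empty. (The published statement also assumes characteristic
zero; this row does not.) -/
theorem result (K : Type u) [Field K] [IsAlgClosed K] (V : Type v) (W : Type w)
    [AddCommGroup V] [Module K V] [FiniteDimensional K V]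
    [AddCommGroup W] [Module K W] [FiniteDimensional K W]
    (f : Fin 2 → (V →ₗ[K] W)) (k : ℕ) (hk : 2 ≤ k)
    (hV : Module.finrank K V = k) (hW : Module.finrank K W = k) :
    ¬ KronMod.IsStable f := by
  rintro ⟨_, hst⟩
  haveI : Nontrivial V := Module.nontrivial_of_finrank_pos (R := K) (by omega)
  obtain ⟨v, w, hv, h0, h1⟩ : ∃ (v : V) (w : W), v ≠ 0 ∧ f 0 v ∈ Submodule.span K {w} ∧
      f 1 v ∈ Submodule.span K {w} := by
    by_cases hinj : Function.Injective (f 0)
    · let e := (f 0).linearEquivOfInjective hinj (by omega)
      obtain ⟨c, hc⟩ := Module.End.exists_eigenvalue (e.symm.toLinearMap ∘ₗ f 1)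
      obtain ⟨v, hv⟩ := hc.exists_hasEigenvector
      refine ⟨v, f 0 v, hv.2, Submodule.mem_span_singleton_self _, ?_⟩
      have h2 := hv.apply_eq_smul
      have h3 : f 1 v = e (c • v) := by
        rw [← h2]; simp
      rw [h3, map_smul]
      exact Submodule.smul_mem _ _ (Submodule.mem_span_singleton_self _)
    · have hk : LinearMap.ker (f 0) ≠ ⊥ := fun h => hinj (LinearMap.ker_eq_bot.mp h)
      obtain ⟨v, hv, hv0⟩ := Submodule.exists_mem_ne_zero_of_ne_bot hk
      refine ⟨v, f 1 v, hv0, ?_, Submodule.mem_span_singleton_self _⟩
      rw [LinearMap.mem_ker.mp hv]; exact zero_mem _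
  have hdv : Module.finrank K (Submodule.span K {v}) = 1 := finrank_span_singleton hv
  have hsub : KronMod.IsSubrep f (Submodule.span K {v}) (Submodule.span K {w}) := by
    intro j
    rw [Submodule.map_span, Submodule.span_le]
    rintro _ ⟨x, hx, rfl⟩
    rw [Set.mem_singleton_iff] at hx
    subst hx
    fin_cases j
    · exact h0
    · exact h1
  have key := hst _ _ hsub ?_ ?_
  · have hdw : Module.finrank K (Submodule.span K {w}) ≤ 1 := by
      have := finrank_span_le_card (R := K) ({w} : Set W)
      simpa using this
    rw [hdv, hV, hW] at key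
    nlinarith
  · rintro ⟨hb, _⟩
    rw [hb] at hdv; simp at hdv
  · rintro ⟨ht, _⟩
    rw [ht, finrank_top] at hdv; omega

end Groth.Agent.S15565
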