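import Groth.Statements.S15568
import Mathlib

set_option autoImplicit false
universe u
open QuiverStab

namespace Groth.Agent.S15568

/-- Walls and chambers for stability weights of a quiver. Let I be the finite vertex set, d ∈ ℕ^I a
dimension vector, and call two weights θ₁, θ₂ ∈ ℝ^I orthogonal to d numerically equivalent when, for
every d′ ≤ d in ℕ^I, the numbers θ₁·d′ and θ₂·d′ are both positive, both negative or both zero. The
walls are the hyperplanes W(d′) = {θ ⊥ d : θ·d′ = 0} of d^⊥ for d′ ≤ d such that d is not a multiple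
of d′. Then θ₁ and θ₂ are numerically equivalent if and only if there is a set J₁ of such d′ for
which θ₁ and θ₂ lie in the same connected component of the locally closed subset of d^⊥ consisting
of the weights lying on W(d₁) for every d₁ ∈ J₁ and off W(d₂) for every other wall W(d₂). (Only the
quiver's vertex set enters; multiples are taken with natural-number factors.) -/
theorem result
    (I : Type u) [Fintype I] (d : I → ℕ) (θ₁ θ₂ : I → ℝ)
    (h₁ : ∑ i, θ₁ i * (d i : ℝ) = 0) (h₂ : ∑ i, θ₂ i * (d i : ℝ) = 0) :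
    (∀ d' : I → ℕ, d' ≤ d →
        SignType.sign (∑ i, θ₁ i * (d' i : ℝ)) = SignType.sign (∑ i, θ₂ i * (d' i : ℝ))) ↔
    ∃ J₁ : Set (I → ℕ), J₁ ⊆ {d' | d' ≤ d ∧ ¬ ∃ m : ℕ, d = m • d'} ∧
      θ₂ ∈ connectedComponentIn
        {θ : I → ℝ | ∑ i, θ i * (d i : ℝ) = 0 ∧ (∀ d₁ ∈ J₁, ∑ i, θ i * (d₁ i : ℝ) = 0) ∧
          ∀ d₂ : I → ℕ, d₂ ≤ d → (¬ ∃ m : ℕ, d = m • d₂) → d₂ ∉ J₁ →
            ∑ i, θ i * (d₂ i : ℝ) ≠ 0} θ₁ := by
  classical
  set φ : (I → ℕ) → (I → ℝ) → ℝ := fun d' θ => ∑ i, θ i * (d' i : ℝ) with hφ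
  have hcont : ∀ d', Continuous (φ d') := by
    intro d'
    exact continuous_finsetSum _ (fun i _ => (continuous_apply i).mul continuous_const)
  have hlin : ∀ d' (a b : ℝ) (x y : I → ℝ), φ d' (a • x + b • y) = a * φ d' x + b * φ d' y := by
    intro d' a b x y
    simp only [hφ, Pi.add_apply, Pi.smul_apply, smul_eq_mul]
    rw [Finset.mul_sum, Finset.mul_sum, ← Finset.sum_add_distrib]
    apply Finset.sum_congr rfl
    intro i _; ring
  change (∀ d' : I → ℕ, d' ≤ d → SignType.sign (φ d' θ₁) = SignType.sign (φ d' θ₂)) ↔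
    ∃ J₁ : Set (I → ℕ), J₁ ⊆ {d' | d' ≤ d ∧ ¬ ∃ m : ℕ, d = m • d'} ∧
      θ₂ ∈ connectedComponentIn
        {θ : I → ℝ | φ d θ = 0 ∧ (∀ d₁ ∈ J₁, φ d₁ θ = 0) ∧
          ∀ d₂ : I → ℕ, d₂ ≤ d → (¬ ∃ m : ℕ, d = m • d₂) → d₂ ∉ J₁ → φ d₂ θ ≠ 0} θ₁
  change φ d θ₁ = 0 at h₁
  change φ d θ₂ = 0 at h₂
  constructor
  · intro hs
    refine ⟨{d' | d' ≤ d ∧ (¬ ∃ m : ℕ, d = m • d') ∧ φ d' θ₁ = 0}, fun d' h => ⟨h.1, h.2.1⟩, ?_⟩
    have hseg : segment ℝ θ₁ θ₂ ⊆ {θ : I → ℝ | φ d θ = 0 ∧
        (∀ d₁ ∈ {d' | d' ≤ d ∧ (¬ ∃ m : ℕ, d = m • d') ∧ φ d' θ₁ = 0}, φ d₁ θ = 0) ∧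
          ∀ d₂ : I → ℕ, d₂ ≤ d → (¬ ∃ m : ℕ, d = m • d₂) →
            d₂ ∉ {d' | d' ≤ d ∧ (¬ ∃ m : ℕ, d = m • d') ∧ φ d' θ₁ = 0} → φ d₂ θ ≠ 0} := by
      rintro θ ⟨a, b, ha, hb, hab, rfl⟩
      refine ⟨?_, ?_, ?_⟩
      · rw [hlin, h₁, h₂]; ring
      · rintro d₁ ⟨hd₁, _, h0⟩
        have h0' : φ d₁ θ₂ = 0 := by
          have := hs d₁ hd₁
          rw [h0, sign_zero] at this
          exact sign_eq_zero_iff.mp this.symm
        rw [hlin, h0, h0']; ring
      · intro d₂ hd₂ hm hnot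
        have hne : φ d₂ θ₁ ≠ 0 := fun h0 => hnot ⟨hd₂, hm, h0⟩
        have hsgn := hs d₂ hd₂
        rw [hlin]
        rcases lt_or_gt_of_ne hne with hneg | hpos
        · have : φ d₂ θ₂ < 0 := by
            rw [sign_neg hneg] at hsgn
            exact sign_eq_neg_one_iff.mp hsgn.symm
          have : a * φ d₂ θ₁ + b * φ d₂ θ₂ < 0 := by
            rcases eq_or_lt_of_le ha with ha0 | ha0
            · have hb1 : b = 1 := by linarith
              rw [← ha0, hb1]; linarith
            · nlinarith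
          exact ne_of_lt this
        · have : 0 < φ d₂ θ₂ := by
            rw [sign_pos hpos] at hsgn
            exact sign_eq_one_iff.mp hsgn.symm
          have : 0 < a * φ d₂ θ₁ + b * φ d₂ θ₂ := by
            rcases eq_or_lt_of_le ha with ha0 | ha0
            · have hb1 : b = 1 := by linarith
              rw [← ha0, hb1]; linarith
            · nlinarith
          exact ne_of_gt this
    exact (convex_segment θ₁ θ₂).isPreconnected.subset_connectedComponentIn
      (left_mem_segment ℝ θ₁ θ₂) hseg (right_mem_segment ℝ θ₁ θ₂)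
  · rintro ⟨J₁, hJ, hmem⟩
    set X : Set (I → ℝ) := {θ : I → ℝ | φ d θ = 0 ∧ (∀ d₁ ∈ J₁, φ d₁ θ = 0) ∧
          ∀ d₂ : I → ℕ, d₂ ≤ d → (¬ ∃ m : ℕ, d = m • d₂) → d₂ ∉ J₁ → φ d₂ θ ≠ 0} with hX
    have h2X : θ₂ ∈ X := connectedComponentIn_subset X θ₁ hmem
    have h1X : θ₁ ∈ X := by
      by_contra hn
      rw [connectedComponentIn_eq_empty hn] at hmem
      exact hmem
    have h1C : θ₁ ∈ connectedComponentIn X θ₁ := mem_connectedComponentIn h1X
    intro d' hd'
    by_cases hm : ∃ m : ℕ, d = m • d'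
    · obtain ⟨m, hm⟩ := hm
      have hz : ∀ θ : I → ℝ, φ d θ = 0 → φ d' θ = 0 := by
        intro θ h0
        rcases Nat.eq_zero_or_pos m with hm0 | hmpos
        · have hd0 : ∀ i, d' i = 0 := by
            intro i
            have h1 : d' i ≤ d i := hd' i
            have h2 : d i = 0 := by rw [hm, hm0]; simp
            omega
          simp only [hφ, hd0]
          simp
        · have h3 : φ d θ = (m : ℝ) * φ d' θ := by
            simp only [hφ]
            rw [Finset.mul_sum]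
            apply Finset.sum_congr rfl
            intro i _
            rw [hm]
            simp only [Pi.smul_apply, smul_eq_mul, Nat.cast_mul]
            ring
          rw [h3] at h0
          rcases mul_eq_zero.mp h0 with h | h
          · exfalso
            have : (m : ℝ) ≠ 0 := by exact_mod_cast hmpos.ne'
            exact this h
          · exact h
      rw [hz θ₁ h₁, hz θ₂ h₂]
    · by_cases hJ1 : d' ∈ J₁
      · rw [h1X.2.1 d' hJ1, h2X.2.1 d' hJ1]
      · have hnz : ∀ θ ∈ X, φ d' θ ≠ 0 := fun θ hθ => hθ.2.2 d' hd' hm hJ1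
        have hpc : IsPreconnected (connectedComponentIn X θ₁) := isPreconnected_connectedComponentIn
        have hivt1 := hpc.intermediate_value h1C hmem (hcont d').continuousOn
        have hivt2 := hpc.intermediate_value hmem h1C (hcont d').continuousOn
        have hno : ∀ y ∈ φ d' '' connectedComponentIn X θ₁, y ≠ 0 := by
          rintro _ ⟨θ, hθ, rfl⟩
          exact hnz θ (connectedComponentIn_subset X θ₁ hθ)
        have hx := hnz θ₁ h1X
        have hy := hnz θ₂ h2X
        rcases lt_or_gt_of_ne hx with hx' | hx' <;> rcases lt_or_gt_of_ne hy with hy' | hy'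
        · rw [sign_neg hx', sign_neg hy']
        · exfalso
          exact hno 0 (hivt1 ⟨hx'.le, hy'.le⟩) rfl
        · exfalso
          exact hno 0 (hivt2 ⟨hy'.le, hx'.le⟩) rfl
        · rw [sign_pos hx', sign_pos hy']

end Groth.Agent.S15568
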