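import Groth.Statements.S15570
import Mathlib
import Groth.Agent.Helper7.Kron

set_option autoImplicit false
universe u v w
open KronMod

namespace Groth.Agent.S15570

/-- Let f be a Kronecker module with n arrows over a field K, from V of dimension n·d₀ to W of dimension
d₀ > 0. Then f is stable if and only if f is semistable and d₀ = 1: for d₀ = 1 every semistable
module is stable (the stable locus of K(n; n, 1) is the one point), while for d₀ > 1 no module is
stable. This is the case dual to dimension vector (d₋₁, n·d₋₁). (The published statement assumes K
algebraically closed of characteristic zero and n ≥ 2; this row allows any field K and any number n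
of arrows.) -/
theorem result (K : Type u) [Field K] (V : Type v) (W : Type w)
    [AddCommGroup V] [Module K V] [FiniteDimensional K V]
    [AddCommGroup W] [Module K W] [FiniteDimensional K W]
    (n : ℕ) (f : Fin n → (V →ₗ[K] W))
    (hW : 0 < Module.finrank K W) (hV : Module.finrank K V = n * Module.finrank K W) :
    KronMod.IsStable f ↔ (KronMod.IsSemistable f ∧ Module.finrank K W = 1) := by
  classical
  have hss_of_stab : KronMod.IsStable f → KronMod.IsSemistable f := by
    rintro ⟨h0, hs⟩
    exact ⟨h0, fun V' W' a b c => (hs V' W' a b c).le⟩
  constructor
  · intro hst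
    refine ⟨hss_of_stab hst, ?_⟩
    by_contra hne
    have hW2 : 2 ≤ Module.finrank K W := by omega
    obtain ⟨w, hw⟩ := Module.finrank_pos_iff_exists_ne_zero.mp hW
    obtain ⟨W', hcompl⟩ := Submodule.exists_isCompl (Submodule.span K {w})
    have hsp : Module.finrank K (Submodule.span K {w}) = 1 := finrank_span_singleton hw
    have hW'dim : Module.finrank K W' + 1 = Module.finrank K W := by
      have := Submodule.finrank_add_eq_of_isCompl hcompl
      omega
    have hquot : Module.finrank K (W ⧸ W') = 1 := by
      have := Submodule.finrank_quotient_add_finrank W'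
      omega
    set χ : V →ₗ[K] (Fin n → W ⧸ W') := LinearMap.pi (fun j => W'.mkQ ∘ₗ f j) with hχ
    set V' : Submodule K V := LinearMap.ker χ with hV'
    have hsub : KronMod.IsSubrep f V' W' := by
      intro j
      rintro _ ⟨x, hx, rfl⟩
      rw [SetLike.mem_coe, LinearMap.mem_ker] at hx
      have := congrFun hx j
      simp only [hχ, LinearMap.pi_apply, LinearMap.comp_apply, Pi.zero_apply, Submodule.mkQ_apply,
        Submodule.Quotient.mk_eq_zero] at this
      exact this
    have hrn := LinearMap.finrank_range_add_finrank_ker χ
    have hrk : Module.finrank K (LinearMap.range χ) ≤ n := by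
      have := Submodule.finrank_le (LinearMap.range χ)
      rw [Module.finrank_pi_fintype] at this
      simpa [hquot] using this
    have hV'dim : Module.finrank K V ≤ Module.finrank K V' + n := by
      have : Module.finrank K V' = Module.finrank K (LinearMap.ker χ) := rfl
      omega
    have h1 := hst.2 V' W' hsub
      (by
        rintro ⟨_, hb⟩
        rw [hb, finrank_bot] at hW'dim
        omega)
      (by
        rintro ⟨_, ht⟩
        rw [ht, finrank_top] at hW'dim
        omega)
    -- dW * dim V' < dV * dim W' = n dW (dW - 1)
    rw [hV] at h1 hV'dim
    have h2 : Module.finrank K W * (n * Module.finrank K W) ≤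
        Module.finrank K W * (Module.finrank K V' + n) := Nat.mul_le_mul_left _ hV'dim
    have h3 : n * Module.finrank K W * Module.finrank K W' + n * Module.finrank K W =
        Module.finrank K W * (n * Module.finrank K W) := by
      rw [← hW'dim]; ring
    have h4 : Module.finrank K W * (Module.finrank K V' + n) =
        Module.finrank K W * Module.finrank K V' + n * Module.finrank K W := by ring
    omega
  · rintro ⟨hss, hW1⟩
    have hbij := (Groth.Agent.Helper7.Kron.ss_iff_Psi_bij f hW hV).mp hss
    refine ⟨hss.1, ?_⟩
    intro V' W' hsub hnb hnt
    rw [hW1, one_mul]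
    by_cases hW' : W' = ⊥
    · exfalso
      have hV' : V' ≠ ⊥ := fun h => hnb ⟨h, hW'⟩
      apply hV'
      rw [eq_bot_iff]
      intro x hx
      rw [Submodule.mem_bot]
      apply hbij.1
      rw [map_zero]
      funext j
      have : f j x ∈ W' := hsub j ⟨x, hx, rfl⟩
      rw [hW', Submodule.mem_bot] at this
      exact this
    · have hWt : W' = ⊤ := by
        apply Submodule.eq_top_of_finrank_eq
        have h1 : Module.finrank K W' ≤ 1 := hW1 ▸ Submodule.finrank_le W'
        have h2 : Module.finrank K W' ≠ 0 := fun h0 => hW' (Submodule.finrank_eq_zero.mp h0)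
        omega
      have hV' : V' ≠ ⊤ := fun h => hnt ⟨h, hWt⟩
      rw [hWt, finrank_top, hW1, mul_one]
      exact Submodule.finrank_lt hV'

end Groth.Agent.S15570
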