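import Groth.Statements.S15581
import Mathlib

set_option autoImplicit false
universe u v
open RInv

namespace Groth.Agent.S15581

/-- Let `A` be a commutative ring with an involution `lam` whose fixed ring `B` is local with `2`
invertible. Then `Jac(A)^2 ⊆ Jac(B) A`. -/
theorem result (B : Type u) (A : Type v) [CommRing B]
    [CommRing A] [Algebra B A] (lam : A ≃+* A) (hlam : Function.Involutive lam)
    (hB : RInv.IsFixedRing B A lam) [IsLocalRing B] (h2 : IsUnit (2 : B)) :
    (Ring.jacobson A) ^ 2 ≤ (IsLocalRing.maximalIdeal B).map (algebraMap B A) := by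
  classical
  obtain ⟨hinj, hfix⟩ := hB
  have : Nontrivial A := hinj.nontrivial
  set I : Ideal A := (IsLocalRing.maximalIdeal B).map (algebraMap B A) with hI
  have hJ : ∀ x : A, x ∈ Ring.jacobson A ↔ ∀ y, IsUnit (x * y + 1) := by
    intro x
    rw [← Ideal.jacobson_bot]
    exact Ideal.mem_jacobson_bot
  -- J is stable under lam
  have hlamJ : ∀ x ∈ Ring.jacobson A, lam x ∈ Ring.jacobson A := by
    intro x hx
    rw [hJ] at hx ⊢
    intro y
    have := (hx (lam y)).map lam
    rwa [map_add, map_mul, hlam y, map_one] at this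
  -- fixed elements of J lie in I
  have hfixJ : ∀ z ∈ Ring.jacobson A, lam z = z → z ∈ I := by
    intro z hz hzfix
    obtain ⟨b, rfl⟩ := (hfix z).mp hzfix
    apply Ideal.mem_map_of_mem
    rw [IsLocalRing.mem_maximalIdeal, mem_nonunits_iff]
    intro hb
    have hu : IsUnit (algebraMap B A b) := hb.map _
    have h1 : (1 : A) ∈ Ring.jacobson A := by
      obtain ⟨u, hu⟩ := hu
      have := (Ring.jacobson A).mul_mem_left (↑u⁻¹ : A) hz
      rwa [← hu, Units.inv_mul] at this
    have := (hJ 1).mp h1 (-1)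
    simp at this
  obtain ⟨c, hc⟩ := h2.exists_left_inv
  set i2 : A := algebraMap B A c with hi2
  have hi2' : i2 * 2 = 1 := by
    rw [hi2, ← map_ofNat (algebraMap B A) 2, ← map_mul, hc, map_one]
  rw [sq, Ideal.mul_le]
  intro x hx y hy
  have hxs : x + lam x ∈ I := hfixJ _ ((Ring.jacobson A).add_mem hx (hlamJ x hx)) (by
    rw [map_add, hlam x, add_comm])
  have hys : y + lam y ∈ I := hfixJ _ ((Ring.jacobson A).add_mem hy (hlamJ y hy)) (by
    rw [map_add, hlam y, add_comm])
  have hxy : (x - lam x) * (y - lam y) ∈ I := by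
    apply hfixJ
    · exact Ideal.mul_mem_right _ _ ((Ring.jacobson A).sub_mem hx (hlamJ x hx))
    · rw [map_mul, map_sub, map_sub, hlam x, hlam y]; ring
  have key : x * y = i2 * i2 * ((x + lam x) * (y + lam y) + (x + lam x) * (y - lam y)
      + (x - lam x) * (y + lam y) + (x - lam x) * (y - lam y)) := by
    have : x * y = (i2 * 2) * (i2 * 2) * (x * y) := by rw [hi2']; ring
    rw [this]; ring
  rw [key]
  apply Ideal.mul_mem_left
  refine I.add_mem (I.add_mem (I.add_mem ?_ ?_) ?_) hxy
  · exact Ideal.mul_mem_right _ _ hxs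
  · exact Ideal.mul_mem_right _ _ hxs
  · exact Ideal.mul_mem_left _ _ hys

end Groth.Agent.S15581
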