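import Groth.Statements.S1560
import Groth.Agent.Helper4.GeomRedPt
import Mathlib

set_option autoImplicit false
universe u
open CategoryTheory CategoryTheory.Limits AlgebraicGeometry
open Variety

namespace Groth.Agent.S1560


/-- Let X be a scheme over a perfect field k and x a point whose local ring is reduced. Then X is
geometrically reduced at x. -/
theorem result (k : Type u) [Field k] (X : Scheme.{u}) [X.Over (Spec (CommRingCat.of k))] [PerfectField k] (x : X)
    [IsReduced (X.presheaf.stalk x)] : Curv2.IsGeomReducedAt k X x := by

  rw [Groth.Agent.Helper4.GeomRedPt.curv2_geomReducedAt_iff]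
  letI := Curv2.stalkAlgebra k X x
  rw [Algebra.isGeometricallyReduced_field_iff]
  have h := Groth.Agent.Helper4.GeomRed.isReduced_tensor_of_perfectField (k := k)
    (AlgebraicClosure k) (X.presheaf.stalk x)
  exact isReduced_of_injective
    (Algebra.TensorProduct.comm k (AlgebraicClosure k) (X.presheaf.stalk x)).toRingHom
    (Algebra.TensorProduct.comm k (AlgebraicClosure k) (X.presheaf.stalk x)).injective

end Groth.Agent.S1560
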