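import Groth.Statements.S1568
import Mathlib
import Groth.Agent.S1567

set_option autoImplicit false
universe u
open CategoryTheory CategoryTheory.Limits AlgebraicGeometry
open Divisors

namespace Groth.Agent.S1568

/-- Let X be locally Noetherian and D an effective Cartier divisor. At a point ξ of D that is maximal in
D under generisation (a generic point of a component of D), the local ring of X has dimension
exactly one. -/
theorem result (X : Scheme.{u}) [IsLocallyNoetherian X]
    (D : X.IdealSheafData) (hD : BlowUp.IsEffCartierIdeal D) (ξ : X)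
    (hξ : ξ ∈ (D.support : Set X)) (hgen : ∀ y ∈ (D.support : Set X), y ⤳ ξ → y = ξ) :
    ringKrullDim (X.presheaf.stalk ξ) = 1 := by
  obtain ⟨U, hξU, g, hgnzd, hg⟩ := hD ξ
  have : IsNoetherianRing Γ(X, U.1) := IsLocallyNoetherian.component_noetherian U
  have hmin := Groth.Agent.S1567.primeIdealOf_mem_minimalPrimes D U ξ hξU hξ hgen
  rw [hg] at hmin
  have hht := Ideal.height_le_one_of_isPrincipal_of_mem_minimalPrimes _ _ hmin
  let _ := X.presheaf.algebra_section_stalk ⟨ξ, hξU⟩
  have := U.2.isLocalization_stalk ⟨ξ, hξU⟩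
  rw [IsLocalization.AtPrime.ringKrullDim_eq_height (U.2.primeIdealOf ⟨ξ, hξU⟩).asIdeal
    (X.presheaf.stalk ξ)]
  have hgp : g ∈ (U.2.primeIdealOf ⟨ξ, hξU⟩).asIdeal :=
    hmin.1.2 (Ideal.subset_span rfl)
  have hne : (U.2.primeIdealOf ⟨ξ, hξU⟩).asIdeal.height ≠ 0 := by
    rw [Ne, Ideal.height_eq_zero_iff]
    intro hminR
    exact Set.disjoint_left.mp (Ideal.disjoint_nonZeroDivisors_of_mem_minimalPrimes hminR)
      hgp hgnzd
  have h1 : (U.2.primeIdealOf ⟨ξ, hξU⟩).asIdeal.height = 1 :=
    le_antisymm hht (Order.one_le_iff_pos.mpr (pos_iff_ne_zero.mpr hne))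
  rw [h1]; rfl

end Groth.Agent.S1568
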