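import Groth.Statements.S1569
import Mathlib
import Groth.Agent.S1567

set_option autoImplicit false
universe u
open CategoryTheory CategoryTheory.Limits AlgebraicGeometry
open Divisors

namespace Groth.Agent.S1569

open IsLocalRing in
theorem isDomain_of_maximalIdeal_eq_span {R : Type*} [CommRing R] [IsLocalRing R]
    [IsNoetherianRing R] (t : R) (ht : t ∈ nonZeroDivisors R)
    (hm : maximalIdeal R = Ideal.span {t}) : IsDomain R := by
  have hpow : ∀ n, maximalIdeal R ^ n = Ideal.span {t ^ n} := by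
    intro n; rw [hm, Ideal.span_singleton_pow]
  have hkrull : ⨅ n, maximalIdeal R ^ n = ⊥ :=
    Ideal.iInf_pow_eq_bot_of_isLocalRing _ (IsLocalRing.maximalIdeal.isMaximal R).ne_top
  -- every nonzero element is a unit times a power of t
  have hrepr : ∀ a : R, a ≠ 0 → ∃ (n : ℕ) (u : R), IsUnit u ∧ a = u * t ^ n := by
    intro a ha
    have h1 : ∃ n, a ∉ maximalIdeal R ^ n := by
      by_contra hcon
      push Not at hcon
      have : a ∈ ⨅ n, maximalIdeal R ^ n := by
        rw [Ideal.mem_iInf]; exact hcon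
      rw [hkrull] at this
      exact ha (by simpa using this)
    classical
    let n := Nat.find h1
    have hn : a ∉ maximalIdeal R ^ n := Nat.find_spec h1
    have hn0 : n ≠ 0 := by
      intro h0
      rw [h0] at hn
      simp at hn
    obtain ⟨k, hk⟩ := Nat.exists_eq_succ_of_ne_zero hn0
    have hk' : a ∈ maximalIdeal R ^ k := by
      by_contra hcon
      have := Nat.find_min' h1 hcon
      omega
    rw [hpow, Ideal.mem_span_singleton'] at hk'
    obtain ⟨u, hu⟩ := hk'
    refine ⟨k, u, ?_, hu.symm⟩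
    by_contra hnu
    have hum : u ∈ maximalIdeal R := by
      rwa [IsLocalRing.mem_maximalIdeal, mem_nonunits_iff]
    rw [hm, Ideal.mem_span_singleton'] at hum
    obtain ⟨c, hc⟩ := hum
    apply hn
    rw [hk, hpow, Ideal.mem_span_singleton']
    refine ⟨c, ?_⟩
    rw [← hu, ← hc, pow_succ]; ring
  have hnz : ∀ a b : R, a * b = 0 → a = 0 ∨ b = 0 := by
    intro a b hab
    by_contra hcon
    push Not at hcon
    obtain ⟨n, u, hu, rfl⟩ := hrepr a hcon.1
    obtain ⟨k, v, hv, rfl⟩ := hrepr b hcon.2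
    have h1 : (u * v) * (t ^ n * t ^ k) = 0 := by rw [← hab]; ring
    have h2 : t ^ n * t ^ k = 0 := by
      have := (hu.mul hv).mul_right_eq_zero.mp h1
      exact this
    have h3 : t ^ n * t ^ k ∈ nonZeroDivisors R := mul_mem (pow_mem ht n) (pow_mem ht k)
    rw [h2] at h3
    have : (1 : R) = 0 := by
      have := (mul_left_mem_nonZeroDivisors_eq_zero_iff h3 (x := (1:R))).mp (by simp)
      exact this
    exact one_ne_zero this
  have : NoZeroDivisors R := ⟨fun {a b} h => hnz a b h⟩
  exact NoZeroDivisors.to_isDomain R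

open IsLocalRing in
theorem isDVR_of_maximalIdeal_eq_span {R : Type*} [CommRing R] [IsLocalRing R]
    [IsNoetherianRing R] [IsDomain R] (t : R) (ht : t ∈ nonZeroDivisors R)
    (hm : maximalIdeal R = Ideal.span {t}) : IsDiscreteValuationRing R := by
  have hnf : ¬ IsField R := by
    rw [IsLocalRing.isField_iff_maximalIdeal_eq, hm, Ideal.span_singleton_eq_bot]
    exact nonZeroDivisors.ne_zero ht
  refine ((IsDiscreteValuationRing.TFAE R hnf).out 4 0).mp ?_
  rw [hm]
  exact ⟨⟨t, rfl⟩⟩

/-- On a Noetherian scheme, an effective Cartier divisor which is integral as a closed subscheme has a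
discrete valuation ring as the local ring of the ambient scheme at its generic point. -/
theorem result (X : Scheme.{u}) [IsNoetherian X]
    (D : X.IdealSheafData) (hD : BlowUp.IsEffCartierIdeal D) [IsIntegral D.subscheme]
    (ξ : X) (hξ : IsGenericPoint ξ (D.support : Set X)) :
    ∃ _ : IsDomain (X.presheaf.stalk ξ), IsDiscreteValuationRing (X.presheaf.stalk ξ) := by
  have hξmem : ξ ∈ (D.support : Set X) := hξ.mem
  have hgen : ∀ y ∈ (D.support : Set X), y ⤳ ξ → y = ξ := by
    intro y hy hyξ
    have h1 : ξ ⤳ y := by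
      rw [specializes_iff_mem_closure, hξ.def]; exact hy
    exact (hyξ.antisymm h1).eq
  obtain ⟨V, hξV, g, hgnzd, hg⟩ := hD ξ
  have : IsNoetherianRing Γ(X, V.1) := IsLocallyNoetherian.component_noetherian V
  have hmin := Groth.Agent.S1567.primeIdealOf_mem_minimalPrimes D V ξ hξV hξmem hgen
  set p := (V.2.primeIdealOf ⟨ξ, hξV⟩).asIdeal with hp
  -- `D.ideal V` is prime
  have hnt : Nontrivial (Γ(X, V.1) ⧸ D.ideal V) := by
    rw [Ideal.Quotient.nontrivial_iff]
    intro htop
    have := hmin.1.2
    rw [htop] at this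
    exact (V.2.primeIdealOf ⟨ξ, hξV⟩).2.ne_top (top_le_iff.mp this)
  have hdom : IsDomain (Γ(X, V.1) ⧸ D.ideal V) := by
    have hoi : IsOpenImmersion (D.subschemeCover.f V) := D.subschemeCover.map_prop V
    have hne : Nonempty (Spec (D.subschemeCover.X V)) :=
      inferInstanceAs (Nonempty (PrimeSpectrum (Γ(X, V.1) ⧸ D.ideal V)))
    have h1 : IsIntegral (Spec (D.subschemeCover.X V)) :=
      isIntegral_of_isOpenImmersion (D.subschemeCover.f V)
    have h1 : IsIntegral (Spec (CommRingCat.of (Γ(X, V.1) ⧸ D.ideal V))) := h1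
    exact (affine_isIntegral_iff _).mp h1
  have hprime : (D.ideal V).IsPrime := (Ideal.Quotient.isDomain_iff_prime _).mp hdom
  have hpeq : p = D.ideal V := le_antisymm (hmin.2 ⟨hprime, le_rfl⟩ hmin.1.2) hmin.1.2
  -- pass to the stalk
  let _ := X.presheaf.algebra_section_stalk ⟨ξ, hξV⟩
  have hloc := V.2.isLocalization_stalk ⟨ξ, hξV⟩
  have hm : IsLocalRing.maximalIdeal (X.presheaf.stalk ξ) =
      Ideal.span {algebraMap Γ(X, V.1) (X.presheaf.stalk ξ) g} := by
    rw [← IsLocalization.AtPrime.map_eq_maximalIdeal p (X.presheaf.stalk ξ), hpeq, hg,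
      Ideal.map_span, Set.image_singleton]
  have htnzd : algebraMap Γ(X, V.1) (X.presheaf.stalk ξ) g ∈ nonZeroDivisors (X.presheaf.stalk ξ) :=
    IsLocalization.map_nonZeroDivisors_le p.primeCompl (X.presheaf.stalk ξ)
      (Submonoid.mem_map_of_mem _ hgnzd)
  have hdomB := isDomain_of_maximalIdeal_eq_span _ htnzd hm
  exact ⟨hdomB, isDVR_of_maximalIdeal_eq_span _ htnzd hm⟩

end Groth.Agent.S1569
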