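import Groth.Statements.S15706
import Mathlib

set_option autoImplicit false
universe u
open CAlg

namespace Groth.Agent.S15706

/-- Let A be a Noetherian ring with Serre's property (S_1), stated here in the equivalent form that
every associated prime of A is a minimal prime of A. Let I be an ideal of A and b an element of A/I
which is regular (a non-zero-divisor) in A/I. Then b is the image of a regular element of A. -/
theorem result (A : Type u) [CommRing A]
    [IsNoetherianRing A] (hS1 : ∀ p ∈ associatedPrimes A A, p ∈ minimalPrimes A) (I : Ideal A)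
    (b : A ⧸ I) (hb : b ∈ nonZeroDivisors (A ⧸ I)) :
    ∃ a : A, a ∈ nonZeroDivisors A ∧ Ideal.Quotient.mk I a = b := by
  classical
  obtain ⟨a₀, rfl⟩ := Ideal.Quotient.mk_surjective b
  set P : Finset (Ideal A) := (associatedPrimes.finite A A).toFinset with hPdef
  have hPmem : ∀ p, p ∈ P ↔ p ∈ associatedPrimes A A := fun p => Set.Finite.mem_toFinset _
  have hPprime : ∀ p ∈ P, p.IsPrime := fun p hp => ((hPmem p).mp hp).isPrime
  have hPmin : ∀ p ∈ P, p ∈ minimalPrimes A := fun p hp => hS1 p ((hPmem p).mp hp)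
  -- Step 1
  have h1 : ∀ p ∈ P, I ≤ p → a₀ ∉ p := by
    intro p hp hIp ha
    have hpm := hPmin p hp
    have hpI : p ∈ I.minimalPrimes := by
      refine ⟨⟨hPprime p hp, hIp⟩, fun q hq hqp => ?_⟩
      exact hpm.2 ⟨hq.1, bot_le⟩ hqp
    rw [Ideal.minimalPrimes_eq_comap] at hpI
    obtain ⟨q, hq, rfl⟩ := hpI
    have hmem : Ideal.Quotient.mk I a₀ ∈ q := ha
    exact Set.disjoint_left.mp (Ideal.disjoint_nonZeroDivisors_of_mem_minimalPrimes hq) hmem hb
  -- Step 2
  set Q : Finset (Ideal A) := P.filter (fun p => ¬ I ≤ p ∧ a₀ ∈ p) with hQ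
  set Q' : Finset (Ideal A) := P.filter (fun p => ¬ I ≤ p ∧ a₀ ∉ p) with hQ'
  set J : Ideal A := I * ∏ p ∈ Q', p with hJ
  have hnot : ¬ ((J : Set A) ⊆ ⋃ p ∈ (↑Q : Set (Ideal A)), (p : Set A)) := by
    rw [Ideal.subset_union_prime (f := fun p : Ideal A => p) ⊥ ⊥
      (fun p hp _ _ => hPprime p (Finset.mem_filter.mp hp).1)]
    rintro ⟨p, hpQ, hJp⟩
    obtain ⟨hpP, hIp, hap⟩ := Finset.mem_filter.mp hpQ
    have hpp := hPprime p hpP
    rcases (hpp.mul_le).mp hJp with h | h
    · exact hIp h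
    · obtain ⟨p', hp'Q, hle⟩ := (hpp.prod_le).mp h
      obtain ⟨hp'P, _, hap'⟩ := Finset.mem_filter.mp hp'Q
      have := (hPmin p hpP).2 ⟨hPprime p' hp'P, bot_le⟩ hle
      exact hap' (this hap)
  rw [Set.not_subset] at hnot
  obtain ⟨x, hxJ, hxQ⟩ := hnot
  have hxI : x ∈ I := Ideal.mul_le_left hxJ
  have hxQ' : ∀ p ∈ Q', x ∈ p := by
    intro p hp
    have hpp := hPprime p (Finset.mem_filter.mp hp).1
    have h2 : (∏ p ∈ Q', p) ≤ p := (hpp.prod_le).mpr ⟨p, hp, le_rfl⟩
    exact h2 (Ideal.mul_le_right hxJ)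
  refine ⟨a₀ + x, ?_, ?_⟩
  · have hcompl := biUnion_associatedPrimes_eq_compl_nonZeroDivisors A
    by_contra hnz
    have hmem : a₀ + x ∈ (nonZeroDivisors A : Set A)ᶜ := hnz
    rw [← hcompl] at hmem
    simp only [Set.mem_iUnion] at hmem
    obtain ⟨p, hpA, hap⟩ := hmem
    have hpP : p ∈ P := (hPmem p).mpr hpA
    have hap' : a₀ + x ∈ p := hap
    by_cases hIp : I ≤ p
    · apply h1 p hpP hIp
      have := p.sub_mem hap' (hIp hxI)
      simpa using this
    · by_cases ha : a₀ ∈ p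
      · apply hxQ
        simp only [Set.mem_iUnion]
        refine ⟨p, Finset.mem_coe.mpr (Finset.mem_filter.mpr ⟨hpP, hIp, ha⟩), ?_⟩
        have := p.sub_mem hap' ha
        simpa using this
      · have hx := hxQ' p (Finset.mem_filter.mpr ⟨hpP, hIp, ha⟩)
        apply ha
        have := p.sub_mem hap' hx
        simpa using this
  · rw [map_add, Ideal.Quotient.eq_zero_iff_mem.mpr hxI, add_zero]

end Groth.Agent.S15706
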