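import Groth.Statements.S1572
import Mathlib
import Groth.Agent.Helper3.EffCarUFD

set_option autoImplicit false
universe u
open scoped TensorProduct
open CategoryTheory CategoryTheory.Limits AlgebraicGeometry
open Divisors

namespace Groth.Agent.S1572

/-- Let X be Noetherian and separated and U a dense affine open such that the local ring of X at every
point outside U is a unique factorisation domain. Then there is an effective Cartier divisor on X
whose support is exactly the complement of U. -/
theorem result (X : Scheme.{u}) [IsNoetherian X] [X.IsSeparated]
    (U : X.Opens) (hU : IsAffineOpen U) (hdense : Dense (U : Set X))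
    (hufd : ∀ x : X, x ∉ U → IsDomain (X.presheaf.stalk x) ∧ UniqueFactorizationMonoid (X.presheaf.stalk x)) :
    ∃ D : X.IdealSheafData, BlowUp.IsEffCartierIdeal D ∧ (D.support : Set X) = (U : Set X)ᶜ := by
  haveI : IsAffine U.toScheme := hU
  haveI : IsAffineHom U.ι := by
    haveI : IsAffineHom (U.ι ≫ terminal.from X) := inferInstance
    exact IsAffineHom.of_comp U.ι (terminal.from X)
  exact Groth.Agent.Helper3.EffCarUFD.main X U hdense hufd

end Groth.Agent.S1572
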