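import Groth.Statements.S15740
import Mathlib

set_option autoImplicit false
open W4c2invhilbsl2

namespace Groth.Agent.S15740

/-- For a monomial X₀^d₀X₁^d₁X₂^d₂ of the polynomial ring in X₀, X₁, X₂ (X₂ standing for Xⱼ, j = 3 or 4,
of the five-variable ring) put n = d₀ − p·d₁ + q·d₂ (its weight for the torus diag(t, t^(−p), t^q)),
c = d₁ − d₂ and ω = p·d₁ − q·d₂, so that d₀ = n + ω; here 0 < p < q are coprime integers. Suppose n
≥ 0, c > 0 and d₀ < q − p (the last condition says that ω is the least value of ω for the pair (n,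
c)). Then ω ≥ 0 if and only if the remainder of p·c on division by q − p, plus n, is less than q −
p. -/
theorem result (p q : ℕ) (hp : 0 < p) (hpq : p < q) (hcop : Nat.Coprime p q) (d0 d1 d2 : ℕ)
    (hn : 0 ≤ (d0 : ℤ) - (p : ℤ) * d1 + (q : ℤ) * d2) (hc : (d2 : ℤ) < d1) (hd0 : d0 < q - p) :
    0 ≤ (p : ℤ) * d1 - (q : ℤ) * d2 ↔
      Int.emod ((p : ℤ) * ((d1 : ℤ) - d2)) ((q : ℤ) - p) + ((d0 : ℤ) - (p : ℤ) * d1 + (q : ℤ) * d2) < (q : ℤ) - p := by
  have hqp : (0 : ℤ) < (q : ℤ) - p := by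
    have : (p : ℤ) < q := by exact_mod_cast hpq
    linarith
  have hqpN : ((q - p : ℕ) : ℤ) = (q : ℤ) - p := by rw [Nat.cast_sub hpq.le]
  have hd0' : (d0 : ℤ) < (q : ℤ) - p := by rw [← hqpN]; exact_mod_cast hd0
  have hd0nn : (0 : ℤ) ≤ d0 := Int.natCast_nonneg d0
  set Q : ℤ := (q : ℤ) - p with hQ
  set t : ℤ := (p : ℤ) * ((d1 : ℤ) - d2) with ht
  set r : ℤ := t % Q with hr
  have hr0 : 0 ≤ r := Int.emod_nonneg t hqp.ne'
  have hrQ : r < Q := Int.emod_lt_of_pos t hqp
  have hdecomp : t = Q * (t / Q) + r := (Int.mul_ediv_add_emod t Q).symm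
  -- ω = Q * k + r
  set k : ℤ := t / Q - d2 with hk
  have hω : (p : ℤ) * d1 - (q : ℤ) * d2 = Q * k + r := by
    have : (p : ℤ) * d1 - (q : ℤ) * d2 = t - Q * d2 := by rw [ht, hQ]; ring
    rw [this, hk]
    linear_combination hdecomp
  have hn' : (d0 : ℤ) - (p : ℤ) * d1 + (q : ℤ) * d2 = (d0 : ℤ) - (Q * k + r) := by
    rw [← hω]; ring
  have hre : Int.emod t Q = r := rfl
  rw [hω, hn', hre]
  rw [hn'] at hn
  constructor
  · intro h0
    -- k ≥ 0
    have hk0 : 0 ≤ k := by
      by_contra hneg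
      push Not at hneg
      have : Q * k ≤ -Q := by nlinarith
      linarith
    -- Q*k + r ≤ d0 < Q so k = 0
    have hk1 : k ≤ 0 := by
      by_contra hpos
      push Not at hpos
      have : Q ≤ Q * k := by nlinarith
      linarith
    have : k = 0 := le_antisymm hk1 hk0
    rw [this]
    linarith
  · intro h
    by_contra hneg
    push Not at hneg
    have hk0 : k ≤ -1 := by
      by_contra hh
      push Not at hh
      have : 0 ≤ k := by omega
      have := mul_nonneg hqp.le this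
      linarith
    have : Q * k ≤ -Q := by nlinarith
    linarith

end Groth.Agent.S15740
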