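import Groth.Statements.S1578
import Groth.Agent.Helper4.AssSpec
import Mathlib

set_option autoImplicit false
universe u
open CategoryTheory CategoryTheory.Limits AlgebraicGeometry
open Divisors

namespace Groth.Agent.S1578


/-- Let M be a module over a ring A, F the associated quasi-coherent module on Spec A, and p a prime of
A. If p is an associated prime of M then p is an associated point of F; the converse holds when p is
finitely generated. -/
theorem result (A : CommRingCat.{u}) (M : ModuleCat.{u} A)
    (p : Spec A) :
    (p.asIdeal ∈ associatedPrimes A M → Curv2.IsAssPoint (tilde M) p) ∧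
    (p.asIdeal.FG → Curv2.IsAssPoint (tilde M) p → p.asIdeal ∈ associatedPrimes A M) := by

  exact ⟨fun h => Groth.Agent.Helper4.AssSpec.assPoint_of_mem A M p h,
    fun hfg h => Groth.Agent.Helper4.AssSpec.mem_of_assPoint A M p hfg h⟩

end Groth.Agent.S1578
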