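import Groth.Statements.S15789
import Mathlib
import Groth.Agent.Helper7.WqAutC
import Groth.Agent.Helper7.WqRegC
import Groth.Agent.Helper5.MvPSDim

set_option autoImplicit false
universe u
open WildQuot

namespace Groth.Agent.S15789

open MvPolynomial in
/-- Let `k` be a field of characteristic `p > 0`, `n ≥ 2`, `R = k[[x_1, …, x_n]]`, `a_1, …, a_n ∈ R`
nonzero with zero constant term, and `A = R[u_1, …, u_n] / (u_i ^ p - a_i ^ (p-1) u_i - x_i : i =
1..n)`. Then the group of `R`-algebra automorphisms of `A` has exactly `p ^ n` elements, is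
commutative and every element has `p`-th power the identity (it is the elementary abelian group
generated by the substitutions `u_i ↦ u_i + a_i`), and an element of `A` is fixed by every
`R`-algebra automorphism if and only if it comes from `R`. (The published statement says that
`Frac(A)/Frac(R)` is Galois with group `(ℤ/pℤ)^n` and `R = A^H`; this row states it through the
`R`-algebra automorphisms of `A`.) -/
theorem result
    (p : ℕ) [Fact p.Prime] (k : Type u) [Field k] [CharP k p] (n : ℕ) (hn : 2 ≤ n)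
    (a : Fin n → MvPowerSeries (Fin n) k)
    (ha0 : ∀ i, a i ≠ 0) (ham : ∀ i, MvPowerSeries.constantCoeff (a i) = 0) :
    let R := MvPowerSeries (Fin n) k
    let I : Ideal (MvPolynomial (Fin n) R) :=
      Ideal.span (Set.range fun i : Fin n =>
        X i ^ p - C (a i ^ (p - 1)) * X i - C (MvPowerSeries.X i))
    Nat.card ((MvPolynomial (Fin n) R ⧸ I) ≃ₐ[R] (MvPolynomial (Fin n) R ⧸ I)) = p ^ n ∧
      (∀ σ τ : (MvPolynomial (Fin n) R ⧸ I) ≃ₐ[R] (MvPolynomial (Fin n) R ⧸ I), σ * τ = τ * σ) ∧
      (∀ σ : (MvPolynomial (Fin n) R ⧸ I) ≃ₐ[R] (MvPolynomial (Fin n) R ⧸ I), σ ^ p = 1) ∧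
      (∀ b : MvPolynomial (Fin n) R ⧸ I,
        (∀ σ : (MvPolynomial (Fin n) R ⧸ I) ≃ₐ[R] (MvPolynomial (Fin n) R ⧸ I), σ b = b) ↔
          b ∈ Set.range (algebraMap R (MvPolynomial (Fin n) R ⧸ I))) := by
  intro R I
  haveI : IsDomain R := NoZeroDivisors.to_isDomain _
  haveI : CharP R p := charP_of_injective_algebraMap (algebraMap k R).injective p
  have hp2 : 2 ≤ p := (Fact.out : p.Prime).two_le
  have hc : ∀ i, a i ^ (p - 1) ∈ IsLocalRing.maximalIdeal R := by
    intro i
    apply Ideal.pow_mem_of_mem _ _ _ (by omega)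
    rw [IsLocalRing.mem_maximalIdeal, mem_nonunits_iff, MvPowerSeries.isUnit_iff_constantCoeff, ham i]
    exact not_isUnit_zero
  have hx : IsLocalRing.maximalIdeal R =
      Ideal.span (Set.range (fun i : Fin n => (MvPowerSeries.X i : MvPowerSeries (Fin n) k))) :=
    Groth.Agent.Helper5.MvPSDim.maximalIdeal_eq k n
  have hdim : (n : WithBot ℕ∞) ≤ ringKrullDim R :=
    Groth.Agent.Helper5.MvPSDim.le_ringKrullDim k n
  haveI hdom : IsDomain (Groth.Agent.Helper7.WqAut.AS p a (fun i => MvPowerSeries.X i)) :=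
    Groth.Agent.Helper7.WqReg.isDomain_AC p (fun i => a i ^ (p - 1))
      (fun i => MvPowerSeries.X i) hp2 hc hx hdim
  have hinj : Function.Injective
      (algebraMap R (Groth.Agent.Helper7.WqAut.AS p a (fun i => MvPowerSeries.X i))) :=
    Groth.Agent.Helper7.WqReg.algebraMap_injective_AC p (fun i => a i ^ (p - 1))
      (fun i => MvPowerSeries.X i) hp2 hx
  have htf : ∀ (r : R) (y : Groth.Agent.Helper7.WqAut.AS p a (fun i => MvPowerSeries.X i)),
      r ≠ 0 → r • y = 0 → y = 0 := by
    haveI := Groth.Agent.Helper7.WqReg.free_AC p (fun i => a i ^ (p - 1))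
      (fun i => (MvPowerSeries.X i : MvPowerSeries (Fin n) k)) hp2
    intro r y hr h
    exact (smul_eq_zero.mp h).resolve_left hr
  exact ⟨Groth.Agent.Helper7.WqAut.card_aut p a (fun i => MvPowerSeries.X i) ha0 hinj,
    Groth.Agent.Helper7.WqAut.aut_comm p a (fun i => MvPowerSeries.X i) ha0 hinj,
    Groth.Agent.Helper7.WqAut.aut_pow p a (fun i => MvPowerSeries.X i) ha0 hinj,
    Groth.Agent.Helper7.WqAut.fixed_iff p a (fun i => MvPowerSeries.X i) ha0 htf⟩

end Groth.Agent.S15789
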