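import Groth.Statements.S15796
import Mathlib

set_option autoImplicit false
universe u v
open WildQuot

namespace Groth.Agent.S15796

/-- Let `A` be a Noetherian local ring of Krull dimension `n` whose maximal ideal `m` is generated by
`u_1, …, u_n`, and let a finite group `G` act on `A` by ring automorphisms. If some `σ ∈ G` maps
some `u_i` into the ideal generated by the `u_j` with `j ≠ i`, then the system `u` is not weakly
admissible: for some choice `σ_1, …, σ_n ∈ G` the radical of `(σ_1 u_1, …, σ_n u_n)` does not
contain `m`. (The published statement is for a linear action on `k[[u_1, …, u_n]]` whose matrix has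
a zero diagonal entry; this row assumes instead that some `σ u_i` lies in the ideal generated by the
other `u_j`.) -/
theorem result
    (A : Type u) [CommRing A] [IsLocalRing A] [IsNoetherianRing A]
    (G : Type v) [Group G] [Finite G] [MulSemiringAction G A]
    (n : ℕ) (hn : ringKrullDim A = n) (u : Fin n → A)
    (hu : Ideal.span (Set.range u) = IsLocalRing.maximalIdeal A)
    (σ : G) (i : Fin n) (hσ : σ • u i ∈ Ideal.span (u '' {j | j ≠ i})) :
    ∃ τ : Fin n → G,
      ¬ IsLocalRing.maximalIdeal A ≤ (Ideal.span (Set.range fun j => τ j • u j)).radical := by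
  classical
  set m := IsLocalRing.maximalIdeal A with hm
  let τ : Fin n → G := fun j => if j = i then σ else 1
  refine ⟨τ, fun hle => ?_⟩
  set s : Finset A := (Finset.univ.erase i).image u with hs
  have hsset : (u '' {j' | j' ≠ i}) = (↑s : Set A) := by
    ext x
    simp [hs]
  have hJ : Ideal.span (Set.range fun j => τ j • u j) ≤ Ideal.span (s : Set A) := by
    rw [Ideal.span_le]
    rintro _ ⟨j, rfl⟩
    by_cases hj : j = i
    · subst hj
      simp only [τ, if_pos]
      rw [← hsset]
      exact hσ
    · simp only [τ, if_neg hj, one_smul]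
      apply Ideal.subset_span
      rw [← hsset]
      exact ⟨j, hj, rfl⟩
  have hm_le : m ≤ (Ideal.span (s : Set A)).radical := hle.trans (Ideal.radical_mono hJ)
  have hs_le : Ideal.span (s : Set A) ≤ m := by
    rw [Ideal.span_le, ← hsset]
    rintro _ ⟨j, _, rfl⟩
    show u j ∈ m
    rw [← hu]
    exact Ideal.subset_span ⟨j, rfl⟩
  have hmin : m ∈ (Ideal.span (s : Set A)).minimalPrimes := by
    refine ⟨⟨inferInstance, hs_le⟩, fun q hq hqm => ?_⟩
    exact hm_le.trans ((hq.1.radical_le_iff).mpr hq.2)
  have hht := Ideal.height_le_card_of_mem_minimalPrimes_span_finset hmin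
  have hcard : s.card ≤ n - 1 := by
    calc s.card ≤ (Finset.univ.erase i).card := Finset.card_image_le
      _ = n - 1 := by simp
  have hheight : (m.height : WithBot ℕ∞) = ((n : ℕ∞) : WithBot ℕ∞) := by
    rw [hm, IsLocalRing.maximalIdeal_height_eq_ringKrullDim, hn]
    rfl
  have hheight' : m.height = (n : ℕ∞) := WithBot.coe_injective hheight
  rw [hheight'] at hht
  have h1 : (n : ℕ∞) ≤ ((n - 1 : ℕ) : ℕ∞) := hht.trans (by exact_mod_cast hcard)
  have h2 : n ≤ n - 1 := by exact_mod_cast h1
  have hn1 : 0 < n := Fin.pos i
  omega

end Groth.Agent.S15796
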