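import Groth.Statements.S15808
import Mathlib
import Groth.Agent.Helper7.WqNrmB
import Groth.Agent.Helper5.MvPSDim

set_option autoImplicit false
universe u
open WildQuot

namespace Groth.Agent.S15808

open MvPolynomial in
/-- Let `k` be a field of characteristic `p > 0`, `n ≥ 2`, `R = k[[x_1, …, x_n]]`, `a_1, …, a_n ∈ R`
with zero constant term and pairwise coprime, `μ ∈ R` nonzero and coprime to each `a_i`; fix an
index `i₀` and let `B = R[Z_j : j ≠ i₀] / (Z_j ^ p - (μ a_{i₀} a_j) ^ (p-1) Z_j - (a_{i₀} ^ p x_j -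
a_j ^ p x_{i₀}) : j ≠ i₀)`, the complete-intersection ring of the minor elements through `u_{i₀}`.
Then `B` is a free `R`-module of rank `p ^ (n-1)`, `B` is an integral domain, and the localisation
`B[1/(μ a_{i₀})]` is integrally closed. (The published statement uses the first index for `i₀`; this
row allows any index.) -/
theorem result
    (p : ℕ) [Fact p.Prime] (k : Type u) [Field k] [CharP k p] (n : ℕ) (hn : 2 ≤ n)
    (a : Fin n → MvPowerSeries (Fin n) k) (μ : MvPowerSeries (Fin n) k)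
    (ham : ∀ i, MvPowerSeries.constantCoeff (a i) = 0) (hcop : ∀ i j, i ≠ j → IsRelPrime (a i) (a j))
    (hμ : μ ≠ 0) (hμa : ∀ i, IsRelPrime μ (a i)) (i₀ : Fin n) :
    let R := MvPowerSeries (Fin n) k
    let r : {j : Fin n // j ≠ i₀} → MvPolynomial {j : Fin n // j ≠ i₀} R := fun j =>
      X j ^ p - C ((μ * a i₀ * a j.1) ^ (p - 1)) * X j
        - C (a i₀ ^ p * MvPowerSeries.X j.1 - a j.1 ^ p * MvPowerSeries.X i₀)
    let B := MvPolynomial {j : Fin n // j ≠ i₀} R ⧸ Ideal.span (Set.range r)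
    Module.Free R B ∧ Module.finrank R B = p ^ (n - 1) ∧ IsDomain B ∧
      IsIntegrallyClosed (Localization.Away (algebraMap R B (μ * a i₀))) := by
  intro R r B
  haveI : IsDomain R := NoZeroDivisors.to_isDomain _
  haveI : CharP R p := charP_of_injective_algebraMap (algebraMap k R).injective p
  have ha0 : a i₀ ≠ 0 := by
    intro h0
    obtain ⟨j, hj⟩ : ∃ j : Fin n, j ≠ i₀ := by
      by_cases h : i₀ = ⟨0, by omega⟩
      · exact ⟨⟨1, by omega⟩, by rw [h]; intro h'; simpa using congrArg Fin.val h'⟩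
      · exact ⟨⟨0, by omega⟩, fun h' => h h'.symm⟩
    have h1 := hcop i₀ j hj.symm
    rw [h0, isRelPrime_zero_left] at h1
    have h2 := MvPowerSeries.isUnit_iff_constantCoeff.mp h1
    rw [ham j] at h2
    exact not_isUnit_zero h2
  have ham' : ∀ i, a i ∈ IsLocalRing.maximalIdeal R := by
    intro i
    rw [IsLocalRing.mem_maximalIdeal, mem_nonunits_iff, MvPowerSeries.isUnit_iff_constantCoeff, ham i]
    exact not_isUnit_zero
  have hx : IsLocalRing.maximalIdeal R =
      Ideal.span (Set.range (fun i : Fin n => (MvPowerSeries.X i : MvPowerSeries (Fin n) k))) :=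
    Groth.Agent.Helper5.MvPSDim.maximalIdeal_eq k n
  have hdim : (n : WithBot ℕ∞) ≤ ringKrullDim R :=
    Groth.Agent.Helper5.MvPSDim.le_ringKrullDim k n
  have hI : Ideal.span (Set.range r) =
      Groth.Agent.Helper7.WqKer.ciIdeal
        (Groth.Agent.Helper7.WqKer.gB p a μ (fun i => MvPowerSeries.X i) i₀) :=
    (Groth.Agent.Helper7.WqKer.ciIdeal_gB p a μ (fun i => MvPowerSeries.X i) i₀).symm
  have key : ∀ (I : Ideal (MvPolynomial {j : Fin n // j ≠ i₀} R)),
      I = Groth.Agent.Helper7.WqKer.ciIdeal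
        (Groth.Agent.Helper7.WqKer.gB p a μ (fun i => MvPowerSeries.X i) i₀) →
      (Module.Free R (MvPolynomial {j : Fin n // j ≠ i₀} R ⧸ I) ∧
        Module.finrank R (MvPolynomial {j : Fin n // j ≠ i₀} R ⧸ I) = p ^ (n - 1) ∧
        IsDomain (MvPolynomial {j : Fin n // j ≠ i₀} R ⧸ I) ∧
        IsIntegrallyClosed (Localization.Away
          (algebraMap R (MvPolynomial {j : Fin n // j ≠ i₀} R ⧸ I) (μ * a i₀)))) := by
    intro I hI'
    subst hI'
    have hm := Groth.Agent.Helper7.WqNrm.main_BB p a μ (fun i => MvPowerSeries.X i) i₀ ha0 hμ ham'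
      hx hdim
    exact ⟨Groth.Agent.Helper7.WqNrm.free_BB p a μ (fun i => MvPowerSeries.X i) i₀,
      Groth.Agent.Helper7.WqNrm.finrank_BB p a μ (fun i => MvPowerSeries.X i) i₀, hm.1, hm.2⟩
  exact key _ hI

end Groth.Agent.S15808
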