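import Groth.Statements.S15811
import Mathlib

set_option autoImplicit false
universe u
open WildQuot

namespace Groth.Agent.S15811

/-- Let `R` be an integrally closed domain of prime characteristic `p` with fraction field `K`, and `α ∈
R`. Then `α ≠ 0` and the polynomial `T ^ p - α T` splits into linear factors over `K` — which says
that the finite flat group scheme `Spec R[T]/(T ^ p - α T)` of order `p` has constant generic fibre
(its `p` roots are then distinct) — if and only if `α = a ^ (p-1)` for some nonzero `a ∈ R`. (The
published statement is that the generic fibre of the finite flat group scheme of order `p` with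
parameters `α, β` satisfying `α β = 0`, whose underlying scheme is `Spec R[T]/(T ^ p - α T)`, is
constant if and only if `β = 0` and `α` is the `(p-1)`-th power of a nonzero element of `R`; this
row states the polynomial condition, in which `α ≠ 0` already forces `β = 0` over a domain.) -/
theorem result
    (p : ℕ) [Fact p.Prime] (R : Type u) [CommRing R] [IsDomain R] [IsIntegrallyClosed R]
    [CharP R p] (α : R) :
    (α ≠ 0 ∧ (Polynomial.map (algebraMap R (FractionRing R))
        (Polynomial.X ^ p - Polynomial.C α * Polynomial.X)).Splits) ↔
      ∃ a : R, a ≠ 0 ∧ α = a ^ (p - 1) := by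
  classical
  set K := FractionRing R with hK
  have hinj : Function.Injective (algebraMap R K) := IsFractionRing.injective R K
  haveI : CharP K p := charP_of_injective_algebraMap hinj p
  have hp2 : 2 ≤ p := (Fact.out : p.Prime).two_le
  have hmap : Polynomial.map (algebraMap R K) (Polynomial.X ^ p - Polynomial.C α * Polynomial.X) =
      Polynomial.X ^ p - Polynomial.C (algebraMap R K α) * Polynomial.X := by
    simp
  rw [hmap]
  have hdeg : (Polynomial.X ^ p - Polynomial.C (algebraMap R K α) * Polynomial.X : Polynomial K).natDegree = p := by
    rw [Polynomial.natDegree_sub_eq_left_of_natDegree_lt, Polynomial.natDegree_X_pow]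
    rw [Polynomial.natDegree_X_pow]
    calc (Polynomial.C (algebraMap R K α) * Polynomial.X).natDegree ≤ 1 := by
          exact (Polynomial.natDegree_C_mul_le _ _).trans Polynomial.natDegree_X_le
      _ < p := by omega
  have hne0 : (Polynomial.X ^ p - Polynomial.C (algebraMap R K α) * Polynomial.X : Polynomial K) ≠ 0 := by
    intro h0
    rw [h0, Polynomial.natDegree_zero] at hdeg
    omega
  constructor
  · rintro ⟨hα, hsp⟩
    -- factor g = X^(p-1) - C α'
    have hfac : (Polynomial.X ^ (p - 1) - Polynomial.C (algebraMap R K α) : Polynomial K) ∣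
        Polynomial.X ^ p - Polynomial.C (algebraMap R K α) * Polynomial.X := by
      refine ⟨Polynomial.X, ?_⟩
      have : p = (p - 1) + 1 := by omega
      conv_lhs => rw [this, pow_succ]
      ring
    have hgs := hsp.of_dvd hne0 hfac
    have hgdeg : (Polynomial.X ^ (p - 1) - Polynomial.C (algebraMap R K α) : Polynomial K).degree ≠ 0 := by
      rw [Polynomial.degree_X_pow_sub_C (by omega)]
      have : (p - 1 : ℕ) ≠ 0 := by omega
      exact_mod_cast this
    obtain ⟨b, hb⟩ := hgs.exists_eval_eq_zero hgdeg
    simp only [Polynomial.eval_sub, Polynomial.eval_pow, Polynomial.eval_X, Polynomial.eval_C,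
      sub_eq_zero] at hb
    have hint : IsIntegral R b := by
      refine ⟨Polynomial.X ^ (p - 1) - Polynomial.C α, Polynomial.monic_X_pow_sub_C α (by omega), ?_⟩
      rw [Polynomial.eval₂_sub, Polynomial.eval₂_pow, Polynomial.eval₂_X, Polynomial.eval₂_C, hb, sub_self]
    obtain ⟨a, ha⟩ := IsIntegrallyClosed.isIntegral_iff.mp hint
    refine ⟨a, ?_, ?_⟩
    · rintro rfl
      rw [map_zero] at ha
      rw [← ha, zero_pow (by omega)] at hb
      exact hα (hinj (by rw [← hb, map_zero]))
    · apply hinj
      rw [map_pow, ha, hb]
  · rintro ⟨a, ha0, rfl⟩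
    refine ⟨pow_ne_zero _ ha0, ?_⟩
    rw [Polynomial.splits_iff_card_roots, hdeg]
    set a' := algebraMap R K a with ha'
    have ha'0 : a' ≠ 0 := by
      intro h
      exact ha0 (hinj (by rw [← ha', h, map_zero]))
    set ι : ZMod p → K := fun c => ZMod.castHom (dvd_refl p) K c * a' with hι
    have hιinj : Function.Injective ι := by
      intro c c' hcc
      have := mul_right_cancel₀ ha'0 hcc
      exact (ZMod.castHom (dvd_refl p) K).injective this
    set S : Finset K := Finset.univ.image ι with hS
    have hScard : S.card = p := by
      rw [hS, Finset.card_image_of_injective _ hιinj, Finset.card_univ, ZMod.card]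
    have hsub : S.val ≤ (Polynomial.X ^ p - Polynomial.C (algebraMap R K (a ^ (p - 1))) * Polynomial.X : Polynomial K).roots := by
      rw [Multiset.le_iff_subset S.nodup]
      intro x hx
      rw [Finset.mem_val, hS, Finset.mem_image] at hx
      obtain ⟨c, _, rfl⟩ := hx
      rw [Polynomial.mem_roots hne0]
      simp only [Polynomial.IsRoot.def, Polynomial.eval_sub, Polynomial.eval_pow, Polynomial.eval_X,
        Polynomial.eval_mul, Polynomial.eval_C, hι, map_pow]
      have hc : (ZMod.castHom (dvd_refl p) K c) ^ p = ZMod.castHom (dvd_refl p) K c := by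
        rw [← map_pow, ZMod.pow_card]
      rw [mul_pow, hc]
      have : a' ^ p = a' ^ (p - 1) * a' := by
        rw [← pow_succ]; congr 1; omega
      rw [this]; ring
    have h1 := Multiset.card_le_card hsub
    rw [Finset.card_val, hScard] at h1
    have h2 := Polynomial.card_roots' (Polynomial.X ^ p - Polynomial.C (algebraMap R K (a ^ (p - 1))) * Polynomial.X : Polynomial K)
    rw [hdeg] at h2
    exact le_antisymm h2 h1

end Groth.Agent.S15811
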