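import Groth.Statements.S1582
import Groth.Agent.Helper4.GeomIrrSch
import Groth.Agent.S2535
import Groth.Agent.S4628
import Mathlib

set_option autoImplicit false
universe u
open CategoryTheory CategoryTheory.Limits AlgebraicGeometry
open Variety

namespace Groth.Agent.S1582


/-- Let k be algebraically closed and X, Y varieties over k (integral, separated, of finite type). Then
the fibre product X ×_k Y is integral (and so again a variety over k). -/
theorem result (k : Type u) [Field k] [IsAlgClosed k] (X Y : Scheme.{u})
    (f : X ⟶ Spec (CommRingCat.of k)) (g : Y ⟶ Spec (CommRingCat.of k))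
    [IsIntegral X] [IsIntegral Y] [IsSeparated f] [IsSeparated g]
    [LocallyOfFiniteType f] [LocallyOfFiniteType g] [QuasiCompact f] [QuasiCompact g] :
    IsIntegral (pullback f g) := by

  haveI : Subsingleton ↥(Spec (CommRingCat.of k)) :=
    inferInstanceAs (Subsingleton (PrimeSpectrum k))
  haveI : GeometricallyIrreducible g :=
    Groth.Agent.Helper4.GeomIrrSch.geometricallyIrreducible_of_isIntegral g
  haveI : IrreducibleSpace ↥(pullback f g) := inferInstance
  haveI : IsIso (Spec.map (CommRingCat.ofHom (algebraMap k k))) := by
    have : CommRingCat.ofHom (algebraMap k k) = 𝟙 (CommRingCat.of k) := rfl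
    rw [this, Spec.map_id]
    infer_instance
  haveI : AlgebraicGeometry.IsReduced (FBase.bc f k) := by
    unfold FBase.bc
    exact isReduced_of_isOpenImmersion (pullback.fst f _)
  haveI : GeometricallyReduced f := Groth.Agent.S2535.result (Ω := k) f
  haveI : AlgebraicGeometry.IsReduced (pullback f g) := Groth.Agent.S4628.result f g
  exact isIntegral_of_irreducibleSpace_of_isReduced _

end Groth.Agent.S1582
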