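import Groth.Statements.S15833
import Mathlib

set_option autoImplicit false
universe u
open EtBase

namespace Groth.Agent.S15833

open CategoryTheory CategoryTheory.Limits AlgebraicGeometry in
/-- maps from reduced schemes factor through a surjective closed immersion -/
theorem exists_factor {X X₀ T : Scheme.{u}} (i : X₀ ⟶ X)
    [IsClosedImmersion i] [Surjective i] [IsReduced T] (t : T ⟶ X) :
    ∃ t₀ : T ⟶ X₀, t₀ ≫ i = t := by
  have : IsIso (pullback.fst t i) := isIso_of_isClosedImmersion_of_surjective _
  refine ⟨inv (pullback.fst t i) ≫ pullback.snd t i, ?_⟩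
  rw [Category.assoc, ← pullback.condition, ← Category.assoc, IsIso.inv_hom_id, Category.id_comp]

open CategoryTheory CategoryTheory.Limits AlgebraicGeometry in
theorem aux {X X₀ Y : Scheme.{u}} (i : X₀ ⟶ X)
    [IsClosedImmersion i] [Surjective i] (f : Y ⟶ X) :
    ValuativeCriterion f ↔ ValuativeCriterion (pullback.snd f i) := by
  rw [ValuativeCriterion.iff, ValuativeCriterion.iff]
  constructor
  · rintro ⟨hE, hU⟩
    constructor
    · intro S
      have hsq : CommSq (S.i₁ ≫ pullback.fst f i) (Spec.map (CommRingCat.ofHom (algebraMap S.R S.K))) f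
          (S.i₂ ≫ i) := by
        constructor
        rw [Category.assoc, pullback.condition, ← Category.assoc, S.commSq.w, Category.assoc]
      let S' : ValuativeCommSq f := ⟨S.R, S.K, S.i₁ ≫ pullback.fst f i, S.i₂ ≫ i, hsq⟩
      obtain ⟨⟨l, h1, h2⟩⟩ := hE S'
      refine ⟨⟨⟨pullback.lift l S.i₂ h2, ?_, pullback.lift_snd _ _ _⟩⟩⟩
      apply pullback.hom_ext
      · rw [Category.assoc, pullback.lift_fst]; exact h1
      · rw [Category.assoc, pullback.lift_snd]; exact S.commSq.w.symm
    · intro S
      have hsq : CommSq (S.i₁ ≫ pullback.fst f i) (Spec.map (CommRingCat.ofHom (algebraMap S.R S.K))) f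
          (S.i₂ ≫ i) := by
        constructor
        rw [Category.assoc, pullback.condition, ← Category.assoc, S.commSq.w, Category.assoc]
      let S' : ValuativeCommSq f := ⟨S.R, S.K, S.i₁ ≫ pullback.fst f i, S.i₂ ≫ i, hsq⟩
      constructor
      intro ⟨l₁, a₁, b₁⟩ ⟨l₂, a₂, b₂⟩
      have hS' := hU S'
      let L₁ : S'.commSq.LiftStruct := ⟨l₁ ≫ pullback.fst f i, by
        rw [← Category.assoc, a₁], by rw [Category.assoc, pullback.condition, ← Category.assoc, b₁]⟩
      let L₂ : S'.commSq.LiftStruct := ⟨l₂ ≫ pullback.fst f i, by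
        rw [← Category.assoc, a₂], by rw [Category.assoc, pullback.condition, ← Category.assoc, b₂]⟩
      have hL : L₁ = L₂ := Subsingleton.elim _ _
      have hl : l₁ ≫ pullback.fst f i = l₂ ≫ pullback.fst f i := congrArg CommSq.LiftStruct.l hL
      have : l₁ = l₂ := by
        apply pullback.hom_ext hl
        rw [b₁, b₂]
      subst this
      rfl
  · rintro ⟨hE, hU⟩
    constructor
    · intro S
      obtain ⟨j₂, hj₂⟩ := exists_factor i S.i₂
      have hw : S.i₁ ≫ f = (Spec.map (CommRingCat.ofHom (algebraMap S.R S.K)) ≫ j₂) ≫ i := by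
        rw [Category.assoc, hj₂]; exact S.commSq.w
      have hsq : CommSq (pullback.lift S.i₁ (Spec.map (CommRingCat.ofHom (algebraMap S.R S.K)) ≫ j₂) hw)
          (Spec.map (CommRingCat.ofHom (algebraMap S.R S.K))) (pullback.snd f i) j₂ := by
        constructor
        rw [pullback.lift_snd]
      let S' : ValuativeCommSq (pullback.snd f i) := ⟨S.R, S.K, _, j₂, hsq⟩
      obtain ⟨⟨l, h1, h2⟩⟩ := hE S'
      refine ⟨⟨⟨l ≫ pullback.fst f i, ?_, ?_⟩⟩⟩
      · rw [← Category.assoc, h1, pullback.lift_fst]
      · rw [Category.assoc, pullback.condition, ← Category.assoc, h2, hj₂]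
    · intro S
      obtain ⟨j₂, hj₂⟩ := exists_factor i S.i₂
      have hw : S.i₁ ≫ f = (Spec.map (CommRingCat.ofHom (algebraMap S.R S.K)) ≫ j₂) ≫ i := by
        rw [Category.assoc, hj₂]; exact S.commSq.w
      have hsq : CommSq (pullback.lift S.i₁ (Spec.map (CommRingCat.ofHom (algebraMap S.R S.K)) ≫ j₂) hw)
          (Spec.map (CommRingCat.ofHom (algebraMap S.R S.K))) (pullback.snd f i) j₂ := by
        constructor
        rw [pullback.lift_snd]
      let S' : ValuativeCommSq (pullback.snd f i) := ⟨S.R, S.K, _, j₂, hsq⟩
      constructor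
      intro ⟨l₁, a₁, b₁⟩ ⟨l₂, a₂, b₂⟩
      have hS' := hU S'
      let L₁ : S'.commSq.LiftStruct := ⟨pullback.lift l₁ j₂ (by rw [b₁, hj₂]), by
        apply pullback.hom_ext
        · rw [Category.assoc, pullback.lift_fst, pullback.lift_fst]; exact a₁
        · rw [Category.assoc, pullback.lift_snd, pullback.lift_snd], pullback.lift_snd _ _ _⟩
      let L₂ : S'.commSq.LiftStruct := ⟨pullback.lift l₂ j₂ (by rw [b₂, hj₂]), by
        apply pullback.hom_ext
        · rw [Category.assoc, pullback.lift_fst, pullback.lift_fst]; exact a₂
        · rw [Category.assoc, pullback.lift_snd, pullback.lift_snd], pullback.lift_snd _ _ _⟩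
      have hL : L₁ = L₂ := Subsingleton.elim _ _
      have hl : pullback.lift l₁ j₂ (by rw [b₁, hj₂]) = pullback.lift l₂ j₂ (by rw [b₂, hj₂]) :=
        congrArg CommSq.LiftStruct.l hL
      have : l₁ = l₂ := by
        have := congrArg (· ≫ pullback.fst f i) hl
        simpa only [pullback.lift_fst] using this
      subst this
      rfl

open CategoryTheory CategoryTheory.Limits AlgebraicGeometry in
/-- Let i : X₀ ⟶ X be a surjective closed immersion of schemes and f : Y ⟶ X a morphism. Then f
satisfies the valuative criterion (existence and uniqueness of a lift in every valuative square,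
over arbitrary valuation rings) if and only if its base change Y ×_X X₀ ⟶ X₀ does. (The published
statement takes X locally Noetherian and connected, X₀ the reduced closed subscheme with the same
underlying space and f étale, and combines this step with the equivalence between étale schemes over
X and over X₀ to identify the geometric coverings, i.e. the étale morphisms satisfying the valuative
criterion, of X and of X₀; the argument for this step uses only that X₀ ⟶ X is a surjective closed
immersion and that valuation rings are reduced.) -/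
theorem result {X X₀ Y : Scheme.{u}} (i : X₀ ⟶ X)
    [IsClosedImmersion i] [Surjective i] (f : Y ⟶ X) :
    ValuativeCriterion f ↔ ValuativeCriterion (pullback.snd f i) := by
  exact aux i f

end Groth.Agent.S15833
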