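import Groth.Statements.S15835
import Mathlib

set_option autoImplicit false
universe u
open SprIso

namespace Groth.Agent.S15835

/-- Over a commutative ring R of prime characteristic p, let n ≥ 1 and let p^m be the largest power of p
dividing n. The locus of n × n matrices with characteristic polynomial t^n is stable under adding a
scalar matrix a·1 with n·a = 0 exactly when a^(p^m) = 0: for X with characteristic polynomial t^n
and such an a, the matrix X + a·1 has characteristic polynomial t^n if and only if a^(p^m) = 0.
(Stated on points with values in an arbitrary ring of characteristic p; the scheme-theoretic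
assertion about the nilpotent scheme of SL_n is this statement for all such rings.) -/
theorem result (p : ℕ) [Fact p.Prime] (R : Type u) [CommRing R]
    [CharP R p] (n : ℕ) (hn : 0 < n) (X : Matrix (Fin n) (Fin n) R) (hX : X.charpoly = Polynomial.X ^ n)
    (a : R) (ha : (n : R) * a = 0) :
    (X + Matrix.scalar (Fin n) a).charpoly = Polynomial.X ^ n ↔ a ^ (p ^ padicValNat p n) = 0 := by
  classical
  set e := padicValNat p n with he
  set q := p ^ e with hq
  have hpprime : p.Prime := Fact.out
  have hqpos : 0 < q := pow_pos hpprime.pos e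
  have hqn : q ∣ n := pow_padicValNat_dvd
  obtain ⟨m, hm⟩ := hqn
  have hmpos : 0 < m := by
    rcases Nat.eq_zero_or_pos m with h | h
    · rw [h, mul_zero] at hm; omega
    · exact h
  have hcop : Nat.Coprime m p := by
    rw [Nat.coprime_comm, Nat.Prime.coprime_iff_not_dvd hpprime]
    intro hpm
    obtain ⟨m', rfl⟩ := hpm
    have : p ^ (e + 1) ∣ n := ⟨m', by rw [hm, hq, pow_succ]; ring⟩
    rw [padicValNat_dvd_iff_le (by omega : n ≠ 0)] at this
    omega
  have hmunit : IsUnit (m : R) := by
    have h1 : IsUnit ((m : ℕ) : ZMod p) := (ZMod.isUnit_iff_coprime m p).mpr hcop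
    have h2 := h1.map (ZMod.castHom (dvd_refl p) R)
    simpa using h2
  -- charpoly of X + a
  have hchar : (X + Matrix.scalar (Fin n) a).charpoly = (Polynomial.X - Polynomial.C a) ^ n := by
    have h1 : X + Matrix.scalar (Fin n) a = X - Matrix.scalar (Fin n) (-a) := by
      rw [map_neg, sub_neg_eq_add]
    rw [h1, Matrix.charpoly_sub_scalar, hX, Polynomial.pow_comp, Polynomial.X_comp, Polynomial.C_neg,
      ← sub_eq_add_neg]
  rw [hchar]
  have hexp : (Polynomial.X - Polynomial.C a : Polynomial R) ^ n =
      Polynomial.expand R q ((Polynomial.X - Polynomial.C (a ^ q)) ^ m) := by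
    rw [hm, pow_mul, hq, sub_pow_char_pow, map_pow, map_sub, Polynomial.expand_X, Polynomial.expand_C,
      ← Polynomial.C_pow]
  have hexp2 : (Polynomial.X : Polynomial R) ^ n = Polynomial.expand R q (Polynomial.X ^ m) := by
    rw [hm, pow_mul, map_pow, Polynomial.expand_X]
  rw [hexp, hexp2, (Polynomial.expand_injective hqpos).eq_iff]
  constructor
  · intro h
    have h2 : ((Polynomial.X - Polynomial.C (a ^ q) : Polynomial R) ^ m).coeff (m - 1) =
        ((Polynomial.X : Polynomial R) ^ m).coeff (m - 1) := by rw [h]
    rw [sub_eq_add_neg, ← Polynomial.C_neg, Polynomial.coeff_X_add_C_pow, Polynomial.coeff_X_pow,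
      if_neg (by omega)] at h2
    have h3 : m - (m - 1) = 1 := by omega
    have h4 : m.choose (m - 1) = m := by
      rw [← Nat.choose_symm (by omega : m - 1 ≤ m), h3, Nat.choose_one_right]
    rw [h3, pow_one, h4] at h2
    have h5 : (m : R) * a ^ q = 0 := by
      have : -(a ^ q) * (m : R) = 0 := h2
      linear_combination (-1 : R) * this
    exact (hmunit.mul_right_eq_zero).mp h5
  · intro h
    rw [h, Polynomial.C_0, sub_zero]

end Groth.Agent.S15835
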