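import Groth.Statements.S15897
import Mathlib

set_option autoImplicit false
universe u v
open CartDual

namespace Groth.Agent.S15897

/-- Let R be a commutative ring and A a commutative Hopf algebra over R which is finitely generated and
projective as an R-module (a finite locally free R-group scheme G = Spec A, not assumed
commutative). If the convolution product on the dual Hopf algebra Hom_R(A, R) is commutative, then A
is cocommutative, i.e. G is a commutative group scheme. (The dual Hopf algebra is commutative
exactly when A is cocommutative; the other implication is immediate and not stated. The published
notes work over a Noetherian base ring; the row allows any commutative base ring.) -/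
theorem result (R : Type u) [CommRing R] (A : Type v) [CommRing A] [HopfAlgebra R A]
    [Module.Finite R A] [Module.Projective R A] (h : ∀ x y : CartDual.D R A, x * y = y * x) :
    Coalgebra.IsCocomm R A := by
  constructor
  apply LinearMap.ext
  intro a
  rw [LinearMap.comp_apply]
  apply sub_eq_zero.mp
  rw [← Module.forall_dual_apply_eq_zero_iff R]
  intro ξ
  obtain ⟨z, rfl⟩ := (CartDual.ev₂ R A).surjective ξ
  have hswap : ∀ (x y : CartDual.D R A) (s : TensorProduct R A A),
      CartDual.ev₂ R A (TensorProduct.tmul R x y) (TensorProduct.comm R A A s) = CartDual.ev₂ R A (TensorProduct.tmul R y x) s := by
    intro x y s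
    induction s using TensorProduct.induction_on with
    | zero => simp
    | tmul b c => simp [mul_comm]
    | add s s' hs hs' => simp only [map_add, hs, hs']
  have hconv : ∀ (x y : CartDual.D R A) (c : A),
      CartDual.ev₂ R A (TensorProduct.tmul R x y) (Coalgebra.comul (R := R) c) = (x * y) c := by
    intro x y c
    rw [CartDual.ev₂_tmul_eq, CartDual.coe_apply, LinearMap.convMul_apply]
    generalize Coalgebra.comul (R := R) c = s
    induction s using TensorProduct.induction_on with
    | zero => simp
    | tmul b c => simp
    | add s s' hs hs' => simp only [map_add, hs, hs']
  induction z using TensorProduct.induction_on with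
  | zero => simp
  | tmul x y =>
    rw [map_sub, sub_eq_zero]
    erw [hswap]
    rw [hconv, hconv, h]
  | add z z' hz hz' =>
    rw [map_add, LinearMap.add_apply, hz, hz', add_zero]

end Groth.Agent.S15897
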