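import Groth.Statements.S15922
import Groth.Agent.Helper4.SN151
import Mathlib

set_option autoImplicit false
universe u
open CategoryTheory CategoryTheory.Limits AlgebraicGeometry
open Curves

namespace Groth.Agent.S15922


/-- Let k be an algebraically closed field, X a curve over k (proper over k, reduced, connected, every
irreducible component of dimension one) and P a closed point of X, with m_P the ideal sheaf of the
reduced point P viewed as an O_X-module. Then m_P is a torsion-free sheaf of rank one and degree -1:
regular elements of each local ring O_{X,x} act injectively on the stalk of m_P at x, the stalk at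
every generic point of an irreducible component has dimension one over the local ring there, and
χ(X, m_P) - χ(X, O_X) = -1. -/
theorem result (k : Type u) [Field k] [IsAlgClosed k] (X : Scheme.{u}) [X.Over (Spec (CommRingCat.of k))] [IsProper (X ↘ (Spec (CommRingCat.of k)))] [IsReduced X] [ConnectedSpace X]
    (hequi : ∀ Z ∈ irreducibleComponents (X : Type u), topologicalKrullDim Z = 1)
    (P : X) (hP : IsClosed ({P} : Set X)) :
    TorSh.IsTorsionFree (ClSub.idealMod (Scheme.IdealSheafData.vanishingIdeal ⟨{P}, hP⟩)) ∧
    (∀ η : X, closure ({η} : Set X) ∈ irreducibleComponents (X : Type u) →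
      Module.finrank (X.presheaf.stalk η) ((ClSub.idealMod (Scheme.IdealSheafData.vanishingIdeal ⟨{P}, hP⟩)).presheaf.stalk η) = 1) ∧
    Curv2.deg k X (ClSub.idealMod (Scheme.IdealSheafData.vanishingIdeal ⟨{P}, hP⟩)) 1 = -1 := by

  refine ⟨Groth.Agent.Helper4.SN.isTorsionFree_idealMod _, ?_,
    Groth.Agent.Helper4.SN.deg_idealMod_point k P hP⟩
  intro η hη
  have hne : η ≠ P := by
    rintro rfl
    have h1 := hequi _ hη
    rw [hP.closure_eq] at h1
    haveI : Subsingleton (({η} : Set X) : Type u) :=
      ⟨fun a b => Subtype.ext ((Set.mem_singleton_iff.1 a.2).trans (Set.mem_singleton_iff.1 b.2).symm)⟩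
    have h2 := Groth.Agent.Helper4.SN.topologicalKrullDim_le_zero_of_subsingleton
      (({η} : Set X) : Type u)
    rw [h1] at h2
    exact absurd h2 (by decide)
  have hinj := Groth.Agent.Helper4.StalkExact.stalkLin_injective
    (ClSub.idealModι (Scheme.IdealSheafData.vanishingIdeal ⟨{P}, hP⟩)) η
  have hsurj := Groth.Agent.Helper4.SN.stalkLin_idealModι_surjective P hP η hne
  rw [(LinearEquiv.ofBijective _ ⟨hinj, hsurj⟩).finrank_eq]
  exact Groth.Agent.Helper4.SN.finrank_stalk_structureModule η

end Groth.Agent.S15922
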