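import Groth.Statements.S15941
import Mathlib

set_option autoImplicit false
universe u
open HTop

namespace Groth.Agent.S15941

/-- An integrally closed integral domain is a seminormal ring, that is, whenever x^3 = y^2 there is
exactly one element a with x = a^2 and y = a^3. (The published statement is for a normal Noetherian
scheme and reduces at once to this affine integral case; the Noetherian hypothesis plays no role.) -/
theorem result (A : Type u) [CommRing A] [IsDomain A]
    [IsIntegrallyClosed A] : HTop.IsSeminormalRing A := by
  intro x y hxy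
  by_cases hx : x = 0
  · subst hx
    have hy : y = 0 := by
      have : y ^ 2 = 0 := by rw [← hxy]; ring
      exact pow_eq_zero_iff (two_ne_zero) |>.mp this
    subst hy
    refine ⟨0, ⟨by ring, by ring⟩, ?_⟩
    rintro a ⟨ha, _⟩
    exact (pow_eq_zero_iff (two_ne_zero)).mp ha.symm
  · let F := FractionRing A
    have hxF : algebraMap A F x ≠ 0 := by
      intro h
      exact hx ((IsFractionRing.injective A F) (by rw [h, map_zero]))
    set b : F := algebraMap A F y / algebraMap A F x with hb
    have hb2 : b ^ 2 = algebraMap A F x := by
      rw [hb, div_pow, ← map_pow, ← hxy, map_pow, div_eq_iff (pow_ne_zero 2 hxF)]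
      ring
    have hint : IsIntegral A b := by
      refine ⟨Polynomial.X ^ 2 - Polynomial.C x, Polynomial.monic_X_pow_sub_C x two_ne_zero, ?_⟩
      simp [hb2]
    obtain ⟨a, ha⟩ := IsIntegrallyClosed.isIntegral_iff.mp hint
    have ha2 : x = a ^ 2 := by
      apply IsFractionRing.injective A F
      rw [map_pow, ha, hb2]
    have ha3 : y = a ^ 3 := by
      apply IsFractionRing.injective A F
      rw [map_pow, ha, pow_succ, hb2, hb, mul_div_cancel₀ _ hxF]
    refine ⟨a, ⟨ha2, ha3⟩, ?_⟩
    rintro c ⟨hc2, hc3⟩
    have hc0 : c ≠ 0 := by
      intro h; apply hx; rw [hc2, h]; ring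
    have h1 : c * x = a * x := by
      have e1 : c * x = y := by rw [hc3, hc2]; ring
      have e2 : a * x = y := by rw [ha3, ha2]; ring
      rw [e1, e2]
    exact mul_right_cancel₀ hx h1

end Groth.Agent.S15941
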