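import Groth.Statements.S15949
import Mathlib
import Groth.Agent.Helper3.RatAbD

set_option autoImplicit false
universe u
open scoped TensorProduct
open AlgGrp

namespace Groth.Agent.S15949

open CategoryTheory AlgebraicGeometry in
/-- Auxiliary step: let κ be an arbitrary field, G a group scheme over κ which is smooth over κ, and φ :
P¹_κ → G a morphism over κ. Then φ is constant: there is a κ-rational point g of G such that φ is
the structure morphism P¹_κ → Spec κ followed by g. (The published proof states this step for any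
smooth group scheme over a field in the course of proving the main proposition.) -/
theorem result (κ : Type u) [Field κ]
    (G : Over (Spec (CommRingCat.of κ))) [GrpObj G] [Smooth G.hom]
    (φ : CohB1.ProjSpaceOver 1 (Spec (CommRingCat.of κ)) ⟶ G.left)
    (hφ : φ ≫ G.hom = CohB1.ProjSpaceOver.toBase 1 (Spec (CommRingCat.of κ))) :
    ∃ g : Spec (CommRingCat.of κ) ⟶ G.left, g ≫ G.hom = 𝟙 _ ∧
      φ = CohB1.ProjSpaceOver.toBase 1 (Spec (CommRingCat.of κ)) ≫ g := by
  have i1 : IsIso (Groth.Agent.Helper1.ProjBC.ββ (Groth.Agent.Helper1.Fin.φ₀ κ) 1) :=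
    Groth.Agent.Helper4.SN213.isIso_ββ _ 1
  let e : CohB1.ProjSpaceOver 1 (Spec (CommRingCat.of κ)) ⟶ Proj (CohB1.polyGrading 1 κ) :=
    Groth.Agent.Helper1.Fin.κκ κ 1
  let tS : Proj (CohB1.polyGrading 1 κ) ⟶ Spec (CommRingCat.of κ) := CohB1.ProjSpace.toSpec 1 κ
  have i2 : IsIso e := by
    show IsIso (Groth.Agent.Helper1.Fin.κκ κ 1)
    unfold Groth.Agent.Helper1.Fin.κκ
    exact IsIso.comp_isIso' inferInstance i1
  have hκ : e ≫ tS = CohB1.ProjSpaceOver.toBase 1 (Spec (CommRingCat.of κ)) :=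
    Groth.Agent.Helper1.Fin.κκ_toSpec κ 1
  obtain ⟨a, ha1, ha2⟩ := Groth.Agent.Helper3.RatAbD.core κ G
    (inv e ≫ φ) (by
      rw [Category.assoc, hφ, IsIso.inv_comp_eq]
      exact hκ.symm)
  refine ⟨a, ha1, ?_⟩
  have ha3 : inv e ≫ φ = tS ≫ a := ha2
  rw [IsIso.inv_comp_eq] at ha3
  rw [ha3, ← Category.assoc, hκ]

end Groth.Agent.S15949
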