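import Groth.Statements.S1596
import Groth.Agent.Helper1.NodalRed3

set_option autoImplicit false
universe u
open CategoryTheory CategoryTheory.Limits AlgebraicGeometry
open Curves

namespace Groth.Agent.S1596

/-- Let f : X → S be a proper morphism of schemes that is at-worst-nodal of relative dimension one with
geometrically connected fibres. Then R¹f_*O_X is a finite locally free O_S-module and R^q f_*O_X = 0
for every q ≥ 2. The published statement also includes the compatibility of these direct images with
base change, which is not asserted here. (Existence of injective resolutions in the category of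
O_X-modules is carried as an instance binder.) -/
theorem result {X S : Scheme.{u}} (f : X ⟶ S) [IsProper f] (hf : Curv2.IsNodalFamily f)
    [GeometricallyConnected f] [HasInjectiveResolutions X.Modules] :
    FlatMod.IsFinLocFree ((Coh.Rpush f 1).obj (Coh.structureModule X)) ∧
      ∀ q : ℕ, 2 ≤ q → IsZero ((Coh.Rpush f q).obj (Coh.structureModule X)) := by
  have hf' := hf
  obtain ⟨hfl, hfp, -⟩ := hf'
  haveI := hfl
  haveI := hfp
  have h := fun s => Groth.Agent.Helper1.NodalRed.isIso_appTop_of_isNodalFamily f hf s
  have hdim := fun s => Groth.Agent.Helper1.NodalRed.dim_fiber_le_one_of_isNodalFamily f hf s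
  obtain ⟨hFP, hFl⟩ := Groth.Agent.Helper1.CurveFam.structure_conditions f
  refine ⟨Groth.Agent.Helper1.CurveFam.isFinLocFree_R1 f h hdim, fun q hq => ?_⟩
  exact Groth.Agent.Helper1.CurveFam.isZero_Rpush_of_dim f 1 hdim (Coh.structureModule X) hFP hFl q
    (by omega)

end Groth.Agent.S1596
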