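import Groth.Statements.S16014
import Mathlib.Tactic

set_option autoImplicit false
universe u
open W4c3ghconstell

namespace Groth.Agent.S16014

/-- Let B = ⊕_{n ∈ ℤ} ⊕_τ B^n_τ be a bigraded finite-dimensional vector space, τ running over a finite
index set, with B^n = 0 for n < −N and for n > M (N, M integers); put d(n, τ) = dim B^n_τ. For
rational numbers φ_τ write φ(C) = Σ_τ φ_τ dim C_τ for a τ-graded piece C, and let B^{≥n} = ⊕_{m ≥ n}
B^m, so that dim B^{≥n}_τ = Σ_{n ≤ m ≤ M} d(m, τ). Then Σ_{−N ≤ n ≤ M} n · φ(B^n) = Σ_{−N+1 ≤ n ≤ M}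
φ(B^{≥n}) − N · φ(B). (Stated directly on the dimension function d.) -/
theorem result {τ : Type u} [Fintype τ] (d : ℤ → τ → ℕ) (φ : τ → ℚ) (N M : ℤ)
    (hN : ∀ n, n < -N → d n = 0) (hM : ∀ n, M < n → d n = 0) :
    ∑ n ∈ Finset.Icc (-N) M, (n : ℚ) * (∑ t, φ t * (d n t : ℚ)) =
      ∑ n ∈ Finset.Icc (-N + 1) M, (∑ t, φ t * (∑ m ∈ Finset.Icc n M, (d m t : ℚ))) -
        (N : ℚ) * (∑ t, φ t * (∑ m ∈ Finset.Icc (-N) M, (d m t : ℚ))) := by
  classical
  -- swap the order of summation for a single function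
  have swap : ∀ g : ℤ → ℚ, ∑ n ∈ Finset.Icc (-N + 1) M, ∑ m ∈ Finset.Icc n M, g m =
      ∑ m ∈ Finset.Icc (-N) M, ((m : ℚ) + N) * g m := by
    intro g
    rw [Finset.sum_comm' (t' := Finset.Icc (-N + 1) M) (s' := fun m => Finset.Icc (-N + 1) m)]
    · have h1 : ∀ m ∈ Finset.Icc (-N + 1) M, ∑ n ∈ Finset.Icc (-N + 1) m, g m =
          ((m : ℚ) + N) * g m := by
        intro m hm
        rw [Finset.sum_const, Int.card_Icc, nsmul_eq_mul]
        rw [Finset.mem_Icc] at hm
        have : ((m + 1 - (-N + 1)).toNat : ℤ) = m + N := by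
          rw [Int.toNat_of_nonneg (by omega)]; ring
        have h2 : (((m + 1 - (-N + 1)).toNat : ℕ) : ℚ) = (m : ℚ) + N := by
          have h3 : ((((m + 1 - (-N + 1)).toNat : ℕ) : ℤ) : ℚ) = ((m + N : ℤ) : ℚ) := by rw [this]
          rw [Int.cast_natCast] at h3
          rw [h3]; push_cast; ring
        rw [h2]
      rw [Finset.sum_congr rfl h1]
      by_cases hNM : -N ≤ M
      · have hI : Finset.Icc (-N) M = insert (-N) (Finset.Icc (-N + 1) M) := by
          ext x
          simp only [Finset.mem_Icc, Finset.mem_insert]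
          omega
        rw [hI, Finset.sum_insert (by simp)]
        push_cast
        ring
      · have e1 : Finset.Icc (-N) M = ∅ := Finset.Icc_eq_empty (by omega)
        have e2 : Finset.Icc (-N + 1) M = ∅ := Finset.Icc_eq_empty (by omega)
        rw [e1, e2]
    · intro n m
      simp only [Finset.mem_Icc]
      omega
  have h1 : ∀ t : τ, ∑ n ∈ Finset.Icc (-N + 1) M, ∑ m ∈ Finset.Icc n M, (d m t : ℚ) =
      ∑ m ∈ Finset.Icc (-N) M, ((m : ℚ) + N) * (d m t : ℚ) := fun t => swap _
  calc ∑ n ∈ Finset.Icc (-N) M, (n : ℚ) * (∑ t, φ t * (d n t : ℚ))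
      = ∑ t, φ t * ∑ n ∈ Finset.Icc (-N) M, (n : ℚ) * (d n t : ℚ) := by
        simp only [Finset.mul_sum]
        rw [Finset.sum_comm]
        refine Finset.sum_congr rfl fun t _ => Finset.sum_congr rfl fun n _ => by ring
    _ = ∑ t, φ t * (∑ n ∈ Finset.Icc (-N + 1) M, ∑ m ∈ Finset.Icc n M, (d m t : ℚ) -
          (N : ℚ) * ∑ m ∈ Finset.Icc (-N) M, (d m t : ℚ)) := by
        refine Finset.sum_congr rfl fun t _ => ?_
        rw [h1 t]
        congr 1
        rw [Finset.mul_sum, ← Finset.sum_sub_distrib]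
        refine Finset.sum_congr rfl fun n _ => by ring
    _ = _ := by
        simp only [mul_sub, Finset.sum_sub_distrib, Finset.mul_sum]
        congr 1
        · exact Finset.sum_comm
        · refine Finset.sum_congr rfl fun t _ => ?_
          refine Finset.sum_congr rfl fun n _ => ?_
          ring

end Groth.Agent.S16014
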