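import Groth.Statements.S16015
import Mathlib.RingTheory.Finiteness.Projective
import Mathlib.Tactic

set_option autoImplicit false
universe u v w
open W4c3ghconstell

namespace Groth.Agent.S16015

/-- Let B be a commutative ring, E a B-module, F a finitely generated projective B-module and β : E → F
a B-linear map. Then there is a unique ideal I of B such that for every commutative B-algebra C the
base change β_C : C ⊗ E → C ⊗ F is zero if and only if the structure map B → C kills I. (The
published statement is for a homomorphism of modules on a scheme T into a locally free module and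
produces a closed subscheme T₀ through which a morphism factors exactly when the pulled-back
homomorphism vanishes; this row is the case of an affine T with affine test schemes and F of finite
rank, to which it reduces.) -/
theorem result {B : Type u} [CommRing B]
    {E : Type v} [AddCommGroup E] [Module B E]
    {F : Type w} [AddCommGroup F] [Module B F] [Module.Finite B F] [Module.Projective B F]
    (β : E →ₗ[B] F) :
    ∃! I : Ideal B, ∀ (C : Type u) [CommRing C] [Algebra B C],
      LinearMap.baseChange C β = 0 ↔ I ≤ RingHom.ker (algebraMap B C) := by
  classical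
  obtain ⟨n, f, g, -, -, hfg⟩ := Module.Finite.exists_comp_eq_id_of_projective B F
  -- the ideal generated by all `φ (β e)`
  set I : Ideal B := Ideal.span {b | ∃ (φ : F →ₗ[B] B) (e : E), b = φ (β e)} with hI
  have hmemI : ∀ (φ : F →ₗ[B] B) (e : E), φ (β e) ∈ I := fun φ e =>
    Ideal.subset_span ⟨φ, e, rfl⟩
  -- expansion in the "dual basis"
  have hexp : ∀ x : F, x = ∑ j, (g x j) • f (Pi.single j 1) := by
    intro x
    have h1 : f (g x) = x := by
      have := congrArg (fun h => h x) hfg
      simpa using this
    conv_lhs => rw [← h1]
    have h2 : g x = ∑ j, (g x j) • (Pi.single j (1 : B) : Fin n → B) := by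
      funext i
      simp [Finset.sum_apply, Pi.single_apply]
    conv_lhs => rw [h2]
    rw [map_sum]
    simp only [map_smul]
  have main : ∀ (J : Ideal B), J = I → ∀ (C : Type u) [CommRing C] [Algebra B C],
      LinearMap.baseChange C β = 0 ↔ J ≤ RingHom.ker (algebraMap B C) := by
    intro J hJ C _ _
    subst hJ
    constructor
    · intro h0
      rw [hI, Ideal.span_le]
      rintro b ⟨φ, e, rfl⟩
      rw [SetLike.mem_coe, RingHom.mem_ker]
      have h1 : (LinearMap.baseChange C φ) ((LinearMap.baseChange C β) ((1 : C) ⊗ₜ[B] e)) = 0 := by
        rw [h0]; simp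
      rw [LinearMap.baseChange_tmul, LinearMap.baseChange_tmul] at h1
      have h2 := congrArg (TensorProduct.AlgebraTensorModule.rid B C C) h1
      rw [TensorProduct.AlgebraTensorModule.rid_tmul, map_zero, Algebra.smul_def, mul_one] at h2
      exact h2
    · intro hle
      apply LinearMap.ext
      intro t
      induction t using TensorProduct.induction_on with
      | zero => simp
      | tmul c e =>
        rw [LinearMap.baseChange_tmul, LinearMap.zero_apply]
        conv_lhs => rw [hexp (β e)]
        rw [TensorProduct.tmul_sum]
        refine Finset.sum_eq_zero fun j _ => ?_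
        have hb : (g (β e) j) ∈ I := hmemI ((LinearMap.proj j).comp g) e
        have hb0 : algebraMap B C (g (β e) j) = 0 := RingHom.mem_ker.mp (hle hb)
        rw [TensorProduct.tmul_smul, TensorProduct.smul_tmul', Algebra.smul_def, hb0, zero_mul,
          TensorProduct.zero_tmul]
      | add x y hx hy => rw [map_add, hx, hy]; simp
  refine ⟨I, main I rfl, ?_⟩
  intro I' hI'
  have hker : ∀ J : Ideal B, RingHom.ker (algebraMap B (B ⧸ J)) = J := by
    intro J
    rw [Ideal.Quotient.algebraMap_eq, Ideal.mk_ker]
  apply le_antisymm
  · have h1 : LinearMap.baseChange (B ⧸ I) β = 0 := (main I rfl (B ⧸ I)).mpr (by rw [hker])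
    have := (hI' (B ⧸ I)).mp h1
    rwa [hker] at this
  · have h1 : LinearMap.baseChange (B ⧸ I') β = 0 := (hI' (B ⧸ I')).mpr (by rw [hker])
    have := (main I rfl (B ⧸ I')).mp h1
    rwa [hker] at this

end Groth.Agent.S16015
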