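import Groth.Statements.S16016
import Mathlib

set_option autoImplicit false
universe u
open W4c3ghconstell

namespace Groth.Agent.S16016

/-- Let k be a field with 2 ≠ 0, index k⁶ by two copies of {0,1,2} (basis vectors p₁, p₂, p₃ in the
first copy and p₄, p₅, p₆ in the second), let Q be the symmetric matrix with blocks ((0, 1), (1,
0)), so that the form it defines pairs pᵢ with pᵢ₊₃, and let W₀ be the span of p₁ and p₂. Then a 6 ×
6 matrix A satisfies AᵀQ + QA = 0 (A lies in the orthogonal Lie algebra of Q) and has the image of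
Aᵀ contained in W₀ if and only if A = a · (E₄₂ − E₅₁) for some scalar a, where Eᵢⱼ is the matrix
unit. (The lemma in the source concludes that the set of such A inside a certain nilpotent orbit
closure of this Lie algebra is one-dimensional; this row is the computation its proof performs,
which determines all such A in the Lie algebra. Characteristic 2 is excluded: there E₁₄ᵀ also
qualifies.) -/
theorem result (k : Type u) [Field k] (h2 : (2 : k) ≠ 0)
    (A : Matrix (Fin 3 ⊕ Fin 3) (Fin 3 ⊕ Fin 3) k) :
    (A.transpose * Matrix.fromBlocks (0 : Matrix (Fin 3) (Fin 3) k) 1 1 0 +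
        Matrix.fromBlocks (0 : Matrix (Fin 3) (Fin 3) k) 1 1 0 * A = 0 ∧
      LinearMap.range (Matrix.mulVecLin A.transpose) ≤
        Submodule.span k {Pi.single (Sum.inl 0 : Fin 3 ⊕ Fin 3) (1 : k), Pi.single (Sum.inl 1 : Fin 3 ⊕ Fin 3) (1 : k)}) ↔
    ∃ a : k, A = a • (Matrix.single (Sum.inr 0) (Sum.inl 1) (1 : k) - Matrix.single (Sum.inr 1) (Sum.inl 0) (1 : k)) := by
  constructor
  · rintro ⟨h1, hr⟩
    have key : ∀ i j, A (Sum.swap j) i + A (Sum.swap i) j = 0 := by
      intro i j
      have := congrFun (congrFun h1 i) j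
      rcases i with a | a <;> rcases j with b | b <;>
        simpa [Matrix.mul_apply, Fintype.sum_sum_type, Matrix.one_apply, Matrix.fromBlocks,
          Finset.sum_ite_eq, Finset.sum_ite_eq'] using this
    have hcol : ∀ c r, r ≠ Sum.inl 0 → r ≠ Sum.inl 1 → A c r = 0 := by
      intro c r hr0 hr1
      have hmem := hr ⟨Pi.single c 1, rfl⟩
      rw [Submodule.mem_span_pair] at hmem
      obtain ⟨x, y, hxy⟩ := hmem
      have := congrFun hxy r
      simp [Matrix.mulVec, dotProduct, Pi.single_apply, hr0, hr1] at this
      exact this.symm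
    have hS : ∀ a b, A (Sum.inl a) (Sum.inr b) = 0 := fun a b => hcol _ _ (by simp) (by simp)
    have hU : ∀ a b, A (Sum.inr a) (Sum.inr b) = 0 := fun a b => hcol _ _ (by simp) (by simp)
    have hP : ∀ a b, A (Sum.inl a) (Sum.inl b) = 0 := by
      intro a b
      have := key (Sum.inl b) (Sum.inr a)
      simp only [Sum.swap_inl, Sum.swap_inr, hU, add_zero] at this
      exact this
    have hT2 : ∀ a, A (Sum.inr a) (Sum.inl 2) = 0 := fun a => hcol _ _ (by decide) (by decide)
    have hTsk : ∀ a b, A (Sum.inr a) (Sum.inl b) = - A (Sum.inr b) (Sum.inl a) := by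
      intro a b
      have := key (Sum.inl b) (Sum.inl a)
      simp only [Sum.swap_inl] at this
      exact eq_neg_of_add_eq_zero_left this
    have hT2' : ∀ b, A (Sum.inr 2) (Sum.inl b) = 0 := by
      intro b
      rw [hTsk, hT2, neg_zero]
    have hTd : ∀ a, A (Sum.inr a) (Sum.inl a) = 0 := by
      intro a
      have := hTsk a a
      have h' : (2 : k) * A (Sum.inr a) (Sum.inl a) = 0 := by linear_combination this
      exact (mul_eq_zero.1 h').resolve_left h2
    refine ⟨A (Sum.inr 0) (Sum.inl 1), ?_⟩
    have h10 : A (Sum.inr 1) (Sum.inl 0) = - A (Sum.inr 0) (Sum.inl 1) := hTsk 1 0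
    ext i j
    rcases i with a | a <;> rcases j with b | b <;> fin_cases a <;> fin_cases b <;>
      simp [Matrix.single_apply, hS, hU, hP, hT2, hT2', hTd, h10]
  · rintro ⟨a, rfl⟩
    constructor
    · ext i j
      rcases i with x | x <;> rcases j with y | y <;> fin_cases x <;> fin_cases y <;>
        simp [Matrix.mul_apply, Fintype.sum_sum_type, Fin.sum_univ_three, Matrix.single_apply,
          Matrix.one_apply]
    · rintro _ ⟨w, rfl⟩
      rw [Submodule.mem_span_pair]
      refine ⟨-(a * w (Sum.inr 1)), a * w (Sum.inr 0), ?_⟩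
      ext i
      rcases i with x | x <;> fin_cases x <;>
        simp [Matrix.mulVec, dotProduct, Fintype.sum_sum_type, Fin.sum_univ_three,
          Matrix.single_apply, Pi.single_apply]

end Groth.Agent.S16016
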