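import Groth.Statements.S16017
import Mathlib

set_option autoImplicit false
universe u
open W4c3ghconstell

namespace Groth.Agent.S16017

/-- Let ι index the irreducible representations, θ : ι → ℚ a weight negative at only finitely many
indices (the finite set D₋), h h' : ι → ℕ with h' ≤ h pointwise (the isotypic dimensions of an
object and of a sub-object) and Σ_i θ_i h_i summable. For a finite set D of indices put S_D = Σ_{i ∉
D} θ_i h_i, d = #(D ∖ D₋), and θ̃_D = Σ_{i ∈ D} θ_i h'_i + (S_D / d) · Σ_{i ∈ D ∖ D₋} h'_i / h_i,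
the modified weight attached to the parameters chosen for D (for D ⊇ D₋ the first sum is the
negative part plus the part over D ∖ D₋). Then θ̃_D tends to Σ_i θ_i h'_i as D grows through the
finite subsets of ι. (Here D runs over all finite sets of indices and a quotient by zero is zero;
the source lets D run over the finite subsets of the locus θ ≠ 0 containing D₋, and the same tail
estimate gives both.) -/
theorem result {ι : Type u} [DecidableEq ι] (θ : ι → ℚ) (h h' : ι → ℕ)
    (hle : ∀ i, h' i ≤ h i) (hfin : {i | θ i < 0}.Finite)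
    (hsum : Summable (fun i => (θ i : ℝ) * (h i : ℝ))) :
    Filter.Tendsto
      (fun D : Finset ι =>
        (∑ i ∈ D, (θ i : ℝ) * (h' i : ℝ)) +
          ((∑' i, if i ∈ D then (0 : ℝ) else (θ i : ℝ) * (h i : ℝ)) / ((D \ hfin.toFinset).card : ℝ)) *
            ∑ i ∈ D \ hfin.toFinset, ((h' i : ℝ) / (h i : ℝ)))
      Filter.atTop (nhds (∑' i, (θ i : ℝ) * (h' i : ℝ))) := by
  -- summability of the primed series
  have hsum' : Summable (fun i => (θ i : ℝ) * (h' i : ℝ)) := by
    apply Summable.of_norm_bounded (g := fun i => |(θ i : ℝ) * (h i : ℝ)|) hsum.abs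
    intro i
    rw [Real.norm_eq_abs, abs_mul, abs_mul]
    apply mul_le_mul_of_nonneg_left _ (abs_nonneg _)
    rw [abs_of_nonneg (Nat.cast_nonneg _), abs_of_nonneg (Nat.cast_nonneg _)]
    exact_mod_cast hle i
  have hfirst : Filter.Tendsto (fun D : Finset ι => ∑ i ∈ D, (θ i : ℝ) * (h' i : ℝ))
      Filter.atTop (nhds (∑' i, (θ i : ℝ) * (h' i : ℝ))) := hsum'.hasSum
  -- tails
  have htail_eq : ∀ D : Finset ι, (∑' i, if i ∈ D then (0 : ℝ) else (θ i : ℝ) * (h i : ℝ)) =
      (∑' i, (θ i : ℝ) * (h i : ℝ)) - ∑ i ∈ D, (θ i : ℝ) * (h i : ℝ) := by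
    intro D
    have h2 : Summable (fun i => if i ∈ D then (θ i : ℝ) * (h i : ℝ) else 0) :=
      summable_of_ne_finset_zero (s := D) (fun i hi => by simp [hi])
    have h1 : Summable (fun i => if i ∈ D then (0 : ℝ) else (θ i : ℝ) * (h i : ℝ)) := by
      have := hsum.sub h2
      refine this.congr (fun i => ?_)
      by_cases hi : i ∈ D <;> simp [hi]
    have h3 : (∑' i, if i ∈ D then (θ i : ℝ) * (h i : ℝ) else 0) = ∑ i ∈ D, (θ i : ℝ) * (h i : ℝ) := by
      rw [tsum_eq_sum (s := D) (fun i hi => by simp [hi])]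
      exact Finset.sum_congr rfl (fun i hi => by simp [hi])
    rw [← h3, eq_sub_iff_add_eq, ← h1.tsum_add h2]
    congr 1
    funext i
    by_cases hi : i ∈ D <;> simp [hi]
  have htail : Filter.Tendsto (fun D : Finset ι =>
      (∑' i, if i ∈ D then (0 : ℝ) else (θ i : ℝ) * (h i : ℝ))) Filter.atTop (nhds 0) := by
    simp_rw [htail_eq]
    have : Filter.Tendsto (fun D : Finset ι => (∑' i, (θ i : ℝ) * (h i : ℝ)) -
        ∑ i ∈ D, (θ i : ℝ) * (h i : ℝ)) Filter.atTop
        (nhds ((∑' i, (θ i : ℝ) * (h i : ℝ)) - ∑' i, (θ i : ℝ) * (h i : ℝ))) :=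
      tendsto_const_nhds.sub hsum.hasSum
    rwa [sub_self] at this
  have hsecond : Filter.Tendsto (fun D : Finset ι =>
      ((∑' i, if i ∈ D then (0 : ℝ) else (θ i : ℝ) * (h i : ℝ)) / ((D \ hfin.toFinset).card : ℝ)) *
            ∑ i ∈ D \ hfin.toFinset, ((h' i : ℝ) / (h i : ℝ))) Filter.atTop (nhds 0) := by
    refine squeeze_zero_norm (fun D => ?_) (by simpa using htail.abs)
    rw [Real.norm_eq_abs, abs_mul, abs_div]
    set S := (∑' i, if i ∈ D then (0 : ℝ) else (θ i : ℝ) * (h i : ℝ)) with hS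
    set E := D \ hfin.toFinset with hE
    have hnn : 0 ≤ ∑ i ∈ E, ((h' i : ℝ) / (h i : ℝ)) :=
      Finset.sum_nonneg fun i _ => div_nonneg (Nat.cast_nonneg _) (Nat.cast_nonneg _)
    have hle1 : ∑ i ∈ E, ((h' i : ℝ) / (h i : ℝ)) ≤ (E.card : ℝ) := by
      have : ∑ i ∈ E, ((h' i : ℝ) / (h i : ℝ)) ≤ ∑ _i ∈ E, (1 : ℝ) := by
        apply Finset.sum_le_sum
        intro i _
        exact div_le_one_of_le₀ (by exact_mod_cast hle i) (Nat.cast_nonneg _)
      simpa using this
    rw [abs_of_nonneg hnn, abs_of_nonneg (Nat.cast_nonneg (α := ℝ) E.card)]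
    by_cases hd : E.card = 0
    · have : E = ∅ := Finset.card_eq_zero.1 hd
      rw [this]
      simp
    · have hpos : (0 : ℝ) < E.card := by exact_mod_cast Nat.pos_of_ne_zero hd
      calc |S| / (E.card : ℝ) * ∑ i ∈ E, ((h' i : ℝ) / (h i : ℝ))
          ≤ |S| / (E.card : ℝ) * (E.card : ℝ) :=
            mul_le_mul_of_nonneg_left hle1 (div_nonneg (abs_nonneg _) hpos.le)
        _ = |S| := by field_simp
  have := hfirst.add hsecond
  rwa [add_zero] at this

end Groth.Agent.S16017
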