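import Groth.Statements.S16021
import Mathlib
import Groth.Agent.Helper9.CechEdgeA
-- import your own Groth.Agent.* helpers here

set_option autoImplicit false
universe u
open CategoryTheory CategoryTheory.Limits Opposite
open CechEdge

namespace Groth.Agent.S16021

/-- On a small site with fibre products, with coverings given as indexed families of objects over their
target, an abelian presheaf is a sheaf if and only if, for every object U and every family of
objects over U whose generated sieve is covering, the canonical map from the sections over U to the
degree-0 Cech cohomology with respect to the family is bijective. -/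
theorem result {C : Type u} [SmallCategory C] [HasPullbacks C]
    (J : GrothendieckTopology C) (P : Cᵒᵖ ⥤ AddCommGrpCat.{u}) :
    Presheaf.IsSheaf J P ↔ ∀ (U : C) (ι : Type u) (Y : ι → Over U),
      Sieve.ofArrows (fun i => (Y i).left) (fun i => (Y i).hom) ∈ J U →
        Function.Bijective (CechEdge.toCech Y P) := by
  classical
  constructor
  · intro hP U ι Y hY
    rw [Groth.Agent.Helper9.CechEdgeA.bijective_toCech_iff_isSheafFor]
    have h1 : Presieve.IsSheaf J (P ⋙ forget AddCommGrpCat.{u}) :=
      (isSheaf_iff_isSheaf_of_type _ _).1
        ((Presheaf.isSheaf_iff_isSheaf_forget J P (forget AddCommGrpCat.{u})).1 hP)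
    exact (Presieve.isSheafFor_iff_generate _).2 (h1 _ hY)
  · intro h
    rw [Presheaf.isSheaf_iff_isSheaf_forget J P (forget AddCommGrpCat.{u}),
      isSheaf_iff_isSheaf_of_type]
    intro U S hS
    let ι : Type u := Σ V : C, {f : V ⟶ U // S f}
    let Y : ι → Over U := fun a => Over.mk a.2.1
    have hSY : Sieve.ofArrows (fun i => (Y i).left) (fun i => (Y i).hom) = S := by
      apply le_antisymm
      · rw [Sieve.ofArrows, Sieve.generate_le_iff]
        rintro V f ⟨a⟩
        exact a.2.2
      · intro V f hf
        exact ⟨V, 𝟙 V, f, Presieve.ofArrows.mk (⟨V, f, hf⟩ : ι), Category.id_comp f⟩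
    have hb := h U ι Y (hSY ▸ hS)
    rw [Groth.Agent.Helper9.CechEdgeA.bijective_toCech_iff_isSheafFor] at hb
    have := (Presieve.isSheafFor_iff_generate _).1 hb
    rw [← hSY]
    exact this

end Groth.Agent.S16021
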