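import Groth.Statements.S16046
import Mathlib
import Groth.Agent.Helper7.VDenseC

set_option autoImplicit false
universe u
open TensorProduct
open ValRing

namespace Groth.Agent.S16046

/-- Surjectivity assertion: let A ⊆ A' be valuation rings with fraction fields K ⊆ K', A' dominating A
and A dense in A' for the valuation topology, and L a finite extension of K; put L' = K' ⊗_K L. Then
every element of L' modulo its nilradical which is integral over A' is a finite sum Σ a'ᵢ·lᵢ with
a'ᵢ ∈ A' and lᵢ ∈ L integral over A. (The published statement also identifies the kernel of the map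
from the tensor product with the nilradical; that part is not stated here.) -/
theorem result
    (A K L A' K' : Type u) [CommRing A] [IsDomain A] [ValuationRing A] [Field K] [Algebra A K] [IsFractionRing A K]
    [Field L] [Algebra K L] [FiniteDimensional K L] [Algebra A L] [IsScalarTower A K L]
    [CommRing A'] [IsDomain A'] [ValuationRing A'] [Field K'] [Algebra A' K'] [IsFractionRing A' K']
    [Algebra A A'] [IsLocalHom (algebraMap A A')] (hinj : Function.Injective (algebraMap A A'))
    [Algebra K K'] [Algebra A K'] [IsScalarTower A A' K'] [IsScalarTower A K K']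
    (hdense : ∀ a' b' : A', b' ≠ 0 → ∃ a : A, b' ∣ a' - algebraMap A A' a)
    (x : (K' ⊗[K] L) ⧸ nilradical (K' ⊗[K] L))
    (hx : ((Ideal.Quotient.mk (nilradical (K' ⊗[K] L))).comp
            ((Algebra.TensorProduct.includeLeft : K' →ₐ[K] K' ⊗[K] L).toRingHom.comp (algebraMap A' K'))).IsIntegralElem x) :
    ∃ (n : ℕ) (a : Fin n → A') (l : Fin n → L), (∀ i, IsIntegral A (l i)) ∧
      x = Ideal.Quotient.mk (nilradical (K' ⊗[K] L)) (∑ i, algebraMap A' K' (a i) ⊗ₜ[K] l i) := by
  obtain ⟨w, rfl⟩ := Ideal.Quotient.mk_surjective x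
  obtain ⟨Q, hQ, hQw⟩ := hx
  have h1 : Ideal.Quotient.mk (nilradical (K' ⊗[K] L))
      (Polynomial.eval₂ (Groth.Agent.Helper7.VDense.φ₀ K L A' K') w Q) = 0 := by
    rw [Polynomial.hom_eval₂]
    exact hQw
  rw [Ideal.Quotient.eq_zero_iff_mem, mem_nilradical] at h1
  obtain ⟨m, hm⟩ := h1
  have hw : (Groth.Agent.Helper7.VDense.φ₀ K L A' K').IsIntegralElem w :=
    ⟨Q ^ m, hQ.pow m, by rw [Polynomial.eval₂_pow, hm]⟩
  have hS := Groth.Agent.Helper7.VDense.mem_S_of_isIntegralElem (A := A) hdense w hw
  obtain ⟨n, a, l, hl, rfl⟩ := Groth.Agent.Helper7.VDense.exists_fin_of_mem_S hS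
  exact ⟨n, a, l, hl, rfl⟩

end Groth.Agent.S16046
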