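import Groth.Statements.S16072
import Mathlib

set_option autoImplicit false
universe u
open Hopf

namespace Groth.Agent.S16072

/-- Let p be a prime and R a commutative ring of characteristic p (p = 0 in R, R nonzero). Then the
constant group scheme ℤ/p and the group scheme μ_p of p-th roots of unity over Spec R are not
isomorphic: there is no R-bialgebra isomorphism between the Hopf algebra Maps(ℤ/p, R) of functions
on the cyclic group of order p and the group algebra R[ℤ/p]. (Any nonzero commutative base ring of
characteristic p is allowed. The published statement allows any ring R with p·R = 0; over the zero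
ring both Hopf algebras are the zero ring and hence isomorphic, so R is assumed nonzero here.) -/
theorem result (p : ℕ) [Fact p.Prime] (R : Type u) [CommRing R]
    [CharP R p] :
    IsEmpty (ConstGrp.F R (Multiplicative (ZMod p)) ≃ₐc[R] MonoidAlgebra R (Multiplicative (ZMod p))) := by
  classical
  have hp : p.Prime := Fact.out
  have : Nontrivial R := CharP.nontrivial_of_char_ne_one (R := R) hp.ne_one
  refine ⟨fun φ => ?_⟩
  let G := Multiplicative (ZMod p)
  have : CharP (MonoidAlgebra R G) p :=
    charP_of_injective_algebraMap
      (show Function.Injective (algebraMap R (MonoidAlgebra R G)) from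
        MonoidAlgebra.single_right_injective) p
  -- p-th powers are constants
  have hpow : ∀ y : MonoidAlgebra R G, ∃ c : R, y ^ p = algebraMap R _ c := by
    intro y
    refine ⟨∑ g ∈ y.coeff.support, (y.coeff g) ^ p, ?_⟩
    conv_lhs => rw [← MonoidAlgebra.sum_coeff_single y]
    rw [Finsupp.sum, sum_pow_char, map_sum]
    refine Finset.sum_congr rfl fun g _ => ?_
    rw [MonoidAlgebra.single_pow]
    have : g ^ p = 1 := by
      have : (p : ℕ) • (Multiplicative.toAdd g) = 0 := by
        simp
      rw [← ofAdd_toAdd g, ← ofAdd_nsmul, this]; rfl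
    rw [this]; rfl
  set e := ConstGrp.e R (1 : G) with he
  have hee : e * e = e := by
    rw [he, ConstGrp.e_mul_e]; simp
  have hep : e ^ p = e := by
    obtain ⟨n, hn⟩ : ∃ n, p = n + 1 := ⟨p - 1, (Nat.succ_pred_eq_of_pos hp.pos).symm⟩
    rw [hn]
    clear hn
    induction n with
    | zero => simp
    | succ n ih => rw [pow_succ, ih, hee]
  obtain ⟨c, hc⟩ := hpow (φ e)
  have h1 : φ e = φ (algebraMap R _ c) := by
    rw [AlgHomClass.commutes, ← hc, ← map_pow, hep]
  have h2 : e = algebraMap R _ c := φ.injective h1
  have h3 : (1 : R) = c := by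
    have := congrFun h2 (1 : G)
    rw [he, ConstGrp.e_apply_self] at this
    exact this
  obtain ⟨g, hg⟩ : ∃ g : G, g ≠ 1 := by
    have : Fact (1 < p) := ⟨hp.one_lt⟩
    exact ⟨Multiplicative.ofAdd (1 : ZMod p), fun h => one_ne_zero (α := ZMod p) (Multiplicative.ofAdd.injective h)⟩
  have h4 : (0 : R) = c := by
    have := congrFun h2 g
    rw [he, ConstGrp.e_apply_of_ne hg] at this
    exact this
  exact one_ne_zero (h3.trans h4.symm)

end Groth.Agent.S16072
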