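import Groth.Statements.S16074
import Mathlib
open scoped TensorProduct

set_option autoImplicit false
universe u
open Hopf

namespace Groth.Agent.S16074

/-- Let p be a prime and R a commutative ring of characteristic p (p = 0 in R, R nonzero). Then μ_p and
α_p over Spec R are not isomorphic: there is no R-bialgebra isomorphism between the group algebra
R[ℤ/p] of the cyclic group of order p (group elements group-like) and the Hopf algebra R[X]/(X^p) of
α_p (X primitive), although the underlying R-algebras R[ℤ/p] = R[Y]/(Y^p) and R[X]/(X^p) are
isomorphic. (Any nonzero commutative base ring of characteristic p is allowed. The published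
statement allows any ring R with p·R = 0; over the zero ring both Hopf algebras are the zero ring
and hence isomorphic, so R is assumed nonzero here.) -/
theorem result (p : ℕ) [Fact p.Prime] (R : Type u) [CommRing R] [CharP R p] :
    IsEmpty (MonoidAlgebra R (Multiplicative (ZMod p)) ≃ₐc[R] AlphaP.A p R) := by
  classical
  have hp : p.Prime := Fact.out
  have : Nontrivial R := CharP.nontrivial_of_char_ne_one (R := R) hp.ne_one
  refine ⟨fun φ => ?_⟩
  let G := Multiplicative (ZMod p)
  let c : G → (MonoidAlgebra R G →ₗ[R] R) := fun g =>
    (Finsupp.lapply g).comp (MonoidAlgebra.coeffLinearEquiv R).toLinearMap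
  have hc : ∀ g y, c g y = y.coeff g := fun g y => rfl
  let ψ : G → (MonoidAlgebra R G ⊗[R] MonoidAlgebra R G →ₗ[R] R) := fun g =>
    (LinearMap.mul' R R).comp (TensorProduct.map (c g) (c g))
  have hψ : ∀ g a b, ψ g (a ⊗ₜ b) = a.coeff g * b.coeff g := fun g a b => rfl
  have claim1 : ∀ g (y : MonoidAlgebra R G), ψ g (Coalgebra.comul (R := R) y) = y.coeff g := by
    intro g y
    have : (ψ g).comp (Coalgebra.comul (R := R) (A := MonoidAlgebra R G)) = c g := by
      apply MonoidAlgebra.lhom_ext'
      intro k
      apply LinearMap.ext
      intro a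
      simp only [LinearMap.comp_apply, MonoidAlgebra.lsingle_apply, MonoidAlgebra.comul_single,
        CommSemiring.comul_apply, TensorProduct.map_tmul, hψ, hc, MonoidAlgebra.coeff_single]
      by_cases hk : k = g
      · subst hk; simp
      · simp [Finsupp.single_eq_of_ne' hk]
    exact LinearMap.congr_fun this y
  -- the preimage of x is primitive, hence zero
  set y := φ.symm (AlphaP.x p R) with hy
  have hprim : Coalgebra.comul (R := R) y = y ⊗ₜ 1 + 1 ⊗ₜ y := by
    have h1 := (CoalgHomClass.map_comp_comul_apply (R := R) φ.symm (AlphaP.x p R)).symm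
    rw [AlphaP.comul_x, map_add, TensorProduct.map_tmul, TensorProduct.map_tmul] at h1
    simpa using h1
  have hy0 : y = 0 := by
    apply MonoidAlgebra.coeff_injective
    ext g
    have h := claim1 g y
    rw [hprim, map_add, hψ, hψ, MonoidAlgebra.one_def, MonoidAlgebra.coeff_single] at h
    by_cases hg : g = 1
    · subst hg
      simp at h
      simpa using h
    · rw [Finsupp.single_eq_of_ne' (Ne.symm hg)] at h
      simp at h
      simpa using h.symm
  have hx0 : AlphaP.x p R = 0 := by
    have := congrArg φ hy0
    rwa [hy, BialgEquiv.apply_symm_apply, map_zero] at this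
  have hp1 : 1 < p := hp.one_lt
  have hb := (AlphaP.basis p R).ne_zero ⟨1, hp1⟩
  rw [AlphaP.basis_apply] at hb
  simp at hb
  exact hb hx0

end Groth.Agent.S16074
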