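import Groth.Statements.S16075
import Mathlib
open scoped TensorProduct

set_option autoImplicit false
universe u
open Hopf

namespace Groth.Agent.S16075

/-- Let p be a prime, T a commutative ring of characteristic p (p = 0 in T, T nonzero) and A =
T[X]/(X^p) the Hopf algebra of α_p over Spec T, with X primitive. Then the endomorphisms of the
T-group α_{p,T} are exactly the scalings: every T-bialgebra endomorphism f of A has f(X) = λ·X for a
unique λ ∈ T, and for every λ ∈ T there is a T-bialgebra endomorphism f of A with f(X) = λ·X. So the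
endomorphisms of α_{p,T} correspond bijectively to the elements of T. (Only this bijection is
stated; that it turns addition and composition of endomorphisms into addition and multiplication in
T, and its naturality in T, are not stated here. The zero ring, allowed as T in the published
statement, is excluded by the characteristic hypothesis here.) -/
theorem result (p : ℕ) [Fact p.Prime] (T : Type u) [CommRing T] [CharP T p] :
    (∀ f : AlphaP.A p T →ₐc[T] AlphaP.A p T, ∃! c : T, f (AlphaP.x p T) = c • AlphaP.x p T) ∧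
      (∀ c : T, ∃ f : AlphaP.A p T →ₐc[T] AlphaP.A p T, f (AlphaP.x p T) = c • AlphaP.x p T) := by
  classical
  have hp : p.Prime := Fact.out
  have : Nontrivial T := CharP.nontrivial_of_char_ne_one (R := T) hp.ne_one
  have hp1 : 1 < p := hp.one_lt
  set x := AlphaP.x p T with hx
  let b := AlphaP.basis p T
  have hb : ∀ i : Fin p, b i = x ^ (i : ℕ) := AlphaP.basis_apply p T
  have hcoord : ∀ (j : Fin p) (m : ℕ), m < p → b.coord j (x ^ m) = if m = (j : ℕ) then 1 else 0 := by
    intro j m hm
    have : x ^ m = b ⟨m, hm⟩ := (hb ⟨m, hm⟩).symm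
    rw [this, Module.Basis.coord_apply, Module.Basis.repr_self, Finsupp.single_apply]
    simp [Fin.ext_iff]
  have hΔpow : ∀ i : ℕ, Coalgebra.comul (R := T) (x ^ i) =
      ∑ m ∈ Finset.range (i + 1), (i.choose m : T) • ((x ^ m) ⊗ₜ[T] (x ^ (i - m))) := by
    intro i
    have h1 : Coalgebra.comul (R := T) (x ^ i) = (Bialgebra.comulAlgHom T (AlphaP.A p T)) (x ^ i) := rfl
    rw [h1, map_pow]
    have h2 : (Bialgebra.comulAlgHom T (AlphaP.A p T)) x = x ⊗ₜ 1 + 1 ⊗ₜ x := AlphaP.comul_x p T
    rw [h2, add_pow]
    refine Finset.sum_congr rfl fun m _ => ?_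
    rw [Algebra.TensorProduct.tmul_pow, Algebra.TensorProduct.tmul_pow, one_pow, one_pow,
      Algebra.TensorProduct.tmul_mul_tmul, mul_one, one_mul, mul_comm, ← nsmul_eq_mul,
      Nat.cast_smul_eq_nsmul]
  let ψ : Fin p → Fin p → (AlphaP.A p T ⊗[T] AlphaP.A p T →ₗ[T] T) := fun j l =>
    (LinearMap.mul' T T).comp (TensorProduct.map (b.coord j) (b.coord l))
  have hψ : ∀ j l u v, ψ j l (u ⊗ₜ v) = b.coord j u * b.coord l v := fun j l u v => rfl
  have key : ∀ (j l : Fin p) (hjl : (j : ℕ) + l < p) (y : AlphaP.A p T),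
      ψ j l (Coalgebra.comul (R := T) y) =
        (((j : ℕ) + l).choose j : T) * b.repr y ⟨(j : ℕ) + l, hjl⟩ := by
    intro j l hjl y
    conv_lhs => rw [← b.sum_repr y]
    rw [map_sum, map_sum]
    rw [Finset.sum_eq_single ⟨(j : ℕ) + l, hjl⟩]
    · rw [map_smul, map_smul, hb, hΔpow, map_sum, Finset.sum_eq_single (j : ℕ)]
      · rw [map_smul, hψ, hcoord _ _ j.2, hcoord _ _ (by simp)]
        simp [mul_comm]
      · intro m hm hmj
        rw [map_smul, hψ, hcoord _ _ (by simp at hm; omega), if_neg hmj]
        simp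
      · intro h; exfalso; apply h; simp
    · intro i _ hi
      rw [map_smul, map_smul, hb, hΔpow, map_sum, Finset.sum_eq_zero, smul_zero]
      intro m hm
      have hm' : m ≤ i := by simp at hm; omega
      rw [map_smul, hψ, hcoord _ _ (by omega), hcoord _ _ (by omega)]
      by_cases h1 : m = j
      · rw [if_pos h1, if_neg, mul_zero, smul_zero]
        intro h2
        apply hi
        ext
        simp only
        omega
      · rw [if_neg h1, zero_mul, smul_zero]
    · intro h; exact absurd (Finset.mem_univ _) h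
  have hprim_coeff : ∀ (y : AlphaP.A p T), Coalgebra.comul (R := T) y = y ⊗ₜ 1 + 1 ⊗ₜ y →
      y = b.repr y ⟨1, hp1⟩ • x := by
    intro y hy
    have hzero : ∀ i : Fin p, i ≠ ⟨1, hp1⟩ → b.repr y i = 0 := by
      intro i hi
      have h1 : (1 : AlphaP.A p T) = x ^ 0 := (pow_zero x).symm
      by_cases hi0 : (i : ℕ) = 0
      · have h := key ⟨0, hp.pos⟩ ⟨0, hp.pos⟩ (by simpa using hp.pos) y
        rw [hy, map_add, hψ, hψ, h1, hcoord _ _ hp.pos] at h
        simp at h
        have hi' : i = ⟨0, hp.pos⟩ := Fin.ext hi0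
        rw [hi']
        exact h
      · have hi2 : 2 ≤ (i : ℕ) := by
          have : (i : ℕ) ≠ 1 := fun h => hi (Fin.ext h)
          omega
        have h := key ⟨1, hp1⟩ ⟨(i : ℕ) - 1, by omega⟩ (by simp; omega) y
        rw [hy, map_add, hψ, hψ, h1, hcoord _ _ hp.pos, hcoord _ _ hp.pos] at h
        simp only at h
        rw [if_neg (by omega), if_neg (by omega), mul_zero, zero_mul, add_zero] at h
        have hidx : (⟨1 + ((i : ℕ) - 1), by omega⟩ : Fin p) = i := Fin.ext (by simp; omega)
        rw [hidx] at h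
        have hu : IsUnit (((1 + ((i : ℕ) - 1)).choose 1 : ℕ) : T) := by
          rw [Nat.choose_one_right]
          have : 1 + ((i : ℕ) - 1) = i := by omega
          rw [this, CharP.isUnit_natCast_iff (p := p) hp]
          exact Nat.not_dvd_of_pos_of_lt (by omega) i.2
        exact (hu.mul_right_eq_zero.mp h.symm)
    conv_lhs => rw [← b.sum_repr y]
    rw [Finset.sum_eq_single ⟨1, hp1⟩]
    · rw [hb]; simp
    · intro i _ hi; rw [hzero i hi, zero_smul]
    · intro h; exact absurd (Finset.mem_univ _) h
  constructor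
  · intro f
    have hprim : Coalgebra.comul (R := T) (f x) = f x ⊗ₜ 1 + 1 ⊗ₜ f x := by
      have h1 := (CoalgHomClass.map_comp_comul_apply (R := T) f x).symm
      rw [hx, AlphaP.comul_x, map_add, TensorProduct.map_tmul, TensorProduct.map_tmul] at h1
      simpa using h1
    refine ⟨b.repr (f x) ⟨1, hp1⟩, hprim_coeff _ hprim, ?_⟩
    intro c hc
    have := congrArg (b.coord ⟨1, hp1⟩) hc
    have hx1 : x = x ^ 1 := (pow_one x).symm
    rw [map_smul, hx1, hcoord _ _ hp1] at this
    simp at this
    rw [← this, hx1]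
  · intro c
    have hcx : (c • x) ^ p = 0 := by rw [smul_pow, hx, AlphaP.x_pow, smul_zero]
    refine ⟨BialgHom.ofAlgHom (AlphaP.lift p T (c • x) hcx) ?_ ?_, ?_⟩
    · apply AlphaP.algHom_ext
      rw [AlgHom.comp_apply, AlphaP.lift_x, map_smul, AlphaP.counitAlgHom_eq, AlphaP.counitAlg_x,
        smul_zero]
    · apply AlphaP.algHom_ext
      rw [AlgHom.comp_apply, AlgHom.comp_apply, AlphaP.lift_x, map_smul, AlphaP.comulAlgHom_eq,
        AlphaP.comulAlg_x, map_add, Algebra.TensorProduct.map_tmul, Algebra.TensorProduct.map_tmul,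
        AlphaP.lift_x, map_one, smul_add, TensorProduct.smul_tmul', TensorProduct.tmul_smul]
    · exact AlphaP.lift_x (p := p) (R := T) (c • x) hcx

end Groth.Agent.S16075
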