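import Groth.Statements.S16085
import Groth.Agent.Lead.Ref1F
import Groth.Prelude.Def_Ref1Cl
import Mathlib

set_option autoImplicit false
universe u
open CategoryTheory CategoryTheory.Limits AlgebraicGeometry TopologicalSpace
open SDiv

namespace Groth.Agent.S16085

/-- Let X be an integral locally Noetherian normal scheme. Sending (F, G) to the reflexive hull (F
⊗_{O_X} G)^** makes the isomorphism classes of rank one coherent reflexive O_X-modules into an
abelian group: on that set there are a commutative and associative composition law, a neutral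
element and inverses, such that the product of the classes of F and G is the class of the reflexive
hull of F ⊗_{O_X} G, the neutral element is the class of O_X, and the inverse of the class of F is
the class of its dual 𝓗om_{O_X}(F, O_X). -/
theorem result (X : Scheme.{u}) [IsIntegral X] [IsLocallyNoetherian X] (hX : Pi1.IsNormalScheme X) :
    ∃ (mul : {c : PicF.Cl X // ∃ F : X.Modules, PicF.cl F = c ∧ RefHull.IsRef1 F} →
          {c : PicF.Cl X // ∃ F : X.Modules, PicF.cl F = c ∧ RefHull.IsRef1 F} →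
            {c : PicF.Cl X // ∃ F : X.Modules, PicF.cl F = c ∧ RefHull.IsRef1 F})
      (one : {c : PicF.Cl X // ∃ F : X.Modules, PicF.cl F = c ∧ RefHull.IsRef1 F})
      (inv : {c : PicF.Cl X // ∃ F : X.Modules, PicF.cl F = c ∧ RefHull.IsRef1 F} →
          {c : PicF.Cl X // ∃ F : X.Modules, PicF.cl F = c ∧ RefHull.IsRef1 F}),
      (∀ a b, mul a b = mul b a) ∧ (∀ a b c, mul (mul a b) c = mul a (mul b c)) ∧ (∀ a, mul one a = a) ∧
        (∀ a, mul (inv a) a = one) ∧
        (∀ (F G : X.Modules) (hF : RefHull.IsRef1 F) (hG : RefHull.IsRef1 G),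
          (mul ⟨PicF.cl F, F, rfl, hF⟩ ⟨PicF.cl G, G, rfl, hG⟩).1 = PicF.cl (RefHull.ddual (CohB1.tensorMod F G))) ∧
        one.1 = PicF.cl (Coh.structureModule X) ∧
        (∀ (F : X.Modules) (hF : RefHull.IsRef1 F), (inv ⟨PicF.cl F, F, rfl, hF⟩).1 = PicF.cl (RefHull.dual F)) := by
  classical
  -- the operations
  let mul : {c : PicF.Cl X // ∃ F : X.Modules, PicF.cl F = c ∧ RefHull.IsRef1 F} →
      {c : PicF.Cl X // ∃ F : X.Modules, PicF.cl F = c ∧ RefHull.IsRef1 F} →
        {c : PicF.Cl X // ∃ F : X.Modules, PicF.cl F = c ∧ RefHull.IsRef1 F} :=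
    fun a b => ⟨RefFun.refMulCl a.1 b.1, by
      obtain ⟨_, F, rfl, hF⟩ := a
      obtain ⟨_, G, rfl, hG⟩ := b
      exact ⟨RefPow.refTensor F G, rfl, Groth.Agent.Lead.Ref1F.isRef1_refTensor F G hF hG⟩⟩
  let dualCl : PicF.Cl X → PicF.Cl X :=
    Quot.lift (fun F => PicF.cl (RefHull.dual F)) (by
      rintro F F' ⟨e⟩
      exact Quot.sound ⟨RefFun.dualIso e⟩)
  let inv : {c : PicF.Cl X // ∃ F : X.Modules, PicF.cl F = c ∧ RefHull.IsRef1 F} →
      {c : PicF.Cl X // ∃ F : X.Modules, PicF.cl F = c ∧ RefHull.IsRef1 F} :=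
    fun a => ⟨dualCl a.1, by
      obtain ⟨_, F, rfl, hF⟩ := a
      exact ⟨RefHull.dual F, rfl, Groth.Agent.Lead.Ref1F.isRef1_dual F hF⟩⟩
  refine ⟨mul, ⟨PicF.cl (Coh.structureModule X), Coh.structureModule X, rfl,
    Groth.Agent.Lead.Ref1F.isRef1_unit⟩, inv, ?_, ?_, ?_, ?_, ?_, rfl, ?_⟩
  · rintro ⟨_, F, rfl, hF⟩ ⟨_, G, rfl, hG⟩
    apply Subtype.ext
    exact Quot.sound (Groth.Agent.Lead.Ref1F.refTensor_comm F G)
  · rintro ⟨_, F, rfl, hF⟩ ⟨_, G, rfl, hG⟩ ⟨_, H, rfl, hH⟩
    apply Subtype.ext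
    exact Quot.sound (Groth.Agent.Lead.Ref1F.refTensor_assoc hX F G H hF.1 hG.1 hH.1
      hF.2.1 hG.2.1 hH.2.1)
  · rintro ⟨_, F, rfl, hF⟩
    apply Subtype.ext
    exact Quot.sound (Groth.Agent.Lead.Ref1F.refTensor_unit F hF.2.1)
  · rintro ⟨_, F, rfl, hF⟩
    apply Subtype.ext
    exact Quot.sound (Groth.Agent.Lead.Ref1F.refTensor_dual hX F hF)
  · intro F G hF hG
    rfl
  · intro F hF
    rfl

end Groth.Agent.S16085
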