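import Groth.Statements.S1609
import Mathlib

set_option autoImplicit false
universe u
open CategoryTheory CategoryTheory.Limits AlgebraicGeometry
open Variety

namespace Groth.Agent.S1609

/-- a common field extension of two field extensions -/
theorem exists_compositum (k K k' : Type u) [Field k] [Field K] [Field k'] [Algebra k K]
    [Algebra k k'] : ∃ (L : Type u) (_ : Field L) (φK : K →+* L) (φk' : k' →+* L),
      φK.comp (algebraMap k K) = φk'.comp (algebraMap k k') := by
  obtain ⟨m, hm⟩ := Ideal.exists_maximal (TensorProduct k K k')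
  let : Field (TensorProduct k K k' ⧸ m) := Ideal.Quotient.field m
  refine ⟨TensorProduct k K k' ⧸ m, inferInstance,
    (Ideal.Quotient.mk m).comp (Algebra.TensorProduct.includeLeft (R := k) (S := k) (A := K) (B := k')).toRingHom,
    (Ideal.Quotient.mk m).comp (Algebra.TensorProduct.includeRight (R := k) (A := K) (B := k')).toRingHom, ?_⟩
  ext x
  simp only [RingHom.coe_comp, Function.comp_apply, AlgHom.toRingHom_eq_coe, RingHom.coe_coe,
    AlgHom.commutes]

/-- A scheme admitting a surjection from an irreducible scheme is irreducible. -/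
theorem irreducibleSpace_of_surjective {Z Y : Scheme.{u}} (q : Z ⟶ Y) [Surjective q]
    [IrreducibleSpace Z] : IrreducibleSpace Y := by
  have h1 : IsIrreducible (Set.range q) := by
    rw [← Set.image_univ]
    exact (IrreducibleSpace.isIrreducible_univ Z).image q q.continuous.continuousOn
  rw [Set.range_eq_univ.mpr (Surjective.surj (f := q))] at h1
  exact (irreducibleSpace_def Y).mpr h1

/-- Geometric irreducibility of a k-scheme can be checked after an arbitrary extension of the base
field. -/
theorem result (k : Type u) [Field k] (X : Scheme.{u}) [X.Over (Spec (CommRingCat.of k))] (k' : Type u) [Field k'] [Algebra k k']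
    [GeometricallyIrreducible (Curv2.bcSnd k X k')] : GeometricallyIrreducible (X ↘ (Spec (CommRingCat.of k))) := by
  rw [GeometricallyIrreducible.eq_geometrically, geometrically_iff_of_commRing]
  intro K _ _ Y fst snd hpb
  obtain ⟨L, _, φK, φk', hcomp⟩ := exists_compositum k K k'
  -- Z := Y ×_K L
  set sK : Spec (CommRingCat.of L) ⟶ Spec (CommRingCat.of K) := Spec.map (CommRingCat.ofHom φK) with hsK
  set sk' : Spec (CommRingCat.of L) ⟶ Spec (CommRingCat.of k') := Spec.map (CommRingCat.ofHom φk') with hsk'
  have hcomp' : sK ≫ Spec.map (CommRingCat.ofHom (algebraMap k K)) =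
      sk' ≫ Spec.map (CommRingCat.ofHom (algebraMap k k')) := by
    rw [hsK, hsk', ← Spec.map_comp, ← Spec.map_comp, ← CommRingCat.ofHom_comp,
      ← CommRingCat.ofHom_comp, hcomp]
  have hsurj : Surjective sK := by
    constructor
    intro y
    obtain ⟨x⟩ : Nonempty (Spec (CommRingCat.of L)) := inferInstance
    refine ⟨x, ?_⟩
    have : Subsingleton (Spec (CommRingCat.of K)) :=
      inferInstanceAs (Subsingleton (PrimeSpectrum K))
    exact Subsingleton.elim _ _
  -- Z and its squares
  have sqZ : IsPullback (pullback.fst snd sK) (pullback.snd snd sK) snd sK :=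
    IsPullback.of_hasPullback snd sK
  -- big square over k
  have big : IsPullback (pullback.fst snd sK ≫ fst) (pullback.snd snd sK)
      (X ↘ Spec (CommRingCat.of k)) (sK ≫ Spec.map (CommRingCat.ofHom (algebraMap k K))) :=
    (sqZ.flip.paste_vert hpb.flip).flip
  rw [hcomp'] at big
  -- square for X_{k'}
  have sqk' : IsPullback (Curv2.bcFst k X k') (Curv2.bcSnd k X k')
      (X ↘ Spec (CommRingCat.of k)) (Spec.map (CommRingCat.ofHom (algebraMap k k'))) :=
    IsPullback.of_hasPullback _ _
  -- the lift Z → X_{k'}
  have hw : (pullback.fst snd sK ≫ fst) ≫ (X ↘ Spec (CommRingCat.of k)) =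
      (pullback.snd snd sK ≫ sk') ≫ Spec.map (CommRingCat.ofHom (algebraMap k k')) := by
    rw [Category.assoc (pullback.snd snd sK)]
    exact big.w
  set l : pullback snd sK ⟶ Curv2.bc k X k' :=
    sqk'.lift (pullback.fst snd sK ≫ fst) (pullback.snd snd sK ≫ sk') hw with hl
  have hl1 : l ≫ Curv2.bcFst k X k' = pullback.fst snd sK ≫ fst := sqk'.lift_fst _ _ _
  have hl2 : l ≫ Curv2.bcSnd k X k' = pullback.snd snd sK ≫ sk' := sqk'.lift_snd _ _ _
  have left : IsPullback l (pullback.snd snd sK) (Curv2.bcSnd k X k') sk' := by
    refine IsPullback.of_right ?_ hl2 sqk'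
    rw [hl1]
    exact big
  have hgi : GeometricallyIrreducible (Curv2.bcSnd k X k') := inferInstance
  rw [GeometricallyIrreducible.eq_geometrically] at hgi
  have hZ : IrreducibleSpace ↥(pullback snd sK) := hgi sk' l (pullback.snd snd sK) left
  have : Surjective (pullback.fst snd sK) := inferInstance
  exact irreducibleSpace_of_surjective (pullback.fst snd sK)

end Groth.Agent.S1609
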