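import Groth.Statements.S16091
import Groth.Agent.Helper1.Fl3
import Groth.Agent.Helper5.AffFlat1

set_option autoImplicit false
universe u
open CategoryTheory CategoryTheory.Limits AlgebraicGeometry TopologicalSpace Opposite
open scoped HomogeneousIdeal
noncomputable section
open SDiv

namespace Groth.Agent.S16091

/-- Let S be a scheme and 𝒜 a quasi-coherent graded O_S-algebra such that for all sufficiently large d
the degree-d piece 𝒜_d is a flat O_S-module (over every affine open U the degree-d part of 𝒜(U) is a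
flat module over Γ(U, O_S) acting through the structure map). Let p : P ⟶ S be the relative
homogeneous spectrum of 𝒜, given with its charts. Then p is flat, and for every integer n the
twisting module O_P(n), given with its chart identifications, is flat over S (every stalk O_P(n)_x
is flat over O_{S, p x}). -/
theorem result {S P : Scheme.{u}} (𝒜 : RelProj.QCGrAlg S)
    (hflat : ∃ d₀ : ℕ, ∀ d : ℕ, d₀ ≤ d → ∀ (U : S.Opens) (hU : IsAffineOpen U),
      letI := (𝒜.str.app (op U)).hom.toAlgebra
      Module.Flat Γ(S, U) ↥(Submodule.span Γ(S, U) (𝒜.deg U hU d : Set (𝒜.presheaf.obj (op U)))))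
    (p : P ⟶ S) (chart : ∀ (U : S.Opens) (hU : IsAffineOpen U), (((p ⁻¹ᵁ U : P.Opens) : Scheme.{u}) ≅ Proj (𝒜.deg U hU)))
    (hP : RelProj.IsRelProj 𝒜 p chart) :
    Flat p ∧
      ∀ (n : ℤ) (L : P.Modules)
        (lam : ∀ (U : S.Opens) (hU : IsAffineOpen U),
          L ⟶ (Scheme.Modules.pushforward (RelProj.emb p chart U hU)).obj (GrTwist.twist (𝒜.deg U hU) n)),
        RelProj.IsRelTwist 𝒜 p chart n L lam → FlatMod.IsFlatOver p L := by
  classical
  obtain ⟨d₀, hd₀⟩ := hflat
  -- the core: around every point, a standard chart on which all twists have flat sections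
  have core : ∀ x : P, ∃ (U : S.Opens) (hU : IsAffineOpen U) (W : P.Opens) (_ : IsAffineOpen W)
      (_ : x ∈ W) (hW : W ≤ p ⁻¹ᵁ U),
      ∀ (n : ℤ) (L : P.Modules)
        (lam : ∀ (U : S.Opens) (hU : IsAffineOpen U),
          L ⟶ (Scheme.Modules.pushforward (RelProj.emb p chart U hU)).obj
            (GrTwist.twist (𝒜.deg U hU) n)),
        RelProj.IsRelTwist 𝒜 p chart n L lam →
          @Module.Flat Γ(S, U) Γ(L, W) _ _ (Module.compHom _ (p.appLE U W hW).hom) := by
    intro x
    obtain ⟨U, hU, y, rfl⟩ := Groth.Agent.Helper1.TRR.exists_chart (chart := chart) x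
    obtain ⟨e, f, he, hf, hfy⟩ := Groth.Agent.Helper1.GM.exists_pos_deg_notMem (𝒜 := 𝒜.deg U hU) y
    have hyD : y ∈ Proj.basicOpen (𝒜.deg U hU) f := hfy
    refine ⟨U, hU, RelProj.emb p chart U hU ''ᵁ Proj.basicOpen (𝒜.deg U hU) f,
      (Proj.isAffineOpen_basicOpen (𝒜.deg U hU) f hf he).image_of_isOpenImmersion _,
      ⟨y, hyD, rfl⟩, ?_, ?_⟩
    · rintro _ ⟨z, -, rfl⟩
      have h1 : (RelProj.emb p chart U hU) z ∈ (RelProj.emb p chart U hU).opensRange := ⟨z, rfl⟩
      rw [Groth.Agent.Helper1.RP.opensRange_emb] at h1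
      exact h1
    · intro n L lam hL
      exact Groth.Agent.Helper1.GMFl.flat_sections_relTwist hP hL U hU he f hf d₀
        (fun d hd => Groth.Agent.Helper1.GMFl.flatDeg_of_flat U hU d (hd₀ d hd U hU)) _ _
        (Scheme.Hom.preimage_image_eq _ _)
  refine ⟨?_, ?_⟩
  · rw [HasRingHomProperty.iff_exists_appLE (P := @Flat)
      (RingHom.Flat.stableUnderComposition.stableUnderCompositionWithLocalizationAway
        RingHom.Flat.holdsForLocalizationAway).1]
    intro x
    obtain ⟨U, hU, W, hWa, hxW, hW, hcore⟩ := core x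
    refine ⟨⟨U, hU⟩, ⟨W, hWa⟩, hxW, hW, ?_⟩
    have h1 := hcore 0 (Coh.structureModule P) (Groth.Agent.Helper1.TRM.lamZero p chart)
      (Groth.Agent.Helper1.TRM.isRelTwist_zero hP)
    exact h1
  · intro n L lam hL x
    obtain ⟨U, hU, W, hWa, hxW, hW, hcore⟩ := core x
    haveI := Groth.Agent.Helper1.TRR.isQuasicoherent_of_isRelTwist hL
    exact (Groth.Agent.Helper5.AffFlat.flat_sections_iff p L hU hWa hW).2 (hcore n L lam hL) x hxW

end Groth.Agent.S16091
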