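import Groth.Statements.S16095
import Groth.Agent.Helper8.BMNorm

set_option autoImplicit false
universe u
open CategoryTheory AlgebraicGeometry Opposite
open BMCoh
open Groth.Agent.Helper8.BMPtU Groth.Agent.Helper8.BMSch

namespace Groth.Agent.S16095

theorem nested_isPullback' {X Y : Scheme.{u}} (f : X ⟶ Y) (W'' W' : Y.Opens) (hle : W'' ≤ W') :
    IsPullback (X.homOfLE (f.preimage_mono hle)) (f ∣_ W'') (f ∣_ W') (Y.homOfLE hle) := by
  have big := isPullback_morphismRestrict f W''
  have right := isPullback_morphismRestrict f W'
  refine IsPullback.of_right (h₁₂ := (f ⁻¹ᵁ W').ι) (h₂₂ := W'.ι) (v₁₃ := f) ?_ ?_ right.flip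
  · rw [Scheme.homOfLE_ι, Scheme.homOfLE_ι]
    exact big.flip
  · rw [← cancel_mono W'.ι]
    simp only [Category.assoc]
    rw [morphismRestrict_ι, Scheme.homOfLE_ι, Scheme.homOfLE_ι_assoc, morphismRestrict_ι]

theorem isIso_restrict_of_le {X Y : Scheme.{u}} (f : X ⟶ Y) (U₀ W' : Y.Opens) (hle : W' ≤ U₀)
    [IsIso (f ∣_ U₀)] : IsIso (f ∣_ W') := by
  have h : MorphismProperty.isomorphisms Scheme.{u} (f ∣_ U₀) := inferInstanceAs (IsIso _)
  exact IsZariskiLocalAtTarget.of_isPullback (P := MorphismProperty.isomorphisms Scheme.{u})
    (nested_isPullback' f W' U₀ hle) h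

/-- Let T be a pre-theory (the groups, proper push-forwards and residue maps of a twisted Borel–Moore
cohomology theory, with their conditions) with coefficients in A on a constructible class V of
Noetherian schemes, X an object, w a point of X, Y an integral object identified by e with the
normalisation of the reduced closure of w, and φ : Y → X the normalisation map followed by the
inclusion of that closure, assumed proper (so that the normalisation map is finite). Let L be a
push-forward datum of groups of points along φ from the generic point of Y to w: maps H^i(η_Y, M(n))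
→ H^i(w, M(n)) that, read through nonempty opens of the two reduced closures, are proper
push-forward along the restrictions of φ. Then each map L is bijective. (Only the push-forward
structure of T is used, so the result is stated for a pre-theory; properness of φ is a hypothesis,
automatic when the closure of w has finite normalisation.) -/
theorem result
    (V : ObjectProperty Scheme.{u}) [BMCoh.IsConstructible V] (R : Type u) [CommRing R]
    (A : BMCoh.Coefs R) (T : BMCoh.PreTheory V R A) (X : BMCoh.Obj V) (w : X.scheme)
    [IsIntegral (X.ptSub w).scheme]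
    [QuasiCompact ((X.ptSub w).scheme.fromSpecStalk (genericPoint (X.ptSub w).scheme))]
    [QuasiSeparated ((X.ptSub w).scheme.fromSpecStalk (genericPoint (X.ptSub w).scheme))]
    (Y : BMCoh.Obj V) [IsIntegral Y.scheme] (e : Y.scheme ≅ Curv2.normalization (X.ptSub w).scheme)
    (φ : Y.scheme ⟶ X.scheme) [IsProper φ]
    (hφ : φ = e.hom ≫ Curv2.normalizationι (X.ptSub w).scheme ≫ X.ptSubι w)
    (L : T.PtPush φ (genericPoint Y.scheme) w) (M : A.Cat) (i n : ℤ) :
    Function.Bijective (L.cpt M i n).hom := by
  have hyx : φ (genericPoint Y.scheme) = w := L.maps_pt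
  -- the normalisation map is finite
  have hν : IsFinite (((X.ptSub w).scheme.fromSpecStalk
      (genericPoint (X.ptSub w).scheme)).fromNormalization) := by
    rw [IsFinite.iff_isProper_and_isAffineHom]
    refine ⟨?_, inferInstance⟩
    haveI : IsProper ((e.hom ≫ Curv2.normalizationι (X.ptSub w).scheme) ≫ X.ptSubι w) := by
      rw [Category.assoc, ← hφ]; infer_instance
    haveI : IsProper (e.hom ≫ Curv2.normalizationι (X.ptSub w).scheme) :=
      IsProper.of_comp _ (X.ptSubι w)
    have h2 : Curv2.normalizationι (X.ptSub w).scheme =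
        e.inv ≫ (e.hom ≫ Curv2.normalizationι (X.ptSub w).scheme) := by simp
    show IsProper (Curv2.normalizationι (X.ptSub w).scheme)
    rw [h2]
    infer_instance
  obtain ⟨U₀, hU₀, hU₀iso⟩ := Groth.Agent.Helper8.NormOpen.exists_open_isIso (X.ptSub w).scheme
  -- the inclusion of the reduced closure of the generic point is an isomorphism
  haveI : AlgebraicGeometry.Surjective (Y.ptSubι (genericPoint Y.scheme)) := by
    constructor
    rw [← Set.range_eq_univ, range_ptSubι]
    exact genericPoint_spec Y.scheme
  haveI : IsIso (Y.ptSubι (genericPoint Y.scheme)) :=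
    isIso_of_isClosedImmersion_of_surjective _
  have hβ : barφ φ (genericPoint Y.scheme) w hyx =
      (Y.ptSubι (genericPoint Y.scheme) ≫ e.hom) ≫ Curv2.normalizationι (X.ptSub w).scheme := by
    rw [← cancel_mono (X.ptSubι w), barφ_fac, hφ]
    simp only [Category.assoc]
  apply Groth.Agent.Helper8.BMNorm.bijective_of_isIso_restrict φ (genericPoint Y.scheme) w hyx T L
    U₀ hU₀
  intro W' hle
  rw [hβ, morphismRestrict_comp]
  haveI : IsIso (Curv2.normalizationι (X.ptSub w).scheme ∣_ U₀) := hU₀iso
  have h1 : IsIso (Curv2.normalizationι (X.ptSub w).scheme ∣_ W') :=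
    isIso_restrict_of_le _ U₀ W' hle
  have h2 : IsIso ((Y.ptSubι (genericPoint Y.scheme) ≫ e.hom) ∣_
      (Curv2.normalizationι (X.ptSub w).scheme ⁻¹ᵁ W')) := inferInstance
  exact IsIso.comp_isIso' h2 h1

end Groth.Agent.S16095
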