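import Groth.Statements.S16124
import Groth.Agent.Helper8.FinGrpQuotB
import Groth.Agent.Helper4.AmpleFinite

set_option autoImplicit false
universe u
open CategoryTheory MonoidalCategory CartesianMonoidalCategory MonObj GrpObj AlgebraicGeometry CategoryTheory.Limits
open AlgGrp

namespace Groth.Agent.S16124

/-- Over an algebraically closed field k, let X be a quasi-projective variety (a reduced separated
k-scheme, quasi-projective over k) with an action of a finite group Γ by k-automorphisms. Then X is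
covered by Γ-stable affine open subschemes: every point x of X lies in an affine open U with σ⁻¹(U)
= U for every σ in Γ. -/
theorem result (k : Type u) [Field k] [IsAlgClosed k]
    (X : Over (Spec (CommRingCat.of k))) [IsReduced X.left] [IsSeparated X.hom] (hX : RelProj.IsQuasiProjective X.hom)
    (Γgrp : Type u) [Group Γgrp] [Finite Γgrp] (ρ : Γgrp →* Aut X.left)
    (hρ : ∀ σ : Γgrp, (ρ σ).hom ≫ X.hom = X.hom) (x : ↥X.left) :
    ∃ U : X.left.Opens, x ∈ U ∧ IsAffineOpen U ∧ ∀ σ : Γgrp, (ρ σ).hom ⁻¹ᵁ U = U := by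
  obtain ⟨-, -, L, -, hL⟩ := hX
  let V : (Spec (CommRingCat.of k)).affineOpens := ⟨⊤, isAffineOpen_top _⟩
  have hamp := hL V
  let P : X.left.Opens := X.hom ⁻¹ᵁ V.1
  have hPmem : ∀ y : X.left, y ∈ P := fun y => Set.mem_univ _
  haveI : Groth.Agent.Helper8.FinGrpQuot.OrbAff ρ := ⟨fun y => by
    classical
    let Z : Set P.toScheme := {z | ∃ g : Γgrp, z.1 = (ρ g).hom.base y}
    have hZ : Z.Finite := by
      apply Set.Finite.subset
        (Set.finite_range (fun g : Γgrp => (⟨(ρ g).hom.base y, hPmem _⟩ : P.toScheme)))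
      rintro z ⟨g, hg⟩
      exact ⟨g, Subtype.ext hg.symm⟩
    obtain ⟨n, s, hZs, -, hA⟩ :=
      Groth.Agent.Helper4.AmpleFinite.exists_affine_genLocus_of_finite hamp Z hZ ⊤
        (fun _ _ => trivial)
    refine ⟨P.ι ''ᵁ (CohB1.genLocus _ s), hA.image_of_isOpenImmersion P.ι, fun g => ?_⟩
    exact ⟨⟨(ρ g).hom.base y, hPmem _⟩, hZs ⟨g, rfl⟩, rfl⟩⟩
  obtain ⟨W, hA, hst, hxW, -⟩ := Groth.Agent.Helper8.FinGrpQuot.exists_stableAffine ρ ⊤
    Groth.Agent.Helper8.FinGrpQuot.isStable_top x trivial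
  refine ⟨W, hxW, hA, fun σ => le_antisymm ?_ (hst σ)⟩
  intro y hy
  exact (hst.mem_iff σ y).mp hy

end Groth.Agent.S16124
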