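import Groth.Statements.S1614
import Groth.Agent.Helper1.TwistMul5

set_option autoImplicit false
universe u
open CategoryTheory CategoryTheory.Limits AlgebraicGeometry
open Constr

namespace Groth.Agent.S1614

/-- Let A be a graded ring, X = Proj A, and f homogeneous of degree d > 0. For every integer n the
restriction of the twisting sheaf O(nd) to the standard open D_+(f) is isomorphic to the structure
sheaf (in particular invertible). -/
theorem result {R A : Type u} [CommRing R] [CommRing A] [Algebra R A] (𝒜 : ℕ → Submodule R A) [GradedAlgebra 𝒜]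
    (d : ℕ) (hd : 0 < d) (f : A) (hf : f ∈ 𝒜 d) (n : ℤ) :
    Nonempty ((Twist.twist 𝒜 (n * d)).restrict (Proj.basicOpen 𝒜 f).ι ≅ Coh.structureModule ↑(Proj.basicOpen 𝒜 f)) := by
  obtain ⟨P⟩ := Groth.Agent.Helper1.TwistMul.nonempty_invPair_of_le_basicOpen 𝒜
    (Proj.basicOpen 𝒜 f) f hf le_rfl n
  exact Groth.Agent.Helper1.TwistMul.InvPair.nonempty_iso_twist 𝒜 P

end Groth.Agent.S1614
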