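import Groth.Statements.S16148
import Groth.Agent.Helper1.TopNV1
import Groth.Agent.Helper1.ExtTr2
import Groth.Agent.Helper1.ExtSh12
import Groth.Agent.Helper1.ExtCodim2
import Groth.Agent.Helper1.ExtRes3
import Groth.Agent.Helper1.PnReg
import Groth.Agent.Helper1.SerreVan
import Groth.Agent.Helper1.SerreFin2
import Groth.Agent.Helper4.QAffSec
import Groth.Agent.S0020
import Groth.Agent.S10829

set_option autoImplicit false
universe u
open CategoryTheory CategoryTheory.Limits AlgebraicGeometry
open Variety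

namespace Groth.Agent.S16148

/-- Let k be a characteristic-zero algebraically closed field and G a coherent O-module (quasi-coherent
of finite type) on projective n-space P^n_k whose support, as a subspace of P^n_k, has Krull
dimension a with a ≥ 1. Then there is an integer m such that H^a(P^n_k, G(m)) ≠ 0, where G(m) = G ⊗
O(m). (The source works over the complex numbers.) -/
theorem result (k : Type u) [Field k] [IsAlgClosed k] [CharZero k]
    (n : ℕ) (G : (CohB1.ProjSpace n k).Modules) (hG : Coh.IsCoh G) (a : ℕ) (ha : 1 ≤ a)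
    (hdim : topologicalKrullDim ↥(CohB1.support G) = a) :
    ∃ m : ℤ, Nontrivial (Coh.HH (CohB1.ProjSpace n k) (CohB1.tensorMod G (Twist.twistProjSpace n k m)) a) := by
  classical
  haveI := Groth.Agent.Helper3.ProjSmooth.smooth_toSpec n k
  haveI : LocallyOfFiniteType (CohB1.ProjSpace.toSpec n k) := inferInstance
  haveI : IsNoetherianRing (CommRingCat.of k) := inferInstanceAs (IsNoetherianRing k)
  haveI : IsLocallyNoetherian (CohB1.ProjSpace n k) :=
    LocallyOfFiniteType.isLocallyNoetherian (CohB1.ProjSpace.toSpec n k)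
  haveI : IrreducibleSpace (CohB1.ProjSpace n k) := inferInstance
  haveI : HasInjectiveResolutions (ModSite.Mod (CohB1.ProjSpace n k).sheaf) :=
    Groth.Agent.Helper1.ExtRes.hasInjectiveResolutions_mod (CohB1.ProjSpace n k)
  haveI : EnoughInjectives (CohB1.ProjSpace n k).Modules :=
    Groth.Agent.Helper9.ModCechExt.enoughInjectives_mod (CohB1.ProjSpace n k).ringCatSheaf
  haveI : HasExt.{u} (CohB1.ProjSpace n k).Modules := hasExt_of_enoughInjectives _
  by_contra hcon
  push Not at hcon
  have hsub : ∀ m : ℤ, Subsingleton (Coh.HH (CohB1.ProjSpace n k)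
      (CohB1.tensorMod G (Twist.twistProjSpace n k m)) a) := hcon
  haveI : ModSite.HasSheafHom (O := (CohB1.ProjSpace n k).sheaf) G :=
    Groth.Agent.Helper9.TensorAdj.hasSheafHom G
  -- the data of projective space
  have hP : ∀ Z : Set ↥(CohB1.ProjSpace n k), Z ∈ irreducibleComponents ↥(CohB1.ProjSpace n k) →
      topologicalKrullDim ↥Z = (n : WithBot ℕ∞) := by
    intro Z hZ
    have hZ' : Z = Set.univ := by
      have := irreducibleComponents_eq_singleton (X := ↥(CohB1.ProjSpace n k))
      rw [this] at hZ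
      exact hZ
    rw [hZ', ← Groth.Agent.S10829.result k n]
    exact (Homeomorph.Set.univ _).isHomeomorph.topologicalKrullDim_eq _
  have hreg : ∀ p : CohB1.ProjSpace n k,
      IsRegularLocalRing ((CohB1.ProjSpace n k).presheaf.stalk p) :=
    fun p => Groth.Agent.Helper1.PnReg.isRegularLocalRing_stalk n k p
  let ωP := Twist.twistProjSpace n k (-((n : ℤ) + 1))
  have hωP : FlatMod.IsFinLocFreeOfRank 1 ωP :=
    Groth.Agent.Helper4.QAffSec.isFinLocFreeOfRank_one_of_isInvertible _
      (Groth.Agent.Helper1.SerreVan.isInvertible_twist n k _)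
  have hcohω : Coh.IsCoh ωP := Groth.Agent.Helper1.SerreFin.isCoh_twist n k _
  -- the support
  have hclosed : IsClosed (CohB1.support G) :=
    Groth.Agent.S0020.result _ G hG.2
  let U : (CohB1.ProjSpace n k).Opens := ⟨(CohB1.support G)ᶜ, hclosed.isOpen_compl⟩
  obtain ⟨x, hxY, hxa⟩ := Groth.Agent.Helper1.TopNV.exists_point_dim_closure
    (CohB1.support G) hclosed a ha hdim
  obtain ⟨t, ht1, ht2⟩ := Groth.Agent.Helper1.ExtTr.exists_dim_closure k
    (CohB1.ProjSpace.toSpec n k) n hP x
  have hta : t = a := by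
    rw [hxa] at ht1
    exact_mod_cast ht1.symm
  subst hta
  -- depth at least `n - t` along the support
  have hdepth : ∀ y : CohB1.ProjSpace n k, y ∉ (U : Set (CohB1.ProjSpace n k)) →
      ((n - t : ℕ) : ℕ∞) ≤ LocCoh.depth ((CohB1.ProjSpace n k).presheaf.stalk y)
        (ωP.presheaf.stalk y) := by
    intro y hy
    have hyY : y ∈ CohB1.support G := by
      by_contra h
      exact hy h
    haveI := hreg y
    rw [Groth.Agent.Helper1.ExtCodim.depth_stalk_of_rank_one ωP hωP]
    have hcl : topologicalKrullDim ↥(closure ({y} : Set (CohB1.ProjSpace n k))) ≤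
        (t : WithBot ℕ∞) := by
      have hsubs : closure ({y} : Set (CohB1.ProjSpace n k)) ⊆ CohB1.support G :=
        hclosed.closure_subset_iff.2 (Set.singleton_subset_iff.2 hyY)
      rw [← hdim]
      exact (Topology.IsEmbedding.inclusion hsubs).isInducing.topologicalKrullDim_le
    have h1 := Groth.Agent.Helper1.ExtCodim.le_ringKrullDim_stalk k
      (CohB1.ProjSpace.toSpec n k) n t hP y hcl
    rw [← Groth.Agent.Helper1.ExtCodim.depth_eq_dim_of_regular] at h1
    have h2 : (((n - t : ℕ) : ℕ∞) : WithBot ℕ∞) ≤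
        ((LocCoh.depth ((CohB1.ProjSpace n k).presheaf.stalk y)
          ((CohB1.ProjSpace n k).presheaf.stalk y) : ℕ∞) : WithBot ℕ∞) := h1
    exact WithBot.coe_le_coe.1 h2
  have hsupp : ∀ y ∈ CohB1.support G, y ∉ (U : Set (CohB1.ProjSpace n k)) :=
    fun y hy hyU => hyU hy
  have hsupp' : CohB1.support G = (U : Set (CohB1.ProjSpace n k))ᶜ := (compl_compl _).symm
  -- `t ≤ n`
  have htn : t ≤ n := by
    haveI := hreg x
    rw [← Groth.Agent.Helper1.ExtCodim.depth_eq_dim_of_regular] at ht2
    generalize LocCoh.depth ((CohB1.ProjSpace n k).presheaf.stalk x)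
      ((CohB1.ProjSpace n k).presheaf.stalk x) = d at ht2
    induction d using ENat.recTopCoe with
    | top =>
      exfalso
      have : ((⊤ : ℕ∞) : WithBot ℕ∞) + ((t : ℕ∞) : WithBot ℕ∞) = ((n : ℕ∞) : WithBot ℕ∞) := ht2
      rw [← WithBot.coe_add, WithBot.coe_inj, top_add] at this
      exact absurd this (by simp)
    | coe d =>
      have : (((d : ℕ) : ℕ∞) : WithBot ℕ∞) + ((t : ℕ∞) : WithBot ℕ∞) =
          ((n : ℕ∞) : WithBot ℕ∞) := ht2
      rw [← WithBot.coe_add, WithBot.coe_inj, ← Nat.cast_add, Nat.cast_inj] at this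
      omega
  -- vanishing of all `ℰxtⁱ(G, ω)` for `i ≤ n - t`
  have hvan : ∀ i : ℕ, i < n - t + 1 →
      IsZero ((ModSite.extSh (O := (CohB1.ProjSpace n k).sheaf) G i).obj ωP) := by
    intro i hi
    by_cases hi' : i < n - t
    · exact Groth.Agent.Helper1.ExtDepth.isZero_extSh_of_depth U ωP G hcohω hG (n - t) hdepth
        hsupp i hi'
    · have hi'' : i = n - t := by omega
      subst hi''
      refine (Groth.Agent.Helper1.ExtSh.isZero_extSh_iff n k G hG (n - t) (Nat.sub_le n t)).2
        ⟨0, fun q _ => ?_⟩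
      rw [Nat.sub_sub_self htn]
      exact hsub (-q)
  -- the depth at the generic point
  have hd := Groth.Agent.Helper1.ExtDepth.le_depth_of_isZero_extSh U ωP G hcohω hG (n - t + 1)
    hsupp' hvan x (fun hxU => hxU hxY)
  haveI := hreg x
  rw [Groth.Agent.Helper1.ExtCodim.depth_stalk_of_rank_one ωP hωP] at hd
  rw [← Groth.Agent.Helper1.ExtCodim.depth_eq_dim_of_regular] at ht2
  generalize LocCoh.depth ((CohB1.ProjSpace n k).presheaf.stalk x)
    ((CohB1.ProjSpace n k).presheaf.stalk x) = d at ht2 hd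
  induction d using ENat.recTopCoe with
  | top =>
    have : ((⊤ : ℕ∞) : WithBot ℕ∞) + ((t : ℕ∞) : WithBot ℕ∞) = ((n : ℕ∞) : WithBot ℕ∞) := ht2
    rw [← WithBot.coe_add, WithBot.coe_inj, top_add] at this
    exact absurd this (by simp)
  | coe d =>
    have h1 : (((d : ℕ) : ℕ∞) : WithBot ℕ∞) + ((t : ℕ∞) : WithBot ℕ∞) =
        ((n : ℕ∞) : WithBot ℕ∞) := ht2
    rw [← WithBot.coe_add, WithBot.coe_inj, ← Nat.cast_add, Nat.cast_inj] at h1
    have h2 : ((n - t + 1 : ℕ) : ℕ∞) ≤ ((d : ℕ) : ℕ∞) := hd
    rw [Nat.cast_le] at h2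
    omega

end Groth.Agent.S16148
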