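import Groth.Statements.S16149
import Groth.Agent.Lead.Hartogs2
import Mathlib

set_option autoImplicit false
universe u
open CategoryTheory CategoryTheory.Limits AlgebraicGeometry TopologicalSpace
open SDiv

namespace Groth.Agent.S16149

/-- Let X be a locally Noetherian scheme, F a coherent O_X-module (quasi-coherent of finite type) and s
: O_X → F a global section of F. Then the set of points x of X at which the stalk map (O_X)_x → F_x
of s is bijective is open. (The published statement assumes moreover X integral and normal and F
reflexive of rank one; the openness assertion uses only that F is coherent on a locally Noetherian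
scheme, and it can fail for F quasi-coherent of finite type on a scheme that is not locally
Noetherian.) -/
theorem result (X : Scheme.{u}) [IsLocallyNoetherian X] (F : X.Modules) (hF : Coh.IsCoh F)
    (s : Coh.structureModule X ⟶ F) : IsOpen (RefPow.isoLocus s) := by
  have hO : Coh.IsCoh (Coh.structureModule X) := Groth.Agent.Lead.PerfLib.isCoh_of_isFinLocFree Groth.Agent.Helper4.FinLocFree6.isFinLocFree_unit
  have h : IsOpen {x : X | Function.Bijective (Groth.Agent.Helper4.StalkDict.stalkLin s x)} := by
    rw [isOpen_iff_forall_mem_open]
    intro x hx
    obtain ⟨U, hxU, hU⟩ := (Groth.Agent.Lead.StalkNhd.main F (Coh.structureModule X) hF hO s x).2.2 hx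
    refine ⟨U, ?_, U.isOpen, hxU⟩
    intro y hy
    exact Groth.Agent.Lead.Hartogs.stalkLin_bijective_of_isIso_restrict s U hU ⟨y, hy⟩
  exact h

end Groth.Agent.S16149
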