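import Groth.Statements.S16164
import Groth.Agent.Helper8.Lattice
import Mathlib.LinearAlgebra.Matrix.BilinearForm

set_option autoImplicit false
open Neron

namespace Groth.Agent.S16164

/-- Let X, Y₁, Y₂ be finitely generated free abelian groups with chosen bases, so that homomorphisms are
integer matrices acting on column vectors and each group is identified with its dual; let P : X → Y₁
and Q : X → Y₂ be surjective with A = (P over Q) : X → Y₁ ⊕ Y₂ injective, and let Ψ₁, Ψ₂ be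
symmetric positive-definite integer matrices on Y₁ and Y₂, Ψ their block-diagonal sum. If the image
of Aᵀ Ψ : Y₁ ⊕ Y₂ → X coincides with the image of Aᵀ Ψ A : X → X (the reverse inclusion always
holds), then A is bijective. (In the source X, Y₁, Y₂ are character groups of maximal tori, P and Q
specialization maps, Ψ₁ and Ψ₂ monodromy pairings, and the hypothesis expresses that two groups of
components coincide.) -/
theorem result
    {ι κ₁ κ₂ : Type} [Fintype ι] [Fintype κ₁] [Fintype κ₂]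
    (P : Matrix κ₁ ι ℤ) (Q : Matrix κ₂ ι ℤ)
    (hP : Function.Surjective P.mulVec) (hQ : Function.Surjective Q.mulVec)
    (hA : Function.Injective (Matrix.fromRows P Q).mulVec)
    (Ψ₁ : Matrix κ₁ κ₁ ℤ) (Ψ₂ : Matrix κ₂ κ₂ ℤ) (hΨ₁ : Ψ₁.IsSymm) (hΨ₂ : Ψ₂.IsSymm)
    (hΨ₁pos : ∀ y : κ₁ → ℤ, y ≠ 0 → 0 < y ⬝ᵥ Ψ₁.mulVec y)
    (hΨ₂pos : ∀ y : κ₂ → ℤ, y ≠ 0 → 0 < y ⬝ᵥ Ψ₂.mulVec y)
    (himage : LinearMap.range ((Matrix.fromRows P Q).transpose * Matrix.fromBlocks Ψ₁ 0 0 Ψ₂).mulVecLin =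
      LinearMap.range ((Matrix.fromRows P Q).transpose * Matrix.fromBlocks Ψ₁ 0 0 Ψ₂ * Matrix.fromRows P Q).mulVecLin) :
    Function.Bijective (Matrix.fromRows P Q).mulVec := by
  classical
  refine ⟨hA, ?_⟩
  set A := Matrix.fromRows P Q with hA_def
  set Ψ := Matrix.fromBlocks Ψ₁ 0 0 Ψ₂ with hΨ_def
  -- block formula
  have block : ∀ u v : κ₁ ⊕ κ₂ → ℤ, u ⬝ᵥ Ψ.mulVec v =
      (u ∘ Sum.inl) ⬝ᵥ Ψ₁.mulVec (v ∘ Sum.inl) + (u ∘ Sum.inr) ⬝ᵥ Ψ₂.mulVec (v ∘ Sum.inr) := by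
    intro u v
    rw [hΨ_def, Matrix.fromBlocks_mulVec]
    simp [dotProduct, Fintype.sum_sum_type]
  let B : LinearMap.BilinForm ℤ (κ₁ ⊕ κ₂ → ℤ) := Matrix.toBilin' Ψ
  have hB : ∀ u v, B u v = u ⬝ᵥ Ψ.mulVec v := Matrix.toBilin'_apply' Ψ
  have symm1 : ∀ u v : κ₁ → ℤ, u ⬝ᵥ Ψ₁.mulVec v = v ⬝ᵥ Ψ₁.mulVec u := by
    intro u v
    rw [Matrix.dotProduct_mulVec, ← Matrix.mulVec_transpose, hΨ₁.eq, dotProduct_comm]
  have symm2 : ∀ u v : κ₂ → ℤ, u ⬝ᵥ Ψ₂.mulVec v = v ⬝ᵥ Ψ₂.mulVec u := by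
    intro u v
    rw [Matrix.dotProduct_mulVec, ← Matrix.mulVec_transpose, hΨ₂.eq, dotProduct_comm]
  have Bsymm : ∀ u v, B u v = B v u := by
    intro u v
    rw [hB, hB, block, block, symm1, symm2]
  have nn1 : ∀ u : κ₁ → ℤ, 0 ≤ u ⬝ᵥ Ψ₁.mulVec u := by
    intro u
    by_cases hu : u = 0
    · simp [hu]
    · exact (hΨ₁pos u hu).le
  have nn2 : ∀ u : κ₂ → ℤ, 0 ≤ u ⬝ᵥ Ψ₂.mulVec u := by
    intro u
    by_cases hu : u = 0
    · simp [hu]
    · exact (hΨ₂pos u hu).le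
  have Bpos : ∀ u, u ≠ 0 → 0 < B u u := by
    intro u hu
    rw [hB, block]
    by_cases h1 : u ∘ Sum.inl = 0
    · have h2 : u ∘ Sum.inr ≠ 0 := by
        intro h2
        apply hu
        funext i
        cases i with
        | inl i => exact congrFun h1 i
        | inr i => exact congrFun h2 i
      have := hΨ₂pos _ h2
      have := nn1 (u ∘ Sum.inl)
      linarith
    · have := hΨ₁pos _ h1
      have := nn2 (u ∘ Sum.inr)
      linarith
  let M : AddSubgroup (κ₁ ⊕ κ₂ → ℤ) := (LinearMap.range A.mulVecLin).toAddSubgroup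
  have hM : ∀ y, y ∈ M ↔ ∃ x, A.mulVec x = y := by
    intro y
    simp only [M, Submodule.mem_toAddSubgroup, LinearMap.mem_range, Matrix.mulVecLin_apply]
  have adj : ∀ (x : ι → ℤ) (w : κ₁ ⊕ κ₂ → ℤ), A.mulVec x ⬝ᵥ w = x ⬝ᵥ A.transpose.mulVec w := by
    intro x w
    rw [dotProduct_comm, Matrix.dotProduct_mulVec, ← Matrix.mulVec_transpose, dotProduct_comm]
  have hdec : ∀ y, ∃ m ∈ M, ∀ m' ∈ M, B m' (y - m) = 0 := by
    intro y
    have h1 : (A.transpose * Ψ).mulVecLin y ∈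
        LinearMap.range (A.transpose * Ψ * A).mulVecLin := by
      rw [← himage]
      exact LinearMap.mem_range_self _ y
    obtain ⟨x, hx⟩ := h1
    rw [Matrix.mulVecLin_apply, Matrix.mulVecLin_apply] at hx
    refine ⟨A.mulVec x, (hM _).mpr ⟨x, rfl⟩, ?_⟩
    intro m' hm'
    obtain ⟨x', rfl⟩ := (hM _).mp hm'
    rw [hB, adj, Matrix.mulVec_mulVec, Matrix.mulVec_sub, Matrix.mulVec_mulVec, hx, sub_self,
      dotProduct_zero]
  let π₁ : (κ₁ ⊕ κ₂ → ℤ) → (κ₁ ⊕ κ₂ → ℤ) := fun y => Sum.elim (y ∘ Sum.inl) 0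
  let π₂ : (κ₁ ⊕ κ₂ → ℤ) → (κ₁ ⊕ κ₂ → ℤ) := fun y => Sum.elim 0 (y ∘ Sum.inr)
  have hπ : ∀ y, π₁ y + π₂ y = y := by
    intro y
    funext i
    cases i <;> simp [π₁, π₂]
  have horth : ∀ u v, B (π₁ u) (π₂ v) = 0 := by
    intro u v
    rw [hB, block]
    simp [π₁, π₂]
  have h1 : ∀ z, z ≠ 0 → π₂ z = 0 → ∃ m ∈ M, B m z ≠ 0 := by
    intro z hz hz2
    have hzr : z ∘ Sum.inr = 0 := by
      funext j
      have := congrFun hz2 (Sum.inr j)
      simpa [π₂] using this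
    have hzl : z ∘ Sum.inl ≠ 0 := by
      intro h
      apply hz
      funext i
      cases i with
      | inl i => exact congrFun h i
      | inr i => exact congrFun hzr i
    obtain ⟨x, hx⟩ := hP (z ∘ Sum.inl)
    refine ⟨A.mulVec x, (hM _).mpr ⟨x, rfl⟩, ?_⟩
    rw [hB, block, hzr, hA_def, Matrix.fromRows_mulVec, Sum.elim_comp_inl, hx]
    have := hΨ₁pos _ hzl
    simp only [Matrix.mulVec_zero, dotProduct_zero, add_zero]
    exact this.ne'
  have h2 : ∀ z, z ≠ 0 → π₁ z = 0 → ∃ m ∈ M, B m z ≠ 0 := by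
    intro z hz hz1
    have hzl : z ∘ Sum.inl = 0 := by
      funext j
      have := congrFun hz1 (Sum.inl j)
      simpa [π₁] using this
    have hzr : z ∘ Sum.inr ≠ 0 := by
      intro h
      apply hz
      funext i
      cases i with
      | inl i => exact congrFun hzl i
      | inr i => exact congrFun h i
    obtain ⟨x, hx⟩ := hQ (z ∘ Sum.inr)
    refine ⟨A.mulVec x, (hM _).mpr ⟨x, rfl⟩, ?_⟩
    rw [hB, block, hzl, hA_def, Matrix.fromRows_mulVec, Sum.elim_comp_inr, hx]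
    have := hΨ₂pos _ hzr
    simp only [Matrix.mulVec_zero, dotProduct_zero, zero_add]
    exact this.ne'
  intro y
  exact (hM y).mp (Groth.Agent.Helper8.lattice_eq_top B Bsymm Bpos M hdec π₁ π₂ hπ horth h1 h2 y)

end Groth.Agent.S16164
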