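import Groth.Statements.S1617
import Groth.Agent.Helper5.VarDim4

set_option autoImplicit false
universe u
open CategoryTheory CategoryTheory.Limits AlgebraicGeometry
open Variety

namespace Groth.Agent.S1617

/-- Let X be locally of finite type over a field k and x a closed point. Then the local dimension of X
at x (infimum of the dimensions of open neighbourhoods) equals the Krull dimension of the local ring
at x. -/
theorem result (k : Type u) [Field k] (X : Scheme.{u}) [X.Over (Spec (CommRingCat.of k))] [LocallyOfFiniteType (X ↘ (Spec (CommRingCat.of k)))] (x : X) (hx : IsClosed ({x} : Set X)) :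
    FlatMor.localDim X x = ringKrullDim (X.presheaf.stalk x) := by
  obtain ⟨n, -, hn2, hn3⟩ := Groth.Agent.Helper5.VarDim.localDim_formula k
    (X ↘ (Spec (CommRingCat.of k))) x
  rw [hn2, hn3 hx]
  simp

end Groth.Agent.S1617
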