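import Groth.Statements.S16170
import Groth.Agent.Helper8.Lattice
import Mathlib.LinearAlgebra.Matrix.BilinearForm

set_option autoImplicit false
open Neron

namespace Groth.Agent.S16170

/-- Let M and N be symmetric positive-semidefinite integer matrices on the same finite index set whose
sum M + N is positive definite, and let χ₁, χ₂ be integer matrices with χ₁ + χ₂ = 1 and M χ₂ = N χ₁.
Then χ₁ and χ₂ are idempotent. (In the intended application M = Pᵀ Ψ₁ P and N = Qᵀ Ψ₂ Q for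
surjective integer matrices P, Q and positive-definite Ψ₁, Ψ₂.) -/
theorem result
    {ι : Type} [Fintype ι] [DecidableEq ι]
    (M N χ₁ χ₂ : Matrix ι ι ℤ) (hM : M.IsSymm) (hN : N.IsSymm)
    (hMpos : ∀ v : ι → ℤ, 0 ≤ v ⬝ᵥ M.mulVec v) (hNpos : ∀ v : ι → ℤ, 0 ≤ v ⬝ᵥ N.mulVec v)
    (hpos : ∀ v : ι → ℤ, v ≠ 0 → 0 < v ⬝ᵥ (M + N).mulVec v)
    (hsum : χ₁ + χ₂ = 1) (hrel : M * χ₂ = N * χ₁) :
    χ₁ * χ₁ = χ₁ ∧ χ₂ * χ₂ = χ₂ := by
  classical
  set G := M + N with hG
  have hGsymm : G.IsSymm := hM.add hN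
  have hG1 : G * χ₁ = M := by
    rw [hG, Matrix.add_mul, ← hrel, ← Matrix.mul_add, hsum, Matrix.mul_one]
  have hG2 : G * χ₂ = N := by
    rw [hG, Matrix.add_mul, hrel, ← Matrix.mul_add, hsum, Matrix.mul_one]
  let B : LinearMap.BilinForm ℤ (ι → ℤ) := Matrix.toBilin' G
  have hB : ∀ u v, B u v = u ⬝ᵥ G.mulVec v := Matrix.toBilin'_apply' G
  have adj : ∀ (A : Matrix ι ι ℤ) (x w : ι → ℤ), A.mulVec x ⬝ᵥ w = x ⬝ᵥ A.transpose.mulVec w := by
    intro A x w
    rw [dotProduct_comm, Matrix.dotProduct_mulVec, ← Matrix.mulVec_transpose, dotProduct_comm]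
  have t1 : χ₁.transpose * G = M := by
    have : (G * χ₁).transpose = M.transpose := by rw [hG1]
    rw [Matrix.transpose_mul, hGsymm.eq, hM.eq] at this
    exact this
  have t2 : χ₂.transpose * G = N := by
    have : (G * χ₂).transpose = N.transpose := by rw [hG2]
    rw [Matrix.transpose_mul, hGsymm.eq, hN.eq] at this
    exact this
  have f1 : ∀ x y, B (χ₁.mulVecLin x) y = x ⬝ᵥ M.mulVec y := by
    intro x y
    rw [hB, Matrix.mulVecLin_apply, adj, Matrix.mulVec_mulVec, t1]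
  have f1' : ∀ x y, B x (χ₁.mulVecLin y) = x ⬝ᵥ M.mulVec y := by
    intro x y
    rw [hB, Matrix.mulVecLin_apply, Matrix.mulVec_mulVec, hG1]
  have f2 : ∀ x y, B (χ₂.mulVecLin x) y = x ⬝ᵥ N.mulVec y := by
    intro x y
    rw [hB, Matrix.mulVecLin_apply, adj, Matrix.mulVec_mulVec, t2]
  have f2' : ∀ x y, B x (χ₂.mulVecLin y) = x ⬝ᵥ N.mulVec y := by
    intro x y
    rw [hB, Matrix.mulVecLin_apply, Matrix.mulVec_mulVec, hG2]
  have key := Groth.Agent.Helper8.comp_eq_zero_of_psd B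
    (fun u hu => by rw [hB]; exact hpos u hu)
    χ₁.mulVecLin χ₂.mulVecLin
    (fun x => by
      rw [Matrix.mulVecLin_apply, Matrix.mulVecLin_apply, ← Matrix.add_mulVec, hsum,
        Matrix.one_mulVec])
    (fun x y => by rw [f1, f1'])
    (fun x y => by rw [f2, f2'])
    (fun x => by rw [f1]; exact hMpos x)
    (fun x => by rw [f2]; exact hNpos x)
  have h12 : χ₁ * χ₂ = 0 := by
    apply Matrix.toLin'.injective
    apply LinearMap.ext
    intro x
    have := key x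
    simp only [Matrix.mulVecLin_apply, Matrix.mulVec_mulVec] at this
    rw [Matrix.toLin'_apply, this]
    simp
  constructor
  · calc χ₁ * χ₁ = χ₁ * χ₁ + χ₁ * χ₂ := by rw [h12, add_zero]
      _ = χ₁ := by rw [← Matrix.mul_add, hsum, Matrix.mul_one]
  · calc χ₂ * χ₂ = χ₁ * χ₂ + χ₂ * χ₂ := by rw [h12, zero_add]
      _ = χ₂ := by rw [← Matrix.add_mul, hsum, Matrix.one_mul]

end Groth.Agent.S16170
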