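import Groth.Statements.S16174
import Mathlib
open Polynomial IsLocalRing

set_option autoImplicit false
universe u
open Hensel

namespace Groth.Agent.S16174

theorem quotient_henselian (V : Type u) [CommRing V] [HenselianLocalRing V] (I : Ideal V)
    (hI : I ≠ ⊤) : HenselianLocalRing (V ⧸ I) := by
  have hnt : Nontrivial (V ⧸ I) := Ideal.Quotient.nontrivial_iff.2 hI
  have hloc : IsLocalRing (V ⧸ I) :=
    IsLocalRing.of_surjective' (Ideal.Quotient.mk I) Ideal.Quotient.mk_surjective
  have hle : I ≤ maximalIdeal V := IsLocalRing.le_maximalIdeal hI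
  -- π a unit ↔ a unit
  have hunit : ∀ a : V, IsUnit (Ideal.Quotient.mk I a) → IsUnit a := by
    intro a ha
    by_contra hna
    have ham : a ∈ maximalIdeal V := (IsLocalRing.mem_maximalIdeal a).2 hna
    obtain ⟨b, hb⟩ := isUnit_iff_exists_inv.1 ha
    obtain ⟨b, rfl⟩ := Ideal.Quotient.mk_surjective b
    rw [← map_mul, ← map_one (Ideal.Quotient.mk I), Ideal.Quotient.eq] at hb
    have h1 : a * b - 1 ∈ maximalIdeal V := hle hb
    have h2 : a * b ∈ maximalIdeal V := Ideal.mul_mem_right _ _ ham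
    have h3 : (1 : V) ∈ maximalIdeal V := by
      have := Ideal.sub_mem _ h2 h1
      simpa using this
    exact (Ideal.ne_top_iff_one _).1 (IsLocalRing.maximalIdeal.isMaximal V).ne_top h3
  have hmem : ∀ a : V, Ideal.Quotient.mk I a ∈ maximalIdeal (V ⧸ I) ↔ a ∈ maximalIdeal V := by
    intro a
    rw [IsLocalRing.mem_maximalIdeal, IsLocalRing.mem_maximalIdeal, mem_nonunits_iff, mem_nonunits_iff]
    exact ⟨fun h h' => h (h'.map _), fun h h' => h (hunit a h')⟩
  refine { toIsLocalRing := hloc, is_henselian := ?_ }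
  intro f hf a₀ h₁ h₂
  have hlift : f ∈ Polynomial.lifts (Ideal.Quotient.mk I) := by
    obtain ⟨F, hF⟩ := Polynomial.map_surjective (Ideal.Quotient.mk I) Ideal.Quotient.mk_surjective f
    exact (Polynomial.mem_lifts f).2 ⟨F, hF⟩
  obtain ⟨F, hFmap, hFdeg, hFmonic⟩ := Polynomial.lifts_and_degree_eq_and_monic hlift hf
  obtain ⟨A₀, rfl⟩ := Ideal.Quotient.mk_surjective a₀
  have e1 : ∀ A : V, f.eval (Ideal.Quotient.mk I A) = Ideal.Quotient.mk I (F.eval A) := by
    intro A
    rw [← hFmap, Polynomial.eval_map_apply]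
  have e2 : f.derivative.eval (Ideal.Quotient.mk I A₀) = Ideal.Quotient.mk I (F.derivative.eval A₀) := by
    rw [← hFmap, Polynomial.derivative_map, Polynomial.eval_map_apply]
  rw [e1, hmem] at h₁
  rw [e2] at h₂
  obtain ⟨A, hA, hA'⟩ := HenselianLocalRing.is_henselian F hFmonic A₀ h₁ (hunit _ h₂)
  refine ⟨Ideal.Quotient.mk I A, ?_, ?_⟩
  · rw [Polynomial.IsRoot.def, e1, hA.eq_zero, map_zero]
  · rw [← map_sub, hmem]
    exact hA'

/-- elements of the maximal ideal of `V_p` come from `p` (valuation ring) -/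
theorem exists_of_mem_maximalIdeal_loc (V : Type u) [CommRing V] [IsDomain V] [ValuationRing V]
    (p : Ideal V) [p.IsPrime] (w : Localization.AtPrime p)
    (hw : w ∈ maximalIdeal (Localization.AtPrime p)) :
    ∃ v ∈ p, algebraMap V (Localization.AtPrime p) v = w := by
  obtain ⟨v, s, rfl⟩ := IsLocalization.exists_mk'_eq p.primeCompl w
  rw [IsLocalization.AtPrime.mk'_mem_maximal_iff (Localization.AtPrime p) p] at hw
  rcases ValuationRing.dvd_total v (s : V) with h | h
  · exfalso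
    obtain ⟨t, ht⟩ := h
    exact s.2 (ht ▸ Ideal.mul_mem_right t p hw)
  · obtain ⟨t, ht⟩ := h
    have htp : t ∈ p := by
      rw [ht] at hw
      exact (Ideal.IsPrime.mem_or_mem ‹_› hw).resolve_left s.2
    refine ⟨t, htp, ?_⟩
    rw [IsLocalization.eq_mk'_iff_mul_eq, ht, map_mul, mul_comm]

theorem isUnit_add_of_mem_maximalIdeal {A : Type u} [CommRing A] [IsLocalRing A] {a b : A}
    (ha : IsUnit a) (hb : b ∈ maximalIdeal A) : IsUnit (a + b) := by
  by_contra h
  have h' : a + b ∈ maximalIdeal A := (IsLocalRing.mem_maximalIdeal _).2 h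
  have : a ∈ maximalIdeal A := by
    have := Ideal.sub_mem _ h' hb
    simpa using this
  exact (IsLocalRing.mem_maximalIdeal _).1 this ha

/-- key lemma: a monic polynomial over `V_p` with constant term in the maximal ideal and unit linear
coefficient has a root in the maximal ideal. -/
theorem exists_root_loc (V : Type u) [CommRing V] [IsDomain V] [ValuationRing V] [HenselianLocalRing V]
    (p : Ideal V) [p.IsPrime] (g : (Localization.AtPrime p)[X]) (hg : g.Monic)
    (h0 : g.coeff 0 ∈ maximalIdeal (Localization.AtPrime p)) (h1 : IsUnit (g.coeff 1)) :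
    ∃ a ∈ maximalIdeal (Localization.AtPrime p), g.eval a = 0 := by
  set W := Localization.AtPrime p with hW
  let φ := algebraMap V W
  -- degree
  have hn : g.natDegree ≠ 0 := by
    intro h
    have : g = 1 := by
      rw [Polynomial.eq_C_of_natDegree_eq_zero h]
      have := hg.coeff_natDegree
      rw [h] at this
      rw [this, map_one]
    rw [this] at h1
    simp [Polynomial.coeff_one] at h1
  obtain ⟨m, hm⟩ := Nat.exists_eq_succ_of_ne_zero hn
  obtain ⟨u, hu⟩ := h1
  set c₀ := g.coeff 0 with hc₀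
  have hc1u : g.coeff 1 * (↑u⁻¹ : W) = 1 := by rw [← hu]; exact Units.mul_inv u
  -- the coefficients d
  have hex : ∀ j : ℕ, ∃ v : V, v ∈ p ∧ φ v = g.coeff (j + 2) * c₀ ^ (j + 1) * (↑u⁻¹ : W) ^ (j + 2) := by
    intro j
    apply exists_of_mem_maximalIdeal_loc
    have : g.coeff (j + 2) * c₀ ^ (j + 1) * (↑u⁻¹ : W) ^ (j + 2) =
        c₀ * (g.coeff (j + 2) * c₀ ^ j * (↑u⁻¹ : W) ^ (j + 2)) := by ring
    rw [this]
    exact Ideal.mul_mem_right _ _ h0
  choose d hdp hd using hex
  have hpm : p ≤ maximalIdeal V := IsLocalRing.le_maximalIdeal (Ideal.IsPrime.ne_top ‹_›)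
  let P : V[X] := ∑ j ∈ Finset.range m, C (d j) * X ^ (m - 1 - j)
  let H : V[X] := X ^ m * (X + C 1) + P
  have hPdeg : P.degree < (X ^ m * (X + C 1) : V[X]).degree := by
    have hd1 : (X ^ m * (X + C 1) : V[X]).degree = (m + 1 : ℕ) := by
      rw [Polynomial.degree_mul, Polynomial.degree_X_pow, Polynomial.degree_X_add_C]
      norm_cast
    rw [hd1]
    refine lt_of_le_of_lt (Polynomial.degree_sum_le _ _) ?_
    rw [Finset.sup_lt_iff (by exact WithBot.bot_lt_coe _)]
    intro j hj
    refine lt_of_le_of_lt (Polynomial.degree_C_mul_X_pow_le _ _) ?_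
    have : m - 1 - j < m + 1 := by omega
    exact_mod_cast this
  have hHmonic : H.Monic :=
    Polynomial.Monic.add_of_left ((Polynomial.monic_X_pow m).mul (Polynomial.monic_X_add_C 1)) hPdeg
  have hPeval : ∀ x : V, P.eval x ∈ maximalIdeal V := by
    intro x
    simp only [P, Polynomial.eval_finsetSum, Polynomial.eval_mul, Polynomial.eval_C]
    exact Ideal.sum_mem _ fun j _ => Ideal.mul_mem_right _ _ (hpm (hdp j))
  have hP'eval : ∀ x : V, P.derivative.eval x ∈ maximalIdeal V := by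
    intro x
    simp only [P, Polynomial.derivative_sum, Polynomial.derivative_C_mul, Polynomial.eval_finsetSum,
      Polynomial.eval_mul, Polynomial.eval_C]
    exact Ideal.sum_mem _ fun j _ => Ideal.mul_mem_right _ _ (hpm (hdp j))
  have hH0 : H.eval (-1) ∈ maximalIdeal V := by
    have : H.eval (-1) = P.eval (-1) := by simp [H]
    rw [this]; exact hPeval _
  have hH1 : IsUnit (H.derivative.eval (-1)) := by
    have : H.derivative.eval (-1) = (-1) ^ m + P.derivative.eval (-1) := by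
      simp [H, Polynomial.derivative_mul]
    rw [this]
    exact isUnit_add_of_mem_maximalIdeal ((isUnit_one.neg).pow m) (hP'eval _)
  obtain ⟨z, hz, hz1⟩ := HenselianLocalRing.is_henselian H hHmonic (-1) hH0 hH1
  have hzu : IsUnit z := by
    have : z = -1 + (z - (-1)) := by ring
    rw [this]
    exact isUnit_add_of_mem_maximalIdeal isUnit_one.neg hz1
  obtain ⟨zu, rfl⟩ := hzu
  let y : V := ↑zu⁻¹
  have hyz : φ y * φ (zu : V) = 1 := by
    rw [← map_mul, Units.inv_mul, map_one]
  refine ⟨c₀ * (↑u⁻¹ : W) * φ y, Ideal.mul_mem_right _ _ (Ideal.mul_mem_right _ _ h0), ?_⟩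
  -- evaluation
  have hHz : φ (H.eval (zu : V)) = 0 := by rw [hz.eq_zero, map_zero]
  have hHz' : φ (H.eval (zu : V)) = φ zu ^ m * (φ zu + 1) +
      ∑ j ∈ Finset.range m, (g.coeff (j + 2) * c₀ ^ (j + 1) * (↑u⁻¹ : W) ^ (j + 2)) * φ zu ^ (m - 1 - j) := by
    simp only [H, P, Polynomial.eval_add, Polynomial.eval_mul, Polynomial.eval_pow, Polynomial.eval_X,
      Polynomial.eval_C, Polynomial.eval_finsetSum, Polynomial.eval_one, map_add, map_mul, map_pow, map_one, map_sum, hd]
  rw [Polynomial.eval_eq_sum_range, hm, Finset.sum_range_succ', Finset.sum_range_succ']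
  have hmain : ∑ j ∈ Finset.range m, g.coeff (j + 1 + 1) * (c₀ * (↑u⁻¹ : W) * φ y) ^ (j + 1 + 1) +
      g.coeff (0 + 1) * (c₀ * (↑u⁻¹ : W) * φ y) ^ (0 + 1) + g.coeff 0 * (c₀ * (↑u⁻¹ : W) * φ y) ^ 0 =
      c₀ * φ y ^ (m + 1) * φ (H.eval (zu : V)) := by
    rw [hHz', mul_add, Finset.mul_sum]
    have e1 : c₀ * φ y ^ (m + 1) * (φ zu ^ m * (φ zu + 1)) = c₀ * φ y + c₀ := by
      have : φ y ^ (m + 1) * (φ zu ^ m * (φ zu + 1)) = (φ y * φ zu) ^ m * (φ y * φ zu) + (φ y * φ zu) ^ m * φ y := by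
        ring
      rw [mul_assoc, this, hyz]; ring
    have e2 : ∀ j ∈ Finset.range m, g.coeff (j + 1 + 1) * (c₀ * (↑u⁻¹ : W) * φ y) ^ (j + 1 + 1) =
        c₀ * φ y ^ (m + 1) * (g.coeff (j + 2) * c₀ ^ (j + 1) * (↑u⁻¹ : W) ^ (j + 2) * φ zu ^ (m - 1 - j)) := by
      intro j hj
      have hj' : j < m := Finset.mem_range.1 hj
      have hsplit : m + 1 = (j + 2) + (m - 1 - j) := by omega
      have : φ y ^ (m + 1) * φ zu ^ (m - 1 - j) = φ y ^ (j + 2) := by
        rw [hsplit, pow_add, mul_assoc, ← mul_pow, hyz, one_pow, mul_one]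
      calc g.coeff (j + 1 + 1) * (c₀ * (↑u⁻¹ : W) * φ y) ^ (j + 1 + 1)
          = c₀ * (g.coeff (j + 2) * c₀ ^ (j + 1) * (↑u⁻¹ : W) ^ (j + 2)) * φ y ^ (j + 2) := by ring
        _ = c₀ * (g.coeff (j + 2) * c₀ ^ (j + 1) * (↑u⁻¹ : W) ^ (j + 2)) * (φ y ^ (m + 1) * φ zu ^ (m - 1 - j)) := by rw [this]
        _ = _ := by ring
    rw [Finset.sum_congr rfl e2, e1]
    have : g.coeff (0 + 1) * (c₀ * (↑u⁻¹ : W) * φ y) ^ (0 + 1) = c₀ * φ y := by
      rw [zero_add, pow_one]
      calc g.coeff 1 * (c₀ * (↑u⁻¹ : W) * φ y) = (g.coeff 1 * (↑u⁻¹ : W)) * (c₀ * φ y) := by ring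
        _ = _ := by rw [hc1u, one_mul]
    rw [this, pow_zero, mul_one]
    ring
  rw [hmain, hHz, mul_zero]

/-- Let V be a Henselian valuation ring and p a prime ideal of V. Then the local rings V_p (localisation
at p) and V/p are Henselian. (Both are again valuation rings, which is elementary and not restated.) -/
theorem result (V : Type u) [CommRing V]
    [IsDomain V] [ValuationRing V] [HenselianLocalRing V] (p : Ideal V) [p.IsPrime] :
    HenselianLocalRing (Localization.AtPrime p) ∧ HenselianLocalRing (V ⧸ p) := by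
  refine ⟨?_, quotient_henselian V p (Ideal.IsPrime.ne_top ‹_›)⟩
  refine { toIsLocalRing := inferInstance, is_henselian := ?_ }
  intro f hf a₀ h₁ h₂
  have hgm : (Polynomial.taylor a₀ f).Monic := by
    rw [Polynomial.Monic, Polynomial.leadingCoeff_taylor]; exact hf
  obtain ⟨a, ha, hroot⟩ := exists_root_loc V p (Polynomial.taylor a₀ f) hgm
    (by rw [Polynomial.taylor_coeff_zero]; exact h₁) (by rw [Polynomial.taylor_coeff_one]; exact h₂)
  refine ⟨a + a₀, ?_, ?_⟩
  · rw [Polynomial.IsRoot.def, ← Polynomial.taylor_eval]; exact hroot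
  · simpa using ha

end Groth.Agent.S16174
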