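import Groth.Statements.S16179
import Mathlib
import Groth.Agent.Helper1.RegGlobalDim
import Groth.Agent.Helper9.VP7
-- import your own Groth.Agent.* helpers here

set_option autoImplicit false
universe u
open CategoryTheory
open CAlg

namespace Groth.Agent.S16179

/-- Let V be a valuation ring, B a flat V-algebra of finite presentation, q a prime ideal of B lying
over the prime p of V, A = B_q the local ring of Spec B at q, and suppose that the local ring A/pA
of the fibre over p at q is a regular local ring of dimension n. Then every finitely presented
A-module M has projective dimension at most n + 1 over A. -/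
theorem result (V : Type u) [CommRing V] [IsDomain V] [ValuationRing V]
    (B : Type u) [CommRing B] [Algebra V B] [Module.Flat V B] [Algebra.FinitePresentation V B]
    (q : Ideal B) [q.IsPrime] (n : ℕ)
    (hreg : IsRegularLocalRing (Localization.AtPrime q ⧸ Ideal.map (algebraMap V (Localization.AtPrime q)) (Ideal.comap (algebraMap V B) q)))
    (hn : ringKrullDim (Localization.AtPrime q ⧸ Ideal.map (algebraMap V (Localization.AtPrime q)) (Ideal.comap (algebraMap V B) q)) = n)
    (M : Type u) [AddCommGroup M] [Module (Localization.AtPrime q) M] [Module.FinitePresentation (Localization.AtPrime q) M] :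
    HasProjectiveDimensionLE (ModuleCat.of (Localization.AtPrime q) M) (n + 1) := by
  classical
  have := hreg
  have hE1 : Algebra.EssFiniteType B (Localization.AtPrime q) :=
    Algebra.EssFiniteType.of_isLocalization (Localization.AtPrime q) q.primeCompl
  have hE : Algebra.EssFiniteType V (Localization.AtPrime q) :=
    Algebra.EssFiniteType.comp V B (Localization.AtPrime q)
  have hI : Ideal.map (algebraMap V (Localization.AtPrime q)) (Ideal.comap (algebraMap V B) q) ≤
      IsLocalRing.maximalIdeal (Localization.AtPrime q) := by
    rw [Ideal.map_le_iff_le_comap]
    intro c hc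
    rw [Ideal.mem_comap, IsScalarTower.algebraMap_apply V B (Localization.AtPrime q),
      IsLocalization.AtPrime.to_map_mem_maximal_iff (Localization.AtPrime q) q]
    exact hc
  have hF1 : Module.Flat B (Localization.AtPrime q) :=
    IsLocalization.flat (Localization.AtPrime q) q.primeCompl
  have hF : Module.Flat V (Localization.AtPrime q) :=
    Module.Flat.trans V B (Localization.AtPrime q)
  have hA : ∀ c : V, c ≠ 0 → ∀ a : Localization.AtPrime q, c • a = 0 → a = 0 := by
    intro c hc a ha
    have hreg : IsSMulRegular (Localization.AtPrime q) c :=
      Module.Flat.isSMulRegular_of_nonZeroDivisors (mem_nonZeroDivisors_of_ne_zero hc)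
    exact hreg (show c • a = c • 0 by rw [ha, smul_zero])
  have hgl : ∀ X : ModuleCat.{u} (Localization.AtPrime q ⧸
      Ideal.map (algebraMap V (Localization.AtPrime q)) (Ideal.comap (algebraMap V B) q)),
      HasProjectiveDimensionLT X (n + 1) := fun X =>
    Groth.Agent.Helper1.TorLib.hasProjectiveDimensionLT_of_isRegularLocalRing n hn X
  exact Groth.Agent.Helper9.VP7.pd_succ (Ideal.comap (algebraMap V B) q) hI hA n hgl M

end Groth.Agent.S16179
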