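import Groth.Statements.S16188
import Mathlib.AlgebraicGeometry.Morphisms.ClosedImmersion

set_option autoImplicit false
universe u
open CategoryTheory AlgebraicGeometry TopologicalSpace
open SchMor

namespace Groth.Agent.S16188

/-- Let f : X → Y be a morphism of schemes with X reduced and irreducible. Then f factors through an
irreducible component of Y carrying its reduced closed-subscheme structure: there are an irreducible
component Z of Y and a morphism g from X to the closed subscheme of Y cut out by the vanishing ideal
sheaf of Z with g followed by the inclusion equal to f; that closed subscheme is integral. -/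
theorem result
    {X Y : Scheme.{u}} (f : X ⟶ Y) [IsReduced X] [IrreducibleSpace X] :
    ∃ (Z : Closeds Y) (_ : (Z : Set Y) ∈ irreducibleComponents Y)
      (_ : IsIntegral (Scheme.IdealSheafData.vanishingIdeal Z).subscheme)
      (g : X ⟶ (Scheme.IdealSheafData.vanishingIdeal Z).subscheme),
      g ≫ (Scheme.IdealSheafData.vanishingIdeal Z).subschemeι = f := by
  have hirr : IsIrreducible (Set.range f) := by
    rw [← Set.image_univ]
    exact (IrreducibleSpace.isIrreducible_univ X).image _ f.continuous.continuousOn
  obtain ⟨Z₀, hZ₀, hsub⟩ := exists_mem_irreducibleComponents_subset_of_isIrreducible _ hirr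
  have hcl : IsClosed Z₀ := isClosed_of_mem_irreducibleComponents _ hZ₀
  let Z : Closeds Y := ⟨Z₀, hcl⟩
  let I := Scheme.IdealSheafData.vanishingIdeal Z
  have hred : IsReduced I.subscheme := by
    have : ∀ U, IsReduced (I.subschemeCover.openCover.X U) := by
      intro U
      change IsReduced (Spec (.of (Γ(Y, U.1) ⧸ I.ideal U)))
      rw [affine_isReduced_iff]
      change _root_.IsReduced (Γ(Y, U.1) ⧸ I.ideal U)
      rw [← Ideal.isRadical_iff_quotient_reduced]
      change (PrimeSpectrum.vanishingIdeal _).IsRadical
      exact PrimeSpectrum.isRadical_vanishingIdeal _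
    exact IsReduced.of_openCover _ I.subschemeCover.openCover
  have hirrZ : IrreducibleSpace I.subscheme := Subtype.irreducibleSpace hZ₀.1
  have hint : IsIntegral I.subscheme := isIntegral_of_irreducibleSpace_of_isReduced _
  have hle : I.subschemeι.ker ≤ f.ker := by
    rw [Scheme.IdealSheafData.ker_subschemeι]
    refine Scheme.IdealSheafData.le_ofIdeals_iff.mpr fun U s hs => ?_
    rw [RingHom.mem_ker]
    rw [← basicOpen_eq_bot_iff, ← Scheme.preimage_basicOpen]
    ext x
    simp only [TopologicalSpace.Opens.coe_bot, Set.mem_empty_iff_false, iff_false]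
    intro hx
    have hxs : f x ∈ Y.basicOpen s := hx
    have hxU : f x ∈ U.1 := Y.basicOpen_le s hxs
    have hxZ : f x ∈ Z₀ := hsub ⟨x, rfl⟩
    -- s vanishes at f x
    have hs' : s ∈ PrimeSpectrum.vanishingIdeal (U.2.fromSpec ⁻¹' Z₀) := hs
    rw [PrimeSpectrum.mem_vanishingIdeal] at hs'
    obtain ⟨y, hy⟩ : ∃ y, U.2.fromSpec y = f x := by
      have : f x ∈ Set.range U.2.fromSpec := by rw [IsAffineOpen.range_fromSpec]; exact hxU
      exact this
    have h1 := hs' y (by change U.2.fromSpec y ∈ Z₀; rw [hy]; exact hxZ)
    have h2 : y ∈ PrimeSpectrum.basicOpen s := by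
      have : U.2.fromSpec y ∈ Y.basicOpen s := by rw [hy]; exact hxs
      have h3 := U.2.fromSpec_preimage_basicOpen s
      have : y ∈ U.2.fromSpec ⁻¹ᵁ Y.basicOpen s := this
      rw [h3] at this
      exact this
    exact h2 h1
  exact ⟨Z, hZ₀, hint, AlgebraicGeometry.IsClosedImmersion.lift I.subschemeι f hle, AlgebraicGeometry.IsClosedImmersion.lift_fac _ _ _⟩

end Groth.Agent.S16188
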