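import Groth.Statements.S16194
import Mathlib.Tactic.NoncommRing
import Mathlib.RingTheory.Jacobson.Ideal

set_option autoImplicit false
universe u
open DivAlg

namespace Groth.Agent.S16194

/-- In an associative unital ring R, not necessarily commutative, every element r of the Jacobson
radical (the set of elements lying in every maximal left ideal) is quasiregular, i.e. 1 - r is a
two-sided unit. -/
theorem result {R : Type u} [Ring R] (r : R)
    (hr : r ∈ Ring.jacobson R) : IsUnit (1 - r) := by
  have key : ∀ s ∈ Ring.jacobson R, ∃ u : R, u * (1 - s) = 1 := by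
    intro s hs
    by_contra hcon
    push Not at hcon
    have hne : Ideal.span {1 - s} ≠ ⊤ := by
      intro h
      rw [Ideal.eq_top_iff_one, Ideal.mem_span_singleton'] at h
      obtain ⟨a, ha⟩ := h
      exact hcon a ha
    obtain ⟨m, hm, hle⟩ := Ideal.exists_le_maximal _ hne
    have h1 : 1 - s ∈ m := hle (Ideal.subset_span rfl)
    have h2 : s ∈ m := by
      rw [Ring.jacobson_eq_sInf_isMaximal] at hs
      exact (Submodule.mem_sInf.mp hs) m hm
    have : (1 : R) ∈ m := by
      have := m.add_mem h1 h2
      simpa using this
    exact hm.ne_top ((Ideal.eq_top_iff_one _).mpr this)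
  obtain ⟨u, hu⟩ := key r hr
  have hu' : 1 - u = -(u * r) := by
    have : u - u * r = 1 := by rw [← hu]; noncomm_ring
    rw [← this]; noncomm_ring
  have hmem : 1 - u ∈ Ring.jacobson R := by
    rw [hu']
    exact neg_mem ((Ring.jacobson R).smul_mem u hr)
  obtain ⟨v, hv⟩ := key (1 - u) hmem
  have hv' : v * u = 1 := by simpa using hv
  have : v = 1 - r := by
    calc v = v * (u * (1 - r)) := by rw [hu, mul_one]
      _ = (v * u) * (1 - r) := by rw [mul_assoc]
      _ = 1 - r := by rw [hv', one_mul]
  rw [← this]
  exact ⟨⟨v, u, hv', by rw [this]; exact hu⟩ , rfl⟩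

end Groth.Agent.S16194
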