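import Groth.Statements.S16196
import Mathlib.Algebra.Module.BigOperators

set_option autoImplicit false
universe u v
open DivAlg

namespace Groth.Agent.S16196

/-- Let R be a ring (associative, unital, not necessarily commutative) and M a left R-module which is a
generator, in the form: for some n there is an R-linear surjection from M^n onto R. Then the natural
ring homomorphism from R to the double endomorphism ring BiEnd_R(M) = End_{End_R(M)}(M)
(endomorphisms of M commuting with every R-linear endomorphism), r ↦ multiplication by r, is
bijective. (The printed form takes R an algebra over a commutative ring k, embeds R in E = End_k(M)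
and asserts R = C_E(C_E(R)); the double centralizer there is BiEnd_R(M).) -/
theorem result {R : Type u} [Ring R] (M : Type v)
    [AddCommGroup M] [Module R M]
    (hgen : ∃ (n : ℕ) (f : (Fin n → M) →ₗ[R] R), Function.Surjective f) :
    Function.Bijective (Module.toModuleEnd (Module.End R M) (S := R) M) := by
  classical
  obtain ⟨n, f, hf⟩ := hgen
  obtain ⟨v, hv⟩ := hf 1
  have hsum : ∑ i, f (Pi.single i (v i)) = 1 := by
    rw [← map_sum, Finset.univ_sum_single v, hv]
  let φ : Fin n → M → Module.End R M := fun i m =>
    (LinearMap.toSpanSingleton R M m).comp (f.comp (LinearMap.single R (fun _ => M) i))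
  have hφ : ∀ i m x, φ i m x = f (Pi.single i x) • m := by
    intro i m x; rfl
  constructor
  · rw [injective_iff_map_eq_zero]
    intro r hr
    have h0 : ∀ m : M, r • m = 0 := fun m => by
      have := LinearMap.congr_fun hr m
      simpa using this
    calc r = r * 1 := (mul_one r).symm
      _ = r * ∑ i, f (Pi.single i (v i)) := by rw [hsum]
      _ = ∑ i, f (Pi.single i (r • v i)) := by
        rw [Finset.mul_sum]
        refine Finset.sum_congr rfl fun i _ => ?_
        rw [← smul_eq_mul, ← map_smul, ← Pi.single_smul]
      _ = 0 := by simp [h0]
  · intro T
    refine ⟨∑ i, f (Pi.single i (T (v i))), ?_⟩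
    ext m
    have key : ∀ i, f (Pi.single i (T (v i))) • m = T (f (Pi.single i (v i)) • m) := by
      intro i
      have := T.map_smul (φ i m) (v i)
      simp only [Module.End.smul_def, hφ] at this
      exact this.symm
    show (∑ i, f (Pi.single i (T (v i)))) • m = T m
    rw [Finset.sum_smul, Finset.sum_congr rfl (fun i _ => key i), ← map_sum, ← Finset.sum_smul, hsum, one_smul]

end Groth.Agent.S16196
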