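import Groth.Statements.S16197
-- import your own Groth.Agent.* helpers here

set_option autoImplicit false
universe u v w
open DivAlg

namespace Groth.Agent.S16197

/-- Let R be a ring (associative, unital, not necessarily commutative) and M a left R-module which is a
generator, used here only through the existence of an R-linear surjection from a direct sum of
copies of M, indexed by an arbitrary type, onto R. Then some finite power M^n decomposes as R × Q
for a submodule Q of M^n. (The published statement is an equivalence; this row states only the
implication from the existence of such a surjection to the splitting.) -/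
theorem result {R : Type u} [Ring R] (M : Type v)
    [AddCommGroup M] [Module R M]
    (hgen : ∃ (ι : Type w) (f : (ι →₀ M) →ₗ[R] R), Function.Surjective f) :
    ∃ (n : ℕ) (Q : Submodule R (Fin n → M)), Nonempty ((Fin n → M) ≃ₗ[R] (R × Q)) := by
  classical
  obtain ⟨ι, f, hf⟩ := hgen
  obtain ⟨x, hx⟩ := hf 1
  let s := x.support
  let n := s.card
  let e : Fin n ≃ s := s.equivFin.symm
  let v₀ : Fin n → M := fun j => x (e j)
  let g : (Fin n → M) →ₗ[R] R :=
    ∑ j, (f.comp (Finsupp.lsingle (e j : ι))).comp (LinearMap.proj j)
  have hg : ∀ v, g v = ∑ j, f (Finsupp.single (e j : ι) (v j)) := by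
    intro v
    simp [g, LinearMap.sum_apply]
  have hg1 : g v₀ = 1 := by
    rw [hg, ← map_sum, ← hx]
    congr 1
    have h1 : ∑ j, Finsupp.single (e j : ι) (v₀ j) = ∑ i : s, Finsupp.single (i : ι) (x i) :=
      Equiv.sum_comp e (fun i : s => Finsupp.single (i : ι) (x i))
    rw [h1, Finset.sum_coe_sort s (fun i => Finsupp.single i (x i))]
    exact Finsupp.sum_single x
  let σ : R →ₗ[R] (Fin n → M) := LinearMap.toSpanSingleton R _ v₀
  have hgσ : ∀ r, g (σ r) = r := by
    intro r
    simp [σ, hg1]
  refine ⟨n, LinearMap.ker g, ⟨LinearEquiv.ofLinearMap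
    (LinearMap.prod g ((LinearMap.id - σ.comp g).codRestrict (LinearMap.ker g) (by
      intro v
      simp [hgσ])))
    (LinearMap.coprod σ (LinearMap.ker g).subtype) ?_ ?_⟩⟩
  · ext r
    · simp [hgσ]
    · simp [hgσ]
    · have := r.2
      simp only [LinearMap.mem_ker] at this
      simp [this]
    · have := r.2
      simp only [LinearMap.mem_ker] at this
      simp [this]
  · ext v
    simp

end Groth.Agent.S16197
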