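import Groth.Statements.S16206
import Mathlib
import Groth.Agent.Helper9.ConicTree
-- import your own Groth.Agent.* helpers here

set_option autoImplicit false
open RatCurv

namespace Groth.Agent.S16206

/-- Let G₁ and G₂ be dual graphs of linear trees of the same total degree e and with k marked points
each, that is finite trees with e vertices, every vertex of degree one, together with a list of k
marked vertices (repetitions allowed). Then a finite chain of conic deformations leads from G₁ to
G₂. Here a conic deformation of such a graph is the marked graph obtained by contracting one edge
(the contracted vertex being the unique vertex of degree two), two marked trees are one step apart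
when they have isomorphic conic deformations, the isomorphism matching the contracted vertices and
the i-th marked vertices, and the conclusion is that G₁ and G₂ are related by the
reflexive-transitive closure of this one-step relation. -/
theorem result (k : ℕ) (T₁ T₂ : W4c3cyccovratcurv.MarkedTree k)
    (h : T₁.n = T₂.n) :
    Relation.ReflTransGen W4c3cyccovratcurv.ConicAdj T₁ T₂ := by
  obtain ⟨n₁, G₁, h₁, m₁⟩ := T₁
  obtain ⟨n₂, G₂, h₂, m₂⟩ := T₂
  have h' : n₁ = n₂ := h
  subst h'
  exact Groth.Agent.Helper9.ConicTree.main_fixed G₁ G₂ h₁ h₂ m₁ m₂

end Groth.Agent.S16206
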