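import Groth.Statements.S16238
import Groth.Agent.Helper1.TorReg
open Groth.Agent.Helper1.TorLib CategoryTheory.Limits TensorProduct

set_option autoImplicit false
universe u
open CategoryTheory
open CAlg

namespace Groth.Agent.S16238

/-- Let A be a Noetherian local ring, x_1, …, x_n a regular sequence on A (each x_i a non-zero-divisor
on A/(x_1, …, x_{i-1})) generating the ideal I, and J an ideal with I + J ≠ A. Then the images of
x_1, …, x_n form a regular sequence on A/J if and only if Tor_i^A(A/I, A/J) = 0 for all i ≥ 1 (in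
degree 0 the Tor is A/(I + J) in any case). (The published statement does not ask the x_i to form a
regular sequence on A itself; without this the equivalence fails, for instance for A = k[e]/(e²), n
= 1, x_1 = e and J = 0, where every higher Tor of A/(e) against the free module A vanishes although
e is a zero-divisor.) -/
theorem result (A : Type u) [CommRing A] [IsNoetherianRing A] [IsLocalRing A]
    (n : ℕ) (x : Fin n → A) (hx : RingTheory.Sequence.IsWeaklyRegular A (List.ofFn x))
    (J : Ideal A) (hIJ : Ideal.span (Set.range x) ⊔ J ≠ ⊤) :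
    RingTheory.Sequence.IsWeaklyRegular (A ⧸ J) (List.ofFn (fun i : Fin n => Ideal.Quotient.mk J (x i))) ↔
      ∀ i : ℕ, 1 ≤ i → Limits.IsZero (((Tor (ModuleCat.{u} A) i).obj
        (ModuleCat.of A (A ⧸ Ideal.span (Set.range x)))).obj (ModuleCat.of A (A ⧸ J))) := by
  set rs := List.ofFn x with hrs
  have hne : Ideal.span (Set.range x) ≠ ⊤ := fun h => hIJ (by rw [h, top_sup_eq])
  have hm : ∀ r ∈ rs, r ∈ IsLocalRing.maximalIdeal A := by
    intro r hr
    rw [hrs, List.mem_ofFn] at hr
    exact IsLocalRing.le_maximalIdeal hne (Ideal.subset_span (Set.mem_range.mpr hr))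
  have h0 : ∀ i, 1 ≤ i → IsZero (((Tor (ModuleCat.{u} A) i).obj (ModuleCat.of A A)).obj
      (ModuleCat.of A (A ⧸ J))) := by
    intro i hi
    obtain ⟨k, rfl⟩ : ∃ k, i = k + 1 := ⟨i - 1, by omega⟩
    exact isZero_tor_of_flat_left _ _ k
  have key := isWeaklyRegular_tensor_iff (A ⧸ J) rs A hm hx h0
  have e1 : RingTheory.Sequence.IsWeaklyRegular (A ⧸ J)
      (List.ofFn (fun i : Fin n => Ideal.Quotient.mk J (x i))) ↔
      RingTheory.Sequence.IsWeaklyRegular (A ⊗[A] (A ⧸ J)) rs := by
    rw [(TensorProduct.lid A (A ⧸ J)).isWeaklyRegular_congr rs,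
      ← RingTheory.Sequence.isWeaklyRegular_map_algebraMap_iff (A ⧸ J) (A ⧸ J) rs, hrs,
      List.map_ofFn]
    rfl
  have heq : (Ideal.ofList rs • ⊤ : Submodule A A) = Ideal.span (Set.range x) := by
    rw [smul_eq_mul, Ideal.mul_top]
    show Ideal.span {r | r ∈ rs} = Ideal.span (Set.range x)
    congr 1
    ext r
    exact List.mem_ofFn
  have e2 : (A ⧸ (Ideal.ofList rs • ⊤ : Submodule A A)) ≃ₗ[A] A ⧸ Ideal.span (Set.range x) :=
    Submodule.quotEquivOfEq _ _ heq
  rw [e1, key]
  constructor
  · intro h i hi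
    exact isZero_tor_of_iso e2.toModuleIso _ i (h i hi)
  · intro h i hi
    exact isZero_tor_of_iso e2.symm.toModuleIso _ i (h i hi)

end Groth.Agent.S16238
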