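import Groth.Statements.S16247
import Mathlib
import Groth.Agent.Helper3.SubgrpLocus
import Groth.Agent.Helper3.RelDivFin

set_option autoImplicit false
universe u
open scoped TensorProduct
open CategoryTheory CategoryTheory.Limits AlgebraicGeometry MonObj
open AgPol

namespace Groth.Agent.S16247

/-- Let E be an S-group scheme which is smooth and proper over S with geometrically connected fibres of
dimension one (a family of elliptic curves over S with its group law), and let D ⊆ E be an effective
Cartier divisor with ideal sheaf 𝓓 such that D is flat over S (a relative effective Cartier divisor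
on E/S). Then there is a closed subscheme Z ⊆ S such that a morphism g : T → S factors through Z
exactly when the pulled-back closed subscheme D_T ⊆ E_T is a subgroup scheme of E_T over T, that is,
when for every scheme T' over T the T'-valued points of E (over S) that factor through D form a
subgroup of the group of all T'-valued points. This universal property determines Z, and
compatibility of Z with base change follows from it. -/
theorem result
    {S : Scheme.{u}} (E : Over S) [GrpObj E] (hE : AgPol.IsAbSch E 1)
    (𝓓 : E.left.IdealSheafData) (hD : BlowUp.IsEffCartierIdeal 𝓓) [Flat (𝓓.subschemeι ≫ E.hom)] :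
    ∃ 𝓩 : S.IdealSheafData, ∀ (T : Scheme.{u}) (g : T ⟶ S),
      (∃ t : T ⟶ 𝓩.subscheme, t ≫ 𝓩.subschemeι = g) ↔
        ∀ (T' : Scheme.{u}) (a : T' ⟶ T), ∃ H : Subgroup (Over.mk (a ≫ g) ⟶ E),
          (H : Set (Over.mk (a ≫ g) ⟶ E)) =
            {x | ∃ d : T' ⟶ 𝓓.subscheme, d ≫ 𝓓.subschemeι = x.left} := by
  haveI := hE.proper
  haveI := hE.smooth
  have hdim : ∀ s : S, topologicalKrullDim ↥(E.hom.fiber s) ≤ 1 := by
    intro s
    rw [hE.fibreDim s]
    simp
  haveI : IsFinite (𝓓.subschemeι ≫ E.hom) :=
    Groth.Agent.Helper3.RelDivFin.isFinite_of_relCurve E.hom hdim 𝓓 hD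
  haveI : LocallyOfFinitePresentation 𝓓.subschemeι :=
    Groth.Agent.Helper3.RelDivFin.lofp_subschemeι 𝓓 hD
  haveI : LocallyOfFinitePresentation (𝓓.subschemeι ≫ E.hom) := inferInstance
  exact Groth.Agent.Helper3.SubgrpLocus.main E 𝓓

end Groth.Agent.S16247
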