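import Groth.Statements.S16259
import Mathlib

set_option autoImplicit false
open W4c3wronskmg

namespace Groth.Agent.S16259

/-- coefficient recurrence -/
lemma cf_rec (k : Type*) [Field k] [CharZero k] (i j n m : ℕ) (hm : m < n) :
    (((i.choose (n - (m + 1))) * (j.choose (m + 1)) : ℕ) : k) * ((m : k) + 1) *
        ((m : k) + ((i : k) - n + 1)) =
      (((i.choose (n - m)) * (j.choose m) : ℕ) : k) * (((m : k) - n) * ((m : k) - j)) := by
  -- choose identities
  have h1 : (j.choose (m + 1) : k) * ((m : k) + 1) = (j.choose m : k) * ((j : k) - m) := by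
    by_cases hmj : m ≤ j
    · have := Nat.choose_succ_right_eq j m
      have h2 : ((j.choose (m + 1) * (m + 1) : ℕ) : k) = ((j.choose m * (j - m) : ℕ) : k) := by
        rw [this]
      push_cast [Nat.cast_sub hmj] at h2
      exact h2
    · have hlt : j < m := not_le.mp hmj
      rw [Nat.choose_eq_zero_of_lt (show j < m + 1 by omega), Nat.choose_eq_zero_of_lt hlt]
      simp
  have h3 : (i.choose (n - (m + 1)) : k) * ((m : k) + ((i : k) - n + 1)) =
      (i.choose (n - m) : k) * ((n : k) - m) := by
    obtain ⟨t, ht⟩ : ∃ t, n - (m + 1) = t := ⟨_, rfl⟩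
    have hnm : n - m = t + 1 := by omega
    have hn : (n : k) = (m : k) + t + 1 := by
      have : n = m + t + 1 := by omega
      rw [this]; push_cast; ring
    rw [ht, hnm]
    by_cases hti : t ≤ i
    · have := Nat.choose_succ_right_eq i t
      have h2 : ((i.choose (t + 1) * (t + 1) : ℕ) : k) = ((i.choose t * (i - t) : ℕ) : k) := by
        rw [this]
      push_cast [Nat.cast_sub hti] at h2
      rw [hn]
      linear_combination -h2
    · have hlt : i < t := not_le.mp hti
      rw [Nat.choose_eq_zero_of_lt (show i < t + 1 by omega), Nat.choose_eq_zero_of_lt hlt]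
      simp
  push_cast
  linear_combination (j.choose (m + 1) : k) * ((m : k) + 1) * h3 +
    (i.choose (n - m) : k) * ((n : k) - m) * h1

open Polynomial in

open Polynomial in
/-- Over a field of characteristic zero, for positive integers `i, j` and a natural number `n`, the
polynomial `h(W) = ∑_{l=0}^{n} (i choose l) (j choose (n-l)) W^(n-l)`, the coefficient of
`X^(i+j-n)` in `(X+1)^i (X+W)^j`, has no multiple root other than possibly `0` and `1`: every `c ≠
0, 1` has root multiplicity at most one. -/
theorem result
    (k : Type*) [Field k] [CharZero k] (i j n : ℕ) (hi : 0 < i) (hj : 0 < j) (c : k) (hc0 : c ≠ 0) (hc1 : c ≠ 1) :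
    Polynomial.rootMultiplicity c
      (∑ l ∈ Finset.range (n + 1),
        Polynomial.C (((i.choose l) * (j.choose (n - l)) : ℕ) : k) * Polynomial.X ^ (n - l)) ≤ 1 := by
  classical
  set h : k[X] := ∑ l ∈ Finset.range (n + 1),
        Polynomial.C (((i.choose l) * (j.choose (n - l)) : ℕ) : k) * Polynomial.X ^ (n - l) with hh
  -- reindex
  have hh' : h = ∑ m ∈ Finset.range (n + 1),
      Polynomial.C (((i.choose (n - m)) * (j.choose m) : ℕ) : k) * Polynomial.X ^ m := by
    rw [hh, ← Finset.sum_range_reflect]
    refine Finset.sum_congr rfl fun m hm => ?_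
    have hm' : m ≤ n := by
      have := Finset.mem_range.mp hm; omega
    have e1 : n + 1 - 1 - m = n - m := by omega
    have e2 : n - (n - m) = m := by omega
    rw [e1, e2]
  have hcoeff : ∀ m, h.coeff m = if m ≤ n then (((i.choose (n - m)) * (j.choose m) : ℕ) : k) else 0 := by
    intro m
    rw [hh', Polynomial.finset_sum_coeff]
    simp only [Polynomial.coeff_C_mul_X_pow]
    rw [Finset.sum_ite_eq (Finset.range (n + 1)) m]
    simp only [Finset.mem_range, Nat.lt_succ_iff]
  -- the recurrence on coefficients
  have hrec : ∀ m, h.coeff (m + 1) * ((m : k) + 1) * ((m : k) + ((i : k) - n + 1)) =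
      h.coeff m * (((m : k) - n) * ((m : k) - j)) := by
    intro m
    rw [hcoeff, hcoeff]
    rcases lt_trichotomy m n with hlt | heq | hgt
    · rw [if_pos (by omega), if_pos (by omega)]
      exact cf_rec k i j n m hlt
    · subst heq
      rw [if_neg (by omega), if_pos le_rfl]
      simp
    · rw [if_neg (by omega), if_neg (by omega)]
      simp
  -- the differential equation
  have hODE : X * (1 - X) * derivative (derivative h) =
      C (-((i : k) - n + 1)) * derivative h + C (1 - (n : k) - j) * (X * derivative h) +
        C ((n : k) * j) * h := by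
    ext m
    have e0 := hrec m
    rcases m with _ | _ | m
    · simp only [mul_sub, mul_one, sub_mul, coeff_sub, coeff_add, coeff_C_mul, coeff_X_mul_zero,
        coeff_derivative, mul_assoc, coeff_X_mul_zero]
      simp only [Nat.cast_zero, zero_add] at e0 ⊢
      simp only [mul_zero, zero_mul, sub_zero] at e0 ⊢
      linear_combination e0
    · simp only [mul_sub, mul_one, sub_mul, coeff_sub, coeff_add, coeff_C_mul, coeff_X_mul,
        coeff_derivative, mul_assoc, coeff_X_mul_zero, zero_add]
      push_cast at e0 ⊢
      linear_combination e0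
    · simp only [mul_sub, mul_one, sub_mul, coeff_sub, coeff_add, coeff_C_mul, coeff_X_mul,
        coeff_derivative, mul_assoc]
      push_cast at e0 ⊢
      linear_combination e0
  -- the multiplicity argument
  by_contra hcon
  push Not at hcon
  set r := rootMultiplicity c h with hr
  have hne : h ≠ 0 := by
    intro h0
    rw [h0, rootMultiplicity_zero] at hr
    omega
  have hroot : h.IsRoot c := ((rootMultiplicity_pos hne).mp (by omega))
  have hr1 : rootMultiplicity c (derivative h) = r - 1 := derivative_rootMultiplicity_of_root hroot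
  have hne1 : derivative h ≠ 0 := by
    intro h0
    rw [h0, rootMultiplicity_zero] at hr1
    omega
  have hroot1 : (derivative h).IsRoot c := ((rootMultiplicity_pos hne1).mp (by omega))
  have hr2 : rootMultiplicity c (derivative (derivative h)) = r - 1 - 1 := by
    rw [derivative_rootMultiplicity_of_root hroot1, hr1]
  have hd0 : (X - C c) ^ (r - 1) ∣ h :=
    (pow_dvd_pow _ (by omega)).trans (pow_rootMultiplicity_dvd h c)
  have hd1 : (X - C c) ^ (r - 1) ∣ derivative h := by
    have := pow_rootMultiplicity_dvd (derivative h) c
    rwa [hr1] at this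
  have hdR : (X - C c) ^ (r - 1) ∣ X * (1 - X) * derivative (derivative h) := by
    rw [hODE]
    exact dvd_add (dvd_add (Dvd.dvd.mul_left hd1 _) (Dvd.dvd.mul_left (Dvd.dvd.mul_left hd1 _) _))
      (Dvd.dvd.mul_left hd0 _)
  by_cases h2 : derivative (derivative h) = 0
  · have := natDegree_eq_zero_of_derivative_eq_zero h2
    rw [eq_C_of_natDegree_eq_zero this] at hroot1 hne1
    rw [IsRoot, eval_C] at hroot1
    rw [hroot1, map_zero] at hne1
    exact hne1 rfl
  · have hX : (X : k[X]) * (1 - X) ≠ 0 := by
      apply mul_ne_zero X_ne_zero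
      intro h0
      have := congrArg (eval 0) h0
      simp at this
    have hprod : X * (1 - X) * derivative (derivative h) ≠ 0 := mul_ne_zero hX h2
    have hle := (le_rootMultiplicity_iff hprod).mpr hdR
    rw [rootMultiplicity_mul hprod, hr2] at hle
    have hz : rootMultiplicity c ((X : k[X]) * (1 - X)) = 0 := by
      apply rootMultiplicity_eq_zero
      rw [IsRoot]
      simp only [eval_mul, eval_X, eval_sub, eval_one]
      exact mul_ne_zero hc0 (sub_ne_zero.mpr (Ne.symm hc1))
    rw [hz] at hle
    omega

end Groth.Agent.S16259
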