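import Groth.Statements.S16268
import Mathlib
-- import your own Groth.Agent.* helpers here

set_option autoImplicit false
universe u w
open CategoryTheory CategoryTheory.Limits AlgebraicGeometry Opposite
open EtCore

namespace Groth.Agent.S16268

/-- Let X be a scheme, Y an etale X-scheme with Y -> X surjective, and G a finite group acting on Y by
X-automorphisms such that the morphisms (id, g) : Y -> Y x_X Y exhibit Y x_X Y as the coproduct of
copies of Y indexed by G (Y -> X is a Galois covering with group G). Let P be a presheaf of sets on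
the small etale site of X which takes this coproduct to a product: s |-> (g |-> (id, g)^* s) is a
bijection from P(Y x_X Y) onto the G-indexed families in P(Y). Then P satisfies the sheaf condition
for the covering consisting of the single morphism Y -> X if and only if the restriction P(X) ->
P(Y) is injective and its image is the set of G-invariant elements of P(Y). -/
theorem result (X : Scheme.{u})
    (Y : X.Etale) (hY : Function.Surjective Y.hom.base)
    {G : Type u} [Group G] [Finite G] (σ : G →* Aut Y)
    (hgal : Nonempty (IsColimit (Cofan.mk (Y ⨯ Y) (fun g : G => prod.lift (𝟙 Y) (σ g).hom))))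
    (P : X.Etaleᵒᵖ ⥤ Type w)
    (hP : Function.Bijective (fun s : P.obj (op (Y ⨯ Y)) => fun g : G => P.map (prod.lift (𝟙 Y) (σ g).hom).op s)) :
    Presieve.IsSheafFor P (Presieve.singleton ((EtCore.topIsTerminal X).from Y)) ↔
      (Function.Injective (P.map ((EtCore.topIsTerminal X).from Y).op) ∧
        Set.range (P.map ((EtCore.topIsTerminal X).from Y).op) = {s | ∀ g : G, P.map (σ g).hom.op s = s}) := by
  have hterm : ∀ {Z : X.Etale} (a b : Z ⟶ EtCoh.top X), a = b :=
    fun a b => (EtCore.topIsTerminal X).hom_ext a b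
  have hinvf : ∀ g : G, (σ g).hom ≫ (EtCore.topIsTerminal X).from Y = (EtCore.topIsTerminal X).from Y :=
    fun g => hterm _ _
  have hrange_inv : ∀ (x : P.obj (op (EtCoh.top X))) (g : G),
      P.map (σ g).hom.op (P.map ((EtCore.topIsTerminal X).from Y).op x) =
        P.map ((EtCore.topIsTerminal X).from Y).op x := by
    intro x g
    rw [← Functor.map_comp_apply, ← op_comp, hinvf]
  have hcompat : ∀ y : P.obj (op Y), (∀ g : G, P.map (σ g).hom.op y = y) →
      Presieve.Arrows.Compatible P (fun _ : PUnit.{1} => (EtCore.topIsTerminal X).from Y)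
        (fun _ => y) := by
    intro y hy _ _ Z g₁ g₂ _
    have key : P.map (prod.fst : Y ⨯ Y ⟶ Y).op y = P.map (prod.snd : Y ⨯ Y ⟶ Y).op y := by
      apply hP.1
      funext g
      change P.map (prod.lift (𝟙 Y) (σ g).hom).op (P.map (prod.fst : Y ⨯ Y ⟶ Y).op y) =
        P.map (prod.lift (𝟙 Y) (σ g).hom).op (P.map (prod.snd : Y ⨯ Y ⟶ Y).op y)
      rw [← Functor.map_comp_apply, ← Functor.map_comp_apply, ← op_comp, ← op_comp,
        prod.lift_fst, prod.lift_snd, op_id, Functor.map_id_apply]
      exact (hy g).symm
    have h1 : P.map g₁.op y = P.map (prod.lift g₁ g₂).op (P.map (prod.fst : Y ⨯ Y ⟶ Y).op y) := by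
      rw [← Functor.map_comp_apply, ← op_comp, prod.lift_fst]
    have h2 : P.map g₂.op y = P.map (prod.lift g₁ g₂).op (P.map (prod.snd : Y ⨯ Y ⟶ Y).op y) := by
      rw [← Functor.map_comp_apply, ← op_comp, prod.lift_snd]
    exact h1.trans ((congrArg _ key).trans h2.symm)
  have hinv_of_compat : ∀ y : P.obj (op Y),
      Presieve.Arrows.Compatible P (fun _ : PUnit.{1} => (EtCore.topIsTerminal X).from Y)
        (fun _ => y) → ∀ g : G, P.map (σ g).hom.op y = y := by
    intro y hy g
    have := hy PUnit.unit PUnit.unit Y (σ g).hom (𝟙 Y) (hterm _ _)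
    simpa using this
  rw [← Presieve.ofArrows_pUnit.{0}, Presieve.isSheafFor_arrows_iff]
  constructor
  · intro h
    refine ⟨fun x x' hxx' => ?_, Set.eq_of_subset_of_subset ?_ ?_⟩
    · obtain ⟨t, -, ht⟩ := h (fun _ => P.map ((EtCore.topIsTerminal X).from Y).op x)
        (hcompat _ (hrange_inv x))
      exact (ht x (fun _ => rfl)).trans (ht x' (fun _ => hxx'.symm)).symm
    · rintro _ ⟨x, rfl⟩
      exact hrange_inv x
    · intro y hy
      obtain ⟨t, ht, -⟩ := h (fun _ => y) (hcompat y hy)
      exact ⟨t, ht PUnit.unit⟩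
  · rintro ⟨hinj, hrange⟩ x hx
    have hxinv : ∀ g : G, P.map (σ g).hom.op (x PUnit.unit) = x PUnit.unit :=
      hinv_of_compat (x PUnit.unit) (fun i j => hx i j)
    have hmem : x PUnit.unit ∈ Set.range (P.map ((EtCore.topIsTerminal X).from Y).op) := by
      rw [hrange]; exact hxinv
    obtain ⟨t, ht⟩ := hmem
    exact ⟨t, fun _ => ht, fun t' ht' => hinj ((ht' PUnit.unit).trans ht.symm)⟩

end Groth.Agent.S16268
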