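import Groth.Statements.S16288
import Groth.Agent.Helper1.FlatCxDRank

set_option autoImplicit false
universe u
open CategoryTheory
open FlatCx

namespace Groth.Agent.S16288

/-- Let A be a Noetherian ring and P a chain complex of finitely generated flat A-modules, and for p and
a point x of Spec A let d_p(x) = dim_{k(x)} H_p(P ⊗_A k(x)). Fix p and a point z. If d_{p-1} and
d_{p+1} are constant on some neighbourhood of z, then d_p is constant on some neighbourhood of z.
(The published assertion concerns the function y ↦ dim H^p(X_y, F_y) for a coherent sheaf F flat
over a projective morphism of Noetherian schemes X → Y: if it is not constant near a point, then the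
functions for p - 1 and p + 1 are not both constant near that point. Stated here is the
corresponding property for any chain complex of finitely generated flat modules over a Noetherian
ring, from which the published form follows by applying it to a finite complex of such modules
computing the cohomology of the fibres.) -/
theorem result {A : Type u} [CommRing A] [IsNoetherianRing A]
    (P : ChainComplex (ModuleCat.{u} A) ℤ) (hP : ∀ i, Module.Finite A (P.X i) ∧ Module.Flat A (P.X i))
    (p : ℤ) (z : PrimeSpectrum A)
    (hlo : ∀ᶠ x in nhds z, CohIII.dRank P (p - 1) x = CohIII.dRank P (p - 1) z)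
    (hhi : ∀ᶠ x in nhds z, CohIII.dRank P (p + 1) x = CohIII.dRank P (p + 1) z) :
    ∀ᶠ x in nhds z, CohIII.dRank P p x = CohIII.dRank P p z := by
  classical
  have hfin : ∀ i, Module.Finite A (P.X i) := fun i => (hP i).1
  have hflat : ∀ i, Module.Flat A (P.X i) := fun i => (hP i).2
  have hfp : ∀ i, Module.FinitePresentation A (P.X i) := fun i =>
    Module.finitePresentation_of_finite A _
  have hfo : ∀ i, Module.Finite A (P.opcycles i) := fun i =>
    Module.Finite.of_surjective (P.pOpcycles i).hom
      ((ModuleCat.epi_iff_surjective _).mp inferInstance)
  have hform : ∀ i y, CohIII.dRank P i y + Groth.Agent.Helper1.FibreDim.fibreDim (P.X (i - 1)) y =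
      Groth.Agent.Helper1.FibreDim.fibreDim (P.opcycles i) y +
        Groth.Agent.Helper1.FibreDim.fibreDim (P.opcycles (i - 1)) y := fun i y =>
    Groth.Agent.Helper1.FlatCx.dRank_add P i (i - 1) (by simp) (by simp) y
  have hle := fun i => Groth.Agent.Helper1.FibreDim.fibreDim_eventually_le (P.opcycles i) z
  have heq := fun i => Groth.Agent.Helper1.FibreDim.fibreDim_eventually_eq (P.X i) z
  have e1 : p + 1 - 1 = p := by ring
  filter_upwards [hlo, hhi, hle (p + 1), hle p, hle (p - 1), hle (p - 1 - 1), heq p, heq (p - 1),
    heq (p - 1 - 1)] with y h1 h2 h3 h4 h5 h6 h7 h8 h9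
  have f1 := hform p y
  have f1' := hform p z
  have f2 := hform (p - 1) y
  have f2' := hform (p - 1) z
  have f3 := hform (p + 1) y
  have f3' := hform (p + 1) z
  rw [e1] at f3 f3'
  omega

end Groth.Agent.S16288
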