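import Groth.Statements.S1630
import Mathlib

set_option autoImplicit false
universe u
open CategoryTheory CategoryTheory.Limits AlgebraicGeometry
open Variety

namespace Groth.Agent.S1630

/-- A space covered by pairwise-meeting irreducible open subsets is irreducible. -/
theorem irreducibleSpace_of_cover {Y : Type*} [TopologicalSpace Y] {ι : Type*} [Nonempty ι]
    (V : ι → Set Y) (hVo : ∀ i, IsOpen (V i)) (hcov : ⋃ i, V i = Set.univ)
    (hirr : ∀ i, IsIrreducible (V i)) (hmeet : ∀ i j, (V i ∩ V j).Nonempty) :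
    IrreducibleSpace Y := by
  rw [irreducibleSpace_def]
  obtain ⟨i0⟩ := ‹Nonempty ι›
  refine ⟨?_, ?_⟩
  · obtain ⟨y, -⟩ := (hirr i0).1
    exact ⟨y, trivial⟩
  · intro A B hA hB hAne hBne
    obtain ⟨a, -, ha⟩ := hAne
    obtain ⟨b, -, hb⟩ := hBne
    obtain ⟨i, hi⟩ : ∃ i, a ∈ V i := by
      have : a ∈ ⋃ i, V i := by rw [hcov]; trivial
      exact Set.mem_iUnion.mp this
    obtain ⟨j, hj⟩ : ∃ j, b ∈ V j := by
      have : b ∈ ⋃ i, V i := by rw [hcov]; trivial
      exact Set.mem_iUnion.mp this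
    -- A ∩ V i ∩ V j nonempty
    obtain ⟨c, hci, hcA, hcj⟩ := (hirr i).2 A (V j) hA (hVo j) ⟨a, hi, ha⟩ (hmeet i j)
    obtain ⟨d, hdj, hdA, hdB⟩ := (hirr j).2 A B hA hB ⟨c, hcj, hcA⟩ ⟨b, hj, hb⟩
    exact ⟨d, trivial, hdA, hdB⟩

/-- Let X be a scheme over k. If X has a cover by a nonempty family of open subschemes, each
geometrically irreducible over k and any two of which meet, then X is geometrically irreducible over
k. -/
theorem result (k : Type u) [Field k] (X : Scheme.{u}) [X.Over (Spec (CommRingCat.of k))]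
    (ι : Type u) (U : ι → X.Opens) (hne : Nonempty ι) (hcov : (⨆ i, U i) = ⊤)
    (hmeet : ∀ i j, ((U i : Set X) ∩ (U j : Set X)).Nonempty)
    (hU : ∀ i, GeometricallyIrreducible ((U i).ι ≫ (X ↘ (Spec (CommRingCat.of k))))) : GeometricallyIrreducible (X ↘ (Spec (CommRingCat.of k))) := by
  rw [GeometricallyIrreducible.eq_geometrically, geometrically_iff_of_commRing]
  intro K _ _ Y fst snd hpb
  have hsurjK : Surjective (Spec.map (CommRingCat.ofHom (algebraMap k K))) := by
    constructor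
    intro y
    obtain ⟨x⟩ : Nonempty (Spec (CommRingCat.of K)) := inferInstance
    refine ⟨x, ?_⟩
    have : Subsingleton (Spec (CommRingCat.of k)) :=
      inferInstanceAs (Subsingleton (PrimeSpectrum k))
    exact Subsingleton.elim _ _
  have hsurj : Surjective fst := MorphismProperty.of_isPullback hpb.flip hsurjK
  refine irreducibleSpace_of_cover (fun i => ((fst ⁻¹ᵁ U i : Y.Opens) : Set Y))
    (fun i => (fst ⁻¹ᵁ U i).2) ?_ ?_ ?_
  · rw [Set.eq_univ_iff_forall]
    intro y
    have : fst y ∈ (⨆ i, U i : X.Opens) := by rw [hcov]; trivial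
    obtain ⟨i, hi⟩ := TopologicalSpace.Opens.mem_iSup.mp this
    exact Set.mem_iUnion.mpr ⟨i, hi⟩
  · intro i
    have sq := (isPullback_morphismRestrict fst (U i)).paste_vert hpb
    have hgi := hU i
    rw [GeometricallyIrreducible.eq_geometrically] at hgi
    have : IrreducibleSpace ↥((fst ⁻¹ᵁ U i : Y.Opens) : Scheme.{u}) :=
      hgi _ _ _ sq
    exact @IsIrreducible.of_subtype _ _ ((fst ⁻¹ᵁ U i : Y.Opens) : Set Y) this
  · intro i j
    obtain ⟨x, hxi, hxj⟩ := hmeet i j
    obtain ⟨y, rfl⟩ := hsurj.surj x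
    exact ⟨y, hxi, hxj⟩

end Groth.Agent.S1630
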