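import Groth.Statements.S16308
import Groth.Agent.Helper4.SN182
import Groth.Agent.Helper4.NApx82
import Groth.Agent.Helper4.SN5
import Mathlib

set_option autoImplicit false
universe u
open CategoryTheory CategoryTheory.Limits AlgebraicGeometry
open Curves

namespace Groth.Agent.S16308


/-- Let k be a field and X a proper scheme over k of dimension one (a one-dimensional projective scheme)
with H^0(X, O_X) = k. Let A be a globally generated ample invertible O_X-module and m ≥ 0 an integer
with H^1(X, A^{⊗ m}) = 0. Then for every n ≥ m + 1 the global sections of A^{⊗ n} ⊗ A = A^{⊗ (n+1)}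
are spanned over H^0(X, O_X) = k by the sections a ⊗ b with a a global section of A^{⊗ n} and b a
global section of A; consequently the section ring ⊕_{n ≥ 0} H^0(X, A^{⊗ n}) is generated as a
k-algebra by its homogeneous pieces of degrees 1, …, m + 1. -/
theorem result (k : Type u) [Field k] (X : Scheme.{u}) [X.Over (Spec (CommRingCat.of k))]
    [IsProper (X ↘ (Spec (CommRingCat.of k)))] (hdim : topologicalKrullDim X = 1)
    (h0 : Module.finrank k (Coh.HH X (Coh.structureModule X) 0) = 1)
    (A : X.Modules) (hA : CohB1.IsAmple A) (hgg : Curv2.IsGloballyGenerated A)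
    (m : ℕ) (hm : Subsingleton (Coh.HH X (CohB1.tensorPow A m) 1))
    (n : ℕ) (hn : m + 1 ≤ n) :
    Submodule.span (X.ringCatSheaf.obj.obj (Opposite.op ⊤))
        (Set.range (fun p : (CohB1.tensorPow A n).val.obj (Opposite.op ⊤) × A.val.obj (Opposite.op ⊤) =>
          SecTwist.tmul (CohB1.tensorPow A n) A ⊤ p.1 p.2)) = ⊤ := by

  haveI := Groth.Agent.Helper4.NApx82.isNoetherian_of_proper k X
  obtain ⟨r, s, hcov⟩ := Groth.Agent.Helper4.SN.exists_fin_cover A hA.1 hgg
  have hd : topologicalKrullDim X ≤ ((1 : ℕ) : WithBot ℕ∞) := by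
    rw [hdim]; exact le_rfl
  have hvan : ∀ G : X.Modules, Coh.IsCoh G → Subsingleton (Coh.HH X G 2) := fun G _ =>
    Groth.Agent.Helper4.SN.subsingleton_HH_of_dim 1 hd G 2 (by norm_num)
  obtain ⟨n', rfl⟩ : ∃ n', n = n' + 1 := ⟨n - 1, by omega⟩
  have hN1 := Groth.Agent.Helper4.SN.subsingleton_H1_tensorPow k s hA.1 hcov hvan m hm n' (by omega)
  rw [eq_top_iff]
  intro z _
  obtain ⟨y, hy⟩ := Groth.Agent.Helper4.SN.exists_sum_tmul k s hA.1 hcov (CohB1.tensorPow A n')
    (Groth.Agent.Helper1.SerreFin.isCoh_of_isInvertible _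
      (Groth.Agent.Helper4.TensorInv.isInvertible_tensorPow hA.1 n')) hN1 hvan z
  rw [hy]
  exact Submodule.sum_mem _ (fun i _ => Submodule.subset_span ⟨(y i, SecTwist.val (s i) ⊤), rfl⟩)

end Groth.Agent.S16308
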