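import Groth.Statements.S16309
import Groth.Agent.S16308
import Groth.Agent.S16295
import Groth.Agent.Helper4.SN182
import Groth.Agent.Helper4.SN69
import Mathlib

set_option autoImplicit false
universe u
open CategoryTheory CategoryTheory.Limits AlgebraicGeometry
open Curves

namespace Groth.Agent.S16309


/-- Let k be a field and X a proper scheme over k of dimension one (not assumed reduced or irreducible)
with H^1(X, O_X) = 0 and H^0(X, O_X) = k, and let L be an ample invertible O_X-module. Then the
section ring ⊕_{n ≥ 0} H^0(X, L^{⊗ n}) is generated by H^0(X, L) as a k-algebra: for every n, the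
global sections of L^{⊗ n} ⊗ L = L^{⊗ (n+1)} are spanned over H^0(X, O_X) = k by the sections a ⊗ b
with a a global section of L^{⊗ n} and b a global section of L. -/
theorem result (k : Type u) [Field k] (X : Scheme.{u}) [X.Over (Spec (CommRingCat.of k))]
    [IsProper (X ↘ (Spec (CommRingCat.of k)))] (hdim : topologicalKrullDim X = 1)
    (h1 : Subsingleton (Coh.HH X (Coh.structureModule X) 1))
    (h0 : Module.finrank k (Coh.HH X (Coh.structureModule X) 0) = 1)
    (L : X.Modules) (hA : CohB1.IsAmple L) (n : ℕ) :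
    Submodule.span (X.ringCatSheaf.obj.obj (Opposite.op ⊤))
        (Set.range (fun p : (CohB1.tensorPow L n).val.obj (Opposite.op ⊤) × L.val.obj (Opposite.op ⊤) =>
          SecTwist.tmul (CohB1.tensorPow L n) L ⊤ p.1 p.2)) = ⊤ := by

  haveI := Groth.Agent.Helper4.NApx82.isNoetherian_of_proper k X
  have hnef : ∀ J : X.IdealSheafData, IsIntegral J.subscheme →
      topologicalKrullDim J.subscheme = 1 →
      0 ≤ @Curv2.deg k _ J.subscheme ⟨J.subschemeι ≫ (X ↘ (Spec (CommRingCat.of k)))⟩
        ((Scheme.Modules.pullback J.subschemeι).obj L) 1 := by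
    intro J hJ hd
    haveI := hJ
    exact ((Groth.Agent.Helper4.SN.isAmple_pullback_iff_degOn_pos k J hd L hA.1).mp
      (Groth.Agent.Helper4.PullAmple.isAmple_pullback_of_isAffineHom _ hA)).le
  obtain ⟨-, hgg⟩ := Groth.Agent.S16295.result k X hdim h1 L hA.1 hnef
  cases n with
  | zero =>
    rw [eq_top_iff]
    intro z _
    have hinv : ∀ x : Γ(CohB1.tensorMod (Coh.structureModule X) L, ⊤),
        (Groth.Agent.Helper4.AmpleBasis.unitorL L).inv.app ⊤
          ((Groth.Agent.Helper4.AmpleBasis.unitorL L).hom.app ⊤ x) = x := fun x =>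
      congrArg (fun φ => (Scheme.Modules.Hom.app φ ⊤) x)
        (Groth.Agent.Helper4.AmpleBasis.unitorL L).hom_inv_id
    have hz : z = SecTwist.tmul (Coh.structureModule X) L ⊤ (1 : Γ(X, ⊤))
        ((Groth.Agent.Helper4.AmpleBasis.unitorL L).hom.app ⊤ z) := by
      have h2 : (Groth.Agent.Helper4.AmpleBasis.unitorL L).hom.app ⊤ z =
          (Groth.Agent.Helper4.AmpleBasis.unitorL L).hom.app ⊤
            (SecTwist.tmul (Coh.structureModule X) L ⊤ (1 : Γ(X, ⊤))
              ((Groth.Agent.Helper4.AmpleBasis.unitorL L).hom.app ⊤ z)) := by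
        rw [Groth.Agent.Helper4.SN.unitorL_tmul, one_smul]
      exact (hinv z).symm.trans ((congrArg
        (fun w => (Groth.Agent.Helper4.AmpleBasis.unitorL L).inv.app ⊤ w) h2).trans (hinv _))
    rw [hz]
    exact Submodule.subset_span ⟨((1 : Γ(X, ⊤)),
      (Groth.Agent.Helper4.AmpleBasis.unitorL L).hom.app ⊤ z), rfl⟩
  | succ n =>
    exact Groth.Agent.S16308.result k X hdim h0 L hA hgg 0 h1 (n + 1) (by omega)

end Groth.Agent.S16309
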