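import Groth.Statements.S16312
import Mathlib.Algebra.Module.ZLattice.Basic

set_option autoImplicit false
universe u
open W4c3irrattreebun

namespace Groth.Agent.S16312

/-- Let N be a closed cone in real n-space, f a function continuous on N, positive at the nonzero points
of N and homogeneous of degree one under scaling by nonnegative reals, and Λ a discrete additive
subgroup. Then for every real c the set of points H of Λ lying in N with f(H) ≤ c is finite. (The
published statement takes Λ to be a lattice; this row allows any discrete additive subgroup.) -/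
theorem result (n : ℕ)
    (N : Set (EuclideanSpace ℝ (Fin n))) (hN : IsClosed N)
    (hcone : ∀ x ∈ N, ∀ r : ℝ, 0 ≤ r → r • x ∈ N)
    (f : EuclideanSpace ℝ (Fin n) → ℝ) (hf : ContinuousOn f N)
    (hpos : ∀ x ∈ N, x ≠ 0 → 0 < f x)
    (hhom : ∀ x ∈ N, ∀ r : ℝ, 0 ≤ r → f (r • x) = r * f x)
    (Λ : Submodule ℤ (EuclideanSpace ℝ (Fin n))) [DiscreteTopology Λ] (c : ℝ) :
    ({x : EuclideanSpace ℝ (Fin n) | x ∈ N ∧ f x ≤ c} ∩ (Λ : Set (EuclideanSpace ℝ (Fin n)))).Finite := by
  classical
  have hKc : IsCompact (N ∩ Metric.sphere (0 : EuclideanSpace ℝ (Fin n)) 1) :=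
    (isCompact_sphere 0 1).inter_left hN
  have hunit : ∀ x ∈ N, x ≠ 0 →
      (‖x‖⁻¹ • x) ∈ N ∩ Metric.sphere (0 : EuclideanSpace ℝ (Fin n)) 1 := by
    intro x hx hx0
    have hnorm : 0 < ‖x‖ := norm_pos_iff.2 hx0
    refine ⟨hcone x hx _ (inv_nonneg.2 hnorm.le), ?_⟩
    rw [mem_sphere_zero_iff_norm, norm_smul, norm_inv, norm_norm, inv_mul_cancel₀ hnorm.ne']
  have hbdd : Bornology.IsBounded {x : EuclideanSpace ℝ (Fin n) | x ∈ N ∧ f x ≤ c} := by
    by_cases hKe : (N ∩ Metric.sphere (0 : EuclideanSpace ℝ (Fin n)) 1).Nonempty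
    · obtain ⟨x0, hx0K, hx0min⟩ := hKc.exists_isMinOn hKe (hf.mono Set.inter_subset_left)
      have hx0ne : x0 ≠ 0 := by
        intro h
        have := hx0K.2
        rw [h, mem_sphere_zero_iff_norm, norm_zero] at this
        exact zero_ne_one this
      have hm : 0 < f x0 := hpos x0 hx0K.1 hx0ne
      have key : ∀ x ∈ N, f x0 * ‖x‖ ≤ f x := by
        intro x hx
        by_cases hx0 : x = 0
        · subst hx0
          have := hhom 0 hx 0 le_rfl
          rw [zero_smul, zero_mul] at this
          rw [norm_zero, mul_zero, this]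
        · have hnorm : 0 < ‖x‖ := norm_pos_iff.2 hx0
          have h1 : f x0 ≤ f (‖x‖⁻¹ • x) := hx0min (hunit x hx hx0)
          rw [hhom x hx _ (inv_nonneg.2 hnorm.le)] at h1
          calc f x0 * ‖x‖ ≤ (‖x‖⁻¹ * f x) * ‖x‖ := by gcongr
            _ = f x := by field_simp
      refine (Metric.isBounded_closedBall (x := (0 : EuclideanSpace ℝ (Fin n)))
        (r := c / f x0)).subset ?_
      rintro x ⟨hxN, hxc⟩
      rw [mem_closedBall_zero_iff, le_div_iff₀ hm]
      have := key x hxN
      linarith
    · refine (Metric.isBounded_closedBall (x := (0 : EuclideanSpace ℝ (Fin n)))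
        (r := 0)).subset ?_
      rintro x ⟨hxN, -⟩
      by_contra hx
      have hx0 : x ≠ 0 := by
        intro h
        apply hx
        rw [h]
        exact Metric.mem_closedBall_self le_rfl
      exact hKe ⟨_, hunit x hxN hx0⟩
  refine Metric.finite_isBounded_inter_isClosed DiscreteTopology.isDiscrete hbdd ?_
  rw [← Submodule.coe_toAddSubgroup]
  exact AddSubgroup.isClosed_of_discrete

end Groth.Agent.S16312
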