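import Groth.Statements.S16325
import Mathlib
import Groth.Agent.Helper8.ChainHom
open Groth.Agent.Helper8

set_option autoImplicit false
universe u v
open CategoryTheory
open W4c3biextchow

namespace Groth.Agent.S16325

/-- Let f : C ⟶ D be a chain map of ℕ-indexed chain complexes of modules over a ring R, and consider the
functor it induces between the groupoids attached to C and D (objects: degree-0 elements; morphisms
a ⟶ b: degree-1 elements with boundary b - a, modulo boundaries of degree-2 elements). This functor
is faithful if and only if f is injective on homology in degree 1. (The published statement is for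
complexes of abelian groups; this row allows modules over any ring R.) -/
theorem result
    (R : Type u) [Ring R] (C D : ChainComplex (ModuleCat.{v} R) ℕ) (f : C ⟶ D) :
    (W4c3biextchow.cxFunctor f).Faithful ↔ Mono (HomologicalComplex.homologyMap f 1) := by
  rw [ChainHom.mono_homologyMap_succ_iff f 0]
  constructor
  · intro hF x hx ⟨y, hy⟩
    -- morphisms 0 ⟶ 0 with classes [x] and 0
    let a : W4c3biextchow.Obj C := ⟨0⟩
    let φ : a ⟶ a := (⟨Submodule.Quotient.mk x, by
      rw [W4c3biextchow.delta_mk, sub_self]; exact hx⟩ : W4c3biextchow.Hom C a a)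
    let ψ : a ⟶ a := 𝟙 a
    have h1 : (W4c3biextchow.cxFunctor f).map φ = (W4c3biextchow.cxFunctor f).map ψ := by
      apply W4c3biextchow.Hom.ext
      change W4c3biextchow.q1Map f (Submodule.Quotient.mk x) = W4c3biextchow.q1Map f 0
      rw [W4c3biextchow.q1Map_mk, map_zero, Submodule.Quotient.mk_eq_zero]
      exact ⟨y, hy⟩
    have h2 := hF.map_injective h1
    have h3 : (Submodule.Quotient.mk x : W4c3biextchow.Q1 C) = 0 :=
      congrArg W4c3biextchow.Hom.cl h2
    rw [Submodule.Quotient.mk_eq_zero] at h3
    exact h3
  · intro h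
    refine ⟨fun {a b} φ ψ hφψ => ?_⟩
    apply W4c3biextchow.Hom.ext
    have h1 : W4c3biextchow.q1Map f (φ : W4c3biextchow.Hom C a b).cl =
        W4c3biextchow.q1Map f (ψ : W4c3biextchow.Hom C a b).cl :=
      congrArg W4c3biextchow.Hom.cl hφψ
    have h2 : W4c3biextchow.delta C ((φ : W4c3biextchow.Hom C a b).cl -
        (ψ : W4c3biextchow.Hom C a b).cl) = 0 := by
      rw [map_sub, W4c3biextchow.Hom.delta_cl, W4c3biextchow.Hom.delta_cl, sub_self]
    have h3 : W4c3biextchow.q1Map f ((φ : W4c3biextchow.Hom C a b).cl -
        (ψ : W4c3biextchow.Hom C a b).cl) = 0 := by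
      rw [map_sub, h1, sub_self]
    rw [← sub_eq_zero]
    generalize (φ : W4c3biextchow.Hom C a b).cl - (ψ : W4c3biextchow.Hom C a b).cl = w at h2 h3
    induction w using Submodule.Quotient.induction_on with
    | H x =>
      rw [W4c3biextchow.delta_mk] at h2
      rw [W4c3biextchow.q1Map_mk, Submodule.Quotient.mk_eq_zero] at h3
      obtain ⟨y, hy⟩ := h3
      obtain ⟨z, hz⟩ := h x h2 ⟨y, hy⟩
      rw [Submodule.Quotient.mk_eq_zero]
      exact ⟨z, hz⟩

end Groth.Agent.S16325
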