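import Groth.Statements.S16326
import Mathlib
import Groth.Agent.Helper8.ChainHom
open Groth.Agent.Helper8

set_option autoImplicit false
universe u v
open CategoryTheory
open W4c3biextchow

namespace Groth.Agent.S16326

/-- Let f : C ⟶ D be a chain map of ℕ-indexed chain complexes of modules over a ring R, and consider the
functor it induces between the groupoids attached to C and D (objects: degree-0 elements; morphisms
a ⟶ b: degree-1 elements with boundary b - a, modulo boundaries of degree-2 elements). This functor
is full if and only if f is surjective on homology in degree 1 and injective on homology in degree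
0. (The published statement is for complexes of abelian groups; this row allows modules over any
ring R.) -/
theorem result
    (R : Type u) [Ring R] (C D : ChainComplex (ModuleCat.{v} R) ℕ) (f : C ⟶ D) :
    (W4c3biextchow.cxFunctor f).Full ↔
      Epi (HomologicalComplex.homologyMap f 1) ∧ Mono (HomologicalComplex.homologyMap f 0) := by
  rw [ChainHom.epi_homologyMap_succ_iff f 0, ChainHom.mono_homologyMap_zero_iff f]
  constructor
  · intro hF
    constructor
    · intro y hy
      let a : W4c3biextchow.Obj C := ⟨0⟩
      let ψ : (W4c3biextchow.cxFunctor f).obj a ⟶ (W4c3biextchow.cxFunctor f).obj a :=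
        (⟨Submodule.Quotient.mk y, by
          rw [W4c3biextchow.delta_mk, sub_self]; exact hy⟩ :
          W4c3biextchow.Hom D ((W4c3biextchow.cxFunctor f).obj a)
            ((W4c3biextchow.cxFunctor f).obj a))
      obtain ⟨φ, hφ⟩ := hF.map_surjective ψ
      have h1 : W4c3biextchow.q1Map f (φ : W4c3biextchow.Hom C a a).cl =
          Submodule.Quotient.mk y := congrArg W4c3biextchow.Hom.cl hφ
      have h2 : W4c3biextchow.delta C (φ : W4c3biextchow.Hom C a a).cl = 0 := by
        rw [W4c3biextchow.Hom.delta_cl, sub_self]
      generalize (φ : W4c3biextchow.Hom C a a).cl = w at h1 h2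
      induction w using Submodule.Quotient.induction_on with
      | H x =>
        rw [W4c3biextchow.delta_mk] at h2
        rw [W4c3biextchow.q1Map_mk, Submodule.Quotient.eq] at h1
        obtain ⟨z, hz⟩ := h1
        refine ⟨x, h2, -z, ?_⟩
        rw [map_neg, hz]; abel
    · intro x ⟨y, hy⟩
      let a : W4c3biextchow.Obj C := ⟨0⟩
      let b : W4c3biextchow.Obj C := ⟨x⟩
      let ψ : (W4c3biextchow.cxFunctor f).obj a ⟶ (W4c3biextchow.cxFunctor f).obj b :=
        (⟨Submodule.Quotient.mk y, by
          rw [W4c3biextchow.delta_mk, hy]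
          change (f.f 0).hom x = (f.f 0).hom x - (f.f 0).hom 0
          rw [map_zero, sub_zero]⟩ :
          W4c3biextchow.Hom D ((W4c3biextchow.cxFunctor f).obj a)
            ((W4c3biextchow.cxFunctor f).obj b))
      obtain ⟨φ, _⟩ := hF.map_surjective ψ
      have h2 : W4c3biextchow.delta C (φ : W4c3biextchow.Hom C a b).cl = x := by
        rw [W4c3biextchow.Hom.delta_cl]
        change x - 0 = x
        rw [sub_zero]
      generalize (φ : W4c3biextchow.Hom C a b).cl = w at h2
      induction w using Submodule.Quotient.induction_on with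
      | H z =>
        rw [W4c3biextchow.delta_mk] at h2
        exact ⟨z, h2⟩
  · rintro ⟨hepi, hmono⟩
    refine ⟨fun {a b} ψ => ?_⟩
    have hψ := (ψ : W4c3biextchow.Hom D _ _).delta_cl
    obtain ⟨y, hy⟩ := Submodule.Quotient.mk_surjective _ (ψ : W4c3biextchow.Hom D _ _).cl
    rw [← hy, W4c3biextchow.delta_mk] at hψ
    have hψ' : (D.d 1 0).hom y = (f.f 0).hom (b.pt - a.pt) := by
      rw [hψ, map_sub]; rfl
    obtain ⟨x, hx⟩ := hmono (b.pt - a.pt) ⟨y, hψ'⟩
    have h1 : (D.d 1 0).hom (y - (f.f 1).hom x) = 0 := by
      rw [map_sub, ChainHom.comm_apply, hx, hψ', sub_self]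
    obtain ⟨x', hx', w, hw⟩ := hepi _ h1
    let φ : a ⟶ b := (⟨Submodule.Quotient.mk (x + x'), by
      rw [W4c3biextchow.delta_mk, map_add, hx, hx', add_zero]⟩ : W4c3biextchow.Hom C a b)
    refine ⟨φ, ?_⟩
    apply W4c3biextchow.Hom.ext
    change W4c3biextchow.q1Map f (Submodule.Quotient.mk (x + x')) = _
    rw [← hy, W4c3biextchow.q1Map_mk, Submodule.Quotient.eq]
    refine ⟨-w, ?_⟩
    have h3 : y = (f.f 1).hom x + ((f.f 1).hom x' + (D.d 2 1).hom w) := by
      rw [← hw]; abel
    rw [map_neg, map_add, h3]; abel

end Groth.Agent.S16326
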