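import Groth.Statements.S16327
import Mathlib
import Groth.Agent.Helper8.ChainHom
open Groth.Agent.Helper8

set_option autoImplicit false
universe u v
open CategoryTheory
open W4c3biextchow

namespace Groth.Agent.S16327

/-- Let f : C ⟶ D be a chain map of ℕ-indexed chain complexes of modules over a ring R, and consider the
functor it induces between the groupoids attached to C and D (objects: degree-0 elements; morphisms
a ⟶ b: degree-1 elements with boundary b - a, modulo boundaries of degree-2 elements). This functor
is essentially surjective if and only if f is surjective on homology in degree 0. (The published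
statement is for complexes of abelian groups; this row allows modules over any ring R.) -/
theorem result
    (R : Type u) [Ring R] (C D : ChainComplex (ModuleCat.{v} R) ℕ) (f : C ⟶ D) :
    (W4c3biextchow.cxFunctor f).EssSurj ↔ Epi (HomologicalComplex.homologyMap f 0) := by
  rw [ChainHom.epi_homologyMap_zero_iff f]
  constructor
  · intro hF y
    obtain ⟨a, ⟨e⟩⟩ := hF.mem_essImage (⟨y⟩ : W4c3biextchow.Obj D)
    have h1 := (e.hom : W4c3biextchow.Hom D _ _).delta_cl
    obtain ⟨w, hw⟩ := Submodule.Quotient.mk_surjective _ (e.hom : W4c3biextchow.Hom D _ _).cl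
    rw [← hw, W4c3biextchow.delta_mk] at h1
    refine ⟨a.pt, w, ?_⟩
    rw [h1]
    change y = (f.f 0).hom a.pt + (y - (f.f 0).hom a.pt)
    abel
  · intro h
    refine ⟨fun d => ?_⟩
    obtain ⟨x, w, hw⟩ := h d.pt
    refine ⟨⟨x⟩, ⟨?_⟩⟩
    refine
      { hom := (⟨Submodule.Quotient.mk w, ?_⟩ : W4c3biextchow.Hom D _ _)
        inv := (⟨-Submodule.Quotient.mk w, ?_⟩ : W4c3biextchow.Hom D _ _)
        hom_inv_id := ?_
        inv_hom_id := ?_ }
    · rw [W4c3biextchow.delta_mk, hw]
      change _ = (f.f 0).hom x + (D.d 1 0).hom w - (f.f 0).hom x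
      abel
    · rw [map_neg, W4c3biextchow.delta_mk, hw]
      change _ = (f.f 0).hom x - ((f.f 0).hom x + (D.d 1 0).hom w)
      abel
    · apply W4c3biextchow.Hom.ext
      change Submodule.Quotient.mk w + -Submodule.Quotient.mk w = 0
      abel
    · apply W4c3biextchow.Hom.ext
      change -Submodule.Quotient.mk w + Submodule.Quotient.mk w = 0
      abel

end Groth.Agent.S16327
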