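import Groth.Statements.S16328
import Mathlib
import Groth.Agent.Helper8.FreeCx
open Groth.Agent.Helper8

set_option autoImplicit false
universe v
open CategoryTheory
open W4c3biextchow

namespace Groth.Agent.S16328

/-- Let f : A' ⟶ A and p : A ⟶ A'' be chain maps of ℕ-indexed chain complexes of free abelian groups
forming a short exact sequence in every degree (f injective, p surjective, image of f equal to the
kernel of p), and assume f is a quasi-isomorphism. Then there is a chain map h : A'' ⟶ A such that
in every degree q the map (a'', a') ↦ h(a'') + f(a') is a bijection from A''_q × A'_q onto A_q, so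
that A is the direct sum of the subcomplexes f(A') and h(A''). (The source allows complexes indexed
by all integers; stated here for complexes in non-negative degrees.) -/
theorem result
    (A' A A'' : ChainComplex (ModuleCat.{v} ℤ) ℕ) (f : A' ⟶ A) (p : A ⟶ A'')
    [∀ q, Module.Free ℤ (A'.X q)] [∀ q, Module.Free ℤ (A.X q)] [∀ q, Module.Free ℤ (A''.X q)]
    (hf : ∀ q, Function.Injective (f.f q).hom) (hp : ∀ q, Function.Surjective (p.f q).hom)
    (hfp : ∀ q, Function.Exact (f.f q).hom (p.f q).hom) [QuasiIso f] :
    ∃ h : A'' ⟶ A, ∀ q : ℕ,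
      Function.Bijective (fun x : A''.X q × A'.X q => (h.f q).hom x.1 + (f.f q).hom x.2) := by
  have hex : ∀ q, LinearMap.ker (p.f q).hom = LinearMap.range (f.f q).hom := fun q =>
    (LinearMap.exact_iff.mp (hfp q))
  obtain ⟨h, hh1, hh2⟩ := FreeCx.exists_section_maps f (fun q => A''.X q)
    (fun q => (A''.d (q + 1) q).hom) (fun q => (p.f q).hom) hf hp hex
    (fun q a => (ChainHom.comm_apply p (q + 1) q a).symm)
  refine ⟨FreeCx.mkHom h hh2, ?_⟩
  intro q
  have hpf : ∀ a', (p.f q).hom ((f.f q).hom a') = 0 := by
    intro a'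
    have : (f.f q).hom a' ∈ LinearMap.ker (p.f q).hom := by rw [hex]; exact ⟨a', rfl⟩
    exact this
  constructor
  · rintro ⟨x₁, y₁⟩ ⟨x₂, y₂⟩ hxy
    change h q x₁ + (f.f q).hom y₁ = h q x₂ + (f.f q).hom y₂ at hxy
    have h1 := congrArg (p.f q).hom hxy
    rw [map_add, map_add, hh1, hh1, hpf, hpf, add_zero, add_zero] at h1
    subst h1
    have h2 := add_left_cancel hxy
    rw [hf q h2]
  · intro a
    have h1 : a - h q ((p.f q).hom a) ∈ LinearMap.ker (p.f q).hom := by
      rw [LinearMap.mem_ker, map_sub, hh1, sub_self]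
    rw [hex] at h1
    obtain ⟨a', ha'⟩ := h1
    refine ⟨((p.f q).hom a, a'), ?_⟩
    change h q ((p.f q).hom a) + (f.f q).hom a' = a
    rw [ha']; abel

end Groth.Agent.S16328
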