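import Groth.Statements.S16331
import Mathlib
import Groth.Agent.Helper8.FreeCx
import Groth.Agent.S16330
open Groth.Agent.Helper8

set_option autoImplicit false
universe v
open CategoryTheory
open W4c3biextchow

namespace Groth.Agent.S16331

/-- Let f : A' ⟶ A be a chain map of ℕ-indexed chain complexes of free abelian groups which is injective
in every degree, with free degreewise quotients A_q / f(A'_q), and a quasi-isomorphism; let h' : A'
⟶ B be a chain map to another complex of free abelian groups and g₁, g₂ : A ⟶ A' two chain maps with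
f ≫ g₁ = f ≫ g₂ = 𝟙. Consider the functors induced by g₁ ≫ h' and g₂ ≫ h' between the groupoids
attached to A and B (objects: degree-0 elements; morphisms a ⟶ b: degree-1 elements with boundary b
- a, modulo boundaries of degree-2 elements). Then there is a natural isomorphism between these two
functors whose component at every object of the form f(a'), a' a degree-0 element of A', is the zero
class, i.e. the identity morphism of h'(a'). -/
theorem result
    (A' A B : ChainComplex (ModuleCat.{v} ℤ) ℕ) (f : A' ⟶ A) (h' : A' ⟶ B)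
    [∀ q, Module.Free ℤ (A'.X q)] [∀ q, Module.Free ℤ (A.X q)] [∀ q, Module.Free ℤ (B.X q)]
    (hf : ∀ q, Function.Injective (f.f q).hom)
    (hq : ∀ q, Module.Free ℤ ((A.X q) ⧸ LinearMap.range (f.f q).hom)) [QuasiIso f]
    (g₁ g₂ : A ⟶ A') (h₁ : f ≫ g₁ = 𝟙 A') (h₂ : f ≫ g₂ = 𝟙 A') :
    ∃ N : W4c3biextchow.cxFunctor (g₁ ≫ h') ≅ W4c3biextchow.cxFunctor (g₂ ≫ h'),
      ∀ a : W4c3biextchow.Obj A',
        (N.hom.app ((W4c3biextchow.cxFunctor f).obj a) : W4c3biextchow.Hom B _ _).cl = 0 := by
  obtain ⟨H, hH⟩ := Groth.Agent.S16330.result A' A f hf hq g₁ g₂ h₁ h₂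
  -- extract the relevant components
  have e0 : ∀ a : A.X 0, (g₁.f 0).hom a = (A'.d 1 0).hom ((H.hom 0 1).hom a) + (g₂.f 0).hom a := by
    intro a
    have h := H.comm 0
    rw [Homotopy.dNext_zero_chainComplex, Homotopy.prevD_chainComplex, zero_add] at h
    have := congrArg (fun φ => φ.hom a) h
    exact this
  have e1 : ∀ x : A.X 1, (g₁.f 1).hom x = (H.hom 0 1).hom ((A.d 1 0).hom x) +
      (A'.d 2 1).hom ((H.hom 1 2).hom x) + (g₂.f 1).hom x := by
    intro x
    have h := H.comm 1
    rw [Homotopy.dNext_succ_chainComplex, Homotopy.prevD_chainComplex] at h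
    have := congrArg (fun φ => φ.hom x) h
    exact this
  have hv : ∀ a' : A'.X 0, (H.hom 0 1).hom ((f.f 0).hom a') = 0 := by
    intro a'
    have := congrArg (fun φ => φ.hom a') (hH 0 1)
    exact this
  -- the class
  let cl : A.X 0 → W4c3biextchow.Q1 B := fun a =>
    -Submodule.Quotient.mk ((h'.f 1).hom ((H.hom 0 1).hom a))
  have hcl : ∀ a : W4c3biextchow.Obj A, W4c3biextchow.delta B (cl a.pt) =
      ((W4c3biextchow.cxFunctor (g₂ ≫ h')).obj a).pt -
        ((W4c3biextchow.cxFunctor (g₁ ≫ h')).obj a).pt := by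
    intro a
    change W4c3biextchow.delta B (-Submodule.Quotient.mk _) =
      (h'.f 0).hom ((g₂.f 0).hom a.pt) - (h'.f 0).hom ((g₁.f 0).hom a.pt)
    rw [map_neg, W4c3biextchow.delta_mk, ChainHom.comm_apply, e0 a.pt, map_add]
    abel
  let Ncomp : ∀ a : W4c3biextchow.Obj A,
      (W4c3biextchow.cxFunctor (g₁ ≫ h')).obj a ≅ (W4c3biextchow.cxFunctor (g₂ ≫ h')).obj a :=
    fun a =>
      { hom := (⟨cl a.pt, hcl a⟩ : W4c3biextchow.Hom B _ _)
        inv := (⟨-cl a.pt, by rw [map_neg, hcl a, neg_sub]⟩ : W4c3biextchow.Hom B _ _)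
        hom_inv_id := by
          apply W4c3biextchow.Hom.ext
          change cl a.pt + -cl a.pt = 0
          abel
        inv_hom_id := by
          apply W4c3biextchow.Hom.ext
          change -cl a.pt + cl a.pt = 0
          abel }
  refine ⟨NatIso.ofComponents Ncomp ?_, ?_⟩
  · intro a b φ
    apply W4c3biextchow.Hom.ext
    change W4c3biextchow.q1Map (g₁ ≫ h') (φ : W4c3biextchow.Hom A a b).cl + cl b.pt =
      cl a.pt + W4c3biextchow.q1Map (g₂ ≫ h') (φ : W4c3biextchow.Hom A a b).cl
    have hφ := (φ : W4c3biextchow.Hom A a b).delta_cl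
    obtain ⟨x, hx⟩ := Submodule.Quotient.mk_surjective _ (φ : W4c3biextchow.Hom A a b).cl
    rw [← hx] at hφ ⊢
    rw [W4c3biextchow.delta_mk] at hφ
    rw [W4c3biextchow.q1Map_mk, W4c3biextchow.q1Map_mk]
    change Submodule.Quotient.mk ((h'.f 1).hom ((g₁.f 1).hom x)) +
        -Submodule.Quotient.mk ((h'.f 1).hom ((H.hom 0 1).hom b.pt)) =
      -Submodule.Quotient.mk ((h'.f 1).hom ((H.hom 0 1).hom a.pt)) +
        Submodule.Quotient.mk ((h'.f 1).hom ((g₂.f 1).hom x))
    rw [← sub_eq_zero]
    have hb : b.pt = (A.d 1 0).hom x + a.pt := by rw [hφ]; abel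
    rw [e1 x, hb]
    simp only [map_add, Submodule.Quotient.mk_add]
    have hz : (Submodule.Quotient.mk ((h'.f 1).hom ((A'.d 2 1).hom ((H.hom 1 2).hom x))) :
        W4c3biextchow.Q1 B) = 0 := by
      rw [Submodule.Quotient.mk_eq_zero]
      exact ⟨(h'.f 2).hom ((H.hom 1 2).hom x), ChainHom.comm_apply h' 2 1 _⟩
    rw [hz]
    abel
  · intro a
    change cl ((f.f 0).hom a.pt) = 0
    change -Submodule.Quotient.mk ((h'.f 1).hom ((H.hom 0 1).hom ((f.f 0).hom a.pt))) = 0
    rw [hv, map_zero, Submodule.Quotient.mk_zero, neg_zero]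

end Groth.Agent.S16331
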