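import Groth.Statements.S16335
import Groth.Agent.Helper8.Avg
import Mathlib.LinearAlgebra.TensorProduct.Basic
import Mathlib.Tactic.Ring

set_option autoImplicit false
universe u v w w'
open TensorProduct
open InvTh

namespace Groth.Agent.S16335

/-- Let `R` be a commutative ring with an action of a finite group `Γ` by ring automorphisms such that
the order of `Γ` is invertible in `R`, and let `A → R` be injective with image exactly the
invariants `R^Γ`, the action being `A`-linear. Then for every commutative `A`-algebra `S`, with `Γ`
acting on `S ⊗_A R` through the factor `R`, the map `S → S ⊗_A R`, `s ↦ s ⊗ 1`, is injective and its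
image is exactly the set of `Γ`-fixed elements: `S ≅ (S ⊗_A R)^Γ`. No flatness of `S` over `A` is
assumed; the invertibility of the order of `Γ` replaces it. This is the affine statement that for a
tame quotient the coarse space commutes with arbitrary base change. (The published lemma is the
statement that the coarse moduli space of a tame Deligne–Mumford stack commutes with arbitrary base
change, whose proof reduces to this ring statement. The published lemma also asserts the analogous
statement for the reduced fibre product when the base-change scheme is reduced; that clause is not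
part of this row.) -/
theorem result
    (A : Type u) [CommRing A] (R : Type v) [CommRing R] [Algebra A R]
    (Γ : Type w) [Group Γ] [Finite Γ] [MulSemiringAction Γ R] [SMulCommClass Γ A R]
    [Algebra.IsInvariant A R Γ] (hinj : Function.Injective (algebraMap A R))
    (hΓ : IsUnit (Nat.card Γ : R))
    (S : Type w') [CommRing S] [Algebra A S] :
    Function.Injective (fun s : S => s ⊗ₜ[A] (1 : R)) ∧
      ∀ x : S ⊗[A] R,
        (∀ γ : Γ, Algebra.TensorProduct.map (AlgHom.id A S) (MulSemiringAction.toAlgHom A R γ) x = x) →
          x ∈ Set.range (fun s : S => s ⊗ₜ[A] (1 : R)) := by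
  classical
  have : Fintype Γ := Fintype.ofFinite Γ
  -- |Γ| is invertible in A
  obtain ⟨u, hu⟩ := Helper8.exists_inv_card (A := R) (Γ := Γ) hΓ
  have hu' : (Fintype.card Γ : R) * u = 1 := by rw [mul_comm]; exact hu
  have hufix : ∀ γ : Γ, γ • u = u := by
    intro γ
    have h1 : (Fintype.card Γ : R) * (γ • u) = 1 := by
      have := congrArg (γ • ·) hu'
      simp only [smul_mul', smul_one] at this
      rwa [show γ • (Fintype.card Γ : R) = (Fintype.card Γ : R) from
        map_natCast (MulSemiringAction.toRingHom Γ R γ) _] at this
    calc γ • u = (u * (Fintype.card Γ : R)) * (γ • u) := by rw [hu, one_mul]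
      _ = u * ((Fintype.card Γ : R) * (γ • u)) := by ring
      _ = u := by rw [h1, mul_one]
  obtain ⟨c, hcu⟩ := Algebra.IsInvariant.isInvariant (A := A) (G := Γ) u hufix
  have hc : c * (Fintype.card Γ : A) = 1 := by
    apply hinj
    rw [map_mul, hcu, map_natCast, map_one, hu]
  -- the averaging map on R and the Reynolds operator
  let avgR : R →ₗ[A] R := Helper8.avg A Γ R c
  have havg_mem : ∀ r, avgR r ∈ LinearMap.range (Algebra.linearMap A R) := by
    intro r
    obtain ⟨a, ha⟩ := Algebra.IsInvariant.isInvariant (A := A) (G := Γ) (avgR r)
      (fun γ => Helper8.smul_avg c γ r)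
    exact ⟨a, ha⟩
  let ρ : R →ₗ[A] A :=
    (LinearEquiv.ofInjective (Algebra.linearMap A R) hinj).symm.toLinearMap.comp
      (avgR.codRestrict _ havg_mem)
  have hρ : ∀ r, algebraMap A R (ρ r) = avgR r := by
    intro r
    have := (LinearEquiv.ofInjective (Algebra.linearMap A R) hinj).apply_symm_apply
      ⟨avgR r, havg_mem r⟩
    exact congrArg Subtype.val this
  have hρ1 : ρ 1 = 1 := by
    apply hinj
    rw [hρ, (algebraMap A R).map_one]
    exact Helper8.avg_of_fixed c hc (1 : R) (fun γ => smul_one γ)
  have hcomp : (Algebra.linearMap A R).comp ρ = avgR := by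
    ext r; exact hρ r
  have hmap : ∀ (γ : Γ) (y : S ⊗[A] R),
      LinearMap.lTensor S ((MulSemiringAction.toAlgHom A R γ).toLinearMap) y =
        Algebra.TensorProduct.map (AlgHom.id A S) (MulSemiringAction.toAlgHom A R γ) y := by
    intro γ y
    induction y using TensorProduct.induction_on with
    | zero => simp
    | tmul s r => simp
    | add a b ha hb => simp only [map_add, ha, hb]
  constructor
  · intro s t hst
    have h := congrArg (fun x => TensorProduct.rid A S (LinearMap.lTensor S ρ x)) hst
    simpa [hρ1] using h
  · intro x hx
    have hx' : LinearMap.lTensor S avgR x = x := by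
      have h1 : LinearMap.lTensor S avgR = c • ∑ γ : Γ, LinearMap.lTensor S
          ((MulSemiringAction.toAlgHom A R γ).toLinearMap) := by
        apply TensorProduct.ext'
        intro s r
        simp only [LinearMap.lTensor_tmul, LinearMap.smul_apply, LinearMap.sum_apply, avgR,
          Helper8.avg_apply, TensorProduct.tmul_smul, TensorProduct.tmul_sum]
        rfl
      rw [h1]
      simp only [LinearMap.smul_apply, LinearMap.sum_apply]
      have h2 : ∀ γ : Γ, LinearMap.lTensor S ((MulSemiringAction.toAlgHom A R γ).toLinearMap) x = x := by
        intro γ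
        rw [hmap]; exact hx γ
      simp only [h2, Finset.sum_const, Finset.card_univ, ← Nat.cast_smul_eq_nsmul A, smul_smul, hc, one_smul]
    rw [← hcomp, LinearMap.lTensor_comp, LinearMap.comp_apply] at hx'
    refine ⟨TensorProduct.rid A S (LinearMap.lTensor S ρ x), ?_⟩
    show _ ⊗ₜ[A] (1 : R) = x
    conv_rhs => rw [← hx']
    generalize LinearMap.lTensor S ρ x = y
    induction y using TensorProduct.induction_on with
    | zero => simp
    | tmul s a =>
      simp only [TensorProduct.rid_tmul, LinearMap.lTensor_tmul, Algebra.linearMap_apply]
      rw [Algebra.algebraMap_eq_smul_one, TensorProduct.tmul_smul, TensorProduct.smul_tmul']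
    | add a b ha hb => simp only [map_add, TensorProduct.add_tmul, ha, hb]

end Groth.Agent.S16335
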