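import Groth.Statements.S16337
import Groth.Agent.Helper8.Avg

set_option autoImplicit false
universe u v w
open InvTh

namespace Groth.Agent.S16337

/-- Let `A` be a commutative ring, `Γ` a finite group whose order is invertible in `A`, `M` an
`A`-module with an `A`-linear action of `Γ`, and `I` an ideal of `A`. Then reduction modulo `I`
induces a bijection `M^Γ / I·M^Γ ≅ (M / IM)^Γ`: (a) an element of `M` fixed by `Γ` modulo `IM` is
congruent modulo `IM` to a `Γ`-fixed element, and (b) a `Γ`-fixed element lying in `IM` lies in
`I·M^Γ`, where `M^Γ` is the submodule of `Γ`-fixed elements. (The published lemma says that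
push-forward to the coarse space of a tame stack over a complete local base commutes with reduction
modulo powers of the maximal ideal; this row is the module statement its proof establishes, for an
arbitrary ideal.) -/
theorem result
    (A : Type u) [CommRing A] (Γ : Type v) [Group Γ] [Finite Γ] (hΓ : IsUnit (Nat.card Γ : A))
    (M : Type w) [AddCommGroup M] [Module A M] [DistribMulAction Γ M] [SMulCommClass Γ A M]
    (I : Ideal A) :
    (∀ x : M, (∀ γ : Γ, γ • x - x ∈ I • (⊤ : Submodule A M)) →
        ∃ y : M, (∀ γ : Γ, γ • y = y) ∧ x - y ∈ I • (⊤ : Submodule A M)) ∧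
      ∀ y : M, (∀ γ : Γ, γ • y = y) → y ∈ I • (⊤ : Submodule A M) →
        y ∈ I • Submodule.span A {m : M | ∀ γ : Γ, γ • m = m} := by
  classical
  have : Fintype Γ := Fintype.ofFinite Γ
  obtain ⟨c, hc⟩ := Helper8.exists_inv_card (Γ := Γ) hΓ
  constructor
  · intro x hx
    refine ⟨Helper8.avg A Γ M c x, fun γ => Helper8.smul_avg c γ x, ?_⟩
    rw [Helper8.sub_avg c hc]
    refine Submodule.smul_mem _ _ (Submodule.sum_mem _ fun γ _ => ?_)
    have := hx γ
    rw [← neg_sub]
    exact neg_mem this
  · intro y hy hyI
    have key : ∀ z ∈ I • (⊤ : Submodule A M),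
        Helper8.avg A Γ M c z ∈ I • Submodule.span A {m : M | ∀ γ : Γ, γ • m = m} := by
      intro z hz
      refine Submodule.smul_induction_on hz ?_ ?_
      · intro a ha m _
        rw [map_smul]
        exact Submodule.smul_mem_smul ha (Submodule.subset_span fun γ => Helper8.smul_avg c γ m)
      · intro a b ha hb
        rw [map_add]
        exact add_mem ha hb
    have := key y hyI
    rwa [Helper8.avg_of_fixed c hc y hy] at this

end Groth.Agent.S16337
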