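import Groth.Statements.S16356
import Mathlib

set_option autoImplicit false
universe u
open OrdAV

namespace Groth.Agent.S16356

/-- For an odd prime p and a perfect field k of characteristic p, a root of unity in the ring of Witt
vectors W(k) whose residue in k is 1 is itself 1: if x ^ n = 1 with n ≥ 1 and the zeroth Witt
component of x is 1, then x = 1. (For p = 2 this fails: -1 in W(F_2).) -/
theorem result (p : ℕ) [Fact p.Prime] (hp : p ≠ 2)
    (k : Type u) [Field k] [CharP k p] [PerfectRing k p]
    (x : WittVector p k) (n : ℕ) (hn : 0 < n) (hx : x ^ n = 1) (h0 : x.coeff 0 = 1) : x = 1 := by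
  have hpp : p.Prime := Fact.out
  have hodd : Odd p := hpp.odd_of_ne_two hp
  have hprime : Prime (p : WittVector p k) :=
    (WittVector.irreducible p).prime
  -- p ∣ x - 1
  have hdiv : (p : WittVector p k) ∣ x - 1 := by
    rw [← Ideal.mem_span_singleton, WittVector.mem_span_p_iff_coeff_zero_eq_zero]
    have : (x - 1).coeff 0 = WittVector.constantCoeff (x - 1) := rfl
    rw [this, map_sub, map_one]
    change x.coeff 0 - 1 = 0
    rw [h0, sub_self]
  have hndiv : ¬ (p : WittVector p k) ∣ x := by
    intro hd
    rw [← Ideal.mem_span_singleton, WittVector.mem_span_p_iff_coeff_zero_eq_zero, h0] at hd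
    exact one_ne_zero hd
  by_contra hne
  have hne' : x - 1 ≠ 0 := sub_ne_zero.mpr hne
  have hfin : FiniteMultiplicity (p : WittVector p k) (x - 1) :=
    FiniteMultiplicity.of_not_isUnit hprime.not_unit hne'
  -- decompose n
  obtain ⟨a, n', hn', rfl⟩ := Nat.exists_eq_pow_mul_and_not_dvd hn.ne' p hpp.ne_one
  have hn'R : ¬ (p : WittVector p k) ∣ (n' : WittVector p k) := by
    intro hd
    have hcop : Nat.Coprime p n' := (Nat.Prime.coprime_iff_not_dvd hpp).mpr hn'
    have : IsCoprime ((p : ℤ)) (n' : ℤ) := Nat.isCoprime_iff_coprime.mpr hcop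
    obtain ⟨u, v, huv⟩ := this
    have h1 : (u : WittVector p k) * p + v * n' = 1 := by exact_mod_cast congrArg (Int.cast : ℤ → WittVector p k) huv
    have : (p : WittVector p k) ∣ 1 := by
      rw [← h1]
      exact dvd_add (dvd_mul_left _ _) (dvd_mul_of_dvd_right hd _)
    exact hprime.not_unit (isUnit_of_dvd_one this)
  set z := x ^ n' with hz
  have h1 : emultiplicity (p : WittVector p k) (z - 1) = emultiplicity (p : WittVector p k) (x - 1) := by
    have := emultiplicity_pow_sub_pow_of_prime hprime (x := x) (y := 1) hdiv hndiv hn'R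
    rwa [one_pow] at this
  have hzdiv : (p : WittVector p k) ∣ z - 1 := by
    have : x - 1 ∣ x ^ n' - 1 := by simpa using sub_dvd_pow_sub_pow x 1 n'
    exact hdiv.trans this
  have hzndiv : ¬ (p : WittVector p k) ∣ z := fun h => hndiv (hprime.dvd_of_dvd_pow h)
  have h2 := emultiplicity_pow_prime_pow_sub_pow_prime_pow hprime hodd (x := z) (y := 1) hzdiv hzndiv a
  rw [one_pow, hz, ← pow_mul, mul_comm n' (p ^ a), hx, sub_self, emultiplicity_zero, ← hz, h1] at h2
  rw [hfin.emultiplicity_eq_multiplicity] at h2
  have h3 : ((multiplicity (p : WittVector p k) (x - 1) : ℕ∞) + (a : ℕ∞)) ≠ ⊤ := by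
    exact_mod_cast ENat.coe_ne_top (multiplicity (p : WittVector p k) (x - 1) + a)
  exact h3 h2.symm

end Groth.Agent.S16356
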