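import Groth.Statements.S16357
import Mathlib.Algebra.Polynomial.Lifts
import Mathlib.Tactic

set_option autoImplicit false
universe u
open OrdAV

namespace Groth.Agent.S16357

/-- Over a field L of characteristic zero, a monic polynomial h whose square has rational coefficients
has rational coefficients itself. -/
theorem result (L : Type u) [Field L] [CharZero L]
    (h : Polynomial L) (hm : h.Monic) (f : Polynomial ℚ)
    (hf : h ^ 2 = Polynomial.map (algebraMap ℚ L) f) :
    ∃ g : Polynomial ℚ, Polynomial.map (algebraMap ℚ L) g = h := by
  classical
  set K : Subfield L := (algebraMap ℚ L).fieldRange with hK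
  set n := h.natDegree with hn
  have hfK : ∀ i, (h ^ 2).coeff i ∈ K := by
    intro i
    rw [hf, Polynomial.coeff_map]
    exact ⟨_, rfl⟩
  have h2K : (2 : L) ∈ K := ⟨2, by simp⟩
  have h2ne : (2 : L) ≠ 0 := two_ne_zero
  -- all coefficients lie in `K`, by downward induction
  have key : ∀ j : ℕ, ∀ m : ℕ, n ≤ m + j → h.coeff m ∈ K := by
    intro j
    induction j using Nat.strong_induction_on with
    | _ j ih =>
      intro m hmj
      rcases lt_trichotomy n m with hlt | heq | hgt
      · rw [Polynomial.coeff_eq_zero_of_natDegree_lt hlt]; exact K.zero_mem
      · rw [← heq, hn, hm.coeff_natDegree]; exact K.one_mem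
      · -- `m < n`
        have hc := hfK (n + m)
        rw [sq, Polynomial.coeff_mul] at hc
        have hmem1 : (n, m) ∈ Finset.antidiagonal (n + m) := by simp
        rw [← Finset.add_sum_erase _ _ hmem1] at hc
        have hmem2 : (m, n) ∈ (Finset.antidiagonal (n + m)).erase (n, m) := by
          simp only [Finset.mem_erase, Finset.mem_antidiagonal, ne_eq, Prod.mk.injEq, not_and]
          exact ⟨fun h1 _ => by omega, by omega⟩
        rw [← Finset.add_sum_erase _ _ hmem2] at hc
        have hrest : ∑ x ∈ ((Finset.antidiagonal (n + m)).erase (n, m)).erase (m, n),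
            h.coeff x.1 * h.coeff x.2 ∈ K := by
          refine K.sum_mem fun x hx => ?_
          simp only [Finset.mem_erase, Finset.mem_antidiagonal, ne_eq] at hx
          obtain ⟨hx1, hx2, hx3⟩ := hx
          obtain ⟨a, b⟩ := x
          simp only [Prod.mk.injEq, not_and] at hx1 hx2 hx3
          by_cases ha : n < a
          · rw [Polynomial.coeff_eq_zero_of_natDegree_lt ha, zero_mul]; exact K.zero_mem
          by_cases hb : n < b
          · rw [Polynomial.coeff_eq_zero_of_natDegree_lt hb, mul_zero]; exact K.zero_mem
          have ha' : m < a := by
            by_contra hcon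
            push Not at hcon
            have : a ≠ m := fun h1 => by have := hx1 h1; omega
            omega
          have hb' : m < b := by
            by_contra hcon
            push Not at hcon
            have : b ≠ m := fun h1 => by
              have : a = n := by omega
              exact hx2 this h1
            omega
          refine K.mul_mem (ih (n - a) (by omega) a (by omega)) (ih (n - b) (by omega) b (by omega))
        have hlead : h.coeff n = 1 := by rw [hn]; exact hm.coeff_natDegree
        rw [hlead, one_mul, mul_one] at hc
        have h3 : (2 : L) * h.coeff m ∈ K := by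
          have := K.sub_mem hc hrest
          have e : h.coeff m + (h.coeff m + ∑ x ∈ ((Finset.antidiagonal (n + m)).erase (n, m)).erase (m, n),
              h.coeff x.1 * h.coeff x.2) - ∑ x ∈ ((Finset.antidiagonal (n + m)).erase (n, m)).erase (m, n),
              h.coeff x.1 * h.coeff x.2 = 2 * h.coeff m := by ring
          rwa [e] at this
        have h4 : h.coeff m = (2 : L)⁻¹ * ((2 : L) * h.coeff m) := by
          rw [← mul_assoc, inv_mul_cancel₀ h2ne, one_mul]
        rw [h4]
        exact K.mul_mem (K.inv_mem h2K) h3
  have hlift : h ∈ Polynomial.lifts (algebraMap ℚ L) := by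
    rw [Polynomial.lifts_iff_coeff_lifts]
    intro i
    have := key n i (by omega)
    exact this
  exact (Polynomial.mem_lifts h).mp hlift

end Groth.Agent.S16357
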