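import Groth.Statements.S1636
import Groth.Agent.Helper4.SN185
import Groth.Agent.S16296
import Groth.Agent.Helper4.SN63
import Mathlib

set_option autoImplicit false
universe u
open CategoryTheory CategoryTheory.Limits AlgebraicGeometry
open Curves

namespace Groth.Agent.S1636


/-- Let X be a proper curve over k with global functions k and genus 0, and L an invertible module of
degree d > 0. Then there is a closed immersion i : X → P^d_k over k with i^* O(1) ≅ L. -/
theorem result (k : Type u) [Field k] (X : Scheme.{u}) [X.Over (Spec (CommRingCat.of k))]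
    [IsIntegral X] [IsProper (X ↘ (Spec (CommRingCat.of k)))] (hdim : topologicalKrullDim X = 1)
    (h0 : Module.finrank k (Coh.HH X (Coh.structureModule X) 0) = 1) (hg : Curv2.genus k X = 0)
    (L : X.Modules) (hL : PicF.IsInvertible L) (d : ℕ) (hd : 0 < d) (hdeg : Curv2.deg k X L 1 = d) :
    ∃ i : X ⟶ CohB1.ProjSpace d k, IsClosedImmersion i ∧ i ≫ CohB1.ProjSpace.toSpec d k = X ↘ (Spec (CommRingCat.of k)) ∧
      Nonempty ((Scheme.Modules.pullback i).obj (Twist.twistProjSpace d k 1) ≅ L) := by

  haveI := Groth.Agent.Helper4.NApx82.isNoetherian_of_proper k X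
  have hcO : Coh.IsCoh (Coh.structureModule X) :=
    Groth.Agent.Helper1.SerreFin.isCoh_of_isInvertible _
      Groth.Agent.Helper4.TensorInv.isInvertible_structureModule
  haveI : Module.Finite k (Coh.HH X (Coh.structureModule X) 1) :=
    Groth.Agent.S0002.result k X _ hcO 1
  have h1 : Subsingleton (Coh.HH X (Coh.structureModule X) 1) := Module.finrank_zero_iff.mp hg
  have hamp : CohB1.IsAmple L :=
    Groth.Agent.Helper4.SN.isAmple_of_deg_pos k hdim L hL (by rw [hdeg]; exact_mod_cast hd)
  have hnef : ∀ J : X.IdealSheafData, IsIntegral J.subscheme →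
      topologicalKrullDim J.subscheme = 1 →
      0 ≤ @Curv2.deg k _ J.subscheme ⟨J.subschemeι ≫ (X ↘ (Spec (CommRingCat.of k)))⟩
        ((Scheme.Modules.pullback J.subschemeι).obj L) 1 := by
    intro J hJ hd'
    haveI := hJ
    exact ((Groth.Agent.Helper4.SN.isAmple_pullback_iff_degOn_pos k J hd' L hL).mp
      (Groth.Agent.Helper4.PullAmple.isAmple_pullback_of_isAffineHom _ hamp)).le
  have hh0 := Groth.Agent.S16296.result k X hdim h1 L hL hnef
  rw [h0, hdeg] at hh0
  have hfr : Module.finrank k (Coh.HH X L 0) = d + 1 := by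
    have : (Module.finrank k (Coh.HH X L 0) : ℤ) = ((d + 1 : ℕ) : ℤ) := by
      rw [hh0]; push_cast; ring
    exact_mod_cast this
  have hcL : Coh.IsCoh L := Groth.Agent.Helper1.SerreFin.isCoh_of_isInvertible L hL
  haveI : Module.Finite k (Coh.HH X L 0) := Groth.Agent.S0002.result k X L hcL 0
  let b := Module.finBasisOfFinrankEq k (Coh.HH X L 0) hfr
  exact Groth.Agent.Helper4.SN.main16297 k X hdim h1 L hamp b b.span_eq

end Groth.Agent.S1636
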