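import Groth.Statements.S16370

set_option autoImplicit false
universe u
open CategoryTheory AlgebraicGeometry Opposite
open FrobSch

namespace Groth.Agent.S16370

theorem result
    (p : ℕ) [Fact p.Prime] (X : Scheme.{u}) [IsReduced X] (hp : (p : Γ(X, ⊤)) = 0)
    (φ : Coh.toAb (Coh.structureModule X) ⟶ Coh.toAb (Coh.structureModule X))
    (hφ : ∀ (U : X.Opens) (t : Γ(X, U)), φ.hom.app (op U) t = t ^ p)
    (hB : ∀ i : ℕ, Subsingleton (Sheaf.H (Limits.cokernel φ) i))
    (i : ℕ) : Function.Bijective (Sheaf.H.map φ i) := by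
  have hmono : Mono φ := by
    have h1 : Mono φ.hom := by
      apply (config := {allowSynthFailures := true}) NatTrans.mono_of_mono_app
      intro U
      rw [AddCommGrpCat.mono_iff_injective]
      rw [injective_iff_map_eq_zero]
      intro t ht
      obtain ⟨t', ht'⟩ : ∃ t' : Γ(X, U.unop), t' = t := ⟨t, rfl⟩
      have h2 := hφ U.unop t'
      have h3 : t' ^ p = (0 : Γ(X, U.unop)) := by
        rw [← h2, ht']; exact ht
      have h4 : t' = 0 := IsNilpotent.eq_zero ⟨p, h3⟩
      rw [← ht', h4]; rfl
    exact Sheaf.Hom.mono_of_presheaf_mono _ _ φ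
  let S : ShortComplex (Sheaf (Opens.grothendieckTopology X) AddCommGrpCat.{u}) :=
    ShortComplex.mk φ (Limits.cokernel.π φ) (Limits.cokernel.condition φ)
  have hS : S.ShortExact :=
    { exact := ShortComplex.exact_cokernel φ
      mono_f := hmono
      epi_g := by dsimp [S]; infer_instance }
  constructor
  · rw [injective_iff_map_eq_zero]
    intro x hx
    rw [Sheaf.H.map_apply] at hx
    cases i with
    | zero =>
      have := Abelian.Ext.postcomp_mk₀_injective_of_mono
        ((constantSheaf (Opens.grothendieckTopology X) AddCommGrpCat.{u}).obj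
          (AddCommGrpCat.of (ULift ℤ))) φ
      apply this
      rw [map_zero]
      exact hx
    | succ n =>
      obtain ⟨x₃, hx₃⟩ := Abelian.Ext.covariant_sequence_exact₁ _ hS x hx (rfl : n + 1 = n + 1)
      have : x₃ = 0 := (hB n).elim _ _
      rw [← hx₃, this, Abelian.Ext.zero_comp]
  · intro y
    have h0 : y.comp (Abelian.Ext.mk₀ S.g) (add_zero i) = 0 := (hB i).elim _ _
    obtain ⟨x₁, hx₁⟩ := Abelian.Ext.covariant_sequence_exact₂ _ hS y h0
    exact ⟨x₁, hx₁⟩

end Groth.Agent.S16370
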