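import Groth.Statements.S16374
import Mathlib.NumberTheory.Basic
import Mathlib.Tactic.Ring

set_option autoImplicit false
universe u v w
open FrobAlg

namespace Groth.Agent.S16374

/-- Let p be a prime, A a commutative ring, B and C commutative A-algebras with p² = 0 in B, and g : C →
B an A-algebra map such that every g(c) is congruent modulo p to an element of the A-subalgebra of B
generated by the p-th powers (g lifts a relative Frobenius). Then d(g(x)) = 0 in the module of
Kähler differentials of B over A for every x ∈ C that is congruent modulo p to an element of the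
A-subalgebra of C generated by the p-th powers. (The source works with a lifting of the relative
Frobenius of a smooth scheme over a ℤ/p²-thickening and the subsheaf of functions whose reduction
comes from the Frobenius twist; smoothness is not needed for this vanishing.) -/
theorem result
    (p : ℕ) [Fact p.Prime] (A : Type u) [CommRing A] (B : Type v) [CommRing B] [Algebra A B]
    (C : Type w) [CommRing C] [Algebra A C] (hp : (p : B) ^ 2 = 0)
    (g : C →ₐ[A] B)
    (hg : ∀ c : C, ∃ u ∈ Algebra.adjoin A (Set.range fun b : B => b ^ p),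
      g c - u ∈ Ideal.span ({(p : B)} : Set B))
    (x y : C) (hy : y ∈ Algebra.adjoin A (Set.range fun c : C => c ^ p))
    (hxy : x - y ∈ Ideal.span ({(p : C)} : Set C)) :
    KaehlerDifferential.D A B (g x) = 0 := by
  set D := KaehlerDifferential.D A B with hD
  have key : ∀ a b : B, (p : B) ∣ a - b → a ^ p = b ^ p := by
    intro a b hab
    have := dvd_sub_pow_of_dvd_sub hab 1
    rw [pow_one, show (1 + 1 : ℕ) = 2 from rfl, hp, zero_dvd_iff, sub_eq_zero] at this
    exact this
  have hpp : ∀ ω : KaehlerDifferential A B, (p : B) • (p : B) • ω = 0 := by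
    intro ω; rw [smul_smul, ← sq, hp, zero_smul]
  have hDp : ∀ b : B, D ((p : B) * b) = (p : B) • D b := by
    intro b
    rw [Derivation.leibniz, show D (p : B) = 0 from by
      rw [← map_natCast (algebraMap A B)]; exact D.map_algebraMap _]
    simp
  -- Step 2: D u ∈ p Ω for u in the adjoin
  have step2 : ∀ u ∈ Algebra.adjoin A (Set.range fun b : B => b ^ p),
      ∃ ω : KaehlerDifferential A B, D u = (p : B) • ω := by
    intro u hu
    induction hu using Algebra.adjoin_induction with
    | mem x hx =>
      obtain ⟨b, rfl⟩ := hx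
      refine ⟨b ^ (p - 1) • D b, ?_⟩
      show D (b ^ p) = _
      rw [Derivation.leibniz_pow, Nat.cast_smul_eq_nsmul B]
    | algebraMap r => exact ⟨0, by rw [smul_zero]; exact D.map_algebraMap r⟩
    | add x y _ _ hx hy =>
      obtain ⟨ω₁, h₁⟩ := hx; obtain ⟨ω₂, h₂⟩ := hy
      exact ⟨ω₁ + ω₂, by rw [map_add, h₁, h₂, smul_add]⟩
    | mul x y _ _ hx hy =>
      obtain ⟨ω₁, h₁⟩ := hx; obtain ⟨ω₂, h₂⟩ := hy
      refine ⟨x • ω₂ + y • ω₁, ?_⟩
      rw [Derivation.leibniz, h₁, h₂, smul_add, smul_comm x, smul_comm y]
  -- Step 3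
  have step3 : ∀ c : C, D (g (c ^ p)) = 0 := by
    intro c
    obtain ⟨u, hu, hcu⟩ := hg c
    rw [map_pow, key _ _ (Ideal.mem_span_singleton.mp hcu), Derivation.leibniz_pow]
    obtain ⟨ω, hω⟩ := step2 u hu
    rw [hω, ← Nat.cast_smul_eq_nsmul B, smul_comm (u ^ (p - 1)), hpp]
  -- Step 4
  have step4' : ∀ z ∈ Algebra.adjoin A (Set.range fun c : C => c ^ p), D (g z) = 0 := by
    intro z hz
    induction hz using Algebra.adjoin_induction with
    | mem x hx => obtain ⟨c, rfl⟩ := hx; exact step3 c
    | algebraMap r => rw [AlgHom.commutes]; exact D.map_algebraMap r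
    | add x y _ _ hx hy => rw [map_add, map_add, hx, hy, add_zero]
    | mul x y _ _ hx hy => rw [map_mul, Derivation.leibniz, hx, hy, smul_zero, smul_zero, add_zero]
  have step4 : D (g y) = 0 := step4' y hy
  obtain ⟨c, hc⟩ := Ideal.mem_span_singleton.mp hxy
  have hx : x = y + (p : C) * c := by rw [← hc]; ring
  rw [hx, map_add, map_add, step4, zero_add, map_mul, map_natCast, hDp]
  obtain ⟨u, hu, hcu⟩ := hg c
  obtain ⟨b', hb'⟩ := Ideal.mem_span_singleton.mp hcu
  obtain ⟨ω, hω⟩ := step2 u hu
  have : g c = u + (p : B) * b' := by rw [← hb']; ring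
  rw [this, map_add, hDp, hω, ← smul_add, hpp]

end Groth.Agent.S16374
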