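import Groth.Statements.S1638
import Mathlib
import Groth.Agent.Lead.TensorIdeal

set_option autoImplicit false
universe u
open Brauer

namespace Groth.Agent.S1638

open TensorProduct Module Groth.Agent.Lead.TensorIdeal

section
variable {k : Type u} [Field k] {A A' : Type u} [Ring A] [Ring A'] [Algebra k A] [Algebra k A']

/-- coordinates with respect to a basis of the right factor -/
noncomputable def coordsR {ι : Type*} [DecidableEq ι] (b : Basis ι k A') :
    A ⊗[k] A' ≃ₗ[k] (ι →₀ A) :=
  TensorProduct.equivFinsuppOfBasisRight b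

theorem coordsR_tmul {ι : Type*} [DecidableEq ι] (b : Basis ι k A') (a : A) (a' : A') (i : ι) :
    coordsR b (a ⊗ₜ[k] a') i = b.repr a' i • a :=
  TensorProduct.equivFinsuppOfBasisRight_apply_tmul_apply b a a' i

theorem coordsR_mul_left {ι : Type*} [DecidableEq ι] (b : Basis ι k A') (u : A) (x : A ⊗[k] A')
    (i : ι) : coordsR b ((u ⊗ₜ[k] (1 : A')) * x) i = u * coordsR b x i := by
  induction x with
  | zero => simp
  | tmul a c =>
    rw [Algebra.TensorProduct.tmul_mul_tmul, one_mul, coordsR_tmul, coordsR_tmul, mul_smul_comm]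
  | add x y hx hy => rw [mul_add, map_add, Finsupp.add_apply, hx, hy, map_add, Finsupp.add_apply,
      mul_add]

theorem coordsR_mul_right {ι : Type*} [DecidableEq ι] (b : Basis ι k A') (v : A) (x : A ⊗[k] A')
    (i : ι) : coordsR b (x * (v ⊗ₜ[k] (1 : A'))) i = coordsR b x i * v := by
  induction x with
  | zero => simp
  | tmul a c =>
    rw [Algebra.TensorProduct.tmul_mul_tmul, mul_one, coordsR_tmul, coordsR_tmul, smul_mul_assoc]
  | add x y hx hy => rw [add_mul, map_add, Finsupp.add_apply, hx, hy, map_add, Finsupp.add_apply,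
      add_mul]

theorem eq_sum_coordsR {ι : Type*} [DecidableEq ι] (b : Basis ι k A') (x : A ⊗[k] A') :
    x = (coordsR b x).sum fun i a => a ⊗ₜ[k] b i := by
  conv_lhs => rw [← (coordsR b).symm_apply_apply x]
  exact TensorProduct.equivFinsuppOfBasisRight_symm_apply b _

end

/-- Let A and A' be algebras over a field k with subalgebras B ⊆ A and B' ⊆ A' having centralizers C and
C'. Then the centralizer of the image of B ⊗ B' in A ⊗_k A' is the image of C ⊗_k C'. -/
theorem result (k : Type u) [Field k] (A A' : Type u) [Ring A] [Ring A'] [Algebra k A] [Algebra k A']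
    (B : Subalgebra k A) (B' : Subalgebra k A') :
    Subalgebra.centralizer k ((Algebra.TensorProduct.map B.val B'.val).range : Set (TensorProduct k A A')) =
      (Algebra.TensorProduct.map (Subalgebra.centralizer k (B : Set A)).val (Subalgebra.centralizer k (B' : Set A')).val).range := by
  classical
  set C := Subalgebra.centralizer k (B : Set A) with hC
  set C' := Subalgebra.centralizer k (B' : Set A') with hC'
  apply le_antisymm
  · intro z hz
    rw [Subalgebra.mem_centralizer_iff] at hz
    have hzB : ∀ b ∈ B, (b ⊗ₜ[k] (1 : A')) * z = z * (b ⊗ₜ[k] (1 : A')) := by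
      intro b hb
      exact hz _ ⟨(⟨b, hb⟩ : B) ⊗ₜ[k] (1 : B'), by simp⟩
    have hzB' : ∀ b' ∈ B', ((1 : A) ⊗ₜ[k] b') * z = z * ((1 : A) ⊗ₜ[k] b') := by
      intro b' hb'
      exact hz _ ⟨(1 : B) ⊗ₜ[k] (⟨b', hb'⟩ : B'), by simp⟩
    -- Step 1: z lies in the image of C ⊗ A'
    let bA' := Basis.ofVectorSpace k A'
    have hcoordC : ∀ i, coordsR bA' z i ∈ C := by
      intro i
      rw [hC, Subalgebra.mem_centralizer_iff]
      intro b hb
      rw [← coordsR_mul_left, ← coordsR_mul_right, hzB b hb]
    have hz1 : ∃ w : C ⊗[k] A', Algebra.TensorProduct.map C.val (AlgHom.id k A') w = z := by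
      refine ⟨(coordsR bA' z).sum fun i _ => (⟨coordsR bA' z i, hcoordC i⟩ : C) ⊗ₜ[k] bA' i, ?_⟩
      rw [Finsupp.sum, map_sum]
      conv_rhs => rw [eq_sum_coordsR bA' z, Finsupp.sum]
      refine Finset.sum_congr rfl fun i _ => ?_
      simp
    obtain ⟨w, hw⟩ := hz1
    have hinj : Function.Injective (Algebra.TensorProduct.map C.val (AlgHom.id k A')) := by
      have : Function.Injective (LinearMap.rTensor A' C.val.toLinearMap) :=
        Module.Flat.rTensor_preserves_injective_linearMap _ Subtype.val_injective
      intro x y hxy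
      apply this
      exact hxy
    -- Step 2
    let bC := Basis.ofVectorSpace k C
    have hwB' : ∀ b' ∈ B', ((1 : C) ⊗ₜ[k] b') * w = w * ((1 : C) ⊗ₜ[k] b') := by
      intro b' hb'
      apply hinj
      rw [map_mul, map_mul, hw]
      simpa using hzB' b' hb'
    have hcoordC' : ∀ j, coords bC w j ∈ C' := by
      intro j
      rw [hC', Subalgebra.mem_centralizer_iff]
      intro b' hb'
      rw [← coords_mul_left, ← coords_mul_right, hwB' b' hb']
    refine ⟨(coords bC w).sum fun j _ => bC j ⊗ₜ[k] (⟨coords bC w j, hcoordC' j⟩ : C'), ?_⟩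
    rw [← hw]
    conv_rhs => rw [eq_sum_coords bC w]
    rw [Finsupp.sum, Finsupp.sum, map_sum, map_sum]
    refine Finset.sum_congr rfl fun j _ => ?_
    simp
  · rintro _ ⟨w, rfl⟩
    rw [Subalgebra.mem_centralizer_iff]
    rintro _ ⟨v, rfl⟩
    induction w with
    | zero => simp
    | add x y hx hy => rw [map_add, mul_add, add_mul, hx, hy]
    | tmul c c' =>
      induction v with
      | zero => simp
      | add x y hx hy => rw [map_add, mul_add, add_mul, hx, hy]
      | tmul b b' =>
        change (Algebra.TensorProduct.map B.val B'.val) (b ⊗ₜ[k] b') *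
          (Algebra.TensorProduct.map C.val C'.val) (c ⊗ₜ[k] c') =
          (Algebra.TensorProduct.map C.val C'.val) (c ⊗ₜ[k] c') *
          (Algebra.TensorProduct.map B.val B'.val) (b ⊗ₜ[k] b')
        rw [Algebra.TensorProduct.map_tmul, Algebra.TensorProduct.map_tmul,
          Algebra.TensorProduct.tmul_mul_tmul, Algebra.TensorProduct.tmul_mul_tmul]
        simp only [Subalgebra.coe_val]
        have h1 : (b : A) * (c : A) = (c : A) * (b : A) :=
          (Subalgebra.mem_centralizer_iff k).1 c.2 b b.2
        have h2 : (b' : A') * (c' : A') = (c' : A') * (b' : A') :=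
          (Subalgebra.mem_centralizer_iff k).1 c'.2 b' b'.2
        rw [h1, h2]

end Groth.Agent.S1638
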