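import Groth.Statements.S16396
import Mathlib

set_option autoImplicit false
universe u
open CAlg

namespace Groth.Agent.S16396

open Polynomial in
/-- For a commutative ℚ-algebra A, a ℚ-subalgebra B of the polynomial algebra A[X] that contains X and
is closed under d/dX consists exactly of the polynomials each of whose coefficients is the value at
0 of some element of B; in other words B = ev(B)[X], with ev the evaluation at 0. -/
theorem result
    (A : Type u) [CommRing A] [Algebra ℚ A] (B : Subalgebra ℚ A[X])
    (hX : (X : A[X]) ∈ B) (hD : ∀ P ∈ B, Polynomial.derivative P ∈ B) (P : A[X]) :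
    P ∈ B ↔ ∀ i : ℕ, ∃ Q ∈ B, Polynomial.eval 0 Q = P.coeff i := by
  -- constants of elements of B lie in B
  have hconst : ∀ d : ℕ, ∀ Q ∈ B, Q.natDegree ≤ d → C (Q.coeff 0) ∈ B := by
    intro d
    induction d with
    | zero =>
      intro Q hQ hdeg
      rw [← Polynomial.eq_C_of_natDegree_le_zero hdeg]
      exact hQ
    | succ d ih =>
      intro Q hQ hdeg
      have hQ' : Q - ((1 : ℚ) / ((d : ℚ) + 1)) • (X * derivative Q) ∈ B :=
        B.sub_mem hQ (B.smul_mem (B.mul_mem hX (hD Q hQ)) _)
      have hd1 : ((d : ℚ) + 1) ≠ 0 := by positivity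
      have hcoef : ∀ m : ℕ, (Q - ((1 : ℚ) / ((d : ℚ) + 1)) • (X * derivative Q)).coeff m =
          Q.coeff m - ((1 : ℚ) / ((d : ℚ) + 1)) • ((m : A) * Q.coeff m) := by
        intro m
        rw [coeff_sub, coeff_smul]
        rcases m with _ | m
        · simp
        · rw [coeff_X_mul, coeff_derivative]
          push_cast
          ring_nf
      have h0 : (Q - ((1 : ℚ) / ((d : ℚ) + 1)) • (X * derivative Q)).coeff 0 = Q.coeff 0 := by
        rw [hcoef]; simp
      rw [← h0]
      refine ih _ hQ' ?_
      rw [Polynomial.natDegree_le_iff_coeff_eq_zero]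
      intro N hN
      rw [hcoef]
      rcases Nat.lt_or_ge (d + 1) N with h | h
      · rw [(Polynomial.natDegree_le_iff_coeff_eq_zero.mp hdeg) N h]; simp
      · have hN' : N = d + 1 := by omega
        subst hN'
        have : ((d + 1 : ℕ) : A) * Q.coeff (d + 1) = (((d : ℚ) + 1)) • Q.coeff (d + 1) := by
          have h1 : ((d : ℚ) + 1) = ((d + 1 : ℕ) : ℚ) := by push_cast; rfl
          rw [h1, Nat.cast_smul_eq_nsmul ℚ, nsmul_eq_mul]
        rw [this, smul_smul, one_div, inv_mul_cancel₀ hd1, one_smul, sub_self]
  constructor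
  · intro hP i
    have hDi : ∀ k : ℕ, derivative^[k] P ∈ B := by
      intro k
      induction k with
      | zero => exact hP
      | succ k ih => rw [Function.iterate_succ_apply']; exact hD _ ih
    refine ⟨((1 : ℚ) / (i.factorial : ℚ)) • derivative^[i] P, B.smul_mem (hDi i) _, ?_⟩
    rw [← Polynomial.coeff_zero_eq_eval_zero, coeff_smul, Polynomial.coeff_iterate_derivative, zero_add,
      Nat.descFactorial_self, ← Nat.cast_smul_eq_nsmul ℚ, smul_smul, one_div,
      inv_mul_cancel₀ (by exact_mod_cast i.factorial_ne_zero), one_smul]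
  · intro h
    rw [Polynomial.as_sum_range_C_mul_X_pow P]
    refine B.sum_mem fun i _ => ?_
    obtain ⟨Q, hQ, hQi⟩ := h i
    refine B.mul_mem ?_ (B.pow_mem hX i)
    rw [← hQi, ← Polynomial.coeff_zero_eq_eval_zero]
    exact hconst _ Q hQ le_rfl

end Groth.Agent.S16396
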