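import Groth.Statements.S16400
import Mathlib

set_option autoImplicit false
universe u v
open CAlgX

namespace Groth.Agent.S16400

/-- row selection: a matrix with independent columns has a square bijective row-block -/
lemma rowSelect {K : Type u} [Field K] {N : Type v} [Fintype N] [DecidableEq N]
    {S : Type v} [Fintype S] [DecidableEq S] (M : Matrix N S K)
    (hM : Function.Injective M.mulVec) :
    ∃ N₃ : Finset N, Function.Bijective (M.submatrix (Subtype.val : ↥N₃ → N) id).mulVecLin := by
  classical
  obtain ⟨b, -, -, hbspan, hbli⟩ := exists_linearIndepOn_extension (K := K) (v := M.row)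
    (s := ∅) (t := Set.univ) (linearIndepOn_empty K _) (Set.empty_subset _)
  refine ⟨b.toFinset, ?_⟩
  have hinj : Function.Injective (M.submatrix (Subtype.val : ↥b.toFinset → N) id).mulVecLin := by
    rw [← LinearMap.ker_eq_bot, Matrix.ker_mulVecLin_eq_bot_iff]
    intro c hc
    apply hM
    rw [Matrix.mulVec_zero]
    -- the functional `r ↦ r ⬝ᵥ c` vanishes on rows in b, hence on all rows
    let φ : (S → K) →ₗ[K] K :=
      { toFun := fun r => r ⬝ᵥ c
        map_add' := fun r r' => add_dotProduct r r' c
        map_smul' := fun a r => by simp [smul_dotProduct] }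
    have hφb : ∀ i ∈ b, φ (M.row i) = 0 := by
      intro i hi
      have := congrFun hc ⟨i, Set.mem_toFinset.mpr hi⟩
      have h2 : (fun j => M i j) ⬝ᵥ c = 0 := by
        simpa [Matrix.mulVec, Matrix.submatrix] using this
      exact h2
    have hspanφ : Submodule.span K (M.row '' b) ≤ LinearMap.ker φ := by
      rw [Submodule.span_le]
      rintro _ ⟨i, hi, rfl⟩
      exact hφb i hi
    funext i
    have hi : M.row i ∈ Submodule.span K (M.row '' b) := hbspan ⟨i, Set.mem_univ i, rfl⟩
    have h2 : M.row i ⬝ᵥ c = 0 := hspanφ hi
    exact h2
  refine ⟨hinj, ?_⟩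
  -- dimension count
  have hle : Fintype.card ↥b.toFinset ≤ Fintype.card S := by
    have hli : LinearIndependent K (fun x : ↥b.toFinset => M.row x.1) := by
      have h1 : LinearIndependent K (fun x : b => M.row x.1) := hbli
      exact h1.comp (fun x : ↥b.toFinset => (⟨x.1, Set.mem_toFinset.mp x.2⟩ : b))
        (fun x y hxy => Subtype.ext (by simpa using congrArg Subtype.val hxy))
    simpa using hli.fintype_card_le_finrank
  have hge : Fintype.card S ≤ Fintype.card ↥b.toFinset := by
    have := LinearMap.finrank_le_finrank_of_injective hinj
    simpa using this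
  have heq : Module.finrank K (S → K) = Module.finrank K (↥b.toFinset → K) := by
    simp only [Module.finrank_fintype_fun_eq_card]
    exact le_antisymm hge hle
  exact (LinearMap.injective_iff_surjective_of_finrank_eq_finrank heq).mp hinj

/-- Let K be a field, N a finite index set and A a square matrix over K indexed by N whose linear map on
column vectors has kernel equal to its range (so A composed with A is zero and the three-term
sequence it defines is exact in the middle). Then there are subsets N₁₂, N₂₁, N₃₁ of N such that the
block of A with rows in N₃₁ and columns in N₂₁, and the block of A with rows outside N₂₁ and columns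
in N₁₂, both act bijectively on column vectors. (In the original setting K is the prime field and
middle exactness is supplied by the Cartier isomorphism; here exactness is the hypothesis and K is
any field.) -/
theorem result
    {K : Type u} [Field K] {N : Type v} [Fintype N] [DecidableEq N]
    (A : Matrix N N K)
    (hA : LinearMap.ker A.mulVecLin = LinearMap.range A.mulVecLin) :
    ∃ N₁₂ N₂₁ N₃₁ : Finset N,
      Function.Bijective (A.submatrix (Subtype.val : ↥N₃₁ → N) (Subtype.val : ↥N₂₁ → N)).mulVecLin ∧
      Function.Bijective
        (A.submatrix (Subtype.val : {x : N // x ∉ N₂₁} → N) (Subtype.val : ↥N₁₂ → N)).mulVecLin := by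
  classical
  obtain ⟨b, -, -, hbspan, hbli⟩ := exists_linearIndepOn_extension (K := K) (v := A.col)
    (s := ∅) (t := Set.univ) (linearIndepOn_empty K _) (Set.empty_subset _)
  set S : Finset N := b.toFinset with hS
  let M : Matrix N ↥S K := A.submatrix id (Subtype.val : ↥S → N)
  have hMcol : LinearIndependent K M.col := by
    have h1 : LinearIndependent K (fun x : b => A.col x.1) := hbli
    exact h1.comp (fun x : ↥S => (⟨x.1, Set.mem_toFinset.mp x.2⟩ : b))
      (fun x y hxy => Subtype.ext (by simpa using congrArg Subtype.val hxy))
  have hMinj : Function.Injective M.mulVec := Matrix.mulVec_injective_iff.mpr hMcol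
  obtain ⟨N₃, hN₃⟩ := rowSelect M hMinj
  refine ⟨S, S, N₃, ?_, ?_⟩
  · exact hN₃
  · -- second block
    have hrange : LinearMap.range A.mulVecLin = Submodule.span K (Set.range M.col) := by
      rw [Matrix.range_mulVecLin]
      apply le_antisymm
      · rw [Submodule.span_le]
        rintro _ ⟨j, rfl⟩
        have hj := hbspan ⟨j, Set.mem_univ j, rfl⟩
        refine Submodule.span_mono ?_ hj
        rintro _ ⟨i, hi, rfl⟩
        exact ⟨⟨i, Set.mem_toFinset.mpr hi⟩, rfl⟩
      · apply Submodule.span_mono
        rintro _ ⟨j, rfl⟩
        exact ⟨j.1, rfl⟩
    have hfr : Module.finrank K (LinearMap.range A.mulVecLin) = Fintype.card ↥S := by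
      rw [hrange]
      exact finrank_span_eq_card hMcol
    have hcard : Fintype.card N = 2 * Fintype.card ↥S := by
      have := LinearMap.finrank_range_add_finrank_ker A.mulVecLin
      rw [hA, hfr, Module.finrank_fintype_fun_eq_card] at this
      omega
    have hinj : Function.Injective
        (A.submatrix (Subtype.val : {x : N // x ∉ S} → N) (Subtype.val : ↥S → N)).mulVecLin := by
      rw [← LinearMap.ker_eq_bot, Matrix.ker_mulVecLin_eq_bot_iff]
      intro c hc
      apply hMinj
      rw [Matrix.mulVec_zero]
      set w : N → K := M.mulVec c with hw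
      -- w vanishes outside S
      have hw0 : ∀ i, i ∉ S → w i = 0 := by
        intro i hi
        have := congrFun hc ⟨i, hi⟩
        simpa [Matrix.mulVec, Matrix.submatrix, hw, M] using this
      -- w is in the range of A, hence in its kernel
      have hwr : w ∈ LinearMap.range A.mulVecLin := by
        rw [hrange, ← Matrix.range_mulVecLin]
        exact ⟨c, rfl⟩
      rw [← hA, LinearMap.mem_ker, Matrix.mulVecLin_apply] at hwr
      -- A w = M (w restricted to S)
      have hAw : A.mulVec w = M.mulVec (fun j : ↥S => w j.1) := by
        funext i
        simp only [Matrix.mulVec, dotProduct, M, Matrix.submatrix_apply, id_eq]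
        rw [← Finset.sum_subset (Finset.subset_univ S)]
        · exact (Finset.sum_coe_sort S (fun j => A i j * w j)).symm
        · intro j _ hj
          rw [hw0 j hj, mul_zero]
      rw [hAw] at hwr
      have hwS : (fun j : ↥S => w j.1) = 0 := hMinj (by rw [hwr, Matrix.mulVec_zero])
      funext i
      by_cases hi : i ∈ S
      · exact congrFun hwS ⟨i, hi⟩
      · exact hw0 i hi
    have heq : Module.finrank K (↥S → K) = Module.finrank K ({x : N // x ∉ S} → K) := by
      simp only [Module.finrank_fintype_fun_eq_card]
      have h1 : Fintype.card {x : N // x ∉ S} = Fintype.card N - Fintype.card ↥S := by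
        rw [Fintype.card_subtype_compl]
      rw [h1, hcard]
      omega
    exact ⟨hinj, (LinearMap.injective_iff_surjective_of_finrank_eq_finrank heq).mp hinj⟩

end Groth.Agent.S16400
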