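import Groth.Statements.S16401
import Mathlib

set_option autoImplicit false
universe u v
open CAlgX

namespace Groth.Agent.S16401

/-- Let R be a commutative ring and (E_a), a ∈ ι, a family of additive subgroups of R indexed by an
additive commutative group ι, with E_0 = R and E_a · E_b ⊆ E_{a+b}. Let β, γ : Fin r → ι be weight
vectors with Σ_j β_j = Σ_i γ_i, and let ϑ be an r × r matrix over R with ϑ_{ij} ∈ E_{γ_i − β_j} for
all i, j and with unit determinant. Then a column vector u satisfies u_j ∈ E_{β_j} for every j if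
and only if (ϑ u)_i ∈ E_{γ_i} for every i; since ϑ is invertible this says that ϑ maps the box Π_j
E_{β_j} bijectively onto the box Π_i E_{γ_i}. -/
theorem result
    {R : Type u} [CommRing R] {ι : Type v} [AddCommGroup ι]
    (E : ι → AddSubgroup R) (h0 : E 0 = ⊤)
    (hmul : ∀ a b : ι, ∀ x ∈ E a, ∀ y ∈ E b, x * y ∈ E (a + b))
    {r : ℕ} (wβ wγ : Fin r → ι) (hsum : ∑ j, wβ j = ∑ i, wγ i)
    (ϑ : Matrix (Fin r) (Fin r) R) (hϑ : ∀ i j, ϑ i j ∈ E (wγ i - wβ j))
    (hdet : IsUnit ϑ.det) (u : Fin r → R) :
    (∀ j, u j ∈ E (wβ j)) ↔ ∀ i, ϑ.mulVec u i ∈ E (wγ i) := by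
  classical
  -- general principle: a matrix with graded entries maps boxes to boxes
  have key : ∀ (a b : Fin r → ι) (M : Matrix (Fin r) (Fin r) R),
      (∀ i j, M i j ∈ E (b i - a j)) → ∀ v : Fin r → R, (∀ j, v j ∈ E (a j)) →
        ∀ i, M.mulVec v i ∈ E (b i) := by
    intro a b M hM v hv i
    rw [Matrix.mulVec, dotProduct]
    refine AddSubgroup.sum_mem _ fun j _ => ?_
    have := hmul _ _ _ (hM i j) _ (hv j)
    rwa [sub_add_cancel] at this
  have hone : ∀ a, ∀ x : R, ∀ y ∈ E a, x * y ∈ E a := by
    intro a x y hy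
    have := hmul 0 a x (by rw [h0]; trivial) y hy
    rwa [zero_add] at this
  -- finite products
  have hprod : ∀ (s : Finset (Fin r)) (f : Fin r → R) (w : Fin r → ι),
      (∀ k ∈ s, f k ∈ E (w k)) → ∏ k ∈ s, f k ∈ E (∑ k ∈ s, w k) := by
    intro s f w
    induction s using Finset.induction_on with
    | empty => intro _; simp [h0]
    | insert a s ha ih =>
      intro h
      rw [Finset.prod_insert ha, Finset.sum_insert ha]
      exact hmul _ _ _ (h a (Finset.mem_insert_self a s)) _
        (ih fun k hk => h k (Finset.mem_insert_of_mem hk))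
  constructor
  · exact key wβ wγ ϑ hϑ u
  · intro h
    -- adjugate entries
    have hadj : ∀ i j, ϑ.adjugate i j ∈ E (wβ i - wγ j) := by
      intro i j
      rw [Matrix.adjugate_apply, Matrix.det_apply]
      refine AddSubgroup.sum_mem _ fun σ _ => ?_
      have hsgn : ∀ x ∈ E (wβ i - wγ j), Equiv.Perm.sign σ • x ∈ E (wβ i - wγ j) := by
        intro x hx
        rcases Int.units_eq_one_or (Equiv.Perm.sign σ) with hs | hs
        · rw [hs, one_smul]; exact hx
        · rw [hs, Units.neg_smul, one_smul]; exact (E _).neg_mem hx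
      apply hsgn
      by_cases hσ : σ i = j
      · -- product over k ≠ i
        rw [← Finset.mul_prod_erase Finset.univ _ (Finset.mem_univ i)]
        apply hone
        have hp := hprod (Finset.univ.erase i)
          (fun k => (ϑ.updateRow j (Pi.single i 1)) (σ k) k) (fun k => wγ (σ k) - wβ k) (by
            intro k hk
            have hki : k ≠ i := Finset.ne_of_mem_erase hk
            have : σ k ≠ j := fun hkj => hki (σ.injective (hkj.trans hσ.symm))
            simp only [Matrix.updateRow_ne this]
            exact hϑ _ _)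
        convert hp using 2
        have e1 : ∑ k ∈ Finset.univ.erase i, (wγ (σ k) - wβ k) =
            (∑ k, (wγ (σ k) - wβ k)) - (wγ (σ i) - wβ i) := by
          rw [← Finset.add_sum_erase Finset.univ _ (Finset.mem_univ i)]; abel
        rw [e1, Finset.sum_sub_distrib, Equiv.sum_comp σ wγ, hsum, sub_self, hσ]
        abel
      · -- the product vanishes
        have : ∏ k, (ϑ.updateRow j (Pi.single i 1)) (σ k) k = 0 := by
          apply Finset.prod_eq_zero (Finset.mem_univ (σ⁻¹ j))
          have hk : σ⁻¹ j ≠ i := fun hk => hσ (by rw [← hk]; simp)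
          have hk' : (Equiv.symm σ) j ≠ i := hk
          simp [Matrix.updateRow_self, Pi.single_eq_of_ne hk']
        rw [this]
        exact (E _).zero_mem
    have hinv : ∀ i j, (ϑ⁻¹) i j ∈ E (wβ i - wγ j) := by
      intro i j
      rw [Matrix.inv_def, Matrix.smul_apply, smul_eq_mul]
      exact hone _ _ _ (hadj i j)
    have h2 := key wγ wβ ϑ⁻¹ hinv (ϑ.mulVec u) h
    have h3 : (ϑ⁻¹).mulVec (ϑ.mulVec u) = u := by
      rw [Matrix.mulVec_mulVec, Matrix.nonsing_inv_mul _ hdet, Matrix.one_mulVec]
    rw [h3] at h2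
    exact h2

end Groth.Agent.S16401
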