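import Groth.Statements.S16415
import Mathlib

set_option autoImplicit false
open Dieud

namespace Groth.Agent.S16415

/-- Let μ be a rational number with 0 < μ ≤ 1, N a natural number and i an integer. The minimum of m +
jμ over all pairs of integers (m, j) with m ≥ max(−i−j, −j, 0) and 2m + i + 2j ≥ N exists and equals
μ · max(⌈(N−i)/2⌉, −i, 0). (The published statement prints the value as max(⌈(N−i)/2⌉, −iμ, 0),
without the factor μ on the first term; the printed argument computes μ · max(⌈(N−i)/2⌉, −i, 0),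
attained at m = 0, and for N = 2, i = 0, μ = 1/2 the pair (m, j) = (0, 1) gives 1/2 < 1, so the
value with the factor μ is stated here.) -/
theorem result (μ : ℚ) (hμ0 : 0 < μ) (hμ1 : μ ≤ 1)
    (N : ℕ) (i : ℤ) :
    IsLeast {x : ℚ | ∃ m j : ℤ, max (max (-i - j) (-j)) 0 ≤ m ∧ (N : ℤ) ≤ 2 * m + i + 2 * j ∧
        x = (m : ℚ) + (j : ℚ) * μ}
      (((max (max ⌈((N : ℚ) - i) / 2⌉ (-i)) 0 : ℤ) : ℚ) * μ) := by
  set J : ℤ := max (max ⌈((N : ℚ) - i) / 2⌉ (-i)) 0 with hJ
  have hJ1 : ⌈((N : ℚ) - i) / 2⌉ ≤ J := le_trans (le_max_left _ _) (le_max_left _ _)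
  have hJ2 : -i ≤ J := le_trans (le_max_right _ _) (le_max_left _ _)
  have hJ3 : 0 ≤ J := le_max_right _ _
  constructor
  · refine ⟨0, J, ?_, ?_, by simp⟩
    · simp only [max_le_iff]
      refine ⟨⟨by omega, by omega⟩, le_refl _⟩
    · have h1 : ((N : ℚ) - i) / 2 ≤ (J : ℚ) := le_trans (Int.le_ceil _) (by exact_mod_cast hJ1)
      have h2 : (N : ℚ) ≤ 2 * 0 + i + 2 * J := by linarith
      exact_mod_cast h2
  · rintro x ⟨m, j, h1, h2, rfl⟩
    simp only [max_le_iff] at h1
    obtain ⟨⟨h1a, h1b⟩, h1c⟩ := h1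
    have hJle : J ≤ m + j := by
      rw [hJ]
      simp only [max_le_iff]
      refine ⟨⟨?_, by omega⟩, by omega⟩
      rw [Int.ceil_le]
      have : (N : ℚ) ≤ 2 * m + i + 2 * j := by exact_mod_cast h2
      push_cast
      linarith
    have hm : (0 : ℚ) ≤ m := by exact_mod_cast h1c
    have hJle' : (J : ℚ) ≤ m + j := by exact_mod_cast hJle
    calc (J : ℚ) * μ ≤ ((m : ℚ) + j) * μ := mul_le_mul_of_nonneg_right hJle' hμ0.le
      _ = m * μ + j * μ := by ring
      _ ≤ m + j * μ := by nlinarith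

end Groth.Agent.S16415
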