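import Groth.Statements.S16417
import Mathlib
import Groth.Agent.Helper7.DdHomC

set_option autoImplicit false
universe u v w
open Dieud

namespace Groth.Agent.S16417

/-- For a prime p and a perfect field k of characteristic p, write W = W(k) for the ring of Witt vectors
and σ for its Frobenius; let M and N be free W-modules of finite rank, each with additive maps F
(σ-semilinear) and V (with V(σ(a)m) = aV(m)) satisfying FV = VF = p, and H = Hom_W(M, N); write VM ⊆
M and VN ⊆ N for the images of V. (a) A W-linear h : M → N maps VM into VN if and only if h(V m) =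
V(h'(m)) for all m for some W-linear h' : M → N (so the maps with this property form H ∩ V·H). (b)
The natural map from H to the W-linear maps VM → N/VN has image exactly the maps vanishing on pM =
V(FM): every such map is induced by some h ∈ H. (c) The W-length of H/(H ∩ V·H) is r₂ s₁, where r₂
is the length of N/VN and s₁ = rank M − length(M/VM) is the length of VM/pM. (The published
statement is for the Cartier modules of two p-divisible formal groups over k, every slope of the
first below every slope of the second, and phrases (b), (c) as an isomorphism of H/(H ∩ VH) with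
Hom_k(VM/pM, N/VN); only the structure listed is used, so connectedness and the slope condition are
not assumed.) -/
theorem result
    (p : ℕ) [Fact p.Prime] (k : Type u) [Field k] [CharP k p] [PerfectRing k p]
    (M : Type v) [AddCommGroup M] [Module (WittVector p k) M]
    [Module.Free (WittVector p k) M] [Module.Finite (WittVector p k) M]
    (N : Type w) [AddCommGroup N] [Module (WittVector p k) N]
    [Module.Free (WittVector p k) N] [Module.Finite (WittVector p k) N]
    (FM VM : M →+ M) (FN VN : N →+ N)
    (hFM : ∀ (a : WittVector p k) (m : M), FM (a • m) = WittVector.frobenius a • FM m)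
    (hVM : ∀ (a : WittVector p k) (m : M), VM (WittVector.frobenius a • m) = a • VM m)
    (hFVM : ∀ m : M, FM (VM m) = (p : WittVector p k) • m)
    (hVFM : ∀ m : M, VM (FM m) = (p : WittVector p k) • m)
    (hFN : ∀ (a : WittVector p k) (n : N), FN (a • n) = WittVector.frobenius a • FN n)
    (hVN : ∀ (a : WittVector p k) (n : N), VN (WittVector.frobenius a • n) = a • VN n)
    (hFVN : ∀ n : N, FN (VN n) = (p : WittVector p k) • n)
    (hVFN : ∀ n : N, VN (FN n) = (p : WittVector p k) • n)
    (r₂ s₁ : ℕ)
    (hr₂ : Module.length (WittVector p k) (N ⧸ Submodule.span (WittVector p k) (Set.range VN)) = r₂)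
    (hs₁ : (Module.finrank (WittVector p k) M : ℕ∞) =
      Module.length (WittVector p k) (M ⧸ Submodule.span (WittVector p k) (Set.range VM)) + s₁) :
    (∀ h : M →ₗ[WittVector p k] N,
      (∀ m : M, h (VM m) ∈ Submodule.span (WittVector p k) (Set.range VN)) ↔
        ∃ h' : M →ₗ[WittVector p k] N, ∀ m : M, h (VM m) = VN (h' m)) ∧
    (∀ g : Submodule.span (WittVector p k) (Set.range VM) →ₗ[WittVector p k]
        N ⧸ Submodule.span (WittVector p k) (Set.range VN),
      (∀ m : M, g ⟨VM (FM m), Submodule.subset_span ⟨FM m, rfl⟩⟩ = 0) →
      ∃ h : M →ₗ[WittVector p k] N, ∀ x : Submodule.span (WittVector p k) (Set.range VM),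
        (Submodule.span (WittVector p k) (Set.range VN)).mkQ (h x) = g x) ∧
    Module.length (WittVector p k) ((M →ₗ[WittVector p k] N) ⧸
      ⨅ m : M, (Submodule.span (WittVector p k) (Set.range VN)).comap
        (LinearMap.applyₗ (VM m) : (M →ₗ[WittVector p k] N) →ₗ[WittVector p k] N)) = (r₂ * s₁ : ℕ) := by
  have hirr : Irreducible (p : WittVector p k) := WittVector.irreducible p
  have hPM : ∀ m : M, (p : WittVector p k) • m ∈ Submodule.span (WittVector p k) (Set.range VM) :=
    fun m => Submodule.subset_span ⟨FM m, hVFM m⟩
  have hPN : ∀ n : N, (p : WittVector p k) • n ∈ Submodule.span (WittVector p k) (Set.range VN) :=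
    fun n => Submodule.subset_span ⟨FN n, hVFN n⟩
  refine ⟨fun h => ?_, fun g hg => ?_, ?_⟩
  · refine Groth.Agent.Helper7.DdHom.verschiebung_iff (WittVector.frobenius : WittVector p k →+* _)
      (p : WittVector p k) (WittVector.frobenius_bijective p k).surjective ?_ VM FN VN hVM hVN hFVN h
    intro n hn
    exact (smul_eq_zero.mp hn).resolve_left hirr.ne_zero
  · refine Groth.Agent.Helper7.DdHom.exists_lift_of_vanish (p : WittVector p k) hirr _ hPM _ g ?_
    intro m
    have h1 : (⟨(p : WittVector p k) • m, hPM m⟩ :
        Submodule.span (WittVector p k) (Set.range VM)) =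
        ⟨VM (FM m), Submodule.subset_span ⟨FM m, rfl⟩⟩ := Subtype.ext (hVFM m).symm
    rw [h1]
    exact hg m
  · have hK : (⨅ m : M, (Submodule.span (WittVector p k) (Set.range VN)).comap
        (LinearMap.applyₗ (VM m) : (M →ₗ[WittVector p k] N) →ₗ[WittVector p k] N)) =
        ⨅ x : Submodule.span (WittVector p k) (Set.range VM),
          (Submodule.span (WittVector p k) (Set.range VN)).comap
            (LinearMap.applyₗ (x : M) : (M →ₗ[WittVector p k] N) →ₗ[WittVector p k] N) := by
      ext h
      simp only [Submodule.mem_iInf, Submodule.mem_comap, LinearMap.applyₗ_apply_apply]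
      constructor
      · rintro hh ⟨x, hx⟩
        have hle : Submodule.span (WittVector p k) (Set.range VM) ≤
            (Submodule.span (WittVector p k) (Set.range VN)).comap h := by
          rw [Submodule.span_le]
          rintro _ ⟨m, rfl⟩
          exact hh m
        exact hle hx
      · intro hh m
        exact hh ⟨VM m, Submodule.subset_span ⟨m, rfl⟩⟩
    rw [hK]
    exact Groth.Agent.Helper7.DdHom.length_hom_quot (p : WittVector p k) hirr _ hPM _ hPN r₂ s₁ hr₂ hs₁

end Groth.Agent.S16417
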