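import Groth.Statements.S16422
import Mathlib

set_option autoImplicit false
universe u
open GrMod

namespace Groth.Agent.S16422

open DirectSum in
/-- graded component of `s • e` for homogeneous `e`. -/
theorem decompose_smul_homog {S : Type u} [CommRing S] (𝒜 : ℤ → AddSubgroup S) [GradedRing 𝒜]
    {M : Type u} [AddCommGroup M] [Module S M] (ℳ : ℤ → AddSubgroup M)
    [DirectSum.Decomposition ℳ] [SetLike.GradedSMul 𝒜 ℳ]
    (s : S) (d : ℤ) (e : M) (he : e ∈ ℳ d) (n : ℤ) :
    (decompose ℳ (s • e) n : M) = (decompose 𝒜 s (n - d) : S) • e := by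
  classical
  have hs := DirectSum.sum_support_decompose 𝒜 s
  conv_lhs => rw [← hs, Finset.sum_smul, decompose_sum, DFinsupp.finset_sum_apply,
    AddSubmonoidClass.coe_finsetSum]
  have hterm : ∀ a : ℤ, (decompose ℳ ((decompose 𝒜 s a : S) • e) n : M) =
      if a + d = n then (decompose 𝒜 s a : S) • e else 0 := by
    intro a
    have hmem : (decompose 𝒜 s a : S) • e ∈ ℳ (a + d) :=
      SetLike.GradedSMul.smul_mem (decompose 𝒜 s a).2 he
    split_ifs with h
    · rw [← h]
      exact DirectSum.decompose_of_mem_same ℳ hmem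
    · exact DirectSum.decompose_of_mem_ne ℳ hmem h
  simp only [hterm]
  rw [Finset.sum_ite, Finset.sum_const_zero, add_zero]
  by_cases hmem : (n - d) ∈ (decompose 𝒜 s).support
  · have : (decompose 𝒜 s).support.filter (fun a => a + d = n) = {n - d} := by
      ext a
      simp only [Finset.mem_filter, Finset.mem_singleton]
      constructor
      · rintro ⟨_, h⟩; omega
      · rintro rfl; exact ⟨hmem, by omega⟩
    rw [this, Finset.sum_singleton]
  · have : (decompose 𝒜 s).support.filter (fun a => a + d = n) = ∅ := by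
      ext a
      simp only [Finset.mem_filter, Finset.notMem_empty, iff_false, not_and]
      intro ha h
      apply hmem
      have : a = n - d := by omega
      rwa [← this]
    rw [this, Finset.sum_empty]
    rw [DFinsupp.notMem_support_iff] at hmem
    rw [hmem]
    simp

open DirectSum in
theorem main
    (S : Type u) [CommRing S] (𝒜 : ℤ → AddSubgroup S) [GradedRing 𝒜]
    (V : ℕ → HomogeneousIdeal 𝒜) (hV : ∀ m, (V (m + 1)).toIdeal ≤ (V m).toIdeal)
    (hsep : ∀ (n : ℤ) (s : S), s ∈ 𝒜 n → (∀ m, s ∈ (V m).toIdeal) → s = 0)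
    (hcpl : ∀ (n : ℤ) (f : ℕ → S), (∀ m, f m ∈ 𝒜 n) →
      (∀ m, f (m + 1) - f m ∈ (V m).toIdeal) → ∃ s ∈ 𝒜 n, ∀ m, s - f m ∈ (V m).toIdeal)
    (M : Type u) [AddCommGroup M] [Module S M] (ℳ : ℤ → AddSubgroup M)
    [DirectSum.Decomposition ℳ] [SetLike.GradedSMul 𝒜 ℳ]
    [Module.Finite S M] [Module.Projective S M] :
    (∀ (n : ℤ) (x : M), x ∈ ℳ n → (∀ m, x ∈ (V m).toIdeal • (⊤ : Submodule S M)) → x = 0) ∧
    (∀ (n : ℤ) (g : ℕ → M), (∀ m, g m ∈ ℳ n) →
      (∀ m, g (m + 1) - g m ∈ (V m).toIdeal • (⊤ : Submodule S M)) →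
      ∃ x ∈ ℳ n, ∀ m, x - g m ∈ (V m).toIdeal • (⊤ : Submodule S M)) := by
  classical
  -- Step 1: homogeneous generators
  obtain ⟨G₀, hG₀⟩ := (Module.Finite.fg_top : (⊤ : Submodule S M).FG)
  let T : Finset (Σ n : ℤ, ℳ n) :=
    G₀.biUnion fun g => (decompose ℳ g).support.image fun n => ⟨n, decompose ℳ g n⟩
  let e : Fin T.card ≃ T := T.equivFin.symm
  let deg : Fin T.card → ℤ := fun j => (e j).1.1
  let gen : Fin T.card → M := fun j => ((e j).1.2 : M)
  have hgen_mem : ∀ j, gen j ∈ ℳ (deg j) := fun j => (e j).1.2.2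
  have hspan : Submodule.span S (Set.range gen) = ⊤ := by
    rw [eq_top_iff, ← hG₀, Submodule.span_le]
    intro g hg
    rw [← DirectSum.sum_support_decompose ℳ g]
    refine Submodule.sum_mem _ fun n hn => Submodule.subset_span ?_
    have hmem : (⟨n, decompose ℳ g n⟩ : Σ n : ℤ, ℳ n) ∈ T :=
      Finset.mem_biUnion.mpr ⟨g, hg, Finset.mem_image.mpr ⟨n, hn, rfl⟩⟩
    refine ⟨e.symm ⟨_, hmem⟩, ?_⟩
    change ((e (e.symm ⟨_, hmem⟩)).1.2 : M) = _
    rw [Equiv.apply_symm_apply]
  -- Step 2: presentation and section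
  let p : (Fin T.card → S) →ₗ[S] M := Fintype.linearCombination S gen
  have hp : ∀ c, p c = ∑ j, c j • gen j := fun c => Fintype.linearCombination_apply S gen c
  have hpsurj : Function.Surjective p := by
    rw [← LinearMap.range_eq_top, Fintype.range_linearCombination, hspan]
  obtain ⟨i, hi⟩ := Module.projective_lifting_property p LinearMap.id hpsurj
  have hpi : ∀ x, p (i x) = x := fun x => LinearMap.congr_fun hi x
  -- Step 4: coordinates
  have hcoord : ∀ (n : ℤ) (x : M), x ∈ ℳ n →
      x = ∑ j, (decompose 𝒜 (i x j) (n - deg j) : S) • gen j := by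
    intro n x hx
    have h1 : x = ∑ j, i x j • gen j := by rw [← hp, hpi]
    have h2 : (decompose ℳ x n : M) = x := DirectSum.decompose_of_mem_same ℳ hx
    conv_lhs => rw [← h2, h1, decompose_sum, DFinsupp.finset_sum_apply,
      AddSubmonoidClass.coe_finsetSum]
    exact Finset.sum_congr rfl fun j _ =>
      decompose_smul_homog 𝒜 ℳ (i x j) (deg j) (gen j) (hgen_mem j) n
  -- Step 5: compatibility with V
  have hVi : ∀ (m : ℕ) (y : M), y ∈ (V m).toIdeal • (⊤ : Submodule S M) →
      ∀ j, i y j ∈ (V m).toIdeal := by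
    intro m y hy
    refine Submodule.smul_induction_on hy ?_ ?_
    · intro v hv z _ j
      rw [map_smul, Pi.smul_apply, smul_eq_mul]
      exact Ideal.mul_mem_right _ _ hv
    · intro y z hy hz j
      rw [map_add, Pi.add_apply]
      exact Ideal.add_mem _ (hy j) (hz j)
  have hVc : ∀ (m : ℕ) (y : M), y ∈ (V m).toIdeal • (⊤ : Submodule S M) →
      ∀ (k : ℤ) j, (decompose 𝒜 (i y j) k : S) ∈ (V m).toIdeal :=
    fun m y hy k j => (V m).isHomogeneous k (hVi m y hy j)
  constructor
  · intro n x hx hxV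
    rw [hcoord n x hx]
    refine Finset.sum_eq_zero fun j _ => ?_
    have : (decompose 𝒜 (i x j) (n - deg j) : S) = 0 :=
      hsep (n - deg j) _ (decompose 𝒜 (i x j) (n - deg j)).2 fun m => hVc m x (hxV m) _ j
    rw [this, zero_smul]
  · intro n g hg hgV
    have hlim : ∀ j, ∃ s ∈ 𝒜 (n - deg j),
        ∀ m, s - (decompose 𝒜 (i (g m) j) (n - deg j) : S) ∈ (V m).toIdeal := by
      intro j
      refine hcpl (n - deg j) (fun m => (decompose 𝒜 (i (g m) j) (n - deg j) : S))
        (fun m => (decompose 𝒜 (i (g m) j) (n - deg j)).2) (fun m => ?_)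
      have := hVc m _ (hgV m) (n - deg j) j
      rw [map_sub, Pi.sub_apply, decompose_sub, DirectSum.sub_apply, AddSubgroupClass.coe_sub] at this
      exact this
    choose s hs hsV using hlim
    refine ⟨∑ j, s j • gen j, ?_, fun m => ?_⟩
    · refine AddSubgroup.sum_mem _ fun j _ => ?_
      have := SetLike.GradedSMul.smul_mem (hs j) (hgen_mem j)
      rw [vadd_eq_add, sub_add_cancel] at this
      exact this
    · have heq : ∑ j, s j • gen j - g m =
          ∑ j, (s j - (decompose 𝒜 (i (g m) j) (n - deg j) : S)) • gen j := by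
        conv_lhs => rw [hcoord n (g m) (hg m), ← Finset.sum_sub_distrib]
        exact Finset.sum_congr rfl fun j _ => (sub_smul _ _ _).symm
      rw [heq]
      refine Submodule.sum_mem _ fun j _ => ?_
      exact Submodule.smul_mem_smul (hsV j m) trivial

/-- Let S be a commutative ring graded by ℤ with pieces 𝒜 n, and V a decreasing sequence of homogeneous
ideals for which S is graded-complete, i.e. for each degree n the map from 𝒜 n to the inverse limit
of the quotients 𝒜 n / (𝒜 n ∩ V m) is bijective (stated as: a degree-n element in every V m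
vanishes, and every sequence in 𝒜 n whose consecutive differences lie in the V m has a limit in 𝒜
n). Then every graded S-module M which is finitely generated and projective as an S-module is
graded-complete in the same sense for the submodules V m · M: for each n the map from ℳ n to the
inverse limit of ℳ n / (ℳ n ∩ V m · M) is bijective. -/
theorem result
    (S : Type u) [CommRing S] (𝒜 : ℤ → AddSubgroup S) [GradedRing 𝒜]
    (V : ℕ → HomogeneousIdeal 𝒜) (hV : ∀ m, (V (m + 1)).toIdeal ≤ (V m).toIdeal)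
    (hsep : ∀ (n : ℤ) (s : S), s ∈ 𝒜 n → (∀ m, s ∈ (V m).toIdeal) → s = 0)
    (hcpl : ∀ (n : ℤ) (f : ℕ → S), (∀ m, f m ∈ 𝒜 n) →
      (∀ m, f (m + 1) - f m ∈ (V m).toIdeal) → ∃ s ∈ 𝒜 n, ∀ m, s - f m ∈ (V m).toIdeal)
    (M : Type u) [AddCommGroup M] [Module S M] (ℳ : ℤ → AddSubgroup M)
    [DirectSum.Decomposition ℳ] [SetLike.GradedSMul 𝒜 ℳ]
    [Module.Finite S M] [Module.Projective S M] :
    (∀ (n : ℤ) (x : M), x ∈ ℳ n → (∀ m, x ∈ (V m).toIdeal • (⊤ : Submodule S M)) → x = 0) ∧
    (∀ (n : ℤ) (g : ℕ → M), (∀ m, g m ∈ ℳ n) →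
      (∀ m, g (m + 1) - g m ∈ (V m).toIdeal • (⊤ : Submodule S M)) →
      ∃ x ∈ ℳ n, ∀ m, x - g m ∈ (V m).toIdeal • (⊤ : Submodule S M)) := by
  exact main S 𝒜 V hV hsep hcpl M ℳ

end Groth.Agent.S16422
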