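import Groth.Statements.S1643
import Groth.Agent.Helper1.MF12

set_option autoImplicit false
universe u
open CategoryTheory CategoryTheory.Limits AlgebraicGeometry
open Variety

namespace Groth.Agent.S1643

/-- Fix n ≥ 0, r ≥ 1 and a rational polynomial P. There is an integer m, depending only on n, r and P,
such that for every field k and every epimorphism from the free module of rank r on P^n_k onto a
coherent module F whose Euler characteristics χ(F(t)) are given by P for all integers t, the kernel
is m-regular. -/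
theorem result (n r : ℕ) (hr : 1 ≤ r) (P : Polynomial ℚ) :
    ∃ m : ℤ, ∀ (k : Type u) [Field k] (F : (CohB1.ProjSpace n k).Modules) (φ : FlatMod.freeMod (CohB1.ProjSpace n k) r ⟶ F), Coh.IsCoh F → Epi φ →
      (∀ t : ℤ, (Curv2.euler k (CohB1.ProjSpace n k) (CohB1.tensorMod F (Twist.twistProjSpace n k t)) : ℚ) = P.eval (t : ℚ)) →
      Curv2.IsMRegular k n (kernel φ) m := by
  obtain ⟨m, hm⟩ := Groth.Agent.Helper1.MF.mumford_quot.{u} P
  refine ⟨m, ?_⟩
  intro k _ F φ hF hφ hχ
  haveI := hφ
  have hE := Groth.Agent.Helper1.Dev.isCoh_freeMod (CohB1.ProjSpace n k) r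
  let S : ShortComplex (CohB1.ProjSpace n k).Modules :=
    ShortComplex.mk (kernel.ι φ) φ (kernel.condition φ)
  have hS : S.ShortExact :=
    ShortComplex.ShortExact.mk' (ShortComplex.exact_of_f_is_kernel _ (kernelIsKernel φ))
      (inferInstanceAs (Mono (kernel.ι φ))) hφ
  haveI : IsNoetherianRing (MvPolynomial (Fin (n + 1)) k) := inferInstance
  haveI : IsNoetherian (CohB1.ProjSpace n k) :=
    Groth.Agent.Helper3.ProjNoeth.main (CohB1.polyGrading n k)
  have hK : Coh.IsCoh (kernel φ) := Groth.Agent.Lead.PerfLib.isCoh_kernel hE hF φ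
  have h := hm n k S hS hK hE hF (Groth.Agent.Helper1.MF.isReg_freeMod n k r) (fun t => hχ t)
  intro i hi _
  exact h i hi

end Groth.Agent.S1643
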