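import Groth.Statements.S16452
import Mathlib

set_option autoImplicit false
universe u
open CAlg

namespace Groth.Agent.S16452

theorem key (R : Type u) [CommRing R] (S : Type u)
    [CommRing S] [Algebra R S] [Algebra.FormallyEtale R S] (J : Ideal S)
    (hJ : Function.Surjective (algebraMap R (S ⧸ J))) (n : ℕ) :
    (∀ s : S, ∃ r : R, algebraMap R S r - s ∈ J ^ n) ∧
      (∀ r : R, algebraMap R S r ∈ J ^ n → r ∈ (J.comap (algebraMap R S)) ^ n) := by
  rcases Nat.eq_zero_or_pos n with rfl | hn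
  · simp
  set I := J.comap (algebraMap R S) with hI
  have hkill : ∀ a : R, a ∈ I ^ n → (Algebra.ofId R (S ⧸ J)) a = 0 := by
    intro a ha
    have : a ∈ I := Ideal.pow_le_self hn.ne' ha
    change algebraMap R (S ⧸ J) a = 0
    rw [IsScalarTower.algebraMap_apply R S (S ⧸ J)]
    exact Ideal.Quotient.eq_zero_iff_mem.mpr this
  let g : (R ⧸ I ^ n) →ₐ[R] (S ⧸ J) := Ideal.Quotient.liftₐ (I ^ n) (Algebra.ofId R (S ⧸ J)) hkill
  have hg_mk : ∀ r : R, g (Ideal.Quotient.mk (I ^ n) r) = algebraMap R (S ⧸ J) r := fun r => rfl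
  have hgsurj : Function.Surjective g := by
    intro y
    obtain ⟨r, rfl⟩ := hJ y
    exact ⟨Ideal.Quotient.mk _ r, hg_mk r⟩
  -- kernel of g
  have hK : RingHom.ker (g : (R ⧸ I ^ n) →+* (S ⧸ J)) ≤ I.map (Ideal.Quotient.mk (I ^ n)) := by
    intro x hx
    obtain ⟨r, rfl⟩ := Ideal.Quotient.mk_surjective x
    rw [RingHom.mem_ker] at hx
    have hx' : algebraMap R (S ⧸ J) r = 0 := hx
    rw [IsScalarTower.algebraMap_apply R S (S ⧸ J)] at hx'
    have : algebraMap R S r ∈ J := Ideal.Quotient.eq_zero_iff_mem.mp hx'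
    exact Ideal.mem_map_of_mem _ this
  have hKn : (RingHom.ker (g : (R ⧸ I ^ n) →+* (S ⧸ J))) ^ n = ⊥ := by
    rw [eq_bot_iff]
    calc (RingHom.ker (g : (R ⧸ I ^ n) →+* (S ⧸ J))) ^ n
        ≤ (I.map (Ideal.Quotient.mk (I ^ n))) ^ n := Ideal.pow_right_mono hK n
      _ = (I ^ n).map (Ideal.Quotient.mk (I ^ n)) := (Ideal.map_pow _ _ _).symm
      _ = ⊥ := Ideal.map_quotient_self _
  have hnil : IsNilpotent (RingHom.ker (g : (R ⧸ I ^ n) →+* (S ⧸ J))) := ⟨n, hKn⟩
  let σ : S →ₐ[R] (R ⧸ I ^ n) :=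
    Algebra.FormallySmooth.liftOfSurjective (Ideal.Quotient.mkₐ R J) g hgsurj hnil
  have hσ : ∀ s : S, g (σ s) = Ideal.Quotient.mk J s := fun s =>
    Algebra.FormallySmooth.liftOfSurjective_apply (Ideal.Quotient.mkₐ R J) g hgsurj hnil s
  have hσJ : ∀ s ∈ J ^ n, σ s = 0 := by
    intro s hs
    have h1 : J.map (σ : S →+* (R ⧸ I ^ n)) ≤ RingHom.ker (g : (R ⧸ I ^ n) →+* (S ⧸ J)) := by
      rw [Ideal.map_le_iff_le_comap]
      intro t ht
      rw [Ideal.mem_comap, RingHom.mem_ker]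
      change g (σ t) = 0
      rw [hσ]
      exact Ideal.Quotient.eq_zero_iff_mem.mpr ht
    have h2 : (σ : S →+* (R ⧸ I ^ n)) s ∈ (J ^ n).map (σ : S →+* (R ⧸ I ^ n)) :=
      Ideal.mem_map_of_mem _ hs
    rw [Ideal.map_pow] at h2
    have h3 := Ideal.pow_right_mono h1 n h2
    rw [hKn] at h3
    exact h3
  -- ψ : R/I^n → S/J^n
  have hkill2 : ∀ a : R, a ∈ I ^ n → (Algebra.ofId R (S ⧸ J ^ n)) a = 0 := by
    intro a ha
    change algebraMap R (S ⧸ J ^ n) a = 0
    rw [IsScalarTower.algebraMap_apply R S (S ⧸ J ^ n)]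
    refine Ideal.Quotient.eq_zero_iff_mem.mpr ?_
    have : I.map (algebraMap R S) ≤ J := Ideal.map_comap_le
    have h2 : (I ^ n).map (algebraMap R S) ≤ J ^ n := by
      rw [Ideal.map_pow]
      exact Ideal.pow_right_mono this n
    exact h2 (Ideal.mem_map_of_mem _ ha)
  let ψ : (R ⧸ I ^ n) →ₐ[R] (S ⧸ J ^ n) :=
    Ideal.Quotient.liftₐ (I ^ n) (Algebra.ofId R (S ⧸ J ^ n)) hkill2
  have hψ_mk : ∀ r : R, ψ (Ideal.Quotient.mk (I ^ n) r) = Ideal.Quotient.mk (J ^ n) (algebraMap R S r) :=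
    fun r => rfl
  -- projection S/J^n → S/J
  let π : (S ⧸ J ^ n) →ₐ[R] (S ⧸ J) :=
    Ideal.Quotient.factorₐ R (Ideal.pow_le_self hn.ne')
  have hπ : ∀ s : S, π (Ideal.Quotient.mk (J ^ n) s) = Ideal.Quotient.mk J s := fun s => rfl
  have hπnil : IsNilpotent (RingHom.ker (π : (S ⧸ J ^ n) →+* (S ⧸ J))) := by
    refine ⟨n, ?_⟩
    change _ = (⊥ : Ideal _)
    rw [eq_bot_iff]
    have h1 : RingHom.ker (π : (S ⧸ J ^ n) →+* (S ⧸ J)) ≤ J.map (Ideal.Quotient.mk (J ^ n)) := by
      intro x hx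
      obtain ⟨s, rfl⟩ := Ideal.Quotient.mk_surjective x
      rw [RingHom.mem_ker] at hx
      have hx' : Ideal.Quotient.mk J s = 0 := hx
      exact Ideal.mem_map_of_mem _ (Ideal.Quotient.eq_zero_iff_mem.mp hx')
    calc _ ≤ (J.map (Ideal.Quotient.mk (J ^ n))) ^ n := Ideal.pow_right_mono h1 n
      _ = (J ^ n).map (Ideal.Quotient.mk (J ^ n)) := (Ideal.map_pow _ _ _).symm
      _ = ⊥ := Ideal.map_quotient_self _
  have hτ : ψ.comp σ = Ideal.Quotient.mkₐ R (J ^ n) := by
    apply Algebra.FormallyUnramified.ext' (π : (S ⧸ J ^ n) →+* (S ⧸ J)) hπnil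
    intro s
    change π (ψ (σ s)) = π (Ideal.Quotient.mk (J ^ n) s)
    rw [hπ, ← hσ]
    obtain ⟨r, hr⟩ := Ideal.Quotient.mk_surjective (σ s)
    rw [← hr, hψ_mk, hπ, hg_mk, IsScalarTower.algebraMap_apply R S (S ⧸ J)]
    rfl
  constructor
  · intro s
    obtain ⟨r, hr⟩ := Ideal.Quotient.mk_surjective (σ s)
    refine ⟨r, ?_⟩
    rw [← Ideal.Quotient.eq, ← hψ_mk, hr]
    exact AlgHom.congr_fun hτ s
  · intro r hr
    have h1 : σ (algebraMap R S r) = Ideal.Quotient.mk (I ^ n) r := σ.commutes r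
    rw [hσJ _ hr] at h1
    exact Ideal.Quotient.eq_zero_iff_mem.mp h1.symm

open AssocGr in
theorem main (R : Type u) [CommRing R] (S : Type u)
    [CommRing S] [Algebra R S] [Algebra.FormallyEtale R S] (J : Ideal S)
    (hJ : Function.Surjective (algebraMap R (S ⧸ J))) :
    Function.Bijective (AssocGr.map (AssocGr.IsFiltHom.adic
      (Ideal.map_comap_le : (J.comap (algebraMap R S)).map (algebraMap R S) ≤ J))) := by
  constructor
  · rw [injective_iff_map_eq_zero]
    intro x hx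
    obtain ⟨f, rfl⟩ := mkG_surjective _ x
    rw [map_mkG, mkG_eq_zero_iff] at hx
    rw [mkG_eq_zero_iff]
    intro n
    have h1 := hx n
    rw [coe_reesMap, Polynomial.coeff_map] at h1
    exact (key R S J hJ (n + 1)).2 _ h1
  · intro y
    obtain ⟨g, rfl⟩ := mkG_surjective _ y
    suffices H : ∀ n, ∃ x, AssocGr.map (AssocGr.IsFiltHom.adic
        (Ideal.map_comap_le : (J.comap (algebraMap R S)).map (algebraMap R S) ≤ J)) x =
        mkG _ (term _ g n) by
      choose x hx using H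
      refine ⟨∑ n ∈ (g : Polynomial S).support, x n, ?_⟩
      rw [map_sum]
      conv_rhs => rw [← sum_term _ g, map_sum]
      exact Finset.sum_congr rfl fun n _ => hx n
    intro n
    rw [mkG_term]
    have hy : (g : Polynomial S).coeff n ∈ J ^ n := g.2 n
    obtain ⟨r, hr⟩ := (key R S J hJ (n + 1)).1 ((g : Polynomial S).coeff n)
    have hrI : r ∈ (J.comap (algebraMap R S)) ^ n := by
      apply (key R S J hJ n).2 r
      have : algebraMap R S r = (algebraMap R S r - (g : Polynomial S).coeff n) +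
          (g : Polynomial S).coeff n := by ring
      rw [this]
      exact Ideal.add_mem _ (Ideal.pow_le_pow_right (Nat.le_succ n) hr) hy
    refine ⟨(inDeg (FiltBl.IdealFiltration.adic (J.comap (algebraMap R S))) n ⟨r, hrI⟩ : GrRing _), ?_⟩
    rw [map_inDeg, ← sub_eq_zero, ← Submodule.coe_sub, ← map_sub, Submodule.coe_eq_zero,
      inDeg_eq_zero_iff]
    exact hr

/-- Let R → S be formally étale and J an ideal of S such that the composite R → S → S/J is surjective;
let I ⊆ R be its kernel, the preimage of J in R. Then the homomorphism of associated graded rings ⊕ₙ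
Iⁿ/Iⁿ⁺¹ → ⊕ₙ Jⁿ/Jⁿ⁺¹ induced by R → S (which carries I into J) is bijective. -/
theorem result (R : Type u) [CommRing R] (S : Type u)
    [CommRing S] [Algebra R S] [Algebra.FormallyEtale R S] (J : Ideal S)
    (hJ : Function.Surjective (algebraMap R (S ⧸ J))) :
    Function.Bijective (AssocGr.map (AssocGr.IsFiltHom.adic
      (Ideal.map_comap_le : (J.comap (algebraMap R S)).map (algebraMap R S) ≤ J))) := by
  exact main R S J hJ

end Groth.Agent.S16452
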