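import Groth.Statements.S16453
import Mathlib

set_option autoImplicit false
universe u
open AdicGr

namespace Groth.Agent.S16453

theorem val_algebraMap {A : Type u} [CommRing A] (I : Ideal A) (a : A) (n : ℕ) :
    (algebraMap A (AdicCompletion I A) a).val n = Submodule.Quotient.mk a := by
  rw [AdicCompletion.algebraMap_apply, Algebra.algebraMap_self,
      RingHom.id_apply, AdicCompletion.of_apply, Submodule.mkQ_apply]

open AssocGr in
theorem main (A : Type u) [CommRing A] (I : Ideal A) :
    Function.Bijective (AssocGr.map (AssocGr.isFiltHom_kerFilt I)) := by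
  constructor
  · rw [injective_iff_map_eq_zero]
    intro x hx
    obtain ⟨f, rfl⟩ := mkG_surjective _ x
    rw [map_mkG, mkG_eq_zero_iff] at hx
    rw [mkG_eq_zero_iff]
    intro n
    have h1 := hx n
    rw [coe_reesMap, Polynomial.coeff_map, mem_kerFilt_iff_val, val_algebraMap,
      Submodule.Quotient.mk_eq_zero] at h1
    change _ ∈ I ^ (n + 1)
    have h2 : (I ^ (n + 1) • ⊤ : Ideal A) = I ^ (n + 1) := pow_smul_top I (n + 1)
    rw [← h2]
    exact h1
  · intro y
    obtain ⟨g, rfl⟩ := mkG_surjective _ y
    suffices H : ∀ n, ∃ x, AssocGr.map (AssocGr.isFiltHom_kerFilt I) x = mkG _ (term _ g n) by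
      choose x hx using H
      refine ⟨∑ n ∈ (g : Polynomial (AdicCompletion I A)).support, x n, ?_⟩
      rw [map_sum]
      conv_rhs => rw [← sum_term _ g, map_sum]
      exact Finset.sum_congr rfl fun n _ => hx n
    intro n
    rw [mkG_term]
    have hy : (g : Polynomial (AdicCompletion I A)).coeff n ∈ (kerFilt I).F n := g.2 n
    set y := (g : Polynomial (AdicCompletion I A)).coeff n with hydef
    obtain ⟨a, ha⟩ := Submodule.Quotient.mk_surjective _ (y.val (n + 1))
    have haI : a ∈ I ^ n := by
      have h1 := AdicCompletion.transitionMap_comp_eval_apply I A (Nat.le_succ n) y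
      rw [(mem_kerFilt_iff_val I n y).mp hy] at h1
      rw [← ha] at h1
      have h2 : (Submodule.Quotient.mk a : A ⧸ (I ^ n • ⊤ : Submodule A A)) = 0 := h1
      rw [Submodule.Quotient.mk_eq_zero] at h2
      have h3 : (I ^ n • ⊤ : Ideal A) = I ^ n := pow_smul_top I n
      rw [← h3]
      exact h2
    refine ⟨(inDeg (FiltBl.IdealFiltration.adic I) n ⟨a, haI⟩ : GrRing _), ?_⟩
    rw [map_inDeg, ← sub_eq_zero, ← Submodule.coe_sub, ← map_sub, Submodule.coe_eq_zero,
      inDeg_eq_zero_iff]
    change algebraMap A (AdicCompletion I A) a - y ∈ _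
    rw [mem_kerFilt_iff_val, AdicCompletion.val_sub]
    have h5 := val_algebraMap I a (n + 1)
    rw [Pi.sub_apply, h5, ha, sub_self]

/-- Let A be a commutative ring, I an ideal and Â the I-adic completion, filtered by the kernels Âₙ of
the projections Â → A/Iⁿ. Then the homomorphism of associated graded rings ⊕ₙ Iⁿ/Iⁿ⁺¹ → ⊕ₙ Âₙ/Âₙ₊₁
induced by the canonical map A → Â is bijective. No hypothesis on A or I is needed. (The published
statement is for an arbitrary filtered ring and also asserts the analogous isomorphism for a
compatibly filtered module; this row is the ring assertion for the filtration by the powers of one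
ideal.) -/
theorem result (A : Type u) [CommRing A] (I : Ideal A) :
    Function.Bijective (AssocGr.map (AssocGr.isFiltHom_kerFilt I)) := by
  exact main A I

end Groth.Agent.S16453
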