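import Groth.Statements.S16456
import Mathlib

set_option autoImplicit false
universe u
open AdicGr

namespace Groth.Agent.S16456

/-- membership in `I ^ n • ⊤` vs `I ^ n`. -/
theorem smodEq_iff {A : Type u} [CommRing A] (I : Ideal A) (n : ℕ) (x y : A) :
    x ≡ y [SMOD (I ^ n • ⊤ : Submodule A A)] ↔ x - y ∈ I ^ n := by
  rw [SModEq.sub_mem, smul_eq_mul, Ideal.mul_top]

open AssocGr in
/-- the degreewise approximation property from surjectivity of the graded map -/
theorem step {A B : Type u} [CommRing A] [CommRing B] (φ : A →+* B) (I : Ideal A) (J : Ideal B)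
    (hIJ : I.map φ ≤ J)
    (h : Function.Surjective (AssocGr.map (AssocGr.IsFiltHom.adic hIJ))) (n : ℕ) (b : B)
    (hb : b ∈ J ^ n) : ∃ a ∈ I ^ n, b - φ a ∈ J ^ (n + 1) := by
  obtain ⟨x, hx⟩ := h (inDeg (FiltBl.IdealFiltration.adic J) n ⟨b, hb⟩ : GrRing _)
  obtain ⟨f, rfl⟩ := mkG_surjective _ x
  rw [map_mkG, coe_inDeg, ← sub_eq_zero, ← map_sub, mkG_eq_zero_iff] at hx
  have h1 := hx n
  rw [Subalgebra.coe_sub, Polynomial.coeff_sub, coe_reesMap, Polynomial.coeff_map, coe_coe_monom,
    Polynomial.coeff_monomial, if_pos rfl] at h1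
  refine ⟨(f : Polynomial A).coeff n, f.2 n, ?_⟩
  have : b - φ ((f : Polynomial A).coeff n) = -(φ ((f : Polynomial A).coeff n) - b) := by ring
  rw [this]
  exact neg_mem h1

/-- successive approximation -/
theorem approx {A B : Type u} [CommRing A] [CommRing B] (φ : A →+* B) (I : Ideal A) (J : Ideal B)
    (hstep : ∀ (n : ℕ) (b : B), b ∈ J ^ n → ∃ a ∈ I ^ n, b - φ a ∈ J ^ (n + 1))
    (hIJ : I.map φ ≤ J)
    [IsPrecomplete I A] [IsHausdorff J B] (n0 : ℕ) (b : B) (hb : b ∈ J ^ n0) :
    ∃ a ∈ I ^ n0, φ a = b := by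
  classical
  have hmap : ∀ k, (I ^ k).map φ ≤ J ^ k := by
    intro k
    rw [Ideal.map_pow]
    exact Ideal.pow_right_mono hIJ k
  -- the recursive sequence
  let F : (k : ℕ) → {a : A // b - φ a ∈ J ^ (n0 + k)} := fun k =>
    Nat.rec ⟨0, by simpa using hb⟩
      (fun k p => ⟨p.1 + (hstep (n0 + k) (b - φ p.1) p.2).choose, by
        have := (hstep (n0 + k) (b - φ p.1) p.2).choose_spec.2
        rw [map_add, ← sub_sub]
        exact this⟩) k
  let s : ℕ → A := fun k => (F k).1
  have hs0 : s 0 = 0 := rfl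
  have hsd : ∀ k, s (k + 1) - s k ∈ I ^ (n0 + k) := by
    intro k
    have : s (k + 1) = s k + (hstep (n0 + k) (b - φ (s k)) (F k).2).choose := rfl
    rw [this, add_sub_cancel_left]
    exact (hstep (n0 + k) (b - φ (s k)) (F k).2).choose_spec.1
  have hsb : ∀ k, b - φ (s k) ∈ J ^ (n0 + k) := fun k => (F k).2
  have hsI : ∀ k, s k ∈ I ^ n0 := by
    intro k
    induction k with
    | zero => rw [hs0]; exact Ideal.zero_mem _
    | succ k ih =>
      have : s (k + 1) = s k + (s (k + 1) - s k) := by ring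
      rw [this]
      exact Ideal.add_mem _ ih (Ideal.pow_le_pow_right (Nat.le_add_right _ _) (hsd k))
  have hcauchy : ∀ {m n}, m ≤ n → s m ≡ s n [SMOD (I ^ m • ⊤ : Submodule A A)] := by
    intro m n hmn
    rw [smodEq_iff]
    induction n, hmn using Nat.le_induction with
    | base => simp
    | succ n hmn ih =>
      have : s m - s (n + 1) = (s m - s n) - (s (n + 1) - s n) := by ring
      rw [this]
      refine Ideal.sub_mem _ ih (Ideal.pow_le_pow_right ?_ (hsd n))
      omega
  obtain ⟨L, hL⟩ := IsPrecomplete.prec ‹IsPrecomplete I A› hcauchy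
  refine ⟨L, ?_, ?_⟩
  · have h1 := hL n0
    rw [smodEq_iff] at h1
    have : L = s n0 - (s n0 - L) := by ring
    rw [this]
    exact Ideal.sub_mem _ (hsI n0) h1
  · rw [IsHausdorff.eq_iff_smodEq (I := J)]
    intro k
    rw [smodEq_iff]
    have h1 := hL k
    rw [smodEq_iff] at h1
    have h2 : φ (s k - L) ∈ J ^ k := hmap k (Ideal.mem_map_of_mem φ h1)
    have : φ L - b = -(φ (s k - L)) - (b - φ (s k)) := by rw [map_sub]; ring
    rw [this]
    exact Ideal.sub_mem _ (neg_mem h2) (Ideal.pow_le_pow_right (Nat.le_add_left _ _) (hsb k))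

theorem main (A : Type u) [CommRing A] (B : Type u)
    [CommRing B] (φ : A →+* B) (I : Ideal A) (J : Ideal B) (hIJ : I.map φ ≤ J)
    [IsPrecomplete I A] [IsHausdorff J B]
    (h : Function.Surjective (AssocGr.map (AssocGr.IsFiltHom.adic hIJ))) :
    Function.Surjective φ ∧ I.map φ = J ∧ IsAdicComplete J B := by
  classical
  have hstep := step φ I J hIJ h
  have hsurj : Function.Surjective φ := fun b => by
    obtain ⟨a, -, ha⟩ := approx φ I J hstep hIJ 0 b (by simp)
    exact ⟨a, ha⟩
  have hJ : I.map φ = J := le_antisymm hIJ (fun b hb => by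
    obtain ⟨a, ha, hab⟩ := approx φ I J hstep hIJ 1 b (by simpa using hb)
    rw [← hab]
    exact Ideal.mem_map_of_mem _ (by simpa using ha))
  refine ⟨hsurj, hJ, ?_⟩
  have hmap : ∀ k, (I ^ k).map φ ≤ J ^ k := by
    intro k
    rw [Ideal.map_pow]
    exact Ideal.pow_right_mono hIJ k
  haveI : IsPrecomplete J B := by
    constructor
    intro f hf
    have hJk : ∀ k, ∀ b ∈ J ^ k, ∃ a ∈ I ^ k, φ a = b := by
      intro k b hb
      rw [← hJ, ← Ideal.map_pow] at hb
      obtain ⟨a, ha, rfl⟩ := (Ideal.mem_map_iff_of_surjective φ hsurj).mp hb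
      exact ⟨a, ha, rfl⟩
    have hdiff : ∀ k, f (k + 1) - f k ∈ J ^ k := by
      intro k
      have := hf (Nat.le_succ k)
      rw [smodEq_iff] at this
      have h2 : f (k + 1) - f k = -(f k - f (k + 1)) := by ring
      rw [h2]
      exact neg_mem this
    let F : (k : ℕ) → {a : A // φ a = f k} := fun k =>
      Nat.rec ⟨(hsurj (f 0)).choose, (hsurj (f 0)).choose_spec⟩
        (fun k p => ⟨p.1 + (hJk k (f (k + 1) - f k) (hdiff k)).choose, by
          rw [map_add, p.2, (hJk k (f (k + 1) - f k) (hdiff k)).choose_spec.2]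
          ring⟩) k
    let t : ℕ → A := fun k => (F k).1
    have htf : ∀ k, φ (t k) = f k := fun k => (F k).2
    have htd : ∀ k, t (k + 1) - t k ∈ I ^ k := by
      intro k
      have : t (k + 1) = t k + (hJk k (f (k + 1) - f k) (hdiff k)).choose := rfl
      rw [this, add_sub_cancel_left]
      exact (hJk k (f (k + 1) - f k) (hdiff k)).choose_spec.1
    have hcauchy : ∀ {m n}, m ≤ n → t m ≡ t n [SMOD (I ^ m • ⊤ : Submodule A A)] := by
      intro m n hmn
      rw [smodEq_iff]
      induction n, hmn using Nat.le_induction with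
      | base => simp
      | succ n hmn ih =>
        have : t m - t (n + 1) = (t m - t n) - (t (n + 1) - t n) := by ring
        rw [this]
        exact Ideal.sub_mem _ ih (Ideal.pow_le_pow_right hmn (htd n))
    obtain ⟨L, hL⟩ := IsPrecomplete.prec ‹IsPrecomplete I A› hcauchy
    refine ⟨φ L, fun n => ?_⟩
    rw [smodEq_iff, ← htf, ← map_sub]
    have h1 := hL n
    rw [smodEq_iff] at h1
    exact hmap n (Ideal.mem_map_of_mem φ h1)
  exact { }

/-- Let φ : A → B be a ring homomorphism, I ⊆ A and J ⊆ B ideals with φ(I)B ⊆ J, so that φ is a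
homomorphism of filtered rings for the I-adic and J-adic filtrations. Assume that A is I-adically
complete in the sense that every I-adically Cauchy sequence has a limit, that B is J-adically
separated, and that the induced homomorphism of associated graded rings ⊕ₙ Iⁿ/Iⁿ⁺¹ → ⊕ₙ Jⁿ/Jⁿ⁺¹ is
surjective. Then φ is surjective, φ is strict (Jⁿ = φ(Iⁿ)B for all n, that is J = φ(I)B), and B is
J-adically separated and complete. (The published statement is for a homomorphism of filtered
modules over a filtered ring, with arbitrary compatible filtrations; this row is its case of a ring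
homomorphism with adic filtrations.) -/
theorem result (A : Type u) [CommRing A] (B : Type u)
    [CommRing B] (φ : A →+* B) (I : Ideal A) (J : Ideal B) (hIJ : I.map φ ≤ J)
    [IsPrecomplete I A] [IsHausdorff J B]
    (h : Function.Surjective (AssocGr.map (AssocGr.IsFiltHom.adic hIJ))) :
    Function.Surjective φ ∧ I.map φ = J ∧ IsAdicComplete J B := by
  exact main A B φ I J hIJ h

end Groth.Agent.S16456
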