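import Groth.Statements.S1646
import Groth.Agent.Lead.GlobGen
import Mathlib

set_option autoImplicit false
universe u
open CategoryTheory CategoryTheory.Limits AlgebraicGeometry
open Variety

namespace Groth.Agent.S1646

/-- Let A → A' be a faithfully flat ring map, f : X → Spec A a quasi-compact and quasi-separated
morphism, and F a quasi-coherent O_X-module. F is generated by its global sections exactly when its
pullback to X ×_{Spec A} Spec A' is generated by its global sections. (Quasi-compactness and
quasi-separatedness of f are assumed here on top of the published hypotheses.) -/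
theorem result (A A' : Type u) [CommRing A] [CommRing A'] [Algebra A A']
    [Module.FaithfullyFlat A A'] (X : Scheme.{u}) (f : X ⟶ Spec (CommRingCat.of A)) [QuasiCompact f] [QuasiSeparated f]
    (F : X.Modules) (hF : Coh.IsQCoh F) :
    Curv2.IsGloballyGenerated F ↔ Curv2.IsGloballyGenerated
      ((Scheme.Modules.pullback (pullback.fst f (Spec.map (CommRingCat.ofHom (algebraMap A A'))))).obj F) := by
  haveI : F.IsQuasicoherent := hF
  have hsq : IsPullback (pullback.fst f (Spec.map (CommRingCat.ofHom (algebraMap A A'))))
      (pullback.snd f (Spec.map (CommRingCat.ofHom (algebraMap A A')))) f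
      (Spec.map (CommRingCat.ofHom (algebraMap A A'))) := IsPullback.of_hasPullback _ _
  have hff : Flat (Spec.map (CommRingCat.ofHom (algebraMap A A'))) ∧
      Surjective (Spec.map (CommRingCat.ofHom (algebraMap A A'))) := by
    rw [flat_and_surjective_SpecMap_iff]
    exact (RingHom.faithfullyFlat_algebraMap_iff).mpr inferInstance
  haveI hfl := hff.1
  haveI hsurj := hff.2
  constructor
  · rintro ⟨I, p, hp⟩
    obtain ⟨p', hp'⟩ := Groth.Agent.Lead.GlobGen.globGen_pullback
      (pullback.fst f (Spec.map (CommRingCat.ofHom (algebraMap A A')))) F p hp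
    exact ⟨I, p', hp'⟩
  · rintro ⟨J, q, hq⟩
    exact ⟨_, Groth.Agent.Lead.GlobGen.canFree F,
      Groth.Agent.Lead.GlobGen.epi_canFree f _ _ _ hsq F q hq⟩

end Groth.Agent.S1646
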