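import Groth.Statements.S16460
import Mathlib

set_option autoImplicit false
universe u
open AdicGr

namespace Groth.Agent.S16460

theorem exists_level {A : Type u} [CommRing A] (𝓕 : FiltBl.IdealFiltration A)
    (hsep : ⨅ n, 𝓕.F n = ⊥) (a : A) (ha : a ≠ 0) :
    ∃ m, a ∈ 𝓕.F m ∧ a ∉ 𝓕.F (m + 1) := by
  classical
  have hex : ∃ n, a ∉ 𝓕.F n := by
    by_contra h
    push Not at h
    have : a ∈ ⨅ n, 𝓕.F n := by
      rw [Ideal.mem_iInf]
      exact h
    rw [hsep] at this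
    exact ha this
  let n := Nat.find hex
  have hn : a ∉ 𝓕.F n := Nat.find_spec hex
  have hn0 : n ≠ 0 := by
    intro h0
    rw [h0, 𝓕.zero_eq] at hn
    exact hn trivial
  obtain ⟨m, hm⟩ := Nat.exists_eq_succ_of_ne_zero hn0
  refine ⟨m, ?_, ?_⟩
  · by_contra h
    exact Nat.find_min hex (m := m) (by omega) h
  · rw [← Nat.succ_eq_add_one, ← hm]
    exact hn

/-- Let A be a commutative ring with a decreasing filtration by ideals A = F₀ ⊇ F₁ ⊇ F₂ ⊇ … satisfying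
F_m·F_n ⊆ F_{m+n}, and assume the filtration is separated, ⋂ₙ Fₙ = 0. If the associated graded ring
⊕ₙ Fₙ/Fₙ₊₁ is an integral domain, then A is an integral domain. -/
theorem result (A : Type u) [CommRing A]
    (𝓕 : FiltBl.IdealFiltration A) (hsep : ⨅ n, 𝓕.F n = ⊥) [IsDomain (AssocGr.GrRing 𝓕)] :
    IsDomain A := by
  haveI : Nontrivial A := by
    by_contra h
    rw [not_nontrivial_iff_subsingleton] at h
    have h1 : (1 : AssocGr.GrRing 𝓕) = 0 := by
      rw [← map_one (algebraMap A (AssocGr.GrRing 𝓕)), Subsingleton.elim (1 : A) 0, map_zero]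
    exact one_ne_zero h1
  haveI : NoZeroDivisors A := by
    constructor
    intro a b hab
    by_contra h
    push Not at h
    obtain ⟨ha, hb⟩ := h
    obtain ⟨m, ham, ham'⟩ := exists_level 𝓕 hsep a ha
    obtain ⟨n, hbn, hbn'⟩ := exists_level 𝓕 hsep b hb
    have h1 : (AssocGr.inDeg 𝓕 m ⟨a, ham⟩ : AssocGr.GrRing 𝓕) ≠ 0 := by
      intro h0
      rw [Submodule.coe_eq_zero, AssocGr.inDeg_eq_zero_iff] at h0
      exact ham' h0
    have h2 : (AssocGr.inDeg 𝓕 n ⟨b, hbn⟩ : AssocGr.GrRing 𝓕) ≠ 0 := by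
      intro h0
      rw [Submodule.coe_eq_zero, AssocGr.inDeg_eq_zero_iff] at h0
      exact hbn' h0
    have h3 := AssocGr.coe_inDeg_mul 𝓕 m n ⟨a, ham⟩ ⟨b, hbn⟩
    have h4 : (AssocGr.inDeg 𝓕 (m + n) ⟨(⟨a, ham⟩ : 𝓕.F m) * (⟨b, hbn⟩ : 𝓕.F n),
        𝓕.mul_le m n (Ideal.mul_mem_mul ham hbn)⟩ : AssocGr.GrRing 𝓕) = 0 := by
      rw [Submodule.coe_eq_zero, AssocGr.inDeg_eq_zero_iff]
      change a * b ∈ _
      rw [hab]
      exact Ideal.zero_mem _
    rw [h4] at h3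
    exact (mul_ne_zero h1 h2) h3
  exact NoZeroDivisors.to_isDomain A

end Groth.Agent.S16460
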