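import Groth.Statements.S16462
import Mathlib
import Groth.Agent.Helper6.EdgeOutIso
import Groth.Agent.Helper6.FlasqueMod
import Groth.Agent.Helper1.FinFib
import Groth.Agent.S0030
import Groth.Agent.S0456

set_option autoImplicit false
universe u
open Coherent

namespace Groth.Agent.S16462

open CategoryTheory AlgebraicGeometry AlgebraicGeometry.Scheme.Modules in
/-- Let f : X → Y be a quasi-compact quasi-separated morphism of schemes, g : Y → Z an affine morphism
and M a quasi-coherent O_X-module. Then for every p ≥ 0 the canonical edge morphism R^p (g ∘ f)_* M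
→ g_*(R^p f_* M) is an isomorphism (higher direct images as right derived functors of direct image
on O-modules). (The published statement assumes f separated; this row assumes only f
quasi-separated.) -/
theorem result {X Y Z : Scheme.{u}} (f : X ⟶ Y) (g : Y ⟶ Z)
    [QuasiCompact f] [QuasiSeparated f] [IsAffineHom g] [HasInjectiveResolutions X.Modules]
    (M : X.Modules) [Coh.IsQCoh M] (p : ℕ) :
    IsIso (CohBC.lerayEdgeOut f g p M) := by
  have : EnoughInjectives Y.Modules :=
    Groth.Agent.Helper9.ModCechExt.enoughInjectives_mod Y.ringCatSheaf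
  have : HasInjectiveResolutions Y.Modules := inferInstance
  have hX : ∀ n, Groth.Agent.Helper6.EdgeOutIso.Acy (pushforward g)
      ((pushforward f).obj ((injectiveResolution M).cocomplex.X n)) := by
    intro n q
    have hinj : Injective ((injectiveResolution M).cocomplex.X n) :=
      (injectiveResolution M).injective n
    apply Groth.Agent.Helper9.SpRelExt.isZero_of_isZero_tA
    refine Limits.IsZero.of_iso ?_ ((Groth.Agent.Helper1.RpCmpNat.iso g (q + 1)).app _)
    have hfl := @Groth.Agent.Helper6.FlasqueMod.isFlasque_toSheaf_of_injective _ X.ringCatSheaf _ hinj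
    exact Groth.Agent.S0456.result g.base ((CohTop.push f.base).obj
      ((Groth.Agent.Helper9.RpushCmp.tA X).obj ((injectiveResolution M).cocomplex.X n))) q
  have hH : ∀ n, Groth.Agent.Helper6.EdgeOutIso.Acy (pushforward g) ((Coh.Rpush f n).obj M) := by
    intro n q
    have : Coh.IsQCoh ((Coh.Rpush f n).obj M) := Groth.Agent.S0030.result f M n
    exact Groth.Agent.Helper1.FinFib.isZero_Rpush_of_isAffineHom g _ q
  have h := Groth.Agent.Helper6.EdgeOutIso.isIso_edgeOut (pushforward g) (pushforward f) M p hX hH
  unfold CohBC.lerayEdgeOut
  exact @IsIso.comp_isIso _ _ _ _ _ _ _ inferInstance h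

end Groth.Agent.S16462
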