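import Groth.Statements.S16466
import Groth.Agent.Helper1.UGC16
import Groth.Agent.Helper4.SN47
import Groth.Agent.Helper4.QAffSec
import Groth.Agent.Helper4.FinLocFree7
import Groth.Agent.Lead.PerfLib11

set_option autoImplicit false
universe u
open PicF

namespace Groth.Agent.S16466

open CategoryTheory AlgebraicGeometry AlgebraicGeometry.Scheme.Modules in
/-- Suppose f : X → S is a proper, flat morphism between Noetherian schemes, and L is an invertible
O_X-module. Then there is a locally closed subscheme Z of S (an immersion i : Z → S) with the
following universal property: a morphism t : T → S factors through i if and only if, for a cartesian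
square X_T = X ×_S T with projections f_T and g_T, the direct image (f_T)_*(g_T^* L) is an
invertible O_T-module whose formation commutes with every further base change T' → T (the
degree-zero base change morphism is an isomorphism for every cartesian square over T' → T). In
particular Z is unique and (f_Z)_*(L_Z) is invertible of formation compatible with base change.
(Characterising the factorisation by invertibility of the direct image alone is not correct: for a
genus-two curve C over a field, p a point of C and S the spectrum of the local ring of C at the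
hyperelliptic conjugate of p, the family C × S → S with L = O(p + q), q the tautological point, has
direct image free of rank one while the closed fibre has a two-dimensional space of sections, so S →
S does not factor through Z.) -/
theorem result {X S : Scheme.{u}} (f : X ⟶ S) [IsProper f] [Flat f]
    [IsNoetherian S] [IsNoetherian X] (L : X.Modules) (hL : PicF.IsInvertible L) :
    ∃ (Z : Scheme.{u}) (i : Z ⟶ S), IsImmersion i ∧
      ∀ (T : Scheme.{u}) (t : T ⟶ S) (XT : Scheme.{u}) (fT : XT ⟶ T) (gT : XT ⟶ X)
        (hT : IsPullback gT fT f t),
        (∃ z : T ⟶ Z, z ≫ i = t) ↔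
          (PicF.IsInvertible ((pushforward fT).obj ((pullback gT).obj L)) ∧
            ∀ (T' : Scheme.{u}) (u : T' ⟶ T) (XT' : Scheme.{u}) (fT' : XT' ⟶ T') (u' : XT' ⟶ XT)
              (hT' : IsPullback u' fT' fT u),
              IsIso (CohBC.bc0 fT u fT' u' hT'.w ((pullback gT).obj L))) := by
  have hr1 := Groth.Agent.Helper4.QAffSec.isFinLocFreeOfRank_one_of_isInvertible L hL
  have hlf : FlatMod.IsFinLocFree L := Groth.Agent.Helper4.FinLocFree7.isFinLocFree_of_rank L hr1
  haveI qL : L.IsQuasicoherent :=
    Groth.Agent.Helper4.FinLocFree4.isQuasicoherent_of_isFinLocFree L hlf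
  haveI : Coh.IsQCoh L := qL
  have hfp : CohB1.IsFP L :=
    Groth.Agent.Helper4.FinLocFree2.isFinitePresentation_of_isFinLocFree L hlf
  have hfl : FlatMod.IsFlatOver f L := Groth.Agent.Lead.PerfLib.isFlatOver_of_isFinLocFree f hlf
  haveI : LocallyOfFinitePresentation f := inferInstance
  obtain ⟨Z, i, h1, -, -, hup, -⟩ :=
    Groth.Agent.Helper1.UGC.exists_universal_immersion' f L hfp hfl 1
  refine ⟨Z, i, h1, fun T t XT fT gT hT => ?_⟩
  rw [hup t fT gT hT]
  haveI : IsProper fT := MorphismProperty.of_isPullback (P := @IsProper) hT inferInstance
  haveI : LocallyOfFinitePresentation fT :=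
    MorphismProperty.of_isPullback (P := @LocallyOfFinitePresentation) hT inferInstance
  haveI qG : ((pullback gT).obj L).IsQuasicoherent :=
    Groth.Agent.Lead.StalkPull.isQuasicoherent_pullbackObj _ L
  haveI : Coh.IsQCoh ((pullback gT).obj L) := qG
  have hF' : CohB1.IsFP ((pullback gT).obj L) := Groth.Agent.Lead.LimPres.isFP_pullback _ L hfp
  have hfl' : FlatMod.IsFlatOver fT ((pullback gT).obj L) := fun x' =>
    Groth.Agent.Lead.FlatBC.main_baseChange f fT gT t hT L inferInstance x' (hfl _)
  rw [← Groth.Agent.Helper1.UGC.univ_locFree_iff fT ((pullback gT).obj L) hF' hfl' 1]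
  constructor
  · rintro ⟨h2, h3⟩
    exact ⟨Groth.Agent.Helper4.SN.isInvertible_of_rank_one _ h2,
      fun T' u XT' fT' u' hT' => h3 u' fT' u hT'⟩
  · rintro ⟨h2, h3⟩
    exact ⟨Groth.Agent.Helper4.QAffSec.isFinLocFreeOfRank_one_of_isInvertible _ h2,
      fun X' S' g' f' g h => h3 S' g X' f' g' h⟩

end Groth.Agent.S16466
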