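import Groth.Statements.S1647
import Groth.Agent.Helper1.KzGGPn

set_option autoImplicit false
universe u
open CategoryTheory CategoryTheory.Limits AlgebraicGeometry
open Variety

namespace Groth.Agent.S1647

/-- Let F be a coherent module on P^n_k which is m-regular. Then F(m) = F ⊗ O(m) is globally generated. -/
theorem result (k : Type u) [Field k] (n : ℕ) (F : (CohB1.ProjSpace n k).Modules) (hF : Coh.IsCoh F) (m : ℤ)
    (h : Curv2.IsMRegular k n F m) : Curv2.IsGloballyGenerated (CohB1.tensorMod F (Twist.twistProjSpace n k m)) := by
  apply Groth.Agent.Helper1.KzMultPn.isGloballyGenerated_of_isReg n k F hF m m le_rfl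
  exact Groth.Agent.Helper1.KzReg.isReg_of_le n k F hF m h

end Groth.Agent.S1647
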