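import Groth.Statements.S16500
import Mathlib.Tactic.Ring
import Mathlib.Data.Nat.Prime.Basic
import Mathlib.Algebra.Polynomial.Degree.Lemmas

set_option autoImplicit false
universe u
open Curves

namespace Groth.Agent.S16500

/-- Let k be a field of odd characteristic p, g ≤ p a natural number and f ∈ k[x] of degree at most 2g +
2. Let F be f with its coefficients reversed in degrees 0, …, 2g + 2, i.e. F(X) = X^(2g+2) f(1/X)
(Mathlib's reflect (2g+2) f), and write f^((p-1)/2) = Σ_l c_l x^l and F^((p-1)/2) = Σ_l C_l X^l.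
Then C_{ip-j} = c_{(g+1-i)p-(g+1-j)} for all i, j = 1, …, g; that is, the g × g Cartier–Manin matrix
of F is that of f with the order of both rows and columns reversed (below the indices run over Fin
g, the entry at (i, j) being the coefficient of degree (i+1)p-(j+1), and reversal is Fin.rev). In
particular the two matrices have the same determinant. (The source applies this to f with f(0) = 0,
separable of degree 2g + 2 over a perfect field, so that F has odd degree 2g + 1; the identity uses
none of that.) -/
theorem result (k : Type u) [Field k] (p : ℕ) [Fact p.Prime] (hp : p ≠ 2) [CharP k p]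
    (g : ℕ) (hg : g ≤ p) (f : Polynomial k) (hf : f.natDegree ≤ 2 * g + 2) :
    (Matrix.of fun i j : Fin g =>
        ((Polynomial.reflect (2 * g + 2) f) ^ ((p - 1) / 2)).coeff (((i : ℕ) + 1) * p - ((j : ℕ) + 1))) =
      Matrix.of fun i j : Fin g =>
        (f ^ ((p - 1) / 2)).coeff (((Fin.rev i : ℕ) + 1) * p - ((Fin.rev j : ℕ) + 1)) := by
  have hpow : ∀ N : ℕ, (Polynomial.reflect (2 * g + 2) f) ^ N =
      Polynomial.reflect ((2 * g + 2) * N) (f ^ N) := by
    intro N
    induction N with
    | zero => simp [Polynomial.reflect_one]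
    | succ N ih =>
      rw [pow_succ, pow_succ, ih, mul_add, mul_one]
      rw [Polynomial.reflect_mul _ _ ?_ hf]
      calc (f ^ N).natDegree ≤ N * f.natDegree := Polynomial.natDegree_pow_le
        _ ≤ N * (2 * g + 2) := Nat.mul_le_mul_left _ hf
        _ = (2 * g + 2) * N := Nat.mul_comm _ _
  have hp2 : 2 ≤ p := (Fact.out : p.Prime).two_le
  have hodd : p % 2 = 1 := by
    rcases Nat.Prime.eq_two_or_odd (Fact.out : p.Prime) with h | h
    · exact absurd h hp
    · exact h
  have hM : (2 * g + 2) * ((p - 1) / 2) = (g + 1) * (p - 1) := by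
    have : (p - 1) / 2 * 2 = p - 1 := by omega
    calc (2 * g + 2) * ((p - 1) / 2) = (g + 1) * ((p - 1) / 2 * 2) := by ring
      _ = (g + 1) * (p - 1) := by rw [this]
  ext i j
  simp only [Matrix.of_apply]
  rw [hpow, Polynomial.coeff_reflect, hM]
  congr 1
  have hi : (i : ℕ) < g := i.2
  have hj : (j : ℕ) < g := j.2
  have hle : ((i : ℕ) + 1) * p - ((j : ℕ) + 1) ≤ (g + 1) * (p - 1) := by
    have h1 : ((i : ℕ) + 1) * p ≤ g * p := Nat.mul_le_mul_right _ hi
    have h2 : (g + 1) * (p - 1) = g * p + p - g - 1 := by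
      obtain ⟨q, rfl⟩ : ∃ q, p = q + 1 := ⟨p - 1, by omega⟩
      simp only [Nat.add_sub_cancel]
      have : (g + 1) * q = g * q + q := by ring
      have h3 : g * (q + 1) = g * q + g := by ring
      omega
    omega
  rw [Polynomial.revAt_le hle]
  simp only [Fin.val_rev]
  have h1 : ((i : ℕ) + 1) * p ≤ g * p := Nat.mul_le_mul_right _ hi
  have e1 : (g + 1) * (p - 1) = g * p + p - g - 1 := by
    obtain ⟨q, rfl⟩ : ∃ q, p = q + 1 := ⟨p - 1, by omega⟩
    simp only [Nat.add_sub_cancel]
    have : (g + 1) * q = g * q + q := by ring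
    have h3 : g * (q + 1) = g * q + g := by ring
    omega
  have e2 : (g - ((i : ℕ) + 1) + 1) * p = g * p - (i : ℕ) * p := by
    have : g - ((i : ℕ) + 1) + 1 = g - (i : ℕ) := by omega
    rw [this, Nat.sub_mul]
  have e3 : ((i : ℕ) + 1) * p = (i : ℕ) * p + p := by ring
  have h4 : (i : ℕ) * p + p ≤ g * p := by rw [← e3]; exact h1
  rw [e1, e2, e3]
  omega

end Groth.Agent.S16500
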