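import Groth.Statements.S1653
import Groth.Agent.Helper5.VarDim8

set_option autoImplicit false
universe u
open CategoryTheory CategoryTheory.Limits AlgebraicGeometry
open Variety

namespace Groth.Agent.S1653

/-- Let f : X → Y be a k-morphism of schemes locally of finite type over a field k, with X irreducible
of dimension a, and let the closure of the image of f have dimension b. Then the local fibre
dimension of f at every point of X is at least a - b, and the set of points where it equals a - b is
open and dense. -/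
theorem result (k : Type u) [Field k] (X Y : Scheme.{u}) [X.Over (Spec (CommRingCat.of k))] [Y.Over (Spec (CommRingCat.of k))]
    [LocallyOfFiniteType (X ↘ (Spec (CommRingCat.of k)))] [LocallyOfFiniteType (Y ↘ (Spec (CommRingCat.of k)))] [IrreducibleSpace X]
    (f : X ⟶ Y) (hf : f ≫ (Y ↘ (Spec (CommRingCat.of k))) = X ↘ (Spec (CommRingCat.of k))) (a b : ℕ) (ha : topologicalKrullDim X = a)
    (hb : topologicalKrullDim (closure (Set.range f.base)) = b) :
    (∀ x : X, ((a - b : ℕ) : WithBot ℕ∞) ≤ FlatMor.fibreDimAt f x) ∧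
      IsOpen {x : X | FlatMor.fibreDimAt f x = (a - b : ℕ)} ∧ Dense {x : X | FlatMor.fibreDimAt f x = (a - b : ℕ)} := by
  have hflft : LocallyOfFiniteType f := by
    have : LocallyOfFiniteType (f ≫ (Y ↘ (Spec (CommRingCat.of k)))) := hf ▸ inferInstance
    exact locallyOfFiniteType_of_comp f (Y ↘ (Spec (CommRingCat.of k)))
  have hgen := Groth.Agent.Helper5.VarDim.generic_fibre_dim k (X ↘ (Spec (CommRingCat.of k)))
    (Y ↘ (Spec (CommRingCat.of k))) f hf a b ha hb
  have hge : ∀ x : X, ((a - b : ℕ) : WithBot ℕ∞) ≤ FlatMor.fibreDimAt f x := by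
    intro x
    rw [← hgen, Groth.Agent.Helper5.VarDim.fibreDimAt_generic f (genericPoint X)
      (genericPoint_closure X)]
    exact Groth.Agent.Helper5.VarDim.generic_fibre_dim_le_fibreDimAt f x
  have hset : {x : X | FlatMor.fibreDimAt f x = (a - b : ℕ)} =
      {x : X | FlatMor.fibreDimAt f x ≤ ((a - b : ℕ) : WithBot ℕ∞)} := by
    ext x
    exact ⟨fun h => le_of_eq h, fun h => le_antisymm h (hge x)⟩
  have hopen : IsOpen {x : X | FlatMor.fibreDimAt f x = (a - b : ℕ)} := by
    rw [hset]
    exact Groth.Agent.Helper5.FibDim.isOpen_fibreDimAt_le f _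
  refine ⟨hge, hopen, ?_⟩
  exact hopen.dense ⟨genericPoint X, hgen⟩

end Groth.Agent.S1653
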