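import Groth.Statements.S1655
import Mathlib
import Groth.Agent.Helper3.BirLocalIso

set_option autoImplicit false
universe u
open scoped TensorProduct
open CategoryTheory CategoryTheory.Limits AlgebraicGeometry
open Variety

namespace Groth.Agent.S1655

/-- Let X be a Noetherian integral scheme, Y an integral scheme, and f : Y → X a proper morphism that
restricts to an isomorphism over some nonempty open subscheme of X. If x is a point of X whose local
ring is integrally closed and f is quasi-finite at some point lying over x, then f restricts to an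
isomorphism over an open neighbourhood of x. -/
theorem result {X Y : Scheme.{u}} [IsNoetherian X] [IsIntegral X] [IsIntegral Y]
    (f : Y ⟶ X) [IsProper f] (W : X.Opens) (hW : (W : Set X).Nonempty) (hfW : IsIso (f ∣_ W))
    (x : X) (hx : IsIntegrallyClosed (X.presheaf.stalk x)) (y : Y) (hy : f.base y = x) (hq : f.QuasiFiniteAt y) :
    ∃ V : X.Opens, x ∈ V ∧ IsIso (f ∣_ V) := by
  obtain ⟨w, hw⟩ := hW
  have hsurj : Function.Surjective (f ∣_ W) := (f ∣_ W).homeomorph.surjective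
  obtain ⟨z, hz⟩ := hsurj ⟨w, hw⟩
  have hne : Nonempty ↥(f ⁻¹ᵁ W).toScheme := ⟨z⟩
  have hint : IsIntegral (f ⁻¹ᵁ W).toScheme := isIntegral_of_isOpenImmersion (f ⁻¹ᵁ W).ι
  have hirr : IrreducibleSpace ↥(f ⁻¹ᵁ W).toScheme := inferInstance
  have hoi : IsOpenImmersion ((f ⁻¹ᵁ W).ι ≫ f) := by
    rw [← morphismRestrict_ι]; infer_instance
  have e1 : (f ⁻¹ᵁ W).ι (genericPoint ↥(f ⁻¹ᵁ W).toScheme) = genericPoint Y :=
    genericPoint_eq_of_isOpenImmersion (f ⁻¹ᵁ W).ι
  have e2 : ((f ⁻¹ᵁ W).ι ≫ f) (genericPoint ↥(f ⁻¹ᵁ W).toScheme) = genericPoint X :=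
    genericPoint_eq_of_isOpenImmersion ((f ⁻¹ᵁ W).ι ≫ f)
  have hgen : f (genericPoint Y) = genericPoint X := by
    rw [← e1]; exact e2
  have hη : genericPoint Y ∈ f ⁻¹ᵁ W := by
    rw [← e1]; exact (genericPoint ↥(f ⁻¹ᵁ W).toScheme).2
  have h1 : IsIso (((f ⁻¹ᵁ W).ι ≫ f).stalkMap ⟨genericPoint Y, hη⟩) := inferInstance
  rw [Scheme.Hom.stalkMap_comp] at h1
  have h2 : IsIso ((f ⁻¹ᵁ W).ι.stalkMap ⟨genericPoint Y, hη⟩) := inferInstance
  have hbir : IsIso (f.stalkMap (genericPoint Y)) :=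
    @IsIso.of_isIso_comp_right _ _ _ _ _ (f.stalkMap ((f ⁻¹ᵁ W).ι ⟨genericPoint Y, hη⟩))
      ((f ⁻¹ᵁ W).ι.stalkMap ⟨genericPoint Y, hη⟩) h2 h1
  have hy' : f y = x := hy
  have hx' : IsIntegrallyClosed ↑(X.presheaf.stalk (f y)) := by
    rw [hy']; exact hx
  obtain ⟨V, hV, hVi⟩ := Groth.Agent.Helper3.BirLocalIso.exists_isIso_nbhd
    f hgen hbir y hq hx'
  exact ⟨V, hy' ▸ hV, hVi⟩

end Groth.Agent.S1655
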