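import Groth.Statements.S16574
import Groth.Agent.Helper4.NApx12
import Mathlib

set_option autoImplicit false
universe u
open CategoryTheory AlgebraicGeometry
open AffSch

namespace Groth.Agent.S16574


/-- Let A be a commutative ring, U a quasi-compact open subscheme of Spec A and U' → U a finite
morphism. Then there exist a finite A-algebra B and a morphism U' → Spec B such that the square
formed by U' → U, U' → Spec B, Spec B → Spec A and the inclusion of U is cartesian; in particular U'
→ Spec B is the open immersion of the preimage of U. (If U contains the complement of the closed set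
of an ideal I then this preimage contains the complement of the closed set of IB; that clause is
automatic and omitted.) -/
theorem result
    (A : Type u) [CommRing A] (U : (Spec (CommRingCat.of A)).Opens) (hU : IsCompact (U : Set (Spec (CommRingCat.of A))))
    (U' : Scheme.{u}) (g : U' ⟶ (U : Scheme.{u})) [IsFinite g] :
    ∃ (B : Type u) (_ : CommRing B) (_ : Algebra A B) (i : U' ⟶ Spec (CommRingCat.of B)),
      Module.Finite A B ∧ IsPullback i g (Spec.map (CommRingCat.ofHom (algebraMap A B))) U.ι := by

  obtain ⟨T, π, i, hπ, hi, hpb, -, -⟩ :=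
    Groth.Agent.Helper4.NApx12.exists_finite_extension U hU g
  haveI := hπ
  haveI : IsAffine T := isAffine_of_isAffineHom π
  let φ : CommRingCat.of A ⟶ Γ(T, ⊤) := (Scheme.ΓSpecIso (CommRingCat.of A)).inv ≫ π.appTop
  letI alg : Algebra A Γ(T, ⊤) := φ.hom.toAlgebra
  have hφ : CommRingCat.ofHom (algebraMap A Γ(T, ⊤)) = φ := rfl
  have hπ' : T.isoSpec.hom ≫ Spec.map φ = π := by
    show T.isoSpec.hom ≫ Spec.map ((Scheme.ΓSpecIso (CommRingCat.of A)).inv ≫ π.appTop) = π
    rw [Spec.map_comp, Scheme.isoSpec_hom_naturality_assoc, Scheme.isoSpec_Spec_hom,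
      ← Spec.map_comp, Iso.inv_hom_id, Spec.map_id, Category.comp_id]
  refine ⟨Γ(T, ⊤), inferInstance, alg, i ≫ T.isoSpec.hom, ?_, ?_⟩
  · have h1 : IsFinite (Spec.map φ) := by
      have : Spec.map φ = T.isoSpec.inv ≫ π := by rw [← hπ', Iso.inv_hom_id_assoc]
      rw [this]; infer_instance
    rw [IsFinite.SpecMap_iff] at h1
    exact h1
  · rw [hφ]
    refine IsPullback.of_iso hpb (Iso.refl _) T.isoSpec (Iso.refl _) (Iso.refl _) ?_ ?_ ?_ ?_
    · simp
    · simp
    · simp [hπ']
    · simp

end Groth.Agent.S16574
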