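import Groth.Statements.S16598
import Mathlib
import Groth.Agent.Helper8.LG

set_option autoImplicit false
universe u v
open LGRing

namespace Groth.Agent.S16598

/-- Let R be an LG-ring and M a faithfully projective R-module (finitely generated projective and
faithful). Then M contains a unimodular element: there are m ∈ M and a linear form f on M with f(m)
= 1 (so R·m is a free direct summand of M of rank one). -/
theorem result {R : Type u} [CommRing R] (hR : LGRing.IsLGRing R)
    (M : Type v) [AddCommGroup M] [Module R M] [Module.Finite R M] [Module.Projective R M] [FaithfulSMul R M] :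
    ∃ (m : M) (f : Module.Dual R M), f m = 1 := by
  classical
  obtain ⟨n, p, i, -, -, hpi⟩ := Module.Finite.exists_comp_eq_id_of_projective R M
  let mk : Fin n → M := fun k => p (Pi.single k 1)
  let g : Fin n → Module.Dual R M := fun l => LinearMap.proj l ∘ₗ i
  have hdual : ∀ x : M, x = ∑ l, g l x • mk l := by
    intro x
    have h1 : p (i x) = x := LinearMap.congr_fun hpi x
    conv_lhs => rw [← h1, LinearMap.pi_apply_eq_sum_univ p (i x)]
    refine Finset.sum_congr rfl fun l _ => ?_
    have : (fun j => if l = j then (1 : R) else 0) = Pi.single l 1 := by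
      ext j; simp [Pi.single_apply, eq_comm]
    simp [g, mk, this]
  let F : MvPolynomial (Fin n ⊕ Fin n) R :=
    ∑ k, ∑ l, MvPolynomial.X (Sum.inl k) * MvPolynomial.X (Sum.inr l) * MvPolynomial.C (g l (mk k))
  have hF : ∀ s : Fin n ⊕ Fin n → R, MvPolynomial.aeval s F =
      (∑ l, s (Sum.inr l) • g l) (∑ k, s (Sum.inl k) • mk k) := by
    intro s
    simp only [F, map_sum, map_mul, MvPolynomial.aeval_X, MvPolynomial.aeval_C, LinearMap.sum_apply,
      LinearMap.smul_apply, map_smul, smul_eq_mul, Algebra.algebraMap_self, RingHom.id_apply, Finset.mul_sum]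
    refine Finset.sum_congr rfl fun l _ => Finset.sum_congr rfl fun k _ => ?_
    ring
  obtain ⟨s, hs⟩ := Groth.Agent.Helper8.LG.lg_fintype hR F (fun m hm => by
    have hex : ∃ k l, g l (mk k) ∉ m := by
      by_contra hcon
      push Not at hcon
      have hg : ∀ x l, g l x ∈ m := by
        intro x l
        have : g l x = ∑ k, g k x * g l (mk k) := by
          conv_lhs => rw [hdual x]
          simp
        rw [this]
        exact Ideal.sum_mem _ fun k _ => Ideal.mul_mem_left _ _ (hcon k l)
      have htop : (⊤ : Submodule R M) ≤ m • ⊤ := by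
        intro x _
        rw [hdual x]
        exact Submodule.sum_mem _ fun l _ => Submodule.smul_mem_smul (hg x l) Submodule.mem_top
      obtain ⟨r, hr1, hr2⟩ := Submodule.exists_sub_one_mem_and_smul_eq_zero_of_fg_of_le_smul m ⊤
        Module.Finite.fg_top htop
      have hr0 : r = 0 := by
        apply FaithfulSMul.eq_of_smul_eq_smul (α := M)
        intro x
        rw [hr2 x Submodule.mem_top, zero_smul]
      rw [hr0, zero_sub] at hr1
      have : (1 : R) ∈ m := by simpa using m.neg_mem hr1
      exact hm.ne_top ((Ideal.eq_top_iff_one m).2 this)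
    obtain ⟨k, l, hkl⟩ := hex
    let s₀ : Fin n ⊕ Fin n → R := Sum.elim (fun k' => if k' = k then 1 else 0) (fun l' => if l' = l then 1 else 0)
    refine ⟨fun x => Ideal.Quotient.mk m (s₀ x), ?_⟩
    have hcomp : MvPolynomial.aeval (fun x => Ideal.Quotient.mk m (s₀ x)) F =
        Ideal.Quotient.mk m (MvPolynomial.aeval s₀ F) := by
      have := MvPolynomial.comp_aeval (R := R) s₀ (Ideal.Quotient.mkₐ R m)
      have h2 := DFunLike.congr_fun this F
      simpa using h2.symm
    rw [hcomp, hF]
    have : (∑ l', s₀ (Sum.inr l') • g l') (∑ k', s₀ (Sum.inl k') • mk k') = g l (mk k) := by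
      simp [s₀]
    rw [this]
    let _ : Field (R ⧸ m) := Ideal.Quotient.field m
    rw [isUnit_iff_ne_zero, Ne, Ideal.Quotient.eq_zero_iff_mem]
    exact hkl)
  rw [hF] at hs
  obtain ⟨u, hu⟩ := hs
  refine ⟨∑ k, s (Sum.inl k) • mk k, (↑u⁻¹ : R) • ∑ l, s (Sum.inr l) • g l, ?_⟩
  rw [LinearMap.smul_apply, ← hu, smul_eq_mul, Units.inv_mul]

end Groth.Agent.S16598
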