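import Groth.Statements.S16627
import Groth.Agent.Helper1.RegMono
import Groth.Agent.Helper4.TensorAssoc

set_option autoImplicit false
universe u
open Variety

namespace Groth.Agent.S16627

open AlgebraicGeometry CategoryTheory CategoryTheory.Limits in
/-- Let k be a field, F a coherent module on projective n-space P^n_k which is m-regular, and ι : F ⊗
O(-1) → F a monomorphism of O-modules (such as multiplication by a linear form that is a
nonzerodivisor on F, i.e. a hyperplane avoiding the associated points of F). Then the cokernel of ι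
— the restriction of F to the hyperplane, as a module on P^n_k — is again m-regular. (Stated for an
arbitrary monomorphism F(-1) → F and an arbitrary ground field.) -/
theorem result (k : Type u) [Field k] (n : ℕ)
    (F : (CohB1.ProjSpace n k).Modules) (hF : Coh.IsCoh F) (m : ℤ) (hreg : Curv2.IsMRegular k n F m)
    (ι : CohB1.tensorMod F (Twist.twistProjSpace n k (-1)) ⟶ F) [Mono ι] :
    Curv2.IsMRegular k n (cokernel ι) m := by
  intro i hi1 hin
  let S : ShortComplex (CohB1.ProjSpace n k).Modules :=
    ShortComplex.mk ι (cokernel.π ι) (cokernel.condition ι)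
  have hS : S.ShortExact := ShortComplex.ShortExact.mk'
    (ShortComplex.exact_of_g_is_cokernel _ (cokernelIsCokernel ι))
    (inferInstanceAs (Mono ι)) (inferInstanceAs (Epi (cokernel.π ι)))
  have hB := Groth.Agent.Helper1.SerreVan.isInvertible_twist n k (m - i)
  have hB1 := Groth.Agent.Helper1.SerreVan.isInvertible_twist n k (-1)
  have hS' := Groth.Agent.Helper1.TwistExact.shortExact_map_tensorRightMod hS _ hB
  have hex := Groth.Agent.Helper1.HHLes.exact_g_δ k _ hS' i
  haveI h2 : Subsingleton (Coh.HH (CohB1.ProjSpace n k)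
      (S.map (DCoh.tensorRightMod (Twist.twistProjSpace n k (m - i)))).X₂ i) := hreg i hi1 hin
  -- the twisted kernel term
  obtain ⟨e2⟩ := Groth.Agent.Helper1.TwistMul.nonempty_twist_tensor_twist_iso
    (CohB1.polyGrading n k) (Groth.Agent.Helper1.SerreFin.hcov_poly n k) (-1) (m - i)
    (m - ((i + 1 : ℕ) : ℤ)) (by push_cast; ring)
  have e3 : CohB1.tensorMod (CohB1.tensorMod F (Twist.twistProjSpace n k (-1)))
      (Twist.twistProjSpace n k (m - i)) ≅
      CohB1.tensorMod F (Twist.twistProjSpace n k (m - ((i + 1 : ℕ) : ℤ))) :=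
    Groth.Agent.Helper4.TensorAssoc.assocIso F _ _ hB1 hB ≪≫
      PicGrp.tensorModIso (Iso.refl F) e2
  have h1' : Subsingleton (Coh.HH (CohB1.ProjSpace n k)
      (CohB1.tensorMod F (Twist.twistProjSpace n k (m - ((i + 1 : ℕ) : ℤ)))) (i + 1)) := by
    by_cases hlt : i + 1 ≤ n
    · exact hreg (i + 1) (by omega) hlt
    · haveI : F.IsQuasicoherent := hF.1
      haveI : (Twist.twistProjSpace n k (m - ((i + 1 : ℕ) : ℤ))).IsQuasicoherent :=
        (Groth.Agent.Helper1.SerreFin.isCoh_twist n k _).1
      haveI : Coh.IsQCoh (CohB1.tensorMod F (Twist.twistProjSpace n k (m - ((i + 1 : ℕ) : ℤ)))) :=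
        Groth.Agent.Lead.QcohTensor.isQuasicoherent_tensorMod F _
      exact Groth.Agent.S0022.result n k _ (i + 1) (by omega)
  haveI h1 : Subsingleton (Coh.HH (CohB1.ProjSpace n k)
      (S.map (DCoh.tensorRightMod (Twist.twistProjSpace n k (m - i)))).X₁ (i + 1)) :=
    (Groth.Agent.Helper1.ProjTop.HHlinEquiv k (X := CohB1.ProjSpace n k) e3
      (i + 1)).toEquiv.subsingleton
  have h0 : ∀ x : Coh.HH (CohB1.ProjSpace n k)
      (S.map (DCoh.tensorRightMod (Twist.twistProjSpace n k (m - i)))).X₃ i, x = 0 := by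
    intro x
    obtain ⟨y, rfl⟩ := (hex x).1 (Subsingleton.elim _ _)
    rw [Subsingleton.elim y 0, map_zero]
  exact ⟨fun x y => (h0 x).trans (h0 y).symm⟩

end Groth.Agent.S16627
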