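import Groth.Statements.S1665
import Groth.Agent.Helper5.Cond

set_option autoImplicit false
universe u
open Variety

namespace Groth.Agent.S1665

/-- Let B be a Noetherian domain of dimension one with finitely many maximal ideals and B' its integral
closure in its fraction field. Then B' is a Dedekind domain with finitely many maximal ideals, and
for every nonzero x in the Jacobson radical of B' and every y ∈ B' some power x^n satisfies x^n y ∈
B. -/
theorem result (B : Type u) [CommRing B] [IsDomain B] [IsNoetherianRing B]
    (hdim : ringKrullDim B = 1) (hsl : Finite (MaximalSpectrum B)) :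
    IsDedekindDomain (integralClosure B (FractionRing B)) ∧ Finite (MaximalSpectrum (integralClosure B (FractionRing B))) ∧
      ∀ x : integralClosure B (FractionRing B), x ≠ 0 → x ∈ (⊥ : Ideal (integralClosure B (FractionRing B))).jacobson →
        ∀ y : integralClosure B (FractionRing B), ∃ n : ℕ, (x ^ n * y).1 ∈ (algebraMap B (FractionRing B)).range := by
  have hK : Ring.KrullDimLE 1 B := Ring.krullDimLE_iff.2 (by rw [hdim]; rfl)
  have hnf : ¬ IsField B := by
    intro h
    have h0 := ringKrullDim_eq_zero_of_isField h
    rw [hdim] at h0
    exact one_ne_zero h0
  refine ⟨Groth.Agent.Helper5.KA.isDedekindDomain_integralClosure B (FractionRing B) B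
    (IsFractionRing.injective B (FractionRing B)),
    Groth.Agent.Helper5.Cond.finite_maxSpec B (FractionRing B) hnf hsl, ?_⟩
  intro x _ hx y
  exact Groth.Agent.Helper5.Cond.pow_mul_mem B (FractionRing B) x y hx

end Groth.Agent.S1665
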