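import Groth.Statements.S16688
import Mathlib
import Groth.Agent.Helper8.HopfAnti
open Groth.Agent.Helper8
open scoped TensorProduct

set_option autoImplicit false
universe u v w
open ComodSub

namespace Groth.Agent.S16688

/-- Let `k` be a commutative ring, `A` a commutative Hopf algebra over `k` with antipode `S`, and `M` a
`k`-module with a left `A`-comodule structure `m ↦ Σ m₋₁ ⊗ m₀`. Then the map `M → M ⊗ A`, `m ↦ Σ m₀
⊗ S(m₋₁)`, is coassociative and counital: it is the coaction of a right `A`-comodule structure on
`M` (a right structure is determined by its coaction, so this structure is unique). -/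
theorem result (k : Type u) [CommRing k]
    (A : Type v) [CommRing A] [HopfAlgebra k A]
    (M : Type w) [AddCommGroup M] [Module k M] (l : ComodSub.LComod k A M) :
    ∃ c : HopfRep.Comod k A M, c.coact = ComodSub.rcoactOfLeft l := by
  set S : A →ₗ[k] A := HopfAlgebraStruct.antipode (R := k) (A := A) with hS
  set ρ : M →ₗ[k] M ⊗[k] A := ComodSub.rcoactOfLeft l with hρ
  have hρv : ∀ v, ρ v = TensorProduct.comm k A M (S.rTensor M (l.coact v)) := fun v => rfl
  -- the auxiliary map a ⊗ (b ⊗ v) ↦ v ⊗ (S b ⊗ S a)
  let T : A ⊗[k] (A ⊗[k] M) →ₗ[k] M ⊗[k] (A ⊗[k] A) :=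
    (((TensorProduct.map S S).comp (TensorProduct.comm k A A).toLinearMap).lTensor M).comp
      ((TensorProduct.comm k (A ⊗[k] A) M).toLinearMap.comp
        (TensorProduct.assoc k A A M).symm.toLinearMap)
  have hT : ∀ (a b : A) (v : M), T (a ⊗ₜ[k] (b ⊗ₜ[k] v)) = v ⊗ₜ[k] (S b ⊗ₜ[k] S a) := by
    intro a b v
    simp [T]
  have claim1 : ∀ (a : A) (s : A ⊗[k] M),
      TensorProduct.assoc k M A A ((TensorProduct.comm k A M (S.rTensor M s)) ⊗ₜ[k] S a) =
        T (a ⊗ₜ[k] s) := by
    intro a s
    induction s using TensorProduct.induction_on with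
    | zero => simp
    | tmul b w => rw [hT]; simp
    | add p q hp hq =>
      rw [map_add, map_add, TensorProduct.add_tmul, map_add, hp, hq, TensorProduct.tmul_add, map_add]
  have claim2 : ∀ (u : A ⊗[k] A) (v : M),
      T (TensorProduct.assoc k A A M (u ⊗ₜ[k] v)) =
        v ⊗ₜ[k] (TensorProduct.map S S (TensorProduct.comm k A A u)) := by
    intro u v
    induction u using TensorProduct.induction_on with
    | zero => simp
    | tmul x y => simp [hT]
    | add p q hp hq =>
      rw [TensorProduct.add_tmul, map_add, map_add, hp, hq, map_add, map_add, TensorProduct.tmul_add]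
  have hco : ∀ t : A ⊗[k] M,
      TensorProduct.assoc k M A A (ρ.rTensor A (TensorProduct.comm k A M (S.rTensor M t))) =
        T (l.coact.lTensor A t) := by
    intro t
    induction t using TensorProduct.induction_on with
    | zero => simp
    | tmul a v =>
      simp only [LinearMap.rTensor_tmul, TensorProduct.comm_tmul, LinearMap.lTensor_tmul]
      rw [hρv, claim1]
    | add p q hp hq => simp only [map_add, hp, hq]
  have hco2 : ∀ t : A ⊗[k] M,
      (CoalgebraStruct.comul (R := k) (A := A)).lTensor M
          (TensorProduct.comm k A M (S.rTensor M t)) =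
        T (TensorProduct.assoc k A A M ((CoalgebraStruct.comul (R := k) (A := A)).rTensor M t)) := by
    intro t
    induction t using TensorProduct.induction_on with
    | zero => simp
    | tmul a v =>
      simp only [LinearMap.rTensor_tmul, TensorProduct.comm_tmul, LinearMap.lTensor_tmul]
      rw [claim2, hS]
      congr 1
      exact HopfAnti.comul_antipode (R := k) a
    | add p q hp hq => simp only [map_add, hp, hq]
  refine ⟨⟨ρ, ?_, ?_⟩, rfl⟩
  · apply LinearMap.ext
    intro v
    simp only [LinearMap.coe_comp, Function.comp_apply, LinearEquiv.coe_coe]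
    have h1 := LinearMap.congr_fun l.coassoc v
    simp only [LinearMap.coe_comp, Function.comp_apply, LinearEquiv.coe_coe] at h1
    conv_lhs => rw [hρv v]
    rw [hco, h1, ← hco2, ← hρv]
  · apply LinearMap.ext
    intro v
    simp only [LinearMap.coe_comp, Function.comp_apply, LinearMap.flip_apply, TensorProduct.mk_apply]
    have h1 := LinearMap.congr_fun l.counit_comp v
    simp only [LinearMap.coe_comp, Function.comp_apply, TensorProduct.mk_apply] at h1
    have h2 : ∀ t : A ⊗[k] M, (CoalgebraStruct.counit (R := k) (A := A)).lTensor M
        (TensorProduct.comm k A M (S.rTensor M t)) =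
        TensorProduct.comm k k M ((CoalgebraStruct.counit (R := k) (A := A)).rTensor M t) := by
      intro t
      induction t using TensorProduct.induction_on with
      | zero => simp
      | tmul a w =>
        simp only [LinearMap.rTensor_tmul, TensorProduct.comm_tmul, LinearMap.lTensor_tmul]
        rw [hS]
        congr 1
        exact HopfAlgebra.counit_antipode a
      | add p q hp hq => simp only [map_add, hp, hq]
    rw [hρv, h2, h1, TensorProduct.comm_tmul]

end Groth.Agent.S16688
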