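import Groth.Statements.S16689
import Mathlib
import Groth.Agent.Helper8.HopfAnti
open Groth.Agent.Helper8
open scoped TensorProduct

set_option autoImplicit false
universe u v w
open ComodSub

namespace Groth.Agent.S16689

/-- Let `k` be a commutative ring, `A` a commutative Hopf algebra over `k` with antipode `S`, and `M` a
`k`-module with a right `A`-comodule structure `m ↦ Σ m₀ ⊗ m₁`. Then the map `M → A ⊗ M`, `m ↦ Σ
S(m₁) ⊗ m₀`, is coassociative and counital: it is the coaction of a left `A`-comodule structure on
`M` (a left structure is determined by its coaction, so this structure is unique). -/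
theorem result (k : Type u) [CommRing k]
    (A : Type v) [CommRing A] [HopfAlgebra k A]
    (M : Type w) [AddCommGroup M] [Module k M] (c : HopfRep.Comod k A M) :
    ∃ l : ComodSub.LComod k A M, l.coact = ComodSub.lcoactOfRight c := by
  set S : A →ₗ[k] A := HopfAlgebraStruct.antipode (R := k) (A := A) with hS
  set lam : M →ₗ[k] A ⊗[k] M := ComodSub.lcoactOfRight c with hlam
  have hlamv : ∀ v, lam v = TensorProduct.comm k M A (S.lTensor M (c.coact v)) := fun v => rfl
  -- the auxiliary map (v ⊗ a) ⊗ b ↦ S b ⊗ (S a ⊗ v)
  let T : (M ⊗[k] A) ⊗[k] A →ₗ[k] A ⊗[k] (A ⊗[k] M) :=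
    (TensorProduct.assoc k A A M).toLinearMap.comp
      ((((TensorProduct.map S S).comp (TensorProduct.comm k A A).toLinearMap).rTensor M).comp
        ((TensorProduct.comm k M (A ⊗[k] A)).toLinearMap.comp
          (TensorProduct.assoc k M A A).toLinearMap))
  have hT : ∀ (v : M) (a b : A), T ((v ⊗ₜ[k] a) ⊗ₜ[k] b) = S b ⊗ₜ[k] (S a ⊗ₜ[k] v) := by
    intro v a b
    simp [T]
  have claim1 : ∀ (a : A) (s : M ⊗[k] A),
      S a ⊗ₜ[k] (TensorProduct.comm k M A (S.lTensor M s)) = T (s ⊗ₜ[k] a) := by
    intro a s
    induction s using TensorProduct.induction_on with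
    | zero => simp
    | tmul w b => rw [hT]; simp
    | add p q hp hq =>
      rw [map_add, map_add, TensorProduct.tmul_add, hp, hq, TensorProduct.add_tmul, map_add]
  have claim2 : ∀ (v : M) (u : A ⊗[k] A),
      T ((TensorProduct.assoc k M A A).symm (v ⊗ₜ[k] u)) =
        TensorProduct.assoc k A A M
          ((TensorProduct.map S S (TensorProduct.comm k A A u)) ⊗ₜ[k] v) := by
    intro v u
    induction u using TensorProduct.induction_on with
    | zero => simp
    | tmul x y => simp [hT]
    | add p q hp hq =>
      rw [TensorProduct.tmul_add, map_add, map_add, hp, hq, map_add, map_add, TensorProduct.add_tmul,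
        map_add]
  have hco : ∀ t : M ⊗[k] A,
      lam.lTensor A (TensorProduct.comm k M A (S.lTensor M t)) = T (c.coact.rTensor A t) := by
    intro t
    induction t using TensorProduct.induction_on with
    | zero => simp
    | tmul v a =>
      simp only [LinearMap.rTensor_tmul, TensorProduct.comm_tmul, LinearMap.lTensor_tmul]
      rw [hlamv, claim1]
    | add p q hp hq => simp only [map_add, hp, hq]
  have hco2 : ∀ t : M ⊗[k] A,
      TensorProduct.assoc k A A M ((CoalgebraStruct.comul (R := k) (A := A)).rTensor M
          (TensorProduct.comm k M A (S.lTensor M t))) =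
        T ((TensorProduct.assoc k M A A).symm
          ((CoalgebraStruct.comul (R := k) (A := A)).lTensor M t)) := by
    intro t
    induction t using TensorProduct.induction_on with
    | zero => simp
    | tmul v a =>
      simp only [LinearMap.rTensor_tmul, TensorProduct.comm_tmul, LinearMap.lTensor_tmul]
      rw [claim2, hS]
      congr 2
      exact HopfAnti.comul_antipode (R := k) a
    | add p q hp hq => simp only [map_add, hp, hq]
  refine ⟨⟨lam, ?_, ?_⟩, rfl⟩
  · apply LinearMap.ext
    intro v
    simp only [LinearMap.coe_comp, Function.comp_apply, LinearEquiv.coe_coe]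
    have h1 := LinearMap.congr_fun c.coassoc v
    simp only [LinearMap.coe_comp, Function.comp_apply, LinearEquiv.coe_coe] at h1
    conv_lhs => rw [hlamv v]
    rw [hco, hlamv v, hco2, ← h1, LinearEquiv.symm_apply_apply]
  · apply LinearMap.ext
    intro v
    simp only [LinearMap.coe_comp, Function.comp_apply, TensorProduct.mk_apply]
    have h1 := LinearMap.congr_fun c.counit_comp v
    simp only [LinearMap.coe_comp, Function.comp_apply, LinearMap.flip_apply,
      TensorProduct.mk_apply] at h1
    have h2 : ∀ t : M ⊗[k] A, (CoalgebraStruct.counit (R := k) (A := A)).rTensor M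
        (TensorProduct.comm k M A (S.lTensor M t)) =
        TensorProduct.comm k M k ((CoalgebraStruct.counit (R := k) (A := A)).lTensor M t) := by
      intro t
      induction t using TensorProduct.induction_on with
      | zero => simp
      | tmul w a =>
        simp only [LinearMap.rTensor_tmul, TensorProduct.comm_tmul, LinearMap.lTensor_tmul]
        rw [hS]
        congr 1
        exact HopfAlgebra.counit_antipode a
      | add p q hp hq => simp only [map_add, hp, hq]
    rw [hlamv, h2, h1, TensorProduct.comm_tmul]

end Groth.Agent.S16689
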