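import Groth.Statements.S16699
import Groth.Agent.Helper6.AlgStBC
import Groth.Agent.Helper6.SpAtlas
import Groth.Agent.Helper6.OfPshHom

set_option autoImplicit false
universe u
open AlgSt AlgSt.IsWellNighAffine

namespace Groth.Agent.S16699

open CategoryTheory AlgebraicGeometry in
/-- An algebraic stack affine over a well-nigh affine algebraic stack is well-nigh affine. -/
theorem result (S : Scheme.{u}) (𝒳 𝒳' : AlgSt.Cat S)
    (h𝒳 : AlgSt.IsAlgStack Scheme.fppfPrecoverage 𝒳) (h𝒳' : AlgSt.IsAlgStack Scheme.fppfPrecoverage 𝒳')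
    (hw : AlgSt.IsWellNighAffine 𝒳) (f : 𝒳' ⥤ᵇ 𝒳) (hf : AlgSt.RepByAlgSpWith AlgSp.IsAffineMor f) :
    AlgSt.IsWellNighAffine 𝒳' := by
  obtain ⟨U, x, hU, hx⟩ := hw
  obtain ⟨F, e, he, ha⟩ := hf U x
  obtain ⟨W, i, fst, sq, hW⟩ := ha hU (𝟙 _)
  haveI : IsIso fst := sq.isIso_fst_of_isIso
  let φ : ((AlgSp.yon S).obj W).obj ≅ F.obj.obj := (ObjectProperty.ι _).mapIso (asIso fst)
  have hφ : FibCat.IsEquivOver (AlgSt.ofSpMap fst) :=
    Groth.Agent.Helper6.OfPshHom.isEquivOver_ofPshMap_iso φ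
  let E₀ : FibCat.overCat W ⥤ᵇ FibCat.fp x f :=
    BasedFunctor.comp (AlgSt.ofOverCat W) (BasedFunctor.comp (AlgSt.ofSpMap fst) e)
  have hE₀ : FibCat.IsEquivOver E₀ :=
    Groth.Agent.Helper6.FpTools.isEquivOver_comp (Groth.Agent.Helper6.SpAtlas.isEquivOver_ofOverCat W)
      (Groth.Agent.Helper6.FpTools.isEquivOver_comp hφ he)
  let E : FibCat.overCat W ⥤ᵇ FibCat.fp f x :=
    BasedFunctor.comp E₀ (Groth.Agent.Helper6.FpTools.fpSwap x f)
  have hE : FibCat.IsEquivOver E :=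
    Groth.Agent.Helper6.FpTools.isEquivOver_comp hE₀ (Groth.Agent.Helper6.FpTools.isEquivOver_fpSwap x f)
  refine ⟨W, BasedFunctor.comp E (FibCat.fpFst f x), hW, ?_⟩
  exact Groth.Agent.Helper6.AlgStBC.repByAlgSpWith_of_baseChange _ x f _ E hE (Iso.refl _) hx

end Groth.Agent.S16699
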