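import Groth.Statements.S16707
import Mathlib.RingTheory.Flat.Equalizer
import Mathlib.LinearAlgebra.TensorProduct.Quotient

set_option autoImplicit false
universe u v
open CAlg

namespace Groth.Agent.S16707

open TensorProduct in
/-- Let A be a commutative ring, I a nilpotent ideal of A and f : M → N a homomorphism of A-modules with
N flat over A (no finiteness assumption on M or N). If the base change of f to A/I, that is M/IM →
N/IN, is bijective, then f is bijective. -/
theorem result (A : Type u) [CommRing A] (I : Ideal A)
    (hI : IsNilpotent I) (M N : Type v) [AddCommGroup M] [Module A M] [AddCommGroup N] [Module A N]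
    [Module.Flat A N] (f : M →ₗ[A] N)
    (hf : Function.Bijective (f.baseChange (A ⧸ I))) :
    Function.Bijective f := by
  -- general principle: modules killed by tensoring with `A ⧸ I` vanish
  have nak : ∀ (Q : Type v) [AddCommGroup Q] [Module A Q],
      Subsingleton ((A ⧸ I) ⊗[A] Q) → Subsingleton Q := by
    intro Q _ _ hQ
    have h1 : Subsingleton (Q ⧸ (I • (⊤ : Submodule A Q))) :=
      (TensorProduct.quotTensorEquivQuotSMul Q I).symm.injective.subsingleton
    have h2 : I • (⊤ : Submodule A Q) = ⊤ := Submodule.Quotient.subsingleton_iff.mp h1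
    obtain ⟨n, hn⟩ := hI
    have h3 : ∀ k : ℕ, I ^ k • (⊤ : Submodule A Q) = ⊤ := by
      intro k
      induction k with
      | zero => simp
      | succ k ih => rw [pow_succ, Submodule.mul_smul, h2, ih]
    have h4 : (⊤ : Submodule A Q) = ⊥ := by
      rw [← h3 n, hn]
      exact Submodule.bot_smul _
    exact (Submodule.subsingleton_iff A).mp (subsingleton_iff_bot_eq_top.mp h4.symm)
  have hlt : (f.lTensor (A ⧸ I) : (A ⧸ I) ⊗[A] M → (A ⧸ I) ⊗[A] N) = f.baseChange (A ⧸ I) := by
    ext x; rfl
  have hf' : Function.Bijective (f.lTensor (A ⧸ I)) := by rw [hlt]; exact hf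
  -- surjectivity
  have hsurj : Function.Surjective f := by
    rw [← LinearMap.range_eq_top]
    have : Subsingleton (N ⧸ LinearMap.range f) := by
      apply nak
      refine ⟨fun y₁ y₂ => ?_⟩
      have hz : ∀ y : (A ⧸ I) ⊗[A] (N ⧸ LinearMap.range f), y = 0 := by
        intro y
        obtain ⟨x, rfl⟩ := LinearMap.lTensor_surjective (A ⧸ I) (LinearMap.range f).mkQ_surjective y
        obtain ⟨w, rfl⟩ := hf'.2 x
        rw [← LinearMap.comp_apply, ← LinearMap.lTensor_comp]
        have : (LinearMap.range f).mkQ ∘ₗ f = 0 := by
          ext m; simp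
        rw [this, LinearMap.lTensor_zero, LinearMap.zero_apply]
      rw [hz y₁, hz y₂]
    exact Submodule.Quotient.subsingleton_iff.mp this
  refine ⟨?_, hsurj⟩
  -- injectivity
  rw [← LinearMap.ker_eq_bot]
  have hinj := LinearMap.lTensor_injective_of_exact_of_flat f hsurj (LinearMap.ker f).subtype
    (LinearMap.ker f).injective_subtype (LinearMap.exact_subtype_ker_map f) (A ⧸ I)
  have : Subsingleton (LinearMap.ker f) := by
    apply nak
    refine ⟨fun y₁ y₂ => ?_⟩
    apply hinj
    apply hf'.1
    rw [← LinearMap.comp_apply, ← LinearMap.comp_apply, ← LinearMap.lTensor_comp]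
    have : f ∘ₗ (LinearMap.ker f).subtype = 0 := by
      ext m; simp
    rw [this, LinearMap.lTensor_zero, LinearMap.zero_apply, LinearMap.zero_apply]
  exact Submodule.subsingleton_iff_eq_bot.mp this

end Groth.Agent.S16707
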