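import Groth.Statements.S16719
import Groth.Agent.Helper1.Bridge3
import Groth.Agent.Helper1.TFunProd

set_option autoImplicit false
universe u
open CategoryTheory CategoryTheory.Limits AlgebraicGeometry
open CohIII

namespace Groth.Agent.S16719

/-- The first of its three functors. Let A be a Noetherian ring, X a proper scheme over Spec A and F a
coherent O_X-module flat over A. Then for every p the functor M ↦ H^p(X, F ⊗_A M) from A-modules to
abelian groups (F ⊗_A M = F ⊗_{O_X} f^*M~ for the structure morphism f) commutes with arbitrary
products: it preserves limits of shape a discrete category, i.e. the canonical map H^p(X, F ⊗_A ∏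
M_α) → ∏ H^p(X, F ⊗_A M_α) is an isomorphism. (The published statement is for a flat proper X over
an arbitrary ring A and states the same for two Ext functors; this row assumes A Noetherian, does
not assume X flat over A, and states only the cohomology functor.) -/
theorem result (A : Type u) [CommRing A] [IsNoetherianRing A]
    (X : Scheme.{u}) [X.Over (Spec (CommRingCat.of A))] [IsProper (X ↘ (Spec (CommRingCat.of A)))]
    (F : X.Modules) (hF : Coh.IsCoh F) (hflat : FlatMod.IsFlatOver (X ↘ (Spec (CommRingCat.of A))) F)
    (p : ℕ) (J : Type u) :
    PreservesLimitsOfShape (Discrete J) (CohIII.tensorAFunctor A F ⋙ CohIII.HAb X p) := by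
  classical
  obtain ⟨L, hfin, -, -, hiso⟩ := Groth.Agent.Helper1.Bridge.exists_complex A X F hF hflat
  obtain ⟨e⟩ := hiso p
  have hj : (ComplexShape.down ℤ).next (-(p : ℤ)) = -(p : ℤ) - 1 := by simp
  haveI : Module.FinitePresentation A (L.opcycles (-(p : ℤ))) := by
    haveI : Module.Finite A (L.X (-(p : ℤ))) := (hfin _).1
    haveI : Module.Finite A (L.opcycles (-(p : ℤ))) := by
      have hs : Function.Surjective (L.pOpcycles (-(p : ℤ))).hom := by
        rw [← ModuleCat.epi_iff_surjective]
        infer_instance
      exact Module.Finite.of_surjective (L.pOpcycles (-(p : ℤ))).hom hs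
    exact Module.finitePresentation_of_finite A _
  haveI : Module.FinitePresentation A (L.X (-(p : ℤ) - 1)) := by
    haveI := (hfin (-(p : ℤ) - 1)).1
    exact Module.finitePresentation_of_finite A _
  haveI h1 : PreservesLimitsOfShape (Discrete J) (CohIII.TFun L (-(p : ℤ))) :=
    Groth.Agent.Helper1.TFunProd.preservesProducts_of_bijective _ J
      (fun Z => Groth.Agent.Helper1.TFunProd.prodMap_bijective L _ _ hj Z)
  have h2 : PreservesLimitsOfShape (Discrete J)
      (CohIII.TFun L (-(p : ℤ)) ⋙ forget₂ (ModuleCat.{u} A) AddCommGrpCat.{u}) := inferInstance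
  exact preservesLimitsOfShape_of_natIso e

end Groth.Agent.S16719
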