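import Groth.Statements.S16737
import Mathlib.Algebra.CharP.Invertible
import Mathlib.Tactic.Ring

set_option autoImplicit false
universe u v
open DeRham

namespace Groth.Agent.S16737

/-- The case of affine space over an affine base of characteristic p, in degree zero. Let p be a prime
and R a commutative ring with p = 0 in R. For a polynomial f over R in any set of variables t_i, the
Kähler differential df in Ω_{R[t]/R} vanishes if and only if f is a polynomial in the p-th powers of
the variables, f = g(t_i^p). Equivalently, the functions on affine space over R killed by the
differential of the de Rham complex are exactly the functions on its Frobenius twist. (The published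
computation is for finitely many variables over a noetherian base of characteristic p; the statement
here allows any commutative ring with p = 0 and any set of variables.) -/
theorem result (p : ℕ) [Fact p.Prime]
    (R : Type u) [CommRing R] [CharP R p] (σ : Type v) (f : MvPolynomial σ R) :
    KaehlerDifferential.D R (MvPolynomial σ R) f = 0 ↔
      ∃ g : MvPolynomial σ R, f = MvPolynomial.expand p g := by
  classical
  have hp : p.Prime := Fact.out
  constructor
  · intro hD
    -- all partial derivatives vanish
    have hpd : ∀ i, MvPolynomial.pderiv i f = 0 := by
      intro i
      rw [← KaehlerDifferential.mvPolynomialBasis_repr_apply, hD]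
      simp
    -- every monomial in the support has exponents divisible by p
    have hdiv : ∀ n ∈ f.support, ∀ i, p ∣ n i := by
      intro n hn i
      by_contra hndvd
      have hni : n i ≠ 0 := fun h => hndvd (h ▸ dvd_zero p)
      have h1 := MvPolynomial.coeff_pderiv (i := i) f (n - Finsupp.single i 1)
      rw [hpd i, MvPolynomial.coeff_zero] at h1
      have h2 : n - Finsupp.single i 1 + Finsupp.single i 1 = n := by
        ext j
        by_cases hj : j = i
        · subst hj; simp; omega
        · simp [Ne.symm hj]
      rw [h2] at h1
      have h3 : ((((n - Finsupp.single i 1 : σ →₀ ℕ) i : ℕ) : R)) + 1 = ((n i : ℕ) : R) := by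
        have : (n - Finsupp.single i 1 : σ →₀ ℕ) i + 1 = n i := by simp; omega
        rw [← this]; push_cast; ring
      rw [h3] at h1
      have hu : IsUnit ((n i : ℕ) : R) := (CharP.isUnit_natCast_iff hp).mpr hndvd
      have : MvPolynomial.coeff n f = 0 := by
        have := hu.mul_left_eq_zero.mp h1.symm
        exact this
      exact (MvPolynomial.mem_support_iff.mp hn) this
    refine ⟨∑ n ∈ f.support, MvPolynomial.monomial (n.mapRange (· / p) (by simp)) (MvPolynomial.coeff n f), ?_⟩
    rw [map_sum]
    conv_lhs => rw [f.as_sum]
    refine Finset.sum_congr rfl fun n hn => ?_
    rw [MvPolynomial.expand_monomial]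
    have hn' : p • (n.mapRange (· / p) (by simp)) = n := by
      ext i
      rw [Finsupp.smul_apply, Finsupp.mapRange_apply, smul_eq_mul]
      exact Nat.mul_div_cancel' (hdiv n hn i)
    rw [hn']
  · rintro ⟨g, rfl⟩
    induction g using MvPolynomial.induction_on with
    | C a =>
      rw [MvPolynomial.expand_C]
      exact (KaehlerDifferential.D R (MvPolynomial σ R)).map_algebraMap a
    | add a b ha hb => rw [map_add, map_add, ha, hb, add_zero]
    | mul_X a i ha =>
      rw [map_mul, Derivation.leibniz, ha, smul_zero, add_zero, MvPolynomial.expand_X,
        Derivation.leibniz_pow]
      have : (p : MvPolynomial σ R) = 0 := by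
        rw [← map_natCast (MvPolynomial.C (σ := σ) (R := R)), CharP.cast_eq_zero R p, map_zero]
      rw [← Nat.cast_smul_eq_nsmul (MvPolynomial σ R), this, zero_smul, smul_zero]

end Groth.Agent.S16737
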