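import Groth.Statements.S16752
import Groth.Agent.Lead.TopBCO
import Groth.Agent.Lead.TopBCN
import Groth.Agent.Helper1.CurveFam5
import Groth.Agent.Helper5.LscDim5
import Groth.Agent.Helper1.NoethApx5

set_option autoImplicit false
universe u
open CurvSt

namespace Groth.Agent.S16752

open CategoryTheory CategoryTheory.Limits AlgebraicGeometry in
/-- Let f : X → S be a flat, proper morphism of schemes, locally of finite presentation, all of whose
fibres have dimension at most one (a family of curves whose total space is a scheme). Then the set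
of points s of S such that the fibre X_s has dimension one and dim_{κ(s)} H^0(X_s, O_{X_s}) = 1 (the
conditions under which the genus of X_s is defined) is open in S. The source allows the total space
to be an algebraic space and phrases the result as the existence of an open substack of the stack of
curves with this membership condition. -/
theorem result (X S : Scheme.{u}) (f : X ⟶ S)
    [Flat f] [IsProper f] [LocallyOfFinitePresentation f]
    (hdim : ∀ s : S, topologicalKrullDim ↥(f.fiber s) ≤ 1) :
    IsOpen {s : S | topologicalKrullDim ↥(f.fiber s) = 1 ∧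
      Models.hRank ↥(S.residueField s) (f.fiber s) (f.fiberToSpecResidueField s)
        (Coh.structureModule (f.fiber s)) 0 = 1} := by
  classical
  have hO₁ : IsOpen {s : S | (0 : WithBot ℕ∞) < topologicalKrullDim ↥(f.fiber s)} :=
    Groth.Agent.Helper5.LscDim.s0404 f 0
  obtain ⟨hFP, hfl⟩ := Groth.Agent.Helper1.CurveFam.structure_conditions f
  have hO₂ : IsOpen {s : S | PerfAux.betti f (Coh.structureModule X) s 0 < 2} :=
    Groth.Agent.Helper1.NoethApx.isOpen_betti_lt f _ hFP hfl 0 2
  -- the two ranks agree
  have hcmp : ∀ s : S, Models.hRank ↥(S.residueField s) (f.fiber s) (f.fiberToSpecResidueField s)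
      (Coh.structureModule (f.fiber s)) 0 = PerfAux.betti f (Coh.structureModule X) s 0 := by
    intro s
    letI : (f.fiber s).Over (Spec (CommRingCat.of (S.residueField s))) :=
      ⟨f.fiberToSpecResidueField s⟩
    let e := Groth.Agent.Helper4.PullUnit.pullbackUnitIso (f.fiberι s)
    let E : Coh.HH (f.fiber s)
        ((Scheme.Modules.pullback (f.fiberι s)).obj (Coh.structureModule X)) 0 ≃ₗ[S.residueField s]
        Coh.HH (f.fiber s) (Coh.structureModule (f.fiber s)) 0 :=
      LinearEquiv.ofLinear (Groth.Agent.Lead.TopBC.HHlinA _ e.hom 0)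
        (Groth.Agent.Lead.TopBC.HHlinA _ e.inv 0)
        (by
          ext x
          change Groth.Agent.Lead.NatLeray.HHmap e.hom 0
            (Groth.Agent.Lead.NatLeray.HHmap e.inv 0 x) = x
          rw [← Groth.Agent.Lead.TopBC.HHmap_comp, e.inv_hom_id, Groth.Agent.Lead.TopBC.HHmap_id])
        (by
          ext x
          change Groth.Agent.Lead.NatLeray.HHmap e.inv 0
            (Groth.Agent.Lead.NatLeray.HHmap e.hom 0 x) = x
          rw [← Groth.Agent.Lead.TopBC.HHmap_comp, e.hom_inv_id, Groth.Agent.Lead.TopBC.HHmap_id])
    exact (LinearEquiv.finrank_eq E).symm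
  -- positivity of `h⁰` on nonempty fibres
  have hpos : ∀ s : S, (0 : WithBot ℕ∞) < topologicalKrullDim ↥(f.fiber s) →
      0 < Models.hRank ↥(S.residueField s) (f.fiber s) (f.fiberToSpecResidueField s)
        (Coh.structureModule (f.fiber s)) 0 := by
    intro s hs
    letI : (f.fiber s).Over (Spec (CommRingCat.of (S.residueField s))) :=
      ⟨f.fiberToSpecResidueField s⟩
    haveI : IsProper ((f.fiber s) ↘ Spec (CommRingCat.of (S.residueField s))) :=
      inferInstanceAs (IsProper (Limits.pullback.snd f (S.fromSpecResidueField s)))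
    haveI hfin : Module.Finite (S.residueField s)
        (Coh.HH (f.fiber s) (Coh.structureModule (f.fiber s)) 0) :=
      Groth.Agent.S0002.result (S.residueField s) (f.fiber s) (Coh.structureModule (f.fiber s))
        (Groth.Agent.Lead.HomShH.isCoh_unit (f.fiber s)) 0
    haveI hne : Nonempty ↥(f.fiber s) := by
      by_contra hemp
      rw [not_nonempty_iff] at hemp
      haveI : IsEmpty (TopologicalSpace.IrreducibleCloseds ↥(f.fiber s)) :=
        ⟨fun Z => hemp.elim Z.isIrreducible.nonempty.some⟩
      have h0 : topologicalKrullDim ↥(f.fiber s) = ⊥ := Order.krullDim_eq_bot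
      rw [h0] at hs
      exact not_lt_bot hs
    haveI : Nonempty ↥(⊤ : (f.fiber s).Opens) := ⟨⟨hne.some, trivial⟩⟩
    haveI : Nontrivial (Coh.HH (f.fiber s) (Coh.structureModule (f.fiber s)) 0) :=
      (Groth.Agent.Lead.TopBC.γ (Coh.structureModule (f.fiber s))).toEquiv.nontrivial_congr.mpr
        (inferInstanceAs (Nontrivial Γ(f.fiber s, ⊤)))
    exact Module.finrank_pos
  have hset : {s : S | topologicalKrullDim ↥(f.fiber s) = 1 ∧
      Models.hRank ↥(S.residueField s) (f.fiber s) (f.fiberToSpecResidueField s)
        (Coh.structureModule (f.fiber s)) 0 = 1} =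
      {s : S | (0 : WithBot ℕ∞) < topologicalKrullDim ↥(f.fiber s)} ∩
        {s : S | PerfAux.betti f (Coh.structureModule X) s 0 < 2} := by
    ext s
    simp only [Set.mem_ofPred_eq, Set.mem_inter_iff]
    constructor
    · rintro ⟨h1, h2⟩
      refine ⟨by rw [h1]; exact zero_lt_one, ?_⟩
      rw [← hcmp s, h2]
      norm_num
    · rintro ⟨h1, h2⟩
      have hd1 : topologicalKrullDim ↥(f.fiber s) = 1 := by
        refine le_antisymm (hdim s) ?_
        generalize topologicalKrullDim ↥(f.fiber s) = d at h1
        induction d using WithBot.recBotCoe with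
        | bot => exact absurd h1 (not_lt_bot)
        | coe n =>
          have h3 : (0 : ℕ∞) < n := by exact_mod_cast h1
          have h4 : (1 : ℕ∞) ≤ n := Order.one_le_iff_pos.mpr h3
          exact_mod_cast h4
      refine ⟨hd1, ?_⟩
      have h3 := hpos s h1
      rw [hcmp s] at h3 ⊢
      omega
  rw [hset]
  exact hO₁.inter hO₂

end Groth.Agent.S16752
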