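import Groth.Statements.S16758
import Groth.Agent.Helper1.UF4

set_option autoImplicit false
universe u
open PicF

namespace Groth.Agent.S16758

open AlgebraicGeometry CategoryTheory CategoryTheory.Limits in
/-- (2) ⇔ (3): let f : X → Y be proper and flat with Y locally Noetherian. Then dim_{κ(y)} H⁰(X_y,
O_{X_y}) = 1 for every point y of Y if and only if for every morphism T → Y the base change f_T : X
×_Y T → T induces isomorphisms O_T(U) → O_{X ×_Y T}(f_T⁻¹ U) on all opens U of T, i.e. O_T = (f_T)_*
O universally. (The published statement takes X and Y Noetherian; the argument is local on Y, so Y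
is only assumed locally Noetherian here.) -/
theorem result {X Y : Scheme.{u}} (f : X ⟶ Y)
    [IsProper f] [Flat f] [IsLocallyNoetherian Y] :
    (∀ y : Y, Module.finrank (Y.residueField y) Γ(f.fiber y, ⊤) = 1) ↔
      ∀ (T : Scheme.{u}) (g : T ⟶ Y) (U : T.Opens), IsIso ((pullback.snd f g).app U) := by
  constructor
  · intro h1 T g U
    exact Groth.Agent.Helper1.UF.isIso_app_of_isPullback f h1 g (pullback.snd f g)
      (pullback.fst f g) (IsPullback.of_hasPullback f g) U
  · intro H y
    have h0 : IsIso ((f.fiberToSpecResidueField y).app ⊤) :=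
      H (Spec (Y.residueField y)) (Y.fromSpecResidueField y) ⊤
    have hb : Function.Bijective ((f.fiberToSpecResidueField y).app ⊤).hom :=
      (ConcreteCategory.isIso_iff_bijective _).mp h0
    have hI : Function.Bijective (Scheme.ΓSpecIso (Y.residueField y)).inv.hom :=
      ConcreteCategory.bijective_of_isIso (Scheme.ΓSpecIso (Y.residueField y)).inv
    have hbij : Function.Bijective (algebraMap (Y.residueField y) Γ(f.fiber y, ⊤)) :=
      hb.comp hI
    exact (LinearEquiv.ofBijective (Algebra.linearMap (Y.residueField y) Γ(f.fiber y, ⊤))
      hbij).finrank_eq.symm.trans (Module.finrank_self _)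

end Groth.Agent.S16758
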