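import Groth.Statements.S16761
import Groth.Agent.Helper1.SCV24
import Groth.Agent.Helper1.NoethApx5
import Groth.Agent.S0458

set_option autoImplicit false
universe u
open Coherent

namespace Groth.Agent.S16761

open AlgebraicGeometry CategoryTheory CategoryTheory.Limits in
/-- Let f : X → S be proper and of finite presentation, F an O_X-module of finite presentation which is
flat over S, and d a natural number with dim X_s ≤ d for all s. Then the set S' of points s with
H^j(X_s, F_s) = 0 for all j ≥ 1 is open, and over every open U ⊆ S' the sheaves R^j f_* F (j ≥ 1)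
restrict to zero, f_* F restricts to a finite locally free module, and the formation of f_* F
commutes with base change: for every cartesian square with base a morphism g : T → S whose image
lies in U, with f' : X ×_S T → T and g' : X ×_S T → X the projections, the base change map g^* f_* F
→ f'_* g'^* F is an isomorphism. (The published statement asks only that f be proper; without finite
presentation the assertions on f_* F fail — for a finite flat morphism which is not of finite
presentation and F = O_X the direct image f_* O_X need not be finite locally free — and the argument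
runs through cohomology and base change for morphisms of finite presentation, so f is taken of
finite presentation here. Higher direct images are right derived functors of f_* on O_X-modules,
with injective resolutions carried as an instance argument.) -/
theorem result {X S : Scheme.{u}} (f : X ⟶ S)
    [IsProper f] [LocallyOfFinitePresentation f] [HasInjectiveResolutions X.Modules]
    (F : X.Modules) (hF : CohB1.IsFP F) (hfl : FlatMod.IsFlatOver f F)
    (d : ℕ) (hd : ∀ s : S, topologicalKrullDim ↥(f.fiber s) ≤ d) :
    IsOpen {s : S | ∀ j : ℕ, 1 ≤ j → Subsingleton (CohIII.fiberH f F s j)} ∧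
      ∀ U : S.Opens, (U : Set S) ⊆ {s : S | ∀ j : ℕ, 1 ≤ j → Subsingleton (CohIII.fiberH f F s j)} →
        (∀ j : ℕ, 1 ≤ j → IsZero (((Coh.Rpush f j).obj F).restrict U.ι)) ∧
          FlatMod.IsFinLocFree (((Coh.push f).obj F).restrict U.ι) ∧
            ∀ (T X' : Scheme.{u}) (g : T ⟶ S) (f' : X' ⟶ T) (g' : X' ⟶ X) (hsq : IsPullback g' f' f g),
              Set.range g.base ⊆ (U : Set S) → IsIso (CohBC.bc0 f g f' g' hsq.w F) := by
  haveI := hF
  haveI : Coh.IsQCoh F := inferInstance
  haveI : F.IsQuasicoherent := inferInstance
  have hvan : ∀ (s : S) (i : ℕ), d < i → Subsingleton (CohIII.fiberH f F s i) := by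
    intro s i hi
    have hlft : LocallyOfFiniteType (f.fiberToSpecResidueField s) :=
      MorphismProperty.pullback_snd _ _ inferInstance
    have hLN : IsLocallyNoetherian (f.fiber s) :=
      LocallyOfFiniteType.isLocallyNoetherian (f.fiberToSpecResidueField s)
    have hcpt : CompactSpace ↥(f.fiber s) := inferInstance
    have hN : IsNoetherian (f.fiber s) := { }
    haveI hNS : TopologicalSpace.NoetherianSpace ↥(f.fiber s) := inferInstance
    haveI hNS' : TopologicalSpace.NoetherianSpace ↑(f.fiber s).toTopCat := hNS
    exact Groth.Agent.S0458.result (X := (f.fiber s).toTopCat) d (hd s)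
      (Coh.toAb (CohIII.fiberMod f F s)) i hi
  have hsub_of_betti : ∀ (s : S) (i : ℕ), PerfAux.betti f F s i = 0 →
      Subsingleton (CohIII.fiberH f F s i) := by
    intro s i h0
    obtain ⟨W, hW, hsW, -⟩ :=
      AlgebraicGeometry.exists_isAffineOpen_mem_and_subset (x := s) (U := ⊤) trivial
    haveI : IsAffine (W : Scheme.{u}) := hW
    obtain ⟨K, M⟩ := Groth.Agent.Helper1.SCV.exists_master f W F hF hfl
    exact M.subsingleton_fiberH_of_betti i s hsW h0
  have hbetti_of_sub : ∀ (s : S) (i : ℕ), Subsingleton (CohIII.fiberH f F s i) →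
      PerfAux.betti f F s i = 0 := by
    intro s i hsub
    haveI : Subsingleton (PerfAux.fiberH f F s i) := hsub
    exact Module.finrank_zero_of_subsingleton
  have hset : {s : S | ∀ j : ℕ, 1 ≤ j → Subsingleton (CohIII.fiberH f F s j)} =
      ⋂ j ∈ Finset.Icc 1 d, {s : S | PerfAux.betti f F s j < 1} := by
    ext s
    simp only [Set.mem_setOf_eq, Set.mem_iInter, Finset.mem_Icc]
    constructor
    · intro h j hj
      rw [hbetti_of_sub s j (h j hj.1)]
      exact Nat.one_pos
    · intro h j hj
      by_cases hjd : j ≤ d
      · exact hsub_of_betti s j (Nat.lt_one_iff.mp (h j ⟨hj, hjd⟩))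
      · exact hvan s j (by omega)
  refine ⟨?_, ?_⟩
  · rw [hset]
    exact isOpen_biInter_finset
      (fun j _ => Groth.Agent.Helper1.NoethApx.isOpen_betti_lt f F hF hfl j 1)
  · intro U hU
    have hU0 : ∀ (j : ℕ), 1 ≤ j → ∀ s : S, s ∈ U → PerfAux.betti f F s j = 0 :=
      fun j hj s hs => hbetti_of_sub s j (hU hs j hj)
    have key : ∀ s : S, s ∈ U → ∃ V : S.Opens, s ∈ V ∧
        FlatMod.IsFinLocFree (((Scheme.Modules.pushforward f).obj F).restrict V.ι) ∧
        Groth.Agent.Helper1.SCV.GoodAt f F 0 s := by
      intro s hs
      obtain ⟨W, hW, hsW, hWU⟩ :=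
        AlgebraicGeometry.exists_isAffineOpen_mem_and_subset (x := s) (U := U) hs
      haveI : IsAffine (W : Scheme.{u}) := hW
      obtain ⟨K, M, h0⟩ := Groth.Agent.Helper1.SCV.exists_master0 f W F hF hfl
      have hx1 := M.mem_OLoc_of_betti 1 _ hsW (hU0 1 le_rfl s hs)
      have hflat := M.flat_of_betti 1 (fun w hw => hU0 1 le_rfl w (hWU hw))
      have hx0 := M.mem_OLoc_of_flat 0 _ hx1 hflat
      obtain ⟨V, hsV, -, hlf, -⟩ := M.exists_nhd0 h0 s hsW hx0
      exact ⟨V, hsV, hlf, ⟨W, hW, hsW, K, M, hx0⟩⟩
    refine ⟨?_, ?_, ?_⟩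
    · intro j hj
      exact Groth.Agent.Helper1.NoethApx.isZero_Rpush_restrict_of_betti f F hF hfl j U (hU0 j hj)
    · apply Groth.Agent.Helper1.SCV.isFinLocFree_restrict_of_local_restrict
      intro s hs
      obtain ⟨V, hsV, hlf, -⟩ := key s hs
      exact ⟨V, hsV, hlf⟩
    · intro T X' g f' g' hsq hr
      exact Groth.Agent.Helper1.SCV.isIso_bc0_of_goodAt hsq F
        (fun z => (key (g z) (hr ⟨z, rfl⟩)).choose_spec.2.2)

end Groth.Agent.S16761
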