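import Groth.Statements.S16762
-- import your own Groth.Agent.* helpers here

set_option autoImplicit false
universe u
open CAlgX

namespace Groth.Agent.S16762

open TensorProduct in
theorem fwd (A B : Type u) [CommRing A] [CommRing B]
    [Algebra A B] {M N : Type u} [AddCommGroup M] [Module A M]
    [AddCommGroup N] [Module A N] (u : M →ₗ[A] N)
    (h : CAlgX.UniversallyInjective A u) : CAlgX.UniversallyInjective B (u.baseChange B) := by
  intro Q _ _
  let _ : Module A Q := Module.compHom Q (algebraMap A B)
  have : IsScalarTower A B Q := IsScalarTower.of_algebraMap_smul fun r x => rfl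
  -- e_X : (B ⊗ X) ⊗[B] Q ≃ X ⊗[A] Q
  let e : ∀ (X : Type u) [AddCommGroup X] [Module A X], (B ⊗[A] X) ⊗[B] Q ≃ₗ[A] X ⊗[A] Q :=
    fun X _ _ => ((TensorProduct.comm B (B ⊗[A] X) Q).restrictScalars A) ≪≫ₗ
      ((AlgebraTensorModule.cancelBaseChange A B B Q X).restrictScalars A) ≪≫ₗ
      (TensorProduct.comm A Q X)
  have he : ∀ (X : Type u) [AddCommGroup X] [Module A X] (b : B) (x : X) (q : Q),
      e X ((b ⊗ₜ[A] x) ⊗ₜ[B] q) = x ⊗ₜ[A] (b • q) := by
    intro X _ _ b x q
    simp [e]
  have hcomm : ∀ z, e N ((u.baseChange B).rTensor Q z) = u.rTensor Q (e M z) := by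
    intro z
    induction z using TensorProduct.induction_on with
    | zero => simp
    | add x y hx hy => simp only [map_add, hx, hy]
    | tmul x q =>
      induction x using TensorProduct.induction_on with
      | zero => simp
      | add x y hx hy => simp only [add_tmul, map_add, hx, hy]
      | tmul b m =>
        simp only [LinearMap.rTensor_tmul, LinearMap.baseChange_tmul, he]
  intro x y hxy
  apply (e M).injective
  apply h Q
  rw [← hcomm, ← hcomm, hxy]

open TensorProduct in
theorem bwd (A B : Type u) [CommRing A] [CommRing B]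
    [Algebra A B] [Module.FaithfullyFlat A B] {M N : Type u} [AddCommGroup M] [Module A M]
    [AddCommGroup N] [Module A N] (u : M →ₗ[A] N)
    (h : CAlgX.UniversallyInjective B (u.baseChange B)) : CAlgX.UniversallyInjective A u := by
  intro Q _ _
  rw [← Module.FaithfullyFlat.lTensor_injective_iff_injective A B]
  let e : ∀ (X : Type u) [AddCommGroup X] [Module A X],
      (B ⊗[A] X) ⊗[B] (B ⊗[A] Q) ≃ₗ[A] B ⊗[A] (X ⊗[A] Q) :=
    fun X _ _ => ((AlgebraTensorModule.cancelBaseChange A B B (B ⊗[A] X) Q).restrictScalars A) ≪≫ₗ
      (TensorProduct.assoc A B X Q)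
  have he : ∀ (X : Type u) [AddCommGroup X] [Module A X] (b b' : B) (x : X) (q : Q),
      e X ((b ⊗ₜ[A] x) ⊗ₜ[B] (b' ⊗ₜ[A] q)) = (b' * b) ⊗ₜ[A] (x ⊗ₜ[A] q) := by
    intro X _ _ b b' x q
    simp [e, smul_tmul']
  have hcomm : ∀ z, e N ((u.baseChange B).rTensor (B ⊗[A] Q) z)
      = (u.rTensor Q).lTensor B (e M z) := by
    intro z
    induction z using TensorProduct.induction_on with
    | zero => simp
    | add x y hx hy => simp only [map_add, hx, hy]
    | tmul x q =>
      induction x using TensorProduct.induction_on with
      | zero => simp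
      | add x y hx hy => simp only [add_tmul, map_add, hx, hy]
      | tmul b m =>
        induction q using TensorProduct.induction_on with
        | zero => simp
        | add x y hx hy => simp only [tmul_add, map_add, hx, hy]
        | tmul b' q =>
          simp only [LinearMap.rTensor_tmul, LinearMap.baseChange_tmul, he,
            LinearMap.lTensor_tmul]
  intro x y hxy
  obtain ⟨x', rfl⟩ := (e M).surjective x
  obtain ⟨y', rfl⟩ := (e M).surjective y
  rw [← hcomm, ← hcomm] at hxy
  rw [h (B ⊗[A] Q) ((e N).injective hxy)]

/-- Let A → A' be faithfully flat and u : M → N a map of A-modules. Then u is universally injective (u ⊗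
id_Q injective for every A-module Q) if and only if its base change A' ⊗_A M → A' ⊗_A N is
universally injective as a map of A'-modules. -/
theorem result (A A' : Type u) [CommRing A] [CommRing A']
    [Algebra A A'] [Module.FaithfullyFlat A A'] {M N : Type u} [AddCommGroup M] [Module A M]
    [AddCommGroup N] [Module A N] (u : M →ₗ[A] N) :
    CAlgX.UniversallyInjective A u ↔ CAlgX.UniversallyInjective A' (u.baseChange A') := by
  exact ⟨fwd A A' u, bwd A A' u⟩

end Groth.Agent.S16762
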