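import Groth.Statements.S16833
import Groth.Agent.S10649
import Groth.Agent.Helper5.SrcEt
import Groth.Agent.Helper4.AlgSpSep

set_option autoImplicit false
universe u
open AlgSp

namespace Groth.Agent.S16833

open CategoryTheory AlgebraicGeometry in
/-- Let p : U → X and f : X → Y be morphisms of algebraic spaces over a scheme S with p etale and
surjective and f separated. If the composite U → Y is finite, then f is finite. -/
theorem result {S : Scheme.{u}}
    {U X Y : AlgSp.Space S} (p : U ⟶ X) (f : X ⟶ Y)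
    (hp : AlgSp.IsEtaleMor p.hom) (hps : AlgSp.IsSurjectiveMor p.hom)
    (hf : AlgSp.IsSeparatedMor f.hom) (h : AlgSp.IsFiniteMor (p ≫ f).hom) :
    AlgSp.IsFiniteMor f.hom := by
  have hU := U.property
  have hX := X.property
  have hY := Y.property
  have tfae_g := Groth.Agent.S10649.result (p ≫ f)
  have tfae_f := Groth.Agent.S10649.result f
  obtain ⟨hprop, hlqf⟩ := (tfae_g.out 0 1).1 h
  obtain ⟨-, ⟨hlft, hqc⟩, huc⟩ := hprop
  have hcov : AlgSp.IsEtCover (fun _ : PUnit.{u + 1} => U.obj) (fun _ => p.hom) := by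
    refine ⟨fun _ => hp, fun x => ?_⟩
    obtain ⟨y, hy⟩ := hps x
    exact ⟨PUnit.unit, y, hy⟩
  have hloc : ∀ (P : MorphismProperty Scheme.{u}), Groth.Agent.Helper4.SDClasses.Good P →
      AlgSp.LocP P (p ≫ f).hom → AlgSp.LocP P f.hom := fun P hG hh =>
    ((Groth.Agent.Helper5.SrcEt.isLocalOnSource_etale_locP P hG (fun _ : PUnit.{u + 1} => U.obj)
      (fun _ => p.hom) hX (fun _ => hU) hcov f.hom hY).2 fun _ => hh)
  have key : AlgSp.IsProperMor f.hom ∧
      AlgSp.LocP (@LocallyQuasiFinite ⊓ @LocallyOfFiniteType) f.hom := by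
    refine ⟨⟨hf, ⟨hloc _ Groth.Agent.Helper4.SDClasses.good_lft hlft, ?_⟩, ?_⟩,
      hloc _ Groth.Agent.Helper4.SDClasses.good_lqf hlqf⟩
    · exact Groth.Agent.Helper4.AlgSpSep.isQuasiCompactMor_of_surjective_triangle hX hY.diag
        p.hom f.hom hps hqc
    · exact Groth.Agent.Helper4.AlgSpSep.univClosed_of_precomp_isSurjectiveMor p.hom f.hom hps huc
  exact (tfae_f.out 0 1).2 key

end Groth.Agent.S16833
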