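import Groth.Statements.S16834
import Groth.Agent.Helper5.AffDescQ4
import Groth.Agent.Helper5.SpCoprod1

set_option autoImplicit false
universe u
open CategoryTheory CategoryTheory.Limits AlgebraicGeometry
open AlgSp

namespace Groth.Agent.S16834

/-- Let k be a field with algebraic closure k̄ and X an algebraic space over Spec k which is
quasi-separated over k and whose structure morphism is locally of finite type. If the base change X
×_k Spec k̄ (product with h_{Spec k̄} in fppf sheaves over Spec k) is isomorphic to h_T for an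
affine scheme T over k, then X is isomorphic to h_U for an affine scheme U over k. -/
theorem result (k : Type u) [Field k]
    (X : AlgSp.Space (Spec (CommRingCat.of k))) (hqs : AlgSp.IsQuasiSeparatedSp X.obj)
    (hlft : ∀ q : X.obj ⟶ (AlgSp.yon (Spec (CommRingCat.of k))).obj (Over.mk (𝟙 _)),
      AlgSp.LocP @LocallyOfFiniteType q)
    (kbar : Type u) [Field kbar] [Algebra k kbar] [IsAlgClosure k kbar]
    (T : Over (Spec (CommRingCat.of k))) (hT : IsAffine T.left)
    (e : X.obj ⨯ (AlgSp.yon (Spec (CommRingCat.of k))).obj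
        (Over.mk (Spec.map (CommRingCat.ofHom (algebraMap k kbar)))) ≅
      (AlgSp.yon (Spec (CommRingCat.of k))).obj T) :
    ∃ (U : Over (Spec (CommRingCat.of k))), IsAffine U.left ∧
      Nonempty (X.obj ≅ (AlgSp.yon (Spec (CommRingCat.of k))).obj U) := by
  classical
  let S : Scheme.{u} := Spec (CommRingCat.of k)
  let T0 : Over S := Over.mk (𝟙 S)
  let T' : Over S := Over.mk (Spec.map (CommRingCat.ofHom (algebraMap k kbar)))
  let c : T' ⟶ T0 := Over.homMk (Spec.map (CommRingCat.ofHom (algebraMap k kbar)))
  haveI : IsAffine T0.left := by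
    show IsAffine (Spec (CommRingCat.of k))
    infer_instance
  haveI : IsAffine T'.left := by
    show IsAffine (Spec (CommRingCat.of kbar))
    infer_instance
  haveI : IsAffine T.left := hT
  haveI hflat : Flat c.left := by
    show Flat (Spec.map (CommRingCat.ofHom (algebraMap k kbar)))
    rw [HasRingHomProperty.Spec_iff (P := @Flat)]
    show (algebraMap k kbar).Flat
    rw [RingHom.flat_algebraMap_iff]
    infer_instance
  haveI hsurj : Surjective c.left := by
    show Surjective (Spec.map (CommRingCat.ofHom (algebraMap k kbar)))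
    constructor
    intro x
    have := PrimeSpectrum.comap_surjective_of_faithfullyFlat (A := k) (B := kbar)
    exact this x
  let hterm : IsTerminal ((AlgSp.yon S).obj T0) := Groth.Agent.Helper5.SpCoprod.isTerminalYon
  let f : X.obj ⟶ (AlgSp.yon S).obj T0 := hterm.from _
  let fst : (AlgSp.yon S).obj T ⟶ X.obj := e.inv ≫ prod.fst
  let snd : (AlgSp.yon S).obj T ⟶ (AlgSp.yon S).obj T' := e.inv ≫ prod.snd
  let g' : T ⟶ T' := (AlgSp.yon S).preimage snd
  have hg' : (AlgSp.yon S).map g' = snd := (AlgSp.yon S).map_preimage snd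
  have sq0 : IsPullback (prod.fst : X.obj ⨯ (AlgSp.yon S).obj T' ⟶ _) prod.snd f
      ((AlgSp.yon S).map c) := by
    have := IsPullback.of_is_product' (prodIsProd X.obj ((AlgSp.yon S).obj T')) hterm
    refine IsPullback.of_iso this (Iso.refl _) (Iso.refl _) (Iso.refl _) (Iso.refl _) ?_ ?_
      (hterm.hom_ext _ _) (hterm.hom_ext _ _)
    · simp
    · simp
  have sq : IsPullback fst ((AlgSp.yon S).map g') f ((AlgSp.yon S).map c) := by
    rw [hg']
    exact IsPullback.of_iso sq0 e (Iso.refl _) (Iso.refl _) (Iso.refl _)
      (by simp [fst]; rfl) (by simp [snd]; rfl) (by simp) (by simp)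
  obtain ⟨U, g, eU, hU, -⟩ := Groth.Agent.Helper5.AffDescQ.exists_iso_of_affine_fpqc
    c g' X.property f fst sq
  exact ⟨U, hU, ⟨eU.symm⟩⟩

end Groth.Agent.S16834
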