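import Groth.Statements.S1684
import Mathlib
import Groth.Agent.S1570

set_option autoImplicit false
universe u
open CategoryTheory CategoryTheory.Limits AlgebraicGeometry TopologicalSpace
open SDiv

namespace Groth.Agent.S1684

open Groth.Agent.S1567

/-- Let X be a locally Noetherian scheme and 𝓘 a quasi-coherent ideal sheaf whose closed subscheme D is
integral, of codimension 1 in X (the local ring of X at the generic point of D has dimension 1), and
such that the local ring of X at every point of D is a unique factorisation domain. Then 𝓘 is the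
ideal sheaf of an effective Cartier divisor. -/
theorem result (X : Scheme.{u}) [IsLocallyNoetherian X] (𝓘 : X.IdealSheafData)
    [IsIntegral 𝓘.subscheme]
    (hcodim : ringKrullDim (X.presheaf.stalk (𝓘.subschemeι (genericPoint ↥𝓘.subscheme))) = 1)
    (hufd : ∀ x : ↥X, x ∈ 𝓘.support → IsDomain (X.presheaf.stalk x) ∧ UniqueFactorizationMonoid (X.presheaf.stalk x)) :
    BlowUp.IsEffCartierIdeal 𝓘 := by
  apply Groth.Agent.S1570.result
  intro x hx U hxU
  obtain ⟨hdom, hufdx⟩ := hufd x hx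
  have hU := U.2
  -- a point of D over x
  have hxr : x ∈ Set.range 𝓘.subschemeι := by rw [𝓘.range_subschemeι]; exact hx
  obtain ⟨d, rfl⟩ := hxr
  -- `P := 𝓘.ideal U` is prime
  have hne : Nonempty (𝓘.subschemeι ⁻¹ᵁ U.1 : 𝓘.subscheme.Opens) := ⟨⟨d, hxU⟩⟩
  have hdomΓ : IsDomain Γ(𝓘.subscheme, 𝓘.subschemeι ⁻¹ᵁ U.1) := inferInstance
  have hdomQ : IsDomain (Γ(X, U.1) ⧸ 𝓘.ideal U) :=
    (𝓘.subschemeObjIso U).commRingCatIsoToRingEquiv.symm.toMulEquiv.isDomain _
  have hP : (𝓘.ideal U).IsPrime := (Ideal.Quotient.isDomain_iff_prime _).mp hdomQ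
  -- the generic point
  set η := genericPoint ↥𝓘.subscheme with hη
  have hηspec : IsGenericPoint η ⊤ := genericPoint_spec _
  have hηU : 𝓘.subschemeι η ∈ U.1 := by
    have : η ∈ ((𝓘.subschemeι ⁻¹ᵁ U.1 : 𝓘.subscheme.Opens) : Set 𝓘.subscheme) :=
      (hηspec.mem_open_set_iff (𝓘.subschemeι ⁻¹ᵁ U.1).2).mpr ⟨d, trivial, hxU⟩
    exact this
  have hsupp : ∀ d' : 𝓘.subscheme, 𝓘.subschemeι d' ∈ 𝓘.support := by
    intro d'
    have : 𝓘.subschemeι d' ∈ Set.range 𝓘.subschemeι := ⟨d', rfl⟩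
    rw [𝓘.range_subschemeι] at this
    exact this
  have hle : ∀ (y : X) (hyU : y ∈ U.1), y ∈ 𝓘.support →
      𝓘.ideal U ≤ (hU.primeIdealOf ⟨y, hyU⟩).asIdeal := by
    intro y hyU hy
    rw [← mem_zeroLocus_iff_le_primeIdealOf hU y hyU]
    exact (𝓘.mem_support_iff_of_mem (U := U) hyU).mp hy
  have hPξ : (hU.primeIdealOf ⟨𝓘.subschemeι η, hηU⟩).asIdeal = 𝓘.ideal U := by
    apply le_antisymm _ (hle _ hηU (hsupp η))
    let yP : PrimeSpectrum Γ(X, U.1) := ⟨𝓘.ideal U, hP⟩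
    have hζU : hU.fromSpec yP ∈ U.1 := fromSpec_mem hU yP
    have hζsupp : hU.fromSpec yP ∈ 𝓘.support := by
      rw [𝓘.mem_support_iff_of_mem (U := U) hζU, mem_zeroLocus_iff_le_primeIdealOf hU _ hζU,
        primeIdealOf_fromSpec hU yP hζU]
    have hζr : hU.fromSpec yP ∈ Set.range 𝓘.subschemeι := by
      rw [𝓘.range_subschemeι]; exact hζsupp
    obtain ⟨d', hd'⟩ := hζr
    have h1 : η ⤳ d' := hηspec.specializes trivial
    have h2 : 𝓘.subschemeι η ⤳ hU.fromSpec yP := by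
      rw [← hd']; exact h1.map 𝓘.subschemeι.continuous
    have h3 : hU.primeIdealOf ⟨𝓘.subschemeι η, hηU⟩ ⤳ yP := by
      have h4 : hU.fromSpec (hU.primeIdealOf ⟨𝓘.subschemeι η, hηU⟩) ⤳ hU.fromSpec yP := by
        rw [hU.fromSpec_primeIdealOf]; exact h2
      exact hU.fromSpec.isOpenEmbedding.isInducing.specializes_iff.mp h4
    exact (PrimeSpectrum.le_iff_specializes _ _).mpr h3
  -- height of `P`
  have hht : (𝓘.ideal U).height = 1 := by
    let _ := X.presheaf.algebra_section_stalk ⟨𝓘.subschemeι η, hηU⟩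
    have hloc := hU.isLocalization_stalk ⟨𝓘.subschemeι η, hηU⟩
    have h1 := IsLocalization.AtPrime.ringKrullDim_eq_height
      (hU.primeIdealOf ⟨𝓘.subschemeι η, hηU⟩).asIdeal (X.presheaf.stalk (𝓘.subschemeι η))
    rw [hcodim, hPξ] at h1
    exact_mod_cast h1.symm
  -- pass to the stalk at `x`
  let _ := X.presheaf.algebra_section_stalk ⟨𝓘.subschemeι d, hxU⟩
  have hloc := hU.isLocalization_stalk ⟨𝓘.subschemeι d, hxU⟩
  have hdisj : Disjoint ((hU.primeIdealOf ⟨𝓘.subschemeι d, hxU⟩).asIdeal.primeCompl : Set Γ(X, U.1))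
      (𝓘.ideal U : Set Γ(X, U.1)) := by
    rw [Set.disjoint_left]
    intro a ha haP
    exact ha (hle _ hxU hx haP)
  have hprime := IsLocalization.isPrime_of_isPrime_disjoint
    (hU.primeIdealOf ⟨𝓘.subschemeι d, hxU⟩).asIdeal.primeCompl
    (X.presheaf.stalk (𝓘.subschemeι d)) _ hP hdisj
  have hht' : ((𝓘.ideal U).map (algebraMap Γ(X, U.1) (X.presheaf.stalk (𝓘.subschemeι d)))).height = 1 := by
    rw [← IsLocalization.height_under (hU.primeIdealOf ⟨𝓘.subschemeι d, hxU⟩).asIdeal.primeCompl,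
      IsLocalization.under_map_of_isPrime_disjoint _ _ hP hdisj, hht]
  obtain ⟨g, hg⟩ := UniqueFactorizationMonoid.isPrincipal_of_height_eq_one hht'
  have hg0 : g ≠ 0 := by
    rintro rfl
    have hbot : (𝓘.ideal U).map (algebraMap Γ(X, U.1) (X.presheaf.stalk (𝓘.subschemeι d))) = ⊥ := by
      rw [hg]; simp
    rw [hbot] at hht'
    simp at hht'
  exact ⟨g, mem_nonZeroDivisors_of_ne_zero hg0, hg⟩

end Groth.Agent.S1684
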