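import Groth.Statements.S16887
import Groth.Agent.Helper6.Band3

set_option autoImplicit false
open CategoryTheory Opposite
universe v u
open Gerb

namespace Groth.Agent.S16887

/-- Let `𝒮` be a gerbe over the site `(C, J)` all of whose automorphism groups over identities are
commutative (the sheaves of automorphisms of its objects are abelian). Then there are a sheaf `G` of
abelian groups on `(C, J)` and, for every object `x` of `𝒮` over `U`, a group isomorphism `G(U) ≅
Aut_U(x)`, these isomorphisms being compatible with restriction and with conjugation by morphisms of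
the fibre categories. Here they are moreover asked to be natural along all morphisms of `𝒮` (a
banding of `𝒮` by `G`), which is stronger than the published conclusion. The published statement is
for an arbitrary site; this row assumes that `C` has a terminal object. The sheaf takes values in
groups in the common universe of the objects and morphisms of `C`. -/
theorem result {C : Type u} [Category.{v} C] [Limits.HasTerminal C]
    (J : GrothendieckTopology C) (𝒮 : BasedCategory.{v, max u v} C) (h𝒮 : Gerb.IsGerbe J 𝒮)
    (hcomm : ∀ (x : 𝒮.obj) (α β : Gerb.AutO x), α * β = β * α) :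
    ∃ G : Sheaf J GrpCat.{max u v}, (∀ (U : C) (a b : G.obj.obj (op U)), a * b = b * a) ∧
      Nonempty (Gerb.Banding 𝒮 G.obj) := by
  classical
  refine ⟨⟨Groth.Agent.Helper6.Band.psh 𝒮, Groth.Agent.Helper6.Band.psh_isSheaf J h𝒮.1⟩,
    fun U a b => Groth.Agent.Helper6.Band.psh_comm 𝒮 hcomm U a b, ⟨?_⟩⟩
  exact
    { iso := fun x => MulEquiv.ofBijective (Groth.Agent.Helper6.Band.bandHom 𝒮 x)
        ⟨Groth.Agent.Helper6.Band.bandHom_injective J h𝒮.1 h𝒮.2 x,
          Groth.Agent.Helper6.Band.bandHom_surjective J h𝒮.1 h𝒮.2 hcomm x⟩
      natural := by
        intro x' x φ a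
        have n := Groth.Agent.Helper6.Band.natSub_nat a φ (𝟙 _)
        have e : 𝒮.p.map φ ≫ 𝟙 _ = 𝟙 _ ≫ 𝒮.p.map φ := by
          rw [Category.comp_id, Category.id_comp]
        rw [e] at n
        exact n }

end Groth.Agent.S16887
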