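import Groth.Statements.S16950
import Groth.Agent.Helper1.FBC5

set_option autoImplicit false
universe u
open Coherent

namespace Groth.Agent.S16950

open AlgebraicGeometry CategoryTheory Scheme.Modules in
/-- For a single module in place of the complex, let S be a scheme, a : X → S and b : Y → S schemes over
S, f : X → Y a separated quasi-compact morphism with f ≫ b = a, and F a quasi-coherent O_X-module,
flat over S (via a), such that every higher direct image R^n f_* F (the n-th right derived functor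
of direct image on O-modules) is flat over S (via b). For any morphism g : S' → S form the cartesian
squares Y' = Y ×_S S' (projections g_Y : Y' → Y, b' : Y' → S') and X' = X ×_Y Y' (projections g_X :
X' → X, f' : X' → Y'). Then for every n the degree-n base change map g_Y^* R^n f_* F → R^n f'_*
(g_X^* F) is an isomorphism; the map is the pinned one of the structure GenBC, relative to pinned
comparison data for f and f'. -/
theorem result
    {X Y S X' Y' S' : Scheme.{u}} (a : X ⟶ S) (b : Y ⟶ S) (f : X ⟶ Y) (hf : f ≫ b = a)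
    [IsSeparated f] [QuasiCompact f]
    (g : S' ⟶ S) (gY : Y' ⟶ Y) (b' : Y' ⟶ S') (hY : IsPullback gY b' b g)
    (gX : X' ⟶ X) (f' : X' ⟶ Y') (hX : IsPullback gX f' f gY)
    [HasInjectiveResolutions X.Modules] [HasInjectiveResolutions X'.Modules]
    (F : X.Modules) [Coh.IsQCoh F] (hF : FlatMod.IsFlatOver a F)
    (hR : ∀ n : ℕ, FlatMod.IsFlatOver b ((Coh.Rpush f n).obj F))
    {Δ : RDer.DerivedLES (pushforward f)} {Δ' : RDer.DerivedLES (pushforward f')}
    (E : CohCmp.SectCmp f Δ) (E' : CohCmp.SectCmp f' Δ') (B : CohCmp.GenBC f gY f' gX hX.w E E') (n : ℕ) :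
    IsIso (B.bc n F) := by
  haveI : F.IsQuasicoherent := inferInstance
  haveI : QuasiSeparated f := inferInstance
  have qN0 : Coh.IsQCoh ((Coh.Rpush f n).obj F) := Groth.Agent.S0030.result f F n
  haveI qN : ((Coh.Rpush f n).obj F).IsQuasicoherent := qN0
  haveI : QuasiCompact f' := MorphismProperty.of_isPullback (P := @QuasiCompact) hX inferInstance
  haveI : QuasiSeparated f' :=
    MorphismProperty.of_isPullback (P := @QuasiSeparated) hX inferInstance
  haveI qG : ((Scheme.Modules.pullback gX).obj F).IsQuasicoherent :=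
    Groth.Agent.Lead.StalkPull.isQuasicoherent_pullbackObj gX F
  haveI : Coh.IsQCoh ((Scheme.Modules.pullback gX).obj F) := qG
  have qN0' : Coh.IsQCoh ((Coh.Rpush f' n).obj ((Scheme.Modules.pullback gX).obj F)) :=
    Groth.Agent.S0030.result f' _ n
  haveI qN' : ((Coh.Rpush f' n).obj ((Scheme.Modules.pullback gX).obj F)).IsQuasicoherent := qN0'
  haveI qS : ((Scheme.Modules.pullback gY).obj ((Coh.Rpush f n).obj F)).IsQuasicoherent :=
    Groth.Agent.Lead.StalkPull.isQuasicoherent_pullbackObj gY _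
  apply Groth.Agent.Helper4.QcohLocal.isIso_of_app_bijective_of_affine_cover
  intro z
  obtain ⟨S₀, hS₀, hzS₀, -⟩ := exists_isAffineOpen_mem_and_subset (x := b (gY z))
    (U := (⊤ : S.Opens)) trivial
  obtain ⟨V, hV, hzV, eV⟩ := exists_isAffineOpen_mem_and_subset (x := gY z)
    (U := b ⁻¹ᵁ S₀) hzS₀
  have hw : g (b' z) = b (gY z) := by
    have h1 := congrArg (fun φ : Y' ⟶ S => φ z) hY.w
    simp only [Scheme.Hom.comp_apply] at h1
    exact h1.symm
  have hzS₀' : b' z ∈ g ⁻¹ᵁ S₀ := by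
    show g (b' z) ∈ S₀
    rw [hw]
    exact hzS₀
  obtain ⟨S₀', hS₀', hzS₀', eS⟩ := exists_isAffineOpen_mem_and_subset (x := b' z)
    (U := g ⁻¹ᵁ S₀) hzS₀'
  have hV' : IsAffineOpen (gY ⁻¹ᵁ V ⊓ b' ⁻¹ᵁ S₀') := by
    haveI : IsAffine (S₀ : Scheme.{u}) := hS₀
    haveI : IsAffine (S₀' : Scheme.{u}) := hS₀'
    haveI : IsAffine (V : Scheme.{u}) := hV
    exact .of_isIso (Scheme.Hom.isPullback_resLE hY eS eV rfl).isoPullback.hom
  haveI : IsAffine (V : Scheme.{u}) := hV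
  haveI : IsAffine ((gY ⁻¹ᵁ V ⊓ b' ⁻¹ᵁ S₀' : Y'.Opens) : Scheme.{u}) := hV'
  refine ⟨gY ⁻¹ᵁ V ⊓ b' ⁻¹ᵁ S₀', hV', ⟨hzV, hzS₀'⟩, ?_⟩
  letI : Algebra Γ(S, S₀) Γ(S', S₀') := (g.appLE S₀ S₀' eS).hom.toAlgebra
  have hpo : IsPushout (b.appLE S₀ V eV) (g.appLE S₀ S₀' eS)
      (gY.appLE V (gY ⁻¹ᵁ V ⊓ b' ⁻¹ᵁ S₀') inf_le_left)
      (b'.appLE S₀' (gY ⁻¹ᵁ V ⊓ b' ⁻¹ᵁ S₀') inf_le_right) :=
    (isIso_pushoutSection_iff hY eS eV rfl).mp
      (isIso_pushoutSection_of_isAffineOpen hY eS eV rfl hS₀ hS₀' hV)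
  refine Groth.Agent.Helper1.FBC.bc_app_bijective_of_flat hX V (gY ⁻¹ᵁ V ⊓ b' ⁻¹ᵁ S₀')
    inf_le_left Γ(S, S₀) Γ(S', S₀') (b.appLE S₀ V eV).hom
    (b'.appLE S₀' (gY ⁻¹ᵁ V ⊓ b' ⁻¹ᵁ S₀') inf_le_right).hom hpo B F n ?_ ?_
  · exact Groth.Agent.Helper1.FBC.isFlatOver_chart_over a b f hf S₀ hS₀ V eV F hF
  · intro p
    have qNp0 : Coh.IsQCoh ((Coh.Rpush f p).obj F) := Groth.Agent.S0030.result f F p
    haveI qNp : ((Coh.Rpush f p).obj F).IsQuasicoherent := qNp0
    exact (Groth.Agent.Helper5.AffFlat.flat_sections_iff b ((Coh.Rpush f p).obj F) hS₀ hV eV).mp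
      (fun x _ => hR p x)

end Groth.Agent.S16950
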