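import Groth.Statements.S16951
import Groth.Agent.Helper1.SW7

set_option autoImplicit false
universe u
open PicF

namespace Groth.Agent.S16951

open AlgebraicGeometry CategoryTheory Scheme.Modules in
/-- Let f : X → S be a proper flat morphism of locally Noetherian schemes whose fibres are geometrically
integral, and let L be an invertible O_X-module with an inverse M (an isomorphism L ⊗ M ≅ O_X). Then
the following are equivalent: (a) L ≅ f^* L₀ for some invertible O_S-module L₀; (b) for N = L and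
for N = M, at every point s of S the space H^0(X_s, N|_{X_s}) of sections over the scheme-theoretic
fibre is nonzero and the degree-0 base change map of the fibre square, κ(s)^* f_* N → (X_s → Spec
κ(s))_* (N|_{X_s}), is an epimorphism. When this holds, dim_{κ(s)} H^0(X_s, N|_{X_s}) = 1 for every
s and both N, the counit f^* f_* L → L is an isomorphism, and any invertible L₀ with L ≅ f^* L₀ is
isomorphic to f_* L. -/
theorem result
    {X S : Scheme.{u}} (f : X ⟶ S) [IsProper f] [Flat f] [IsLocallyNoetherian X] [IsLocallyNoetherian S]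
    [GeometricallyIntegral f] (L M : X.Modules) (hL : PicF.IsInvertible L)
    (hM : Nonempty (CohB1.tensorMod L M ≅ Coh.structureModule X)) :
    ((∃ L₀ : S.Modules, PicF.IsInvertible L₀ ∧ Nonempty (L ≅ (pullback f).obj L₀)) ↔
      ((∀ s : S, Nontrivial (CohIII.fiberH f L s 0)) ∧ (∀ s : S, Nontrivial (CohIII.fiberH f M s 0)) ∧
        (∀ s : S, Epi (CohBC.bc0 f (S.fromSpecResidueField s) (f.fiberToSpecResidueField s) (f.fiberι s) (f.fiber_fac s) L)) ∧ (∀ s : S, Epi (CohBC.bc0 f (S.fromSpecResidueField s) (f.fiberToSpecResidueField s) (f.fiberι s) (f.fiber_fac s) M)))) ∧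
    (((∀ s : S, Nontrivial (CohIII.fiberH f L s 0)) ∧ (∀ s : S, Nontrivial (CohIII.fiberH f M s 0)) ∧
        (∀ s : S, Epi (CohBC.bc0 f (S.fromSpecResidueField s) (f.fiberToSpecResidueField s) (f.fiberι s) (f.fiber_fac s) L)) ∧ (∀ s : S, Epi (CohBC.bc0 f (S.fromSpecResidueField s) (f.fiberToSpecResidueField s) (f.fiberι s) (f.fiber_fac s) M))) →
      (∀ s : S, CohIII.fiberRank f L 0 s = 1 ∧ CohIII.fiberRank f M 0 s = 1) ∧
      IsIso ((pullbackPushforwardAdjunction f).counit.app L) ∧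
      ∀ L₀ : S.Modules, PicF.IsInvertible L₀ → Nonempty (L ≅ (pullback f).obj L₀) →
        Nonempty (L₀ ≅ (pushforward f).obj L)) := by
  obtain ⟨b⟩ := hM
  haveI : LocallyOfFinitePresentation f := inferInstance
  have hMinv : PicF.IsInvertible M := Groth.Agent.Helper1.SW.isInvertible_of_inverse L M hL b
  have hgeom := fun (K : Type u) [Field K] [IsAlgClosed K] (g : Spec (CommRingCat.of K) ⟶ S) =>
    Groth.Agent.Helper1.SW.geom_of_geometricallyIntegral f K g
  have key : ((∀ s : S, Nontrivial (CohIII.fiberH f L s 0)) ∧ (∀ s : S, Nontrivial (CohIII.fiberH f M s 0)) ∧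
        (∀ s : S, Epi (CohBC.bc0 f (S.fromSpecResidueField s) (f.fiberToSpecResidueField s) (f.fiberι s) (f.fiber_fac s) L)) ∧ (∀ s : S, Epi (CohBC.bc0 f (S.fromSpecResidueField s) (f.fiberToSpecResidueField s) (f.fiberι s) (f.fiber_fac s) M))) →
      (∀ s : S, CohIII.fiberRank f L 0 s = 1 ∧ CohIII.fiberRank f M 0 s = 1) ∧
      IsIso ((pullbackPushforwardAdjunction f).counit.app L) ∧
      PicF.IsInvertible ((pushforward f).obj L) := by
    rintro ⟨h1, h2, h3, h4⟩
    obtain ⟨htriv, hfL, hcounit⟩ :=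
      Groth.Agent.Helper1.SW.descends_of_conditions f L M hL b h1 h2 h3
    refine ⟨fun s => ?_, hcounit, hfL⟩
    obtain ⟨e₀⟩ := htriv s
    obtain ⟨e₁⟩ := Groth.Agent.Helper1.SW.fiber_trivial_of_sections f M L hMinv
      (Groth.Agent.Lead.Ref1B.braid M L ≪≫ b) s (h2 s) (h1 s)
    rw [Groth.Agent.Helper1.Seesaw.fiberRank_eq_of_iso f L s e₀,
      Groth.Agent.Helper1.Seesaw.fiberRank_eq_of_iso f M s e₁]
    exact ⟨Groth.Agent.Helper1.UF.finrank_Γ_fiber_eq_one_of_geometric f hgeom s,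
      Groth.Agent.Helper1.UF.finrank_Γ_fiber_eq_one_of_geometric f hgeom s⟩
  refine ⟨⟨?_, ?_⟩, ?_⟩
  · rintro ⟨L₀, hL₀, ⟨θ⟩⟩
    obtain ⟨L₀i, hL₀i, ⟨c⟩, -⟩ := Groth.Agent.Lead.InvDual.exists_inverse L₀ hL₀
    have c' : CohB1.tensorMod ((pullback f).obj L₀i) L ≅ Coh.structureModule X :=
      PicGrp.tensorModIso (Iso.refl _) θ ≪≫
        (Groth.Agent.Helper4.PullTensor.pullTensorIso f hL₀i hL₀).symm ≪≫
        (pullback f).mapIso c ≪≫ Groth.Agent.Helper4.PullUnit.pullbackUnitIso f
    have θM : M ≅ (pullback f).obj L₀i := Groth.Agent.Helper1.SW.inverseIso L M _ b c'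
    exact ⟨fun s => (Groth.Agent.Helper1.SW.pulled_back_conditions f L L₀ hL₀ θ s).1,
      fun s => (Groth.Agent.Helper1.SW.pulled_back_conditions f M L₀i hL₀i θM s).1,
      fun s => (Groth.Agent.Helper1.SW.pulled_back_conditions f L L₀ hL₀ θ s).2,
      fun s => (Groth.Agent.Helper1.SW.pulled_back_conditions f M L₀i hL₀i θM s).2⟩
  · intro hB
    obtain ⟨-, hcounit, hfL⟩ := key hB
    haveI := hcounit
    exact ⟨_, hfL, ⟨(asIso ((pullbackPushforwardAdjunction f).counit.app L)).symm⟩⟩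
  · intro hB
    obtain ⟨hrank, hcounit, -⟩ := key hB
    refine ⟨hrank, hcounit, ?_⟩
    rintro L₀ hL₀ ⟨θ⟩
    exact Groth.Agent.Helper1.SW.nonempty_iso_pushforward f L L₀ hL₀ θ

end Groth.Agent.S16951
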