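import Groth.Statements.S16966
import Groth.Agent.Helper4.SN56
import Groth.Agent.S19204
import Mathlib

set_option autoImplicit false
universe u
open CategoryTheory CategoryTheory.Limits AlgebraicGeometry Opposite
open Curves

namespace Groth.Agent.S16966


/-- Let X be a smooth projective curve over an algebraically closed field k of characteristic 0 (an
integral scheme, proper over k, of dimension one, with all local rings regular), of genus g ≥ 1, and
L an invertible O_X-module with deg L > 2g. Then the morphism to projective space given by the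
complete linear system of L is linearly stable, stated through the criterion by invertible
subsheaves: for every invertible module M and every monomorphism ι : M ⟶ L that is not an
isomorphism, with dim_k H^0(X, M) ≥ 2, one has deg L · (h^0(M) - 1) < deg M · (h^0(L) - 1), i.e. the
reduced degree deg M / (h^0(M) - 1) of the projection exceeds the reduced degree deg L / (h^0(L) -
1). Degrees are χ(·) - χ(O_X). -/
theorem result (k : Type u) [Field k] [IsAlgClosed k] [CharZero k] (X : Scheme.{u}) [X.Over (Spec (CommRingCat.of k))]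
    [IsIntegral X] [IsProper (X ↘ (Spec (CommRingCat.of k)))] (hdim : topologicalKrullDim X = 1)
    (hreg : ∀ x : X, IsRegularLocalRing (X.presheaf.stalk x))
    (hg : 1 ≤ Curv2.genus k X) (L : X.Modules) (hL : PicF.IsInvertible L)
    (hdeg : 2 * (Curv2.genus k X : ℤ) < Curv2.deg k X L 1)
    (M : X.Modules) (hM : PicF.IsInvertible M) (ι : M ⟶ L) [Mono ι] (hι : ¬ IsIso ι)
    (h2 : 2 ≤ Module.finrank k (Coh.HH X M 0)) :
    Curv2.deg k X L 1 * ((Module.finrank k (Coh.HH X M 0) : ℤ) - 1) <
      Curv2.deg k X M 1 * ((Module.finrank k (Coh.HH X L 0) : ℤ) - 1) := by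

  haveI := Groth.Agent.Helper4.NApx82.isNoetherian_of_proper k X
  have hcM := Groth.Agent.Helper1.SerreFin.isCoh_of_isInvertible M hM
  have hcL := Groth.Agent.Helper1.SerreFin.isCoh_of_isInvertible L hL
  haveI : Module.Finite k (Coh.HH X M 0) := Groth.Agent.S0002.result k X _ hcM 0
  haveI : Module.Finite k (Coh.HH X L 0) := Groth.Agent.S0002.result k X _ hcL 0
  -- ι ≠ 0
  have hι0 : ι ≠ 0 := by
    intro h0
    have hid : 𝟙 M = 0 := (cancel_mono ι).1 (by rw [h0]; simp)
    have hz : Canon.HHlin k (0 : M ⟶ M) 0 = 0 := by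
      have := Groth.Agent.Helper4.SN.HHlin_smul k (0 : k) (0 : M ⟶ M) 0
      rw [zero_smul, zero_smul] at this
      exact this
    have hsub : ∀ x : Coh.HH X M 0, x = 0 := by
      intro x
      have h1 := Groth.Agent.Helper4.SN.HHlin_smul_id k M (1 : k) 0 x
      rw [hid, smul_zero, hz, one_smul] at h1
      exact h1.symm
    have : Module.finrank k (Coh.HH X M 0) = 0 := by
      haveI : Subsingleton (Coh.HH X M 0) := ⟨fun a b => (hsub a).trans (hsub b).symm⟩
      exact Module.finrank_zero_of_subsingleton
    omega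
  obtain ⟨hle, heq⟩ := Groth.Agent.Helper4.NApx82.main1521 k X hdim M L hM hL ι hι0
  have hlt : Curv2.deg k X M 1 < Curv2.deg k X L 1 :=
    lt_of_le_of_ne hle (fun h => hι (heq h))
  -- H¹(L) = 0
  haveI hH1 : Subsingleton (Coh.HH X L 1) :=
    Groth.Agent.Helper4.SN.main1522 k hdim L hL (by omega)
  have hχL := Groth.Agent.Helper4.SN.chi_eq_h0_sub_h1 k hdim.le L
  have hχO := Groth.Agent.Helper4.SN.chi_eq_h0_sub_h1 k hdim.le (Coh.structureModule X)
  unfold Groth.Agent.Helper4.SN.chi at hχL hχO
  have hO := Groth.Agent.Helper4.SN.finrank_h0_unit_of_isAlgClosed k (X := X)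
  have hz : Module.finrank k (Coh.HH X L 1) = 0 := Module.finrank_zero_of_subsingleton
  have hdegL : Curv2.deg k X L 1 =
      (Module.finrank k (Coh.HH X L 0) : ℤ) - 1 + (Curv2.genus k X : ℤ) := by
    unfold Curv2.deg Curv2.genus
    rw [hχL, hχO, hO, hz]
    push_cast
    ring
  obtain ⟨m, hm⟩ : ∃ m : ℕ, Module.finrank k (Coh.HH X M 0) = m + 1 := ⟨_, (Nat.sub_add_cancel (by omega)).symm⟩
  have key := Groth.Agent.S19204.result k X hdim hreg hg (Curv2.deg k X L 1) hdeg M hM m (by omega)
    (by omega) hle (Or.inl hlt)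
  rw [hm]
  push_cast
  have e1 : (Module.finrank k (Coh.HH X L 0) : ℤ) - 1 = Curv2.deg k X L 1 - (Curv2.genus k X : ℤ) := by
    rw [hdegL]; ring
  rw [e1]
  have e2 : ((m : ℤ) + 1 - 1) = (m : ℤ) := by ring
  rw [e2]
  exact key

end Groth.Agent.S16966
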