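import Groth.Statements.S16979
import Mathlib.LinearAlgebra.Eigenspace.Charpoly
import Mathlib.LinearAlgebra.Eigenspace.Minpoly
import Mathlib.FieldTheory.IsAlgClosed.AlgebraicClosure
import Mathlib.Tactic

set_option autoImplicit false
universe u v
open CAlg

namespace Groth.Agent.S16979

/-- Let R be an integral domain with fraction field K and φ a square matrix over R whose characteristic
polynomial becomes separable in K[T] (equivalently, K[T] modulo the characteristic polynomial is
geometrically reduced over K). Then a polynomial f over R satisfies f(φ) = 0 exactly when the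
characteristic polynomial of φ divides f in R[T]: the kernel of evaluation at φ (the minimal ideal
of φ) is the principal ideal generated by the characteristic polynomial. -/
theorem result
    {R : Type u} [CommRing R] [IsDomain R] {n : Type v} [Fintype n] [DecidableEq n]
    (φ : Matrix n n R)
    (hsep : (φ.charpoly.map (algebraMap R (FractionRing R))).Separable) :
    RingHom.ker (Polynomial.aeval (R := R) φ) = Ideal.span {φ.charpoly} := by
  classical
  set K := FractionRing R with hK
  set L := AlgebraicClosure K with hL
  have hinj : Function.Injective (algebraMap R L) := by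
    rw [IsScalarTower.algebraMap_eq R K L]
    exact (algebraMap K L).injective.comp (IsFractionRing.injective R K)
  have hmonic : φ.charpoly.Monic := Matrix.charpoly_monic φ
  ext f
  rw [RingHom.mem_ker, Ideal.mem_span_singleton]
  constructor
  · intro hf
    rw [← Polynomial.map_dvd_map (algebraMap R L) hinj hmonic]
    set χL := φ.charpoly.map (algebraMap R L) with hχL
    have hχLmonic : χL.Monic := hmonic.map _
    have hsepL : χL.Separable := by
      have : χL = (φ.charpoly.map (algebraMap R K)).map (algebraMap K L) := by
        rw [Polynomial.map_map, ← IsScalarTower.algebraMap_eq]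
      rw [this]; exact hsep.map
    by_cases hf0 : f = 0
    · simp [hf0]
    have hfL0 : f.map (algebraMap R L) ≠ 0 := (Polynomial.map_ne_zero_iff hinj).mpr hf0
    refine (IsAlgClosed.splits χL).dvd_of_roots_le_roots hχLmonic.ne_zero ?_
    rw [Multiset.le_iff_subset (Polynomial.nodup_roots hsepL)]
    intro a ha
    rw [Polynomial.mem_roots hχLmonic.ne_zero] at ha
    set φL : Matrix n n L := φ.map (algebraMap R L) with hφL
    have hχ : φL.charpoly = χL := Matrix.charpoly_map φ (algebraMap R L)
    have heig : Module.End.HasEigenvalue (Matrix.toLin' φL) a := by
      rw [Module.End.hasEigenvalue_iff_isRoot_charpoly, Matrix.charpoly_toLin', hχ]; exact ha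
    obtain ⟨v, hv⟩ := heig.exists_hasEigenvector
    have h1 : Polynomial.aeval φL (f.map (algebraMap R L)) = 0 := by
      rw [Polynomial.aeval_map_algebraMap]
      have : φL = (Algebra.ofId R L).mapMatrix φ := rfl
      rw [this, Polynomial.aeval_algHom_apply, hf, map_zero]
    have hfL : Polynomial.aeval (Matrix.toLin' φL) (f.map (algebraMap R L)) = 0 := by
      have : Matrix.toLin' φL = Matrix.toLinAlgEquiv' φL := rfl
      rw [this, Polynomial.aeval_algHom_apply, h1, map_zero]
    have h2 := Module.End.aeval_apply_of_hasEigenvector hv (p := f.map (algebraMap R L))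
    rw [hfL, LinearMap.zero_apply] at h2
    rw [Polynomial.mem_roots hfL0, Polynomial.IsRoot.def]
    exact (smul_eq_zero.mp h2.symm).resolve_right hv.2
  · rintro ⟨q, rfl⟩
    rw [map_mul, Matrix.aeval_self_charpoly, zero_mul]

end Groth.Agent.S16979
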