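import Groth.Statements.S16984
import Mathlib

set_option autoImplicit false
universe u v w
open Hoch

namespace Groth.Agent.S16984

open TensorProduct in
theorem main (k : Type u) [CommRing k] (A : Type v) [CommRing A] [Bialgebra k A]
    (P : Type w) [AddCommGroup P] [Module k P] :
    Function.Injective ((Hoch.Ind.equiv k A P).toLinearMap ∘ₗ (TensorProduct.mk k P A).flip (1 : A)) ∧
    LinearMap.range ((Hoch.Ind.equiv k A P).toLinearMap ∘ₗ (TensorProduct.mk k P A).flip (1 : A)) =
      HopfRep.fixedPts k A (Hoch.Ind k A P) := by
  -- retraction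
  let r : P ⊗[k] A →ₗ[k] P :=
    (TensorProduct.rid k P).toLinearMap ∘ₗ (Coalgebra.counit (R := k) (A := A)).lTensor P
  have hr : ∀ p : P, r (p ⊗ₜ[k] (1 : A)) = p := by
    intro p
    simp [r]
  let q : (P ⊗[k] A) ⊗[k] A →ₗ[k] P ⊗[k] A :=
    ((TensorProduct.lid k A).toLinearMap ∘ₗ
      (Coalgebra.counit (R := k) (A := A)).rTensor A).lTensor P ∘ₗ
      (TensorProduct.assoc k P A A).toLinearMap
  have hq1 : ∀ x : P ⊗[k] A, q (Hoch.Ind.coactAux k A P x) = x := by
    intro x
    induction x using TensorProduct.induction_on with
    | zero => simp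
    | add x y hx hy => rw [map_add, map_add, hx, hy]
    | tmul p a =>
      rw [Hoch.Ind.coactAux_tmul]
      simp only [q, LinearMap.coe_comp, LinearEquiv.coe_coe, Function.comp_apply,
        LinearEquiv.apply_symm_apply, LinearMap.lTensor_tmul]
      have := LinearMap.congr_fun (Coalgebra.rTensor_counit_comp_comul (R := k) (A := A)) a
      simp only [LinearMap.coe_comp, Function.comp_apply] at this
      rw [this]
      simp
  have hq2 : ∀ x : P ⊗[k] A, q (x ⊗ₜ[k] (1 : A)) = r x ⊗ₜ[k] (1 : A) := by
    intro x
    induction x using TensorProduct.induction_on with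
    | zero => simp
    | add x y hx hy => rw [add_tmul, map_add, map_add, hx, hy, add_tmul]
    | tmul p a =>
      simp only [q, r, LinearMap.coe_comp, LinearEquiv.coe_coe, Function.comp_apply,
        TensorProduct.assoc_tmul, LinearMap.lTensor_tmul, LinearMap.rTensor_tmul,
        TensorProduct.lid_tmul, TensorProduct.rid_tmul]
      rw [TensorProduct.smul_tmul]
  constructor
  · intro p p' h
    have h' : p ⊗ₜ[k] (1 : A) = p' ⊗ₜ[k] (1 : A) := h
    rw [← hr p, ← hr p', h']
  · apply le_antisymm
    · rintro _ ⟨p, rfl⟩
      show Hoch.Ind.coactAux k A P (p ⊗ₜ[k] (1 : A)) = (p ⊗ₜ[k] (1 : A)) ⊗ₜ[k] (1 : A)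
      rw [Hoch.Ind.coactAux_tmul, Bialgebra.comul_one]
      rfl
    · intro x hx
      have hx' : Hoch.Ind.coactAux k A P x = x ⊗ₜ[k] (1 : A) := hx
      refine ⟨r x, ?_⟩
      show r x ⊗ₜ[k] (1 : A) = x
      rw [← hq2]
      exact (congrArg q hx').symm.trans (hq1 x)

open TensorProduct in
/-- Let k be a commutative ring, A a commutative k-bialgebra that is flat over k (the coordinate ring of
a flat affine group scheme over Spec k; flatness and commutativity are the standing hypotheses of
the appendix and are not needed for the assertion) and P a k-module. Then p ↦ p ⊗ 1 is an injection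
of P into the induced comodule P ⊗ A (coaction id ⊗ Δ) whose image is exactly the submodule of
invariants, i.e. the elements with coaction x ↦ x ⊗ 1. (The published statement writes the
coordinate-ring factor on the left and calls this module coinduced; this row is its degree-zero
part, the identification of P with the invariants of the coinduced module.) -/
theorem result (k : Type u) [CommRing k] (A : Type v) [CommRing A] [Bialgebra k A]
    [Module.Flat k A] (P : Type w) [AddCommGroup P] [Module k P] :
    Function.Injective ((Hoch.Ind.equiv k A P).toLinearMap ∘ₗ (TensorProduct.mk k P A).flip (1 : A)) ∧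
    LinearMap.range ((Hoch.Ind.equiv k A P).toLinearMap ∘ₗ (TensorProduct.mk k P A).flip (1 : A)) =
      HopfRep.fixedPts k A (Hoch.Ind k A P) := by
  exact main k A P

end Groth.Agent.S16984
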