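import Groth.Statements.S1699
import Mathlib
import Groth.Agent.S1567

set_option autoImplicit false
universe u
open CategoryTheory CategoryTheory.Limits AlgebraicGeometry TopologicalSpace
open SDiv

namespace Groth.Agent.S1699

open Groth.Agent.S1567

theorem section_eq_zero {X : Scheme.{u}} (V : X.Opens) (s : Γ(X, V))
    (h : ∀ (x : X) (hx : x ∈ V), X.presheaf.germ V x hx s = 0) : s = 0 := by
  refine TopCat.Presheaf.section_ext X.sheaf V s 0 (fun x hx => ?_)
  exact (h x hx).trans (map_zero (X.presheaf.germ V x hx).hom).symm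

/-- affine-local characterisation of associated points. -/
theorem isAssPoint_iff {X : Scheme.{u}} {V : X.Opens} (hV : IsAffineOpen V)
    [IsNoetherianRing Γ(X, V)] (x : X) (hx : x ∈ V) :
    IsAssociatedPrime (IsLocalRing.maximalIdeal (X.presheaf.stalk x)) (X.presheaf.stalk x) ↔
      IsAssociatedPrime (hV.primeIdealOf ⟨x, hx⟩).asIdeal Γ(X, V) := by
  let _ := X.presheaf.algebra_section_stalk ⟨x, hx⟩
  have hloc := hV.isLocalization_stalk ⟨x, hx⟩
  have key := Module.associatedPrimes.preimage_comap_associatedPrimes_eq_associatedPrimes_of_isLocalizedModule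
    (hV.primeIdealOf ⟨x, hx⟩).asIdeal.primeCompl (R' := X.presheaf.stalk x)
    (Algebra.linearMap Γ(X, V) (X.presheaf.stalk x))
  have h1 : IsLocalRing.maximalIdeal (X.presheaf.stalk x) ∈
      associatedPrimes (X.presheaf.stalk x) (X.presheaf.stalk x) ↔
      (IsLocalRing.maximalIdeal (X.presheaf.stalk x)).comap
        (algebraMap Γ(X, V) (X.presheaf.stalk x)) ∈ associatedPrimes Γ(X, V) Γ(X, V) := by
    rw [← key]; rfl
  have h2 : (IsLocalRing.maximalIdeal (X.presheaf.stalk x)).comap
      (algebraMap Γ(X, V) (X.presheaf.stalk x)) = (hV.primeIdealOf ⟨x, hx⟩).asIdeal :=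
    IsLocalization.AtPrime.under_maximalIdeal _ _
  rw [h2] at h1
  exact h1

/-- (1) if and only if (3): let X be a locally Noetherian scheme and U an open subscheme. Then U is
scheme-theoretically dense in X if and only if U contains every associated point of X (every point
whose local ring has its maximal ideal as an associated prime). -/
theorem result (X : Scheme.{u}) [IsLocallyNoetherian X] (U : X.Opens) :
    CInt.IsSchematicallyDense U ↔ ∀ x : ↥X, IsAssociatedPrime (IsLocalRing.maximalIdeal ↑(X.presheaf.stalk x)) ↑(X.presheaf.stalk x) → x ∈ U := by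
  constructor
  · intro hdense x hass
    by_contra hxU
    obtain ⟨_, ⟨V, hV, rfl⟩, hxV, -⟩ :=
      X.isBasis_affineOpens.exists_subset_of_mem_open (Set.mem_univ x) isOpen_univ
    have : IsNoetherianRing Γ(X, V) := IsLocallyNoetherian.component_noetherian ⟨V, hV⟩
    rw [isAssPoint_iff hV x hxV, isAssociatedPrime_iff] at hass
    obtain ⟨hprime, a, ha⟩ := hass
    have ha0 : a ≠ 0 := by
      rintro rfl
      apply hprime.ne_top
      rw [ha]
      ext r
      simp [Submodule.mem_colon_singleton]
    apply ha0
    apply hdense V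
    rw [map_zero]
    apply section_eq_zero
    intro y hy
    erw [X.presheaf.germ_res_apply]
    have hyV : y ∈ V := hy.1
    have hyU : y ∈ U := hy.2
    -- `p ⊄ q_y`
    have hnle : ¬ (hV.primeIdealOf ⟨x, hxV⟩).asIdeal ≤ (hV.primeIdealOf ⟨y, hyV⟩).asIdeal := by
      intro hle
      have h1 : hV.primeIdealOf ⟨x, hxV⟩ ⤳ hV.primeIdealOf ⟨y, hyV⟩ :=
        (PrimeSpectrum.le_iff_specializes _ _).mp hle
      have h2 := h1.map hV.fromSpec.continuous
      rw [hV.fromSpec_primeIdealOf, hV.fromSpec_primeIdealOf] at h2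
      exact hxU (h2.mem_open U.2 hyU)
    obtain ⟨r, hrp, hrq⟩ := SetLike.not_le_iff_exists.mp hnle
    have hra : r * a = 0 := by
      rw [ha, Submodule.mem_colon_singleton] at hrp
      simpa using hrp
    have hyr : y ∈ X.basicOpen r := (mem_basicOpen_iff_notMem_primeIdealOf hV y hyV r).mpr hrq
    have hunit : IsUnit (X.presheaf.germ V y hyV r) := by
      rw [Scheme.mem_basicOpen _ _ _ hyV] at hyr
      exact hyr
    have := congrArg (X.presheaf.germ V y hyV) hra
    rw [map_mul, map_zero] at this
    exact (hunit.mul_right_eq_zero).mp this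
  · intro hass V a b hab
    rw [← sub_eq_zero]
    have hab' : X.presheaf.map (homOfLE (inf_le_left : V ⊓ U ≤ V)).op (a - b) = 0 := by
      rw [map_sub, hab, sub_self]
    generalize a - b = c at hab'
    apply section_eq_zero
    intro x hxV
    by_contra hne
    obtain ⟨_, ⟨W, hW, rfl⟩, hxW, hWV⟩ :=
      X.isBasis_affineOpens.exists_subset_of_mem_open hxV V.2
    have : IsNoetherianRing Γ(X, W) := IsLocallyNoetherian.component_noetherian ⟨W, hW⟩
    have hWV' : W ≤ V := hWV
    set b' := X.presheaf.map (homOfLE hWV').op c with hb'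
    have hb0 : b' ≠ 0 := by
      intro h0
      apply hne
      have := X.presheaf.germ_res_apply (homOfLE hWV') x hxW c
      have h1 : X.presheaf.map (homOfLE hWV').op c = 0 := h0
      erw [← this, h1]
      exact map_zero _
    obtain ⟨P, hPass, hle⟩ := exists_le_isAssociatedPrime_of_isNoetherianRing Γ(X, W) b' hb0
    have hPprime : P.IsPrime := hPass.isPrime
    let yP : PrimeSpectrum Γ(X, W) := ⟨P, hPprime⟩
    set y := hW.fromSpec yP with hy
    have hyW : y ∈ W := fromSpec_mem hW yP
    have hyass : IsAssociatedPrime (IsLocalRing.maximalIdeal (X.presheaf.stalk y))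
        (X.presheaf.stalk y) := by
      rw [isAssPoint_iff hW y hyW, primeIdealOf_fromSpec hW yP hyW]
      exact hPass
    have hyU : y ∈ U := hass y hyass
    have hyV : y ∈ V := hWV' hyW
    -- germ of c at y vanishes
    have hgerm : X.presheaf.germ V y hyV c = 0 := by
      have := X.presheaf.germ_res_apply (homOfLE (inf_le_left : V ⊓ U ≤ V)) y ⟨hyV, hyU⟩ c
      erw [← this, hab', map_zero]
    have hgerm' : X.presheaf.germ W y hyW b' = 0 := by
      have := X.presheaf.germ_res_apply (homOfLE hWV') y hyW c
      erw [this]; exact hgerm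
    let _ := X.presheaf.algebra_section_stalk ⟨y, hyW⟩
    have hloc := hW.isLocalization_stalk ⟨y, hyW⟩
    have hzero : algebraMap Γ(X, W) (X.presheaf.stalk y) b' = 0 := hgerm'
    obtain ⟨⟨t, ht⟩, ht2⟩ := (IsLocalization.map_eq_zero_iff
      (hW.primeIdealOf ⟨y, hyW⟩).asIdeal.primeCompl (X.presheaf.stalk y) b').mp hzero
    rw [primeIdealOf_fromSpec hW yP hyW] at ht
    apply ht
    apply hle
    rw [Submodule.mem_colon_singleton]
    simpa using ht2

end Groth.Agent.S1699
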