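import Groth.Statements.S1700
import Mathlib
import Groth.Agent.S1567
import Groth.Agent.S1570
import Groth.Agent.Lead.SubStalk

set_option autoImplicit false
universe u
open CategoryTheory CategoryTheory.Limits AlgebraicGeometry TopologicalSpace
open SDiv

namespace Groth.Agent.S1700

open Groth.Agent.S1567

open Submodule in
/-- In a Noetherian UFD, an ideal all of whose associated primes have height one is principal. -/
theorem isPrincipal_of_ass_height_one {R : Type*} [CommRing R] [IsDomain R] [IsNoetherianRing R]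
    [UniqueFactorizationMonoid R] (J : Ideal R)
    (h : ∀ Q ∈ associatedPrimes R (R ⧸ J), Q.height = 1) : ∃ g, J = Ideal.span {g} := by
  let S : Set (Ideal R) := {K | ∃ d : R, d ≠ 0 ∧ J = Ideal.span {d} * K}
  have hJS : J ∈ S := ⟨1, one_ne_zero, by rw [Ideal.span_singleton_one, Ideal.top_mul]⟩
  obtain ⟨K₀, ⟨d₀, hd₀, hJ⟩, hmax⟩ :=
    (set_has_maximal_iff_noetherian.mpr (inferInstance : IsNoetherian R R)) S ⟨J, hJS⟩
  by_cases hK : K₀ = ⊤
  · exact ⟨d₀, by rw [hJ, hK, Ideal.mul_top]⟩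
  have : Nontrivial (R ⧸ K₀) := Ideal.Quotient.nontrivial_iff.mpr hK
  obtain ⟨P, hP⟩ := associatedPrimes.nonempty R (R ⧸ K₀)
  have hPass : IsAssociatedPrime P (R ⧸ K₀) := hP
  obtain ⟨hPprime, m, hm⟩ := isAssociatedPrime_iff.mp hPass
  obtain ⟨y, rfl⟩ := Ideal.Quotient.mk_surjective m
  have hmemP : ∀ r, r ∈ P ↔ r * y ∈ K₀ := by
    intro r
    rw [hm, Submodule.mem_colon_singleton, Submodule.mem_bot, ← Ideal.Quotient.mk_eq_mk,
      ← smul_eq_mul, ← Ideal.Quotient.eq_zero_iff_mem]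
    rfl
  have hPJ : P ∈ associatedPrimes R (R ⧸ J) := by
    refine isAssociatedPrime_iff.mpr ⟨hPprime, Ideal.Quotient.mk J (d₀ * y), ?_⟩
    ext r
    rw [Submodule.mem_colon_singleton, Submodule.mem_bot, hmemP]
    have : r • (Ideal.Quotient.mk J (d₀ * y)) = Ideal.Quotient.mk J (r * (d₀ * y)) := rfl
    rw [this, Ideal.Quotient.eq_zero_iff_mem, hJ, Ideal.mem_span_singleton_mul]
    constructor
    · intro hry
      exact ⟨r * y, hry, by ring⟩
    · rintro ⟨z, hz, hzeq⟩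
      have : r * y = z := by
        apply mul_left_cancel₀ hd₀
        rw [hzeq]; ring
      rw [this]; exact hz
  have hht := h P hPJ
  obtain ⟨π, hπ⟩ := UniqueFactorizationMonoid.isPrincipal_of_height_eq_one hht
  have hπ' : P = Ideal.span {π} := hπ
  have hπ0 : π ≠ 0 := by
    rintro rfl
    have : P = ⊥ := by rw [hπ']; simp
    rw [this] at hht
    simp at hht
  have hK₀P : K₀ ≤ P := by
    intro k hk
    rw [hmemP]
    exact Ideal.mul_mem_right y K₀ hk
  let K₁ : Ideal R := K₀.comap (LinearMap.mulLeft R π)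
  have hK₁mem : ∀ r, r ∈ K₁ ↔ π * r ∈ K₀ := fun r => Iff.rfl
  have hK₀K₁ : K₀ ≤ K₁ := fun k hk => (hK₁mem k).mpr (Ideal.mul_mem_left K₀ π hk)
  have hK₀eq : K₀ = Ideal.span {π} * K₁ := by
    apply le_antisymm
    · intro k hk
      have hkP := hK₀P hk
      rw [hπ', Ideal.mem_span_singleton'] at hkP
      obtain ⟨r, hr⟩ := hkP
      rw [Ideal.mem_span_singleton_mul]
      refine ⟨r, ?_, by rw [← hr]; ring⟩
      rw [hK₁mem, mul_comm, hr]; exact hk
    · rw [Ideal.span_singleton_mul_le_iff]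
      intro r hr
      exact (hK₁mem r).mp hr
  have hK₁S : K₁ ∈ S := by
    refine ⟨d₀ * π, mul_ne_zero hd₀ hπ0, ?_⟩
    rw [hJ, hK₀eq, ← Ideal.span_singleton_mul_span_singleton, mul_assoc]
  have hK₁K₀ : K₁ = K₀ := by
    by_contra hne
    exact hmax K₁ hK₁S (lt_of_le_of_ne hK₀K₁ (Ne.symm hne))
  rw [hK₁K₀] at hK₀eq
  have hpow : ∀ n : ℕ, K₀ ≤ Ideal.span {π} ^ n := by
    intro n
    induction n with
    | zero => simp
    | succ n ih =>
      rw [hK₀eq, pow_succ']
      exact Ideal.mul_mono_right ih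
  have hbot : K₀ = ⊥ := by
    rw [eq_bot_iff, ← Ideal.iInf_pow_eq_bot_of_isDomain (Ideal.span {π}) (hπ' ▸ hPprime.ne_top)]
    exact le_iInf hpow
  exact ⟨0, by rw [hJ, hbot, Ideal.mul_bot]; simp⟩

theorem isPrincipal_map_of_ass_height_one {A : Type*} [CommRing A] [IsNoetherianRing A] (I : Ideal A)
    (p : Ideal A) [p.IsPrime] (R : Type*) [CommRing R] [Algebra A R] [IsLocalization.AtPrime R p]
    [IsDomain R] [UniqueFactorizationMonoid R]
    (h : ∀ P ∈ associatedPrimes A (A ⧸ I), P.height = 1) :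
    ∃ g, I.map (algebraMap A R) = Ideal.span {g} := by
  have : IsNoetherianRing R := IsLocalization.isNoetherianRing p.primeCompl R inferInstance
  rw [← Ideal.localized'_eq_map R p.primeCompl I]
  apply isPrincipal_of_ass_height_one
  intro Q hQ
  have hQprime : Q.IsPrime := IsAssociatedPrime.isPrime hQ
  have h1 := Module.associatedPrimes.comap_mem_associatedPrimes_of_mem_associatedPrimes_of_isLocalizedModule_of_fg
    p.primeCompl (Submodule.toLocalizedQuotient' R p.primeCompl (Algebra.linearMap A R) I) Q hQ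
    ((isNoetherianRing_iff_ideal_fg A).mp inferInstance _)
  have h2 := h _ h1
  rw [← h2]
  exact (IsLocalization.height_under p.primeCompl Q).symm


/-- a surjective local homomorphism `σ : S → T`; if the colon ideal `(ker σ : s)` is the maximal
ideal of `S`, the maximal ideal of `T` is an associated prime of `T`. -/
theorem isAssociatedPrime_maximalIdeal_of_surjective {S T : Type*} [CommRing S] [CommRing T]
    [IsLocalRing S] [IsLocalRing T] (σ : S →+* T) [IsLocalHom σ] (hσ : Function.Surjective σ)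
    (s : S) (hs : ∀ v : S, v * s ∈ RingHom.ker σ ↔ v ∈ IsLocalRing.maximalIdeal S) :
    IsAssociatedPrime (IsLocalRing.maximalIdeal T) T := by
  have hprime : (IsLocalRing.maximalIdeal T).IsPrime := inferInstance
  have heq : IsLocalRing.maximalIdeal T = (⊥ : Submodule T T).colon {σ s} := by
    ext w
    obtain ⟨v, rfl⟩ := hσ w
    rw [Submodule.mem_colon_singleton, Submodule.mem_bot, smul_eq_mul, ← map_mul,
      ← RingHom.mem_ker, hs, IsLocalRing.mem_maximalIdeal, IsLocalRing.mem_maximalIdeal,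
      map_mem_nonunits_iff]
  refine ⟨hprime, σ s, ?_⟩
  rw [← heq]
  exact hprime.radical.symm

/-- localisation at an associated prime `P = (I : a)`: the colon `(I A_P : a)` is the maximal ideal. -/
theorem colon_localization {A : Type*} [CommRing A] (I P : Ideal A) [P.IsPrime] (a : A)
    (hP : ∀ r, r ∈ P ↔ r * a ∈ I) (S : Type*) [CommRing S] [Algebra A S] [IsLocalRing S]
    [IsLocalization.AtPrime S P] (v : S) :
    v * algebraMap A S a ∈ I.map (algebraMap A S) ↔ v ∈ IsLocalRing.maximalIdeal S := by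
  obtain ⟨r, t, rfl⟩ := IsLocalization.exists_mk'_eq P.primeCompl v
  have h1 : IsLocalization.mk' S r t * algebraMap A S a = IsLocalization.mk' S (r * a) t := by
    rw [mul_comm, IsLocalization.mul_mk'_eq_mk'_of_mul, mul_comm]
  rw [h1, IsLocalization.mk'_mem_map_algebraMap_iff P.primeCompl,
    IsLocalization.AtPrime.mk'_mem_maximal_iff S P]
  constructor
  · rintro ⟨t', ht', h⟩
    have : t' * r ∈ P := by rw [hP]; rw [mul_assoc]; exact h
    exact (Ideal.IsPrime.mem_or_mem inferInstance this).resolve_left ht'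
  · intro hr
    exact ⟨1, Submonoid.one_mem _, by rw [one_mul]; exact (hP r).mp hr⟩


/-- geometric key: an "associated point" of `Z` in an affine chart has height one. -/
theorem height_eq_one_of_colon {X : Scheme.{u}} [IsNoetherian X] (𝓘 : X.IdealSheafData)
    (h1 : ∀ z : ↥𝓘.subscheme, IsAssociatedPrime (IsLocalRing.maximalIdeal ↑(𝓘.subscheme.presheaf.stalk z)) ↑(𝓘.subscheme.presheaf.stalk z) → ∀ z' : ↥𝓘.subscheme, z' ⤳ z → z' = z)
    (h2 : ∀ z : ↥𝓘.subscheme, (∀ z' : ↥𝓘.subscheme, z' ⤳ z → z' = z) →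
      ringKrullDim (X.presheaf.stalk (𝓘.subschemeι z)) = 1)
    (U : X.affineOpens) (z' : 𝓘.subscheme) (hz'U : 𝓘.subschemeι z' ∈ U.1) (a : Γ(X, U.1))
    (ha : ∀ r, r ∈ (U.2.primeIdealOf ⟨𝓘.subschemeι z', hz'U⟩).asIdeal ↔ r * a ∈ 𝓘.ideal U) :
    (U.2.primeIdealOf ⟨𝓘.subschemeι z', hz'U⟩).asIdeal.height = 1 := by
  have hker := Groth.Agent.Lead.SubStalk.ker_stalkMap_subschemeι 𝓘 z' U hz'U
  let _ := X.presheaf.algebra_section_stalk ⟨𝓘.subschemeι z', hz'U⟩
  have hloc := U.2.isLocalization_stalk ⟨𝓘.subschemeι z', hz'U⟩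
  have hgerm : (X.presheaf.germ U.1 (𝓘.subschemeι z') hz'U).hom =
      algebraMap Γ(X, U.1) (X.presheaf.stalk (𝓘.subschemeι z')) := rfl
  rw [hgerm] at hker
  have hass : IsAssociatedPrime (IsLocalRing.maximalIdeal (𝓘.subscheme.presheaf.stalk z'))
      (𝓘.subscheme.presheaf.stalk z') := by
    refine isAssociatedPrime_maximalIdeal_of_surjective (𝓘.subschemeι.stalkMap z').hom
      (𝓘.subschemeι.stalkMap_surjective z')
      (algebraMap Γ(X, U.1) (X.presheaf.stalk (𝓘.subschemeι z')) a) ?_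
    intro v
    rw [hker]
    exact colon_localization (𝓘.ideal U) _ a ha _ v
  have hmax := h1 z' hass
  have hdim := h2 z' hmax
  have h3 := IsLocalization.AtPrime.ringKrullDim_eq_height
    (U.2.primeIdealOf ⟨𝓘.subschemeι z', hz'U⟩).asIdeal (X.presheaf.stalk (𝓘.subschemeι z'))
  rw [hdim] at h3
  exact_mod_cast h3.symm

theorem height_eq_one_of_mem_ass {X : Scheme.{u}} [IsNoetherian X] (𝓘 : X.IdealSheafData)
    (h1 : ∀ z : ↥𝓘.subscheme, IsAssociatedPrime (IsLocalRing.maximalIdeal ↑(𝓘.subscheme.presheaf.stalk z)) ↑(𝓘.subscheme.presheaf.stalk z) → ∀ z' : ↥𝓘.subscheme, z' ⤳ z → z' = z)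
    (h2 : ∀ z : ↥𝓘.subscheme, (∀ z' : ↥𝓘.subscheme, z' ⤳ z → z' = z) →
      ringKrullDim (X.presheaf.stalk (𝓘.subschemeι z)) = 1)
    (U : X.affineOpens) (P : Ideal Γ(X, U.1))
    (hP : P ∈ associatedPrimes Γ(X, U.1) (Γ(X, U.1) ⧸ 𝓘.ideal U)) : P.height = 1 := by
  have : IsNoetherianRing Γ(X, U.1) := IsLocallyNoetherian.component_noetherian U
  have hPass : IsAssociatedPrime P (Γ(X, U.1) ⧸ 𝓘.ideal U) := hP
  obtain ⟨hPprime, m, hm⟩ := isAssociatedPrime_iff.mp hPass
  obtain ⟨a, rfl⟩ := Ideal.Quotient.mk_surjective m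
  have hmemP : ∀ r, r ∈ P ↔ r * a ∈ 𝓘.ideal U := by
    intro r
    rw [hm, Submodule.mem_colon_singleton, Submodule.mem_bot, ← Ideal.Quotient.mk_eq_mk,
      ← smul_eq_mul, ← Ideal.Quotient.eq_zero_iff_mem]
    rfl
  let yP : PrimeSpectrum Γ(X, U.1) := ⟨P, hPprime⟩
  have hzU : U.2.fromSpec yP ∈ U.1 := fromSpec_mem U.2 yP
  have hIP : 𝓘.ideal U ≤ P := fun i hi => (hmemP i).mpr (Ideal.mul_mem_right a _ hi)
  have hzsupp : U.2.fromSpec yP ∈ 𝓘.support := by
    rw [𝓘.mem_support_iff_of_mem (U := U) hzU, mem_zeroLocus_iff_le_primeIdealOf U.2 _ hzU,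
      primeIdealOf_fromSpec U.2 yP hzU]
    exact hIP
  obtain ⟨z', hz'⟩ : ∃ z', 𝓘.subschemeι z' = U.2.fromSpec yP := by
    have : U.2.fromSpec yP ∈ Set.range 𝓘.subschemeι := by rw [𝓘.range_subschemeι]; exact hzsupp
    exact this
  have hz'U : 𝓘.subschemeι z' ∈ U.1 := hz' ▸ hzU
  have hprimeOf : U.2.primeIdealOf ⟨𝓘.subschemeι z', hz'U⟩ = yP := by
    apply U.2.fromSpec.isOpenEmbedding.injective
    rw [U.2.fromSpec_primeIdealOf]
    exact hz'
  have key := height_eq_one_of_colon 𝓘 h1 h2 U z' hz'U a (by rw [hprimeOf]; exact hmemP)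
  rw [hprimeOf] at key
  exact key

/-- Let X be a Noetherian scheme and 𝓘 a quasi-coherent ideal sheaf with closed subscheme Z such that
(1) Z has no embedded points: every point of Z whose local ring has its maximal ideal associated is
a maximal point of Z; (2) every maximal point of Z has codimension 1 in X (the local ring of X there
has dimension 1); (3) the local ring of X at every point of Z is a unique factorisation domain. Then
𝓘 is the ideal sheaf of an effective Cartier divisor. -/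
theorem result (X : Scheme.{u}) [IsNoetherian X] (𝓘 : X.IdealSheafData)
    (h1 : ∀ z : ↥𝓘.subscheme, IsAssociatedPrime (IsLocalRing.maximalIdeal ↑(𝓘.subscheme.presheaf.stalk z)) ↑(𝓘.subscheme.presheaf.stalk z) → ∀ z' : ↥𝓘.subscheme, z' ⤳ z → z' = z)
    (h2 : ∀ z : ↥𝓘.subscheme, (∀ z' : ↥𝓘.subscheme, z' ⤳ z → z' = z) →
      ringKrullDim (X.presheaf.stalk (𝓘.subschemeι z)) = 1)
    (h3 : ∀ x : ↥X, x ∈ 𝓘.support → IsDomain (X.presheaf.stalk x) ∧ UniqueFactorizationMonoid (X.presheaf.stalk x)) :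
    BlowUp.IsEffCartierIdeal 𝓘 := by
  apply Groth.Agent.S1570.result
  intro x hx U hxU
  obtain ⟨hdom, hufd⟩ := h3 x hx
  have : IsNoetherianRing Γ(X, U.1) := IsLocallyNoetherian.component_noetherian U
  let _ := X.presheaf.algebra_section_stalk ⟨x, hxU⟩
  have hloc := U.2.isLocalization_stalk ⟨x, hxU⟩
  have hgerm : (X.presheaf.germ U.1 x hxU).hom =
      algebraMap Γ(X, U.1) (X.presheaf.stalk x) := rfl
  rw [hgerm]
  set p := (U.2.primeIdealOf ⟨x, hxU⟩).asIdeal with hp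
  have hht : ∀ P ∈ associatedPrimes Γ(X, U.1) (Γ(X, U.1) ⧸ 𝓘.ideal U), P.height = 1 :=
    fun P hP => height_eq_one_of_mem_ass 𝓘 h1 h2 U P hP
  obtain ⟨g, hg⟩ := isPrincipal_map_of_ass_height_one (𝓘.ideal U) p (X.presheaf.stalk x) hht
  refine ⟨g, ?_, hg⟩
  apply mem_nonZeroDivisors_of_ne_zero
  rintro rfl
  have hbot : (𝓘.ideal U).map (algebraMap Γ(X, U.1) (X.presheaf.stalk x)) = ⊥ := by
    rw [hg]; simp
  -- the kernel of the localisation map
  set P₀ := RingHom.ker (algebraMap Γ(X, U.1) (X.presheaf.stalk x)) with hP₀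
  have hP₀prime : P₀.IsPrime := RingHom.ker_isPrime _
  have hIP₀ : 𝓘.ideal U ≤ P₀ := by
    intro i hi
    rw [hP₀, RingHom.mem_ker]
    have : algebraMap Γ(X, U.1) (X.presheaf.stalk x) i ∈
        (𝓘.ideal U).map (algebraMap Γ(X, U.1) (X.presheaf.stalk x)) := Ideal.mem_map_of_mem _ hi
    rw [hbot] at this
    exact this
  have hmem₀ : ∀ y, y ∈ P₀ → ∃ t, t ∉ p ∧ t * y = 0 := by
    intro y hy
    rw [hP₀, RingHom.mem_ker] at hy
    obtain ⟨⟨t, ht⟩, ht2⟩ := (IsLocalization.map_eq_zero_iff p.primeCompl (X.presheaf.stalk x) y).mp hy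
    exact ⟨t, ht, ht2⟩
  have hP₀p : P₀ ≤ p := by
    intro y hy
    obtain ⟨t, ht, hty⟩ := hmem₀ y hy
    have : t * y ∈ p := by rw [hty]; exact p.zero_mem
    exact ((U.2.primeIdealOf ⟨x, hxU⟩).2.mem_or_mem this).resolve_left ht
  have hP₀min : P₀ ∈ (𝓘.ideal U).minimalPrimes := by
    refine ⟨⟨hP₀prime, hIP₀⟩, ?_⟩
    rintro Q ⟨hQprime, -⟩ hQP₀ y hy
    obtain ⟨t, ht, hty⟩ := hmem₀ y hy
    have : t * y ∈ Q := by rw [hty]; exact Q.zero_mem
    exact (hQprime.mem_or_mem this).resolve_left (fun htQ => ht (hP₀p (hQP₀ htQ)))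
  have hP₀min' : P₀ ∈ minimalPrimes Γ(X, U.1) := by
    refine ⟨⟨hP₀prime, bot_le⟩, ?_⟩
    rintro Q ⟨hQprime, -⟩ hQP₀ y hy
    obtain ⟨t, ht, hty⟩ := hmem₀ y hy
    have : t * y ∈ Q := by rw [hty]; exact Q.zero_mem
    exact (hQprime.mem_or_mem this).resolve_left (fun htQ => ht (hP₀p (hQP₀ htQ)))
  have hP₀ass : P₀ ∈ associatedPrimes Γ(X, U.1) (Γ(X, U.1) ⧸ 𝓘.ideal U) := by
    apply Module.associatedPrimes.minimalPrimes_annihilator_subset_associatedPrimes
    rw [Ideal.annihilator_quotient]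
    exact hP₀min
  have h1' := hht P₀ hP₀ass
  have h0 : P₀.height = 0 := Ideal.height_eq_zero_iff.mpr hP₀min'
  rw [h0] at h1'
  exact zero_ne_one h1'

end Groth.Agent.S1700
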