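import Groth.Statements.S17006
import Groth.Agent.Helper8.QuadCentre

set_option autoImplicit false
universe u
open scoped TensorProduct
open QuadGrp

namespace Groth.Agent.S17006

/-- Let Q be a quadratic form on R^{2m}, m ≥ 2, over a commutative ring R, whose polar form is a perfect
pairing. An isometry g of Q satisfying the Dickson condition commutes, after base change to every
R-algebra A, with every isometry of Q_A satisfying the Dickson condition if and only if g is
multiplication by a scalar whose square is one. (Points-level form of: for even rank at least 4 the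
functorial centre of the special orthogonal group is the central μ₂ and coincides with that of the
naive one.) -/
theorem result (R : Type u) [CommRing R] (m : ℕ) (hm : 2 ≤ m)
    (Q : QuadraticForm R (Fin (2 * m) → R)) (hQ : QuadGrp.IsRegular Q)
    (g : (Fin (2 * m) → R) ≃ₗ[R] (Fin (2 * m) → R)) (hg : g ∈ QuadGrp.SO Q) :
    (∀ (A : Type u) [CommRing A] [Algebra R A], ∀ h ∈ QuadGrp.sorth Q A,
        g.baseChange R A (Fin (2 * m) → R) (Fin (2 * m) → R) * h = h * g.baseChange R A (Fin (2 * m) → R) (Fin (2 * m) → R)) ↔
      ∃ c : R, c * c = 1 ∧ ∀ v, g v = c • v := by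
  have hgO : g ∈ QuadGrp.O Q := by
    unfold QuadGrp.SO at hg
    split_ifs at hg
    · obtain ⟨h1, _⟩ := hg; exact h1
    · exact hg.1
  constructor
  · intro H
    rcases subsingleton_or_nontrivial R with hR | hR
    · exact ⟨1, Subsingleton.elim _ _, fun v => Subsingleton.elim _ _⟩
    · have hlie : ∀ x z w : Fin (2 * m) → R,
          QuadraticMap.polar Q x z • g w - QuadraticMap.polar Q x w • g z =
            QuadraticMap.polar Q (g x) z • w - QuadraticMap.polar Q (g x) w • z := by
        intro x z w
        refine Groth.Agent.Helper8.QuadCentre.lie_comm_of_comm g z w (H (DualNumber R) _ ?_) x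
        unfold QuadGrp.sorth QuadGrp.SO
        have hfr : Module.finrank (DualNumber R) (DualNumber R ⊗[R] (Fin (2 * m) → R)) = 2 * m := by
          rw [Module.finrank_baseChange, Module.finrank_fin_fun]
        rw [if_pos (by rw [hfr]; exact even_two_mul m)]
        exact ⟨Groth.Agent.Helper8.QuadCentre.mem_O_baseChangeForm_of_mem_orth Q _ _ (Groth.Agent.Helper8.QuadCentre.infEquiv_mem_orth Q _ _ _ _ _),
          Groth.Agent.Helper8.QuadCentre.dickson_infEquiv Q _ _ _ _ _ _⟩
      obtain ⟨c, hc⟩ := Groth.Agent.Helper8.QuadCentre.scalar_of_lie Q (by omega) hQ.2 g hlie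
      refine ⟨c, ?_, hc⟩
      obtain ⟨x, hx⟩ := hQ.2 (LinearMap.proj ⟨0, by omega⟩)
      refine Groth.Agent.Helper8.QuadCentre.sq_eq_one_of_polar Q g hgO c hc x (Pi.single ⟨0, by omega⟩ 1) ?_
      have := congrArg (fun f => f (Pi.single ⟨0, by omega⟩ 1)) hx
      simpa using this
  · rintro ⟨c, -, hc⟩ A _ _ h _
    exact Groth.Agent.Helper8.QuadCentre.baseChange_comm_of_scalar A g c hc h

end Groth.Agent.S17006
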