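import Groth.Statements.S1701
import Mathlib
import Groth.Agent.Lead.EffCartier
import Groth.Agent.S1567

set_option autoImplicit false
universe u
open CategoryTheory CategoryTheory.Limits AlgebraicGeometry TopologicalSpace
open SDiv

namespace Groth.Agent.S1701

open Function TensorProduct
open Groth.Agent.Lead.EffCartier


/-- Nakayama-type flatness criterion: `C` local Noetherian, `h ∈ 𝔪` a nonzerodivisor with `C/(h)`
flat over `A`; then `C` is flat over `A`. -/
theorem flat_of_flat_quot_nzd {A C : Type*} [CommRing A] [CommRing C] [Algebra A C]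
    [IsLocalRing C] [IsNoetherianRing C] (h : C) (hm : h ∈ IsLocalRing.maximalIdeal C)
    (hnzd : h ∈ nonZeroDivisors C) [Module.Flat A (C ⧸ Ideal.span {h})] :
    Module.Flat A C := by
  rw [Module.Flat.iff_lTensor_injective]
  intro I hI
  have : Module.Finite A I := Module.Finite.iff_fg.mpr hI
  -- the `C`-linear version of the map
  let Θ : C ⊗[A] I →ₗ[C] C ⊗[A] A := (I.subtype).baseChange C
  have hΘ : ∀ z, Θ z = (I.subtype.lTensor C) z := fun z => by
    simp [Θ, LinearMap.baseChange_eq_ltensor]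
  let K : Submodule C (C ⊗[A] I) := LinearMap.ker Θ
  have hKfg : K.FG := IsNoetherian.noetherian K
  -- the exact sequence `C --h--> C --> C/(h) --> 0`
  let π : C →ₗ[A] (C ⧸ Ideal.span {h}) := (Ideal.Quotient.mkₐ A (Ideal.span {h})).toLinearMap
  let μ : C →ₗ[A] C := LinearMap.mulLeft A h
  have hπ : Surjective π := Ideal.Quotient.mk_surjective
  have hex : Exact μ π := by
    intro c
    change Ideal.Quotient.mk _ c = 0 ↔ _
    rw [Ideal.Quotient.eq_zero_iff_mem, Ideal.mem_span_singleton']
    constructor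
    · rintro ⟨d, rfl⟩; exact ⟨d, by simp [μ, mul_comm]⟩
    · rintro ⟨d, rfl⟩; exact ⟨d, by simp [μ, mul_comm]⟩
  have hexI : Exact (μ.rTensor I) (π.rTensor I) := rTensor_exact I hex hπ
  have hμ : ∀ z : C ⊗[A] I, (μ.rTensor I) z = h • z := by
    intro z
    induction z using TensorProduct.induction_on with
    | zero => simp
    | tmul c i => simp [μ, TensorProduct.smul_tmul']
    | add x y hx hy => rw [map_add, hx, hy, smul_add]
  have hinjQ : Injective (I.subtype.lTensor (C ⧸ Ideal.span {h})) :=
    Module.Flat.lTensor_preserves_injective_linearMap _ I.injective_subtype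
  have hsmul0 : ∀ y : C ⊗[A] A, h • y = 0 → y = 0 := by
    intro y hy
    have h1 : h • (TensorProduct.AlgebraTensorModule.rid A C C y) = 0 := by
      rw [← map_smul, hy, map_zero]
    rw [smul_eq_mul] at h1
    have h2 := (mul_right_mem_nonZeroDivisors_eq_zero_iff hnzd).mp (by rwa [mul_comm] at h1)
    exact (TensorProduct.AlgebraTensorModule.rid A C C).injective (by rw [h2, map_zero])
  have hK : K ≤ Ideal.span {h} • K := by
    intro k hk
    have hk0 : (I.subtype.lTensor C) k = 0 := by rw [← hΘ]; exact hk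
    have h1 : (I.subtype.lTensor (C ⧸ Ideal.span {h})) ((π.rTensor I) k) = 0 := by
      have : (I.subtype.lTensor (C ⧸ Ideal.span {h})) ∘ₗ (π.rTensor I) =
          (π.rTensor A) ∘ₗ (I.subtype.lTensor C) := by
        rw [LinearMap.lTensor_comp_rTensor, LinearMap.rTensor_comp_lTensor]
      have := congrArg (fun F => F k) this
      simp only [LinearMap.comp_apply] at this
      rw [this, hk0, map_zero]
    have h2 : (π.rTensor I) k = 0 := by
      apply hinjQ; rw [h1, map_zero]
    obtain ⟨k', hk'⟩ := (hexI k).mp h2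
    rw [hμ] at hk'
    have hk'K : k' ∈ K := by
      change Θ k' = 0
      apply hsmul0
      rw [← map_smul, hk']
      exact hk
    rw [← hk']
    exact Submodule.smul_mem_smul (Ideal.mem_span_singleton_self h) hk'K
  have hjac : Ideal.span {h} ≤ Ideal.jacobson (⊥ : Ideal C) := by
    rw [IsLocalRing.jacobson_eq_maximalIdeal ⊥ bot_ne_top, Ideal.span_singleton_le_iff_mem]
    exact hm
  have hKbot : K = ⊥ := Submodule.eq_bot_of_le_smul_of_le_jacobson_bot _ K hKfg hK hjac
  rw [injective_iff_map_eq_zero]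
  intro z hz
  have : z ∈ K := by change Θ z = 0; rw [hΘ]; exact hz
  rw [hKbot] at this
  simpa using this

/-- flatness descends along a localization of the source. -/
theorem flat_of_comp_localization {A A' C : Type u} [CommRing A] [CommRing A'] [CommRing C]
    [Algebra A A'] (M : Submonoid A) [IsLocalization M A'] (ψ : A' →+* C)
    (hflat : (ψ.comp (algebraMap A A')).Flat) : ψ.Flat := by
  let _ := ψ.toAlgebra
  let _ := (ψ.comp (algebraMap A A')).toAlgebra
  have : IsScalarTower A A' C := IsScalarTower.of_algebraMap_eq (fun _ => rfl)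
  have h1 : Module.Flat A C := hflat
  exact (Module.flat_iff_of_isLocalization A' M C).mpr h1

/-- flatness of the quotient passes to the localisation. -/
theorem flat_quot_localization {A B C : Type u} [CommRing A] [CommRing B] [CommRing C]
    [Algebra B C] (M : Submonoid B) [IsLocalization M C] (φ : A →+* B) (g : B)
    (hflat : ((Ideal.Quotient.mk (Ideal.span {g})).comp φ).Flat) :
    ((Ideal.Quotient.mk (Ideal.span {algebraMap B C g})).comp ((algebraMap B C).comp φ)).Flat := by
  have h2 : (algebraMap (B ⧸ Ideal.span {g}) (C ⧸ (Ideal.span {g}).map (algebraMap B C))).Flat :=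
    RingHom.flat_algebraMap_iff.mpr
      (IsLocalization.flat _ (Algebra.algebraMapSubmonoid (B ⧸ Ideal.span {g}) M))
  have h3 := RingHom.Flat.comp hflat h2
  have hI : (Ideal.span {g}).map (algebraMap B C) = Ideal.span {algebraMap B C g} := by
    rw [Ideal.map_span, Set.image_singleton]
  have h4 : (algebraMap (B ⧸ Ideal.span {g}) (C ⧸ (Ideal.span {g}).map (algebraMap B C))).comp
      ((Ideal.Quotient.mk (Ideal.span {g})).comp φ) =
      (Ideal.Quotient.mk ((Ideal.span {g}).map (algebraMap B C))).comp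
        ((algebraMap B C).comp φ) := by
    ext a; rfl
  rw [h4] at h3
  rw [← hI]
  exact h3

/-- Let f : X ⟶ S be a morphism, 𝓘 the ideal sheaf of an effective Cartier divisor D ⊂ X such that D ⟶ S
is flat (a relative effective Cartier divisor), and x a point of D at which the local ring of X is
Noetherian. Then f is flat at x. -/
theorem result {X S : Scheme.{u}} (f : X ⟶ S) (𝓘 : X.IdealSheafData)
    (hD : (BlowUp.IsEffCartierIdeal 𝓘 ∧ Flat (𝓘.subschemeι ≫ f))) (d : ↥𝓘.subscheme) [IsNoetherianRing (X.presheaf.stalk (𝓘.subschemeι d))] :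
    (f.stalkMap (𝓘.subschemeι d)).hom.Flat := by
  obtain ⟨hc, hf⟩ := hD
  generalize hx : 𝓘.subschemeι d = x at *
  have hxsupp : x ∈ 𝓘.support := by
    have : 𝓘.subschemeι d ∈ Set.range 𝓘.subschemeι := ⟨d, rfl⟩
    rw [𝓘.range_subschemeι, hx] at this
    exact this
  obtain ⟨_, ⟨U, hU, rfl⟩, hfxU, -⟩ :=
    S.isBasis_affineOpens.exists_subset_of_mem_open (Set.mem_univ (f x)) isOpen_univ
  obtain ⟨W, hxW, hWU, g, hg, e⟩ := exists_le_of_isEffCartier 𝓘 hc x (f ⁻¹ᵁ U) hfxU
  have k := flat_quot_of_flat f 𝓘 ⟨U, hU⟩ W hWU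
  rw [e] at k
  let _ := X.presheaf.algebra_section_stalk ⟨x, hxW⟩
  have hlocB := W.2.isLocalization_stalk ⟨x, hxW⟩
  let _ := S.presheaf.algebra_section_stalk ⟨f x, hfxU⟩
  have hlocA := hU.isLocalization_stalk ⟨f x, hfxU⟩
  apply flat_of_comp_localization (hU.primeIdealOf ⟨f x, hfxU⟩).asIdeal.primeCompl
  have hnat : (f.stalkMap x).hom.comp (algebraMap Γ(S, U) (S.presheaf.stalk (f x))) =
      (algebraMap Γ(X, W.1) (X.presheaf.stalk x)).comp (f.appLE U W.1 hWU).hom := by
    ext a
    simp only [RingHom.comp_apply, RingHom.algebraMap_toAlgebra]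
    erw [Scheme.Hom.germ_stalkMap_apply]
    simp only [Scheme.Hom.appLE, homOfLE_leOfHom, CommRingCat.hom_comp, RingHom.coe_comp,
      Function.comp_apply]
    erw [X.presheaf.germ_res_apply]
  rw [hnat]
  have k2 := flat_quot_localization (C := X.presheaf.stalk x)
    (W.2.primeIdealOf ⟨x, hxW⟩).asIdeal.primeCompl (f.appLE U W.1 hWU).hom g k
  rw [ringHomFlat_quot_iff] at k2
  have hgp : g ∈ (W.2.primeIdealOf ⟨x, hxW⟩).asIdeal := by
    have h1 := (𝓘.mem_support_iff_of_mem (U := W) hxW).mp hxsupp
    rw [Groth.Agent.S1567.mem_zeroLocus_iff_le_primeIdealOf W.2 x hxW, e] at h1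
    exact h1 (Ideal.mem_span_singleton_self g)
  have hm : algebraMap Γ(X, W.1) (X.presheaf.stalk x) g ∈
      IsLocalRing.maximalIdeal (X.presheaf.stalk x) :=
    (IsLocalization.AtPrime.to_map_mem_maximal_iff _
      (W.2.primeIdealOf ⟨x, hxW⟩).asIdeal g).mpr hgp
  have hnzd : algebraMap Γ(X, W.1) (X.presheaf.stalk x) g ∈
      nonZeroDivisors (X.presheaf.stalk x) :=
    IsLocalization.map_nonZeroDivisors_le (W.2.primeIdealOf ⟨x, hxW⟩).asIdeal.primeCompl _
      (Submonoid.mem_map_of_mem _ hg)
  let _ := ((algebraMap Γ(X, W.1) (X.presheaf.stalk x)).comp (f.appLE U W.1 hWU).hom).toAlgebra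
  exact flat_of_flat_quot_nzd (A := Γ(S, U)) (C := X.presheaf.stalk x) _ hm hnzd

end Groth.Agent.S1701
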