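import Groth.Statements.S17065
import Mathlib.RingTheory.Filtration
import Mathlib.Tactic

set_option autoImplicit false
universe u
open CAlg

namespace Groth.Agent.S17065

/-- The local algebraic statement its proof establishes: let A be a Noetherian ring, I ≤ J radical
ideals and Â the J-adic completion of A. If J^n Â ⊆ I Â for some n, then the closed set V(J) is open
inside V(I) ⊆ Spec A. (Globally: if X₂ ⊆ X₁ are the completions of a locally Noetherian scheme along
nested closed subsets Z₂ ⊆ Z₁ and the ideal of Z₁ generates an ideal of definition of X₂, then X₂ is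
a union of connected components of X₁.) -/
theorem result (A : Type u) [CommRing A] [IsNoetherianRing A]
    (I J : Ideal A) (hIJ : I ≤ J) (hI : I.IsRadical) (hJ : J.IsRadical) (n : ℕ)
    (h : (J ^ n).map (algebraMap A (AdicCompletion J A)) ≤ I.map (algebraMap A (AdicCompletion J A))) :
    IsOpen ((fun x : PrimeSpectrum.zeroLocus (I : Set A) => (x : PrimeSpectrum A)) ⁻¹'
      PrimeSpectrum.zeroLocus (J : Set A)) := by
  classical
  -- Step 1: every `x ∈ J ^ n` lies in `I ⊔ J ^ m` for all `m`
  have step1 : ∀ x ∈ J ^ n, ∀ m : ℕ, x ∈ I ⊔ J ^ m := by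
    intro x hx m
    have h1 : algebraMap A (AdicCompletion J A) x ∈ I.map (algebraMap A (AdicCompletion J A)) :=
      h (Ideal.mem_map_of_mem _ hx)
    have h2 : (AdicCompletion.evalₐ J m) (algebraMap A (AdicCompletion J A) x) ∈
        (I.map (algebraMap A (AdicCompletion J A))).map (AdicCompletion.evalₐ J m).toRingHom :=
      Ideal.mem_map_of_mem _ h1
    rw [Ideal.map_map] at h2
    have h3 : (AdicCompletion.evalₐ J m).toRingHom.comp (algebraMap A (AdicCompletion J A)) =
        Ideal.Quotient.mk (J ^ m) := by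
      ext a
      simp
    rw [h3] at h2
    have h4 : (AdicCompletion.evalₐ J m) (algebraMap A (AdicCompletion J A) x) =
        Ideal.Quotient.mk (J ^ m) x := by simp
    rw [h4] at h2
    exact Ideal.mem_quotient_iff_mem_sup.mp h2
  -- Step 2: Krull's intersection theorem in `A ⧸ I`
  set Jb : Ideal (A ⧸ I) := J.map (Ideal.Quotient.mk I) with hJb
  set N : Submodule (A ⧸ I) (A ⧸ I) := ⨅ i : ℕ, Jb ^ i • ⊤ with hN
  have hNle : N ≤ Jb • N := by
    intro y hy
    obtain ⟨r, hr⟩ := (Ideal.mem_iInf_smul_pow_eq_bot_iff Jb y).mp hy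
    rw [← hr]
    exact Submodule.smul_mem_smul r.2 hy
  obtain ⟨r, hrJ, hr⟩ := Submodule.exists_mem_and_smul_eq_self_of_fg_of_le_smul Jb N
    (IsNoetherian.noetherian N) hNle
  obtain ⟨j, hjJ, rfl⟩ := (Ideal.mem_map_iff_of_surjective _ Ideal.Quotient.mk_surjective).mp hrJ
  have step2 : ∀ x ∈ J ^ n, (1 - j) * x ∈ I := by
    intro x hx
    have hxN : Ideal.Quotient.mk I x ∈ N := by
      rw [hN, Submodule.mem_iInf]
      intro m
      obtain ⟨a, ha, c, hc, rfl⟩ := Submodule.mem_sup.mp (step1 x hx m)
      have : Ideal.Quotient.mk I (a + c) = Ideal.Quotient.mk I c := by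
        rw [map_add, Ideal.Quotient.eq_zero_iff_mem.mpr ha, zero_add]
      rw [this, smul_eq_mul, Ideal.mul_top, hJb, ← Ideal.map_pow]
      exact Ideal.mem_map_of_mem _ hc
    have := hr _ hxN
    rw [smul_eq_mul, ← map_mul] at this
    rw [← Ideal.Quotient.eq_zero_iff_mem, sub_mul, one_mul, map_sub, this, sub_self]
  -- Step 3: the topological conclusion
  have hset : ((fun x : PrimeSpectrum.zeroLocus (I : Set A) => (x : PrimeSpectrum A)) ⁻¹'
      PrimeSpectrum.zeroLocus (J : Set A)) =
      Subtype.val ⁻¹' ((PrimeSpectrum.basicOpen (1 - j) : TopologicalSpace.Opens _) : Set _) := by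
    ext ⟨p, hp⟩
    simp only [Set.mem_preimage, PrimeSpectrum.mem_zeroLocus, SetLike.coe_subset_coe,
      SetLike.mem_coe, PrimeSpectrum.mem_basicOpen]
    rw [PrimeSpectrum.mem_zeroLocus, SetLike.coe_subset_coe] at hp
    constructor
    · intro hJp hmem
      have : (1 : A) ∈ p.asIdeal := by
        have hj : j ∈ p.asIdeal := hJp hjJ
        have : (1 : A) = (1 - j) + j := by ring
        rw [this]
        exact p.asIdeal.add_mem hmem hj
      exact p.isPrime.ne_top ((Ideal.eq_top_iff_one _).mpr this)
    · intro hs y hy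
      have h1 : (1 - j) * y ^ n ∈ p.asIdeal := hp (step2 _ (Ideal.pow_mem_pow hy n))
      rcases p.isPrime.mem_or_mem h1 with h2 | h2
      · exact absurd h2 hs
      · exact p.isPrime.mem_of_pow_mem n h2
  rw [hset]
  exact (PrimeSpectrum.basicOpen (1 - j)).isOpen.preimage continuous_subtype_val

end Groth.Agent.S17065
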