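import Groth.Statements.S1707
import Groth.Agent.Helper4.AssMax
import Mathlib

set_option autoImplicit false
universe u
open CategoryTheory CategoryTheory.Limits AlgebraicGeometry TopologicalSpace
open SDiv

namespace Groth.Agent.S1707


/-- Let X be a scheme, F a quasi-coherent module and x a point of the support of F such that no other
point of the support specializes to x. Then x is weakly associated to F. -/
theorem result (X : Scheme.{u}) (F : X.Modules) (hF : Coh.IsQCoh F) (x : ↥X)
    (hx : x ∈ CohB1.support F) (hmax : ∀ y : ↥X, y ∈ CohB1.support F → y ⤳ x → y = x) : Curv2.IsWeakAssPoint F x := by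

  haveI : F.IsQuasicoherent := hF
  rw [← Groth.Agent.Helper4.AssDict.isAssPoint_iff_isWeakAssPoint]
  exact Groth.Agent.Helper4.AssMax.isAssPoint_of_maximal_in_support F x hx hmax

end Groth.Agent.S1707
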