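import Groth.Statements.S1709
import Groth.Agent.Helper4.AssPush2
import Mathlib

set_option autoImplicit false
universe u
open CategoryTheory CategoryTheory.Limits AlgebraicGeometry TopologicalSpace
open SDiv

namespace Groth.Agent.S1709


/-- Let f : X ⟶ S be an affine morphism with X locally Noetherian and F a quasi-coherent module on X.
Then the following subsets of S coincide: the image of the associated points of F, the associated
points of f_* F, the weakly associated points of f_* F, and the image of the weakly associated
points of F. -/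
theorem result {X S : Scheme.{u}} (f : X ⟶ S) [IsAffineHom f] [IsLocallyNoetherian X] (F : X.Modules)
    (hF : Coh.IsQCoh F) :
    (fun x => f x) '' {x : ↥X | Curv2.IsAssPoint F x} = {s : ↥S | Curv2.IsAssPoint ((Scheme.Modules.pushforward f).obj F) s} ∧
      {s : ↥S | Curv2.IsAssPoint ((Scheme.Modules.pushforward f).obj F) s} =
        {s : ↥S | Curv2.IsWeakAssPoint ((Scheme.Modules.pushforward f).obj F) s} ∧
      {s : ↥S | Curv2.IsWeakAssPoint ((Scheme.Modules.pushforward f).obj F) s} =
        (fun x => f x) '' {x : ↥X | Curv2.IsWeakAssPoint F x} := by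

  haveI : F.IsQuasicoherent := hF
  have h1 := Groth.Agent.Helper4.AssPush2.ass_pushforward_eq_image_of_isAffineHom f F
  have h2 : {s : ↥S | Curv2.IsAssPoint ((Scheme.Modules.pushforward f).obj F) s} =
        {s : ↥S | Curv2.IsWeakAssPoint ((Scheme.Modules.pushforward f).obj F) s} := by
    ext s
    exact Groth.Agent.Helper4.AssDict.isAssPoint_iff_isWeakAssPoint _ s
  have h3 : {x : ↥X | Curv2.IsAssPoint F x} = {x : ↥X | Curv2.IsWeakAssPoint F x} := by
    ext x
    exact Groth.Agent.Helper4.AssDict.isAssPoint_iff_isWeakAssPoint _ x
  refine ⟨h1.symm, h2, ?_⟩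
  rw [← h2, h1, h3]

end Groth.Agent.S1709
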