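import Groth.Statements.S1710
import Mathlib
import Groth.Agent.Lead.EffCartier

set_option autoImplicit false
universe u
open CategoryTheory CategoryTheory.Limits AlgebraicGeometry TopologicalSpace
open SDiv

namespace Groth.Agent.S1710

open Groth.Agent.Lead.EffCartier

/-- common small affine on which both ideals are principal by nonzerodivisors. -/
theorem exists_common {X : Scheme.{u}} (𝓘₁ 𝓘₂ : X.IdealSheafData)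
    (h₁ : BlowUp.IsEffCartierIdeal 𝓘₁) (h₂ : BlowUp.IsEffCartierIdeal 𝓘₂)
    (x : X) (O : X.Opens) (hxO : x ∈ O) :
    ∃ W : X.affineOpens, x ∈ W.1 ∧ W.1 ≤ O ∧ ∃ g1 g2 : Γ(X, W.1),
      g1 ∈ nonZeroDivisors Γ(X, W.1) ∧ g2 ∈ nonZeroDivisors Γ(X, W.1) ∧
      𝓘₁.ideal W = Ideal.span {g1} ∧ 𝓘₂.ideal W = Ideal.span {g2} := by
  obtain ⟨W1, hxW1, hW1O, g1, hg1, hI1⟩ := exists_le_of_isEffCartier 𝓘₁ h₁ x O hxO
  obtain ⟨W2, hxW2, hW21, g2, hg2, hI2⟩ := exists_le_of_isEffCartier 𝓘₂ h₂ x W1.1 hxW1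
  obtain ⟨h1, h2⟩ := principal_res 𝓘₁ W1 W2 hW21 g1 hg1 hI1
  exact ⟨W2, hxW2, hW21.trans hW1O, _, g2, h1, hg2, h2, hI2⟩

/-- Let f : X ⟶ S be a morphism and 𝓘₁, 𝓘₂ ideal sheaves of effective Cartier divisors D₁ ⊆ D₂ on X,
both flat over S, and let 𝓘 be the ideal sheaf of an effective Cartier divisor D with D₂ = D₁ + D
(that is, 𝓘₁𝓘 = 𝓘₂). Then D is flat over S as well. -/
theorem result {X S : Scheme.{u}} (f : X ⟶ S) (𝓘₁ 𝓘₂ 𝓘 : X.IdealSheafData)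
    (h₁ : (BlowUp.IsEffCartierIdeal 𝓘₁ ∧ Flat (𝓘₁.subschemeι ≫ f))) (h₂ : (BlowUp.IsEffCartierIdeal 𝓘₂ ∧ Flat (𝓘₂.subschemeι ≫ f))) (h : BlowUp.IsEffCartierIdeal 𝓘) (hsum : 𝓘₁ * 𝓘 = 𝓘₂) :
    Flat (𝓘.subschemeι ≫ f) := by
  obtain ⟨hc1, hf1⟩ := h₁
  obtain ⟨hc2, hf2⟩ := h₂
  have hmul : ∀ (W : X.affineOpens) (g1 g2 : Γ(X, W.1)), 𝓘₁.ideal W = Ideal.span {g1} →
      𝓘.ideal W = Ideal.span {g2} → 𝓘₂.ideal W = Ideal.span {g1 * g2} := by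
    intro W g1 g2 e1 e2
    rw [← hsum, Scheme.IdealSheafData.ideal_mul, Pi.mul_apply, e1, e2,
      Ideal.span_singleton_mul_span_singleton]
  apply flat_of_flat_quot
  intro x _
  obtain ⟨_, ⟨U, hU, rfl⟩, hfxU, -⟩ :=
    S.isBasis_affineOpens.exists_subset_of_mem_open (Set.mem_univ (f x)) isOpen_univ
  obtain ⟨W, hxW, hWU, g1, g, hg1, hg, e1, e⟩ :=
    exists_common 𝓘₁ 𝓘 hc1 h x (f ⁻¹ᵁ U) hfxU
  refine ⟨⟨U, hU⟩, W, hxW, hWU, ?_⟩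
  have k1 := flat_quot_of_flat f 𝓘₁ ⟨U, hU⟩ W hWU
  have k2 := flat_quot_of_flat f 𝓘₂ ⟨U, hU⟩ W hWU
  rw [e1, ringHomFlat_quot_iff] at k1
  rw [hmul W g1 g e1 e, ringHomFlat_quot_iff] at k2
  rw [e, ringHomFlat_quot_iff]
  let _ := (f.appLE U W.1 hWU).hom.toAlgebra
  exact flat_quot_of_mul g1 g hg1

end Groth.Agent.S1710
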