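import Groth.Statements.S1713
import Groth.Agent.S11172
import Groth.Agent.S0299
import Groth.Agent.Helper6.Matlis5
import Groth.Agent.Helper6.LD6

set_option autoImplicit false
universe u
open CategoryTheory
attribute [local instance] HasDerivedCategory.standard
open Dual

namespace Groth.Agent.S1713

open CategoryTheory CategoryTheory.Limits in

/-- Let A be a Noetherian local ring with maximal ideal m and a normalized dualizing complex ω, and M a
finite A-module. For every i ≥ 0 the annihilator of the A-module of maps M → ω[-i] in D(A) equals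
the annihilator of the local cohomology module H^i_m(M). -/
theorem result (A : Type u) [CommRing A] [IsLocalRing A] [IsNoetherianRing A] (ω : Dual.D A) (hω : Dual.IsDualizing A ω) (hn : Dual.IsNormalized A ω) (M : Type u) [AddCommGroup M] [Module A M] [Module.Finite A M] (i : ℕ) : Module.annihilator A (Dual.inD A M ⟶ ω⟦(-(i : ℤ))⟧) = Module.annihilator A (LocCoh.H (IsLocalRing.maximalIdeal A) i M) := by
  obtain ⟨E, _, _, f, hf⟩ := Groth.Agent.S0299.result A (IsLocalRing.ResidueField A)
  obtain ⟨φ⟩ := Groth.Agent.S11172.result A ω hω hn E f hf M i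
  haveI : Module.Finite A (Dual.inD A M ⟶ (CategoryTheory.shiftFunctor (Dual.D A) (-(i : ℤ))).obj ω) :=
    Groth.Agent.Helper6.LD.finite_ext_dualizing ω hω M (-(i : ℤ))
  haveI : Small.{u} (Dual.inD A M ⟶ (CategoryTheory.shiftFunctor (Dual.D A) (-(i : ℤ))).obj ω) :=
    Module.Finite.small A _
  let eX := Shrink.linearEquiv.{u} A
    (Dual.inD A M ⟶ (CategoryTheory.shiftFunctor (Dual.D A) (-(i : ℤ))).obj ω)
  rw [← eX.annihilator_eq, Groth.Agent.Helper6.Matlis.annihilator_dual f hf _,
    (LinearEquiv.congrLeft E A eX).annihilator_eq, φ.annihilator_eq]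

end Groth.Agent.S1713
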