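import Groth.Statements.S17149
import Mathlib
import Groth.Agent.Helper8.IsocOrd
open Groth.Agent.Helper8.IsocH

set_option autoImplicit false
universe u v
open Isoc

namespace Groth.Agent.S17149

/-- Let k be a perfect field of characteristic p, a ∈ ℤ, W = W(k) with fraction field L, and (N, F) a
σ^a-F-isocrystal over k (N finite-dimensional over L, F a bijective σ^a-semilinear endomorphism)
that is isoclinic of slope μ (some W-lattice M, r ∈ ℤ, s > 0 with r/s = μ and F^s(M) = p^r · M).
Then for every L-subspace P of N with F(P) ⊆ P, the quotient N/P with the σ^a-semilinear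
endomorphism induced by F is again isoclinic of slope μ. -/
theorem result (p : ℕ) [Fact p.Prime] (k : Type u) [Field k] [CharP k p] [PerfectRing k p] (a : ℤ)
    (N : Type v) [AddCommGroup N] [Module (WittVector p k) N] [Module (FractionRing (WittVector p k)) N]
    [IsScalarTower (WittVector p k) (FractionRing (WittVector p k)) N]
    (F : N →ₛₗ[Isoc.frob p k a] N) (hF : Isoc.IsIsoc F) (μ : ℚ) (hμ : Isoc.IsIsoclinic F μ)
    (P : Submodule (FractionRing (WittVector p k)) N) (hP : P ≤ P.comap F) :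
    Isoc.IsIsoclinic (P.mapQ P F hP) μ := by
  have hρ := nice_frob (p := p) (k := k) a
  obtain ⟨M, hM, r, s, hs, hrs, hFM⟩ := hμ
  let q : N →ₗ[WittVector p k] N ⧸ P := (P.mkQ).restrictScalars (WittVector p k)
  have hq : ∀ x, q x = Submodule.Quotient.mk x := fun x => rfl
  have hiter : ∀ (j : ℕ) (x : N), (⇑(P.mapQ P F hP))^[j] (Submodule.Quotient.mk x) =
      Submodule.Quotient.mk ((⇑F)^[j] x) := by
    intro j
    induction j with
    | zero => intro x; rfl
    | succ j ih =>
      intro x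
      rw [Function.iterate_succ_apply', ih, Submodule.mapQ_apply, ← Function.iterate_succ_apply' (⇑F)]
  refine ⟨M.map q, ⟨hM.fg.map q, ?_⟩, r, s, hs, hrs, ?_⟩
  · have : ((M.map q : Submodule (WittVector p k) (N ⧸ P)) : Set (N ⧸ P)) = P.mkQ '' (M : Set N) := rfl
    rw [this, Submodule.span_image, hM.span_eq_top, Submodule.map_top, Submodule.range_mkQ]
  · ext y
    rw [mem_latImg hρ, mem_pPow]
    constructor
    · rintro ⟨_, ⟨x, hx, rfl⟩, rfl⟩
      rw [hq, hiter]
      have h1 : (⇑F)^[s] x ∈ Isoc.latImg F s M := (mem_latImg hρ F s M).mpr ⟨x, hx, rfl⟩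
      rw [hFM, mem_pPow] at h1
      obtain ⟨z, hz, hz'⟩ := h1
      exact ⟨q z, ⟨z, hz, rfl⟩, by rw [← hz']; rfl⟩
    · rintro ⟨_, ⟨z, hz, rfl⟩, rfl⟩
      have h1 : ((p : FractionRing (WittVector p k)) ^ r) • z ∈ Isoc.pPow r M :=
        mem_pPow.mpr ⟨z, hz, rfl⟩
      rw [← hFM, mem_latImg hρ] at h1
      obtain ⟨x, hx, hx'⟩ := h1
      refine ⟨q x, ⟨x, hx, rfl⟩, ?_⟩
      rw [hq, hiter, hx']; rfl

end Groth.Agent.S17149
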