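import Groth.Statements.S17153
import Mathlib
import Groth.Agent.Helper8.IsocStd
open Groth.Agent.Helper8.IsocH

set_option autoImplicit false
universe u
open Isoc

namespace Groth.Agent.S17153

/-- Let k be a perfect field of characteristic p, W = W(k), L its fraction field, a ∈ ℤ, and λ = d/h
with h > 0 and gcd(d, h) = 1. The standard σ^a-F-isocrystal N_λ of slope λ — the space L^h with the
σ^a-semilinear F determined by F e_i = e_{i+1} (i + 1 < h) and F e_{h−1} = p^d · e_0 — is a simple
isocrystal: an L-subspace of L^h carried into itself by F is either 0 or everything. (The source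
introduces N_λ for a ≠ 0 only; the simplicity argument, via sub-isocrystals of an isoclinic
isocrystal having the same slope, does not use that restriction, and the statement is made for all
a.) -/
theorem result (p : ℕ) [Fact p.Prime] (k : Type u) [Field k] [CharP k p] [PerfectRing k p]
    (a : ℤ) (d : ℤ) (h : ℕ) (hh : 0 < h) (hdh : Int.gcd d h = 1)
    (P : Submodule (FractionRing (WittVector p k)) (Fin h → (FractionRing (WittVector p k))))
    (hP : ∀ x ∈ P, Isoc.stdIsoc (Isoc.frob p k a) d h x ∈ P) : P = ⊥ ∨ P = ⊤ := by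
  have hρ := nice_frob (p := p) (k := k) a
  obtain ⟨n, rfl⟩ : ∃ n, h = n + 1 := ⟨h - 1, by omega⟩
  set F := Isoc.stdIsoc (Isoc.frob p k a) d (n + 1) with hF
  have hiso := stdIsoc_isIsoclinic (p := p) (k := k) (Isoc.frob p k a) d n hρ
  have hinj := stdIsoc_injective (p := p) (k := k) (Isoc.frob p k a) d n hρ
  have hsub := isIsoclinicOn_of_isIsoclinic hρ F hinj _ hiso P hP
  rw [← isIsoclinic_restrict_iff hρ F P hP] at hsub
  obtain ⟨M', hM', r, s, hs, hrs, hFM'⟩ := hsub
  set h' := Module.finrank (FractionRing (WittVector p k)) P with hh'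
  obtain ⟨d', hd'⟩ := exists_mul_eq_of_latImg_eq hρ (F.restrict hP)
    (Module.finBasis (FractionRing (WittVector p k)) P) M' hM' s hs r hFM'
  -- arithmetic
  have hs' : (s : ℚ) ≠ 0 := by positivity
  have hn' : (((n + 1 : ℕ)) : ℚ) ≠ 0 := by positivity
  have h1 : r * ((n + 1 : ℕ) : ℤ) = d * s := by
    have : (r : ℚ) * ((n + 1 : ℕ) : ℚ) = d * s := by
      field_simp at hrs
      linarith
    exact_mod_cast this
  have h2 : d * (h' : ℤ) = ((n + 1 : ℕ) : ℤ) * d' := by
    have hs0 : (s : ℤ) ≠ 0 := by exact_mod_cast hs.ne'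
    apply mul_left_cancel₀ hs0
    calc (s : ℤ) * (d * h') = (d * s) * h' := by ring
      _ = r * ((n + 1 : ℕ) : ℤ) * h' := by rw [h1]
      _ = (r * h') * ((n + 1 : ℕ) : ℤ) := by ring
      _ = (s * d') * ((n + 1 : ℕ) : ℤ) := by rw [hd']
      _ = (s : ℤ) * (((n + 1 : ℕ) : ℤ) * d') := by ring
  have h3 : ((n + 1 : ℕ) : ℤ) ∣ (h' : ℤ) := by
    have hdvd : ((n + 1 : ℕ) : ℤ) ∣ d * h' := ⟨d', h2⟩
    have hcop : IsCoprime ((n + 1 : ℕ) : ℤ) d := by
      rw [Int.isCoprime_iff_gcd_eq_one, Int.gcd_comm]; exact hdh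
    exact hcop.dvd_of_dvd_mul_left hdvd
  have h4 : (n + 1) ∣ h' := by exact_mod_cast h3
  have hle : h' ≤ n + 1 := by
    have := Submodule.finrank_le P
    simpa using this
  rcases Nat.eq_zero_or_pos h' with h0 | hpos
  · left
    exact Submodule.finrank_eq_zero.mp h0
  · right
    have : h' = n + 1 := le_antisymm hle (Nat.le_of_dvd hpos h4)
    apply Submodule.eq_top_of_finrank_eq
    rw [← hh', this]; simp

end Groth.Agent.S17153
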