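import Groth.Statements.S17157
import Mathlib

set_option autoImplicit false
universe u
open Isoc

namespace Groth.Agent.S17157

/-- Let k be a finite field of characteristic p, W = W(k), L its fraction field with Frobenius σ, and
let U be the σ-semilinear endomorphism of L² = (Fin 2 → L) determined by U(e₀) = e₀ and U(e₁) = e₀ +
e₁ on the standard basis. Then (L², U) is an F-isocrystal in which the sub-isocrystal L · e₀ admits
no U-stable complementary L-subspace; in particular the category of F-isocrystals over a finite
field is not semisimple. (Over an algebraically closed field a complement exists.) -/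
theorem result
    (p : ℕ) [Fact p.Prime] (k : Type u) [Field k] [CharP k p] [PerfectRing k p] [Finite k]
    (U : (Fin 2 → (FractionRing (WittVector p k))) →ₛₗ[Isoc.frob p k 1] (Fin 2 → (FractionRing (WittVector p k))))
    (hU0 : U (Pi.single 0 1) = Pi.single 0 1)
    (hU1 : U (Pi.single 1 1) = Pi.single 0 1 + Pi.single 1 1)
    (Q : Submodule (FractionRing (WittVector p k)) (Fin 2 → (FractionRing (WittVector p k)))) (hQ : ∀ x ∈ Q, U x ∈ Q) :
    ¬ IsCompl (Submodule.span (FractionRing (WittVector p k)) {(Pi.single 0 1 : Fin 2 → (FractionRing (WittVector p k)))}) Q := by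
  classical
  intro hc
  let τ : FractionRing (WittVector p k) →+* FractionRing (WittVector p k) := Isoc.frob p k 1
  have hτ : τ = Isoc.frob p k 1 := rfl
  set e0 : Fin 2 → (FractionRing (WittVector p k)) := Pi.single 0 1 with he0
  set e1 : Fin 2 → (FractionRing (WittVector p k)) := Pi.single 1 1 with he1
  -- finite field: τ has finite order
  have : Fintype k := Fintype.ofFinite k
  obtain ⟨m, hm⟩ := FiniteField.card k p
  have hfrob : ∀ (j : ℕ) (w : WittVector p k) (n : ℕ),
      ((WittVector.frobeniusEquiv p k)^[j] w).coeff n = (w.coeff n) ^ (p ^ j) := by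
    intro j
    induction j with
    | zero => intro w n; simp
    | succ j ih =>
      intro w n
      rw [Function.iterate_succ_apply', show (WittVector.frobeniusEquiv p k) _ = WittVector.frobenius _ from rfl,
        WittVector.coeff_frobenius_charP, ih, ← pow_mul, pow_succ]
  have hfrobm : ∀ w : WittVector p k, (WittVector.frobeniusEquiv p k)^[(m : ℕ)] w = w := by
    intro w
    ext n
    rw [hfrob, ← hm.2, FiniteField.pow_card]
  have hτW : ∀ (j : ℕ) (w : WittVector p k), (τ ^ j) (algebraMap _ _ w) =
      algebraMap _ (FractionRing (WittVector p k)) ((WittVector.frobeniusEquiv p k)^[j] w) := by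
    intro j
    induction j with
    | zero => intro w; simp
    | succ j ih =>
      intro w
      rw [pow_succ', RingHom.mul_def, RingHom.comp_apply, ih, hτ, Isoc.frob_algebraMap, zpow_one,
        Function.iterate_succ_apply']
  have hτm : τ ^ (m : ℕ) = RingHom.id _ := by
    apply IsLocalization.ringHom_ext (nonZeroDivisors (WittVector p k))
    ext w
    rw [RingHom.comp_apply, hτW, hfrobm]
    rfl
  -- no solution of τ c - c = 1
  have hno : ∀ c : FractionRing (WittVector p k), τ c - c ≠ 1 := by
    intro c hc1
    have h1 : ∑ i ∈ Finset.range (m : ℕ), ((τ ^ (i + 1)) c - (τ ^ i) c) = (τ ^ (m : ℕ)) c - (τ ^ 0) c :=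
      Finset.sum_range_sub (fun i => (τ ^ i) c) m
    have h2 : ∀ i : ℕ, (τ ^ (i + 1)) c - (τ ^ i) c = 1 := by
      intro i
      rw [pow_succ, RingHom.mul_def, RingHom.comp_apply, ← map_sub, hc1, map_one]
    rw [Finset.sum_congr rfl (fun i _ => h2 i), hτm] at h1
    simp at h1
    -- the fraction field has characteristic zero
    have hW : ∀ n : ℕ, (n : WittVector p k) = 0 → n = 0 := by
      intro n hn
      by_contra hn0
      obtain ⟨e, n', hn', rfl⟩ := Nat.exists_eq_pow_mul_and_not_dvd hn0 p (Fact.out : p.Prime).ne_one
      rw [Nat.cast_mul, Nat.cast_pow, mul_eq_zero] at hn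
      rcases hn with hn | hn
      · exact WittVector.p_nonzero p k (eq_zero_of_pow_eq_zero hn)
      · have := congrArg (WittVector.constantCoeff (p := p) (R := k)) hn
        rw [map_natCast, map_zero, CharP.cast_eq_zero_iff k p] at this
        exact hn' this
    have hL : ((m : ℕ) : WittVector p k) = 0 := by
      apply IsFractionRing.injective (WittVector p k) (FractionRing (WittVector p k))
      rw [map_natCast, map_zero]; exact h1
    exact m.ne_zero (hW _ hL)
  -- decompose e1
  have htop : e1 ∈ (Submodule.span (FractionRing (WittVector p k)) {e0}) ⊔ Q := by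
    rw [hc.sup_eq_top]; trivial
  obtain ⟨y, hy, q, hq, hyq⟩ := Submodule.mem_sup.mp htop
  obtain ⟨c, rfl⟩ := Submodule.mem_span_singleton.mp hy
  have hq' : q = e1 - c • e0 := by rw [← hyq]; abel
  have hUq : U q = e0 + e1 - τ c • e0 := by
    rw [hq', map_sub, LinearMap.map_smulₛₗ, hU0, hU1]
  have hdiff : U q - q = (1 - τ c + c) • e0 := by
    rw [hUq, hq']
    ext i
    simp only [Pi.sub_apply, Pi.add_apply, Pi.smul_apply, smul_eq_mul]
    ring
  have hmem : (1 - τ c + c) • e0 ∈ Q := by
    rw [← hdiff]; exact Q.sub_mem (hQ q hq) hq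
  have hmem0 : (1 - τ c + c) • e0 ∈ Submodule.span (FractionRing (WittVector p k)) {e0} :=
    Submodule.smul_mem _ _ (Submodule.subset_span rfl)
  have hzero : (1 - τ c + c) • e0 = 0 := by
    have := hc.disjoint
    rw [Submodule.disjoint_def] at this
    exact this _ hmem0 hmem
  have h0 := congrFun hzero 0
  simp only [he0, Pi.smul_apply, Pi.single_eq_same, smul_eq_mul, mul_one, Pi.zero_apply] at h0
  apply hno c
  linear_combination -h0

end Groth.Agent.S17157
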