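import Groth.Statements.S17175
-- import your own Groth.Agent.* helpers here

set_option autoImplicit false
universe u
open CAlg

namespace Groth.Agent.S17175

open PowerSeries in
/-- Let k be a field, O₀ = k[[x, y]]/(xy) the complete local ring of a node and Õ₀ = k[[x]] × k[[y]] its
normalization, O₀ being embedded in Õ₀ by h ↦ (h(x, 0), h(0, y)) as the subring of pairs with equal
constant coefficients. Regard Õ₀ as an O₀-module: it is the rank-one torsion-free O₀-module that is
not free. Then every O₀-linear endomorphism of this module is Õ₀-linear, i.e. it is multiplication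
by a unique element of Õ₀; consequently its O₀-endomorphism ring is Õ₀ and its O₀-automorphism group
is the unit group of Õ₀. Here an O₀-linear endomorphism is an additive map of k[[X]] × k[[X]]
commuting with multiplication by every pair whose two constant coefficients agree. (The source works
over an algebraically closed field; only the field structure is used.) -/
theorem result (k : Type u) [Field k]
    (φ : (k⟦X⟧ × k⟦X⟧) →+ (k⟦X⟧ × k⟦X⟧))
    (hφ : ∀ a s : k⟦X⟧ × k⟦X⟧, constantCoeff a.1 = constantCoeff a.2 → φ (a * s) = a * φ s) :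
    ∃! b : k⟦X⟧ × k⟦X⟧, ∀ s : k⟦X⟧ × k⟦X⟧, φ s = b * s := by
  -- elements of the node ring
  have hX0 : φ (X, 0) = ((X : k⟦X⟧), (0 : k⟦X⟧)) * φ 1 := by
    have := hφ (X, 0) 1 (by simp)
    rwa [mul_one] at this
  have h0X : φ (0, X) = ((0 : k⟦X⟧), (X : k⟦X⟧)) * φ 1 := by
    have := hφ (0, X) 1 (by simp)
    rwa [mul_one] at this
  have hXreg : ∀ a b : k⟦X⟧, (X : k⟦X⟧) * a = X * b → a = b := by
    intro a b h
    ext n
    have := congrArg (PowerSeries.coeff (n + 1)) h
    simpa [PowerSeries.coeff_succ_X_mul] using this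
  -- φ (1,0) = (b.1, 0)
  have h10 : φ (1, 0) = ((φ 1).1, 0) := by
    have e1 := hφ (X, 0) (1, 0) (by simp)
    have e2 := hφ (0, X) (1, 0) (by simp)
    have e1' : ((X : k⟦X⟧), (0 : k⟦X⟧)) * ((1 : k⟦X⟧), (0 : k⟦X⟧)) = (X, 0) := by
      refine Prod.ext ?_ ?_ <;> simp
    have e2' : ((0 : k⟦X⟧), (X : k⟦X⟧)) * ((1 : k⟦X⟧), (0 : k⟦X⟧)) = 0 := by
      refine Prod.ext ?_ ?_ <;> simp
    rw [e1', hX0] at e1
    rw [e2', map_zero] at e2
    refine Prod.ext ?_ ?_
    · apply hXreg
      have := congrArg Prod.fst e1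
      simpa using this.symm
    · apply hXreg
      have := congrArg Prod.snd e2
      simpa using this.symm
  have h01 : φ (0, 1) = (0, (φ 1).2) := by
    have e1 := hφ (0, X) (0, 1) (by simp)
    have e2 := hφ (X, 0) (0, 1) (by simp)
    have e1' : ((0 : k⟦X⟧), (X : k⟦X⟧)) * ((0 : k⟦X⟧), (1 : k⟦X⟧)) = (0, X) := by
      refine Prod.ext ?_ ?_ <;> simp
    have e2' : ((X : k⟦X⟧), (0 : k⟦X⟧)) * ((0 : k⟦X⟧), (1 : k⟦X⟧)) = 0 := by
      refine Prod.ext ?_ ?_ <;> simp
    rw [e1', h0X] at e1
    rw [e2', map_zero] at e2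
    refine Prod.ext ?_ ?_
    · apply hXreg
      have := congrArg Prod.fst e2
      simpa using this.symm
    · apply hXreg
      have := congrArg Prod.snd e1
      simpa using this.symm
  refine ⟨φ 1, ?_, ?_⟩
  · intro s
    have hs : s = (s.1, C (constantCoeff s.1)) * (1, 0) + (C (constantCoeff s.2), s.2) * (0, 1) := by
      refine Prod.ext ?_ ?_ <;> simp
    have a1 := hφ (s.1, C (constantCoeff s.1)) (1, 0) (by simp)
    have a2 := hφ (C (constantCoeff s.2), s.2) (0, 1) (by simp)
    conv_lhs => rw [hs]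
    rw [map_add, a1, a2, h10, h01]
    refine Prod.ext ?_ ?_ <;> simp [mul_comm]
  · intro b hb
    have := hb 1
    rw [mul_one] at this
    exact this.symm

end Groth.Agent.S17175
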