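import Groth.Statements.S17176
import Mathlib.Tactic.Ring
import Mathlib.Tactic.Linarith
import Mathlib.Tactic.NormNum

set_option autoImplicit false
open Curves

namespace Groth.Agent.S17176

/-- Fix integers g ≥ 3 and d. For a complete subcurve Y of arithmetic genus g_Y of a nodal curve of
genus g, meeting the rest of the curve in k points, the lower extreme of the Basic Inequality for
line bundles of degree d is m = d(2g_Y - 2 + k)/(2g - 2) - k/2, which is an integer exactly when 2(g
- 1) divides d(2g_Y - 2 + k) - k(g - 1). Then gcd(d - g + 1, 2g - 2) = 1 if and only if m is not an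
integer for all integers g_Y, k with 0 < g_Y < g - 1, k ≥ 1 and k + 2g_Y - 2 < 2g - 2. (The row
makes explicit the bound 2g_Y - 2 + k < 2g - 2, which is automatic for subcurves of stable curves
and is satisfied by every subcurve to which the source applies the lemma; the source leaves the
ambient curve's class implicit.) -/
theorem result (g d : ℤ) (hg : 3 ≤ g) :
    Int.gcd (d - g + 1) (2 * g - 2) = 1 ↔
      ∀ gY k : ℤ, 0 < gY → gY < g - 1 → 1 ≤ k → k + 2 * gY - 2 < 2 * g - 2 →
        ¬ (2 * (g - 1) ∣ d * (2 * gY - 2 + k) - k * (g - 1)) := by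
  constructor
  · intro hgcd gY k hgY1 hgY2 hk hlt hdvd
    have h1 : d * (2 * gY - 2 + k) - k * (g - 1) =
        (d - g + 1) * (2 * gY - 2 + k) + (2 * g - 2) * (gY - 1) := by ring
    rw [h1] at hdvd
    have h2 : (2 * g - 2) ∣ (d - g + 1) * (2 * gY - 2 + k) := by
      have h3 : (2 * g - 2) ∣ (2 * g - 2) * (gY - 1) := dvd_mul_right _ _
      have h4 : 2 * (g - 1) = 2 * g - 2 := by ring
      rw [h4] at hdvd
      exact (Int.dvd_add_left h3).mp hdvd
    have hgcd' : Int.gcd (2 * g - 2) (d - g + 1) = 1 := by rw [Int.gcd_comm]; exact hgcd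
    have h5 : (2 * g - 2) ∣ (2 * gY - 2 + k) :=
      Int.dvd_of_dvd_mul_right_of_gcd_one h2 hgcd'
    have h6 := Int.le_of_dvd (by omega) h5
    omega
  · intro h
    by_contra hne
    set e : ℕ := Int.gcd (d - g + 1) (2 * g - 2) with he
    have he0 : e ≠ 0 := by
      intro h0
      rw [he, Int.gcd_eq_zero_iff] at h0
      omega
    have he2 : 2 ≤ e := by omega
    have hd1 : (e : ℤ) ∣ d - g + 1 := Int.gcd_dvd_left _ _
    have hd2 : (e : ℤ) ∣ 2 * g - 2 := Int.gcd_dvd_right _ _
    obtain ⟨a, ha⟩ := hd1
    obtain ⟨b, hb⟩ := hd2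
    have he2' : (2 : ℤ) ≤ e := by exact_mod_cast he2
    have hbpos : 0 < b := by
      by_contra hb0
      have : (e : ℤ) * b ≤ 0 := mul_nonpos_of_nonneg_of_nonpos (by omega) (by omega)
      omega
    have hblt : b < 2 * g - 2 := by
      rw [hb]
      nlinarith
    refine h 1 b (by norm_num) (by omega) (by omega) (by omega) ?_
    refine ⟨a, ?_⟩
    have : d * (2 * 1 - 2 + b) - b * (g - 1) = (d - g + 1) * b := by ring
    rw [this, ha]
    have : 2 * (g - 1) = (e : ℤ) * b := by rw [← hb]; ring
    rw [this]; ring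

end Groth.Agent.S17176
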