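import Groth.Statements.S17179
import Groth.Agent.Helper8.BasicIneq

set_option autoImplicit false
universe u
open LabGraph

namespace Groth.Agent.S17179

open LabGraph in
/-- Let Γ be the weighted dual graph of a Deligne–Mumford semistable curve X of genus g ≥ 3 (connected;
every weight-zero vertex without loop joined to the other vertices by at least two edges), d a
multidegree of total degree D satisfying the Basic Inequality, and Z a set of vertices whose degree
equals the upper extreme M_Z of the inequality, that is 2((2g - 2)·d_Z - D·canDeg Z) = cut Z·(2g -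
2). Then d + z again satisfies the Basic Inequality, where z, the multidegree of O(Z) on the total
space of a regular smoothing, is the twist of the indicator function of Z (it lowers the degree on Z
by cut Z and raises it on each outside vertex by its number of edges to Z). -/
theorem result {V E : Type u} [Fintype V] [Fintype E]
    [DecidableEq V] [DecidableEq E] (ends : E → V × V) (w : V → ℕ) (hX : IsSemistableGraph ends w)
    (hg : 3 ≤ genus ends w) (d : V → ℤ) (hBI : SatisfiesBI ends w d) (Z : Finset V)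
    (hZ : 2 * (canDeg ends w Finset.univ * (∑ v ∈ Z, d v) - (∑ v : V, d v) * canDeg ends w Z) =
      (cut ends Z : ℤ) * canDeg ends w Finset.univ) :
    SatisfiesBI ends w (fun v => d v + twist ends (fun u => if u ∈ Z then 1 else 0) v) := by
  classical
  set φ : V → ℤ := fun u => if u ∈ Z then 1 else 0 with hφ
  set K := canDeg ends w Finset.univ with hK
  have hKnn : 0 ≤ K := by
    rw [hK, Groth.Agent.Helper8.canDeg_univ]; omega
  set D := ∑ v : V, d v with hD
  let δ : Finset V → ℤ := fun S => K * (∑ v ∈ S, d v) - D * canDeg ends w S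
  have hδ_add : ∀ S T : Finset V, Disjoint S T → δ (S ∪ T) = δ S + δ T := by
    intro S T h
    simp only [δ, canDeg]
    rw [Finset.sum_union h, Finset.sum_union h]
    ring
  have hBIδ : ∀ S, 2 * δ S ≤ (cut ends S : ℤ) * K ∧ -((cut ends S : ℤ) * K) ≤ 2 * δ S := by
    intro S
    have h1 := hBI S
    have h2 : |2 * δ S| ≤ (cut ends S : ℤ) * K := by
      rw [abs_mul]
      simpa using h1
    have h3 := abs_le.mp h2
    exact ⟨h3.2, h3.1⟩
  have hZδ : 2 * δ Z = (cut ends Z : ℤ) * K := hZ
  intro Y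
  have hD' : ∑ v : V, (d v + twist ends φ v) = D := by
    rw [Finset.sum_add_distrib, Groth.Agent.Helper8.sum_twist_univ, add_zero]
  have hY' : ∑ v ∈ Y, (d v + twist ends φ v) = ∑ v ∈ Y, d v + ∑ v ∈ Y, twist ends φ v :=
    Finset.sum_add_distrib
  rw [hD', hY']
  set tY := ∑ v ∈ Y, twist ends φ v with htY
  have hgoal : K * (∑ v ∈ Y, d v + tY) - D * canDeg ends w Y = δ Y + K * tY := by
    simp only [δ]; ring
  rw [hgoal]
  -- the partition
  have hYdec : Y = (Y ∩ Z) ∪ (Y \ Z) := by
    ext x; simp only [Finset.mem_union, Finset.mem_inter, Finset.mem_sdiff]; tauto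
  have hYdisj : Disjoint (Y ∩ Z) (Y \ Z) := Finset.disjoint_sdiff_inter Y Z |>.symm
  have hZdec : Z = (Y ∩ Z) ∪ (Z \ Y) := by
    ext x; simp only [Finset.mem_union, Finset.mem_inter, Finset.mem_sdiff]; tauto
  have hZdisj : Disjoint (Y ∩ Z) (Z \ Y) := by
    rw [Finset.inter_comm]; exact (Finset.disjoint_sdiff_inter Z Y).symm
  have hYZdec : Y ∪ Z = Y ∪ (Z \ Y) := Finset.union_sdiff_self_eq_union.symm
  have hYZdisj : Disjoint Y (Z \ Y) := Finset.disjoint_sdiff
  have eY : δ Y = δ (Y ∩ Z) + δ (Y \ Z) := by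
    conv_lhs => rw [hYdec]
    exact hδ_add _ _ hYdisj
  have eZ : δ Z = δ (Y ∩ Z) + δ (Z \ Y) := by
    conv_lhs => rw [hZdec]
    exact hδ_add _ _ hZdisj
  have eYZ : δ (Y ∪ Z) = δ Y + δ (Z \ Y) := by
    rw [hYZdec]
    exact hδ_add _ _ hYZdisj
  -- edge-wise inequalities
  have hU : (cut ends (Y ∩ Z) : ℤ) + cut ends (Y ∪ Z) - cut ends Z + 2 * tY ≤ cut ends Y := by
    rw [htY, Groth.Agent.Helper8.sum_twist_eq_sum, Groth.Agent.Helper8.cut_eq_sum,
      Groth.Agent.Helper8.cut_eq_sum, Groth.Agent.Helper8.cut_eq_sum,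
      Groth.Agent.Helper8.cut_eq_sum, Finset.mul_sum, ← Finset.sum_add_distrib,
      ← Finset.sum_sub_distrib, ← Finset.sum_add_distrib]
    refine Finset.sum_le_sum fun e _ => ?_
    simp only [hφ, Finset.mem_inter, Finset.mem_union]
    by_cases h1 : (ends e).1 ∈ Y <;> by_cases h2 : (ends e).1 ∈ Z <;>
      by_cases h3 : (ends e).2 ∈ Y <;> by_cases h4 : (ends e).2 ∈ Z <;>
      simp [h1, h2, h3, h4]
  have hL : -(cut ends Y : ℤ) ≤ (cut ends Z : ℤ) - cut ends (Z \ Y) - cut ends (Y \ Z) + 2 * tY := by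
    rw [htY, Groth.Agent.Helper8.sum_twist_eq_sum, Groth.Agent.Helper8.cut_eq_sum,
      Groth.Agent.Helper8.cut_eq_sum, Groth.Agent.Helper8.cut_eq_sum,
      Groth.Agent.Helper8.cut_eq_sum, Finset.mul_sum, ← Finset.sum_sub_distrib,
      ← Finset.sum_sub_distrib, ← Finset.sum_add_distrib, ← Finset.sum_neg_distrib]
    refine Finset.sum_le_sum fun e _ => ?_
    simp only [hφ, Finset.mem_sdiff]
    by_cases h1 : (ends e).1 ∈ Y <;> by_cases h2 : (ends e).1 ∈ Z <;>
      by_cases h3 : (ends e).2 ∈ Y <;> by_cases h4 : (ends e).2 ∈ Z <;>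
      simp [h1, h2, h3, h4]
  have b1 := hBIδ (Y ∩ Z)
  have b2 := hBIδ (Y ∪ Z)
  have b3 := hBIδ (Z \ Y)
  have b4 := hBIδ (Y \ Z)
  have hUK := mul_le_mul_of_nonneg_right hU hKnn
  have hLK := mul_le_mul_of_nonneg_right hL hKnn
  have hfin : |2 * (δ Y + K * tY)| ≤ (cut ends Y : ℤ) * K := by
    rw [abs_le]
    constructor
    · nlinarith
    · nlinarith
  rw [abs_mul] at hfin
  simpa using hfin

end Groth.Agent.S17179
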