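import Groth.Statements.S1718
import Groth.Agent.Helper6.LcD8
import Groth.Agent.Helper6.LD4

set_option autoImplicit false
universe u
open CategoryTheory
attribute [local instance] HasDerivedCategory.standard
open Dual

namespace Groth.Agent.S1718

open CategoryTheory CategoryTheory.Limits in

/-- Let A be a Noetherian local ring with maximal ideal m, residue field κ and a normalized dualizing
complex ω, and let κ → E be an injective hull. Then the degree-0 local cohomology of ω with support
in m (the direct limit of Hom(A/m^n, ω)) is isomorphic to E, and the local cohomology of ω in every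
other degree is zero. -/
theorem result (A : Type u) [CommRing A] [IsLocalRing A] [IsNoetherianRing A] (ω : Dual.D A) (hω : Dual.IsDualizing A ω) (hn : Dual.IsNormalized A ω) (E : Type u) [AddCommGroup E] [Module A E] (f : IsLocalRing.ResidueField A →ₗ[A] E) (hf : InjHull.IsInjectiveHull f) : Nonempty (Dual2.HDI A (IsLocalRing.maximalIdeal A) ω 0 ≃ₗ[A] E) ∧ ∀ i : ℤ, i ≠ 0 → Subsingleton (Dual2.HDI A (IsLocalRing.maximalIdeal A) ω i) := by
  obtain ⟨a, b, hab⟩ := hω.finite_injective_dimension
  have hb : ∃ a b : ℤ, ∀ j : ℤ, (j < a ∨ b < j) → Subsingleton (Dual.HD A ω j) :=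
    ⟨a, b, fun j hj => by
      obtain ⟨ψ⟩ := Groth.Agent.Helper6.LD.HD_equiv_hom_self ω hω j
      haveI := hab A j hj
      exact ψ.toEquiv.subsingleton⟩
  have key := fun i => Groth.Agent.Helper6.LcD.main ω hω hn E f hf ω hb hω.finite_cohomology i
  constructor
  · obtain ⟨φ⟩ := key 0
    let e1 : (ω ⟶ (CategoryTheory.shiftFunctor (Dual.D A) (-(0 : ℤ))).obj ω) ≃ₗ[A] (ω ⟶ ω) :=
      CategoryTheory.Linear.homCongr A (CategoryTheory.Iso.refl _)
        ((CategoryTheory.shiftFunctorZero' (Dual.D A) (-(0:ℤ)) (by simp)).app ω)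
    let e2 : A ≃ₗ[A] (ω ⟶ ω) :=
      LinearEquiv.ofBijective
        ({ toFun := fun a => a • CategoryTheory.CategoryStruct.id ω
           map_add' := fun a b => add_smul a b _
           map_smul' := fun r a => by
             rw [smul_eq_mul, mul_smul]
             rfl } : A →ₗ[A] (ω ⟶ ω)) hω.toEnd_bijective
    exact ⟨φ ≪≫ₗ LinearEquiv.congrLeft E A (e1 ≪≫ₗ e2.symm) ≪≫ₗ LinearMap.ringLmapEquivSelf A A E⟩
  · intro i hi
    obtain ⟨φ⟩ := key i
    haveI := hω.ext_self_subsingleton (-i) (by omega)
    haveI : Subsingleton ((ω ⟶ (CategoryTheory.shiftFunctor (Dual.D A) (-i)).obj ω) →ₗ[A] E) :=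
      ⟨fun x y => by
        ext z
        rw [Subsingleton.elim z 0, map_zero, map_zero]⟩
    exact φ.toEquiv.subsingleton

end Groth.Agent.S1718
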