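import Groth.Statements.S1723
import Groth.Agent.Helper6.GorFib2
import Groth.Agent.S0543

set_option autoImplicit false
universe u
open CategoryTheory
attribute [local instance] HasDerivedCategory.standard
open Dual

namespace Groth.Agent.S1723

/-- If a Noetherian local ring A has a dualizing complex, then each of its formal fibres is a Gorenstein
ring: for every prime p the ring A^ ⊗_A κ(p) (completion at the maximal ideal, tensored with the
residue field of p) is a Gorenstein ring. -/
theorem result (A : Type u) [CommRing A] [IsLocalRing A] [IsNoetherianRing A] (ω : Dual.D A) (hω : Dual.IsDualizing A ω) (p : PrimeSpectrum A) : LocCoh.IsGorensteinRing (EGA4.formalFibre A p.asIdeal) := by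
  haveI : IsNoetherianRing (EGA4.Cpl A) :=
    Groth.Agent.S0543.result A (IsLocalRing.maximalIdeal A)
  haveI : Module.Flat A (EGA4.Cpl A) := inferInstance
  have hS : Dual.IsDualizing (EGA4.Cpl A)
      ((Groth.Agent.Helper3.DRingLib.bcD A (EGA4.Cpl A)).obj ω) := by
    refine Groth.Agent.Helper6.FBC.isDualizing_bcD_of_maximal_map (EGA4.Cpl A) ?_ ω hω
    intro 𝔫 h𝔫
    refine ⟨IsLocalRing.maximalIdeal A, ?_⟩
    rw [← AdicCompletion.maximalIdeal_eq_map]
    exact (IsLocalRing.eq_maximalIdeal h𝔫).symm
  haveI := Groth.Agent.Helper3.GorComp.isNoetherianRing_fiber (S := EGA4.Cpl A) p.asIdeal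
  refine ⟨fun Q hQ => ?_⟩
  rw [Groth.Agent.Helper3.GorComp.gorLocal_fibre_iff]
  refine Groth.Agent.Helper6.GorFib.gorLocal_fibre_of_dualizing ω hω hS p.asIdeal _ ?_
  have h := (inferInstance : Q.LiesOver p.asIdeal).over
  conv_rhs => rw [h, Ideal.under_def]
  ext x
  simp only [Ideal.mem_comap]
  have : (Algebra.TensorProduct.includeRight : EGA4.Cpl A →ₐ[A] p.asIdeal.Fiber (EGA4.Cpl A))
      (algebraMap A (EGA4.Cpl A) x) = algebraMap A (p.asIdeal.Fiber (EGA4.Cpl A)) x := by
    rw [AlgHom.commutes]
  rw [this]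

end Groth.Agent.S1723
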