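import Groth.Statements.S17259
import Mathlib

set_option autoImplicit false
open CAlg

namespace Groth.Agent.S17259

/-- Let A, B, C be rings, f : B → A and g : B → C ring homomorphisms, and φ : A → B a homomorphism of
additive groups such that the sequence A → B → C → 0 (maps φ, g) is exact and f ∘ φ is
multiplication by a central element a of A which is not a zero divisor. Then the projection p : A →
A/(a) composed with f factors through g as a ring homomorphism q : C → A/(a), the homomorphism (f,
g) : B → A × C is injective, and its image is the fibre product of A and C over A/(a) along p and q;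
thus (f, g) is a ring isomorphism from B onto that fibre product. (The two-sidedness of the ideal
generated by a, automatic for a central element, is carried as an instance hypothesis.) -/
theorem result {A B C : Type*} [Ring A] [Ring B] [Ring C]
    (f : B →+* A) (g : B →+* C) (φ : A →+ B) (a : A)
    (hc : ∀ x : A, Commute a x) (ha : a ∈ nonZeroDivisors A)
    (hex : Function.Exact φ g) (hg : Function.Surjective g)
    (hφ : ∀ x : A, f (φ x) = a * x)
    [(Ideal.span ({a} : Set A)).IsTwoSided] :
    ∃ q : C →+* A ⧸ Ideal.span ({a} : Set A),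
      q.comp g = (Ideal.Quotient.mk (Ideal.span ({a} : Set A))).comp f ∧
      Function.Injective (f.prod g) ∧
      (f.prod g).range = (Ideal.Quotient.mk (Ideal.span ({a} : Set A))).pullback q := by
  have hker : RingHom.ker g ≤ RingHom.ker ((Ideal.Quotient.mk (Ideal.span ({a} : Set A))).comp f) := by
    intro b hb
    rw [RingHom.mem_ker] at hb ⊢
    obtain ⟨x, rfl⟩ := (hex b).1 hb
    rw [RingHom.comp_apply, hφ, Ideal.Quotient.eq_zero_iff_mem, (hc x).eq]
    exact Ideal.mul_mem_left _ _ (Ideal.subset_span rfl)
  let q : C →+* A ⧸ Ideal.span ({a} : Set A) := g.liftOfSurjective hg ⟨_, hker⟩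
  have hq : q.comp g = (Ideal.Quotient.mk (Ideal.span ({a} : Set A))).comp f :=
    g.liftOfSurjective_comp hg ⟨_, hker⟩
  refine ⟨q, hq, ?_, ?_⟩
  · rw [injective_iff_map_eq_zero]
    intro b hb
    rw [RingHom.prod_apply, Prod.mk_eq_zero] at hb
    obtain ⟨x, rfl⟩ := (hex b).1 hb.2
    have h1 := hb.1
    rw [hφ] at h1
    have hx : x = 0 := (mem_nonZeroDivisors_iff.1 ha).1 x h1
    rw [hx, map_zero]
  · ext ⟨x, c⟩
    constructor
    · rintro ⟨b, hb⟩
      rw [RingHom.prod_apply, Prod.mk.injEq] at hb
      obtain ⟨rfl, rfl⟩ := hb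
      show Ideal.Quotient.mk _ (f b) = q (g b)
      exact (RingHom.congr_fun hq b).symm
    · intro hxc
      have hxc' : Ideal.Quotient.mk (Ideal.span ({a} : Set A)) x = q c := hxc
      obtain ⟨b₀, rfl⟩ := hg c
      have h1 : q (g b₀) = Ideal.Quotient.mk _ (f b₀) := RingHom.congr_fun hq b₀
      rw [h1, Ideal.Quotient.eq, Ideal.mem_span_singleton'] at hxc'
      obtain ⟨y, hy⟩ := hxc'
      refine ⟨b₀ + φ y, ?_⟩
      rw [RingHom.prod_apply, Prod.mk.injEq]
      constructor
      · rw [map_add, hφ, (hc y).eq, hy]
        abel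
      · rw [map_add]
        have : g (φ y) = 0 := (hex _).2 ⟨y, rfl⟩
        rw [this, add_zero]

end Groth.Agent.S17259
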