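import Groth.Statements.S1726
import Mathlib
import Groth.Agent.Helper9.CU1
import Groth.Agent.Helper9.CU2
-- import your own Groth.Agent.* helpers here

set_option autoImplicit false
universe u
open LocCoh

namespace Groth.Agent.S1726

/-- Let A → B be a finite homomorphism of Noetherian rings with A universally catenary, I an ideal of A
and M a finite B-module. Then s_{B, IB}(M) = s_{A, I}(M), where M is regarded as an A-module by
restriction of scalars. -/
theorem result (A B : Type u) [CommRing A] [CommRing B] [Algebra A B] [IsNoetherianRing A] [IsNoetherianRing B] [Module.Finite A B] (hA : CAlg.IsUniversallyCatenary A) (I : Ideal A) (M : Type u) [AddCommGroup M] [Module B M] [Module A M] [IsScalarTower A B M] [Module.Finite B M] : Dual2.cutoff B (I.map (algebraMap A B)) M = Dual2.cutoff A I M := by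
  have hcm : ∀ (p' : PrimeSpectrum B), PrimeSpectrum.comap (algebraMap A B) p' ≤
      PrimeSpectrum.comap (algebraMap A B) p' := fun _ => le_rfl
  have hmap : ∀ (P : PrimeSpectrum B), I.map (algebraMap A B) ≤ P.asIdeal ↔
      I ≤ (PrimeSpectrum.comap (algebraMap A B) P).asIdeal := fun P => Ideal.map_le_iff_le_comap
  apply le_antisymm
  · -- `cutoff B ≤ cutoff A`
    unfold Dual2.cutoff
    refine le_iInf fun p => le_iInf fun q => le_iInf fun h => le_iInf fun hp => le_iInf fun hq => ?_
    have hD : LocCoh.depth (Localization.AtPrime p.asIdeal) (LocalizedModule p.asIdeal.primeCompl M) =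
        ⨅ x : {p' : PrimeSpectrum B // p'.asIdeal.comap (algebraMap A B) = p.asIdeal},
          LocCoh.depth (Localization.AtPrime x.1.asIdeal)
            (LocalizedModule x.1.asIdeal.primeCompl M) := by
      rw [Groth.Agent.Helper9.CU1.depth_eq_iInf_of_finite (A := A) (B := B) M p.asIdeal,
        iInf_subtype']
    rw [hD]
    rcases isEmpty_or_nonempty
      {p' : PrimeSpectrum B // p'.asIdeal.comap (algebraMap A B) = p.asIdeal} with hemp | hne
    · have htop : (⨅ x : {p' : PrimeSpectrum B // p'.asIdeal.comap (algebraMap A B) = p.asIdeal},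
          LocCoh.depth (Localization.AtPrime x.1.asIdeal)
            (LocalizedModule x.1.asIdeal.primeCompl M)) = ⊤ := iInf_of_empty _
      rw [htop, top_add]
      exact le_top
    · obtain ⟨⟨p', hp'⟩, hmin⟩ := ENat.exists_eq_iInf
        (fun x : {p' : PrimeSpectrum B // p'.asIdeal.comap (algebraMap A B) = p.asIdeal} =>
          LocCoh.depth (Localization.AtPrime x.1.asIdeal)
            (LocalizedModule x.1.asIdeal.primeCompl M))
      rw [← hmin]
      have hpp : PrimeSpectrum.comap (algebraMap A B) p' = p := PrimeSpectrum.ext hp'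
      subst hpp
      obtain ⟨Q, hQge, hQprime, hQc⟩ :=
        Ideal.exists_ideal_over_prime_of_isIntegral_of_isPrime (R := A) (S := B) q.asIdeal
          p'.asIdeal ((PrimeSpectrum.asIdeal_le_asIdeal _ _).mpr h)
      let q' : PrimeSpectrum B := ⟨Q, hQprime⟩
      have hqq : PrimeSpectrum.comap (algebraMap A B) q' = q := PrimeSpectrum.ext hQc
      subst hqq
      have h' : p' ≤ q' := (PrimeSpectrum.asIdeal_le_asIdeal _ _).mp hQge
      have hp2 : ¬ I.map (algebraMap A B) ≤ p'.asIdeal := fun hc => hp ((hmap p').1 hc)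
      have hq2 : I.map (algebraMap A B) ≤ q'.asIdeal := (hmap q').2 hq
      refine (iInf_le_of_le p' (iInf_le_of_le q' (iInf_le_of_le h' (iInf_le_of_le hp2
        (iInf_le _ hq2))))).trans ?_
      rw [Groth.Agent.Helper9.CU2.height_Ici_comap hA p' q' h']
  · -- `cutoff A ≤ cutoff B`
    unfold Dual2.cutoff
    refine le_iInf fun p' => le_iInf fun q' => le_iInf fun h' => le_iInf fun hp' =>
      le_iInf fun hq' => ?_
    set p := PrimeSpectrum.comap (algebraMap A B) p' with hpdef
    set q := PrimeSpectrum.comap (algebraMap A B) q' with hqdef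
    have h : p ≤ q := (PrimeSpectrum.asIdeal_le_asIdeal _ _).mp
      (Ideal.comap_mono ((PrimeSpectrum.asIdeal_le_asIdeal _ _).mpr h'))
    have hp : ¬ I ≤ p.asIdeal := fun hc => hp' ((hmap p').2 hc)
    have hq : I ≤ q.asIdeal := (hmap q').1 hq'
    refine (iInf_le_of_le p (iInf_le_of_le q (iInf_le_of_le h (iInf_le_of_le hp
      (iInf_le _ hq))))).trans ?_
    rw [Groth.Agent.Helper9.CU2.height_Ici_comap hA p' q' h']
    refine add_le_add ?_ le_rfl
    rw [Groth.Agent.Helper9.CU1.depth_eq_iInf_of_finite (A := A) (B := B) M p.asIdeal]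
    exact iInf_le_of_le p' (iInf_le_of_le
      (rfl : p'.asIdeal.comap (algebraMap A B) = p.asIdeal) le_rfl)

end Groth.Agent.S1726
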