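import Groth.Statements.S17264
import Groth.Agent.S12784
import Groth.Agent.S12785
import Groth.Agent.S12786
import Groth.Agent.Helper6.FpGraph
import Groth.Agent.Helper6.FpSwap

set_option autoImplicit false
open CategoryTheory
universe v u
open FibCat

namespace Groth.Agent.S17264

/-- Let C be a category with fibre products and let f : 𝒳 → 𝒴 and g : 𝒴 → 𝒵 be functors over C between
categories fibred in groupoids over C. If the composite g ∘ f is a representable 1-morphism (its
2-fibre product with every slice category C/U is equivalent over C to a slice category) and the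
diagonal 𝒴 → 𝒴 ×_𝒵 𝒴 of g is a representable 1-morphism, then f is a representable 1-morphism. This
is the case of the source's lemma in which the class of test objects is the class of representable
categories over C. -/
theorem result {C : Type u} [Category.{v} C]
    [Limits.HasPullbacks C] {𝒳 𝒴 𝒵 : BasedCategory.{v, max u v} C}
    (h𝒳 : FibCat.IsFibGrpd 𝒳.p) (h𝒴 : FibCat.IsFibGrpd 𝒴.p) (h𝒵 : FibCat.IsFibGrpd 𝒵.p)
    (f : 𝒳 ⥤ᵇ 𝒴) (g : 𝒴 ⥤ᵇ 𝒵)
    (hgf : FibCat.IsRepresentable1 (BasedFunctor.comp f g))
    (hΔ : FibCat.IsRepresentable1 (FibCat.diag g)) :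
    FibCat.IsRepresentable1 f := by
  open Groth.Agent.Helper6.FpTools FibCat in
  let e : BasedFunctor.comp (BasedFunctor.id 𝒳) (BasedFunctor.comp f g) ≅ BasedFunctor.comp f g :=
    Iso.refl _
  open Groth.Agent.Helper6.FpTools FibCat in
  have h1 : IsRepresentable1 (fpLift (BasedFunctor.id 𝒳) f e) :=
    (Groth.Agent.S12784.result (fpFst (gqFunctor (BasedFunctor.comp f g) g f e) (diag g))
      (fpLift (BasedFunctor.id 𝒳) f e) (graphBC (BasedFunctor.comp f g) g f e) (BasedFunctor.id _)
      (isEquivOver_graphBC _ _ _ _) (isEquivOver_id _) (Iso.refl _)).1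
      (Groth.Agent.S12786.result (diag g) (gqFunctor (BasedFunctor.comp f g) g f e) hΔ)
  open Groth.Agent.Helper6.FpTools FibCat in
  have h2 : IsRepresentable1 (fpSnd (BasedFunctor.comp f g) g) :=
    (Groth.Agent.S12784.result (fpFst g (BasedFunctor.comp f g))
      (fpSnd (BasedFunctor.comp f g) g) (fpSwap (BasedFunctor.comp f g) g) (BasedFunctor.id _)
      (isEquivOver_fpSwap _ _) (isEquivOver_id _) (Iso.refl _)).1
      (Groth.Agent.S12786.result (BasedFunctor.comp f g) g hgf)
  exact Groth.Agent.S12785.result _ _ h1 h2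

end Groth.Agent.S17264
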