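import Groth.Statements.S17265
import Groth.Agent.Helper6.TauLib
import Groth.Agent.Helper6.FpSwap
import Groth.Agent.Helper6.AlgStBC

set_option autoImplicit false
open CategoryTheory AlgebraicGeometry
universe u
open AlgSt

namespace Groth.Agent.S17265

open Groth.Agent.Helper3 Groth.Agent.Helper6.FpTools Groth.Agent.Helper6.AlgStBC Groth.Agent.Helper6.AlgStInv FibCat in
theorem aux {S : Scheme.{u}} {𝒳 𝒴 𝒵 : AlgSt.Cat S}
    (h𝒳 : FibCat.IsFibGrpd 𝒳.p) (h𝒴 : FibCat.IsFibGrpd 𝒴.p) (h𝒵 : FibCat.IsFibGrpd 𝒵.p)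
    (f : 𝒳 ⥤ᵇ 𝒴) (g : 𝒴 ⥤ᵇ 𝒵)
    (hgf : AlgSt.RepByAlgSp1 (BasedFunctor.comp f g))
    (hΔ : AlgSt.RepByAlgSp1 (FibCat.diag g)) :
    AlgSt.RepByAlgSp1 f := by
  rw [repByAlgSp1_iff_top] at hgf hΔ ⊢
  let e : BasedFunctor.comp (BasedFunctor.id 𝒳) (BasedFunctor.comp f g) ≅ BasedFunctor.comp f g :=
    Iso.refl _
  have h1 : AlgSt.RepByAlgSpWith ⊤ (fpLift (BasedFunctor.id 𝒳) f e) :=
    repByAlgSpWith_graph ⊤ (BasedFunctor.comp f g) g f e hΔ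
  have h2 : AlgSt.RepByAlgSpWith ⊤ (fpSnd (BasedFunctor.comp f g) g) :=
    repByAlgSpWith_of_baseChange ⊤ (BasedFunctor.comp f g) g (fpSnd (BasedFunctor.comp f g) g)
      (fpSwap (BasedFunctor.comp f g) g) (isEquivOver_fpSwap _ _) (Iso.refl _) hgf
  have h3 := Groth.Agent.Helper6.RepComp.repByAlgSpWith_comp h𝒳
    (isFibGrpd_fp (BasedFunctor.comp f g) g h𝒳 h𝒴 h𝒵) ⊤ (fun _ _ _ _ _ _ _ _ _ _ => trivial)
    Groth.Agent.Helper6.TauLib.isLocalOnBase_top _ _ h1 h2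
  exact Groth.Agent.Helper6.AlgStSpMap.repByAlgSpWith_of_iso ⊤
    (Iso.refl _ : f ≅ BasedFunctor.comp (fpLift (BasedFunctor.id 𝒳) f e)
      (fpSnd (BasedFunctor.comp f g) g)) h3

/-- Let S be a scheme and let f : 𝒳 → 𝒴 and g : 𝒴 → 𝒵 be functors over (Sch/S) between categories fibred
in groupoids over (Sch/S). If the composite g ∘ f is representable by algebraic spaces and the
diagonal 𝒴 → 𝒴 ×_𝒵 𝒴 of g is representable by algebraic spaces, then f is representable by algebraic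
spaces. This is the case of the source's lemma in which the class of test objects is the class of
algebraic spaces over S (fppf sheaves on (Sch/S) with representable diagonal and an etale surjective
map from a scheme). -/
theorem result {S : Scheme.{u}} {𝒳 𝒴 𝒵 : AlgSt.Cat S}
    (h𝒳 : FibCat.IsFibGrpd 𝒳.p) (h𝒴 : FibCat.IsFibGrpd 𝒴.p) (h𝒵 : FibCat.IsFibGrpd 𝒵.p)
    (f : 𝒳 ⥤ᵇ 𝒴) (g : 𝒴 ⥤ᵇ 𝒵)
    (hgf : AlgSt.RepByAlgSp1 (BasedFunctor.comp f g))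
    (hΔ : AlgSt.RepByAlgSp1 (FibCat.diag g)) :
    AlgSt.RepByAlgSp1 f := by
  exact aux h𝒳 h𝒴 h𝒵 f g hgf hΔ

end Groth.Agent.S17265
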