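import Groth.Statements.S1728
import Groth.Agent.Lead.InjHull2

set_option autoImplicit false
universe u
open InjHull

namespace Groth.Agent.S1728

/-- Let I be an injective R-module and E a submodule of I. Then E is an injective module if and only if
every submodule E' of I containing E, such that every nonzero submodule of E' meets E nontrivially,
is equal to E. -/
theorem result (R : Type u) [CommRing R] (I : Type u) [AddCommGroup I] [Module R I] [Module.Injective R I] (E : Submodule R I) : Module.Injective R E ↔ ∀ E' : Submodule R I, E ≤ E' → (∀ N : Submodule R I, N ≤ E' → N ≠ ⊥ → N ⊓ E ≠ ⊥) → E' = E := by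
  constructor
  · intro hE E' hEE' hess
    exact Groth.Agent.Lead.InjHullLib.eq_of_essential_of_injective E E' hEE' hess
  · intro h
    exact Groth.Agent.Lead.InjHullLib.injective_of_no_essential_extension E h

end Groth.Agent.S1728
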