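import Groth.Statements.S17287
import Groth.Agent.Helper4.SN80
import Mathlib

set_option autoImplicit false
universe u
open CategoryTheory CategoryTheory.Limits AlgebraicGeometry TopologicalSpace
open Variety

namespace Groth.Agent.S17287


/-- Let f : Y → X be a surjective k-morphism of proper schemes over a field k and C ⊆ X an integral
closed subscheme of dimension one. Then there is an integral closed subscheme C' ⊆ Y of dimension
one with f(C') = C as closed subsets. (The source states this for proper algebraic spaces over k;
this is the case of schemes.) -/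
theorem result (k : Type u) [Field k] (X Y : Scheme.{u})
    [X.Over (Spec (CommRingCat.of k))] [IsProper (X ↘ (Spec (CommRingCat.of k)))] [Y.Over (Spec (CommRingCat.of k))] [IsProper (Y ↘ (Spec (CommRingCat.of k)))]
    (f : Y ⟶ X) (hf : f ≫ (X ↘ (Spec (CommRingCat.of k))) = Y ↘ (Spec (CommRingCat.of k))) [Surjective f]
    (C : X.IdealSheafData) [IsIntegral C.subscheme] (hC : topologicalKrullDim (C.support : Set X) = 1) :
    ∃ C' : Y.IdealSheafData, IsIntegral C'.subscheme ∧ topologicalKrullDim (C'.support : Set Y) = 1 ∧
      f.base '' (C'.support : Set Y) = (C.support : Set X) := by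

  open Groth.Agent.Helper4.SN Groth.Agent.Helper4.NApx82 Groth.Agent.Helper4.StalkDict
    Groth.Agent.Helper4.TensorInv Groth.Agent.Helper1.Dev in
  haveI : IsProper (f ≫ (X ↘ (Spec (CommRingCat.of k)))) := by
    rw [hf]
    infer_instance
  haveI : IsProper f := IsProper.of_comp f (X ↘ (Spec (CommRingCat.of k)))
  set η := C.subschemeι (genericPoint C.subscheme) with hη
  have hcl : closure ({η} : Set X) = (C.support : Set X) := closure_genericPoint_subscheme C
  obtain ⟨η', hη', hmin⟩ := exists_closed_in_fibre f η (f.surjective η)
  have hfin : (f.residueFieldMap η').hom.Finite := by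
    apply finite_residueFieldMap_of_closed_in_fibre f η'
    intro w hw hsp
    exact hmin w (hw.trans hη') hsp
  have hdim := dim_closure_eq_of_finite k f (X ↘ (Spec (CommRingCat.of k))) η' hfin
  rw [hη', hcl, hC] at hdim
  have hsupp : ((Scheme.IdealSheafData.vanishingIdeal
      ⟨closure ({η'} : Set Y), isClosed_closure⟩).support : Set Y) = closure {η'} :=
    support_vanishingIdeal _
  refine ⟨Scheme.IdealSheafData.vanishingIdeal ⟨closure ({η'} : Set Y), isClosed_closure⟩,
    isIntegral_subscheme ⟨closure ({η'} : Set Y), isClosed_closure⟩
      isIrreducible_singleton.closure, ?_, ?_⟩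
  · rw [hsupp]
    exact hdim
  · rw [hsupp, ← f.isClosedMap.closure_image_eq_of_continuous f.continuous, Set.image_singleton,
      hη', hcl]

end Groth.Agent.S17287
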