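import Groth.Statements.S1729
import Groth.Agent.S0544
import Mathlib
open TensorProduct

set_option autoImplicit false
universe u
open Dual2

namespace Groth.Agent.S1729

/-- Over a local ring, every finite module M admits a projective cover: a surjection from a projective
module P onto M such that no proper submodule of P maps onto M. -/
theorem result (R : Type u) [CommRing R] [IsLocalRing R] (M : Type u) [AddCommGroup M] [Module R M] [Module.Finite R M] : ∃ (P : Type u) (_ : AddCommGroup P) (_ : Module R P) (f : P →ₗ[R] M), Dual2.IsProjectiveCover f := by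
  classical
  let k := IsLocalRing.ResidueField R
  let n := Module.finrank k (k ⊗[R] M)
  let b : Module.Basis (Fin n) k (k ⊗[R] M) := Module.finBasis k (k ⊗[R] M)
  have hsurj : Function.Surjective (TensorProduct.mk R k M 1) :=
    TensorProduct.mk_surjective R M k IsLocalRing.residue_surjective
  choose f hf using fun i => hsurj (b i)
  let φ : (Fin n → R) →ₗ[R] M := Fintype.linearCombination R f
  have hφsurj : Function.Surjective φ := by
    rw [← LinearMap.range_eq_top, Fintype.range_linearCombination]
    exact IsLocalRing.span_eq_top_of_tmul_eq_basis f b hf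
  have hker : LinearMap.ker φ ≤ (IsLocalRing.maximalIdeal R • ⊤ : Submodule R (Fin n → R)) := by
    intro x hx
    rw [Groth.Agent.S0544.mem_smul_top_pi_iff]
    have h0 : φ x = 0 := hx
    have h1 : TensorProduct.mk R k M 1 (φ x) = 0 := by rw [h0, map_zero]
    have h2 : ∑ i, (algebraMap R k (x i)) • b i = 0 := by
      rw [← h1]
      simp only [φ, Fintype.linearCombination_apply, map_sum, map_smul, hf, algebraMap_smul]
    have h3 := Fintype.linearIndependent_iff.mp b.linearIndependent _ h2
    intro i
    have := h3 i
    rwa [IsLocalRing.ResidueField.algebraMap_eq, IsLocalRing.residue_eq_zero_iff] at this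
  refine ⟨Fin n → R, inferInstance, inferInstance, φ, ⟨inferInstance, hφsurj, ?_⟩⟩
  intro N hN
  have hjac : IsLocalRing.maximalIdeal R ≤ Ideal.jacobson ⊥ := by
    rw [IsLocalRing.jacobson_eq_maximalIdeal ⊥ bot_ne_top]
  have htop : (⊤ : Submodule R (Fin n → R)) ≤ N ⊔ IsLocalRing.maximalIdeal R • ⊤ := by
    intro p _
    have : φ p ∈ Submodule.map φ N := hN ▸ Submodule.mem_top
    obtain ⟨m, hm, hmp⟩ := this
    have hk : p - m ∈ LinearMap.ker φ := by
      rw [LinearMap.mem_ker, map_sub, hmp, sub_self]
    have : p = m + (p - m) := by abel
    rw [this]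
    exact Submodule.add_mem_sup hm (hker hk)
  exact top_le_iff.mp
    (Submodule.le_of_le_smul_of_le_jacobson_bot Module.Finite.fg_top hjac htop)

end Groth.Agent.S1729
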