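import Groth.Statements.S17321
import Mathlib

set_option autoImplicit false
universe u v
open CAlg

namespace Groth.Agent.S17321

/-- Let k be an algebraically closed field and A a commutative k-algebra which is finite-dimensional as
a k-vector space (the coordinate ring of a finite k-scheme). Then the space Der(A) of k-derivations
A → A is zero if and only if A is reduced. -/
theorem result (k : Type u) [Field k] [IsAlgClosed k]
    (A : Type v) [CommRing A] [Algebra k A] [Module.Finite k A] :
    Subsingleton (Derivation k A A) ↔ IsReduced A := by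
  haveI : IsArtinianRing A := isArtinian_of_tower k inferInstance
  haveI : IsNoetherianRing A := inferInstance
  constructor
  · intro hsub
    by_contra hred
    have hnu : ¬ Algebra.FormallyUnramified k A := fun h =>
      hred (Algebra.FormallyUnramified.isReduced_of_field k A)
    have hnt : Nontrivial (Ω[A⁄k]) := by
      by_contra h
      rw [not_nontrivial_iff_subsingleton] at h
      exact hnu ⟨h⟩
    -- a coatom
    obtain ⟨N, hN⟩ : ∃ N : Submodule A (Ω[A⁄k]), IsCoatom N := by
      rcases eq_top_or_exists_le_coatom (⊥ : Submodule A (Ω[A⁄k])) with h | ⟨N, hN, -⟩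
      · exact absurd h bot_ne_top
      · exact ⟨N, hN⟩
    haveI : IsSimpleModule A (Ω[A⁄k] ⧸ N) := isSimpleModule_iff_isCoatom.mpr hN
    obtain ⟨m, hm, ⟨e⟩⟩ := isSimpleModule_iff_quot_maximal.mp ‹IsSimpleModule A (Ω[A⁄k] ⧸ N)›
    haveI := hm
    -- m is an associated prime of A
    have hmin : m ∈ (Module.annihilator A A).minimalPrimes := by
      have hann : Module.annihilator A A = ⊥ := by
        rw [eq_bot_iff]
        intro a ha
        have := Module.mem_annihilator.mp ha 1
        simpa using this
      rw [hann]
      refine ⟨⟨hm.isPrime, bot_le⟩, fun q hq hqm => ?_⟩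
      haveI := hq.1
      have : q.IsMaximal := IsArtinianRing.isMaximal_of_isPrime q
      exact (this.eq_of_le hm.ne_top hqm).ge
    have hass := Module.associatedPrimes.minimalPrimes_annihilator_subset_associatedPrimes A A hmin
    obtain ⟨-, x, hx⟩ := Submodule.isAssociatedPrime_iff.mp hass
    have hmx : ∀ a : A, a ∈ m ↔ a * x = 0 := by
      intro a
      rw [hx, Submodule.mem_colon_singleton]
      simp
    have hx0 : x ≠ 0 := by
      rintro rfl
      apply hm.ne_top
      rw [eq_top_iff]
      intro a _
      rw [hmx]; simp
    have hle : m ≤ LinearMap.ker (LinearMap.toSpanSingleton A A x) := by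
      intro a ha
      rw [LinearMap.mem_ker, LinearMap.toSpanSingleton_apply, smul_eq_mul]
      exact (hmx a).mp ha
    let ι : (A ⧸ m) →ₗ[A] A := Submodule.liftQ m (LinearMap.toSpanSingleton A A x) hle
    let φ : Ω[A⁄k] →ₗ[A] A := ι ∘ₗ (e : (Ω[A⁄k] ⧸ N) →ₗ[A] (A ⧸ m)) ∘ₗ N.mkQ
    obtain ⟨q, hq⟩ := e.surjective (Submodule.Quotient.mk (1 : A))
    obtain ⟨ω, rfl⟩ := N.mkQ_surjective q
    have hφω : φ ω = x := by
      change ι (e (N.mkQ ω)) = x
      rw [hq]
      change (LinearMap.toSpanSingleton A A x) 1 = x
      simp
    haveI : Subsingleton (Ω[A⁄k] →ₗ[A] A) :=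
      (KaehlerDifferential.linearMapEquivDerivation k A).toEquiv.subsingleton
    have : φ = 0 := Subsingleton.elim _ _
    rw [this] at hφω
    exact hx0 hφω.symm
  · intro hred
    haveI : Algebra.FormallyUnramified k A := by
      let e : A ≃ₐ[k] (Π m : MaximalSpectrum A, A ⧸ m.asIdeal) :=
        (IsArtinianRing.equivPi A).restrictScalars k
      haveI : Algebra.FormallyUnramified k (Π m : MaximalSpectrum A, A ⧸ m.asIdeal) := by
        rw [Algebra.FormallyUnramified.pi_iff]
        intro m
        letI : Field (A ⧸ m.asIdeal) := Ideal.Quotient.field _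
        have hbij : Function.Bijective (algebraMap k (A ⧸ m.asIdeal)) :=
          IsAlgClosed.algebraMap_bijective_of_isIntegral
        exact Algebra.FormallyUnramified.of_surjective (Algebra.ofId k (A ⧸ m.asIdeal)) hbij.2
      exact Algebra.FormallyUnramified.of_equiv e.symm
    haveI : Subsingleton (Ω[A⁄k]) := inferInstance
    exact (KaehlerDifferential.linearMapEquivDerivation k A).symm.toEquiv.subsingleton

end Groth.Agent.S17321
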