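import Groth.Statements.S17323
import Groth.Agent.Helper8.FinAlg

set_option autoImplicit false
universe u v
open CAlg

namespace Groth.Agent.S17323

/-- Let k be an algebraically closed field and A a commutative k-algebra which is finite-dimensional as
a k-vector space. Then A has a largest reduced subalgebra: a k-subalgebra B which is reduced and
contains every reduced k-subalgebra of A; moreover the composite of the inclusion B → A with the
projection A → A/nilradical(A) is bijective. -/
theorem result (k : Type u) [Field k] [IsAlgClosed k]
    (A : Type v) [CommRing A] [Algebra k A] [Module.Finite k A] :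
    ∃ B : Subalgebra k A, IsReduced ↥B ∧ (∀ C : Subalgebra k A, IsReduced ↥C → C ≤ B) ∧
      Function.Bijective ((Ideal.Quotient.mkₐ k (nilradical A)).comp B.val) := by
  have hart : IsArtinianRing A := IsArtinianRing.of_finite k A
  have hnil : IsNilpotent (nilradical A) := IsArtinianRing.isNilpotent_nilradical
  have hred : IsReduced (A ⧸ nilradical A) :=
    (Ideal.isRadical_iff_quotient_reduced _).mp (Ideal.radical_isRadical _)
  have hfin : Module.Finite k (A ⧸ nilradical A) :=
    Module.Finite.of_surjective (Ideal.Quotient.mkₐ k (nilradical A)).toLinearMap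
      (Ideal.Quotient.mkₐ_surjective k _)
  have het : Algebra.FormallyEtale k (A ⧸ nilradical A) :=
    Helper8.formallyEtale_of_finite_isReduced k _
  let s : (A ⧸ nilradical A) →ₐ[k] A :=
    Algebra.FormallySmooth.lift (nilradical A) hnil (AlgHom.id k (A ⧸ nilradical A))
  have hs : ∀ x, Ideal.Quotient.mk (nilradical A) (s x) = x := by
    intro x
    have h2 := AlgHom.congr_fun (Algebra.FormallySmooth.comp_lift (nilradical A) hnil
      (AlgHom.id k (A ⧸ nilradical A))) x
    exact h2
  have hbij : Function.Bijective ((Ideal.Quotient.mkₐ k (nilradical A)).comp s.range.val) := by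
    constructor
    · rintro ⟨_, ⟨a, rfl⟩⟩ ⟨_, ⟨b, rfl⟩⟩ hab
      have hab' : Ideal.Quotient.mk (nilradical A) (s a) = Ideal.Quotient.mk (nilradical A) (s b) := hab
      rw [hs, hs] at hab'
      subst hab'
      rfl
    · intro x
      refine ⟨⟨s x, ⟨x, rfl⟩⟩, ?_⟩
      simp only [AlgHom.comp_apply, Subalgebra.coe_val, Ideal.Quotient.mkₐ_eq_mk, hs]
  refine ⟨s.range, ?_, ?_, hbij⟩
  · exact isReduced_of_injective ((Ideal.Quotient.mkₐ k (nilradical A)).comp s.range.val) hbij.1
  · intro C hC
    have hCfin : Module.Finite k C := inferInstanceAs (Module.Finite k C.toSubmodule)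
    have hCet : Algebra.FormallyEtale k C := Helper8.formallyEtale_of_finite_isReduced k _
    have heq : C.val = s.comp ((Ideal.Quotient.mkₐ k (nilradical A)).comp C.val) := by
      apply Algebra.FormallyUnramified.ext (nilradical A) hnil
      intro x
      simp only [AlgHom.comp_apply, Ideal.Quotient.mkₐ_eq_mk, hs]
    intro c hc
    have := AlgHom.congr_fun heq ⟨c, hc⟩
    simp only [Subalgebra.coe_val, AlgHom.comp_apply] at this
    rw [this]
    exact ⟨_, rfl⟩

end Groth.Agent.S17323
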