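import Groth.Statements.S17324
import Mathlib

set_option autoImplicit false
universe u v
open CAlg

namespace Groth.Agent.S17324

/-- (i) ⟺ (ii): let k be an algebraically closed field, A a commutative k-algebra which is
finite-dimensional as a k-vector space and is a local ring with maximal ideal m, and a_1, …, a_m ∈
m. Then A is generated as a k-algebra by a_1, …, a_m if and only if m is generated as an ideal by
a_1, …, a_m. (The printed lemma has a third equivalent condition, that the images of the a_i span
m/m²; its equivalence with (ii) is Nakayama's lemma.) -/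
theorem result (k : Type u) [Field k] [IsAlgClosed k]
    (A : Type v) [CommRing A] [Algebra k A] [Module.Finite k A] [IsLocalRing A]
    (m : ℕ) (a : Fin m → A) (ha : ∀ i, a i ∈ IsLocalRing.maximalIdeal A) :
    Algebra.adjoin k (Set.range a) = ⊤ ↔ Ideal.span (Set.range a) = IsLocalRing.maximalIdeal A := by
  have hI : Ideal.span (Set.range a) ≤ IsLocalRing.maximalIdeal A := by
    rw [Ideal.span_le]; rintro _ ⟨i, rfl⟩; exact ha i
  constructor
  · intro hadj
    refine le_antisymm hI ?_
    have key : ∀ x ∈ Algebra.adjoin k (Set.range a), ∃ c : k, x - algebraMap k A c ∈ Ideal.span (Set.range a) := by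
      intro x hx
      induction hx using Algebra.adjoin_induction with
      | mem x hx => exact ⟨0, by rw [map_zero, sub_zero]; exact Ideal.subset_span hx⟩
      | algebraMap r => exact ⟨r, by rw [sub_self]; exact Ideal.zero_mem _⟩
      | add x y _ _ hx hy =>
        obtain ⟨c, hc⟩ := hx
        obtain ⟨d, hd⟩ := hy
        refine ⟨c + d, ?_⟩
        have : x + y - algebraMap k A (c + d) = (x - algebraMap k A c) + (y - algebraMap k A d) := by
          rw [map_add]; ring
        rw [this]; exact Ideal.add_mem _ hc hd
      | mul x y _ _ hx hy =>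
        obtain ⟨c, hc⟩ := hx
        obtain ⟨d, hd⟩ := hy
        refine ⟨c * d, ?_⟩
        have : x * y - algebraMap k A (c * d) =
            (x - algebraMap k A c) * y + algebraMap k A c * (y - algebraMap k A d) := by
          rw [map_mul]; ring
        rw [this]
        exact Ideal.add_mem _ (Ideal.mul_mem_right _ _ hc) (Ideal.mul_mem_left _ _ hd)
    intro x hx
    obtain ⟨c, hc⟩ := key x (by rw [hadj]; trivial)
    have hcm : algebraMap k A c ∈ IsLocalRing.maximalIdeal A := by
      have := Ideal.sub_mem _ hx (hI hc)
      simpa using this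
    have hc0 : c = 0 := by
      by_contra hne
      have hu : IsUnit (algebraMap k A c) := (IsUnit.mk0 c hne).map _
      exact (IsLocalRing.mem_maximalIdeal _).mp hcm hu
    rw [hc0, map_zero, sub_zero] at hc
    exact hc
  · intro hspan
    -- A = k + 𝔪
    have hdec : ∀ y : A, ∃ c : k, y - algebraMap k A c ∈ IsLocalRing.maximalIdeal A := by
      intro y
      have hfin : Module.Finite k (IsLocalRing.ResidueField A) :=
        Module.Finite.of_surjective
          ((IsScalarTower.toAlgHom k A (IsLocalRing.ResidueField A)).toLinearMap)
          (IsLocalRing.residue_surjective)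
      have hbij := IsAlgClosed.algebraMap_bijective_of_isIntegral (k := k) (K := IsLocalRing.ResidueField A)
      obtain ⟨c, hc⟩ := hbij.2 (IsLocalRing.residue A y)
      refine ⟨c, ?_⟩
      rw [← Ideal.Quotient.eq_zero_iff_mem]
      change IsLocalRing.residue A (y - algebraMap k A c) = 0
      rw [map_sub, ← hc]
      rw [sub_eq_zero]
      exact (IsScalarTower.algebraMap_apply k A (IsLocalRing.ResidueField A) c)
    set S := Algebra.adjoin k (Set.range a) with hS
    have haS : ∀ i, a i ∈ S := fun i => Algebra.subset_adjoin ⟨i, rfl⟩
    -- induction: A = S + 𝔪^n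
    have hind : ∀ n : ℕ, ∀ y : A, ∃ s ∈ S, y - s ∈ (IsLocalRing.maximalIdeal A) ^ n := by
      intro n
      induction n with
      | zero => intro y; exact ⟨0, S.zero_mem, by simp⟩
      | succ n ih =>
        -- first: elements of 𝔪
        have hm : ∀ x ∈ IsLocalRing.maximalIdeal A, ∃ s ∈ S, x - s ∈ (IsLocalRing.maximalIdeal A) ^ (n + 1) := by
          intro x hx
          rw [← hspan] at hx
          obtain ⟨b, rfl⟩ := (Ideal.mem_span_range_iff_exists_fun).mp hx
          choose s hs hsb using fun i => ih (b i)
          refine ⟨∑ i, s i * a i, S.sum_mem fun i _ => S.mul_mem (hs i) (haS i), ?_⟩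
          rw [← Finset.sum_sub_distrib]
          refine Ideal.sum_mem _ fun i _ => ?_
          rw [← sub_mul, pow_succ]
          exact Ideal.mul_mem_mul (hsb i) (ha i)
        intro y
        obtain ⟨c, hc⟩ := hdec y
        obtain ⟨s, hs, hsx⟩ := hm _ hc
        refine ⟨algebraMap k A c + s, S.add_mem (S.algebraMap_mem c) hs, ?_⟩
        have : y - (algebraMap k A c + s) = y - algebraMap k A c - s := by ring
        rw [this]; exact hsx
    have hart : IsArtinianRing A := IsArtinianRing.of_finite k A
    obtain ⟨N, hN⟩ := IsArtinianRing.isNilpotent_jacobson_bot (R := A)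
    rw [IsLocalRing.jacobson_eq_maximalIdeal ⊥ bot_ne_top] at hN
    rw [eq_top_iff]
    intro y _
    obtain ⟨s, hs, hys⟩ := hind N y
    rw [hN] at hys
    have : y = s := by
      have h0 : y - s = 0 := by simpa using hys
      exact sub_eq_zero.mp h0
    rw [this]; exact hs

end Groth.Agent.S17324
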