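import Groth.Statements.S17326
import Mathlib.Algebra.CharP.Algebra
import Mathlib.Algebra.CharP.Frobenius
import Mathlib.RingTheory.Nilpotent.Basic
import Mathlib.LinearAlgebra.FiniteDimensional.Lemmas

set_option autoImplicit false
universe u v
open CAlg

namespace Groth.Agent.S17326

/-- Let k be an algebraically closed field of characteristic p > 0, A a commutative k-algebra which is
finite-dimensional as a k-vector space (a finite k-scheme X), and n ≥ 1. The n-th iterated relative
Frobenius morphism X → X^(p^n) is an isomorphism if and only if X is reduced; on rings: the map a ↦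
a^(p^n) of A to itself (which is the ring homomorphism underlying the relative Frobenius, the twist
A^(p^n) having the same underlying ring as A) is bijective if and only if A is reduced. -/
theorem result (k : Type u) [Field k] [IsAlgClosed k]
    (p : ℕ) [Fact p.Prime] [CharP k p] (A : Type v) [CommRing A] [Algebra k A] [Module.Finite k A]
    (n : ℕ) (hn : 1 ≤ n) :
    Function.Bijective (fun a : A => a ^ p ^ n) ↔ IsReduced A := by
  classical
  have hp : p.Prime := Fact.out
  have hq1 : 1 < p ^ n := Nat.one_lt_pow (by omega) hp.one_lt
  have hq0 : 0 < p ^ n := by omega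
  rcases subsingleton_or_nontrivial A with hA | hA
  · refine ⟨fun _ => ⟨fun x _ => Subsingleton.elim _ _⟩, fun _ => ⟨fun a b _ => Subsingleton.elim _ _, fun b => ⟨b, Subsingleton.elim _ _⟩⟩⟩
  have hcp : CharP A p := charP_of_injective_algebraMap (algebraMap k A).injective p
  constructor
  · intro hbij
    rw [isReduced_iff_pow_one_lt (p ^ n) hq1]
    intro x hx
    apply hbij.1
    simp only
    rw [hx, zero_pow (by omega)]
  · intro hred
    have hinj : Function.Injective (fun a : A => a ^ p ^ n) := by
      intro a b hab
      simp only at hab
      have h1 : (a - b) ^ p ^ n = 0 := by rw [sub_pow_char_pow, hab, sub_self]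
      have h2 : a - b = 0 := IsReduced.eq_zero _ ⟨_, h1⟩
      exact sub_eq_zero.mp h2
    refine ⟨hinj, ?_⟩
    -- surjectivity via a basis
    let F : A →+* A := iterateFrobenius A p n
    have hF : ∀ a, F a = a ^ p ^ n := fun a => rfl
    let b := Module.finBasis k A
    have hFsmul : ∀ (c : k) (a : A), F (c • a) = (c ^ p ^ n) • F a := by
      intro c a
      rw [Algebra.smul_def, map_mul, hF (algebraMap k A c), ← map_pow, ← Algebra.smul_def]
    have hroot : ∀ c : k, ∃ d : k, d ^ p ^ n = c := fun c => IsAlgClosed.exists_pow_nat_eq c hq0
    choose r hr using hroot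
    have hli : LinearIndependent k (fun i => F (b i)) := by
      rw [Fintype.linearIndependent_iff]
      intro g hg i
      have h1 : F (∑ j, r (g j) • b j) = 0 := by
        rw [map_sum, ← hg]
        refine Finset.sum_congr rfl fun j _ => ?_
        rw [hFsmul, hr]
      have h2 : ∑ j, r (g j) • b j = 0 := by
        apply hinj
        show (∑ j, r (g j) • b j) ^ p ^ n = (0 : A) ^ p ^ n
        rw [← hF, h1, zero_pow (by omega)]
      have h3 := (Fintype.linearIndependent_iff.mp b.linearIndependent) _ h2 i
      rw [← hr (g i), h3, zero_pow (by omega)]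
    have hspan := hli.span_eq_top_of_card_eq_finrank' (by simp)
    intro y
    have hy : y ∈ Submodule.span k (Set.range fun i => F (b i)) := by rw [hspan]; trivial
    obtain ⟨g, rfl⟩ := (Submodule.mem_span_range_iff_exists_fun k).mp hy
    refine ⟨∑ j, r (g j) • b j, ?_⟩
    show F (∑ j, r (g j) • b j) = _
    rw [map_sum]
    refine Finset.sum_congr rfl fun j _ => ?_
    rw [hFsmul, hr]

end Groth.Agent.S17326
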