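import Groth.Statements.S1733
import Mathlib

set_option autoImplicit false
universe u
open LocCoh

namespace Groth.Agent.S1733

/-- Let f_1, …, f_r and g be elements of a ring (r ≥ 1). If the family f_1, …, f_{r-1}, f_r g is
independent (every linear relation has coefficients in the ideal the family generates), then f_1, …,
f_r is independent. -/
theorem result (A : Type u) [CommRing A] (r : ℕ) (f : Fin (r + 1) → A) (g : A) (h : Dual2.Independent (Function.update f (Fin.last r) (f (Fin.last r) * g))) : Dual2.Independent f := by
  classical
  set l := Fin.last r with hl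
  set f' := Function.update f l (f l * g) with hf'
  have hf'l : f' l = f l * g := by simp [f']
  have hf'ne : ∀ i, i ≠ l → f' i = f i := fun i hi => by simp [f', Function.update_of_ne hi]
  have hJ : Ideal.span (Set.range f') ≤ Ideal.span (Set.range f) := by
    rw [Ideal.span_le]
    rintro _ ⟨i, rfl⟩
    by_cases hi : i = l
    · rw [hi, hf'l]
      exact Ideal.mul_mem_right _ _ (Ideal.subset_span ⟨l, rfl⟩)
    · rw [hf'ne i hi]
      exact Ideal.subset_span ⟨i, rfl⟩
  intro a ha
  -- Step 1: the last coefficient lies in span f'
  have h1 : a l ∈ Ideal.span (Set.range f') := by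
    have := h (fun i => if i = l then a i else a i * g) (by
      have : ∀ i, (if i = l then a i else a i * g) * f' i = g * (a i * f i) := by
        intro i
        by_cases hi : i = l
        · rw [if_pos hi, hi, hf'l]; ring
        · rw [if_neg hi, hf'ne i hi]; ring
      simp only [this]
      rw [← Finset.mul_sum, ha, mul_zero]) l
    simpa using this
  obtain ⟨c, hc⟩ := (Ideal.mem_span_range_iff_exists_fun).mp h1
  -- Step 2
  have h2 := h (fun i => if i = l then c l * f l else a i + c i * f l) (by
    have : ∀ i, (if i = l then c l * f l else a i + c i * f l) * f' i =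
        a i * f i + f l * (c i * f' i) - (if i = l then a l * f l else 0) := by
      intro i
      by_cases hi : i = l
      · rw [if_pos hi, if_pos hi, hi, hf'l]; ring
      · rw [if_neg hi, if_neg hi, hf'ne i hi]; ring
    simp only [this]
    rw [Finset.sum_sub_distrib, Finset.sum_add_distrib, ha, ← Finset.mul_sum, hc,
      Finset.sum_ite_eq' Finset.univ l]
    simp only [Finset.mem_univ, if_true]
    ring)
  intro i
  by_cases hi : i = l
  · rw [hi]; exact hJ h1
  · have h3 := hJ (h2 i)
    simp only [if_neg hi] at h3
    have h4 : c i * f l ∈ Ideal.span (Set.range f) :=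
      Ideal.mul_mem_left _ _ (Ideal.subset_span ⟨l, rfl⟩)
    have : a i = (a i + c i * f l) - c i * f l := by ring
    rw [this]
    exact Ideal.sub_mem _ h3 h4

end Groth.Agent.S1733
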