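import Groth.Statements.S17332
import Mathlib.Algebra.BigOperators.Pi
import Mathlib.Data.Fintype.BigOperators
import Mathlib.Algebra.Field.Basic

set_option autoImplicit false
universe u v w
open CAlg

namespace Groth.Agent.S17332

/-- Let k be a field, E and F finite sets, and O(E), O(F) the k-algebras of k-valued functions with
pointwise operations. Then every k-algebra homomorphism u : O(F) → O(E) is pull-back along a unique
map φ : E → F, i.e. u(g) = g ∘ φ for all g. (In the source k is algebraically closed; the printed
argument only uses that k is a field.) -/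
theorem result (k : Type u) [Field k] (E : Type v) [Finite E]
    (F : Type w) [Finite F] (u : (F → k) →ₐ[k] (E → k)) :
    ∃! φ : E → F, ∀ g : F → k, u g = g ∘ φ := by
  classical
  have : Fintype F := Fintype.ofFinite F
  -- indicator functions
  let δ : F → (F → k) := fun f => Pi.single f 1
  have hsum : ∑ f, δ f = 1 := by
    ext x
    simp [δ, Finset.sum_apply, Pi.single_apply]
  have hmul : ∀ f f', f ≠ f' → δ f * δ f' = 0 := by
    intro f f' hne
    ext x
    simp only [δ, Pi.mul_apply, Pi.single_apply, Pi.zero_apply]
    by_cases h1 : x = f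
    · subst h1; simp [hne]
    · simp [h1]
  have hidem : ∀ f, δ f * δ f = δ f := by
    intro f
    ext x
    simp only [δ, Pi.mul_apply, Pi.single_apply]
    split_ifs <;> simp
  have hdecomp : ∀ g : F → k, g = ∑ f, g f • δ f := by
    intro g
    ext x
    simp [δ, Finset.sum_apply, Pi.single_apply]
  -- for each e, the values u (δ f) e are 0 or 1, sum to 1
  have h01 : ∀ e f, u (δ f) e = 0 ∨ u (δ f) e = 1 := by
    intro e f
    have := congrFun (congrArg u (hidem f)) e
    rw [map_mul, Pi.mul_apply] at this
    rcases eq_or_ne (u (δ f) e) 0 with h | h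
    · left; exact h
    · right
      exact mul_left_cancel₀ h (by rw [this, mul_one])
  have hsum1 : ∀ e, ∑ f, u (δ f) e = 1 := by
    intro e
    have := congrFun (congrArg u hsum) e
    rw [map_sum, map_one, Finset.sum_apply] at this
    exact this
  have hex : ∀ e, ∃ f, u (δ f) e = 1 := by
    intro e
    by_contra hcon
    push Not at hcon
    have : ∑ f, u (δ f) e = 0 := Finset.sum_eq_zero fun f _ => (h01 e f).resolve_right (hcon f)
    rw [hsum1 e] at this
    exact one_ne_zero this
  choose φ hφ using hex
  have hother : ∀ e f, f ≠ φ e → u (δ f) e = 0 := by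
    intro e f hne
    have := congrFun (congrArg u (hmul f (φ e) hne)) e
    rw [map_mul, map_zero, Pi.mul_apply, hφ, mul_one] at this
    exact this
  have key : ∀ g : F → k, u g = g ∘ φ := by
    intro g
    ext e
    conv_lhs => rw [hdecomp g]
    rw [map_sum, Finset.sum_apply]
    simp only [map_smul, Pi.smul_apply, smul_eq_mul, Function.comp_apply]
    rw [Finset.sum_eq_single (φ e)]
    · rw [hφ, mul_one]
    · intro f _ hne
      rw [hother e f hne, mul_zero]
    · intro h; exact absurd (Finset.mem_univ _) h
  refine ⟨φ, key, ?_⟩
  intro ψ hψ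
  funext e
  by_contra hne
  have h1 := congrFun (hψ (δ (φ e))) e
  rw [hφ] at h1
  simp only [Function.comp_apply, δ, Pi.single_apply] at h1
  rw [if_neg hne] at h1
  exact one_ne_zero h1

end Groth.Agent.S17332
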