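import Groth.Statements.S17333
-- import your own Groth.Agent.* helpers here

set_option autoImplicit false
universe u v w
open CAlg

namespace Groth.Agent.S17333

/-- Let k be a field and A = B × C a decomposable commutative k-algebra. Then the natural map Der(B) ×
Der(C) → Der(A) is bijective: every k-derivation D : A → A is (b, c) ↦ (D₁ b, D₂ c) for a unique
pair of k-derivations D₁ : B → B, D₂ : C → C. Compatibility with brackets is not stated. (The
published statement takes k algebraically closed; this row takes any field.) -/
theorem result (k : Type u) [Field k] (B : Type v) [CommRing B] [Algebra k B]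
    (C : Type w) [CommRing C] [Algebra k C] (D : Derivation k (B × C) (B × C)) :
    ∃! P : Derivation k B B × Derivation k C C, ∀ (b : B) (c : C), D (b, c) = (P.1 b, P.2 c) := by
  -- D kills idempotents
  have hidem : ∀ e : B × C, e * e = e → D e = 0 := by
    intro e he
    have h1 : D e = e • D e + e • D e := by
      conv_lhs => rw [← he]
      rw [Derivation.leibniz]
    have h2 : e • D e = e • (e • D e + e • D e) := congrArg (e • ·) h1
    rw [smul_add, smul_smul, he] at h2
    have h3 : e • D e = 0 := by
      have : e • D e + 0 = e • D e + e • D e := by rw [add_zero]; exact h2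
      exact (add_left_cancel this).symm
    rw [h1, h3, add_zero]
  have h10 : D (1, 0) = 0 := hidem _ (by ext <;> simp)
  have h01 : D (0, 1) = 0 := hidem _ (by ext <;> simp)
  have hb0 : ∀ b : B, (D (b, 0)).2 = 0 := by
    intro b
    have : ((b, 0) : B × C) = (1, 0) * (b, 0) := by ext <;> simp
    rw [this, Derivation.leibniz, h10]
    simp
  have h0c : ∀ c : C, (D (0, c)).1 = 0 := by
    intro c
    have : ((0, c) : B × C) = (0, 1) * (0, c) := by ext <;> simp
    rw [this, Derivation.leibniz, h01]
    simp
  let P₁ : Derivation k B B :=
    { toFun := fun b => (D (b, 0)).1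
      map_add' := fun b b' => by
        have : ((b + b', 0) : B × C) = (b, 0) + (b', 0) := by ext <;> simp
        rw [this, map_add]; rfl
      map_smul' := fun r b => by
        have : ((r • b, 0) : B × C) = r • (b, 0) := by ext <;> simp
        rw [this, Derivation.map_smul]; rfl
      map_one_eq_zero' := by
        show (D (1, 0)).1 = 0
        rw [h10]; rfl
      leibniz' := fun b b' => by
        show (D (b * b', 0)).1 = b • (D (b', 0)).1 + b' • (D (b, 0)).1
        have : ((b * b', 0) : B × C) = (b, 0) * (b', 0) := by ext <;> simp
        rw [this, Derivation.leibniz]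
        simp }
  let P₂ : Derivation k C C :=
    { toFun := fun c => (D (0, c)).2
      map_add' := fun c c' => by
        have : ((0, c + c') : B × C) = (0, c) + (0, c') := by ext <;> simp
        rw [this, map_add]; rfl
      map_smul' := fun r c => by
        have : ((0, r • c) : B × C) = r • (0, c) := by ext <;> simp
        rw [this, Derivation.map_smul]; rfl
      map_one_eq_zero' := by
        show (D (0, 1)).2 = 0
        rw [h01]; rfl
      leibniz' := fun c c' => by
        show (D (0, c * c')).2 = c • (D (0, c')).2 + c' • (D (0, c)).2
        have : ((0, c * c') : B × C) = (0, c) * (0, c') := by ext <;> simp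
        rw [this, Derivation.leibniz]
        simp }
  refine ⟨(P₁, P₂), ?_, ?_⟩
  · intro b c
    have : ((b, c) : B × C) = (b, 0) + (0, c) := by ext <;> simp
    rw [this, map_add]
    ext
    · show (D (b, 0)).1 + (D (0, c)).1 = (D (b, 0)).1
      rw [h0c, add_zero]
    · show (D (b, 0)).2 + (D (0, c)).2 = (D (0, c)).2
      rw [hb0, zero_add]
  · rintro ⟨Q₁, Q₂⟩ hQ
    have e1 : Q₁ = P₁ := by
      ext b
      have := congrArg Prod.fst (hQ b 0)
      exact this.symm
    have e2 : Q₂ = P₂ := by
      ext c
      have := congrArg Prod.snd (hQ 0 c)
      exact this.symm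
    rw [e1, e2]

end Groth.Agent.S17333
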