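import Groth.Statements.S17334
import Mathlib.RingTheory.Artinian.Module
import Mathlib.RingTheory.Nilpotent.Basic
import Mathlib.Tactic.Ring

set_option autoImplicit false
universe u v
open CAlg

namespace Groth.Agent.S17334

/-- Let k be a field and A a nonzero commutative k-algebra which is finite-dimensional as a k-vector
space. Then A is indecomposable (no decomposition as a product of two nonzero rings, i.e. no
idempotent other than 0 and 1) if and only if A is a local ring. (In the source k is algebraically
closed and the lemma adds that the maximal ideal is then the nilradical, is nilpotent, and has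
residue field k; the equivalence itself uses only that k is a field, and the zero algebra is
excluded here explicitly.) -/
theorem result (k : Type u) [Field k]
    (A : Type v) [CommRing A] [Algebra k A] [Module.Finite k A] [Nontrivial A] :
    (∀ e : A, IsIdempotentElem e → e = 0 ∨ e = 1) ↔ IsLocalRing A := by
  constructor
  · intro h
    have hart : IsArtinianRing A := IsArtinianRing.of_finite k A
    apply IsLocalRing.of_isUnit_or_isUnit_one_sub_self
    intro a
    obtain ⟨n, c, hc⟩ := IsArtinian.exists_pow_succ_smul_dvd a (1 : A)
    simp only [smul_eq_mul, mul_one, Nat.succ_eq_add_one] at hc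
    -- a^n = a^(n+j) c^j
    have hj : ∀ j : ℕ, a ^ (n + j) * c ^ j = a ^ n := by
      intro j
      induction j with
      | zero => simp
      | succ j ih =>
        calc a ^ (n + (j + 1)) * c ^ (j + 1) = (a ^ (n + 1) * c) * (a ^ j * c ^ j) := by ring
          _ = a ^ n * (a ^ j * c ^ j) := by rw [hc]
          _ = a ^ (n + j) * c ^ j := by ring
          _ = a ^ n := ih
    have hn := hj n
    have he : IsIdempotentElem (a ^ n * c ^ n) := by
      show a ^ n * c ^ n * (a ^ n * c ^ n) = a ^ n * c ^ n
      calc a ^ n * c ^ n * (a ^ n * c ^ n) = (a ^ (n + n) * c ^ n) * c ^ n := by ring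
        _ = a ^ n * c ^ n := by rw [hn]
    rcases h _ he with h0 | h1
    · right
      have : a ^ n = 0 := by
        calc a ^ n = a ^ (n + n) * c ^ n := hn.symm
          _ = a ^ n * (a ^ n * c ^ n) := by ring
          _ = 0 := by rw [h0, mul_zero]
      exact IsNilpotent.isUnit_one_sub ⟨n, this⟩
    · left
      refine IsUnit.of_mul_eq_one (a ^ n * c ^ (n + 1)) ?_
      calc a * (a ^ n * c ^ (n + 1)) = (a ^ (n + 1) * c) * c ^ n := by ring
        _ = a ^ n * c ^ n := by rw [hc]
        _ = 1 := h1
  · intro hloc e he
    rcases IsLocalRing.isUnit_or_isUnit_one_sub_self e with hu | hu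
    · right
      obtain ⟨u, rfl⟩ := hu
      have : (u : A) * u = u := he
      calc (u : A) = ↑u⁻¹ * (u * u) := by rw [← mul_assoc, Units.inv_mul, one_mul]
        _ = 1 := by rw [this, Units.inv_mul]
    · left
      have he' : IsIdempotentElem (1 - e) := he.one_sub
      obtain ⟨u, hu'⟩ := hu
      have h1 : (u : A) * u = u := by rw [hu']; exact he'
      have h2 : (u : A) = 1 := by
        calc (u : A) = ↑u⁻¹ * (u * u) := by rw [← mul_assoc, Units.inv_mul, one_mul]
          _ = 1 := by rw [h1, Units.inv_mul]
      rw [hu'] at h2
      have : e = 1 - (1 - e) := by ring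
      rw [this, h2, sub_self]

end Groth.Agent.S17334
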