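import Groth.Statements.S17335
import Mathlib.RingTheory.Artinian.Ring
import Mathlib.RingTheory.Ideal.Quotient.Operations

set_option autoImplicit false
universe u v
open CAlg

namespace Groth.Agent.S17335

/-- Let k be an algebraically closed field and A a commutative k-algebra which is finite-dimensional as
a k-vector space, and let E be the set of k-algebra homomorphisms A → k. Then E is finite, and the
evaluation homomorphism A → O(E) = (E → k), a ↦ (f ↦ f(a)), is surjective with kernel the nilradical
of A; it therefore induces an isomorphism of A_red = A/nilradical(A) onto O(E). -/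
theorem result (k : Type u) [Field k]
    [IsAlgClosed k] (A : Type v) [CommRing A] [Algebra k A] [Module.Finite k A] :
    Finite (A →ₐ[k] k) ∧
      Function.Surjective (AlgHom.pi (R := k) (fun f : A →ₐ[k] k => f)) ∧
      RingHom.ker (AlgHom.pi (R := k) (fun f : A →ₐ[k] k => f)) = nilradical A := by
  classical
  have hart : IsArtinianRing A := IsArtinianRing.of_finite k A
  have hkmax : ∀ χ : A →ₐ[k] k, (RingHom.ker χ).IsMaximal := fun χ =>
    RingHom.ker_isMaximal_of_surjective χ (fun c => ⟨algebraMap k A c, by simp⟩)
  have hker_inj : ∀ χ χ' : A →ₐ[k] k, RingHom.ker χ = RingHom.ker χ' → χ = χ' := by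
    intro χ χ' h
    ext a
    have h1 : a - algebraMap k A (χ a) ∈ RingHom.ker χ := by
      rw [RingHom.mem_ker, map_sub, AlgHom.commutes]; simp
    rw [h, RingHom.mem_ker, map_sub, AlgHom.commutes] at h1
    have := sub_eq_zero.mp h1
    simpa using this.symm
  have hfin : Finite (A →ₐ[k] k) := by
    let g : (A →ₐ[k] k) → MaximalSpectrum A := fun χ => ⟨RingHom.ker χ, hkmax χ⟩
    apply Finite.of_injective g
    intro χ χ' h
    exact hker_inj χ χ' (congrArg MaximalSpectrum.asIdeal h)
  refine ⟨hfin, ?_, ?_⟩
  · intro c
    have hcop : Pairwise (Function.onFun IsCoprime fun χ : A →ₐ[k] k => RingHom.ker χ) := by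
      intro χ χ' hne
      haveI := hkmax χ
      haveI := hkmax χ'
      exact Ideal.isCoprime_of_isMaximal (fun h => hne (hker_inj χ χ' h))
    obtain ⟨a, ha⟩ := Ideal.exists_forall_sub_mem_ideal hcop (fun χ => algebraMap k A (c χ))
    refine ⟨a, ?_⟩
    funext χ
    have := ha χ
    rw [RingHom.mem_ker, map_sub, AlgHom.commutes] at this
    have := sub_eq_zero.mp this
    simpa using this
  · ext a
    rw [RingHom.mem_ker, mem_nilradical]
    constructor
    · intro ha
      rw [nilpotent_iff_mem_prime]
      intro J hJ
      haveI : J.IsMaximal := IsArtinianRing.isMaximal_of_isPrime J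
      letI : Field (A ⧸ J) := Ideal.Quotient.field J
      have hfinJ : Module.Finite k (A ⧸ J) :=
        Module.Finite.of_surjective (Ideal.Quotient.mkₐ k J).toLinearMap
          (Ideal.Quotient.mkₐ_surjective k _)
      have hint : Algebra.IsIntegral k (A ⧸ J) := Algebra.IsIntegral.of_finite k _
      have hbij : Function.Bijective (algebraMap k (A ⧸ J)) :=
        IsAlgClosed.algebraMap_bijective_of_isIntegral
      let e : k ≃ₐ[k] (A ⧸ J) := AlgEquiv.ofBijective (Algebra.ofId k (A ⧸ J)) hbij
      let χ : A →ₐ[k] k := e.symm.toAlgHom.comp (Ideal.Quotient.mkₐ k J)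
      have h0 : χ a = 0 := congrFun ha χ
      have h1 : e.symm (Ideal.Quotient.mk J a) = 0 := h0
      have h2 : Ideal.Quotient.mk J a = 0 := by
        have := congrArg e h1
        simpa using this
      exact Ideal.Quotient.eq_zero_iff_mem.mp h2
    · intro ha
      funext χ
      show χ a = 0
      exact (ha.map χ).eq_zero

end Groth.Agent.S17335
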