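import Groth.Statements.S17336
import Groth.Agent.Helper8.FinAlg

set_option autoImplicit false
universe u v
open CAlg

namespace Groth.Agent.S17336

/-- Let k be an algebraically closed field and A a commutative k-algebra which is finite-dimensional as
a k-vector space (a finite scheme X = Spec A with largest reduced subscheme X_red = Spec
(A/nilradical A) and immersion i : X_red → X). Then there is a unique morphism r : X → X_red with r
∘ i = id; on rings: the projection A → A/nilradical(A) admits exactly one section that is a
k-algebra homomorphism. -/
theorem result (k : Type u) [Field k]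
    [IsAlgClosed k] (A : Type v) [CommRing A] [Algebra k A] [Module.Finite k A] :
    ∃! s : (A ⧸ nilradical A) →ₐ[k] A,
      (Ideal.Quotient.mkₐ k (nilradical A)).comp s = AlgHom.id k (A ⧸ nilradical A) := by
  have hart : IsArtinianRing A := IsArtinianRing.of_finite k A
  have hnil : IsNilpotent (nilradical A) := IsArtinianRing.isNilpotent_nilradical
  have hred : IsReduced (A ⧸ nilradical A) :=
    (Ideal.isRadical_iff_quotient_reduced _).mp (Ideal.radical_isRadical _)
  have hfin : Module.Finite k (A ⧸ nilradical A) :=
    Module.Finite.of_surjective (Ideal.Quotient.mkₐ k (nilradical A)).toLinearMap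
      (Ideal.Quotient.mkₐ_surjective k _)
  have het : Algebra.FormallyEtale k (A ⧸ nilradical A) :=
    Helper8.formallyEtale_of_finite_isReduced k _
  refine ⟨Algebra.FormallySmooth.lift (nilradical A) hnil (AlgHom.id k (A ⧸ nilradical A)),
    Algebra.FormallySmooth.comp_lift _ hnil _, ?_⟩
  intro s hs
  apply Algebra.FormallyUnramified.ext (nilradical A) hnil
  intro x
  have h1 := AlgHom.congr_fun hs x
  have h2 := AlgHom.congr_fun (Algebra.FormallySmooth.comp_lift (nilradical A) hnil
    (AlgHom.id k (A ⧸ nilradical A))) x
  simp only [AlgHom.comp_apply, Ideal.Quotient.mkₐ_eq_mk] at h1 h2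
  rw [h1, h2]

end Groth.Agent.S17336
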