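import Groth.Statements.S17360
import Groth.Agent.Helper4.AzSympA
import Groth.Agent.Helper4.AzSympB
import Mathlib

set_option autoImplicit false
universe u
open scoped TensorProduct
open AzInv

namespace Groth.Agent.S17360


/-- Let `R` be a nontrivial commutative ring in which `2` is a unit, with the trivial involution. This
row states the second half of the count of types: the identity of `R` (the orthogonal type) and the
standard symplectic involution `x ↦ J xᵀ J⁻¹` of the `2 × 2` matrix algebra, `J` the matrix with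
rows `(0, -1)` and `(1, 0)`, do not have the same type, i.e. for no positive sizes do the matrix
algebras over `R` with the transpose and over `M_2(R)` with the involution induced by the symplectic
one become isomorphic as `R`-algebras with involution after an etale faithfully flat base change of
`R`. (The source states that the monoid of types is isomorphic to the group of global square roots
of `1`, for a locally ringed topos with trivial involution and `2` invertible; the row is the affine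
case.) -/
theorem result (R : Type u) [CommRing R] (hlam : ∀ r : R, (AlgEquiv.refl : R ≃ₐ[R] R) ((AlgEquiv.refl : R ≃ₐ[R] R) r) = r)
    [Nontrivial R] (h2 : IsUnit (2 : R))
    (J : (Matrix (Fin 2) (Fin 2) R)ˣ) (hJ : (↑J : Matrix (Fin 2) (Fin 2) R) = Matrix.of ![![0, -1], ![1, 0]])
    (hJt : AzInv.LamInv.transpose (AlgEquiv.refl : R ≃ₐ[R] R) (Fin 2) hlam (↑J : Matrix (Fin 2) (Fin 2) R) = (-1 : R) • (↑J : Matrix (Fin 2) (Fin 2) R))
    (hneg : (AlgEquiv.refl : R ≃ₐ[R] R) (-1) * (-1) = 1) :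
    ¬ AzInv.SameType R (AlgEquiv.refl : R ≃ₐ[R] R) (AzInv.LamInv.self (AlgEquiv.refl : R ≃ₐ[R] R) hlam) ((AzInv.LamInv.transpose (AlgEquiv.refl : R ≃ₐ[R] R) (Fin 2) hlam).conj J (-1) hJt hneg) := by

  classical
  rintro ⟨n, n', hn, hn', S', instS, instA, hEt, hFF, f, -, hf2⟩
  haveI : Nontrivial S' :=
    ((TensorProduct.rid R S').symm.toEquiv).nontrivial
  -- source data
  set t₁ := (AzInv.LamInv.self (AlgEquiv.refl : R ≃ₐ[R] R) hlam).matrix (Fin n) with ht₁
  set t₂ := ((AzInv.LamInv.transpose (AlgEquiv.refl : R ≃ₐ[R] R) (Fin 2) hlam).conj J (-1) hJt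
    hneg).matrix (Fin n') with ht₂
  let θ₁ : Matrix (Fin n) (Fin n) R ≃ₐ[R] Matrix (Fin n) (Fin n) R := AlgEquiv.refl
  let θ₂ := Matrix.compAlgEquiv (Fin n') (Fin 2) R R
  have hθ₁ : ∀ a, θ₁ (t₁ a) = (1 : Matrix (Fin n) (Fin n) R) * (θ₁ a).transpose * 1 := by
    intro a
    rw [Matrix.one_mul, Matrix.mul_one]
    ext i j
    rfl
  -- target data
  let D : Matrix (Fin n') (Fin n') (Matrix (Fin 2) (Fin 2) R) :=
    Matrix.diagonal fun _ => (↑J : Matrix (Fin 2) (Fin 2) R)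
  let Di : Matrix (Fin n') (Fin n') (Matrix (Fin 2) (Fin 2) R) :=
    Matrix.diagonal fun _ => (↑J⁻¹ : Matrix (Fin 2) (Fin 2) R)
  have hDDi : D * Di = 1 := by
    rw [Matrix.diagonal_mul_diagonal]
    simp only [Units.mul_inv]
    exact Matrix.diagonal_one
  have hDiD : Di * D = 1 := by
    rw [Matrix.diagonal_mul_diagonal]
    simp only [Units.inv_mul]
    exact Matrix.diagonal_one
  have hθ₂ : ∀ a, θ₂ (t₂ a) = θ₂ D * (θ₂ a).transpose * θ₂ Di := by
    intro a
    have h1 : (θ₂ a).transpose = θ₂ (fun i j => (a j i).transpose) := by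
      ext ⟨i, k⟩ ⟨j, l⟩
      rfl
    rw [h1, ← map_mul, ← map_mul]
    congr 1
    ext i j : 1
    rw [Matrix.mul_diagonal, Matrix.diagonal_mul]
    have h3 : AzInv.lamTr (⇑(AlgEquiv.refl : R ≃ₐ[R] R)) (a j i) = (a j i).transpose := by
      ext k l
      rfl
    change (↑J : Matrix (Fin 2) (Fin 2) R) *
      AzInv.lamTr (⇑(AlgEquiv.refl : R ≃ₐ[R] R)) (a j i) *
        ((J⁻¹ : (Matrix (Fin 2) (Fin 2) R)ˣ) : Matrix (Fin 2) (Fin 2) R) = _
    rw [h3]
  have hΩ₀t : (θ₂ D).transpose = -(θ₂ D) := by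
    ext ⟨a, i⟩ ⟨b, j⟩
    change (Matrix.diagonal (fun _ => (↑J : Matrix (Fin 2) (Fin 2) R)) b a) j i =
      - (Matrix.diagonal (fun _ => (↑J : Matrix (Fin 2) (Fin 2) R)) a b) i j
    by_cases hab : a = b
    · subst hab
      rw [Matrix.diagonal_apply_eq, hJ]
      fin_cases i <;> fin_cases j <;> simp
    · rw [Matrix.diagonal_apply_ne _ hab, Matrix.diagonal_apply_ne _ (Ne.symm hab)]
      simp
  -- matrices over S'
  set Ω : Matrix (Fin n' × Fin 2) (Fin n' × Fin 2) S' := (θ₂ D).map (algebraMap R S') with hΩ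
  set Ωi : Matrix (Fin n' × Fin 2) (Fin n' × Fin 2) S' := (θ₂ Di).map (algebraMap R S') with hΩi
  have hΩ1 : Ω * Ωi = 1 := by
    rw [hΩ, hΩi, ← Matrix.map_mul, ← map_mul, hDDi, map_one, Matrix.map_one _ (map_zero _) (map_one _)]
  have hΩ2 : Ωi * Ω = 1 := by
    rw [hΩ, hΩi, ← Matrix.map_mul, ← map_mul, hDiD, map_one, Matrix.map_one _ (map_zero _) (map_one _)]
  have hΩt : Ω.transpose = -Ω := by
    rw [hΩ, ← Matrix.transpose_map, hΩ₀t]
    ext i j
    simp
  let Φ₁ := Groth.Agent.Helper4.AzSympB.Φ S' θ₁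
  let Φ₂ := Groth.Agent.Helper4.AzSympB.Φ S' θ₂
  have hΦ₁ : ∀ x, Φ₁ (t₁.bc R (AlgEquiv.refl : R ≃ₐ[R] R) S' x) = (Φ₁ x).transpose := by
    intro x
    have := Groth.Agent.Helper4.AzSympB.Φ_bc S' θ₁ (AlgEquiv.refl : R ≃ₐ[R] R) t₁ 1 1 hθ₁ x
    rw [Matrix.map_one _ (map_zero _) (map_one _), Matrix.one_mul, Matrix.mul_one] at this
    exact this
  have hΦ₂ : ∀ y, Φ₂ (t₂.bc R (AlgEquiv.refl : R ≃ₐ[R] R) S' y) = Ω * (Φ₂ y).transpose * Ωi :=
    fun y => Groth.Agent.Helper4.AzSympB.Φ_bc S' θ₂ (AlgEquiv.refl : R ≃ₐ[R] R) t₂ _ _ hθ₂ y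
  have hf2' : ∀ x, f (t₁.bc R (AlgEquiv.refl : R ≃ₐ[R] R) S' x) =
      t₂.bc R (AlgEquiv.refl : R ≃ₐ[R] R) S' (f x) := hf2
  -- the symmetric rank-one idempotent
  let i0 : Fin n := ⟨0, hn⟩
  set e : Matrix (Fin n) (Fin n) S' := Matrix.single i0 i0 1 with he
  set xe := Φ₁.symm e with hxe
  have hxe1 : Φ₁ xe = e := Φ₁.apply_symm_apply e
  have hxet : t₁.bc R (AlgEquiv.refl : R ≃ₐ[R] R) S' xe = xe := by
    apply Φ₁.injective
    rw [hΦ₁, hxe1, he, Matrix.transpose_single]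
  set g := Φ₂ (f xe) with hg
  have hgσ : Ω * g.transpose * Ωi = g := by
    rw [hg, ← hΦ₂, ← hf2', hxet]
  have hrk : ∀ Y : Matrix (Fin n' × Fin 2) (Fin n' × Fin 2) S', ∃ c : S', g * Y * g = c • g := by
    intro Y
    set xY := f.symm (Φ₂.symm Y) with hxY
    have hY : Φ₂ (f xY) = Y := by
      rw [hxY, AlgEquiv.apply_symm_apply, AlgEquiv.apply_symm_apply]
    refine ⟨(Φ₁ xY) i0 i0, ?_⟩
    have h1 : xe * xY * xe = ((Φ₁ xY) i0 i0) • xe := by
      apply Φ₁.injective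
      rw [map_mul, map_mul, Groth.Agent.Helper4.AzSympB.Φ_smul, hxe1, he]
      rw [Matrix.single_mul_mul_single, Matrix.smul_single, one_mul, smul_eq_mul]
    calc g * Y * g = Φ₂ (f (xe * xY * xe)) := by
          rw [map_mul, map_mul, map_mul, map_mul, hY]
      _ = (Φ₁ xY) i0 i0 • g := by
          rw [h1, map_smul, Groth.Agent.Helper4.AzSympB.Φ_smul]
  have h2' : IsUnit (2 : S') := by
    have := h2.map (algebraMap R S')
    rwa [map_ofNat] at this
  have hΦ₁smul : ∀ (c : S') x, Φ₁ (c • x) = c • Φ₁ x := Groth.Agent.Helper4.AzSympB.Φ_smul S' θ₁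
  have hΦ₂smul : ∀ (c : S') x, Φ₂ (c • x) = c • Φ₂ x := Groth.Agent.Helper4.AzSympB.Φ_smul S' θ₂
  obtain ⟨M, hM⟩ := Ideal.exists_maximal S'
  haveI : M.IsPrime := hM.isPrime
  have hmem := Groth.Agent.Helper4.AzSympA.entries_mem_prime
    h2' Ω Ωi hΩ1 hΩ2 hΩt g hgσ hrk M
  -- pull back
  have hsum : g = ∑ a, ∑ b, g a b • Matrix.single a b (1 : S') := by
    conv_lhs => rw [Matrix.matrix_eq_sum_single g]
    refine Finset.sum_congr rfl fun a _ => Finset.sum_congr rfl fun b _ => ?_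
    rw [Matrix.smul_single, smul_eq_mul, mul_one]
  have hxe2 : xe = f.symm (Φ₂.symm g) := by
    rw [hg, AlgEquiv.symm_apply_apply, AlgEquiv.symm_apply_apply]
  have hΦsymm_smul : ∀ (c : S') (Z : Matrix (Fin n' × Fin 2) (Fin n' × Fin 2) S'),
      Φ₂.symm (c • Z) = c • Φ₂.symm Z := by
    intro c Z
    apply Φ₂.injective
    rw [hΦ₂smul, AlgEquiv.apply_symm_apply, AlgEquiv.apply_symm_apply]
  have hone : (1 : S') ∈ M := by
    have h3 : e i0 i0 = 1 := by rw [he, Matrix.single_apply_same]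
    rw [← h3, ← hxe1, hxe2, hsum]
    simp only [map_sum, hΦsymm_smul, map_smul, hΦ₁smul,
      Matrix.sum_apply, Matrix.smul_apply, smul_eq_mul]
    exact M.sum_mem fun a _ => M.sum_mem fun b _ => M.mul_mem_right _ (hmem a b)
  exact hM.ne_top ((Ideal.eq_top_iff_one M).mpr hone)

end Groth.Agent.S17360
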