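import Groth.Statements.S17386
import Groth.Agent.Helper4.NApx22
import Mathlib

set_option autoImplicit false
universe u
open BlowUp

namespace Groth.Agent.S17386


open AlgebraicGeometry CategoryTheory Limits in
/-- Let X be any scheme, J_1, …, J_n quasi-coherent ideals on X with closed subschemes Y_i, and b : X' →
X a blowing up of X in the ideal J_1 + ⋯ + J_n of the intersection of the Y_i. For each i let b_i' :
Y_i' → Y_i be a blowing up of Y_i in the inverse image of J_1 + ⋯ + J_n and k_i : Y_i' → X' the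
morphism with k_i ≫ b = b_i' ≫ (Y_i → X), so that the image of k_i is the strict transform of Y_i.
Then the strict transforms have empty common intersection: no point of X' lies in the image of every
k_i. -/
theorem result
    {X X' : Scheme.{u}} {n : ℕ} (𝓙 : Fin n → X.IdealSheafData) (b : X' ⟶ X)
    (hb : BlowUp.IsBlowUp b (⨆ i, 𝓙 i))
    (Y' : Fin n → Scheme.{u}) (b' : ∀ i, Y' i ⟶ (𝓙 i).subscheme)
    (hb' : ∀ i, BlowUp.IsBlowUp (b' i) ((⨆ j, 𝓙 j).comap (𝓙 i).subschemeι))
    (k : ∀ i, Y' i ⟶ X') (hk : ∀ i, k i ≫ b = b' i ≫ (𝓙 i).subschemeι) :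
    (⋂ i, Set.range (fun y => k i y)) = (∅ : Set X') := by

  classical
  rw [Set.eq_empty_iff_forall_notMem]
  intro x' hx'
  rw [Set.mem_iInter] at hx'
  set Sg := ⨆ i, 𝓙 i with hSg
  set E := Sg.comap b with hE
  have hEc : BlowUp.IsEffCartierIdeal E := hb.1
  obtain ⟨V, hxV, e, he, hEe⟩ := hEc x'
  have hEsup : E = ⨆ i, (𝓙 i).comap b := (Scheme.IdealSheafData.map_gc b).l_iSup
  have hEV : E.ideal V = ⨆ i, ((𝓙 i).comap b).ideal V := by
    rw [hEsup, Scheme.IdealSheafData.ideal_iSup, iSup_apply]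
  have hmem : e ∈ ⨆ i, ((𝓙 i).comap b).ideal V := by
    rw [← hEV, hEe]; exact Ideal.mem_span_singleton_self e
  obtain ⟨c, hc, hsum⟩ := (Submodule.mem_iSup_iff_exists_finsupp _ _).mp hmem
  have hle : ∀ i, ((𝓙 i).comap b).ideal V ≤ Ideal.span {e} := by
    intro i
    rw [← hEe, hEV]
    exact le_iSup (fun i => ((𝓙 i).comap b).ideal V) i
  have hca : ∀ i, ∃ a : Γ(X', V.1), a * e = c i := fun i =>
    Ideal.mem_span_singleton'.mp (hle i (hc i))
  choose a ha using hca
  have hone : (∑ i ∈ c.support, a i) = 1 := by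
    have h1 : (∑ i ∈ c.support, a i) * e = e := by
      rw [Finset.sum_mul]
      calc ∑ i ∈ c.support, a i * e = ∑ i ∈ c.support, c i :=
            Finset.sum_congr rfl (fun i _ => ha i)
        _ = e := hsum
    have h2 : ((∑ i ∈ c.support, a i) - 1) * e = 0 := by rw [sub_mul, h1, one_mul, sub_self]
    exact sub_eq_zero.mp ((mem_nonZeroDivisors_iff_right.mp he) _ h2)
  -- key claim
  have key : ∀ i, x' ∉ X'.basicOpen (a i) := by
    intro i hxa
    obtain ⟨y, hy⟩ := hx' i
    have hy' : k i y = x' := hy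
    obtain ⟨_, ⟨W, hW, rfl⟩, hyW, hWV⟩ :=
      (Y' i).isBasis_affineOpens.exists_subset_of_mem_open
        (show y ∈ ((k i ⁻¹ᵁ V.1 : (Y' i).Opens) : Set (Y' i)) from by
          show k i y ∈ V.1
          rw [hy']; exact hxV) (k i ⁻¹ᵁ V.1).isOpen
    have eWV : W ≤ k i ⁻¹ᵁ V.1 := hWV
    set κ := ((k i).appLE V.1 W eWV).hom with hκ
    -- exceptional ideal on Y' i
    have hE' : E.comap (k i) = (Sg.comap (𝓙 i).subschemeι).comap (b' i) := by
      rw [hE, ← Scheme.IdealSheafData.comap_comp, hk i, Scheme.IdealSheafData.comap_comp]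
    have hE'c : BlowUp.IsEffCartierIdeal (E.comap (k i)) := by
      rw [hE']; exact (hb' i).1
    have hκe : κ e ∈ nonZeroDivisors Γ(Y' i, W) := by
      apply Groth.Agent.Helper4.NApx22.mem_nonZeroDivisors_of_ideal_eq_span (E.comap (k i)) hE'c
        ⟨W, hW⟩
      rw [Groth.Agent.Helper9.IdealComap.ideal_comap (k i) E V ⟨W, hW⟩ eWV, hEe, Ideal.map_span,
        Set.image_singleton]
    have hbot : (𝓙 i).comap (𝓙 i).subschemeι = ⊥ := by
      rw [eq_bot_iff]
      have h1 := Scheme.IdealSheafData.comap_map_le (⊥ : (𝓙 i).subscheme.IdealSheafData)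
        (𝓙 i).subschemeι
      rw [Scheme.IdealSheafData.map_bot, Scheme.IdealSheafData.ker_subschemeι] at h1
      exact h1
    have hzero : ((𝓙 i).comap b).comap (k i) = ⊥ := by
      rw [← Scheme.IdealSheafData.comap_comp, hk i, Scheme.IdealSheafData.comap_comp, hbot,
        Scheme.IdealSheafData.comap_bot]
    have hκc : κ (c i) = 0 := by
      have h1 : κ (c i) ∈ Ideal.map κ (((𝓙 i).comap b).ideal V) := Ideal.mem_map_of_mem κ (hc i)
      have h2 := Groth.Agent.Helper9.IdealComap.map_le_ideal_comap (k i) ((𝓙 i).comap b) V ⟨W, hW⟩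
        eWV h1
      rw [hzero] at h2
      exact h2
    have hκa : κ (a i) = 0 := by
      rw [← ha i, map_mul] at hκc
      exact (mem_nonZeroDivisors_iff_right.mp hκe) _ hκc
    have h5 : y ∈ (Y' i).basicOpen (κ (a i)) := by
      rw [hκ, Scheme.Hom.appLE, CommRingCat.hom_comp, RingHom.comp_apply, Scheme.basicOpen_res,
        ← Scheme.Hom.preimage_basicOpen]
      refine ⟨hyW, ?_⟩
      show k i y ∈ X'.basicOpen (a i)
      rw [hy']; exact hxa
    rw [hκa, Scheme.basicOpen_zero] at h5
    exact h5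
  -- contradiction in the local ring at x'
  have hgerm : ∀ i, X'.presheaf.germ V.1 x' hxV (a i) ∈
      IsLocalRing.maximalIdeal (X'.presheaf.stalk x') := by
    intro i
    rw [IsLocalRing.mem_maximalIdeal, mem_nonunits_iff]
    intro hu
    exact key i ((Scheme.mem_basicOpen _ _ _ hxV).mpr hu)
  have hsumg : X'.presheaf.germ V.1 x' hxV (∑ i ∈ c.support, a i) ∈
      IsLocalRing.maximalIdeal (X'.presheaf.stalk x') := by
    rw [map_sum]
    exact Ideal.sum_mem _ (fun i _ => hgerm i)
  rw [hone, map_one] at hsumg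
  exact (IsLocalRing.maximalIdeal.isMaximal _).ne_top
    ((Ideal.eq_top_iff_one _).mpr hsumg)

end Groth.Agent.S17386
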