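import Groth.Statements.S17393
import Groth.Agent.Helper4.NApx28
import Groth.Agent.Helper4.NApx22
import Mathlib

set_option autoImplicit false
universe u
open BlowUp

namespace Groth.Agent.S17393


open AlgebraicGeometry CategoryTheory Limits in
/-- Let X be any scheme, I and I' quasi-coherent ideals on X (of closed subschemes Y and Y'), b : X' → X
a blowing up of X in I + I' (the ideal of Y ∩ Y'), b' : Ỹ → Y a blowing up of Y = V(I) in the
inverse image of I + I' and k : Ỹ → X' the morphism with k ≫ b = b' ≫ (Y → X), whose image is the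
strict transform of Y. For an affine open V of X, a section s of I over V, and an affine open V' ⊆
b⁻¹(V) of X' which meets the image of k, the ideal of the inverse image ideal sheaf (I + I')·O_X' on
V' is not the principal ideal generated by the pullback of s. Equivalently the strict transform of Y
does not meet the open locus U(s) where s generates the (invertible) inverse image ideal; since the
U(s) for s ranging over local sections of I and of I' cover X', the strict transform of Y lies in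
the union of the U(s) with s a local section of I'. -/
theorem result
    {X X' Yt : Scheme.{u}} (𝓘 𝓘' : X.IdealSheafData) (b : X' ⟶ X) (hb : BlowUp.IsBlowUp b (𝓘 ⊔ 𝓘'))
    (b' : Yt ⟶ 𝓘.subscheme) (hb' : BlowUp.IsBlowUp b' ((𝓘 ⊔ 𝓘').comap 𝓘.subschemeι))
    (k : Yt ⟶ X') (hk : k ≫ b = b' ≫ 𝓘.subschemeι)
    (V : X.affineOpens) (s : Γ(X, V.1)) (hs : s ∈ 𝓘.ideal V)
    (V' : X'.affineOpens) (hV' : V'.1 ≤ b ⁻¹ᵁ V.1)
    (hmeet : (Set.range (fun y => k y) ∩ (V'.1 : Set X')).Nonempty) :
    ((𝓘 ⊔ 𝓘').comap b).ideal V' ≠ Ideal.span {(b.appLE V.1 V'.1 hV').hom s} := by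

  classical
  intro hEq
  obtain ⟨x', ⟨y, hy⟩, hxV'⟩ := hmeet
  have hy' : k y = x' := hy
  set E := (𝓘 ⊔ 𝓘').comap b with hE
  obtain ⟨_, ⟨W, hW, rfl⟩, hyW, hWV⟩ :=
    Yt.isBasis_affineOpens.exists_subset_of_mem_open
      (show y ∈ ((k ⁻¹ᵁ V'.1 : Yt.Opens) : Set Yt) from by
        show k y ∈ V'.1
        rw [hy']; exact hxV') (k ⁻¹ᵁ V'.1).isOpen
  have eWV : W ≤ k ⁻¹ᵁ V'.1 := hWV
  set κ := (k.appLE V'.1 W eWV).hom with hκ
  set t := (b.appLE V.1 V'.1 hV').hom s with ht
  have hE' : E.comap k = ((𝓘 ⊔ 𝓘').comap 𝓘.subschemeι).comap b' := by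
    rw [hE, ← Scheme.IdealSheafData.comap_comp, hk, Scheme.IdealSheafData.comap_comp]
  have hE'c : BlowUp.IsEffCartierIdeal (E.comap k) := by rw [hE']; exact hb'.1
  have hκt : κ t ∈ nonZeroDivisors Γ(Yt, W) := by
    apply Groth.Agent.Helper4.NApx22.mem_nonZeroDivisors_of_ideal_eq_span (E.comap k) hE'c ⟨W, hW⟩
    rw [Groth.Agent.Helper9.IdealComap.ideal_comap k E V' ⟨W, hW⟩ eWV, hEq, Ideal.map_span,
      Set.image_singleton]
  have hzero : (𝓘.comap b).comap k = ⊥ := by
    rw [← Scheme.IdealSheafData.comap_comp, hk, Scheme.IdealSheafData.comap_comp,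
      Groth.Agent.Helper4.NApx28.comap_subschemeι_eq_bot, Scheme.IdealSheafData.comap_bot]
  have ht1 : t ∈ (𝓘.comap b).ideal V' :=
    Groth.Agent.Helper9.IdealComap.map_le_ideal_comap b 𝓘 V V' hV' (Ideal.mem_map_of_mem _ hs)
  have hκ0 : κ t = 0 := by
    have h1 : κ t ∈ Ideal.map κ ((𝓘.comap b).ideal V') := Ideal.mem_map_of_mem κ ht1
    have h2 := Groth.Agent.Helper9.IdealComap.map_le_ideal_comap k (𝓘.comap b) V' ⟨W, hW⟩ eWV h1
    rw [hzero] at h2
    exact h2
  rw [hκ0] at hκt
  have h10 : (1 : Γ(Yt, W)) = 0 := by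
    have := (mem_nonZeroDivisors_iff_right.mp hκt) 1 (mul_zero 1)
    exact this
  have h11 : Yt.basicOpen (1 : Γ(Yt, W)) = W := Yt.basicOpen_of_isUnit isUnit_one
  rw [h10, Scheme.basicOpen_zero] at h11
  rw [← h11] at hyW
  exact hyW

end Groth.Agent.S17393
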