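import Groth.Statements.S17409
import Mathlib

set_option autoImplicit false
universe u
open Prym5

namespace Groth.Agent.S17409

section Helpers
open MvPolynomial

theorem pderiv_sq_mem {K : Type u} [Field K] {σ : Type} (I : Ideal (MvPolynomial σ K)) (i : σ)
    (f : MvPolynomial σ K) (hf : f ∈ I ^ 2) : pderiv i f ∈ I := by
  rw [pow_two] at hf
  induction hf using Submodule.mul_induction_on' with
  | mem_mul_mem a ha b hb =>
    rw [pderiv_mul]
    exact I.add_mem (I.mul_mem_left _ hb) (I.mul_mem_right _ ha)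
  | add x _ y _ hx hy =>
    rw [map_add]
    exact I.add_mem hx hy

/-- setting z = 0 -/
noncomputable def ev0 (K : Type u) [Field K] : MvPolynomial (Fin 3) K →ₐ[K] MvPolynomial (Fin 2) K :=
  aeval (fun i : Fin 3 => if h : (i : ℕ) < 2 then X (⟨i, h⟩ : Fin 2) else 0)

theorem ev0_rename {K : Type u} [Field K] (G : MvPolynomial (Fin 2) K) :
    ev0 K (rename (Fin.castSucc : Fin 2 → Fin 3) G) = G := by
  rw [ev0, aeval_rename]
  have : ((fun i : Fin 3 => if h : (i : ℕ) < 2 then (X (⟨i, h⟩ : Fin 2) : MvPolynomial (Fin 2) K) else 0)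
      ∘ (Fin.castSucc : Fin 2 → Fin 3)) = X := by
    funext j
    simp only [Function.comp_apply, Fin.val_castSucc, j.2, dif_pos]
  rw [this, aeval_X_left, AlgHom.id_apply]

theorem ev0_X2 {K : Type u} [Field K] : ev0 K (X (2 : Fin 3)) = 0 := by
  simp [ev0]

theorem ev0_map_le {K : Type u} [Field K] :
    Ideal.map (ev0 K) (Ideal.span (Set.range (X : Fin 3 → MvPolynomial (Fin 3) K))) ≤
      Ideal.span (Set.range (X : Fin 2 → MvPolynomial (Fin 2) K)) := by
  rw [Ideal.map_span, Ideal.span_le]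
  rintro _ ⟨_, ⟨i, rfl⟩, rfl⟩
  simp only [ev0, aeval_X, RingHom.coe_coe]
  split_ifs with h
  · exact Ideal.subset_span ⟨_, rfl⟩
  · exact Ideal.zero_mem _

theorem main (K : Type u) [Field K] [PerfectField K]
    (h2 : (2 : K) ≠ 0) (h3 : (3 : K) ≠ 0) (G₂ G₃ G₄ : MvPolynomial (Fin 2) K)
    (h : MvPolynomial.rename (Fin.castSucc : Fin 2 → Fin 3) G₂ * MvPolynomial.X (2 : Fin 3) ^ 2
        + 2 * MvPolynomial.rename (Fin.castSucc : Fin 2 → Fin 3) G₃ * MvPolynomial.X (2 : Fin 3)
        + MvPolynomial.rename (Fin.castSucc : Fin 2 → Fin 3) G₄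
        ∈ (Ideal.span (Set.range (MvPolynomial.X : Fin 3 → MvPolynomial (Fin 3) K))) ^ 2) :
    G₃ ^ 2 - G₂ * G₄ ∈ (Ideal.span (Set.range (MvPolynomial.X : Fin 2 → MvPolynomial (Fin 2) K))) ^ 2 := by
  -- G₄ ∈ m²
  have hG4 : G₄ ∈ (Ideal.span (Set.range (MvPolynomial.X : Fin 2 → MvPolynomial (Fin 2) K))) ^ 2 := by
    have h1 := Ideal.mem_map_of_mem (ev0 K) h
    rw [Ideal.map_pow] at h1
    have h2' := Ideal.pow_right_mono (ev0_map_le (K := K)) 2 h1
    simpa [ev0_rename, ev0_X2] using h2'
  -- G₃ ∈ m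
  have hG3 : G₃ ∈ Ideal.span (Set.range (MvPolynomial.X : Fin 2 → MvPolynomial (Fin 2) K)) := by
    have h1 := pderiv_sq_mem _ (2 : Fin 3) _ h
    have h1' := ev0_map_le (K := K) (Ideal.mem_map_of_mem (ev0 K) h1)
    have hren : ∀ G : MvPolynomial (Fin 2) K,
        pderiv (2 : Fin 3) (rename (Fin.castSucc : Fin 2 → Fin 3) G) = 0 := by
      intro G
      apply pderiv_eq_zero_of_notMem_vars
      intro hmem
      have := vars_rename (Fin.castSucc : Fin 2 → Fin 3) G hmem
      simp only [Finset.mem_image] at this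
      obtain ⟨j, _, hj⟩ := this
      have : (j.castSucc : ℕ) = 2 := by rw [hj]; rfl
      simp only [Fin.val_castSucc] at this
      omega
    simp only [map_add, pderiv_mul, hren, zero_mul, zero_add, pderiv_X_self, mul_one, map_mul,
      ev0_rename, ev0_X2, mul_zero, add_zero, map_pow, pderiv_pow]
      at h1'
    have h20 : (2 : ℕ) - 1 = 1 := rfl
    rw [h20, pow_one, mul_zero, mul_zero, zero_add, map_ofNat] at h1'
    have : G₃ = C (2 : K)⁻¹ * (2 * G₃) := by
      rw [← mul_assoc]
      have : (C (2 : K)⁻¹ : MvPolynomial (Fin 2) K) * 2 = 1 := by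
        rw [show (2 : MvPolynomial (Fin 2) K) = C (2 : K) from (map_ofNat C 2).symm, ← C_mul, inv_mul_cancel₀ h2, C_1]
      rw [this, one_mul]
    rw [this]
    exact Ideal.mul_mem_left _ _ h1'
  have := Ideal.sub_mem _ (Ideal.pow_mem_pow hG3 2) (Ideal.mul_mem_left _ G₂ hG4)
  exact this

end Helpers

/-- Over a perfect field K of characteristic different from 2 and 3, let G₂, G₃, G₄ be polynomials in
two variables x, y and consider G₂ z² + 2 G₃ z + G₄ as a polynomial in the three variables x, y, z.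
If it lies in the square of the ideal (x, y, z) — the surface it defines has a double point at the
origin — then the discriminant G₃² − G₂ G₄ lies in the square of the ideal (x, y) of K[x, y], so the
plane curve G₃² − G₂ G₄ = 0 is singular at the origin. (This is the affine-local form used in the
published proof: the surface is a quartic with a node at the centre of projection placed at infinity
on the z-axis, and the curve is the branch sextic of that projection.) -/
theorem result (K : Type u) [Field K] [PerfectField K]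
    (h2 : (2 : K) ≠ 0) (h3 : (3 : K) ≠ 0) (G₂ G₃ G₄ : MvPolynomial (Fin 2) K)
    (h : MvPolynomial.rename (Fin.castSucc : Fin 2 → Fin 3) G₂ * MvPolynomial.X (2 : Fin 3) ^ 2
        + 2 * MvPolynomial.rename (Fin.castSucc : Fin 2 → Fin 3) G₃ * MvPolynomial.X (2 : Fin 3)
        + MvPolynomial.rename (Fin.castSucc : Fin 2 → Fin 3) G₄
        ∈ (Ideal.span (Set.range (MvPolynomial.X : Fin 3 → MvPolynomial (Fin 3) K))) ^ 2) :
    G₃ ^ 2 - G₂ * G₄ ∈ (Ideal.span (Set.range (MvPolynomial.X : Fin 2 → MvPolynomial (Fin 2) K))) ^ 2 := by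
  exact main K h2 h3 G₂ G₃ G₄ h

end Groth.Agent.S17409
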