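import Groth.Statements.S17414
import Mathlib
import Groth.Agent.S17409

set_option autoImplicit false
universe u
open Prym5

namespace Groth.Agent.S17414

section Helpers
open MvPolynomial Groth.Agent.S17409

theorem mem_vars_iff {K : Type u} [Field K] {σ : Type} (p : MvPolynomial σ K) :
    p ∈ Ideal.span (Set.range (X : σ → MvPolynomial σ K)) ↔ constantCoeff p = 0 := by
  have h := mem_pow_idealOfVars_iff' (σ := σ) (R := K) 1 p
  rw [pow_one] at h
  rw [h]
  constructor
  · intro h0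
    exact h0 0 (by simp)
  · intro h0 x hx
    have : x = 0 := by
      have : x.degree = 0 := by omega
      exact (Finsupp.degree_eq_zero_iff x).1 this
    rw [this]
    exact h0

theorem rename_map_le {K : Type u} [Field K] :
    Ideal.map (rename (Fin.castSucc : Fin 2 → Fin 3) : MvPolynomial (Fin 2) K →ₐ[K] _)
      (Ideal.span (Set.range (X : Fin 2 → MvPolynomial (Fin 2) K))) ≤
      Ideal.span (Set.range (X : Fin 3 → MvPolynomial (Fin 3) K)) := by
  rw [Ideal.map_span, Ideal.span_le]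
  rintro _ ⟨_, ⟨i, rfl⟩, rfl⟩
  simp only [RingHom.coe_coe, rename_X]
  exact Ideal.subset_span ⟨_, rfl⟩

theorem main14 (K : Type u) [Field K] [PerfectField K]
    (h2 : (2 : K) ≠ 0) (h3 : (3 : K) ≠ 0) (G₂ G₃ G₄ : MvPolynomial (Fin 2) K)
    (hQ : MvPolynomial.rename (Fin.castSucc : Fin 2 → Fin 3) G₂ * MvPolynomial.X (2 : Fin 3) ^ 2
        + 2 * MvPolynomial.rename (Fin.castSucc : Fin 2 → Fin 3) G₃ * MvPolynomial.X (2 : Fin 3)
        + MvPolynomial.rename (Fin.castSucc : Fin 2 → Fin 3) G₄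
        ∈ Ideal.span (Set.range (MvPolynomial.X : Fin 3 → MvPolynomial (Fin 3) K)))
    (hD : G₃ ^ 2 - G₂ * G₄ ∈ Ideal.span (Set.range (MvPolynomial.X : Fin 2 → MvPolynomial (Fin 2) K))) :
    G₃ ^ 2 - G₂ * G₄ ∈ (Ideal.span (Set.range (MvPolynomial.X : Fin 2 → MvPolynomial (Fin 2) K))) ^ 2 ↔
      (MvPolynomial.rename (Fin.castSucc : Fin 2 → Fin 3) G₂ * MvPolynomial.X (2 : Fin 3) ^ 2
          + 2 * MvPolynomial.rename (Fin.castSucc : Fin 2 → Fin 3) G₃ * MvPolynomial.X (2 : Fin 3)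
          + MvPolynomial.rename (Fin.castSucc : Fin 2 → Fin 3) G₄
          ∈ (Ideal.span (Set.range (MvPolynomial.X : Fin 3 → MvPolynomial (Fin 3) K))) ^ 2 ∨
        (G₂ ∈ Ideal.span (Set.range (MvPolynomial.X : Fin 2 → MvPolynomial (Fin 2) K)) ∧
          G₃ ∈ Ideal.span (Set.range (MvPolynomial.X : Fin 2 → MvPolynomial (Fin 2) K)) ∧
          G₄ ∈ Ideal.span (Set.range (MvPolynomial.X : Fin 2 → MvPolynomial (Fin 2) K)))) := by
  set m₂ := Ideal.span (Set.range (MvPolynomial.X : Fin 2 → MvPolynomial (Fin 2) K)) with hm₂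
  set m₃ := Ideal.span (Set.range (MvPolynomial.X : Fin 3 → MvPolynomial (Fin 3) K)) with hm₃
  have hG4 : G₄ ∈ m₂ := by
    have h1 := ev0_map_le (K := K) (Ideal.mem_map_of_mem (ev0 K) hQ)
    simpa [ev0_rename, ev0_X2] using h1
  have hG3 : G₃ ∈ m₂ := by
    rw [hm₂, mem_vars_iff] at hD hG4 ⊢
    simp only [map_sub, map_pow, map_mul, hG4, mul_zero, sub_zero] at hD
    exact pow_eq_zero_iff (two_ne_zero) |>.1 hD
  have hz : (X (2 : Fin 3) : MvPolynomial (Fin 3) K) ∈ m₃ := Ideal.subset_span ⟨_, rfl⟩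
  constructor
  · intro hDD
    by_cases hc : constantCoeff G₂ = 0
    · right
      exact ⟨(mem_vars_iff G₂).2 hc, hG3, hG4⟩
    · left
      have hG2' : G₂ - C (constantCoeff G₂) ∈ m₂ := by
        rw [hm₂, mem_vars_iff, map_sub, constantCoeff_C, sub_self]
      have h1 : G₂ * G₄ ∈ m₂ ^ 2 := by
        have : G₂ * G₄ = G₃ ^ 2 - (G₃ ^ 2 - G₂ * G₄) := by ring
        rw [this]
        exact Ideal.sub_mem _ (Ideal.pow_mem_pow hG3 2) hDD
      have h2' : C (constantCoeff G₂) * G₄ ∈ m₂ ^ 2 := by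
        have : C (constantCoeff G₂) * G₄ = G₂ * G₄ - (G₂ - C (constantCoeff G₂)) * G₄ := by ring
        rw [this]
        refine Ideal.sub_mem _ h1 ?_
        rw [pow_two]
        exact Ideal.mul_mem_mul hG2' hG4
      have hG4' : G₄ ∈ m₂ ^ 2 := by
        have : G₄ = C (constantCoeff G₂)⁻¹ * (C (constantCoeff G₂) * G₄) := by
          rw [← mul_assoc, ← C_mul, inv_mul_cancel₀ hc, C_1, one_mul]
        rw [this]
        exact Ideal.mul_mem_left _ _ h2'
      refine Ideal.add_mem _ (Ideal.add_mem _ ?_ ?_) ?_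
      · exact Ideal.mul_mem_left _ _ (Ideal.pow_mem_pow hz 2)
      · rw [pow_two, mul_assoc]
        refine Ideal.mul_mem_left _ _ (Ideal.mul_mem_mul ?_ hz)
        exact rename_map_le (K := K) (Ideal.mem_map_of_mem _ hG3)
      · have := Ideal.mem_map_of_mem (rename (Fin.castSucc : Fin 2 → Fin 3) :
          MvPolynomial (Fin 2) K →ₐ[K] _) hG4'
        rw [Ideal.map_pow] at this
        exact Ideal.pow_right_mono (rename_map_le (K := K)) 2 this
  · rintro (h | ⟨hG2, _, _⟩)
    · exact Groth.Agent.S17409.main K h2 h3 G₂ G₃ G₄ h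
    · refine Ideal.sub_mem _ (Ideal.pow_mem_pow hG3 2) ?_
      rw [pow_two]
      exact Ideal.mul_mem_mul hG2 hG4

end Helpers

/-- Over a perfect field K of characteristic different from 2 and 3, let G₂, G₃, G₄ be polynomials in x,
y, let h = G₂ z² + 2 G₃ z + G₄ in K[x, y, z] and D = G₃² − G₂ G₄ in K[x, y]. Suppose h ∈ (x, y, z) —
the origin Q lies on the surface h = 0 — and D ∈ (x, y) — the image of Q under (x, y, z) ↦ (x, y)
lies on the discriminant curve D = 0. Then D ∈ (x, y)², i.e. the image point is singular on the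
discriminant curve, if and only if either h ∈ (x, y, z)², i.e. Q is a singular point of the surface,
or G₂, G₃, G₄ ∈ (x, y), i.e. Q lies on all three cones G₂ = G₃ = G₄ = 0. (Affine-local form, in a
chart where the node projected from sits at infinity on the z-axis and Q at the origin, of the
published claim: for a point Q ≠ P of the nodal quartic whose projection lies on the branch sextic,
the projection is singular on the sextic exactly when Q is singular on the quartic or lies on the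
cones u₂ = u₃ = u₄ = 0.) -/
theorem result (K : Type u) [Field K] [PerfectField K]
    (h2 : (2 : K) ≠ 0) (h3 : (3 : K) ≠ 0) (G₂ G₃ G₄ : MvPolynomial (Fin 2) K)
    (hQ : MvPolynomial.rename (Fin.castSucc : Fin 2 → Fin 3) G₂ * MvPolynomial.X (2 : Fin 3) ^ 2
        + 2 * MvPolynomial.rename (Fin.castSucc : Fin 2 → Fin 3) G₃ * MvPolynomial.X (2 : Fin 3)
        + MvPolynomial.rename (Fin.castSucc : Fin 2 → Fin 3) G₄
        ∈ Ideal.span (Set.range (MvPolynomial.X : Fin 3 → MvPolynomial (Fin 3) K)))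
    (hD : G₃ ^ 2 - G₂ * G₄ ∈ Ideal.span (Set.range (MvPolynomial.X : Fin 2 → MvPolynomial (Fin 2) K))) :
    G₃ ^ 2 - G₂ * G₄ ∈ (Ideal.span (Set.range (MvPolynomial.X : Fin 2 → MvPolynomial (Fin 2) K))) ^ 2 ↔
      (MvPolynomial.rename (Fin.castSucc : Fin 2 → Fin 3) G₂ * MvPolynomial.X (2 : Fin 3) ^ 2
          + 2 * MvPolynomial.rename (Fin.castSucc : Fin 2 → Fin 3) G₃ * MvPolynomial.X (2 : Fin 3)
          + MvPolynomial.rename (Fin.castSucc : Fin 2 → Fin 3) G₄
          ∈ (Ideal.span (Set.range (MvPolynomial.X : Fin 3 → MvPolynomial (Fin 3) K))) ^ 2 ∨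
        (G₂ ∈ Ideal.span (Set.range (MvPolynomial.X : Fin 2 → MvPolynomial (Fin 2) K)) ∧
          G₃ ∈ Ideal.span (Set.range (MvPolynomial.X : Fin 2 → MvPolynomial (Fin 2) K)) ∧
          G₄ ∈ Ideal.span (Set.range (MvPolynomial.X : Fin 2 → MvPolynomial (Fin 2) K)))) := by
  exact main14 K h2 h3 G₂ G₃ G₄ hQ hD

end Groth.Agent.S17414
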