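import Groth.Statements.S1742
import Groth.Agent.Helper2.DepthCM
import Groth.Agent.Helper2.DepthCM3

set_option autoImplicit false
universe u
open LocCoh

namespace Groth.Agent.S1742

open Pointwise in
/-- replacing an element by a unit multiple: the quotient modules agree -/
lemma quotSMulTop_unit_equiv {R : Type*} [CommRing R] (N : Type*) [AddCommGroup N] [Module R N]
    (r r' u : R) (hu : IsUnit u) (h : r * u = r') :
    Nonempty (QuotSMulTop r N ≃ₗ[R] QuotSMulTop r' N) := by
  have heq : r • (⊤ : Submodule R N) = r' • (⊤ : Submodule R N) := by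
    obtain ⟨v, rfl⟩ := hu
    ext m
    rw [Submodule.mem_smul_pointwise_iff_exists, Submodule.mem_smul_pointwise_iff_exists]
    constructor
    · rintro ⟨n, -, rfl⟩
      refine ⟨(↑v⁻¹ : R) • n, trivial, ?_⟩
      rw [← h, smul_smul, mul_assoc, Units.mul_inv, mul_one]
    · rintro ⟨n, -, rfl⟩
      refine ⟨(v : R) • n, trivial, ?_⟩
      rw [← h, smul_smul]
  exact ⟨Submodule.quotEquivOfEq _ _ heq⟩

open RingTheory.Sequence in
/-- a weakly regular sequence in `IA_p` can be replaced by one coming from `I`. -/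
lemma exists_lift_seq {A : Type u} [CommRing A] (I : Ideal A) (S : Submonoid A) (B : Type u)
    [CommRing B] [Algebra A B] [IsLocalization S B] :
    ∀ (rs : List B) (N : Type u) [AddCommGroup N] [Module B N],
      (∀ r ∈ rs, r ∈ I.map (algebraMap A B)) → IsWeaklyRegular N rs →
      ∃ as : List A, as.length = rs.length ∧ (∀ a ∈ as, a ∈ I) ∧
        IsWeaklyRegular N (as.map (algebraMap A B)) := by
  intro rs
  induction rs with
  | nil => intro N _ _ _ _; exact ⟨[], rfl, by simp, by simpa using IsWeaklyRegular.nil B N⟩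
  | cons r rs ih =>
    intro N _ _ hmem hreg
    rw [isWeaklyRegular_cons_iff] at hreg
    obtain ⟨as, hlen, hasI, hasreg⟩ := ih (QuotSMulTop r N)
      (fun x hx => hmem x (List.mem_cons_of_mem _ hx)) hreg.2
    have hr := hmem r List.mem_cons_self
    rw [IsLocalization.mem_map_algebraMap_iff S] at hr
    obtain ⟨⟨a, s⟩, hrs⟩ := hr
    have hu : IsUnit (algebraMap A B (s : A)) := IsLocalization.map_units B s
    obtain ⟨e⟩ := quotSMulTop_unit_equiv N r (algebraMap A B a) (algebraMap A B (s : A)) hu hrs
    refine ⟨(a : A) :: as, by simp [hlen], ?_, ?_⟩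
    · intro x hx
      rcases List.mem_cons.1 hx with rfl | hx
      · exact a.2
      · exact hasI x hx
    · rw [List.map_cons, isWeaklyRegular_cons_iff]
      refine ⟨?_, (e.isWeaklyRegular_congr _).1 hasreg⟩
      rw [← hrs]
      exact hreg.1.mul (hu.isSMulRegular N)


/-- spreading out regularity of a single element -/
lemma reg_spread {A : Type u} [CommRing A] [IsNoetherianRing A] (p : Ideal A) [p.IsPrime] (a : A)
    (M : Type u) [AddCommGroup M] [Module A M] [Module.Finite A M]
    (N : Type u) [AddCommGroup N] [Module A N] (g : M →ₗ[A] N) [IsLocalizedModule p.primeCompl g]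
    (h : IsSMulRegular N a) :
    ∃ f : A, f ∉ p ∧ ∀ (q : Ideal A) [q.IsPrime], f ∉ q →
      ∀ (N' : Type u) [AddCommGroup N'] [Module A N'] (g' : M →ₗ[A] N')
        [IsLocalizedModule q.primeCompl g'], IsSMulRegular N' a := by
  classical
  set K : Submodule A M := LinearMap.ker (LinearMap.lsmul A M a) with hK
  have hKfg : K.FG := IsNoetherian.noetherian K
  obtain ⟨t, ht⟩ := hKfg
  have h1 : ∀ k ∈ K, ∃ s : p.primeCompl, s • k = 0 := by
    intro k hk
    have hk' : a • k = 0 := by simpa [hK] using hk
    have h2 : a • g k = 0 := by rw [← map_smul, hk', map_zero]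
    have h3 : g k = 0 := by
      apply h
      simpa using h2
    exact (IsLocalizedModule.eq_zero_iff p.primeCompl g).1 h3
  have h2 : ∀ k : t, ∃ s : p.primeCompl, s • (k : M) = 0 := fun k =>
    h1 k (ht ▸ Submodule.subset_span k.2)
  choose s hs using h2
  let f : p.primeCompl := ∏ k : t, s k
  have hf : ∀ k ∈ K, (f : A) • k = 0 := by
    intro k hk
    rw [← ht] at hk
    induction hk using Submodule.span_induction with
    | mem x hx =>
      have h3 : s ⟨x, hx⟩ ∣ f := Finset.dvd_prod_of_mem _ (Finset.mem_univ _)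
      obtain ⟨c, hc⟩ := h3
      have h4 := hs ⟨x, hx⟩
      have : (f : A) • x = (c : A) • ((s ⟨x, hx⟩ : A) • x) := by
        rw [hc, smul_smul]; congr 1; push_cast; ring
      rw [this]
      have h5 : ((s ⟨x, hx⟩ : A) • x) = 0 := h4
      rw [h5, smul_zero]
    | zero => simp
    | add x y _ _ hx hy => rw [smul_add, hx, hy, add_zero]
    | smul c x _ hx => rw [smul_comm, hx, smul_zero]
  refine ⟨f, f.2, ?_⟩
  intro q _ hfq N' _ _ g' _
  rw [isSMulRegular_iff_right_eq_zero_of_smul]
  intro n hn
  obtain ⟨⟨m, s'⟩, rfl⟩ := IsLocalizedModule.mk'_surjective q.primeCompl g' n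
  simp only [Function.uncurry_apply_pair] at hn ⊢
  rw [← IsLocalizedModule.mk'_smul, IsLocalizedModule.mk'_eq_zero'] at hn
  obtain ⟨t', ht'⟩ := hn
  have h6 : (t' : A) • m ∈ K := by
    rw [hK, LinearMap.mem_ker]
    simp only [LinearMap.lsmul_apply]
    rw [smul_comm]; exact ht'
  have h7 := hf _ h6
  rw [IsLocalizedModule.mk'_eq_zero']
  refine ⟨⟨f * t', q.primeCompl.mul_mem hfq t'.2⟩, ?_⟩
  change ((f : A) * (t' : A)) • m = 0
  rw [mul_smul]; exact h7

open RingTheory.Sequence in
lemma seq_spread {A : Type u} [CommRing A] [IsNoetherianRing A] (p : Ideal A) [p.IsPrime] :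
    ∀ (as : List A) (M : Type u) [AddCommGroup M] [Module A M] [Module.Finite A M]
    (N : Type u) [AddCommGroup N] [Module A N] [Module (Localization.AtPrime p) N]
    [IsScalarTower A (Localization.AtPrime p) N] (g : M →ₗ[A] N)
    (_ : IsBaseChange (Localization.AtPrime p) g),
    IsWeaklyRegular N (as.map (algebraMap A (Localization.AtPrime p))) →
    ∃ f : A, f ∉ p ∧ ∀ (q : Ideal A) [q.IsPrime], f ∉ q →
      ∀ (N' : Type u) [AddCommGroup N'] [Module A N'] [Module (Localization.AtPrime q) N']
        [IsScalarTower A (Localization.AtPrime q) N'] (g' : M →ₗ[A] N')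
        (_ : IsBaseChange (Localization.AtPrime q) g'),
        IsWeaklyRegular N' (as.map (algebraMap A (Localization.AtPrime q))) := by
  intro as
  induction as with
  | nil =>
    intro M _ _ _ N _ _ _ _ g _ _
    refine ⟨1, fun h => ‹p.IsPrime›.ne_top ((Ideal.eq_top_iff_one _).2 h), ?_⟩
    intro q _ _ N' _ _ _ _ g' _
    simp
  | cons a as ih =>
    intro M _ _ _ N _ _ _ _ g hg hreg
    rw [List.map_cons, isWeaklyRegular_cons_iff] at hreg
    have hloc : IsLocalizedModule p.primeCompl g :=
      (isLocalizedModule_iff_isBaseChange p.primeCompl (Localization.AtPrime p) g).2 hg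
    have hreg1 : IsSMulRegular N a := (isSMulRegular_algebraMap_iff _).1 hreg.1
    obtain ⟨f₁, hf₁, H₁⟩ := reg_spread p a M N g hreg1
    let e := (QuotSMulTop.algebraMapTensorEquivTensorQuotSMulTop a M (Localization.AtPrime p)).symm ≪≫ₗ
      QuotSMulTop.congr ((algebraMap A (Localization.AtPrime p)) a) hg.equiv
    have hg₂ : IsBaseChange (Localization.AtPrime p) <|
        e.toLinearMap.restrictScalars A ∘ₗ
          TensorProduct.mk A (Localization.AtPrime p) (QuotSMulTop a M) 1 :=
      IsBaseChange.of_equiv e (fun _ ↦ by simp)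
    obtain ⟨f₂, hf₂, H₂⟩ := ih (QuotSMulTop a M) _ _ hg₂ hreg.2
    refine ⟨f₁ * f₂, fun h => (‹p.IsPrime›.mem_or_mem h).elim hf₁ hf₂, ?_⟩
    intro q _ hq N' _ _ _ _ g' hg'
    have hq1 : f₁ ∉ q := fun h => hq (q.mul_mem_right _ h)
    have hq2 : f₂ ∉ q := fun h => hq (q.mul_mem_left _ h)
    have hloc' : IsLocalizedModule q.primeCompl g' :=
      (isLocalizedModule_iff_isBaseChange q.primeCompl (Localization.AtPrime q) g').2 hg'
    rw [List.map_cons, isWeaklyRegular_cons_iff]
    refine ⟨(isSMulRegular_algebraMap_iff _).2 (H₁ q hq1 N' g'), ?_⟩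
    let e' := (QuotSMulTop.algebraMapTensorEquivTensorQuotSMulTop a M (Localization.AtPrime q)).symm ≪≫ₗ
      QuotSMulTop.congr ((algebraMap A (Localization.AtPrime q)) a) hg'.equiv
    have hg₂' : IsBaseChange (Localization.AtPrime q) <|
        e'.toLinearMap.restrictScalars A ∘ₗ
          TensorProduct.mk A (Localization.AtPrime q) (QuotSMulTop a M) 1 :=
      IsBaseChange.of_equiv e' (fun _ ↦ by simp)
    exact H₂ q hq2 _ _ hg₂'

/-- Let A be a Noetherian ring, I an ideal, M a finite A-module and p a prime containing I such that the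
IA_p-depth of M_p is a finite number e. Then there is an open subset U of Spec A meeting V(p) such
that the IA_q-depth of M_q is at least e for every q in U ∩ V(p). -/
theorem result (A : Type u) [CommRing A] [IsNoetherianRing A] (I : Ideal A) (M : Type u) [AddCommGroup M] [Module A M] [Module.Finite A M] (p : PrimeSpectrum A) (hp : I ≤ p.asIdeal) (e : ℕ) (he : LocCoh.idealDepth (I.map (algebraMap A (Localization.AtPrime p.asIdeal))) (LocalizedModule p.asIdeal.primeCompl M) = e) : ∃ U : Set (PrimeSpectrum A), IsOpen U ∧ (U ∩ PrimeSpectrum.zeroLocus (p.asIdeal : Set A)).Nonempty ∧ ∀ q : PrimeSpectrum A, q ∈ U → p ≤ q → (e : ℕ∞) ≤ LocCoh.idealDepth (I.map (algebraMap A (Localization.AtPrime q.asIdeal))) (LocalizedModule q.asIdeal.primeCompl M) := by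
  have hIM : (I.map (algebraMap A (Localization.AtPrime p.asIdeal))) •
      (⊤ : Submodule (Localization.AtPrime p.asIdeal) (LocalizedModule p.asIdeal.primeCompl M)) ≠ ⊤ := by
    intro h
    unfold LocCoh.idealDepth at he
    rw [if_pos h] at he
    exact ENat.top_ne_coe e he
  obtain ⟨rs, h1, h2, -, h4⟩ := Groth.Agent.Helper2.DepthCM.exists_length_eq_idealDepth
    (I.map (algebraMap A (Localization.AtPrime p.asIdeal))) (LocalizedModule p.asIdeal.primeCompl M) hIM
  rw [he] at h4
  have hlen : rs.length = e := by exact_mod_cast h4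
  obtain ⟨as, haslen, hasI, hasreg⟩ := exists_lift_seq I p.asIdeal.primeCompl
    (Localization.AtPrime p.asIdeal) rs (LocalizedModule p.asIdeal.primeCompl M) h2 h1
  obtain ⟨f, hf, H⟩ := seq_spread p.asIdeal as M (LocalizedModule p.asIdeal.primeCompl M)
    (LocalizedModule.mkLinearMap p.asIdeal.primeCompl M)
    (IsLocalizedModule.isBaseChange p.asIdeal.primeCompl (Localization.AtPrime p.asIdeal) _) hasreg
  refine ⟨(PrimeSpectrum.basicOpen f : Set (PrimeSpectrum A)), (PrimeSpectrum.basicOpen f).2, ?_, ?_⟩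
  · refine ⟨p, ?_, ?_⟩
    · exact hf
    · rw [PrimeSpectrum.mem_zeroLocus]
  · intro q hq hpq
    have hfq : f ∉ q.asIdeal := hq
    have h5 := H q.asIdeal hfq (LocalizedModule q.asIdeal.primeCompl M)
      (LocalizedModule.mkLinearMap q.asIdeal.primeCompl M)
      (IsLocalizedModule.isBaseChange q.asIdeal.primeCompl (Localization.AtPrime q.asIdeal) _)
    have h6 := Groth.Agent.Helper2.DepthCM3.length_le_idealDepth
      (I := I.map (algebraMap A (Localization.AtPrime q.asIdeal))) _ h5 (by
        intro x hx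
        obtain ⟨a, ha, rfl⟩ := List.mem_map.1 hx
        exact Ideal.mem_map_of_mem _ (hasI a ha))
    rw [List.length_map, haslen, hlen] at h6
    exact h6

end Groth.Agent.S1742
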