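import Groth.Statements.S17444
import Mathlib.Algebra.Ring.GeomSum
import Mathlib.Tactic.Abel

set_option autoImplicit false
universe u v
open SSRed

namespace Groth.Agent.S17444

/-- Let K be a field of characteristic zero, V a K-vector space and g a K-linear endomorphism of V such
that g - 1 is nilpotent (a unipotent automorphism). Then for every integer n > 0 the endomorphisms
gⁿ - 1 and g - 1 have the same kernel: a vector fixed by gⁿ is fixed by g. (The published statement
assumes V finite-dimensional; this row allows any V.) -/
theorem result (K : Type u) (V : Type v) [Field K] [CharZero K]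
    [AddCommGroup V] [Module K V] (g : Module.End K V) (hg : IsNilpotent (g - 1)) (n : ℕ) (hn : 0 < n) :
    LinearMap.ker (g ^ n - 1) = LinearMap.ker (g - 1) := by
  have hcg : ∀ i : ℕ, Commute (g ^ i) (g - 1) := fun i =>
    ((Commute.refl g).pow_left i).sub_right (Commute.one_right _)
  set h : Module.End K V := ∑ i ∈ Finset.range n, g ^ i with hh
  have hfac : g ^ n - 1 = h * (g - 1) := (geom_sum_mul g n).symm
  set q : Module.End K V := ∑ i ∈ Finset.range n, ∑ j ∈ Finset.range i, g ^ j with hq
  have hqc : Commute q (g - 1) :=
    Commute.sum_left _ _ _ fun i _ => Commute.sum_left _ _ _ fun j _ => hcg j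
  have hdecomp : h = (n : K) • (1 : Module.End K V) + q * (g - 1) := by
    rw [hq, Finset.sum_mul]
    have : ∀ i ∈ Finset.range n, (∑ j ∈ Finset.range i, g ^ j) * (g - 1) = g ^ i - 1 :=
      fun i _ => geom_sum_mul g i
    rw [Finset.sum_congr rfl this, Finset.sum_sub_distrib, Finset.sum_const, Finset.card_range,
      ← Nat.cast_smul_eq_nsmul K]
    abel
  have hnil : IsNilpotent (q * (g - 1)) := hqc.isNilpotent_mul_left hg
  have hunit : IsUnit h := by
    rw [hdecomp]
    refine hnil.isUnit_add_left_of_commute ?_ ?_
    · have hn0 : (n : K) ≠ 0 := Nat.cast_ne_zero.mpr (by omega)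
      have h1 := (IsUnit.mk0 _ hn0).map (algebraMap K (Module.End K V))
      rwa [Algebra.algebraMap_eq_smul_one] at h1
    · exact (Commute.one_right _).smul_right _
  ext v
  simp only [LinearMap.mem_ker]
  rw [hfac, Module.End.mul_apply]
  obtain ⟨u, hu⟩ := hunit
  constructor
  · intro hv
    have := congrArg (↑u⁻¹ : Module.End K V) hv
    rw [← hu, ← Module.End.mul_apply, Units.inv_mul, map_zero] at this
    exact this
  · intro hv
    rw [hv, map_zero]

end Groth.Agent.S17444
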