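import Groth.Statements.S17445
import Mathlib

set_option autoImplicit false
open Finset
open SSRed

namespace Groth.Agent.S17445

lemma val_prod (p : ℕ) [Fact p.Prime] (s : Finset ℕ) (f : ℕ → ℕ) (hf : ∀ a ∈ s, f a ≠ 0) :
    padicValNat p (∏ a ∈ s, f a) = ∑ a ∈ s, padicValNat p (f a) := by
  classical
  induction s using Finset.induction_on with
  | empty => simp
  | insert a s ha ih =>
    rw [prod_insert ha, sum_insert ha,
      padicValNat.mul (hf a (mem_insert_self _ _))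
        (prod_ne_zero_iff.mpr fun b hb => hf b (mem_insert_of_mem hb)),
      ih fun b hb => hf b (mem_insert_of_mem hb)]

lemma val_factorial (p : ℕ) [Fact p.Prime] (g : ℕ) :
    padicValNat p g.factorial = ∑ a ∈ Icc 1 g, padicValNat p a := by
  induction g with
  | zero => simp
  | succ g ih =>
    rw [Nat.factorial_succ, padicValNat.mul (by positivity) (Nat.factorial_ne_zero g), ih,
      Finset.sum_Icc_succ_top (by omega), add_comm]

lemma term_ne_zero {ℓ a : ℕ} (hℓ : 2 ≤ ℓ) (ha : 1 ≤ a) : ℓ ^ (2 * a) - 1 ≠ 0 := by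
  have : 2 ^ (2 * a) ≤ ℓ ^ (2 * a) := Nat.pow_le_pow_left hℓ _
  have : 2 ^ 2 ≤ 2 ^ (2 * a) := Nat.pow_le_pow_right (by norm_num) (by omega)
  omega

/-- lower bound at 2 -/
lemma two_lower {ℓ a : ℕ} (hℓ : 2 ≤ ℓ) (hodd : ¬ 2 ∣ ℓ) (ha : 1 ≤ a) :
    3 + padicValNat 2 a ≤ padicValNat 2 (ℓ ^ (2 * a) - 1) := by
  have h := padicValNat.pow_two_sub_one_ge (x := ℓ) (n := 2 * a) (by omega) hodd (by omega)
    (even_two_mul a)
  rw [padicValNat.mul (by norm_num) (by omega)] at h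
  simp at h
  omega

/-- exact value at 2 when ℓ ≡ 3 mod 8 -/
lemma two_exact {ℓ a : ℕ} (hℓ : ℓ % 8 = 3) (ha : 1 ≤ a) :
    padicValNat 2 (ℓ ^ (2 * a) - 1) = 3 + padicValNat 2 a := by
  have hodd : ¬ 2 ∣ ℓ := by omega
  have h := padicValNat.pow_two_sub_one (x := ℓ) (n := 2 * a) (by omega) hodd (by omega)
    (even_two_mul a)
  rw [padicValNat.mul (by norm_num) (by omega)] at h
  obtain ⟨t, rfl⟩ : ∃ t, ℓ = 8 * t + 3 := ⟨ℓ / 8, by omega⟩
  have h1 : padicValNat 2 (8 * t + 3 + 1) = 2 := by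
    have : 8 * t + 3 + 1 = 2 ^ 2 * (2 * t + 1) := by ring
    rw [this, padicValNat.mul (by norm_num) (by omega), padicValNat.prime_pow,
      padicValNat.eq_zero_of_not_dvd (by omega)]
  have h2 : padicValNat 2 (8 * t + 3 - 1) = 1 := by
    have : 8 * t + 3 - 1 = 2 ^ 1 * (4 * t + 1) := by omega
    rw [this, padicValNat.mul (by norm_num) (by omega), padicValNat.prime_pow,
      padicValNat.eq_zero_of_not_dvd (by omega)]
  rw [h1, h2] at h
  simp at h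
  omega

lemma fermat {p ℓ : ℕ} [Fact p.Prime] (hpl : ¬ p ∣ ℓ) : p ∣ ℓ ^ (p - 1) - 1 := by
  have h : ((ℓ : ZMod p)) ^ (p - 1) = 1 :=
    ZMod.pow_card_sub_one_eq_one (by rwa [Ne, ZMod.natCast_eq_zero_iff])
  have h1 : 1 ≤ ℓ ^ (p - 1) := Nat.one_le_pow _ _ (Nat.pos_of_ne_zero (by rintro rfl; simp at hpl))
  have : ((ℓ ^ (p - 1) - 1 : ℕ) : ZMod p) = 0 := by
    rw [Nat.cast_sub h1, Nat.cast_pow, h]; simp
  exact (ZMod.natCast_eq_zero_iff _ _).mp this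

lemma one_lt_pow_pred {p ℓ : ℕ} [hp : Fact p.Prime] (hp2 : p ≠ 2) (hℓ : 2 ≤ ℓ) :
    1 < ℓ ^ (p - 1) := by
  have := hp.out.two_le
  exact Nat.one_lt_pow (by omega) (by omega)

lemma odd_val {p ℓ h k : ℕ} [hp : Fact p.Prime] (hp2 : p ≠ 2) (hh : p - 1 = 2 * h)
    (hℓ : 2 ≤ ℓ) (hpl : ¬ p ∣ ℓ) (hk : 1 ≤ k) :
    padicValNat p (ℓ ^ (2 * (k * h)) - 1) =
      padicValNat p (ℓ ^ (p - 1) - 1) + padicValNat p k := by
  have hodd : Odd p := hp.out.odd_of_ne_two hp2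
  have hx : ¬ p ∣ ℓ ^ (p - 1) := fun hd => hpl (hp.out.dvd_of_dvd_pow hd)
  have := padicValNat.pow_sub_pow (p := p) hodd (x := ℓ ^ (p - 1)) (y := 1)
    (one_lt_pow_pred hp2 hℓ) (fermat hpl) hx (n := k) (by omega)
  rw [one_pow] at this
  rw [← this, ← pow_mul, hh]
  congr 2
  ring

lemma odd_lower {p ℓ h k : ℕ} [hp : Fact p.Prime] (hp2 : p ≠ 2) (hh : p - 1 = 2 * h)
    (hℓ : 2 ≤ ℓ) (hpl : ¬ p ∣ ℓ) (hk : 1 ≤ k) :
    1 + padicValNat p k ≤ padicValNat p (ℓ ^ (2 * (k * h)) - 1) := by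
  rw [odd_val hp2 hh hℓ hpl hk]
  have h1 : 1 ≤ padicValNat p (ℓ ^ (p - 1) - 1) :=
    one_le_padicValNat_of_dvd (by have := one_lt_pow_pred (p := p) hp2 hℓ; omega) (fermat hpl)
  omega

/-- Reindexing: sum over multiples of `h` in `[1, g]`. -/
lemma sum_multiples (f : ℕ → ℕ) (g h : ℕ) (hh : 1 ≤ h) :
    ∑ a ∈ (Icc 1 g).filter (fun a => h ∣ a), f a = ∑ k ∈ Icc 1 (g / h), f (k * h) := by
  have himg : (Icc 1 g).filter (fun a => h ∣ a) = (Icc 1 (g / h)).image (fun k => k * h) := by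
    ext a
    simp only [mem_filter, mem_Icc, mem_image]
    constructor
    · rintro ⟨⟨h1, h2⟩, k, rfl⟩
      refine ⟨k, ⟨?_, ?_⟩, by ring⟩
      · rcases Nat.eq_zero_or_pos k with rfl | hk
        · simp at h1
        · exact hk
      · rw [Nat.le_div_iff_mul_le (by omega)]
        rwa [mul_comm]
    · rintro ⟨k, ⟨h1, h2⟩, rfl⟩
      refine ⟨⟨Nat.mul_pos (by omega) (by omega), ?_⟩, Dvd.intro_left _ rfl⟩
      calc k * h ≤ g / h * h := Nat.mul_le_mul_right _ h2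
        _ ≤ g := Nat.div_mul_le_self _ _
  rw [himg, sum_image]
  intro x _ y _ hxy
  exact Nat.eq_of_mul_eq_mul_right (by omega) hxy

lemma sum_lower (f : ℕ → ℕ) (g h : ℕ) (hh : 1 ≤ h) :
    ∑ k ∈ Icc 1 (g / h), f (k * h) ≤ ∑ a ∈ Icc 1 g, f a := by
  rw [← sum_multiples f g h hh]
  exact sum_le_sum_of_subset (filter_subset _ _)

lemma sum_exact (f : ℕ → ℕ) (g h : ℕ) (hh : 1 ≤ h) (hf : ∀ a, 1 ≤ a → ¬ h ∣ a → f a = 0) :
    ∑ a ∈ Icc 1 g, f a = ∑ k ∈ Icc 1 (g / h), f (k * h) := by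
  rw [← sum_multiples f g h hh, sum_filter]
  apply sum_congr rfl
  intro a ha
  split_ifs with hd
  · rfl
  · exact hf a (mem_Icc.mp ha).1 hd

/-- Existence of a prime `ℓ > B` generating `(ZMod (p^2))ˣ`, for an odd prime `p`. -/
lemma exists_gen_prime (p : ℕ) [hp : Fact p.Prime] (hp2 : p ≠ 2) (B : ℕ) :
    ∃ ℓ, B < ℓ ∧ ℓ.Prime ∧ ¬ p ∣ ℓ ∧ orderOf ((ℓ : ZMod (p ^ 2))) = p * (p - 1) := by
  haveI : NeZero (p ^ 2) := ⟨pow_ne_zero _ hp.out.ne_zero⟩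
  haveI := ZMod.isCyclic_units_of_prime_pow p hp.out hp2 2
  obtain ⟨u, hu⟩ := isCyclic_iff_exists_orderOf_eq_natCard.mp this
  obtain ⟨ℓ, hℓB, hℓ, hℓu⟩ := Nat.forall_exists_prime_gt_and_eq_mod (q := p ^ 2)
    (a := (u : ZMod (p ^ 2))) u.isUnit B
  refine ⟨ℓ, hℓB, hℓ, ?_, ?_⟩
  · have hun : IsUnit ((ℓ : ZMod (p ^ 2))) := hℓu ▸ u.isUnit
    rw [ZMod.isUnit_iff_coprime, Nat.coprime_pow_right_iff (by norm_num)] at hun
    intro hd
    have := Nat.eq_one_of_dvd_coprimes hun hd (dvd_refl p)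
    exact hp.out.one_lt.ne' this
  · rw [hℓu, orderOf_units, hu, Nat.card_eq_fintype_card, ZMod.card_units_eq_totient,
      Nat.totient_prime_pow hp.out (by norm_num)]
    simp

lemma gen_val_one {p ℓ : ℕ} [hp : Fact p.Prime] (hp2 : p ≠ 2) (hℓ : 2 ≤ ℓ) (hpl : ¬ p ∣ ℓ)
    (hord : orderOf ((ℓ : ZMod (p ^ 2))) = p * (p - 1)) :
    padicValNat p (ℓ ^ (p - 1) - 1) = 1 := by
  have hlt := one_lt_pow_pred (p := p) hp2 hℓ
  have hne : ℓ ^ (p - 1) - 1 ≠ 0 := by omega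
  have h1 : 1 ≤ padicValNat p (ℓ ^ (p - 1) - 1) := one_le_padicValNat_of_dvd hne (fermat hpl)
  have h2 : ¬ p ^ 2 ∣ ℓ ^ (p - 1) - 1 := by
    intro hd
    have h3 : ((ℓ : ZMod (p ^ 2))) ^ (p - 1) = 1 := by
      have h4 : ((ℓ ^ (p - 1) - 1 : ℕ) : ZMod (p ^ 2)) = 0 := (ZMod.natCast_eq_zero_iff _ _).mpr hd
      rw [Nat.cast_sub hlt.le, Nat.cast_pow, Nat.cast_one, sub_eq_zero] at h4
      exact h4
    have h5 := orderOf_dvd_of_pow_eq_one h3
    rw [hord] at h5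
    have hp1 : 0 < p - 1 := by have := hp.out.two_le; omega
    have := Nat.le_of_dvd hp1 h5
    have := hp.out.two_le
    nlinarith
  have h3 : padicValNat p (ℓ ^ (p - 1) - 1) < 2 := by
    by_contra hge
    push Not at hge
    exact h2 ((padicValNat_dvd_iff_le hne).mpr hge)
  omega

lemma gen_not_dvd {p ℓ h a : ℕ} [hp : Fact p.Prime] (hh : p - 1 = 2 * h) (hℓ : 2 ≤ ℓ)
    (hord : orderOf ((ℓ : ZMod (p ^ 2))) = p * (p - 1)) (hha : ¬ h ∣ a) :
    padicValNat p (ℓ ^ (2 * a) - 1) = 0 := by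
  apply padicValNat.eq_zero_of_not_dvd
  intro hd
  have h1 : 1 ≤ ℓ ^ (2 * a) := Nat.one_le_pow _ _ (by omega)
  have hz : (p : ℤ) ∣ ((ℓ : ℤ) ^ (2 * a)) - 1 := by
    have := Int.natCast_dvd_natCast.mpr hd
    rwa [Nat.cast_sub h1, Nat.cast_pow, Nat.cast_one] at this
  have h2 := dvd_sub_pow_of_dvd_sub hz 1
  have h6 : ((ℓ : ZMod (p ^ 2))) ^ (2 * a * p) = 1 := by
    have h3 : ((((ℓ : ℤ) ^ (2 * a)) ^ (p ^ 1) - 1 ^ (p ^ 1) : ℤ) : ZMod (p ^ 2)) = 0 := by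
      rw [ZMod.intCast_zmod_eq_zero_iff_dvd]
      exact_mod_cast h2
    push_cast at h3
    rw [sub_eq_zero] at h3
    rw [pow_mul]
    simpa using h3
  have hdvd := orderOf_dvd_of_pow_eq_one h6
  rw [hord] at hdvd
  have h7 : (p - 1) ∣ 2 * a := by
    have : p * (p - 1) ∣ p * (2 * a) := by rwa [mul_comm (2 * a) p] at hdvd
    exact (Nat.mul_dvd_mul_iff_left hp.out.pos).mp this
  rw [hh] at h7
  exact hha ((Nat.mul_dvd_mul_iff_left two_pos).mp h7)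

lemma val_P (p : ℕ) [Fact p.Prime] {ℓ : ℕ} (hℓ : 2 ≤ ℓ) (g : ℕ) :
    padicValNat p (∏ a ∈ Icc 1 g, (ℓ ^ (2 * a) - 1)) =
      ∑ a ∈ Icc 1 g, padicValNat p (ℓ ^ (2 * a) - 1) :=
  val_prod p _ _ fun a ha => term_ne_zero hℓ (mem_Icc.mp ha).1

lemma P_ne_zero {ℓ : ℕ} (hℓ : 2 ≤ ℓ) (g : ℕ) : ∏ a ∈ Icc 1 g, (ℓ ^ (2 * a) - 1) ≠ 0 :=
  prod_ne_zero_iff.mpr fun a ha => term_ne_zero hℓ (mem_Icc.mp ha).1

lemma sum_two (g : ℕ) :
    ∑ a ∈ Icc 1 g, (3 + padicValNat 2 a) = 3 * g + padicValNat 2 g.factorial := by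
  haveI : Fact (Nat.Prime 2) := ⟨Nat.prime_two⟩
  rw [sum_add_distrib, val_factorial, sum_const, Nat.card_Icc]
  simp [mul_comm]

lemma A2 {ℓ : ℕ} (hℓ : 2 ≤ ℓ) (hodd : ¬ 2 ∣ ℓ) (g : ℕ) :
    3 * g + padicValNat 2 g.factorial ≤ padicValNat 2 (∏ a ∈ Icc 1 g, (ℓ ^ (2 * a) - 1)) := by
  haveI : Fact (Nat.Prime 2) := ⟨Nat.prime_two⟩
  rw [val_P 2 hℓ, ← sum_two]
  exact sum_le_sum fun a ha => two_lower hℓ hodd (mem_Icc.mp ha).1

lemma B2 {ℓ : ℕ} (hℓ : ℓ % 8 = 3) (g : ℕ) :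
    padicValNat 2 (∏ a ∈ Icc 1 g, (ℓ ^ (2 * a) - 1)) = 3 * g + padicValNat 2 g.factorial := by
  haveI : Fact (Nat.Prime 2) := ⟨Nat.prime_two⟩
  rw [val_P 2 (by omega), ← sum_two]
  exact sum_congr rfl fun a ha => two_exact hℓ (mem_Icc.mp ha).1

lemma half_spec {p : ℕ} (hp : p.Prime) (hp2 : p ≠ 2) : ∃ h, 1 ≤ h ∧ p - 1 = 2 * h := by
  obtain ⟨t, ht⟩ := hp.odd_of_ne_two hp2
  have := hp.two_le
  exact ⟨t, by omega, by omega⟩

lemma Ap {p ℓ : ℕ} [hp : Fact p.Prime] (hp2 : p ≠ 2) (hℓ : 2 ≤ ℓ) (hpl : ¬ p ∣ ℓ) (g : ℕ) :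
    (2 * g) / (p - 1) + ∑ i ∈ Icc 1 ((2 * g) / (p - 1)), padicValNat p i ≤
      padicValNat p (∏ a ∈ Icc 1 g, (ℓ ^ (2 * a) - 1)) := by
  obtain ⟨h, hh1, hh⟩ := half_spec hp.out hp2
  have hm : (2 * g) / (p - 1) = g / h := by rw [hh, Nat.mul_div_mul_left _ _ two_pos]
  rw [val_P p hℓ, hm]
  refine le_trans ?_ (sum_lower (fun a => padicValNat p (ℓ ^ (2 * a) - 1)) g h hh1)
  have : g / h + ∑ i ∈ Icc 1 (g / h), padicValNat p i =
      ∑ i ∈ Icc 1 (g / h), (1 + padicValNat p i) := by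
    rw [sum_add_distrib, sum_const, Nat.card_Icc]; simp
  rw [this]
  exact sum_le_sum fun k hk => odd_lower hp2 hh hℓ hpl (mem_Icc.mp hk).1

lemma Bp {p ℓ : ℕ} [hp : Fact p.Prime] (hp2 : p ≠ 2) (hℓ : 2 ≤ ℓ) (hpl : ¬ p ∣ ℓ)
    (hord : orderOf ((ℓ : ZMod (p ^ 2))) = p * (p - 1)) (g : ℕ) :
    padicValNat p (∏ a ∈ Icc 1 g, (ℓ ^ (2 * a) - 1)) =
      (2 * g) / (p - 1) + ∑ i ∈ Icc 1 ((2 * g) / (p - 1)), padicValNat p i := by
  obtain ⟨h, hh1, hh⟩ := half_spec hp.out hp2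
  have hm : (2 * g) / (p - 1) = g / h := by rw [hh, Nat.mul_div_mul_left _ _ two_pos]
  rw [val_P p hℓ, hm, sum_exact (fun a => padicValNat p (ℓ ^ (2 * a) - 1)) g h hh1
    (fun a _ hha => gen_not_dvd hh hℓ hord hha)]
  have : g / h + ∑ i ∈ Icc 1 (g / h), padicValNat p i =
      ∑ i ∈ Icc 1 (g / h), (1 + padicValNat p i) := by
    rw [sum_add_distrib, sum_const, Nat.card_Icc]; simp
  rw [this]
  refine sum_congr rfl fun k hk => ?_
  rw [odd_val hp2 hh hℓ hpl (mem_Icc.mp hk).1, gen_val_one hp2 hℓ hpl hord]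

/-- For natural numbers g and B with B ≥ 2g + 1, a natural number d divides ∏_{a=1}^{g} (ℓ^{2a} - 1) for
every prime ℓ > B if and only if d divides N(g) = 2^{3g + v₂(g!)} · ∏_{3 ≤ p ≤ 2g+1, p prime}
p^{[2g/(p-1)] + Σ_{1 ≤ i ≤ [2g/(p-1)]} v_p(i)}. In words: N(g) is the greatest common divisor of
these products as ℓ runs through the primes beyond any bound that is at least 2g + 1; its prime
factors are the primes p ≤ 2g + 1. (This is the number N(g) of the published result, which bounds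
the degree of the field of semistable reduction of a g-dimensional abelian variety over a strictly
henselian discretely valued field; the printed phrase is the greatest common divisor over all large
primes, made precise here by the bound 2g + 1, below which a prime ℓ ≤ 2g + 1 divides N(g) but not
its own product.) -/
theorem result (g B d : ℕ) (hB : 2 * g + 1 ≤ B) :
    (∀ ℓ : ℕ, ℓ.Prime → B < ℓ → d ∣ ∏ a ∈ Icc 1 g, (ℓ ^ (2 * a) - 1)) ↔
      d ∣ 2 ^ (3 * g + padicValNat 2 g.factorial) *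
        ∏ p ∈ (Icc 3 (2 * g + 1)).filter Nat.Prime,
          p ^ ((2 * g) / (p - 1) + ∑ i ∈ Icc 1 ((2 * g) / (p - 1)), padicValNat p i) := by
  constructor
  · intro H
    rw [Nat.dvd_iff_prime_pow_dvd_dvd]
    intro p k hp hpk
    haveI := Fact.mk hp
    by_cases hp2 : p = 2
    · subst hp2
      obtain ⟨ℓ, hℓB, hℓ, hmod⟩ := Nat.forall_exists_prime_gt_and_modEq B (q := 8) (a := 3)
        (by norm_num) (by norm_num)
      have hmod' : ℓ % 8 = 3 := hmod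
      have h1 : 2 ^ k ∣ ∏ a ∈ Icc 1 g, (ℓ ^ (2 * a) - 1) := hpk.trans (H ℓ hℓ hℓB)
      have h2 : k ≤ padicValNat 2 (∏ a ∈ Icc 1 g, (ℓ ^ (2 * a) - 1)) :=
        (padicValNat_dvd_iff_le (P_ne_zero hℓ.two_le g)).mp h1
      rw [B2 hmod'] at h2
      exact (pow_dvd_pow 2 h2).trans (dvd_mul_right _ _)
    · obtain ⟨ℓ, hℓB, hℓ, hpl, hord⟩ := exists_gen_prime p hp2 B
      have h1 : p ^ k ∣ ∏ a ∈ Icc 1 g, (ℓ ^ (2 * a) - 1) := hpk.trans (H ℓ hℓ hℓB)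
      have h2 : k ≤ padicValNat p (∏ a ∈ Icc 1 g, (ℓ ^ (2 * a) - 1)) :=
        (padicValNat_dvd_iff_le (P_ne_zero hℓ.two_le g)).mp h1
      rw [Bp hp2 hℓ.two_le hpl hord] at h2
      have hp3 : 3 ≤ p := by have := hp.two_le; omega
      by_cases hle : p ≤ 2 * g + 1
      · have hmem : p ∈ (Icc 3 (2 * g + 1)).filter Nat.Prime :=
          mem_filter.mpr ⟨mem_Icc.mpr ⟨hp3, hle⟩, hp⟩
        refine (pow_dvd_pow p h2).trans (Dvd.dvd.trans ?_ (dvd_mul_left _ _))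
        exact dvd_prod_of_mem (fun p => p ^ ((2 * g) / (p - 1) +
          ∑ i ∈ Icc 1 ((2 * g) / (p - 1)), padicValNat p i)) hmem
      · have h0 : 2 * g / (p - 1) = 0 := Nat.div_eq_of_lt (by omega)
        rw [h0] at h2
        simp at h2
        subst h2
        simp
  · intro H ℓ hℓ hℓB
    refine H.trans ?_
    have hP := P_ne_zero hℓ.two_le g
    apply Nat.Coprime.mul_dvd_of_dvd_of_dvd
    · apply Nat.Coprime.prod_right
      intro p hp
      obtain ⟨hp1, hp2⟩ := mem_filter.mp hp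
      apply Nat.Coprime.pow
      rw [Nat.coprime_primes Nat.prime_two hp2]
      have := (mem_Icc.mp hp1).1
      omega
    · haveI : Fact (Nat.Prime 2) := ⟨Nat.prime_two⟩
      rw [padicValNat_dvd_iff_le hP]
      rcases Nat.eq_zero_or_pos g with rfl | hg
      · simp
      · apply A2 hℓ.two_le
        intro h2
        have := (Nat.prime_dvd_prime_iff_eq Nat.prime_two hℓ).mp h2
        omega
    · apply Finset.prod_dvd_of_isRelPrime
      · intro p hp q hq hpq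
        have hp2 := (mem_filter.mp hp).2
        have hq2 := (mem_filter.mp hq).2
        exact Nat.coprime_iff_isRelPrime.mp
          (Nat.Coprime.pow _ _ ((Nat.coprime_primes hp2 hq2).mpr hpq))
      · intro p hp
        obtain ⟨hp1, hp2⟩ := mem_filter.mp hp
        haveI := Fact.mk hp2
        have hp3 := (mem_Icc.mp hp1).1
        have hple := (mem_Icc.mp hp1).2
        rw [padicValNat_dvd_iff_le hP]
        apply Ap (by omega) hℓ.two_le
        intro hd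
        have := (Nat.prime_dvd_prime_iff_eq hp2 hℓ).mp hd
        omega

end Groth.Agent.S17445
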