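import Groth.Statements.S17471
import Mathlib.LinearAlgebra.RootSystem.Finite.Lemmas
import Mathlib.Tactic

set_option autoImplicit false
universe u v w x
open RootCh

namespace Groth.Agent.S17471

/-- Let Φ be a finite, reduced, crystallographic, irreducible root system with a base, and θ a positive
root such that θ + β is a root for no positive root β (so θ is the highest root). Then Σ_{β>0} ⟨β,
θ^∨⟩² = 2 + Σ_{β>0} ⟨β, θ^∨⟩ = 2(1 + ⟨ρ, θ^∨⟩), ρ being half the sum of the positive roots; in the
source the left side is the index of the adjoint representation obtained from its formal character,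
and 1 + ⟨ρ, θ^∨⟩ is the dual Coxeter number. -/
theorem result
    {ι : Type u} {R : Type v} {M : Type w} {N : Type x}
    [Field R] [LinearOrder R] [IsStrictOrderedRing R]
    [AddCommGroup M] [Module R M] [AddCommGroup N] [Module R N] [Fintype ι]
    (P : RootPairing ι R M N) [P.IsRootSystem] [P.IsCrystallographic] [P.IsReduced]
    [P.IsIrreducible] (b : P.Base) (θ : ι) (hθ : b.IsPos θ)
    (hmax : ∀ i : ι, b.IsPos i → P.root θ + P.root i ∉ Set.range P.root) :
    ∑ i ∈ Finset.univ.filter (fun i => 0 < b.height i), P.pairing i θ ^ 2 =
      2 + ∑ i ∈ Finset.univ.filter (fun i => 0 < b.height i), P.pairing i θ := by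
  classical
  -- for a positive root `i ≠ θ`, the pairing with `θ` is `0` or `1`
  have key : ∀ i, b.IsPos i → i ≠ θ → P.pairing i θ = 0 ∨ P.pairing i θ = 1 := by
    intro i hi hne
    have hroot_ne : P.root i ≠ P.root θ := fun h => hne (P.root.injective h)
    have hneg_of : ∀ j k : ι, b.IsPos j → b.IsPos k → P.root j ≠ -P.root k := by
      intro j k hj hk h
      have h2 : P.root j = P.root k + (-2 : ℤ) • P.root k := by
        rw [h]
        simp only [neg_smul, ofNat_zsmul]
        rw [two_nsmul]
        abel
      have h3 := b.height_add_zsmul h2
      rw [RootPairing.Base.isPos_iff] at hj hk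
      simp only [smul_eq_mul] at h3
      omega
    have hroot_ne' : P.root i ≠ -P.root θ := hneg_of i θ hi hθ
    have hmem := P.pairingIn_pairingIn_mem_set_of_isCrystal_of_isRed' i θ hroot_ne hroot_ne'
    have hnonneg : 0 ≤ P.pairingIn ℤ i θ := by
      by_contra hneg
      push Not at hneg
      have := P.root_add_root_mem_of_pairingIn_neg hneg hroot_ne'
      rw [add_comm] at this
      exact hmax i hi this
    have hle : P.pairingIn ℤ i θ ≤ 1 := by
      by_contra hgt
      push Not at hgt
      -- then `pairingIn θ i = 1`
      have h1 : P.pairingIn ℤ θ i = 1 ∧ (P.pairingIn ℤ i θ = 2 ∨ P.pairingIn ℤ i θ = 3) := by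
        simp only [Set.mem_insert_iff, Set.mem_singleton_iff, Prod.mk.injEq] at hmem
        omega
      obtain ⟨h1, h23⟩ := h1
      have hsub : P.root θ - P.root i ∈ Set.range P.root :=
        P.root_sub_root_mem_of_pairingIn_pos (by omega) (Ne.symm hne)
      obtain ⟨k, hk⟩ := hsub
      have hk' : P.root θ = P.root k + P.root i := by rw [hk]; abel
      by_cases hkpos : b.IsPos k
      · -- `θ + k` is a root
        have hpk : P.pairing k θ = P.pairing θ θ - P.pairing i θ := by
          have := RootPairing.pairing_eq_add_of_root_eq_add (P := P) (l := θ) hk'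
          rw [this]; ring
        rcases h23 with h2 | h3
        · -- reflect `i` in `θ`
          have hp2 : P.pairing i θ = 2 := by
            rw [← P.algebraMap_pairingIn ℤ, h2]; simp
          have hr : P.root (P.reflectionPerm θ i) = P.root i - (2 : R) • P.root θ := by
            rw [RootPairing.root_reflectionPerm, RootPairing.reflection_apply_root, hp2]
          have hmem2 : P.root θ + P.root k ∈ Set.range P.root := by
            rw [← RootPairing.neg_mem_range_root_iff]
            refine ⟨P.reflectionPerm θ i, ?_⟩
            rw [hr, hk, two_smul]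
            abel
          exact hmax k hkpos hmem2
        · have hp3 : P.pairing i θ = 3 := by
            rw [← P.algebraMap_pairingIn ℤ, h3]; simp
          have hpk' : P.pairingIn ℤ k θ = -1 := by
            have : algebraMap ℤ R (P.pairingIn ℤ k θ) = algebraMap ℤ R (-1) := by
              rw [P.algebraMap_pairingIn ℤ, hpk, RootPairing.pairing_same, hp3]
              simp; norm_num
            exact (FaithfulSMul.algebraMap_injective ℤ R) this
          have hmem2 := P.root_add_root_mem_of_pairingIn_neg (i := k) (j := θ)
            (by omega) (hneg_of k θ hkpos hθ)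
          rw [add_comm] at hmem2
          exact hmax k hkpos hmem2
      · -- `k` is negative, so `i - θ` is a positive root
        have hk2 : P.root (P.reflectionPerm k k) = P.root i - P.root θ := by
          rw [RootPairing.root_reflectionPerm, RootPairing.reflection_apply_self, hk]; abel
        have hpos2 : b.IsPos (P.reflectionPerm k k) := by
          rw [RootPairing.Base.isPos_iff] at hkpos ⊢
          have := b.height_reflectionPerm_self k
          have h0 := b.height_ne_zero k
          change b.height (P.reflectionPerm k k) = -b.height k at this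
          omega
        apply hmax _ hpos2
        rw [hk2]
        exact ⟨i, by abel⟩
    have h01 : P.pairingIn ℤ i θ = 0 ∨ P.pairingIn ℤ i θ = 1 := by omega
    rcases h01 with h | h
    · left; rw [← P.algebraMap_pairingIn ℤ, h]; simp
    · right; rw [← P.algebraMap_pairingIn ℤ, h]; simp
  have hθmem : θ ∈ Finset.univ.filter (fun i => 0 < b.height i) := by
    simp only [Finset.mem_filter, Finset.mem_univ, true_and]
    exact hθ
  rw [← Finset.add_sum_erase _ _ hθmem, ← Finset.add_sum_erase _ (fun i => P.pairing i θ) hθmem]
  have hrest : ∑ i ∈ (Finset.univ.filter (fun i => 0 < b.height i)).erase θ, P.pairing i θ ^ 2 =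
      ∑ i ∈ (Finset.univ.filter (fun i => 0 < b.height i)).erase θ, P.pairing i θ := by
    refine Finset.sum_congr rfl fun i hi => ?_
    rw [Finset.mem_erase, Finset.mem_filter] at hi
    rcases key i hi.2.2 hi.1 with h | h <;> rw [h] <;> norm_num
  rw [hrest, RootPairing.pairing_same]
  ring

end Groth.Agent.S17471
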