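import Groth.Statements.S17474
import Mathlib
import Groth.Prelude.Def_PicGrp
import Groth.Agent.Helper4.PullSec
import Groth.Agent.Helper4.TensorInv
import Groth.Agent.Lead.IntNumBC

set_option autoImplicit false
universe u
open CategoryTheory MonoidalCategory CartesianMonoidalCategory MonObj GrpObj AlgebraicGeometry CategoryTheory.Limits
open AlgGrp

namespace Groth.Agent.S17474

/-- Over an algebraically closed field k, let X be a projective variety (an integral k-scheme admitting
a closed immersion into some projective space over k) and let a connected k-group scheme of finite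
type G act on X. For a k-point g of G write t_g : X → X, x ↦ g · x. Then for every invertible
O_X-module L and every invertible M with L ⊗ M ≅ O_X (an inverse of L), the invertible module
t_g^*(L) ⊗ M is algebraically equivalent to zero. Equivalently, the neutral component of the
automorphism group scheme of X acts trivially on the Néron–Severi group of X. -/
theorem result (k : Type u) [Field k] [IsAlgClosed k]
    (G X : Over (Spec (CommRingCat.of k))) [GrpObj G] [LocallyOfFiniteType G.hom] [QuasiCompact G.hom]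
    [ConnectedSpace ↥G.left] [IsIntegral X.left] (hX : RelProj.IsHProjective X.hom)
    (a : AlgGrp.Action G X) (g : 𝟙_ (Over (Spec (CommRingCat.of k))) ⟶ G)
    (L M : X.left.Modules) (hL : PicF.IsInvertible L) (hM : PicF.IsInvertible M)
    (hLM : Nonempty (CohB1.tensorMod L M ≅ Coh.structureModule X.left)) :
    @Pic13.IsAlgEquivZero k _ X.left ⟨X.hom⟩
      (CohB1.tensorMod ((Scheme.Modules.pullback (lift (toUnit X ≫ g) (𝟙 X) ≫ a.act).left).obj L) M) := by
  classical
  letI : X.left.Over (Spec (CommRingCat.of k)) := ⟨X.hom⟩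
  -- the product `X × G` as an object over `Spec k`
  let P : Over (Spec (CommRingCat.of k)) := Over.mk (pullback.fst X.hom G.hom ≫ X.hom)
  let p₁ : P ⟶ X := Over.homMk (pullback.fst X.hom G.hom) rfl
  let p₂ : P ⟶ G := Over.homMk (pullback.snd X.hom G.hom) (pullback.condition).symm
  let α : P ⟶ X := lift p₂ p₁ ≫ a.act
  let N : (Pic13.prodK k X.left G.hom).Modules :=
    CohB1.tensorMod ((Scheme.Modules.pullback α.left).obj L)
      ((Scheme.Modules.pullback (pullback.fst X.hom G.hom)).obj M)
  have hN : PicF.IsInvertible N :=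
    Groth.Agent.Helper4.TensorInv.isInvertible_tensorMod
      (Groth.Agent.Helper4.PullSec.isInvertible_pullback _ hL)
      (Groth.Agent.Helper4.PullSec.isInvertible_pullback _ hM)
  -- fibre computation
  have key : ∀ (s : 𝟙_ (Over (Spec (CommRingCat.of k))) ⟶ G)
      (hs : s.left ≫ G.hom = 𝟙 (Spec (CommRingCat.of k))),
      Nonempty (Pic13.fibreMod k X.left G.hom s.left hs N ≅
        CohB1.tensorMod ((Scheme.Modules.pullback (lift (toUnit X ≫ s) (𝟙 X) ≫ a.act).left).obj L) M) := by
    intro s hs
    let σ : X ⟶ P := Over.homMk (Pic13.sliceAt k X.left G.hom s.left hs) (by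
      change Pic13.sliceAt k X.left G.hom s.left hs ≫ pullback.fst X.hom G.hom ≫ X.hom = X.hom
      have := pullback.lift_fst (f := X.hom) (g := G.hom) (𝟙 X.left) (X.hom ≫ s.left)
        (by rw [Category.id_comp, Category.assoc, hs, Category.comp_id])
      rw [← Category.assoc]
      exact (congrArg (· ≫ X.hom) this).trans (Category.id_comp _))
    have h1 : σ ≫ p₁ = 𝟙 X := by
      ext
      change Pic13.sliceAt k X.left G.hom s.left hs ≫ pullback.fst X.hom G.hom = 𝟙 _
      exact pullback.lift_fst (f := X.hom) (g := G.hom) (𝟙 X.left) (X.hom ≫ s.left)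
        (by rw [Category.id_comp, Category.assoc, hs, Category.comp_id])
    have h2 : σ ≫ p₂ = toUnit X ≫ s := by
      ext
      change Pic13.sliceAt k X.left G.hom s.left hs ≫ pullback.snd X.hom G.hom = (toUnit X).left ≫ s.left
      exact pullback.lift_snd (f := X.hom) (g := G.hom) (𝟙 X.left) (X.hom ≫ s.left)
        (by rw [Category.id_comp, Category.assoc, hs, Category.comp_id])
    have h3 : σ ≫ α = lift (toUnit X ≫ s) (𝟙 X) ≫ a.act := by
      change σ ≫ lift p₂ p₁ ≫ a.act = _
      rw [← Category.assoc, comp_lift, h1, h2]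
    have h3' : Pic13.sliceAt k X.left G.hom s.left hs ≫ α.left =
        (lift (toUnit X ≫ s) (𝟙 X) ≫ a.act).left := by
      rw [← h3]; rfl
    have h4 : Pic13.sliceAt k X.left G.hom s.left hs ≫ pullback.fst X.hom G.hom = 𝟙 _ :=
      pullback.lift_fst (f := X.hom) (g := G.hom) (𝟙 X.left) (X.hom ≫ s.left)
        (by rw [Category.id_comp, Category.assoc, hs, Category.comp_id])
    refine ⟨Groth.Agent.Lead.IntNumBC.pullTensorIso _ _ _ ≪≫ PicGrp.tensorModIso ?_ ?_⟩
    · exact (Scheme.Modules.pullbackComp _ _).app L ≪≫ (Scheme.Modules.pullbackCongr h3').app L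
    · exact (Scheme.Modules.pullbackComp _ _).app M ≪≫ (Scheme.Modules.pullbackCongr h4).app M ≪≫
        (Scheme.Modules.pullbackId _).app M
  have hg : g.left ≫ G.hom = 𝟙 (Spec (CommRingCat.of k)) := Over.w g
  have hη : (η[G] : 𝟙_ (Over (Spec (CommRingCat.of k))) ⟶ G).left ≫ G.hom = 𝟙 (Spec (CommRingCat.of k)) :=
    Over.w η[G]
  obtain ⟨e1⟩ := key g hg
  obtain ⟨e2⟩ := key η[G] hη
  obtain ⟨eLM⟩ := hLM
  have hid : lift (toUnit X ≫ η[G]) (𝟙 X) ≫ a.act = 𝟙 X := by
    have : lift (toUnit X ≫ η[G]) (𝟙 X) = lift (toUnit X) (𝟙 X) ≫ (η[G] ▷ X) := by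
      rw [lift_whiskerRight]
    rw [this, Category.assoc, a.one_act, leftUnitor_hom, lift_snd]
  refine ⟨G.left, G.hom, inferInstance, inferInstance, inferInstance, N, hN, g.left, η[G].left, hg, hη,
    ⟨e1⟩, ⟨e2 ≪≫ PicGrp.tensorModIso ?_ (Iso.refl M) ≪≫ eLM⟩⟩
  rw [hid]
  exact (Scheme.Modules.pullbackId _).app L

end Groth.Agent.S17474
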