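import Groth.Statements.S17482
import Groth.Agent.Helper1.CIMV5

set_option autoImplicit false
universe u
open CategoryTheory CategoryTheory.Limits AlgebraicGeometry
open Surf

namespace Groth.Agent.S17482

/-- Let k be an algebraically closed field of characteristic zero and X a smooth projective surface over
k (an integral scheme of dimension two with all local rings regular, admitting a closed immersion
into some P^n_k over k) such that H^1(X, O_X) = 0. Let D be a nonempty closed subscheme of X, given
by a quasi-coherent ideal sheaf whose associated O_X-module I_D is invertible (a nonzero effective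
divisor). If H^1(X, I_D) = 0, then D is connected. (The published statement is for rational
surfaces; this row assumes only H^1(X, O_X) = 0. Since H^1(X, I_D) depends only on the isomorphism
class of I_D, the same holds for every effective divisor linearly equivalent to D.) -/
theorem result
    (k : Type u) [Field k] [IsAlgClosed k] [CharZero k]
    (X : Scheme.{u}) [X.Over (Spec (CommRingCat.of k))] [AlgebraicGeometry.IsIntegral X]
    (hdim : topologicalKrullDim X = 2) (hreg : ∀ x : X, IsRegularLocalRing (X.presheaf.stalk x))
    (hproj : ∃ (n : ℕ) (ι : X ⟶ CohB1.ProjSpace n k), IsClosedImmersion ι ∧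
      ι ≫ CohB1.ProjSpace.toSpec n k = (X ↘ (Spec (CommRingCat.of k))))
    (hH1 : Subsingleton (Coh.HH X (Coh.structureModule X) 1))
    (D : X.IdealSheafData) (hD : PicF.IsInvertible (ClSub.idealMod D)) (hne : Nonempty ↥D.subscheme)
    (hvan : Subsingleton (Coh.HH X (ClSub.idealMod D) 1)) :
    ConnectedSpace ↥D.subscheme := by
  obtain ⟨n, ι, hι, hιk⟩ := hproj
  haveI := hι
  -- properness
  haveI : IsProper (CohB1.ProjSpace.toSpec n k) := Groth.Agent.Helper6.HProj.isProper_toSpec n k
  haveI : IsProper (X ↘ (Spec (CommRingCat.of k))) := by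
    rw [← hιk]; infer_instance
  -- surjectivity on global sections
  have hS := Groth.Agent.Helper1.Lef.idealSC_shortExact D
  haveI hsub : Subsingleton (Coh.HH X (Groth.Agent.Helper1.Lef.idealSC D).X₁ 1) := hvan
  have hsurj : Function.Surjective ((ClSub.toSubscheme D).app ⊤) := by
    intro c
    obtain ⟨c', rfl⟩ := (Groth.Agent.Lead.ProperFinA.h0Equiv _).surjective c
    obtain ⟨a', rfl⟩ := (Groth.Agent.Helper1.HHLes.exact_g_δ k _ hS 0 c').1 (Subsingleton.elim _ _)
    exact ⟨_, (Groth.Agent.Helper1.ZCon.h0Equiv_HHlin (A := k) _ a').symm⟩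
  -- `Γ(X, O_X)` is a field
  have hfield : IsField Γ(X, ⊤) :=
    isField_of_universallyClosed k (X ↘ (Spec (CommRingCat.of k)))
  letI : Field Γ(X, ⊤) := hfield.toField
  haveI hnt : Nontrivial Γ(D.subscheme, ⊤) :=
    @Scheme.component_nontrivial D.subscheme ⊤ ⟨⟨hne.some, trivial⟩⟩
  let φ : Γ(X, ⊤) →+* Γ(D.subscheme, ⊤) := D.subschemeι.appTop.hom
  have hφ : Function.Bijective φ := by
    refine ⟨RingHom.injective φ, ?_⟩
    intro c
    obtain ⟨b, hb⟩ := hsurj c
    exact ⟨b, hb⟩
  exact Groth.Agent.Helper1.Hyp.connectedSpace_of_bijective_field φ hφ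

end Groth.Agent.S17482
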