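import Groth.Statements.S17483
import Groth.Agent.Helper1.CIMV5
import Groth.Agent.Helper1.ConnRed

set_option autoImplicit false
universe u
open CategoryTheory CategoryTheory.Limits AlgebraicGeometry
open Surf

namespace Groth.Agent.S17483

/-- Let k be an algebraically closed field of characteristic zero and X a smooth projective surface over
k (an integral scheme of dimension two with all local rings regular, admitting a closed immersion
into some P^n_k over k) such that H^1(X, O_X) = 0. Let D be a closed subscheme of X, given by a
quasi-coherent ideal sheaf whose associated O_X-module I_D is invertible (an effective divisor). If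
D is connected and reduced, then H^1(X, I_D) = 0. (The published statement asserts H^1(X, I_D) = 0
as soon as the linear system of D contains a connected curve, without reducedness; that fails: on
the blow-up of the projective plane at a point, with exceptional curve E, the divisor D = 2E is
connected and is the only member of its linear system, yet H^0(O_{2E}) is three-dimensional, so
H^1(X, I_{2E}) is two-dimensional. The published statement is for rational surfaces; this row
assumes H^1(X, O_X) = 0 instead.) -/
theorem result
    (k : Type u) [Field k] [IsAlgClosed k] [CharZero k]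
    (X : Scheme.{u}) [X.Over (Spec (CommRingCat.of k))] [AlgebraicGeometry.IsIntegral X]
    (hdim : topologicalKrullDim X = 2) (hreg : ∀ x : X, IsRegularLocalRing (X.presheaf.stalk x))
    (hproj : ∃ (n : ℕ) (ι : X ⟶ CohB1.ProjSpace n k), IsClosedImmersion ι ∧
      ι ≫ CohB1.ProjSpace.toSpec n k = (X ↘ (Spec (CommRingCat.of k))))
    (hH1 : Subsingleton (Coh.HH X (Coh.structureModule X) 1))
    (D : X.IdealSheafData) (hD : PicF.IsInvertible (ClSub.idealMod D))
    [ConnectedSpace ↥D.subscheme] [IsReduced D.subscheme] :
    Subsingleton (Coh.HH X (ClSub.idealMod D) 1) := by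
  obtain ⟨n, ι, hι, hιk⟩ := hproj
  haveI := hι
  haveI : IsProper (CohB1.ProjSpace.toSpec n k) := Groth.Agent.Helper6.HProj.isProper_toSpec n k
  haveI : IsProper (X ↘ (Spec (CommRingCat.of k))) := by
    rw [← hιk]; infer_instance
  have hconst := Groth.Agent.Helper1.ConnRed.surjective_const k
    (D.subschemeι ≫ (X ↘ (Spec (CommRingCat.of k))))
  -- surjectivity on global sections
  have hsurj : Function.Surjective ((ClSub.toSubscheme D).app ⊤) := by
    intro c
    obtain ⟨a, ha⟩ := hconst c
    refine ⟨((Scheme.ΓSpecIso (CommRingCat.of k)).inv ≫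
      (X ↘ (Spec (CommRingCat.of k))).appTop).hom a, ?_⟩
    rw [← ha]
    rfl
  have hS := Groth.Agent.Helper1.Lef.idealSC_shortExact D
  haveI hsub : Subsingleton (Coh.HH X (Groth.Agent.Helper1.Lef.idealSC D).X₂ 1) := hH1
  have key : ∀ y : Coh.HH X (Groth.Agent.Helper1.Lef.idealSC D).X₁ 1, y = 0 := by
    intro y
    obtain ⟨c, rfl⟩ := (Groth.Agent.Helper1.HHLes.exact_δ_f k _ hS 0 y).1 (Subsingleton.elim _ _)
    obtain ⟨b, hb⟩ := hsurj (Groth.Agent.Lead.ProperFinA.h0Equiv _ c)
    have hc : c = Canon.HHlin k (Groth.Agent.Helper1.Lef.idealSC D).g 0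
        ((Groth.Agent.Lead.ProperFinA.h0Equiv _).symm b) := by
      apply (Groth.Agent.Lead.ProperFinA.h0Equiv _).injective
      rw [Groth.Agent.Helper1.ZCon.h0Equiv_HHlin (A := k), AddEquiv.apply_symm_apply]
      exact hb.symm
    rw [hc]
    exact (Groth.Agent.Helper1.HHLes.exact_g_δ k _ hS 0 _).2 ⟨_, rfl⟩
  exact ⟨fun x y => (key x).trans (key y).symm⟩

end Groth.Agent.S17483
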