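import Groth.Statements.S17487


set_option autoImplicit false
universe u
open CategoryTheory CategoryTheory.Limits AlgebraicGeometry
open Coherent

namespace Groth.Agent.S17487

section helpers

open CategoryTheory Limits Abelian

set_option linter.style.haveILetI false

variable {C : Type*} [Category C] [Abelian C] [HasExt C]

lemma subsingleton_ext_of_iso_right (A : C) {Z Z' : C} (φ : Z ≅ Z') (p : ℕ)
    (h : Subsingleton (Ext A Z' p)) : Subsingleton (Ext A Z p) := by
  refine ⟨fun x y => ?_⟩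
  have hx : ∀ w : Ext A Z p, w = (w.comp (Ext.mk₀ φ.hom) (add_zero p)).comp (Ext.mk₀ φ.inv)
      (add_zero p) := by
    intro w
    rw [Ext.comp_assoc_of_second_deg_zero, Ext.mk₀_comp_mk₀, φ.hom_inv_id, Ext.comp_mk₀_id]
  rw [hx x, hx y, Subsingleton.elim (x.comp (Ext.mk₀ φ.hom) (add_zero p))
    (y.comp (Ext.mk₀ φ.hom) (add_zero p))]

lemma subsingleton_ext_of_iso_left (A : C) {Z Z' : C} (φ : Z ≅ Z') (p : ℕ)
    (h : Subsingleton (Ext Z' A p)) : Subsingleton (Ext Z A p) := by
  refine ⟨fun x y => ?_⟩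
  have hx : ∀ w : Ext Z A p, w = (Ext.mk₀ φ.hom).comp ((Ext.mk₀ φ.inv).comp w (zero_add p))
      (zero_add p) := by
    intro w
    rw [← Ext.comp_assoc_of_second_deg_zero, Ext.mk₀_comp_mk₀, φ.hom_inv_id, Ext.mk₀_id_comp]
  rw [hx x, hx y, Subsingleton.elim ((Ext.mk₀ φ.inv).comp x (zero_add p))
    ((Ext.mk₀ φ.inv).comp y (zero_add p))]

lemma subsingleton_ext_sigma_right (A : C) {m : ℕ} (B : Fin m → C) {Z : C} (e : Z ≅ ∐ B) (p : ℕ)
    (h : ∀ t, Subsingleton (Ext A (B t) p)) : Subsingleton (Ext A Z p) := by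
  haveI : HasFiniteBiproducts C := Abelian.hasFiniteBiproducts
  refine subsingleton_ext_of_iso_right A (e ≪≫ (biproduct.isoCoproduct B).symm) p ?_
  exact (Ext.addEquivBiproduct A (biproduct.isBilimit B) p).toEquiv.subsingleton

lemma subsingleton_ext_sigma_left (A : C) {m : ℕ} (B : Fin m → C) {Z : C} (e : Z ≅ ∐ B) (p : ℕ)
    (h : ∀ t, Subsingleton (Ext (B t) A p)) : Subsingleton (Ext Z A p) := by
  haveI : HasFiniteBiproducts C := Abelian.hasFiniteBiproducts
  refine subsingleton_ext_of_iso_left A (e ≪≫ (biproduct.isoCoproduct B).symm) p ?_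
  exact (Ext.biproductAddEquiv (biproduct.isBilimit B) A p).toEquiv.subsingleton

end helpers

/-- Let k be an algebraically closed field of characteristic zero and Y a smooth projective variety over
k (an integral scheme, smooth over k, with a closed immersion into some P^n_k over k). Let E_1, …,
E_n be coherent O_Y-modules forming a strong exceptional sequence, expressed through Ext groups in
the category of O_Y-modules (the Ext instance is the stated hypothesis; it holds): End(E_i) is
one-dimensional over k, Ext^p(E_i, E_j) = 0 for all p when i > j, and Ext^p(E_i, E_j) = 0 for all i,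
j when p ≥ 1 (indices here run over 0, …, n-1). Let d ≤ n and let 0 → K → M → F → 0 be a short exact
sequence of O_Y-modules in which K is isomorphic to a finite direct sum of copies of members E_i
with i < d and M to a finite direct sum of copies of members E_i with i ≥ d (a two-term resolution
of F by the sequence, split at d). Then Ext^p(E_i, F) = 0 for every i and every p ≥ 1, and Ext^p(F,
E_i) = 0 for every i < d and every p ≠ 1. (The published criterion also asks that the sequence
generate the derived category, states the first vanishing only for i ≥ d, and adds conditions on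
terms of the associated filtration and cofiltration of F, which are not restated here; the
vanishings above follow from the resolution alone.) -/
theorem result
    (k : Type u) [Field k] [IsAlgClosed k] [CharZero k]
    (Y : Scheme.{u}) [Y.Over (Spec (CommRingCat.of k))] [AlgebraicGeometry.IsIntegral Y]
    [Smooth (Y ↘ Spec (CommRingCat.of k))]
    (hproj : ∃ (N : ℕ) (ι : Y ⟶ CohB1.ProjSpace N k), IsClosedImmersion ι ∧
      ι ≫ CohB1.ProjSpace.toSpec N k = (Y ↘ (Spec (CommRingCat.of k))))
    [HasExt.{u} Y.Modules]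
    (n d : ℕ) (hdn : d ≤ n) (E : Fin n → Y.Modules) (hEcoh : ∀ i, Coh.IsCoh (E i))
    (hend : ∀ i, Module.finrank k (E i ⟶ E i) = 1)
    (hexc : ∀ i j : Fin n, j < i → ∀ p : ℕ, Subsingleton (Abelian.Ext (E i) (E j) p))
    (hstr : ∀ (i j : Fin n) (p : ℕ), 1 ≤ p → Subsingleton (Abelian.Ext (E i) (E j) p))
    (S : ShortComplex Y.Modules) (hS : S.ShortExact)
    (m₁ : ℕ) (c₁ : Fin m₁ → Fin n) (hc₁ : ∀ t, (c₁ t : ℕ) < d) (e₁ : S.X₁ ≅ ∐ fun t => E (c₁ t))
    (m₂ : ℕ) (c₂ : Fin m₂ → Fin n) (hc₂ : ∀ t, d ≤ (c₂ t : ℕ)) (e₂ : S.X₂ ≅ ∐ fun t => E (c₂ t)) :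
    (∀ (i : Fin n) (p : ℕ), 1 ≤ p → Subsingleton (Abelian.Ext (E i) S.X₃ p)) ∧
      (∀ i : Fin n, (i : ℕ) < d → ∀ p : ℕ, p ≠ 1 → Subsingleton (Abelian.Ext S.X₃ (E i) p)) := by
  have hX₁r : ∀ (i : Fin n) (p : ℕ), 1 ≤ p → Subsingleton (Abelian.Ext (E i) S.X₁ p) := fun i p hp =>
    subsingleton_ext_sigma_right (E i) _ e₁ p (fun t => hstr i (c₁ t) p hp)
  have hX₂r : ∀ (i : Fin n) (p : ℕ), 1 ≤ p → Subsingleton (Abelian.Ext (E i) S.X₂ p) := fun i p hp =>
    subsingleton_ext_sigma_right (E i) _ e₂ p (fun t => hstr i (c₂ t) p hp)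
  have hX₁l : ∀ (i : Fin n) (p : ℕ), 1 ≤ p → Subsingleton (Abelian.Ext S.X₁ (E i) p) := fun i p hp =>
    subsingleton_ext_sigma_left (E i) _ e₁ p (fun t => hstr (c₁ t) i p hp)
  have hX₂l : ∀ (i : Fin n), (i : ℕ) < d → ∀ p : ℕ, Subsingleton (Abelian.Ext S.X₂ (E i) p) :=
    fun i hi p => subsingleton_ext_sigma_left (E i) _ e₂ p (fun t => by
      by_cases hp : 1 ≤ p
      · exact hstr (c₂ t) i p hp
      · have hp0 : p = 0 := by omega
        subst hp0
        exact hexc (c₂ t) i (by
          have := hc₂ t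
          exact Fin.lt_def.2 (by omega)) 0)
  refine ⟨fun i p hp => ⟨fun x y => ?_⟩, fun i hi p hp => ⟨fun x y => ?_⟩⟩
  · have hz : ∀ w : Abelian.Ext (E i) S.X₃ p, w = 0 := by
      intro w
      haveI := hX₁r i (p + 1) (by omega)
      haveI := hX₂r i p hp
      obtain ⟨x₂, hx₂⟩ := Abelian.Ext.covariant_sequence_exact₃ (E i) hS w rfl
        (Subsingleton.elim _ _)
      rw [← hx₂, Subsingleton.elim x₂ 0, Abelian.Ext.zero_comp]
    rw [hz x, hz y]
  · have hz : ∀ w : Abelian.Ext S.X₃ (E i) p, w = 0 := by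
      intro w
      haveI := hX₂l i hi p
      by_cases hp0 : p = 0
      · subst hp0
        haveI := hS.epi_g
        apply Abelian.Ext.precomp_mk₀_injective_of_epi (E i) S.g
        exact Subsingleton.elim _ _
      · obtain ⟨q, rfl⟩ : ∃ q : ℕ, p = 1 + q := ⟨p - 1, by omega⟩
        haveI := hX₁l i q (by omega)
        obtain ⟨x₁, hx₁⟩ := Abelian.Ext.contravariant_sequence_exact₃ hS (E i) w
          (Subsingleton.elim _ _) rfl
        rw [← hx₁, Subsingleton.elim x₁ 0, Abelian.Ext.comp_zero]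
    rw [hz x, hz y]

end Groth.Agent.S17487
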