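import Groth.Statements.S17536
-- import your own Groth.Agent.* helpers here

set_option autoImplicit false
universe u v w
open W4c5adicflatcompl
open CAlg

namespace Groth.Agent.S17536

/-- If the A-module M is I-adically separated then so is the module of I-adically decaying functions
from a set Z to M. -/
theorem result {A : Type u} [CommRing A] (I : Ideal A) (Z : Type v)
    (M : Type w) [AddCommGroup M] [Module A M] [IsHausdorff I M] :
    IsHausdorff I (decaying I Z M) := by
  refine ⟨fun f hf => ?_⟩
  -- evaluation at z maps I^n • ⊤ into I^n • ⊤
  have hev : ∀ (n : ℕ) (z : Z) (g : decaying I Z M), g ∈ (I ^ n • ⊤ : Submodule A (decaying I Z M)) →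
      (g : Z → M) z ∈ (I ^ n • ⊤ : Submodule A M) := by
    intro n z g hg
    refine Submodule.smul_induction_on hg ?_ ?_
    · intro a ha m _
      exact Submodule.smul_mem_smul ha Submodule.mem_top
    · intro a b ha hb
      exact add_mem ha hb
  apply Subtype.ext
  funext z
  apply IsHausdorff.haus (I := I) inferInstance
  intro n
  rw [SModEq.sub_mem, sub_zero]
  apply hev
  have := hf n
  rwa [SModEq.sub_mem, sub_zero] at this

end Groth.Agent.S17536
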