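import Groth.Statements.S17537
-- import your own Groth.Agent.* helpers here

set_option autoImplicit false
universe u v
open CAlg

namespace Groth.Agent.S17537

/-- For a commutative ring A, an ideal I and an A-module M, the I-adic completion M^ of M is itself
I-adically complete if and only if, for every n, every element of M^ is congruent modulo I^n M^ to
the image of an element of M (the maps M/I^n M → M^/I^n M^ are surjective). -/
theorem result {A : Type u} [CommRing A] (I : Ideal A)
    (M : Type v) [AddCommGroup M] [Module A M] :
    IsAdicComplete I (AdicCompletion I M) ↔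
      ∀ (n : ℕ) (x : AdicCompletion I M), ∃ y : M,
        x - AdicCompletion.of I M y ∈ (I ^ n • ⊤ : Submodule A (AdicCompletion I M)) := by
  -- `of` maps `I^n M` into `I^n M^`
  have hof : ∀ (n : ℕ) (y : M), y ∈ (I ^ n • ⊤ : Submodule A M) →
      AdicCompletion.of I M y ∈ (I ^ n • ⊤ : Submodule A (AdicCompletion I M)) := by
    intro n y hy
    refine Submodule.smul_induction_on hy ?_ ?_
    · intro a ha m _
      rw [map_smul]
      exact Submodule.smul_mem_smul ha Submodule.mem_top
    · intro a b ha hb
      rw [map_add]
      exact add_mem ha hb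
  have hker : ∀ (n : ℕ) (x : AdicCompletion I M), x ∈ (I ^ n • ⊤ : Submodule A (AdicCompletion I M)) →
      x.val n = 0 := by
    intro n x hx
    have := AdicCompletion.pow_smul_top_le_ker_eval (I := I) (M := M) n hx
    exact this
  constructor
  · intro hc n x
    -- representatives y_k of x.val k
    have hrep : ∀ k : ℕ, ∃ y : M, Submodule.Quotient.mk y = x.val k :=
      fun k => Submodule.Quotient.mk_surjective _ (x.val k)
    choose y hy using hrep
    have hcauchy : ∀ {m n : ℕ}, m ≤ n → AdicCompletion.of I M (y m) ≡ AdicCompletion.of I M (y n)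
        [SMOD (I ^ m • ⊤ : Submodule A (AdicCompletion I M))] := by
      intro m n hmn
      rw [SModEq.sub_mem, ← map_sub]
      apply hof
      have h1 : (Submodule.Quotient.mk (y n) : M ⧸ (I ^ m • ⊤ : Submodule A M)) = x.val m := by
        rw [← x.prop hmn, ← hy n]
        rfl
      rw [← Submodule.Quotient.eq, hy m, h1]
    obtain ⟨L, hL⟩ := hc.toIsPrecomplete.prec hcauchy
    have hLx : L = x := by
      apply AdicCompletion.ext
      intro k
      have h1 := hker k _ (SModEq.sub_mem.mp (hL k))
      rw [AdicCompletion.val_sub_apply, sub_eq_zero, AdicCompletion.of_apply] at h1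
      rw [← h1]
      exact hy k
    refine ⟨y n, ?_⟩
    have := SModEq.sub_mem.mp (hL n)
    rw [hLx] at this
    rw [← neg_sub]
    exact neg_mem this
  · intro h
    -- kernel of eval_n is I^n M^
    have hker' : ∀ (n : ℕ) (x : AdicCompletion I M), x.val n = 0 →
        x ∈ (I ^ n • ⊤ : Submodule A (AdicCompletion I M)) := by
      intro n x hx
      obtain ⟨y, hy⟩ := h n x
      have h1 := hker n _ hy
      rw [AdicCompletion.val_sub_apply, hx, zero_sub, neg_eq_zero, AdicCompletion.of_apply] at h1
      have h2 : y ∈ (I ^ n • ⊤ : Submodule A M) := (Submodule.Quotient.mk_eq_zero _).mp h1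
      have h3 := add_mem hy (hof n y h2)
      rwa [sub_add_cancel] at h3
    refine { toIsHausdorff := inferInstance, toIsPrecomplete := ⟨?_⟩ }
    intro f hf
    refine ⟨⟨fun n => (f n).val n, ?_⟩, ?_⟩
    · intro m n hmn
      show AdicCompletion.transitionMap I M hmn ((f n).val n) = (f m).val m
      rw [(f n).prop hmn]
      have := hker m _ (SModEq.sub_mem.mp (hf hmn))
      rw [AdicCompletion.val_sub_apply, sub_eq_zero] at this
      exact this.symm
    · intro n
      rw [SModEq.sub_mem]
      apply hker'
      rw [AdicCompletion.val_sub_apply, sub_eq_zero]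

end Groth.Agent.S17537
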