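import Groth.Statements.S17539
import Mathlib
import Groth.Agent.Helper8.Decaying
open Groth.Agent.Helper8.Decaying

set_option autoImplicit false
universe u v w
open W4c5adicflatcompl
open CAlg

namespace Groth.Agent.S17539

/-- For a commutative ring A, an ideal I, a set Z and an A-module M whose I-adic completion M^ is itself
I-adically complete, the canonical map from the I-adic completion of Z →₀ M to the functions Z → M^,
whose z-th coordinate is the completion of evaluation at z, is injective with image the I-adically
decaying functions Z → M^. (The source states bijectivity of the inverse map, from decaying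
functions to the limit of the finitely supported functions Z → M/I^n M, induced by the projections
M^ → M/I^n M; the two formulations are equivalent.) -/
theorem result {A : Type u} [CommRing A] (I : Ideal A) (Z : Type v)
    (M : Type w) [AddCommGroup M] [Module A M] [IsAdicComplete I (AdicCompletion I M)] :
    Function.Injective
        (LinearMap.pi fun z : Z =>
          (AdicCompletion.map I (Finsupp.lapply (M := M) (R := A) z)).restrictScalars A) ∧
      LinearMap.range
        (LinearMap.pi fun z : Z =>
          (AdicCompletion.map I (Finsupp.lapply (M := M) (R := A) z)).restrictScalars A) =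
        decaying I Z (AdicCompletion I M) := by
  classical
  set Ψ := (LinearMap.pi fun z : Z =>
          (AdicCompletion.map I (Finsupp.lapply (M := M) (R := A) z)).restrictScalars A) with hΨ
  have hΨval : ∀ (y : AdicCompletion.AdicCauchySequence I (Z →₀ M)) (z : Z) (n : ℕ),
      (Ψ (AdicCompletion.mk I _ y) z).val n =
        Submodule.Quotient.mk (p := (I ^ n • ⊤ : Submodule A M)) ((y n) z) := by
    intro y z n
    rfl
  constructor
  · rw [injective_iff_map_eq_zero]
    intro x hx
    obtain ⟨y, rfl⟩ := AdicCompletion.mk_surjective I _ x
    apply AdicCompletion.ext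
    intro n
    rw [AdicCompletion.mk_apply_coe, AdicCompletion.val_zero]
    change Submodule.Quotient.mk (y n) = 0
    rw [Submodule.Quotient.mk_eq_zero]
    apply finsupp_mem_pow_smul_top
    intro z
    have h1 := hΨval y z n
    rw [hx] at h1
    have h2 : Submodule.Quotient.mk (p := (I ^ n • ⊤ : Submodule A M)) ((y n) z) = 0 := by
      rw [← h1]; rfl
    exact (Submodule.Quotient.mk_eq_zero _).mp h2
  · apply le_antisymm
    · rintro _ ⟨x, rfl⟩
      obtain ⟨y, rfl⟩ := AdicCompletion.mk_surjective I _ x
      intro n
      refine ((y n).support.finite_toSet).subset ?_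
      intro z hz
      by_contra hzs
      apply hz
      apply mem_pow_smul_top_of_val_eq_zero
      rw [hΨval]
      have : (y n) z = 0 := by
        simpa [Finsupp.mem_support_iff] using hzs
      rw [this]; rfl
    · intro f hf
      have hsurj : ∀ z, ∃ a : AdicCompletion.AdicCauchySequence I M,
          AdicCompletion.mk I M a = f z := fun z => AdicCompletion.mk_surjective I M (f z)
      choose a ha using hsurj
      have hkey : ∀ (z : Z) (k j : ℕ), k ≤ j → f z ∈ (I ^ k • ⊤ : Submodule A (AdicCompletion I M)) →
          a z j ∈ (I ^ k • ⊤ : Submodule A M) := by
        intro z k j hkj hfz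
        have h1 := AdicCompletion.pow_smul_top_le_ker_eval I k hfz
        rw [LinearMap.mem_ker, AdicCompletion.eval_apply, ← ha z, AdicCompletion.mk_apply_coe] at h1
        have h2 : a z k ∈ (I ^ k • ⊤ : Submodule A M) :=
          (Submodule.Quotient.mk_eq_zero _).mp h1
        have h3 := (a z).property hkj
        rw [SModEq.sub_mem] at h3
        have : a z j = a z k - (a z k - a z j) := by abel
        rw [this]
        exact Submodule.sub_mem _ h2 h3
      let yfun : ℕ → Z → M := fun n z =>
        if f z ∈ (I ^ n • ⊤ : Submodule A (AdicCompletion I M)) then 0 else a z n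
      let y : ℕ → (Z →₀ M) := fun n =>
        Finsupp.onFinset (hf n).toFinset (yfun n) (by
          intro z hz
          rw [Set.Finite.mem_toFinset]
          intro hmem
          apply hz
          simp only [yfun, if_pos hmem])
      have hyapp : ∀ n z, (y n) z = yfun n z := fun n z => rfl
      have hanti : ∀ {k k' : ℕ}, k ≤ k' →
          (I ^ k' • ⊤ : Submodule A (AdicCompletion I M)) ≤ I ^ k • ⊤ := by
        intro k k' hkk'
        exact Submodule.smul_mono (Ideal.pow_le_pow_right hkk') le_rfl
      have hycauchy : AdicCompletion.IsAdicCauchy I (Z →₀ M) y := by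
        intro m n hmn
        rw [SModEq.sub_mem]
        apply finsupp_mem_pow_smul_top
        intro z
        rw [Finsupp.sub_apply, hyapp, hyapp]
        simp only [yfun]
        by_cases h1 : f z ∈ (I ^ n • ⊤ : Submodule A (AdicCompletion I M))
        · have h2 := hanti hmn h1
          rw [if_pos h1, if_pos h2, sub_zero]
          exact Submodule.zero_mem _
        · by_cases h2 : f z ∈ (I ^ m • ⊤ : Submodule A (AdicCompletion I M))
          · rw [if_pos h2, if_neg h1, zero_sub]
            exact Submodule.neg_mem _ (hkey z m n hmn h2)
          · rw [if_neg h2, if_neg h1]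
            have h3 := (a z).property hmn
            rw [SModEq.sub_mem] at h3
            exact h3
      refine ⟨AdicCompletion.mk I _ ⟨y, hycauchy⟩, ?_⟩
      funext z
      apply AdicCompletion.ext
      intro n
      rw [hΨval]
      change Submodule.Quotient.mk ((y n) z) = (f z).val n
      rw [← ha z, AdicCompletion.mk_apply_coe, hyapp]
      simp only [yfun]
      by_cases h1 : f z ∈ (I ^ n • ⊤ : Submodule A (AdicCompletion I M))
      · rw [if_pos h1]
        have h2 := hkey z n n le_rfl h1
        symm
        rw [Submodule.Quotient.mk_zero]
        exact (Submodule.Quotient.mk_eq_zero _).mpr h2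
      · rw [if_neg h1]; rfl

end Groth.Agent.S17539
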