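import Groth.Statements.S17540
import Mathlib

set_option autoImplicit false
universe u v w
open W4c5adicflatcompl
open CAlg

namespace Groth.Agent.S17540

/-- Let A be I-adically complete, M an I-adically complete A-module and m : Z → M a family. The images
of the m z generate M/IM (the span of the family together with IM is all of M) if and only if the
family I-adically generates M: every x in M is the I-adically convergent sum of g z • m z for some
I-adically decaying function g : Z → A. -/
theorem result {A : Type u} [CommRing A] (I : Ideal A) [IsAdicComplete I A]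
    (M : Type v) [AddCommGroup M] [Module A M] [IsAdicComplete I M] (Z : Type w) (m : Z → M) :
    Submodule.span A (Set.range m) ⊔ I • ⊤ = ⊤ ↔
      ∀ x : M, ∃ g : Z → A, g ∈ decaying I Z A ∧
        ∀ n : ℕ, ∃ S : Finset Z,
          (∀ z, z ∉ S → g z • m z ∈ (I ^ n • ⊤ : Submodule A M)) ∧
          x - (∑ z ∈ S, g z • m z) ∈ (I ^ n • ⊤ : Submodule A M) := by
  classical
  have htop : ∀ n : ℕ, (I ^ n • ⊤ : Submodule A A) = I ^ n := by
    intro n; simp
  constructor
  · intro hW x
    -- the linear combination map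
    set lc : (Z →₀ A) →ₗ[A] M := Finsupp.linearCombination A m with hlc
    -- Claim A
    have claimA : ∀ (k : ℕ) (y : M), y ∈ (I ^ k • ⊤ : Submodule A M) →
        ∃ c : Z →₀ A, (∀ z, c z ∈ I ^ k) ∧ y - lc c ∈ (I ^ (k + 1) • ⊤ : Submodule A M) := by
      intro k y hy
      have h1 : (I ^ k • ⊤ : Submodule A M) =
          I ^ k • Submodule.span A (Set.range m) ⊔ I ^ (k + 1) • ⊤ := by
        conv_lhs => rw [← hW]
        rw [Submodule.smul_sup, ← mul_smul, ← pow_succ]
      rw [h1] at hy
      obtain ⟨w, hw, y', hy', rfl⟩ := Submodule.mem_sup.mp hy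
      suffices H : ∃ c : Z →₀ A, (∀ z, c z ∈ I ^ k) ∧ w = lc c by
        obtain ⟨c, hc1, hc2⟩ := H
        refine ⟨c, hc1, ?_⟩
        rw [hc2, add_sub_cancel_left]
        exact hy'
      refine Submodule.smul_induction_on hw ?_ ?_
      · intro a ha w₀ hw₀
        obtain ⟨d, rfl⟩ := (Finsupp.mem_span_range_iff_exists_finsupp).mp hw₀
        refine ⟨a • d, fun z => ?_, ?_⟩
        · rw [Finsupp.smul_apply, smul_eq_mul]
          exact Ideal.mul_mem_right _ _ ha
        · rw [map_smul, hlc, Finsupp.linearCombination_apply]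
      · rintro w₁ w₂ ⟨c₁, h11, h12⟩ ⟨c₂, h21, h22⟩
        refine ⟨c₁ + c₂, fun z => ?_, ?_⟩
        · rw [Finsupp.add_apply]; exact Ideal.add_mem _ (h11 z) (h21 z)
        · rw [map_add, h12, h22]
    have stepEx : ∀ (k : ℕ) (y : {y : M // y ∈ (I ^ k • ⊤ : Submodule A M)}),
        ∃ c : Z →₀ A, (∀ z, c z ∈ I ^ k) ∧ y.1 - lc c ∈ (I ^ (k + 1) • ⊤ : Submodule A M) :=
      fun k y => claimA k y.1 y.2
    choose stepC hstepC1 hstepC2 using stepEx
    let Y : (k : ℕ) → {y : M // y ∈ (I ^ k • ⊤ : Submodule A M)} := fun k =>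
      Nat.rec (motive := fun k => {y : M // y ∈ (I ^ k • ⊤ : Submodule A M)})
        ⟨x, by rw [pow_zero, Ideal.one_eq_top, Submodule.top_smul]; exact Submodule.mem_top⟩
        (fun k y => ⟨y.1 - lc (stepC k y), hstepC2 k y⟩) k
    let c : ℕ → (Z →₀ A) := fun k => stepC k (Y k)
    have hY0 : (Y 0).1 = x := rfl
    have hYs : ∀ k, (Y (k + 1)).1 = (Y k).1 - lc (c k) := fun k => rfl
    have hcI : ∀ k z, c k z ∈ I ^ k := fun k z => hstepC1 k (Y k) z
    have hYsum : ∀ n, x - ∑ k ∈ Finset.range n, lc (c k) = (Y n).1 := by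
      intro n
      induction n with
      | zero => simp [hY0]
      | succ n ih =>
        rw [Finset.sum_range_succ, hYs, ← ih]; abel
    -- partial sums
    let s : ℕ → Z → A := fun n z => ∑ k ∈ Finset.range n, c k z
    have hs_cauchy : ∀ z {a b : ℕ}, a ≤ b → s a z ≡ s b z [SMOD (I ^ a • ⊤ : Submodule A A)] := by
      intro z a b hab
      rw [SModEq.sub_mem, htop]
      have : s b z - s a z = ∑ k ∈ Finset.Ico a b, c k z := by
        simp only [s]
        rw [Finset.sum_Ico_eq_sub _ hab]
      have h2 : s a z - s b z = -(∑ k ∈ Finset.Ico a b, c k z) := by rw [← this]; ring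
      rw [h2]
      refine Ideal.neg_mem_iff _ |>.mpr (Ideal.sum_mem _ fun k hk => ?_)
      exact Ideal.pow_le_pow_right (Finset.mem_Ico.mp hk).1 (hcI k z)
    have hA : IsPrecomplete I A := inferInstance
    have hlim : ∀ z, ∃ L : A, ∀ n, s n z ≡ L [SMOD (I ^ n • ⊤ : Submodule A A)] :=
      fun z => hA.prec (hs_cauchy z)
    choose g hg using hlim
    have hg' : ∀ z n, s n z - g z ∈ I ^ n := by
      intro z n
      have := hg z n
      rw [SModEq.sub_mem, htop] at this
      exact this
    let Sn : ℕ → Finset Z := fun n => (Finset.range n).biUnion fun k => (c k).support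
    have hsn0 : ∀ n z, z ∉ Sn n → s n z = 0 := by
      intro n z hz
      simp only [s]
      refine Finset.sum_eq_zero fun k hk => ?_
      by_contra hne
      apply hz
      exact Finset.mem_biUnion.mpr ⟨k, hk, Finsupp.mem_support_iff.mpr hne⟩
    have hgn : ∀ n z, z ∉ Sn n → g z ∈ I ^ n := by
      intro n z hz
      have := hg' z n
      rw [hsn0 n z hz, zero_sub] at this
      exact (Ideal.neg_mem_iff _).mp this
    refine ⟨g, fun n => ?_, fun n => ⟨Sn n, fun z hz => ?_, ?_⟩⟩
    · refine (Sn n).finite_toSet.subset ?_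
      intro z hz
      by_contra hzS
      apply hz
      rw [htop]
      exact hgn n z hzS
    · exact Submodule.smul_mem_smul (hgn n z hz) Submodule.mem_top
    · have h1 : ∑ z ∈ Sn n, s n z • m z = ∑ k ∈ Finset.range n, lc (c k) := by
        simp only [s, Finset.sum_smul]
        rw [Finset.sum_comm]
        refine Finset.sum_congr rfl fun k hk => ?_
        rw [hlc, Finsupp.linearCombination_apply, Finsupp.sum]
        symm
        refine Finset.sum_subset ?_ ?_
        · intro z hz
          exact Finset.mem_biUnion.mpr ⟨k, hk, hz⟩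
        · intro z _ hz
          rw [Finsupp.notMem_support_iff.mp hz, zero_smul]
      have h2 : x - ∑ z ∈ Sn n, g z • m z =
          (x - ∑ k ∈ Finset.range n, lc (c k)) + ∑ z ∈ Sn n, (s n z - g z) • m z := by
        rw [← h1]
        simp only [sub_smul, Finset.sum_sub_distrib]
        abel
      rw [h2, hYsum]
      refine Submodule.add_mem _ (Y n).2 (Submodule.sum_mem _ fun z _ => ?_)
      exact Submodule.smul_mem_smul (hg' z n) Submodule.mem_top
  · intro h
    rw [eq_top_iff]
    intro x _
    obtain ⟨g, _, hg⟩ := h x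
    obtain ⟨S, _, hS⟩ := hg 1
    rw [pow_one] at hS
    have : x = (∑ z ∈ S, g z • m z) + (x - ∑ z ∈ S, g z • m z) := by abel
    rw [this]
    refine Submodule.add_mem _ (Submodule.mem_sup_left ?_) (Submodule.mem_sup_right hS)
    exact Submodule.sum_mem _ fun z _ => Submodule.smul_mem _ _ (Submodule.subset_span ⟨z, rfl⟩)

end Groth.Agent.S17540
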