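import Groth.Statements.S17543
import Mathlib
import Groth.Agent.Helper8.Decaying
open scoped TensorProduct

set_option autoImplicit false
universe u v w
open W4c5adicflatcompl
open CAlg

namespace Groth.Agent.S17543

/-- Over a Noetherian ring A which is I-adically complete, for a finitely generated A-module M and a set
Z, the canonical map from M ⊗ (decaying functions Z → A) to functions Z → M is injective and its
image is the module of decaying functions Z → M. -/
theorem result {A : Type u} [CommRing A] [IsNoetherianRing A] (I : Ideal A)
    [IsAdicComplete I A] (Z : Type v) (M : Type w) [AddCommGroup M] [Module A M]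
    [Module.Finite A M] :
    Function.Injective
        ((TensorProduct.piScalarRightHom A A M Z) ∘ₗ ((decaying I Z A).subtype.lTensor M)) ∧
      LinearMap.range
        ((TensorProduct.piScalarRightHom A A M Z) ∘ₗ ((decaying I Z A).subtype.lTensor M)) =
        decaying I Z M := by
  classical
  set Φ := (TensorProduct.piScalarRightHom A A M Z) ∘ₗ ((decaying I Z A).subtype.lTensor M)
    with hΦ
  have hΦtmul : ∀ (x : M) (d : decaying I Z A), Φ (x ⊗ₜ[A] d) = fun z => (d : Z → A) z • x := by
    intro x d
    simp [hΦ, TensorProduct.piScalarRightHom_tmul]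
  obtain ⟨r, s, hs⟩ := Module.Finite.exists_fin (R := A) (M := M)
  set α : (Fin r → A) →ₗ[A] M := Fintype.linearCombination A s with hα
  have hαsurj : Function.Surjective α := by
    rw [← LinearMap.range_eq_top, hα, Fintype.range_linearCombination, hs]
  have hαapply : ∀ c : Fin r → A, α c = ∑ j, c j • s j := fun c =>
    Fintype.linearCombination_apply A s c
  -- every tensor is a combination of the generators
  have hrep : ∀ t : M ⊗[A] decaying I Z A, ∃ f : Fin r → decaying I Z A,
      t = ∑ j, s j ⊗ₜ[A] f j := by
    intro t
    induction t using TensorProduct.induction_on with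
    | zero => exact ⟨0, by simp⟩
    | tmul x d =>
      obtain ⟨c, rfl⟩ := hαsurj x
      refine ⟨fun j => c j • d, ?_⟩
      rw [hαapply, TensorProduct.sum_tmul]
      refine Finset.sum_congr rfl fun j _ => ?_
      rw [TensorProduct.smul_tmul]
    | add t₁ t₂ h₁ h₂ =>
      obtain ⟨f₁, rfl⟩ := h₁
      obtain ⟨f₂, rfl⟩ := h₂
      refine ⟨f₁ + f₂, ?_⟩
      rw [← Finset.sum_add_distrib]
      refine Finset.sum_congr rfl fun j _ => ?_
      rw [Pi.add_apply, TensorProduct.tmul_add]
  have hΦsum : ∀ f : Fin r → decaying I Z A,
      Φ (∑ j, s j ⊗ₜ[A] f j) = fun z => α (fun j => (f j : Z → A) z) := by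
    intro f
    rw [map_sum]
    funext z
    rw [Finset.sum_apply, hαapply]
    refine Finset.sum_congr rfl fun j _ => ?_
    rw [hΦtmul]
  constructor
  · rw [injective_iff_map_eq_zero]
    intro t ht
    obtain ⟨f, rfl⟩ := hrep t
    rw [hΦsum] at ht
    let F : Z → (Fin r → A) := fun z j => (f j : Z → A) z
    have hFdec : F ∈ decaying I Z (Fin r → A) :=
      Groth.Agent.Helper8.Decaying.mem_decaying_of_coord I Z F fun j => (f j).2
    have hFker : ∀ z, F z ∈ LinearMap.ker α := fun z => by
      rw [LinearMap.mem_ker]; exact congrFun ht z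
    let G : Z → LinearMap.ker α := fun z => ⟨F z, hFker z⟩
    have hGdec : G ∈ decaying I Z (LinearMap.ker α) :=
      (Groth.Agent.Helper8.Decaying.mem_decaying_submodule_iff I Z (Fin r → A)
        (LinearMap.ker α) G).mpr hFdec
    have hKfg : (LinearMap.ker α).FG := IsNoetherian.noetherian _
    obtain ⟨q, k, hk⟩ := Submodule.fg_iff_exists_fin_generating_family.mp hKfg
    have hkmem : ∀ l, k l ∈ LinearMap.ker α := fun l => by
      rw [← hk]; exact Submodule.subset_span ⟨l, rfl⟩
    let β : (Fin q → A) →ₗ[A] LinearMap.ker α :=
      LinearMap.codRestrict (LinearMap.ker α) (Fintype.linearCombination A k) (by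
        intro c
        rw [Fintype.linearCombination_apply]
        exact Submodule.sum_mem _ fun l _ => Submodule.smul_mem _ _ (hkmem l))
    have hβsurj : Function.Surjective β := by
      intro ⟨y, hy⟩
      have hy' : y ∈ Submodule.span A (Set.range k) := by rw [hk]; exact hy
      obtain ⟨c, hc⟩ := (Submodule.mem_span_range_iff_exists_fun A).mp hy'
      refine ⟨c, Subtype.ext ?_⟩
      change Fintype.linearCombination A k c = y
      rw [Fintype.linearCombination_apply]; exact hc
    obtain ⟨H, hHdec, hHG⟩ :=
      Groth.Agent.Helper8.Decaying.exists_decaying_lift I Z β hβsurj G hGdec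
    let h : Fin q → decaying I Z A := fun l =>
      ⟨fun z => H z l, Groth.Agent.Helper8.Decaying.coord_mem_decaying I Z H hHdec l⟩
    have hf : ∀ j, f j = ∑ l, (k l j) • h l := by
      intro j
      apply Subtype.ext
      funext z
      have h1 := congrArg Subtype.val (hHG z)
      change Fintype.linearCombination A k (H z) = F z at h1
      rw [Fintype.linearCombination_apply] at h1
      have h2 := congrFun h1 j
      simp only [Finset.sum_apply, Pi.smul_apply, smul_eq_mul] at h2
      change (f j : Z → A) z = _
      rw [show (f j : Z → A) z = F z j from rfl, ← h2]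
      simp only [Submodule.coe_sum, Submodule.coe_smul, Finset.sum_apply, Pi.smul_apply,
        smul_eq_mul, h, mul_comm]
    calc ∑ j, s j ⊗ₜ[A] f j = ∑ j, ∑ l, (k l j • s j) ⊗ₜ[A] h l := by
          refine Finset.sum_congr rfl fun j _ => ?_
          rw [hf j, TensorProduct.tmul_sum]
          refine Finset.sum_congr rfl fun l _ => ?_
          rw [TensorProduct.smul_tmul]
      _ = ∑ l, (∑ j, k l j • s j) ⊗ₜ[A] h l := by
          rw [Finset.sum_comm]
          refine Finset.sum_congr rfl fun l _ => ?_
          rw [TensorProduct.sum_tmul]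
      _ = 0 := by
          refine Finset.sum_eq_zero fun l _ => ?_
          have := hkmem l
          rw [LinearMap.mem_ker, hαapply] at this
          rw [this, TensorProduct.zero_tmul]
  · apply le_antisymm
    · rintro _ ⟨t, rfl⟩
      induction t using TensorProduct.induction_on with
      | zero => rw [map_zero]; exact Submodule.zero_mem _
      | tmul x d =>
        rw [hΦtmul]
        intro n
        refine (d.2 n).subset ?_
        intro z hz hz'
        apply hz
        have htop : (I ^ n • ⊤ : Submodule A A) = I ^ n := by simp
        rw [htop] at hz'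
        exact Submodule.smul_mem_smul hz' Submodule.mem_top
      | add t₁ t₂ h₁ h₂ =>
        rw [map_add]; exact Submodule.add_mem _ h₁ h₂
    · intro F' hF'
      obtain ⟨G', hG'dec, hG'⟩ :=
        Groth.Agent.Helper8.Decaying.exists_decaying_lift I Z α hαsurj F' hF'
      let g : Fin r → decaying I Z A := fun j =>
        ⟨fun z => G' z j, Groth.Agent.Helper8.Decaying.coord_mem_decaying I Z G' hG'dec j⟩
      refine ⟨∑ j, s j ⊗ₜ[A] g j, ?_⟩
      rw [hΦsum]
      funext z
      exact hG' z

end Groth.Agent.S17543
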