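import Groth.Statements.S17544
import Mathlib
import Groth.Agent.S17541
import Groth.Agent.S17542

set_option autoImplicit false
universe u v w
open W4c5adicflatcompl
open CAlg

namespace Groth.Agent.S17544

/-- For a Noetherian ring A which is I-adically complete, a set Z and n ≥ 0, reduction modulo I^n maps
the decaying functions Z → A onto the finitely supported functions Z → A/I^n, and its kernel, the
decaying functions with all values in I^n, equals I^n times the module of decaying functions; so
(A/I^n) ⊗ F_dec(Z, A) → F_fin(Z, A/I^n) is bijective. -/
theorem result {A : Type u} [CommRing A] [IsNoetherianRing A]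
    (I : Ideal A) [IsAdicComplete I A] (Z : Type v) (n : ℕ) :
    (∀ g : Z →₀ A ⧸ I ^ n, ∃ f : decaying I Z A,
        ∀ z, Ideal.Quotient.mk (I ^ n) ((f : Z → A) z) = g z) ∧
      ∀ f : decaying I Z A,
        f ∈ (I ^ n • ⊤ : Submodule A (decaying I Z A)) ↔ ∀ z, (f : Z → A) z ∈ I ^ n := by
  classical
  constructor
  · intro g
    have hsurj : ∀ y : A ⧸ I ^ n, ∃ a : A, Ideal.Quotient.mk (I ^ n) a = y :=
      Ideal.Quotient.mk_surjective
    choose lift hlift using hsurj
    refine ⟨⟨fun z => if z ∈ g.support then lift (g z) else 0, fun m => ?_⟩, fun z => ?_⟩
    · refine (g.support.finite_toSet).subset ?_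
      intro z hz
      by_contra hzs
      apply hz
      simp only [Finset.mem_coe] at hzs
      simp only [hzs, if_false]
      exact Submodule.zero_mem _
    · simp only
      by_cases hz : z ∈ g.support
      · simp only [hz, if_true, hlift]
      · simp only [hz, if_false, map_zero]
        exact (Finsupp.notMem_support_iff.mp hz).symm
  · intro f
    constructor
    · intro hf
      refine Submodule.smul_induction_on hf ?_ ?_
      · intro a ha h _ z
        change a • ((h : Z → A) z) ∈ I ^ n
        exact Ideal.mul_mem_right _ _ ha
      · intro x y hx hy z
        exact Ideal.add_mem _ (hx z) (hy z)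
    · intro hf
      -- generators of I^n
      obtain ⟨S, hS⟩ := (isNoetherianRing_iff_ideal_fg A).mp inferInstance (I ^ n)
      -- the surjection (S → A) → I^n
      let φ : (S → A) →ₗ[A] ↥(I ^ n) :=
        LinearMap.codRestrict (I ^ n) (Fintype.linearCombination A (fun s : S => (s : A)))
          (by
            intro c
            rw [Fintype.linearCombination_apply]
            refine Ideal.sum_mem _ fun s _ => Ideal.mul_mem_left _ _ ?_
            rw [← hS]; exact Ideal.subset_span s.2)
      have hφ : Function.Surjective φ := by
        intro ⟨y, hy⟩
        have hy' : y ∈ Submodule.span A (Set.range (fun s : S => (s : A))) := by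
          rw [Subtype.range_coe_subtype]
          have : y ∈ Ideal.span (S : Set A) := by rw [hS]; exact hy
          exact this
        obtain ⟨c, hc⟩ := (Submodule.mem_span_range_iff_exists_fun A).mp hy'
        refine ⟨c, Subtype.ext ?_⟩
        change Fintype.linearCombination A (fun s : S => (s : A)) c = y
        rw [Fintype.linearCombination_apply]
        exact hc
      -- the function into I^n
      let g : Z → ↥(I ^ n) := fun z => ⟨(f : Z → A) z, hf z⟩
      have hg : g ∈ decaying I Z ↥(I ^ n) := by
        have := (Groth.Agent.S17541.result I Z A (I ^ n) g).mpr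
        exact this f.2
      obtain ⟨F, hF, hFg⟩ := Groth.Agent.S17542.result I Z φ hφ g hg
      -- coordinates of F are decaying
      have hcoord : ∀ s : S, (fun z => F z s) ∈ decaying I Z A := by
        intro s m
        refine (hF m).subset ?_
        intro z hz hz'
        apply hz
        have h1 : (LinearMap.proj s : (S → A) →ₗ[A] A) (F z) ∈
            (I ^ m • ⊤ : Submodule A (S → A)).map (LinearMap.proj s) := ⟨F z, hz', rfl⟩
        rw [Submodule.map_smul''] at h1
        exact Submodule.smul_mono le_rfl le_top h1
      have hsum : f = ∑ s : S, (s : A) • (⟨fun z => F z s, hcoord s⟩ : decaying I Z A) := by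
        apply Subtype.ext
        funext z
        have h2 := congrArg Subtype.val (hFg z)
        change Fintype.linearCombination A (fun s : S => (s : A)) (F z) = (f : Z → A) z at h2
        rw [Fintype.linearCombination_apply] at h2
        rw [← h2]
        simp only [Submodule.coe_sum, Submodule.coe_smul, Finset.sum_apply, Pi.smul_apply,
          smul_eq_mul, mul_comm]
      rw [hsum]
      refine Submodule.sum_mem _ fun s _ => Submodule.smul_mem_smul ?_ Submodule.mem_top
      rw [← hS]; exact Ideal.subset_span s.2

end Groth.Agent.S17544
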