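import Groth.Statements.S17545
import Mathlib
import Groth.Agent.S17543
open scoped TensorProduct

set_option autoImplicit false
universe u v w
open W4c5adicflatcompl
open CAlg

namespace Groth.Agent.S17545

/-- For a Noetherian ring A which is I-adically complete and any set Z, the A-module of I-adically
decaying functions Z → A is flat. -/
theorem result {A : Type u} [CommRing A] [IsNoetherianRing A]
    (I : Ideal A) [IsAdicComplete I A] (Z : Type v) :
    Module.Flat A (decaying I Z A) := by
  rw [Module.Flat.iff_rTensor_injective']
  intro J
  have hJ := (Groth.Agent.S17543.result I Z J).1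
  have hcomp : ((TensorProduct.piScalarRightHom A A A Z) ∘ₗ ((decaying I Z A).subtype.lTensor A)) ∘ₗ
      (J.subtype.rTensor (decaying I Z A)) =
      (J.subtype.compLeft Z) ∘ₗ
        ((TensorProduct.piScalarRightHom A A J Z) ∘ₗ ((decaying I Z A).subtype.lTensor J)) := by
    apply TensorProduct.ext'
    intro x d
    funext z
    simp [TensorProduct.piScalarRightHom_tmul]
  have hinj : Function.Injective ((J.subtype.compLeft Z) ∘ₗ
        ((TensorProduct.piScalarRightHom A A J Z) ∘ₗ ((decaying I Z A).subtype.lTensor J))) := by
    rw [LinearMap.coe_comp]
    refine Function.Injective.comp ?_ hJ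
    intro f g hfg
    funext z
    exact Subtype.ext (congrFun hfg z)
  rw [← hcomp, LinearMap.coe_comp] at hinj
  exact Function.Injective.of_comp hinj

end Groth.Agent.S17545
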