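import Groth.Statements.S17548
import Mathlib
import Groth.Agent.Helper8.Decaying
import Groth.Agent.S17539
open Groth.Agent.Helper8.Decaying

set_option autoImplicit false
universe u v w
open W4c5adicflatcompl
open CAlg

namespace Groth.Agent.S17548

/-- For a Noetherian ring A with I-adic completion Â, a set Z, an I-adically complete A-module M and any
function f : Z → M, there is a unique A-linear map from the module of I-adically decaying functions
Z → Â to M taking, for every z, the function supported at z with value 1 to f z. -/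
theorem result {A : Type u} [CommRing A] [IsNoetherianRing A]
    (I : Ideal A) (Z : Type v) [DecidableEq Z] (M : Type w) [AddCommGroup M] [Module A M]
    [IsAdicComplete I M] (f : Z → M) :
    ∃! φ : decaying I Z (AdicCompletion I A) →ₗ[A] M,
      ∀ z, φ (single I z (1 : AdicCompletion I A)) = f z := by
  haveI : IsAdicComplete I (AdicCompletion I A) :=
    AdicCompletion.isAdicComplete ((isNoetherianRing_iff_ideal_fg A).mp inferInstance I)
  set Ψ : AdicCompletion I (Z →₀ A) →ₗ[A] (Z → AdicCompletion I A) :=
    (LinearMap.pi fun z : Z =>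
      (AdicCompletion.map I (Finsupp.lapply (M := A) (R := A) z)).restrictScalars A) with hΨ
  obtain ⟨hinj, hrange⟩ := Groth.Agent.S17539.result I Z A
  let e : AdicCompletion I (Z →₀ A) ≃ₗ[A] decaying I Z (AdicCompletion I A) :=
    (LinearEquiv.ofInjective Ψ hinj).trans (LinearEquiv.ofEq _ _ hrange)
  have he : ∀ x, ((e x : decaying I Z (AdicCompletion I A)) : Z → AdicCompletion I A) = Ψ x :=
    fun x => rfl
  have hΨof : ∀ (s : Z →₀ A) (z : Z), Ψ (AdicCompletion.of I _ s) z = AdicCompletion.of I A (s z) := by
    intro s z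
    change AdicCompletion.map I (Finsupp.lapply z) (AdicCompletion.of I _ s) = _
    rw [AdicCompletion.map_of]
    rfl
  have hof1 : AdicCompletion.of I A (1 : A) = 1 := by
    apply AdicCompletion.ext
    intro n
    rfl
  have hsingle : ∀ z, e (AdicCompletion.of I _ (Finsupp.single z (1 : A))) =
      single I z (1 : AdicCompletion I A) := by
    intro z
    apply Subtype.ext
    funext z'
    rw [he, hΨof, coe_single]
    by_cases h : z' = z
    · subst h
      rw [Finsupp.single_eq_same, Pi.single_eq_same, hof1]
    · rw [Finsupp.single_eq_of_ne h, Pi.single_eq_of_ne h, map_zero]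
  set lc : (Z →₀ A) →ₗ[A] M := Finsupp.linearCombination A f with hlc
  -- values with vanishing n-th component lie in I^n • ⊤
  have hval0 : ∀ (n : ℕ) (x : AdicCompletion I (Z →₀ A)), x.val n = 0 →
      e x ∈ (I ^ n • ⊤ : Submodule A (decaying I Z (AdicCompletion I A))) := by
    intro n x hx
    rw [mem_pow_smul_top_decaying_iff]
    intro z
    apply mem_pow_smul_top_of_val_eq_zero
    rw [he]
    change (AdicCompletion.map I (Finsupp.lapply z) x).val n = 0
    rw [AdicCompletion.map_val_apply, hx, map_zero]
  have hmapsmul : ∀ (ψ : decaying I Z (AdicCompletion I A) →ₗ[A] M) (n : ℕ)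
      (g : decaying I Z (AdicCompletion I A)),
      g ∈ (I ^ n • ⊤ : Submodule A (decaying I Z (AdicCompletion I A))) →
      ψ g ∈ (I ^ n • ⊤ : Submodule A M) := by
    intro ψ n g hg
    have h1 : ψ g ∈ (I ^ n • ⊤ : Submodule A (decaying I Z (AdicCompletion I A))).map ψ :=
      ⟨g, hg, rfl⟩
    rw [Submodule.map_smul''] at h1
    exact Submodule.smul_mono le_rfl le_top h1
  refine ⟨(AdicCompletion.ofLinearEquiv I M).symm.toLinearMap ∘ₗ
      ((AdicCompletion.map I lc).restrictScalars A) ∘ₗ e.symm.toLinearMap, ?_, ?_⟩
  · intro z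
    simp only [LinearMap.coe_comp, LinearEquiv.coe_coe, Function.comp_apply,
      LinearMap.coe_restrictScalars]
    rw [← hsingle z, LinearEquiv.symm_apply_apply, AdicCompletion.map_of,
      AdicCompletion.ofLinearEquiv_symm_of, hlc, Finsupp.linearCombination_single, one_smul]
  · -- uniqueness
    have huniq : ∀ ψ₁ ψ₂ : decaying I Z (AdicCompletion I A) →ₗ[A] M,
        (∀ z, ψ₁ (single I z (1 : AdicCompletion I A)) = f z) →
        (∀ z, ψ₂ (single I z (1 : AdicCompletion I A)) = f z) → ψ₁ = ψ₂ := by
      intro ψ₁ ψ₂ h₁ h₂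
      have hagree : ψ₁ ∘ₗ e.toLinearMap ∘ₗ (AdicCompletion.of I (Z →₀ A)) =
          ψ₂ ∘ₗ e.toLinearMap ∘ₗ (AdicCompletion.of I (Z →₀ A)) := by
        apply Finsupp.lhom_ext
        intro z a
        have : Finsupp.single z a = a • Finsupp.single z (1 : A) := by
          rw [Finsupp.smul_single, smul_eq_mul, mul_one]
        simp only [LinearMap.coe_comp, LinearEquiv.coe_coe, Function.comp_apply]
        rw [this]
        simp only [map_smul]
        rw [hsingle, h₁, h₂]
      apply LinearMap.ext
      intro g
      have hM : IsHausdorff I M := inferInstance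
      rw [IsHausdorff.eq_iff_smodEq (I := I)]
      intro n
      obtain ⟨x, rfl⟩ := e.surjective g
      obtain ⟨y, rfl⟩ := AdicCompletion.mk_surjective I _ x
      set x := AdicCompletion.mk I _ y with hx
      set t := AdicCompletion.of I (Z →₀ A) (y n) with ht
      have hxt : (x - t).val n = 0 := by
        rw [AdicCompletion.val_sub, Pi.sub_apply, hx, ht, AdicCompletion.mk_apply_coe,
          AdicCompletion.of_apply, sub_self]
      have h3 := hval0 n (x - t) hxt
      have ht12 : ψ₁ (e t) = ψ₂ (e t) := by
        have := congrArg (fun L => L (y n)) hagree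
        simpa using this
      rw [SModEq.sub_mem]
      have : ψ₁ (e x) - ψ₂ (e x) = ψ₁ (e (x - t)) - ψ₂ (e (x - t)) := by
        rw [map_sub, map_sub, map_sub, ht12]; abel
      rw [this]
      exact Submodule.sub_mem _ (hmapsmul ψ₁ n _ h3) (hmapsmul ψ₂ n _ h3)
    intro ψ hψ
    refine huniq ψ _ hψ ?_
    intro z
    simp only [LinearMap.coe_comp, LinearEquiv.coe_coe, Function.comp_apply,
      LinearMap.coe_restrictScalars]
    rw [← hsingle z, LinearEquiv.symm_apply_apply, AdicCompletion.map_of,
      AdicCompletion.ofLinearEquiv_symm_of, hlc, Finsupp.linearCombination_single, one_smul]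

end Groth.Agent.S17548
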