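import Groth.Statements.S17549
import Mathlib
import Groth.Agent.S17547
import Groth.Agent.S17548

set_option autoImplicit false
universe u
open W4c5adicflatcompl
open CAlg

namespace Groth.Agent.S17549

/-- Over a Noetherian ring A with I-adic completion Â, an A-module P is I-adically projective
(I-adically complete, and every A-linear map from P to the target of a surjection between I-adically
complete modules lifts along that surjection) exactly when P is a retract of some module of
I-adically decaying functions Z → Â: there are a set Z, an A-linear map i from P to the decaying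
functions Z → Â and an A-linear map r back with r ∘ i the identity of P. Test modules, P and Z live
in the universe of A. -/
theorem result {A : Type u} [CommRing A] [IsNoetherianRing A]
    (I : Ideal A) (P : Type u) [AddCommGroup P] [Module A P] :
    IsAdicProjective I P ↔
      ∃ (Z : Type u) (i : P →ₗ[A] decaying I Z (AdicCompletion I A))
        (r : decaying I Z (AdicCompletion I A) →ₗ[A] P), r ∘ₗ i = LinearMap.id := by
  classical
  constructor
  · rintro ⟨hPc, hlift⟩
    haveI := hPc
    obtain ⟨r, hr, -⟩ := Groth.Agent.S17548.result I P P (fun p => p)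
    have hD : IsAdicComplete I (decaying I P (AdicCompletion I A)) :=
      Groth.Agent.S17547.result I P A
    have hrsurj : Function.Surjective r := fun p => ⟨_, hr p⟩
    obtain ⟨i, hi⟩ := hlift _ P hD hPc r hrsurj LinearMap.id
    exact ⟨P, i, r, hi⟩
  · rintro ⟨Z, i, r, hri⟩
    have hD : IsAdicComplete I (decaying I Z (AdicCompletion I A)) :=
      Groth.Agent.S17547.result I Z A
    have hri' : ∀ p, r (i p) = p := fun p => by
      have := congrArg (fun L => L p) hri
      simpa using this
    have hmapsmul : ∀ {X Y : Type u} [AddCommGroup X] [Module A X] [AddCommGroup Y] [Module A Y]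
        (ψ : X →ₗ[A] Y) (n : ℕ) (g : X), g ∈ (I ^ n • ⊤ : Submodule A X) →
        ψ g ∈ (I ^ n • ⊤ : Submodule A Y) := by
      intro X Y _ _ _ _ ψ n g hg
      have h1 : ψ g ∈ (I ^ n • ⊤ : Submodule A X).map ψ := ⟨g, hg, rfl⟩
      rw [Submodule.map_smul''] at h1
      exact Submodule.smul_mono le_rfl le_top h1
    have hPc : IsAdicComplete I P := by
      haveI hH : IsHausdorff I P := by
        constructor
        intro x hx
        have h1 : i x = 0 := by
          apply hD.toIsHausdorff.haus
          intro n
          have := hx n
          rw [SModEq.sub_mem, sub_zero] at this ⊢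
          exact hmapsmul i n x this
        rw [← hri' x, h1, map_zero]
      haveI hPre : IsPrecomplete I P := by
        constructor
        intro f hf
        obtain ⟨L, hL⟩ := hD.toIsPrecomplete.prec' (fun k => i (f k)) (by
          intro m n hmn
          have := hf hmn
          rw [SModEq.sub_mem] at this ⊢
          rw [← map_sub]
          exact hmapsmul i m _ this)
        refine ⟨r L, fun n => ?_⟩
        have := hL n
        rw [SModEq.sub_mem] at this ⊢
        have h2 := hmapsmul r n _ this
        rw [map_sub, hri'] at h2
        exact h2
      exact { }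
    refine ⟨hPc, ?_⟩
    intro M N _ _ _ _ hM hN φ hφ ψ
    haveI := hM
    haveI := hN
    choose m hm using fun z : Z => hφ (ψ (r (single I z (1 : AdicCompletion I A))))
    obtain ⟨χ', hχ', -⟩ := Groth.Agent.S17548.result I Z M m
    obtain ⟨φ₀, -, huniq⟩ := Groth.Agent.S17548.result I Z N
      (fun z => ψ (r (single I z (1 : AdicCompletion I A))))
    have h1 : φ ∘ₗ χ' = ψ ∘ₗ r := by
      have e1 := huniq (φ ∘ₗ χ') (fun z => by
        simp only [LinearMap.coe_comp, Function.comp_apply]
        rw [hχ', hm])
      have e2 := huniq (ψ ∘ₗ r) (fun z => rfl)
      rw [e1, e2]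
    refine ⟨χ' ∘ₗ i, ?_⟩
    rw [← LinearMap.comp_assoc, h1, LinearMap.comp_assoc, hri, LinearMap.comp_id]

end Groth.Agent.S17549
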