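import Groth.Statements.S17550
import Mathlib
import Groth.Agent.Helper8.Decaying
import Groth.Agent.S17539
open Groth.Agent.Helper8.Decaying

set_option autoImplicit false
universe u
open W4c5adicflatcompl
open scoped TensorProduct
open CAlg

namespace Groth.Agent.S17550

/-- For Noetherian rings A and B with B an A-algebra, ideals I of A and J of B with I B contained in J,
and an I-adically free A-module P, the J-adic completion of B ⊗ P is a J-adically free B-module (the
completed base change of an adically free module is adically free). -/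
theorem result {A B : Type u} [CommRing A] [CommRing B] [Algebra A B]
    [IsNoetherianRing A] [IsNoetherianRing B] (I : Ideal A) (J : Ideal B)
    (hIJ : I.map (algebraMap A B) ≤ J) (P : Type u) [AddCommGroup P] [Module A P]
    (hP : IsAdicFree I P) :
    IsAdicFree J (AdicCompletion J (B ⊗[A] P)) := by
  classical
  obtain ⟨Z, ⟨e⟩⟩ := hP
  haveI hBh : IsAdicComplete J (AdicCompletion J B) :=
    AdicCompletion.isAdicComplete ((isNoetherianRing_iff_ideal_fg B).mp inferInstance J)
  let ee : Z → P := fun z => e.symm (single I z (1 : AdicCompletion I A))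
  let θ : (Z →₀ B) →ₗ[B] B ⊗[A] P :=
    Finsupp.linearCombination B (fun z => (1 : B) ⊗ₜ[A] ee z)
  have hθsingle : ∀ (z : Z) (b : B), θ (Finsupp.single z b) = b ⊗ₜ[A] ee z := by
    intro z b
    simp only [θ, Finsupp.linearCombination_single, TensorProduct.smul_tmul', smul_eq_mul, mul_one]
  have hIJn : ∀ (n : ℕ) (a : A), a ∈ I ^ n → algebraMap A B a ∈ J ^ n := by
    intro n a ha
    have h1 : algebraMap A B a ∈ (I ^ n).map (algebraMap A B) := Ideal.mem_map_of_mem _ ha
    rw [Ideal.map_pow] at h1
    exact Ideal.pow_right_mono hIJ n h1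
  have htmul_mem : ∀ (n : ℕ) (b : B) (p : P), p ∈ (I ^ n • ⊤ : Submodule A P) →
      b ⊗ₜ[A] p ∈ (J ^ n • ⊤ : Submodule B (B ⊗[A] P)) := by
    intro n b p hp
    refine Submodule.smul_induction_on hp ?_ ?_
    · intro a ha y _
      have : b ⊗ₜ[A] (a • y) = (algebraMap A B a) • (b ⊗ₜ[A] y) := by
        rw [TensorProduct.smul_tmul', smul_eq_mul, ← Algebra.smul_def, TensorProduct.smul_tmul]
      rw [this]
      exact Submodule.smul_mem_smul (hIJn n a ha) Submodule.mem_top
    · intro y₁ y₂ h₁ h₂
      rw [TensorProduct.tmul_add]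
      exact Submodule.add_mem _ h₁ h₂
  -- surjectivity modulo J
  have hsurj1 : Function.Surjective
      ((J • ⊤ : Submodule B (B ⊗[A] P)).mkQ ∘ₗ θ) := by
    intro v
    obtain ⟨t, rfl⟩ := Submodule.mkQ_surjective _ v
    induction t using TensorProduct.induction_on with
    | zero => exact ⟨0, by simp⟩
    | tmul b p =>
      obtain ⟨S, a, hSa⟩ := exists_finite_approx I Z 1 (e p)
      have h1 : p - ∑ z ∈ S, a z • ee z ∈ (I ^ 1 • ⊤ : Submodule A P) := by
        have h2 := map_mem_pow_smul_top I e.symm.toLinearMap 1 _ hSa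
        simpa [ee, map_sub, map_sum] using h2
      refine ⟨∑ z ∈ S, Finsupp.single z (a z • b), ?_⟩
      rw [LinearMap.coe_comp, Function.comp_apply, map_sum, Submodule.mkQ_apply,
        Submodule.mkQ_apply, Submodule.Quotient.eq]
      have h3 : ∑ z ∈ S, θ (Finsupp.single z (a z • b)) = b ⊗ₜ[A] (∑ z ∈ S, a z • ee z) := by
        rw [TensorProduct.tmul_sum]
        refine Finset.sum_congr rfl fun z _ => ?_
        rw [hθsingle, TensorProduct.smul_tmul]
      rw [h3, ← Submodule.neg_mem_iff, neg_sub, ← TensorProduct.tmul_sub]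
      have := htmul_mem 1 b _ h1
      rwa [pow_one] at this
    | add t₁ t₂ h₁ h₂ =>
      obtain ⟨c₁, hc₁⟩ := h₁
      obtain ⟨c₂, hc₂⟩ := h₂
      exact ⟨c₁ + c₂, by rw [map_add, hc₁, hc₂, map_add]⟩
  -- injectivity modulo J ^ n
  have hinjn : ∀ (n : ℕ) (c : Z →₀ B), θ c ∈ (J ^ n • ⊤ : Submodule B (B ⊗[A] P)) →
      c ∈ (J ^ n • ⊤ : Submodule B (Z →₀ B)) := by
    intro n c hc
    apply finsupp_mem_pow_smul_top
    intro z
    have htopB : (J ^ n • ⊤ : Submodule B B) = J ^ n := by simp
    rw [htopB]
    have hcomap : I ^ n ≤ (J ^ n).comap (Algebra.ofId A B) := by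
      intro a ha
      exact hIJn n a ha
    let pz : P →ₗ[A] B ⧸ J ^ n :=
      (Ideal.quotientMapₐ (J ^ n) (Algebra.ofId A B) hcomap).toLinearMap ∘ₗ
        (AdicCompletion.evalₐ I n).toLinearMap ∘ₗ
          ((LinearMap.proj z : (Z → AdicCompletion I A) →ₗ[A] AdicCompletion I A) ∘ₗ
            (decaying I Z (AdicCompletion I A)).subtype) ∘ₗ e.toLinearMap
    have hpz : ∀ z', pz (ee z') = if z' = z then 1 else 0 := by
      intro z'
      simp only [pz, ee, LinearMap.coe_comp, LinearEquiv.coe_coe, Function.comp_apply,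
        LinearEquiv.apply_symm_apply, Submodule.coe_subtype, coe_single, LinearMap.proj_apply,
        AlgHom.toLinearMap_apply]
      by_cases h : z' = z
      · subst h
        rw [Pi.single_eq_same, if_pos rfl, map_one, map_one]
      · rw [Pi.single_eq_of_ne (Ne.symm h), if_neg h, map_zero, map_zero]
    let Pz : B ⊗[A] P →ₗ[B] B ⧸ J ^ n := pz.liftBaseChange B
    have hPzθ : Pz (θ c) = Ideal.Quotient.mk (J ^ n) (c z) := by
      have hc' : c = ∑ z' ∈ c.support, Finsupp.single z' (c z') := by
        conv_lhs => rw [← Finsupp.sum_single c]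
        rfl
      rw [hc', map_sum, map_sum]
      simp only [hθsingle, Pz, LinearMap.liftBaseChange_tmul, hpz]
      rw [Finset.sum_eq_single z]
      · simp only [if_true]
        rw [← hc', Algebra.smul_def, mul_one]
        rfl
      · intro z' _ hne
        rw [if_neg hne, smul_zero]
      · intro hz
        rw [Finsupp.notMem_support_iff.mp hz, if_pos rfl, zero_smul]
    have hPz0 : Pz (θ c) = 0 := by
      have h1 := map_mem_pow_smul_top J Pz n _ hc
      have h2 : ∀ y ∈ (J ^ n • ⊤ : Submodule B (B ⧸ J ^ n)), y = 0 := by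
        intro y hy
        refine Submodule.smul_induction_on hy ?_ ?_
        · intro j hj w _
          rw [Algebra.smul_def]
          have : algebraMap B (B ⧸ J ^ n) j = 0 := Ideal.Quotient.eq_zero_iff_mem.mpr hj
          rw [this, zero_mul]
        · intro y₁ y₂ h₁ h₂
          rw [h₁, h₂, add_zero]
      exact h2 _ h1
    rw [hPzθ] at hPz0
    exact Ideal.Quotient.eq_zero_iff_mem.mp hPz0
  -- the first equivalence
  have hbij : Function.Bijective ((AdicCompletion.map J θ).restrictScalars B) := by
    constructor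
    · rw [injective_iff_map_eq_zero]
      intro x hx
      obtain ⟨y, rfl⟩ := AdicCompletion.mk_surjective J _ x
      apply AdicCompletion.ext
      intro n
      rw [AdicCompletion.mk_apply_coe, AdicCompletion.val_zero]
      change Submodule.Quotient.mk (y n) = 0
      rw [Submodule.Quotient.mk_eq_zero]
      apply hinjn
      have h1 : ((AdicCompletion.map J θ) (AdicCompletion.mk J _ y)).val n = 0 := by
        have := congrArg (fun w => w.val n) hx
        simpa using this
      rw [AdicCompletion.map_mk, AdicCompletion.mk_apply_coe] at h1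
      exact (Submodule.Quotient.mk_eq_zero _).mp h1
    · exact AdicCompletion.map_surjective_of_mkQ_comp_surjective hsurj1
  obtain ⟨hinj2, hrange2⟩ := Groth.Agent.S17539.result J Z B
  let E1 := LinearEquiv.ofBijective ((AdicCompletion.map J θ).restrictScalars B) hbij
  let E2 := (LinearEquiv.ofInjective _ hinj2).trans (LinearEquiv.ofEq _ _ hrange2)
  exact ⟨Z, ⟨E1.symm.trans E2⟩⟩

end Groth.Agent.S17550
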