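import Groth.Statements.S17551
import Mathlib
import Groth.Agent.Helper8.AdicSys
import Groth.Agent.S17539
open Groth.Agent.Helper8

set_option autoImplicit false
universe u
open W4c5adicflatcompl
open CAlg

namespace Groth.Agent.S17551

/-- For a complete Noetherian local ring A (maximal ideal m, m-adic completion Â) and an m-adic system
(M n, ψ n : M (n+1) → M n) of A-modules, meaning that each M n is a module over A/m^(n+1) and each ψ
n is surjective with kernel m^(n+1) M (n+1), if every M n is flat over A/m^(n+1) then the inverse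
limit of the system is m-adically free (isomorphic to the m-adically decaying functions Z → Â for
some set Z), and for every n its projection to M n is surjective with kernel m^(n+1) times the
limit. A, the M n and Z share one universe. -/
theorem result {A : Type u} [CommRing A] [IsNoetherianRing A] [IsLocalRing A]
    [IsAdicComplete (IsLocalRing.maximalIdeal A) A]
    (M : ℕ → Type u) [∀ n, AddCommGroup (M n)] [∀ n, Module A (M n)]
    [∀ n, Module (A ⧸ IsLocalRing.maximalIdeal A ^ (n + 1)) (M n)]
    [∀ n, IsScalarTower A (A ⧸ IsLocalRing.maximalIdeal A ^ (n + 1)) (M n)]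
    [∀ n, Module.Flat (A ⧸ IsLocalRing.maximalIdeal A ^ (n + 1)) (M n)]
    (ψ : ∀ n, M (n + 1) →ₗ[A] M n) (hψ : ∀ n, Function.Surjective (ψ n))
    (hker : ∀ n, LinearMap.ker (ψ n) =
      (IsLocalRing.maximalIdeal A ^ (n + 1) • ⊤ : Submodule A (M (n + 1)))) :
    IsAdicFree (IsLocalRing.maximalIdeal A) (sysLim M ψ) ∧
      ∀ n, Function.Surjective (sysProj M ψ n) ∧
        LinearMap.ker (sysProj M ψ n) =
          (IsLocalRing.maximalIdeal A ^ (n + 1) • ⊤ : Submodule A (sysLim M ψ)) := by
  classical
  obtain ⟨Z, m0, hind0, hgen0⟩ := AdicSys.exists_family_mod_maximalIdeal (A := A) (M 0)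
  have hI := fun n => AdicSys.pow_smul_top_eq_bot (IsLocalRing.maximalIdeal A) M n
  have hI0 : ((IsLocalRing.maximalIdeal A) • ⊤ : Submodule A (M 0)) = ⊥ := by
    have := hI 0
    rwa [zero_add, pow_one] at this
  have hproj := AdicSys.sysProj_surjective M ψ hψ
  choose m hm using fun z => hproj 0 (m0 z)
  have hF0 : ∀ c : Z →₀ A, sysProj M ψ 0 (Finsupp.linearCombination A m c) =
      ∑ z ∈ c.support, c z • m0 z := by
    intro c
    rw [Finsupp.linearCombination_apply, Finsupp.sum, map_sum]
    refine Finset.sum_congr rfl fun z _ => ?_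
    rw [map_smul, hm]
  have hind : ∀ c : Z →₀ A, sysProj M ψ 0 (Finsupp.linearCombination A m c) = 0 →
      ∀ z, c z ∈ (IsLocalRing.maximalIdeal A) := by
    intro c hc z
    by_cases hz : z ∈ c.support
    · refine hind0 c.support c ?_ z hz
      rw [← hF0, hc]; exact Submodule.zero_mem _
    · rw [Finsupp.notMem_support_iff.mp hz]; exact Submodule.zero_mem _
  have hgen : ∀ x : M 0, ∃ c : Z →₀ A,
      sysProj M ψ 0 (Finsupp.linearCombination A m c) = x := by
    intro x
    obtain ⟨s, c, hc⟩ := hgen0 x
    rw [hI0, Submodule.mem_bot, sub_eq_zero] at hc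
    refine ⟨∑ z ∈ s, Finsupp.single z (c z), ?_⟩
    rw [map_sum, map_sum, hc]
    refine Finset.sum_congr rfl fun z _ => ?_
    rw [Finsupp.linearCombination_single, map_smul, hm]
  have hF := AdicSys.comp_linearCombination_surjective (IsLocalRing.maximalIdeal A) M ψ hψ hker m hgen
  have hFker := AdicSys.ker_comp_linearCombination (IsLocalRing.maximalIdeal A) M ψ hψ hker m hind hgen
  have hfg : (IsLocalRing.maximalIdeal A).FG := IsNoetherian.noetherian _
  have : IsAdicComplete (IsLocalRing.maximalIdeal A) (AdicCompletion (IsLocalRing.maximalIdeal A) (Z →₀ A)) := AdicCompletion.isAdicComplete hfg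
  have : IsAdicComplete (IsLocalRing.maximalIdeal A) (AdicCompletion (IsLocalRing.maximalIdeal A) A) := AdicCompletion.isAdicComplete hfg
  refine ⟨?_, fun n => ⟨hproj n,
    AdicSys.ker_sysProj_eq (IsLocalRing.maximalIdeal A) M ψ (Finsupp.linearCombination A m) hI hF hFker n⟩⟩
  obtain ⟨e, _⟩ :=
    AdicSys.exists_equiv_adicCompletion (IsLocalRing.maximalIdeal A) M ψ (Finsupp.linearCombination A m) hF hFker
  obtain ⟨hinj, hrange⟩ := Groth.Agent.S17539.result (IsLocalRing.maximalIdeal A) Z A
  exact ⟨Z, ⟨e.symm.trans ((LinearEquiv.ofInjective _ hinj).trans (LinearEquiv.ofEq _ _ hrange))⟩⟩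

end Groth.Agent.S17551
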