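import Groth.Statements.S17552
import Mathlib
import Groth.Agent.Helper8.Decaying
import Groth.Agent.S17545
import Groth.Agent.S17547
import Groth.Agent.S17548
open Groth.Agent.Helper8.Decaying
open scoped TensorProduct

set_option autoImplicit false
universe u
open W4c5adicflatcompl
open CAlg

namespace Groth.Agent.S17552

/-- For a complete Noetherian local ring A (maximal ideal m, m-adic completion Â), an A-module M is
isomorphic to the module of m-adically decaying functions Z → Â for some set Z (m-adically free)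
exactly when M is flat and m-adically complete. M and Z live in the universe of A. -/
theorem result {A : Type u} [CommRing A] [IsNoetherianRing A] [IsLocalRing A]
    [IsAdicComplete (IsLocalRing.maximalIdeal A) A]
    (M : Type u) [AddCommGroup M] [Module A M] :
    IsAdicFree (IsLocalRing.maximalIdeal A) M ↔
      Module.Flat A M ∧ IsAdicComplete (IsLocalRing.maximalIdeal A) M := by
  classical
  set 𝔪 := IsLocalRing.maximalIdeal A with h𝔪
  haveI hÂ : IsAdicComplete 𝔪 (AdicCompletion 𝔪 A) :=
    AdicCompletion.isAdicComplete ((isNoetherianRing_iff_ideal_fg A).mp inferInstance 𝔪)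
  constructor
  · rintro ⟨Z, ⟨e⟩⟩
    haveI hD : IsAdicComplete 𝔪 (decaying 𝔪 Z (AdicCompletion 𝔪 A)) :=
      Groth.Agent.S17547.result 𝔪 Z A
    refine ⟨?_, isAdicComplete_of_linearEquiv 𝔪 e⟩
    haveI : Module.Flat A (decaying 𝔪 Z A) := Groth.Agent.S17545.result 𝔪 Z
    have e2 : decaying 𝔪 Z A ≃ₗ[A] decaying 𝔪 Z (AdicCompletion 𝔪 A) :=
      decayingCongr 𝔪 Z (AdicCompletion.ofLinearEquiv 𝔪 A)
    exact Module.Flat.of_linearEquiv (e.trans e2.symm)
  · rintro ⟨hflat, hcomp⟩
    -- a family lifting a basis of M / 𝔪 M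
    obtain ⟨Z, m, hindep, hgen⟩ : ∃ (Z : Type u) (m : Z → M),
        (∀ (s : Finset Z) (c : Z → A),
          ∑ z ∈ s, c z • m z ∈ (𝔪 • ⊤ : Submodule A M) → ∀ z ∈ s, c z ∈ 𝔪) ∧
        (∀ x : M, ∃ (s : Finset Z) (c : Z → A),
          x - ∑ z ∈ s, c z • m z ∈ (𝔪 • ⊤ : Submodule A M)) := by
      let k := A ⧸ 𝔪
      letI : Field k := Ideal.Quotient.field 𝔪
      let V := M ⧸ (𝔪 • ⊤ : Submodule A M)
      let b := Module.Basis.ofVectorSpace k V
      let Z := Module.Basis.ofVectorSpaceIndex k V
      have hlift : ∀ z : Z, ∃ x : M, Submodule.Quotient.mk x = b z :=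
        fun z => Submodule.Quotient.mk_surjective _ (b z)
      choose m hm using hlift
      have hsmul : ∀ (c : A) (x : M), (Ideal.Quotient.mk 𝔪 c : k) • (Submodule.Quotient.mk x : V) =
          Submodule.Quotient.mk (c • x) := fun c x => rfl
      have hmksum : ∀ (s : Finset Z) (c : Z → A),
          (Submodule.Quotient.mk (∑ z ∈ s, c z • m z) : V) =
            ∑ z ∈ s, (Ideal.Quotient.mk 𝔪 (c z) : k) • b z := by
        intro s c
        rw [← Submodule.mkQ_apply, map_sum]
        refine Finset.sum_congr rfl fun z _ => ?_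
        rw [Submodule.mkQ_apply, ← hm z, hsmul]
      refine ⟨Z, m, ?_, ?_⟩
      · intro s c hc
        have h1 : ∑ z ∈ s, (Ideal.Quotient.mk 𝔪 (c z) : k) • b z = 0 := by
          rw [← hmksum]
          exact (Submodule.Quotient.mk_eq_zero _).mpr hc
        have h3 := (linearIndependent_iff'.mp b.linearIndependent) s
          (fun z => (Ideal.Quotient.mk 𝔪 (c z) : k)) h1
        intro z hz
        exact Ideal.Quotient.eq_zero_iff_mem.mp (h3 z hz)
      · intro x
        have hx : (Submodule.Quotient.mk x : V) ∈ Submodule.span k (Set.range b) := by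
          rw [b.span_eq]; exact Submodule.mem_top
        obtain ⟨g, hg⟩ := (Finsupp.mem_span_range_iff_exists_finsupp).mp hx
        have hsurj : ∀ y : k, ∃ a : A, Ideal.Quotient.mk 𝔪 a = y := Ideal.Quotient.mk_surjective
        choose lift hlift' using hsurj
        refine ⟨g.support, fun z => lift (g z), ?_⟩
        rw [← Submodule.Quotient.mk_eq_zero, Submodule.Quotient.mk_sub, sub_eq_zero, hmksum, ← hg,
          Finsupp.sum]
        refine Finset.sum_congr rfl fun z _ => ?_
        rw [hlift']
    -- the map φ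
    haveI := hcomp
    obtain ⟨φ, hφ, -⟩ := Groth.Agent.S17548.result 𝔪 Z M m
    haveI hD : IsAdicComplete 𝔪 (decaying 𝔪 Z (AdicCompletion 𝔪 A)) :=
      Groth.Agent.S17547.result 𝔪 Z A
    -- surjectivity
    have hφsurj : Function.Surjective φ := by
      apply surjective_of_mkQ_comp_surjective (I := 𝔪)
      intro v
      obtain ⟨x, rfl⟩ := Submodule.Quotient.mk_surjective _ v
      obtain ⟨s, c, hsc⟩ := hgen x
      refine ⟨∑ z ∈ s, c z • single 𝔪 z (1 : AdicCompletion 𝔪 A), ?_⟩
      have h1 : φ (∑ z ∈ s, c z • single 𝔪 z (1 : AdicCompletion 𝔪 A)) = ∑ z ∈ s, c z • m z := by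
        rw [map_sum]
        refine Finset.sum_congr rfl fun z _ => ?_
        rw [map_smul, hφ]
      rw [LinearMap.coe_comp, Function.comp_apply, h1, Submodule.mkQ_apply]
      symm
      rw [Submodule.Quotient.eq]
      exact hsc
    -- a • 1 = of a
    have hof : ∀ a : A, a • (1 : AdicCompletion 𝔪 A) = AdicCompletion.of 𝔪 A a := by
      intro a
      rw [← Algebra.algebraMap_eq_smul_one, AdicCompletion.algebraMap_apply]
      rfl
    have hofmem : ∀ a : A, a ∈ 𝔪 →
        AdicCompletion.of 𝔪 A a ∈ (𝔪 ^ 1 • ⊤ : Submodule A (AdicCompletion 𝔪 A)) := by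
      intro a ha
      rw [← hof, pow_one]
      exact Submodule.smul_mem_smul ha Submodule.mem_top
    -- kernel is contained in 𝔪 D
    have hK1 : ∀ x : decaying 𝔪 Z (AdicCompletion 𝔪 A), φ x = 0 →
        x ∈ (𝔪 ^ 1 • ⊤ : Submodule A (decaying 𝔪 Z (AdicCompletion 𝔪 A))) := by
      intro x hx
      rw [mem_pow_smul_top_decaying_iff]
      have hSfin := x.2 1
      set S := hSfin.toFinset with hS
      have hrep : ∀ z : Z, ∃ a : A, ((x : Z → AdicCompletion 𝔪 A) z - AdicCompletion.of 𝔪 A a) ∈
          (𝔪 ^ 1 • ⊤ : Submodule A (AdicCompletion 𝔪 A)) := by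
        intro z
        obtain ⟨a, ha⟩ := Submodule.Quotient.mk_surjective _
          (((x : Z → AdicCompletion 𝔪 A) z).val 1)
        refine ⟨a, mem_pow_smul_top_of_val_eq_zero 𝔪 A 1 _ ?_⟩
        rw [AdicCompletion.val_sub, Pi.sub_apply, AdicCompletion.of_apply, Submodule.mkQ_apply, ha,
          sub_self]
      choose a ha using hrep
      set t : decaying 𝔪 Z (AdicCompletion 𝔪 A) :=
        ∑ z ∈ S, a z • single 𝔪 z (1 : AdicCompletion 𝔪 A) with ht
      have htval : ∀ z, (t : Z → AdicCompletion 𝔪 A) z =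
          if z ∈ S then AdicCompletion.of 𝔪 A (a z) else 0 := by
        intro z
        rw [ht]
        simp only [Submodule.coe_sum, Submodule.coe_smul, coe_single, Finset.sum_apply,
          Pi.smul_apply, Pi.single_apply, smul_ite, smul_zero, hof]
        rw [Finset.sum_ite_eq]
      have hxt : x - t ∈ (𝔪 ^ 1 • ⊤ : Submodule A (decaying 𝔪 Z (AdicCompletion 𝔪 A))) := by
        rw [mem_pow_smul_top_decaying_iff]
        intro z
        change (x : Z → AdicCompletion 𝔪 A) z - (t : Z → AdicCompletion 𝔪 A) z ∈ _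
        rw [htval]
        by_cases hz : z ∈ S
        · rw [if_pos hz]; exact ha z
        · rw [if_neg hz, sub_zero]
          by_contra hcon
          exact hz ((Set.Finite.mem_toFinset hSfin).mpr hcon)
      have hφt : φ t ∈ (𝔪 • ⊤ : Submodule A M) := by
        have h1 := map_mem_pow_smul_top 𝔪 φ 1 _ hxt
        rw [map_sub, hx, zero_sub, pow_one] at h1
        exact (Submodule.neg_mem_iff _).mp h1
      have hφt' : φ t = ∑ z ∈ S, a z • m z := by
        rw [ht, map_sum]
        refine Finset.sum_congr rfl fun z _ => ?_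
        rw [map_smul, hφ]
      rw [hφt'] at hφt
      have haS := hindep S a hφt
      intro z
      by_cases hz : z ∈ S
      · have h1 := ha z
        have h2 := hofmem (a z) (haS z hz)
        have : (x : Z → AdicCompletion 𝔪 A) z =
            ((x : Z → AdicCompletion 𝔪 A) z - AdicCompletion.of 𝔪 A (a z)) +
              AdicCompletion.of 𝔪 A (a z) := by abel
        rw [this]
        exact Submodule.add_mem _ h1 h2
      · by_contra hcon
        exact hz ((Set.Finite.mem_toFinset hSfin).mpr hcon)
    -- K ≤ 𝔪 K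
    set K := LinearMap.ker φ with hK
    have hKK : ∀ x : K, x ∈ (𝔪 • ⊤ : Submodule A K) := by
      intro x
      have hinj :=
        LinearMap.lTensor_injective_of_exact_of_flat (M := K) φ hφsurj K.subtype (Submodule.injective_subtype K)
          (LinearMap.exact_subtype_ker_map φ) (A ⧸ 𝔪)
      have h0 : (1 : A ⧸ 𝔪) ⊗ₜ[A] x = 0 := by
        apply hinj
        rw [map_zero, LinearMap.lTensor_tmul]
        have hx1 := hK1 x.1 x.2
        rw [pow_one] at hx1
        change (1 : A ⧸ 𝔪) ⊗ₜ[A] (x : decaying 𝔪 Z (AdicCompletion 𝔪 A)) = 0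
        refine Submodule.smul_induction_on hx1 ?_ ?_
        · intro c hc y _
          rw [← TensorProduct.smul_tmul]
          have : c • (1 : A ⧸ 𝔪) = 0 := by
            rw [Algebra.smul_def, mul_one]
            exact Ideal.Quotient.eq_zero_iff_mem.mpr hc
          rw [this, TensorProduct.zero_tmul]
        · intro y₁ y₂ h₁ h₂
          rw [TensorProduct.tmul_add, h₁, h₂, add_zero]
      have h1 := congrArg (TensorProduct.quotTensorEquivQuotSMul K 𝔪) h0
      rw [TensorProduct.quotTensorEquivQuotSMul_mk_one_tmul, map_zero] at h1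
      exact (Submodule.Quotient.mk_eq_zero _).mp h1
    have hKpow : ∀ n : ℕ, K ≤ (𝔪 ^ n • ⊤ : Submodule A (decaying 𝔪 Z (AdicCompletion 𝔪 A))) := by
      intro n
      induction n with
      | zero =>
        rw [pow_zero, Ideal.one_eq_top, Submodule.top_smul]; exact le_top
      | succ n ih =>
        intro x hx
        have h1 := hKK ⟨x, hx⟩
        have h2 : x ∈ (𝔪 • ⊤ : Submodule A K).map K.subtype := ⟨⟨x, hx⟩, h1, rfl⟩
        rw [Submodule.map_smul'', Submodule.map_top, Submodule.range_subtype] at h2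
        have h3 : 𝔪 • K ≤ 𝔪 • (𝔪 ^ n • ⊤ : Submodule A (decaying 𝔪 Z (AdicCompletion 𝔪 A))) :=
          Submodule.smul_mono le_rfl ih
        have h4 := h3 h2
        rw [← mul_smul, ← pow_succ'] at h4
        exact h4
    have hφinj : Function.Injective φ := by
      rw [← LinearMap.ker_eq_bot, eq_bot_iff]
      intro x hx
      rw [Submodule.mem_bot]
      apply hD.toIsHausdorff.haus
      intro n
      rw [SModEq.sub_mem, sub_zero]
      exact hKpow n hx
    exact ⟨Z, ⟨(LinearEquiv.ofBijective φ ⟨hφinj, hφsurj⟩).symm⟩⟩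

end Groth.Agent.S17552
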