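import Groth.Statements.S17553
import Mathlib.Algebra.BigOperators.Finprod

set_option autoImplicit false
universe u v w
open W4c5adicflatcompl
open CAlg

namespace Groth.Agent.S17553

/-- Let A be I-adically complete, M an I-adically complete A-module, Z a set and f : Z → M a function.
There is an A-linear map from the I-adically decaying functions Z → A to M whose value on g is the
I-adically convergent sum of the g z • f z. -/
theorem result {A : Type u} [CommRing A] (I : Ideal A) [IsAdicComplete I A]
    (Z : Type v) (M : Type w) [AddCommGroup M] [Module A M] [IsAdicComplete I M] (f : Z → M) :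
    ∃ φ : decaying I Z A →ₗ[A] M, ∀ (g : decaying I Z A) (n : ℕ), ∃ S : Finset Z,
      (∀ z, z ∉ S → (g : Z → A) z • f z ∈ (I ^ n • ⊤ : Submodule A M)) ∧
      φ g - (∑ z ∈ S, (g : Z → A) z • f z) ∈ (I ^ n • ⊤ : Submodule A M) := by
  classical
  -- the n-th partial sum, as an element of M ⧸ I^n M
  let T : ∀ (n : ℕ) (g : decaying I Z A), Z → (M ⧸ (I ^ n • ⊤ : Submodule A M)) := fun n g z =>
    Submodule.Quotient.mk ((g : Z → A) z • f z)
  have hTsupp : ∀ (n : ℕ) (g : decaying I Z A),
      Function.support (T n g) ⊆ {z | (g : Z → A) z ∉ (I ^ n • ⊤ : Submodule A A)} := by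
    intro n g z hz
    simp only [Function.mem_support, T, ne_eq, Submodule.Quotient.mk_eq_zero] at hz
    intro hgz
    apply hz
    have : (g : Z → A) z ∈ I ^ n := by simpa using hgz
    exact Submodule.smul_mem_smul this Submodule.mem_top
  have hTfin : ∀ (n : ℕ) (g : decaying I Z A), (Function.support (T n g)).Finite :=
    fun n g => (g.2 n).subset (hTsupp n g)
  let φn : ∀ n : ℕ, decaying I Z A →ₗ[A] (M ⧸ (I ^ n • ⊤ : Submodule A M)) := fun n =>
    { toFun := fun g => ∑ᶠ z, T n g z
      map_add' := fun g h => by
        rw [← finsum_add_distrib (hTfin n g) (hTfin n h)]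
        congr 1
        funext z
        simp only [T, Submodule.coe_add, Pi.add_apply, add_smul, Submodule.Quotient.mk_add]
      map_smul' := fun a g => by
        simp only [RingHom.id_apply]
        rw [smul_finsum' a (hTfin n g)]
        congr 1
        funext z
        simp only [T, Submodule.coe_smul, Pi.smul_apply, smul_eq_mul, mul_smul,
          Submodule.Quotient.mk_smul] }
  have hcompat : ∀ {m n : ℕ} (hle : m ≤ n),
      AdicCompletion.transitionMap I M hle ∘ₗ φn n = φn m := by
    intro m n hle
    ext g
    show AdicCompletion.transitionMap I M hle (∑ᶠ z, T n g z) = ∑ᶠ z, T m g z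
    rw [map_finsum _ (hTfin n g)]
    rfl
  let φ : decaying I Z A →ₗ[A] M :=
    (AdicCompletion.ofLinearEquiv I M).symm.toLinearMap.comp (AdicCompletion.lift I φn hcompat)
  refine ⟨φ, fun g n => ⟨(g.2 n).toFinset, ?_, ?_⟩⟩
  · intro z hz
    simp only [Set.Finite.mem_toFinset, Set.mem_ofPred_eq, not_not] at hz
    have : (g : Z → A) z ∈ I ^ n := by simpa using hz
    exact Submodule.smul_mem_smul this Submodule.mem_top
  · rw [← Submodule.Quotient.eq]
    have h1 : (Submodule.Quotient.mk (φ g) : M ⧸ (I ^ n • ⊤ : Submodule A M)) = φn n g := by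
      have h2 : AdicCompletion.of I M (φ g) = AdicCompletion.lift I φn hcompat g := by
        simp only [φ, LinearMap.comp_apply, LinearEquiv.coe_coe, AdicCompletion.of_ofLinearEquiv_symm]
      have h3 := congrArg (fun x => x.val n) h2
      simpa [AdicCompletion.of_apply] using h3
    rw [h1]
    show ∑ᶠ z, T n g z = _
    rw [finsum_eq_sum_of_support_subset (T n g) (s := (g.2 n).toFinset)]
    · exact (map_sum (Submodule.mkQ (I ^ n • ⊤ : Submodule A M)) _ _).symm
    · intro z hz
      simp only [Set.Finite.coe_toFinset]
      exact hTsupp n g hz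

end Groth.Agent.S17553
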