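import Groth.Statements.S17594
import Mathlib
import Groth.Agent.Helper3.NearClosed

set_option autoImplicit false
universe u
open scoped TensorProduct
open Hensel

namespace Groth.Agent.S17594

/-- Suppose (A, I) is a Henselian pair, and take an A-algebra R of finite presentation for which A → R
is smooth at every prime of R containing IR. Then there is an étale R-algebra R' such that R/IR →
R'/IR' is bijective and A → R' is smooth. -/
theorem result (A : Type u) [CommRing A] (I : Ideal A) [HenselianRing A I]
    (R : Type u) [CommRing R] [Algebra A R] [Algebra.FinitePresentation A R]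
    (h : ∀ (p : Ideal R) [p.IsPrime], I.map (algebraMap A R) ≤ p → Algebra.IsSmoothAt A p)
    : ∃ (R' : Type u) (_ : CommRing R') (_ : Algebra R R') (_ : Algebra A R') (_ : IsScalarTower A R R'),
      Algebra.Etale R R' ∧
      Function.Bijective (Ideal.quotientMap ((I.map (algebraMap A R)).map (algebraMap R R'))
        (algebraMap R R') Ideal.le_comap_map) ∧ Algebra.Smooth A R' := by
  classical
  have hopen : IsOpen (Algebra.smoothLocus A R) := Algebra.isOpen_smoothLocus
  have hsub : PrimeSpectrum.zeroLocus ((I.map (algebraMap A R) : Ideal R) : Set R) ⊆
      Algebra.smoothLocus A R := by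
    intro p hp
    exact h p.asIdeal hp
  obtain ⟨j, hj, hjU⟩ := Groth.Agent.Helper3.NearClosed.exists_sub_one_mem_basicOpen_subset
    (I.map (algebraMap A R)) _ hopen hsub
  refine ⟨Localization.Away j, inferInstance, inferInstance, inferInstance, inferInstance,
    inferInstance, ?_, ?_⟩
  · exact Groth.Agent.Helper3.NearClosed.quotientMap_away_bijective _ j hj _
  · exact Algebra.basicOpen_subset_smoothLocus_iff_smooth.1 hjU

end Groth.Agent.S17594
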