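import Groth.Statements.S17635
import Mathlib

set_option autoImplicit false
open Finset
open Variety

namespace Groth.Agent.S17635

/-- Let r and n be natural numbers and f : ℚ^r → ℝ a nonnegative function which is homogeneous of degree
n for positive rational scalars, f(q · v) = q^n · f(v) for q > 0; give ℚ^r the maximum norm ‖v‖ =
max_j |v_j| of its standard basis. Suppose that for every standard basis vector e_i there is a
constant C_i with |f(v − b · e_i) − f(v)| ≤ C_i · Σ_{q=1}^{n} ‖v‖^{n−q} · b^q for all v ∈ ℚ^r and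
all integers b ≥ 1. Then there is a constant C > 0 such that |f(v) − f(w)| ≤ C · Σ_{q=1}^{n}
max(‖v‖, ‖w‖)^{n−q} · ‖v − w‖^q for all v, w ∈ ℚ^r. (The source allows any norm on an r-dimensional
rational vector space with a chosen basis and argues with the maximum norm of that basis, which is
the case stated here.) -/
theorem result (r n : ℕ) (f : (Fin r → ℚ) → ℝ)
    (hf0 : ∀ v, 0 ≤ f v)
    (hhom : ∀ (q : ℚ) (v : Fin r → ℚ), 0 < q → f (q • v) = (q : ℝ) ^ n * f v)
    (hdir : ∀ i : Fin r, ∃ Ci : ℝ, ∀ (v : Fin r → ℚ) (b : ℕ), 1 ≤ b →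
      |f (v - (b : ℚ) • Pi.single i 1) - f v| ≤
        Ci * (Finset.Icc 1 n).sum (fun q => ‖(fun j => ((v j : ℚ) : ℝ))‖ ^ (n - q) * (b : ℝ) ^ q)) :
    ∃ C : ℝ, 0 < C ∧ ∀ v w : Fin r → ℚ,
      |f v - f w| ≤ C * (Finset.Icc 1 n).sum (fun q =>
        (max ‖(fun j => ((v j : ℚ) : ℝ))‖ ‖(fun j => ((w j : ℚ) : ℝ))‖) ^ (n - q) *
          ‖(fun j => ((v j - w j : ℚ) : ℝ))‖ ^ q) := by
  classical
  set nr : (Fin r → ℚ) → ℝ := fun v => ‖(fun j => ((v j : ℚ) : ℝ))‖ with hnr
  have nr_nonneg : ∀ v, 0 ≤ nr v := fun v => norm_nonneg _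
  have nr_smul : ∀ (b : ℚ) (u : Fin r → ℚ), 0 ≤ b → nr (b • u) = (b:ℝ) * nr u := by
    intro b u hb
    have h1 : (fun j => (((b • u) j : ℚ) : ℝ)) = (b : ℝ) • (fun j => ((u j : ℚ) : ℝ)) := by
      ext j; simp
    have h2 : (0:ℝ) ≤ b := by exact_mod_cast hb
    simp only [hnr, h1, norm_smul, Real.norm_eq_abs, abs_of_nonneg h2]
  have nr_coord : ∀ (u : Fin r → ℚ) (j : Fin r), |((u j : ℚ) : ℝ)| ≤ nr u := by
    intro u j
    have := norm_le_pi_norm (fun j => ((u j : ℚ) : ℝ)) j
    rw [Real.norm_eq_abs] at this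
    exact this
  have nr_le : ∀ (u : Fin r → ℚ) (M : ℝ), 0 ≤ M → (∀ j, |((u j : ℚ) : ℝ)| ≤ M) → nr u ≤ M := by
    intro u M hM h
    rw [hnr]
    simp only
    rw [pi_norm_le_iff_of_nonneg hM]
    intro j
    rw [Real.norm_eq_abs]
    exact h j
  choose Ci hCi using hdir
  -- Lemma A
  have hA : ∀ (i : Fin r) (u : Fin r → ℚ) (t : ℚ), 0 < t →
      |f (u - t • Pi.single i 1) - f u| ≤
        Ci i * (Icc 1 n).sum (fun q => nr u ^ (n - q) * (t:ℝ) ^ q) := by
    intro i u t ht
    have hnum : 0 < t.num := Rat.num_pos.mpr ht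
    obtain ⟨a, ha⟩ : ∃ a : ℕ, (a : ℤ) = t.num := ⟨t.num.toNat, Int.toNat_of_nonneg hnum.le⟩
    have ha1 : 1 ≤ a := by
      have : (0:ℤ) < a := by rw [ha]; exact hnum
      exact_mod_cast this
    set b : ℕ := t.den with hb
    have hbpos : 0 < b := t.den_pos
    have hbq : (0:ℚ) < b := by exact_mod_cast hbpos
    have hbr : (0:ℝ) < b := by exact_mod_cast hbpos
    have htab : (b : ℚ) * t = a := by
      have h1 : (t.num : ℚ) = a := by rw [← ha]; simp
      rw [← h1, hb, mul_comm]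
      exact Rat.mul_den_eq_num t
    have e1 : (b : ℚ) • (u - t • Pi.single i 1) = (b:ℚ) • u - (a:ℚ) • Pi.single i 1 := by
      rw [smul_sub, smul_smul, htab]
    have h1 := hhom b (u - t • Pi.single i 1) hbq
    have h2 := hhom b u hbq
    have h3 := hCi i ((b:ℚ) • u) a ha1
    rw [← e1, h1, h2] at h3
    have e2 : nr ((b:ℚ) • u) = (b:ℝ) * nr u := by
      rw [nr_smul _ _ hbq.le]; simp
    change _ ≤ Ci i * (Icc 1 n).sum (fun q => nr ((b:ℚ) • u) ^ (n - q) * (a:ℝ) ^ q) at h3
    rw [e2] at h3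
    have htabr : (b : ℝ) * t = a := by exact_mod_cast htab
    have e3 : (Icc 1 n).sum (fun q => ((b:ℝ) * nr u) ^ (n - q) * (a:ℝ) ^ q)
        = (b:ℝ)^n * (Icc 1 n).sum (fun q => nr u ^ (n - q) * (t:ℝ) ^ q) := by
      rw [Finset.mul_sum]
      refine Finset.sum_congr rfl fun q hq => ?_
      have hq' : q ≤ n := (Finset.mem_Icc.mp hq).2
      rw [← htabr, mul_pow, mul_pow]
      have : (b:ℝ)^n = (b:ℝ)^(n-q) * (b:ℝ)^q := by rw [← pow_add, Nat.sub_add_cancel hq']
      rw [this]; ring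
    rw [e3] at h3
    have e4 : (b:ℝ) ^ n * f (u - t • Pi.single i 1) - (b:ℝ) ^ n * f u
        = (b:ℝ)^n * (f (u - t • Pi.single i 1) - f u) := by ring
    have hbn : (0:ℝ) < (b:ℝ)^n := pow_pos hbr n
    have h4 : (b:ℝ)^n * |f (u - t • Pi.single i 1) - f u| ≤
        (b:ℝ)^n * (Ci i * (Icc 1 n).sum (fun q => nr u ^ (n - q) * (t:ℝ) ^ q)) := by
      calc (b:ℝ)^n * |f (u - t • Pi.single i 1) - f u|
          = |(b:ℝ) ^ n * f (u - t • Pi.single i 1) - (b:ℝ) ^ n * f u| := by
            rw [e4, abs_mul, abs_of_pos hbn]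
        _ ≤ _ := h3
        _ = _ := by ring
    exact le_of_mul_le_mul_left h4 hbn
  -- Lemma B
  have hB : ∀ (i : Fin r) (u : Fin r → ℚ) (t : ℚ) (M δ : ℝ), nr u ≤ M → nr (u - t • Pi.single i 1) ≤ M →
      |(t:ℝ)| ≤ δ →
      |f (u - t • Pi.single i 1) - f u| ≤
        |Ci i| * (Icc 1 n).sum (fun q => M ^ (n - q) * δ ^ q) := by
    intro i u t M δ hM1 hM2 hδ
    have hδ0 : 0 ≤ δ := le_trans (abs_nonneg _) hδ
    have key : ∀ (x : Fin r → ℚ) (s : ℚ), 0 < s → nr x ≤ M → (s:ℝ) ≤ δ →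
        Ci i * (Icc 1 n).sum (fun q => nr x ^ (n - q) * (s:ℝ) ^ q) ≤
        |Ci i| * (Icc 1 n).sum (fun q => M ^ (n - q) * δ ^ q) := by
      intro x s hs hx hsδ
      have hs' : (0:ℝ) ≤ s := by exact_mod_cast hs.le
      have hS0 : 0 ≤ (Icc 1 n).sum (fun q => nr x ^ (n - q) * (s:ℝ) ^ q) :=
        Finset.sum_nonneg fun q _ => mul_nonneg (pow_nonneg (nr_nonneg x) _) (pow_nonneg hs' _)
      calc Ci i * (Icc 1 n).sum (fun q => nr x ^ (n - q) * (s:ℝ) ^ q)
          ≤ |Ci i| * (Icc 1 n).sum (fun q => nr x ^ (n - q) * (s:ℝ) ^ q) :=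
            mul_le_mul_of_nonneg_right (le_abs_self _) hS0
        _ ≤ |Ci i| * (Icc 1 n).sum (fun q => M ^ (n - q) * δ ^ q) := by
            apply mul_le_mul_of_nonneg_left _ (abs_nonneg _)
            apply Finset.sum_le_sum
            intro q _
            apply mul_le_mul (pow_le_pow_left₀ (nr_nonneg x) hx _) (pow_le_pow_left₀ hs' hsδ _)
              (pow_nonneg hs' _) (pow_nonneg (le_trans (nr_nonneg x) hx) _)
    rcases lt_trichotomy t 0 with ht | ht | ht
    · -- t < 0
      have hnt : 0 < -t := by linarith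
      have h1 := hA i (u - t • Pi.single i 1) (-t) hnt
      have e1 : u - t • Pi.single i 1 - (-t) • Pi.single i 1 = u := by
        rw [neg_smul, sub_neg_eq_add, sub_add_cancel]
      rw [e1, abs_sub_comm] at h1
      refine le_trans h1 (key _ _ hnt hM2 ?_)
      have : ((-t : ℚ) : ℝ) = |(t:ℝ)| := by
        have : (t:ℝ) < 0 := by exact_mod_cast ht
        rw [abs_of_neg this]; push_cast; ring
      rw [this]; exact hδ
    · subst ht
      have hM0 : 0 ≤ M := le_trans (nr_nonneg u) hM1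
      simp only [zero_smul, sub_zero, sub_self, abs_zero]
      exact mul_nonneg (abs_nonneg _) (Finset.sum_nonneg fun q _ =>
        mul_nonneg (pow_nonneg hM0 _) (pow_nonneg hδ0 _))
    · have h1 := hA i u t ht
      refine le_trans h1 (key _ _ ht hM1 ?_)
      have : (0:ℝ) < t := by exact_mod_cast ht
      rw [abs_of_pos this] at hδ
      exact hδ
  refine ⟨(∑ i, |Ci i|) + 1, by positivity, ?_⟩
  intro v w
  set M : ℝ := max (nr v) (nr w) with hM
  set δ : ℝ := nr (v - w) with hδ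
  have hM0 : 0 ≤ M := le_trans (nr_nonneg v) (le_max_left _ _)
  have hδ0 : 0 ≤ δ := nr_nonneg _
  set T : ℝ := (Icc 1 n).sum (fun q => M ^ (n - q) * δ ^ q) with hT
  have hT0 : 0 ≤ T := Finset.sum_nonneg fun q _ => mul_nonneg (pow_nonneg hM0 _) (pow_nonneg hδ0 _)
  change |f v - f w| ≤ ((∑ i, |Ci i|) + 1) * T
  let uS : Finset (Fin r) → (Fin r → ℚ) := fun S j => if j ∈ S then w j else v j
  have huS_le : ∀ S, nr (uS S) ≤ M := by
    intro S
    apply nr_le _ _ hM0
    intro j
    by_cases hj : j ∈ S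
    · simp only [uS, hj, if_true]
      exact le_trans (nr_coord w j) (le_max_right _ _)
    · simp only [uS, hj, if_false]
      exact le_trans (nr_coord v j) (le_max_left _ _)
  have hclaim : ∀ S : Finset (Fin r), |f v - f (uS S)| ≤ (∑ i ∈ S, |Ci i|) * T := by
    intro S
    induction S using Finset.induction_on with
    | empty =>
      have : uS ∅ = v := by ext j; simp [uS]
      rw [this]; simp
    | insert a S ha ih =>
      have e1 : uS (insert a S) = uS S - (v a - w a) • Pi.single a 1 := by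
        ext j
        by_cases hj : j = a
        · subst hj
          simp [uS, ha]
        · have : (j ∈ insert a S) ↔ j ∈ S := by simp [hj]
          simp [uS, this, Pi.single_apply, hj]
      have h1 := hB a (uS S) (v a - w a) M δ (huS_le S) (by rw [← e1]; exact huS_le _)
        (by
          have := nr_coord (v - w) a
          simpa using this)
      rw [← e1] at h1
      rw [Finset.sum_insert ha, add_mul]
      calc |f v - f (uS (insert a S))|
          = |(f v - f (uS S)) - (f (uS (insert a S)) - f (uS S))| := by ring_nf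
        _ ≤ |f v - f (uS S)| + |f (uS (insert a S)) - f (uS S)| := abs_sub _ _
        _ ≤ _ := by linarith
  have h1 := hclaim Finset.univ
  have : uS Finset.univ = w := by ext j; simp [uS]
  rw [this] at h1
  nlinarith [h1, hT0]

end Groth.Agent.S17635
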