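import Groth.Statements.S17641
import Groth.Agent.Helper4.Flasque
import Mathlib

set_option autoImplicit false
universe u
open CategoryTheory CategoryTheory.Limits AlgebraicGeometry
attribute [local instance] HasDerivedCategory.standard
open DCoh

namespace Groth.Agent.S17641


/-- Let X be a Noetherian scheme, j : U ⟶ X an open immersion with closed complement Z = X ∖ j(U), and I
a quasi-coherent O_X-module which is injective as an O_X-module. Then Γ_Z(I), the kernel of I ⟶
j_*(I|_U) (the subsheaf of sections supported in Z), is an injective O_X-module. (Injectivity is
taken in the category of all O_X-modules; on a Noetherian scheme a quasi-coherent module is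
injective there exactly when it is injective among quasi-coherent modules. The published statement
works with the functor of sections killed by some power of a defining ideal, which agrees with Γ_Z
on quasi-coherent modules over a Noetherian scheme.) -/
theorem result {U X : Scheme.{u}} [IsNoetherian X]
    (j : U ⟶ X) [IsOpenImmersion j] (I : X.Modules) (hI : Coh.IsQCoh I) [Injective I] :
    Injective ((DCoh.gammaZ j).obj I) := by

  obtain ⟨s, hs⟩ := Groth.Agent.Helper4.Flasque.exists_section j I
  let f : I ⟶ (Scheme.Modules.pushforward j).obj ((Scheme.Modules.restrictFunctor j).obj I) :=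
    (Scheme.Modules.restrictAdjunction j).unit.app I
  have hs' : s ≫ f = 𝟙 _ := hs
  have h0 : (𝟙 I - f ≫ s) ≫ f = 0 := by
    rw [Preadditive.sub_comp, Category.id_comp, Category.assoc, hs', Category.comp_id, sub_self]
  let r : I ⟶ Limits.kernel f := Limits.kernel.lift f (𝟙 I - f ≫ s) h0
  have hr : Limits.kernel.ι f ≫ r = 𝟙 _ := by
    rw [← cancel_mono (Limits.kernel.ι f), Category.assoc, Limits.kernel.lift_ι,
      Preadditive.comp_sub, Category.comp_id, Limits.kernel.condition_assoc, Limits.zero_comp,
      sub_zero, Category.id_comp]
  have hret : Retract (Limits.kernel f) I := ⟨Limits.kernel.ι f, r, hr⟩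
  exact hret.injective

end Groth.Agent.S17641
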