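import Groth.Statements.S17649
import Groth.Agent.Helper4.QcohGlue
import Groth.Agent.Helper4.QcohLimits
import Groth.Agent.Helper4.StalkExact
import Groth.Prelude.Def_CxOX
import Mathlib

set_option autoImplicit false
universe u
open CategoryTheory CategoryTheory.Limits AlgebraicGeometry
open QCohCat

namespace Groth.Agent.S17649


/-- Suppose the scheme X is quasi-compact and quasi-separated, and take two quasi-compact opens U, V ⊆
X. Given a quasi-compact open W, denote by S_W the class of quasi-coherent O_X-modules that restrict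
to zero on W. Then S_{U ∩ V} is the smallest localizing subcategory of Qcoh(X) that contains both
S_U and S_V; concretely (this is the inclusion that is not formal): any quasi-coherent O_X-module F
satisfying F|_{U ∩ V} = 0 arises as an extension of a quasi-coherent module that is zero on V by a
quasi-coherent submodule that is zero on U — one can find a monomorphism A ⟶ F where A is
quasi-coherent, A|_U = 0 and (F/A)|_V = 0. -/
theorem result {X : Scheme.{u}}
    [CompactSpace X] [QuasiSeparatedSpace X] (U V : X.Opens) [QuasiCompact U.ι] [QuasiCompact V.ι]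
    (F : X.Modules) (hF : Coh.IsQCoh F) (h : IsZero ((Scheme.Modules.restrictFunctor (U ⊓ V).ι).obj F)) :
    ∃ (A : X.Modules) (i : A ⟶ F), Mono i ∧ Coh.IsQCoh A ∧
      IsZero ((Scheme.Modules.restrictFunctor U.ι).obj A) ∧
      IsZero ((Scheme.Modules.restrictFunctor V.ι).obj (cokernel i)) := by

  haveI : F.IsQuasicoherent := hF
  -- sections criterion
  have hsec : ∀ {Y : Scheme.{u}} (M : Y.Modules),
      Limits.IsZero M ↔ ∀ W : Y.Opens, Subsingleton Γ(M, W) := by
    intro Y M
    constructor
    · intro hM W
      have h1 : Limits.IsZero ((Groth.Agent.Helper4.StalkExact.secFunctor Y W).obj M) :=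
        Functor.map_isZero _ hM
      exact AddCommGrpCat.subsingleton_of_isZero h1
    · intro hM
      rw [Limits.IsZero.iff_id_eq_zero]
      apply Scheme.Modules.hom_ext
      intro W
      ext s
      haveI := hM W
      exact Subsingleton.elim (α := Γ(M, W)) _ _
  let η : F ⟶ (Scheme.Modules.pushforward U.ι).obj ((Scheme.Modules.restrictFunctor U.ι).obj F) :=
    (Scheme.Modules.restrictAdjunction U.ι).unit.app F
  haveI : QuasiSeparated U.ι := inferInstance
  haveI : ((Scheme.Modules.restrictFunctor U.ι).obj F).IsQuasicoherent :=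
    Scheme.Modules.isQuasicoherent_restrictFunctor U.ι F
  haveI : ((Scheme.Modules.pushforward U.ι).obj
      ((Scheme.Modules.restrictFunctor U.ι).obj F)).IsQuasicoherent :=
    Groth.Agent.Helper4.QcohGlue.isQuasicoherent_pushforward U.ι _
  refine ⟨kernel η, kernel.ι η, inferInstance,
    Groth.Agent.Helper4.QcohLimits.isQuasicoherent_kernel η, ?_, ?_⟩
  · have e : (Scheme.Modules.restrictFunctor U.ι).obj (kernel η) ≅
        kernel ((Scheme.Modules.restrictFunctor U.ι).map η) :=
      PreservesKernel.iso (Scheme.Modules.restrictFunctor U.ι) η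
    refine Limits.IsZero.of_iso ?_ e
    have hsplit : (Scheme.Modules.restrictFunctor U.ι).map η ≫
        (Scheme.Modules.restrictAdjunction U.ι).counit.app
          ((Scheme.Modules.restrictFunctor U.ι).obj F) = 𝟙 _ :=
      (Scheme.Modules.restrictAdjunction U.ι).left_triangle_components F
    haveI : Mono ((Scheme.Modules.restrictFunctor U.ι).map η) := mono_of_mono_fac hsplit
    exact isZero_kernel_of_mono _
  · let m : cokernel (kernel.ι η) ⟶ _ := Abelian.factorThruCoimage η
    haveI : Mono m := inferInstance
    haveI : Mono ((Scheme.Modules.restrictFunctor V.ι).map m) := inferInstance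
    refine Limits.IsZero.of_mono ((Scheme.Modules.restrictFunctor V.ι).map m) ?_
    rw [hsec]
    intro W
    have h1 := (hsec _).1 h
    -- the open W₀ ≤ U ⊓ V
    set W₀ : X.Opens := U.ι ''ᵁ (U.ι ⁻¹ᵁ (V.ι ''ᵁ W)) with hW₀
    have hle : W₀ ≤ U ⊓ V := by
      rw [hW₀, Scheme.Hom.image_preimage_eq_opensRange_inf, Scheme.Opens.opensRange_ι]
      exact inf_le_inf_left _ (Scheme.Opens.ι_image_le V W)
    have h2 := h1 ((U ⊓ V).ι ⁻¹ᵁ W₀)
    have h3 : (U ⊓ V).ι ''ᵁ ((U ⊓ V).ι ⁻¹ᵁ W₀) = W₀ := by
      rw [Scheme.Hom.image_preimage_eq_opensRange_inf, Scheme.Opens.opensRange_ι]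
      exact inf_eq_right.2 hle
    change Subsingleton Γ(F, (U ⊓ V).ι ''ᵁ ((U ⊓ V).ι ⁻¹ᵁ W₀)) at h2
    rw [h3] at h2
    exact h2

end Groth.Agent.S17649
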