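import Groth.Statements.S1765
import Mathlib
import Groth.Agent.Helper9.LF8
-- import your own Groth.Agent.* helpers here

set_option autoImplicit false
universe u
open CategoryTheory
attribute [local instance] HasDerivedCategory.standard
open LocCoh

namespace Groth.Agent.S1765

/-- Let A be a Noetherian ring with a dualizing complex, I an ideal, M a finite A-module, p a prime not
containing I and s ≥ 0. Suppose that for all primes p' ⊆ p and all primes q ⊇ I with p' ⊆ q,
depth(M_{p'}) plus the Krull dimension of the interval of primes [p', q] exceeds s. Then there is f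
∉ p annihilating H^i_I(M) for all i ≤ s. -/
theorem result (A : Type u) [CommRing A] [IsNoetherianRing A] (hA : ∃ ω : Dual.D A, Dual.IsDualizing A ω) (I : Ideal A) (M : Type u) [AddCommGroup M] [Module A M] [Module.Finite A M] (p : PrimeSpectrum A) (hp : ¬ I ≤ p.asIdeal) (s : ℕ) (h : ∀ p' q : PrimeSpectrum A, p' ≤ p → I ≤ q.asIdeal → p' ≤ q → (s : WithBot ℕ∞) < ((LocCoh.depth (Localization.AtPrime p'.asIdeal) (LocalizedModule p'.asIdeal.primeCompl M) : ℕ∞) : WithBot ℕ∞) + Order.krullDim (Set.Icc p' q)) : ∃ f : A, f ∉ p.asIdeal ∧ ∀ i : ℕ, i ≤ s → ∀ x : LocCoh.H I i M, f • x = 0 := by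
  classical
  have hT : StableUnderSpecialization (PrimeSpectrum.zeroLocus (I : Set A)) :=
    (PrimeSpectrum.isClosed_zeroLocus _).stableUnderSpecialization
  have hT' : StableUnderSpecialization {q' : PrimeSpectrum A | ¬ q' ≤ p} := by
    intro x y hxy hx hyp
    exact hx (((PrimeSpectrum.le_iff_specializes x y).mpr hxy).trans hyp)
  have hTT' : PrimeSpectrum.zeroLocus (I : Set A) ⊆ {q' : PrimeSpectrum A | ¬ q' ≤ p} := by
    intro q hq hqp
    rw [PrimeSpectrum.mem_zeroLocus] at hq
    exact hp (fun x hx => (PrimeSpectrum.asIdeal_le_asIdeal q p).mpr hqp (hq hx))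
  obtain ⟨J, hJ, hann⟩ := (Groth.Agent.Helper9.LF8.module_form hA
    (PrimeSpectrum.zeroLocus (I : Set A)) {q' : PrimeSpectrum A | ¬ q' ≤ p} hT hT' hTT' s M).2
    (fun p' q hp' hq hp'q => by
      have h1 : p' ≤ p := not_not.mp hp'
      rw [PrimeSpectrum.mem_zeroLocus] at hq
      exact h p' q h1 hq hp'q)
  have hJp : ¬ J ≤ p.asIdeal := by
    intro hle
    have h1 : p ∈ {q' : PrimeSpectrum A | ¬ q' ≤ p} := hJ (by
      rw [PrimeSpectrum.mem_zeroLocus]
      exact hle)
    exact h1 le_rfl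
  obtain ⟨f, hfJ, hfp⟩ := SetLike.not_le_iff_exists.mp hJp
  refine ⟨f, hfp, fun i hi x => ?_⟩
  obtain ⟨e1⟩ := Groth.Agent.Helper6.LcD.bridge I M i
  apply (e1 ≪≫ₗ Groth.Agent.Helper9.LF3.cmpEquiv I (Dual.inD A M) (i : ℤ)).injective
  rw [map_smul, map_zero]
  exact hann (i : ℤ) (by omega) f hfJ _

end Groth.Agent.S1765
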