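import Groth.Statements.S17677
import Mathlib

set_option autoImplicit false
universe u
open Hoch

namespace Groth.Agent.S17677

/-- the coefficient-at-zero functional -/
noncomputable def pi0 (k : Type u) [CommRing k] (M : Type u) [AddCommMonoid M] :
    AddMonoidAlgebra k M →ₗ[k] k :=
  Finsupp.lapply (0 : M) ∘ₗ (AddMonoidAlgebra.coeffLinearEquiv k).toLinearMap

open Classical in
theorem pi0_single (k : Type u) [CommRing k] (M : Type u) [AddCommMonoid M] (m : M) (r : k) :
    pi0 k M (AddMonoidAlgebra.single m r) = if m = 0 then r else 0 := by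
  simp [pi0, Finsupp.single_apply]

theorem pi0_one (k : Type u) [CommRing k] (M : Type u) [AddCommMonoid M] :
    pi0 k M 1 = 1 := by
  rw [AddMonoidAlgebra.one_def, pi0_single, if_pos rfl]

theorem pi0_comul (k : Type u) [CommRing k] (M : Type u) [AddCommMonoid M]
    (a : AddMonoidAlgebra k M) :
    (TensorProduct.rid k (AddMonoidAlgebra k M))
      ((pi0 k M).lTensor (AddMonoidAlgebra k M) (Coalgebra.comul (R := k) a)) = pi0 k M a • 1 := by
  classical
  induction a using AddMonoidAlgebra.induction_linear with
  | zero => simp
  | add a b ha hb => simp only [map_add, ha, hb, add_smul]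
  | single m r =>
    rw [AddMonoidAlgebra.comul_single]
    simp only [CommSemiring.comul_apply, TensorProduct.map_tmul, AddMonoidAlgebra.lsingle_apply,
      LinearMap.lTensor_tmul, TensorProduct.rid_tmul, pi0_single]
    by_cases h : m = 0
    · subst h
      simp [AddMonoidAlgebra.one_def, AddMonoidAlgebra.smul_single]
    · simp [h]

open TensorProduct in
theorem main (k : Type u) [CommRing k] (M : Type u)
    [AddCommMonoid M] (V : Type u) [AddCommGroup V] [Module k V]
    [HopfRep.Comod k (AddMonoidAlgebra k M) V] :
    Hoch.cocycles k (AddMonoidAlgebra k M) V 1 ≤ Hoch.coboundaries k (AddMonoidAlgebra k M) V 1 := by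
  intro c hc
  have hc' : Hoch.d k (AddMonoidAlgebra k M) V 1 c = 0 := hc
  let φ : (V ⊗[k] AddMonoidAlgebra k M) ⊗[k] AddMonoidAlgebra k M →ₗ[k] V ⊗[k] AddMonoidAlgebra k M :=
    (TensorProduct.rid k _).toLinearMap ∘ₗ (pi0 k M).lTensor _
  let ψ : V ⊗[k] AddMonoidAlgebra k M →ₗ[k] V :=
    (TensorProduct.rid k V).toLinearMap ∘ₗ (pi0 k M).lTensor V
  have hφassoc : ∀ (v : V) (t : AddMonoidAlgebra k M ⊗[k] AddMonoidAlgebra k M),
      φ ((TensorProduct.assoc k V _ _).symm (v ⊗ₜ[k] t)) =
        v ⊗ₜ[k] (TensorProduct.rid k (AddMonoidAlgebra k M))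
          ((pi0 k M).lTensor (AddMonoidAlgebra k M) t) := by
    intro v t
    induction t using TensorProduct.induction_on with
    | zero => simp
    | add x y hx hy => simp only [tmul_add, map_add, hx, hy]
    | tmul x y =>
      simp only [φ, TensorProduct.assoc_symm_tmul, LinearMap.coe_comp, LinearEquiv.coe_coe,
        Function.comp_apply, LinearMap.lTensor_tmul, TensorProduct.rid_tmul,
        TensorProduct.smul_tmul', TensorProduct.tmul_smul]
  have key : ∀ c : V ⊗[k] AddMonoidAlgebra k M,
      φ (Hoch.d k (AddMonoidAlgebra k M) V 1 c) = Hoch.d k (AddMonoidAlgebra k M) V 0 (ψ c) + c := by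
    intro c
    induction c using TensorProduct.induction_on with
    | zero => simp
    | add x y hx hy =>
      rw [map_add, map_add, hx, hy, map_add, map_add]
      abel
    | tmul v a =>
      rw [Hoch.d_succ]
      simp only [LinearMap.add_apply, LinearMap.smul_apply, LinearMap.rTensor_tmul, map_add,
        map_smul, Hoch.tail_tmul, hφassoc]
      have h1 : φ ((Hoch.d k (AddMonoidAlgebra k M) V 0 v) ⊗ₜ[k] a) =
          pi0 k M a • Hoch.d k (AddMonoidAlgebra k M) V 0 v := by
        simp [φ]
      have h2 : ψ (v ⊗ₜ[k] a) = pi0 k M a • v := by simp [ψ]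
      rw [h1, h2, map_smul]
      simp only [map_sub, pi0_comul, LinearMap.lTensor_tmul, TensorProduct.rid_tmul, pi0_one,
        one_smul, tmul_sub, zero_add, pow_one, neg_smul, sub_self, zero_sub, neg_neg]
      abel
  have := key c
  rw [hc', map_zero] at this
  refine ⟨-(ψ c), ?_⟩
  rw [map_neg]
  exact (eq_neg_of_add_eq_zero_right this.symm).symm

/-- Let k be a commutative ring, M a commutative monoid and V a right comodule over the monoid bialgebra
k[M] (a quasi-coherent module with an action of the diagonalizable monoid scheme Spec k[M]). Then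
every 1-cocycle of the Hochschild complex of V is a 1-coboundary, i.e. the first Hochschild
cohomology module of the diagonalizable monoid with coefficients in V is zero. (The source works
over an algebraic space with M finitely generated and cancellative, hypotheses it uses only to
identify modules under the monoid with comodules; the cocycle computation, which is the affine
statement given here, uses neither.) -/
theorem result (k : Type u) [CommRing k] (M : Type u)
    [AddCommMonoid M] (V : Type u) [AddCommGroup V] [Module k V]
    [HopfRep.Comod k (AddMonoidAlgebra k M) V] :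
    Hoch.cocycles k (AddMonoidAlgebra k M) V 1 ≤ Hoch.coboundaries k (AddMonoidAlgebra k M) V 1 := by
  exact main k M V

end Groth.Agent.S17677
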