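import Groth.Statements.S17679
import Mathlib

set_option autoImplicit false
open DiagMon

namespace Groth.Agent.S17679

/-- For n ≥ 1 the minimal number of generators of ℤ^n as an additive monoid is n + 1: some n + 1
elements generate ℤ^n as a monoid, and every finite set generating ℤ^n as a monoid has at least n +
1 elements. (For n = 0 the empty set generates the zero monoid, so the count n + 1 is stated for n ≥
1 only.) -/
theorem result (n : ℕ) (hn : 1 ≤ n) :
    (∃ s : Finset (Fin n → ℤ), s.card = n + 1 ∧ AddSubmonoid.closure (s : Set (Fin n → ℤ)) = ⊤) ∧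
    ∀ s : Finset (Fin n → ℤ), AddSubmonoid.closure (s : Set (Fin n → ℤ)) = ⊤ → n + 1 ≤ s.card := by
  classical
  constructor
  · let w : Fin n → ℤ := fun _ => -1
    let E : Finset (Fin n → ℤ) := Finset.univ.image (fun i : Fin n => Pi.single i (1 : ℤ))
    have hinj : Function.Injective (fun i : Fin n => (Pi.single i (1 : ℤ) : Fin n → ℤ)) :=
      by
        intro i j h
        by_contra hij
        have := congrFun h i
        simp [hij] at this
    have hw : w ∉ E := by
      intro h
      obtain ⟨i, -, hi⟩ := Finset.mem_image.mp h
      have := congrFun hi i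
      simp [w] at this
    refine ⟨insert w E, ?_, ?_⟩
    · rw [Finset.card_insert_of_notMem hw, Finset.card_image_of_injective _ hinj]
      simp
    · rw [eq_top_iff]
      intro v _
      let c : ℕ := ∑ i, (v i).natAbs
      have hc : ∀ i, 0 ≤ v i + c := by
        intro i
        have h1 : (v i).natAbs ≤ c := Finset.single_le_sum (f := fun i => (v i).natAbs)
          (fun _ _ => Nat.zero_le _) (Finset.mem_univ i)
        have h2 : -( (v i).natAbs : ℤ) ≤ v i := by omega
        have : ((v i).natAbs : ℤ) ≤ c := by exact_mod_cast h1
        linarith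
      have hv : v = ∑ i, (v i + c).toNat • (Pi.single i (1 : ℤ) : Fin n → ℤ) + c • w := by
        ext j
        simp only [Pi.add_apply, Finset.sum_apply, Pi.smul_apply, Pi.single_apply, w]
        rw [Finset.sum_eq_single j]
        · simp only [if_true, nsmul_eq_mul, mul_one, mul_neg]
          rw [Int.toNat_of_nonneg (hc j)]
          ring
        · intro b _ hb
          simp [Ne.symm hb]
        · simp
      rw [hv]
      refine add_mem (sum_mem fun i _ => nsmul_mem (AddSubmonoid.subset_closure ?_) _)
        (nsmul_mem (AddSubmonoid.subset_closure ?_) _)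
      · exact Finset.mem_insert_of_mem (Finset.mem_image_of_mem _ (Finset.mem_univ i))
      · exact Finset.mem_insert_self _ _
  · intro s hs
    by_contra hcard
    push Not at hcard
    have hcard' : s.card ≤ n := by omega
    haveI : Nontrivial (Fin n → ℤ) := by
      haveI : Nonempty (Fin n) := ⟨⟨0, by omega⟩⟩
      infer_instance
    -- span = ⊤
    have hspan : ⊤ ≤ Submodule.span ℤ (Set.range (Subtype.val : s → Fin n → ℤ)) := by
      intro x _
      have hx : x ∈ AddSubmonoid.closure (s : Set (Fin n → ℤ)) := by rw [hs]; trivial
      have hle : AddSubmonoid.closure (s : Set (Fin n → ℤ)) ≤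
          (Submodule.span ℤ (Set.range (Subtype.val : s → Fin n → ℤ))).toAddSubmonoid := by
        rw [AddSubmonoid.closure_le]
        intro a ha
        exact Submodule.subset_span ⟨⟨a, ha⟩, rfl⟩
      exact hle hx
    have hli : LinearIndependent ℤ (Subtype.val : s → Fin n → ℤ) := by
      apply linearIndependent_of_top_le_span_of_card_le_finrank hspan
      simpa using hcard'
    -- nonempty
    have hne : s.Nonempty := by
      by_contra h
      rw [Finset.not_nonempty_iff_eq_empty] at h
      subst h
      simp only [Finset.coe_empty, AddSubmonoid.closure_empty] at hs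
      exact bot_ne_top hs
    obtain ⟨v, hv⟩ := hne
    have hmem : -v ∈ AddSubmonoid.closure (s : Set (Fin n → ℤ)) := by rw [hs]; trivial
    obtain ⟨f, -, hf⟩ := AddSubmonoid.mem_closure_finset.mp hmem
    let g : s → ℤ := fun a => (f a.1 : ℤ) + if a.1 = v then 1 else 0
    have hsum : ∑ a : s, g a • a.1 = 0 := by
      have h1 : ∑ a : s, g a • a.1 = ∑ a ∈ s, ((f a : ℤ) + if a = v then 1 else 0) • a :=
        Finset.sum_coe_sort s (fun a => ((f a : ℤ) + if a = v then 1 else 0) • a)
      rw [h1]
      simp only [add_smul, Finset.sum_add_distrib, ite_smul, one_smul, zero_smul,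
        Finset.sum_ite_eq', hv, if_true]
      have h2 : ∑ a ∈ s, (f a : ℤ) • a = ∑ a ∈ s, f a • a :=
        Finset.sum_congr rfl fun a _ => by rw [natCast_zsmul]
      rw [h2, hf]
      simp
    have := Fintype.linearIndependent_iff.mp hli g hsum ⟨v, hv⟩
    simp only [g, if_true] at this
    omega

end Groth.Agent.S17679
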