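import Groth.Statements.S17682
import Mathlib

set_option autoImplicit false
universe u v w u'
open DiagMon

namespace Groth.Agent.S17682

open DirectSum in
theorem main (R : Type u) [CommRing R]
    (A : Type v) [CommRing A] [Algebra R A] (M : Type w) [AddCommMonoid M] [DecidableEq M]
    (𝒜 : M → Submodule R A) [GradedAlgebra 𝒜] (N : AddSubmonoid M) (R' : Type u') [CommRing R']
    [Algebra R R'] (F : A →ₐ[R] R') (hF : ∀ m, m ∉ N → ∀ a ∈ 𝒜 m, F a = 0) :
    ∃! f : A →ₐ[R] AddMonoidAlgebra R' M,
      (∀ m, ∀ a ∈ 𝒜 m, f a =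
          AddMonoidAlgebra.single m (Bialgebra.counitAlgHom R' (AddMonoidAlgebra R' M) (f a))) ∧
      (∀ m, m ∉ N → ∀ a ∈ 𝒜 m, f a = 0) ∧
      ∀ a, Bialgebra.counitAlgHom R' (AddMonoidAlgebra R' M) (f a) = F a := by
  classical
  -- the graded pieces of the map
  let g : ∀ m, 𝒜 m →ₗ[R] AddMonoidAlgebra R' M := fun m =>
    { toFun := fun a => AddMonoidAlgebra.single m (F (a : A))
      map_add' := fun a b => by
        simp only [Submodule.coe_add, map_add, AddMonoidAlgebra.single_add]
      map_smul' := fun r a => by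
        simp only [Submodule.coe_smul, map_smul, RingHom.id_apply]
        rw [AddMonoidAlgebra.smul_single] }
  have hone : g 0 (GradedMonoid.GOne.one (A := fun m => 𝒜 m)) = 1 := by
    show AddMonoidAlgebra.single (0 : M) (F ((1 : A))) = 1
    rw [map_one]; rfl
  have hmul : ∀ {i j} (ai : 𝒜 i) (aj : 𝒜 j),
      g (i + j) (GradedMonoid.GMul.mul (A := fun m => 𝒜 m) ai aj) = g i ai * g j aj := by
    intro i j ai aj
    show AddMonoidAlgebra.single (i + j) (F ((ai : A) * (aj : A))) =
      AddMonoidAlgebra.single i (F ai) * AddMonoidAlgebra.single j (F aj)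
    rw [map_mul, AddMonoidAlgebra.single_mul_single]
  let f₀ : (⨁ m, 𝒜 m) →ₐ[R] AddMonoidAlgebra R' M :=
    DirectSum.toAlgebra R (fun m => 𝒜 m) g hone hmul
  let f : A →ₐ[R] AddMonoidAlgebra R' M := f₀.comp (decomposeAlgEquiv 𝒜).toAlgHom
  have hf_hom : ∀ m, ∀ a ∈ 𝒜 m, f a = AddMonoidAlgebra.single m (F a) := by
    intro m a ha
    show f₀ (decompose 𝒜 a) = _
    rw [decompose_of_mem 𝒜 ha]
    exact DirectSum.toSemiring_of (fun i => (g i).toAddMonoidHom) hone hmul m ⟨a, ha⟩
  have hε : ∀ (m : M) (r : R'), Bialgebra.counitAlgHom R' (AddMonoidAlgebra R' M)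
      (AddMonoidAlgebra.single m r) = r := by
    intro m r
    show Coalgebra.counit (AddMonoidAlgebra.single m r) = r
    rw [AddMonoidAlgebra.counit_single]
    rfl
  refine ⟨f, ⟨?_, ?_, ?_⟩, ?_⟩
  · intro m a ha
    rw [hf_hom m a ha, hε]
  · intro m hm a ha
    rw [hf_hom m a ha, hF m hm a ha, AddMonoidAlgebra.single_zero]
  · intro a
    rw [← sum_support_decompose 𝒜 a, map_sum, map_sum, map_sum]
    refine Finset.sum_congr rfl fun m _ => ?_
    rw [hf_hom m _ (SetLike.coe_mem _), hε]
  · rintro f' ⟨h1, _, h3⟩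
    apply AlgHom.ext
    intro a
    rw [← sum_support_decompose 𝒜 a, map_sum, map_sum]
    refine Finset.sum_congr rfl fun m _ => ?_
    rw [hf_hom m _ (SetLike.coe_mem _), h1 m _ (SetLike.coe_mem _), h3]

/-- Let R be a commutative ring, A a commutative R-algebra graded by a commutative monoid M, N a
submonoid of M and R' a commutative R-algebra. For every R-algebra homomorphism F : A → R' vanishing
on the homogeneous elements of degree outside N there is a unique R-algebra homomorphism f : A →
R'[M] which is graded (a homogeneous element of degree m goes to a multiple of X^m), vanishes on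
homogeneous elements of degree outside N, and composes with the augmentation X^m ↦ 1 to F. In the
dictionary where an M-grading of A is an action of the diagonalizable monoid scheme Spec R[M] on
Spec A and graded maps A → R'[M] supported on N are equivariant maps from the monoid scheme of N
over R', this says that the attractor of Spec A for the magnet N is represented by the closed
subscheme of Spec A defined by the homogeneous elements of degree outside N. -/
theorem result (R : Type u) [CommRing R]
    (A : Type v) [CommRing A] [Algebra R A] (M : Type w) [AddCommMonoid M] [DecidableEq M]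
    (𝒜 : M → Submodule R A) [GradedAlgebra 𝒜] (N : AddSubmonoid M) (R' : Type u') [CommRing R']
    [Algebra R R'] (F : A →ₐ[R] R') (hF : ∀ m, m ∉ N → ∀ a ∈ 𝒜 m, F a = 0) :
    ∃! f : A →ₐ[R] AddMonoidAlgebra R' M,
      (∀ m, ∀ a ∈ 𝒜 m, f a =
          AddMonoidAlgebra.single m (Bialgebra.counitAlgHom R' (AddMonoidAlgebra R' M) (f a))) ∧
      (∀ m, m ∉ N → ∀ a ∈ 𝒜 m, f a = 0) ∧
      ∀ a, Bialgebra.counitAlgHom R' (AddMonoidAlgebra R' M) (f a) = F a := by
  exact main R A M 𝒜 N R' F hF

end Groth.Agent.S17682
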