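import Groth.Statements.S17683
import Mathlib

set_option autoImplicit false
universe u
open DiagMon

namespace Groth.Agent.S17683

open Classical in
theorem cd_single {N : Type u} [AddCommMonoid N] (F : AddSubmonoid N) (x : N) (r : ℤ) :
    AddMonoidAlgebra.comapDomain ((↑) : F → N) Subtype.val_injective (AddMonoidAlgebra.single x r)
      = if h : x ∈ F then AddMonoidAlgebra.single (⟨x, h⟩ : F) r else 0 := by
  split_ifs with h
  · exact AddMonoidAlgebra.comapDomain_single_map ((↑) : F → N) Subtype.val_injective ⟨x, h⟩ r
  · ext z
    have : (z : N) ≠ x := by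
      rintro rfl
      exact h z.2
    simp [Finsupp.single_apply, Ne.symm this]

/-- Let N be a commutative monoid and F a submonoid of N. The additive projection ℤ[N] → ℤ[F] of monoid
algebras keeping the monomials with exponent in F and killing the others is multiplicative, i.e. F
is a face of N, if and only if for all x, y in N the sum x + y lies in F exactly when both x and y
do. -/
theorem result {N : Type u} [AddCommMonoid N] (F : AddSubmonoid N) :
    (∀ a b : AddMonoidAlgebra ℤ N,
        AddMonoidAlgebra.comapDomain ((↑) : F → N) Subtype.val_injective (a * b) =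
          AddMonoidAlgebra.comapDomain ((↑) : F → N) Subtype.val_injective a *
            AddMonoidAlgebra.comapDomain ((↑) : F → N) Subtype.val_injective b) ↔
      ∀ x y : N, x + y ∈ F ↔ (x ∈ F ∧ y ∈ F) := by
  constructor
  · intro h x y
    refine ⟨fun hxy => ?_, fun hxy => F.add_mem hxy.1 hxy.2⟩
    have := h (AddMonoidAlgebra.single x 1) (AddMonoidAlgebra.single y 1)
    rw [AddMonoidAlgebra.single_mul_single, cd_single, cd_single, cd_single, dif_pos hxy] at this
    by_contra hcon
    rw [not_and_or] at hcon
    have hz : AddMonoidAlgebra.single (⟨x + y, hxy⟩ : F) ((1 : ℤ) * 1) = 0 := by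
      rw [this]
      rcases hcon with hx | hy
      · rw [dif_neg hx, zero_mul]
      · rw [dif_neg hy, mul_zero]
    rw [AddMonoidAlgebra.single_eq_zero] at hz
    norm_num at hz
  · intro h a b
    induction a using AddMonoidAlgebra.induction_linear with
    | zero => simp
    | add a₁ a₂ h1 h2 =>
      rw [add_mul, AddMonoidAlgebra.comapDomain_add, AddMonoidAlgebra.comapDomain_add, add_mul, h1, h2]
    | single x r =>
      induction b using AddMonoidAlgebra.induction_linear with
      | zero => simp
      | add b₁ b₂ h1 h2 =>
        rw [mul_add, AddMonoidAlgebra.comapDomain_add, AddMonoidAlgebra.comapDomain_add, mul_add, h1, h2]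
      | single y s =>
        rw [AddMonoidAlgebra.single_mul_single, cd_single, cd_single, cd_single]
        by_cases hx : x ∈ F
        · by_cases hy : y ∈ F
          · rw [dif_pos hx, dif_pos hy, dif_pos ((h x y).2 ⟨hx, hy⟩),
              AddMonoidAlgebra.single_mul_single]
            rfl
          · rw [dif_neg hy, mul_zero, dif_neg]
            exact fun hxy => hy ((h x y).1 hxy).2
        · rw [dif_neg hx, zero_mul, dif_neg]
          exact fun hxy => hx ((h x y).1 hxy).1

end Groth.Agent.S17683
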