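import Groth.Statements.S17687
import Mathlib

set_option autoImplicit false
universe u v w
open DiagMon

namespace Groth.Agent.S17687

open DirectSum in
theorem key (R : Type u) [CommRing R] (A : Type v) [CommRing A]
    [Algebra R A] (M : Type w) [AddCommMonoid M] [DecidableEq M]
    (𝒜 : M → Submodule R A) [GradedAlgebra 𝒜] (T : Set A) (hT : Algebra.adjoin R T = ⊤)
    (hTh : ∀ t ∈ T, ∃ m, t ∈ 𝒜 m) (N : AddSubmonoid M) :
    Ideal.span {a : A | ∃ m : M, m ∉ N ∧ a ∈ 𝒜 m} =
      Ideal.span {t : A | t ∈ T ∧ ∃ m : M, m ∉ N ∧ t ∈ 𝒜 m} := by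
  classical
  apply le_antisymm
  · rw [Ideal.span_le]
    rintro a ⟨m, hm, ha⟩
    set I := Ideal.span {t : A | t ∈ T ∧ ∃ m : M, m ∉ N ∧ t ∈ 𝒜 m} with hI
    have hall : ∀ x : A, ∀ m ∉ N, (decompose 𝒜 x m : A) ∈ I := by
      intro x
      have hx : x ∈ Algebra.adjoin R T := hT ▸ Algebra.mem_top
      induction hx using Algebra.adjoin_induction with
      | mem t ht =>
        intro m hm
        obtain ⟨mt, hmt⟩ := hTh t ht
        by_cases h : m = mt
        · subst h
          rw [decompose_of_mem_same 𝒜 hmt]
          exact Ideal.subset_span ⟨ht, m, hm, hmt⟩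
        · rw [decompose_of_mem_ne 𝒜 hmt (Ne.symm h)]
          exact I.zero_mem
      | algebraMap r =>
        intro m hm
        have h0 : algebraMap R A r ∈ 𝒜 0 := SetLike.algebraMap_mem_graded 𝒜 r
        have hne : (0 : M) ≠ m := by
          rintro rfl
          exact hm N.zero_mem
        rw [decompose_of_mem_ne 𝒜 h0 hne]
        exact I.zero_mem
      | add x y _ _ hx hy =>
        intro m hm
        rw [decompose_add, DirectSum.add_apply, Submodule.coe_add]
        exact I.add_mem (hx m hm) (hy m hm)
      | mul x y _ _ hx hy =>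
        intro m hm
        rw [decompose_mul, coe_mul_apply]
        refine I.sum_mem fun ij hij => ?_
        rw [Finset.mem_filter] at hij
        have : ij.1 ∉ N ∨ ij.2 ∉ N := by
          by_contra hcon
          push Not at hcon
          exact hm (hij.2 ▸ N.add_mem hcon.1 hcon.2)
        rcases this with h | h
        · exact I.mul_mem_right _ (hx _ h)
        · exact I.mul_mem_left _ (hy _ h)
    have := hall a m hm
    rwa [decompose_of_mem_same 𝒜 ha] at this
  · apply Ideal.span_mono
    rintro t ⟨_, m, hm, ht⟩
    exact ⟨m, hm, ht⟩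

open DirectSum in
theorem main (R : Type u) [CommRing R] (A : Type v) [CommRing A]
    [Algebra R A] [Algebra.FiniteType R A] (M : Type w) [AddCommMonoid M] [DecidableEq M]
    (𝒜 : M → Submodule R A) [GradedAlgebra 𝒜] :
    (Set.range fun N : AddSubmonoid M => Ideal.span {a : A | ∃ m : M, m ∉ N ∧ a ∈ 𝒜 m}).Finite := by
  classical
  obtain ⟨s, hs⟩ := (Algebra.FiniteType.out : (⊤ : Subalgebra R A).FG)
  -- homogeneous components of the generators
  let T : Finset A := s.biUnion fun x => (decompose 𝒜 x).support.image fun m => (decompose 𝒜 x m : A)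
  have hTh : ∀ t ∈ (T : Set A), ∃ m, t ∈ 𝒜 m := by
    intro t ht
    simp only [T, Finset.coe_biUnion, Finset.coe_image, Set.mem_iUnion, Set.mem_image] at ht
    obtain ⟨x, _, m, _, rfl⟩ := ht
    exact ⟨m, SetLike.coe_mem _⟩
  have hT : Algebra.adjoin R (T : Set A) = ⊤ := by
    rw [eq_top_iff, ← hs]
    apply Algebra.adjoin_le
    intro x hx
    rw [← sum_support_decompose 𝒜 x]
    refine Subalgebra.sum_mem _ fun m hm => Algebra.subset_adjoin ?_
    simp only [T, Finset.coe_biUnion, Finset.coe_image, Set.mem_iUnion, Set.mem_image]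
    exact ⟨x, hx, m, hm, rfl⟩
  have hfin : (Set.image (fun U : Set A => Ideal.span U) (Set.powerset (T : Set A))).Finite :=
    (Set.Finite.powerset T.finite_toSet).image _
  refine hfin.subset ?_
  rintro _ ⟨N, rfl⟩
  refine ⟨{t : A | t ∈ (T : Set A) ∧ ∃ m : M, m ∉ N ∧ t ∈ 𝒜 m}, fun t ht => ht.1, ?_⟩
  exact (key R A M 𝒜 T hT hTh N).symm

/-- Let R be a commutative ring and A a commutative R-algebra of finite type graded by a commutative
monoid M. Then the set of ideals J_N, N running over all submonoids of M, where J_N is generated by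
the homogeneous elements of degree not in N (the ideal of the attractor of Spec A for the magnet N),
is finite: Spec A has finitely many attractors and hence finitely many pure magnets. (The source
assumes Spec A of finite presentation over the base; its proof uses only a finite set of homogeneous
algebra generators, so finite type is assumed here.) -/
theorem result (R : Type u) [CommRing R] (A : Type v) [CommRing A]
    [Algebra R A] [Algebra.FiniteType R A] (M : Type w) [AddCommMonoid M] [DecidableEq M]
    (𝒜 : M → Submodule R A) [GradedAlgebra 𝒜] :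
    (Set.range fun N : AddSubmonoid M => Ideal.span {a : A | ∃ m : M, m ∉ N ∧ a ∈ 𝒜 m}).Finite := by
  exact main R A M 𝒜

end Groth.Agent.S17687
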