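import Groth.Statements.S17690
import Mathlib
import Groth.Agent.S2654
import Groth.Agent.S0567

set_option autoImplicit false
universe u
open Neron

namespace Groth.Agent.S17690

/-- Let R be an excellent discrete valuation ring (Noetherian, universally catenary, G-ring, J-2) with
fraction field K, and let L be a finite purely inseparable field extension of K. Then the integral
closure S of R in L is a discrete valuation ring, and S is a finite R-module. -/
theorem result
    (R K L : Type u) [CommRing R] [IsDomain R] [IsDiscreteValuationRing R] (hR : EGA4.IsExcellent R)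
    [Field K] [Algebra R K] [IsFractionRing R K] [Field L] [Algebra K L] [FiniteDimensional K L]
    [IsPurelyInseparable K L] [Algebra R L] [IsScalarTower R K L] :
    IsDiscreteValuationRing ↥(integralClosure R L) ∧ Module.Finite R ↥(integralClosure R L) := by
  classical
  -- finiteness from the Nagata property
  have hnag : CAlg.IsNagata R := Groth.Agent.S2654.result R ⟨hR.1, hR.2.2.1, hR.2.2.2⟩
  have huj : CAlg.IsUniversallyJapanese R := ((Groth.Agent.S0567.result R).1 hnag).2
  have hN2 : CAlg.IsN2 R := huj R inferInstance
  have hfin : Module.Finite R ↥(integralClosure R L) := by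
    let e : FractionRing R ≃ₐ[R] K := FractionRing.algEquiv R K
    letI : Algebra (FractionRing R) K := (e : FractionRing R →+* K).toAlgebra
    letI : Algebra (FractionRing R) L :=
      ((algebraMap K L).comp (e : FractionRing R →+* K)).toAlgebra
    haveI : IsScalarTower (FractionRing R) K L := IsScalarTower.of_algebraMap_eq (fun _ => rfl)
    haveI : IsScalarTower R (FractionRing R) L := IsScalarTower.of_algebraMap_eq (fun r => by
      show algebraMap R L r = algebraMap K L (e (algebraMap R (FractionRing R) r))
      rw [e.commutes, ← IsScalarTower.algebraMap_apply])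
    haveI : Module.Finite (FractionRing R) K :=
      Module.Finite.of_surjective (Algebra.linearMap (FractionRing R) K) e.surjective
    haveI : FiniteDimensional (FractionRing R) L := Module.Finite.trans K L
    exact hN2 L inferInstance
  refine ⟨?_, hfin⟩
  haveI := hfin
  set S := integralClosure R L with hS
  haveI : IsNoetherianRing R := hR.1
  haveI : IsNoetherianRing S := IsNoetherianRing.of_finite R S
  haveI : IsIntegrallyClosed S := integralClosure.isIntegrallyClosedOfFiniteExtension K
  haveI : Ring.DimensionLEOne S := Ring.DimensionLEOne.integralClosure R L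
  -- elements of `S` lying in `K` come from `R`
  have hSK : ∀ k : K, IsIntegral R (algebraMap K L k) → ∃ r : R, algebraMap R K r = k := by
    intro k hk
    have hk' : IsIntegral R k := (isIntegral_algebraMap_iff (algebraMap K L).injective).1 hk
    exact IsIntegrallyClosed.isIntegral_iff.1 hk'
  -- exponent
  obtain ⟨q, hq⟩ := ExpChar.exists K
  haveI := hq
  haveI : ExpChar L q := expChar_of_injective_algebraMap (algebraMap K L).injective q
  have hpow : ∀ x : S, ∃ n : ℕ, ∃ r : R, (x : L) ^ q ^ n = algebraMap R L r := by
    intro x
    obtain ⟨n, k, hk⟩ := IsPurelyInseparable.pow_mem K q (x : L)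
    have hint : IsIntegral R (algebraMap K L k) := by
      rw [hk]
      exact (x.2 : IsIntegral R (x : L)).pow _
    obtain ⟨r, rfl⟩ := hSK k hint
    exact ⟨n, r, by rw [← hk, ← IsScalarTower.algebraMap_apply]⟩
  have hq1 : 1 ≤ q := (expChar_pos K q)
  -- unit criterion
  have hunit : ∀ (x : S) (N : ℕ) (r : R), 0 < N → (x : L) ^ N = algebraMap R L r →
      (IsUnit x ↔ IsUnit r) := by
    intro x N r hN hx
    have hxS : x ^ N = algebraMap R S r := Subtype.ext (by simpa using hx)
    constructor
    · intro hu
      obtain ⟨y, hy⟩ := hu.exists_right_inv
      -- y^N lies in K hence in R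
      have hxne : (x : L) ≠ 0 := by
        intro h0
        have : (x : L) * (y : L) = 1 := by exact_mod_cast congrArg (Subtype.val) hy
        rw [h0, zero_mul] at this
        exact zero_ne_one this
      have hrne : algebraMap R L r ≠ 0 := by rw [← hx]; exact pow_ne_zero _ hxne
      have hyN : (y : L) ^ N = algebraMap K L ((algebraMap R K r)⁻¹) := by
        have h1 : (x : L) ^ N * (y : L) ^ N = 1 := by
          rw [← mul_pow]
          have : (x : L) * (y : L) = 1 := by exact_mod_cast congrArg (Subtype.val) hy
          rw [this, one_pow]
        rw [hx] at h1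
        rw [map_inv₀, ← IsScalarTower.algebraMap_apply]
        exact eq_inv_of_mul_eq_one_right h1
      have hint : IsIntegral R (algebraMap K L ((algebraMap R K r)⁻¹)) := by
        rw [← hyN]
        exact (y.2 : IsIntegral R (y : L)).pow _
      obtain ⟨s, hs⟩ := hSK _ hint
      refine isUnit_iff_exists_inv.2 ⟨s, ?_⟩
      apply IsFractionRing.injective R K
      rw [map_mul, hs, map_one]
      apply mul_inv_cancel₀
      intro h0
      apply hrne
      rw [IsScalarTower.algebraMap_apply R K L, h0, map_zero]
    · intro hu
      have h1 : IsUnit (x ^ N) := by rw [hxS]; exact hu.map _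
      exact (isUnit_pow_iff hN.ne').1 h1
  haveI : IsLocalRing S := by
    apply IsLocalRing.of_nonunits_add
    intro x y hx hy
    obtain ⟨n, a, ha⟩ := hpow x
    obtain ⟨m, b, hb⟩ := hpow y
    -- common exponent
    have ha' : (x : L) ^ q ^ (n + m) = algebraMap R L (a ^ q ^ m) := by
      rw [pow_add, pow_mul, ha, map_pow]
    have hb' : (y : L) ^ q ^ (n + m) = algebraMap R L (b ^ q ^ n) := by
      rw [add_comm, pow_add, pow_mul, hb, map_pow]
    have hNpos : 0 < q ^ (n + m) := pow_pos hq1 _
    have hxa : ¬ IsUnit (a ^ q ^ m) := fun h => hx ((hunit x _ _ hNpos ha').2 h)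
    have hyb : ¬ IsUnit (b ^ q ^ n) := fun h => hy ((hunit y _ _ hNpos hb').2 h)
    have hsum : ((x + y : S) : L) ^ q ^ (n + m) = algebraMap R L (a ^ q ^ m + b ^ q ^ n) := by
      show ((x : L) + (y : L)) ^ q ^ (n + m) = _
      rw [add_pow_expChar_pow, ha', hb', map_add]
    have hab : ¬ IsUnit (a ^ q ^ m + b ^ q ^ n) := by
      have := IsLocalRing.nonunits_add (R := R) hxa hyb
      exact this
    exact fun h => hab ((hunit (x + y) _ _ hNpos hsum).1 h)
  have hnf : ¬ IsField S := by
    intro hf
    have hinj : Function.Injective (algebraMap R S) := by
      intro a b hab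
      have : algebraMap R L a = algebraMap R L b := congrArg Subtype.val hab
      rw [IsScalarTower.algebraMap_apply R K L, IsScalarTower.algebraMap_apply R K L] at this
      exact IsFractionRing.injective R K ((algebraMap K L).injective this)
    exact IsDiscreteValuationRing.not_isField R
      (isField_of_isIntegral_of_isField hinj hf)
  have hded : IsDedekindDomain S :=
    { toIsDomain := inferInstance
      toIsDedekindRing :=
        { toIsNoetherian := inferInstance
          toDimensionLEOne := inferInstance
          toIsIntegralClosure := inferInstance } }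
  exact ((IsDiscreteValuationRing.TFAE S hnf).out 0 2).2 hded

end Groth.Agent.S17690
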