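import Groth.Statements.S17715
import Mathlib.Tactic.Ring
import Mathlib.Tactic.Linarith
import Mathlib.Tactic.NormNum

set_option autoImplicit false
open MoretBailly

namespace Groth.Agent.S17715

/-- Write B(x) = x/(1 - e^(-x)) for the exponential generating series of the Bernoulli numbers (B'_1 =
1/2). For all natural numbers d and p the coefficient of x^3 in B(-dx)^(-1) B(-dpx) B(x)^4
e^((dp-d-3)x), i.e. the case n = 3, s = 1 of the Todd-class integrand, equals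
-d(d+2)(p-1)(dp-d-2)/24 = -(d^3+2d^2) p^2/24 + (d^3+3d^2+2d) p/12 - (d^3+4d^2+4d)/24. (The published
closed form has the same p^2 and p coefficients but constant term -(d^3+2d^2+2d)/24; direct
expansion gives the value stated here, which vanishes at p = 1.) -/
theorem result (d p : ℕ) :
    PowerSeries.coeff 3 ((PowerSeries.rescale (-(d : ℚ)) (bernoulli'PowerSeries ℚ))⁻¹ * PowerSeries.rescale (-((d : ℚ) * p)) (bernoulli'PowerSeries ℚ) * bernoulli'PowerSeries ℚ ^ (4) * PowerSeries.rescale ((d : ℚ) * p - d - 3) (PowerSeries.exp ℚ)) =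
      -((d : ℚ) * (d + 2) * (p - 1) * (d * p - d - 2)) / 24 := by
  -- coefficients of a product up to degree 3
  have hmul : ∀ f g : PowerSeries ℚ,
      PowerSeries.coeff 0 (f * g) = PowerSeries.coeff 0 f * PowerSeries.coeff 0 g ∧
      PowerSeries.coeff 1 (f * g) = PowerSeries.coeff 0 f * PowerSeries.coeff 1 g +
        PowerSeries.coeff 1 f * PowerSeries.coeff 0 g ∧
      PowerSeries.coeff 2 (f * g) = PowerSeries.coeff 0 f * PowerSeries.coeff 2 g +
        PowerSeries.coeff 1 f * PowerSeries.coeff 1 g + PowerSeries.coeff 2 f * PowerSeries.coeff 0 g ∧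
      PowerSeries.coeff 3 (f * g) = PowerSeries.coeff 0 f * PowerSeries.coeff 3 g +
        PowerSeries.coeff 1 f * PowerSeries.coeff 2 g + PowerSeries.coeff 2 f * PowerSeries.coeff 1 g +
        PowerSeries.coeff 3 f * PowerSeries.coeff 0 g := by
    intro f g
    refine ⟨?_, ?_, ?_, ?_⟩ <;>
    · rw [PowerSeries.coeff_mul]
      simp [Finset.antidiagonal, Finset.Nat.antidiagonal_succ, add_assoc]
  -- Bernoulli series coefficients
  have hT : PowerSeries.coeff 0 (bernoulli'PowerSeries ℚ) = 1 ∧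
      PowerSeries.coeff 1 (bernoulli'PowerSeries ℚ) = 1 / 2 ∧
      PowerSeries.coeff 2 (bernoulli'PowerSeries ℚ) = 1 / 12 ∧
      PowerSeries.coeff 3 (bernoulli'PowerSeries ℚ) = 0 := by
    refine ⟨?_, ?_, ?_, ?_⟩ <;>
    · rw [bernoulli'PowerSeries, PowerSeries.coeff_mk]
      simp [bernoulli'_one, bernoulli'_two, bernoulli'_three, Nat.factorial]
      try norm_num
  obtain ⟨hT0, hT1, hT2, hT3⟩ := hT
  have hE : PowerSeries.coeff 0 (PowerSeries.exp ℚ) = 1 ∧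
      PowerSeries.coeff 1 (PowerSeries.exp ℚ) = 1 ∧
      PowerSeries.coeff 2 (PowerSeries.exp ℚ) = 1 / 2 ∧
      PowerSeries.coeff 3 (PowerSeries.exp ℚ) = 1 / 6 := by
    refine ⟨?_, ?_, ?_, ?_⟩ <;>
    · rw [PowerSeries.coeff_exp]
      simp [Nat.factorial]
      try norm_num
  obtain ⟨hE0, hE1, hE2, hE3⟩ := hE
  -- T^2 and T^4
  obtain ⟨hS0, hS1, hS2, hS3⟩ := hmul (bernoulli'PowerSeries ℚ) (bernoulli'PowerSeries ℚ)
  simp only [hT0, hT1, hT2, hT3] at hS0 hS1 hS2 hS3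
  obtain ⟨hQ0, hQ1, hQ2, hQ3⟩ := hmul (bernoulli'PowerSeries ℚ * bernoulli'PowerSeries ℚ)
    (bernoulli'PowerSeries ℚ * bernoulli'PowerSeries ℚ)
  simp only [hS0, hS1, hS2, hS3] at hQ0 hQ1 hQ2 hQ3
  have hpow4 : bernoulli'PowerSeries ℚ ^ 4 = (bernoulli'PowerSeries ℚ * bernoulli'PowerSeries ℚ) *
      (bernoulli'PowerSeries ℚ * bernoulli'PowerSeries ℚ) := by ring
  -- the inverse
  set φ := PowerSeries.rescale (-(d : ℚ)) (bernoulli'PowerSeries ℚ) with hφ
  have hφc : ∀ n, PowerSeries.coeff n φ = (-(d : ℚ)) ^ n * PowerSeries.coeff n (bernoulli'PowerSeries ℚ) :=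
    fun n => PowerSeries.coeff_rescale _ _ _
  have hφ0 : PowerSeries.constantCoeff φ ≠ 0 := by
    rw [← PowerSeries.coeff_zero_eq_constantCoeff_apply, hφc, hT0]; simp
  have hinv := PowerSeries.mul_inv_cancel φ hφ0
  obtain ⟨hI0, hI1, hI2, hI3⟩ := hmul φ φ⁻¹
  have c0 : PowerSeries.coeff 0 (1 : PowerSeries ℚ) = 1 := by simp
  have c1 : PowerSeries.coeff 1 (1 : PowerSeries ℚ) = 0 := by simp [PowerSeries.coeff_one]
  have c2 : PowerSeries.coeff 2 (1 : PowerSeries ℚ) = 0 := by simp [PowerSeries.coeff_one]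
  have c3 : PowerSeries.coeff 3 (1 : PowerSeries ℚ) = 0 := by simp [PowerSeries.coeff_one]
  rw [hinv, c0] at hI0
  rw [hinv, c1] at hI1
  rw [hinv, c2] at hI2
  rw [hinv, c3] at hI3
  simp only [hφc, hT0, hT1, hT2, hT3] at hI0 hI1 hI2 hI3
  -- second factor
  set ψ := PowerSeries.rescale (-((d : ℚ) * p)) (bernoulli'PowerSeries ℚ) with hψ
  have hψc : ∀ n, PowerSeries.coeff n ψ = (-((d : ℚ) * p)) ^ n * PowerSeries.coeff n (bernoulli'PowerSeries ℚ) :=
    fun n => PowerSeries.coeff_rescale _ _ _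
  set ε := PowerSeries.rescale ((d : ℚ) * p - d - 3) (PowerSeries.exp ℚ) with hε
  have hεc : ∀ n, PowerSeries.coeff n ε = ((d : ℚ) * p - d - 3) ^ n * PowerSeries.coeff n (PowerSeries.exp ℚ) :=
    fun n => PowerSeries.coeff_rescale _ _ _
  obtain ⟨hA0, hA1, hA2, hA3⟩ := hmul φ⁻¹ ψ
  obtain ⟨hB0, hB1, hB2, hB3⟩ := hmul (φ⁻¹ * ψ) (bernoulli'PowerSeries ℚ ^ 4)
  obtain ⟨hC0, hC1, hC2, hC3⟩ := hmul (φ⁻¹ * ψ * bernoulli'PowerSeries ℚ ^ 4) ε
  rw [hC3, hB0, hB1, hB2, hB3, hA0, hA1, hA2, hA3, hpow4, hQ0, hQ1, hQ2, hQ3]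
  simp only [hψc, hεc, hT0, hT1, hT2, hT3, hE0, hE1, hE2, hE3]
  have e0 : PowerSeries.coeff 0 φ⁻¹ = 1 := by linarith
  have e1 : PowerSeries.coeff 1 φ⁻¹ = (d : ℚ) / 2 := by
    rw [e0] at hI1; linarith
  have e2 : PowerSeries.coeff 2 φ⁻¹ = (d : ℚ) ^ 2 / 6 := by
    rw [e0, e1] at hI2; linarith
  have e3 : PowerSeries.coeff 3 φ⁻¹ = (d : ℚ) ^ 3 / 24 := by
    rw [e0, e1, e2] at hI3; linarith
  rw [e0, e1, e2, e3]
  ring

end Groth.Agent.S17715
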