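import Groth.Statements.S17717
import Mathlib.Tactic.Ring

set_option autoImplicit false
open MoretBailly

namespace Groth.Agent.S17717

/-- Write B(x) = x/(1 - e^(-x)) for the exponential generating series of the Bernoulli numbers (B'_1 =
1/2). For all natural numbers d, p and every integer s the coefficient of x in B(-dx)^(-1) B(-dpx)
B(x)^2 e^((dp-d-2+s)x), i.e. the case n = 1 of the Todd-class integrand, equals d(p-1)/2 + s - 1. -/
theorem result (d p : ℕ) (s : ℤ) :
    PowerSeries.coeff 1 ((PowerSeries.rescale (-(d : ℚ)) (bernoulli'PowerSeries ℚ))⁻¹ * PowerSeries.rescale (-((d : ℚ) * p)) (bernoulli'PowerSeries ℚ) * bernoulli'PowerSeries ℚ ^ (2) * PowerSeries.rescale ((d : ℚ) * p - d - 2 + s) (PowerSeries.exp ℚ)) =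
      (d : ℚ) * (p - 1) / 2 + s - 1 := by
  have hT0 : PowerSeries.constantCoeff (bernoulli'PowerSeries ℚ) = 1 := by
    rw [← PowerSeries.coeff_zero_eq_constantCoeff_apply, bernoulli'PowerSeries, PowerSeries.coeff_mk]
    simp
  have hT1 : PowerSeries.coeff 1 (bernoulli'PowerSeries ℚ) = 1 / 2 := by
    rw [bernoulli'PowerSeries, PowerSeries.coeff_mk]
    simp [bernoulli'_one]
  have hr0 : ∀ (a : ℚ) (f : PowerSeries ℚ), PowerSeries.constantCoeff (PowerSeries.rescale a f) =
      PowerSeries.constantCoeff f := by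
    intro a f
    rw [← PowerSeries.coeff_zero_eq_constantCoeff_apply, PowerSeries.coeff_rescale]
    simp
  have hr1 : ∀ (a : ℚ) (f : PowerSeries ℚ), PowerSeries.coeff 1 (PowerSeries.rescale a f) =
      a * PowerSeries.coeff 1 f := by
    intro a f
    rw [PowerSeries.coeff_rescale]
    simp
  have hinv1 : ∀ f : PowerSeries ℚ, PowerSeries.constantCoeff f = 1 →
      PowerSeries.coeff 1 f⁻¹ = - PowerSeries.coeff 1 f := by
    intro f hf
    rw [PowerSeries.coeff_inv]
    have : Finset.antidiagonal 1 = {(0, 1), (1, 0)} := rfl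
    rw [this, Finset.sum_insert (by decide), Finset.sum_singleton]
    simp [hf]
  have he0 : PowerSeries.constantCoeff (PowerSeries.exp ℚ) = 1 := by simp
  have he1 : PowerSeries.coeff 1 (PowerSeries.exp ℚ) = 1 := by
    rw [PowerSeries.coeff_exp]; simp
  rw [PowerSeries.coeff_one_mul, PowerSeries.coeff_one_mul, PowerSeries.coeff_one_mul,
    PowerSeries.coeff_one_pow, hinv1 _ (by rw [hr0, hT0])]
  simp only [map_mul, map_pow, PowerSeries.constantCoeff_inv, hr0, hr1, hT0, hT1, he0, he1]
  push_cast
  ring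

end Groth.Agent.S17717
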