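import Groth.Statements.S17718
import Groth.Agent.Helper8.ToddSign

set_option autoImplicit false
open MoretBailly

namespace Groth.Agent.S17718

/-- Let n ≥ 2 and d ≥ 1 be natural numbers with n not congruent to 2 modulo 4, and write B(x) = x/(1 -
e^(-x)) for the exponential generating series of the Bernoulli numbers (B'_1 = 1/2). Then there is
an integer s ≥ 1 such that for all sufficiently large natural numbers p the coefficient of x^n in
B(-dx)^(-1) B(-dpx) B(x)^(n+1) e^((dp-d-n-1+s)x) is strictly negative. (The published argument fixes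
any s with 2s > n + d + 1, which gives the sign only for n congruent to 0 or 1 modulo 4; for n
congruent to 3 modulo 4 the choice s = 1 makes the leading coefficient (2s-d-n-1) B'_(n-1)
d^(n-1)/(2 (n-1)!) negative instead.) -/
theorem result (n d : ℕ) (hn : 2 ≤ n)
    (hmod : n % 4 ≠ 2) (hd : 1 ≤ d) :
    ∃ s : ℤ, 1 ≤ s ∧ ∃ P : ℕ, ∀ p : ℕ, P ≤ p →
      PowerSeries.coeff n ((PowerSeries.rescale (-(d : ℚ)) (bernoulli'PowerSeries ℚ))⁻¹ * PowerSeries.rescale (-((d : ℚ) * p)) (bernoulli'PowerSeries ℚ) * bernoulli'PowerSeries ℚ ^ (n + 1) * PowerSeries.rescale ((d : ℚ) * p - d - n - 1 + s) (PowerSeries.exp ℚ)) < 0 := by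
  have h3 : n % 4 = 0 ∨ n % 4 = 1 ∨ n % 4 = 3 := by omega
  rcases h3 with h | h | h
  · refine ⟨(n : ℤ) + d + 1, by omega, ?_⟩
    refine Groth.Agent.Helper8.todd_neg_eventually n d _ hn hd ?_
    left
    obtain ⟨j, rfl⟩ : ∃ j, n = 4 * j := ⟨n / 4, by omega⟩
    exact Groth.Agent.Helper8.bernoulli'_four_mul_neg (by omega)
  · refine ⟨(n : ℤ) + d + 1, by omega, ?_⟩
    refine Groth.Agent.Helper8.todd_neg_eventually n d _ hn hd ?_
    right
    obtain ⟨j, rfl⟩ : ∃ j, n = 4 * j + 1 := ⟨n / 4, by omega⟩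
    have hj : j ≠ 0 := by omega
    refine ⟨bernoulli'_eq_zero_of_odd ⟨2 * j, by ring⟩ (by omega), ?_⟩
    have h1 : 4 * j + 1 - 1 = 4 * j := by omega
    rw [h1]
    apply mul_neg_of_pos_of_neg _ (Groth.Agent.Helper8.bernoulli'_four_mul_neg hj)
    push_cast
    have hd0 : (1 : ℚ) ≤ d := by exact_mod_cast hd
    have hj0 : (0 : ℚ) ≤ j := by positivity
    linarith
  · refine ⟨1, le_refl _, ?_⟩
    refine Groth.Agent.Helper8.todd_neg_eventually n d _ hn hd ?_
    right
    obtain ⟨j, rfl⟩ : ∃ j, n = 4 * j + 3 := ⟨n / 4, by omega⟩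
    refine ⟨bernoulli'_eq_zero_of_odd ⟨2 * j + 1, by ring⟩ (by omega), ?_⟩
    have h1 : 4 * j + 3 - 1 = 4 * j + 2 := by omega
    rw [h1]
    apply mul_neg_of_neg_of_pos _ (Groth.Agent.Helper8.bernoulli'_four_mul_add_two_pos j)
    push_cast
    have hd0 : (1 : ℚ) ≤ d := by exact_mod_cast hd
    have hj0 : (0 : ℚ) ≤ j := by positivity
    linarith

end Groth.Agent.S17718
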