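import Groth.Statements.S17721
import Mathlib

set_option autoImplicit false
universe u
open CAlg

namespace Groth.Agent.S17721

/-- a power series over a DVR all of whose coefficients are non-units is divisible by `C π` -/
theorem dvd_of_map_residue_eq_zero {R : Type u} [CommRing R] [IsDomain R] [IsDiscreteValuationRing R]
    (ϖ : R) (hϖ : Irreducible ϖ) (g : PowerSeries R)
    (hg : ∀ j, PowerSeries.coeff j g ∈ IsLocalRing.maximalIdeal R) : PowerSeries.C ϖ ∣ g := by
  have hm : IsLocalRing.maximalIdeal R = Ideal.span {ϖ} := (IsDiscreteValuationRing.irreducible_iff_uniformizer ϖ).1 hϖ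
  have : ∀ j, ∃ r, PowerSeries.coeff j g = ϖ * r := by
    intro j
    have := hg j
    rw [hm, Ideal.mem_span_singleton] at this
    exact this
  choose r hr using this
  refine ⟨PowerSeries.mk r, ?_⟩
  ext j
  rw [PowerSeries.coeff_C_mul, PowerSeries.coeff_mk, hr]

open Polynomial IsLocalRing in
/-- Let R be a complete discrete valuation ring with fraction field K, and f a polynomial over R with
non-zero constant term a₀ such that a₀ does not divide some coefficient of f of positive degree
(equivalently, the Newton polygon of f has a side of negative slope). Let b be the power series over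
K with b · f = a₀, the expansion of the geometric series in 1 − f/a₀. Then the valuations of the
coefficients b_j are not bounded below: for every non-zero c in R there is an index j with c · b_j
outside R. -/
theorem result
    (R : Type u) [CommRing R] [IsDomain R] [IsDiscreteValuationRing R]
    [IsAdicComplete (maximalIdeal R) R]
    (K : Type u) [Field K] [Algebra R K] [IsFractionRing R K]
    (f : R[X]) (h0 : f.coeff 0 ≠ 0) (hslope : ∃ i : ℕ, 0 < i ∧ ¬ (f.coeff 0 ∣ f.coeff i))
    (b : PowerSeries K)
    (hb : b * ((f.map (algebraMap R K) : K[X]) : PowerSeries K) = PowerSeries.C (algebraMap R K (f.coeff 0))) :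
    ∀ c : R, c ≠ 0 → ∃ j : ℕ, algebraMap R K c * PowerSeries.coeff j b ∉ (algebraMap R K).range := by
  intro c hc
  by_contra hcon
  push Not at hcon
  choose r hr using hcon
  obtain ⟨i, hi0, hi⟩ := hslope
  have hinj : Function.Injective (algebraMap R K) := IsFractionRing.injective R K
  let g : PowerSeries R := PowerSeries.mk r
  let F : PowerSeries R := (f : PowerSeries R)
  -- g * F = C (c * a₀)
  have hgF : g * F = PowerSeries.C (c * f.coeff 0) := by
    have hinj' : Function.Injective (PowerSeries.map (algebraMap R K)) := by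
      intro x y hxy
      ext j
      apply hinj
      have := congrArg (PowerSeries.coeff j) hxy
      simpa using this
    apply hinj'
    have h1 : PowerSeries.map (algebraMap R K) g = PowerSeries.C (algebraMap R K c) * b := by
      ext j
      rw [PowerSeries.coeff_map, PowerSeries.coeff_C_mul, PowerSeries.coeff_mk, hr]
    have h2 : PowerSeries.map (algebraMap R K) F = ((f.map (algebraMap R K) : K[X]) : PowerSeries K) := by
      ext j
      simp [F]
    rw [map_mul, h1, h2, mul_assoc, hb, PowerSeries.map_C, map_mul, map_mul]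
  have hg0 : g ≠ 0 := by
    intro h
    rw [h, zero_mul] at hgF
    have := congrArg (PowerSeries.coeff 0) hgF
    simp at this
    rcases this with h | h
    · exact hc h
    · exact h0 h
  have hF0 : F ≠ 0 := by
    intro h
    have := congrArg (PowerSeries.coeff 0) h
    simp [F] at this
    exact h0 this
  obtain ⟨ϖ, hϖ⟩ := IsDiscreteValuationRing.exists_irreducible R
  have hx : ¬ IsUnit (PowerSeries.C ϖ : PowerSeries R) := by
    rw [PowerSeries.isUnit_iff_constantCoeff]
    simpa using hϖ.not_isUnit
  obtain ⟨t, g₁, hg₁, hgt⟩ := WfDvdMonoid.max_power_factor' hg0 hx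
  obtain ⟨s, f₁, hf₁, hfs⟩ := WfDvdMonoid.max_power_factor' hF0 hx
  -- reductions nonzero
  let ρ := PowerSeries.map (IsLocalRing.residue R)
  have hρ : ∀ q : PowerSeries R, ¬ (PowerSeries.C ϖ ∣ q) → ρ q ≠ 0 := by
    intro q hq h
    apply hq
    apply dvd_of_map_residue_eq_zero ϖ hϖ
    intro j
    have := congrArg (PowerSeries.coeff j) h
    simp only [ρ, PowerSeries.coeff_map, map_zero] at this
    exact (IsLocalRing.residue_eq_zero_iff _).1 this
  have hq : ρ (g₁ * f₁) ≠ 0 := by
    rw [map_mul]
    exact mul_ne_zero (hρ _ hg₁) (hρ _ hf₁)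
  have hprod : PowerSeries.C (ϖ ^ (t + s)) * (g₁ * f₁) = PowerSeries.C (c * f.coeff 0) := by
    rw [← hgF, hgt, hfs, map_pow, pow_add]; ring
  have hpow : ϖ ^ (t + s) ≠ 0 := pow_ne_zero _ hϖ.ne_zero
  have hcoef : ∀ j, 0 < j → PowerSeries.coeff j (g₁ * f₁) = 0 := by
    intro j hj
    have := congrArg (PowerSeries.coeff j) hprod
    rw [PowerSeries.coeff_C_mul, PowerSeries.coeff_C, if_neg hj.ne'] at this
    exact (mul_eq_zero.1 this).resolve_left hpow
  have hunit : IsUnit (PowerSeries.constantCoeff (g₁ * f₁)) := by
    by_contra hnu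
    apply hq
    ext j
    simp only [ρ, PowerSeries.coeff_map, map_zero]
    rcases Nat.eq_zero_or_pos j with rfl | hj
    · rw [PowerSeries.coeff_zero_eq_constantCoeff_apply]
      exact (IsLocalRing.residue_eq_zero_iff _).2 ((IsLocalRing.mem_maximalIdeal _).2 hnu)
    · rw [hcoef j hj, map_zero]
  rw [map_mul, IsUnit.mul_iff] at hunit
  obtain ⟨u, hu⟩ := hunit.2
  -- a₀ = ϖ^s * u
  have ha0 : f.coeff 0 = ϖ ^ s * u := by
    have := congrArg (PowerSeries.coeff 0) hfs
    rw [← map_pow, PowerSeries.coeff_C_mul] at this
    simp only [F, Polynomial.coeff_coe] at this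
    rw [this, hu, PowerSeries.coeff_zero_eq_constantCoeff_apply]
  have hai : f.coeff i = ϖ ^ s * PowerSeries.coeff i f₁ := by
    have := congrArg (PowerSeries.coeff i) hfs
    rw [← map_pow, PowerSeries.coeff_C_mul] at this
    simpa [F] using this
  apply hi
  refine ⟨(↑u⁻¹ : R) * PowerSeries.coeff i f₁, ?_⟩
  rw [ha0, hai]
  have : (u : R) * (↑u⁻¹ : R) = 1 := Units.mul_inv u
  calc ϖ ^ s * PowerSeries.coeff i f₁ = ϖ ^ s * ((u : R) * (↑u⁻¹ : R)) * PowerSeries.coeff i f₁ := by rw [this, mul_one]
    _ = _ := by ring

end Groth.Agent.S17721
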