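import Groth.Statements.S17722
import Mathlib.RingTheory.Flat.FaithfullyFlat.Algebra
import Mathlib.RingTheory.LocalRing.MaximalIdeal.Basic
import Mathlib.LinearAlgebra.Finsupp.LinearCombination

set_option autoImplicit false
universe u
open CAlg

namespace Groth.Agent.S17722

/-- Let R → R' be a faithfully flat ring map between Noetherian integrally closed local domains, and p
an ideal of R. If the ideal pR' generated by the image of p is principal, then p is principal. (The
second assertion of the published lemma, descent of unique factorization, is not part of this row.) -/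
theorem result
    (R R' : Type u) [CommRing R] [CommRing R'] [IsDomain R] [IsDomain R']
    [IsNoetherianRing R] [IsNoetherianRing R'] [IsLocalRing R] [IsLocalRing R']
    [IsIntegrallyClosed R] [IsIntegrallyClosed R']
    [Algebra R R'] [Module.FaithfullyFlat R R']
    (p : Ideal R) (hp : (p.map (algebraMap R R')).IsPrincipal) :
    p.IsPrincipal := by
  classical
  obtain ⟨a', ha'⟩ := hp
  have hmap : p.map (algebraMap R R') = Ideal.span {a'} := ha'
  have hcomap := Ideal.comap_map_eq_self_of_faithfullyFlat (B := R') p
  by_cases h0 : a' = 0
  · refine ⟨0, ?_⟩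
    rw [← hcomap, hmap, h0]
    ext x
    simp only [Ideal.mem_comap, Set.singleton_zero,
      Ideal.span_zero, Ideal.mem_bot]
    constructor
    · intro hx
      have := (FaithfulSMul.algebraMap_injective R R') (hx.trans (map_zero _).symm)
      simp [this]
    · intro hx
      have : x = 0 := by simpa using hx
      simp [this]
  · have hmem : a' ∈ Submodule.span R' ((algebraMap R R') '' (p : Set R)) := by
      have : a' ∈ p.map (algebraMap R R') := by rw [hmap]; exact Ideal.mem_span_singleton_self _
      exact this
    obtain ⟨t, ht, b, hb⟩ := (Submodule.mem_span_image_iff_exists_fun _).mp hmem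
    have hc : ∀ i : t, ∃ c : R', algebraMap R R' i = c * a' := by
      intro i
      have : algebraMap R R' i ∈ Ideal.span {a'} := by
        rw [← hmap]; exact Ideal.mem_map_of_mem _ (ht i.2)
      obtain ⟨c, hc⟩ := Ideal.mem_span_singleton'.mp this
      exact ⟨c, hc.symm⟩
    choose c hc using hc
    have hsum : (∑ i, b i * c i) * a' = 1 * a' := by
      rw [one_mul, Finset.sum_mul]
      conv_rhs => rw [← hb]
      refine Finset.sum_congr rfl fun i _ => ?_
      rw [smul_eq_mul, hc i, mul_assoc]
    have hone : ∑ i, b i * c i = 1 := mul_right_cancel₀ h0 hsum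
    have hex : ∃ i, IsUnit (b i * c i) := by
      by_contra hne
      push Not at hne
      have : ∑ i, b i * c i ∈ IsLocalRing.maximalIdeal R' :=
        sum_mem fun i _ => (IsLocalRing.mem_maximalIdeal _).mpr (hne i)
      rw [hone] at this
      exact (IsLocalRing.maximalIdeal.isMaximal R').ne_top ((Ideal.eq_top_iff_one _).mpr this)
    obtain ⟨i, hi⟩ := hex
    have hci : IsUnit (c i) := isUnit_of_mul_isUnit_right hi
    refine ⟨(i : R), ?_⟩
    rw [← hcomap, hmap]
    have h1 : Ideal.span {a'} = Ideal.span {algebraMap R R' (i : R)} := by
      rw [hc i]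
      exact (Ideal.span_singleton_mul_left_unit hci a').symm
    rw [h1, ← Set.image_singleton, ← Ideal.map_span]
    exact (Ideal.comap_map_eq_self_of_faithfullyFlat (B := R') _)

end Groth.Agent.S17722
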