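import Groth.Statements.S17723
import Mathlib.RingTheory.PrincipalIdealDomain
import Mathlib.Data.Nat.Factorization.Basic
import Mathlib.RingTheory.Int.Basic
import Mathlib.Tactic.Ring
import Mathlib.Tactic.Linarith

set_option autoImplicit false
universe u
open LabGraph

namespace Groth.Agent.S17723

/-- Let G be a finite connected multigraph with endpoint map ends and edge labels l taking positive
integer values. We say g : V → ℤ is elementary-Cartier if, for some integer n ≥ 1, all values of g
are multiples of n and, for each edge whose label fails to divide n, g agrees at its two endpoints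
(equivalently, once the edges with label dividing n are removed, g takes a single value on each
connected piece of what remains). Then every Cartier function f (for each edge, the label divides
the difference of the values of f at its endpoints) lies in the ℤ-span of the elementary-Cartier
functions. -/
theorem result
    {V E : Type u} [Fintype V] [Fintype E] [DecidableEq V] [DecidableEq E]
    (ends : E → V × V) (l : E → ℕ) (hl : ∀ e, 0 < l e) (hconn : LabGraph.Connected ends)
    (f : V → ℤ) (hf : LabGraph.IsCartier ends l f) :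
    f ∈ Submodule.span ℤ {g : V → ℤ | ∃ n : ℕ, 0 < n ∧ (∀ v, (n : ℤ) ∣ g v) ∧
      ∀ e, ¬ (l e ∣ n) → g (ends e).1 = g (ends e).2} := by
  classical
  set Sp := Submodule.span ℤ {g : V → ℤ | ∃ n : ℕ, 0 < n ∧ (∀ v, (n : ℤ) ∣ g v) ∧
      ∀ e, ¬ (l e ∣ n) → g (ends e).1 = g (ends e).2} with hSp
  have elem_mem : ∀ (g : V → ℤ) (n : ℕ), 0 < n → (∀ v, (n : ℤ) ∣ g v) →
      (∀ e, ¬ (l e ∣ n) → g (ends e).1 = g (ends e).2) → g ∈ Sp :=
    fun g n hn h1 h2 => Submodule.subset_span ⟨n, hn, h1, h2⟩
  -- number theory lemma
  have NT : ∀ (p : ℕ), p.Prime → ∀ (c a j lv : ℕ), 0 < lv → lv ∣ c * p ^ a → ¬ lv ∣ c * p ^ j →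
      p ^ (j + 1) ∣ lv := by
    intro p hp c a j lv hlv h1 h2
    by_contra h3
    obtain ⟨s, m, hm, rfl⟩ := Nat.exists_eq_pow_mul_and_not_dvd hlv.ne' p hp.ne_one
    have hs : s ≤ j := by
      by_contra hs
      push Not at hs
      exact h3 ((pow_dvd_pow p hs).trans (dvd_mul_right _ _))
    have hmc : m ∣ c := by
      have h4 : m ∣ c * p ^ a := (dvd_mul_left m (p ^ s)).trans h1
      have hcop : Nat.Coprime m (p ^ a) :=
        Nat.Coprime.pow_right a ((Nat.Prime.coprime_iff_not_dvd hp).mpr hm).symm
      exact hcop.dvd_of_dvd_mul_right h4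
    apply h2
    rw [mul_comm c]
    exact mul_dvd_mul (pow_dvd_pow p hs) hmc
  -- the `p`-part
  have key : ∀ (p : ℕ), p.Prime → ∀ (c a : ℕ), 0 < c → (∀ e, l e ∣ c * p ^ a) →
      ∀ (k j : ℕ), j + k = a → ∀ h : V → ℤ,
      (∀ e t, p ^ (j + t) ∣ l e → ((p : ℤ) ^ t ∣ h (ends e).1 - h (ends e).2)) →
      (fun v => ((c : ℤ) * (p : ℤ) ^ j) * h v) ∈ Sp := by
    intro p hp c a hc hdiv k
    have hp0 : (p : ℤ) ≠ 0 := by exact_mod_cast hp.ne_zero
    induction k with
    | zero =>
      intro j hj h _
      have hja : j = a := by omega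
      subst hja
      refine elem_mem _ (c * p ^ j) (Nat.mul_pos hc (pow_pos hp.pos _)) (fun v => ?_) (fun e he => ?_)
      · push_cast
        exact dvd_mul_right _ _
      · exact absurd (hdiv e) he
    | succ k ih =>
      intro j hj h hH
      let r : V → V → Prop := fun u v => ∃ e, p ^ (j + 1) ∣ l e ∧ (ends e).1 = u ∧ (ends e).2 = v
      let s : Setoid V := Relation.EqvGen.setoid r
      let rep : V → V := fun v => (Quotient.mk s v).out
      have hrep : ∀ v, Relation.EqvGen r (rep v) v := fun v => Quotient.mk_out (s := s) v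
      have hrep_eq : ∀ u v, Relation.EqvGen r u v → rep u = rep v := by
        intro u v huv
        have : Quotient.mk s u = Quotient.mk s v := Quotient.sound huv
        simp only [rep, this]
      have fact1 : ∀ u v, Relation.EqvGen r u v → (p : ℤ) ∣ h u - h v := by
        intro u v huv
        induction huv with
        | rel x y hxy =>
          obtain ⟨e, he, rfl, rfl⟩ := hxy
          have := hH e 1 he
          simpa using this
        | refl x => simp
        | symm x y _ ih' =>
          have : h y - h x = -(h x - h y) := by ring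
          rw [this]; exact (dvd_neg).mpr ih'
        | trans x y z _ _ ih1 ih2 =>
          have : h x - h z = (h x - h y) + (h y - h z) := by ring
          rw [this]; exact dvd_add ih1 ih2
      let r0 : V → ℤ := fun v => h (rep v)
      let h' : V → ℤ := fun v => (h v - r0 v) / p
      have hh' : ∀ v, h v - r0 v = p * h' v := by
        intro v
        have hd : (p : ℤ) ∣ h v - r0 v := fact1 v (rep v) (Relation.EqvGen.symm _ _ (hrep v))
        exact (Int.mul_ediv_cancel' hd).symm
      have g0mem : (fun v => ((c : ℤ) * (p : ℤ) ^ j) * r0 v) ∈ Sp := by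
        refine elem_mem _ (c * p ^ j) (Nat.mul_pos hc (pow_pos hp.pos _)) (fun v => ?_) (fun e he => ?_)
        · push_cast
          exact dvd_mul_right _ _
        · have hpl : p ^ (j + 1) ∣ l e := NT p hp c a j (l e) (hl e) (hdiv e) he
          have : rep (ends e).1 = rep (ends e).2 :=
            hrep_eq _ _ (Relation.EqvGen.rel _ _ ⟨e, hpl, rfl, rfl⟩)
          simp only [r0, this]
      have g1mem : (fun v => ((c : ℤ) * (p : ℤ) ^ (j + 1)) * h' v) ∈ Sp := by
        refine ih (j + 1) (by omega) h' (fun e t het => ?_)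
        have hpl : p ^ (j + 1) ∣ l e := (pow_dvd_pow p (by omega)).trans het
        have hr : r0 (ends e).1 = r0 (ends e).2 := by
          have : rep (ends e).1 = rep (ends e).2 :=
            hrep_eq _ _ (Relation.EqvGen.rel _ _ ⟨e, hpl, rfl, rfl⟩)
          simp only [r0, this]
        have h1 : (p : ℤ) ^ (t + 1) ∣ h (ends e).1 - h (ends e).2 :=
          hH e (t + 1) (by rwa [show j + (t + 1) = j + 1 + t by ring])
        have h2 : h (ends e).1 - h (ends e).2 = (p : ℤ) * (h' (ends e).1 - h' (ends e).2) := by
          have e1 := hh' (ends e).1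
          have e2 := hh' (ends e).2
          rw [mul_sub, ← e1, ← e2, hr]; ring
        rw [h2, pow_succ, mul_comm ((p : ℤ) ^ t)] at h1
        exact (mul_dvd_mul_iff_left hp0).mp h1
      have hsum : (fun v => ((c : ℤ) * (p : ℤ) ^ j) * h v) =
          (fun v => ((c : ℤ) * (p : ℤ) ^ j) * r0 v) + (fun v => ((c : ℤ) * (p : ℤ) ^ (j + 1)) * h' v) := by
        funext v
        have e1 := hh' v
        have : h v = r0 v + p * h' v := by linarith
        simp only [Pi.add_apply]
        rw [this, pow_succ]; ring
      rw [hsum]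
      exact Sp.add_mem g0mem g1mem
  -- the product of the labels
  set N : ℕ := ∏ e, l e with hN
  have hNpos : 0 < N := Finset.prod_pos fun e _ => hl e
  have hlN : ∀ e, l e ∣ N := fun e => Finset.dvd_prod_of_mem l (Finset.mem_univ e)
  have hcp : ∀ q : ℕ, q.Prime → ((N / q ^ N.factorization q : ℕ) : ℤ) • f ∈ Sp := by
    intro q hq
    have hc : 0 < N / q ^ N.factorization q := Nat.ordCompl_pos q hNpos.ne'
    have hdiv : ∀ e, l e ∣ (N / q ^ N.factorization q) * q ^ N.factorization q := by
      intro e
      rw [mul_comm, Nat.ordProj_mul_ordCompl_eq_self]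
      exact hlN e
    have := key q hq _ _ hc hdiv (N.factorization q) 0 (by omega) f (fun e t het => by
      rw [zero_add] at het
      have h1 : ((q : ℤ) ^ t) ∣ (l e : ℤ) := by exact_mod_cast het
      exact h1.trans (hf e))
    convert this using 1
    funext v
    simp
  -- the ideal of multipliers
  let I : Ideal ℤ := Submodule.comap (LinearMap.toSpanSingleton ℤ (V → ℤ) f) Sp
  have hI : ∀ k : ℤ, k ∈ I ↔ k • f ∈ Sp := fun k => by
    simp only [I, Submodule.mem_comap, LinearMap.toSpanSingleton_apply]
  obtain ⟨g, hg⟩ : I.IsPrincipal := IsPrincipalIdealRing.principal I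
  have hgdvd : ∀ q : ℕ, q.Prime → g ∣ ((N / q ^ N.factorization q : ℕ) : ℤ) := by
    intro q hq
    have : ((N / q ^ N.factorization q : ℕ) : ℤ) ∈ I := (hI _).mpr (hcp q hq)
    rw [hg] at this
    exact Ideal.mem_span_singleton.mp this
  have hone : (1 : ℤ) ∈ I := by
    by_cases hg1 : g.natAbs = 1
    · rw [hg]
      have : IsUnit g := Int.isUnit_iff_natAbs_eq.mpr hg1
      exact Ideal.mem_span_singleton.mpr this.dvd
    · exfalso
      obtain ⟨q, hq, hqg⟩ := Nat.exists_prime_and_dvd hg1
      have h1 : (q : ℤ) ∣ g := Int.natCast_dvd.mpr hqg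
      have h2 : (q : ℤ) ∣ ((N / q ^ N.factorization q : ℕ) : ℤ) := h1.trans (hgdvd q hq)
      have h3 : q ∣ N / q ^ N.factorization q := by exact_mod_cast h2
      exact Nat.not_dvd_ordCompl hq hNpos.ne' h3
  have := (hI 1).mp hone
  simpa using this

end Groth.Agent.S17723
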