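import Groth.Statements.S17724
import Mathlib
import Groth.Agent.Helper7.LorQ

set_option autoImplicit false
universe u v
open LabGraph

namespace Groth.Agent.S17724

/-- Let G be a finite connected multigraph with endpoint map ends, whose edges carry labels lab in a set
L and positive integer labels n, and suppose the L-labels are constant along every circuit. Say g :
V → ℤ is pre-achievable when for some finite set B of edges all carrying the same L-label, g takes
equal values at the two endpoints of every edge outside B (so g is constant on the connected
components of the graph with B deleted); say g is Cartier when for every edge e the integer n(e)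
divides the difference of the values of g at its endpoints. Then every Cartier function f is a
finite sum of functions each of which is Cartier and pre-achievable, and when f vanishes at a vertex
v₀ the summands can all be taken to vanish at v₀. -/
theorem result
    {V E : Type u} [Fintype V] [Fintype E] [DecidableEq V] [DecidableEq E] {L : Type v}
    (ends : E → V × V) (lab : E → L) (n : E → ℕ) (hn : ∀ e, 0 < n e)
    (hconn : LabGraph.Connected ends)
    (hcirc : ∀ C : Finset E, LabGraph.IsCircuit ends C → ∀ e ∈ C, ∀ e' ∈ C, lab e = lab e')
    (f : V → ℤ) (hf : LabGraph.IsCartier ends n f) :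
    f ∈ AddSubmonoid.closure {g : V → ℤ | LabGraph.IsCartier ends n g ∧ (∃ B : Finset E, (∀ e ∈ B, ∀ e' ∈ B, lab e = lab e') ∧ ∀ e, e ∉ B → g (ends e).1 = g (ends e).2)} ∧
    ∀ v₀ : V, f v₀ = 0 →
      f ∈ AddSubmonoid.closure {g : V → ℤ | LabGraph.IsCartier ends n g ∧ (∃ B : Finset E, (∀ e ∈ B, ∀ e' ∈ B, lab e = lab e') ∧ ∀ e, e ∉ B → g (ends e).1 = g (ends e).2) ∧ g v₀ = 0} := by
    have key := Groth.Agent.Helper7.LorQ.main ends lab n hconn hcirc f hf
    constructor
    · obtain ⟨v₀⟩ := hconn.1
      have h1 : f = (f - fun _ => f v₀) + fun _ => f v₀ := by funext v; simp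
      rw [h1]
      refine AddSubmonoid.add_mem _ ?_ ?_
      · refine AddSubmonoid.closure_mono ?_ (key v₀)
        rintro g ⟨hg1, hg2, -⟩
        exact ⟨hg1, hg2⟩
      · refine AddSubmonoid.subset_closure ⟨?_, ∅, ?_, ?_⟩
        · intro e; simp
        · intro e he; simp at he
        · intro e _; rfl
    · intro v₀ hv₀
      have := key v₀
      rw [hv₀] at this
      have h1 : (f - fun _ => (0 : ℤ)) = f := by funext v; simp
      rw [h1] at this
      exact this

end Groth.Agent.S17724
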