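import Groth.Statements.S17725
import Mathlib.Topology.Connected.Clopen
import Mathlib.Topology.Sober
import Mathlib.Topology.NoetherianSpace

set_option autoImplicit false
universe u
open SpecSp

namespace Groth.Agent.S17725

open AlgebraicGeometry in
/-- In a connected Noetherian scheme any two points p, q are linked by a finite chain of points p = x₁,
…, xₙ = q such that for each i one of x_i, x_{i+1} is a specialization of the other; equivalently, p
and q are related by the equivalence relation generated by the specialization relation. -/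
theorem result
    (X : Scheme.{u}) [IsNoetherian X] [ConnectedSpace X] (p q : X) :
    Relation.EqvGen (fun x y : X => x ⤳ y) p q := by
  classical
  -- points of one irreducible component are related
  have hcomp : ∀ Z ∈ irreducibleComponents X, ∀ x ∈ Z, ∀ y ∈ Z,
      Relation.EqvGen (fun x y : X => x ⤳ y) x y := by
    intro Z hZ x hx y hy
    have hirr : IsIrreducible Z := hZ.1
    have hcl : IsClosed Z := isClosed_of_mem_irreducibleComponents Z hZ
    obtain ⟨η, hη⟩ := QuasiSober.sober hirr hcl
    have h1 : η ⤳ x := (isGenericPoint_iff_specializes.mp hη x).mpr hx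
    have h2 : η ⤳ y := (isGenericPoint_iff_specializes.mp hη y).mpr hy
    exact Relation.EqvGen.trans _ _ _ (Relation.EqvGen.symm _ _ (Relation.EqvGen.rel _ _ h1))
      (Relation.EqvGen.rel _ _ h2)
  have hfin : (irreducibleComponents X).Finite :=
    TopologicalSpace.NoetherianSpace.finite_irreducibleComponents
  set S : Set X := {x | Relation.EqvGen (fun x y : X => x ⤳ y) p x} with hS
  set T : Set (Set X) := {Z ∈ irreducibleComponents X | ∃ x ∈ Z, x ∈ S} with hT
  have hS1 : S = ⋃ Z ∈ T, Z := by
    ext x
    simp only [Set.mem_iUnion, exists_prop]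
    constructor
    · intro hx
      exact ⟨irreducibleComponent x, ⟨irreducibleComponent_mem_irreducibleComponents x,
        x, mem_irreducibleComponent, hx⟩, mem_irreducibleComponent⟩
    · rintro ⟨Z, ⟨hZ, y, hyZ, hy⟩, hxZ⟩
      exact Relation.EqvGen.trans _ _ _ hy (hcomp Z hZ y hyZ x hxZ)
  have hS2 : Sᶜ = ⋃ Z ∈ (irreducibleComponents X \ T), Z := by
    ext x
    simp only [Set.mem_iUnion, exists_prop, Set.mem_compl_iff]
    constructor
    · intro hx
      refine ⟨irreducibleComponent x, ⟨irreducibleComponent_mem_irreducibleComponents x, ?_⟩,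
        mem_irreducibleComponent⟩
      rintro ⟨hZ, y, hyZ, hy⟩
      exact hx (Relation.EqvGen.trans _ _ _ hy (hcomp _ hZ y hyZ x mem_irreducibleComponent))
    · rintro ⟨Z, ⟨hZ, hZT⟩, hxZ⟩ hx
      exact hZT ⟨hZ, x, hxZ, hx⟩
  have hc1 : IsClosed S := by
    rw [hS1]
    exact (hfin.subset (fun Z hZ => hZ.1)).isClosed_biUnion
      fun Z hZ => isClosed_of_mem_irreducibleComponents Z hZ.1
  have hc2 : IsClosed Sᶜ := by
    rw [hS2]
    exact (hfin.subset (fun Z hZ => hZ.1)).isClosed_biUnion
      fun Z hZ => isClosed_of_mem_irreducibleComponents Z hZ.1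
  have hclopen : IsClopen S := ⟨hc1, by simpa using hc2.isOpen_compl⟩
  rcases isClopen_iff.mp hclopen with h | h
  · exact absurd (h ▸ (Relation.EqvGen.refl p : p ∈ S)) (Set.notMem_empty p)
  · have : q ∈ S := h ▸ Set.mem_univ q
    exact this

end Groth.Agent.S17725
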