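import Groth.Statements.S17726
import Mathlib.RingTheory.Ideal.Operations
import Mathlib.Tactic.Ring

set_option autoImplicit false
universe u
open CAlg

namespace Groth.Agent.S17726

/-- Let f and g be non-zero-divisors of a commutative ring A, not both units; think of them as local
equations, at a point of the union of the supports, of two effective Cartier divisors E and D. If
the ideals generated by g^{m₁} and f^{n₁} coincide, and likewise for g^{m₂} and f^{n₂}, then m₁ n₂ =
m₂ n₁. So all pairs (m, n) with m D = n E locally at the point are proportional, and the saturation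
of the monoid they form is generated by a single element. -/
theorem result
    (A : Type u) [CommRing A] (f g : A)
    (hf : f ∈ nonZeroDivisors A) (hg : g ∈ nonZeroDivisors A) (hfg : ¬ (IsUnit f ∧ IsUnit g))
    (m₁ n₁ m₂ n₂ : ℕ)
    (h₁ : Ideal.span {g ^ m₁} = Ideal.span {f ^ n₁})
    (h₂ : Ideal.span {g ^ m₂} = Ideal.span {f ^ n₂}) :
    m₁ * n₂ = m₂ * n₁ := by
  -- key lemma: for a nonzerodivisor x, span {x^a} = span {x^b} with a < b forces x to be a unit
  have key : ∀ (x : A), x ∈ nonZeroDivisors A → ∀ a b : ℕ, a < b →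
      Ideal.span {x ^ a} = Ideal.span {x ^ b} → IsUnit x := by
    intro x hx a b hab h
    have h1 : x ^ a ∈ Ideal.span {x ^ b} := by rw [← h]; exact Ideal.subset_span rfl
    obtain ⟨c, hc⟩ := Ideal.mem_span_singleton'.mp h1
    obtain ⟨d, rfl⟩ : ∃ d, b = a + (d + 1) := ⟨b - a - 1, by omega⟩
    have h2 : x ^ a * (c * x ^ d * x) = x ^ a * 1 := by
      rw [mul_one]
      conv_rhs => rw [← hc]
      ring
    have h3 : c * x ^ d * x = 1 :=
      (mul_cancel_left_mem_nonZeroDivisors (pow_mem hx a)).mp h2
    exact IsUnit.of_mul_eq_one_right _ h3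
  have key' : ∀ (x : A), x ∈ nonZeroDivisors A → ¬ IsUnit x → ∀ a b : ℕ,
      Ideal.span {x ^ a} = Ideal.span {x ^ b} → a = b := by
    intro x hx hnu a b h
    rcases lt_trichotomy a b with hlt | heq | hgt
    · exact absurd (key x hx a b hlt h) hnu
    · exact heq
    · exact absurd (key x hx b a hgt h.symm) hnu
  have hpow : ∀ (k : ℕ) (m n : ℕ), Ideal.span {g ^ m} = Ideal.span {f ^ n} →
      Ideal.span {g ^ (m * k)} = Ideal.span {f ^ (n * k)} := by
    intro k m n h
    rw [pow_mul, pow_mul, ← Ideal.span_singleton_pow (g ^ m), ← Ideal.span_singleton_pow (f ^ n), h]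
  by_cases hfu : IsUnit f
  · have hgu : ¬ IsUnit g := fun h => hfg ⟨hfu, h⟩
    have hm : ∀ m n : ℕ, Ideal.span {g ^ m} = Ideal.span {f ^ n} → m = 0 := by
      intro m n h
      by_contra hm0
      have : IsUnit (g ^ m) := by
        rw [← Ideal.span_singleton_eq_top, h, Ideal.span_singleton_eq_top]
        exact hfu.pow n
      exact hgu ((isUnit_pow_iff hm0).mp this)
    rw [hm m₁ n₁ h₁, hm m₂ n₂ h₂]
    simp
  · have e1 := hpow m₂ m₁ n₁ h₁
    have e2 := hpow m₁ m₂ n₂ h₂
    rw [mul_comm m₂ m₁] at e2
    have := key' f hf hfu _ _ (e1.symm.trans e2)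
    rw [mul_comm m₁ n₂, ← this, mul_comm]

end Groth.Agent.S17726
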