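import Groth.Statements.S17731
import Mathlib

set_option autoImplicit false
universe u
open Neron

namespace Groth.Agent.S17731

open CategoryTheory AlgebraicGeometry in
/-- Let S be a scheme, U ⊆ S a schematically dense open subscheme and N → S a smooth S-scheme having
uniqueness in the Néron mapping property with respect to U: for every smooth S-scheme Y, restriction
to U is injective on S-morphisms Y → N. Then for every smooth morphism g : S' → S the base change N
×_S S' → S' has uniqueness in the Néron mapping property with respect to g⁻¹(U): for every smooth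
S'-scheme Y', restriction to g⁻¹(U) is injective on S'-morphisms Y' → N ×_S S'. (The published
statement is for models which are algebraic spaces, tested against smooth algebraic spaces; this row
states the case of a scheme model tested against smooth schemes. The companion assertion that Néron
models are preserved by smooth base change is not restated here.) -/
theorem result
    {S S' : Scheme.{u}} (g : S' ⟶ S) [Smooth g]
    (U : S.Opens) (hU : CInt.IsSchematicallyDense U) (N : Over S) [Smooth N.hom]
    (hN : ∀ Y : Over S, Smooth Y.hom →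
      Function.Injective (fun f : Y ⟶ N => (Over.pullback U.ι).map f))
    (Y' : Over S') [Smooth Y'.hom] :
    Function.Injective (fun f : Y' ⟶ (Over.pullback g).obj N => (Over.pullback (g ⁻¹ᵁ U).ι).map f) := by
  intro f₁ f₂ h
  simp only at h
  -- restrictions agree on the preimage of g⁻¹ U
  have hstar : Limits.pullback.fst Y'.hom (g ⁻¹ᵁ U).ι ≫ f₁.left =
      Limits.pullback.fst Y'.hom (g ⁻¹ᵁ U).ι ≫ f₂.left := by
    have h1 := congrArg (fun k => k.left ≫ Limits.pullback.fst _ _) h
    simp only [Over.pullback, Over.homMk_left, Limits.pullback.lift_fst] at h1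
    exact h1
  let Y : Over S := Over.mk (Y'.hom ≫ g)
  have hY : Smooth Y.hom := by
    change Smooth (Y'.hom ≫ g); infer_instance
  have hw : ∀ f : Y' ⟶ (Over.pullback g).obj N,
      (f.left ≫ Limits.pullback.fst N.hom g) ≫ N.hom = Y.hom := by
    intro f
    have := Over.w f
    change f.left ≫ Limits.pullback.snd N.hom g = Y'.hom at this
    rw [Category.assoc, Limits.pullback.condition, ← Category.assoc, this]
    rfl
  let t : (Y' ⟶ (Over.pullback g).obj N) → (Y ⟶ N) := fun f =>
    Over.homMk (f.left ≫ Limits.pullback.fst N.hom g) (hw f)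
  -- comparison map
  have hrange : Set.range (Limits.pullback.fst (Y'.hom ≫ g) U.ι ≫ Y'.hom) ⊆ Set.range (g ⁻¹ᵁ U).ι := by
    rintro _ ⟨x, rfl⟩
    rw [Scheme.Opens.range_ι]
    change g ((Limits.pullback.fst (Y'.hom ≫ g) U.ι ≫ Y'.hom) x) ∈ U
    have : g ((Limits.pullback.fst (Y'.hom ≫ g) U.ι ≫ Y'.hom) x) =
        (Limits.pullback.snd (Y'.hom ≫ g) U.ι ≫ U.ι) x := by
      rw [← Limits.pullback.condition]
      rfl
    rw [this]
    change U.ι _ ∈ U
    exact (Limits.pullback.snd (Y'.hom ≫ g) U.ι x).2
  let k := IsOpenImmersion.lift (g ⁻¹ᵁ U).ι (Limits.pullback.fst (Y'.hom ≫ g) U.ι ≫ Y'.hom) hrange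
  have hk : k ≫ (g ⁻¹ᵁ U).ι = Limits.pullback.fst (Y'.hom ≫ g) U.ι ≫ Y'.hom :=
    IsOpenImmersion.lift_fac _ _ _
  let c : Limits.pullback (Y'.hom ≫ g) U.ι ⟶ Limits.pullback Y'.hom (g ⁻¹ᵁ U).ι :=
    Limits.pullback.lift (Limits.pullback.fst _ _) k hk.symm
  have hc : c ≫ Limits.pullback.fst _ _ = Limits.pullback.fst _ _ := Limits.pullback.lift_fst _ _ _
  have hstar' : Limits.pullback.fst (Y'.hom ≫ g) U.ι ≫ f₁.left =
      Limits.pullback.fst (Y'.hom ≫ g) U.ι ≫ f₂.left := by
    rw [← hc, Category.assoc, hstar, Category.assoc]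
  have ht : t f₁ = t f₂ := by
    apply hN Y hY
    simp only
    ext
    simp only [Over.pullback, Over.homMk_left]
    apply Limits.pullback.hom_ext
    · simp only [Limits.pullback.lift_fst]
      change Limits.pullback.fst (Y'.hom ≫ g) U.ι ≫ (f₁.left ≫ Limits.pullback.fst N.hom g) =
        Limits.pullback.fst (Y'.hom ≫ g) U.ι ≫ (f₂.left ≫ Limits.pullback.fst N.hom g)
      rw [← Category.assoc, hstar', Category.assoc]
    · simp only [Limits.pullback.lift_snd]
  ext
  apply Limits.pullback.hom_ext
  · have := congrArg (fun k => k.left) ht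
    exact this
  · have h1 := Over.w f₁
    have h2 := Over.w f₂
    change f₁.left ≫ Limits.pullback.snd N.hom g = Y'.hom at h1
    change f₂.left ≫ Limits.pullback.snd N.hom g = Y'.hom at h2
    rw [h1, h2]

end Groth.Agent.S17731
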