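import Groth.Statements.S17754
import Mathlib

set_option autoImplicit false
universe u
open CAlg

namespace Groth.Agent.S17754

theorem closed_aux (R : Type u) [CommRing R] [IsNoetherianRing R] [IsLocalRing R] (K : Ideal R)
    (x : R) (hx : ∀ i : ℕ, x ∈ K ⊔ IsLocalRing.maximalIdeal R ^ i) : x ∈ K := by
  have h := Ideal.iInf_pow_smul_eq_bot_of_isLocalRing (R := R) (M := R ⧸ K)
    (IsLocalRing.maximalIdeal R) (Ideal.IsPrime.ne_top inferInstance)
  have hmem : (Ideal.Quotient.mk K x : R ⧸ K) ∈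
      (⨅ i : ℕ, IsLocalRing.maximalIdeal R ^ i • ⊤ : Submodule R (R ⧸ K)) := by
    rw [Submodule.mem_iInf]
    intro i
    obtain ⟨a, ha, b, hb, rfl⟩ := Submodule.mem_sup.mp (hx i)
    have : (Ideal.Quotient.mk K (a + b) : R ⧸ K) = b • (1 : R ⧸ K) := by
      rw [map_add, Ideal.Quotient.eq_zero_iff_mem.mpr ha, zero_add, Algebra.smul_def, mul_one]
      rfl
    rw [this]
    exact Submodule.smul_mem_smul hb Submodule.mem_top
  rw [h, Submodule.mem_bot] at hmem
  exact Ideal.Quotient.eq_zero_iff_mem.mp hmem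

theorem stab_aux (R : Type u) [CommRing R] [IsNoetherianRing R] [IsLocalRing R]
    (I : ℕ → Ideal R) (hI : Antitone I) (k : ℕ) :
    ∃ N, ∀ s, N ≤ s → I s ⊔ IsLocalRing.maximalIdeal R ^ k = I N ⊔ IsLocalRing.maximalIdeal R ^ k := by
  rcases Nat.eq_zero_or_pos k with rfl | hk
  · exact ⟨0, fun s _ => by simp⟩
  set m := IsLocalRing.maximalIdeal R with hm
  have hmin : m ∈ (m ^ k).minimalPrimes := by
    refine ⟨⟨inferInstance, Ideal.pow_le_self hk.ne'⟩, fun q hq _ => ?_⟩
    have := hq.1
    exact (Ideal.IsPrime.pow_le_iff hk.ne').mp hq.2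
  have hart : IsArtinianRing (R ⧸ m ^ k) :=
    IsLocalRing.quotient_artinian_of_mem_minimalPrimes_of_isLocalRing (m ^ k) hmin
  let f : ℕ →o (Ideal (R ⧸ m ^ k))ᵒᵈ :=
    { toFun := fun s => OrderDual.toDual ((I s).map (Ideal.Quotient.mk (m ^ k)))
      monotone' := fun a b hab => Ideal.map_mono (hI hab) }
  obtain ⟨N, hN⟩ := IsArtinian.monotone_stabilizes f
  refine ⟨N, fun s hs => ?_⟩
  have h1 : (I s).map (Ideal.Quotient.mk (m ^ k)) = (I N).map (Ideal.Quotient.mk (m ^ k)) :=
    (congrArg OrderDual.ofDual (hN s hs)).symm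
  have h2 : ∀ K : Ideal R, ((K.map (Ideal.Quotient.mk (m ^ k))).comap (Ideal.Quotient.mk (m ^ k))) =
      K ⊔ m ^ k := by
    intro K
    rw [Ideal.comap_map_of_surjective _ Ideal.Quotient.mk_surjective, ← RingHom.ker_eq_comap_bot,
      Ideal.mk_ker]
  rw [← h2, ← h2, h1]

/-- Let R be a complete Noetherian local ring with maximal ideal m, and let I_0 ⊇ I_1 ⊇ I_2 ⊇ ⋯ be a
descending sequence of ideals of R whose intersection is zero. Then for every natural number n there
is an index s with I_s contained in m^n; that is, the filtration by the I_s is at least as fine as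
the m-adic one. -/
theorem result (R : Type u) [CommRing R] [IsNoetherianRing R] [IsLocalRing R] [IsAdicComplete (IsLocalRing.maximalIdeal R) R] (I : ℕ → Ideal R) (hI : Antitone I) (hinf : ⨅ s, I s = ⊥) (n : ℕ) : ∃ s : ℕ, I s ≤ IsLocalRing.maximalIdeal R ^ n := by
  set m := IsLocalRing.maximalIdeal R with hm
  choose N hN using stab_aux R I hI
  let J : ℕ → Ideal R := fun k => I (N k) ⊔ m ^ k
  have hJle : ∀ k s, J k ≤ I s ⊔ m ^ k := by
    intro k s
    rcases le_total (N k) s with h | h
    · rw [hN k s h]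
    · exact sup_le_sup_right (hI h) _
  have hJstep : ∀ k, J k ≤ J (k + 1) ⊔ m ^ k := by
    intro k
    have h1 : J k = I (max (N k) (N (k + 1))) ⊔ m ^ k := (hN k _ (le_max_left _ _)).symm
    have h2 : J (k + 1) = I (max (N k) (N (k + 1))) ⊔ m ^ (k + 1) :=
      (hN (k + 1) _ (le_max_right _ _)).symm
    rw [h1, h2]
    exact sup_le (le_sup_left.trans le_sup_left) le_sup_right
  suffices J n ≤ m ^ n from ⟨N n, le_sup_left.trans this⟩
  intro x₀ hx₀
  have hstep : ∀ (k : ℕ) (x : R), x ∈ J k → ∃ y ∈ J (k + 1), x - y ∈ m ^ k := by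
    intro k x hx
    obtain ⟨y, hy, z, hz, rfl⟩ := Submodule.mem_sup.mp (hJstep k hx)
    exact ⟨y, hy, by simpa using hz⟩
  choose! nxt hnxt1 hnxt2 using hstep
  let seq : ℕ → R := fun i => Nat.rec x₀ (fun i x => nxt (n + i) x) i
  have hseq0 : seq 0 = x₀ := rfl
  have hseqs : ∀ i, seq (i + 1) = nxt (n + i) (seq i) := fun i => rfl
  have hseq_mem : ∀ i, seq i ∈ J (n + i) := by
    intro i
    induction i with
    | zero => exact hx₀
    | succ i ih => rw [hseqs]; exact hnxt1 _ _ ih
  have hseq_diff : ∀ i, seq i - seq (i + 1) ∈ m ^ (n + i) := by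
    intro i
    rw [hseqs]
    exact hnxt2 _ _ (hseq_mem i)
  have hseq_diff' : ∀ i j, i ≤ j → seq i - seq j ∈ m ^ (n + i) := by
    intro i j hij
    induction j, hij using Nat.le_induction with
    | base => simp
    | succ j hij ih =>
      have : seq i - seq (j + 1) = (seq i - seq j) + (seq j - seq (j + 1)) := by ring
      rw [this]
      exact Ideal.add_mem _ ih (Ideal.pow_le_pow_right (by omega) (hseq_diff j))
  obtain ⟨L, hL⟩ := IsPrecomplete.prec' (I := m) seq (by
    intro a b hab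
    rw [SModEq.sub_mem, smul_eq_mul, Ideal.mul_top]
    exact Ideal.pow_le_pow_right (by omega) (hseq_diff' a b hab))
  have hL' : ∀ j, seq j - L ∈ m ^ j := by
    intro j
    have := hL j
    rwa [SModEq.sub_mem, smul_eq_mul, Ideal.mul_top] at this
  have hL2 : ∀ i, seq i - L ∈ m ^ (n + i) := by
    intro i
    have : seq i - L = (seq i - seq (n + i)) + (seq (n + i) - L) := by ring
    rw [this]
    exact Ideal.add_mem _ (hseq_diff' i (n + i) (by omega)) (hL' (n + i))
  have hLJ : ∀ i, L ∈ J (n + i) := by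
    intro i
    have : L = seq i - (seq i - L) := by ring
    rw [this]
    exact Ideal.sub_mem _ (hseq_mem i) (le_sup_right (a := I (N (n + i))) (hL2 i))
  have hLI : ∀ s, L ∈ I s := by
    intro s
    apply closed_aux R (I s) L
    intro i
    have h1 := hJle (n + i) s (hLJ i)
    exact (sup_le_sup_left (Ideal.pow_le_pow_right (show i ≤ n + i by omega)) (I s)) h1
  have hL0 : L = 0 := by
    have : L ∈ ⨅ s, I s := by
      rw [Ideal.mem_iInf]
      exact hLI
    rwa [hinf, Ideal.mem_bot] at this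
  have := hL2 0
  rwa [hL0, sub_zero, hseq0, add_zero] at this

end Groth.Agent.S17754
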