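import Groth.Statements.S17755
import Groth.Agent.Helper6.PunctCM1
import Groth.Agent.Helper6.FBC5
import Groth.Agent.Helper6.DualSelf
import Groth.Agent.Helper6.QG5
import Groth.Agent.S0299

set_option autoImplicit false
universe u
open LocCoh

namespace Groth.Agent.S17755

open CategoryTheory in
attribute [local instance] HasDerivedCategory.standard

/-- Let R be a Noetherian local ring with maximal ideal m which is a homomorphic image of a Gorenstein
local ring, and let M be a finitely generated R-module whose support has dimension n. Then the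
following are equivalent: (1) M is generalized Cohen–Macaulay, i.e. the local cohomology module
H^i_m(M) has finite length for every i < n; (2) M is equidimensional, i.e. R ⧸ p has dimension n for
every minimal prime p of the annihilator of M, and for every prime p ≠ m containing the annihilator
of M the localization M_p is a Cohen–Macaulay module over R_p (its depth equals the dimension of its
support). -/
theorem result (R : Type u) [CommRing R] [IsNoetherianRing R] [IsLocalRing R] (R' : Type u) [CommRing R'] [LocCoh.IsGorensteinLocalRing R'] (g : R' →+* R) (hg : Function.Surjective g) (M : Type u) [AddCommGroup M] [Module R M] [Module.Finite R M] (n : ℕ) (hn : Module.supportDim R M = n) : (∀ i : ℕ, i < n → IsFiniteLength R (LocCoh.H (IsLocalRing.maximalIdeal R) i M)) ↔ ((∀ p ∈ (Module.annihilator R M).minimalPrimes, ringKrullDim (R ⧸ p) = n) ∧ ∀ (p : Ideal R) [p.IsPrime], p ≠ IsLocalRing.maximalIdeal R → Module.annihilator R M ≤ p → LocCoh.IsCohenMacaulayModule (Localization.AtPrime p) (LocalizedModule p.primeCompl M)) := by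
  obtain ⟨k, hk⟩ :=
    (inferInstance : LocCoh.IsGorensteinLocalRing R').exists_hasInjectiveDimensionLT
  have hω' : Dual.IsDualizing R' (Dual.inD R' R') :=
    Groth.Agent.Helper6.DualSelf.isDualizing_of_injdim R' k hk
  obtain ⟨ω₀, hω₀⟩ := Groth.Agent.Helper6.FBC.exists_dualizing_of_surjective g hg ⟨_, hω'⟩
  obtain ⟨n₀, hω, hnz⟩ := Groth.Agent.Helper6.QG.exists_normalizing_shift ω₀ hω₀
  obtain ⟨E, instE1, instE2, f, hf⟩ :=
    Groth.Agent.S0299.result R (IsLocalRing.ResidueField R)
  have hcat := Groth.Agent.Helper6.QG.isCatenary_of_dualizing _ hω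
  rw [← Groth.Agent.Helper6.PunctCM.punctured_iff M hcat n hn]
  constructor
  · intro H p hp
    rw [← Groth.Agent.Helper6.PunctCM.forall_lt_notMem_iff _ hω hnz M n p]
    intro i hi
    exact (Groth.Agent.Helper6.PunctCM.finiteLength_H_iff E f hf _ hω hnz M i).mp (H i hi) p hp
  · intro H i hi
    rw [Groth.Agent.Helper6.PunctCM.finiteLength_H_iff E f hf _ hω hnz M i]
    intro p hp
    exact (Groth.Agent.Helper6.PunctCM.forall_lt_notMem_iff _ hω hnz M n p).mpr (H p hp) i hi

end Groth.Agent.S17755
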