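import Groth.Statements.S17756
import Mathlib
import Groth.Agent.S5170
import Groth.Agent.Helper6.MatlisBidual

set_option autoImplicit false
universe u
open Matlis

namespace Groth.Agent.S17756

/-- Let R be a Noetherian local ring with maximal ideal m and residue field k, E an injective hull of k,
and M a finitely generated R-module with Matlis dual M^v = Hom_R(M, E). Then the minimal number of
generators of M equals the k-dimension of the socle of M^v, the submodule of elements of M^v killed
by m (stated as its length as an R-module). -/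
theorem result (R : Type u) [CommRing R] [IsNoetherianRing R] [IsLocalRing R] (E : Type u) [AddCommGroup E] [Module R E] (f : IsLocalRing.ResidueField R →ₗ[R] E) (hf : InjHull.IsInjectiveHull f) (M : Type u) [AddCommGroup M] [Module R M] [Module.Finite R M] : ((⊤ : Submodule R M).spanFinrank : ℕ∞) = Module.length R (LocCoh.torsionBy (IsLocalRing.maximalIdeal R) (M →ₗ[R] E)) := by
  classical
  let m := IsLocalRing.maximalIdeal R
  let T : Submodule R M := ⊤
  let Q := ↥T ⧸ (m • (⊤ : Submodule R ↥T))
  let π : M →ₗ[R] Q := (m • (⊤ : Submodule R ↥T)).mkQ ∘ₗ (LinearEquiv.ofTop T rfl).symm.toLinearMap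
  have hπ : Function.Surjective π :=
    (Submodule.mkQ_surjective _).comp (LinearEquiv.ofTop T rfl).symm.surjective
  have hπx : ∀ x : M, π x = Submodule.Quotient.mk (⟨x, trivial⟩ : ↥T) := fun x => rfl
  have h1 : ∀ a ∈ m, ∀ x : M, π (a • x) = 0 := by
    intro a ha x
    rw [map_smul, hπx, ← Submodule.Quotient.mk_smul, Submodule.Quotient.mk_eq_zero]
    exact Submodule.smul_mem_smul ha trivial
  have h2 : ∀ ψ : M →ₗ[R] E, (∀ a ∈ m, ∀ x : M, ψ (a • x) = 0) →
      LinearMap.ker π ≤ LinearMap.ker ψ := by
    intro ψ hψ x hx
    rw [LinearMap.mem_ker, hπx, Submodule.Quotient.mk_eq_zero] at hx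
    have hle : m • (⊤ : Submodule R ↥T) ≤ LinearMap.ker (ψ ∘ₗ T.subtype) := by
      rw [Submodule.smul_le]
      intro a ha y _
      rw [LinearMap.mem_ker, LinearMap.comp_apply, map_smul, Submodule.subtype_apply]
      exact hψ a ha y.1
    exact hle hx
  have hlen := Groth.Agent.Helper6.MatlisBidual.length_torsionBySet_eq (E := E) m π hπ h1 h2
  change _ = Module.length R (Submodule.torsionBySet R (M →ₗ[R] E) (m : Set R))
  rw [hlen]
  -- length of Q
  letI : Field (R ⧸ m) := Ideal.Quotient.field m
  have hsurj : Function.Surjective (algebraMap R (R ⧸ m)) := Ideal.Quotient.mk_surjective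
  haveI : Module.Finite (R ⧸ m) Q := Module.Finite.of_restrictScalars_finite R (R ⧸ m) Q
  have hQ : Module.length R Q = ((⊤ : Submodule R M).spanFinrank : ℕ∞) := by
    rw [Module.length_eq_of_surjective (R := R ⧸ m) (S := R) (M := Q) hsurj,
      Module.length_eq_finrank (R ⧸ m) Q,
      IsLocalRing.spanFinrank_eq_finrank_quotient T Module.Finite.fg_top]
  have hQfin : IsFiniteLength R Q := by
    rw [← Module.length_ne_top_iff, hQ]
    exact ENat.natCast_ne_top _
  rw [Groth.Agent.S5170.result R E f hf Q hQfin, hQ]

end Groth.Agent.S17756
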