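import Groth.Statements.S1777
import Groth.Agent.Helper6.FBC7

set_option autoImplicit false
universe u
open CategoryTheory
attribute [local instance] HasDerivedCategory.standard
open Dual

namespace Groth.Agent.S1777

/-- Let A → B be a flat local homomorphism of Noetherian local rings with m_A B = m_B and ω a normalized
dualizing complex for A. Assuming the derived base change functor D(A) → D(B) exists, the base
change of ω is a normalized dualizing complex for B. -/
theorem result (A B : Type u) [CommRing A] [CommRing B] [IsLocalRing A] [IsLocalRing B] [Algebra A B] [IsLocalHom (algebraMap A B)] [IsNoetherianRing A] [IsNoetherianRing B] [Module.Flat A B] (hm : (IsLocalRing.maximalIdeal A).map (algebraMap A B) = IsLocalRing.maximalIdeal B) [DRing.HasLBaseChange (algebraMap A B)] (ω : Dual.D A) (hω : Dual.IsDualizing A ω) (hn : Dual.IsNormalized A ω) : Dual.IsDualizing B ((DRing.LBaseChange (algebraMap A B)).obj ω) ∧ Dual.IsNormalized B ((DRing.LBaseChange (algebraMap A B)).obj ω) := by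
  have hmaxB : ∀ 𝔫 : Ideal B, 𝔫.IsMaximal →
      ∃ 𝔪 : Ideal A, 𝔪.map (algebraMap A B) = 𝔫 := fun 𝔫 h𝔫 =>
    ⟨IsLocalRing.maximalIdeal A, hm.trans (IsLocalRing.eq_maximalIdeal h𝔫).symm⟩
  have hd := Groth.Agent.Helper6.FBC.isDualizing_bcD_of_maximal_map B hmaxB ω hω
  obtain ⟨a, b, hab⟩ := hω.finite_injective_dimension
  obtain ⟨hGE, _⟩ := Groth.Agent.Helper6.LocExt.bounds_of_hinj ω a b hab
  haveI := hGE
  have hnB := Groth.Agent.Helper6.FBC.isNormalized_bcD_of_local B hm ω a hn
  refine ⟨Groth.Agent.Helper6.LocExt.isDualizing_of_iso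
    (Groth.Agent.Helper6.LocExt.lbcIsoBcD A B ω).symm hd, ?_⟩
  intro i hi
  haveI := hnB i hi
  exact (Iso.homCongr (Iso.refl _) ((shiftFunctor (Dual.D B) i).mapIso
    (Groth.Agent.Helper6.LocExt.lbcIsoBcD A B ω))).subsingleton

end Groth.Agent.S1777
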