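import Groth.Statements.S17773
import Groth.Agent.Helper1.TorBalance
open Groth.Agent.Helper1.TorLib

set_option autoImplicit false
universe u
open CategoryTheory CategoryTheory.Limits
open CAlg

namespace Groth.Agent.S17773

/-- Let R be a commutative ring, M and N two R-modules, and F a flat resolution of M: a chain complex F
of flat R-modules concentrated in non-negative degrees together with a quasi-isomorphism from F to M
placed in degree 0. Then for every i ≥ 0 the i-th homology module of the complex F ⊗_R N is
isomorphic to Tor_i^R(M, N), the i-th left derived functor of − ⊗_R N evaluated at M (existence of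
an isomorphism of R-modules). -/
theorem result (R : Type u) [CommRing R] (M N : Type u) [AddCommGroup M] [Module R M] [AddCommGroup N] [Module R N] (F : ChainComplex (ModuleCat.{u} R) ℕ) (hF : ∀ i : ℕ, Module.Flat R (F.X i)) (φ : F ⟶ (ChainComplex.single₀ (ModuleCat.{u} R)).obj (ModuleCat.of R M)) [QuasiIso φ] (i : ℕ) : Nonempty ((((MonoidalCategory.tensorRight (ModuleCat.of R N)).mapHomologicalComplex (ComplexShape.down ℕ)).obj F).homology i ≅ ((Tor' (ModuleCat.{u} R) i).obj (ModuleCat.of R M)).obj (ModuleCat.of R N)) := by
  have hex : ∀ n, F.ExactAt (n + 1) := fun n => by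
    have hq : QuasiIsoAt φ (n + 1) := inferInstance
    rwa [quasiIsoAt_iff_exactAt' φ (n + 1)
      (HomologicalComplex.exactAt_single_obj _ _ _ _ (by simp))] at hq
  haveI : IsIso (HomologicalComplex.homologyMap φ 0) := inferInstance
  let e0 : F.opcycles 0 ≅ ModuleCat.of R M :=
    (ChainComplex.isoHomologyι₀ F).symm ≪≫ asIso (HomologicalComplex.homologyMap φ 0) ≪≫
      HomologicalComplex.singleObjHomologySelfIso _ _ _
  let FR : FlatResolution (ModuleCat.of R M) := ⟨F, hF, hex, e0⟩
  obtain ⟨e1⟩ := FlatResolution.nonempty_balance_iso FR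
    (FlatResolution.ofProjectiveResolution (ProjectiveResolution.of (ModuleCat.of R N))) i
  obtain ⟨e2⟩ := FlatResolution.nonempty_balance_iso
    (FlatResolution.ofProjectiveResolution (ProjectiveResolution.of (ModuleCat.of R M)))
    (FlatResolution.ofProjectiveResolution (ProjectiveResolution.of (ModuleCat.of R N))) i
  exact ⟨e1 ≪≫ e2.symm ≪≫ ((ProjectiveResolution.of (ModuleCat.of R M)).isoLeftDerivedObj
    (MonoidalCategory.tensorRight (ModuleCat.of R N)) i).symm⟩

end Groth.Agent.S17773
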