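import Groth.Statements.S17780
import Groth.Agent.Helper8.FwdDiffPow
open Groth.Agent.Helper8.FwdDiffPow

set_option autoImplicit false
universe u
open DRR

namespace Groth.Agent.S17780

/-- For x, y in a commutative ring and a natural number n, (n+1)! · x · y^n equals the sum over j = 0,
…, n of (−1)^(n−j) C(n, j) (x + j y)^(n+1), minus (n · (n+1)!/2) · y^(n+1). (The published identity
is stated in ℚ[x, y] with an overall factor 1/(n+1) and the coefficients C(n, j)(−1)^(n−j)/n!; it is
given here multiplied through by (n+1)!, which makes it an identity with integer coefficients valid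
in every commutative ring; n · (n+1)!/2 is an integer.) -/
theorem result (A : Type u) [CommRing A] (x y : A) (n : ℕ) :
    ((n + 1).factorial : A) * x * y ^ n =
      (∑ j ∈ Finset.range (n + 1), (-1 : A) ^ (n - j) * (n.choose j : A) * (x + (j : A) * y) ^ (n + 1))
        - ((n * (n + 1).factorial / 2 : ℕ) : A) * y ^ (n + 1) := by
  -- the alternating power sums in `A`
  have hS : ∀ k : ℕ, k ≤ n + 1 →
      (∑ j ∈ Finset.range (n + 1), (-1 : A) ^ (n - j) * (n.choose j : A) * (j : A) ^ k) =
        (if k = n + 1 then (((n + 1).choose 2 * n.factorial : ℕ) : A)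
          else if k = n then (n.factorial : A) else 0) := by
    intro k hk
    have h := congrArg (fun z : ℤ => (z : A)) (altSum_cases n k hk)
    simp only [Int.cast_sum, Int.cast_mul, Int.cast_pow, Int.cast_neg, Int.cast_one,
      Int.cast_natCast] at h
    rw [h]
    split_ifs <;> simp
  have hexp : ∀ j : ℕ, (x + (j : A) * y) ^ (n + 1) =
      ∑ i ∈ Finset.range (n + 1 + 1), x ^ i * y ^ (n + 1 - i) * ((n + 1).choose i : A) * (j : A) ^ (n + 1 - i) := by
    intro j
    rw [add_pow]
    refine Finset.sum_congr rfl fun i _ => ?_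
    rw [mul_pow]; ring
  have hsum : (∑ j ∈ Finset.range (n + 1), (-1 : A) ^ (n - j) * (n.choose j : A) * (x + (j : A) * y) ^ (n + 1)) =
      ∑ i ∈ Finset.range (n + 1 + 1), x ^ i * y ^ (n + 1 - i) * ((n + 1).choose i : A) *
        (∑ j ∈ Finset.range (n + 1), (-1 : A) ^ (n - j) * (n.choose j : A) * (j : A) ^ (n + 1 - i)) := by
    simp_rw [hexp, Finset.mul_sum]
    rw [Finset.sum_comm]
    refine Finset.sum_congr rfl fun i _ => Finset.sum_congr rfl fun j _ => ?_
    ring
  rw [hsum, Finset.sum_range_succ', Finset.sum_range_succ']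
  have hz : ∑ i ∈ Finset.range n, x ^ (i + 1 + 1) * y ^ (n + 1 - (i + 1 + 1)) * ((n + 1).choose (i + 1 + 1) : A) *
      (∑ j ∈ Finset.range (n + 1), (-1 : A) ^ (n - j) * (n.choose j : A) * (j : A) ^ (n + 1 - (i + 1 + 1))) = 0 := by
    refine Finset.sum_eq_zero fun i hi => ?_
    have hi' := Finset.mem_range.mp hi
    rw [hS _ (by omega), if_neg (by omega), if_neg (by omega), mul_zero]
  rw [hz, zero_add, hS _ (by omega), hS _ (by omega)]
  have e1 : n + 1 - (0 + 1) = n := by omega
  have e2 : n + 1 - 0 = n + 1 := by omega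
  rw [e1, e2, if_neg (by omega), if_pos rfl, if_pos rfl]
  have hc : n * (n + 1).factorial / 2 = (n + 1).choose 2 * n.factorial := by
    have h2 := two_mul_choose_two n
    rw [Nat.factorial_succ]
    have : n * ((n + 1) * n.factorial) = 2 * ((n + 1).choose 2 * n.factorial) := by
      rw [← mul_assoc 2, h2]; ring
    rw [this, Nat.mul_div_cancel_left _ (by norm_num : 0 < 2)]
  rw [hc]
  simp only [zero_add, pow_one, pow_zero, Nat.choose_one_right, Nat.choose_zero_right, Nat.cast_one,
    one_mul, mul_one]
  have hf : ((n + 1).factorial : A) = ((n + 1 : ℕ) : A) * (n.factorial : A) := by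
    rw [Nat.factorial_succ]; push_cast; ring
  rw [hf]
  push_cast
  ring

end Groth.Agent.S17780
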