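import Groth.Statements.S1779
import Groth.Agent.Helper6.FBC7
import Groth.Agent.S0543

set_option autoImplicit false
universe u
open CategoryTheory
attribute [local instance] HasDerivedCategory.standard
open Dual

namespace Groth.Agent.S1779

/-- Let A be a Noetherian ring, I an ideal and ω a dualizing complex for A. Assuming the derived base
change functor to the I-adic completion exists, the base change of ω is a dualizing complex for the
I-adic completion of A. -/
theorem result (A : Type u) [CommRing A] [IsNoetherianRing A] (I : Ideal A) [DRing.HasLBaseChange (algebraMap A (AdicCompletion I A))] (ω : Dual.D A) (hω : Dual.IsDualizing A ω) : Dual.IsDualizing (AdicCompletion I A) ((DRing.LBaseChange (algebraMap A (AdicCompletion I A))).obj ω) := by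
  have fg : I.FG := IsNoetherian.noetherian I
  haveI : IsNoetherianRing (AdicCompletion I A) := Groth.Agent.S0543.result A I
  haveI := AdicCompletion.isAdicComplete_self I fg
  have hJ : I.map (algebraMap A (AdicCompletion I A)) ≤
      (⊥ : Ideal (AdicCompletion I A)).jacobson := IsAdicComplete.le_jacobson_bot _
  have hs : ∀ y : AdicCompletion I A, ∃ x : A,
      algebraMap A (AdicCompletion I A) x - y ∈ I.map (algebraMap A (AdicCompletion I A)) := by
    intro y
    obtain ⟨x, hx⟩ := Ideal.Quotient.mk_surjective (AdicCompletion.evalOneₐ I y)
    refine ⟨x, ?_⟩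
    rw [← AdicCompletion.ker_evalOneₐ_eq_map I fg, RingHom.mem_ker, map_sub]
    have h1 : (AdicCompletion.evalOneₐ I).toRingHom (algebraMap A (AdicCompletion I A) x) =
        Ideal.Quotient.mk I x :=
      RingHom.congr_fun (AdicCompletion.evalOneₐ_comp_algebraMap_eq_mk I) x
    rw [h1, hx]
    exact sub_self _
  have hmaxB := Groth.Agent.Helper6.FBC.exists_map_eq_of_jacobson (AdicCompletion I A) I hs hJ
  exact Groth.Agent.Helper6.LocExt.isDualizing_of_iso
    (Groth.Agent.Helper6.LocExt.lbcIsoBcD A (AdicCompletion I A) ω).symm
    (Groth.Agent.Helper6.FBC.isDualizing_bcD_of_maximal_map (AdicCompletion I A) hmaxB ω hω)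

end Groth.Agent.S1779
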