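import Groth.Statements.S17794
import Mathlib
import Groth.Agent.Helper9.KerSq
-- import your own Groth.Agent.* helpers here

set_option autoImplicit false
universe u
open CategoryTheory CategoryTheory.Limits MonoidalCategory CartesianMonoidalCategory MonObj GrpObj AlgebraicGeometry
open GrpSch

namespace Groth.Agent.S17794

/-- Let S be a scheme and f : G → H a homomorphism of S-group schemes, both of finite presentation over
S (locally of finite presentation, quasi-compact and quasi-separated), and let i : N → G be the
kernel of f (the square formed by i, f, the unit section of H and N → S is cartesian). Then f is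
faithfully flat (flat and surjective) if and only if the map of representable sheaves h_G → h_H
induced by f on the big fppf site of S is an epimorphism of sheaves of sets and N is flat over S. -/
theorem result {S : Scheme.{u}} {G H N : Over S} [GrpObj G] [GrpObj H] (f : G ⟶ H) [IsMonHom f] [LocallyOfFinitePresentation G.hom] [QuasiCompact G.hom] [QuasiSeparated G.hom] [LocallyOfFinitePresentation H.hom] [QuasiCompact H.hom] [QuasiSeparated H.hom] (i : N ⟶ G) (hi : AlgGrp.IsKernel i f) : (Flat f.left ∧ Surjective f.left) ↔ (Epi (QuotSh.repMap Scheme.fppfPrecoverage f) ∧ Flat N.hom) := by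
  constructor
  · rintro ⟨hfl, hsurj⟩
    haveI := hfl
    haveI := hsurj
    haveI : LocallyOfFinitePresentation f.left := by
      apply Groth.Agent.Helper2.LfpComp.locallyOfFinitePresentation_of_comp f.left H.hom
      · rw [Over.w f]
        infer_instance
      · infer_instance
    exact ⟨Groth.Agent.Helper9.KerSq.epi_of_fppf f,
      Groth.Agent.Helper9.KerSq.flat_ker_of_flat f i hi hfl⟩
  · rintro ⟨hepi, hN⟩
    have hloc := Groth.Agent.Helper9.KerSq.loc_of_epi f hepi
    exact ⟨Groth.Agent.Helper9.KerSq.flat_of_flat_ker f i hi hloc hN,
      Groth.Agent.Helper9.QuotFlat.surjective_of_loc f hloc⟩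

end Groth.Agent.S17794
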