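import Groth.Statements.S17825
import Mathlib

set_option autoImplicit false
universe u
open CategoryTheory CategoryTheory.Limits AlgebraicGeometry
open JacVar

namespace Groth.Agent.S17825

/-- Let S be a scheme, Y an S-scheme separated over S, F a presheaf of sets on the category of
S-schemes, f : h_Y ⟶ F a morphism from the functor of points of Y, and s : F ⟶ h_Y a section of f (s
followed by f is the identity). Then F is represented by a closed subscheme of Y: there are an
S-scheme Z, a morphism i : Z ⟶ Y over S which is a closed immersion, and an isomorphism F ≅ h_Z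
whose composite with h_i : h_Z ⟶ h_Y is s. (The published lemma treats the case where Y is the r-th
symmetric power of a curve, F the functor of degree-r invertible families modulo twisting and f the
divisor-class map.) -/
theorem result {S : Scheme.{u}} (Y : Over S) [IsSeparated Y.hom]
    (F : (Over S)ᵒᵖ ⥤ Type u) (f : yoneda.obj Y ⟶ F) (s : F ⟶ yoneda.obj Y) (hsf : s ≫ f = 𝟙 F) :
    ∃ (Z : Over S) (i : Z ⟶ Y), IsClosedImmersion i.left ∧
      ∃ e : F ≅ yoneda.obj Z, e.hom ≫ yoneda.map i = s := by
  -- the idempotent of Y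
  obtain ⟨ε, hε⟩ : ∃ ε : Y ⟶ Y, yoneda.map ε = f ≫ s := ⟨_, Functor.map_preimage yoneda (f ≫ s)⟩
  refine ⟨equalizer ε (𝟙 Y), equalizer.ι ε (𝟙 Y), inferInstance, ?_⟩
  -- the limit fork in presheaves
  have hlim := isLimitForkMapOfIsLimit yoneda (equalizer.condition ε (𝟙 Y))
    (equalizerIsEqualizer ε (𝟙 Y))
  have hs : s ≫ yoneda.map ε = s ≫ yoneda.map (𝟙 Y) := by
    rw [hε, ← Category.assoc, hsf, Category.id_comp, yoneda.map_id, Category.comp_id]
  obtain ⟨l, hl⟩ := Fork.IsLimit.lift' hlim s hs
  have hl' : l ≫ yoneda.map (equalizer.ι ε (𝟙 Y)) = s := hl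
  have : Mono (yoneda.map (equalizer.ι ε (𝟙 Y))) := inferInstance
  refine ⟨⟨l, yoneda.map (equalizer.ι ε (𝟙 Y)) ≫ f, ?_, ?_⟩, hl'⟩
  · rw [← Category.assoc, hl', hsf]
  · rw [← cancel_mono (yoneda.map (equalizer.ι ε (𝟙 Y))), Category.assoc, Category.assoc, hl',
      ← hε, ← yoneda.map_comp, equalizer.condition, Category.comp_id, Category.id_comp]

end Groth.Agent.S17825
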