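import Groth.Statements.S1783
import Groth.Agent.Helper6.Coext4
import Groth.Agent.Helper6.LocExt5
import Groth.Agent.Helper3.DRingBC3

set_option autoImplicit false
universe u
open CategoryTheory
attribute [local instance] HasDerivedCategory.standard
open Dual2

namespace Groth.Agent.S1783

/-- Let R → A be a ring map of finite type between Noetherian rings, where φ^!(K) is formed from a
presentation ψ : R[x_1, …, x_n] → A as RHom_P(A, K ⊗^L_R P)[n], assuming the derived base change to
P exists and taking for RHom_P(A, −) a right adjoint of restriction of scalars along ψ. If K in D(R)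
has vanishing cohomology below some degree, then so does φ^!(K); if moreover all cohomology modules
of K are finite R-modules, then all cohomology modules of φ^!(K) are finite A-modules. -/
theorem result (R A : Type u) [CommRing R] [CommRing A] [IsNoetherianRing R] [IsNoetherianRing A] [Algebra R A] (n : ℕ) (ψ : MvPolynomial (Fin n) R →ₐ[R] A) (hψ : Function.Surjective ψ) [DRing.HasLBaseChange (algebraMap R (MvPolynomial (Fin n) R))] (Rψ : Dual.D (MvPolynomial (Fin n) R) ⥤ Dual.D A) (adj : DRing.restrictD ψ.toRingHom ⊣ Rψ) (K : Dual.D R) (a : ℤ) (hKa : ∀ i : ℤ, i < a → Subsingleton (Dual.HD R K i)) : (∃ b : ℤ, ∀ i : ℤ, i < b → Subsingleton (Dual.HD A (Dual2.shriekVia n Rψ K) i)) ∧ ((∀ i : ℤ, Module.Finite R (Dual.HD R K i)) → ∀ i : ℤ, Module.Finite A (Dual.HD A (Dual2.shriekVia n Rψ K) i)) := by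
  classical
  letI : Algebra (MvPolynomial (Fin n) R) A := ψ.toRingHom.toAlgebra
  haveI : Module.Finite (MvPolynomial (Fin n) R) A :=
    Module.Finite.of_surjective (Algebra.linearMap (MvPolynomial (Fin n) R) A) hψ
  have hco := Groth.Agent.Helper6.Coext.isCoext_of_adj
    (algebraMap (MvPolynomial (Fin n) R) A) Rψ adj
    ((DRing.LBaseChange (algebraMap R (MvPolynomial (Fin n) R))).obj K)
  have hL : ∀ i : ℤ, Nonempty (Dual.HD (MvPolynomial (Fin n) R)
      ((DRing.LBaseChange (algebraMap R (MvPolynomial (Fin n) R))).obj K) i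
        ≃ₗ[MvPolynomial (Fin n) R]
      TensorProduct R (MvPolynomial (Fin n) R) (Dual.HD R K i)) := fun i => by
    obtain ⟨e⟩ := Groth.Agent.Helper3.DRingLib.nonempty_HD_bcD_equiv (MvPolynomial (Fin n) R) K i
    exact ⟨((DerivedCategory.homologyFunctor (ModuleCat.{u} (MvPolynomial (Fin n) R)) i).mapIso
      (Groth.Agent.Helper6.LocExt.lbcIsoBcD R (MvPolynomial (Fin n) R) K)).toLinearEquiv ≪≫ₗ e⟩
  have hLa : ∀ i : ℤ, i < a → Subsingleton (Dual.HD (MvPolynomial (Fin n) R)
      ((DRing.LBaseChange (algebraMap R (MvPolynomial (Fin n) R))).obj K) i) := fun i hi => by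
    obtain ⟨e⟩ := hL i
    haveI := hKa i hi
    exact e.toEquiv.subsingleton
  constructor
  · refine ⟨a - n, fun i hi => ?_⟩
    haveI := Groth.Agent.Helper6.Coext.subsingleton_HD_of_isCoext _ a hLa _ _ hco (n + i)
      (by omega)
    exact (Groth.Agent.Helper6.Coext.hdShift _ (n : ℤ) i (n + i) rfl).toEquiv.subsingleton
  · intro hK i
    have hLfin : ∀ j : ℤ, Module.Finite (MvPolynomial (Fin n) R)
        (Dual.HD (MvPolynomial (Fin n) R)
          ((DRing.LBaseChange (algebraMap R (MvPolynomial (Fin n) R))).obj K) j) := fun j => by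
      obtain ⟨e⟩ := hL j
      haveI := hK j
      exact Module.Finite.equiv e.symm
    haveI := Groth.Agent.Helper6.Coext.finite_HD_of_isCoext _ a hLa hLfin _ _ hco (n + i)
    exact Module.Finite.equiv (Groth.Agent.Helper6.Coext.hdShift _ (n : ℤ) i (n + i) rfl).symm

end Groth.Agent.S1783
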