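import Groth.Statements.S17857
import Mathlib

set_option autoImplicit false
universe u
open Algz

namespace Groth.Agent.S17857

/-- Let `A i` be a family of commutative rings and `P i` a projective `A i`-module for each `i`, and
assume every `P i` is a quotient of the free module of rank `N` for a single `N` independent of `i`
(equivalently, a direct summand of it). Then the product `Π i, P i` is a projective module over the
product ring `Π i, A i`, and it is a quotient of the free module of rank `N` over that ring. -/
theorem result {ι : Type u} (A : ι → Type u) [∀ i, CommRing (A i)]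
    (P : ι → Type u) [∀ i, AddCommGroup (P i)] [∀ i, Module (A i) (P i)]
    [∀ i, Module.Projective (A i) (P i)] (N : ℕ)
    (h : ∀ i, ∃ f : (Fin N → A i) →ₗ[A i] P i, Function.Surjective f) :
    Module.Projective (∀ i, A i) (∀ i, P i) ∧
      ∃ f : (Fin N → ∀ i, A i) →ₗ[∀ i, A i] (∀ i, P i), Function.Surjective f := by
  choose f hf using h
  have hsec : ∀ i, ∃ g : P i →ₗ[A i] (Fin N → A i), f i ∘ₗ g = LinearMap.id := fun i =>
    Module.projective_lifting_property (f i) LinearMap.id (hf i)
  choose g hg using hsec
  have hg' : ∀ i (p : P i), f i (g i p) = p := fun i p => by
    have := congrArg (fun φ => φ p) (hg i)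
    simpa using this
  let F : (Fin N → ∀ i, A i) →ₗ[∀ i, A i] (∀ i, P i) :=
    { toFun := fun v i => f i (fun j => v j i)
      map_add' := by
        intro v w
        ext i
        change f i (fun j => (v + w) j i) = f i (fun j => v j i) + f i (fun j => w j i)
        rw [← map_add]
        rfl
      map_smul' := by
        intro a v
        ext i
        change f i (fun j => (a • v) j i) = a i • f i (fun j => v j i)
        rw [← map_smul]
        rfl }
  let G : (∀ i, P i) →ₗ[∀ i, A i] (Fin N → ∀ i, A i) :=
    { toFun := fun p j i => g i (p i) j
      map_add' := by
        intro p q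
        ext j i
        change g i ((p + q) i) j = g i (p i) j + g i (q i) j
        rw [Pi.add_apply, map_add]
        rfl
      map_smul' := by
        intro a p
        ext j i
        change g i ((a • p) i) j = a i * g i (p i) j
        rw [Pi.smul_apply', map_smul]
        rfl }
  have hFG : F ∘ₗ G = LinearMap.id := by
    ext p i
    change f i (fun j => g i (p i) j) = p i
    exact hg' i (p i)
  refine ⟨Module.Projective.of_split G F hFG, F, fun p => ⟨G p, ?_⟩⟩
  exact congrArg (fun φ => φ p) hFG

end Groth.Agent.S17857
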