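import Groth.Statements.S17859
import Mathlib

set_option autoImplicit false
open CategoryTheory MonoidalCategory
universe u
open Algz

namespace Groth.Agent.S17859

section Aux
open TensorProduct
variable {R : Type u} [CommRing R] {M : Type u} [AddCommGroup M] [Module R M]
  {n : ℕ} (x : Fin n → M) (φ : Fin n → Module.Dual R M)

/-- coevaluation attached to a finite dual basis -/
noncomputable def coev : R →ₗ[R] M ⊗[R] Module.Dual R M :=
  LinearMap.toSpanSingleton R _ (∑ i, x i ⊗ₜ[R] φ i)

theorem t1 (h : ∀ m, ∑ i, φ i m • x i = m) :
    (contractLeft R M).rTensor _ ∘ₗ (TensorProduct.assoc R _ _ _).symm.toLinearMap ∘ₗ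
        (coev x φ).lTensor (Module.Dual R M) =
      (TensorProduct.lid R _).symm.toLinearMap ∘ₗ (TensorProduct.rid R _).toLinearMap := by
  apply TensorProduct.ext'
  intro f r
  simp only [LinearMap.coe_comp, Function.comp_apply, LinearEquiv.coe_toLinearMap,
    LinearMap.lTensor_tmul, coev, LinearMap.toSpanSingleton_apply, rid_tmul, lid_symm_apply]
  rw [Finset.smul_sum, TensorProduct.tmul_sum, map_sum, map_sum]
  have hf : ∑ i, f (x i) • φ i = f := by
    ext m
    simp only [LinearMap.coe_sum, Finset.sum_apply, LinearMap.smul_apply, smul_eq_mul]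
    conv_rhs => rw [← h m]
    rw [map_sum]
    refine Finset.sum_congr rfl fun i _ => ?_
    rw [map_smul, smul_eq_mul, mul_comm]
  calc ∑ i, (LinearMap.rTensor (Module.Dual R M) (contractLeft R M))
        ((TensorProduct.assoc R (Module.Dual R M) M (Module.Dual R M)).symm
          (f ⊗ₜ[R] (r • x i ⊗ₜ[R] φ i)))
      = ∑ i, (1 : R) ⊗ₜ[R] (r • (f (x i) • φ i)) := by
        refine Finset.sum_congr rfl fun i _ => ?_
        rw [TensorProduct.smul_tmul', assoc_symm_tmul, LinearMap.rTensor_tmul, contractLeft_apply,
          map_smul, smul_eq_mul]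
        rw [smul_smul, ← TensorProduct.smul_tmul, smul_eq_mul, mul_one]
    _ = (1 : R) ⊗ₜ[R] (r • f) := by
        rw [← TensorProduct.tmul_sum, ← Finset.smul_sum, hf]

theorem t2 (h : ∀ m, ∑ i, φ i m • x i = m) :
    (contractLeft R M).lTensor _ ∘ₗ (TensorProduct.assoc R _ _ _).toLinearMap ∘ₗ
        (coev x φ).rTensor M =
      (TensorProduct.rid R _).symm.toLinearMap ∘ₗ (TensorProduct.lid R _).toLinearMap := by
  apply TensorProduct.ext'
  intro r m
  simp only [LinearMap.coe_comp, Function.comp_apply, LinearEquiv.coe_toLinearMap,
    LinearMap.rTensor_tmul, coev, LinearMap.toSpanSingleton_apply, lid_tmul, rid_symm_apply]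
  rw [Finset.smul_sum, TensorProduct.sum_tmul, map_sum, map_sum]
  calc ∑ i, (LinearMap.lTensor M (contractLeft R M))
        ((TensorProduct.assoc R M (Module.Dual R M) M) ((r • x i ⊗ₜ[R] φ i) ⊗ₜ[R] m))
      = ∑ i, (r • (φ i m • x i)) ⊗ₜ[R] (1 : R) := by
        refine Finset.sum_congr rfl fun i _ => ?_
        rw [TensorProduct.smul_tmul', assoc_tmul, LinearMap.lTensor_tmul, contractLeft_apply]
        rw [smul_smul, TensorProduct.smul_tmul, TensorProduct.smul_tmul, smul_eq_mul, smul_eq_mul,
          mul_one]
    _ = (r • m) ⊗ₜ[R] (1 : R) := by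
        rw [← TensorProduct.sum_tmul, ← Finset.smul_sum, h]

end Aux

/-- Over an affine scheme, that is for modules over a commutative ring `R`, a finitely generated
projective `R`-module `M`, viewed as an object of the monoidal category of `R`-modules (tensor
product over `R`), has a right dual. (The published statement is the equivalence, for quasi-coherent
sheaves on a quasi-compact quasi-separated scheme, between being dualizable and being a vector
bundle; stated here is the affine case of the implication from vector bundle to dualizable. The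
converse implication, that a module admitting a dual is finitely generated projective, is stated
separately and is not repeated here.) -/
theorem result (R : Type u) [CommRing R] (M : ModuleCat.{u} R)
    [Module.Finite R M] [Module.Projective R M] : Nonempty (HasRightDual M) := by
  obtain ⟨n, f, g, -, -, hfg⟩ := Module.Finite.exists_comp_eq_id_of_projective R M
  let x : Fin n → M := fun i => f (Pi.single i 1)
  let φ : Fin n → Module.Dual R M := fun i => LinearMap.proj i ∘ₗ g
  have h : ∀ m, ∑ i, φ i m • x i = m := by
    intro m
    have h1 : g m = ∑ i, (g m i) • (Pi.single i (1 : R) : Fin n → R) := by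
      ext j
      simp [Finset.sum_apply, Pi.single_apply]
    have h2 : f (g m) = m := by
      have := congrArg (fun ψ => ψ m) hfg
      simpa using this
    conv_rhs => rw [← h2, h1, map_sum]
    refine Finset.sum_congr rfl fun i _ => ?_
    rw [map_smul]
    rfl
  let D : ModuleCat.{u} R := ModuleCat.of R (Module.Dual R M)
  refine ⟨@HasRightDual.mk _ _ _ M D ?_⟩
  exact
    { coevaluation' := ModuleCat.ofHom (coev x φ)
      evaluation' := ModuleCat.ofHom (contractLeft R M)
      coevaluation_evaluation' := by
        ext : 1
        exact t1 x φ h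
      evaluation_coevaluation' := by
        ext : 1
        exact t2 x φ h }


end Groth.Agent.S17859
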