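import Groth.Statements.S17860
import Groth.Agent.Helper8.TildeBC
import Groth.Agent.Helper8.NisUnif

set_option autoImplicit false
open CategoryTheory AlgebraicGeometry
universe u
open Algz

namespace Groth.Agent.S17860

/-- Let `R` be a commutative ring and `M` a finite `R`-module. Suppose `Spec R` is covered by opens `U
0, …, U (m-1)` (not necessarily affine) such that over each `U i` the restriction of the associated
sheaf of modules `M~` is a quotient of the free module of rank `n` (it is generated by `n` sections
over `U i`). Then `M` is generated by `n * m` elements. -/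
theorem result (R : CommRingCat.{u}) (M : ModuleCat.{u} R)
    [Module.Finite R M] (n m : ℕ) (U : Fin m → (Spec R).Opens) (hU : ⨆ i, U i = ⊤)
    (hgen : ∀ i, ∃ φ : FlatMod.freeMod (↑(U i)) n ⟶ (AlgebraicGeometry.tilde M).restrict (U i).ι, Epi φ) :
    ∃ s : Fin (n * m) → M, Submodule.span R (Set.range s) = ⊤ := by
  open Groth.Agent.Helper8.TildeBC in
  -- partition of unity
  obtain ⟨e, he1, he2⟩ := Groth.Agent.Helper8.NisUnif.exists_basicOpen_refinement (B := R)
    (I := Fin m) U (by
      intro p
      have hp : p ∈ (⨆ i, U i : (Spec R).Opens) := by rw [hU]; trivial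
      exact TopologicalSpace.Opens.mem_iSup.mp hp)
  have key : ∀ i, ∃ x : Fin n → M, ∀ y : M, ∃ K : ℕ,
      e i ^ K • y ∈ Submodule.span R (Set.range x) := by
    intro i
    let A : CommRingCat.{u} := CommRingCat.of (Localization.Away (e i))
    let α : R ⟶ A := CommRingCat.ofHom (algebraMap R (Localization.Away (e i)))
    have hj : Set.range (Spec.map α) ⊆ Set.range (U i).ι := by
      rw [Scheme.Opens.range_ι]
      have h := Scheme.Hom.opensRange_localizationAway (e i)
      have h' : Set.range (Spec.map α) =
          ((PrimeSpectrum.basicOpen (e i) : TopologicalSpace.Opens (PrimeSpectrum R)) :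
            Set (PrimeSpectrum R)) := by
        rw [← h]; rfl
      rw [h']
      exact he1 i
    let j' := IsOpenImmersion.lift (U i).ι (Spec.map α) hj
    have hfac : j' ≫ (U i).ι = Spec.map α := IsOpenImmersion.lift_fac _ _ _
    have g0 : Gen ((tilde M).restrict (U i).ι) n := hgen i
    have g1 := (g0.of_restrict (U i).ι).pullback j'
    have g2 := (g1.pullback_comp j' (U i).ι).pullback_congr hfac
    obtain ⟨s, hs⟩ := g2.pullback_tilde_span α
    refine exists_gens_of_extendScalars α.hom (e i) ?_ M n s hs
    have hinst : (algebraMap R (Localization.Away (e i))).toAlgebra =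
        (inferInstance : Algebra R (Localization.Away (e i))) :=
      Algebra.algebra_ext _ _ (fun r => rfl)
    change @IsLocalization.Away R _ (e i) (Localization.Away (e i)) _
      (algebraMap R (Localization.Away (e i))).toAlgebra
    rw [hinst]
    infer_instance
  choose x hx using key
  refine ⟨fun k => x (finProdFinEquiv.symm k).2 (finProdFinEquiv.symm k).1, ?_⟩
  rw [eq_top_iff]
  intro y _
  have hspan : Ideal.span (Set.range e) = ⊤ := by
    rw [← PrimeSpectrum.iSup_basicOpen_eq_top_iff, eq_top_iff]
    intro p _
    exact TopologicalSpace.Opens.mem_iSup.mpr (he2 p)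
  refine Submodule.mem_of_span_eq_top_of_smul_pow_mem _ (Set.range e) hspan y ?_
  rintro ⟨_, i, rfl⟩
  obtain ⟨K, hK⟩ := hx i y
  refine ⟨K, Submodule.span_mono ?_ hK⟩
  rintro _ ⟨l, rfl⟩
  exact ⟨finProdFinEquiv (l, i), by simp⟩

end Groth.Agent.S17860
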