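import Groth.Statements.S17863
import Mathlib

set_option autoImplicit false
open CategoryTheory AlgebraicGeometry
universe u
open Algz

namespace Groth.Agent.S17863

/-- Let `A` be a commutative ring which is `I`-adically complete for an ideal `I` and let `X` be a
quasi-affine scheme. Then the natural map from `X(A)` to compatible systems in the `X(A/I^n)` is
bijective: two morphisms `Spec A ⟶ X` with the same restriction to every `Spec (A/I^n)` are equal,
and every family of morphisms `Spec (A/I^n) ⟶ X` compatible with the transition maps `Spec (A/I^n) ⟶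
Spec (A/I^(n+1))` is the family of restrictions of a morphism `Spec A ⟶ X`. -/
theorem result (A : Type u) [CommRing A] (I : Ideal A) [IsAdicComplete I A]
    (X : Scheme.{u}) [X.IsQuasiAffine] :
    (∀ f g : Spec (CommRingCat.of A) ⟶ X,
      (∀ n : ℕ, Spec.map (CommRingCat.ofHom (Ideal.Quotient.mk (I ^ n))) ≫ f =
        Spec.map (CommRingCat.ofHom (Ideal.Quotient.mk (I ^ n))) ≫ g) → f = g) ∧
    (∀ e : ∀ n : ℕ, Spec (CommRingCat.of (A ⧸ I ^ n)) ⟶ X,
      (∀ n : ℕ, Spec.map (CommRingCat.ofHom (Ideal.Quotient.factorPowSucc I n)) ≫ e (n + 1) = e n) →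
      ∃ f : Spec (CommRingCat.of A) ⟶ X,
        ∀ n : ℕ, Spec.map (CommRingCat.ofHom (Ideal.Quotient.mk (I ^ n))) ≫ f = e n) := by
  have hmono : Mono X.toSpecΓ := inferInstance
  -- ring-level uniqueness
  have huniq : ∀ φ ψ : Γ(X, ⊤) ⟶ CommRingCat.of A,
      (∀ n : ℕ, φ ≫ CommRingCat.ofHom (Ideal.Quotient.mk (I ^ n)) =
        ψ ≫ CommRingCat.ofHom (Ideal.Quotient.mk (I ^ n))) → φ = ψ := by
    intro φ ψ h
    ext x
    rw [← sub_eq_zero]
    apply IsHausdorff.haus (inferInstance : IsHausdorff I A)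
    intro n
    rw [SModEq.zero, smul_eq_mul, Ideal.mul_top, ← Ideal.Quotient.eq_zero_iff_mem, map_sub,
      sub_eq_zero]
    exact congrArg (fun θ => θ.hom x) (h n)
  constructor
  · intro f g h
    rw [← cancel_mono X.toSpecΓ]
    obtain ⟨φ, hφ⟩ : ∃ φ, f ≫ X.toSpecΓ = Spec.map φ := ⟨Spec.preimage _, (Spec.map_preimage _).symm⟩
    obtain ⟨ψ, hψ⟩ : ∃ ψ, g ≫ X.toSpecΓ = Spec.map ψ := ⟨Spec.preimage _, (Spec.map_preimage _).symm⟩
    rw [hφ, hψ]
    congr 1
    apply huniq
    intro n
    apply Spec.map_injective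
    rw [Spec.map_comp, Spec.map_comp, ← hφ, ← hψ, ← Category.assoc, ← Category.assoc, h n]
  · intro e he
    -- the ring maps
    let φ : ∀ n : ℕ, Γ(X, ⊤) ⟶ CommRingCat.of (A ⧸ I ^ n) := fun n => Spec.preimage (e n ≫ X.toSpecΓ)
    have hφ : ∀ n, Spec.map (φ n) = e n ≫ X.toSpecΓ := fun n => Spec.map_preimage _
    have hsucc : ∀ n, φ (n + 1) ≫ CommRingCat.ofHom (Ideal.Quotient.factorPowSucc I n) = φ n := by
      intro n
      apply Spec.map_injective
      rw [Spec.map_comp, hφ, hφ, ← Category.assoc, he n]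
    have hanti : Antitone (fun n : ℕ => I ^ n) := fun a b hab => Ideal.pow_le_pow_right hab
    have hcompat : ∀ {m n : ℕ} (hle : m ≤ n),
        (Ideal.Quotient.factorPow I hle).comp (φ n).hom = (φ m).hom := by
      intro m n hle
      ext x
      have := Ideal.Quotient.eq_factor_of_eq_factor_succ (I := fun n : ℕ => I ^ n) hanti
        (fun n => (φ n).hom x) (by
          intro k
          exact (congrArg (fun θ => θ.hom x) (hsucc k)).symm) hle
      exact this.symm
    let Φ : Γ(X, ⊤) →+* A := IsAdicComplete.liftRingHom I (fun n => (φ n).hom) hcompat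
    have hΦ : ∀ n, CommRingCat.ofHom Φ ≫ CommRingCat.ofHom (Ideal.Quotient.mk (I ^ n)) = φ n := by
      intro n
      ext x
      exact IsAdicComplete.mk_liftRingHom I (fun n => (φ n).hom) hcompat n x
    let F : Spec (CommRingCat.of A) ⟶ Spec Γ(X, ⊤) := Spec.map (CommRingCat.ofHom Φ)
    have hF : ∀ n, Spec.map (CommRingCat.ofHom (Ideal.Quotient.mk (I ^ n))) ≫ F = e n ≫ X.toSpecΓ := by
      intro n
      rw [← hφ, ← hΦ n, Spec.map_comp]
    -- F factors through the open immersion
    have hrange : Set.range F ⊆ Set.range X.toSpecΓ := by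
      by_contra hcon
      rw [Set.not_subset] at hcon
      obtain ⟨_, ⟨p, rfl⟩, hp⟩ := hcon
      -- the closed set of bad points
      let C : Set (PrimeSpectrum A) := F ⁻¹' (Set.range X.toSpecΓ)ᶜ
      have hC : IsClosed C :=
        (X.toSpecΓ.isOpenEmbedding.isOpen_range.isClosed_compl).preimage F.continuous
      obtain ⟨K, hK⟩ := (PrimeSpectrum.isClosed_iff_zeroLocus_ideal C).mp hC
      have hpC : p ∈ C := hp
      have hKne : K ≠ ⊤ := by
        rintro rfl
        rw [hK] at hpC
        have h1 : (1 : A) ∈ p.asIdeal := hpC (Submodule.mem_top : (1 : A) ∈ (⊤ : Ideal A))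
        exact p.isPrime.ne_top ((Ideal.eq_top_iff_one _).mpr h1)
      obtain ⟨m, hm, hKm⟩ := Ideal.exists_le_maximal K hKne
      let pm : PrimeSpectrum A := ⟨m, hm.isPrime⟩
      have hpmC : pm ∈ C := by rw [hK]; exact hKm
      have hIm : I ^ 1 ≤ m := by
        rw [pow_one]
        refine (IsAdicComplete.le_jacobson_bot I).trans ?_
        rw [Ideal.jacobson_bot]
        exact Ring.jacobson_le_of_isMaximal m
      -- pm is in the image of Spec (A/I)
      have hsurj : Function.Surjective (Ideal.Quotient.mk (I ^ 1)) := Ideal.Quotient.mk_surjective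
      have hrangeq : pm ∈ Set.range (Spec.map (CommRingCat.ofHom (Ideal.Quotient.mk (I ^ 1)))) := by
        have := range_comap_of_surjective _ (Ideal.Quotient.mk (I ^ 1)) hsurj
        change pm ∈ Set.range (PrimeSpectrum.comap (Ideal.Quotient.mk (I ^ 1)))
        rw [this, Ideal.mk_ker]
        exact hIm
      obtain ⟨q, hq⟩ := hrangeq
      apply hpmC
      rw [← hq]
      refine ⟨e 1 q, ?_⟩
      rw [← Scheme.Hom.comp_apply, ← hF 1, Scheme.Hom.comp_apply]
    refine ⟨IsOpenImmersion.lift X.toSpecΓ F hrange, fun n => ?_⟩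
    rw [← cancel_mono X.toSpecΓ, Category.assoc, IsOpenImmersion.lift_fac, hF n]

end Groth.Agent.S17863
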