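import Groth.Statements.S17878
import Groth.Agent.Helper8.Euler
open Groth.Agent.Helper8.Euler

set_option autoImplicit false
universe u
open Filter Topology
open GRRSing

namespace Groth.Agent.S17878

/-- Let T be a nonzero commutative normed ℂ-algebra such that the map ℂ → T/nilradical(T) is surjective,
let P = Σ_j d_j x ^ j be a polynomial over T and put h_k = P(k). Let E_0, E_1, … be the rational
numbers with 2/(e^t + 1) = Σ_j E_j t ^ j / j! (so E_0 = 1, E_1 = -1/2). Then for every complex y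
with |y| < 1 the series Σ_k h_k y ^ k converges in T, and as y → -1 along real y in (-1, 1) its sum
tends to (1/2) Σ_j E_j d_j. (The published statement allows any norm topology on T as a complex
vector space; this row takes T a normed ℂ-algebra.) -/
theorem result {T : Type u} [NormedCommRing T] [NormedAlgebra ℂ T] [Nontrivial T]
    (hT : Function.Surjective (algebraMap ℂ (T ⧸ nilradical T)))
    (E : ℕ → ℚ) (hE : PowerSeries.mk (fun j => E j / (j.factorial : ℚ)) * (PowerSeries.exp ℚ + 1) = 2)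
    (P : Polynomial T) :
    (∀ y : ℂ, ‖y‖ < 1 → Summable (fun k : ℕ => y ^ k • P.eval (k : T))) ∧
    Tendsto (fun y : ℝ => ∑' k : ℕ, ((y : ℂ) ^ k) • P.eval (k : T)) (𝓝[Set.Ioo (-1 : ℝ) 1] (-1 : ℝ))
      (𝓝 ((2 : ℂ)⁻¹ • ∑ j ∈ Finset.range (P.natDegree + 1), ((E j : ℚ) : ℂ) • P.coeff j)) := by
  have hterm : ∀ (y : ℂ) (k : ℕ), y ^ k • P.eval (k : T) =
      ∑ j ∈ Finset.range (P.natDegree + 1), ((k : ℂ) ^ j * y ^ k) • P.coeff j := by
    intro y k
    rw [Polynomial.eval_eq_sum_range, Finset.smul_sum]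
    refine Finset.sum_congr rfl fun j _ => ?_
    have : ((k : T)) ^ j = algebraMap ℂ T ((k : ℂ) ^ j) := by
      rw [map_pow, map_natCast]
    rw [this, mul_comm (P.coeff j), ← Algebra.smul_def, smul_smul, mul_comm]
  have hsum : ∀ y : ℂ, ‖y‖ < 1 → HasSum (fun k : ℕ => y ^ k • P.eval (k : T))
      (∑ j ∈ Finset.range (P.natDegree + 1), A j y • P.coeff j) := by
    intro y hy
    simp_rw [hterm y]
    refine hasSum_sum fun j _ => ?_
    exact (summ j hy).hasSum.smul_const (P.coeff j)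
  refine ⟨fun y hy => (hsum y hy).summable, ?_⟩
  have hlim : Tendsto (fun y : ℝ => ∑ j ∈ Finset.range (P.natDegree + 1), A j (y : ℂ) • P.coeff j)
      (𝓝[Set.Ioo (-1 : ℝ) 1] (-1 : ℝ))
      (𝓝 (∑ j ∈ Finset.range (P.natDegree + 1), ((2 : ℂ)⁻¹ * ((E j : ℚ) : ℂ)) • P.coeff j)) := by
    refine tendsto_finsetSum _ fun j _ => ?_
    exact (tendsto_A E hE j).smul_const (P.coeff j)
  have hval : (2 : ℂ)⁻¹ • ∑ j ∈ Finset.range (P.natDegree + 1), ((E j : ℚ) : ℂ) • P.coeff j =
      ∑ j ∈ Finset.range (P.natDegree + 1), ((2 : ℂ)⁻¹ * ((E j : ℚ) : ℂ)) • P.coeff j := by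
    rw [Finset.smul_sum]
    refine Finset.sum_congr rfl fun j _ => ?_
    rw [smul_smul]
  rw [hval]
  refine hlim.congr' ?_
  filter_upwards [self_mem_nhdsWithin] with y hy
  have hy1 : ‖(y : ℂ)‖ < 1 := by
    rw [Complex.norm_real, Real.norm_eq_abs, abs_lt]
    exact ⟨hy.1, hy.2⟩
  exact (hsum (y : ℂ) hy1).tsum_eq.symm

end Groth.Agent.S17878
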