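import Groth.Statements.S17880
import Groth.Agent.Helper4.NApx1
import Mathlib

set_option autoImplicit false
universe u
open CategoryTheory AlgebraicGeometry
open Lim

namespace Groth.Agent.S17880


/-- Let f : Y → X be a morphism of schemes with X and Y quasi-compact and quasi-separated. Then f is the
composite of an affine morphism Y → Z and a morphism Z → X of finite presentation (locally of finite
presentation, quasi-compact and quasi-separated); if f is separated, Z → X can in addition be chosen
separated. Both assertions are packaged in one existential. -/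
theorem result {X Y : Scheme.{u}} (f : Y ⟶ X)
    [CompactSpace X] [QuasiSeparatedSpace X] [CompactSpace Y] [QuasiSeparatedSpace Y] :
    ∃ (Z : Scheme.{u}) (g : Y ⟶ Z) (h : Z ⟶ X), IsAffineHom g ∧ LocallyOfFinitePresentation h ∧
      QuasiCompact h ∧ QuasiSeparated h ∧ (IsSeparated f → IsSeparated h) ∧ g ≫ h = f := by

  obtain ⟨I, hP, hD, hN, D, c, hc, h1, h2, ⟨e⟩⟩ := Groth.Agent.S7383.result f
  haveI : IsConnected Iᵒᵖ := IsCofiltered.isConnected _
  haveI : ∀ {i j : Iᵒᵖ} (a : i ⟶ j), IsAffineHom ((D ⋙ Over.forget X).map a) :=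
    fun {i j} a => h2 i j a
  have haff : ∀ i, IsAffineHom (c.π.app i).left := fun i =>
    isAffineHom_π_app (D ⋙ Over.forget X) ((Over.forget X).mapCone c)
      (Limits.isLimitOfPreserves (Over.forget X) hc) i
  haveI : IsIso e.hom.left := (Over.forget X).map_isIso e.hom
  haveI : IsIso e.inv.left := (Over.forget X).map_isIso e.inv
  have key : ∀ i, (e.inv.left ≫ (c.π.app i).left) ≫ (D.obj i).hom = f := fun i => by
    have h6 : (c.π.app i).left ≫ (D.obj i).hom = c.pt.hom := Over.w (c.π.app i)
    have h7 : e.inv.left ≫ c.pt.hom = f := Over.w e.inv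
    rw [Category.assoc, h6, h7]
  have h4 : ∀ i, CompactSpace (D.obj i).left := fun i => by
    haveI := (h1 i).2.1
    exact QuasiCompact.compactSpace_of_compactSpace (D.obj i).hom
  have h5 : ∀ i, QuasiSeparatedSpace (D.obj i).left := fun i => by
    haveI := (h1 i).2.2
    exact quasiSeparatedSpace_of_quasiSeparated (D.obj i).hom
  by_cases hs : IsSeparated f
  · haveI : IsSeparated c.pt.hom := by
      have : c.pt.hom = e.hom.left ≫ f := (Over.w e.hom).symm
      rw [this]; infer_instance
    obtain ⟨i₁, hi₁⟩ := Groth.Agent.Helper4.NApx1.separated_eventually D c hc h2 h4 h5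
    haveI := haff i₁
    exact ⟨(D.obj i₁).left, e.inv.left ≫ (c.π.app i₁).left, (D.obj i₁).hom, inferInstance,
      (h1 i₁).1, (h1 i₁).2.1, (h1 i₁).2.2, fun _ => hi₁ i₁ (𝟙 _), key i₁⟩
  · obtain ⟨i⟩ : Nonempty Iᵒᵖ := ⟨Opposite.op hN.some⟩
    haveI := haff i
    exact ⟨(D.obj i).left, e.inv.left ≫ (c.π.app i).left, (D.obj i).hom, inferInstance,
      (h1 i).1, (h1 i).2.1, (h1 i).2.2, fun h => absurd h hs, key i⟩

end Groth.Agent.S17880
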