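import Groth.Statements.S17881
import Mathlib

set_option autoImplicit false
universe u
open CAlg

namespace Groth.Agent.S17881

/-- Let O be a subring of a nontrivial commutative ring A. The following are equivalent: (i) A is a
local ring, every non-unit of A belongs to O, and for every unit u of A one of u, u⁻¹ belongs to O —
equivalently O is the preimage in the local ring A of a valuation ring of the residue field of A,
which makes O a semi-valuation ring with semi-fraction ring A; (ii) for all f, g in A generating the
unit ideal, either f ∈ gO or g ∈ fO. (A is taken nontrivial: over the zero ring (ii) holds and (i)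
fails.) -/
theorem result (A : Type u) [CommRing A] [Nontrivial A]
    (O : Subring A) :
    (IsLocalRing A ∧ (∀ a : A, ¬ IsUnit a → a ∈ O) ∧ (∀ u : Aˣ, (u : A) ∈ O ∨ ((u⁻¹ : Aˣ) : A) ∈ O)) ↔
      ∀ f g : A, IsCoprime f g → (∃ o ∈ O, f = g * o) ∨ (∃ o ∈ O, g = f * o) := by
  constructor
  · rintro ⟨hloc, hnu, hu⟩ f g hfg
    -- one of f, g is a unit
    have hor : IsUnit f ∨ IsUnit g := by
      obtain ⟨a, b, hab⟩ := hfg
      rcases IsLocalRing.isUnit_or_isUnit_of_add_one hab with h | h
      · exact Or.inl (isUnit_of_mul_isUnit_right h)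
      · exact Or.inr (isUnit_of_mul_isUnit_right h)
    by_cases hf : IsUnit f
    · by_cases hg : IsUnit g
      · obtain ⟨uf, rfl⟩ := hf
        obtain ⟨ug, rfl⟩ := hg
        rcases hu (ug⁻¹ * uf) with h | h
        · left
          refine ⟨_, h, ?_⟩
          simp [← mul_assoc]
        · right
          refine ⟨_, h, ?_⟩
          simp [← mul_assoc]
      · -- g nonunit: g = f * (f⁻¹ g), f⁻¹ g nonunit
        right
        obtain ⟨uf, rfl⟩ := hf
        refine ⟨(↑uf⁻¹ : A) * g, hnu _ ?_, by simp [← mul_assoc]⟩
        intro h
        exact hg (by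
          have := (uf.isUnit).mul h
          simpa [← mul_assoc] using this)
    · have hg : IsUnit g := hor.resolve_left hf
      left
      obtain ⟨ug, rfl⟩ := hg
      refine ⟨(↑ug⁻¹ : A) * f, hnu _ ?_, by simp [← mul_assoc]⟩
      intro h
      exact hf (by
        have := (ug.isUnit).mul h
        simpa [← mul_assoc] using this)
  · intro h
    have hloc : IsLocalRing A := by
      refine IsLocalRing.of_is_unit_or_is_unit_of_add_one ?_
      intro a b hab
      have hcop : IsCoprime a b := ⟨1, 1, by simpa using hab⟩
      rcases h a b hcop with ⟨o, _, ho⟩ | ⟨o, _, ho⟩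
      · right
        rw [ho] at hab
        have : b * (o + 1) = 1 := by rw [mul_add, mul_one]; exact hab
        exact IsUnit.of_mul_eq_one _ this
      · left
        rw [ho] at hab
        have : a * (1 + o) = 1 := by rw [mul_add, mul_one]; exact hab
        exact IsUnit.of_mul_eq_one _ this
    refine ⟨hloc, ?_, ?_⟩
    · intro a ha
      -- a and 1 are coprime
      rcases h a 1 (isCoprime_one_right) with ⟨o, ho, hao⟩ | ⟨o, _, hao⟩
      · rw [one_mul] at hao
        rw [hao]; exact ho
      · exact absurd (IsUnit.of_mul_eq_one _ hao.symm) ha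
    · intro u
      rcases h (u : A) 1 (isCoprime_one_right) with ⟨o, ho, hao⟩ | ⟨o, ho, hao⟩
      · left
        rw [one_mul] at hao
        rw [hao]; exact ho
      · right
        have : ((u⁻¹ : Aˣ) : A) = o := by
          have h1 : (u : A) * o = 1 := hao.symm
          calc ((u⁻¹ : Aˣ) : A) = ((u⁻¹ : Aˣ) : A) * ((u : A) * o) := by rw [h1, mul_one]
            _ = o := by rw [← mul_assoc, Units.inv_mul, one_mul]
        rw [this]; exact ho

end Groth.Agent.S17881
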