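import Groth.Statements.S17882
import Mathlib

set_option autoImplicit false
universe u
open CAlg

namespace Groth.Agent.S17882

/-- Let B be a commutative ring, r ≥ 1, N a finitely generated submodule of B^r, and n_1, …, n_r ∈ N.
Suppose the determinant of the matrix with rows n_1, …, n_r is a nonzerodivisor of B and that the
determinant of every matrix whose rows lie in N is a multiple of it (the image of the top exterior
power of N in that of B^r ≅ B is the principal ideal generated by n_1 ∧ ⋯ ∧ n_r, a nonzerodivisor).
Then n_1, …, n_r are linearly independent over B and span N: N is free of rank r with this basis. -/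
theorem result (B : Type u) [CommRing B] (r : ℕ) (hr : 0 < r)
    (N : Submodule B (Fin r → B)) (hN : N.FG) (n : Fin r → (Fin r → B)) (hn : ∀ i, n i ∈ N)
    (hgen : ∀ m : Fin r → (Fin r → B), (∀ i, m i ∈ N) →
      Matrix.det (Matrix.of m) ∈ Ideal.span {Matrix.det (Matrix.of n)})
    (hnzd : Matrix.det (Matrix.of n) ∈ nonZeroDivisors B) :
    LinearIndependent B n ∧ Submodule.span B (Set.range n) = N := by
  classical
  set A : Matrix (Fin r) (Fin r) B := Matrix.of n with hA
  set D := A.det with hD
  have hDreg : ∀ b : B, D * b = 0 → b = 0 := fun b hb =>
    (mul_left_mem_nonZeroDivisors_eq_zero_iff hnzd).1 hb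
  constructor
  · -- linear independence
    rw [Fintype.linearIndependent_iff]
    intro c hc i
    have h1 : Matrix.vecMul c A = 0 := by
      ext j
      have := congrFun hc j
      simp only [Finset.sum_apply, Pi.smul_apply, smul_eq_mul, Pi.zero_apply] at this
      simpa [Matrix.vecMul, dotProduct, hA] using this
    have h2 : Matrix.vecMul c (A * A.adjugate) = 0 := by
      rw [← Matrix.vecMul_vecMul, h1, Matrix.zero_vecMul]
    rw [Matrix.mul_adjugate, Matrix.vecMul_smul, Matrix.vecMul_one] at h2
    have := congrFun h2 i
    simp only [Pi.smul_apply, smul_eq_mul, Pi.zero_apply] at this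
    exact hDreg _ this
  · apply le_antisymm
    · exact Submodule.span_le.2 (by rintro _ ⟨i, rfl⟩; exact hn i)
    · intro x hx
      -- Cramer
      have hc : ∀ i, ∃ c, (A.updateRow i x).det = D * c := by
        intro i
        have := hgen (Function.update n i x) (fun j => by
          by_cases hj : j = i
          · subst hj; simpa using hx
          · simpa [Function.update_of_ne hj] using hn j)
        rw [Ideal.mem_span_singleton] at this
        obtain ⟨c, hc⟩ := this
        refine ⟨c, ?_⟩
        rw [← hc]
        congr 1
      choose c hc using hc
      -- x = ∑ c i • n i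
      have hx' : x = ∑ i, c i • n i := by
        funext j
        have hcr : ∀ i, Matrix.cramer A.transpose x i = D * c i := by
          intro i
          rw [Matrix.cramer_apply, ← hc, ← Matrix.det_transpose (A.updateRow i x), Matrix.updateCol_transpose]
        have h1 := congrFun (Matrix.mulVec_cramer A.transpose x) j
        rw [Matrix.det_transpose] at h1
        simp only [Matrix.mulVec, dotProduct, Matrix.transpose_apply, hcr, Pi.smul_apply,
          smul_eq_mul] at h1
        have h2 : D * (x j - (∑ i, c i • n i) j) = 0 := by
          rw [mul_sub, ← h1, Finset.sum_apply, Finset.mul_sum, ← Finset.sum_sub_distrib]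
          refine Finset.sum_eq_zero fun i _ => ?_
          simp only [Pi.smul_apply, smul_eq_mul, hA, Matrix.of_apply]
          ring
        exact sub_eq_zero.1 (hDreg _ h2)
      rw [hx']
      exact Submodule.sum_mem _ fun i _ => Submodule.smul_mem _ _ (Submodule.subset_span ⟨i, rfl⟩)

end Groth.Agent.S17882
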