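import Groth.Statements.S17885
import Groth.Agent.Helper4.NApx2
import Mathlib

set_option autoImplicit false
universe u
open CategoryTheory AlgebraicGeometry
open Lim

namespace Groth.Agent.S17885


/-- Let f : Y → X be a morphism of schemes with X and Y quasi-compact and quasi-separated. Then f is
affine if and only if the X-scheme Y is a limit, in the category of schemes over X, of a filtered
inverse system of X-schemes that are affine and of finite presentation over X. -/
theorem result {X Y : Scheme.{u}} (f : Y ⟶ X)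
    [CompactSpace X] [QuasiSeparatedSpace X] [CompactSpace Y] [QuasiSeparatedSpace Y] :
    IsAffineHom f ↔
      ∃ (I : Type u) (_ : SmallCategory I) (_ : IsFiltered I) (D : Iᵒᵖ ⥤ Over X)
        (c : Limits.Cone D) (_ : Limits.IsLimit c),
        (∀ i, IsAffineHom (D.obj i).hom ∧ LocallyOfFinitePresentation (D.obj i).hom) ∧
        Nonempty (c.pt ≅ Over.mk f) := by

  constructor
  · intro haf
    obtain ⟨I, hP, hD, hN, D, c, hc, h1, h2, ⟨e⟩⟩ := Groth.Agent.S7383.result f
    haveI : IsIso e.hom.left := (Over.forget X).map_isIso e.hom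
    have h4 : ∀ i, CompactSpace (D.obj i).left := fun i => by
      haveI := (h1 i).2.1
      exact QuasiCompact.compactSpace_of_compactSpace (D.obj i).hom
    have h5 : ∀ i, QuasiSeparatedSpace (D.obj i).left := fun i => by
      haveI := (h1 i).2.2
      exact quasiSeparatedSpace_of_quasiSeparated (D.obj i).hom
    haveI : IsAffineHom c.pt.hom := by
      have : c.pt.hom = e.hom.left ≫ f := (Over.w e.hom).symm
      rw [this]; infer_instance
    obtain ⟨i₁, hi₁⟩ := Groth.Agent.Helper4.NApx1.affine_eventually D c hc h2 h4 h5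
    haveI : IsFiltered (Set.Ici i₁.unop) := isFiltered_of_directed_le_nonempty _
    refine ⟨Set.Ici i₁.unop, inferInstance, inferInstance,
      Groth.Agent.Helper4.NApx0.inclIci i₁.unop ⋙ D,
      c.whisker (Groth.Agent.Helper4.NApx0.inclIci i₁.unop),
      Groth.Agent.Helper4.NApx0.isLimitRestrict D c hc i₁.unop, ?_, ⟨e⟩⟩
    intro i
    exact ⟨hi₁ _ (homOfLE i.unop.2).op, (h1 _).1⟩
  · rintro ⟨I, hI, hF, D, c, hc, h1, ⟨e⟩⟩
    haveI : IsConnected Iᵒᵖ := IsCofiltered.isConnected _
    have h2 : ∀ {i j : Iᵒᵖ} (a : i ⟶ j), IsAffineHom ((D ⋙ Over.forget X).map a) := by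
      intro i j a
      show IsAffineHom (D.map a).left
      haveI := (h1 j).1
      haveI : IsAffineHom ((D.map a).left ≫ (D.obj j).hom) := by
        rw [Over.w]; exact (h1 i).1
      exact IsAffineHom.of_comp (D.map a).left (D.obj j).hom
    obtain ⟨i⟩ := IsCofiltered.nonempty (C := Iᵒᵖ)
    haveI : IsAffineHom (c.π.app i).left :=
      isAffineHom_π_app (D ⋙ Over.forget X) ((Over.forget X).mapCone c)
        (Limits.isLimitOfPreserves (Over.forget X) hc) i
    haveI := (h1 i).1
    haveI : IsIso e.inv.left := (Over.forget X).map_isIso e.inv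
    have h6 : (c.π.app i).left ≫ (D.obj i).hom = c.pt.hom := Over.w (c.π.app i)
    have h7 : e.inv.left ≫ c.pt.hom = f := Over.w e.inv
    rw [← h7, ← h6]
    infer_instance

end Groth.Agent.S17885
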