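import Groth.Statements.S17887
import Groth.Agent.S1682
import Groth.Agent.Helper4.NApx19
import Mathlib

set_option autoImplicit false
universe u
open CategoryTheory AlgebraicGeometry
open BlowUp

namespace Groth.Agent.S17887


/-- Let X be a Noetherian scheme, U ⊆ X an open subscheme that is schematically dense in X, I a
quasi-coherent ideal sheaf on X whose support does not meet U, and π : X' → X a blowing-up of X
along I. Then π⁻¹(U) is schematically dense in X'. -/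
theorem result {X X' : Scheme.{u}} [IsNoetherian X]
    (U : X.Opens) [IsSchemeTheoreticallyDominant U.ι] (𝓘 : X.IdealSheafData)
    (hU : Disjoint (𝓘.support : Set X) (U : Set X)) (π : X' ⟶ X) (hπ : BlowUp.IsBlowUp π 𝓘) :
    IsSchemeTheoreticallyDominant (π ⁻¹ᵁ U).ι := by

  classical
  obtain ⟨hE, -⟩ := id hπ
  let V : X.Opens := ModPair.interior 𝓘
  haveI hiso : IsIso (π ∣_ V) := Groth.Agent.S1682.result 𝓘 π hπ
  have hW : IsSchemeTheoreticallyDominant (π ⁻¹ᵁ V).ι := by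
    have := Groth.Agent.Helper4.NApx19.isSchemeTheoreticallyDominant_interior_ι (𝓘.comap π) hE
    rwa [Groth.Agent.Helper4.NApx19.interior_comap] at this
  -- U ∩ V → V is schematically dominant
  have h1 : IsSchemeTheoreticallyDominant (V.ι ⁻¹ᵁ U).ι :=
    IsSchemeTheoreticallyDominant.of_isPullback (f := U.ι) (g := V.ι)
      (isPullback_morphismRestrict V.ι U)
  let b := π ∣_ V
  let U' : (V : Scheme.{u}).Opens := V.ι ⁻¹ᵁ U
  have h2 : IsSchemeTheoreticallyDominant (b ⁻¹ᵁ U').ι :=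
    IsSchemeTheoreticallyDominant.of_isPullback (f := U'.ι) (g := b)
      (isPullback_morphismRestrict b U')
  let j : ((b ⁻¹ᵁ U' : (π ⁻¹ᵁ V : Scheme.{u}).Opens) : Scheme.{u}) ⟶ X' := (b ⁻¹ᵁ U').ι ≫ (π ⁻¹ᵁ V).ι
  have hj : IsSchemeTheoreticallyDominant j := inferInstance
  have hrange : Set.range j.base ⊆ Set.range (π ⁻¹ᵁ U).ι.base := by
    rintro _ ⟨z, rfl⟩
    rw [Scheme.Opens.range_ι]
    show π (j z) ∈ U
    have hz : b ((b ⁻¹ᵁ U').ι z) ∈ U' := z.2
    have e1 : π ((π ⁻¹ᵁ V).ι ((b ⁻¹ᵁ U').ι z)) = V.ι (b ((b ⁻¹ᵁ U').ι z)) := by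
      have := morphismRestrict_ι π V
      rw [← Scheme.Hom.comp_apply, ← Scheme.Hom.comp_apply, ← this]
      rfl
    show π ((π ⁻¹ᵁ V).ι ((b ⁻¹ᵁ U').ι z)) ∈ U
    rw [e1]
    exact hz
  have hfac : IsOpenImmersion.lift (π ⁻¹ᵁ U).ι j hrange ≫ (π ⁻¹ᵁ U).ι = j :=
    IsOpenImmersion.lift_fac _ _ _
  rw [isSchemeTheoreticallyDominant_iff, eq_bot_iff]
  have hk : j.ker = ⊥ := hj.ker_eq_bot
  rw [← hk, ← hfac]
  exact Scheme.Hom.le_ker_comp _ _

end Groth.Agent.S17887
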