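import Groth.Statements.S17911
import Groth.Agent.Helper6.GerbEquiv

set_option autoImplicit false
universe u
open CategoryTheory AlgebraicGeometry
open Gerb

namespace Groth.Agent.S17911

/-- Let S be a scheme and let 𝒳, 𝒴 be gerbes over the big fppf site of schemes over S (stacks in
groupoids in which objects exist locally and any two objects over the same scheme are locally
isomorphic), and let φ : 𝒳 → 𝒴 be a functor over Sch_S. Suppose 𝒳 has an object s over S itself such
that, for every object x of 𝒳 admitting a morphism to s (that is, for every pullback of s), φ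
induces a bijection from the automorphisms of x over the identity to those of φ(x) — the induced
homomorphism of automorphism sheaves Aut(s) → Aut(φ s) is an isomorphism. Then φ is an equivalence
over Sch_S: some functor over Sch_S in the other direction is inverse to φ up to isomorphisms over
Sch_S. -/
theorem result (S : Scheme.{u}) (𝒳 𝒴 : AlgSt.Cat S)
    (h𝒳 : Gerb.IsGerbe (QuotSh.J Scheme.fppfPrecoverage S) 𝒳)
    (h𝒴 : Gerb.IsGerbe (QuotSh.J Scheme.fppfPrecoverage S) 𝒴)
    (φ : 𝒳 ⥤ᵇ 𝒴) (s : 𝒳.obj) (hs : 𝒳.p.obj s = Over.mk (𝟙 S))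
    (hφ : ∀ (x : 𝒳.obj) (c : x ⟶ s), Function.Bijective (Gerb.autMap φ x)) :
    FibCat.IsEquivOver φ := by
  obtain ⟨hst𝒳, hgb𝒳⟩ := h𝒳
  obtain ⟨hst𝒴, hgb𝒴⟩ := h𝒴
  have hterm : ∀ (T : Over S) (h₁ h₂ : T ⟶ 𝒳.p.obj s), h₁ = h₂ := by
    have : ∀ (Z : Over S) (hZ : Z = Over.mk (𝟙 S)) (T : Over S) (h₁ h₂ : T ⟶ Z), h₁ = h₂ := by
      intro Z hZ
      subst hZ
      intro T h₁ h₂
      exact Over.mkIdTerminal.hom_ext h₁ h₂
    exact this _ hs
  have hmap : ∀ T : Over S, Nonempty (T ⟶ 𝒳.p.obj s) := fun T =>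
    ⟨Over.mkIdTerminal.from T ≫ eqToHom hs.symm⟩
  exact Groth.Agent.Helper6.GerbEquiv.main hst𝒳.1 hst𝒴.1 φ s hφ _ hst𝒳 hst𝒴 hgb𝒳 hgb𝒴 hterm hmap

end Groth.Agent.S17911
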