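import Groth.Statements.S17912
import Groth.Agent.Helper6.GerbNat

set_option autoImplicit false
universe u
open CategoryTheory AlgebraicGeometry
open Gerb

namespace Groth.Agent.S17912

/-- Let S be a scheme, 𝒳 a gerbe over the big fppf site of schemes over S having an object x over S
itself, and φ : 𝒳 → 𝒳 a functor over Sch_S. Suppose given an isomorphism g : φ(x) → x lying over the
identity of S such that 'conjugation by g after φ' is the identity of the automorphism sheaf of x: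
whenever c : x' → x is a morphism of 𝒳 (a pullback of x) and g' : φ(x') → x' is the morphism over
the identity with φ(c) ≫ g = g' ≫ c (the pullback of g), every automorphism α of x' over the
identity satisfies φ(α) ≫ g' = g' ≫ α. Then on every fibre φ is naturally isomorphic to the identity
functor: there is a family of isomorphisms ρ_y : φ(y) → y, each lying over the identity of the
scheme under y, such that φ(f) ≫ ρ_{y'} = ρ_y ≫ f for every morphism f : y → y' lying over an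
identity. -/
theorem result (S : Scheme.{u}) (𝒳 : AlgSt.Cat S)
    (h𝒳 : Gerb.IsGerbe (QuotSh.J Scheme.fppfPrecoverage S) 𝒳)
    (φ : 𝒳 ⥤ᵇ 𝒳) (x : 𝒳.obj) (hx : 𝒳.p.obj x = Over.mk (𝟙 S))
    (g : φ.obj x ⟶ x) [IsIso g] (hg : 𝒳.p.IsHomLift (𝟙 (𝒳.p.obj x)) g)
    (hconj : ∀ (x' : 𝒳.obj) (c : x' ⟶ x) (g' : φ.obj x' ⟶ x'), 𝒳.p.IsHomLift (𝟙 (𝒳.p.obj x')) g' →
      φ.map c ≫ g = g' ≫ c → ∀ α : Gerb.AutO x', φ.map α.hom.1 ≫ g' = g' ≫ α.hom.1) :
    ∃ ρ : ∀ y : 𝒳.obj, φ.obj y ⟶ y,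
      (∀ y, IsIso (ρ y) ∧ 𝒳.p.IsHomLift (𝟙 (𝒳.p.obj y)) (ρ y)) ∧
      (∀ (y y' : 𝒳.obj) (f : y ⟶ y'), 𝒳.p.IsHomLift (𝟙 (𝒳.p.obj y)) f → φ.map f ≫ ρ y' = ρ y ≫ f) := by
  obtain ⟨hst, hgb⟩ := h𝒳
  have hfg : FibCat.IsFibGrpd 𝒳.p := hst.1
  have hterm : ∀ (T : Over S) (h₁ h₂ : T ⟶ 𝒳.p.obj x), h₁ = h₂ := by
    have : ∀ (Z : Over S) (hZ : Z = Over.mk (𝟙 S)) (T : Over S) (h₁ h₂ : T ⟶ Z), h₁ = h₂ := by
      intro Z hZ
      subst hZ
      intro T h₁ h₂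
      exact Over.mkIdTerminal.hom_ext h₁ h₂
    exact this _ hx
  refine Groth.Agent.Helper6.GerbNat.main hfg φ x hterm g hg hconj _ hst ?_
  intro y
  let π : 𝒳.p.obj y ⟶ 𝒳.p.obj x := Over.mkIdTerminal.from (𝒳.p.obj y) ≫ eqToHom hx.symm
  obtain ⟨xV, cV, hcV⟩ := hfg.exists_lift π
  have hxV : 𝒳.p.obj xV = 𝒳.p.obj y := CategoryTheory.IsHomLift.domain_eq 𝒳.p π cV
  have hb : (FibCat.selfOver (Over S)).p.IsHomLift (𝟙 (𝒳.p.obj y)) (eqToHom hxV.symm) :=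
    CategoryTheory.IsHomLift.eqToHom_codomain_lift_id hxV.symm hxV
  obtain ⟨R, hR, hR2⟩ := hgb.2 y xV (eqToHom hxV.symm) hb
  refine (QuotSh.J Scheme.fppfPrecoverage S).superset_covering ?_ hR
  intro W f hf
  obtain ⟨x₀, φ₀, ψ₀, h1, h2, -⟩ := hR2 f hf
  exact ⟨x₀, φ₀, ψ₀ ≫ cV, h1⟩

end Groth.Agent.S17912
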