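import Groth.Statements.S17913
import Groth.Agent.Helper6.GerbNat2

set_option autoImplicit false
universe u
open CategoryTheory AlgebraicGeometry
open Gerb

namespace Groth.Agent.S17913

/-- Let S be a scheme, 𝒳 and 𝒴 gerbes over the big fppf site of schemes over S, φ : 𝒳 → 𝒴 and ψ : 𝒴 → 𝒳
functors over Sch_S, and x an object of 𝒳 over S itself such that φ is surjective on automorphism
groups along x: for every object x' of 𝒳 admitting a morphism to x (every pullback of x), every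
automorphism of φ(x') over the identity is φ(α) for some automorphism α of x' over the identity. Let
g : ψ(φ(x)) → x be an isomorphism lying over the identity such that conjugation by g after ψ ∘ φ is
the identity of the automorphism sheaf of x: whenever c : x' → x is a morphism of 𝒳 and g' :
ψ(φ(x')) → x' is the morphism over the identity with ψ(φ(c)) ≫ g = g' ≫ c, every automorphism α of
x' over the identity satisfies ψ(φ(α)) ≫ g' = g' ≫ α. Then φ ∘ ψ is isomorphic to the identity on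
every fibre of 𝒴: there are isomorphisms σ_z : φ(ψ(z)) → z for all objects z of 𝒴, lying over
identities and natural in morphisms lying over identities, so that φ and ψ are mutually
quasi-inverse on every fibre. (The published corollary does not assume that φ is surjective on
automorphism groups; its proof uses that φ is full, and without that hypothesis the conclusion fails
— take for 𝒳 the base category over itself, for 𝒴 the gerbe of torsors under the group of order two,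
for φ the trivial torsor and for ψ the structure functor. The published corollary also concludes
that ψ ∘ φ is isomorphic to the identity on every fibre of 𝒳; that part follows from the hypotheses
on g alone and is stated separately.) -/
theorem result (S : Scheme.{u}) (𝒳 𝒴 : AlgSt.Cat S)
    (h𝒳 : Gerb.IsGerbe (QuotSh.J Scheme.fppfPrecoverage S) 𝒳)
    (h𝒴 : Gerb.IsGerbe (QuotSh.J Scheme.fppfPrecoverage S) 𝒴)
    (φ : 𝒳 ⥤ᵇ 𝒴) (ψ : 𝒴 ⥤ᵇ 𝒳) (x : 𝒳.obj) (hx : 𝒳.p.obj x = Over.mk (𝟙 S))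
    (hφ : ∀ (x' : 𝒳.obj) (c : x' ⟶ x), Function.Surjective (Gerb.autMap φ x'))
    (g : ψ.obj (φ.obj x) ⟶ x) [IsIso g] (hg : 𝒳.p.IsHomLift (𝟙 (𝒳.p.obj x)) g)
    (hconj : ∀ (x' : 𝒳.obj) (c : x' ⟶ x) (g' : ψ.obj (φ.obj x') ⟶ x'), 𝒳.p.IsHomLift (𝟙 (𝒳.p.obj x')) g' →
      ψ.map (φ.map c) ≫ g = g' ≫ c → ∀ α : Gerb.AutO x', ψ.map (φ.map α.hom.1) ≫ g' = g' ≫ α.hom.1) :
    ∃ σ : ∀ z : 𝒴.obj, φ.obj (ψ.obj z) ⟶ z,
      (∀ z, IsIso (σ z) ∧ 𝒴.p.IsHomLift (𝟙 (𝒴.p.obj z)) (σ z)) ∧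
      (∀ (z z' : 𝒴.obj) (f : z ⟶ z'), 𝒴.p.IsHomLift (𝟙 (𝒴.p.obj z)) f →
        φ.map (ψ.map f) ≫ σ z' = σ z ≫ f) := by
  obtain ⟨hst𝒳, hgb𝒳⟩ := h𝒳
  obtain ⟨hst𝒴, hgb𝒴⟩ := h𝒴
  have hfg𝒳 : FibCat.IsFibGrpd 𝒳.p := hst𝒳.1
  have hfg𝒴 : FibCat.IsFibGrpd 𝒴.p := hst𝒴.1
  have hX : 𝒴.p.obj (φ.obj x) = Over.mk (𝟙 S) := (φ.w_obj x).trans hx
  have hterm : ∀ (T : Over S) (h₁ h₂ : T ⟶ 𝒴.p.obj (φ.obj x)), h₁ = h₂ := by
    have : ∀ (Z : Over S) (hZ : Z = Over.mk (𝟙 S)) (T : Over S) (h₁ h₂ : T ⟶ Z), h₁ = h₂ := by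
      intro Z hZ
      subst hZ
      intro T h₁ h₂
      exact Over.mkIdTerminal.hom_ext h₁ h₂
    exact this _ hX
  have hmap : ∀ T : Over S, Nonempty (T ⟶ 𝒴.p.obj (φ.obj x)) := fun T =>
    ⟨Over.mkIdTerminal.from T ≫ eqToHom hX.symm⟩
  have hG : 𝒴.p.IsHomLift (𝟙 (𝒴.p.obj (φ.obj x))) (φ.map g) := by
    have h1 : 𝒴.p.IsHomLift (𝟙 (𝒳.p.obj x)) (φ.map g) :=
      @BasedFunctor.preserves_isHomLift _ _ _ _ φ _ _ _ _ (𝟙 (𝒳.p.obj x)) g hg
    have : ∀ (Z : Over S) (hZ : Z = 𝒳.p.obj x), 𝒴.p.IsHomLift (𝟙 Z) (φ.map g) := by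
      intro Z hZ
      subst hZ
      exact h1
    exact this _ (φ.w_obj x)
  exact Groth.Agent.Helper6.GerbNat.main hfg𝒴 (BasedFunctor.comp ψ φ) (φ.obj x) hterm (φ.map g) hG
    (fun y' c' g'' h1 h2 β =>
      Groth.Agent.Helper6.GerbNat.conj_transfer hfg𝒳 hfg𝒴 φ ψ x hφ g hg hconj y' c' g'' h1 h2 β)
    _ hst𝒴 (fun y => Groth.Agent.Helper6.GerbNat.rt_mem _ hfg𝒴 hgb𝒴 (φ.obj x) hmap y)

end Groth.Agent.S17913
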