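import Groth.Statements.S17914
import Groth.Agent.Helper4.NormBC
import Groth.Agent.Helper4.PolLawExt
import Groth.Agent.Helper4.PolLaw1
import Mathlib

set_option autoImplicit false
universe u
open scoped TensorProduct
open PolLaw

namespace Groth.Agent.S17914


/-- Affine-free form, stated through universal properties. Let R → R' be a commutative algebra that is
free of rank d as an R-module, Q a commutative R-algebra, and Q' a commutative ring under Q and R'
which is their pushout over R and is free of rank d over Q. Let (C, γ) be the degree-d divided power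
algebra of R' over R with its universal multiplicative law (hypothesis: every multiplicative law of
degree d out of R' factors uniquely through γ) and π : C → R the R-algebra map with π ∘ γ = the norm
law of R' over R; let (C', γ', π') be the analogous data for Q' over Q. Let θ : C → C' be an
R-algebra homomorphism compatible with the two universal laws over every commutative Q-algebra P:
γ'_P applied to the image of z ∈ P ⊗_R R' in P ⊗_Q Q' equals (p ⊗ c ↦ p ⊗ θ c) applied to γ_P(z) (so
θ is the base-change homomorphism of divided power algebras). Then π' (θ c) is the image in Q of π c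
for every c ∈ C: the algebra map attached to the norm commutes with base change. (The published
lemma is for a finite locally free extension of constant rank and states the commutativity of each
of three squares; this row assumes R' free over R and states the commutativity of the composite.) -/
theorem result {R R' Q Q' : Type u} [CommRing R] [CommRing R'] [Algebra R R']
    [CommRing Q] [Algebra R Q] [CommRing Q'] [Algebra R Q'] [Algebra Q Q'] [Algebra R' Q']
    [IsScalarTower R Q Q'] [IsScalarTower R R' Q'] [Algebra.IsPushout R R' Q Q']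
    [Module.Free R R'] [Module.Finite R R'] [Module.Free Q Q'] [Module.Finite Q Q']
    (d : ℕ) (hd : Module.finrank R R' = d) (hd' : Module.finrank Q Q' = d)
    {C : Type u} [CommRing C] [Algebra R C] (γ : PolLaw.MulLaw R R' C d) (hγ : PolLaw.IsGammaD γ)
    (π : C →ₐ[R] R) (hπ : PolLaw.MulLaw.postcomp π γ = PolLaw.normLaw R R' d hd)
    {C' : Type u} [CommRing C'] [Algebra R C'] [Algebra Q C'] [IsScalarTower R Q C']
    (γ' : PolLaw.MulLaw Q Q' C' d) (hγ' : PolLaw.IsGammaD γ')
    (π' : C' →ₐ[Q] Q) (hπ' : PolLaw.MulLaw.postcomp π' γ' = PolLaw.normLaw Q Q' d hd')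
    (θ : C →ₐ[R] C')
    (hθ : ∀ (P : Type u) [CommRing P] [Algebra R P] [Algebra Q P] [IsScalarTower R Q P] (z : P ⊗[R] R'),
      γ'.law.toFun' P (PolLaw.bcAlong (IsScalarTower.toAlgHom R R' Q').toLinearMap P z) =
        PolLaw.bcAlong θ.toLinearMap P (γ.law.toFun' P z)) :
    ∀ c : C, π' (θ c) = algebraMap R Q (π c) := by

  classical
  let f₁ : C →ₐ[R] Q := (π'.restrictScalars R).comp θ
  let f₂ : C →ₐ[R] Q := (Algebra.ofId R Q).comp π
  suffices h : f₁ = f₂ by
    intro c
    exact DFunLike.congr_fun h c
  obtain ⟨f, -, hf⟩ := hγ Q (PolLaw.MulLaw.postcomp f₂ γ)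
  rw [hf f₁ ?_, hf f₂ rfl]
  show PolLaw.postcomp f₁.toLinearMap γ.law = PolLaw.postcomp f₂.toLinearMap γ.law
  apply Groth.Agent.Helper4.PolLawExt.ext_of_mv
  intro n
  funext z
  show f₁.toLinearMap.lTensor (MvPolynomial (Fin n) R) (γ.law.toFun' (MvPolynomial (Fin n) R) z) =
    f₂.toLinearMap.lTensor (MvPolynomial (Fin n) R) (γ.law.toFun' (MvPolynomial (Fin n) R) z)
  -- notation
  set P₀ := MvPolynomial (Fin n) R with hP₀
  let ι : P₀ →ₐ[R] Q ⊗[R] P₀ := Algebra.TensorProduct.includeRight
  set w := γ.law.toFun' P₀ z with hw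
  apply (TensorProduct.comm R P₀ Q).injective
  -- the key formula for f₁
  have key : ∀ w : P₀ ⊗[R] C, (TensorProduct.comm R P₀ Q) (f₁.toLinearMap.lTensor P₀ w) =
      (TensorProduct.rid Q (Q ⊗[R] P₀)) (π'.toLinearMap.lTensor (Q ⊗[R] P₀)
        (PolLaw.bcAlong (Q := Q) θ.toLinearMap (Q ⊗[R] P₀)
          (Algebra.TensorProduct.map ι (AlgHom.id R C) w))) := by
    intro w
    induction w using TensorProduct.induction_on with
    | zero => simp
    | tmul p c =>
      rw [Algebra.TensorProduct.map_tmul, Groth.Agent.Helper4.NormBC.bcAlong_tmul (Q := Q)]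
      simp only [LinearMap.lTensor_tmul, AlgHom.toLinearMap_apply, TensorProduct.comm_tmul,
        TensorProduct.rid_tmul, AlgHom.id_apply]
      show f₁ c ⊗ₜ[R] p = π' (θ c) • ((1 : Q) ⊗ₜ[R] p)
      rw [TensorProduct.smul_tmul', smul_eq_mul, mul_one]
      rfl
    | add x y hx hy => simp only [map_add, hx, hy]
  rw [key]
  -- evaluate via hθ and hπ'
  have e1 : Algebra.TensorProduct.map ι (AlgHom.id R C) w =
      γ.law.toFun' (Q ⊗[R] P₀) (Algebra.TensorProduct.map ι (AlgHom.id R R') z) := by
    rw [hw, Groth.Agent.Helper4.PolLaw1.compat]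
  have e2 := hθ (Q ⊗[R] P₀) (Algebra.TensorProduct.map ι (AlgHom.id R R') z)
  have e3 : ∀ u : (Q ⊗[R] P₀) ⊗[Q] Q', π'.toLinearMap.lTensor (Q ⊗[R] P₀) (γ'.law.toFun' (Q ⊗[R] P₀) u) =
      (PolLaw.normLaw Q Q' d hd').law.toFun' (Q ⊗[R] P₀) u := fun u =>
    congrArg (fun F => F.law.toFun' (Q ⊗[R] P₀) u) hπ'
  have e4 : π.toLinearMap.lTensor P₀ w = (PolLaw.normLaw R R' d hd).law.toFun' P₀ z :=
    congrArg (fun F => F.law.toFun' P₀ z) hπ
  rw [e1, ← e2, e3, PolLaw.normLaw_apply, Groth.Agent.Helper4.NormBC.norm_bcAlong,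
    TensorProduct.rid_tmul, one_smul]
  -- the other side
  have e5 : f₂.toLinearMap.lTensor P₀ w =
      (Algebra.ofId R Q).toLinearMap.lTensor P₀ (π.toLinearMap.lTensor P₀ w) := by
    rw [← LinearMap.lTensor_comp_apply]
    rfl
  rw [e5, e4, PolLaw.normLaw_apply, LinearMap.lTensor_tmul, TensorProduct.comm_tmul]
  have e6 := PolLaw.detAct_map R' ι z
  rw [PolLaw.detAct_self, PolLaw.detAct_self] at e6
  rw [e6]
  simp [ι]

end Groth.Agent.S17914
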