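import Groth.Statements.S17933
import Mathlib
import Groth.Agent.Helper8.MultCrvBasic
open Groth.Agent.Helper8.MC

set_option autoImplicit false
universe u
open MultCrv

namespace Groth.Agent.S17933

/-- Let R be a discrete valuation ring, n ≥ 1, A = R[X]/(X^n) with z the class of X, and M a finitely
generated A-module. Then M is torsion-free as an R-module if and only if the submodule M^(1) of
elements killed by z is a free R-module. (This is the statement at a closed point of the sheaf
statement: for a primitive multiple curve of multiplicity n the local ring at a closed point is of
the form R[X]/(X^n) with R the local ring of the reduced smooth curve, torsion-freeness is the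
absence of sections with finite support, and local freeness on the reduced curve is freeness of the
stalk; the row is stated for every discrete valuation ring R.) -/
theorem result (R : Type u) [CommRing R] [IsDomain R] [IsDiscreteValuationRing R] (n : ℕ) (hn : 1 ≤ n) (M : Type u) [AddCommGroup M] [Module (MultCrv.Rn R n) M] [Module R M] [IsScalarTower R (MultCrv.Rn R n) M] [Module.Finite (MultCrv.Rn R n) M] : Module.IsTorsionFree R M ↔ Module.Free R ↥(MultCrv.filt2 R n M 1) := by
  constructor
  · intro h
    have h1 := finite_submodule (R := R) (MultCrv.filt2 R n M 1)
    have h2 := isTorsionFree_submodule (R := R) (MultCrv.filt2 R n M 1)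
    exact Module.free_of_finite_type_torsion_free'
  · intro h
    rw [Module.isTorsionFree_iff_smul_eq_zero]
    intro r u hru
    by_contra hcon
    push Not at hcon
    obtain ⟨hr, hu⟩ := hcon
    obtain ⟨j, hj, hj1⟩ := exists_pow_smul_ne_zero (R := R) (n := n) hu
    have hw : MultCrv.z R n ^ j • u ∈ MultCrv.filt2 R n M 1 := by
      rw [mem_filt2, pow_one, smul_smul, ← pow_succ']
      exact hj1
    have h3 : r • (⟨MultCrv.z R n ^ j • u, hw⟩ : MultCrv.filt2 R n M 1) = 0 := by
      apply Subtype.ext
      show r • MultCrv.z R n ^ j • u = 0
      rw [smul_comm', hru, smul_zero]
    rcases (smul_eq_zero (R := R)).mp h3 with h4 | h4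
    · exact hr h4
    · exact hj (congrArg Subtype.val h4)

end Groth.Agent.S17933
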