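import Groth.Statements.S17935
import Mathlib
import Groth.Agent.Helper8.MultCrvDual
open Groth.Agent.Helper8.MC

set_option autoImplicit false
universe u
open MultCrv

namespace Groth.Agent.S17935

/-- Let R be a discrete valuation ring, n ≥ 1, A = R[X]/(X^n), and M a finitely generated A-module. Then
M is reflexive over A (the evaluation map into the double A-dual is bijective) if and only if M is
torsion-free as an R-module. (Statement at a closed point of the sheaf statement on a primitive
multiple curve of multiplicity n, whose local rings are of the form R[X]/(X^n) with R the local ring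
of the reduced smooth curve, torsion-freeness of a coherent sheaf there meaning no nonzero subsheaf
with finite support; stated for every discrete valuation ring R.) -/
theorem result (R : Type u) [CommRing R] [IsDomain R] [IsDiscreteValuationRing R] (n : ℕ) (hn : 1 ≤ n) (M : Type u) [AddCommGroup M] [Module (MultCrv.Rn R n) M] [Module R M] [IsScalarTower R (MultCrv.Rn R n) M] [Module.Finite (MultCrv.Rn R n) M] : Module.IsReflexive (MultCrv.Rn R n) M ↔ Module.IsTorsionFree R M := by
  constructor
  · intro h
    rw [Module.isTorsionFree_iff_smul_eq_zero]
    intro r u hru
    by_contra hcon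
    push Not at hcon
    have hinj := (Module.IsReflexive.bijective_dual_eval' (R := MultCrv.Rn R n) (M := M)).1
    apply hcon.2
    apply hinj
    rw [map_zero]
    apply LinearMap.ext
    intro l
    show l u = 0
    have h1 : r • l u = 0 := by rw [← LinearMap.map_smul_of_tower, hru, map_zero]
    have := free_Rn R n
    exact (smul_eq_zero.mp h1).resolve_left hcon.1
  · intro h
    have hfin : Module.Finite R M := finite_of_tower R n M
    have hfree : Module.Free R M := Module.free_of_finite_type_torsion_free'
    constructor
    constructor
    · rw [injective_iff_map_eq_zero]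
      intro u hu
      have h1 : ∀ μ₀ : Module.Dual R M, μ₀ u = 0 := fun μ₀ => by
        rw [← tr_lam hn μ₀ u]
        have h2 := LinearMap.congr_fun hu (lam μ₀)
        rw [Module.Dual.eval_apply] at h2
        rw [h2]
        simp
      exact (Module.forall_dual_apply_eq_zero_iff R u).mp h1
    · intro Φ
      let φ₀ : Module.Dual R M →ₗ[R] R :=
        { toFun := fun μ₀ => tr R hn (Φ (lam μ₀))
          map_add' := fun a b => by rw [lam_add, map_add, map_add]
          map_smul' := fun r a => by
            rw [lam_smul, LinearMap.map_smul_of_tower, map_smul]; rfl }
      obtain ⟨u, hu⟩ := (Module.IsReflexive.bijective_dual_eval' (R := R) (M := M)).2 φ₀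
      refine ⟨u, ?_⟩
      apply LinearMap.ext
      intro l
      rw [Module.Dual.eval_apply, expand hn (Φ l), expand hn (l u)]
      refine Finset.sum_congr rfl fun j _ => ?_
      congr 1
      have h1 : MultCrv.z R n ^ (n - 1 - j) * Φ l = Φ (MultCrv.z R n ^ (n - 1 - j) • l) := by
        rw [map_smul, smul_eq_mul]
      rw [h1, ← lam_tr hn (MultCrv.z R n ^ (n - 1 - j) • l)]
      have h2 := LinearMap.congr_fun hu
        ((tr R hn).comp ((MultCrv.z R n ^ (n - 1 - j) • l).restrictScalars R))
      rw [Module.Dual.eval_apply] at h2
      show _ = φ₀ _
      rw [← h2]
      rfl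

end Groth.Agent.S17935
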