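import Groth.Statements.S17943
import Mathlib
import Groth.Agent.Helper8.MultCrvBasic
open Groth.Agent.Helper8.MC

set_option autoImplicit false
universe u
open MultCrv

namespace Groth.Agent.S17943

theorem finrank_range_add_ker {R : Type*} [CommRing R] [IsDomain R] {n : ℕ}
    {A B : Type*} [AddCommGroup A] [Module (MultCrv.Rn R n) A] [Module R A]
    [IsScalarTower R (MultCrv.Rn R n) A] [Module.Finite R A]
    [AddCommGroup B] [Module (MultCrv.Rn R n) B] [Module R B]
    [IsScalarTower R (MultCrv.Rn R n) B] (f : A →ₗ[MultCrv.Rn R n] B) :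
    Module.finrank R (LinearMap.range f) + Module.finrank R (LinearMap.ker f) = Module.finrank R A := by
  have e := (f.quotKerEquivRange).restrictScalars R
  rw [← e.finrank_eq]
  have h1 := ((LinearMap.ker f).restrictScalars R).finrank_quotient_add_finrank
  exact h1

/-- Let R be a discrete valuation ring, n ≥ 1, A = R[X]/(X^n) with z the class of X, and M a finitely
generated A-module. For 0 ≤ i < n the R-modules G^(i+1)(M) = M^(i+1)/M^(i) (M^(j) the elements
killed by z^j) and G_i(M) = z^i M/z^(i+1) M have the same rank over R. (Statement at a closed point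
of the sheaf statement on a primitive multiple curve of multiplicity n with local rings R[X]/(X^n),
where the rank of a coherent sheaf on the reduced smooth curve is its generic rank, here the rank
over R of the stalk; the equality of degrees that the published statement gives together with this
rank equality is a statement on the global curve and is not part of this row; stated for every
discrete valuation ring R.) -/
theorem result (R : Type u) [CommRing R] [IsDomain R] [IsDiscreteValuationRing R] (n : ℕ) (hn : 1 ≤ n) (M : Type u) [AddCommGroup M] [Module (MultCrv.Rn R n) M] [Module R M] [IsScalarTower R (MultCrv.Rn R n) M] [Module.Finite (MultCrv.Rn R n) M] (i : ℕ) (hi : i < n) : Module.finrank R (MultCrv.G2 R n M (i + 1)) = Module.finrank R (MultCrv.G1 R n M i) := by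
  have hP := finite_submodule (R := R) (MultCrv.filt R n M i)
  have hQ := finite_submodule (R := R) (MultCrv.filt2 R n M (i + 1))
  let ζ : ↥(MultCrv.filt R n M i) →ₗ[MultCrv.Rn R n] ↥(MultCrv.filt R n M i) :=
    LinearMap.restrict (MultCrv.z R n • (LinearMap.id : M →ₗ[MultCrv.Rn R n] M))
      (fun u hu => (MultCrv.filt R n M i).smul_mem _ hu)
  have hζ : ∀ u, ((ζ u : ↥(MultCrv.filt R n M i)) : M) = MultCrv.z R n • (u : M) := fun u => rfl
  let μ : ↥(MultCrv.filt2 R n M (i + 1)) →ₗ[MultCrv.Rn R n] ↥(MultCrv.filt R n M i) :=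
    LinearMap.codRestrict (MultCrv.filt R n M i)
      ((MultCrv.z R n ^ i) • (MultCrv.filt2 R n M (i + 1)).subtype)
      (fun u => mem_filt.mpr ⟨u, rfl⟩)
  have hμ : ∀ u, ((μ u : ↥(MultCrv.filt R n M i)) : M) = MultCrv.z R n ^ i • (u : M) := fun u => rfl
  have hkerμ : LinearMap.ker μ = Submodule.comap (MultCrv.filt2 R n M (i + 1)).subtype
      (MultCrv.filt2 R n M (i + 1 - 1)) := by
    ext u
    rw [LinearMap.mem_ker, Submodule.mem_comap, Nat.add_sub_cancel, mem_filt2,
      Submodule.subtype_apply, ← hμ]
    exact ⟨fun h => by rw [h]; rfl, fun h => Subtype.ext h⟩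
  have hrangeμ : LinearMap.range μ = LinearMap.ker ζ := by
    ext u
    rw [LinearMap.mem_ker, LinearMap.mem_range]
    constructor
    · rintro ⟨v, rfl⟩
      apply Subtype.ext
      rw [hζ, hμ, smul_smul, ← pow_succ']
      exact mem_filt2.mp v.2
    · intro hu
      obtain ⟨v, hv⟩ := mem_filt.mp u.2
      have hv2 : v ∈ MultCrv.filt2 R n M (i + 1) := by
        rw [mem_filt2, pow_succ', mul_smul, hv, ← hζ, hu]
        rfl
      exact ⟨⟨v, hv2⟩, Subtype.ext (by rw [hμ]; exact hv)⟩
  have hrangeζ : LinearMap.range ζ = Submodule.comap (MultCrv.filt R n M i).subtype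
      (MultCrv.filt R n M (i + 1)) := by
    ext u
    rw [LinearMap.mem_range, Submodule.mem_comap, mem_filt]
    constructor
    · rintro ⟨v, rfl⟩
      obtain ⟨w, hw⟩ := mem_filt.mp v.2
      refine ⟨w, ?_⟩
      rw [Submodule.subtype_apply, hζ, ← hw, pow_succ', mul_smul]
    · rintro ⟨w, hw⟩
      refine ⟨⟨MultCrv.z R n ^ i • w, mem_filt.mpr ⟨w, rfl⟩⟩, Subtype.ext ?_⟩
      rw [Submodule.subtype_apply] at hw
      rw [hζ, ← hw, pow_succ', mul_smul]
  have e1 := finrank_range_add_ker (R := R) μ
  have e2 := finrank_range_add_ker (R := R) ζ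
  have e3 : Module.finrank R (MultCrv.G2 R n M (i + 1)) =
      Module.finrank R ↥(MultCrv.filt2 R n M (i + 1)) -
        Module.finrank R ↥(Submodule.comap (MultCrv.filt2 R n M (i + 1)).subtype
          (MultCrv.filt2 R n M (i + 1 - 1))) := Submodule.finrank_quotient _
  have e4 : Module.finrank R (MultCrv.G1 R n M i) =
      Module.finrank R ↥(MultCrv.filt R n M i) -
        Module.finrank R ↥(Submodule.comap (MultCrv.filt R n M i).subtype
          (MultCrv.filt R n M (i + 1))) := Submodule.finrank_quotient _
  rw [e3, e4, ← hkerμ, ← hrangeζ, ← e1, ← e2, hrangeμ]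
  omega

end Groth.Agent.S17943
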