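import Groth.Statements.S17944
import Mathlib
import Groth.Agent.Helper8.MultCrvGr
open Groth.Agent.Helper8.MC

set_option autoImplicit false
universe u
open MultCrv

namespace Groth.Agent.S17944

/-- Let R be a discrete valuation ring, n ≥ 1, A = R[X]/(X^n) with z the class of X, and M a finitely
generated A-module. Then the graded pieces G_i(M) = z^i M/z^(i+1) M are free R-modules for all 0 ≤ i
< n if and only if the modules Γ^(i)(M) are free R-modules for all 0 ≤ i < n, where Γ^(i)(M) is the
cokernel of the map M^(i+2)/M^(i+1) → M^(i+1)/M^(i) induced by multiplication by z (M^(j) the
elements killed by z^j). (Statement at a closed point P of the sheaf statement on a primitive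
multiple curve of multiplicity n, whose local rings are R[X]/(X^n) with R the local ring of the
reduced smooth curve: the published conditions are local freeness on the reduced curve of the
corresponding sheaves, read here at P; the published statement also asserts that these conditions
are equivalent to the stalk being quasi-free, i.e. isomorphic to a direct sum of modules A/(z^j),
which is not part of this row; stated for every discrete valuation ring R.) -/
theorem result (R : Type u) [CommRing R] [IsDomain R] [IsDiscreteValuationRing R] (n : ℕ) (hn : 1 ≤ n) (M : Type u) [AddCommGroup M] [Module (MultCrv.Rn R n) M] [Module R M] [IsScalarTower R (MultCrv.Rn R n) M] [Module.Finite (MultCrv.Rn R n) M] : (∀ i : ℕ, i < n → Module.Free R (MultCrv.G1 R n M i)) ↔ (∀ i : ℕ, i < n → Module.Free R (MultCrv.Gam2 R n M i)) := by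
  have hfinM : Module.Finite R M := finite_of_tower R n M
  have hnoeth : IsNoetherian R M := isNoetherian_of_isNoetherianRing_of_finite R M
  constructor
  · intro h i hi
    have hfree := h i hi
    -- Gam2 i is finite over R
    have hfin2 : Module.Finite R ↥(filt2 R n M (i + 1)) := finite_submodule (filt2 R n M (i + 1))
    have hfinG2 : Module.Finite R (G2 R n M (i + 1)) :=
      Module.Finite.of_surjective ((Submodule.mkQ _).restrictScalars R) (Submodule.mkQ_surjective _)
    have hfinGam : Module.Finite R (Gam2 R n M i) :=
      Module.Finite.of_surjective ((Submodule.mkQ _).restrictScalars R) (Submodule.mkQ_surjective _)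
    have htf : Module.IsTorsionFree R (Gam2 R n M i) :=
      Function.Injective.moduleIsTorsionFree ((iot R n M i).restrictScalars R)
        (iot_injective R n M i) (fun r x => map_smul ((iot R n M i).restrictScalars R) r x)
    exact Module.free_of_finite_type_torsion_free'
  · intro h
    have key : ∀ k i : ℕ, i + k = n → Module.Free R (G1 R n M i) := by
      intro k
      induction k with
      | zero =>
        intro i hi
        have hi' : i = n := by omega
        subst hi'
        have : Subsingleton ↥(filt R i M i) := by
          refine ⟨fun a b => ?_⟩
          apply Subtype.ext
          obtain ⟨va, hva⟩ := mem_filt.1 a.2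
          obtain ⟨vb, hvb⟩ := mem_filt.1 b.2
          rw [← hva, ← hvb, z_pow_n, zero_smul (Rn R i) va, zero_smul (Rn R i) vb]
        have : Subsingleton (G1 R i M i) := by
          refine ⟨fun a b => ?_⟩
          obtain ⟨a, rfl⟩ := Submodule.Quotient.mk_surjective _ a
          obtain ⟨b, rfl⟩ := Submodule.Quotient.mk_surjective _ b
          rw [Subsingleton.elim a b]
        infer_instance
      | succ k ih =>
        intro i hi
        have h1 : Module.Free R (G1 R n M (i + 1)) := ih (i + 1) (by omega)
        have h2 : Module.Free R (Gam2 R n M i) := h i (by omega)
        exact free_of_exact ((iot R n M i).restrictScalars R) ((zeta R n M i).restrictScalars R)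
          (iot_injective R n M i) (zeta_surjective R n M i)
          (by
            have := range_iot_eq_ker_zeta R n M i
            ext y
            have h3 := SetLike.ext_iff.1 this y
            exact h3)
    intro i hi
    exact key (n - i) i (by omega)

end Groth.Agent.S17944
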