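import Groth.Statements.S17960
import Groth.Agent.Helper1.HensCouple3
import Groth.Agent.Lead.HenselianPair
import Groth.Agent.Lead.ProperFinA
import Groth.Agent.S0002
import Groth.Agent.Helper1.Dev4

set_option autoImplicit false
open CategoryTheory CategoryTheory.Limits AlgebraicGeometry
universe u
open Hensel

namespace Groth.Agent.S17960

/-- Suppose A is a Noetherian ring with an ideal I, and f : X ⟶ Spec A is a proper morphism; write i :
X₀ = X ×_{Spec A} Spec (A/I) ⟶ X for the first projection. Put B = Γ(X, O_X), and take J to be the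
kernel of the restriction B → Γ(X₀, O_{X₀}). Assuming (B, J) is a henselian pair, the couple (X, X₀)
is henselian: given any finite morphism g : Y ⟶ X, each open-closed subset of Y ×_X X₀ arises as the
inverse image, along the first projection, of a unique open-closed subset of Y. -/
theorem result
    (A : Type u) [CommRing A] [IsNoetherianRing A] (I : Ideal A) {X : Scheme.{u}}
    (f : X ⟶ Spec (CommRingCat.of A)) [IsProper f]
    (h : HenselianRing (Γ(X, ⊤) : Type u)
      (RingHom.ker (pullback.fst f (Spec.map (CommRingCat.ofHom (Ideal.Quotient.mk I)))).appTop.hom)) :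
    ∀ (Y : Scheme.{u}) (g : Y ⟶ X), IsFinite g →
      ∀ V : Set ↥(pullback g (pullback.fst f (Spec.map (CommRingCat.ofHom (Ideal.Quotient.mk I))))), IsClopen V →
        ∃! U : Set ↥Y, IsClopen U ∧ (pullback.fst g (pullback.fst f (Spec.map (CommRingCat.ofHom (Ideal.Quotient.mk I))))).base ⁻¹' U = V := by
  classical
  letI : X.Over (Spec (CommRingCat.of A)) := ⟨f⟩
  haveI : IsProper (X ↘ Spec (CommRingCat.of A)) := ‹IsProper f›
  set gI := Spec.map (CommRingCat.ofHom (Ideal.Quotient.mk I)) with hgI
  haveI : IsClosedImmersion gI :=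
    IsClosedImmersion.spec_of_surjective _ Ideal.Quotient.mk_surjective
  set i := pullback.fst f gI with hi
  haveI : IsClosedImmersion i := by rw [hi]; infer_instance
  -- the ring `B = Γ(X, O_X)` and the structure map `φ : A → B`
  let φ : A →+* Γ(X, ⊤) := f.appTop.hom.comp (Scheme.ΓSpecIso (CommRingCat.of A)).inv.hom
  have hfin : φ.Finite := Groth.Agent.Lead.ProperFinA.finite_toGlobal f
    (Groth.Agent.S0002.result A X _ (Groth.Agent.Helper1.Dev.isCoh_structureModule _) 0)
  haveI : IsNoetherianRing Γ(X, ⊤) := by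
    letI := φ.toAlgebra
    haveI : Module.Finite A Γ(X, ⊤) := hfin
    exact IsNoetherianRing.of_finite A Γ(X, ⊤)
  let q : X ⟶ Spec (CommRingCat.of Γ(X, ⊤)) := X.toSpecΓ
  have hφ : CommRingCat.ofHom φ = (Scheme.ΓSpecIso (CommRingCat.of A)).inv ≫ f.appTop := rfl
  have hqf : q ≫ Spec.map (CommRingCat.ofHom φ) = f := by
    rw [hφ, Spec.map_comp]
    change X.toSpecΓ ≫ Spec.map f.appTop ≫ _ = f
    rw [← Scheme.toSpecΓ_naturality_assoc, toSpecΓ_SpecMap_ΓSpecIso_inv, Category.comp_id]
  haveI : IsProper q := by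
    haveI : IsProper (q ≫ Spec.map (CommRingCat.ofHom φ)) := by rw [hqf]; infer_instance
    exact IsProper.of_comp q (Spec.map (CommRingCat.ofHom φ))
  -- `(B, IB)` is henselian
  have hle : I.map φ ≤ RingHom.ker i.appTop.hom := by
    rw [Ideal.map_le_iff_le_comap]
    intro a ha
    rw [Ideal.mem_comap, RingHom.mem_ker]
    have hcond : i ≫ f = pullback.snd f gI ≫ gI := pullback.condition
    have h1 : i.appTop.hom (f.appTop.hom ((Scheme.ΓSpecIso (CommRingCat.of A)).inv.hom a)) =
        (pullback.snd f gI).appTop.hom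
          (gI.appTop.hom ((Scheme.ΓSpecIso (CommRingCat.of A)).inv.hom a)) := by
      have := congrArg (fun k => k.appTop.hom ((Scheme.ΓSpecIso (CommRingCat.of A)).inv.hom a)) hcond
      simpa [Scheme.Hom.comp_appTop] using this
    have h2 : gI.appTop.hom ((Scheme.ΓSpecIso (CommRingCat.of A)).inv.hom a) = 0 := by
      have h3 : (Scheme.ΓSpecIso (CommRingCat.of A)).inv.hom a ∈
          RingHom.ker (gI.app ⊤).hom := by
        rw [Groth.Agent.Helper1.QuotPush.ker_specMap_appTop]
        exact Ideal.mem_map_of_mem _ ha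
      exact h3
    show i.appTop.hom (f.appTop.hom ((Scheme.ΓSpecIso (CommRingCat.of A)).inv.hom a)) = 0
    rw [h1, h2, map_zero]
  haveI : HenselianRing Γ(X, ⊤) (I.map φ) :=
    @Groth.Agent.Lead.henselianRing_of_le _ _ _ _ hle h
  intro Y g hg
  haveI : IsFinite g := hg
  haveI : IsProper (g ≫ q) := inferInstance
  set p := pullback.fst g i with hp
  haveI : IsClosedImmersion p := by rw [hp]; infer_instance
  have hZ : (Spec.map (CommRingCat.ofHom φ)) ⁻¹' PrimeSpectrum.zeroLocus (I : Set A) =
      PrimeSpectrum.zeroLocus ((I.map φ : Ideal Γ(X, ⊤)) : Set Γ(X, ⊤)) := by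
    have := PrimeSpectrum.preimage_comap_zeroLocus φ (I : Set A)
    rw [Ideal.map, PrimeSpectrum.zeroLocus_span]
    exact this
  have hrange : Set.range p =
      (g ≫ q) ⁻¹' PrimeSpectrum.zeroLocus ((I.map φ : Ideal Γ(X, ⊤)) : Set Γ(X, ⊤)) := by
    rw [hp, Scheme.Pullback.range_fst, hi, Scheme.Pullback.range_fst, hgI,
      Groth.Agent.Helper1.HensCouple.range_specMap_mk, ← hZ]
    conv_lhs => rw [← hqf]
    rfl
  intro V hV
  exact Groth.Agent.Helper1.HensCouple.existsUnique_clopen_of_embedding Γ(X, ⊤) (I.map φ) (g ≫ q) p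
    p.isClosedEmbedding hrange V hV

end Groth.Agent.S17960
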