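import Groth.Statements.S17964
import Mathlib
import Groth.Agent.Helper8.ClopSigma

set_option autoImplicit false
open CategoryTheory CategoryTheory.Limits AlgebraicGeometry
universe u
open Hensel

namespace Groth.Agent.S17964

/-- Let (X_j) be a family of schemes indexed by a type ι, with closed immersions i_j : X_{j,0} ⟶ X_j,
and consider the induced morphism of disjoint unions ∐ X_{j,0} ⟶ ∐ X_j. Then the couple (∐ X_j, ∐
X_{j,0}) is henselian (for every finite morphism g : Y ⟶ ∐ X_j, every open-closed subset of the
fibre product of Y with ∐ X_{j,0} is the inverse image under the first projection of exactly one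
open-closed subset of Y) if and only if each couple (X_j, X_{j,0}) is henselian. -/
theorem result {ι : Type u} (X X₀ : ι → Scheme.{u})
    (i : ∀ j, X₀ j ⟶ X j) [∀ j, IsClosedImmersion (i j)] :
    (∀ (Y : Scheme.{u}) (g : Y ⟶ ∐ X), IsFinite g →
      ∀ V : Set ↥(pullback g (Limits.Sigma.map i)), IsClopen V →
        ∃! U : Set ↥Y, IsClopen U ∧ (pullback.fst g (Limits.Sigma.map i)).base ⁻¹' U = V) ↔
    ∀ j : ι, ∀ (Y : Scheme.{u}) (g : Y ⟶ X j), IsFinite g →
      ∀ V : Set ↥(pullback g (i j)), IsClopen V →
        ∃! U : Set ↥Y, IsClopen U ∧ (pullback.fst g (i j)).base ⁻¹' U = V := by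
  haveI := Groth.Agent.Helper8.ClopSigma.isClosedImmersion_sigmaMap X X₀ i
  constructor
  · intro h j Y g hg
    haveI := Groth.Agent.Helper8.ClopSigma.isClosedImmersion_sigmaι X j
    have hL : Groth.Agent.Helper8.ClopLift.Lift (pullback.fst (g ≫ Sigma.ι X j) (Limits.Sigma.map i)).base :=
      h Y (g ≫ Sigma.ι X j) inferInstance
    refine Groth.Agent.Helper8.ClopLift.lift_of_range_eq (Groth.Agent.Helper8.ClopLiftSch.isEmbedding_fst g (i j)) (Scheme.Hom.continuous _) ?_ hL
    rw [Groth.Agent.Helper8.ClopLiftSch.range_fst, Groth.Agent.Helper8.ClopLiftSch.range_fst]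
    ext y
    show (Sigma.ι X j).base (g.base y) ∈ Set.range (Limits.Sigma.map i).base ↔ _
    rw [← Groth.Agent.Helper8.ClopSigma.preimage_range_sigmaMap X X₀ i j]
    rfl
  · intro h Y g hg
    have hemb := Groth.Agent.Helper8.ClopLiftSch.isEmbedding_fst g (Limits.Sigma.map i)
    have hcompat : ∀ j, (pullback.fst (pullback.snd g (Sigma.ι X j)) (i j) ≫
        pullback.fst g (Sigma.ι X j)) ≫ g =
        (pullback.snd (pullback.snd g (Sigma.ι X j)) (i j) ≫ Sigma.ι X₀ j) ≫
          Limits.Sigma.map i := by
      intro j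
      rw [Category.assoc, pullback.condition, ← Category.assoc, pullback.condition,
        Category.assoc, Category.assoc, Limits.Sigma.ι_map]
    refine Groth.Agent.Helper8.ClopSigma.lift_of_partition (pullback.fst g (Limits.Sigma.map i)).base
      (fun j => ↥(pullback g (Sigma.ι X j)))
      (fun j => ↥(pullback (pullback.snd g (Sigma.ι X j)) (i j)))
      (fun j => (pullback.fst g (Sigma.ι X j)).base)
      (fun j => (pullback.fst g (Sigma.ι X j)).isOpenEmbedding) ?_ ?_
      (fun j => (pullback.fst (pullback.snd g (Sigma.ι X j)) (i j)).base)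
      (fun j => (pullback.lift _ _ (hcompat j)).base)
      (fun j => Scheme.Hom.continuous _) ?_ ?_ ?_
    · intro y
      obtain ⟨j, x, hx⟩ := Groth.Agent.Helper8.ClopSigma.exists_sigmaι_eq X (g.base y)
      refine ⟨j, ?_⟩
      rw [Groth.Agent.Helper8.ClopLiftSch.range_fst]
      exact ⟨x, hx⟩
    · intro j k a b hab
      have h1 : (Sigma.ι X j).base ((pullback.snd g (Sigma.ι X j)).base a) =
          (Sigma.ι X k).base ((pullback.snd g (Sigma.ι X k)).base b) := by
        rw [← Scheme.Hom.comp_apply, ← Scheme.Hom.comp_apply, ← pullback.condition,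
          ← pullback.condition, Scheme.Hom.comp_apply, Scheme.Hom.comp_apply]
        exact congrArg g.base hab
      exact Groth.Agent.Helper8.ClopSigma.sigmaι_eq X j k _ _ h1
    · intro j z
      rw [← Scheme.Hom.comp_apply, pullback.lift_fst, Scheme.Hom.comp_apply]
    · intro j x y hxy
      have hy : y ∈ Set.range (pullback.fst (pullback.snd g (Sigma.ι X j)) (i j)).base := by
        rw [Groth.Agent.Helper8.ClopLiftSch.range_fst, ← Groth.Agent.Helper8.ClopSigma.preimage_range_sigmaMap X X₀ i j]
        refine ⟨(pullback.snd g (Limits.Sigma.map i)).base x, ?_⟩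
        rw [← Scheme.Hom.comp_apply, ← pullback.condition, Scheme.Hom.comp_apply]
        show g.base _ = (Sigma.ι X j).base ((pullback.snd g (Sigma.ι X j)).base y)
        rw [← Scheme.Hom.comp_apply (pullback.snd g (Sigma.ι X j)), ← pullback.condition,
          Scheme.Hom.comp_apply]
        exact congrArg g.base hxy
      obtain ⟨z, hz⟩ := hy
      refine ⟨z, ?_, hz⟩
      apply hemb.injective
      rw [← Scheme.Hom.comp_apply, pullback.lift_fst, Scheme.Hom.comp_apply, hz]
      exact hxy.symm
    · intro j
      exact h j _ (pullback.snd g (Sigma.ι X j)) inferInstance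

end Groth.Agent.S17964
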