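import Groth.Statements.S17969
import Mathlib.RingTheory.Adjoin.PowerBasis
import Mathlib.RingTheory.Polynomial.GaussLemma
import Mathlib.RingTheory.Localization.BaseChange
import Mathlib.Tactic

set_option autoImplicit false
universe u
open scoped TensorProduct
open CAlg

namespace Groth.Agent.S17969

/-- Let A be an integrally closed domain with fraction field K and B a commutative A-algebra which is
finite and torsion-free as an A-module and generated as an A-algebra by a single element x. Let P be
the characteristic polynomial of multiplication by 1 ⊗ x on the finite free K-module K ⊗_A B. Then P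
has coefficients in A, namely P is the image of a monic polynomial over A, and the kernel of the
A-algebra map A[T] → B sending T to x is generated by that polynomial, so that B is A[T]/(P). -/
theorem result
    (A : Type u) [CommRing A] [IsDomain A] [IsIntegrallyClosed A]
    (B : Type u) [CommRing B] [Algebra A B] [Module.Finite A B] [NoZeroSMulDivisors A B]
    (x : B) (hx : Algebra.adjoin A {x} = ⊤) :
    ∃ P : Polynomial A, P.Monic ∧
      Polynomial.map (algebraMap A (FractionRing A)) P =
        (LinearMap.mulLeft (FractionRing A) ((1 : FractionRing A) ⊗ₜ[A] x)).charpoly ∧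
      RingHom.ker (Polynomial.aeval x).toRingHom = Ideal.span {P} := by
  classical
  set K := FractionRing A with hK
  set y : K ⊗[A] B := (1 : K) ⊗ₜ[A] x with hy
  -- the inclusion `B → K ⊗ B`
  let ι : B →ₐ[A] K ⊗[A] B := Algebra.TensorProduct.includeRight
  have hιx : ι x = y := rfl
  have hιinj : Function.Injective ι := by
    rw [injective_iff_map_eq_zero]
    intro b hb
    have hloc : IsLocalizedModule (nonZeroDivisors A) (TensorProduct.mk A K B 1) :=
      (isLocalizedModule_iff_isBaseChange (nonZeroDivisors A) K _).mpr
        (TensorProduct.isBaseChange A B K)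
    have hb' : TensorProduct.mk A K B 1 b = 0 := hb
    obtain ⟨c, hc⟩ := (IsLocalizedModule.eq_zero_iff (nonZeroDivisors A) _).mp hb'
    have hc0 : (c : A) ≠ 0 := nonZeroDivisors.ne_zero c.2
    have : (c : A) • b = 0 := hc
    exact (smul_eq_zero.mp this).resolve_left hc0
  -- `aeval` commutes with `ι`
  have haeval : ∀ f : Polynomial A,
      Polynomial.aeval y (f.map (algebraMap A K)) = ι (Polynomial.aeval x f) := by
    intro f
    rw [Polynomial.aeval_map_algebraMap, ← hιx, Polynomial.aeval_algHom_apply]
  -- `y` generates
  have hgen : Algebra.adjoin K {y} = ⊤ := by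
    have := Algebra.TensorProduct.adjoin_one_tmul_image_eq_top (A := K) ({x} : Set B) hx
    simpa using this
  have hyint : IsIntegral K y := Algebra.IsIntegral.isIntegral y
  let pb := PowerBasis.ofAdjoinEqTop hyint hgen
  have hfinrank : Module.finrank K (K ⊗[A] B) = (minpoly K y).natDegree := by
    rw [pb.finrank]; rfl
  -- the characteristic polynomial is the minimal polynomial
  set χ := (LinearMap.mulLeft K y).charpoly with hχ
  have hχmonic : χ.Monic := LinearMap.charpoly_monic _
  have hχdeg : χ.natDegree = (minpoly K y).natDegree := by
    rw [hχ, LinearMap.charpoly_natDegree, hfinrank]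
  have hχy : Polynomial.aeval y χ = 0 := by
    have h1 : Polynomial.aeval (LinearMap.mulLeft K y) χ = 0 := LinearMap.aeval_self_charpoly _
    have h2 : LinearMap.mulLeft K y = Algebra.lmul K (K ⊗[A] B) y := rfl
    rw [h2, Polynomial.aeval_algHom_apply] at h1
    have h3 := congrArg (fun f => f 1) h1
    simpa using h3
  have hχeq : χ = minpoly K y :=
    Polynomial.eq_of_monic_of_dvd_of_natDegree_le (minpoly.monic hyint) hχmonic
      (minpoly.dvd K y hχy) hχdeg.le
  -- an integral equation for `x` over `A`
  obtain ⟨f, hfmonic, hfx⟩ : IsIntegral A x := Algebra.IsIntegral.isIntegral x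
  have hfx' : Polynomial.aeval x f = 0 := by
    rwa [← Polynomial.aeval_def] at hfx
  have hfy : Polynomial.aeval y (f.map (algebraMap A K)) = 0 := by
    rw [haeval, hfx', map_zero]
  have hdvd : minpoly K y ∣ f.map (algebraMap A K) := minpoly.dvd K y hfy
  obtain ⟨P, hP⟩ := IsIntegrallyClosed.eq_map_mul_C_of_dvd K hfmonic hdvd
  have hPmap : P.map (algebraMap A K) = minpoly K y := by
    rw [(minpoly.monic hyint).leadingCoeff, Polynomial.C_1, mul_one] at hP
    exact hP
  have hinjAK : Function.Injective (algebraMap A K) := IsFractionRing.injective A K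
  have hPmonic : P.Monic :=
    Polynomial.monic_of_injective hinjAK (by rw [hPmap]; exact minpoly.monic hyint)
  refine ⟨P, hPmonic, by rw [hPmap, hχeq], ?_⟩
  ext g
  rw [RingHom.mem_ker, Ideal.mem_span_singleton]
  constructor
  · intro hg
    have hg' : Polynomial.aeval x g = 0 := hg
    have hgy : Polynomial.aeval y (g.map (algebraMap A K)) = 0 := by
      rw [haeval, hg', map_zero]
    have h1 : P.map (algebraMap A K) ∣ g.map (algebraMap A K) := by
      rw [hPmap]; exact minpoly.dvd K y hgy
    exact (Polynomial.map_dvd_map _ hinjAK hPmonic).mp h1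
  · rintro ⟨q, rfl⟩
    change Polynomial.aeval x (P * q) = 0
    have hPx : Polynomial.aeval x P = 0 := by
      apply hιinj
      rw [← haeval, hPmap, minpoly.aeval, map_zero]
    rw [map_mul, hPx, zero_mul]

end Groth.Agent.S17969
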