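import Groth.Statements.S1797
import Mathlib
import Groth.Agent.Helper9.CY1
import Groth.Agent.Helper9.CY2
-- import your own Groth.Agent.* helpers here

set_option autoImplicit false
universe u
open LocCoh

namespace Groth.Agent.S1797

/-- Let A be an excellent normal Noetherian local ring (an integrally closed domain) and I an ideal with
dim V(I) ≥ 1, i.e. dim A/I ≥ 1. Then cd(A, I) < dim A: for every A-module M, H^i_I(M) = 0 whenever i
≥ dim A. Moreover, if dim A = 2 then the open subscheme Spec A ∖ V(I) is affine. -/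
theorem result (A : Type u) [CommRing A] [IsDomain A] [IsLocalRing A] [IsNoetherianRing A] [IsIntegrallyClosed A] (hA : EGA4.IsExcellent A) (I : Ideal A) (hI : (1 : WithBot ℕ∞) ≤ ringKrullDim (A ⧸ I)) : (∀ (M : Type u) [AddCommGroup M] [Module A M] (i : ℕ), ringKrullDim A ≤ (i : WithBot ℕ∞) → Subsingleton (LocCoh.H I i M)) ∧ (ringKrullDim A = 2 → AlgebraicGeometry.IsAffine (↑(LocCoh.puncturedOpen A I) : AlgebraicGeometry.Scheme.{u})) := by
  refine ⟨fun M _ _ i hi => Groth.Agent.Helper9.CY1.cd_lt_dim A hA I hI M i hi, fun hdim => ?_⟩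
  apply Groth.Agent.Helper9.CY2.isAffine_puncturedOpen A I
  intro M _ _
  exact Groth.Agent.Helper9.CY1.cd_lt_dim A hA I hI M 2 (by rw [hdim]; rfl)

end Groth.Agent.S1797
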