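import Groth.Statements.S17971
import Mathlib
import Groth.Agent.Helper8.ClopLiftSch
import Groth.Agent.S0521

set_option autoImplicit false
open CategoryTheory CategoryTheory.Limits AlgebraicGeometry
universe u
open Hensel

namespace Groth.Agent.S17971

/-- For a commutative ring A and an ideal I, the pair (A, I) is henselian if and only if the couple
(Spec A, Spec (A/I)) is henselian, i.e. if and only if for every finite morphism g : Y ⟶ Spec A
every open-closed subset of Y ×_{Spec A} Spec (A/I) is the inverse image under the first projection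
of exactly one open-closed subset of Y. -/
theorem result (A : Type u) [CommRing A] (I : Ideal A) :
    HenselianRing A I ↔
    ∀ (Y : Scheme.{u}) (g : Y ⟶ Spec (CommRingCat.of A)), IsFinite g →
      ∀ V : Set ↥(pullback g (Spec.map (CommRingCat.ofHom (Ideal.Quotient.mk I)))), IsClopen V →
        ∃! U : Set ↥Y, IsClopen U ∧ (pullback.fst g (Spec.map (CommRingCat.ofHom (Ideal.Quotient.mk I)))).base ⁻¹' U = V := by
  haveI : IsClosedImmersion (Spec.map (CommRingCat.ofHom (Ideal.Quotient.mk I))) :=
    IsClosedImmersion.spec_of_surjective _ Ideal.Quotient.mk_surjective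
  rw [Groth.Agent.S0521.result]
  constructor
  · intro h Y g hg
    haveI : IsAffine Y := isAffine_of_isAffineHom g
    set φ : CommRingCat.of A ⟶ Γ(Y, ⊤) := (Scheme.ΓSpecIso (CommRingCat.of A)).inv ≫ g.appTop
      with hφ
    have hgφ : Y.isoSpec.hom ≫ Spec.map φ = g := Groth.Agent.Helper8.ClopLiftSch.isoSpec_hom_comp_specMap g
    have hfin : IsFinite (Spec.map φ) := by
      have : IsFinite (Y.isoSpec.hom ≫ Spec.map φ) := by rw [hgφ]; exact hg
      exact (MorphismProperty.cancel_left_of_respectsIso @IsFinite Y.isoSpec.hom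
        (Spec.map φ)).1 this
    rw [IsFinite.SpecMap_iff] at hfin
    letI : Algebra A Γ(Y, ⊤) := φ.hom.toAlgebra
    haveI : Module.Finite A Γ(Y, ⊤) := hfin
    have hB := h Γ(Y, ⊤) inferInstance
    have hL : Groth.Agent.Helper8.ClopLift.Lift (PrimeSpectrum.comap (Ideal.Quotient.mk (I.map φ.hom))) :=
      (Groth.Agent.Helper8.ClopLift.lift_comap_mk_iff _).2 hB
    have hL2 := (Groth.Agent.Helper8.ClopLiftSch.lift_spec_iff A I Γ(Y, ⊤) φ).2 hL
    exact Groth.Agent.Helper8.ClopLiftSch.lift_of_iso g (Spec.map φ) Y.isoSpec hgφ _ hL2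
  · intro h B _ _ hfin
    have hg : IsFinite (Spec.map (CommRingCat.ofHom (algebraMap A B))) := by
      rw [IsFinite.SpecMap_iff]
      exact RingHom.finite_algebraMap.2 hfin
    have hL : Groth.Agent.Helper8.ClopLift.Lift (pullback.fst (Spec.map (CommRingCat.ofHom (algebraMap A B)))
        (Spec.map (CommRingCat.ofHom (Ideal.Quotient.mk I)))).base := h _ _ hg
    have hL2 := (Groth.Agent.Helper8.ClopLiftSch.lift_spec_iff A I (CommRingCat.of B) (CommRingCat.ofHom (algebraMap A B))).1 hL
    exact (Groth.Agent.Helper8.ClopLift.lift_comap_mk_iff _).1 hL2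

end Groth.Agent.S17971
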