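import Groth.Statements.S17972
import Mathlib
import Groth.Agent.Helper1.EssEtHensel

set_option autoImplicit false
universe u
open Hensel

namespace Groth.Agent.S17972

/-- Let A be a henselian local ring with maximal ideal m, let P_1, …, P_n be polynomials over A in n
variables and a₀ ∈ A^n a point with P_i(a₀) ∈ m for all i whose Jacobian determinant
det(∂P_i/∂T_j)(a₀) is a unit of A, i.e. nonzero in the residue field. Then there is a ∈ A^n
congruent to a₀ modulo m in each coordinate with P_i(a) = 0 for all i. -/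
theorem result
    (A : Type u) [CommRing A] [HenselianLocalRing A] (n : ℕ)
    (P : Fin n → MvPolynomial (Fin n) A) (a₀ : Fin n → A)
    (h₀ : ∀ i, MvPolynomial.eval a₀ (P i) ∈ IsLocalRing.maximalIdeal A)
    (hJ : IsUnit (Matrix.of (fun i j => MvPolynomial.eval a₀ (MvPolynomial.pderiv j (P i)))).det) :
    ∃ a : Fin n → A, (∀ i, MvPolynomial.eval a (P i) = 0) ∧
      ∀ j, a j - a₀ j ∈ IsLocalRing.maximalIdeal A := by
  classical
  let I : Ideal (MvPolynomial (Fin n) A) := Ideal.span (Set.range P)
  let C₀ := MvPolynomial (Fin n) A ⧸ I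
  let P₀ : Algebra.PreSubmersivePresentation A C₀ (Fin n) (Fin n) :=
    Algebra.PreSubmersivePresentation.naive (v := P) id Function.injective_id
  let J₀ : C₀ := P₀.jacobian
  let C := Localization.Away J₀
  let Q : Algebra.PreSubmersivePresentation C₀ C Unit Unit :=
    Algebra.PreSubmersivePresentation.localizationAway C J₀
  let PP := Q.comp P₀
  have hunit : IsUnit PP.jacobian := by
    rw [Algebra.PreSubmersivePresentation.comp_jacobian_eq_jacobian_smul_jacobian,
      Algebra.PreSubmersivePresentation.localizationAway_jacobian, Algebra.smul_def]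
    exact (IsLocalization.Away.algebraMap_isUnit J₀).mul (IsLocalization.Away.algebraMap_isUnit J₀)
  let SP : Algebra.SubmersivePresentation A C (Unit ⊕ Fin n) (Unit ⊕ Fin n) := ⟨PP, hunit⟩
  haveI : Algebra.IsStandardSmoothOfRelativeDimension 0 A C :=
    SP.isStandardSmoothOfRelativeDimension (by simp [Algebra.Presentation.dimension])
  haveI : Algebra.Etale A C := inferInstance
  -- the residue point
  let ρ : A →ₐ[A] IsLocalRing.ResidueField A := Algebra.ofId A (IsLocalRing.ResidueField A)
  have hρ : ∀ x, ρ x = IsLocalRing.residue A x := fun x => rfl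
  have hev : ∀ p : MvPolynomial (Fin n) A,
      MvPolynomial.aeval (fun j => IsLocalRing.residue A (a₀ j)) p = IsLocalRing.residue A (MvPolynomial.eval a₀ p) := by
    intro p
    rw [← hρ, ← MvPolynomial.aeval_eq_eval, MvPolynomial.comp_aeval_apply]
    rfl
  let β₀ : C₀ →ₐ[A] IsLocalRing.ResidueField A :=
    Ideal.Quotient.liftₐ I (MvPolynomial.aeval (fun j => IsLocalRing.residue A (a₀ j))) (by
      intro p hp
      induction hp using Submodule.span_induction with
      | mem x hx =>
        obtain ⟨i, rfl⟩ := hx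
        rw [hev]
        exact (IsLocalRing.residue_eq_zero_iff _).mpr (h₀ i)
      | zero => simp
      | add x y _ _ hx hy => rw [map_add, hx, hy, add_zero]
      | smul a x _ hx => rw [smul_eq_mul, map_mul, hx, mul_zero])
  have hβ₀ : ∀ p, β₀ (Ideal.Quotient.mk I p) = IsLocalRing.residue A (MvPolynomial.eval a₀ p) := by
    intro p
    rw [← hev]
    rfl
  have hβJ : IsUnit (β₀ J₀) := by
    have hJ₀ : J₀ = Ideal.Quotient.mk I P₀.jacobiMatrix.det :=
      P₀.jacobian_eq_jacobiMatrix_det
    rw [hJ₀, hβ₀]
    have hdet : MvPolynomial.eval a₀ P₀.jacobiMatrix.det =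
        (Matrix.of (fun i j => MvPolynomial.eval a₀ (MvPolynomial.pderiv j (P i)))).det := by
      rw [RingHom.map_det, ← Matrix.det_transpose]
      congr 1
      ext i j
      change MvPolynomial.eval a₀ (P₀.jacobiMatrix j i) = _
      rw [Algebra.PreSubmersivePresentation.jacobiMatrix_naive]
      rfl
    rw [hdet]
    exact hJ.map (IsLocalRing.residue A)
  let β : C →ₐ[A] IsLocalRing.ResidueField A := IsLocalization.Away.liftAlgHom J₀ (f := β₀) hβJ
  have hβ : ∀ c : C₀, β (algebraMap C₀ C c) = β₀ c := by
    intro c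
    simp [β, IsLocalization.Away.liftAlgHom_apply]
  obtain ⟨χ, hχ⟩ := Groth.Agent.Helper1.EssEt.exists_lift_of_etale (A := A) (C := C) (B := A) β
  let g : Fin n → C := fun j => algebraMap C₀ C (Ideal.Quotient.mk I (MvPolynomial.X j))
  refine ⟨fun j => χ (g j), fun i => ?_, fun j => ?_⟩
  · -- P i vanishes
    have h1 : MvPolynomial.eval (fun j => χ (g j)) (P i) = χ (MvPolynomial.aeval g (P i)) := by
      rw [← MvPolynomial.aeval_eq_eval, MvPolynomial.comp_aeval_apply]
    have h4 : (MvPolynomial.aeval (fun j => (Ideal.Quotient.mk I (MvPolynomial.X j) : C₀)) :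
        MvPolynomial (Fin n) A →ₐ[A] C₀) = Ideal.Quotient.mkₐ A I := by
      apply MvPolynomial.algHom_ext
      intro j
      rw [MvPolynomial.aeval_X]
      rfl
    have h2 : MvPolynomial.aeval g (P i) = algebraMap C₀ C (Ideal.Quotient.mk I (P i)) := by
      have h3 : MvPolynomial.aeval g (P i) =
          (IsScalarTower.toAlgHom A C₀ C) (MvPolynomial.aeval
            (fun j => (Ideal.Quotient.mk I (MvPolynomial.X j) : C₀)) (P i)) := by
        rw [MvPolynomial.comp_aeval_apply]
        rfl
      rw [h3, h4]
      rfl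
    rw [h1, h2]
    have : Ideal.Quotient.mk I (P i) = 0 :=
      Ideal.Quotient.eq_zero_iff_mem.mpr (Ideal.subset_span ⟨i, rfl⟩)
    rw [this, map_zero, map_zero]
  · have h1 := hχ (g j)
    rw [hβ, hβ₀, MvPolynomial.eval_X] at h1
    rw [← IsLocalRing.residue_eq_zero_iff, map_sub, h1, sub_self]

end Groth.Agent.S17972
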