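import Groth.Statements.S17974
import Mathlib
open scoped TensorProduct

set_option autoImplicit false
universe u
open Unram

namespace Groth.Agent.S17974

/-- Let A be a commutative ring, B an unramified A-algebra (formally unramified and of finite type), C
an A-algebra, p a prime ideal of C, and u, v : B → C two A-algebra homomorphisms which agree after
composition with C → C/p. Then there is an element f of C not in p such that u and v agree after
composition with the localization map C → C[1/f]. -/
theorem result
    (A : Type u) [CommRing A] (B : Type u) [CommRing B] [Algebra A B]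
    [Algebra.FormallyUnramified A B] [Algebra.FiniteType A B]
    (C : Type u) [CommRing C] [Algebra A C] (p : Ideal C) [p.IsPrime]
    (u v : B →ₐ[A] C)
    (huv : (Ideal.Quotient.mk p).comp u.toRingHom = (Ideal.Quotient.mk p).comp v.toRingHom) :
    ∃ f : C, f ∉ p ∧
      (algebraMap C (Localization.Away f)).comp u.toRingHom =
        (algebraMap C (Localization.Away f)).comp v.toRingHom := by
  have hJ : ∃ e : B ⊗[A] B, IsIdempotentElem e ∧ KaehlerDifferential.ideal A B = Ideal.span {e} := by
    apply (Ideal.isIdempotentElem_iff_of_fg _ (KaehlerDifferential.ideal_fg A B)).mp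
    apply (Ideal.cotangent_subsingleton_iff _).mp
    exact inferInstanceAs <| Subsingleton Ω[B⁄A]
  obtain ⟨e, he, hJe⟩ := hJ
  let w : B ⊗[A] B →ₐ[A] C := Algebra.TensorProduct.lift u v (fun _ _ => Commute.all _ _)
  have hw : ∀ b b', w (b ⊗ₜ b') = u b * v b' := fun b b' => by simp [w]
  set ε := w e with hε
  have hεid : ε * ε = ε := by rw [hε, ← map_mul, he.eq]
  -- ε ∈ p
  have huv' : ∀ b, Ideal.Quotient.mk p (u b) = Ideal.Quotient.mk p (v b) := fun b =>
    RingHom.congr_fun huv b
  have hcomp : ((Ideal.Quotient.mkₐ A p).comp w) =
      ((Ideal.Quotient.mkₐ A p).comp u).comp (Algebra.TensorProduct.lmul' A) := by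
    apply Algebra.TensorProduct.ext'
    intro b b'
    simp only [AlgHom.comp_apply, hw, Algebra.TensorProduct.lmul'_apply_tmul, map_mul]
    congr 1
    exact (huv' b').symm
  have heJ : e ∈ KaehlerDifferential.ideal A B := by rw [hJe]; exact Ideal.subset_span rfl
  have hεp : ε ∈ p := by
    rw [← Ideal.Quotient.eq_zero_iff_mem]
    have h1 := AlgHom.congr_fun hcomp e
    simp only [AlgHom.comp_apply] at h1
    have h2 : Algebra.TensorProduct.lmul' A e = 0 := heJ
    rw [h2, map_zero, map_zero] at h1
    exact h1
  refine ⟨1 - ε, ?_, ?_⟩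
  · intro h
    have : (1 : C) ∈ p := by
      have := p.add_mem h hεp
      simpa using this
    exact (Ideal.IsPrime.ne_top ‹_›) ((Ideal.eq_top_iff_one p).2 this)
  · -- ε maps to zero in the localization
    have hε0 : algebraMap C (Localization.Away (1 - ε)) ε = 0 := by
      have hunit : IsUnit (algebraMap C (Localization.Away (1 - ε)) (1 - ε)) :=
        IsLocalization.Away.algebraMap_isUnit (1 - ε)
      have : algebraMap C (Localization.Away (1 - ε)) (1 - ε) * algebraMap C (Localization.Away (1 - ε)) ε = 0 := by
        rw [← map_mul, sub_mul, one_mul, hεid, sub_self, map_zero]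
      exact hunit.mul_right_eq_zero.1 this
    ext b
    simp only [RingHom.comp_apply, AlgHom.toRingHom_eq_coe, RingHom.coe_coe]
    rw [← sub_eq_zero, ← map_sub]
    have hmem : (1 : B) ⊗ₜ[A] b - b ⊗ₜ[A] (1 : B) ∈ KaehlerDifferential.ideal A B :=
      KaehlerDifferential.one_smul_sub_smul_one_mem_ideal A b
    rw [hJe, Ideal.mem_span_singleton] at hmem
    obtain ⟨t, ht⟩ := hmem
    have h3 : u b - v b = - (ε * w t) := by
      have := congrArg w ht
      rw [map_sub, hw, hw, map_one, map_one, one_mul, mul_one, map_mul] at this
      rw [← this]; ring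
    rw [h3, map_neg, map_mul, hε0, zero_mul, neg_zero]

end Groth.Agent.S17974
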