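import Groth.Statements.S17975
import Mathlib
open Polynomial

set_option autoImplicit false
universe u
open Hensel

namespace Groth.Agent.S17975

/-- Let A be a local ring with maximal ideal m and residue field k, C a commutative A-algebra which is
finitely generated as an A-module, Q₀ a monic polynomial of degree n over k, e an A-algebra
isomorphism from C/mC to k[T]/(Q₀), and x an element of C whose class is sent by e to the class of
T. Then x generates C as an A-algebra, and x is a root of a monic polynomial Q over A of degree n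
whose reduction modulo m equals Q₀. -/
theorem result
    (A : Type u) [CommRing A] [IsLocalRing A] (C : Type u) [CommRing C] [Algebra A C] [Module.Finite A C]
    (Q₀ : Polynomial (IsLocalRing.ResidueField A)) (hQ₀ : Q₀.Monic)
    (e : (C ⧸ Ideal.map (algebraMap A C) (IsLocalRing.maximalIdeal A)) ≃ₐ[A] AdjoinRoot Q₀)
    (x : C) (hx : e (Ideal.Quotient.mk (Ideal.map (algebraMap A C) (IsLocalRing.maximalIdeal A)) x) = AdjoinRoot.root Q₀) :
    Algebra.adjoin A {x} = ⊤ ∧
      ∃ Q : Polynomial A, Q.Monic ∧ Q.natDegree = Q₀.natDegree ∧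
        Polynomial.map (IsLocalRing.residue A) Q = Q₀ ∧ Polynomial.aeval x Q = 0 := by
  classical
  let 𝔪C : Ideal C := Ideal.map (algebraMap A C) (IsLocalRing.maximalIdeal A)
  set d := Q₀.natDegree with hd
  let ψ : C →ₐ[A] AdjoinRoot Q₀ := (e : (C ⧸ 𝔪C) →ₐ[A] AdjoinRoot Q₀).comp (Ideal.Quotient.mkₐ A 𝔪C)
  have hψx : ψ x = AdjoinRoot.root Q₀ := hx
  have hψ : ∀ P : A[X], ψ (aeval x P) = AdjoinRoot.mk Q₀ (P.map (IsLocalRing.residue A)) := by
    intro P
    rw [← Polynomial.aeval_algHom_apply, hψx, ← AdjoinRoot.aeval_eq]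
    exact (Polynomial.aeval_map_algebraMap (IsLocalRing.ResidueField A) (AdjoinRoot.root Q₀) P).symm
  have hψker : ∀ c : C, ψ c = 0 → c ∈ 𝔪C := by
    intro c hc
    have : e (Ideal.Quotient.mk 𝔪C c) = 0 := hc
    rw [map_eq_zero_iff e e.injective] at this
    exact Ideal.Quotient.eq_zero_iff_mem.1 this
  -- the submodule spanned by low powers
  let Sd : Submodule A C := Submodule.map (aeval x).toLinearMap (Polynomial.degreeLT A d)
  have htop : (⊤ : Submodule A C) ≤ Sd := by
    apply Submodule.le_of_le_smul_of_le_jacobson_bot Module.Finite.fg_top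
      (IsLocalRing.maximalIdeal_le_jacobson ⊥)
    intro c _
    obtain ⟨P₀, hP₀⟩ := AdjoinRoot.mk_surjective (g := Q₀) (ψ c)
    set G₀ := P₀ %ₘ Q₀ with hG₀
    have hG₀mk : AdjoinRoot.mk Q₀ G₀ = ψ c := by
      rw [← hP₀, hG₀, AdjoinRoot.mk_eq_mk]
      have h1 := Polynomial.modByMonic_add_div P₀ Q₀
      have h2 : P₀ %ₘ Q₀ - P₀ = -(Q₀ * (P₀ /ₘ Q₀)) := by
        linear_combination h1
      rw [h2]
      exact (dvd_neg).2 (dvd_mul_right _ _)
    have hG₀deg : G₀.degree < d := by
      have := Polynomial.degree_modByMonic_lt P₀ hQ₀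
      rwa [Polynomial.degree_eq_natDegree hQ₀.ne_zero] at this
    obtain ⟨G, hGmap, hGdeg⟩ := Polynomial.exists_degree_eq_of_mem_lifts
      ((Polynomial.mem_lifts G₀).2 (Polynomial.map_surjective _ IsLocalRing.residue_surjective G₀))
    have hs : aeval x G ∈ Sd := ⟨G, by
      rw [SetLike.mem_coe, Polynomial.mem_degreeLT, hGdeg]; exact hG₀deg, rfl⟩
    have hdiff : c - aeval x G ∈ IsLocalRing.maximalIdeal A • (⊤ : Submodule A C) := by
      rw [Ideal.smul_top_eq_map]
      apply hψker
      rw [map_sub, hψ, hGmap, hG₀mk, sub_self]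
    have : c = aeval x G + (c - aeval x G) := by ring
    rw [this]
    exact Submodule.add_mem_sup hs hdiff
  have hxd : x ^ d ∈ Sd := htop trivial
  obtain ⟨G, hG, hGx⟩ := hxd
  have hGdeg : G.degree < d := Polynomial.mem_degreeLT.1 hG
  have hGx' : aeval x G = x ^ d := hGx
  have hQm : (X ^ d - G : A[X]).Monic := Polynomial.monic_X_pow_sub hGdeg
  have hQdeg : (X ^ d - G : A[X]).natDegree = d := by
    have h1 : (X ^ d - G : A[X]).degree = d := by
      rw [Polynomial.degree_sub_eq_left_of_degree_lt]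
      · exact Polynomial.degree_X_pow d
      · rw [Polynomial.degree_X_pow]; exact hGdeg
    exact Polynomial.natDegree_eq_of_degree_eq_some h1
  refine ⟨?_, X ^ d - G, hQm, ?_, ?_, ?_⟩
  · rw [eq_top_iff]
    intro c _
    obtain ⟨P, _, rfl⟩ := htop (trivial : c ∈ ⊤)
    rw [Algebra.adjoin_singleton_eq_range_aeval]
    exact ⟨P, rfl⟩
  · exact hQdeg
  · have hQbm : (Polynomial.map (IsLocalRing.residue A) (X ^ d - G)).Monic := hQm.map _
    have hdvd : Q₀ ∣ Polynomial.map (IsLocalRing.residue A) (X ^ d - G) := by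
      rw [← AdjoinRoot.mk_eq_zero, ← hψ, map_sub, map_pow, aeval_X, hGx', sub_self, map_zero]
    have hle : (Polynomial.map (IsLocalRing.residue A) (X ^ d - G)).natDegree ≤ Q₀.natDegree := by
      rw [hQm.natDegree_map, hQdeg]
    exact Polynomial.eq_of_monic_of_dvd_of_natDegree_le hQ₀ hQbm hdvd hle
  · rw [map_sub, map_pow, aeval_X, hGx', sub_self]

end Groth.Agent.S17975
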