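import Groth.Statements.S17977
import Mathlib

set_option autoImplicit false
universe u
open EGA4loc

namespace Groth.Agent.S17977

/-- Let A be a local ring, B a local ring which is a local-etale A-algebra, and C a local ring with a
local structure map A → C. Then every A-algebra homomorphism B → C is local. (The source states this
for local ind-etale B, i.e. filtered colimits of local-etale algebras along local maps, and reduces
at once to the local-etale case stated here.) -/
theorem result (A : Type u) [CommRing A] [IsLocalRing A]
    (B : Type u) [CommRing B] [IsLocalRing B] [Algebra A B] (hB : EGA4loc.IsEssentiallyEtale A B)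
    (C : Type u) [CommRing C] [IsLocalRing C] [Algebra A C] [IsLocalHom (algebraMap A C)]
    (φ : B →ₐ[A] C) : IsLocalHom φ.toRingHom := by
  obtain ⟨C₀, _, _, q, hq, het, hcomap, ⟨e⟩⟩ := hB
  -- the localisation
  have hunr : Algebra.FormallyUnramified A (Localization.AtPrime q) := by
    have : Algebra.FormallyUnramified C₀ (Localization.AtPrime q) :=
      Algebra.FormallyUnramified.of_isLocalization q.primeCompl
    exact Algebra.FormallyUnramified.comp A C₀ _
  have hess : Algebra.EssFiniteType A (Localization.AtPrime q) := by
    have : Algebra.EssFiniteType C₀ (Localization.AtPrime q) :=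
      Algebra.EssFiniteType.of_isLocalization _ q.primeCompl
    exact Algebra.EssFiniteType.comp A C₀ _
  have hloc : IsLocalHom (algebraMap A (Localization.AtPrime q)) := by
    constructor
    intro a ha
    by_contra hna
    have ham : a ∈ IsLocalRing.maximalIdeal A := (IsLocalRing.mem_maximalIdeal a).mpr hna
    rw [← hcomap, Ideal.mem_comap] at ham
    have : algebraMap C₀ (Localization.AtPrime q) (algebraMap A C₀ a) ∈
        IsLocalRing.maximalIdeal (Localization.AtPrime q) := by
      rw [IsLocalization.AtPrime.to_map_mem_maximal_iff (Localization.AtPrime q) q]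
      exact ham
    rw [← IsScalarTower.algebraMap_apply] at this
    exact (IsLocalRing.mem_maximalIdeal _).mp this ha
  have hmax := Algebra.FormallyUnramified.map_maximalIdeal (R := A) (S := Localization.AtPrime q)
  -- the composite map
  let ψ : Localization.AtPrime q →ₐ[A] C := φ.comp e.symm.toAlgHom
  have hψ : ∀ x : Localization.AtPrime q, IsUnit (ψ x) → IsUnit x := by
    intro x hx
    by_contra hnx
    have hxm : x ∈ IsLocalRing.maximalIdeal (Localization.AtPrime q) := (IsLocalRing.mem_maximalIdeal x).mpr hnx
    rw [← hmax] at hxm
    have hle : (IsLocalRing.maximalIdeal A).map (algebraMap A (Localization.AtPrime q)) ≤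
        (IsLocalRing.maximalIdeal C).comap ψ.toRingHom := by
      rw [Ideal.map_le_iff_le_comap]
      intro a ha
      rw [Ideal.mem_comap, Ideal.mem_comap]
      change ψ (algebraMap A _ a) ∈ _
      rw [ψ.commutes]
      rw [IsLocalRing.mem_maximalIdeal] at ha ⊢
      intro hu
      exact ha (isUnit_of_map_unit (algebraMap A C) a hu)
    have := hle hxm
    rw [Ideal.mem_comap] at this
    exact (IsLocalRing.mem_maximalIdeal _).mp this hx
  constructor
  intro b hb
  have h1 : IsUnit (e b) := by
    apply hψ
    change IsUnit (φ (e.symm (e b)))
    rw [e.symm_apply_apply]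
    exact hb
  have := h1.map e.symm.toAlgHom
  simpa using this

end Groth.Agent.S17977
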