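import Groth.Statements.S17978
import Mathlib
import Groth.Agent.S17974

set_option autoImplicit false
universe u
open EGA4loc

namespace Groth.Agent.S17978

/-- Let A be a local ring, B a local ring which is a local-etale A-algebra, and C a local ring with a
local structure map A → C. Then two A-algebra homomorphisms B → C which agree after composition with
the residue map of C are equal; in other words an A-algebra map B → C is determined by the map it
induces on residue fields. (The source states this for local ind-etale B and reduces to the
local-etale case stated here; C is an arbitrary local A-algebra with local structure map.) -/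
theorem result (A : Type u) [CommRing A] [IsLocalRing A]
    (B : Type u) [CommRing B] [IsLocalRing B] [Algebra A B] (hB : EGA4loc.IsEssentiallyEtale A B)
    (C : Type u) [CommRing C] [IsLocalRing C] [Algebra A C] [IsLocalHom (algebraMap A C)]
    (u v : B →ₐ[A] C)
    (h : (IsLocalRing.residue C).comp u.toRingHom = (IsLocalRing.residue C).comp v.toRingHom) :
    u = v := by
  obtain ⟨D, _, _, q, _, hDet, hq, ⟨eq⟩⟩ := hB
  let ι : D →ₐ[A] B := (eq.symm : Localization.AtPrime q →ₐ[A] B).comp
    (IsScalarTower.toAlgHom A D (Localization.AtPrime q))
  have hfu : Algebra.FormallyUnramified A D := inferInstance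
  have hft : Algebra.FiniteType A D := inferInstance
  have hcomp : (Ideal.Quotient.mk (IsLocalRing.maximalIdeal C)).comp (u.comp ι).toRingHom =
      (Ideal.Quotient.mk (IsLocalRing.maximalIdeal C)).comp (v.comp ι).toRingHom := by
    ext d
    exact RingHom.congr_fun h (ι d)
  obtain ⟨f, hf, hfeq⟩ := Groth.Agent.S17974.result A D C (IsLocalRing.maximalIdeal C)
    (u.comp ι) (v.comp ι) hcomp
  have hfu : IsUnit f := by
    by_contra hnu
    exact hf ((IsLocalRing.mem_maximalIdeal f).2 hnu)
  have hinj : Function.Injective (algebraMap C (Localization.Away f)) := by
    apply IsLocalization.injective (M := Submonoid.powers f)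
    intro x hx
    obtain ⟨k, rfl⟩ := hx
    exact (hfu.pow k).mem_nonZeroDivisors
  have hD : ∀ d : D, u (ι d) = v (ι d) := by
    intro d
    apply hinj
    exact RingHom.congr_fun hfeq d
  -- extend to the localization
  have h2 : (u.toRingHom.comp (eq.symm : Localization.AtPrime q →ₐ[A] B).toRingHom) =
      (v.toRingHom.comp (eq.symm : Localization.AtPrime q →ₐ[A] B).toRingHom) := by
    apply IsLocalization.ringHom_ext q.primeCompl
    ext d
    exact hD d
  ext b
  have := RingHom.congr_fun h2 (eq b)
  simpa using this

end Groth.Agent.S17978
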