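import Groth.Statements.S17981
import Mathlib

set_option autoImplicit false
universe u
open Hensel

namespace Groth.Agent.S17981

/-- Let A be a commutative ring, I an ideal contained in the Jacobson radical of A, and B a commutative
A-algebra which is finitely generated as an A-module. Then two idempotents of B with the same image
in B/IB are equal. -/
theorem result (A : Type u) [CommRing A] (I : Ideal A)
    (hI : I ≤ Ideal.jacobson ⊥) (B : Type u) [CommRing B] [Algebra A B] [Module.Finite A B] :
    Set.InjOn (Ideal.Quotient.mk (Ideal.map (algebraMap A B) I)) {e : B | IsIdempotentElem e} := by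
  intro e he e' he' hee
  have he : e * e = e := he
  have he' : e' * e' = e' := he'
  -- IB ≤ jacobson ⊥
  have hJ : Ideal.map (algebraMap A B) I ≤ Ideal.jacobson (⊥ : Ideal B) := by
    rw [Ideal.map_le_iff_le_comap]
    intro a ha
    rw [Ideal.mem_comap, Ideal.jacobson, Ideal.mem_sInf]
    intro 𝔫 h𝔫
    have hmax : 𝔫.IsMaximal := h𝔫.2
    have hint : Algebra.IsIntegral A B := inferInstance
    have hcm : (Ideal.comap (algebraMap A B) 𝔫).IsMaximal :=
      Ideal.isMaximal_comap_of_isIntegral_of_isMaximal (R := A) 𝔫
    have : a ∈ Ideal.comap (algebraMap A B) 𝔫 := by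
      have h1 : a ∈ Ideal.jacobson (⊥ : Ideal A) := hI ha
      rw [Ideal.jacobson, Ideal.mem_sInf] at h1
      exact h1 ⟨bot_le, hcm⟩
    exact this
  have hx : e - e' ∈ Ideal.jacobson (⊥ : Ideal B) := hJ (Ideal.Quotient.eq.1 hee)
  set x := e - e' with hxdef
  have hcube : x * (1 - x * x) = 0 := by
    have h3 : x * x * x = x := by
      have : x * x * x = e * e * e - 3 * (e * e) * e' + 3 * e * (e' * e') - e' * e' * e' := by
        rw [hxdef]; ring
      rw [this, he, he, he', he', hxdef]
      ring_nf
    calc x * (1 - x * x) = x - x * x * x := by ring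
      _ = 0 := by rw [h3, sub_self]
  have hunit : IsUnit (1 - x * x) := by
    have hxx : x * x ∈ Ideal.jacobson (⊥ : Ideal B) := Ideal.mul_mem_left _ _ hx
    have := (Ideal.mem_jacobson_bot.1 hxx) (-1)
    simpa [sub_eq_neg_add, add_comm] using this
  have : x = 0 := by
    have := hunit.mul_left_eq_zero.1 hcube
    exact this
  exact sub_eq_zero.1 this

end Groth.Agent.S17981
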