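import Groth.Statements.S18015
import Mathlib
-- import your own Groth.Agent.* helpers here

set_option autoImplicit false
universe u
open CategoryTheory
open Coh

namespace Groth.Agent.S18015

/-- Let A be a Noetherian commutative ring and F an additive functor from A-modules to A-modules which
is half-exact, i.e. for every short exact sequence 0 → M' → M → M'' → 0 the sequence F(M') → F(M) →
F(M'') is exact at F(M). Then F(M) is a finitely generated A-module for every finitely generated
A-module M if and only if F(A/p) is a finitely generated A-module for every prime ideal p of A. (The
published statement takes F from quasi-coherent sheaves on Spec A to abelian groups, with A acting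
on each F(M) through F; this row allows any additive functor between A-module categories, A-linear
or not, and the same argument applies, since it uses only that each map F(f) is A-linear.) -/
theorem result {A : Type u} [CommRing A] [IsNoetherianRing A]
    (F : ModuleCat.{u} A ⥤ ModuleCat.{u} A) [F.Additive]
    (hF : ∀ S : ShortComplex (ModuleCat.{u} A), S.ShortExact → (S.map F).Exact) :
    (∀ M : ModuleCat.{u} A, Module.Finite A M → Module.Finite A (F.obj M)) ↔
      ∀ p : PrimeSpectrum A, Module.Finite A (F.obj (ModuleCat.of A (A ⧸ p.asIdeal))) := by
  constructor
  · intro h p
    exact h _ (inferInstanceAs (Module.Finite A (A ⧸ p.asIdeal)))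
  · intro h M hM
    have key : ∀ (N : Type u) [AddCommGroup N] [Module A N] [Module.Finite A N],
        Module.Finite A (F.obj (ModuleCat.of A N)) := by
      intro N _ _ hN
      refine IsNoetherianRing.induction_on_isQuotientEquivQuotientPrime A hN
        (motive := fun N _ _ _ => Module.Finite A (F.obj (ModuleCat.of A N))) ?_ ?_ ?_
      · intro N _ _ _ _
        have hz : Limits.IsZero (ModuleCat.of A N) := ModuleCat.isZero_of_subsingleton _
        have hz' : Limits.IsZero (F.obj (ModuleCat.of A N)) := F.map_isZero hz
        have := ModuleCat.subsingleton_of_isZero hz'
        infer_instance
      · intro N _ _ _ p e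
        have i : F.obj (ModuleCat.of A N) ≅ F.obj (ModuleCat.of A (A ⧸ p.asIdeal)) :=
          F.mapIso e.toModuleIso
        have := h p
        exact Module.Finite.equiv i.toLinearEquiv.symm
      · intro N₁ _ _ _ N₂ _ _ _ N₃ _ _ _ f g hf hg hfg h₁ h₃
        let S : ShortComplex (ModuleCat.{u} A) :=
          ShortComplex.mk (ModuleCat.ofHom f) (ModuleCat.ofHom g)
            (by ext x; exact hfg.apply_apply_eq_zero x)
        have hS : S.ShortExact := by
          refine ShortComplex.ShortExact.mk' ?_ ?_ ?_
          · rw [ShortComplex.ShortExact.moduleCat_exact_iff_function_exact]
            exact hfg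
          · exact (ModuleCat.mono_iff_injective _).2 hf
          · exact (ModuleCat.epi_iff_surjective _).2 hg
        have hE := hF S hS
        rw [ShortComplex.ShortExact.moduleCat_exact_iff_function_exact] at hE
        change Function.Exact (F.map (ModuleCat.ofHom f)).hom (F.map (ModuleCat.ofHom g)).hom at hE
        -- restrict the codomain to the range
        set G := (F.map (ModuleCat.ofHom g)).hom with hG
        have hE' : Function.Exact (F.map (ModuleCat.ofHom f)).hom G.rangeRestrict := by
          intro y
          rw [← hE y]
          constructor
          · intro hy
            exact congrArg Subtype.val hy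
          · intro hy
            exact Subtype.ext hy
        have : Module.Finite A (F.obj (ModuleCat.of A N₁)) := h₁
        have : Module.Finite A (F.obj (ModuleCat.of A N₃)) := h₃
        have : IsNoetherian A (F.obj (ModuleCat.of A N₃)) := isNoetherian_of_isNoetherianRing_of_finite A _
        have : Module.Finite A (LinearMap.range G) := Module.Finite.of_fg (IsNoetherian.noetherian _)
        exact Module.Finite.of_exact hE' G.surjective_rangeRestrict
    have e : M ≅ ModuleCat.of A M := Iso.refl _
    exact key M

end Groth.Agent.S18015
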