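import Groth.Statements.S18019
import Mathlib
-- import your own Groth.Agent.* helpers here

set_option autoImplicit false
universe u
open ClassStk

namespace Groth.Agent.S18019

open Polynomial

theorem key (R : Type u) [CommRing R] [IsDomain R] [CharP R 2] (a : R) (ha : a ≠ 0) :
    ∀ (n : ℕ) (f : Polynomial R), f.natDegree = n → f.comp (X + C a) = f →
      f ∈ Algebra.adjoin R ({X * (X + C a)} : Set (Polynomial R)) := by
  have h2 : (2 : R) = 0 := by
    have := CharP.cast_eq_zero R 2
    exact_mod_cast this
  set u : Polynomial R := X * (X + C a) with hu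
  have hu_monic : u.Monic := by
    rw [hu]; exact (monic_X).mul (monic_X_add_C a)
  have hu_deg : u.natDegree = 2 := by
    rw [hu, natDegree_mul X_ne_zero (X_add_C_ne_zero a), natDegree_X, natDegree_X_add_C]
  have hu_comp : u.comp (X + C a) = u := by
    rw [hu, mul_comp, X_comp, add_comp, X_comp, C_comp]
    have : (C a + C a : Polynomial R) = 0 := by
      rw [← C_add, ← two_mul, h2, zero_mul, C_0]
    linear_combination (X + C a) * this
  have hdegXa : (X + C a : Polynomial R).natDegree = 1 := natDegree_X_add_C a
  intro n
  induction n using Nat.strong_induction_on with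
  | _ n ih =>
    intro f hfn hf
    set q := f /ₘ u with hq
    set r := f %ₘ u with hr
    have hfqr : r + u * q = f := modByMonic_add_div f u
    have hrdeg : r.degree < u.degree := degree_modByMonic_lt f hu_monic
    have hrnat : r.natDegree < 2 := by
      by_cases hr0 : r = 0
      · rw [hr0]; simp
      · rw [← hu_deg]; exact natDegree_lt_natDegree hr0 hrdeg
    -- comp
    have hcomp : r.comp (X + C a) + u * q.comp (X + C a) = f := by
      conv_rhs => rw [← hf, ← hfqr]
      rw [add_comp, mul_comp, hu_comp]
    have hrcdeg : (r.comp (X + C a)).degree < u.degree := by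
      have h1 : (r.comp (X + C a)).natDegree < 2 := by
        rw [natDegree_comp, hdegXa, mul_one]; exact hrnat
      by_cases h0 : r.comp (X + C a) = 0
      · rw [h0, degree_zero]; exact bot_lt_iff_ne_bot.2 (degree_ne_bot.2 hu_monic.ne_zero)
      · rw [degree_eq_natDegree h0, degree_eq_natDegree hu_monic.ne_zero, hu_deg]
        exact_mod_cast h1
    obtain ⟨hq', hr'⟩ := div_modByMonic_unique (q.comp (X + C a)) (r.comp (X + C a)) hu_monic
      ⟨hcomp, hrcdeg⟩
    rw [← hq] at hq'
    rw [← hr] at hr'
    -- r is constant
    have hrle : r.degree ≤ 1 := degree_le_of_natDegree_le (n := 1) (by omega)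
    obtain ⟨c0, c1, hr_eq⟩ : ∃ c0 c1 : R, r = C c1 * X + C c0 :=
      ⟨_, _, eq_X_add_C_of_degree_le_one hrle⟩
    have hr1 : c1 = 0 := by
      have h3 : r.comp (X + C a) = r + C (c1 * a) := by
        rw [hr_eq]
        simp only [add_comp, mul_comp, C_comp, X_comp, C_mul]
        ring
      have h4 : C (c1 * a) = 0 := by
        have : r + C (c1 * a) = r := by rw [← h3]; exact hr'.symm
        exact add_eq_left.mp this
      have h5 : c1 * a = 0 := C_eq_zero.1 h4
      rcases mul_eq_zero.1 h5 with h | h
      · exact h
      · exact absurd h ha
    have hr_const : r = C c0 := by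
      rw [hr_eq, hr1]
      simp
    have hr_mem : r ∈ Algebra.adjoin R ({u} : Set (Polynomial R)) := by
      rw [hr_const]; exact Subalgebra.algebraMap_mem _ _
    have hu_mem : u ∈ Algebra.adjoin R ({u} : Set (Polynomial R)) :=
      Algebra.subset_adjoin rfl
    -- q
    have hq_mem : q ∈ Algebra.adjoin R ({u} : Set (Polynomial R)) := by
      by_cases hlt : f.natDegree < 2
      · have : q = 0 := by
          rw [hq, divByMonic_eq_zero_iff hu_monic]
          by_cases hf0 : f = 0
          · rw [hf0, degree_zero]; exact bot_lt_iff_ne_bot.2 (degree_ne_bot.2 hu_monic.ne_zero)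
          · rw [degree_eq_natDegree hf0, degree_eq_natDegree hu_monic.ne_zero, hu_deg]
            exact_mod_cast hlt
        rw [this]; exact zero_mem _
      · have hqd : q.natDegree = f.natDegree - 2 := by
          rw [hq, natDegree_divByMonic f hu_monic, hu_deg]
        exact ih q.natDegree (by omega) q rfl hq'.symm
    rw [← hfqr]
    exact add_mem hr_mem (mul_mem hu_mem hq_mem)

open Polynomial in
/-- Let R be an integral domain of characteristic 2 and let a be a nonzero element of R, so that x ↦ x +
a defines an R-algebra involution of the polynomial ring R[x] (an action of the group of order two).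
A polynomial f is invariant, f(x + a) = f(x), if and only if f belongs to the R-subalgebra generated
by u = x (x + a); in other words the ring of invariants is the polynomial ring R[u]. -/
theorem result (R : Type u) [CommRing R] [IsDomain R]
    [CharP R 2] (a : R) (ha : a ≠ 0) (f : Polynomial R) :
    f.comp (X + C a) = f ↔ f ∈ Algebra.adjoin R ({X * (X + C a)} : Set (Polynomial R)) := by
  constructor
  · intro hf
    exact key R a ha f.natDegree f rfl hf
  · intro hf
    have h2 : (2 : R) = 0 := by
      have := CharP.cast_eq_zero R 2
      exact_mod_cast this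
    induction hf using Algebra.adjoin_induction with
    | mem x hx =>
      rw [Set.mem_singleton_iff] at hx
      rw [hx, mul_comp, X_comp, add_comp, X_comp, C_comp]
      have : (C a + C a : Polynomial R) = 0 := by
        rw [← C_add, ← two_mul, h2, zero_mul, C_0]
      linear_combination (X + C a) * this
    | algebraMap r => exact C_comp
    | add x y _ _ hx hy => rw [add_comp, hx, hy]
    | mul x y _ _ hx hy => rw [mul_comp, hx, hy]

end Groth.Agent.S18019
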