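import Groth.Statements.S1802
import Groth.Agent.Helper1.PuncAff
import Groth.Agent.Helper1.LocCohBasic
import Groth.Agent.S0356
import Groth.Agent.S0009

set_option autoImplicit false
universe u
open AlgebraicGeometry
open LocCoh

namespace Groth.Agent.S1802

/-- For a Noetherian ring. Let I be an ideal of a Noetherian ring A with cd(A, I) = 1, i.e. H^i_I(M) = 0
for all modules M and all i ≥ 2 but H^1_I(M) ≠ 0 for some M. Then the open subscheme Spec A minus
V(I) is nonempty and affine. -/
theorem result (A : Type u) [CommRing A] [IsNoetherianRing A] (I : Ideal A) (h1 : LocCoh.CdLE A I 1) (h0 : ¬ LocCoh.CdLE A I 0) : Nonempty (↑(LocCoh.puncturedOpen A I) : Scheme.{u}) ∧ IsAffine (↑(LocCoh.puncturedOpen A I) : Scheme.{u}) := by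
  classical
  haveI : QuasiCompact (LocCoh.puncturedOpen A I).ι := inferInstance
  haveI : CompactSpace ((LocCoh.puncturedOpen A I : (Spec (CommRingCat.of A)).Opens) : Scheme.{u}) :=
    QuasiCompact.compactSpace_of_compactSpace (LocCoh.puncturedOpen A I).ι
  refine ⟨?_, ?_⟩
  · -- nonempty
    by_contra hne
    apply h0
    intro M _ _ i hi
    have hI : I ≤ nilradical A := by
      rw [nilradical_eq_sInf]
      intro a ha
      rw [Ideal.mem_sInf]
      intro p hp
      by_contra hap
      apply hne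
      refine ⟨⟨(⟨p, hp⟩ : PrimeSpectrum A), ?_⟩⟩
      change (⟨p, hp⟩ : PrimeSpectrum A) ∉ PrimeSpectrum.zeroLocus ((I : Ideal A) : Set A)
      rw [PrimeSpectrum.mem_zeroLocus]
      intro hsub
      exact hap (hsub ha)
    obtain ⟨n, hn⟩ : ∃ n : ℕ, I ^ n = ⊥ := by
      obtain ⟨n, hn⟩ := IsNoetherianRing.isNilpotent_nilradical A
      refine ⟨n, ?_⟩
      rw [eq_bot_iff, ← Ideal.zero_eq_bot, ← hn]
      exact Ideal.pow_right_mono hI n
    obtain ⟨j, rfl⟩ : ∃ j, i = j + 1 := ⟨i - 1, by omega⟩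
    have hz := Groth.Agent.Helper1.LocCohDelta.isZero_lc_of_isTors I j (ModuleCat.of A M)
      (fun x => ⟨n, fun a ha => by
        rw [hn, Ideal.mem_bot] at ha
        rw [ha, zero_smul]⟩)
    exact ModuleCat.subsingleton_of_isZero hz
  · apply Groth.Agent.S0009.result
    intro N i hi hN
    haveI : N.IsQuasicoherent := hN
    obtain ⟨M, ⟨e⟩⟩ := Groth.Agent.Helper1.PuncAff.exists_iso_restrict_tilde A
      (LocCoh.puncturedOpen A I) N
    obtain ⟨e1⟩ := Groth.Agent.Helper1.PuncAff.nonempty_HH_equiv e 1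
    obtain ⟨e2⟩ := Groth.Agent.S0356.result A I M 1 le_rfl
    haveI : Subsingleton (LocCoh.H I (1 + 1) M) := h1 M 2 (by norm_num)
    exact (e1.trans e2).toEquiv.subsingleton

end Groth.Agent.S1802
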