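import Groth.Statements.S18040
import Mathlib
-- import your own Groth.Agent.* helpers here

set_option autoImplicit false
universe u
open AdjLin

namespace Groth.Agent.S18040

/-- Let k be an algebraically closed field of characteristic zero and Z a finite set of points of
projective 3-space over k, realised as points of the projectivization of k⁴, a homogeneous form in
four variables being evaluated at the chosen representative of a point (its vanishing does not
depend on the choice). Suppose Z has the Cayley–Bacharach property in degree n: every form of degree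
n vanishing at all points of Z but one vanishes at that point as well. Then for every m ≤ n, either
there is a nonzero form of degree n − m vanishing at every point of Z, or the rank of the evaluation
map from forms of degree m to functions on Z is at most the number of points of Z minus the
dimension of the space of forms of degree n − m. -/
theorem result (k : Type u) [Field k] [IsAlgClosed k] [CharZero k]
    (Z : Finset (Projectivization k (Fin 4 → k))) (n : ℕ)
    (hCB : (∀ z ∈ Z, ∀ p : MvPolynomial (Fin 4) k, p.IsHomogeneous n →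
      (∀ z' ∈ Z, z' ≠ z → MvPolynomial.eval z'.rep p = 0) → MvPolynomial.eval z.rep p = 0))
    (m : ℕ) (hm : m ≤ n) :
    (∃ s : MvPolynomial (Fin 4) k, s.IsHomogeneous (n - m) ∧ s ≠ 0 ∧ ∀ z ∈ Z, MvPolynomial.eval z.rep s = 0) ∨
      Module.finrank k (LinearMap.range
          ((LinearMap.pi fun z : ↥Z => (MvPolynomial.aeval (R := k) z.1.rep).toLinearMap) ∘ₗ
            (MvPolynomial.homogeneousSubmodule (Fin 4) k m).subtype)) +
        Module.finrank k ↥(MvPolynomial.homogeneousSubmodule (Fin 4) k (n - m)) ≤ Z.card := by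
  classical
  by_cases hex : ∃ s : MvPolynomial (Fin 4) k, s.IsHomogeneous (n - m) ∧ s ≠ 0 ∧
      ∀ z ∈ Z, MvPolynomial.eval z.rep s = 0
  · exact Or.inl hex
  right
  push Not at hex
  let V := ↥Z → k
  let ev : ∀ d, ↥(MvPolynomial.homogeneousSubmodule (Fin 4) k d) →ₗ[k] V := fun d =>
    (LinearMap.pi fun z : ↥Z => (MvPolynomial.aeval (R := k) z.1.rep).toLinearMap) ∘ₗ
      (MvPolynomial.homogeneousSubmodule (Fin 4) k d).subtype
  have hev : ∀ d (p : ↥(MvPolynomial.homogeneousSubmodule (Fin 4) k d)) (z : ↥Z),
      ev d p z = MvPolynomial.eval z.1.rep p.1 := by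
    intro d p z
    show (MvPolynomial.aeval (R := k) z.1.rep) p.1 = MvPolynomial.eval z.1.rep p.1
    rw [MvPolynomial.aeval_eq_eval]
  have hinj : Function.Injective (ev (n - m)) := by
    rw [← LinearMap.ker_eq_bot, LinearMap.ker_eq_bot']
    intro s hs
    by_contra hne
    obtain ⟨z, hz, hzne⟩ := hex s.1 ((MvPolynomial.mem_homogeneousSubmodule _ _).mp s.2)
      (fun h => hne (Subtype.ext h))
    apply hzne
    have := congrFun hs ⟨z, hz⟩
    rw [hev] at this
    exact this
  have hez : ∀ z : ↥Z, (Pi.single z 1 : V) ∉ LinearMap.range (ev n) := by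
    rintro z ⟨p, hp⟩
    have h1 : MvPolynomial.eval z.1.rep p.1 = 0 :=
      hCB z.1 z.2 p.1 ((MvPolynomial.mem_homogeneousSubmodule _ _).mp p.2) (fun z' hz' hne => by
        have := congrFun hp ⟨z', hz'⟩
        rw [hev, Pi.single_eq_of_ne (fun h => hne (congrArg Subtype.val h))] at this
        exact this)
    have h2 := congrFun hp z
    rw [hev, Pi.single_eq_same, h1] at h2
    exact zero_ne_one h2
  let Ann : Submodule k (Module.Dual k V) := (LinearMap.range (ev n)).dualAnnihilator
  let F : ↥Z → Module.Dual k ↥Ann := fun z =>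
    (Module.Dual.eval k V (Pi.single z 1)) ∘ₗ Ann.subtype
  have hF : ∀ z : ↥Z, ∃ x : ↥Ann, F z x ≠ 0 := by
    intro z
    obtain ⟨f, hfv, hpf⟩ := Submodule.exists_le_ker_of_notMem (hez z)
    exact ⟨⟨f, (Submodule.mem_dualAnnihilator f).mpr (fun w hw => hpf hw)⟩, hfv⟩
  obtain ⟨lam, hlam⟩ := Module.Dual.exists_forall_ne_zero_of_forall_exists (K := k) (M := ↥Ann) F hF
  have hlam' : ∀ z : ↥Z, (lam : Module.Dual k V) (Pi.single z 1) ≠ 0 := hlam
  have hlamW : ∀ w ∈ LinearMap.range (ev n), (lam : Module.Dual k V) w = 0 :=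
    (Submodule.mem_dualAnnihilator _).mp lam.2
  let Ψ : V →ₗ[k] Module.Dual k V :=
    (LinearMap.llcomp k V V k (lam : Module.Dual k V)) ∘ₗ (LinearMap.mul k V)
  have hΨ : ∀ g f : V, Ψ g f = (lam : Module.Dual k V) (g * f) := fun g f => rfl
  have hΨinj : Function.Injective Ψ := by
    rw [← LinearMap.ker_eq_bot, LinearMap.ker_eq_bot']
    intro g hg
    funext z
    have h1 : Ψ g (Pi.single z 1) = 0 := by rw [hg]; rfl
    rw [hΨ] at h1
    have h2 : g * (Pi.single z 1 : V) = g z • (Pi.single z 1 : V) := by
      funext z'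
      show g z' * (Pi.single z (1 : k) : ↥Z → k) z' = g z * (Pi.single z (1 : k) : ↥Z → k) z'
      by_cases h : z' = z
      · subst h; rfl
      · rw [Pi.single_eq_of_ne h, mul_zero, mul_zero]
    rw [h2, map_smul, smul_eq_mul] at h1
    exact (mul_eq_zero.mp h1).resolve_right (hlam' z)
  have hmap : Submodule.map Ψ (LinearMap.range (ev (n - m))) ≤
      (LinearMap.range (ev m)).dualAnnihilator := by
    rintro _ ⟨_, ⟨q, rfl⟩, rfl⟩
    rw [Submodule.mem_dualAnnihilator]
    rintro _ ⟨p, rfl⟩
    rw [hΨ]
    apply hlamW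
    have hqp : q.1 * p.1 ∈ MvPolynomial.homogeneousSubmodule (Fin 4) k n := by
      rw [MvPolynomial.mem_homogeneousSubmodule]
      have := ((MvPolynomial.mem_homogeneousSubmodule _ _).mp q.2).mul
        ((MvPolynomial.mem_homogeneousSubmodule _ _).mp p.2)
      rwa [Nat.sub_add_cancel hm] at this
    refine ⟨⟨q.1 * p.1, hqp⟩, ?_⟩
    funext z
    rw [hev, Pi.mul_apply, hev, hev, map_mul]
  have h1 : Module.finrank k ↥(LinearMap.range (ev (n - m))) =
      Module.finrank k ↥(MvPolynomial.homogeneousSubmodule (Fin 4) k (n - m)) :=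
    LinearMap.finrank_range_of_inj hinj
  have h2 : Module.finrank k ↥(Submodule.map Ψ (LinearMap.range (ev (n - m)))) =
      Module.finrank k ↥(LinearMap.range (ev (n - m))) :=
    (Submodule.equivMapOfInjective Ψ hΨinj _).finrank_eq.symm
  have h3 := Submodule.finrank_mono hmap
  have h4 := Subspace.finrank_add_finrank_dualAnnihilator_eq (LinearMap.range (ev m))
  have h5 : Module.finrank k V = Z.card := by
    rw [Module.finrank_fintype_fun_eq_card, Fintype.card_coe]
  show Module.finrank k ↥(LinearMap.range (ev m)) + _ ≤ _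
  omega

end Groth.Agent.S18040
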