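import Groth.Statements.S18049
import Mathlib.Tactic
-- import your own Groth.Agent.* helpers here

set_option autoImplicit false
open STCI

namespace Groth.Agent.S18049

/-- For natural numbers 0 < k < N such that k does not divide N, ⌊N/k⌋ ≤ (N - k)/gcd(k, N); stated here
in the equivalent cleared form ⌊N/k⌋ · gcd(k, N) ≤ N - k. -/
theorem result (k N : ℕ) (hk : 0 < k) (hkN : k < N) (hndvd : ¬ k ∣ N) :
    N / k * Nat.gcd k N ≤ N - k := by
  set g := Nat.gcd k N with hg
  have hgk : g ∣ k := Nat.gcd_dvd_left k N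
  have hgN : g ∣ N := Nat.gcd_dvd_right k N
  have hgpos : 0 < g := Nat.gcd_pos_of_pos_left N hk
  obtain ⟨a, ha⟩ := hgk
  obtain ⟨b, hb⟩ := hgN
  have hr : g ∣ N % k := (Nat.dvd_mod_iff ⟨a, ha⟩).2 ⟨b, hb⟩
  have hrpos : 0 < N % k := Nat.pos_of_ne_zero (fun h => hndvd (Nat.dvd_of_mod_eq_zero h))
  have hrg : g ≤ N % k := Nat.le_of_dvd hrpos hr
  have hk2 : 2 * g ≤ k := by
    rcases a with _ | _ | a
    · simp at ha; omega
    · exfalso; apply hndvd; rw [ha]; simpa using ⟨b, hb⟩
    · rw [ha]; nlinarith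
  have hq : 1 ≤ N / k := Nat.div_pos hkN.le hk
  have hdm := Nat.div_add_mod N k
  have : N / k * g + k ≤ N := by
    calc N / k * g + k ≤ N/k * g + (N / k - 1) * g + k := by omega
      _ ≤ k * (N / k) + N % k := by
        obtain ⟨q, hq'⟩ : ∃ q, N / k = q + 1 := ⟨N / k - 1, by omega⟩
        rw [hq']
        simp only [Nat.add_sub_cancel]
        nlinarith
      _ = N := hdm
  omega

end Groth.Agent.S18049
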