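import Groth.Statements.S18051
import Mathlib
-- import your own Groth.Agent.* helpers here

set_option autoImplicit false
open STCI

namespace Groth.Agent.S18051

open W4c5stcicurvesp3 in
/-- Let k ≤ N/2 be positive integers and let r_i = rem_i(N, k), d_i = div_i(N, k) be the iterated
Euclidean remainders and quotients of (N, k) (r_0 = k, r_1 = N mod k, r_2 = r_0 mod r_1, d_1 =
⌊N/k⌋, d_2 = ⌊r_0/r_1⌋). If the least positive t with r_t = 0 satisfies t ≥ 3, i.e. r_1 ≠ 0 and r_2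
≠ 0, then (r_0 - r_1)/d_1 + (r_1 - r_2)/(d_1 + d_2) + r_2/(d_1 + d_2 + 1) ≤ k²/N (in ℚ). -/
theorem result (k N : ℕ) (hk : 0 < k) (hkN : 2 * k ≤ N)
    (h1 : irem N k 1 ≠ 0) (h2 : irem N k 2 ≠ 0) :
    ((irem N k 0 : ℚ) - irem N k 1) / (idiv N k 1)
      + ((irem N k 1 : ℚ) - irem N k 2) / ((idiv N k 1 : ℚ) + idiv N k 2)
      + (irem N k 2 : ℚ) / ((idiv N k 1 : ℚ) + idiv N k 2 + 1)
      ≤ (k : ℚ) ^ 2 / N := by
  have e0 : irem N k 0 = k := rfl
  have e1 : irem N k 1 = N % k := rfl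
  have hr1 : N % k ≠ 0 := h1
  have e2 : irem N k 2 = k % (N % k) := by
    show (if irem N k 1 = 0 then 0 else irem N k 0 % irem N k 1) = _
    rw [e1, if_neg hr1, e0]
  have f1 : idiv N k 1 = N / k := rfl
  have f2 : idiv N k 2 = k / (N % k) := by
    show (if irem N k 1 = 0 then 0 else irem N k 0 / irem N k 1) = _
    rw [e1, if_neg hr1, e0]
  rw [e2] at h2
  rw [e0, e1, e2, f1, f2]
  -- name things
  set x := N % k with hx
  set yy := k % x with hy
  set a := N / k with ha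
  set b := k / x with hb
  have hN : N = k * a + x := (Nat.div_add_mod N k).symm
  have hk' : k = x * b + yy := (Nat.div_add_mod k x).symm
  have hxk : x < k := Nat.mod_lt N hk
  have hyx : yy < x := Nat.mod_lt k (Nat.pos_of_ne_zero hr1)
  have ha2 : 2 ≤ a := by
    rw [ha, Nat.le_div_iff_mul_le hk]; omega
  have hb1 : 1 ≤ b := by
    rw [hb, Nat.le_div_iff_mul_le (Nat.pos_of_ne_zero hr1)]; omega
  obtain ⟨a1, ha1⟩ : ∃ a1, a = 2 + a1 := ⟨a - 2, by omega⟩
  obtain ⟨b1, hb1'⟩ : ∃ b1, b = 1 + b1 := ⟨b - 1, by omega⟩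
  obtain ⟨z, hz⟩ : ∃ z, x = yy + z := ⟨x - yy, by omega⟩
  have hypos : 0 < yy := Nat.pos_of_ne_zero h2
  have hkq : (k : ℚ) = ((yy : ℚ) + z) * (1 + b1) + yy := by
    have : k = (yy + z) * (1 + b1) + yy := by rw [← hz, ← hb1']; exact hk'
    exact_mod_cast this
  have hNq : (N : ℚ) = (((yy : ℚ) + z) * (1 + b1) + yy) * (2 + a1) + (yy + z) := by
    have : N = ((yy + z) * (1 + b1) + yy) * (2 + a1) + (yy + z) := by
      rw [← hz, ← hb1', ← ha1, ← hk']; exact hN
    exact_mod_cast this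
  have hxq : (x : ℚ) = (yy : ℚ) + z := by exact_mod_cast hz
  have haq : (a : ℚ) = 2 + a1 := by exact_mod_cast ha1
  have hbq : (b : ℚ) = 1 + b1 := by exact_mod_cast hb1'
  rw [hNq, hkq, hxq, haq, hbq]
  have hy0 : (0 : ℚ) < yy := by exact_mod_cast hypos
  have hz0 : (0 : ℚ) ≤ z := Nat.cast_nonneg z
  have ha0 : (0 : ℚ) ≤ a1 := Nat.cast_nonneg a1
  have hb0 : (0 : ℚ) ≤ b1 := Nat.cast_nonneg b1
  generalize (yy : ℚ) = Y at *
  generalize (z : ℚ) = Z at *
  generalize (a1 : ℚ) = A at *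
  generalize (b1 : ℚ) = B at *
  rw [div_add_div _ _ (by positivity) (by positivity), div_add_div _ _ (by positivity) (by positivity),
    div_le_div_iff₀ (by positivity) (by positivity)]
  have key : 0 ≤ ((Y + Z) * (1 + B) + Y) ^ 2 * ((2 + A) * (2 + A + (1 + B)) * (2 + A + (1 + B) + 1)) -
      ((((Y + Z) * (1 + B) + Y - (Y + Z)) * (2 + A + (1 + B)) + (2 + A) * (Y + Z - Y)) *
        (2 + A + (1 + B) + 1) + (2 + A) * (2 + A + (1 + B)) * Y) *
      (((Y + Z) * (1 + B) + Y) * (2 + A) + (Y + Z)) := by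
    ring_nf
    positivity
  linarith

end Groth.Agent.S18051
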