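import Groth.Statements.S18052
import Mathlib
import Groth.Agent.S18051
-- import your own Groth.Agent.* helpers here

set_option autoImplicit false
open STCI

namespace Groth.Agent.S18052

open W4c5stcicurvesp3 in
/-- Let k ≤ N/2 be positive integers, let r_i = rem_i(N, k) and d_i = div_i(N, k) be the iterated
Euclidean remainders and quotients of (N, k) (r_0 = k, r_1 = N mod k, …; d_1 = ⌊N/k⌋, d_i =
⌊r_{i-2}/r_{i-1}⌋), and let t be the least positive integer with r_t = 0. Then the sum over i = 0,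
…, t - 1 of (r_i - r_{i+1})/(d_1 + ⋯ + d_{i+1}) is at most k²/N (in ℚ). -/
theorem result (k N t : ℕ) (hk : 0 < k) (hkN : 2 * k ≤ N) (ht : 0 < t)
    (hzero : irem N k t = 0) (hmin : ∀ i, 0 < i → i < t → irem N k i ≠ 0) :
    ∑ i ∈ Finset.range t, ((irem N k i : ℚ) - irem N k (i + 1)) / (∑ j ∈ Finset.Icc 1 (i + 1), (idiv N k j : ℚ))
      ≤ (k : ℚ) ^ 2 / N := by
  have e0 : irem N k 0 = k := rfl
  have e1 : irem N k 1 = N % k := rfl
  have f1 : idiv N k 1 = N / k := rfl
  have hmono : ∀ j, irem N k (j + 2) ≤ irem N k (j + 1) := by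
    intro j
    show (if irem N k (j + 1) = 0 then 0 else irem N k j % irem N k (j + 1)) ≤ _
    split_ifs with h
    · exact Nat.zero_le _
    · exact (Nat.mod_lt _ (Nat.pos_of_ne_zero h)).le
  have hN : N = k * (N / k) + N % k := (Nat.div_add_mod N k).symm
  have ha2 : 2 ≤ N / k := by
    rw [Nat.le_div_iff_mul_le hk]; omega
  have hNpos : (0 : ℚ) < N := by
    have : 0 < N := by omega
    exact_mod_cast this
  rcases (by omega : t = 1 ∨ t = 2 ∨ 3 ≤ t) with rfl | rfl | ht3
  · -- t = 1
    rw [e1] at hzero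
    simp only [Finset.range_one, Finset.sum_singleton, zero_add, Finset.Icc_self, e0, e1, f1, hzero,
      Nat.cast_zero, sub_zero]
    have hN' : N = k * (N / k) := by omega
    have hd : (0 : ℚ) < ((N / k : ℕ) : ℚ) := by
      have : 0 < N / k := by omega
      exact_mod_cast this
    have hNq : (N : ℚ) = (k : ℚ) * ((N / k : ℕ) : ℚ) := by exact_mod_cast hN'
    rw [div_le_div_iff₀ hd hNpos, hNq]
    nlinarith
  · -- t = 2
    have hr1 : N % k ≠ 0 := hmin 1 (by omega) (by omega)
    have e2 : irem N k 2 = k % (N % k) := by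
      show (if irem N k 1 = 0 then 0 else irem N k 0 % irem N k 1) = _
      rw [e1, if_neg hr1, e0]
    have f2 : idiv N k 2 = k / (N % k) := by
      show (if irem N k 1 = 0 then 0 else irem N k 0 / irem N k 1) = _
      rw [e1, if_neg hr1, e0]
    rw [e2] at hzero
    have hsum2 : ∑ j ∈ Finset.Icc 1 2, (idiv N k j : ℚ) = (idiv N k 1 : ℚ) + idiv N k 2 := by
      rw [show Finset.Icc 1 2 = {1, 2} from rfl]
      simp
    simp only [Finset.sum_range_succ, Finset.range_zero, Finset.sum_empty, zero_add, Finset.Icc_self,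
      Finset.sum_singleton, hsum2, e0, e1, e2, f1, f2, hzero, Nat.cast_zero, sub_zero]
    set x := N % k with hx
    set a := N / k with ha
    set b := k / x with hb
    have hk' : k = x * b := by
      have := Nat.div_add_mod k x
      rw [hzero, add_zero] at this
      exact this.symm
    have hxk : x < k := Nat.mod_lt N hk
    have hxpos : 0 < x := Nat.pos_of_ne_zero hr1
    have hb2 : 2 ≤ b := by
      by_contra hlt
      have : b ≤ 1 := by omega
      have : x * b ≤ x * 1 := Nat.mul_le_mul_left x this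
      omega
    obtain ⟨a1, ha1⟩ : ∃ a1, a = 2 + a1 := ⟨a - 2, by omega⟩
    obtain ⟨b1, hb1⟩ : ∃ b1, b = 2 + b1 := ⟨b - 2, by omega⟩
    have hkq : (k : ℚ) = (x : ℚ) * (2 + b1) := by
      have : k = x * (2 + b1) := by rw [← hb1]; exact hk'
      exact_mod_cast this
    have hNq : (N : ℚ) = (x : ℚ) * (2 + b1) * (2 + a1) + x := by
      have : N = x * (2 + b1) * (2 + a1) + x := by rw [← hb1, ← ha1, ← hk']; exact hN
      exact_mod_cast this
    have haq : (a : ℚ) = 2 + a1 := by exact_mod_cast ha1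
    have hbq : (b : ℚ) = 2 + b1 := by exact_mod_cast hb1
    rw [hNq, hkq, haq, hbq]
    have hx0 : (0 : ℚ) < x := by exact_mod_cast hxpos
    have ha0 : (0 : ℚ) ≤ a1 := Nat.cast_nonneg a1
    have hb0 : (0 : ℚ) ≤ b1 := Nat.cast_nonneg b1
    generalize (x : ℚ) = X at *
    generalize (a1 : ℚ) = A at *
    generalize (b1 : ℚ) = B at *
    rw [div_add_div _ _ (by positivity) (by positivity), div_le_div_iff₀ (by positivity) (by positivity)]
    have key : 0 ≤ (X * (2 + B)) ^ 2 * ((2 + A) * (2 + A + (2 + B))) -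
        ((X * (2 + B) - X) * (2 + A + (2 + B)) + (2 + A) * X) * (X * (2 + B) * (2 + A) + X) := by
      ring_nf
      positivity
    linarith
  · -- t ≥ 3
    obtain ⟨m, rfl⟩ : ∃ m, t = m + 3 := ⟨t - 3, by omega⟩
    have hr1 : irem N k 1 ≠ 0 := hmin 1 (by omega) (by omega)
    have hr2 : irem N k 2 ≠ 0 := hmin 2 (by omega) (by omega)
    have h51 := Groth.Agent.S18051.result k N hk hkN hr1 hr2
    refine le_trans ?_ h51
    rw [Finset.sum_range_succ', Finset.sum_range_succ']
    have hD1 : ∑ j ∈ Finset.Icc 1 (0 + 1), (idiv N k j : ℚ) = idiv N k 1 := by simp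
    have hD2 : ∑ j ∈ Finset.Icc 1 (0 + 1 + 1), (idiv N k j : ℚ) = (idiv N k 1 : ℚ) + idiv N k 2 := by
      rw [show Finset.Icc 1 (0 + 1 + 1) = {1, 2} from rfl]
      simp
    rw [hD1, hD2]
    have hd3 : 1 ≤ idiv N k 3 := by
      show 1 ≤ (if irem N k 2 = 0 then 0 else irem N k 1 / irem N k 2)
      rw [if_neg hr2]
      exact Nat.div_pos (hmono 0) (Nat.pos_of_ne_zero hr2)
    have hd1 : 0 < idiv N k 1 := by rw [f1]; omega
    have hDpos : (0 : ℚ) < (idiv N k 1 : ℚ) + idiv N k 2 + 1 := by positivity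
    have htail : ∑ i ∈ Finset.range (m + 1),
        ((irem N k (i + 1 + 1) : ℚ) - irem N k (i + 1 + 1 + 1)) /
          (∑ j ∈ Finset.Icc 1 (i + 1 + 1 + 1), (idiv N k j : ℚ)) ≤
        (irem N k 2 : ℚ) / ((idiv N k 1 : ℚ) + idiv N k 2 + 1) := by
      have hle : ∀ i ∈ Finset.range (m + 1),
          ((irem N k (i + 1 + 1) : ℚ) - irem N k (i + 1 + 1 + 1)) /
            (∑ j ∈ Finset.Icc 1 (i + 1 + 1 + 1), (idiv N k j : ℚ)) ≤
          ((irem N k (i + 2) : ℚ) - irem N k (i + 2 + 1)) / ((idiv N k 1 : ℚ) + idiv N k 2 + 1) := by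
        intro i _
        have hnum : (0 : ℚ) ≤ (irem N k (i + 1 + 1) : ℚ) - irem N k (i + 1 + 1 + 1) := by
          have := hmono (i + 1)
          have : (irem N k (i + 1 + 1 + 1) : ℚ) ≤ irem N k (i + 1 + 1) := by exact_mod_cast this
          linarith
        apply div_le_div_of_nonneg_left hnum hDpos
        have hsub : Finset.Icc 1 3 ⊆ Finset.Icc 1 (i + 1 + 1 + 1) :=
          Finset.Icc_subset_Icc le_rfl (by omega)
        have h3 : ∑ j ∈ Finset.Icc 1 3, (idiv N k j : ℚ) =
            (idiv N k 1 : ℚ) + idiv N k 2 + idiv N k 3 := by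
          rw [show Finset.Icc 1 3 = {1, 2, 3} from rfl]
          simp [add_assoc]
        have := Finset.sum_le_sum_of_subset_of_nonneg hsub
          (f := fun j => (idiv N k j : ℚ)) (fun j _ _ => Nat.cast_nonneg _)
        rw [h3] at this
        have hd3q : (1 : ℚ) ≤ idiv N k 3 := by exact_mod_cast hd3
        linarith
      refine le_trans (Finset.sum_le_sum hle) ?_
      rw [← Finset.sum_div, Finset.sum_range_sub' (fun i => (irem N k (i + 2) : ℚ))]
      simp only [zero_add]
      rw [show m + 1 + 2 = m + 3 from rfl, hzero]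
      simp
    simp only [zero_add] at htail ⊢
    linarith

end Groth.Agent.S18052
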