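import Groth.Statements.S18053
import Mathlib
-- import your own Groth.Agent.* helpers here

set_option autoImplicit false
open STCI

namespace Groth.Agent.S18053

/-- Let (p_k)_{k ≥ 1} be a sequence of nonnegative integers and n a nonnegative integer such that (i)
p_1 ≤ 9 - (2/5)n, (ii) p_1 ≥ p_2 ≥ p_3 ≥ ⋯, (iii) Σ_k p_k ≤ 19 - n, and (iv) n/4 + Σ_{k ≥ 1}
p_k/(k(k+1)) ≥ 6. Then n = 0 and (p_k) is one of (9, 8, 2), (9, 9), (9, 9, 1) (followed by zeros).
Here the sequence is indexed from 0 (so p 0 is p_1 and the weight of p k is 1/((k+1)(k+2))), (iii)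
is stated for every partial sum, and the series in (iv) is the real sum Σ' over all k. -/
theorem result (p : ℕ → ℕ) (n : ℕ)
    (h1 : (p 0 : ℝ) ≤ 9 - (2 / 5 : ℝ) * n) (h2 : Antitone p)
    (h3 : ∀ m : ℕ, ((∑ k ∈ Finset.range m, p k : ℕ) : ℝ) ≤ 19 - (n : ℝ))
    (h4 : (6 : ℝ) ≤ (n : ℝ) / 4 + ∑' k : ℕ, (p k : ℝ) / (((k : ℝ) + 1) * ((k : ℝ) + 2))) :
    n = 0 ∧ (p = (fun k => if k = 0 then 9 else if k = 1 then 8 else if k = 2 then 2 else 0)
      ∨ p = (fun k => if k = 0 then 9 else if k = 1 then 9 else 0)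
      ∨ p = (fun k => if k = 0 then 9 else if k = 1 then 9 else if k = 2 then 1 else 0)) := by
  have hn0 : (0:ℝ) ≤ n := Nat.cast_nonneg n
  have hp19 : ∀ k, 19 ≤ k → p k = 0 := by
    intro k hk
    by_contra hne
    have hpos : 1 ≤ p k := Nat.one_le_iff_ne_zero.2 hne
    have h20 := h3 20
    have hsum : 20 ≤ ∑ j ∈ Finset.range 20, p j := by
      calc 20 = ∑ j ∈ Finset.range 20, 1 := by simp
        _ ≤ ∑ j ∈ Finset.range 20, p j := Finset.sum_le_sum (fun j hj => by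
            have : j ≤ k := by rw [Finset.mem_range] at hj; omega
            exact le_trans hpos (h2 this))
    have : ((∑ j ∈ Finset.range 20, p j : ℕ) : ℝ) ≥ 20 := by exact_mod_cast hsum
    linarith
  have htsum : ∑' k : ℕ, (p k : ℝ) / (((k : ℝ) + 1) * ((k : ℝ) + 2)) =
      ∑ k ∈ Finset.range 19, (p k : ℝ) / (((k : ℝ) + 1) * ((k : ℝ) + 2)) := by
    apply tsum_eq_sum
    intro k hk
    rw [Finset.mem_range, not_lt] at hk
    rw [hp19 k hk]; simp
  rw [htsum] at h4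
  have h19 := h3 19
  push_cast at h19
  simp only [Finset.sum_range_succ, Finset.sum_range_zero, zero_add] at h4 h19
  norm_num at h4
  have hnn : ∀ k, (0:ℝ) ≤ p k := fun k => Nat.cast_nonneg _
  have hmono : ∀ k, ((p (k+1) : ℕ) : ℝ) ≤ p k := fun k => by exact_mod_cast h2 (Nat.le_succ k)
  -- key linear consequence
  have hA : (53 : ℝ) ≤ 2 * n + 5 * p 0 + p 1 := by
    linarith [hnn 2, hnn 3, hnn 4, hnn 5, hnn 6, hnn 7, hnn 8, hnn 9, hnn 10, hnn 11, hnn 12, hnn 13,
      hnn 14, hnn 15, hnn 16, hnn 17, hnn 18]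
  have hB : (5 : ℝ) * p 0 + 2 * n ≤ 45 := by linarith
  have hA' : 53 ≤ 2 * n + 5 * p 0 + p 1 := by exact_mod_cast hA
  have hB' : 5 * p 0 + 2 * n ≤ 45 := by exact_mod_cast hB
  have h10 : p 1 ≤ p 0 := h2 (Nat.le_succ 0)
  have hn : n = 0 := by omega
  have hp0 : p 0 = 9 := by omega
  have hp1 : p 1 = 8 ∨ p 1 = 9 := by omega
  subst hn
  refine ⟨rfl, ?_⟩
  simp only [Nat.cast_zero, sub_zero, zero_div, zero_add, hp0, Nat.cast_ofNat] at h4 h19
  have h21 : p 2 ≤ p 1 := h2 (Nat.le_succ 1)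
  have h32 : p 3 ≤ p 2 := h2 (Nat.le_succ 2)
  have hS : ((p 2 + p 3 : ℕ) : ℝ) ≤ 10 - p 1 := by
    push_cast
    linarith [hnn 4, hnn 5, hnn 6, hnn 7, hnn 8, hnn 9, hnn 10, hnn 11, hnn 12, hnn 13,
      hnn 14, hnn 15, hnn 16, hnn 17, hnn 18]
  rcases hp1 with hp1 | hp1
  · -- p 1 = 8 : need p 2 = 2
    left
    rw [hp1] at hS h4 h19
    have h2ge : (2 : ℝ) ≤ p 2 := by
      norm_num at h4 h19
      linarith [hnn 3, hnn 4, hnn 5, hnn 6, hnn 7, hnn 8, hnn 9, hnn 10, hnn 11, hnn 12, hnn 13,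
        hnn 14, hnn 15, hnn 16, hnn 17, hnn 18]
    have h2ge' : 2 ≤ p 2 := by exact_mod_cast h2ge
    have hS' : p 2 + p 3 ≤ 2 := by
      have : ((p 2 + p 3 : ℕ) : ℝ) ≤ 2 := by norm_num at hS ⊢; linarith
      exact_mod_cast this
    have hp2 : p 2 = 2 := by omega
    have hp3 : p 3 = 0 := by omega
    funext k
    rcases Nat.lt_or_ge k 3 with hk | hk
    · interval_cases k <;> simp [hp0, hp1, hp2]
    · have : p k ≤ p 3 := h2 hk
      have hk0 : p k = 0 := by omega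
      rw [hk0]
      have h0 : k ≠ 0 := by omega
      have h1 : k ≠ 1 := by omega
      have h2' : k ≠ 2 := by omega
      simp [h0, h1, h2']
  · right
    rw [hp1] at hS
    have hS' : p 2 + p 3 ≤ 1 := by
      have : ((p 2 + p 3 : ℕ) : ℝ) ≤ 1 := by norm_num at hS ⊢; linarith
      exact_mod_cast this
    have hp3 : p 3 = 0 := by omega
    have hk3 : ∀ k, 3 ≤ k → p k = 0 := fun k hk => by
      have : p k ≤ p 3 := h2 hk
      omega
    have hp2 : p 2 = 0 ∨ p 2 = 1 := by omega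
    rcases hp2 with hp2 | hp2
    · left
      funext k
      rcases Nat.lt_or_ge k 3 with hk | hk
      · interval_cases k <;> simp [hp0, hp1, hp2]
      · rw [hk3 k hk]
        have h0 : k ≠ 0 := by omega
        have h1 : k ≠ 1 := by omega
        simp [h0, h1]
    · right
      funext k
      rcases Nat.lt_or_ge k 3 with hk | hk
      · interval_cases k <;> simp [hp0, hp1, hp2]
      · rw [hk3 k hk]
        have h0 : k ≠ 0 := by omega
        have h1 : k ≠ 1 := by omega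
        have h2' : k ≠ 2 := by omega
        simp [h0, h1, h2']

end Groth.Agent.S18053
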