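import Groth.Statements.S18054
import Mathlib
-- import your own Groth.Agent.* helpers here

set_option autoImplicit false
open STCI

namespace Groth.Agent.S18054

/-- Let s, t, d, g be integers with t ≥ s ≥ 4, d ≥ 1, g ≥ 0 and d dividing st; put n = st/d and assume n
≥ 2; put r = d[n(s - 4) + t] + (2 - 2g)n and assume r ≤ (s/3)(2s² - 6s + 7) - 1. Then d ≤ g + 3.
(The bound is written cleared of the denominator 3; s(2s² - 6s + 7) is always divisible by 3, so
this is the same condition.) -/
theorem result (s t d g n : ℤ) (hs : 4 ≤ s) (hst : s ≤ t) (hd : 1 ≤ d) (hg : 0 ≤ g)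
    (hn : s * t = d * n) (hn2 : 2 ≤ n)
    (hr : 3 * (d * (n * (s - 4) + t) + (2 - 2 * g) * n) ≤ s * (2 * s ^ 2 - 6 * s + 7) - 3) :
    d ≤ g + 3 := by
  by_contra hcon
  push Not at hcon
  have hg4 : g + 4 ≤ d := by omega
  have hstar : 3 * (s * t * (s - 6) + d * t + 10 * n) ≤ s * (2 * s ^ 2 - 6 * s + 7) - 3 := by
    have h1 : (10 - 2 * d) * n ≤ (2 - 2 * g) * n := by
      apply mul_le_mul_of_nonneg_right _ (by omega)
      omega
    have h2 : d * (n * (s - 4) + t) = s * t * (s - 4) + d * t := by
      have : d * (n * (s - 4) + t) = (d * n) * (s - 4) + d * t := by ring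
      rw [this, ← hn]
    have h3 : (10 - 2 * d) * n = 10 * n - 2 * (s * t) := by
      rw [hn]; ring
    rw [h2] at hr
    rw [h3] at h1
    linarith
  have ht0 : 0 < t := by omega
  have hn0 : 0 < n := by omega
  have hd0 : 0 < d := by omega
  obtain ⟨W, hWdef⟩ : ∃ W, W = d * t + 10 * n := ⟨_, rfl⟩
  have hWpos : 0 < W := by
    rw [hWdef]
    have : 0 < d * t := mul_pos hd0 ht0
    omega
  have hW2 : 40 * s * (t * t) ≤ W * W := by
    have e : W * W - 40 * s * (t * t) = (d * t - 10 * n) * (d * t - 10 * n) := by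
      rw [hWdef]
      have : 40 * s * (t * t) = 40 * t * (s * t) := by ring
      rw [this, hn]; ring
    nlinarith [mul_self_nonneg (d * t - 10 * n)]
  have htt : s * s ≤ t * t := mul_self_le_mul_self (by omega) hst
  rcases lt_or_ge s 6 with hs6 | hs6
  · -- s = 4 or s = 5
    have hdstar : t * (d * d - (12 - s) * d + 10 * s) * 3 ≤ d * (s * (2 * s ^ 2 - 6 * s + 7) - 3) - 
        3 * d * (s * t * (s - 6)) + 3 * t * ((s - 6) * d) := by
      have h5 : d * (3 * (s * t * (s - 6) + d * t + 10 * n)) ≤
          d * (s * (2 * s ^ 2 - 6 * s + 7) - 3) := mul_le_mul_of_nonneg_left hstar (by omega)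
      have h6 : d * (3 * (s * t * (s - 6) + d * t + 10 * n)) =
          3 * d * (s * t * (s - 6)) + 3 * d * d * t + 30 * (s * t) := by
        rw [hn]; ring
      rw [h6] at h5
      nlinarith
    have hs45 : s = 4 ∨ s = 5 := by omega
    rcases hs45 with rfl | rfl
    · -- s = 4
      have h7 : t * (d * d - 8 * d + 40) ≤ 19 * d := by nlinarith
      have h8 : 0 < d * d - 8 * d + 40 := by nlinarith [mul_self_nonneg (d - 4)]
      have h9 : 4 * (d * d - 8 * d + 40) ≤ 19 * d := by nlinarith
      have hd67 : d = 6 ∨ d = 7 := by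
        have hd5 : 5 < d := by nlinarith
        have hd8 : d < 8 := by nlinarith
        omega
      rcases hd67 with rfl | rfl
      · have : t = 4 := by omega
        subst this
        omega
      · have : t = 4 := by omega
        subst this
        omega
    · -- s = 5
      have h7 : t * (d * d - 7 * d + 50) ≤ 44 * d - 2 * t * d + 2 * t * d := by nlinarith
      have h8 : 0 < d * d - 7 * d + 50 := by nlinarith [mul_self_nonneg (2 * d - 7)]
      have h9 : 5 * (d * d - 7 * d + 50) ≤ 44 * d := by nlinarith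
      nlinarith [mul_self_nonneg (10 * d - 79)]
  · have hQ : 3 * W ≤ -(s * s * s) + 12 * (s * s) + 7 * s - 3 := by
      have h1 : s * s * (s - 6) ≤ s * t * (s - 6) := by
        apply mul_le_mul_of_nonneg_right _ (by omega)
        exact mul_le_mul_of_nonneg_left hst (by omega)
      rw [hWdef]
      nlinarith
    rcases le_or_gt 13 s with hs13 | hs13
    · have : -(s * s * s) + 12 * (s * s) + 7 * s - 3 < 0 := by nlinarith
      omega
    · have h9 : (3 * W) * (3 * W) ≤ (-(s * s * s) + 12 * (s * s) + 7 * s - 3) *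
          (-(s * s * s) + 12 * (s * s) + 7 * s - 3) :=
        mul_self_le_mul_self (by omega) hQ
      have hs12 : s ≤ 12 := by omega
      interval_cases s <;> nlinarith

end Groth.Agent.S18054
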