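import Groth.Statements.S18055
import Mathlib
-- import your own Groth.Agent.* helpers here

set_option autoImplicit false
open STCI

namespace Groth.Agent.S18055

/-- Let d ≥ 1, g ≥ 0 and 1 ≤ s ≤ t be integers with d dividing st, put n = st/d and r = d[n(s - 4) + t]
+ (2 - 2g)n, and assume n ≥ 2, r > 0 and (n - 1) divides r. Then s < 2d² and t < 2d⁴. This is the
statement about the degree data (d, g the degree and genus of the curve, s ≤ t the degrees of the
two surfaces) to which the published proof reduces the degree bound: there the divisibility and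
positivity express that r/(n - 1), the common value of the type numbers of the pair, is a positive
integer; the geometric hypotheses themselves are not part of this row. -/
theorem result (d g s t n : ℤ) (hd : 1 ≤ d) (hg : 0 ≤ g) (hs : 1 ≤ s) (hst : s ≤ t)
    (hn : s * t = d * n) (hn2 : 2 ≤ n)
    (hpos : 0 < d * (n * (s - 4) + t) + (2 - 2 * g) * n)
    (hdvd : (n - 1) ∣ d * (n * (s - 4) + t) + (2 - 2 * g) * n) :
    s < 2 * d ^ 2 ∧ t < 2 * d ^ 4 := by
  obtain ⟨k, hk⟩ := hdvd
  have hn1 : 1 ≤ n - 1 := by omega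
  have hn0 : 0 < n := by omega
  have hk1 : 1 ≤ k := by
    by_contra hcon
    push Not at hcon
    have : (n - 1) * k ≤ 0 := mul_nonpos_of_nonneg_of_nonpos (by omega) (by omega)
    omega
  have ht1 : 1 ≤ t := le_trans hs hst
  have hdt : 1 ≤ d * t := by nlinarith
  obtain ⟨m, hm⟩ : ∃ m, m = k - (d * (s - 4) + 2 - 2 * g) := ⟨_, rfl⟩
  -- (i)
  have h1 : n * m = d * t + k := by rw [hm]; linear_combination -hk
  have hm1 : 1 ≤ m := by
    by_contra hcon
    push Not at hcon
    have : n * m ≤ 0 := mul_nonpos_of_nonneg_of_nonpos (by omega) (by omega)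
    omega
  -- (ii)
  have h2 : k ≤ m + d * (s - 4) + 2 := by rw [hm]; linarith
  -- u
  obtain ⟨u, hu⟩ : ∃ u, u = s * m - d ^ 2 := ⟨_, rfl⟩
  have h3 : n * u = s * k := by
    rw [hu]; linear_combination s * h1 + d * hn
  have hsk : 1 ≤ s * k := by nlinarith
  have hu1 : 1 ≤ u := by
    by_contra hcon
    push Not at hcon
    have : n * u ≤ 0 := mul_nonpos_of_nonneg_of_nonpos (by omega) (by omega)
    omega
  -- Bound1
  have hQ : m * (n - 1) = d * (s - 4) + 2 - 2 * g + d * t := by
    linear_combination h1 - hm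
  have hb1 : n - 1 ≤ d * (s + t - 4) + 2 := by
    have : n - 1 ≤ m * (n - 1) := by nlinarith
    rw [hQ] at this
    linarith
  have hb1' : (s - d ^ 2) * (t - d ^ 2) ≤ d ^ 4 - 4 * d ^ 2 + 3 * d := by
    have : d * (n - 1) ≤ d * (d * (s + t - 4) + 2) := mul_le_mul_of_nonneg_left hb1 (by omega)
    have e : d * (n - 1) = s * t - d := by rw [hn]; ring
    rw [e] at this
    nlinarith
  have hd2 : 1 ≤ d ^ 2 := by nlinarith
  have hd43 : 3 * d < 4 * d ^ 2 := by nlinarith
  have hd42 : d ^ 2 ≤ d ^ 4 := by nlinarith [mul_self_nonneg (d ^ 2)]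
  -- Bound2
  have hb2 : (n - 1) * u ≤ d ^ 2 + d * s ^ 2 - 4 * d * s + 2 * s := by
    have h4 : s * k ≤ s * (m + d * (s - 4) + 2) := mul_le_mul_of_nonneg_left h2 (by omega)
    rw [← h3] at h4
    have e : s * (m + d * (s - 4) + 2) = u + d ^ 2 + d * s ^ 2 - 4 * d * s + 2 * s := by
      rw [hu]; ring
    rw [e] at h4
    linarith
  have hb2' : n - 1 ≤ d ^ 2 + d * s ^ 2 - 4 * d * s + 2 * s := by
    have : n - 1 ≤ (n - 1) * u := by nlinarith
    linarith
  have hb2'' : s * t ≤ d ^ 3 + d ^ 2 * s ^ 2 - 4 * d ^ 2 * s + 2 * d * s + d := by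
    have : d * (n - 1) ≤ d * (d ^ 2 + d * s ^ 2 - 4 * d * s + 2 * s) :=
      mul_le_mul_of_nonneg_left hb2' (by omega)
    have e : d * (n - 1) = s * t - d := by rw [hn]; ring
    rw [e] at this
    linarith
  constructor
  · by_contra hcon
    push Not at hcon
    have ha : d ^ 2 ≤ s - d ^ 2 := by linarith
    have hb : d ^ 2 ≤ t - d ^ 2 := by linarith
    have : d ^ 2 * d ^ 2 ≤ (s - d ^ 2) * (t - d ^ 2) :=
      mul_le_mul ha hb (by positivity) (by linarith)
    nlinarith
  · by_contra hcon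
    push Not at hcon
    rcases lt_or_ge (d ^ 2) s with hsd | hsd
    · have ha : 1 ≤ s - d ^ 2 := by linarith
      have hb : d ^ 4 ≤ t - d ^ 2 := by linarith
      have : 1 * d ^ 4 ≤ (s - d ^ 2) * (t - d ^ 2) :=
        mul_le_mul ha hb (by positivity) (by linarith)
      nlinarith
    · have hs0 : (0 : ℤ) ≤ s := by omega
      have e1 : s * (2 * d ^ 4) ≤ s * t := mul_le_mul_of_nonneg_left hcon hs0
      have e2 : d ^ 2 * (s * s) ≤ d ^ 2 * (d ^ 2 * s) :=
        mul_le_mul_of_nonneg_left (mul_le_mul_of_nonneg_right hsd hs0) (by positivity)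
      have e3 : (d ^ 3 + d) * 1 ≤ (d ^ 3 + d) * s :=
        mul_le_mul_of_nonneg_left hs (by positivity)
      have e5 : d ^ 3 ≤ d ^ 4 := pow_le_pow_right₀ hd (by norm_num)
      have e6' : d ^ 3 - 4 * d ^ 2 + 3 * d < d ^ 4 := by linarith
      have e6 : s * (d ^ 3 - 4 * d ^ 2 + 3 * d) < s * d ^ 4 :=
        mul_lt_mul_of_pos_left e6' (by omega)
      linarith

end Groth.Agent.S18055
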