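import Groth.Statements.S18122
import Mathlib
-- import your own Groth.Agent.* helpers here

set_option autoImplicit false
universe u
open Pinch

namespace Groth.Agent.S18122

local notation "xx" => (MvPolynomial.X 0 : MvPolynomial (Fin 2) _)
local notation "yy" => (MvPolynomial.X 1 : MvPolynomial (Fin 2) _)

/-- Let K be a field in which 2 ≠ 0, S = K[x, y], and R ⊆ S the K-subalgebra generated by x^2, x y and
y; R is the coordinate ring of the pinch point u^2 = v^2 w (u = x y, v = y, w = x^2) and S is its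
normalization. Then restriction along R ⊆ S is a bijection from the K-derivations S → S onto the
K-derivations R → S: every K-derivation R → S extends uniquely to S. In sheaf terms, the natural
injective map from the tangent sheaf of the normalization to the dual of the pulled-back sheaf of
differentials of the pinch point is an isomorphism. (The text works over an algebraically closed
field of characteristic different from 2 and for every semi-smooth variety; only this model case is
stated, and the computation uses only 2 ≠ 0.) -/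
theorem result
    (K : Type u) [Field K] [NeZero (2 : K)] :
    letI R : Subalgebra K (MvPolynomial (Fin 2) K) :=
      Algebra.adjoin K {MvPolynomial.X 0 ^ 2, MvPolynomial.X 0 * MvPolynomial.X 1, MvPolynomial.X 1}
    ∀ δ : Derivation K R (MvPolynomial (Fin 2) K),
      ∃! D : Derivation K (MvPolynomial (Fin 2) K) (MvPolynomial (Fin 2) K),
        ∀ r : R, D (r : MvPolynomial (Fin 2) K) = δ r := by
  intro δ
  have hx2 : (xx ^ 2 : MvPolynomial (Fin 2) K) ∈ Algebra.adjoin K {xx ^ 2, xx * yy, (yy : MvPolynomial (Fin 2) K)} :=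
    Algebra.subset_adjoin (by simp)
  have hxy : (xx * yy : MvPolynomial (Fin 2) K) ∈ Algebra.adjoin K {xx ^ 2, xx * yy, (yy : MvPolynomial (Fin 2) K)} :=
    Algebra.subset_adjoin (by simp)
  have hyR : (yy : MvPolynomial (Fin 2) K) ∈ Algebra.adjoin K {xx ^ 2, xx * yy, (yy : MvPolynomial (Fin 2) K)} :=
    Algebra.subset_adjoin (by simp)
  have hrel : (⟨xx * yy, hxy⟩ : Algebra.adjoin K {xx ^ 2, xx * yy, (yy : MvPolynomial (Fin 2) K)}) * ⟨xx * yy, hxy⟩
      = ⟨xx ^ 2, hx2⟩ * (⟨yy, hyR⟩ * ⟨yy, hyR⟩) := by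
    apply Subtype.ext
    simp only [MulMemClass.coe_mul]
    ring
  have h1 := congrArg δ hrel
  rw [Derivation.leibniz, Derivation.leibniz, Derivation.leibniz] at h1
  simp only [Subalgebra.smul_def, smul_eq_mul, MulMemClass.coe_mul] at h1
  obtain ⟨a, ha⟩ : ∃ a, a = δ ⟨xx ^ 2, hx2⟩ := ⟨_, rfl⟩
  obtain ⟨c, hc⟩ : ∃ c, c = δ ⟨xx * yy, hxy⟩ := ⟨_, rfl⟩
  obtain ⟨b, hb⟩ : ∃ b, b = δ ⟨yy, hyR⟩ := ⟨_, rfl⟩
  rw [← ha, ← hb, ← hc] at h1
  have hy0 : (yy : MvPolynomial (Fin 2) K) ≠ 0 := MvPolynomial.X_ne_zero _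
  have hx0 : (xx : MvPolynomial (Fin 2) K) ≠ 0 := MvPolynomial.X_ne_zero _
  have h2ne : (MvPolynomial.C (2 : K) : MvPolynomial (Fin 2) K) ≠ 0 := by
    rw [Ne, MvPolynomial.C_eq_zero]; exact NeZero.ne 2
  have hC2 : (MvPolynomial.C (2 : K) : MvPolynomial (Fin 2) K) = 2 := by
    simp [map_ofNat]
  have h2 : 2 * xx * c - 2 * xx ^ 2 * b = yy * a := by
    apply mul_left_cancel₀ hy0
    linear_combination h1
  have hdvd : (xx : MvPolynomial (Fin 2) K) ∣ a := by
    have h3 : (xx : MvPolynomial (Fin 2) K) ∣ yy * a :=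
      ⟨2 * c - 2 * (xx : MvPolynomial (Fin 2) K) * b, by rw [← h2]; ring⟩
    rcases (MvPolynomial.X_prime (i := (0 : Fin 2)) (R := K)).dvd_or_dvd h3 with h | h
    · exfalso
      have : (0 : Fin 2) = 1 := MvPolynomial.X_dvd_X.mp h
      exact absurd this (by decide)
    · exact h
  obtain ⟨a', ha'⟩ := hdvd
  obtain ⟨a'', ha''⟩ : ∃ a'', a'' = MvPolynomial.C ((2 : K)⁻¹) * a' := ⟨_, rfl⟩
  have h2inv : (MvPolynomial.C (2 : K) : MvPolynomial (Fin 2) K) * MvPolynomial.C ((2 : K)⁻¹) = 1 := by
    rw [← MvPolynomial.C_mul, mul_inv_cancel₀ (NeZero.ne 2), MvPolynomial.C_1]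
  have h4 : 2 * xx * a'' = a := by
    rw [ha', ha'', ← hC2]
    linear_combination ((xx : MvPolynomial (Fin 2) K) * a') * h2inv
  have h2x : (2 * xx : MvPolynomial (Fin 2) K) ≠ 0 := by
    rw [← hC2]; exact mul_ne_zero h2ne hx0
  have h5 : c = xx * b + yy * a'' := by
    apply mul_left_cancel₀ h2x
    linear_combination h2 - (yy : MvPolynomial (Fin 2) K) * h4
  refine ⟨MvPolynomial.mkDerivation K ![a'', b], ?_, ?_⟩
  · rintro ⟨r, hr⟩
    induction hr using Algebra.adjoin_induction with
    | mem r hr =>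
      simp only [Set.mem_insert_iff, Set.mem_singleton_iff] at hr
      rcases hr with rfl | rfl | rfl
      · rw [Derivation.leibniz_pow, MvPolynomial.mkDerivation_X]
        simp only [Matrix.cons_val_zero]
        rw [← ha, ← h4]
        simp [smul_eq_mul]
        ring
      · rw [Derivation.leibniz, MvPolynomial.mkDerivation_X, MvPolynomial.mkDerivation_X]
        simp only [Matrix.cons_val_zero, Matrix.cons_val_one, smul_eq_mul]
        rw [← hc, h5]
      · rw [MvPolynomial.mkDerivation_X]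
        simp [hb]
    | algebraMap r =>
      have : (⟨algebraMap K (MvPolynomial (Fin 2) K) r, Subalgebra.algebraMap_mem _ r⟩ :
        Algebra.adjoin K {xx ^ 2, xx * yy, (yy : MvPolynomial (Fin 2) K)}) = algebraMap K _ r := rfl
      rw [this, Derivation.map_algebraMap]
      exact Derivation.map_algebraMap _ r
    | add p q hp hq ihp ihq =>
      have : (⟨p + q, Subalgebra.add_mem _ hp hq⟩ :
        Algebra.adjoin K {xx ^ 2, xx * yy, (yy : MvPolynomial (Fin 2) K)}) = ⟨p, hp⟩ + ⟨q, hq⟩ := rfl
      rw [this, map_add, Subalgebra.coe_add, map_add, ihp, ihq]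
    | mul p q hp hq ihp ihq =>
      have : (⟨p * q, Subalgebra.mul_mem _ hp hq⟩ :
        Algebra.adjoin K {xx ^ 2, xx * yy, (yy : MvPolynomial (Fin 2) K)}) = ⟨p, hp⟩ * ⟨q, hq⟩ := rfl
      rw [this, Derivation.leibniz, Subalgebra.coe_mul, Derivation.leibniz, ihp, ihq]
      simp [Subalgebra.smul_def]
  · intro D' hD'
    apply MvPolynomial.derivation_ext
    intro i
    fin_cases i
    · simp only [Fin.zero_eta, MvPolynomial.mkDerivation_X, Matrix.cons_val_zero]
      have h6 := hD' ⟨xx ^ 2, hx2⟩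
      simp only at h6
      rw [Derivation.leibniz_pow, ← ha, ← h4] at h6
      apply mul_left_cancel₀ h2x
      rw [← h6]
      simp [smul_eq_mul]
      ring
    · simp only [Fin.mk_one, MvPolynomial.mkDerivation_X, Matrix.cons_val_one]
      rw [hb]
      exact hD' ⟨yy, hyR⟩

end Groth.Agent.S18122
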