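import Groth.Statements.S18123
import Mathlib
import Groth.Agent.Helper9.Pinch
-- import your own Groth.Agent.* helpers here

set_option autoImplicit false
universe u
open Pinch

namespace Groth.Agent.S18123

open Groth.Agent.Helper9.Pinch in
theorem aux (K : Type u) [Field K] [NeZero (2 : K)]
    (D : Derivation K (MvPolynomial (Fin 2) K) (MvPolynomial (Fin 2) K)) :
    (∀ r ∈ R K, D r ∈ R K) ↔
      (D (MvPolynomial.X 1) ∈ Ideal.span {(MvPolynomial.X 1 : MvPolynomial (Fin 2) K)} ∧
        ∃ (s : MvPolynomial (Fin 2) K) (p : Polynomial K),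
          D (MvPolynomial.X 0) = MvPolynomial.X 1 * s +
            MvPolynomial.X 0 * Polynomial.aeval (MvPolynomial.X 0 ^ 2 : MvPolynomial (Fin 2) K) p) := by
  have hx2 : (MvPolynomial.X 0 ^ 2 : MvPolynomial (Fin 2) K) ∈ R K := Algebra.subset_adjoin (by simp)
  have hxy : (MvPolynomial.X 0 * MvPolynomial.X 1 : MvPolynomial (Fin 2) K) ∈ R K :=
    Algebra.subset_adjoin (by simp)
  have hy : (MvPolynomial.X 1 : MvPolynomial (Fin 2) K) ∈ R K := Algebra.subset_adjoin (by simp)
  have hevsq : ∀ p : Polynomial K,
      ev K (Polynomial.aeval (MvPolynomial.X 0 ^ 2 : MvPolynomial (Fin 2) K) p) = Polynomial.expand K 2 p := by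
    intro p
    rw [← Polynomial.aeval_algHom_apply, map_pow, ev_X0, ← Polynomial.expand_aeval,
      Polynomial.aeval_X_left_apply]
  constructor
  · intro h
    have h1 := ev_mem_range_expand (h _ hy)
    have h2 := ev_mem_range_expand (h _ hxy)
    have h3 := ev_mem_range_expand (h _ hx2)
    rw [Derivation.leibniz, map_add, smul_eq_mul, smul_eq_mul, map_mul, map_mul, ev_X0, ev_X1,
      zero_mul, add_zero] at h2
    have hw := eq_zero_of_even_of_X_mul_even h1 h2
    refine ⟨Ideal.mem_span_singleton.mpr (X1_dvd_of_ev_eq_zero hw), ?_⟩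
    have h4 : Polynomial.X * ev K (D (MvPolynomial.X 0)) ∈ (Polynomial.expand K 2).range := by
      have := Subalgebra.smul_mem _ h3 ((2 : K)⁻¹)
      convert this using 1
      rw [Derivation.leibniz_pow]
      simp only [Nat.add_one_sub_one, pow_one, smul_eq_mul, nsmul_eq_mul, Nat.cast_ofNat, map_mul,
        ev_X0]
      have h2' : ev K (2 : MvPolynomial (Fin 2) K) = Polynomial.C (2 : K) := by
        rw [map_ofNat]; exact (map_ofNat Polynomial.C 2).symm
      rw [h2', Algebra.smul_def, Polynomial.algebraMap_eq]
      have : (Polynomial.C ((2 : K)⁻¹) : Polynomial K) * Polynomial.C 2 = 1 := by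
        rw [← Polynomial.C_mul, inv_mul_cancel₀ (NeZero.ne 2), Polynomial.C_1]
      linear_combination (- Polynomial.X * ev K (D (MvPolynomial.X 0))) * this
    obtain ⟨p, hp⟩ := exists_of_X_mul_even h4
    have h5 : ev K (D (MvPolynomial.X 0) - MvPolynomial.X 0 *
        Polynomial.aeval (MvPolynomial.X 0 ^ 2 : MvPolynomial (Fin 2) K) p) = 0 := by
      rw [map_sub, map_mul, hevsq, ev_X0, hp, sub_self]
    obtain ⟨s, hs⟩ := X1_dvd_of_ev_eq_zero h5
    exact ⟨s, p, by rw [← hs]; ring⟩
  · rintro ⟨hDy, s, p, hDx⟩ r hr
    obtain ⟨t, ht⟩ := Ideal.mem_span_singleton.mp hDy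
    induction hr using Algebra.adjoin_induction with
    | mem r hr =>
      simp only [Set.mem_insert_iff, Set.mem_singleton_iff] at hr
      rcases hr with rfl | rfl | rfl
      · rw [Derivation.leibniz_pow, hDx]
        simp only [Nat.add_one_sub_one, pow_one, smul_eq_mul, nsmul_eq_mul, Nat.cast_ofNat]
        have : (2 : MvPolynomial (Fin 2) K) * (MvPolynomial.X 0 * (MvPolynomial.X 1 * s + MvPolynomial.X 0 *
            Polynomial.aeval (MvPolynomial.X 0 ^ 2 : MvPolynomial (Fin 2) K) p)) =
            2 * (MvPolynomial.X 0 * MvPolynomial.X 1 * s) + 2 * (MvPolynomial.X 0 ^ 2 *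
              Polynomial.aeval (MvPolynomial.X 0 ^ 2 : MvPolynomial (Fin 2) K) p) := by ring
        rw [this]
        have h2R : (2 : MvPolynomial (Fin 2) K) ∈ R K := by
          have : (2 : MvPolynomial (Fin 2) K) = algebraMap K _ 2 := by simp [map_ofNat]
          rw [this]; exact Subalgebra.algebraMap_mem _ _
        refine Subalgebra.add_mem _ (Subalgebra.mul_mem _ h2R (X1_mul_mem s).2)
          (Subalgebra.mul_mem _ h2R (Subalgebra.mul_mem _ hx2 (aeval_sq_mem p)))
      · rw [Derivation.leibniz, ht, hDx]
        simp only [smul_eq_mul]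
        have : MvPolynomial.X 0 * (MvPolynomial.X 1 * t) + MvPolynomial.X 1 * (MvPolynomial.X 1 * s +
            MvPolynomial.X 0 * Polynomial.aeval (MvPolynomial.X 0 ^ 2 : MvPolynomial (Fin 2) K) p) =
            MvPolynomial.X 1 * (MvPolynomial.X 0 * t + (MvPolynomial.X 1 * s +
            MvPolynomial.X 0 * Polynomial.aeval (MvPolynomial.X 0 ^ 2 : MvPolynomial (Fin 2) K) p)) := by ring
        rw [this]
        exact (X1_mul_mem _).1
      · rw [ht]; exact (X1_mul_mem _).1
    | algebraMap r =>
      rw [Derivation.map_algebraMap]; exact Subalgebra.zero_mem _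
    | add p q hp hq ihp ihq =>
      rw [map_add]; exact Subalgebra.add_mem _ ihp ihq
    | mul p q hp hq ihp ihq =>
      rw [Derivation.leibniz]
      exact Subalgebra.add_mem _ (Subalgebra.mul_mem _ hp ihq) (Subalgebra.mul_mem _ hq ihp)

/-- Let K be a field in which 2 ≠ 0, S = K[x, y], and R ⊆ S the K-subalgebra generated by x^2, x y, y,
the coordinate ring of the pinch point with normalization S, obtained by gluing the plane along the
line y = 0 via x ↦ -x. A K-derivation D of S maps R into R if and only if D(y) is a multiple of y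
and D(x) = y s + x p(x^2) for some s in S and some polynomial p in one variable. Every K-derivation
R → S extends uniquely to S, and under this identification the derivations mapping R into R form the
image of the tangent sheaf of the pinch point in that of its normalization; so this image contains y
times all derivations of S, and modulo those it is spanned by the odd multiples x^(2k+1) ∂/∂x, the
part of the tangent sheaf of the line y = 0 invariant under x ↦ -x. (The text works over an
algebraically closed field of characteristic different from 2; the computation uses only 2 ≠ 0.) -/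
theorem result
    (K : Type u) [Field K] [NeZero (2 : K)]
    (D : Derivation K (MvPolynomial (Fin 2) K) (MvPolynomial (Fin 2) K)) :
    letI x : MvPolynomial (Fin 2) K := MvPolynomial.X 0
    letI y : MvPolynomial (Fin 2) K := MvPolynomial.X 1
    letI R : Subalgebra K (MvPolynomial (Fin 2) K) := Algebra.adjoin K {x ^ 2, x * y, y}
    (∀ r ∈ R, D r ∈ R) ↔
      (D y ∈ Ideal.span {y} ∧
        ∃ (s : MvPolynomial (Fin 2) K) (p : Polynomial K), D x = y * s + x * Polynomial.aeval (x ^ 2) p) := by
  exact aux K D

end Groth.Agent.S18123
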