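import Groth.Statements.S18125
import Mathlib
-- import your own Groth.Agent.* helpers here

set_option autoImplicit false
universe u
open Pinch

namespace Groth.Agent.S18125

/-- Let K be a field in which 2 ≠ 0, n ≥ 0, S = K[u, v, w, t_1, …, t_n] (u, v, w the first three
variables), h = u^2 - v^2 w the equation of the pinch-point model, and Jac the ideal generated by h
and its three partial derivatives 2u, -2vw, -v^2, which cuts out the scheme-theoretic singular locus
of {h = 0}. Then the ideal (u, v) of the double locus is Jac + (v), and the colon ideal of Jac by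
(v) is (u, v, w). Consequently (u, v)/Jac, the ideal of the double locus restricted to the singular
locus, is an invertible sheaf on the pinch locus u = v = w = 0: it is free of rank one over K[t_1,
…, t_n] on the class of v. (The text states this for every semi-smooth variety and reduces to this
model; K algebraically closed is not needed for the model computation.) -/
theorem result
    (K : Type u) [Field K] [NeZero (2 : K)] (n : ℕ) :
    letI u : MvPolynomial (Fin (n + 3)) K := MvPolynomial.X 0
    letI v : MvPolynomial (Fin (n + 3)) K := MvPolynomial.X 1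
    letI w : MvPolynomial (Fin (n + 3)) K := MvPolynomial.X 2
    letI Jac : Ideal (MvPolynomial (Fin (n + 3)) K) :=
      Ideal.span {u ^ 2 - v ^ 2 * w, 2 * u, -(2 * v * w), -(v ^ 2)}
    Ideal.span {u, v} = Jac ⊔ Ideal.span {v} ∧ Jac.colon (Ideal.span {v}) = Ideal.span {u, v, w} := by
  open MvPolynomial in
  have h2 : (C (2⁻¹ : K) : MvPolynomial (Fin (n + 3)) K) * 2 = 1 := by
    have : (2 : MvPolynomial (Fin (n + 3)) K) = C (2 : K) := (map_ofNat C 2).symm
    rw [this, ← C_mul, inv_mul_cancel₀ (NeZero.ne (2 : K)), C_1]
  set u : MvPolynomial (Fin (n + 3)) K := MvPolynomial.X 0 with hu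
  set v : MvPolynomial (Fin (n + 3)) K := MvPolynomial.X 1 with hv
  set w : MvPolynomial (Fin (n + 3)) K := MvPolynomial.X 2 with hw
  set Jac : Ideal (MvPolynomial (Fin (n + 3)) K) :=
    Ideal.span {u ^ 2 - v ^ 2 * w, 2 * u, -(2 * v * w), -(v ^ 2)} with hJac
  -- step 1 : Jac = (u, vw, v^2)
  have hJ : Jac = Ideal.span {u, v * w, v ^ 2} := by
    apply le_antisymm
    · rw [hJac, Ideal.span_le]
      intro x hx
      simp only [Set.mem_insert_iff, Set.mem_singleton_iff] at hx
      have hum : u ∈ Ideal.span {u, v * w, v ^ 2} := Ideal.subset_span (by simp)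
      have hvw : v * w ∈ Ideal.span {u, v * w, v ^ 2} := Ideal.subset_span (by simp)
      have hvv : v ^ 2 ∈ Ideal.span {u, v * w, v ^ 2} := Ideal.subset_span (by simp)
      rcases hx with rfl | rfl | rfl | rfl
      · have : u ^ 2 - v ^ 2 * w = u * u - w * v ^ 2 := by ring
        rw [this]
        exact Ideal.sub_mem _ (Ideal.mul_mem_left _ _ hum) (Ideal.mul_mem_left _ _ hvv)
      · exact Ideal.mul_mem_left _ _ hum
      · have : -(2 * v * w) = (-2) * (v * w) := by ring
        rw [this]
        exact Ideal.mul_mem_left _ _ hvw
      · exact neg_mem hvv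
    · rw [Ideal.span_le]
      intro x hx
      simp only [Set.mem_insert_iff, Set.mem_singleton_iff] at hx
      have g1 : 2 * u ∈ Jac := Ideal.subset_span (by simp)
      have g2 : -(2 * v * w) ∈ Jac := Ideal.subset_span (by simp)
      have g3 : -(v ^ 2) ∈ Jac := Ideal.subset_span (by simp)
      rcases hx with rfl | rfl | rfl
      · have : u = MvPolynomial.C (2⁻¹ : K) * (2 * u) := by rw [← mul_assoc, h2, one_mul]
        rw [this]
        exact Ideal.mul_mem_left _ _ g1
      · have : v * w = -(MvPolynomial.C (2⁻¹ : K)) * (-(2 * v * w)) := by
          have : -(MvPolynomial.C (2⁻¹ : K)) * (-(2 * v * w)) =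
              (MvPolynomial.C (2⁻¹ : K) * 2) * (v * w) := by ring
          rw [this, h2, one_mul]
        rw [this]
        exact Ideal.mul_mem_left _ _ g2
      · have : v ^ 2 = -(-(v ^ 2)) := by ring
        rw [this]
        exact neg_mem g3
  have huJ : u ∈ Jac := by rw [hJ]; exact Ideal.subset_span (by simp)
  have hvwJ : v * w ∈ Jac := by rw [hJ]; exact Ideal.subset_span (by simp)
  have hvvJ : v ^ 2 ∈ Jac := by rw [hJ]; exact Ideal.subset_span (by simp)
  constructor
  · apply le_antisymm
    · rw [Ideal.span_le]
      intro x hx
      simp only [Set.mem_insert_iff, Set.mem_singleton_iff] at hx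
      rcases hx with rfl | rfl
      · exact Ideal.mem_sup_left huJ
      · exact Ideal.mem_sup_right (Ideal.subset_span rfl)
    · apply sup_le
      · rw [hJ, Ideal.span_le]
        intro x hx
        simp only [Set.mem_insert_iff, Set.mem_singleton_iff] at hx
        have hum : u ∈ Ideal.span {u, v} := Ideal.subset_span (by simp)
        have hvm : v ∈ Ideal.span {u, v} := Ideal.subset_span (by simp)
        rcases hx with rfl | rfl | rfl
        · exact hum
        · exact Ideal.mul_mem_right _ _ hvm
        · rw [pow_two]; exact Ideal.mul_mem_left _ _ hvm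
      · apply Ideal.span_mono
        intro x hx
        simp only [Set.mem_singleton_iff] at hx
        simp [hx]
  · apply le_antisymm
    · intro f hf
      rw [Ideal.mem_colon_span_singleton, hJ] at hf
      -- monomial ideal description
      have e1 : ({u, v * w, v ^ 2} : Set (MvPolynomial (Fin (n + 3)) K)) =
          (fun s => MvPolynomial.monomial s (1 : K)) ''
            {Finsupp.single 0 1, Finsupp.single 1 1 + Finsupp.single 2 1, Finsupp.single 1 2} := by
        simp only [Set.image_insert_eq, Set.image_singleton]
        congr 1
        · congr 1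
          · simp only [hv, hw, MvPolynomial.X, MvPolynomial.monomial_mul, mul_one]
          · simp only [hv, MvPolynomial.X_pow_eq_monomial]
      have e2 : ({u, v, w} : Set (MvPolynomial (Fin (n + 3)) K)) =
          MvPolynomial.X '' ({0, 1, 2} : Set (Fin (n + 3))) := by
        simp only [Set.image_insert_eq, Set.image_singleton]
        rfl
      rw [e1, MvPolynomial.mem_ideal_span_monomial_image] at hf
      rw [e2, MvPolynomial.mem_ideal_span_X_image]
      intro m hm
      have hm' : m + Finsupp.single 1 1 ∈ (f * v).support := by
        rw [hv, MvPolynomial.support_mul_X]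
        exact Finset.mem_map_of_mem _ hm
      obtain ⟨si, hsi, hle⟩ := hf _ hm'
      simp only [Set.mem_insert_iff, Set.mem_singleton_iff] at hsi
      rcases hsi with rfl | rfl | rfl
      · refine ⟨0, by simp, ?_⟩
        have := hle 0
        simp at this
        omega
      · refine ⟨2, by simp, ?_⟩
        have := hle 2
        simp at this
        omega
      · refine ⟨1, by simp, ?_⟩
        have := hle 1
        simp at this
        omega
    · rw [Ideal.span_le]
      intro x hx
      simp only [Set.mem_insert_iff, Set.mem_singleton_iff] at hx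
      show x ∈ Jac.colon (Ideal.span {v})
      rw [Ideal.mem_colon_span_singleton]
      rcases hx with rfl | rfl | rfl
      · exact Ideal.mul_mem_right _ _ huJ
      · rw [← pow_two]; exact hvvJ
      · rw [mul_comm]; exact hvwJ

end Groth.Agent.S18125
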