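import Groth.Statements.S18136
import Mathlib
import Groth.Agent.Helper9.CotangentLocal
-- import your own Groth.Agent.* helpers here

set_option autoImplicit false
universe u v
open IsLocalRing
open CAlg

namespace Groth.Agent.S18136

/-- Let A be a regular local ring with maximal ideal m and residue field k, written as a directed
colimit of regular local rings A_j with local transition maps (compatible maps ψ_j : A_j → A that
are jointly surjective, an element dying in A dying at some later stage). Let f_1, …, f_c, g_1, …,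
g_d ∈ m have linearly independent classes in m/m^2 over k, and put I = (f_1, …, f_c) ⊆ I' = (f_1, …,
f_c, g_1, …, g_d) (so I is generated by part of a regular system of parameters of A and I'/I by part
of a regular system of parameters of A/I; for a regular local ring the condition on I ⊆ I' is stated
through such a joint family). Then there are an index j_0 and ideals I_j ⊆ I'_j ⊆ A_j for j ≥ j_0
such that: each I_j is generated by c elements and I'_j by these together with d further elements of
the maximal ideal m_j, the c + d classes in m_j/m_j^2 being linearly independent over the residue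
field of A_j; the transition maps carry I_i, I'_i onto generators of I_j, I'_j for j_0 ≤ i ≤ j; and
I_j, I'_j generate I, I' in A. -/
theorem result
    {A : Type u} [CommRing A] [IsRegularLocalRing A]
    {ι : Type v} [Preorder ι] [Nonempty ι] [IsDirected ι (· ≤ ·)]
    (B : ι → Type u) [∀ j, CommRing (B j)] [∀ j, IsRegularLocalRing (B j)]
    (φ : ∀ i j, i ≤ j → (B i →+* B j)) (hφloc : ∀ i j (h : i ≤ j), IsLocalHom (φ i j h))
    (hφ : ∀ i j l (hij : i ≤ j) (hjl : j ≤ l), (φ j l hjl).comp (φ i j hij) = φ i l (hij.trans hjl))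
    (ψ : ∀ j, B j →+* A) (hψ : ∀ i j (h : i ≤ j), (ψ j).comp (φ i j h) = ψ i)
    (hsurj : ∀ a : A, ∃ j, ∃ x : B j, ψ j x = a)
    (hker : ∀ j (x : B j), ψ j x = 0 → ∃ l, ∃ h : j ≤ l, φ j l h x = 0)
    (c d : ℕ) (f : Fin c → maximalIdeal A) (g : Fin d → maximalIdeal A)
    (hind : LinearIndependent (ResidueField A) (⇑(maximalIdeal A).toCotangent ∘ Sum.elim f g)) :
    ∃ j₀ : ι, ∃ (P : ∀ j, j₀ ≤ j → Ideal (B j)) (Q : ∀ j, j₀ ≤ j → Ideal (B j)),
      (∀ j (hj : j₀ ≤ j), ∃ (F : Fin c → maximalIdeal (B j)) (E : Fin d → maximalIdeal (B j)),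
        LinearIndependent (ResidueField (B j)) (⇑(maximalIdeal (B j)).toCotangent ∘ Sum.elim F E) ∧
        P j hj = Ideal.span (Set.range (fun s => (F s : B j))) ∧
        Q j hj = P j hj ⊔ Ideal.span (Set.range (fun t => (E t : B j)))) ∧
      (∀ i j (hi : j₀ ≤ i) (hij : i ≤ j),
        (P i hi).map (φ i j hij) = P j (le_trans hi hij) ∧ (Q i hi).map (φ i j hij) = Q j (le_trans hi hij)) ∧
      (∀ j (hj : j₀ ≤ j),
        (P j hj).map (ψ j) = Ideal.span (Set.range (fun s => (f s : A))) ∧
        (Q j hj).map (ψ j) = Ideal.span (Set.range (fun s => (f s : A))) ⊔ Ideal.span (Set.range (fun t => (g t : A)))) := by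
  classical
  -- ψ j is local
  have hψloc : ∀ j (x : B j), IsUnit (ψ j x) → IsUnit x := by
    intro j x hu
    obtain ⟨y, hy⟩ := hu.exists_right_inv
    obtain ⟨l, y', hy'⟩ := hsurj y
    obtain ⟨m, hjm, hlm⟩ := exists_ge_ge j l
    have hz : ψ m (φ j m hjm x * φ l m hlm y' - 1) = 0 := by
      rw [map_sub, map_mul, map_one, ← RingHom.comp_apply, ← RingHom.comp_apply, hψ, hψ, hy', hy,
        sub_self]
    obtain ⟨m', hmm', hm'⟩ := hker m _ hz
    rw [map_sub, map_mul, map_one, sub_eq_zero, ← RingHom.comp_apply, hφ] at hm'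
    have hu' : IsUnit (φ j m' (hjm.trans hmm') x) := IsUnit.of_mul_eq_one _ hm'
    exact (hφloc j m' (hjm.trans hmm')).map_nonunit x hu'
  -- lift to a common stage
  let hh : Fin c ⊕ Fin d → maximalIdeal A := Sum.elim f g
  choose jk xk hxk using fun k => hsurj (hh k : A)
  obtain ⟨j₀, hj₀⟩ := Finset.exists_le (Finset.univ.image jk)
  have hjk : ∀ k, jk k ≤ j₀ := fun k => hj₀ _ (Finset.mem_image_of_mem _ (Finset.mem_univ k))
  let X₀ : Fin c ⊕ Fin d → B j₀ := fun k => φ (jk k) j₀ (hjk k) (xk k)
  have hX₀ : ∀ k, ψ j₀ (X₀ k) = (hh k : A) := by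
    intro k
    change ψ j₀ (φ (jk k) j₀ (hjk k) (xk k)) = _
    rw [← RingHom.comp_apply, hψ, hxk]
  have hXj : ∀ j (hj : j₀ ≤ j) k, ψ j (φ j₀ j hj (X₀ k)) = (hh k : A) := by
    intro j hj k
    rw [← RingHom.comp_apply, hψ, hX₀]
  have hmem : ∀ j (hj : j₀ ≤ j) k, φ j₀ j hj (X₀ k) ∈ maximalIdeal (B j) := by
    intro j hj k
    rw [mem_maximalIdeal, mem_nonunits_iff]
    intro hu
    have h1 : IsUnit (ψ j (φ j₀ j hj (X₀ k))) := hu.map (ψ j)
    rw [hXj] at h1
    exact (mem_maximalIdeal _).1 (hh k).2 h1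
  refine ⟨j₀, fun j hj => Ideal.span (Set.range fun s : Fin c => φ j₀ j hj (X₀ (Sum.inl s))),
    fun j hj => Ideal.span (Set.range fun s : Fin c => φ j₀ j hj (X₀ (Sum.inl s))) ⊔
      Ideal.span (Set.range fun t : Fin d => φ j₀ j hj (X₀ (Sum.inr t))), ?_, ?_, ?_⟩
  · intro j hj
    refine ⟨fun s => ⟨φ j₀ j hj (X₀ (Sum.inl s)), hmem j hj _⟩,
      fun t => ⟨φ j₀ j hj (X₀ (Sum.inr t)), hmem j hj _⟩, ?_, rfl, rfl⟩
    refine Groth.Agent.Helper9.CotangentLocal.linInd_of_local (ψ j) (hψloc j) _ hh ?_ hind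
    intro k
    rcases k with s | t
    · exact hXj j hj (Sum.inl s)
    · exact hXj j hj (Sum.inr t)
  · intro i j hi hij
    have hcomp : ∀ k, φ i j hij (φ j₀ i hi (X₀ k)) = φ j₀ j (le_trans hi hij) (X₀ k) := by
      intro k
      rw [← RingHom.comp_apply, hφ]
    have hP : (Ideal.span (Set.range fun s : Fin c => φ j₀ i hi (X₀ (Sum.inl s)))).map (φ i j hij) =
        Ideal.span (Set.range fun s : Fin c => φ j₀ j (le_trans hi hij) (X₀ (Sum.inl s))) := by
      rw [Ideal.map_span, ← Set.range_comp]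
      congr 2
      funext s
      exact hcomp _
    have hQ : (Ideal.span (Set.range fun t : Fin d => φ j₀ i hi (X₀ (Sum.inr t)))).map (φ i j hij) =
        Ideal.span (Set.range fun t : Fin d => φ j₀ j (le_trans hi hij) (X₀ (Sum.inr t))) := by
      rw [Ideal.map_span, ← Set.range_comp]
      congr 2
      funext s
      exact hcomp _
    exact ⟨hP, by rw [Ideal.map_sup, hP, hQ]⟩
  · intro j hj
    have hP : (Ideal.span (Set.range fun s : Fin c => φ j₀ j hj (X₀ (Sum.inl s)))).map (ψ j) =
        Ideal.span (Set.range fun s : Fin c => (f s : A)) := by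
      rw [Ideal.map_span, ← Set.range_comp]
      congr 2
      funext s
      exact hXj j hj (Sum.inl s)
    have hQ : (Ideal.span (Set.range fun t : Fin d => φ j₀ j hj (X₀ (Sum.inr t)))).map (ψ j) =
        Ideal.span (Set.range fun t : Fin d => (g t : A)) := by
      rw [Ideal.map_span, ← Set.range_comp]
      congr 2
      funext s
      exact hXj j hj (Sum.inr s)
    exact ⟨hP, by rw [Ideal.map_sup, hP, hQ]⟩

end Groth.Agent.S18136
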