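import Groth.Statements.S18153
import Mathlib
import Groth.Agent.Helper9.JacCharP
-- import your own Groth.Agent.* helpers here

set_option autoImplicit false
universe u w
open FrobAlg

namespace Groth.Agent.S18153

/-- Let R be a commutative ring of prime characteristic p and f_1, …, f_m (m ≥ 1) polynomials over R in
the variables t_1, …, t_m and a further, possibly empty, family of variables s_a. Then in the m × m
Jacobian determinant det(∂f_i/∂t_j) with respect to the t-variables, the coefficient of the monomial
t_1^{p-1} ⋯ t_m^{p-1} (all s-exponents zero) vanishes. (In the source this is the claim, for formal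
power series in n ≥ m variables over the base field, to which the proof of the proposition reduces;
the coefficient in question only involves truncations of the f_i, so the polynomial form over any
ring of characteristic p is the same assertion.) -/
theorem result
    (p : ℕ) [Fact p.Prime] (R : Type u) [CommRing R] [CharP R p]
    {m : ℕ} (hm : 0 < m) (σ : Type w) (f : Fin m → MvPolynomial (Fin m ⊕ σ) R) :
    MvPolynomial.coeff
        (Finsupp.sumElim (Finsupp.equivFunOnFinite.symm fun _ : Fin m => p - 1) (0 : σ →₀ ℕ))
        (Matrix.of fun i j : Fin m => MvPolynomial.pderiv (Sum.inl j) (f i)).det = 0 := by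
  classical
  obtain ⟨μ, hμ⟩ : ∃ μ : (Fin m ⊕ σ) →₀ ℕ, μ =
      Finsupp.sumElim (Finsupp.equivFunOnFinite.symm fun _ : Fin m => p - 1) (0 : σ →₀ ℕ) := ⟨_, rfl⟩
  rw [← hμ, ← Groth.Agent.Helper9.JacCharP.Φ_apply]
  have hΦ : Groth.Agent.Helper9.JacCharP.Φ (R := R) μ = 0 := by
    refine Module.Basis.ext_multilinear (fun _ => MvPolynomial.basisMonomials (Fin m ⊕ σ) R) ?_
    intro e
    simp only [MvPolynomial.coe_basisMonomials, zero_apply]
    rw [Groth.Agent.Helper9.JacCharP.Φ_apply, Groth.Agent.Helper9.JacCharP.coeff_det_monomial]
    by_cases hC : ∑ i, e i = μ + ∑ j : Fin m, Finsupp.single (Sum.inl j) 1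
    · rw [if_pos hC, one_mul]
      refine Groth.Agent.Helper9.JacCharP.det_eq_zero_of_col_sums hm _ ?_
      intro j
      simp only [Matrix.of_apply]
      rw [← Nat.cast_sum]
      have h1 : ∑ i, e i (Sum.inl j) = p := by
        have := DFunLike.congr_fun hC (Sum.inl j)
        rw [Finsupp.finsetSum_apply, Finsupp.add_apply, Finsupp.finsetSum_apply] at this
        rw [this, hμ, Finsupp.sumElim_inl]
        simp only [Finsupp.equivFunOnFinite_symm_apply_apply]
        rw [Finset.sum_eq_single j]
        · rw [Finsupp.single_eq_same]
          have := (Fact.out : p.Prime).one_lt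
          omega
        · intro b _ hb
          rw [Finsupp.single_eq_of_ne]
          intro h
          exact hb (Sum.inl_injective h).symm
        · intro h; exact absurd (Finset.mem_univ j) h
      rw [h1]
      exact CharP.cast_eq_zero R p
    · rw [if_neg hC, zero_mul]
  rw [hΦ, zero_apply]

end Groth.Agent.S18153
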