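import Groth.Statements.S18156
import Mathlib
-- import your own Groth.Agent.* helpers here

set_option autoImplicit false
universe u v
open CAlg

namespace Groth.Agent.S18156

/-- Let k be a field and A a regular local ring that is a k-algebra, with maximal ideal m and m-adic
completion Â. Then every k-derivation D of A into itself extends to a k-derivation D̂ of Â into
itself along the canonical map ρ : A → Â, in the sense that D̂(ρ(a)) = ρ(D(a)) for every a ∈ A. (The
source works throughout over an algebraically closed field of characteristic p; neither assumption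
enters this statement.) -/
theorem result
    (k : Type u) [Field k] (A : Type v) [CommRing A] [Algebra k A] [IsRegularLocalRing A]
    (D : Derivation k A A) :
    ∃ Dhat : Derivation k (AdicCompletion (IsLocalRing.maximalIdeal A) A)
        (AdicCompletion (IsLocalRing.maximalIdeal A) A),
      ∀ a : A, Dhat (algebraMap A (AdicCompletion (IsLocalRing.maximalIdeal A) A) a) =
        algebraMap A (AdicCompletion (IsLocalRing.maximalIdeal A) A) (D a) := by
  classical
  obtain ⟨I, hI⟩ : ∃ I, I = IsLocalRing.maximalIdeal A := ⟨_, rfl⟩
  rw [← hI]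
  -- D maps I^(n+1) into I^n
  have hD : ∀ n : ℕ, ∀ x ∈ I ^ (n + 1), D x ∈ I ^ n := by
    intro n
    induction n with
    | zero => intro x _; simp
    | succ n ih =>
      intro x hx
      rw [pow_succ] at hx
      refine Submodule.mul_induction_on hx ?_ ?_
      · intro u hu v hv
        rw [Derivation.leibniz]
        refine add_mem (Ideal.mul_mem_right _ _ hu) ?_
        rw [smul_eq_mul, pow_succ']
        exact Ideal.mul_mem_mul hv (ih u hu)
      · intro u v hu hv
        rw [map_add]
        exact add_mem hu hv
  have hmem : ∀ (n : ℕ) (x : A), x ∈ (I ^ n • ⊤ : Submodule A A) ↔ x ∈ I ^ n := by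
    intro n x
    simp
  -- criterion for equality of classes
  have hcrit : ∀ a a' : AdicCompletion.AdicCauchySequence I A,
      AdicCompletion.mk I A a = AdicCompletion.mk I A a' ↔ ∀ n, a n - a' n ∈ I ^ n := by
    intro a a'
    constructor
    · intro h n
      have := congrArg (fun x => x.val n) h
      simp only [AdicCompletion.mk_apply_coe, Submodule.mkQ_apply] at this
      rw [Submodule.Quotient.eq] at this
      exact (hmem n _).mp this
    · intro h
      apply AdicCompletion.ext
      intro n
      simp only [AdicCompletion.mk_apply_coe, Submodule.mkQ_apply]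
      rw [Submodule.Quotient.eq]
      exact (hmem n _).mpr (h n)
  -- Cauchy property unwrapped
  have hcau : ∀ (a : AdicCompletion.AdicCauchySequence I A) {m n : ℕ}, m ≤ n →
      a n - a m ∈ I ^ m := by
    intro a m n hmn
    have := AdicCompletion.AdicCauchySequence.mk_eq_mk hmn a
    rw [Submodule.Quotient.eq] at this
    exact (hmem m _).mp this
  -- the shifted derivative sequence
  have hbc : ∀ a : AdicCompletion.AdicCauchySequence I A,
      AdicCompletion.IsAdicCauchy I A (fun n => D (a (n + 1))) := by
    intro a m n hmn
    rw [SModEq.sub_mem, hmem, ← map_sub]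
    refine hD m _ ?_
    have := hcau a (show m + 1 ≤ n + 1 by omega)
    rw [← neg_sub]
    exact neg_mem this
  obtain ⟨bseq, hbseq⟩ : ∃ bseq : AdicCompletion.AdicCauchySequence I A →
      AdicCompletion.AdicCauchySequence I A, ∀ a n, bseq a n = D (a (n + 1)) :=
    ⟨fun a => ⟨fun n => D (a (n + 1)), hbc a⟩, fun _ _ => rfl⟩
  have hwd : ∀ a a' : AdicCompletion.AdicCauchySequence I A,
      AdicCompletion.mk I A a = AdicCompletion.mk I A a' →
      AdicCompletion.mk I A (bseq a) = AdicCompletion.mk I A (bseq a') := by
    intro a a' h
    rw [hcrit] at h ⊢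
    intro n
    rw [hbseq, hbseq, ← map_sub]
    exact hD n _ (h (n + 1))
  obtain ⟨Dfun, hDfun⟩ : ∃ Dfun : AdicCompletion I A → AdicCompletion I A,
      ∀ a, Dfun (AdicCompletion.mk I A a) = AdicCompletion.mk I A (bseq a) := by
    refine ⟨fun x => AdicCompletion.mk I A
      (bseq (Classical.choose (AdicCompletion.mk_surjective I A x))), fun a => ?_⟩
    exact hwd _ _ (Classical.choose_spec (AdicCompletion.mk_surjective I A (AdicCompletion.mk I A a)))
  have hsm : ∀ (c : k) (a : AdicCompletion.AdicCauchySequence I A),
      c • AdicCompletion.mk I A a = AdicCompletion.mk I A ((algebraMap k A c) • a) := by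
    intro c a
    rw [Algebra.smul_def, AdicCompletion.algebraMap_apply]
    apply AdicCompletion.ext
    intro n
    rfl
  have hmul : ∀ a a' : AdicCompletion.AdicCauchySequence I A,
      AdicCompletion.mk I A a * AdicCompletion.mk I A a' = AdicCompletion.mk I A (a * a') :=
    fun _ _ => rfl
  have hconst : ∀ (r : A) (n : ℕ),
      (algebraMap A (AdicCompletion.AdicCauchySequence I A) r) n = r := fun _ _ => rfl
  have hof : ∀ r : A, algebraMap A (AdicCompletion I A) r =
      AdicCompletion.mk I A (algebraMap A (AdicCompletion.AdicCauchySequence I A) r) := by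
    intro r
    exact ((AdicCompletion.mkₐ I).commutes r).symm
  refine ⟨{ toFun := Dfun, map_add' := ?_, map_smul' := ?_, map_one_eq_zero' := ?_,
            leibniz' := ?_ }, ?_⟩
  · intro x y
    obtain ⟨a, rfl⟩ := AdicCompletion.mk_surjective I A x
    obtain ⟨a', rfl⟩ := AdicCompletion.mk_surjective I A y
    rw [← map_add, hDfun, hDfun, hDfun, ← map_add]
    congr 1
    apply AdicCompletion.AdicCauchySequence.ext
    intro n
    simp [hbseq]
  · intro c x
    obtain ⟨a, rfl⟩ := AdicCompletion.mk_surjective I A x
    rw [RingHom.id_apply, hsm, hDfun, hDfun, hsm]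
    congr 1
    apply AdicCompletion.AdicCauchySequence.ext
    intro n
    simp only [hbseq, AdicCompletion.AdicCauchySequence.smul_apply, smul_eq_mul]
    rw [← Algebra.smul_def, D.map_smul, Algebra.smul_def]
  · show Dfun 1 = 0
    have h1 : (1 : AdicCompletion I A) = AdicCompletion.mk I A 1 := rfl
    rw [h1, hDfun]
    have : bseq 1 = 0 := by
      apply AdicCompletion.AdicCauchySequence.ext
      intro n
      rw [hbseq]
      simp
    rw [this, map_zero]
  · intro x y
    show Dfun (x * y) = x • Dfun y + y • Dfun x
    obtain ⟨a, rfl⟩ := AdicCompletion.mk_surjective I A x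
    obtain ⟨a', rfl⟩ := AdicCompletion.mk_surjective I A y
    rw [hmul, hDfun, hDfun, hDfun, smul_eq_mul, smul_eq_mul, hmul, hmul, ← map_add, hcrit]
    intro n
    simp only [hbseq, AdicCompletion.AdicCauchySequence.add_apply,
      AdicCompletion.mul_apply, Derivation.leibniz, smul_eq_mul]
    have e : a (n + 1) * D (a' (n + 1)) + a' (n + 1) * D (a (n + 1)) -
        (a n * D (a' (n + 1)) + a' n * D (a (n + 1))) =
        (a (n + 1) - a n) * D (a' (n + 1)) + (a' (n + 1) - a' n) * D (a (n + 1)) := by ring
    rw [e]
    exact add_mem (Ideal.mul_mem_right _ _ (hcau a (Nat.le_succ n)))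
      (Ideal.mul_mem_right _ _ (hcau a' (Nat.le_succ n)))
  · intro r
    show Dfun (algebraMap A (AdicCompletion I A) r) = _
    rw [hof, hDfun, hof, hcrit]
    intro n
    rw [hbseq, hconst, hconst, sub_self]
    exact zero_mem _

end Groth.Agent.S18156
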