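import Groth.Statements.S18188
import Mathlib
-- import your own Groth.Agent.* helpers here

set_option autoImplicit false
universe u
open OrbRR

namespace Groth.Agent.S18188

/-- Let K be a field in which 6 ≠ 0, let j < N be natural numbers (so N ≥ 1), and let ζ ∈ K be a
primitive N-th root of unity. Then the sum over i = 1, …, N − 1 of ζ^{ij} / (2 − ζ^i − ζ^{−i})
equals j(j − N)/2 + (N² − 1)/12. (The published setting is characteristic zero; the identity is
stated here over any field of characteristic different from 2 and 3, where the published proof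
applies unchanged: a field containing a primitive N-th root of unity has characteristic prime to N,
and each denominator 2 − ζ^i − ζ^{−i} = −(1 − ζ^i)²/ζ^i with 0 < i < N is nonzero. In
characteristics 2 and 3 the right-hand side has no meaning.) -/
theorem result (K : Type u) [Field K] (h6 : (6 : K) ≠ 0)
    (N j : ℕ) (hj : j < N) (ζ : K) (hζ : IsPrimitiveRoot ζ N) :
    ∑ i ∈ Finset.Ioo 0 N, ζ ^ (i * j) / (2 - ζ ^ i - (ζ ^ i)⁻¹) =
      (j : K) * ((j : K) - (N : K)) / 2 + ((N : K) ^ 2 - 1) / 12 := by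
  classical
  have hNpos : 0 < N := by omega
  have hNZ : NeZero N := ⟨by omega⟩
  have hNK : (N : K) ≠ 0 := (hζ.neZero' (R := K)).ne
  have h2 : (2 : K) ≠ 0 := fun h => h6 (by rw [show (6 : K) = 2 * 3 by norm_num, h, zero_mul])
  have h3 : (3 : K) ≠ 0 := fun h => h6 (by rw [show (6 : K) = 2 * 3 by norm_num, h, mul_zero])
  have h12 : (12 : K) ≠ 0 := by
    rw [show (12 : K) = 2 * 6 by norm_num]
    exact mul_ne_zero h2 h6
  have hζ0 : ζ ≠ 0 := hζ.ne_zero (by omega)
  have hsplit : ∀ F : ℕ → K, ∑ i ∈ Finset.range N, F i = F 0 + ∑ i ∈ Finset.Ioo 0 N, F i := by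
    intro F
    rw [Finset.range_eq_Ico, Finset.sum_eq_sum_Ico_succ_bot hNpos]
    rfl
  have hd0 : ∀ i ∈ Finset.Ioo 0 N, 2 - ζ ^ i - (ζ ^ i)⁻¹ ≠ 0 := by
    intro i hi
    rw [Finset.mem_Ioo] at hi
    have h1 : ζ ^ i ≠ 1 := hζ.pow_ne_one_of_pos_of_lt (by omega) hi.2
    have h0 : ζ ^ i ≠ 0 := pow_ne_zero _ hζ0
    intro hzero
    have h4 : (ζ ^ i - 1) ^ 2 = -(ζ ^ i) * (2 - ζ ^ i - (ζ ^ i)⁻¹) := by
      field_simp
      ring
    rw [hzero, mul_zero] at h4
    exact h1 (sub_eq_zero.mp ((pow_eq_zero_iff two_ne_zero).mp h4))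
  have hgeom : ∀ j : ℕ, ¬ N ∣ j → ∑ i ∈ Finset.range N, ζ ^ (i * j) = 0 := by
    intro j hj
    have hω : (ζ ^ j) ^ N = 1 := by rw [← pow_mul, mul_comm, pow_mul, hζ.pow_eq_one, one_pow]
    have hω1 : ζ ^ j ≠ 1 := fun h => hj ((hζ.pow_eq_one_iff_dvd j).mp h)
    have h4 := mul_neg_geom_sum (ζ ^ j) N
    rw [hω, sub_self] at h4
    have h5 : ∑ i ∈ Finset.range N, ζ ^ (i * j) = ∑ i ∈ Finset.range N, (ζ ^ j) ^ i :=
      Finset.sum_congr rfl fun i _ => by rw [mul_comm, pow_mul]
    rw [h5]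
    rcases mul_eq_zero.mp h4 with h | h
    · exact absurd (sub_eq_zero.mp h).symm hω1
    · exact h
  -- the two functions
  have hg2 : ∀ j : ℕ, ¬ N ∣ (j + 1) →
      (∑ i ∈ Finset.Ioo 0 N, ζ ^ (i * (j + 2)) / (2 - ζ ^ i - (ζ ^ i)⁻¹)) -
        2 * (∑ i ∈ Finset.Ioo 0 N, ζ ^ (i * (j + 1)) / (2 - ζ ^ i - (ζ ^ i)⁻¹)) +
        (∑ i ∈ Finset.Ioo 0 N, ζ ^ (i * j) / (2 - ζ ^ i - (ζ ^ i)⁻¹)) = 1 := by
    intro j hj
    have h4 : (∑ i ∈ Finset.Ioo 0 N, ζ ^ (i * (j + 2)) / (2 - ζ ^ i - (ζ ^ i)⁻¹)) -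
        2 * (∑ i ∈ Finset.Ioo 0 N, ζ ^ (i * (j + 1)) / (2 - ζ ^ i - (ζ ^ i)⁻¹)) +
        (∑ i ∈ Finset.Ioo 0 N, ζ ^ (i * j) / (2 - ζ ^ i - (ζ ^ i)⁻¹)) =
        ∑ i ∈ Finset.Ioo 0 N, -(ζ ^ (i * (j + 1))) := by
      rw [Finset.mul_sum, ← Finset.sum_sub_distrib, ← Finset.sum_add_distrib]
      refine Finset.sum_congr rfl fun i hi => ?_
      have hdi := hd0 i hi
      have h0 : ζ ^ i ≠ 0 := pow_ne_zero _ hζ0
      rw [show i * (j + 2) = i * j + i + i by ring, show i * (j + 1) = i * j + i by ring,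
        pow_add, pow_add]
      have hdd : (2 - ζ ^ i - (ζ ^ i)⁻¹) = -((ζ ^ i - 1) ^ 2) / ζ ^ i := by
        field_simp
        ring
      rw [hdd] at hdi ⊢
      have h5 : ζ ^ i - 1 ≠ 0 := by
        intro h
        apply hdi
        rw [h]
        simp
      generalize ζ ^ i = a at *
      generalize ζ ^ (i * j) = c
      field_simp
      ring
    rw [h4, Finset.sum_neg_distrib]
    have h6 := hsplit (fun i => ζ ^ (i * (j + 1)))
    rw [hgeom (j + 1) hj] at h6
    simp only [zero_mul, pow_zero] at h6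
    linear_combination h6
  set g : ℕ → K := fun j => ∑ i ∈ Finset.Ioo 0 N, ζ ^ (i * j) / (2 - ζ ^ i - (ζ ^ i)⁻¹) with hg
  set f : ℕ → K := fun j => (j : K) * ((j : K) - (N : K)) / 2 + ((N : K) ^ 2 - 1) / 12 with hf
  have hf2 : ∀ j : ℕ, f (j + 2) - 2 * f (j + 1) + f j = 1 := by
    intro j
    simp only [hf]
    push_cast
    field_simp
    ring
  have hh2 : ∀ j, j + 1 < N → (g (j + 2) - f (j + 2)) = 2 * (g (j + 1) - f (j + 1)) - (g j - f j) := by
    intro j hj
    have hnd : ¬ N ∣ j + 1 := Nat.not_dvd_of_pos_of_lt (by omega) hj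
    have e1 := hg2 j hnd
    have e2 := hf2 j
    linear_combination e1 - e2
  have hlin : ∀ j, j ≤ N → g j - f j = (g 0 - f 0) + (j : K) * ((g 1 - f 1) - (g 0 - f 0)) := by
    intro j
    induction j using Nat.strong_induction_on with
    | _ j ih =>
      intro hjN
      match j, ih, hjN with
      | 0, _, _ => simp
      | 1, _, _ => simp
      | (j + 2), ih, hjN =>
        rw [hh2 j (by omega), ih (j + 1) (by omega) (by omega), ih j (by omega) (by omega)]
        push_cast
        ring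
  have hgN : g N = g 0 := by
    simp only [hg]
    refine Finset.sum_congr rfl fun i _ => ?_
    rw [mul_zero, pow_zero, mul_comm, pow_mul, hζ.pow_eq_one, one_pow]
  have hfN : f N = f 0 := by
    simp only [hf]
    push_cast
    ring
  have hslope : (g 1 - f 1) - (g 0 - f 0) = 0 := by
    have e := hlin N le_rfl
    rw [hgN, hfN] at e
    have h' : (N : K) * ((g 1 - f 1) - (g 0 - f 0)) = 0 := by linear_combination -e
    rcases mul_eq_zero.mp h' with h | h
    · exact absurd h hNK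
    · exact h
  have hconst : ∀ j, j ≤ N → g j - f j = g 0 - f 0 := by
    intro j hj
    rw [hlin j hj, hslope, mul_zero, add_zero]
  have hsumg : ∑ j ∈ Finset.range N, g j = 0 := by
    simp only [hg]
    rw [Finset.sum_comm]
    apply Finset.sum_eq_zero
    intro i hi
    rw [← Finset.sum_div]
    have hnd : ¬ N ∣ i := by
      rw [Finset.mem_Ioo] at hi
      exact Nat.not_dvd_of_pos_of_lt hi.1 hi.2
    have e := hgeom i hnd
    have h' : ∑ j ∈ Finset.range N, ζ ^ (i * j) = ∑ j ∈ Finset.range N, ζ ^ (j * i) :=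
      Finset.sum_congr rfl (fun j _ => by rw [mul_comm])
    rw [h', e, zero_div]
  have hsq : ∀ M : ℕ, (∑ j ∈ Finset.range M, (j : K) ^ 2) * 6 = ((M : K) - 1) * M * (2 * M - 1) := by
    intro M
    induction M with
    | zero => simp
    | succ M ih =>
      rw [Finset.sum_range_succ, add_mul, ih]
      push_cast
      ring
  have hlin1 : ∀ M : ℕ, (∑ j ∈ Finset.range M, (j : K)) * 2 = (M : K) * ((M : K) - 1) := by
    intro M
    induction M with
    | zero => simp
    | succ M ih =>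
      rw [Finset.sum_range_succ, add_mul, ih]
      push_cast
      ring
  have hsumf : ∑ j ∈ Finset.range N, f j = 0 := by
    have h12f : ∀ j : ℕ, f j * 12 =
        (j : K) ^ 2 * 6 - (N : K) * 3 * ((j : K) * 2) + ((N : K) ^ 2 - 1) := by
      intro j
      simp only [hf]
      field_simp
      ring
    have e : (∑ j ∈ Finset.range N, f j) * 12 = 0 := by
      rw [Finset.sum_mul, Finset.sum_congr rfl (fun j _ => h12f j), Finset.sum_add_distrib,
        Finset.sum_sub_distrib, ← Finset.sum_mul, ← Finset.mul_sum, ← Finset.sum_mul, hsq, hlin1,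
        Finset.sum_const, Finset.card_range, nsmul_eq_mul]
      ring
    rcases mul_eq_zero.mp e with h | h
    · exact h
    · exact absurd h h12
  have hh0 : g 0 - f 0 = 0 := by
    have e : ∑ j ∈ Finset.range N, (g j - f j) = (N : K) * (g 0 - f 0) := by
      rw [Finset.sum_congr rfl (fun j hj => hconst j (le_of_lt (Finset.mem_range.mp hj))),
        Finset.sum_const, Finset.card_range, nsmul_eq_mul]
    rw [Finset.sum_sub_distrib, hsumg, hsumf, sub_zero] at e
    rcases mul_eq_zero.mp e.symm with h | h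
    · exact absurd h hNK
    · exact h
  have e := hconst j hj.le
  rw [hh0] at e
  exact sub_eq_zero.mp e

end Groth.Agent.S18188
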