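import Groth.Statements.S18189
import Mathlib
import Groth.Agent.S18188
-- import your own Groth.Agent.* helpers here

set_option autoImplicit false
open OrbRR

namespace Groth.Agent.S18189

/-- Let N ≥ 1 be a natural number, let ζ ∈ ℂ be a primitive N-th root of unity, and put f(i) = i(i −
N)/2 + (N² − 1)/12 for 0 ≤ i < N. For every natural number m the complex number ε_m = (1/N)
∑_{i=0}^{N−1} f(i) ζ^{mi}, an eigenvalue of the symmetric circulant N × N matrix with (i, j) entry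
f(j − i)/N, is real and nonnegative. -/
theorem result (N : ℕ) (hN : 0 < N) (ζ : ℂ)
    (hζ : IsPrimitiveRoot ζ N) (m : ℕ) :
    (∑ i ∈ Finset.range N,
        ((i : ℂ) * ((i : ℂ) - (N : ℂ)) / 2 + ((N : ℂ) ^ 2 - 1) / 12) / (N : ℂ) * ζ ^ (m * i)).im = 0 ∧
    0 ≤ (∑ i ∈ Finset.range N,
        ((i : ℂ) * ((i : ℂ) - (N : ℂ)) / 2 + ((N : ℂ) ^ 2 - 1) / 12) / (N : ℂ) * ζ ^ (m * i)).re := by
  classical
  have h188 : ∀ i ∈ Finset.range N, (i : ℂ) * ((i : ℂ) - (N : ℂ)) / 2 + ((N : ℂ) ^ 2 - 1) / 12 =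
      ∑ l ∈ Finset.Ioo 0 N, ζ ^ (l * i) / (2 - ζ ^ l - (ζ ^ l)⁻¹) := by
    intro i hi
    exact (Groth.Agent.S18188.result ℂ (by norm_num) N i (Finset.mem_range.mp hi) ζ hζ).symm
  have hNC : (N : ℂ) ≠ 0 := by exact_mod_cast hN.ne'
  have hgeom : ∀ a : ℕ, ∑ i ∈ Finset.range N, ζ ^ (a * i) = if N ∣ a then (N : ℂ) else 0 := by
    intro a
    have hω : (ζ ^ a) ^ N = 1 := by rw [← pow_mul, mul_comm, pow_mul, hζ.pow_eq_one, one_pow]
    have h5 : ∑ i ∈ Finset.range N, ζ ^ (a * i) = ∑ i ∈ Finset.range N, (ζ ^ a) ^ i :=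
      Finset.sum_congr rfl fun i _ => by rw [pow_mul]
    rw [h5]
    split_ifs with hd
    · have : ζ ^ a = 1 := (hζ.pow_eq_one_iff_dvd a).mpr hd
      rw [this]
      simp
    · have hω1 : ζ ^ a ≠ 1 := fun h => hd ((hζ.pow_eq_one_iff_dvd a).mp h)
      have h4 := mul_neg_geom_sum (ζ ^ a) N
      rw [hω, sub_self] at h4
      rcases mul_eq_zero.mp h4 with h | h
      · exact absurd (sub_eq_zero.mp h).symm hω1
      · exact h
  have hd : ∀ l : ℕ, (2 - ζ ^ l - (ζ ^ l)⁻¹) = ((Complex.normSq (1 - ζ ^ l) : ℝ) : ℂ) := by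
    intro l
    have hω : (ζ ^ l) ^ N = 1 := by rw [← pow_mul, mul_comm, pow_mul, hζ.pow_eq_one, one_pow]
    have hnorm : ‖ζ ^ l‖ = 1 := Complex.norm_eq_one_of_pow_eq_one hω hN.ne'
    rw [Complex.inv_eq_conj hnorm, ← Complex.mul_conj, map_sub, map_one]
    have h1 : ζ ^ l * (starRingEnd ℂ) (ζ ^ l) = 1 := by
      rw [Complex.mul_conj, Complex.normSq_eq_norm_sq, hnorm]
      simp
    linear_combination -h1
  have hmain : (∑ i ∈ Finset.range N,
        ((i : ℂ) * ((i : ℂ) - (N : ℂ)) / 2 + ((N : ℂ) ^ 2 - 1) / 12) / (N : ℂ) * ζ ^ (m * i)) =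
      ((∑ l ∈ Finset.Ioo 0 N, (if N ∣ l + m then (Complex.normSq (1 - ζ ^ l))⁻¹ else 0) : ℝ) : ℂ) := by
    rw [Finset.sum_congr rfl (fun i hi => by rw [h188 i hi])]
    simp only [Finset.sum_div, Finset.sum_mul]
    rw [Finset.sum_comm, Complex.ofReal_sum]
    refine Finset.sum_congr rfl fun l _ => ?_
    have h1 : ∀ i ∈ Finset.range N, ζ ^ (l * i) / (2 - ζ ^ l - (ζ ^ l)⁻¹) / (N : ℂ) * ζ ^ (m * i) =
        (2 - ζ ^ l - (ζ ^ l)⁻¹)⁻¹ / (N : ℂ) * ζ ^ ((l + m) * i) := by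
      intro i _
      rw [add_mul, pow_add]
      ring
    rw [Finset.sum_congr rfl h1, ← Finset.mul_sum, hgeom (l + m), hd l]
    split_ifs with hdv
    · rw [Complex.ofReal_inv]
      field_simp
    · simp
  rw [hmain]
  refine ⟨Complex.ofReal_im _, ?_⟩
  rw [Complex.ofReal_re]
  apply Finset.sum_nonneg
  intro l _
  split_ifs
  · exact inv_nonneg.mpr (Complex.normSq_nonneg _)
  · exact le_refl _

end Groth.Agent.S18189
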