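import Groth.Statements.S18204
import Mathlib
import Groth.Agent.Helper9.LocImmLib
-- import your own Groth.Agent.* helpers here

set_option autoImplicit false
universe u
open LocImm

namespace Groth.Agent.S18204

open CategoryTheory AlgebraicGeometry in
/-- A localizing immersion (localizing and injective on points) of Noetherian schemes which is locally
of finite type is an open immersion. -/
theorem result {X Y : Scheme.{u}} [IsNoetherian X] [IsNoetherian Y]
    (f : X ⟶ Y) (hf : LocImm.IsLocImmersion f) [LocallyOfFiniteType f] : IsOpenImmersion f := by
  have h1 := Groth.Agent.Helper9.LocImmLib.flat f hf.1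
  have h2 := Groth.Agent.Helper9.LocImmLib.surjOnStalks f hf.1
  have h3 : Mono f := SurjectiveOnStalks.mono_of_injective hf.2
  exact IsOpenImmersion.of_flat_of_mono f

end Groth.Agent.S18204
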