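import Groth.Statements.S18207
import Mathlib
-- import your own Groth.Agent.* helpers here

set_option autoImplicit false
universe u
open LocImm

namespace Groth.Agent.S18207

open CategoryTheory AlgebraicGeometry in
theorem surjOnStalks_of_isLocalizing {X Y : Scheme.{u}} (f : X ⟶ Y)
    (h : LocImm.IsLocalizing f) : SurjectiveOnStalks f := by
  have hQ : RingHom.StableUnderCompositionWithLocalizationAwaySource
      RingHom.SurjectiveOnStalks := by
    intro R S T _ _ _ _ r _ g hg
    exact hg.comp (RingHom.surjectiveOnStalks_of_isLocalization (Submonoid.powers r) S)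
  rw [HasRingHomProperty.iff_exists_appLE (P := @SurjectiveOnStalks) hQ]
  intro x
  obtain ⟨U, V, hx, e, hloc⟩ := h x
  refine ⟨U, V, hx, e, ?_⟩
  letI := (f.appLE U V e).hom.toAlgebra
  obtain ⟨S, hS⟩ := hloc
  exact RingHom.surjectiveOnStalks_of_isLocalization S _

open CategoryTheory AlgebraicGeometry in
/-- A morphism of Noetherian schemes is a localizing immersion (localizing and injective on points) if
and only if it is a localizing monomorphism in the category of schemes. -/
theorem result {X Y : Scheme.{u}} [IsNoetherian X] [IsNoetherian Y] (f : X ⟶ Y) :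
    LocImm.IsLocImmersion f ↔ (LocImm.IsLocalizing f ∧ Mono f) := by
  constructor
  · rintro ⟨h1, h2⟩
    have := surjOnStalks_of_isLocalizing f h1
    exact ⟨h1, SurjectiveOnStalks.mono_of_injective h2⟩
  · rintro ⟨h1, h2⟩
    exact ⟨h1, f.injective⟩

end Groth.Agent.S18207
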