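import Groth.Statements.S18234
import Mathlib
import Groth.Agent.Helper9.Thicken
-- import your own Groth.Agent.* helpers here

set_option autoImplicit false
universe u
open CategoryTheory MonoidalCategory CartesianMonoidalCategory AlgebraicGeometry Opposite
open Magnet

namespace Groth.Agent.S18234

/-- Let S be a scheme, M a finitely generated abelian group, N a submonoid of M, X and Y schemes over S
with actions of the diagonalizable group scheme D(M)_S, and f : X → Y a formally unramified
equivariant S-morphism. If the attractors X^N and Y^N are represented by S-schemes Z_X and Z_Y, and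
j : Z_X → Z_Y is the S-morphism that corresponds to f^N under the two representing bijections, then
j is formally unramified. (Stated for schemes; the published statement is for algebraic spaces over
S.) -/
theorem result (S : Scheme.{u}) (M : Type) [AddCommGroup M]
    [AddGroup.FG M] (N : AddSubmonoid M) {X Y : Over S} (aX : Magnet.MonAct (Magnet.AMonS S M) X)
    (aY : Magnet.MonAct (Magnet.AMonS S M) Y) (f : X ⟶ Y) (hf : Magnet.MonAct.IsEquivariant aX aY f)
    [FormallyUnramified f.left] {ZX ZY : Over S} (eX : (Magnet.attr aX N).RepresentableBy ZX) (eY : (Magnet.attr aY N).RepresentableBy ZY)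
    (j : ZX ⟶ ZY) (hj : ∀ (T : Over S) (z : T ⟶ ZX),
      eY.homEquiv (z ≫ j) = (Magnet.MonAct.eqvHom.postcomp (Magnet.subAct S M N) f hf).app (op T) (eX.homEquiv z)) :
    FormallyUnramified j.left := by
  refine FormallyUnramified.of_hom_ext j.left ?_
  intro R R' φ hφ hker g₁ g₂ h1 h2
  -- Over S objects
  have hstr : g₁ ≫ ZX.hom = g₂ ≫ ZX.hom := by
    have e1 : ZX.hom = j.left ≫ ZY.hom := (Over.w j).symm
    rw [e1, ← Category.assoc, ← Category.assoc, h2]
  let T' : Over S := Over.mk (g₁ ≫ ZX.hom)
  let T : Over S := Over.mk (Spec.map φ ≫ g₁ ≫ ZX.hom)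
  let t : T ⟶ T' := Over.homMk (Spec.map φ) rfl
  let z₁ : T' ⟶ ZX := Over.homMk g₁ rfl
  let z₂ : T' ⟶ ZX := Over.homMk g₂ hstr.symm
  haveI : IsClosedImmersion t.left := IsClosedImmersion.spec_of_surjective _ hφ
  have hk : t.left.ker ^ 2 = ⊥ := Groth.Agent.Helper9.Thicken.ker_specMap_pow_eq_bot φ 2 hker
  have htz : t ≫ z₁ = t ≫ z₂ := by
    apply Over.OverMorphism.ext
    exact h1
  have hzj : z₁ ≫ j = z₂ ≫ j := by
    apply Over.OverMorphism.ext
    exact h2
  have key : (eX.homEquiv z₁).1 = (eX.homEquiv z₂).1 := by
    refine Groth.Agent.Helper9.Thicken.hom_ext_whiskerLeft (Magnet.AMonS S N) t 2 hk f ?_ ?_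
    · have e1 := eX.homEquiv_comp t z₁
      have e2 := eX.homEquiv_comp t z₂
      rw [htz] at e1
      have := e1.symm.trans e2
      exact congrArg Subtype.val this
    · have e1 := hj T' z₁
      have e2 := hj T' z₂
      rw [hzj] at e1
      have := e1.symm.trans e2
      exact congrArg Subtype.val this
  have hz : z₁ = z₂ := eX.homEquiv.injective (Subtype.ext key)
  exact congrArg (fun z : T' ⟶ ZX => z.left) hz

end Groth.Agent.S18234
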