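import Groth.Statements.S18265
import Mathlib
-- import your own Groth.Agent.* helpers here

set_option autoImplicit false
universe u
open InvQ

namespace Groth.Agent.S18265

/-- Let k be an algebraically closed field and n, m natural numbers, and let R be the ring of polynomial
functions of m vectors of k^(n+1) invariant under the special linear group SL(n+1, k) acting on all
the vectors at once and under the rescalings of the individual vectors by units with product 1
(equivalently: invariant and homogeneous of one and the same degree in each vector) — the graded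
ring of invariant sections whose Proj is the quotient variety of ordered m-point sets in projective
n-space. Then R is integrally closed in its field of fractions; hence that quotient variety is
normal. (Only the normality assertion of the source's statement is given here; its dimension,
rationality and singular-locus assertions are not.) -/
theorem result (k : Type u) [Field k] [IsAlgClosed k] (n m : ℕ) :
    IsIntegrallyClosed (W4c5pointsetsdelpezzo.invRing k n m) := by
  classical
  obtain ⟨R, hR⟩ : ∃ R, W4c5pointsetsdelpezzo.invRing k n m = R := ⟨_, rfl⟩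
  have hmemR : ∀ y : W4c5pointsetsdelpezzo.TupleRing k n m, y ∈ R ↔
      (∀ g, W4c5pointsetsdelpezzo.slSubst k n m g y = y) ∧
      (∀ s : {s : Fin m → kˣ // ∏ i, s i = 1}, W4c5pointsetsdelpezzo.colScale k n m s.1 y = y) := by
    intro y
    rw [← hR, W4c5pointsetsdelpezzo.invRing, Algebra.mem_inf, Algebra.mem_iInf, Algebra.mem_iInf]
    simp only [AlgHom.mem_equalizer, AlgHom.id_apply]
  rw [hR]
  rw [isIntegrallyClosed_iff (FractionRing R)]
  intro x hx
  obtain ⟨a, b, hb, rfl⟩ := IsFractionRing.div_surjective (A := R) x
  have hb0 : b ≠ 0 := nonZeroDivisors.ne_zero hb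
  have hinj : Function.Injective ((algebraMap (W4c5pointsetsdelpezzo.TupleRing k n m)
      (FractionRing (W4c5pointsetsdelpezzo.TupleRing k n m))).comp (algebraMap R (W4c5pointsetsdelpezzo.TupleRing k n m))) := by
    intro u v huv
    have := IsFractionRing.injective (W4c5pointsetsdelpezzo.TupleRing k n m)
      (FractionRing (W4c5pointsetsdelpezzo.TupleRing k n m)) huv
    exact Subtype.val_injective this
  let ι : FractionRing R →+* FractionRing (W4c5pointsetsdelpezzo.TupleRing k n m) :=
    IsFractionRing.lift hinj
  have hι : ∀ r : R, ι (algebraMap R (FractionRing R) r) =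
      algebraMap _ (FractionRing (W4c5pointsetsdelpezzo.TupleRing k n m)) (r : W4c5pointsetsdelpezzo.TupleRing k n m) := by
    intro r
    exact IsFractionRing.lift_algebraMap hinj r
  -- integrality over the polynomial ring
  have hint : IsIntegral (W4c5pointsetsdelpezzo.TupleRing k n m)
      (ι (algebraMap R (FractionRing R) a / algebraMap R (FractionRing R) b)) := by
    obtain ⟨p, hmonic, hp⟩ := hx
    refine ⟨p.map (algebraMap R (W4c5pointsetsdelpezzo.TupleRing k n m)), hmonic.map _, ?_⟩
    rw [Polynomial.eval₂_map]
    have h1 := congrArg ι hp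
    rw [Polynomial.hom_eval₂, map_zero] at h1
    have hcomp : (algebraMap (W4c5pointsetsdelpezzo.TupleRing k n m)
        (FractionRing (W4c5pointsetsdelpezzo.TupleRing k n m))).comp
        (algebraMap R (W4c5pointsetsdelpezzo.TupleRing k n m)) = ι.comp (algebraMap R (FractionRing R)) :=
      RingHom.ext fun r => (hι r).symm
    rw [hcomp]
    exact h1
  obtain ⟨y, hy⟩ := IsIntegrallyClosed.algebraMap_eq_of_integral hint
  -- y * b = a
  have hyb : y * (b : W4c5pointsetsdelpezzo.TupleRing k n m) = (a : W4c5pointsetsdelpezzo.TupleRing k n m) := by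
    apply IsFractionRing.injective (W4c5pointsetsdelpezzo.TupleRing k n m)
      (FractionRing (W4c5pointsetsdelpezzo.TupleRing k n m))
    rw [map_mul, hy, map_div₀, hι, hι]
    have : algebraMap _ (FractionRing (W4c5pointsetsdelpezzo.TupleRing k n m))
        (b : W4c5pointsetsdelpezzo.TupleRing k n m) ≠ 0 := by
      intro h0
      rw [← hι, map_eq_zero_iff ι ι.injective] at h0
      exact hb0 ((IsFractionRing.injective R (FractionRing R)) (by rw [h0, map_zero]))
    field_simp
  have hb0' : (b : W4c5pointsetsdelpezzo.TupleRing k n m) ≠ 0 := fun h => hb0 (Subtype.ext h)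
  have key : ∀ φ : W4c5pointsetsdelpezzo.TupleRing k n m →ₐ[k] W4c5pointsetsdelpezzo.TupleRing k n m,
      φ a = a → φ b = b → φ y = y := by
    intro φ ha hb'
    have h1 := congrArg φ hyb
    rw [map_mul, ha, hb', ← hyb] at h1
    exact mul_right_cancel₀ hb0' h1
  have hyR : y ∈ R := by
    rw [hmemR]
    have haR := (hmemR a).1 a.2
    have hbR := (hmemR b).1 b.2
    exact ⟨fun g => key _ (haR.1 g) (hbR.1 g), fun s => key _ (haR.2 s) (hbR.2 s)⟩
  refine ⟨⟨y, hyR⟩, ?_⟩
  apply ι.injective
  rw [hι, hy]

end Groth.Agent.S18265
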