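import Groth.Statements.S18266
import Mathlib
import Groth.Agent.Helper9.FlatImage
-- import your own Groth.Agent.* helpers here

set_option autoImplicit false
universe u
open CategoryTheory AlgebraicGeometry
open FDesc

namespace Groth.Agent.S18266

/-- Let A be a discrete valuation ring, η the generic point of Spec A, and f : X → Spec A a morphism
from an arbitrary scheme X. The scheme-theoretic closure of the generic fibre X_η in X (the flat
completion) is flat over Spec A, and it is the largest closed subscheme of X flat over Spec A: for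
every closed immersion i : Z → X with Z flat over Spec A, the ideal sheaf of the flat completion is
contained in the ideal sheaf of i. -/
theorem result (A : Type u) [CommRing A] [IsDomain A]
    [IsDiscreteValuationRing A] {X : Scheme.{u}} (f : X ⟶ Spec (CommRingCat.of A))
    (η : ↥(Spec (CommRingCat.of A))) (hη : η.asIdeal = ⊥) :
    Flat ((f.fiberι η).imageι ≫ f) ∧
      ∀ (Z : Scheme.{u}) (i : Z ⟶ X), IsClosedImmersion i → Flat (i ≫ f) → (f.fiberι η).ker ≤ i.ker := by
  haveI hqc : QuasiCompact (f.fiberι η) := by
    change QuasiCompact (Limits.pullback.fst f ((Spec (CommRingCat.of A)).fromSpecResidueField η))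
    infer_instance
  have hmem : ∀ r : A, r ≠ 0 → η ∈ (Spec (CommRingCat.of A)).basicOpen
      ((Scheme.ΓSpecIso (CommRingCat.of A)).inv r) := by
    intro r hr
    rw [basicOpen_eq_of_affine]
    change r ∉ η.asIdeal
    rw [hη]
    exact hr
  have hunitgen : ∀ {T : Scheme.{u}} (g : T ⟶ Spec (CommRingCat.of A)), (∀ t : T, g t = η) →
      ∀ r : A, r ≠ 0 → IsUnit (g.appTop ((Scheme.ΓSpecIso (CommRingCat.of A)).inv r)) := by
    intro T g hg r hr
    apply T.toRingedSpace.isUnit_of_isUnit_germ ⊤
    intro x hx
    have h1 : x ∈ g ⁻¹ᵁ ((Spec (CommRingCat.of A)).basicOpen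
        ((Scheme.ΓSpecIso (CommRingCat.of A)).inv r)) := by
      rw [Scheme.Hom.mem_preimage, hg x]
      exact hmem r hr
    rw [Scheme.preimage_basicOpen] at h1
    exact (Scheme.mem_basicOpen_top _ _ _).mp h1
  have hfib : ∀ {Y : Scheme.{u}} (g : Y ⟶ Spec (CommRingCat.of A)) (t : g.fiber η),
      (g.fiberι η ≫ g) t = η := by
    intro Y g t
    have h1 : g.fiberι η t ∈ Set.range (g.fiberι η) := ⟨t, rfl⟩
    rw [g.range_fiberι η] at h1
    exact h1
  refine ⟨?_, ?_⟩
  · exact Groth.Agent.Helper9.FlatImage.flat_imageι_comp (R := CommRingCat.of A) (f.fiberι η) f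
      (hunitgen _ (hfib f))
  · intro Z i hi hflat
    haveI := hflat
    haveI hdom0 : IsDominant ((Spec (CommRingCat.of A)).fromSpecResidueField η) := by
      rw [isDominant_iff, DenseRange, Scheme.range_fromSpecResidueField, dense_iff_closure_eq]
      have h1 := PrimeSpectrum.closure_singleton η
      rw [hη] at h1
      refine h1.trans ?_
      exact PrimeSpectrum.zeroLocus_bot
    haveI hdom1 : IsSchemeTheoreticallyDominant ((Spec (CommRingCat.of A)).fromSpecResidueField η) :=
      IsSchemeTheoreticallyDominant.of_isDominant _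
    haveI hdom2 : IsSchemeTheoreticallyDominant ((i ≫ f).fiberι η) := by
      change IsSchemeTheoreticallyDominant
        (Limits.pullback.fst (i ≫ f) ((Spec (CommRingCat.of A)).fromSpecResidueField η))
      infer_instance
    let w : (i ≫ f).fiber η ⟶ f.fiber η :=
      Limits.pullback.map (i ≫ f) ((Spec (CommRingCat.of A)).fromSpecResidueField η) f
        ((Spec (CommRingCat.of A)).fromSpecResidueField η) i (𝟙 _) (𝟙 _) (by simp) (by simp)
    have hw : w ≫ f.fiberι η = (i ≫ f).fiberι η ≫ i := Limits.pullback.lift_fst _ _ _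
    calc (f.fiberι η).ker ≤ (w ≫ f.fiberι η).ker := Scheme.Hom.le_ker_comp _ _
      _ = ((i ≫ f).fiberι η ≫ i).ker := by rw [hw]
      _ = i.ker := by
        rw [Scheme.Hom.ker_comp, Scheme.Hom.ker_eq_bot, Scheme.IdealSheafData.map_bot]

end Groth.Agent.S18266
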