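import Groth.Statements.S18285
import Mathlib
import Groth.Agent.Helper9.MagnetDom
-- import your own Groth.Agent.* helpers here

set_option autoImplicit false
universe u
open CategoryTheory MonoidalCategory CartesianMonoidalCategory MonObj AlgebraicGeometry Opposite
open Magnet

namespace Groth.Agent.S18285

theorem key {S : Scheme.{u}} {M : Type} [AddCommMonoid M] {X : Over S}
    (a : Magnet.MonAct (Magnet.AMonS S M) X) (N : AddSubmonoid M) (T : Over S)
    (φ : (Magnet.attr a N).obj (op T)) :
    (Magnet.AMonS.map S N.subtype ▷ T) ≫ φ.1 =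
      (Magnet.AMonS S M ◁ (lift (toUnit T ≫ η[Magnet.AMonS S N]) (𝟙 T) ≫ φ.1)) ≫ a.act := by
  apply Magnet.hom_ext_lift₂
  intro T' g t
  have h := (Magnet.MonAct.mem_eqvHom_iff φ.1).mp φ.2 T' g (1 : T' ⟶ Magnet.AMonS S N) t
  have h1 : lift g (1 : T' ⟶ Magnet.AMonS S N) ≫ (Magnet.subAct S M N).act =
      g ≫ Magnet.AMonS.map S N.subtype := by
    unfold Magnet.subAct
    rw [Magnet.MonAct.lift_restrict_act, Magnet.MonAct.lift_regular_act, _root_.mul_one]
  have h2 : lift (1 : T' ⟶ Magnet.AMonS S N) t ≫ φ.1 =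
      t ≫ (lift (toUnit T ≫ η[Magnet.AMonS S N]) (𝟙 T) ≫ φ.1) := by
    rw [← Category.assoc, comp_lift, Category.comp_id, ← Category.assoc, toUnit_unique (t ≫ toUnit T) (toUnit T'),
      ← Hom.one_def]
  rw [lift_whiskerRight_assoc, ← h1, h, h2, lift_whiskerLeft_assoc]

/-- Let X be an S-scheme separated over S with an action of the diagonalizable monoid scheme A(M)_S of a
commutative monoid M, and N a submonoid of M. Then the canonical map from the attractor X^N to X
(evaluation at the unit section of A(N)_S) is a monomorphism: for every S-scheme T it is injective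
on T-points. (The published statement allows X to be an algebraic space over S; here X is a scheme.) -/
theorem result (S : Scheme.{u}) (M : Type) [AddCommMonoid M]
    (X : Over S) [IsSeparated X.hom] (a : Magnet.MonAct (Magnet.AMonS S M) X) (N : AddSubmonoid M) (T : Over S) :
    Function.Injective (fun φ => (Magnet.attrToX a N).app (op T) φ) := by
  intro φ₁ φ₂ hφ
  have hev : lift (toUnit T ≫ η[Magnet.AMonS S N]) (𝟙 T) ≫ φ₁.1 =
      lift (toUnit T ≫ η[Magnet.AMonS S N]) (𝟙 T) ≫ φ₂.1 := hφ
  have h1 : (Magnet.AMonS.map S N.subtype ▷ T) ≫ φ₁.1 =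
      (Magnet.AMonS.map S N.subtype ▷ T) ≫ φ₂.1 := by
    rw [key a N T φ₁, key a N T φ₂, hev]
  haveI := Groth.Agent.Helper9.MagnetDom.dom S N.subtype Subtype.val_injective T
  exact Subtype.ext (Groth.Agent.Helper9.SchDom.over_ext_of_schDominant _ h1)

end Groth.Agent.S18285
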