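import Groth.Statements.S18286
import Mathlib
import Groth.Agent.Helper9.MagnetDom
-- import your own Groth.Agent.* helpers here

set_option autoImplicit false
universe u
open CategoryTheory MonoidalCategory CartesianMonoidalCategory MonObj AlgebraicGeometry Opposite
open Magnet

namespace Groth.Agent.S18286

theorem key {S : Scheme.{u}} {M : Type} [AddCommMonoid M] {X : Over S}
    (a : Magnet.MonAct (Magnet.AMonS S M) X) (N : AddSubmonoid M) (T : Over S)
    (φ : (Magnet.attr a N).obj (op T)) :
    (Magnet.AMonS.map S N.subtype ▷ T) ≫ φ.1 =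
      (Magnet.AMonS S M ◁ (lift (toUnit T ≫ η[Magnet.AMonS S N]) (𝟙 T) ≫ φ.1)) ≫ a.act := by
  apply Magnet.hom_ext_lift₂
  intro T' g t
  have h := (Magnet.MonAct.mem_eqvHom_iff φ.1).mp φ.2 T' g (1 : T' ⟶ Magnet.AMonS S N) t
  have h1 : lift g (1 : T' ⟶ Magnet.AMonS S N) ≫ (Magnet.subAct S M N).act =
      g ≫ Magnet.AMonS.map S N.subtype := by
    unfold Magnet.subAct
    rw [Magnet.MonAct.lift_restrict_act, Magnet.MonAct.lift_regular_act, _root_.mul_one]
  have h2 : lift (1 : T' ⟶ Magnet.AMonS S N) t ≫ φ.1 =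
      t ≫ (lift (toUnit T ≫ η[Magnet.AMonS S N]) (𝟙 T) ≫ φ.1) := by
    rw [← Category.assoc, comp_lift, Category.comp_id, ← Category.assoc, toUnit_unique (t ≫ toUnit T) (toUnit T'),
      ← Hom.one_def]
  rw [lift_whiskerRight_assoc, ← h1, h, h2, lift_whiskerLeft_assoc]

/-- Let Y be an S-scheme affine over S with an action of the diagonalizable monoid scheme A(M)_S of a
commutative monoid M, let f : Z → Y be an equivariant closed immersion (for an action of A(M)_S on
Z), and let N ⊆ M be a submonoid (magnet). Then Z^N = Z ×_Y Y^N: the square of functors on S-schemes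
formed by f^N : Z^N → Y^N, the canonical maps Z^N → Z and Y^N → Y (evaluation at the unit section)
and f is cartesian. -/
theorem result (S : Scheme.{u}) (M : Type) [AddCommMonoid M]
    (N : AddSubmonoid M) (Y Z : Over S) [IsAffineHom Y.hom] (aY : Magnet.MonAct (Magnet.AMonS S M) Y)
    (aZ : Magnet.MonAct (Magnet.AMonS S M) Z) (f : Z ⟶ Y) [IsClosedImmersion f.left]
    (hf : Magnet.MonAct.IsEquivariant aZ aY f) :
    IsPullback (Magnet.MonAct.eqvHom.postcomp (Magnet.subAct S M N) f hf) (Magnet.attrToX aZ N)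
      (Magnet.attrToX aY N) (yoneda.map f) := by
  haveI : Mono f.left := inferInstance
  haveI : Mono f := (Over.forget S).mono_of_mono_map ‹Mono f.left›
  apply IsPullback.of_forall_isPullback_app
  intro T
  rw [Limits.Types.isPullback_iff]
  refine ⟨?_, ?_, ?_⟩
  · ext φ
    exact (Category.assoc _ _ _).symm
  · rintro φ₁ φ₂ ⟨h1, -⟩
    have h2 : φ₁.1 ≫ f = φ₂.1 ≫ f := congrArg Subtype.val h1
    exact Subtype.ext ((cancel_mono f).mp h2)
  · intro φY z hz
    -- hz : ev φY = z ≫ f
    have hz' : lift (toUnit (unop T) ≫ η[Magnet.AMonS S N]) (𝟙 (unop T)) ≫ φY.1 = z ≫ f := hz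
    haveI := Groth.Agent.Helper9.MagnetDom.dom S N.subtype Subtype.val_injective (unop T)
    have hk : ((Magnet.AMonS S M ◁ z) ≫ aZ.act).left ≫ f.left =
        (Magnet.AMonS.map S N.subtype ▷ (unop T)).left ≫ φY.1.left := by
      rw [← Over.comp_left, ← Over.comp_left, key aY N (unop T) φY, hz',
        MonoidalCategory.whiskerLeft_comp, Category.assoc, Category.assoc]
      congr 2
    obtain ⟨ψ, hψ⟩ := Groth.Agent.Helper9.SchDom.exists_lift_of_schDominant
      (Magnet.AMonS.map S N.subtype ▷ (unop T)).left φY.1.left f.left _ hk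
    let φZ : Magnet.AMonS S N ⊗ (unop T) ⟶ Z := Over.homMk ψ (by
      have e1 : Z.hom = f.left ≫ Y.hom := (Over.w f).symm
      rw [e1, ← Category.assoc, hψ]
      exact Over.w φY.1)
    have hφZ : φZ ≫ f = φY.1 := by
      apply Over.OverMorphism.ext
      exact hψ
    have heq : Magnet.MonAct.IsEquivariant
        ((Magnet.subAct S M N).prod (Magnet.MonAct.trivial (Magnet.AMonS S M) (unop T))) aZ φZ := by
      unfold Magnet.MonAct.IsEquivariant
      rw [← cancel_mono f, Category.assoc, hφZ, Category.assoc]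
      have h3 : aZ.act ≫ f = (Magnet.AMonS S M ◁ f) ≫ aY.act := hf
      rw [h3, ← MonoidalCategory.whiskerLeft_comp_assoc, hφZ]
      exact φY.2
    refine ⟨⟨φZ, heq⟩, ?_, ?_⟩
    · exact Subtype.ext hφZ
    · change lift (toUnit (unop T) ≫ η[Magnet.AMonS S N]) (𝟙 (unop T)) ≫ φZ = z
      rw [← cancel_mono f, Category.assoc, hφZ]
      exact hz'

end Groth.Agent.S18286
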