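import Groth.Statements.S18288
import Mathlib
import Groth.Agent.Helper9.MagnetIso
-- import your own Groth.Agent.* helpers here

set_option autoImplicit false
universe u
open CategoryTheory MonoidalCategory CartesianMonoidalCategory MonObj AlgebraicGeometry Opposite
open Magnet

namespace Groth.Agent.S18288

/-- Let M be a commutative monoid with an injective homomorphism f : M → Z into a commutative group Z
(so M is cancellative; the published statement takes Z to be the group completion of M, and the same
argument applies to any such Z), let Y be a submonoid of Z contained in the image of M, and let X be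
an S-scheme separated over S with an action of the diagonalizable monoid scheme A(M)_S. Regard X as
a D(Z)_S-scheme through D(Z)_S → A(M)_S. Then the canonical map of attractors X^{f⁻¹Y ⊂ M} → X^{Y ⊂
Z} is an isomorphism: a D(Z)_S-equivariant family out of A(Y)_S is automatically A(M)_S-equivariant.
(The published statement allows X to be an algebraic space; here X is a scheme.) -/
theorem result (S : Scheme.{u}) (M Z : Type) [AddCommMonoid M]
    [AddCommGroup Z] (f : M →+ Z) (hf : Function.Injective f) (Y : AddSubmonoid Z)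
    (hY : Y ≤ AddMonoidHom.mrange f) (X : Over S) [IsSeparated X.hom]
    (a : Magnet.MonAct (Magnet.AMonS S M) X) :
    IsIso (Magnet.attrComap a f Y) := by
  -- notation
  set N : AddSubmonoid M := Y.comap f with hN
  let r : N →+ Y := (f.comp N.subtype).codRestrict Y (fun x => x.2)
  have hr : Function.Bijective r := by
    constructor
    · intro x y hxy
      have h1 : f x.1 = f y.1 := congrArg Subtype.val hxy
      exact Subtype.ext (hf h1)
    · intro y
      obtain ⟨m, hm⟩ := hY y.2
      exact ⟨⟨m, by change f m ∈ Y; rw [hm]; exact y.2⟩, Subtype.ext hm⟩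
  let e : N ≃+ Y := AddEquiv.ofBijective r hr
  have he : e.toAddMonoidHom = r := rfl
  obtain ⟨hκ1, hκ2⟩ := Groth.Agent.Helper9.MagnetIso.amons_map_equiv S e
  rw [he] at hκ1 hκ2
  -- shorthand morphisms
  set κ := Magnet.AMonS.map S r with hκ
  set κi := Magnet.AMonS.map S e.symm.toAddMonoidHom with hκi
  set F := Magnet.AMonS.map S f with hF
  set mN := Magnet.AMonS.map S N.subtype with hmN
  set mY := Magnet.AMonS.map S Y.subtype with hmY
  have hsq : F ≫ mN = mY ≫ κ := by
    rw [hF, hmN, hmY, hκ, ← Magnet.AMonS.map_comp, ← Magnet.AMonS.map_comp]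
    rfl
  have hFmκ : F ≫ mN ≫ κi = mY := by
    rw [← Category.assoc, hsq, Category.assoc, hκ1, Category.comp_id]
  refine @NatIso.isIso_of_isIso_app _ _ _ _ _ _ _ (fun T => ?_)
  rw [isIso_iff_bijective]
  constructor
  · intro φ₁ φ₂ h
    have h1 : (κ ▷ unop T) ≫ φ₁.1 = (κ ▷ unop T) ≫ φ₂.1 := congrArg Subtype.val h
    have h2 := congrArg (fun t => (κi ▷ unop T) ≫ t) h1
    simp only [← Category.assoc, ← MonoidalCategory.comp_whiskerRight, hκ2,
      MonoidalCategory.id_whiskerRight, Category.id_comp] at h2
    exact Subtype.ext h2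
  · intro ψ
    have hψ := (Magnet.MonAct.mem_eqvHom_iff ψ.1).mp ψ.2
    refine ⟨⟨(κi ▷ unop T) ≫ ψ.1, ?_⟩, ?_⟩
    · -- equivariance via density
      haveI := Groth.Agent.Helper9.MagnetDom.dom S f hf (Magnet.AMonS S N ⊗ unop T)
      unfold Magnet.MonAct.IsEquivariant
      refine Groth.Agent.Helper9.SchDom.over_ext_of_schDominant (F ▷ (Magnet.AMonS S N ⊗ unop T)) ?_
      apply Magnet.hom_ext_lift₂
      intro T' g' z
      rw [← lift_comp_fst_snd z]
      set b := z ≫ fst _ _ with hb
      set t := z ≫ snd _ _ with ht
      have e1 : lift g' (lift b t) ≫ (F ▷ (Magnet.AMonS S N ⊗ unop T)) ≫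
          ((Magnet.subAct S M N).prod (Magnet.MonAct.trivial (Magnet.AMonS S M) (unop T))).act ≫
            (κi ▷ unop T) ≫ ψ.1 =
          lift ((g' ≫ mY) * (b ≫ κi)) t ≫ ψ.1 := by
        rw [lift_whiskerRight_assoc, Magnet.MonAct.lift_prod_act_assoc, Magnet.MonAct.lift_trivial_act,
          lift_whiskerRight_assoc]
        unfold Magnet.subAct
        rw [Magnet.MonAct.lift_restrict_act, Magnet.MonAct.lift_regular_act, MonObj.mul_comp,
          Category.assoc, Category.assoc, hFmκ]
      have e2 : lift g' (lift b t) ≫ (F ▷ (Magnet.AMonS S N ⊗ unop T)) ≫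
          (Magnet.AMonS S M ◁ ((κi ▷ unop T) ≫ ψ.1)) ≫ a.act =
          lift g' (lift (b ≫ κi) t ≫ ψ.1) ≫ (a.restrict F).act := by
        rw [lift_whiskerRight_assoc, lift_whiskerLeft_assoc, lift_whiskerRight_assoc,
          Magnet.MonAct.lift_restrict_act]
      have e3 := hψ T' g' (b ≫ κi) t
      unfold Magnet.subAct at e3
      rw [Magnet.MonAct.lift_restrict_act, Magnet.MonAct.lift_regular_act] at e3
      try simp only [Category.assoc]
      rw [e1, e2]
      exact e3
    · apply Subtype.ext
      change (κ ▷ unop T) ≫ (κi ▷ unop T) ≫ ψ.1 = ψ.1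
      rw [← Category.assoc, ← MonoidalCategory.comp_whiskerRight, hκ1,
        MonoidalCategory.id_whiskerRight, Category.id_comp]

end Groth.Agent.S18288
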