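import Groth.Statements.S18317
import Mathlib
import Groth.Agent.Helper8.FinConn

set_option autoImplicit false
universe u
open CategoryTheory AlgebraicGeometry
open NonAbH1

namespace Groth.Agent.S18317

/-- Let K be a field and G a finite connected K-group scheme (G → Spec K finite, G connected as a
topological space). Then every G-torsor X over Spec K for the étale topology (a K-scheme with an
action of G whose shear map G ×_K X → X ×_K X is an isomorphism and which acquires a section over
the members of some étale covering of Spec K) is trivial: X has a K-point. -/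
theorem result (K : Type u) [Field K]
    (G X : Over (Spec (CommRingCat.of K))) [GrpObj G] [IsFinite G.hom] [ConnectedSpace G.left]
    (a : AlgGrp.Action G X) (h : NonAbH1.IsTorsorFor Scheme.etalePrecoverage a) :
    NonAbH1.HasSectionOver X (𝟙 (Spec (CommRingCat.of K))) := by
  classical
  have hY' : NonAbH1.IsTorsorFor Scheme.fpqcPrecoverage a := by
    obtain ⟨h1, R, hR, hsec⟩ := h
    exact ⟨h1, R, Scheme.proetalePrecoverage_le_fpqcPrecoverage _
      (Scheme.etalePrecoverage_le_proetalePrecoverage _ hR), hsec⟩
  haveI hfin : IsFinite X.hom := Groth.Agent.Helper9.TorsorProps.isFinite a hY' inferInstance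
  obtain ⟨hps, R, hR, hsec⟩ := h
  -- a member of the covering family with a point
  obtain ⟨hjs, het⟩ := hR
  rw [Scheme.jointlySurjectivePrecoverage, Presieve.mem_comap_jointlySurjectivePrecoverage_iff]
    at hjs
  obtain ⟨U, f, hf, u, -⟩ := hjs (default : Spec (CommRingCat.of K))
  haveI : Etale f := het hf
  obtain ⟨s, hs⟩ := hsec f hf
  -- a point with values in a separable closure
  let b : Spec (CommRingCat.of (SeparableClosure K)) ⟶ Spec (CommRingCat.of K) :=
    Spec.map (CommRingCat.ofHom (algebraMap K (SeparableClosure K)))
  obtain ⟨l, hl, -⟩ := Scheme.exists_fac_of_etale_of_isSepClosed f b u (Subsingleton.elim _ _)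
  obtain ⟨⟨x, a'⟩, hp⟩ := (Scheme.SpecToEquivOfField (SeparableClosure K) X.left).symm.surjective
    (l ≫ s)
  rw [Scheme.SpecToEquivOfField_symm_apply] at hp
  obtain ⟨φ, hφ⟩ := Spec.map_surjective (X.left.fromSpecResidueField x ≫ X.hom)
  refine Groth.Agent.Helper8.FinConn.hasSection_of_separable a hps x φ hφ ?_
  letI alg : Algebra K (X.left.residueField x) := φ.hom.toAlgebra
  have hcomm : φ ≫ a' = CommRingCat.ofHom (algebraMap K (SeparableClosure K)) := by
    apply Spec.map_injective
    rw [Spec.map_comp, hφ, ← Category.assoc, hp, Category.assoc, hs, hl]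
  let ψ : X.left.residueField x →ₐ[K] SeparableClosure K :=
    { a'.hom with commutes' := fun r => congrArg (fun g => g.hom r) hcomm }
  exact Algebra.IsSeparable.of_algHom K _ ψ

end Groth.Agent.S18317
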