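import Groth.Statements.S18319
import Mathlib
import Groth.Agent.Helper8.FinConn

set_option autoImplicit false
universe u
open CategoryTheory AlgebraicGeometry
open NonAbH1

namespace Groth.Agent.S18319

/-- Let K be a perfect field and G a finite connected K-group scheme (G → Spec K finite, G connected).
Then every G-torsor X over Spec K for the fppf topology (simply transitive action, a section over
the members of some fppf covering of Spec K) is trivial: X has a K-point. -/
theorem result (K : Type u) [Field K]
    [PerfectField K] (G X : Over (Spec (CommRingCat.of K))) [GrpObj G] [IsFinite G.hom] [ConnectedSpace G.left]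
    (a : AlgGrp.Action G X) (h : NonAbH1.IsTorsorFor Scheme.fppfPrecoverage a) :
    NonAbH1.HasSectionOver X (𝟙 (Spec (CommRingCat.of K))) := by
  classical
  have hY' : NonAbH1.IsTorsorFor Scheme.fpqcPrecoverage a := by
    obtain ⟨h1, R, hR, hsec⟩ := h
    exact ⟨h1, R, Scheme.fppfPrecoverage_le_fpqcPrecoverage _ hR, hsec⟩
  haveI hfin : IsFinite X.hom := Groth.Agent.Helper9.TorsorProps.isFinite a hY' inferInstance
  have hsurj : Surjective X.hom := Groth.Agent.Helper9.TorsorProps.surjective a hY'
  obtain ⟨x, -⟩ := hsurj.surj (default : Spec (CommRingCat.of K))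
  obtain ⟨φ, hφ⟩ := Spec.map_surjective (X.left.fromSpecResidueField x ≫ X.hom)
  have hf := Groth.Agent.Helper8.FinConn.finite_residue a h.1 x φ hφ
  refine Groth.Agent.Helper8.FinConn.hasSection_of_separable a h.1 x φ hφ ?_
  letI alg : Algebra K (X.left.residueField x) := φ.hom.toAlgebra
  haveI : Module.Finite K (X.left.residueField x) := hf
  infer_instance

end Groth.Agent.S18319
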