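import Groth.Statements.S1835
import Mathlib

set_option autoImplicit false
universe u
open CycAlg

namespace Groth.Agent.S1835

/-- Let R be a Noetherian local ring of dimension 1, a a nonzerodivisor in the maximal ideal and b a
nonzerodivisor. There is an integer n such that whenever b = a^m c in some finite extension ring R ⊆
R', one has m ≤ n. -/
theorem result (R : Type u) [CommRing R] [IsNoetherianRing R] [IsLocalRing R] (hR : ringKrullDim R = 1) (a b : R) (ha : a ∈ nonZeroDivisors R) (ham : a ∈ IsLocalRing.maximalIdeal R) (hb : b ∈ nonZeroDivisors R) : ∃ n : ℕ, ∀ (R' : Type u) [CommRing R'] [Algebra R R'], Function.Injective (algebraMap R R') → Module.Finite R R' → ∀ (m : ℕ) (c : R'), algebraMap R R' b = algebraMap R R' a ^ m * c → m ≤ n := by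
  classical
  have hdim : Ring.KrullDimLE 1 R := by
    rw [Ring.KrullDimLE, Order.krullDimLE_iff]
    exact hR.le
  -- a minimal prime `q`
  obtain ⟨q, hqmin, -⟩ := Ideal.exists_minimalPrimes_le (I := (⊥ : Ideal R))
    (J := IsLocalRing.maximalIdeal R) bot_le
  have hqmin' : q ∈ minimalPrimes R := hqmin
  have hqp : q.IsPrime := hqmin.1.1
  have haq : a ∉ q := fun h =>
    Set.disjoint_left.mp (Ideal.disjoint_nonZeroDivisors_of_mem_minimalPrimes hqmin') h ha
  have hbq : b ∉ q := fun h =>
    Set.disjoint_left.mp (Ideal.disjoint_nonZeroDivisors_of_mem_minimalPrimes hqmin') h hb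
  -- `a` lies in the radical of `q + (b)`
  have harad : a ∈ (q ⊔ Ideal.span {b}).radical := by
    rw [Ideal.radical_eq_sInf, Ideal.mem_sInf]
    rintro P ⟨hP, hPp⟩
    have hbP : b ∈ P := hP (Ideal.mem_sup_right (Ideal.mem_span_singleton_self b))
    have hqP : q ≤ P := le_trans le_sup_left hP
    rcases (Ring.krullDimLE_one_iff.1 hdim) P hPp with hPmin | hPmax
    · have : P ≤ q := hPmin.2 ⟨hqp, bot_le⟩ hqP
      exact absurd (this hbP) hbq
    · rw [IsLocalRing.eq_maximalIdeal hPmax]
      exact ham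
  obtain ⟨n, hn⟩ := harad
  obtain ⟨x, hx, y, hy, hxy⟩ := Submodule.mem_sup.1 hn
  obtain ⟨r, rfl⟩ := Ideal.mem_span_singleton'.1 hy
  refine ⟨n, ?_⟩
  intro R' _ _ hinj hfin m c hbc
  by_contra hmn
  push Not at hmn
  have hint : Algebra.IsIntegral R R' := Algebra.IsIntegral.of_finite R R'
  obtain ⟨q', -, hq'p, hq'⟩ := Ideal.exists_ideal_over_prime_of_isIntegral
    (S := R') q (⊥ : Ideal R') (by
      intro z hz
      have hz0 : algebraMap R R' z = 0 := by simpa using hz
      have : z = 0 := hinj (by rw [hz0, map_zero])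
      rw [this]
      exact q.zero_mem)
  have hmp : (IsLocalRing.maximalIdeal R).IsPrime := inferInstance
  obtain ⟨Q, hQq, hQp, hQ⟩ := Ideal.exists_ideal_over_prime_of_isIntegral_of_isPrime
    (S := R') (IsLocalRing.maximalIdeal R) q' (by
      rw [hq']
      exact IsLocalRing.le_maximalIdeal hqp.ne_top)
  set φ := algebraMap R R' with hφ
  have haq' : φ a ∉ q' := by
    intro h
    apply haq
    rw [← hq']
    exact h
  have hxq' : φ x ∈ q' := by
    have : x ∈ q'.comap φ := by rw [hq']; exact hx
    exact this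
  have haQ : φ a ∈ Q := by
    have : a ∈ Q.comap φ := by rw [hQ]; exact ham
    exact this
  -- the key identity
  obtain ⟨k, rfl⟩ : ∃ k, m = n + (k + 1) := ⟨m - n - 1, by omega⟩
  have hkey : φ a ^ n * (1 - φ a * (φ a ^ k * c * φ r)) = φ x := by
    have h1 : φ a ^ n = φ x + φ r * φ b := by
      rw [← map_pow, ← hxy, map_add, map_mul]
    rw [hbc] at h1
    linear_combination h1
  have h2 : φ a ^ n * (1 - φ a * (φ a ^ k * c * φ r)) ∈ q' := by
    rw [hkey]; exact hxq'
  have h3 : 1 - φ a * (φ a ^ k * c * φ r) ∈ q' := by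
    rcases hq'p.mem_or_mem h2 with h | h
    · exact absurd (hq'p.mem_of_pow_mem _ h) haq'
    · exact h
  have h4 : (1 : R') ∈ Q := by
    have := Q.add_mem (hQq h3) (Q.mul_mem_right (φ a ^ k * c * φ r) haQ)
    simpa using this
  exact hQp.ne_top ((Ideal.eq_top_iff_one _).2 h4)

end Groth.Agent.S1835
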