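import Groth.Statements.S18377
import Mathlib
import Groth.Agent.Helper9.Verlinde
import Groth.Agent.Helper9.Verlinde2
-- import your own Groth.Agent.* helpers here

set_option autoImplicit false
open Complex
open VerlindeComb

namespace Groth.Agent.S18377

/-- Let r, k ≥ 1 be integers and v_1 > v_2 > ⋯ > v_r ≥ 0 integers below r + k; put z_j = exp(2πi v_j /
(r + k)) and, for μ = (μ_1, …, μ_r), let S_μ(z) = det(z_j^{μ_i + r - i}) / det(z_j^{r - i}) be the
value of the Schur polynomial (the z_j are distinct, so the Vandermonde denominator is nonzero).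
Then, summing over all μ with k > μ_1 ≥ ⋯ ≥ μ_r ≥ 0 and writing μ* = (k - μ_r, …, k - μ_1), one has
Σ_μ S_μ(z) S_{μ*}(z) = exp(2πi k (v_1 + ⋯ + v_r) / (r + k)) · k (r + k)^{r-1} / ∏_{i<j} (2 sin(π
(v_i - v_j) / (r + k)))². Indices are 0-based below: μ i stands for μ_{i+1}. -/
theorem result (r k : ℕ) (hr : 1 ≤ r) (hk : 1 ≤ k)
    (v : Fin r → ℕ) (hv : StrictAnti v) (hvlt : ∀ i, v i < r + k)
    (z : Fin r → ℂ) (hz : ∀ j, z j = Complex.exp (2 * Real.pi * Complex.I * (v j : ℂ) / ((r : ℂ) + k)))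
    (S : (Fin r → ℕ) → ℂ)
    (hS : ∀ μ : Fin r → ℕ, S μ =
      (Matrix.of fun i j : Fin r => z j ^ (μ i + (r - 1 - (i : ℕ)))).det /
        (Matrix.of fun i j : Fin r => z j ^ (r - 1 - (i : ℕ))).det) :
    (∑ μ ∈ (Finset.univ : Finset (Fin r → Fin k)).filter (fun μ : Fin r → Fin k => Antitone μ),
        S (fun i => (μ i : ℕ)) * S (fun i => k - (μ (Fin.rev i) : ℕ))) =
      Complex.exp (2 * Real.pi * Complex.I * (k : ℂ) * ((∑ j, v j : ℕ) : ℂ) / ((r : ℂ) + k)) *
        ((k : ℂ) * ((r : ℂ) + k) ^ (r - 1)) /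
        (∏ p ∈ (Finset.univ : Finset (Fin r × Fin r)).filter (fun p => p.1 < p.2),
          (((2 : ℝ) * Real.sin (Real.pi * ((v p.1 : ℝ) - (v p.2 : ℝ)) / ((r : ℝ) + k))) ^ 2 : ℝ) : ℂ) := by
  have hN0 : r + k ≠ 0 := by omega
  have hzz : z = fun j => Groth.Agent.Helper9.Verlinde.zeta (r + k) ^ v j := by
    funext j
    rw [hz j]
    unfold Groth.Agent.Helper9.Verlinde.zeta
    rw [← Complex.exp_nat_mul]
    congr 1
    push_cast
    ring
  subst hzz
  have hS' : ∀ μ : Fin r → ℕ, S μ =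
      Groth.Agent.Helper9.Verlinde2.alt (fun j => Groth.Agent.Helper9.Verlinde.zeta (r + k) ^ v j)
        (fun i => μ i + (r - 1 - (i : ℕ))) /
      Groth.Agent.Helper9.Verlinde2.alt (fun j => Groth.Agent.Helper9.Verlinde.zeta (r + k) ^ v j)
        (fun i => r - 1 - (i : ℕ)) := fun μ => hS μ
  have hmain := Groth.Agent.Helper9.Verlinde2.main r k hr hk v hv hvlt
  simp only [hS']
  rw [hmain]
  have h1 : (∏ j, Groth.Agent.Helper9.Verlinde.zeta (r + k) ^ v j) ^ k =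
      Complex.exp (2 * Real.pi * Complex.I * (k : ℂ) * ((∑ j, v j : ℕ) : ℂ) / ((r : ℂ) + k)) := by
    rw [Finset.prod_pow_eq_pow_sum, ← pow_mul]
    unfold Groth.Agent.Helper9.Verlinde.zeta
    rw [← Complex.exp_nat_mul]
    congr 1
    push_cast
    ring
  have h2 : Groth.Agent.Helper9.Verlinde.vdm (r + k) v *
      (starRingEnd ℂ) (Groth.Agent.Helper9.Verlinde.vdm (r + k) v) =
      (∏ p ∈ (Finset.univ : Finset (Fin r × Fin r)).filter (fun p => p.1 < p.2),
          (((2 : ℝ) * Real.sin (Real.pi * ((v p.1 : ℝ) - (v p.2 : ℝ)) / ((r : ℝ) + k))) ^ 2 : ℝ) : ℂ) := by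
    rw [Groth.Agent.Helper9.Verlinde.vdm_mul_conj, Complex.ofReal_prod]
    refine Finset.prod_congr rfl fun p _ => ?_
    rw [Nat.cast_add]
  rw [h1, h2]

end Groth.Agent.S18377
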