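import Groth.Statements.S18386
import Mathlib
-- import your own Groth.Agent.* helpers here

set_option autoImplicit false
universe u
open LVCorr

namespace Groth.Agent.S18386

open AlgebraicGeometry in
/-- Let X be a connected Noetherian scheme and I a quasi-coherent sheaf of ideals on X, different from
the structure sheaf, such that I^k = I^(k+1) for some natural number k. Then I^k = 0. -/
theorem result (X : Scheme.{u}) [AlgebraicGeometry.IsNoetherian X]
    [ConnectedSpace X] (I : X.IdealSheafData) (hI : I ≠ ⊤) (k : ℕ)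
    (h : I ^ k = I ^ (k + 1)) : I ^ k = ⊥ := by
  rcases Nat.eq_zero_or_pos k with rfl | hk
  · exfalso
    apply hI
    simpa using h.symm
  have hloc : ∀ U : X.affineOpens, ∃ e : Γ(X, U.1), IsIdempotentElem e ∧
      (I ^ k).ideal U = Ideal.span {e} := by
    intro U
    have hN : IsNoetherianRing Γ(X, U.1) := IsLocallyNoetherian.component_noetherian U
    have h1 : (I.ideal U) ^ k = (I.ideal U) ^ (k+1) := by
      have := congr($(h).ideal U)
      simpa using this
    have h2 : ∀ m, (I.ideal U)^(k+m) = (I.ideal U)^k := by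
      intro m
      induction m with
      | zero => rfl
      | succ m ih => rw [← add_assoc, pow_succ, ih, ← pow_succ, ← h1]
    have h3 : IsIdempotentElem ((I.ideal U)^k) := by
      unfold IsIdempotentElem; rw [← pow_add, h2]
    have hfg : ((I.ideal U)^k).FG := IsNoetherian.noetherian _
    obtain ⟨e, he, hJ⟩ := (Ideal.isIdempotentElem_iff_of_fg _ hfg).mp h3
    exact ⟨e, he, by simpa using hJ⟩
  choose e he hJ using hloc
  have hbo : ∀ U : X.affineOpens, ((X.basicOpen (e U) : X.Opens) : Set X)ᶜ ∩ U.1 =
      X.basicOpen (1 - e U) := by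
    intro U
    ext x
    constructor
    · rintro ⟨hx1, hx2⟩
      have h1 : x ∈ X.basicOpen (e U + (1 - e U)) := by
        rw [add_sub_cancel, Scheme.basicOpen_one]
        exact hx2
      rcases X.basicOpen_add_le _ _ h1 with h | h
      · exact absurd h hx1
      · exact h
    · intro hx
      refine ⟨fun hx' => ?_, X.basicOpen_le _ hx⟩
      have : x ∈ X.basicOpen (e U * (1 - e U)) := by
        rw [Scheme.basicOpen_mul]
        exact ⟨hx', hx⟩
      rw [mul_sub, mul_one, (he U).eq, sub_self, Scheme.basicOpen_zero] at this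
      exact this
  have hZeq : ∀ U : X.affineOpens, ((I ^ k).support : Set X) ∩ U.1 = X.basicOpen (1 - e U) := by
    intro U
    rw [Scheme.IdealSheafData.coe_support_inter, hJ, Scheme.zeroLocus_span,
      Scheme.zeroLocus_singleton]
    exact hbo U
  have hopen : IsOpen ((I ^ k).support : Set X) := by
    rw [isOpen_iff_forall_mem_open]
    intro x hx
    obtain ⟨_, ⟨U, hU, rfl⟩, hxU, -⟩ :=
      X.isBasis_affineOpens.exists_subset_of_mem_open (Set.mem_univ x) isOpen_univ
    refine ⟨X.basicOpen (1 - e ⟨U, hU⟩), ?_, (X.basicOpen _).isOpen, ?_⟩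
    · rw [← hZeq ⟨U, hU⟩]; exact Set.inter_subset_left
    · rw [← hZeq ⟨U, hU⟩]; exact ⟨hx, hxU⟩
  have hclopen : IsClopen ((I ^ k).support : Set X) := ⟨(I ^ k).support.isClosed, hopen⟩
  rcases isClopen_iff.mp hclopen with h0 | h1
  · exfalso
    apply hI
    rw [← Scheme.IdealSheafData.support_eq_bot_iff, ← Scheme.IdealSheafData.support_pow I k hk.ne']
    exact TopologicalSpace.Closeds.ext h0
  · apply Scheme.IdealSheafData.ext
    funext U
    rw [hJ]
    have h2 : (U.1 : Set X) ⊆ X.basicOpen (1 - e U) := by
      rw [← hZeq U, h1]; simp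
    have h3 : X.basicOpen (e U) = ⊥ := by
      rw [eq_bot_iff]
      intro x hx
      have : x ∈ X.basicOpen (e U * (1 - e U)) := by
        rw [Scheme.basicOpen_mul]
        exact ⟨hx, h2 (X.basicOpen_le _ hx)⟩
      rw [mul_sub, mul_one, (he U).eq, sub_self, Scheme.basicOpen_zero] at this
      exact this
    have h4 : IsNilpotent (e U) :=
      (Scheme.isNilpotent_iff_basicOpen_eq_bot_of_isCompact U.2.isCompact _).mpr h3
    have h5 : e U = 0 := by
      obtain ⟨n, hn⟩ := h4
      rcases Nat.eq_zero_or_pos n with rfl | hn0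
      · have hsub : Subsingleton Γ(X, U.1) := by
          rw [pow_zero] at hn
          exact subsingleton_of_zero_eq_one hn.symm
        exact Subsingleton.elim _ _
      · rw [(he U).pow_eq hn0.ne'] at hn
        exact hn
    rw [h5]
    simp

end Groth.Agent.S18386
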