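import Groth.Statements.S18387
import Mathlib
-- import your own Groth.Agent.* helpers here

set_option autoImplicit false
universe u
open LVCorr

namespace Groth.Agent.S18387

/-- In the affine form which its proof establishes. Let A be a commutative algebra over a field F which
is finite-dimensional of dimension d over F. Then the d-th power of the nilradical of A vanishes.
(Applied to the fibre algebra A = B/mB of a quasi-finite morphism over a closed point with maximal
ideal m, this says that the d-th power of the radical of mB lies in mB, i.e. the ramification of the
morphism at that point is at most the degree d of the fibre.) -/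
theorem result (F A : Type u) [Field F] [CommRing A] [Algebra F A]
    [FiniteDimensional F A] : nilradical A ^ Module.finrank F A = ⊥ := by
  classical
  haveI : IsNoetherianRing A := Algebra.FiniteType.isNoetherianRing F A
  set N := nilradical A with hN
  set d := Module.finrank F A with hd
  obtain ⟨m, hm⟩ := IsNoetherianRing.isNilpotent_nilradical A
  rw [← hN] at hm
  -- if N^k = N^(k+1) then N^k = ⊥
  have hstab : ∀ k, N ^ k = N ^ (k + 1) → N ^ k = ⊥ := by
    intro k hk
    have : ∀ j, N ^ k = N ^ (k + j) := by
      intro j
      induction j with
      | zero => rfl
      | succ j ih =>
        calc N ^ k = N ^ (k + 1) := hk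
          _ = N ^ k * N := pow_succ _ _
          _ = N ^ (k + j) * N := by rw [← ih]
          _ = N ^ (k + (j + 1)) := by rw [← pow_succ, add_assoc]
    rw [this m, pow_add, hm]
    simp
  let r : Ideal A → ℕ := fun I => Module.finrank F (I.restrictScalars F)
  have key : ∀ k, N ^ k = ⊥ ∨ r (N ^ k) + k ≤ d := by
    intro k
    induction k with
    | zero =>
      right
      simp only [pow_zero, Ideal.one_eq_top, add_zero, r]
      rw [Submodule.restrictScalars_top, finrank_top]
    | succ k ih =>
      rcases ih with h0 | hle
      · left; rw [pow_succ, h0]; simp
      · by_cases hst : N ^ k = N ^ (k + 1)
        · left; rw [← hst]; exact hstab k hst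
        · right
          have hlt : N ^ (k + 1) < N ^ k :=
            lt_of_le_of_ne (Ideal.pow_le_pow_right (Nat.le_succ k)) (Ne.symm hst)
          have hlt' : (N ^ (k + 1)).restrictScalars F < (N ^ k).restrictScalars F := by
            constructor
            · exact fun x hx => hlt.le hx
            · intro h
              exact hlt.not_ge (fun x hx => h hx)
          have := Submodule.finrank_lt_finrank_of_lt hlt'
          simp only [r] at hle ⊢
          omega
  rcases key d with h | h
  · exact h
  · have h0 : r (N ^ d) = 0 := by omega
    simp only [r] at h0
    rw [Submodule.finrank_eq_zero] at h0
    have : (N ^ d).restrictScalars F = (⊥ : Ideal A).restrictScalars F := by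
      rw [h0]; simp
    exact Submodule.restrictScalars_injective F A A this

end Groth.Agent.S18387
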