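import Groth.Statements.S18389
import Mathlib
-- import your own Groth.Agent.* helpers here

set_option autoImplicit false
universe u
open LVCorr

namespace Groth.Agent.S18389

open AlgebraicGeometry CategoryTheory in
/-- Let j : C → C̄ be an open immersion with dense image and jX : X → X̄ an open immersion, and let c₁ :
C → X and c̄₁ : C̄ → X̄ satisfy j followed by c̄₁ equals c₁ followed by jX, with c̄₁ separated. Let
U be an open subset of X such that c₁⁻¹(U) is dense in C and the restriction c₁⁻¹(U) → U of c₁ is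
proper. Then c̄₁⁻¹(jX(U)) = j(c₁⁻¹(U)) as open subsets of C̄. (In the source all schemes are
separated of finite type over a field, C̄ and X̄ are compactifications of a correspondence and of X,
so that c̄₁ is automatically separated.) -/
theorem result {C Cb X Xb : Scheme.{u}}
    (j : C ⟶ Cb) [IsOpenImmersion j] (hj : DenseRange j.base)
    (jX : X ⟶ Xb) [IsOpenImmersion jX] (c₁ : C ⟶ X) (cb₁ : Cb ⟶ Xb) [IsSeparated cb₁]
    (h : j ≫ cb₁ = c₁ ≫ jX) (U : X.Opens) (hU : Dense ((c₁ ⁻¹ᵁ U : C.Opens) : Set C))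
    [IsProper (c₁ ∣_ U)] :
    cb₁ ⁻¹ᵁ (jX ''ᵁ U) = j ''ᵁ (c₁ ⁻¹ᵁ U) := by
  let W : C.Opens := c₁ ⁻¹ᵁ U
  let g : (W : Scheme) ⟶ (U : Scheme) := c₁ ∣_ U
  have hg : g ≫ U.ι = W.ι ≫ c₁ := morphismRestrict_ι c₁ U
  have hcomp : (W.ι ≫ j) ≫ cb₁ = g ≫ (U.ι ≫ jX) := by
    rw [Category.assoc, h, ← Category.assoc, ← hg, Category.assoc]
  let ι : (W : Scheme) ⟶ Limits.pullback cb₁ (U.ι ≫ jX) := Limits.pullback.lift (W.ι ≫ j) g hcomp
  have h1 : ι ≫ Limits.pullback.fst cb₁ (U.ι ≫ jX) = W.ι ≫ j := Limits.pullback.lift_fst _ _ _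
  have h2 : ι ≫ Limits.pullback.snd cb₁ (U.ι ≫ jX) = g := Limits.pullback.lift_snd _ _ _
  haveI : IsProper ι := by
    haveI : IsProper (ι ≫ Limits.pullback.snd cb₁ (U.ι ≫ jX)) := by rw [h2]; infer_instance
    exact IsProper.of_comp ι (Limits.pullback.snd cb₁ (U.ι ≫ jX))
  have hclosed : IsClosed (Set.range ι) := ι.isClosedMap.isClosed_range
  have hemb : Topology.IsOpenEmbedding (Limits.pullback.fst cb₁ (U.ι ≫ jX)) :=
    (Limits.pullback.fst cb₁ (U.ι ≫ jX)).isOpenEmbedding
  have himg : (Limits.pullback.fst cb₁ (U.ι ≫ jX)) '' (Set.range ι) = j '' (W : Set C) := by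
    rw [← Set.range_comp]
    have : (Limits.pullback.fst cb₁ (U.ι ≫ jX)) ∘ ι = j ∘ W.ι := by
      funext x
      show (ι ≫ Limits.pullback.fst cb₁ (U.ι ≫ jX)) x = (W.ι ≫ j) x
      rw [h1]
    rw [this, Set.range_comp, Scheme.Opens.range_ι]
  have hdenseW : Dense (j '' (W : Set C)) := hj.dense_image j.continuous hU
  have hdense : Dense (Set.range ι) := by
    rw [hemb.isInducing.dense_iff]
    intro p
    rw [himg, hdenseW.closure_eq]
    trivial
  have huniv : Set.range ι = Set.univ := by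
    rw [← hclosed.closure_eq, hdense.closure_eq]
  apply TopologicalSpace.Opens.ext
  show cb₁ ⁻¹' (jX '' (U : Set X)) = j '' (W : Set C)
  rw [← himg, huniv, Set.image_univ, Scheme.Pullback.range_fst]
  congr 1
  have : Set.range (U.ι ≫ jX) = Set.range (jX ∘ U.ι) := rfl
  rw [this, Set.range_comp, Scheme.Opens.range_ι]

end Groth.Agent.S18389
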