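import Groth.Statements.S18390
import Mathlib
-- import your own Groth.Agent.* helpers here

set_option autoImplicit false
universe u
open LVCorr

namespace Groth.Agent.S18390

theorem sup_pow_le {R : Type*} [CommRing R] (J₁ J₂ T : Ideal R) (h₁ : J₁ ≤ T) (h₂ : J₂ ≤ T)
    (k₁ k₂ : ℕ) : (J₁ ⊔ J₂) ^ (k₁ + k₂) ≤ J₁ ^ k₁ * T ^ k₂ ⊔ J₂ ^ k₂ * T ^ k₁ := by
  rw [← Ideal.add_eq_sup, add_pow, Ideal.sum_eq_sup]
  apply Finset.sup_le
  intro i hi
  have hi' : i ≤ k₁ + k₂ := Nat.lt_succ_iff.mp (Finset.mem_range.mp hi)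
  refine Ideal.mul_le_left.trans ?_
  by_cases hn : k₁ ≤ i
  · refine le_trans ?_ le_sup_left
    have e : J₁ ^ i = J₁ ^ k₁ * J₁ ^ (i - k₁) := by rw [← pow_add]; congr 1; omega
    rw [e, mul_assoc]
    refine Ideal.mul_mono_right ?_
    have e2 : T ^ k₂ = T ^ (i - k₁) * T ^ (k₁ + k₂ - i) := by rw [← pow_add]; congr 1; omega
    rw [e2]
    exact Ideal.mul_mono (Ideal.pow_right_mono h₁ _) (Ideal.pow_right_mono h₂ _)
  · refine le_trans ?_ le_sup_right
    have e : J₂ ^ (k₁ + k₂ - i) = J₂ ^ k₂ * J₂ ^ (k₁ - i) := by rw [← pow_add]; congr 1; omega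
    rw [e, mul_comm (J₁ ^ i), mul_assoc]
    refine Ideal.mul_mono_right ?_
    have e2 : T ^ k₁ = T ^ (k₁ - i) * T ^ i := by rw [← pow_add]; congr 1; omega
    rw [e2]
    exact Ideal.mul_mono (Ideal.pow_right_mono h₂ _) (Ideal.pow_right_mono h₁ _)


/-- In the affine, ring-theoretic form which its proof establishes. Let φ : A' → A be a ring
homomorphism, I' a finitely generated ideal of A' and I an ideal of A containing the image of I'.
Then some power I'^k is mapped into I^(k+1) if and only if for every n ≥ 1 and every a ∈ I'^n there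
is a k with φ(a)^k ∈ I^(nk+1). (Geometrically, for a morphism f : (X, Z) → (X', Z') of pairs with Z
a closed subscheme of the preimage of Z', the normal cone of Z in X is the spectrum of the
associated graded algebra of I, and the second condition says that the induced map of normal cones
sends the normal cone of Z set-theoretically into the zero section Z'; the source states the
equivalence in that language.) -/
theorem result (A' A : Type u) [CommRing A'] [CommRing A]
    (φ : A' →+* A) (I' : Ideal A') (hI' : I'.FG) (I : Ideal A) (hle : I'.map φ ≤ I) :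
    (∃ k : ℕ, (I' ^ k).map φ ≤ I ^ (k + 1)) ↔
      ∀ n : ℕ, 1 ≤ n → ∀ a ∈ I' ^ n, ∃ k : ℕ, 1 ≤ k ∧ φ a ^ k ∈ I ^ (n * k + 1) := by
  constructor
  · rintro ⟨k, hk⟩ n hn a ha
    rcases Nat.eq_zero_or_pos k with rfl | hkpos
    · have : I = ⊤ := by
        rw [Ideal.eq_top_iff_one]
        have h1 : φ 1 ∈ (I' ^ 0).map φ := Ideal.mem_map_of_mem φ (by simp)
        have := hk h1
        simpa using this
      refine ⟨1, le_rfl, ?_⟩
      rw [this, Ideal.top_pow]; trivial
    · refine ⟨k, hkpos, ?_⟩
      have h1 : a ^ k ∈ (I' ^ k) ^ n := by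
        rw [← pow_mul, mul_comm]; rw [pow_mul]; exact Ideal.pow_mem_pow ha k
      have h2 : φ (a ^ k) ∈ ((I' ^ k) ^ n).map φ := Ideal.mem_map_of_mem φ h1
      rw [Ideal.map_pow] at h2
      have h3 := Ideal.pow_right_mono hk n h2
      rw [← pow_mul, map_pow] at h3
      refine Ideal.pow_le_pow_right ?_ h3
      nlinarith
  · intro h
    have key : ∀ J : Ideal A', J.FG → J ≤ I' →
        ∃ k, ∀ m, (J ^ k * I' ^ m).map φ ≤ I ^ (k + m + 1) := by
      intro J hJ
      induction J, hJ using Submodule.fg_induction with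
      | singleton x =>
        intro hx
        have hxI : x ∈ I' ^ 1 := by
          rw [pow_one]; exact hx (Submodule.subset_span (Set.mem_singleton x))
        obtain ⟨k, hk1, hk⟩ := h 1 le_rfl x hxI
        rw [one_mul] at hk
        refine ⟨k, fun m => ?_⟩
        rw [Ideal.map_mul, Ideal.map_pow, Ideal.map_pow, Ideal.submodule_span_eq, Ideal.map_span,
          Set.image_singleton, Ideal.span_singleton_pow, add_right_comm, pow_add _ (k + 1) m]
        refine Ideal.mul_mono ?_ (Ideal.pow_right_mono hle m)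
        rw [Ideal.span_le, Set.singleton_subset_iff]
        exact hk
      | sup J₁ J₂ _ _ ih₁ ih₂ =>
        intro hJ
        obtain ⟨k₁, hk₁⟩ := ih₁ (le_sup_left.trans hJ)
        obtain ⟨k₂, hk₂⟩ := ih₂ (le_sup_right.trans hJ)
        refine ⟨k₁ + k₂, fun m => ?_⟩
        have := sup_pow_le J₁ J₂ I' (le_sup_left.trans hJ) (le_sup_right.trans hJ) k₁ k₂
        refine (Ideal.map_mono (Ideal.mul_mono_left this)).trans ?_
        rw [Ideal.sup_mul, Ideal.map_sup, mul_assoc, mul_assoc, ← pow_add, ← pow_add]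
        refine sup_le ((hk₁ _).trans (le_of_eq ?_)) ((hk₂ _).trans (le_of_eq ?_))
        · congr 1; omega
        · congr 1; omega
    obtain ⟨k, hk⟩ := key I' hI' le_rfl
    refine ⟨k, ?_⟩
    have := hk 0
    simpa using this

end Groth.Agent.S18390
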