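import Groth.Statements.S18393
import Mathlib
-- import your own Groth.Agent.* helpers here

set_option autoImplicit false
universe u v
open LVCorr

namespace Groth.Agent.S18393

/-- Stated for the underlying continuous maps. Let c₁, c₂ : C → X be continuous maps with C a Noetherian
topological space, let Z be a closed subset of X and B the closure in C of c₂⁻¹(Z) ∖ c₁⁻¹(Z). Call Z
locally invariant when every point x of Z has an open neighbourhood U such that every y in C with
c₂(y) ∈ Z ∩ U and c₁(y) ∈ U satisfies c₁(y) ∈ Z. Then Z is locally invariant if and only if for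
every irreducible subset T of B the closures of c₁(T) and of c₂(T) in X are disjoint. (The source
states this for a correspondence c = (c₁, c₂) : C → X × X of separated schemes of finite type over
an algebraically closed field and for the irreducible components of B; the condition for all
irreducible subsets of B is the same condition.) -/
theorem result {C : Type u} {X : Type v}
    [TopologicalSpace C] [TopologicalSpace X] [TopologicalSpace.NoetherianSpace C]
    (c₁ c₂ : C → X) (hc₁ : Continuous c₁) (hc₂ : Continuous c₂) (Z : Set X) (hZ : IsClosed Z) :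
    (∀ x ∈ Z, ∃ U : Set X, IsOpen U ∧ x ∈ U ∧
        ∀ y : C, c₂ y ∈ Z → c₂ y ∈ U → c₁ y ∈ U → c₁ y ∈ Z) ↔
      ∀ T : Set C, T ⊆ closure (c₂ ⁻¹' Z \ c₁ ⁻¹' Z) → IsIrreducible T →
        closure (c₁ '' T) ∩ closure (c₂ '' T) = ∅ := by
  classical
  obtain ⟨D, hD⟩ : ∃ D : Set C, D = c₂ ⁻¹' Z \ c₁ ⁻¹' Z := ⟨_, rfl⟩
  rw [← hD]
  have hBZ : ∀ y ∈ closure D, c₂ y ∈ Z := by
    have hcl : IsClosed (c₂ ⁻¹' Z) := hZ.preimage hc₂
    have hsub : D ⊆ c₂ ⁻¹' Z := by rw [hD]; exact Set.sdiff_subset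
    intro y hy
    exact (closure_minimal hsub hcl) hy
  constructor
  · intro hloc T hT hTirr
    rw [Set.eq_empty_iff_forall_notMem]
    rintro x ⟨hx1, hx2⟩
    have hxZ : x ∈ Z := by
      have : c₂ '' T ⊆ Z := by
        rintro _ ⟨y, hy, rfl⟩
        exact hBZ y (hT hy)
      exact (closure_minimal this hZ) hx2
    obtain ⟨U, hUo, hxU, hU⟩ := hloc x hxZ
    -- T meets c₁⁻¹ U and c₂⁻¹ U
    have h1 : (T ∩ c₁ ⁻¹' U).Nonempty := by
      obtain ⟨z, hzU, ⟨y, hy, rfl⟩⟩ := mem_closure_iff.mp hx1 U hUo hxU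
      exact ⟨y, hy, hzU⟩
    have h2 : (T ∩ c₂ ⁻¹' U).Nonempty := by
      obtain ⟨z, hzU, ⟨y, hy, rfl⟩⟩ := mem_closure_iff.mp hx2 U hUo hxU
      exact ⟨y, hy, hzU⟩
    obtain ⟨y, hyT, hy1, hy2⟩ := hTirr.2 _ _ (hUo.preimage hc₁) (hUo.preimage hc₂) h1 h2
    -- y ∈ closure D, open nbhd meets D
    have hopen : IsOpen (c₁ ⁻¹' U ∩ c₂ ⁻¹' U) := (hUo.preimage hc₁).inter (hUo.preimage hc₂)
    obtain ⟨w, ⟨hw1, hw2⟩, hwD⟩ := mem_closure_iff.mp (hT hyT) _ hopen ⟨hy1, hy2⟩
    rw [hD] at hwD
    exact hwD.2 (hU w hwD.1 hw2 hw1)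
  · intro hirr x hxZ
    obtain ⟨S, hSfin, hSirr, hSsup⟩ :=
      TopologicalSpace.NoetherianSpace.exists_finite_set_closeds_irreducible
        (⟨closure D, isClosed_closure⟩ : TopologicalSpace.Closeds C)
    have hTsub : ∀ t ∈ S, (t : Set C) ⊆ closure D := by
      intro t ht
      have : t ≤ (⟨closure D, isClosed_closure⟩ : TopologicalSpace.Closeds C) := by
        rw [hSsup]; exact le_sSup ht
      exact this
    have hcover : ∀ y ∈ closure D, ∃ t ∈ S, y ∈ (t : Set C) := by
      intro y hy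
      have h1 : y ∈ ((⟨closure D, isClosed_closure⟩ : TopologicalSpace.Closeds C) : Set C) := hy
      rw [hSsup] at h1
      have h2 : ((sSup S : TopologicalSpace.Closeds C) : Set C) = ⋃ t ∈ S, (t : Set C) := by
        rw [TopologicalSpace.Closeds.coe_sSup, Set.sUnion_image]
        exact (hSfin.isClosed_biUnion (fun t _ => t.isClosed)).closure_eq
      rw [h2] at h1
      simpa using h1
    -- the open set
    have hchoice : ∀ t ∈ S, ∃ V : Set X, IsOpen V ∧ x ∈ V ∧
        ∀ y ∈ (t : Set C), ¬ (c₁ y ∈ V ∧ c₂ y ∈ V) := by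
      intro t ht
      have hdisj := hirr t (hTsub t ht) (hSirr t ht)
      by_cases hx1 : x ∈ closure (c₁ '' (t : Set C))
      · have hx2 : x ∉ closure (c₂ '' (t : Set C)) := by
          intro hx2
          have : x ∈ closure (c₁ '' (t : Set C)) ∩ closure (c₂ '' (t : Set C)) := ⟨hx1, hx2⟩
          rw [hdisj] at this
          exact this
        refine ⟨(closure (c₂ '' (t : Set C)))ᶜ, isClosed_closure.isOpen_compl, hx2, ?_⟩
        rintro y hy ⟨_, h2⟩
        exact h2 (subset_closure ⟨y, hy, rfl⟩)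
      · refine ⟨(closure (c₁ '' (t : Set C)))ᶜ, isClosed_closure.isOpen_compl, hx1, ?_⟩
        rintro y hy ⟨h1, _⟩
        exact h1 (subset_closure ⟨y, hy, rfl⟩)
    choose! V hVo hxV hV using hchoice
    refine ⟨⋂ t ∈ S, V t, hSfin.isOpen_biInter (fun t ht => hVo t ht), ?_, ?_⟩
    · simp only [Set.mem_iInter]
      exact fun t ht => hxV t ht
    · intro y hyZ hyU2 hyU1
      by_contra hy1
      have hyD : y ∈ D := by rw [hD]; exact ⟨hyZ, hy1⟩
      obtain ⟨t, ht, hyt⟩ := hcover y (subset_closure hyD)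
      simp only [Set.mem_iInter] at hyU1 hyU2
      exact hV t ht y hyt ⟨hyU1 t ht, hyU2 t ht⟩

end Groth.Agent.S18393
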