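import Groth.Statements.S18402
import Groth.Agent.Helper4.FlatIrrConn
import Mathlib

set_option autoImplicit false
universe u
open Pi1

namespace Groth.Agent.S18402


open AlgebraicGeometry CategoryTheory CategoryTheory.Limits in
/-- Let X be an irreducible scheme and π : W ⟶ X a flat morphism whose fibre over every field-valued
point of X is irreducible (so every fibre is geometrically irreducible and π is surjective). Then
for every finite étale cover Z of X with Z connected, the base change of Z along π is connected.
Ranging over all finite étale covers of X, this says that the monodromy group of each cover (the
image of the fundamental group in the permutations of a geometric fibre) is unchanged by pullback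
along π. The published statement asserts that equality of monodromy groups, for generically finite,
generically étale covers between irreducible algebraic stacks. -/
theorem result {X W : Scheme.{u}}
    [IrreducibleSpace X] (π : W ⟶ X) [Flat π] [GeometricallyIrreducible π]
    (Z : FEt.Cat X) [ConnectedSpace Z.left] :
    ConnectedSpace ↥(pullback Z.hom π) := by

  let g : Z.left ⟶ X := Z.hom
  haveI : IsFinite g := Z.prop.1
  haveI : Etale g := Z.prop.2
  have hfinZ : (irreducibleComponents ↥Z.left).Finite :=
    Groth.Agent.Helper4.FlatIrrConn.finite_irreducibleComponents_of_generalizing g
      (Flat.generalizingMap g) (g.finite_preimage_singleton _)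
  show ConnectedSpace ↥(pullback g π)
  set q := pullback.fst g π with hq
  refine Groth.Agent.Helper4.FlatIrrConn.connectedSpace_of_generalizing hfinZ q q.continuous
    (Flat.generalizingMap _) q.surjective (fun z => ?_)
  rw [← q.range_fiberι z]
  exact isPreconnected_range (q.fiberι z).continuous

end Groth.Agent.S18402
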