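import Groth.Statements.S18404
import Mathlib
-- import your own Groth.Agent.* helpers here

set_option autoImplicit false
universe u
open Cubic

namespace Groth.Agent.S18404

theorem eval_form (k : ℂ) (u : Fin 3 → ℂ) :
    MvPolynomial.eval u (HesseCubic.form k) =
      u 0 ^ 3 + u 1 ^ 3 + u 2 ^ 3 - 3 * k * (u 0 * u 1 * u 2) := by
  simp [HesseCubic.form]

theorem key01 (k x y z a b c : ℂ)
    (E0 : x^3 + y^3 + z^3 - 3*k*x*y*z = 0)
    (E1 : (x^2 - k*y*z)*a + (y^2 - k*x*z)*b + (z^2 - k*x*y)*c = 0)
    (E2 : x*a^2 + y*b^2 + z*c^2 - k*(x*b*c + y*a*c + z*a*b) = 0) :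
    (x*b - y*a)^2 * ((1 - k^3) * (x*y*z)) = 0 := by
  grind

theorem key12 (k x y z a b c : ℂ)
    (E0 : x^3 + y^3 + z^3 - 3*k*x*y*z = 0)
    (E1 : (x^2 - k*y*z)*a + (y^2 - k*x*z)*b + (z^2 - k*x*y)*c = 0)
    (E2 : x*a^2 + y*b^2 + z*c^2 - k*(x*b*c + y*a*c + z*a*b) = 0) :
    (y*c - z*b)^2 * ((1 - k^3) * (x*y*z)) = 0 := by
  grind

theorem key20 (k x y z a b c : ℂ)
    (E0 : x^3 + y^3 + z^3 - 3*k*x*y*z = 0)
    (E1 : (x^2 - k*y*z)*a + (y^2 - k*x*z)*b + (z^2 - k*x*y)*c = 0)
    (E2 : x*a^2 + y*b^2 + z*c^2 - k*(x*b*c + y*a*c + z*a*b) = 0) :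
    (z*a - x*c)^2 * ((1 - k^3) * (x*y*z)) = 0 := by
  grind

open MvPolynomial in
/-- Let k ∈ ℂ with k³ ≠ 1 and let h = X₀³ + X₁³ + X₂³ − 3k·X₀X₁X₂ be the Hesse cubic. For a nonzero
vector v with h(v) = 0, the corresponding point is a flex of the plane curve of h — some line
through it meets the curve there with multiplicity three, i.e. there is a vector w linearly
independent from v with h(v + t·w) = t³·h(w) for every t — exactly when v is a scalar multiple of
one of the nine vectors (0, 1, −γ), (−γ, 0, 1), (1, −γ, 0) with γ³ = 1. -/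
theorem result (k : ℂ) (hk : k ^ 3 ≠ 1) (v : Fin 3 → ℂ) (hv : v ≠ 0)
    (hCv : eval v (HesseCubic.form k) = 0) :
    (∃ w : Fin 3 → ℂ, LinearIndependent ℂ ![v, w] ∧
        ∀ t : ℂ, eval (v + t • w) (HesseCubic.form k) = t ^ 3 * eval w (HesseCubic.form k)) ↔
      ∃ γ c : ℂ, γ ^ 3 = 1 ∧ (v = c • ![0, 1, -γ] ∨ v = c • ![-γ, 0, 1] ∨ v = c • ![1, -γ, 0]) := by
  have hk' : (1 : ℂ) - k ^ 3 ≠ 0 := fun h => hk (by linear_combination -h)
  constructor
  · rintro ⟨w, hli, hw⟩
    have E0 : v 0 ^ 3 + v 1 ^ 3 + v 2 ^ 3 - 3 * k * v 0 * v 1 * v 2 = 0 := by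
      rw [eval_form] at hCv; linear_combination hCv
    have h1 := hw 1
    have h2 := hw (-1)
    simp only [eval_form, Pi.add_apply, Pi.smul_apply, smul_eq_mul] at h1 h2
    have E1 : (v 0 ^ 2 - k * v 1 * v 2) * w 0 + (v 1 ^ 2 - k * v 0 * v 2) * w 1 +
        (v 2 ^ 2 - k * v 0 * v 1) * w 2 = 0 := by
      linear_combination (1 / 6 : ℂ) * h1 - (1 / 6 : ℂ) * h2
    have E2 : v 0 * w 0 ^ 2 + v 1 * w 1 ^ 2 + v 2 * w 2 ^ 2 -
        k * (v 0 * w 1 * w 2 + v 1 * w 0 * w 2 + v 2 * w 0 * w 1) = 0 := by
      linear_combination (1 / 6 : ℂ) * h1 + (1 / 6 : ℂ) * h2 - (1 / 3 : ℂ) * E0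
    have hxyz : v 0 * v 1 * v 2 = 0 := by
      by_contra hne
      have m01 : v 0 * w 1 - v 1 * w 0 = 0 := by
        by_contra hm
        have := key01 k _ _ _ _ _ _ E0 E1 E2
        exact (mul_ne_zero (pow_ne_zero 2 hm) (mul_ne_zero hk' hne)) this
      have m12 : v 1 * w 2 - v 2 * w 1 = 0 := by
        by_contra hm
        have := key12 k _ _ _ _ _ _ E0 E1 E2
        exact (mul_ne_zero (pow_ne_zero 2 hm) (mul_ne_zero hk' hne)) this
      have m20 : v 2 * w 0 - v 0 * w 2 = 0 := by
        by_contra hm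
        have := key20 k _ _ _ _ _ _ E0 E1 E2
        exact (mul_ne_zero (pow_ne_zero 2 hm) (mul_ne_zero hk' hne)) this
      have hv0 : v 0 ≠ 0 := fun h => hne (by rw [h]; ring)
      have := (LinearIndependent.pair_iff.1 hli (w 0) (- v 0) (by
        ext j
        fin_cases j
        · simp; ring
        · simp; linear_combination -m01
        · simp; linear_combination m20)).2
      exact hv0 (by linear_combination -this)
    rcases mul_eq_zero.1 hxyz with h01 | h2z
    · rcases mul_eq_zero.1 h01 with h0z | h1z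
      · -- v 0 = 0
        have hy : v 1 ≠ 0 := by
          intro hy
          have hz : v 2 = 0 := by
            have : v 2 ^ 3 = 0 := by rw [h0z, hy] at E0; linear_combination E0
            exact pow_eq_zero_iff (by norm_num) |>.1 this
          exact hv (by ext j; fin_cases j <;> simp [h0z, hy, hz])
        refine ⟨-(v 2) / v 1, v 1, ?_, Or.inl ?_⟩
        · rw [div_pow, div_eq_one_iff_eq (pow_ne_zero 3 hy)]
          rw [h0z] at E0; linear_combination -E0
        · ext j; fin_cases j
          · simp [h0z]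
          · simp
          · simp; field_simp
      · -- v 1 = 0
        have hz : v 2 ≠ 0 := by
          intro hz
          have hx : v 0 = 0 := by
            have : v 0 ^ 3 = 0 := by rw [h1z, hz] at E0; linear_combination E0
            exact pow_eq_zero_iff (by norm_num) |>.1 this
          exact hv (by ext j; fin_cases j <;> simp [h1z, hx, hz])
        refine ⟨-(v 0) / v 2, v 2, ?_, Or.inr (Or.inl ?_)⟩
        · rw [div_pow, div_eq_one_iff_eq (pow_ne_zero 3 hz)]
          rw [h1z] at E0; linear_combination -E0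
        · ext j; fin_cases j
          · simp; field_simp
          · simp [h1z]
          · simp
    · -- v 2 = 0
      have hx : v 0 ≠ 0 := by
        intro hx
        have hy : v 1 = 0 := by
          have : v 1 ^ 3 = 0 := by rw [h2z, hx] at E0; linear_combination E0
          exact pow_eq_zero_iff (by norm_num) |>.1 this
        exact hv (by ext j; fin_cases j <;> simp [h2z, hx, hy])
      refine ⟨-(v 1) / v 0, v 0, ?_, Or.inr (Or.inr ?_)⟩
      · rw [div_pow, div_eq_one_iff_eq (pow_ne_zero 3 hx)]
        rw [h2z] at E0; linear_combination -E0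
      · ext j; fin_cases j
        · simp
        · simp; field_simp
        · simp [h2z]
  · rintro ⟨γ, c, hγ, hcase⟩
    have hc : c ≠ 0 := by
      rintro rfl
      rcases hcase with h | h | h <;> exact hv (by rw [h]; simp)
    rcases hcase with h | h | h
    · refine ⟨![1, -(k * γ), 0], ?_, ?_⟩
      · rw [LinearIndependent.pair_iff]
        intro s t hst
        have e0 := congrFun hst 0
        have e1 := congrFun hst 1
        simp [h] at e0 e1
        subst e0
        simpa [hc] using e1
      · intro t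
        simp only [eval_form, Pi.add_apply, Pi.smul_apply, smul_eq_mul, h]
        simp
        linear_combination (-c ^ 3) * hγ
    · refine ⟨![0, 1, -(k * γ)], ?_, ?_⟩
      · rw [LinearIndependent.pair_iff]
        intro s t hst
        have e1 := congrFun hst 1
        have e2 := congrFun hst 2
        simp [h] at e1 e2
        subst e1
        simpa [hc] using e2
      · intro t
        simp only [eval_form, Pi.add_apply, Pi.smul_apply, smul_eq_mul, h]
        simp
        linear_combination (-c ^ 3) * hγ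
    · refine ⟨![-(k * γ), 0, 1], ?_, ?_⟩
      · rw [LinearIndependent.pair_iff]
        intro s t hst
        have e2 := congrFun hst 2
        have e0 := congrFun hst 0
        simp [h] at e0 e2
        subst e2
        simpa [hc] using e0
      · intro t
        simp only [eval_form, Pi.add_apply, Pi.smul_apply, smul_eq_mul, h]
        simp
        linear_combination (-c ^ 3) * hγ

end Groth.Agent.S18404
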