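import Groth.Statements.S18405
import Mathlib
import Groth.Agent.Helper9.PlaneCubic8
-- import your own Groth.Agent.* helpers here

set_option autoImplicit false
universe u
open Cubic

namespace Groth.Agent.S18405

open MvPolynomial in
/-- Let f be a nonzero homogeneous cubic in three variables over ℂ whose plane curve is smooth (at every
nonzero zero of f some partial derivative is nonzero), and let A be an invertible matrix whose
linear substitution X_i ↦ Σ_j A_ij X_j multiplies f by a constant, so that v ↦ A·v is a projective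
automorphism of the curve. If A·v is proportional to v for every flex v of the curve (every nonzero
zero v of f through which some line meets the curve with multiplicity three: there is w linearly
independent from v with f(v + t·w) = t³·f(w) for all t), then A is a scalar matrix: the projective
automorphisms of a smooth plane cubic act faithfully on its flexes. -/
theorem result (f : MvPolynomial (Fin 3) ℂ) (hf : f.IsHomogeneous 3)
    (hf0 : f ≠ 0) (hsm : ∀ v : Fin 3 → ℂ, v ≠ 0 → eval v f = 0 → ∃ i : Fin 3, eval v (pderiv i f) ≠ 0)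
    (A : Matrix (Fin 3) (Fin 3) ℂ) (hA : IsUnit A.det)
    (hAf : ∃ c : ℂ, aeval (fun i : Fin 3 => ∑ j : Fin 3, C (A i j) * X j) f = C c * f)
    (hfix : ∀ v : Fin 3 → ℂ, v ≠ 0 → eval v f = 0 →
      (∃ w : Fin 3 → ℂ, LinearIndependent ℂ ![v, w] ∧ ∀ t : ℂ, eval (v + t • w) f = t ^ 3 * eval w f) →
      ∃ d : ℂ, A.mulVec v = d • v) :
    ∃ c : ℂ, A = c • (1 : Matrix (Fin 3) (Fin 3) ℂ) := by
  have hs := Groth.Agent.Helper9.CubicForm.triOf_smooth f hf hsm
  have hV : Module.finrank ℂ (Fin 3 → ℂ) = 3 := by simp
  obtain ⟨p, hp⟩ := Groth.Agent.Helper9.CubicForm.exists_flex f hf hs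
  obtain ⟨c, hc⟩ := Groth.Agent.Helper9.CubicForm.scalar_of_fix_flexes
    (Groth.Agent.Helper9.CubicForm.triOf f hf) hV hs p hp (Matrix.toLin' A) (by
      intro v hv
      obtain ⟨h0, h1, h2⟩ := (Groth.Agent.Helper9.CubicForm.isFlex_iff f hf v).mp hv
      obtain ⟨d, hd⟩ := hfix v h0 h1 h2
      exact ⟨d, by rw [Matrix.toLin'_apply, hd]⟩)
  refine ⟨c, ?_⟩
  ext i j
  have := congrFun (hc (Pi.single j 1)) i
  rw [Matrix.toLin'_apply, Matrix.mulVec_single_one] at this
  simp only [Matrix.col_apply, Pi.smul_apply, Pi.single_apply, smul_eq_mul] at this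
  rw [this, Matrix.smul_apply, Matrix.one_apply, smul_eq_mul]

end Groth.Agent.S18405
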