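import Groth.Statements.S18429
import Mathlib
-- import your own Groth.Agent.* helpers here

set_option autoImplicit false
universe u
open SpinCurv

namespace Groth.Agent.S18429

/-- Let n ≥ 1 and r ≥ 2 be integers and let e_0, …, e_{nr} be integers with e_0 = e_{nr} = 0 (the
coefficients of a chain of nr - 1 exceptional curves joining two non-exceptional components with
coefficient zero) such that at every interior index 1 ≤ j ≤ nr - 1 the second difference e_{j-1} - 2
e_j + e_{j+1} (the degree of the divisor Σ e_i E_i on the j-th curve of the chain) is divisible by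
r. Then there are integers e'_0, …, e'_{nr}, with e'_j ≡ e_j modulo r for every interior j, with
e'_0 = e'_{nr} = 0 and every e'_j ≤ 0, whose second differences at the interior indices are each 0
or r, and are nonzero at no two distinct interior indices. -/
theorem result (n r : ℕ) (hn : 1 ≤ n) (hr : 2 ≤ r)
    (e : ℕ → ℤ) (he0 : e 0 = 0) (henr : e (n * r) = 0)
    (hdiv : ∀ j : ℕ, 1 ≤ j → j < n * r → (r : ℤ) ∣ e (j - 1) - 2 * e j + e (j + 1)) :
    ∃ e' : ℕ → ℤ, e' 0 = 0 ∧ e' (n * r) = 0 ∧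
      (∀ j : ℕ, 1 ≤ j → j < n * r → (r : ℤ) ∣ e' j - e j) ∧
      (∀ j : ℕ, j ≤ n * r → e' j ≤ 0) ∧
      (∀ j : ℕ, 1 ≤ j → j < n * r →
        (e' (j - 1) - 2 * e' j + e' (j + 1) = 0 ∨ e' (j - 1) - 2 * e' j + e' (j + 1) = r)) ∧
      (∀ j j' : ℕ, 1 ≤ j → j < n * r → 1 ≤ j' → j' < n * r →
        e' (j - 1) - 2 * e' j + e' (j + 1) ≠ 0 → e' (j' - 1) - 2 * e' j' + e' (j' + 1) ≠ 0 → j = j') := by
  -- Step 1: e j ≡ j * e 1 (mod r)
  have hlin : ∀ j : ℕ, j ≤ n * r → (r : ℤ) ∣ e j - (j : ℤ) * e 1 := by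
    intro j
    induction j using Nat.strong_induction_on with
    | _ j ih =>
      intro hj
      rcases j with _ | j
      · simp [he0]
      rcases j with _ | j
      · simp
      · -- j + 2
        have h1 := ih (j + 1) (by omega) (by omega)
        have h0 := ih j (by omega) (by omega)
        have hd := hdiv (j + 1) (by omega) (by omega)
        have e1 : j + 1 - 1 = j := by omega
        have e2 : j + 1 + 1 = j + 2 := by omega
        rw [e1] at hd
        have : e (j + 1 + 1) - ((j + 1 + 1 : ℕ) : ℤ) * e 1 =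
            (e j - 2 * e (j + 1) + e (j + 1 + 1)) + 2 * (e (j + 1) - ((j + 1 : ℕ) : ℤ) * e 1)
              - (e j - (j : ℤ) * e 1) := by
          push_cast
          ring
        rw [this]
        exact dvd_sub (dvd_add hd (Dvd.dvd.mul_left h1 2)) h0
  -- the residue a
  have hr0 : (0 : ℤ) < r := by exact_mod_cast (by omega : 0 < r)
  set a : ℤ := e 1 % r with ha
  have ha0 : 0 ≤ a := Int.emod_nonneg _ hr0.ne'
  have har : a < r := Int.emod_lt_of_pos _ hr0
  have hae : (r : ℤ) ∣ e 1 - a := by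
    rw [ha]
    exact Int.dvd_self_sub_emod
  -- the function g
  let g : ℤ → ℤ := fun x => if x ≤ n * a then -(r - a) * x else a * (x - n * r)
  have g1 : ∀ x : ℤ, x ≤ n * a → g x = -(r - a) * x := fun x hx => if_pos hx
  have g2 : ∀ x : ℤ, ¬ x ≤ n * a → g x = a * (x - n * r) := fun x hx => if_neg hx
  have hn0 : (1 : ℤ) ≤ n := by exact_mod_cast hn
  have hlt : (n : ℤ) * a < n * r := by nlinarith
  -- second differences of g
  have hA : ∀ x : ℤ, x + 1 ≤ n * a → g (x - 1) - 2 * g x + g (x + 1) = 0 := by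
    intro x hx
    rw [g1 _ (by linarith), g1 _ (by linarith), g1 _ hx]
    ring
  have hB : g (n * a - 1) - 2 * g (n * a) + g (n * a + 1) = r := by
    rw [g1 _ (by linarith), g1 _ le_rfl, g2 _ (by linarith)]
    ring
  have hC : ∀ x : ℤ, n * a + 2 ≤ x → g (x - 1) - 2 * g x + g (x + 1) = 0 := by
    intro x hx
    rw [g2 _ (by linarith), g2 _ (by linarith), g2 _ (by linarith)]
    ring
  have hD : g (n * a + 1 - 1) - 2 * g (n * a + 1) + g (n * a + 1 + 1) = 0 := by
    have : (n : ℤ) * a + 1 - 1 = n * a := by ring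
    rw [this, g1 _ le_rfl, g2 _ (by linarith), g2 _ (by linarith)]
    ring
  have hsd : ∀ x : ℤ, (g (x - 1) - 2 * g x + g (x + 1) = 0 ∧ x ≠ n * a) ∨
      (g (x - 1) - 2 * g x + g (x + 1) = r ∧ x = n * a) := by
    intro x
    rcases lt_trichotomy x (n * a) with h | h | h
    · left; exact ⟨hA x (by linarith), ne_of_lt h⟩
    · right; subst h; exact ⟨hB, rfl⟩
    · left
      refine ⟨?_, ne_of_gt h⟩
      rcases eq_or_lt_of_le (Int.add_one_le_iff.2 h) with h' | h'
      · rw [← h']; exact hD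
      · exact hC x (by linarith)
  have hcast : ∀ j : ℕ, 1 ≤ j → g ((j - 1 : ℕ) : ℤ) - 2 * g (j : ℤ) + g ((j + 1 : ℕ) : ℤ) =
      g ((j : ℤ) - 1) - 2 * g (j : ℤ) + g ((j : ℤ) + 1) := by
    intro j hj
    rw [Nat.cast_sub hj]
    push_cast
    rfl
  refine ⟨fun j => g (j : ℤ), ?_, ?_, ?_, ?_, ?_, ?_⟩
  · change g ((0 : ℕ) : ℤ) = 0
    rw [g1 _ (by push_cast; nlinarith)]
    simp
  · change g ((n * r : ℕ) : ℤ) = 0
    rw [g2 _ (by push_cast; linarith)]
    push_cast
    ring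
  · intro j hj1 hjn
    change (r : ℤ) ∣ g (j : ℤ) - e j
    have h1 := hlin j hjn.le
    -- g j ≡ a * j
    have h2 : (r : ℤ) ∣ g (j : ℤ) - a * j := by
      by_cases hx : (j : ℤ) ≤ n * a
      · rw [g1 _ hx]
        exact ⟨-(j : ℤ), by ring⟩
      · rw [g2 _ hx]
        exact ⟨-(a * n), by ring⟩
    have h3 : g (j : ℤ) - e j = (g (j : ℤ) - a * j) - (e j - (j : ℤ) * e 1) - (j : ℤ) * (e 1 - a) := by ring
    rw [h3]
    exact dvd_sub (dvd_sub h2 h1) (Dvd.dvd.mul_left hae _)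
  · intro j hj
    change g (j : ℤ) ≤ 0
    have hj0 : (0 : ℤ) ≤ j := Int.natCast_nonneg j
    have hjn : (j : ℤ) ≤ n * r := by exact_mod_cast hj
    by_cases hx : (j : ℤ) ≤ n * a
    · rw [g1 _ hx]
      nlinarith
    · rw [g2 _ hx]
      nlinarith
  · intro j hj1 hjn
    change g ((j - 1 : ℕ) : ℤ) - 2 * g (j : ℤ) + g ((j + 1 : ℕ) : ℤ) = 0 ∨
      g ((j - 1 : ℕ) : ℤ) - 2 * g (j : ℤ) + g ((j + 1 : ℕ) : ℤ) = r
    rw [hcast j hj1]
    rcases hsd j with h | h
    · exact Or.inl h.1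
    · exact Or.inr h.1
  · intro j j' hj1 hjn hj'1 hj'n h h'
    change g ((j - 1 : ℕ) : ℤ) - 2 * g (j : ℤ) + g ((j + 1 : ℕ) : ℤ) ≠ 0 at h
    change g ((j' - 1 : ℕ) : ℤ) - 2 * g (j' : ℤ) + g ((j' + 1 : ℕ) : ℤ) ≠ 0 at h'
    rw [hcast j hj1] at h
    rw [hcast j' hj'1] at h'
    rcases hsd j with h1 | h1
    · exact absurd h1.1 h
    rcases hsd j' with h2 | h2
    · exact absurd h2.1 h'
    have : (j : ℤ) = j' := h1.2.trans h2.2.symm
    exact_mod_cast this

end Groth.Agent.S18429
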