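import Groth.Statements.S18457
import Mathlib
-- import your own Groth.Agent.* helpers here

set_option autoImplicit false
open Finset
open Surf

namespace Groth.Agent.S18457

/-- In the Picard lattice of the plane blown up at n ≤ 8 points, with basis h, e_1, …, e_n, form h² = 1,
e_i² = −1, all other products 0, and anticanonical class D = 3h − Σ e_i, let d·h − Σ a_i e_i be a
class with all a_i ≥ 0 (the class of the strict transform of a degree-d plane curve having
multiplicity a_i at the i-th point) which is a (−2)-class orthogonal to D, that is d² − Σ a_i² = −2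
and 3d = Σ a_i. Then one of the following holds: d = 1 and every a_i is 0 or 1 with exactly three
equal to 1; d = 2 and every a_i is 0 or 1 with exactly six equal to 1; d = 3, n = 8, and one a_i
equals 2 while the remaining seven equal 1. The published statement is geometric: under the
general-position hypotheses on the points, no smooth rational curve on the blown-up plane is
orthogonal to D; this row is the lattice enumeration its proof carries out (a line through three of
the points, a conic through six, a cubic through all eight and singular at one). -/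
theorem result (n : ℕ) (hn : n ≤ 8)
    (d : ℤ) (a : Fin n → ℤ) (ha : ∀ i, 0 ≤ a i)
    (hsq : d ^ 2 - ∑ i, (a i) ^ 2 = -2) (hK : 3 * d = ∑ i, a i) :
    (d = 1 ∧ (∀ i, a i = 0 ∨ a i = 1) ∧ (Finset.univ.filter (fun i => a i = 1)).card = 3) ∨
      (d = 2 ∧ (∀ i, a i = 0 ∨ a i = 1) ∧ (Finset.univ.filter (fun i => a i = 1)).card = 6) ∨
      (d = 3 ∧ n = 8 ∧ ∃ j, a j = 2 ∧ ∀ i, i ≠ j → a i = 1) := by
  have hcard : ((Finset.univ : Finset (Fin n)).card : ℤ) = n := by simp
  -- basic sums
  have hS2 : ∑ i, (a i) ^ 2 = d ^ 2 + 2 := by linarith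
  have hS1 : ∑ i, a i = 3 * d := hK.symm
  have hd0 : 0 ≤ d := by
    have : 0 ≤ ∑ i, a i := Finset.sum_nonneg fun i _ => ha i
    linarith
  have hnZ : (n : ℤ) ≤ 8 := by exact_mod_cast hn
  -- Cauchy–Schwarz type bound
  have e1 : ∑ i, (8 * a i - 3 * d) ^ 2 = 64 * ∑ i, (a i) ^ 2 - 48 * d * ∑ i, a i + 9 * d ^ 2 * n := by
    have : ∀ i, (8 * a i - 3 * d) ^ 2 = 64 * (a i) ^ 2 - 48 * d * a i + 9 * d ^ 2 := fun i => by ring
    simp only [this, Finset.sum_add_distrib, Finset.sum_sub_distrib, ← Finset.mul_sum,
      Finset.sum_const, Finset.card_univ, Fintype.card_fin, nsmul_eq_mul]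
    ring
  have h1 : 0 ≤ ∑ i, (8 * a i - 3 * d) ^ 2 := Finset.sum_nonneg fun i _ => sq_nonneg _
  have hd4 : d ≤ 4 := by
    rw [e1, hS2, hS1] at h1
    nlinarith
  -- second bound
  have e2 : ∑ i, (a i - 1) * (a i - 2) = ∑ i, (a i) ^ 2 - 3 * ∑ i, a i + 2 * n := by
    have : ∀ i, (a i - 1) * (a i - 2) = (a i) ^ 2 - 3 * a i + 2 := fun i => by ring
    simp only [this, Finset.sum_add_distrib, Finset.sum_sub_distrib, ← Finset.mul_sum,
      Finset.sum_const, Finset.card_univ, Fintype.card_fin, nsmul_eq_mul]
    ring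
  have hterm : ∀ i, 0 ≤ (a i - 1) * (a i - 2) := by
    intro i
    rcases le_or_gt (a i) 1 with h | h
    · exact mul_nonneg_of_nonpos_of_nonpos (by linarith) (by linarith)
    · exact mul_nonneg (by linarith) (by linarith)
  have h2 : 0 ≤ ∑ i, (a i - 1) * (a i - 2) := Finset.sum_nonneg fun i _ => hterm i
  rw [e2, hS2, hS1] at h2
  -- third: sum of a(a-1)
  have e3 : ∑ i, a i * (a i - 1) = ∑ i, (a i) ^ 2 - ∑ i, a i := by
    have : ∀ i, a i * (a i - 1) = (a i) ^ 2 - a i := fun i => by ring
    simp only [this, Finset.sum_sub_distrib]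
  have hterm3 : ∀ i, 0 ≤ a i * (a i - 1) := by
    intro i
    rcases le_or_gt (a i) 0 with h | h
    · have : a i = 0 := le_antisymm h (ha i)
      rw [this]; norm_num
    · exact mul_nonneg (ha i) (by linarith)
  rw [hS2, hS1] at e3
  have h01 : (∀ i, a i * (a i - 1) = 0) → ∀ i, a i = 0 ∨ a i = 1 := by
    intro h i
    rcases mul_eq_zero.1 (h i) with h | h
    · exact Or.inl h
    · exact Or.inr (by linarith)
  have hcount : (∀ i, a i = 0 ∨ a i = 1) →
      ((Finset.univ.filter (fun i => a i = 1)).card : ℤ) = ∑ i, a i := by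
    intro h
    rw [Finset.card_filter]
    push_cast
    refine Finset.sum_congr rfl fun i _ => ?_
    rcases h i with h | h <;> simp [h]
  have hd_cases : d = 0 ∨ d = 1 ∨ d = 2 ∨ d = 3 ∨ d = 4 := by omega
  rcases hd_cases with rfl | rfl | rfl | rfl | rfl
  · -- d = 0
    exfalso
    have hz : ∀ i ∈ (Finset.univ : Finset (Fin n)), a i = 0 :=
      (Finset.sum_eq_zero_iff_of_nonneg fun i _ => ha i).1 (by rw [hS1]; norm_num)
    have : ∑ i, (a i) ^ 2 = 0 := Finset.sum_eq_zero fun i hi => by rw [hz i hi]; norm_num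
    rw [this] at hS2
    norm_num at hS2
  · left
    have hz : ∀ i ∈ (Finset.univ : Finset (Fin n)), a i * (a i - 1) = 0 :=
      (Finset.sum_eq_zero_iff_of_nonneg fun i _ => hterm3 i).1 (by rw [e3]; norm_num)
    have h := h01 fun i => hz i (Finset.mem_univ i)
    refine ⟨rfl, h, ?_⟩
    have := hcount h
    rw [hS1] at this
    exact_mod_cast this
  · right; left
    have hz : ∀ i ∈ (Finset.univ : Finset (Fin n)), a i * (a i - 1) = 0 :=
      (Finset.sum_eq_zero_iff_of_nonneg fun i _ => hterm3 i).1 (by rw [e3]; norm_num)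
    have h := h01 fun i => hz i (Finset.mem_univ i)
    refine ⟨rfl, h, ?_⟩
    have := hcount h
    rw [hS1] at this
    exact_mod_cast this
  · right; right
    -- d = 3 : n = 8 and all (a i - 1)(a i - 2) = 0
    have hn8 : (n : ℤ) = 8 := by linarith
    have hz : ∀ i ∈ (Finset.univ : Finset (Fin n)), (a i - 1) * (a i - 2) = 0 :=
      (Finset.sum_eq_zero_iff_of_nonneg fun i _ => hterm i).1 (by rw [e2, hS2, hS1, hn8]; norm_num)
    have h12 : ∀ i, a i = 1 ∨ a i = 2 := by
      intro i
      rcases mul_eq_zero.1 (hz i (Finset.mem_univ i)) with h | h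
      · exact Or.inl (by linarith)
      · exact Or.inr (by linarith)
    refine ⟨rfl, by exact_mod_cast hn8, ?_⟩
    -- sum of (a i - 1) = 1
    have hs : ∑ i, (a i - 1) = 1 := by
      rw [Finset.sum_sub_distrib, hS1]
      simp only [Finset.sum_const, Finset.card_univ, Fintype.card_fin, nsmul_eq_mul, mul_one]
      rw [hn8]; norm_num
    have hex : ∃ j, a j = 2 := by
      by_contra hne
      push Not at hne
      have : ∑ i, (a i - 1) = 0 := Finset.sum_eq_zero fun i _ => by
        rcases h12 i with h | h
        · rw [h]; norm_num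
        · exact absurd h (hne i)
      rw [this] at hs
      norm_num at hs
    obtain ⟨j, hj⟩ := hex
    refine ⟨j, hj, fun i hij => ?_⟩
    rcases h12 i with h | h
    · exact h
    · exfalso
      have hle : ∑ k ∈ ({i, j} : Finset (Fin n)), (a k - 1) ≤ ∑ k, (a k - 1) :=
        Finset.sum_le_sum_of_subset_of_nonneg (Finset.subset_univ _) fun k _ _ => by
          rcases h12 k with h | h <;> rw [h] <;> norm_num
      rw [Finset.sum_pair hij, h, hj, hs] at hle
      norm_num at hle
  · -- d = 4 impossible
    exfalso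
    linarith

end Groth.Agent.S18457
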