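import Groth.Statements.S1846
import Mathlib
import Groth.Agent.Helper2.HopfDiff
open TensorProduct Groth.Agent.Helper2.HopfDiff
-- import your own Groth.Agent.* helpers here

set_option autoImplicit false
universe u v
open GrpSch

namespace Groth.Agent.S1846

/-- Affine case of the last sentence: for a group scheme over a field the module of differentials is a
free module; stated for an affine group scheme Spec B, i.e. for a commutative Hopf algebra B over a
field K: Ω_{B/K} is a free B-module. -/
theorem result (K : Type u) [Field K] (B : Type v) [CommRing B] [HopfAlgebra K B] : Module.Free B (Ω[B⁄K]) := by
  haveI : Module.Free K (augI K B).Cotangent := Module.Free.of_divisionRing K _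
  haveI : Module.Free B (B ⊗[K] (augI K B).Cotangent) := inferInstance
  exact Module.Free.of_equiv (kaehlerEquiv K B).symm

end Groth.Agent.S1846
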