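import Groth.Statements.S18465
import Mathlib
-- import your own Groth.Agent.* helpers here

set_option autoImplicit false
universe u v w x
open WildLef

namespace Groth.Agent.S18465

/-- Let f : G₁ → G₂ be a homomorphism of groups, ρ : G₂ → Γ a homomorphism with finite image G, and A a
nontrivial commutative ring. Let G₂ act on the group algebra A[G] through ρ followed by the left
regular representation, and G₁ through f. If the elements of A[G] fixed by G₁ coincide with those
fixed by G₂, then ρ ∘ f and ρ have the same image. (The published statement has Γ a general linear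
group GL_r(A); over the zero ring that group is trivial, so requiring A nontrivial and allowing any
target group loses nothing.) -/
theorem result
    {G₁ : Type u} {G₂ : Type v} {Γ : Type w} [Group G₁] [Group G₂] [Group Γ]
    (f : G₁ →* G₂) (ρ : G₂ →* Γ) [Finite ρ.range] (A : Type x) [CommRing A] [Nontrivial A]
    (h : {x : MonoidAlgebra A ρ.range | ∀ g : G₁, MonoidAlgebra.of A ρ.range (ρ.rangeRestrict (f g)) * x = x} =
      {x : MonoidAlgebra A ρ.range | ∀ g : G₂, MonoidAlgebra.of A ρ.range (ρ.rangeRestrict g) * x = x}) :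
    (ρ.comp f).range = ρ.range := by
  classical
  apply le_antisymm
  · rintro _ ⟨g, rfl⟩
    exact ⟨f g, rfl⟩
  · rintro _ ⟨g₂, rfl⟩
    let H' : Subgroup ρ.range := (ρ.rangeRestrict.comp f).range
    haveI : Fintype ρ.range := Fintype.ofFinite _
    let xH : MonoidAlgebra A ρ.range :=
      MonoidAlgebra.ofCoeff
        (Finsupp.equivFunOnFinite.symm (fun γ : ρ.range => if γ ∈ H' then (1 : A) else 0))
    have hx : ∀ γ, xH.coeff γ = if γ ∈ H' then 1 else 0 := fun γ => rfl
    have hfix : xH ∈ {x : MonoidAlgebra A ρ.range |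
        ∀ g : G₁, MonoidAlgebra.of A ρ.range (ρ.rangeRestrict (f g)) * x = x} := by
      intro g
      apply MonoidAlgebra.coeff_injective
      ext γ
      show (MonoidAlgebra.single (ρ.rangeRestrict (f g)) (1 : A) * xH).coeff γ = xH.coeff γ
      rw [MonoidAlgebra.coeff_single_mul_apply, one_mul, hx, hx]
      have hmem : (ρ.rangeRestrict (f g))⁻¹ * γ ∈ H' ↔ γ ∈ H' :=
        H'.mul_mem_cancel_left (H'.inv_mem ⟨g, rfl⟩)
      simp only [hmem]
    rw [h] at hfix
    have h2 := hfix g₂
    have h3 : (MonoidAlgebra.single (ρ.rangeRestrict g₂) (1 : A) * xH).coeff (ρ.rangeRestrict g₂) =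
        xH.coeff (ρ.rangeRestrict g₂) := congrArg (fun x => x.coeff (ρ.rangeRestrict g₂)) h2
    rw [MonoidAlgebra.coeff_single_mul_apply, one_mul, inv_mul_cancel, hx, hx,
      if_pos H'.one_mem] at h3
    by_cases hmem : ρ.rangeRestrict g₂ ∈ H'
    · obtain ⟨g₁, hg₁⟩ := hmem
      refine ⟨g₁, ?_⟩
      have := congrArg Subtype.val hg₁
      simpa using this
    · rw [if_neg hmem] at h3
      exact (one_ne_zero h3).elim

end Groth.Agent.S18465
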