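import Groth.Statements.S18470
import Mathlib
-- import your own Groth.Agent.* helpers here

set_option autoImplicit false
universe u v
open OortTate

namespace Groth.Agent.S18470

/-- Let R be a commutative ring and A a commutative Hopf algebra over R which is finitely generated and
projective as an R-module (a finite locally free group scheme G = Spec A, not assumed commutative),
and let A^D = Hom_R(A, R) be the dual algebra with its Hopf structure (the Cartier dual when A is
cocommutative), whose counit is evaluation at 1. Then restriction of linear forms to the
augmentation ideal I = ker ε_A of A is a bijection from the augmentation ideal of A^D onto the dual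
module Hom_R(I, R): the dual of the augmentation ideal of G is the augmentation ideal of the dual.
The published statement is for a group scheme of order p over a Λ_p-algebra; the argument uses only
the splitting A = R·1 ⊕ ker ε. -/
theorem result
    (R : Type u) [CommRing R] (A : Type v) [CommRing A] [HopfAlgebra R A]
    [Module.Finite R A] [Module.Projective R A] :
    Function.Bijective (fun f : LinearMap.ker (Bialgebra.counitAlgHom R (CartDual.D R A)).toLinearMap =>
      ((CartDual.toDual R A) (f : CartDual.D R A)).comp
        (LinearMap.ker (Bialgebra.counitAlgHom R A).toLinearMap).subtype) := by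
  classical
  have hε1 : (Bialgebra.counitAlgHom R A) 1 = 1 := map_one _
  -- decomposition of elements
  have hdec : ∀ a : A, a - (Bialgebra.counitAlgHom R A a) • (1 : A) ∈
      LinearMap.ker (Bialgebra.counitAlgHom R A).toLinearMap := by
    intro a
    rw [LinearMap.mem_ker]
    show (Bialgebra.counitAlgHom R A) (a - (Bialgebra.counitAlgHom R A a) • (1 : A)) = 0
    rw [map_sub, map_smul, hε1, smul_eq_mul, mul_one, sub_self]
  constructor
  · intro f g hfg
    have hf1 : (f : CartDual.D R A) 1 = 0 := by
      have := f.2
      rw [LinearMap.mem_ker] at this
      exact this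
    have hg1 : (g : CartDual.D R A) 1 = 0 := by
      have := g.2
      rw [LinearMap.mem_ker] at this
      exact this
    have hI : ∀ a ∈ LinearMap.ker (Bialgebra.counitAlgHom R A).toLinearMap,
        (f : CartDual.D R A) a = (g : CartDual.D R A) a := by
      intro a ha
      have := congrArg (fun φ => φ ⟨a, ha⟩) hfg
      exact this
    apply Subtype.ext
    apply WithConv.ext
    apply LinearMap.ext
    intro a
    have ha : a = (a - (Bialgebra.counitAlgHom R A a) • (1 : A)) + (Bialgebra.counitAlgHom R A a) • (1 : A) := by
      abel
    have e1 : (f : CartDual.D R A).ofConv a = (f : CartDual.D R A) a := rfl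
    have e2 : (g : CartDual.D R A).ofConv a = (g : CartDual.D R A) a := rfl
    rw [e1, e2, ha, map_add, map_add, map_smul, map_smul, hf1, hg1, hI _ (hdec a)]
  · intro φ
    let π₀ : A →ₗ[R] A :=
      (LinearMap.id : A →ₗ[R] A) - (Algebra.linearMap R A).comp (Bialgebra.counitAlgHom R A).toLinearMap
    have hπ₀ : ∀ a, π₀ a = a - (Bialgebra.counitAlgHom R A a) • (1 : A) := by
      intro a
      show a - algebraMap R A (Bialgebra.counitAlgHom R A a) = _
      rw [Algebra.algebraMap_eq_smul_one]
    let π : A →ₗ[R] LinearMap.ker (Bialgebra.counitAlgHom R A).toLinearMap :=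
      LinearMap.codRestrict _ π₀ (fun a => by rw [hπ₀]; exact hdec a)
    have hπ : ∀ a, ((π a : LinearMap.ker (Bialgebra.counitAlgHom R A).toLinearMap) : A) =
        a - (Bialgebra.counitAlgHom R A a) • (1 : A) := by
      intro a
      exact hπ₀ a
    let f₀ : CartDual.D R A := WithConv.toConv (φ.comp π)
    have hf₀ : f₀ ∈ LinearMap.ker (Bialgebra.counitAlgHom R (CartDual.D R A)).toLinearMap := by
      rw [LinearMap.mem_ker]
      show φ (π 1) = 0
      have : π 1 = 0 := by
        apply Subtype.ext
        rw [hπ, hε1, one_smul, sub_self]
        rfl
      rw [this, map_zero]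
    refine ⟨⟨f₀, hf₀⟩, ?_⟩
    apply LinearMap.ext
    intro a
    show φ (π a) = φ a
    congr 1
    apply Subtype.ext
    rw [hπ]
    have ha : (Bialgebra.counitAlgHom R A) (a : A) = 0 := by
      have := a.2
      rw [LinearMap.mem_ker] at this
      exact this
    rw [ha, zero_smul, sub_zero]

end Groth.Agent.S18470
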