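import Groth.Statements.S18472
import Mathlib
import Groth.Agent.Helper2.HopfDiff
open TensorProduct Groth.Agent.Helper2.HopfDiff
-- import your own Groth.Agent.* helpers here

set_option autoImplicit false
universe u v
open Hopf

namespace Groth.Agent.S18472

/-- Let R be a commutative ring and A a commutative Hopf algebra over R which is finitely generated and
projective as an R-module (a finite locally free group scheme G = Spec A over Spec R), and let I =
ker ε be its augmentation ideal. Then A is étale over R if and only if I² = I. (The published text
calls G finite flat, meaning that A is finitely generated and projective.) -/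
theorem result
    (R : Type u) [CommRing R] (A : Type v) [CommRing A] [HopfAlgebra R A]
    [Module.Finite R A] [Module.Projective R A] :
    Algebra.Etale R A ↔
      RingHom.ker (Bialgebra.counitAlgHom R A) ^ 2 = RingHom.ker (Bialgebra.counitAlgHom R A) := by
  have e := kaehlerEquiv R A
  have hinj : Subsingleton (A ⊗[R] (augI R A).Cotangent) → Subsingleton (augI R A).Cotangent := by
    intro h
    refine ⟨fun x y => ?_⟩
    have := congrArg ((TensorProduct.lid R _).toLinearMap ∘ₗ (Coalgebra.counit (R := R) (A := A)).rTensor _)
      (Subsingleton.elim ((1 : A) ⊗ₜ[R] x) ((1 : A) ⊗ₜ[R] y))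
    simpa using this
  constructor
  · intro het
    have h0 : Subsingleton (Ω[A⁄R]) := inferInstance
    have h1 : Subsingleton (A ⊗[R] (augI R A).Cotangent) := e.symm.toEquiv.subsingleton
    have h2 := hinj h1
    rw [Ideal.cotangent_subsingleton_iff] at h2
    rw [pow_two]
    exact h2
  · intro hI
    have h2 : Subsingleton (augI R A).Cotangent := by
      rw [Ideal.cotangent_subsingleton_iff, IsIdempotentElem, ← pow_two]
      exact hI
    have h1 : Subsingleton (A ⊗[R] (augI R A).Cotangent) := inferInstance
    have h0 : Subsingleton (Ω[A⁄R]) := e.toEquiv.subsingleton
    haveI : Algebra.FormallyUnramified R A := ⟨h0⟩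
    haveI : Module.FinitePresentation R A := Module.finitePresentation_of_projective R A
    exact Algebra.Etale.of_formallyUnramified_of_flat

end Groth.Agent.S18472
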