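import Groth.Statements.S18479
import Groth.Agent.Helper9.HopfTwo
-- import your own Groth.Agent.* helpers here

set_option autoImplicit false
universe u v
open scoped TensorProduct
open OortTate

namespace Groth.Agent.S18479

open Groth.Agent.Helper9.HopfTwo
open scoped TensorProduct

/-- Let R be a commutative ring and A a commutative Hopf algebra over R whose augmentation ideal ker ε
is a free R-module of rank one with generator x (this is the situation of a group scheme of order 2
over a local ring: A free of rank 2, so ker ε is free of rank 1). Then there are a, b ∈ R with x² =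
a·x, Δ(x) = x ⊗ 1 + 1 ⊗ x + b·(x ⊗ x), and ab = −2; thus A is the Hopf algebra R[T]/(T² − aT) with
comultiplication T ↦ T ⊗ 1 + 1 ⊗ T + b T ⊗ T. (The copy works over a Noetherian local ring to get
freeness; the computation uses only that ker ε is free on x.) -/
theorem result
    (R : Type u) [CommRing R] (A : Type v) [CommRing A] [HopfAlgebra R A]
    (x : A) (hx : Bialgebra.counitAlgHom R A x = 0)
    (hgen : ∀ f : A, Bialgebra.counitAlgHom R A f = 0 → ∃ r : R, f = r • x)
    (hfree : ∀ r : R, r • x = 0 → r = 0) :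
    ∃ a b : R, x * x = a • x ∧
      Bialgebra.comulAlgHom R A x = x ⊗ₜ[R] 1 + 1 ⊗ₜ[R] x + b • (x ⊗ₜ[R] x) ∧ a * b = -2 := by
  classical
  have hε1 : Bialgebra.counitAlgHom R A (1 : A) = 1 := map_one _
  -- a
  have hxx : Bialgebra.counitAlgHom R A (x * x) = 0 := by rw [map_mul, hx, mul_zero]
  obtain ⟨a, ha⟩ := hgen _ hxx
  -- expansion of Δ x
  obtain ⟨p, q, r, b, hΔ⟩ := tensor_span x hx hgen (Bialgebra.comulAlgHom R A x)
  have hcx : Coalgebra.counit (R := R) x = 0 := by
    simpa [Bialgebra.counitAlgHom_apply] using hx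
  have hc1 : Coalgebra.counit (R := R) (1 : A) = 1 := by
    simpa [Bialgebra.counitAlgHom_apply] using hε1
  have hΔ' : Coalgebra.comul (R := R) x = p • ((1 : A) ⊗ₜ[R] (1 : A)) + q • (x ⊗ₜ[R] (1 : A)) +
      r • ((1 : A) ⊗ₜ[R] x) + b • (x ⊗ₜ[R] x) := by
    rw [← hΔ]; rfl
  have h1 := Coalgebra.rTensor_counit_comul (R := R) x
  have h2 := Coalgebra.lTensor_counit_comul (R := R) x
  rw [hΔ'] at h1 h2
  simp only [map_add, map_smul, LinearMap.rTensor_tmul, LinearMap.lTensor_tmul, hcx, hc1,
    TensorProduct.zero_tmul, TensorProduct.tmul_zero, smul_zero, add_zero] at h1 h2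
  have h1' := congrArg (TensorProduct.lid R A) h1
  have h2' := congrArg (TensorProduct.rid R A) h2
  simp only [map_add, map_smul, TensorProduct.lid_tmul, TensorProduct.rid_tmul, one_smul] at h1' h2'
  -- h1' : p • 1 + r • x = x ; h2' : p • 1 + q • x = x
  have e1 := decomp_unique x hx hfree p 0 r 1 (by
    rw [Algebra.algebraMap_eq_smul_one, map_zero, zero_add, one_smul]; exact h1')
  have e2 := decomp_unique x hx hfree p 0 q 1 (by
    rw [Algebra.algebraMap_eq_smul_one, map_zero, zero_add, one_smul]; exact h2')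
  obtain ⟨hp, hr⟩ := e1
  obtain ⟨_, hq⟩ := e2
  subst hp hr hq
  have hΔx : Bialgebra.comulAlgHom R A x = x ⊗ₜ[R] 1 + 1 ⊗ₜ[R] x + b • (x ⊗ₜ[R] x) := by
    rw [hΔ]; simp
  refine ⟨a, b, ha, hΔx, ?_⟩
  -- antipode
  have hSx : Bialgebra.counitAlgHom R A (HopfAlgebra.antipode R x) = 0 := by
    rw [Bialgebra.counitAlgHom_apply, HopfAlgebra.counit_antipode]; exact hcx
  obtain ⟨s, hs⟩ := hgen _ hSx
  have h3 := HopfAlgebra.mul_antipode_rTensor_comul_apply (R := R) x
  have hΔ'' : Coalgebra.comul (R := R) x = x ⊗ₜ[R] 1 + 1 ⊗ₜ[R] x + b • (x ⊗ₜ[R] x) := by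
    rw [← hΔx]; rfl
  rw [hΔ'', hcx] at h3
  simp only [map_add, map_smul, LinearMap.rTensor_tmul, LinearMap.mul'_apply, hs,
    HopfAlgebra.antipode_one, map_zero, mul_one, one_mul] at h3
  have h4 : (s + 1 + b * s * a) • x = 0 := by
    rw [← h3]
    simp only [add_smul, one_smul, mul_smul, smul_mul_assoc, ha]
  have h4' := hfree _ h4
  -- multiplicativity
  have h5 : Bialgebra.comulAlgHom R A (x * x) =
      Bialgebra.comulAlgHom R A x * Bialgebra.comulAlgHom R A x := map_mul _ _ _
  have h6 := congrArg (cc x hx hgen hfree) h5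
  rw [ha, map_smul, hΔx] at h6
  have cx := coord_x x hx hgen hfree
  have c1 := coord_one x hx hgen hfree
  have cxx : coord x hx hgen hfree (x * x) = a := by
    rw [ha, map_smul, cx]; simp
  simp only [mul_add, add_mul, Algebra.TensorProduct.tmul_mul_tmul, smul_mul_assoc,
    mul_smul_comm, map_add, map_smul, cc_tmul, cx, c1, cxx, mul_one, one_mul, smul_eq_mul,
    mul_zero, zero_mul, add_zero, zero_add] at h6
  linear_combination (a * b + 2) * h4' + s * h6

end Groth.Agent.S18479
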