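import Groth.Statements.S18480
import Groth.Agent.Helper9.HopfTwo
-- import your own Groth.Agent.* helpers here

set_option autoImplicit false
universe u v
open scoped TensorProduct
open OortTate

namespace Groth.Agent.S18480

open Groth.Agent.Helper9.HopfTwo
open scoped TensorProduct

/-- Let R be a commutative ring and let A and A' be commutative Hopf algebras over R whose augmentation
ideals are free of rank one with generators x and x', with constants a, b and a', b' ∈ R such that
x² = a x, Δ(x) = x ⊗ 1 + 1 ⊗ x + b x ⊗ x and x'² = a' x', Δ(x') = x' ⊗ 1 + 1 ⊗ x' + b' x' ⊗ x' (the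
group schemes of order two G_{a,b} and G_{a',b'}). Then A and A' are isomorphic as bialgebras over R
(G_{a,b} ≅ G_{a',b'} as group schemes) if and only if there is a unit s of R with a = a'·s and b' =
b·s. -/
theorem result
    (R : Type u) [CommRing R] (A : Type v) [CommRing A] [HopfAlgebra R A]
    (x : A) (hx : Bialgebra.counitAlgHom R A x = 0)
    (hgen : ∀ f : A, Bialgebra.counitAlgHom R A f = 0 → ∃ r : R, f = r • x)
    (hfree : ∀ r : R, r • x = 0 → r = 0)
    (a b : R) (hxa : x * x = a • x)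
    (hxb : Bialgebra.comulAlgHom R A x = x ⊗ₜ[R] 1 + 1 ⊗ₜ[R] x + b • (x ⊗ₜ[R] x))
    (A' : Type v) [CommRing A'] [HopfAlgebra R A']
    (x' : A') (hx' : Bialgebra.counitAlgHom R A' x' = 0)
    (hgen' : ∀ f : A', Bialgebra.counitAlgHom R A' f = 0 → ∃ r : R, f = r • x')
    (hfree' : ∀ r : R, r • x' = 0 → r = 0)
    (a' b' : R) (hxa' : x' * x' = a' • x')
    (hxb' : Bialgebra.comulAlgHom R A' x' = x' ⊗ₜ[R] 1 + 1 ⊗ₜ[R] x' + b' • (x' ⊗ₜ[R] x')) :
    Nonempty (A ≃ₐc[R] A') ↔ ∃ s : Rˣ, a = a' * (s : R) ∧ b' = b * (s : R) := by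
  classical
  have hcx : Coalgebra.counit (R := R) x = 0 := by
    simpa [Bialgebra.counitAlgHom_apply] using hx
  have hcx' : Coalgebra.counit (R := R) x' = 0 := by
    simpa [Bialgebra.counitAlgHom_apply] using hx'
  constructor
  · rintro ⟨φ⟩
    have h1 : Bialgebra.counitAlgHom R A' (φ x) = 0 := by
      rw [Bialgebra.counitAlgHom_apply, CoalgHomClass.counit_comp_apply]; exact hcx
    obtain ⟨s, hs⟩ := hgen' _ h1
    have h2 : Bialgebra.counitAlgHom R A (φ.symm x') = 0 := by
      rw [Bialgebra.counitAlgHom_apply, CoalgHomClass.counit_comp_apply]; exact hcx'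
    obtain ⟨t, ht⟩ := hgen _ h2
    have hst : s * t = 1 := by
      have : φ.symm (φ x) = x := φ.symm_apply_apply x
      rw [hs, map_smul, ht, smul_smul] at this
      have h0 : (s * t - 1) • x = 0 := by rw [sub_smul, this, one_smul, sub_self]
      exact sub_eq_zero.1 (hfree _ h0)
    -- multiplication
    have hm : φ (x * x) = φ x * φ x := map_mul φ x x
    rw [hxa, map_smul, hs, smul_mul_smul_comm, hxa', smul_smul, smul_smul] at hm
    have hm0 : (a * s - s * s * a') • x' = 0 := by rw [sub_smul, hm, sub_self]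
    have hm' := sub_eq_zero.1 (hfree' _ hm0)
    have ha : a = a' * s := by
      calc a = a * (s * t) := by rw [hst, mul_one]
        _ = (a * s) * t := by ring
        _ = (s * s * a') * t := by rw [hm']
        _ = a' * s * (s * t) := by ring
        _ = a' * s := by rw [hst, mul_one]
    -- comultiplication
    have hc := CoalgHomClass.map_comp_comul_apply φ x
    have hΔ : Coalgebra.comul (R := R) x = x ⊗ₜ[R] 1 + 1 ⊗ₜ[R] x + b • (x ⊗ₜ[R] x) := by
      rw [← hxb]; rfl
    have hΔ' : Coalgebra.comul (R := R) x' = x' ⊗ₜ[R] 1 + 1 ⊗ₜ[R] x' + b' • (x' ⊗ₜ[R] x') := by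
      rw [← hxb']; rfl
    rw [hΔ, hs, map_smul, hΔ'] at hc
    simp only [map_add, map_smul, TensorProduct.map_tmul, LinearMap.coe_coe, map_one, hs] at hc
    have hc2 := congrArg (cc x' hx' hgen' hfree') hc
    have cx := coord_x x' hx' hgen' hfree'
    have c1 := coord_one x' hx' hgen' hfree'
    simp only [map_add, map_smul, cc_tmul, cx, c1, mul_one, one_mul, smul_eq_mul,
      mul_zero, zero_mul, add_zero, zero_add] at hc2
    have hb : b' = b * s := by
      calc b' = (s * b') * t := by rw [mul_comm s b', mul_assoc, hst, mul_one]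
        _ = (b * (s * s)) * t := by rw [← hc2]
        _ = b * s * (s * t) := by ring
        _ = b * s := by rw [hst, mul_one]
    exact ⟨Units.mkOfMulEqOne s t hst, ha, hb⟩
  · rintro ⟨s, ha, hb⟩
    have hy : ((s : R) • x') * ((s : R) • x') = a • ((s : R) • x') := by
      rw [smul_mul_smul_comm, hxa', smul_smul, smul_smul, ha]; ring_nf
    have hy' : (((s⁻¹ : Rˣ) : R) • x) * (((s⁻¹ : Rˣ) : R) • x) = a' • (((s⁻¹ : Rˣ) : R) • x) := by
      rw [smul_mul_smul_comm, hxa, smul_smul, smul_smul, ha]
      congr 1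
      have : ((s⁻¹ : Rˣ) : R) * (s : R) = 1 := by simp
      linear_combination (a' * ((s⁻¹ : Rˣ) : R)) * this
    let φ : A →ₐ[R] A' := liftHom x hx hgen hfree a hxa ((s : R) • x') hy
    let ψ : A' →ₐ[R] A := liftHom x' hx' hgen' hfree' a' hxa' (((s⁻¹ : Rˣ) : R) • x) hy'
    have hφx : φ x = (s : R) • x' := liftHom_x x hx hgen hfree a hxa _ hy
    have hψx : ψ x' = ((s⁻¹ : Rˣ) : R) • x := liftHom_x x' hx' hgen' hfree' a' hxa' _ hy'
    have h12 : φ.comp ψ = AlgHom.id R A' := by
      apply algHom_ext_x x' hx' hgen'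
      rw [AlgHom.comp_apply, hψx, map_smul, hφx, smul_smul]
      simp
    have h21 : ψ.comp φ = AlgHom.id R A := by
      apply algHom_ext_x x hx hgen
      rw [AlgHom.comp_apply, hφx, map_smul, hψx, smul_smul]
      simp
    let e : A ≃ₐ[R] A' := AlgEquiv.ofAlgHom φ ψ h12 h21
    have hex : e x = (s : R) • x' := hφx
    refine ⟨BialgEquiv.ofAlgEquiv e ?_ ?_⟩
    · apply algHom_ext_x x hx hgen
      rw [AlgHom.comp_apply]
      change Bialgebra.counitAlgHom R A' (e x) = _
      rw [hex, map_smul, hx', hx, smul_zero]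
    · apply algHom_ext_x x hx hgen
      rw [AlgHom.comp_apply, AlgHom.comp_apply, hxb]
      change _ = Bialgebra.comulAlgHom R A' (e x)
      rw [hex, map_smul, hxb']
      simp only [map_add, map_smul, Algebra.TensorProduct.map_tmul, map_one]
      change (e x) ⊗ₜ[R] (1 : A') + (1 : A') ⊗ₜ[R] (e x) + b • ((e x) ⊗ₜ[R] (e x)) = _
      rw [hex, hb]
      simp only [TensorProduct.smul_tmul', TensorProduct.tmul_smul, smul_add, smul_smul]
      have : b * ((s : R) * (s : R)) = (s : R) * (b * (s : R)) := by ring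
      rw [this]

end Groth.Agent.S18480
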