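import Groth.Statements.S18483
import Mathlib
import Groth.Agent.Helper3.WeilH3
import Groth.Agent.Helper8.NeronTors

set_option autoImplicit false
universe u
open scoped TensorProduct
open CategoryTheory CategoryTheory.Limits AlgebraicGeometry MonObj
open Neron

namespace Groth.Agent.S18483

/-- Let R be a Dedekind domain with fraction field K and N a proper smooth group scheme over Spec R,
with no connectedness condition on its fibres. Then N is a Néron model of its generic fibre N_K: N
is smooth, separated and of finite type over Spec R, and for every smooth Spec R-scheme Y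
restriction to generic fibres is a bijection from R-morphisms Y → N onto K-morphisms Y_K → N_K. (The
source allows any connected Dedekind scheme as base; the affine case is stated.) -/
theorem result (R : Type u) [CommRing R] [IsDedekindDomain R]
    (N : Over (Spec (CommRingCat.of R))) [GrpObj N] [IsProper N.hom] [Smooth N.hom] :
    Neron.IsNeronModelOf R N ((Neron.genericFibre R).obj N) (Iso.refl _) := by
  refine ⟨inferInstance, inferInstance, inferInstance, inferInstance, ?_⟩
  intro Y hY
  haveI : Smooth Y.hom := hY
  rw [Groth.Agent.Helper8.NeronTors.bij_iff R Y N]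
  letI : GrpObj (Over.mk N.hom) := inferInstanceAs (GrpObj N)
  have hpb : IsPullback (pullback.fst Y.hom (Neron.genPt R)) (pullback.snd Y.hom (Neron.genPt R))
      Y.hom (Neron.genPt R) := IsPullback.of_hasPullback Y.hom (Neron.genPt R)
  have key : ∀ ψ : (Groth.Agent.Helper8.NeronTors.LF R).obj Y ⟶ N,
      ∃! u : Y.left ⟶ N.left, u ≫ N.hom = Y.hom ∧
        pullback.fst Y.hom (Neron.genPt R) ≫ u = ψ.left := by
    intro ψ
    have hψ : ψ.left ≫ N.hom = pullback.fst Y.hom (Neron.genPt R) ≫ Y.hom := by
      rw [Over.w ψ]
      exact pullback.condition.symm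
    exact Groth.Agent.Helper3.WeilH3.genExt Y.hom N.hom _ _ hpb ψ.left hψ
  constructor
  · intro g₁ g₂ h
    have h' : Groth.Agent.Helper8.NeronTors.eps R Y ≫ g₁ =
        Groth.Agent.Helper8.NeronTors.eps R Y ≫ g₂ := h
    obtain ⟨u, -, huniq⟩ := key (Groth.Agent.Helper8.NeronTors.eps R Y ≫ g₁)
    have e1 : g₁.left = u := huniq _ ⟨Over.w g₁, by
      rw [Over.comp_left, Groth.Agent.Helper8.NeronTors.eps_left]⟩
    have e2 : g₂.left = u := huniq _ ⟨Over.w g₂, by
      rw [h', Over.comp_left, Groth.Agent.Helper8.NeronTors.eps_left]⟩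
    exact Over.OverMorphism.ext (e1.trans e2.symm)
  · intro ψ
    obtain ⟨u, ⟨hu1, hu2⟩, -⟩ := key ψ
    refine ⟨Over.homMk u hu1, ?_⟩
    apply Over.OverMorphism.ext
    show (Groth.Agent.Helper8.NeronTors.eps R Y ≫ Over.homMk u hu1).left = ψ.left
    rw [Over.comp_left, Groth.Agent.Helper8.NeronTors.eps_left]
    exact hu2

end Groth.Agent.S18483
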