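import Groth.Statements.S18487
import Groth.Agent.Helper9.TorsorProps
import Groth.Agent.Helper3.SmoothDed

set_option autoImplicit false
universe u
open CategoryTheory CategoryTheory.Limits AlgebraicGeometry MonObj
open NonAbH1

namespace Groth.Agent.S18487

/-- Let R be a Dedekind domain with fraction field K, G a proper flat group scheme over Spec R, and P a
Spec R-scheme with an action of G making it a G-torsor for the fppf topology (a pseudo-torsor
acquiring sections on the members of an fppf covering family). If P acquires a section over the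
generic point Spec K → Spec R, then P has a section over Spec R: a generically trivial torsor is
trivial. (The source allows any connected Dedekind scheme as base and torsors that are fppf sheaves,
shown there to be schemes; the affine base and scheme torsors are stated.) -/
theorem result (R : Type u) [CommRing R] [IsDedekindDomain R]
    (G : Over (Spec (CommRingCat.of R))) [GrpObj G] [IsProper G.hom] [Flat G.hom]
    (P : NonAbH1.TorsorSch G Scheme.fppfPrecoverage) (h : NonAbH1.HasSectionOver P.X (Neron.genPt R)) :
    NonAbH1.HasSectionOver P.X (𝟙 (Spec (CommRingCat.of R))) := by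
  classical
  obtain ⟨σ, hσ⟩ := h
  -- the torsor is proper over `Spec R`
  have hY' : NonAbH1.IsTorsorFor Scheme.fpqcPrecoverage P.act := by
    obtain ⟨h1, Rr, hR, hsec⟩ := P.isTorsor
    exact ⟨h1, Rr, Scheme.fppfPrecoverage_le_fpqcPrecoverage _ hR, hsec⟩
  haveI hprop : IsProper P.X.hom :=
    Groth.Agent.Helper9.TorsorTriv.descend P.act hY'.1 @IsProper hY'.2 inferInstance
  -- the base
  haveI : IsDomain (CommRingCat.of R) := inferInstanceAs (IsDomain R)
  haveI : IsNoetherianRing (CommRingCat.of R) := inferInstanceAs (IsNoetherianRing R)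
  haveI : IsLocallyNoetherian (Spec (CommRingCat.of R)) := isLocallyNoetherian_Spec.mpr ‹_›
  let S := Spec (CommRingCat.of R)
  let x : S := genericPoint S
  letI alg : Algebra R S.functionField :=
    instAlgebraCarrierFunctionFieldSpec (CommRingCat.of R)
  -- the fraction field versus the function field
  haveI hfr : IsFractionRing R S.functionField :=
    functionField_isFractionRing_of_affine (CommRingCat.of R)
  let e : FractionRing R ≃ₐ[R] S.functionField :=
    IsLocalization.algEquiv (nonZeroDivisors R) (FractionRing R) S.functionField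
  let φ : Spec (S.presheaf.stalk x) ⟶ P.X.left :=
    Spec.map (CommRingCat.ofHom (e : FractionRing R →+* S.functionField)) ≫ σ
  have hφ : φ ≫ P.X.hom = S.fromSpecStalk x ≫ 𝟙 S := by
    rw [Category.comp_id, Category.assoc, hσ, Spec.fromSpecStalk_eq']
    show Spec.map _ ≫ Spec.map _ = _
    rw [← Spec.map_comp]
    congr 1
    ext r
    exact (e.commutes r)
  obtain ⟨U, hxU, f, -, hf⟩ := spread_out_of_isGermInjective' (𝟙 S) P.X.hom φ hφ
  have hU : Dense (U : Set S) := U.isOpen.dense ⟨x, hxU⟩
  obtain ⟨V, hUV, g, hg, -, hV⟩ :=
    Groth.Agent.Helper3.SmoothDed.s11107 (R := R) (𝟙 S) P.X.hom U hU f hf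
  have hVtop : V = ⊤ := by
    rw [eq_top_iff]
    intro y _
    by_contra hy
    have h2 := hV y hy
    let k : Algebra R (S.presheaf.stalk y) := StructureSheaf.stalkAlgebra R y
    haveI : IsLocalization.AtPrime (S.presheaf.stalk y) y.asIdeal :=
      StructureSheaf.IsLocalization.to_stalk R y
    rw [IsLocalization.AtPrime.ringKrullDim_eq_height y.asIdeal (S.presheaf.stalk y)] at h2
    have h3 : ((y.asIdeal.height : ℕ∞) : WithBot ℕ∞) ≤ ringKrullDim R :=
      Ideal.height_le_ringKrullDim_of_isPrime
    have h4 : ringKrullDim R ≤ 1 := by
      have : Ring.KrullDimLE 1 R := inferInstance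
      have := Ring.krullDimLE_iff.mp this
      exact_mod_cast this
    have h5 : (2 : WithBot ℕ∞) ≤ 1 := h2.trans (h3.trans h4)
    exact absurd h5 (by decide)
  subst hVtop
  refine ⟨S.topIso.inv ≫ g, ?_⟩
  rw [Category.assoc, hg, Category.comp_id]
  exact S.toIso_inv_ι

end Groth.Agent.S18487
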