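import Groth.Statements.S18490
import Mathlib
import Groth.Agent.Helper9.FlatRetract
-- import your own Groth.Agent.* helpers here

set_option autoImplicit false
universe u
open CategoryTheory CategoryTheory.Limits AlgebraicGeometry
open FlatMor

namespace Groth.Agent.S18490

/-- Let f : X → S and g : Y → S be morphisms of schemes and suppose that g has a section y : S → Y. If
the structure morphism X ×_S Y → S (first projection followed by f) is quasi-compact, then so is f;
likewise for locally of finite type, for separated, and for flat. (Finite type, also listed in the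
source, is the conjunction of the first two.) -/
theorem result {X Y S : Scheme.{u}} (f : X ⟶ S) (g : Y ⟶ S)
    (y : S ⟶ Y) (hy : y ≫ g = 𝟙 S) :
    (QuasiCompact (pullback.fst f g ≫ f) → QuasiCompact f) ∧
    (LocallyOfFiniteType (pullback.fst f g ≫ f) → LocallyOfFiniteType f) ∧
    (IsSeparated (pullback.fst f g ≫ f) → IsSeparated f) ∧
    (Flat (pullback.fst f g ≫ f) → Flat f) := by
  let s : X ⟶ pullback f g := pullback.lift (𝟙 X) (f ≫ y) (by rw [Category.assoc, hy]; simp)
  have hs : s ≫ pullback.fst f g = 𝟙 X := pullback.lift_fst _ _ _
  have hfac : s ≫ (pullback.fst f g ≫ f) = f := by rw [← Category.assoc, hs, Category.id_comp]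
  haveI himm : IsImmersion s := by
    haveI : IsImmersion (s ≫ pullback.fst f g) := by rw [hs]; infer_instance
    exact IsImmersion.of_comp s (pullback.fst f g)
  refine ⟨?_, ?_, ?_, ?_⟩
  · intro h
    constructor
    intro U hU hUc
    have h1 := h.isCompact_preimage U hU hUc
    have hsurj : Function.Surjective (pullback.fst f g) := by
      intro x
      exact ⟨s x, by rw [← Scheme.Hom.comp_apply, hs]; rfl⟩
    have : f ⁻¹' U = (pullback.fst f g) '' ((pullback.fst f g ≫ f) ⁻¹' U) := by
      ext x
      constructor
      · intro hx
        obtain ⟨z, rfl⟩ := hsurj x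
        exact ⟨z, hx, rfl⟩
      · rintro ⟨z, hz, rfl⟩
        exact hz
    rw [this]
    exact h1.image (pullback.fst f g).continuous
  · intro h
    rw [← hfac]
    infer_instance
  · intro h
    rw [← hfac]
    infer_instance
  · intro h
    exact Groth.Agent.Helper9.FlatRetract.flat_of_section f s (pullback.fst f g) hs

end Groth.Agent.S18490
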