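import Groth.Statements.S18498
import Mathlib
import Groth.Agent.Helper9.SchDom
-- import your own Groth.Agent.* helpers here

set_option autoImplicit false
universe u
open CategoryTheory CategoryTheory.Limits AlgebraicGeometry MonObj
open Neron

namespace Groth.Agent.S18498

/-- Let R be a Dedekind domain with fraction field K, X a Spec R-scheme which is flat over Spec R, Y a
Spec R-scheme which is separated over Spec R, and f, g : X → Y two R-morphisms whose restrictions to
generic fibres X_K → Y_K are equal. Then f = g: an R-morphism from a flat R-scheme to a separated
R-scheme is determined by its generic fibre. (The source states this for algebraic spaces over a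
connected Dedekind scheme; the case of schemes over an affine base is stated.) -/
theorem result (R : Type u) [CommRing R] [IsDedekindDomain R]
    (X Y : Over (Spec (CommRingCat.of R))) [Flat X.hom] [IsSeparated Y.hom] (f g : X ⟶ Y)
    (h : (Neron.genericFibre R).map f = (Neron.genericFibre R).map g) : f = g := by
  haveI : IsSchemeTheoreticallyDominant (Neron.genPt R) :=
    Groth.Agent.Helper9.SchDom.schDominant_specMap _ (IsFractionRing.injective R (FractionRing R))
  haveI : IsSchemeTheoreticallyDominant (Limits.pullback.fst X.hom (Neron.genPt R)) := inferInstance
  apply Over.OverMorphism.ext
  refine Groth.Agent.Helper9.SchDom.ext_of_schDominant (Limits.pullback.fst X.hom (Neron.genPt R))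
    Y.hom ?_ ?_
  · rw [Over.w f, Over.w g]
  · have h1 := congrArg (fun t => t.left ≫ Limits.pullback.fst Y.hom (Neron.genPt R)) h
    simp only [Over.pullback_map_left] at h1
    rw [Limits.pullback.lift_fst, Limits.pullback.lift_fst] at h1
    exact h1

end Groth.Agent.S18498
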