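import Groth.Statements.S18538
import Mathlib
-- import your own Groth.Agent.* helpers here

set_option autoImplicit false
universe u
open EtAlg

namespace Groth.Agent.S18538

/-- Let A ⊆ B be an injective finite extension of integrally closed domains, with fraction fields K ⊆ L
and L separable over K. Then A → B → B ⊗_A B is exact, the second map being b ↦ b ⊗ 1 - 1 ⊗ b: every
element of B whose two images in B ⊗_A B agree comes from A. -/
theorem result
    (A B K L : Type u) [CommRing A] [CommRing B] [IsDomain A] [IsDomain B]
    [IsIntegrallyClosed A] [IsIntegrallyClosed B] [Algebra A B] [FaithfulSMul A B] [Module.Finite A B]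
    [Field K] [Field L] [Algebra A K] [IsFractionRing A K] [Algebra B L] [IsFractionRing B L]
    [Algebra K L] [Algebra A L] [IsScalarTower A K L] [IsScalarTower A B L]
    [Algebra.IsSeparable K L] :
    Algebra.IsEffective A B := by
  intro b
  constructor
  · intro hb
    rw [Algebra.TensorProduct.includeLeftSubRight_apply, sub_eq_zero] at hb
    -- a K-linear retraction of K → L
    obtain ⟨g, hg⟩ := LinearMap.exists_leftInverse_of_injective (Algebra.linearMap K L)
      (LinearMap.ker_eq_bot.2 (algebraMap K L).injective)
    have hg1 : g 1 = 1 := by
      have := LinearMap.congr_fun hg 1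
      simpa using this
    -- the A-bilinear map B × B → L
    let β : B →ₗ[A] B →ₗ[A] L :=
      LinearMap.mk₂ A (fun b₁ b₂ => algebraMap B L b₁ * algebraMap K L (g (algebraMap B L b₂)))
        (fun x y z => by simp only [map_add]; ring)
        (fun a x y => by
          simp only [Algebra.smul_def, map_mul, ← IsScalarTower.algebraMap_apply A B L]
          ring)
        (fun x y z => by simp only [map_add]; ring)
        (fun a x y => by
          have h1 : algebraMap B L (a • y) = (algebraMap A K a) • algebraMap B L y := by
            rw [Algebra.smul_def, map_mul, ← IsScalarTower.algebraMap_apply A B L,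
              IsScalarTower.algebraMap_apply A K L, Algebra.smul_def]
          rw [h1, map_smul, smul_eq_mul, map_mul, Algebra.smul_def (A := L) a,
            IsScalarTower.algebraMap_apply A K L]
          ring)
    let ψ : TensorProduct A B B →ₗ[A] L := TensorProduct.lift β
    have h1 : ψ (b ⊗ₜ[A] 1) = algebraMap B L b := by
      change algebraMap B L b * algebraMap K L (g (algebraMap B L 1)) = _
      rw [map_one, hg1, map_one, mul_one]
    have h2 : ψ ((1 : B) ⊗ₜ[A] b) = algebraMap K L (g (algebraMap B L b)) := by
      change algebraMap B L 1 * algebraMap K L (g (algebraMap B L b)) = _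
      rw [map_one, one_mul]
    have h3 : algebraMap B L b = algebraMap K L (g (algebraMap B L b)) := by
      rw [← h2, ← hb, h1]
    -- integrality
    have hint : IsIntegral A b := Algebra.IsIntegral.isIntegral b
    have hint' : IsIntegral A (algebraMap K L (g (algebraMap B L b))) := by
      rw [← h3]
      exact hint.map (IsScalarTower.toAlgHom A B L)
    rw [isIntegral_algebraMap_iff (algebraMap K L).injective] at hint'
    obtain ⟨a, ha⟩ := IsIntegrallyClosed.algebraMap_eq_of_integral hint'
    refine ⟨a, ?_⟩
    apply IsFractionRing.injective B L
    change algebraMap B L (algebraMap A B a) = _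
    rw [h3, ← ha, ← IsScalarTower.algebraMap_apply A B L, IsScalarTower.algebraMap_apply A K L]
  · rintro ⟨a, rfl⟩
    exact Algebra.TensorProduct.includeLeftSubRight_algebraMap_zero a

end Groth.Agent.S18538
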