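import Groth.Statements.S18539
import Mathlib
-- import your own Groth.Agent.* helpers here

set_option autoImplicit false
universe u v w
open CAlg

namespace Groth.Agent.S18539

open Pointwise

/-- For a commutative ring R, R-modules M and N and elements r₁, r₂ of R such that r₁ is a
non-zero-divisor on N and r₂ is a non-zero-divisor on N/r₁N, the element r₁ is a non-zero-divisor on
the module Hom_R(M, N) and r₂ is a non-zero-divisor on Hom_R(M, N)/r₁Hom_R(M, N). (Weak regularity
on both sides: no condition that the quotient by (r₁, r₂) is nonzero, which would fail for M = 0.) -/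
theorem result
    (R : Type u) [CommRing R] (M : Type v) (N : Type w)
    [AddCommGroup M] [Module R M] [AddCommGroup N] [Module R N]
    (r₁ r₂ : R) (h : RingTheory.Sequence.IsWeaklyRegular N [r₁, r₂]) :
    RingTheory.Sequence.IsWeaklyRegular (M →ₗ[R] N) [r₁, r₂] := by
  classical
  have hreg : ∀ (Q : Type w) [AddCommGroup Q] [Module R Q] (r : R), IsSMulRegular Q r →
      IsSMulRegular (M →ₗ[R] Q) r := by
    intro Q _ _ r hr f g hfg
    ext m
    apply hr
    have := congrArg (fun φ : M →ₗ[R] Q => φ m) hfg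
    simpa using this
  rw [RingTheory.Sequence.isWeaklyRegular_cons_iff,
    RingTheory.Sequence.isWeaklyRegular_cons_iff] at h ⊢
  obtain ⟨h1, h2, -⟩ := h
  refine ⟨hreg N r₁ h1, ?_, RingTheory.Sequence.IsWeaklyRegular.nil R _⟩
  let ψ : (M →ₗ[R] N) →ₗ[R] (M →ₗ[R] QuotSMulTop r₁ N) :=
    LinearMap.compRight R (Submodule.mkQ (r₁ • (⊤ : Submodule R N)))
  have hψ : r₁ • (⊤ : Submodule R (M →ₗ[R] N)) ≤ LinearMap.ker ψ := by
    intro f hf
    obtain ⟨g, -, rfl⟩ := (Submodule.mem_smul_pointwise_iff_exists _ _ _).mp hf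
    rw [LinearMap.mem_ker]
    ext m
    show Submodule.mkQ (r₁ • (⊤ : Submodule R N)) (r₁ • g m) = 0
    rw [Submodule.mkQ_apply, Submodule.Quotient.mk_eq_zero]
    exact Submodule.smul_mem_pointwise_smul _ _ _ trivial
  let Φ : QuotSMulTop r₁ (M →ₗ[R] N) →ₗ[R] (M →ₗ[R] QuotSMulTop r₁ N) :=
    Submodule.liftQ _ ψ hψ
  have hΦ : Function.Injective Φ := by
    rw [← LinearMap.ker_eq_bot]
    apply Submodule.ker_liftQ_eq_bot
    intro f hf
    rw [LinearMap.mem_ker] at hf
    have hm : ∀ m, ∃ n : N, r₁ • n = f m := by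
      intro m
      have h0 : Submodule.mkQ (r₁ • (⊤ : Submodule R N)) (f m) = 0 :=
        congrArg (fun φ : M →ₗ[R] QuotSMulTop r₁ N => φ m) hf
      rw [Submodule.mkQ_apply, Submodule.Quotient.mk_eq_zero] at h0
      obtain ⟨n, -, hn⟩ := (Submodule.mem_smul_pointwise_iff_exists _ _ _).mp h0
      exact ⟨n, hn⟩
    choose g hg using hm
    let G : M →ₗ[R] N :=
      { toFun := g
        map_add' := fun a b => by
          apply h1
          show r₁ • g (a + b) = r₁ • (g a + g b)
          rw [smul_add, hg, hg, hg, map_add]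
        map_smul' := fun c a => by
          apply h1
          show r₁ • g (c • a) = r₁ • (c • g a)
          rw [smul_comm r₁ c, hg, hg, map_smul] }
    refine (Submodule.mem_smul_pointwise_iff_exists _ _ _).mpr ⟨G, trivial, ?_⟩
    ext m
    exact hg m
  exact IsSMulRegular.of_injective Φ hΦ (hreg _ r₂ h2)

end Groth.Agent.S18539
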