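import Groth.Statements.S18544
import Mathlib
import Groth.Agent.Helper9.MultDet
-- import your own Groth.Agent.* helpers here

set_option autoImplicit false
universe u
open CAlg

namespace Groth.Agent.S18544

/-- Let F be an algebraically closed field of characteristic zero, n a natural number, and N a nonzero
polynomial over F in the n² matrix entries whose evaluation on n × n matrices is multiplicative,
N(xy) = N(x)·N(y) for all x, y (a norm form on the matrix algebra M_n(F) over F). Then N is a
natural power of the determinant: for some m, N(x) = det(x)^m for every matrix x. The published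
statement concerns norm forms of any central simple algebra over a subfield; this row is the case of
the full matrix algebra over an algebraically closed field, which is the case its proof treats. -/
theorem result (F : Type u) [Field F] [IsAlgClosed F]
    [CharZero F] (n : ℕ) (N : MvPolynomial (Fin n × Fin n) F) (hN : N ≠ 0)
    (hmul : ∀ x y : Matrix (Fin n) (Fin n) F,
      MvPolynomial.eval (fun ij : Fin n × Fin n => (x * y) ij.1 ij.2) N =
        MvPolynomial.eval (fun ij : Fin n × Fin n => x ij.1 ij.2) N * MvPolynomial.eval (fun ij : Fin n × Fin n => y ij.1 ij.2) N) :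
    ∃ m : ℕ, ∀ x : Matrix (Fin n) (Fin n) F,
      MvPolynomial.eval (fun ij : Fin n × Fin n => x ij.1 ij.2) N = x.det ^ m := by
  classical
  set ν : Matrix (Fin n) (Fin n) F → F :=
    fun x => MvPolynomial.eval (fun ij : Fin n × Fin n => x ij.1 ij.2) N with hν
  have hνmul : ∀ x y, ν (x * y) = ν x * ν y := hmul
  obtain ⟨x₀, hx₀⟩ : ∃ x₀, ν x₀ ≠ 0 := by
    by_contra hcon
    push Not at hcon
    apply hN
    apply MvPolynomial.funext
    intro g
    have := hcon (Matrix.of fun i j => g (i, j))
    simpa [ν] using this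
  have hν1 : ν 1 = 1 := by
    have h := hνmul 1 x₀
    rw [one_mul] at h
    have h2 : 1 * ν x₀ = ν 1 * ν x₀ := by rw [one_mul]; exact h
    exact (mul_right_cancel₀ hx₀ h2).symm
  have hline : ∀ A B : Matrix (Fin n) (Fin n) F,
      ∃ G : Polynomial F, ∀ c : F, G.eval c = ν (A + c • B) := by
    intro A B
    obtain ⟨G, hG⟩ := Helper9.MultDet.exists_poly_line N
      (fun ij : Fin n × Fin n => A ij.1 ij.2) (fun ij : Fin n × Fin n => B ij.1 ij.2)
    refine ⟨G, fun c => ?_⟩
    rw [hG c]
    simp only [ν, Matrix.add_apply, Matrix.smul_apply, smul_eq_mul, mul_comm]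
  -- transvections
  have htv : ∀ i j : Fin n, i ≠ j → ∀ c : F, ν (Matrix.transvection i j c) = 1 := by
    intro i j hij
    obtain ⟨G, hG⟩ := hline 1 (Matrix.single i j 1)
    have hG' : ∀ c, G.eval c = ν (Matrix.transvection i j c) := by
      intro c
      rw [hG c, Matrix.transvection, Matrix.smul_single, smul_eq_mul, mul_one]
    have hne : ∀ c, G.eval c ≠ 0 := by
      intro c hc
      have h := hνmul (Matrix.transvection i j c) (Matrix.transvection i j (-c))
      rw [Matrix.transvection_mul_transvection_same i j hij, add_neg_cancel, Matrix.transvection_zero,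
        hν1, ← hG' c, hc, zero_mul] at h
      exact one_ne_zero h
    obtain ⟨a, ha⟩ := Helper9.MultDet.eq_C_of_forall_eval_ne_zero G hne
    intro c
    have h0 : G.eval 0 = 1 := by rw [hG' 0, Matrix.transvection_zero, hν1]
    rw [← hG' c, ha, Polynomial.eval_C]
    rw [ha, Polynomial.eval_C] at h0
    exact h0
  -- diagonal matrices
  have hd1 : Matrix.diagonal (1 : Fin n → F) = 1 := Matrix.diagonal_one
  have hdiagmul : ∀ d d' : Fin n → F,
      ν (Matrix.diagonal (d * d')) = ν (Matrix.diagonal d) * ν (Matrix.diagonal d') := by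
    intro d d'
    rw [← hνmul, Matrix.diagonal_mul_diagonal']
    rfl
  have hsingle : ∀ i : Fin n, ∃ k : ℕ, ∀ t : F,
      ν (Matrix.diagonal (Pi.mulSingle i t)) = t ^ k := by
    intro i
    obtain ⟨H, hH⟩ := hline (Matrix.diagonal (Pi.mulSingle i 0)) (Matrix.diagonal (Pi.single i 1))
    have hH' : ∀ t, H.eval t = ν (Matrix.diagonal (Pi.mulSingle i t)) := by
      intro t
      rw [hH t]
      congr 1
      ext a b
      by_cases hab : a = b
      · subst hab
        by_cases hai : a = i
        · subst hai; simp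
        · simp [Pi.mulSingle_apply, Pi.single_apply, hai]
      · simp [Matrix.diagonal_apply_ne _ hab]
    have h1 : H.eval 1 = 1 := by rw [hH' 1, Pi.mulSingle_one, hd1, hν1]
    have hne : ∀ t, t ≠ 0 → H.eval t ≠ 0 := by
      intro t ht hc
      have h := hdiagmul (Pi.mulSingle i t) (Pi.mulSingle i t⁻¹)
      rw [← Pi.mulSingle_mul, mul_inv_cancel₀ ht, Pi.mulSingle_one, hd1, hν1,
        ← hH' t, hc, zero_mul] at h
      exact one_ne_zero h
    obtain ⟨k, hk⟩ := Helper9.MultDet.eval_eq_pow_of_forall_eval_ne_zero H hne h1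
    exact ⟨k, fun t => by rw [← hH' t, hk t]⟩
  -- permutation conjugation
  have hperm : ∀ (σ : Equiv.Perm (Fin n)) (M : Matrix (Fin n) (Fin n) F),
      ν (M.submatrix σ σ) = ν M := by
    intro σ M
    have h1 : M.submatrix σ σ = σ.toPEquiv.toMatrix * M * σ.symm.toPEquiv.toMatrix := by
      rw [PEquiv.toMatrix_toPEquiv_mul, PEquiv.mul_toMatrix_toPEquiv]
      rfl
    have h2 : (σ.toPEquiv.toMatrix : Matrix (Fin n) (Fin n) F) * σ.symm.toPEquiv.toMatrix = 1 := by
      rw [← PEquiv.toMatrix_trans, ← Equiv.toPEquiv_trans, Equiv.self_trans_symm,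
        Equiv.toPEquiv_refl, PEquiv.toMatrix_refl]
    rw [h1, hνmul, hνmul, mul_comm (ν _) (ν M), mul_assoc, ← hνmul, h2, hν1, mul_one]
  obtain ⟨m, hm⟩ : ∃ m : ℕ, ∀ (i : Fin n) (t : F),
      ν (Matrix.diagonal (Pi.mulSingle i t)) = t ^ m := by
    rcases isEmpty_or_nonempty (Fin n) with he | ⟨⟨i₀⟩⟩
    · exact ⟨0, fun i => (he.false i).elim⟩
    · obtain ⟨k, hk⟩ := hsingle i₀
      refine ⟨k, fun i t => ?_⟩
      rw [← hk t, ← hperm (Equiv.swap i i₀) (Matrix.diagonal (Pi.mulSingle i₀ t))]
      congr 1
      rw [Matrix.submatrix_diagonal_equiv]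
      congr 1
      ext a
      simp only [Function.comp, Pi.mulSingle_apply, Equiv.swap_apply_def]
      split_ifs <;> simp_all
  refine ⟨m, fun x => ?_⟩
  show ν x = x.det ^ m
  refine Matrix.diagonal_transvection_induction (fun M => ν M = M.det ^ m) x ?_ ?_ ?_
  · intro D _
    rw [Matrix.det_diagonal]
    let h : (Fin n → F) →* F :=
      { toFun := fun d => ν (Matrix.diagonal d)
        map_one' := by rw [hd1]; exact hν1
        map_mul' := hdiagmul }
    calc ν (Matrix.diagonal D) = h D := rfl
      _ = h (∏ i, Pi.mulSingle i (D i)) := by rw [Finset.univ_prod_mulSingle]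
      _ = ∏ i, h (Pi.mulSingle i (D i)) := map_prod _ _ _
      _ = ∏ i, (D i) ^ m := Finset.prod_congr rfl (fun i _ => hm i (D i))
      _ = (∏ i, D i) ^ m := Finset.prod_pow _ _ _
  · intro t
    show ν t.toMatrix = t.toMatrix.det ^ m
    rw [Matrix.TransvectionStruct.det, one_pow]
    exact htv t.i t.j t.hij t.c
  · intro A B hA hB
    show ν (A * B) = (A * B).det ^ m
    rw [hνmul, hA, hB, Matrix.det_mul, mul_pow]

end Groth.Agent.S18544
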