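import Groth.Statements.S18545
import Mathlib
-- import your own Groth.Agent.* helpers here

set_option autoImplicit false
universe u
open AbVar

namespace Groth.Agent.S18545

section aux

variable {K : Type u} [Field K] {V : Type u} [AddCommGroup V] [Module K V] [FiniteDimensional K V]
  (e : LinearMap.BilinForm K V)

theorem simil_orth (hnd : e.Nondegenerate) (s : Module.End K V) (c : K) (hc : c ≠ 0)
    (hs : ∀ x y : V, e (s x) (s y) = c * e x y) (W : Submodule K V) (hW : ∀ w ∈ W, s w ∈ W) :
    ∀ x ∈ e.orthogonal W, s x ∈ e.orthogonal W := by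
  intro x hx
  rw [LinearMap.BilinForm.mem_orthogonal_iff] at hx ⊢
  have hinj : Function.Injective (s.restrict hW) := by
    rw [← LinearMap.ker_eq_bot, LinearMap.ker_eq_bot']
    intro u hu
    have hu' : s (u : V) = 0 := by
      have := congrArg (fun z : W => (z : V)) hu
      simpa using this
    have : (u : V) = 0 := by
      apply hnd.1
      intro v
      have h1 := hs u v
      rw [hu', map_zero, LinearMap.zero_apply] at h1
      rcases mul_eq_zero.1 h1.symm with h | h
      · exact absurd h hc
      · exact h
    exact Subtype.ext this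
  have hsurj : Function.Surjective (s.restrict hW) := LinearMap.injective_iff_surjective.1 hinj
  intro n hn
  obtain ⟨n', hn'⟩ := hsurj ⟨n, hn⟩
  have hn'' : s (n' : V) = n := by
    have := congrArg (fun z : W => (z : V)) hn'
    simpa using this
  rw [← hn'', hs, hx _ n'.2, mul_zero]

end aux

/-- A step in the proof of Tate's isogeny result over finite fields, in linear-algebra form. Let K be a
field and V a K-vector space of finite dimension 2g carrying a nondegenerate alternating bilinear
form e. Let F be a K-subalgebra of End(V) which is isomorphic as a K-algebra to a finite product K ×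
⋯ × K and which is spanned over K by a set S of similitudes of e (for each s in S there is a nonzero
scalar c with e(s x, s y) = c·e(x, y) for all x, y). Let D be a set of endomorphisms of V such that
every F-stable isotropic subspace W of dimension g (a maximal isotropic subspace) is D-stable. Then
every F-stable isotropic subspace of V is D-stable. (In the application V is the rational ℓ-adic
Tate module of an abelian variety over a finite field with the Riemann form of a polarisation, F the
algebra generated by the Galois group, split for the chosen ℓ, and D the commutant of the image of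
the endomorphism algebra; the hypothesis on maximal isotropic subspaces is the step obtained from
the finiteness of isomorphism classes.) -/
theorem result (K : Type u) [Field K]
    (V : Type u) [AddCommGroup V] [Module K V] [FiniteDimensional K V] (g : ℕ) (hV : Module.finrank K V = 2 * g)
    (e : LinearMap.BilinForm K V) (he : e.IsAlt) (hnd : e.Nondegenerate)
    (F : Subalgebra K (Module.End K V)) (r : ℕ) (hF : Nonempty (F ≃ₐ[K] (Fin r → K)))
    (S : Set (Module.End K V)) (hS : Submodule.span K S = Subalgebra.toSubmodule F)
    (hsim : ∀ s ∈ S, ∃ c : K, c ≠ 0 ∧ ∀ x y : V, e (s x) (s y) = c * e x y)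
    (D : Set (Module.End K V))
    (hmax : ∀ W : Submodule K V, (∀ f ∈ F, ∀ w ∈ W, f w ∈ W) → (∀ x ∈ W, ∀ y ∈ W, e x y = 0) →
      Module.finrank K W = g → ∀ d ∈ D, ∀ w ∈ W, d w ∈ W)
    (W : Submodule K V) (hWF : ∀ f ∈ F, ∀ w ∈ W, f w ∈ W) (hWiso : ∀ x ∈ W, ∀ y ∈ W, e x y = 0) :
    ∀ d ∈ D, ∀ w ∈ W, d w ∈ W := by
  classical
  obtain ⟨φ⟩ := hF
  have hrefl : e.IsRefl := he.isRefl
  have hanti : ∀ x y, e x y = - e y x := by
    intro x y
    have h := he (x + y)
    simp only [map_add, LinearMap.add_apply, he x, he y, zero_add, add_zero] at h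
    linear_combination h
  -- F-stability of the orthogonal
  have horth : ∀ W : Submodule K V, (∀ f ∈ F, ∀ w ∈ W, f w ∈ W) →
      ∀ f ∈ F, ∀ x ∈ e.orthogonal W, f x ∈ e.orthogonal W := by
    intro W hW f hf
    have hf' : f ∈ Submodule.span K S := by rw [hS]; exact hf
    induction hf' using Submodule.span_induction with
    | mem s hs =>
      obtain ⟨c, hc, hsc⟩ := hsim s hs
      have hsF : s ∈ F := by
        have : s ∈ Submodule.span K S := Submodule.subset_span hs
        rw [hS] at this; exact this
      exact simil_orth e hnd s c hc hsc W (hW s hsF)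
    | zero => intro x _; simp
    | add f₁ f₂ h1 h2 ih1 ih2 =>
      intro x hx
      have hf1 : f₁ ∈ F := by rw [hS] at h1; exact h1
      have hf2 : f₂ ∈ F := by rw [hS] at h2; exact h2
      rw [LinearMap.add_apply]
      exact add_mem (ih1 hf1 x hx) (ih2 hf2 x hx)
    | smul a f₁ h1 ih1 =>
      intro x hx
      have hf1 : f₁ ∈ F := by rw [hS] at h1; exact h1
      rw [LinearMap.smul_apply]
      exact Submodule.smul_mem _ _ (ih1 hf1 x hx)
  -- idempotents
  let idem : Fin r → F := fun j => φ.symm (Pi.single j 1)
  have hsum : ∑ j, ((idem j : F) : Module.End K V) = 1 := by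
    have h1 : ∑ j, idem j = 1 := by
      apply φ.injective
      rw [map_sum, map_one]
      simp only [idem, AlgEquiv.apply_symm_apply]
      exact Finset.univ_sum_single (1 : Fin r → K)
    have := congrArg (fun z : F => (z : Module.End K V)) h1
    simpa using this
  have hmul : ∀ (f : F) (j : Fin r), f * idem j = (φ f j) • idem j := by
    intro f j
    apply φ.injective
    rw [map_mul, map_smul]
    simp only [idem, AlgEquiv.apply_symm_apply]
    funext k
    by_cases hk : k = j
    · subst hk; simp
    · simp [Pi.single_eq_of_ne hk]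
  have heig : ∀ (f : F) (j : Fin r) (v : V),
      (f : Module.End K V) (((idem j : F) : Module.End K V) v) =
        (φ f j) • (((idem j : F) : Module.End K V) v) := by
    intro f j v
    have := congrArg (fun z : F => (z : Module.End K V) v) (hmul f j)
    simpa using this
  -- existence of eigenvectors outside a subspace
  have hexists : ∀ (U W' : Submodule K V), (∀ f ∈ F, ∀ u ∈ U, f u ∈ U) → ¬ U ≤ W' →
      ∃ x ∈ U, x ∉ W' ∧ ∃ χ : F → K, ∀ f : F, (f : Module.End K V) x = χ f • x := by
    intro U W' hU hUW
    by_contra hcon
    push Not at hcon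
    apply hUW
    intro u hu
    have hu' : u = ∑ j, ((idem j : F) : Module.End K V) u := by
      have := congrArg (fun z : Module.End K V => z u) hsum
      simp only [LinearMap.sum_apply] at this
      rw [this]; rfl
    rw [hu']
    refine Submodule.sum_mem _ (fun j _ => ?_)
    by_contra hj
    have hjU : ((idem j : F) : Module.End K V) u ∈ U := hU _ (idem j).2 u hu
    obtain ⟨f, hf⟩ := hcon _ hjU hj (fun f => φ f j)
    exact hf (heig f j u)
  -- stability and isotropy of W + K x
  have hext : ∀ (W : Submodule K V) (x : V), (∀ f ∈ F, ∀ w ∈ W, f w ∈ W) →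
      (∀ a ∈ W, ∀ b ∈ W, e a b = 0) → x ∈ e.orthogonal W →
      (∃ χ : F → K, ∀ f : F, (f : Module.End K V) x = χ f • x) →
      (∀ f ∈ F, ∀ w ∈ W ⊔ Submodule.span K {x}, f w ∈ W ⊔ Submodule.span K {x}) ∧
      (∀ a ∈ W ⊔ Submodule.span K {x}, ∀ b ∈ W ⊔ Submodule.span K {x}, e a b = 0) := by
    intro W x hW hiso hx ⟨χ, hχ⟩
    rw [LinearMap.BilinForm.mem_orthogonal_iff] at hx
    constructor
    · intro f hf w hw
      obtain ⟨w₁, hw₁, z, hz, rfl⟩ := Submodule.mem_sup.1 hw
      obtain ⟨a, rfl⟩ := Submodule.mem_span_singleton.1 hz
      rw [map_add, map_smul]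
      have := hχ ⟨f, hf⟩
      simp only at this
      rw [this]
      exact Submodule.add_mem_sup (hW f hf w₁ hw₁)
        (Submodule.smul_mem _ _ (Submodule.smul_mem _ _ (Submodule.mem_span_singleton_self x)))
    · intro a ha b hb
      obtain ⟨w₁, hw₁, z, hz, rfl⟩ := Submodule.mem_sup.1 ha
      obtain ⟨a₁, rfl⟩ := Submodule.mem_span_singleton.1 hz
      obtain ⟨w₂, hw₂, z₂, hz₂, rfl⟩ := Submodule.mem_sup.1 hb
      obtain ⟨a₂, rfl⟩ := Submodule.mem_span_singleton.1 hz₂
      simp only [map_add, map_smul, LinearMap.add_apply, LinearMap.smul_apply, smul_eq_mul]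
      rw [hiso w₁ hw₁ w₂ hw₂, hx w₁ hw₁, hanti x w₂, hx w₂ hw₂, he x]
      simp
  -- main induction
  have main : ∀ (n : ℕ) (W : Submodule K V), 2 * g - Module.finrank K W = n →
      (∀ f ∈ F, ∀ w ∈ W, f w ∈ W) → (∀ x ∈ W, ∀ y ∈ W, e x y = 0) →
      ∀ d ∈ D, ∀ w ∈ W, d w ∈ W := by
    intro n
    induction n using Nat.strong_induction_on with
    | _ n ih =>
      intro W hn hWF hWiso d hd w hw
      have hfU : Module.finrank K (e.orthogonal W) = 2 * g - Module.finrank K W := by
        rw [LinearMap.BilinForm.finrank_orthogonal hnd, hV]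
      have hWle : W ≤ e.orthogonal W := by
        intro a ha
        rw [LinearMap.BilinForm.mem_orthogonal_iff]
        intro b hb
        exact hWiso b hb a ha
      have hfW2 : Module.finrank K W ≤ 2 * g := by
        rw [← hV]; exact Submodule.finrank_le W
      have hfWg : Module.finrank K W ≤ g := by
        have := Submodule.finrank_mono hWle
        rw [hfU] at this
        omega
      rcases Nat.lt_or_ge (Module.finrank K W) g with hlt | hge
      swap
      · exact hmax W hWF hWiso (le_antisymm hfWg hge) d hd w hw
      set U := e.orthogonal W with hU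
      have hUF : ∀ f ∈ F, ∀ u ∈ U, f u ∈ U := horth W hWF
      have hUW : ¬ U ≤ W := by
        intro h
        have := Submodule.finrank_mono h
        rw [hfU] at this
        omega
      obtain ⟨x, hxU, hxW, hχx⟩ := hexists U W hUF hUW
      have hfW1 : Module.finrank K ↥(W ⊔ Submodule.span K {x}) ≤ Module.finrank K W + 1 := by
        calc Module.finrank K ↥(W ⊔ Submodule.span K {x})
            ≤ Module.finrank K W + Module.finrank K (Submodule.span K {x}) :=
              Submodule.finrank_add_le_finrank_add_finrank _ _
          _ ≤ Module.finrank K W + 1 := by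
              have : Module.finrank K (Submodule.span K {x}) ≤ 1 := by
                have := finrank_span_le_card (R := K) ({x} : Set V)
                simpa using this
              omega
      have hUW1 : ¬ U ≤ W ⊔ Submodule.span K {x} := by
        intro h
        have := Submodule.finrank_mono h
        rw [hfU] at this
        omega
      obtain ⟨y, hyU, hyW, hχy⟩ := hexists U _ hUF hUW1
      obtain ⟨hF1, hI1⟩ := hext W x hWF hWiso hxU hχx
      obtain ⟨hF2, hI2⟩ := hext W y hWF hWiso hyU hχy
      have hlt1 : W < W ⊔ Submodule.span K {x} := by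
        refine lt_of_le_of_ne le_sup_left (fun h => hxW ?_)
        rw [h]
        exact Submodule.mem_sup_right (Submodule.mem_span_singleton_self x)
      have hlt2 : W < W ⊔ Submodule.span K {y} := by
        refine lt_of_le_of_ne le_sup_left (fun h => hyW ?_)
        have : y ∈ W := by
          rw [h]; exact Submodule.mem_sup_right (Submodule.mem_span_singleton_self y)
        exact Submodule.mem_sup_left this
      have hf1 := Submodule.finrank_lt_finrank_of_lt hlt1
      have hf2 := Submodule.finrank_lt_finrank_of_lt hlt2
      have hb1 : Module.finrank K ↥(W ⊔ Submodule.span K {x}) ≤ 2 * g := by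
        rw [← hV]; exact Submodule.finrank_le _
      have hb2 : Module.finrank K ↥(W ⊔ Submodule.span K {y}) ≤ 2 * g := by
        rw [← hV]; exact Submodule.finrank_le _
      have hd1 := ih _ (by omega) (W ⊔ Submodule.span K {x}) rfl hF1 hI1 d hd w
        (Submodule.mem_sup_left hw)
      have hd2 := ih _ (by omega) (W ⊔ Submodule.span K {y}) rfl hF2 hI2 d hd w
        (Submodule.mem_sup_left hw)
      obtain ⟨w₂, hw₂, z, hz, hzeq⟩ := Submodule.mem_sup.1 hd2
      obtain ⟨b, rfl⟩ := Submodule.mem_span_singleton.1 hz
      by_cases hb : b = 0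
      · rw [hb, zero_smul, add_zero] at hzeq
        rw [← hzeq]; exact hw₂
      · exfalso
        apply hyW
        have : y = b⁻¹ • (d w - w₂) := by
          rw [← hzeq, add_sub_cancel_left, smul_smul, inv_mul_cancel₀ hb, one_smul]
        rw [this]
        exact Submodule.smul_mem _ _ (Submodule.sub_mem _ hd1 (Submodule.mem_sup_left hw₂))
  exact main _ W rfl hWF hWiso

end Groth.Agent.S18545
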