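import Groth.Statements.S18549
import Mathlib
import Groth.Agent.Helper9.InvolBasis
import Groth.Agent.S18548
-- import your own Groth.Agent.* helpers here

set_option autoImplicit false
open scoped TensorProduct
universe u v
open GalCoh

namespace Groth.Agent.S18549

/-- Over the real numbers, that is for the group G = Gal(ℂ/ℝ) of order 2 acting linearly on a
finite-dimensional vector space V over the field 𝔽₂ with two elements, the short exact sequence of
G-modules 0 → V → S²V → Λ²V → 0 (v ↦ v·v, x·y ↦ x ∧ y) splits G-equivariantly. Here, for a vector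
space V over the field with two elements carrying a linear action ρ of a group G, write N_a ⊆ V ⊗ V
for the span of the tensors v ⊗ v and N_s ⊆ N_a for the span of the tensors x ⊗ y + y ⊗ x, so that
S²V = (V ⊗ V)/N_s, Λ²V = (V ⊗ V)/N_a and the surjection S²V → Λ²V, x·y ↦ x ∧ y, is G-equivariant for
the diagonal action; a G-equivariant linear section of this surjection is the same thing as a
G-stable subspace W of V ⊗ V with W ∩ N_a = N_s and W + N_a = V ⊗ V, which is how the splitting is
stated. (G is any group of order 2 here; V is taken finite-dimensional, the case covered by the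
structure theory of finitely generated modules over 𝔽₂[G] that the argument uses.) -/
theorem result (G : Type u) [Group G] (hG : Nat.card G = 2)
    (V : Type v) [AddCommGroup V] [Module (ZMod 2) V] [Module.Finite (ZMod 2) V]
    (ρ : Representation (ZMod 2) G V) :
    ∃ W : Submodule (ZMod 2) (V ⊗[ZMod 2] V),
      (∀ g : G, ∀ w ∈ W, ρ.tprod ρ g w ∈ W) ∧
      W ⊓ Submodule.span (ZMod 2) (Set.range fun v : V => v ⊗ₜ[ZMod 2] v) =
        Submodule.span (ZMod 2) (Set.range fun p : V × V => p.1 ⊗ₜ[ZMod 2] p.2 + p.2 ⊗ₜ[ZMod 2] p.1) ∧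
      W ⊔ Submodule.span (ZMod 2) (Set.range fun v : V => v ⊗ₜ[ZMod 2] v) = ⊤ := by
  classical
  haveI : Finite G := Nat.finite_of_card_ne_zero (by rw [hG]; norm_num)
  have hsq : ∀ g : G, g * g = 1 := by
    intro g
    have := pow_card_eq_one' (G := G) (x := g)
    rw [hG, pow_two] at this
    exact this
  obtain ⟨x, y, hxy, huniv⟩ := Nat.card_eq_two_iff.mp hG
  -- pick a non-identity element
  obtain ⟨s, hs⟩ : ∃ s : G, ∀ g : G, g = 1 ∨ g = s := by
    have h1 : (1 : G) ∈ ({x, y} : Set G) := by rw [huniv]; trivial
    rcases h1 with h1 | h1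
    · refine ⟨y, fun g => ?_⟩
      have hg : g ∈ ({x, y} : Set G) := by rw [huniv]; trivial
      rcases hg with hg | hg
      · left; rw [hg, ← h1]
      · right; exact hg
    · refine ⟨x, fun g => ?_⟩
      have hg : g ∈ ({x, y} : Set G) := by rw [huniv]; trivial
      have h1' : (1 : G) = y := h1
      rcases hg with hg | hg
      · right; exact hg
      · left; rw [hg, ← h1']
  have hσ : ρ s ∘ₗ ρ s = LinearMap.id := by
    rw [← Module.End.mul_eq_comp, ← map_mul, hsq s, map_one]
    rfl
  obtain ⟨ι, b, hb⟩ := Groth.Agent.Helper9.InvolBasis.exists_basis_perm (ρ s) hσ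
  refine Groth.Agent.S18548.result G V ρ ι b ?_
  intro g i
  rcases hs g with rfl | rfl
  · exact ⟨i, by rw [map_one, Module.End.one_apply]⟩
  · exact hb i

end Groth.Agent.S18549
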