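import Groth.Statements.S18550
import Mathlib
import Groth.Agent.Helper9.DerNilp
-- import your own Groth.Agent.* helpers here

set_option autoImplicit false
open CategoryTheory Limits
universe w v u
open CohDer

namespace Groth.Agent.S18550

/-- Let A be an abelian category, X an object of its derived category whose cohomology objects H^i(X)
are zero for all integers i outside the interval [a, a + n], and f : X → X an endomorphism in the
derived category such that H^i(f) = 0 for every i. Then f^(n+1) = 0. (The source works in the
bounded derived category; the statement in D(A) for an object with cohomology bounded in this way is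
the same assertion, the bounded derived category being a full subcategory.) -/
theorem result (A : Type u) [Category.{v} A] [Abelian A]
    [HasDerivedCategory.{w} A] (X : DerivedCategory A) (a : ℤ) (n : ℕ)
    (hX : ∀ i : ℤ, i < a ∨ a + n < i → IsZero ((DerivedCategory.homologyFunctor A i).obj X))
    (f : CategoryTheory.End X) (hf : ∀ i : ℤ, (DerivedCategory.homologyFunctor A i).map f = 0) :
    f ^ (n + 1) = 0 := by
  haveI : X.IsGE a := by
    rw [DerivedCategory.isGE_iff]
    intro i hi
    exact hX i (Or.inl hi)
  haveI : X.IsLE (a + n) := by
    rw [DerivedCategory.isLE_iff]
    intro i hi
    exact hX i (Or.inr hi)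
  exact Groth.Agent.Helper9.DerNilp.main n a X f hf

end Groth.Agent.S18550
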