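import Groth.Statements.S18560
import Mathlib
-- import your own Groth.Agent.* helpers here

set_option autoImplicit false
universe u v
open PtQuiv

namespace Groth.Agent.S18560

/-- Let K be a field and s i ∈ K² (i in a finite index type) nonzero vectors, regarded as a
representation of the quiver with a central vertex carrying the plane and one vertex per i carrying
a line that maps to the plane by 1 ↦ s i. For a weight θ in the hypersimplex (0 ≤ θ i ≤ 1, Σ θ i =
2, central weight -1) the representation is θ-semistable if and only if, for every vector v, the
indices i with s i on the line K ∙ v have total weight at most 1. (The published statement is over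
an algebraically closed field, assumes semistability for some interior weight instead of s i ≠ 0,
and phrases the bound through the classes of pairwise proportional s i; any field is allowed here.
Its further assertion that the bounding walls, where the total weight of one proportionality class
equals 1, do not meet in the interior of the hypersimplex is not part of this row.) -/
theorem result (K : Type u) [Field K] (ι : Type v) [Fintype ι]
    (s : ι → (Fin 2 → K)) (hs : ∀ i, s i ≠ 0) (θ : ι → ℚ) (h0 : ∀ i, 0 ≤ θ i)
    (h1 : ∀ i, θ i ≤ 1) (h2 : ∑ i, θ i = 2) :
    PtQuiv.QSemistable (-1) θ s ↔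
      ∀ (J : Finset ι) (v : Fin 2 → K), (∀ i ∈ J, s i ∈ K ∙ v) → ∑ i ∈ J, θ i ≤ 1 := by
  classical
  constructor
  · intro hss J v hJ
    by_cases hv : v = 0
    · subst hv
      have hJe : J = ∅ := by
        rw [Finset.eq_empty_iff_forall_notMem]
        intro i hi
        have h3 := hJ i hi
        rw [Submodule.span_zero_singleton, Submodule.mem_bot] at h3
        exact hs i h3
      rw [hJe, Finset.sum_empty]
      exact zero_le_one
    · have h3 := hss.2 (K ∙ v) J hJ
      unfold PtQuiv.QWt at h3
      rw [finrank_span_singleton hv] at h3
      push_cast at h3
      linarith
  · intro h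
    refine ⟨by rw [h2]; norm_num, ?_⟩
    intro L I hLI
    unfold PtQuiv.QWt
    have hle : Module.finrank K L ≤ 2 := by
      have := Submodule.finrank_le L
      rwa [Module.finrank_fin_fun] at this
    have hsum : ∑ i ∈ I, θ i ≤ 2 := by
      rw [← h2]
      exact Finset.sum_le_univ_sum_of_nonneg h0
    interval_cases hL : Module.finrank K L
    · -- L = ⊥
      have hbot : L = ⊥ := Submodule.finrank_eq_zero.mp hL
      have hIe : I = ∅ := by
        rw [Finset.eq_empty_iff_forall_notMem]
        intro i hi
        have h3 := hLI i hi
        rw [hbot, Submodule.mem_bot] at h3
        exact hs i h3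
      rw [hIe, Finset.sum_empty]
      norm_num
    · obtain ⟨v, hv0, hv⟩ := finrank_eq_one_iff'.mp hL
      have h3 := h I (v : Fin 2 → K) (by
        intro i hi
        obtain ⟨c, hc⟩ := hv ⟨s i, hLI i hi⟩
        rw [Submodule.mem_span_singleton]
        exact ⟨c, by have := congrArg Subtype.val hc; simpa using this⟩)
      push_cast
      linarith
    · push_cast
      linarith

end Groth.Agent.S18560
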