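import Groth.Statements.S18561
import Mathlib
-- import your own Groth.Agent.* helpers here

set_option autoImplicit false
universe u v
open PtQuiv

namespace Groth.Agent.S18561

theorem line_mem {K : Type u} [Field K] (L : Submodule K (Fin 2 → K))
    (hL : Module.finrank K L = 1)
    (x y : Fin 2 → K) (hx : x ∈ L) (hy : y ∈ L) (hy0 : y ≠ 0) : x ∈ K ∙ y := by
  obtain ⟨v, hv0, hv⟩ := finrank_eq_one_iff'.mp hL
  obtain ⟨c1, hc1⟩ := hv ⟨x, hx⟩
  obtain ⟨c2, hc2⟩ := hv ⟨y, hy⟩
  have h1 : c1 • (v : Fin 2 → K) = x := by simpa using congrArg Subtype.val hc1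
  have h2 : c2 • (v : Fin 2 → K) = y := by simpa using congrArg Subtype.val hc2
  have hc20 : c2 ≠ 0 := by
    rintro rfl
    rw [zero_smul] at h2
    exact hy0 h2.symm
  rw [Submodule.mem_span_singleton]
  refine ⟨c1 / c2, ?_⟩
  rw [← h2, ← h1, smul_smul, div_mul_cancel₀ _ hc20]

theorem span_symm {K : Type u} [Field K] (x y : Fin 2 → K) (hx0 : x ≠ 0)
    (h : x ∈ K ∙ y) : y ∈ K ∙ x := by
  rw [Submodule.mem_span_singleton] at h ⊢
  obtain ⟨c, hc⟩ := h
  have hc0 : c ≠ 0 := by
    rintro rfl
    rw [zero_smul] at hc
    exact hx0 hc.symm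
  exact ⟨c⁻¹, by rw [← hc, smul_smul, inv_mul_cancel₀ hc0, one_smul]⟩


/-- Let K be a field and s i ∈ K² (i in a finite index type) nonzero vectors, regarded as a
representation of the quiver with a central vertex carrying the plane and one vertex per i carrying
a line mapping to the plane by 1 ↦ s i. Then the representation is stable for some weight of the
hypersimplex (0 ≤ θ i ≤ 1, Σ θ i = 2, central weight -1) if and only if the s i fall into at least
three proportionality classes, i.e. three of them are pairwise non-proportional. (The published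
statement is over an algebraically closed field and assumes semistability for some interior weight
instead of s i ≠ 0; any field is allowed here. Its further assertions, that the set of semistability
weights is full-dimensional exactly in this case and is a wall otherwise, are not part of this row.) -/
theorem result (K : Type u) [Field K] (ι : Type v)
    [Fintype ι] (s : ι → (Fin 2 → K)) (hs : ∀ i, s i ≠ 0) :
    (∃ θ : ι → ℚ, (∀ i, 0 ≤ θ i) ∧ (∀ i, θ i ≤ 1) ∧ ∑ i, θ i = 2 ∧ PtQuiv.QStable (-1) θ s) ↔
      ∃ i j k : ι, s i ∉ K ∙ s j ∧ s j ∉ K ∙ s k ∧ s i ∉ K ∙ s k := by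
  classical
  constructor
  · rintro ⟨θ, h0, h1, h2, hst⟩
    by_contra hno
    push Not at hno
    have hne : Nonempty ι := by
      by_contra hemp
      rw [not_nonempty_iff] at hemp
      rw [Finset.univ_eq_empty, Finset.sum_empty] at h2
      norm_num at h2
    obtain ⟨i0⟩ := hne
    have hfin : Module.finrank K (K ∙ s i0) = 1 := finrank_span_singleton (hs i0)
    have hsum := Finset.sum_filter_add_sum_filter_not Finset.univ (fun m => s m ∈ K ∙ s i0) θ
    have hsubA : PtQuiv.QSubrep s (K ∙ s i0) (Finset.univ.filter (fun m => s m ∈ K ∙ s i0)) := by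
      intro m hm
      exact (Finset.mem_filter.mp hm).2
    have hA := hst.1.2 (K ∙ s i0) (Finset.univ.filter (fun m => s m ∈ K ∙ s i0)) hsubA
    unfold PtQuiv.QWt at hA
    rw [hfin] at hA
    by_cases hj : ∃ j0, s j0 ∉ K ∙ s i0
    · obtain ⟨j0, hj0⟩ := hj
      have hB := hst.1.2 (K ∙ s j0) (Finset.univ.filter (fun m => ¬ s m ∈ K ∙ s i0)) (by
        intro m hm
        have hm' := (Finset.mem_filter.mp hm).2
        by_contra hmj
        have h3 : s i0 ∉ K ∙ s m := fun h => hm' (span_symm _ _ (hs i0) h)
        have h4 := hno j0 i0 m hj0 h3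
        exact hmj (span_symm _ _ (hs j0) h4))
      unfold PtQuiv.QWt at hB
      rw [finrank_span_singleton (hs j0)] at hB
      have hC : ∑ m ∈ Finset.univ.filter (fun m => s m ∈ K ∙ s i0), θ m = 1 := by
        push_cast at hA hB
        linarith
      have hD := hst.2 (K ∙ s i0) _ hsubA (by
        unfold PtQuiv.QWt
        rw [hfin, hC]
        norm_num)
      rcases hD with ⟨hbot, _⟩ | ⟨htop, _⟩
      · rw [hbot] at hfin
        simp at hfin
      · rw [htop] at hfin
        simp at hfin
    · push Not at hj
      rw [Finset.filter_true_of_mem (fun m _ => hj m), h2] at hA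
      norm_num at hA
  · rintro ⟨i, j, k, hij, hjk, hik⟩
    have hij' : i ≠ j := by
      rintro rfl
      exact hij (Submodule.mem_span_singleton_self _)
    have hjk' : j ≠ k := by
      rintro rfl
      exact hjk (Submodule.mem_span_singleton_self _)
    have hik' : i ≠ k := by
      rintro rfl
      exact hik (Submodule.mem_span_singleton_self _)
    obtain ⟨n, hn⟩ : ∃ n : ℚ, n = (Fintype.card ι : ℚ) := ⟨_, rfl⟩
    have hn1 : (1:ℚ) ≤ n := by
      have : 0 < Fintype.card ι := Fintype.card_pos_iff.mpr ⟨i⟩
      rw [hn]
      exact_mod_cast this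
    obtain ⟨θ, hθ⟩ : ∃ θ : ι → ℚ, θ = fun m => 1/(2*n) + (if m = i then 1/2 else 0)
        + (if m = j then 1/2 else 0) + (if m = k then 1/2 else 0) := ⟨_, rfl⟩
    have hb : 0 < 1/(2*n) := by positivity
    have hb2 : 1/(2*n) ≤ 1/2 := by
      rw [div_le_div_iff₀ (by positivity) (by norm_num)]
      linarith
    have hθpos : ∀ m, 0 < θ m := by
      intro m
      rw [hθ]
      beta_reduce
      split_ifs <;> linarith
    have hθi : θ i = 1/(2*n) + 1/2 := by
      rw [hθ]
      simp [hij', hik']
    have hθj : θ j = 1/(2*n) + 1/2 := by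
      rw [hθ]
      simp [hij'.symm, hjk']
    have hθk : θ k = 1/(2*n) + 1/2 := by
      rw [hθ]
      simp [hik'.symm, hjk'.symm]
    have hθ1 : ∀ m, θ m ≤ 1 := by
      intro m
      by_cases h1 : m = i
      · subst h1
        rw [hθi]
        linarith
      by_cases h2 : m = j
      · subst h2
        rw [hθj]
        linarith
      by_cases h3 : m = k
      · subst h3
        rw [hθk]
        linarith
      rw [hθ]
      simp only [h1, h2, h3, if_false]
      linarith
    have hsum : ∑ m, θ m = 2 := by
      rw [hθ]
      simp only [Finset.sum_add_distrib, Finset.sum_ite_eq', Finset.mem_univ, if_true,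
        Finset.sum_const, Finset.card_univ, nsmul_eq_mul]
      rw [← hn]
      have : n ≠ 0 := by linarith
      field_simp
      ring
    have hpair : ∀ (I : Finset ι) (p q : ι), p ≠ q → p ∉ I → q ∉ I →
        ∑ m ∈ I, θ m + θ p + θ q ≤ 2 := by
      intro I p q hpq hp hq
      have h1 : ∑ m ∈ insert p (insert q I), θ m = θ p + (θ q + ∑ m ∈ I, θ m) := by
        rw [Finset.sum_insert (by simp [hpq, hp]), Finset.sum_insert hq]
      have h2 : ∑ m ∈ insert p (insert q I), θ m ≤ ∑ m, θ m :=
        Finset.sum_le_univ_sum_of_nonneg (fun m => (hθpos m).le)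
      linarith
    have hline : ∀ (L : Submodule K (Fin 2 → K)) (I : Finset ι), Module.finrank K L = 1 →
        PtQuiv.QSubrep s L I → ∑ m ∈ I, θ m < 1 := by
      intro L I hL hsub
      have hnij : ¬ (i ∈ I ∧ j ∈ I) := fun ⟨h1, h2⟩ =>
        hij (line_mem L hL _ _ (hsub i h1) (hsub j h2) (hs j))
      have hnjk : ¬ (j ∈ I ∧ k ∈ I) := fun ⟨h1, h2⟩ =>
        hjk (line_mem L hL _ _ (hsub j h1) (hsub k h2) (hs k))
      have hnik : ¬ (i ∈ I ∧ k ∈ I) := fun ⟨h1, h2⟩ =>
        hik (line_mem L hL _ _ (hsub i h1) (hsub k h2) (hs k))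
      by_cases hi : i ∈ I
      · have hj : j ∉ I := fun h => hnij ⟨hi, h⟩
        have hk : k ∉ I := fun h => hnik ⟨hi, h⟩
        have := hpair I j k hjk' hj hk
        rw [hθj, hθk] at this
        linarith
      · by_cases hj : j ∈ I
        · have hk : k ∉ I := fun h => hnjk ⟨hj, h⟩
          have := hpair I i k hik' hi hk
          rw [hθi, hθk] at this
          linarith
        · have := hpair I i j hij' hi hj
          rw [hθi, hθj] at this
          linarith
    have hzero : ∀ (L : Submodule K (Fin 2 → K)) (I : Finset ι), Module.finrank K L = 0 →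
        PtQuiv.QSubrep s L I → L = ⊥ ∧ I = ∅ := by
      intro L I hL hsub
      have hbot : L = ⊥ := Submodule.finrank_eq_zero.mp hL
      refine ⟨hbot, ?_⟩
      rw [Finset.eq_empty_iff_forall_notMem]
      intro m hm
      have h3 := hsub m hm
      rw [hbot, Submodule.mem_bot] at h3
      exact hs m h3
    have hle : ∀ (L : Submodule K (Fin 2 → K)), Module.finrank K L ≤ 2 := by
      intro L
      have := Submodule.finrank_le L
      rwa [Module.finrank_fin_fun] at this
    have hsumI : ∀ I : Finset ι, ∑ m ∈ I, θ m ≤ 2 := by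
      intro I
      rw [← hsum]
      exact Finset.sum_le_univ_sum_of_nonneg (fun m => (hθpos m).le)
    refine ⟨θ, fun m => (hθpos m).le, hθ1, hsum, ⟨⟨by rw [hsum]; norm_num, ?_⟩, ?_⟩⟩
    · intro L I hsub
      unfold PtQuiv.QWt
      have hle' := hle L
      have hsI := hsumI I
      interval_cases hL : Module.finrank K L
      · obtain ⟨_, hIe⟩ := hzero L I hL hsub
        rw [hIe, Finset.sum_empty]
        norm_num
      · have := hline L I hL hsub
        push_cast
        linarith
      · push_cast
        linarith
    · intro L I hsub hw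
      unfold PtQuiv.QWt at hw
      have hle' := hle L
      interval_cases hL : Module.finrank K L
      · left
        exact hzero L I hL hsub
      · exfalso
        have := hline L I hL hsub
        push_cast at hw
        linarith
      · right
        refine ⟨?_, ?_⟩
        · apply Submodule.eq_top_of_finrank_eq
          rw [hL, Module.finrank_fin_fun]
        · rw [Finset.eq_univ_iff_forall]
          intro m
          by_contra hm
          have h1 : ∑ x ∈ insert m I, θ x = θ m + ∑ x ∈ I, θ x := Finset.sum_insert hm
          have h2 := hsumI (insert m I)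
          have h3 := hθpos m
          push_cast at hw
          linarith

end Groth.Agent.S18561
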