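import Groth.Statements.S18563
import Mathlib
import Groth.Agent.Helper9.PtQ
-- import your own Groth.Agent.* helpers here

set_option autoImplicit false
universe u v
open PtQuiv

namespace Groth.Agent.S18563

/-- Let K be a field, κ a finite index type with a ≠ b, and s i ∈ K² a representation of the quiver with
a central vertex carrying the plane and one vertex per i : κ carrying a line mapping to the plane by
1 ↦ s i. Let θ be a weight of the hypersimplex (0 ≤ θ i ≤ 1, Σ θ i = 2, central weight -1) with 1 <
θ a + θ b < 2, and put c = 1 / (2 - θ a - θ b). Then s is θ-stable if and only if s a, s b are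
linearly independent and, writing every other s i = t i 0 • s a + t i 1 • s b, the representation t
of the quiver with two one-dimensional sinks p₀, p₁ and one one-dimensional source per i ≠ a, b
(arrow to p_j given by t i j) is stable for the weight c (θ a - 1) at p₀, c (θ b - 1) at p₁ and c θ
i at the sources. (The published statement is about representations over a base scheme, with
(semi)stability tested on geometric fibres, that is over algebraically closed fields; this row
states the fibrewise content over an arbitrary field.) -/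
theorem result (K : Type u) [Field K]
    (κ : Type v) [Fintype κ] [DecidableEq κ] (a b : κ) (hab : a ≠ b) (s : κ → (Fin 2 → K))
    (θ : κ → ℚ) (h0 : ∀ i, 0 ≤ θ i) (h1 : ∀ i, θ i ≤ 1) (h2 : ∑ i, θ i = 2)
    (hθ : 1 < θ a + θ b) (hθ' : θ a + θ b < 2) :
    PtQuiv.QStable (-1) θ s ↔
      (LinearIndependent K ![s a, s b] ∧
        ∀ t : {i : κ // i ≠ a ∧ i ≠ b} → (Fin 2 → K),
          (∀ i, s i.1 = t i 0 • s a + t i 1 • s b) →
            PtQuiv.PStable ![(2 - θ a - θ b)⁻¹ * (θ a - 1), (2 - θ a - θ b)⁻¹ * (θ b - 1)]
              (fun i : {i : κ // i ≠ a ∧ i ≠ b} => (2 - θ a - θ b)⁻¹ * θ i.1) t) := by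
  have hc : 0 < (2 - θ a - θ b)⁻¹ := inv_pos.mpr (by linarith)
  have hθa : 0 < θ a := by
    have := h1 b
    linarith
  have hθb : 0 < θ b := by
    have := h1 a
    linarith
  constructor
  · intro hst
    have hss := hst.1
    have hLI := Groth.Agent.Helper9.PtQ.not_li_contra a b hab s θ hθ hss
    refine ⟨hLI, fun t ht => ⟨⟨Groth.Agent.Helper9.PtQ.sum_zero a b hab θ h2 _, ?_⟩, ?_⟩⟩
    · intro U I hsub
      obtain ⟨L, I', hsub', hw, _, _⟩ :=
        Groth.Agent.Helper9.PtQ.p_to_q a b hab s θ (2 - θ a - θ b)⁻¹ hLI t ht U I hsub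
      rw [hw]
      have := hss.2 L I' hsub'
      exact mul_nonpos_of_nonneg_of_nonpos hc.le this
    · intro U I hsub hzero
      obtain ⟨L, I', hsub', hw, hbot, htop⟩ :=
        Groth.Agent.Helper9.PtQ.p_to_q a b hab s θ (2 - θ a - θ b)⁻¹ hLI t ht U I hsub
      rw [hw] at hzero
      have hQ : PtQuiv.QWt K (-1) θ L I' = 0 := by
        rcases mul_eq_zero.mp hzero with h | h
        · exact absurd h hc.ne'
        · exact h
      rcases hst.2 L I' hsub' hQ with h | h
      · exact Or.inl (hbot h)
      · exact Or.inr (htop h)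
  · rintro ⟨hLI, hP⟩
    obtain ⟨t, ht⟩ := Groth.Agent.Helper9.PtQ.exists_t a b s hLI
    have hPS := hP t ht
    refine ⟨⟨by rw [h2]; norm_num, fun L I hsub => ?_⟩, fun L I hsub hzero => ?_⟩
    · rcases Groth.Agent.Helper9.PtQ.q_to_p a b hab s θ h0 h2 hθa hθb hθ (2 - θ a - θ b)⁻¹ hLI t ht
        L I hsub with hneg | ⟨U, I₀, hsub', hw, _, _⟩
      · exact hneg.le
      · have := hPS.1.2 U I₀ hsub'
        rw [hw] at this
        by_contra hpos
        push Not at hpos
        have := mul_pos hc hpos
        linarith
    · rcases Groth.Agent.Helper9.PtQ.q_to_p a b hab s θ h0 h2 hθa hθb hθ (2 - θ a - θ b)⁻¹ hLI t ht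
        L I hsub with hneg | ⟨U, I₀, hsub', hw, hbot, htop⟩
      · rw [hzero] at hneg
        exact absurd hneg (lt_irrefl _)
      · rw [hzero, mul_zero] at hw
        rcases hPS.2 U I₀ hsub' hw with h | h
        · exact Or.inl (hbot h)
        · exact Or.inr (htop h)

end Groth.Agent.S18563
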