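import Groth.Statements.S18579
import Mathlib
import Groth.Agent.Helper9.PrimeUnits
-- import your own Groth.Agent.* helpers here

set_option autoImplicit false
universe u
open LogDiff

namespace Groth.Agent.S18579

/-- The exact sequence for units (first Milnor K-groups) when every component of the divisor is removed.
Let k be a field, B a smooth k-algebra, R the localization of B at a prime ideal, K the fraction
field of R and f_1, …, f_r pairwise non-associate prime elements of R. If w is a unit of K such that
w and w⁻¹ both lie in R[1/(f_1⋯f_r)], i.e. each becomes an element of R after multiplication by a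
power of f_1⋯f_r, then there is exactly one pair (v, b) consisting of a unit v of R and integers
b_1, …, b_r with w = v · ∏ f_i^{b_i} in K. (This is the exactness of 0 → Γ(Spec R, O^×) → Γ(Spec R ∖
V(f_1⋯f_r), O^×) → ℤ^r → 0, the last map being the orders along the f_i. The published statement
takes the f_i to be local equations of the components of a normal crossings divisor, over a field of
characteristic zero; this row allows arbitrary pairwise non-associate prime elements and any field.) -/
theorem result
    {k B R K : Type u} [Field k] [CommRing B] [Algebra k B] [Algebra.Smooth k B]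
    (p : Ideal B) [p.IsPrime] [CommRing R] [Algebra B R] [IsLocalization.AtPrime R p]
    [Field K] [Algebra R K] [IsFractionRing R K]
    {r : ℕ} (f : Fin r → R) (hf : ∀ i, Prime (f i)) (hfa : ∀ i j, Associated (f i) (f j) → i = j)
    (w : Kˣ)
    (hw : ∃ (a : R) (n : ℕ), (w : K) * algebraMap R K ((∏ i, f i) ^ n) = algebraMap R K a)
    (hw' : ∃ (a : R) (n : ℕ), (w⁻¹ : Kˣ) * algebraMap R K ((∏ i, f i) ^ n) = algebraMap R K a) :
    ∃! vb : Rˣ × (Fin r → ℤ),
      (w : K) = algebraMap R K (vb.1 : R) * ∏ i, (algebraMap R K (f i)) ^ (vb.2 i) := by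
  classical
  have hinj : Function.Injective (algebraMap R K) := IsFractionRing.injective R K
  haveI : IsDomain R := hinj.isDomain (algebraMap R K)
  have hne : ∀ i, algebraMap R K (f i) ≠ 0 := fun i =>
    (map_ne_zero_iff _ hinj).mpr (hf i).ne_zero
  -- existence
  have hex : ∃ vb : Rˣ × (Fin r → ℤ),
      (w : K) = algebraMap R K (vb.1 : R) * ∏ i, (algebraMap R K (f i)) ^ (vb.2 i) := by
    obtain ⟨a, n, h1⟩ := hw
    obtain ⟨a', m, h2⟩ := hw'
    have hprod : a * a' = (∏ i, f i) ^ (n + m) := by
      apply hinj
      rw [map_mul, ← h1, ← h2, pow_add, map_mul]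
      have : (w : K) * ((w⁻¹ : Kˣ) : K) = 1 := by simp
      calc (w : K) * algebraMap R K ((∏ i, f i) ^ n) *
            (((w⁻¹ : Kˣ) : K) * algebraMap R K ((∏ i, f i) ^ m))
          = ((w : K) * ((w⁻¹ : Kˣ) : K)) *
            (algebraMap R K ((∏ i, f i) ^ n) * algebraMap R K ((∏ i, f i) ^ m)) := by ring
        _ = _ := by rw [this, one_mul]
    obtain ⟨v, c, hvc⟩ := Groth.Agent.Helper9.PrimeUnits.exists_repr f hf a a' (n + m) hprod
    refine ⟨(v, fun i => (c i : ℤ) - n), ?_⟩
    have hFne : algebraMap R K ((∏ i, f i) ^ n) ≠ 0 := by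
      rw [map_pow, map_prod]
      exact pow_ne_zero _ (Finset.prod_ne_zero_iff.mpr fun i _ => hne i)
    have hw1 : (w : K) = algebraMap R K a / algebraMap R K ((∏ i, f i) ^ n) := by
      rw [← h1, mul_div_assoc, div_self hFne, mul_one]
    rw [hw1, hvc, map_mul, map_prod, map_pow, map_prod, ← Finset.prod_pow, mul_div_assoc,
      ← Finset.prod_div_distrib]
    congr 1
    refine Finset.prod_congr rfl fun i _ => ?_
    rw [map_pow, zpow_sub₀ (hne i), zpow_natCast, zpow_natCast]
  obtain ⟨vb, hvb⟩ := hex
  refine ⟨vb, hvb, ?_⟩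
  rintro ⟨v', b'⟩ hv'
  obtain ⟨v, b⟩ := vb
  simp only at hvb hv'
  -- shift exponents
  let s : Fin r → ℕ := fun i => (b i).natAbs + (b' i).natAbs
  let n : Fin r → ℕ := fun i => (b i + s i).toNat
  let n' : Fin r → ℕ := fun i => (b' i + s i).toNat
  have hn : ∀ i, (n i : ℤ) = b i + s i := fun i => by
    simp only [n, s]; omega
  have hn' : ∀ i, (n' i : ℤ) = b' i + s i := fun i => by
    simp only [n', s]; omega
  have hS : (∏ i, algebraMap R K (f i) ^ (s i)) ≠ 0 :=
    Finset.prod_ne_zero_iff.mpr fun i _ => pow_ne_zero _ (hne i)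
  have key : ∀ (u : Rˣ) (e : Fin r → ℤ) (k : Fin r → ℕ), (∀ i, (k i : ℤ) = e i + s i) →
      algebraMap R K ((u : R) * ∏ j, f j ^ k j) =
        (algebraMap R K (u : R) * ∏ i, (algebraMap R K (f i)) ^ (e i)) *
          ∏ i, algebraMap R K (f i) ^ (s i) := by
    intro u e k hk
    rw [map_mul, map_prod, mul_assoc, ← Finset.prod_mul_distrib]
    congr 1
    refine Finset.prod_congr rfl fun i _ => ?_
    rw [map_pow, ← zpow_natCast, hk i, zpow_add₀ (hne i), zpow_natCast]
  have heq : (v : R) * ∏ j, f j ^ n j = (v' : R) * ∏ j, f j ^ n' j := by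
    apply hinj
    rw [key v b n hn, key v' b' n' hn', ← hvb, ← hv']
  have hnn := Groth.Agent.Helper9.PrimeUnits.monomial_injective f hf hfa v v' n n' heq
  have hbb : b = b' := by
    funext i
    have := congrFun hnn i
    have h1 := hn i
    have h2 := hn' i
    rw [this] at h1
    omega
  subst hbb
  have hP : (∏ i, (algebraMap R K (f i)) ^ (b i)) ≠ 0 :=
    Finset.prod_ne_zero_iff.mpr fun i _ => zpow_ne_zero _ (hne i)
  have hvv : (v' : R) = (v : R) := by
    apply hinj
    have := hv'.symm.trans hvb
    exact mul_right_cancel₀ hP this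
  rw [Units.ext hvv]

end Groth.Agent.S18579
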