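import Groth.Statements.S18580
import Mathlib
import Groth.Agent.Helper9.UnramSection
-- import your own Groth.Agent.* helpers here

set_option autoImplicit false
universe u
open EtBase

namespace Groth.Agent.S18580

open AlgebraicGeometry CategoryTheory in
/-- Let Y be a connected scheme and f : X ⟶ Y a separated morphism that is unramified (locally of finite
type and formally unramified). Then the sections of f correspond bijectively to the connected
components of X mapping isomorphically onto Y: there is a bijection from the set of sections s of f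
to the set of open subschemes U of X whose underlying set is a connected component of X and for
which U ⟶ X ⟶ Y is an isomorphism, sending s to its image. In particular every section is an
isomorphism onto a connected component of X and is determined by its image. (A connected component
mapping isomorphically onto Y is the image of a section, hence open, so restricting to open
components loses nothing. The published statement also assumes Y Noetherian; that hypothesis plays
no role and is omitted.) -/
theorem result {X Y : Scheme.{u}} (f : X ⟶ Y)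
    [FormallyUnramified f] [LocallyOfFiniteType f] [IsSeparated f] [ConnectedSpace Y] :
    ∃ e : {s : Y ⟶ X // s ≫ f = 𝟙 Y} ≃
        {U : X.Opens // (∃ x : X, (U : Set X) = connectedComponent x) ∧ IsIso (U.ι ≫ f)},
      ∀ s : {s : Y ⟶ X // s ≫ f = 𝟙 Y}, ((e s).1 : Set X) = Set.range s.1 := by
  classical
  obtain ⟨y₀⟩ : Nonempty Y := inferInstance
  have hopen : ∀ s : {s : Y ⟶ X // s ≫ f = 𝟙 Y}, IsOpenImmersion s.1 := fun s =>
    Groth.Agent.Helper9.UnramSection.isOpenImmersion_of_section f s.1 s.2
  let toF : {s : Y ⟶ X // s ≫ f = 𝟙 Y} →
      {U : X.Opens // (∃ x : X, (U : Set X) = connectedComponent x) ∧ IsIso (U.ι ≫ f)} :=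
    fun s =>
      haveI := hopen s
      ⟨s.1.opensRange,
        ⟨s.1 y₀, Groth.Agent.Helper9.UnramSection.range_eq_connectedComponent f s.1 s.2 y₀⟩,
        Groth.Agent.Helper9.UnramSection.isIso_opensRange_ι_comp f s.1 s.2⟩
  let invF : {U : X.Opens // (∃ x : X, (U : Set X) = connectedComponent x) ∧ IsIso (U.ι ≫ f)} →
      {s : Y ⟶ X // s ≫ f = 𝟙 Y} :=
    fun U =>
      haveI := U.2.2
      ⟨inv (U.1.ι ≫ f) ≫ U.1.ι, by rw [Category.assoc, IsIso.inv_hom_id]⟩
  refine ⟨⟨toF, invF, ?_, ?_⟩, fun s => rfl⟩
  · intro s
    haveI := hopen s
    haveI := Groth.Agent.Helper9.UnramSection.isIso_opensRange_ι_comp f s.1 s.2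
    apply Subtype.ext
    exact Groth.Agent.Helper9.UnramSection.inv_opensRange_ι_comp f s.1 s.2
  · intro U
    haveI := U.2.2
    apply Subtype.ext
    apply TopologicalSpace.Opens.ext
    show Set.range (inv (U.1.ι ≫ f) ≫ U.1.ι) = (U.1 : Set X)
    have : Set.range (inv (U.1.ι ≫ f) ≫ U.1.ι) = Set.range (U.1.ι ∘ (inv (U.1.ι ≫ f))) := rfl
    rw [this, Set.range_comp, Set.range_eq_univ.mpr, Set.image_univ, Scheme.Opens.range_ι]
    exact (ConcreteCategory.bijective_of_isIso (inv (U.1.ι ≫ f)).base).surjective

end Groth.Agent.S18580
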