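import Groth.Statements.S18581
import Groth.Agent.S0785
import Groth.Agent.Helper1.SerreFlatU
import Mathlib

set_option autoImplicit false
universe u
open Desc

namespace Groth.Agent.S18581

/-- Let A → B be a local homomorphism of Noetherian local rings which is étale, in the sense that B is
(compatibly with the map from A) the localization of an étale A-algebra E at a prime ideal. Then A
is a Cohen–Macaulay ring exactly when B is one. -/
theorem result (A B : Type u) [CommRing A] [CommRing B]
    [IsLocalRing A] [IsLocalRing B] [IsNoetherianRing A] [IsNoetherianRing B]
    [Algebra A B] [IsLocalHom (algebraMap A B)]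
    (E : Type u) [CommRing E] [Algebra A E] [Algebra.Etale A E] (P : Ideal E) [P.IsPrime]
    [Algebra E B] [IsScalarTower A E B] [IsLocalization.AtPrime B P] :
    LocCoh.IsCohenMacaulayLocalRing A ↔ LocCoh.IsCohenMacaulayLocalRing B := by
  have hd := Groth.Agent.S0785.result A B E P
  have : Module.Flat E B := IsLocalization.flat B P.primeCompl
  have : Module.Flat A E := inferInstance
  have : Module.Flat A B := Module.Flat.trans A E B
  have : Algebra.FormallyUnramified E B := Algebra.FormallyUnramified.of_isLocalization P.primeCompl
  have : Algebra.FormallyUnramified A B := Algebra.FormallyUnramified.comp A E B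
  have : Algebra.EssFiniteType E B := Algebra.EssFiniteType.of_isLocalization B P.primeCompl
  have : Algebra.EssFiniteType A B := Algebra.EssFiniteType.comp A E B
  have hdim : ringKrullDim B = ringKrullDim A :=
    Groth.Agent.Helper1.SerreFlatU.ringKrullDim_eq_of_flat (R := A) (S := B)
      Algebra.FormallyUnramified.map_maximalIdeal
  have h1 : Module.supportDim B B = Module.supportDim A A := by
    rw [Module.supportDim_self_eq_ringKrullDim, Module.supportDim_self_eq_ringKrullDim, hdim]
  constructor
  · intro h
    exact { supportDim_eq_depth := by rw [h1, ← hd]; exact h.supportDim_eq_depth }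
  · intro h
    exact { supportDim_eq_depth := by rw [← h1, hd]; exact h.supportDim_eq_depth }

end Groth.Agent.S18581
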