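import Groth.Statements.S18590
import Groth.Agent.Helper9.WittHomog
import Groth.Agent.S18589
-- import your own Groth.Agent.* helpers here

set_option autoImplicit false
universe u
open CAlg

namespace Groth.Agent.S18590

/-- Let p be a prime, A a commutative ring, K a commutative A-algebra of characteristic p and M_0, M_1,
M_2, … A-submodules of K with M_i · M_j ⊆ M_(i+j) for all i, j. Then the subset of the ring W(K) of
p-typical Witt vectors consisting of the vectors whose n-th coordinate lies in M_(p^n) for every n
is closed under addition and under multiplication by the image of W(A) under W of the structure map;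
in other words it is a W(A)-submodule of W(K). (The published statement is the case of an integral
normal noetherian scheme X of characteristic p with function field K, an affine open subset U with
coordinate ring A, and M_k the module of sections over U of the divisorial sheaf of k·D for a real
Weil divisor D on X; these form such a multiplicative family, and the subset is then the module of
sections over U of the Witt divisorial sheaf of D inside W(K). Only the two stated properties of
that family enter.) -/
theorem result
    (p : ℕ) [Fact p.Prime] (A K : Type u) [CommRing A] [CommRing K] [Algebra A K] [CharP K p]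
    (M : ℕ → Submodule A K)
    (hmul : ∀ (i j : ℕ) (a b : K), a ∈ M i → b ∈ M j → a * b ∈ M (i + j)) :
    (∀ φ ψ : WittVector p K, (∀ n : ℕ, φ.coeff n ∈ M (p ^ n)) → (∀ n : ℕ, ψ.coeff n ∈ M (p ^ n)) →
        ∀ n : ℕ, (φ + ψ).coeff n ∈ M (p ^ n)) ∧
      (∀ (x : WittVector p A) (φ : WittVector p K), (∀ n : ℕ, φ.coeff n ∈ M (p ^ n)) →
        ∀ n : ℕ, (WittVector.map (algebraMap A K) x * φ).coeff n ∈ M (p ^ n)) := by
  have hp : p ≠ 0 := (Fact.out : p.Prime).ne_zero
  constructor
  · intro φ ψ hφ hψ n
    rw [WittVector.add_coeff]
    unfold WittVector.peval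
    apply Groth.Agent.Helper9.aeval_mem_of_isWeightedHomogeneous M hmul
      (fun i : Fin 2 × ℕ => p ^ i.2) _ (p ^ n) (pow_ne_zero _ hp) (Groth.Agent.S18589.result p n)
    rintro ⟨b, i⟩
    refine ⟨fun h => absurd h (pow_ne_zero _ hp), fun _ => ?_⟩
    fin_cases b
    · exact hφ i
    · exact hψ i
  · intro x φ hφ n
    rw [WittVector.mul_coeff]
    unfold WittVector.peval
    have hmulHom : MvPolynomial.IsWeightedHomogeneous
        (fun i : Fin 2 × ℕ => (![0, 1] : Fin 2 → ℕ) i.1 * p ^ i.2) (WittVector.wittMul p n) (p ^ n) := by
      have h := Groth.Agent.Helper9.wittStructureInt_isWeightedHomogeneous p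
        (MvPolynomial.X (0 : Fin 2) * MvPolynomial.X 1 : MvPolynomial (Fin 2) ℤ)
        (fun i : Fin 2 × ℕ => (![0, 1] : Fin 2 → ℕ) i.1 * p ^ i.2) 1 ?_ n
      · rw [one_mul] at h
        exact h
      · intro m
        rw [map_mul, MvPolynomial.bind₁_X_right, MvPolynomial.bind₁_X_right]
        have h0 := Groth.Agent.Helper9.rename_wittPolynomial_isWeightedHomogeneous p
          (fun i : Fin 2 × ℕ => (![0, 1] : Fin 2 → ℕ) i.1 * p ^ i.2) 0 0 (fun i => by simp) m
        have h1 := Groth.Agent.Helper9.rename_wittPolynomial_isWeightedHomogeneous p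
          (fun i : Fin 2 × ℕ => (![0, 1] : Fin 2 → ℕ) i.1 * p ^ i.2) 1 1 (fun i => by simp) m
        have := h0.mul h1
        rw [zero_mul, zero_add] at this
        exact this
    apply Groth.Agent.Helper9.aeval_mem_of_isWeightedHomogeneous M hmul
      (fun i : Fin 2 × ℕ => (![0, 1] : Fin 2 → ℕ) i.1 * p ^ i.2) _ (p ^ n) (pow_ne_zero _ hp) hmulHom
    rintro ⟨b, i⟩
    fin_cases b
    · refine ⟨fun _ => ?_, fun h => absurd (by simp) h⟩
      exact ⟨x.coeff i, (WittVector.map_coeff _ _ _).symm⟩
    · refine ⟨fun h => absurd h (by simp [hp]), fun _ => ?_⟩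
      have := hφ i
      simpa using this

end Groth.Agent.S18590
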