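import Groth.Statements.S18598
import Mathlib
-- import your own Groth.Agent.* helpers here

set_option autoImplicit false
universe u
open SSRed

namespace Groth.Agent.S18598

universe uO

theorem key_dvd (O : Type uO) [CommRing O] [IsDomain O] (α : O) (m : ℕ) (hm : 0 < m)
    (hα : IsPrimitiveRoot α m) :
    (1 - α) ^ (Nat.totient m) ∣ Polynomial.eval 1 (Polynomial.cyclotomic m O) := by
  classical
  haveI : NeZero m := ⟨hm.ne'⟩
  rw [Polynomial.cyclotomic_eq_prod_X_sub_primitiveRoots hα, Polynomial.eval_prod,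
    ← hα.card_primitiveRoots, ← Finset.prod_const]
  apply Finset.prod_dvd_prod_of_dvd
  intro μ hμ
  rw [mem_primitiveRoots hm] at hμ
  obtain ⟨i, _, rfl⟩ := hα.eq_pow_of_pow_eq_one hμ.pow_eq_one
  rw [Polynomial.eval_sub, Polynomial.eval_X, Polynomial.eval_C]
  have := sub_dvd_pow_sub_pow (1 : O) α i
  rwa [one_pow] at this

theorem arith (p k a : ℕ) (hp : p.Prime) (hk : 1 ≤ k) (ha : 1 ≤ a)
    (h : a * (p ^ (k - 1) * (p - 1)) ≤ 2) :
    (p = 3 ∧ a = 1 ∧ k = 1) ∨ (p = 2 ∧ a = 1 ∧ k = 1) ∨ (p = 2 ∧ a = 1 ∧ k = 2) ∨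
      (p = 2 ∧ a = 2 ∧ k = 1) := by
  have hp2 := hp.two_le
  have hpk : 1 ≤ p ^ (k - 1) := Nat.one_le_pow _ _ (by omega)
  have hp1 : 1 ≤ p - 1 := by omega
  have h1 : a * (p ^ (k - 1) * (p - 1)) ≥ a * (1 * (p - 1)) :=
    Nat.mul_le_mul_left _ (Nat.mul_le_mul_right _ hpk)
  have h2 : a * (1 * (p - 1)) ≥ 1 * (1 * (p - 1)) := Nat.mul_le_mul_right _ ha
  have hp3 : p ≤ 3 := by omega
  have ha2 : a ≤ 2 := by
    have : a * (p ^ (k - 1) * (p - 1)) ≥ a * (1 * 1) :=
      Nat.mul_le_mul_left _ (Nat.mul_le_mul hpk hp1)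
    omega
  have hpk2 : p ^ (k - 1) ≤ 2 := by
    have : a * (p ^ (k - 1) * (p - 1)) ≥ 1 * (p ^ (k - 1) * 1) :=
      Nat.mul_le_mul ha (Nat.mul_le_mul_left _ hp1)
    omega
  have hk2 : k ≤ 2 := by
    by_contra hcon
    push Not at hcon
    have : p ^ 2 ≤ p ^ (k - 1) := Nat.pow_le_pow_right (by omega) (by omega)
    have : 2 ^ 2 ≤ p ^ 2 := Nat.pow_le_pow_left hp2 2
    omega
  interval_cases p <;> interval_cases a <;> interval_cases k <;> simp_all


/-- Let O be a commutative integral domain of characteristic zero, n a positive integer such that no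
prime number dividing n is a unit in O, and α an element of O of finite multiplicative order such
that (α − 1)² is divisible by n in O. Then α = 1 if n ≥ 5, α² = 1 if n = 4, α³ = 1 if n = 3, and α⁴
= 1 if n = 2. -/
theorem result (O : Type u) [CommRing O] [IsDomain O] [CharZero O]
    (n : ℕ) (hn : 0 < n) (hO : ∀ p : ℕ, p.Prime → p ∣ n → ¬ IsUnit (p : O))
    (α : O) (hα : IsOfFinOrder α) (h : (n : O) ∣ (α - 1) ^ 2) :
    (5 ≤ n → α = 1) ∧ (n = 4 → α ^ 2 = 1) ∧ (n = 3 → α ^ 3 = 1) ∧ (n = 2 → α ^ 4 = 1) := by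
  classical
  obtain ⟨m, hm⟩ : ∃ m, m = orderOf α := ⟨_, rfl⟩
  have hmpos : 0 < m := by rw [hm]; exact hα.orderOf_pos
  have hprim : IsPrimitiveRoot α m := by rw [hm]; exact IsPrimitiveRoot.orderOf α
  by_cases hm1 : m = 1
  · have : α = 1 := by
      rw [hm1] at hprim
      simpa using hprim.pow_eq_one
    subst this
    simp
  have hm2 : 2 ≤ m := by omega
  by_cases hn1 : n = 1
  · subst hn1
    refine ⟨fun h => by omega, fun h => by omega, fun h => by omega, fun h => by omega⟩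
  have hn2 : 2 ≤ n := by omega
  -- general facts
  have hφ : 0 < Nat.totient m := Nat.totient_pos.mpr hmpos
  have hkey := key_dvd O α m hmpos hprim
  have hn_dvd : (n : O) ^ (Nat.totient m) ∣ (Polynomial.eval 1 (Polynomial.cyclotomic m O)) ^ 2 := by
    have h1 : (n : O) ^ (Nat.totient m) ∣ ((α - 1) ^ 2) ^ (Nat.totient m) := pow_dvd_pow_of_dvd h _
    have h2 : ((α - 1) ^ 2) ^ (Nat.totient m) = ((1 - α) ^ (Nat.totient m)) ^ 2 := by
      have : (α - 1) ^ 2 = (1 - α) ^ 2 := by ring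
      rw [this, ← pow_mul, mul_comm, pow_mul]
    rw [h2] at h1
    exact h1.trans (pow_dvd_pow_of_dvd hkey 2)
  have hprime_nonunit : ∀ q : ℕ, q.Prime → q ∣ n → ¬ (q : O) ∣ 1 := by
    intro q hq hqn hq1
    exact hO q hq hqn (isUnit_of_dvd_one hq1)
  obtain ⟨q0, hq0, hq0n⟩ := Nat.exists_prime_and_dvd (show n ≠ 1 by omega)
  -- m is a prime power
  by_cases hpp : ∀ {p : ℕ}, p.Prime → ∀ k : ℕ, p ^ k ≠ m
  · exfalso
    rw [Polynomial.eval_one_cyclotomic_not_prime_pow hpp, one_pow] at hn_dvd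
    apply hprime_nonunit q0 hq0 hq0n
    have h1 : (q0 : O) ∣ (n : O) := by exact_mod_cast Nat.cast_dvd_cast (α := O) hq0n
    exact (h1.trans (dvd_pow_self _ hφ.ne')).trans hn_dvd
  push Not at hpp
  obtain ⟨p, hp, k, hpk⟩ := hpp
  have hk1 : 1 ≤ k := by
    rcases Nat.eq_zero_or_pos k with rfl | h
    · simp at hpk; omega
    · exact h
  obtain ⟨k', rfl⟩ : ∃ k', k = k' + 1 := ⟨k - 1, by omega⟩
  haveI : Fact p.Prime := ⟨hp⟩
  subst hpk
  rw [Polynomial.eval_one_cyclotomic_prime_pow] at hn_dvd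
  have hpO : (p : O) ≠ 0 := by exact_mod_cast hp.ne_zero
  -- every prime factor of n is p
  have honly : ∀ {q : ℕ}, q.Prime → q ∣ n → q = p := by
    intro q hq hqn
    by_contra hne
    apply hprime_nonunit q hq hqn
    have h1 : (q : O) ∣ (p : O) ^ 2 := by
      have h1 : (q : O) ∣ (n : O) := by exact_mod_cast Nat.cast_dvd_cast (α := O) hqn
      exact (h1.trans (dvd_pow_self _ hφ.ne')).trans hn_dvd
    have hcop : Nat.Coprime q (p ^ 2) :=
      Nat.Coprime.pow_right 2 ((Nat.coprime_primes hq hp).mpr hne)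
    have hbez := Nat.gcd_eq_gcd_ab q (p ^ 2)
    rw [hcop.gcd_eq_one] at hbez
    have hbez' : (1 : O) = (q : O) * ((Nat.gcdA q (p ^ 2) : ℤ) : O) +
        ((p : O) ^ 2) * ((Nat.gcdB q (p ^ 2) : ℤ) : O) := by
      have := congrArg (fun z : ℤ => (z : O)) hbez
      push_cast at this
      exact this
    rw [hbez']
    exact dvd_add (dvd_mul_right _ _) (h1.trans (dvd_mul_right _ _))
  have hnpow := Nat.eq_prime_pow_of_unique_prime_dvd (by omega : n ≠ 0) honly
  obtain ⟨a, ha⟩ : ∃ a, a = n.primeFactorsList.length := ⟨_, rfl⟩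
  rw [← ha] at hnpow
  have ha1 : 1 ≤ a := by
    rcases Nat.eq_zero_or_pos a with h0 | h0
    · rw [h0, pow_zero] at hnpow; omega
    · exact h0
  -- exponent bound
  have hbound : a * (p ^ k' * (p - 1)) ≤ 2 := by
    by_contra hcon
    push Not at hcon
    rw [hnpow, Nat.totient_prime_pow_succ hp] at hn_dvd
    rw [Nat.cast_pow, ← pow_mul] at hn_dvd
    have h3 : (p : O) ^ 3 ∣ (p : O) ^ 2 := (pow_dvd_pow _ (by omega)).trans hn_dvd
    have h4 : (p : O) ^ 2 * (p : O) ∣ (p : O) ^ 2 * 1 := by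
      rw [mul_one, ← pow_succ]; exact h3
    have h5 := (mul_dvd_mul_iff_left (pow_ne_zero 2 hpO)).mp h4
    have hpn : p ∣ n := by rw [hnpow]; exact dvd_pow_self _ (by omega)
    exact hprime_nonunit p hp hpn h5
  have hcases := arith p (k' + 1) a hp (by omega) ha1 hbound
  have hpow : α ^ (p ^ (k' + 1)) = 1 := hprim.pow_eq_one
  rcases hcases with ⟨rfl, rfl, hk⟩ | ⟨rfl, rfl, hk⟩ | ⟨rfl, rfl, hk⟩ | ⟨rfl, rfl, hk⟩
  · -- n = 3, m = 3
    have hk0 : k' = 0 := by omega
    subst hk0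
    norm_num at hnpow
    subst hnpow
    have hpow' : α ^ 3 = 1 := by
      rw [show (3 : ℕ) = 3 ^ (0 + 1) by norm_num]; exact hpow
    refine ⟨fun h => by omega, fun h => by omega, fun _ => hpow', fun h => by omega⟩
  · -- n = 2, m = 2
    have hk0 : k' = 0 := by omega
    subst hk0
    norm_num at hnpow
    subst hnpow
    have hpow' : α ^ 2 = 1 := by
      rw [show (2 : ℕ) = 2 ^ (0 + 1) by norm_num]; exact hpow
    refine ⟨fun h => by omega, fun h => by omega, fun h => by omega, fun _ => ?_⟩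
    calc α ^ 4 = (α ^ 2) ^ 2 := by ring
      _ = 1 := by rw [hpow', one_pow]
  · -- n = 2, m = 4
    have hk0 : k' = 1 := by omega
    subst hk0
    norm_num at hnpow
    subst hnpow
    have hpow' : α ^ 4 = 1 := by
      rw [show (4 : ℕ) = 2 ^ (1 + 1) by norm_num]; exact hpow
    refine ⟨fun h => by omega, fun h => by omega, fun h => by omega, fun _ => hpow'⟩
  · -- n = 4, m = 2
    have hk0 : k' = 0 := by omega
    subst hk0
    norm_num at hnpow
    subst hnpow
    have hpow' : α ^ 2 = 1 := by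
      rw [show (2 : ℕ) = 2 ^ (0 + 1) by norm_num]; exact hpow
    refine ⟨fun h => by omega, fun _ => hpow', fun h => by omega, fun h => by omega⟩

end Groth.Agent.S18598
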