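import Groth.Statements.S18614
import Groth.Agent.Helper9.LinTop
-- import your own Groth.Agent.* helpers here

set_option autoImplicit false
universe u v
open LinTop

namespace Groth.Agent.S18614

/-- Let k be a field carrying the discrete topology and M a separated topological k-module with a
k-linear topology (the open k-submodules form a basis of neighbourhoods of zero and M is a
topological additive group). For a closed submodule M₁, the perpendicular of the perpendicular of
M₁, both taken with respect to the pairing of M with its continuous dual (the continuous k-linear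
maps M → k), is M₁ itself: an element killed by every continuous functional vanishing on M₁ belongs
to M₁. -/
theorem result (k : Type u) (M : Type v) [Field k]
    [TopologicalSpace k] [DiscreteTopology k] [AddCommGroup M] [Module k M] [TopologicalSpace M]
    [IsTopologicalAddGroup M] [IsLinearTopology k M] [T2Space M]
    (M₁ : Submodule k M) (hM₁ : IsClosed (M₁ : Set M)) (x : M)
    (hx : ∀ φ : M →L[k] k, (∀ m ∈ M₁, φ m = 0) → φ x = 0) : x ∈ M₁ := by
  classical
  by_contra hxM
  -- a neighbourhood of 0 whose translate by x misses M₁
  have hnhds : {m : M | x + m ∈ (M₁ : Set M)ᶜ} ∈ nhds (0 : M) := by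
    have hc : Continuous fun m : M => x + m := continuous_const.add continuous_id
    have : (fun m : M => x + m) ⁻¹' (M₁ : Set M)ᶜ ∈ nhds (0 : M) := by
      apply hc.continuousAt.preimage_mem_nhds
      rw [add_zero]
      exact hM₁.isOpen_compl.mem_nhds hxM
    exact this
  obtain ⟨U, hUo, hUsub⟩ := (IsLinearTopology.hasBasis_open_submodule k (M := M)).mem_iff.mp hnhds
  have hxN : x ∉ M₁ ⊔ U := by
    intro hx'
    obtain ⟨m, hm, u, hu, hmu⟩ := Submodule.mem_sup.mp hx'
    have h1 : x + (-u) ∈ (M₁ : Set M)ᶜ := hUsub (U.neg_mem hu)
    apply h1
    have : x + (-u) = m := by rw [← hmu]; abel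
    rw [this]
    exact hm
  obtain ⟨f, hfx, hfN⟩ := Submodule.exists_dual_map_eq_bot_of_notMem hxN inferInstance
  have hfN' : ∀ n ∈ M₁ ⊔ U, f n = 0 := by
    intro n hn
    have : f n ∈ (M₁ ⊔ U).map f := Submodule.mem_map_of_mem hn
    rw [hfN] at this
    exact (Submodule.mem_bot k).mp this
  have hcont : Continuous f :=
    Groth.Agent.Helper9.continuous_of_open_le_ker f U hUo
      (fun u hu => hfN' u (Submodule.mem_sup_right hu))
  exact hfx (hx ⟨f, hcont⟩ (fun m hm => hfN' m (Submodule.mem_sup_left hm)))

end Groth.Agent.S18614
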