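import Groth.Statements.S18615
import Groth.Agent.Helper9.LinTop
-- import your own Groth.Agent.* helpers here

set_option autoImplicit false
universe u v
open LinTop

namespace Groth.Agent.S18615

/-- Let k be a field carrying the discrete topology and M a separated topological k-module with a
k-linear topology (open k-submodules form a basis of neighbourhoods of zero, M a topological
additive group). For closed submodules M₁ ⊆ M₂ there is a short exact sequence 0 → M₂^⊥ → M₁^⊥ →
(M₂/M₁)^* → 0 of plain k-modules, where ⊥ denotes the annihilator in the continuous dual of M and *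
the continuous dual. Stated here as its one non-formal part, surjectivity on the right: every
continuous functional on M₂ (subspace topology) that vanishes on M₁ is the restriction of a
continuous functional on M vanishing on M₁ (continuous functionals on M₂/M₁ being the continuous
functionals on M₂ that kill M₁). -/
theorem result (k : Type u) (M : Type v) [Field k]
    [TopologicalSpace k] [DiscreteTopology k] [AddCommGroup M] [Module k M] [TopologicalSpace M]
    [IsTopologicalAddGroup M] [IsLinearTopology k M] [T2Space M]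
    (M₁ M₂ : Submodule k M) (h₁₂ : M₁ ≤ M₂) (hM₁ : IsClosed (M₁ : Set M))
    (hM₂ : IsClosed (M₂ : Set M)) (ψ : M₂ →L[k] k)
    (hψ : ∀ m : M₂, (m : M) ∈ M₁ → ψ m = 0) :
    ∃ φ : M →L[k] k, (∀ m ∈ M₁, φ m = 0) ∧ ∀ m : M₂, φ (m : M) = ψ m := by
  classical
  have hker : IsOpen ((LinearMap.ker (ψ : M₂ →ₗ[k] k) : Submodule k M₂) : Set M₂) := by
    have : ((LinearMap.ker (ψ : M₂ →ₗ[k] k) : Submodule k M₂) : Set M₂) = ψ ⁻¹' {0} := by
      ext m
      simp
    rw [this]
    exact (isOpen_discrete _).preimage ψ.continuous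
  obtain ⟨O, hO, hOψ⟩ := isOpen_induced_iff.mp hker
  have h0O : (0 : M) ∈ O := by
    have : (0 : M₂) ∈ Subtype.val ⁻¹' O := by
      rw [hOψ]
      exact zero_mem _
    exact this
  obtain ⟨U, hUo, hUO⟩ :=
    (IsLinearTopology.hasBasis_open_submodule k (M := M)).mem_iff.mp (hO.mem_nhds h0O)
  let r : M₂ →ₗ[k] M ⧸ U := U.mkQ ∘ₗ M₂.subtype
  have hr : LinearMap.ker r ≤ LinearMap.ker (ψ : M₂ →ₗ[k] k) := by
    intro m hm
    have h1 : (m : M) ∈ U := (Submodule.Quotient.mk_eq_zero U).mp hm
    have : m ∈ Subtype.val ⁻¹' O := hUO h1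
    rw [hOψ] at this
    exact this
  let ψ' : LinearMap.range r →ₗ[k] k :=
    ((LinearMap.ker r).liftQ (ψ : M₂ →ₗ[k] k) hr) ∘ₗ
      (r.quotKerEquivRange.symm : LinearMap.range r →ₗ[k] _)
  obtain ⟨g, hg⟩ := LinearMap.exists_extend ψ'
  let φl : M →ₗ[k] k := g ∘ₗ U.mkQ
  have hcont : Continuous φl :=
    Groth.Agent.Helper9.continuous_of_open_le_ker φl U hUo (fun u hu => by
      show g (U.mkQ u) = 0
      rw [Submodule.mkQ_apply, (Submodule.Quotient.mk_eq_zero U).mpr hu, map_zero])
  have hφ : ∀ m : M₂, φl m = ψ m := by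
    intro m
    have h1 : φl m = g (r m) := rfl
    have hmem : r m ∈ LinearMap.range r := LinearMap.mem_range_self r m
    have h2 : g (r m) = ψ' ⟨r m, hmem⟩ := by
      rw [← hg]
      rfl
    rw [h1, h2]
    show (LinearMap.ker r).liftQ _ hr (r.quotKerEquivRange.symm ⟨r m, hmem⟩) = ψ m
    rw [LinearMap.quotKerEquivRange_symm_apply_image r m hmem]
    rfl
  refine ⟨⟨φl, hcont⟩, fun m hm => ?_, hφ⟩
  have h3 := hφ ⟨m, h₁₂ hm⟩
  show φl m = 0
  have h4 : φl m = ψ ⟨m, h₁₂ hm⟩ := h3
  rw [h4]
  exact hψ ⟨m, h₁₂ hm⟩ hm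

end Groth.Agent.S18615
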