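import Groth.Statements.S18634
import Mathlib
import Groth.Agent.Helper7.BassInj1
import Groth.Agent.Helper7.BassSoc6
import Groth.Agent.Helper7.BassG

set_option autoImplicit false
universe u
open GrLC

namespace Groth.Agent.S18634

/-- Let R be a commutative Noetherian ℤ-graded ring and M a graded R-module which is *injective, that
is, an injective object of the category of graded R-modules with degree-preserving maps. Then the
injective dimension of M as an ordinary R-module is at most 1. (The published item compares the
graded and the ordinary injective dimensions of an arbitrary graded module; the published proof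
reduces to and establishes exactly this *injective case, from which the ordinary injective dimension
of any graded module is at most one more than its graded injective dimension.) -/
theorem result (R : Type u) [CommRing R] [IsNoetherianRing R] (𝒜 : ℤ → AddSubgroup R) [GradedRing 𝒜] (M : Type u) [AddCommGroup M] [Module R M] (ℳ : ℤ → AddSubgroup M) [DirectSum.Decomposition ℳ] [SetLike.GradedSMul 𝒜 ℳ] (hM : GrLC.IsStarInj 𝒜 ℳ) : CategoryTheory.HasInjectiveDimensionLT (ModuleCat.of R M) 2 := by
    apply Groth.Agent.Helper7.BassInj.hasInjectiveDimensionLT_of_bassNum M 1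
    intro q hq i hi
    haveI hc : (Ideal.homogeneousCore 𝒜 q).toIdeal.IsPrime :=
      Groth.Agent.Helper7.Torus.core_isPrime 𝒜 q
    obtain ⟨d, hd, hd1⟩ := ENat.le_natCast_iff.1
      (show (q.map (Ideal.Quotient.mk (Ideal.homogeneousCore 𝒜 q).toIdeal)).height ≤ ((1 : ℕ) : ℕ∞)
        from Groth.Agent.Helper7.BassNum.height_map_core_le_one 𝒜 q)
    rw [Groth.Agent.Helper7.BassNum.bassNum_eq 𝒜 q M ℳ d hd i]
    split_ifs with h1
    · rfl
    · exact Groth.Agent.Helper7.BassSoc.bassNum_eq_zero_of_isStarInj 𝒜 (Ideal.homogeneousCore 𝒜 q) ℳ hM
        (i - d) (by omega)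

end Groth.Agent.S18634
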