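import Groth.Statements.S18635
import Mathlib
import Groth.Agent.Helper7.BassInj1
import Groth.Agent.Helper7.BassInj2
import Groth.Agent.Helper7.BassSoc6
import Groth.Agent.Helper7.BassG
import Groth.Agent.Helper7.GrGor7

set_option autoImplicit false
universe u
open GrLC

namespace Groth.Agent.S18635

/-- Let R be a commutative Noetherian ℤ-graded ring and M a *injective graded R-module (an injective
object of the category of graded R-modules). Then M fails to be injective as an ordinary R-module —
equivalently, since a *injective graded module has ordinary injective dimension at most 1, its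
ordinary injective dimension is exactly 1 — if and only if there is a prime ideal p of R which is
not graded and whose graded core p* (the largest graded ideal contained in p, itself a prime) is an
associated prime of M. -/
theorem result (R : Type u) [CommRing R] [IsNoetherianRing R] (𝒜 : ℤ → AddSubgroup R) [GradedRing 𝒜] (M : Type u) [AddCommGroup M] [Module R M] (ℳ : ℤ → AddSubgroup M) [DirectSum.Decomposition ℳ] [SetLike.GradedSMul 𝒜 ℳ] (hM : GrLC.IsStarInj 𝒜 ℳ) : ¬ Module.Injective R M ↔ ∃ p : Ideal R, p.IsPrime ∧ ¬ Ideal.IsHomogeneous 𝒜 p ∧ (Ideal.homogeneousCore 𝒜 p).toIdeal ∈ associatedPrimes R M := by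
    classical
    have hinj_iff : Module.Injective R M ↔
        CategoryTheory.HasInjectiveDimensionLT (ModuleCat.of R M) 1 := by
      rw [← CategoryTheory.injective_iff_hasInjectiveDimensionLT_one]
      exact ⟨fun h => Module.injective_object_of_injective_module R M,
        fun h => Module.injective_module_of_injective_object R M⟩
    constructor
    · intro hni
      by_contra hcon
      push Not at hcon
      apply hni
      rw [hinj_iff]
      apply Groth.Agent.Helper7.BassInj.hasInjectiveDimensionLT_of_bassNum M 0
      intro q hq i hi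
      by_cases hh : q.IsHomogeneous 𝒜
      · let q' : HomogeneousIdeal 𝒜 := ⟨q, hh⟩
        haveI : q'.toIdeal.IsPrime := hq
        exact Groth.Agent.Helper7.BassSoc.bassNum_eq_zero_of_isStarInj 𝒜 q' ℳ hM i hi
      · haveI hc : (Ideal.homogeneousCore 𝒜 q).toIdeal.IsPrime :=
          Groth.Agent.Helper7.Torus.core_isPrime 𝒜 q
        have hd : (q.map (Ideal.Quotient.mk (Ideal.homogeneousCore 𝒜 q).toIdeal)).height =
            ((1 : ℕ) : ℕ∞) := by
          rw [Nat.cast_one]
          exact Groth.Agent.Helper7.BassNum.height_map_core_eq_one 𝒜 q hh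
        rw [Groth.Agent.Helper7.BassNum.bassNum_eq 𝒜 q M ℳ 1 hd i, if_neg (by omega)]
        by_cases h2 : 1 ≤ i - 1
        · exact Groth.Agent.Helper7.BassSoc.bassNum_eq_zero_of_isStarInj 𝒜
            (Ideal.homogeneousCore 𝒜 q) ℳ hM (i - 1) h2
        · have hi0 : i - 1 = 0 := by omega
          rw [hi0]
          by_contra hne
          exact hcon q hq hh
            ((Groth.Agent.Helper7.BassInj.bassNum_zero_ne_zero_iff _ M).1 hne)
    · rintro ⟨p, hp, hph, hass⟩ hinj
      haveI := hp
      haveI hc : (Ideal.homogeneousCore 𝒜 p).toIdeal.IsPrime :=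
        Groth.Agent.Helper7.Torus.core_isPrime 𝒜 p
      have h1 := Groth.Agent.Helper7.GrGor.bassNum_eq_zero_of_hasInjectiveDimensionLT M 0
        (hinj_iff.1 hinj) p 1 le_rfl
      have hd : (p.map (Ideal.Quotient.mk (Ideal.homogeneousCore 𝒜 p).toIdeal)).height =
          ((1 : ℕ) : ℕ∞) := by
        rw [Nat.cast_one]
        exact Groth.Agent.Helper7.BassNum.height_map_core_eq_one 𝒜 p hph
      rw [Groth.Agent.Helper7.BassNum.bassNum_eq 𝒜 p M ℳ 1 hd 1, if_neg (lt_irrefl 1)] at h1
      exact (Groth.Agent.Helper7.BassInj.bassNum_zero_ne_zero_iff _ M).2 hass h1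

end Groth.Agent.S18635
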