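import Groth.Statements.S18638
import Mathlib
import Groth.Agent.Helper7.GrGor3
import Groth.Agent.Helper7.GrGor4
import Groth.Agent.Helper7.GrGor5
import Groth.Agent.Helper7.GrGor6
import Groth.Agent.Helper7.GrHt1
import Groth.Agent.S7701

set_option autoImplicit false
universe u
open GrLC

namespace Groth.Agent.S18638

/-- Let R be a graded ring defined over a field which is Cohen–Macaulay, and K_R its canonical module.
Then R is Gorenstein exactly when K_R is isomorphic to a degree shift R(a) of R for some integer a,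
that is, there is a bijective R-linear map R → K_R homogeneous of some fixed degree. Here 'graded
ring defined over a field' means R = ⊕_{n ≥ 0} R_n is Noetherian with R_0 a field (so R is finitely
generated over R_0), m = R_+ is its unique graded maximal ideal and n = dim R; the canonical module
K_R (the graded dual of H^n_m(R)) is represented by a finitely generated graded module C together
with a homogeneous isomorphism from Hom_R(C, E) onto H^n_m(R), where E is a *injective envelope of
R/m and H^n_m(R) is computed from a *injective resolution of R in the graded category; by graded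
Matlis duality this says exactly that C ≅ K_R as graded modules. -/
theorem result (R : Type u) [CommRing R] [LocCoh.IsCohenMacaulayRing R] (𝒜 : ℤ → AddSubgroup R) [GradedRing 𝒜] (hpos : ∀ n : ℤ, n < 0 → 𝒜 n = ⊥) (h0 : IsField (GrLC.deg0 𝒜)) (m : HomogeneousIdeal 𝒜) (hm : GrLC.IsStarLocal 𝒜 m) (hmsp : m.toIdeal = Ideal.span (⋃ n ∈ Set.Ioi (0 : ℤ), (𝒜 n : Set R))) (n : ℕ) (hn : ringKrullDim R = n) (I : GrLC.StarInjRes 𝒜 𝒜) (E' : Type u) [AddCommGroup E'] [Module R E'] (𝓔 : ℤ → AddSubgroup E') [DirectSum.Decomposition 𝓔] [SetLike.GradedSMul 𝒜 𝓔] (e : (R ⧸ m.toIdeal) →ₗ[R] E') (he : GrLC.IsStarInjHull 𝒜 (GrLC.quotGr 𝒜 m) 𝓔 e) (C : Type u) [AddCommGroup C] [Module R C] (𝒞 : ℤ → AddSubgroup C) [DirectSum.Decomposition 𝒞] [SetLike.GradedSMul 𝒜 𝒞] (hC : GrLC.IsStarCanonical 𝒜 𝒞 𝓔 m n I) : LocCoh.IsGorensteinRing R ↔ ∃ (a : ℤ) (f : R →ₗ[R] C), Function.Bijective f ∧ GrLC.IsGrHomDeg 𝒜 𝒞 f a := by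
    classical
    open Groth.Agent.Helper7.GrGor TensorProduct IsLocalRing in
    haveI hN : IsNoetherianRing R := inferInstance
    letI := h0.toField
    haveI hArt : IsArtinianRing (GrLC.deg0 𝒜) := inferInstance
    haveI hmax : m.toIdeal.IsMaximal := Groth.Agent.Helper7.GrStarLoc.isMaximal 𝒜 hpos m hm.1
    haveI hmp : m.toIdeal.IsPrime := hmax.isPrime
    obtain ⟨hfin, φ, -⟩ := hC
    haveI := hfin
    haveI hCMA : LocCoh.IsCohenMacaulayLocalRing (Localization.AtPrime m.toIdeal) :=
      LocCoh.IsCohenMacaulayRing.isCohenMacaulayLocalRing_localization m.toIdeal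
    have hht : m.toIdeal.height = n := Groth.Agent.Helper7.GrHt.height_eq_dim 𝒜 hpos m hm n hn
    have hdimA : ringKrullDim (Localization.AtPrime m.toIdeal) = n := by
      rw [IsLocalization.AtPrime.ringKrullDim_eq_height m.toIdeal (Localization.AtPrime m.toIdeal), hht]
      rfl
    obtain ⟨f0, hf0⟩ := exists_isInjectiveHull 𝒜 hpos h0 m hm.1 hmsp 𝓔 e he
    obtain ⟨eK⟩ := nonempty_canon_equiv 𝒜 hpos h0 m hm.1 hmsp 𝓔 e he n I φ
    have key := Groth.Agent.S7701.result (Localization.AtPrime m.toIdeal) n hdimA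
      (LocalizedModule m.toIdeal.primeCompl E') f0 hf0
      ((Localization.AtPrime m.toIdeal) ⊗[R] C) eK
    constructor
    · intro hG
      have h1 : LocCoh.IsGorensteinLocalRing (Localization.AtPrime m.toIdeal) :=
        hG.isGorensteinLocalRing_localization m.toIdeal
      obtain ⟨ψ⟩ := key.1 h1
      exact exists_homog_iso_of_local_iso 𝒜 hpos h0 m hmsp 𝒞 ψ
    · rintro ⟨a, f, hf, -⟩
      apply isGorensteinRing_of_local 𝒜 m hm
      apply key.2
      let ef : R ≃ₗ[R] C := LinearEquiv.ofBijective f hf
      exact ⟨(TensorProduct.AlgebraTensorModule.congr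
        (LinearEquiv.refl (Localization.AtPrime m.toIdeal) (Localization.AtPrime m.toIdeal))
        ef.symm).trans (TensorProduct.AlgebraTensorModule.rid R (Localization.AtPrime m.toIdeal)
          (Localization.AtPrime m.toIdeal))⟩

end Groth.Agent.S18638
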