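import Groth.Statements.S18639
import Mathlib
import Groth.Agent.Helper7.GrGor3
import Groth.Agent.Helper7.GrGor4
import Groth.Agent.Helper7.GrGor7
import Groth.Agent.Helper7.GrHt1
import Groth.Agent.S7700
import Groth.Agent.Helper2.DepthCM

set_option autoImplicit false
universe u
open GrLC

namespace Groth.Agent.S18639

/-- Let R be a graded ring defined over a field which is Cohen–Macaulay, with graded maximal ideal m and
canonical module K_R. Then (i) K_R is a Cohen–Macaulay R-module — stated here at m: the localisation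
of K_R at m is a Cohen–Macaulay module over R_m, which is what the published proof computes (the Ext
groups of the residue field into K_R vanish outside degree n = dim R) — and (ii) K_R has finite
injective dimension as an R-module. Here 'graded ring defined over a field' means R = ⊕_{n ≥ 0} R_n
is Noetherian with R_0 a field (so R is finitely generated over R_0), m = R_+ is its unique graded
maximal ideal and n = dim R; the canonical module K_R (the graded dual of H^n_m(R)) is represented
by a finitely generated graded module C together with a homogeneous isomorphism from Hom_R(C, E)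
onto H^n_m(R), where E is a *injective envelope of R/m and H^n_m(R) is computed from a *injective
resolution of R in the graded category; by graded Matlis duality this says exactly that C ≅ K_R as
graded modules. -/
theorem result (R : Type u) [CommRing R] [LocCoh.IsCohenMacaulayRing R] (𝒜 : ℤ → AddSubgroup R) [GradedRing 𝒜] (hpos : ∀ n : ℤ, n < 0 → 𝒜 n = ⊥) (h0 : IsField (GrLC.deg0 𝒜)) (m : HomogeneousIdeal 𝒜) (hm : GrLC.IsStarLocal 𝒜 m) (hmsp : m.toIdeal = Ideal.span (⋃ n ∈ Set.Ioi (0 : ℤ), (𝒜 n : Set R))) [m.toIdeal.IsMaximal] (n : ℕ) (hn : ringKrullDim R = n) (I : GrLC.StarInjRes 𝒜 𝒜) (E' : Type u) [AddCommGroup E'] [Module R E'] (𝓔 : ℤ → AddSubgroup E') [DirectSum.Decomposition 𝓔] [SetLike.GradedSMul 𝒜 𝓔] (e : (R ⧸ m.toIdeal) →ₗ[R] E') (he : GrLC.IsStarInjHull 𝒜 (GrLC.quotGr 𝒜 m) 𝓔 e) (C : Type u) [AddCommGroup C] [Module R C] (𝒞 : ℤ → AddSubgroup C) [DirectSum.Decomposition 𝒞] [SetLike.GradedSMul 𝒜 𝒞] (hC : GrLC.IsStarCanonical 𝒜 𝒞 𝓔 m n I) : LocCoh.IsCohenMacaulayModule (Localization.AtPrime m.toIdeal) (LocalizedModule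 m.toIdeal.primeCompl C) ∧ ∃ N : ℕ, CategoryTheory.HasInjectiveDimensionLT (ModuleCat.of R C) N := by
    classical
    open Groth.Agent.Helper7.GrGor TensorProduct IsLocalRing in
    haveI hN : IsNoetherianRing R := inferInstance
    letI := h0.toField
    haveI hArt : IsArtinianRing (GrLC.deg0 𝒜) := inferInstance
    obtain ⟨hfin, φ, -⟩ := hC
    haveI := hfin
    haveI hCMA : LocCoh.IsCohenMacaulayLocalRing (Localization.AtPrime m.toIdeal) :=
      LocCoh.IsCohenMacaulayRing.isCohenMacaulayLocalRing_localization m.toIdeal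
    have hht : m.toIdeal.height = n := Groth.Agent.Helper7.GrHt.height_eq_dim 𝒜 hpos m hm n hn
    have hdimA : ringKrullDim (Localization.AtPrime m.toIdeal) = n := by
      rw [IsLocalization.AtPrime.ringKrullDim_eq_height m.toIdeal (Localization.AtPrime m.toIdeal), hht]
      rfl
    obtain ⟨f0, hf0⟩ := exists_isInjectiveHull 𝒜 hpos h0 m hm.1 hmsp 𝓔 e he
    obtain ⟨eK⟩ := nonempty_canon_equiv 𝒜 hpos h0 m hm.1 hmsp 𝓔 e he n I φ
    obtain ⟨h1, -, h3, -⟩ := Groth.Agent.S7700.result (Localization.AtPrime m.toIdeal) n hdimA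
      (LocalizedModule m.toIdeal.primeCompl E') f0 hf0
      ((Localization.AtPrime m.toIdeal) ⊗[R] C) eK
    refine ⟨?_, n + 2, hasInjectiveDimensionLT_of_local 𝒜 m hm C 𝒞 n h1⟩
    let ε : (Localization.AtPrime m.toIdeal) ⊗[R] C ≃ₗ[Localization.AtPrime m.toIdeal]
        LocalizedModule m.toIdeal.primeCompl C :=
      (IsLocalizedModule.isBaseChange m.toIdeal.primeCompl (Localization.AtPrime m.toIdeal)
        (LocalizedModule.mkLinearMap m.toIdeal.primeCompl C)).equiv
    unfold LocCoh.IsCohenMacaulayModule LocCoh.depth at h3 ⊢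
    rw [← Module.supportDim_eq_of_equiv ε, ← Groth.Agent.Helper2.DepthCM.idealDepth_congr _ ε]
    exact h3

end Groth.Agent.S18639
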