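import Groth.Statements.S18640
import Mathlib
import Groth.Agent.Helper7.GrGor3
import Groth.Agent.Helper7.GrGor4
import Groth.Agent.Helper7.GrGor8
import Groth.Agent.Helper7.GrHt1

set_option autoImplicit false
universe u
open scoped TensorProduct
open GrLC

namespace Groth.Agent.S18640

/-- Let R be a graded ring defined over a field which is Cohen–Macaulay, with graded maximal ideal m, n
= dim R, residue field k = R/m and canonical module K_R. Then (iii) the type of K_R is 1: the Bass
number μ_n(m, K_R), the k-dimension of Ext^n over R_m of k into (K_R)_m, equals 1; and (iv) the type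
of R, namely μ_n(m, R), equals ν(K_R) = dim_k (K_R / m K_R), the minimal number of generators of K_R
(written as the k-dimension of k ⊗_R K_R). Here 'graded ring defined over a field' means R = ⊕_{n ≥
0} R_n is Noetherian with R_0 a field (so R is finitely generated over R_0), m = R_+ is its unique
graded maximal ideal and n = dim R; the canonical module K_R (the graded dual of H^n_m(R)) is
represented by a finitely generated graded module C together with a homogeneous isomorphism from
Hom_R(C, E) onto H^n_m(R), where E is a *injective envelope of R/m and H^n_m(R) is computed from a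
*injective resolution of R in the graded category; by graded Matlis duality this says exactly that C
≅ K_R as graded modules. -/
theorem result (R : Type u) [CommRing R] [LocCoh.IsCohenMacaulayRing R] (𝒜 : ℤ → AddSubgroup R) [GradedRing 𝒜] (hpos : ∀ n : ℤ, n < 0 → 𝒜 n = ⊥) (h0 : IsField (GrLC.deg0 𝒜)) (m : HomogeneousIdeal 𝒜) (hm : GrLC.IsStarLocal 𝒜 m) (hmsp : m.toIdeal = Ideal.span (⋃ n ∈ Set.Ioi (0 : ℤ), (𝒜 n : Set R))) [m.toIdeal.IsMaximal] (n : ℕ) (hn : ringKrullDim R = n) (I : GrLC.StarInjRes 𝒜 𝒜) (E' : Type u) [AddCommGroup E'] [Module R E'] (𝓔 : ℤ → AddSubgroup E') [DirectSum.Decomposition 𝓔] [SetLike.GradedSMul 𝒜 𝓔] (e : (R ⧸ m.toIdeal) →ₗ[R] E') (he : GrLC.IsStarInjHull 𝒜 (GrLC.quotGr 𝒜 m) 𝓔 e) (C : Type u) [AddCommGroup C] [Module R C] (𝒞 : ℤ → AddSubgroup C) [DirectSum.Decomposition 𝒞] [SetLike.GradedSMul 𝒜 𝒞] (hC : GrLC.IsStarCanonical 𝒜 𝒞 𝓔 m n I) : GrLC.bassNum m.toIdeal C n = 1 ∧ GrLC.bassNum m.toIdeal R n = (Module.finrank (R ⧸ m.toIdeal) ((R ⧸ m.toIdeal) ⊗[R] C) : ℕ∞) := by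
    classical
    open Groth.Agent.Helper7.GrGor Groth.Agent.Helper7.BassNum TensorProduct IsLocalRing in
    haveI hN : IsNoetherianRing R := inferInstance
    letI := h0.toField
    haveI hArt : IsArtinianRing (GrLC.deg0 𝒜) := inferInstance
    obtain ⟨hfin, φ, -⟩ := hC
    haveI := hfin
    haveI hCMA : LocCoh.IsCohenMacaulayLocalRing (Localization.AtPrime m.toIdeal) :=
      LocCoh.IsCohenMacaulayRing.isCohenMacaulayLocalRing_localization m.toIdeal
    have hht : m.toIdeal.height = n := Groth.Agent.Helper7.GrHt.height_eq_dim 𝒜 hpos m hm n hn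
    have hdimA : ringKrullDim (Localization.AtPrime m.toIdeal) = n := by
      rw [IsLocalization.AtPrime.ringKrullDim_eq_height m.toIdeal (Localization.AtPrime m.toIdeal), hht]
      rfl
    obtain ⟨f0, hf0⟩ := exists_isInjectiveHull 𝒜 hpos h0 m hm.1 hmsp 𝓔 e he
    obtain ⟨eK⟩ := nonempty_canon_equiv 𝒜 hpos h0 m hm.1 hmsp 𝓔 e he n I φ
    constructor
    · let ε : (Localization.AtPrime m.toIdeal) ⊗[R] C ≃ₗ[Localization.AtPrime m.toIdeal]
          LocalizedModule m.toIdeal.primeCompl C :=
        (IsLocalizedModule.isBaseChange m.toIdeal.primeCompl (Localization.AtPrime m.toIdeal)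
          (LocalizedModule.mkLinearMap m.toIdeal.primeCompl C)).equiv
      unfold GrLC.bassNum
      rw [← bassNumLocal_congr ε n]
      unfold GrLC.bassNumLocal
      exact length_ext_canon n hdimA (LocalizedModule m.toIdeal.primeCompl E') f0 hf0
        ((Localization.AtPrime m.toIdeal) ⊗[R] C) eK
    · let α₀ : LocalizedModule m.toIdeal.primeCompl R ≃ₗ[R] Localization.AtPrime m.toIdeal :=
        IsLocalizedModule.iso m.toIdeal.primeCompl
          (Algebra.linearMap R (Localization.AtPrime m.toIdeal))
      let α : LocalizedModule m.toIdeal.primeCompl R ≃ₗ[Localization.AtPrime m.toIdeal]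
          Localization.AtPrime m.toIdeal :=
        LinearEquiv.extendScalarsOfIsLocalization m.toIdeal.primeCompl
          (Localization.AtPrime m.toIdeal) α₀
      unfold GrLC.bassNum
      rw [bassNumLocal_congr α n]
      unfold GrLC.bassNumLocal
      rw [← length_residue_tensor m.toIdeal C]
      exact length_ext_self n hdimA (LocalizedModule m.toIdeal.primeCompl E') f0 hf0
        ((Localization.AtPrime m.toIdeal) ⊗[R] C) eK

end Groth.Agent.S18640
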