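import Groth.Statements.S18641
import Mathlib
import Groth.Agent.Helper7.VerGor6

set_option autoImplicit false
universe u
open GrLC

namespace Groth.Agent.S18641

/-- Let R be a graded ring defined over a field which is Gorenstein, and let q ≥ 1 be an integer
dividing the a-invariant a(R). Then the Veronese subring R^(q) is a Gorenstein ring. Here 'graded
ring defined over a field' means R = ⊕_{n ≥ 0} R_n is Noetherian with R_0 a field, and m = R_+ is
its unique graded maximal ideal. The a-invariant a(R) is the largest degree in which the graded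
local cohomology H^n_m(R) (n = dim R, m = R_+), computed from a *injective resolution of R in the
graded category, is nonzero. The Veronese subring R^(q) = ⊕_j R_{jq}, regraded by (R^(q))_j =
R_{jq}, is presented abstractly as a ℤ-graded ring R' with an injective ring homomorphism φ : R' → R
carrying R'_j onto R_{jq} for every j. -/
theorem result (R : Type u) [CommRing R] [LocCoh.IsGorensteinRing R] (𝒜 : ℤ → AddSubgroup R) [GradedRing 𝒜] (hpos : ∀ n : ℤ, n < 0 → 𝒜 n = ⊥) (h0 : IsField (GrLC.deg0 𝒜)) (m : HomogeneousIdeal 𝒜) (hm : GrLC.IsStarLocal 𝒜 m) (hmsp : m.toIdeal = Ideal.span (⋃ n ∈ Set.Ioi (0 : ℤ), (𝒜 n : Set R))) (n : ℕ) (hn : ringKrullDim R = n) (I : GrLC.StarInjRes 𝒜 𝒜) (a : ℤ) (ha : GrLC.endDeg (I.Hgr m n) = ((a : WithTop ℤ) : WithBot (WithTop ℤ))) (q : ℕ) (hq : 0 < q) (R' : Type u) [CommRing R'] (𝒜' : ℤ → AddSubgroup R') [GradedRing 𝒜'] (φ : R' →+* R) (hφ : Function.Injective φ) (hdeg : ∀ j : ℤ, (𝒜' j).map (φ : R' →+ R) = 𝒜 (j * q)) (hdvd : (q : ℤ) ∣ a) : LocCoh.IsGorensteinRing R' := by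
      classical
      open Groth.Agent.Helper7.VerGor in
      haveI hN : IsNoetherianRing R := inferInstance
      let D : Groth.Agent.Helper7.GrVer.VData 𝒜 𝒜' :=
        { φ := φ
          q := q
          hq := hq
          inj := hφ
          map_mem := fun j r' hr' => by
            rw [← hdeg j]
            exact ⟨r', hr', rfl⟩
          exists_mem := fun j r hr => by
            rw [← hdeg j] at hr
            obtain ⟨r', hr', e⟩ := hr
            exact ⟨r', hr', e⟩ }
      obtain ⟨hN', hR', -, hvan, htop⟩ := ring_side 𝒜 hpos h0 m hm n hn I a ha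
      obtain ⟨t', ht'⟩ := hdvd
      have hat : a = t' * (D.q : ℤ) := by rw [ht', mul_comm]
      rw [hat] at hN' hR' htop
      exact ver_gorenstein D hpos h0 m hmsp n I t' hN' hR' htop hvan

end Groth.Agent.S18641
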