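import Groth.Statements.S1865
import Mathlib
import Groth.Agent.Helper2.GrpClopen
open Groth.Agent.Helper2 Groth.Agent.Helper2.GrpClopen
-- import your own Groth.Agent.* helpers here

set_option autoImplicit false
universe u v
open CategoryTheory MonoidalCategory CartesianMonoidalCategory MonObj GrpObj AlgebraicGeometry
open GrpSch

namespace Groth.Agent.S1865

/-- A group scheme over a field contains an open and closed subset containing the identity point which
is a countable union of affine opens. (The source does not mention the identity point; its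
construction contains it, and without it the empty set would do.) -/
theorem result (K : Type u) [Field K] (G : Over (Spec (CommRingCat.of K))) [GrpObj G] : ∃ U : G.left.Opens, IsClosed (U : Set G.left) ∧ η[G].left (IsLocalRing.closedPoint K) ∈ U ∧ ∃ V : ℕ → G.left.Opens, (∀ n, IsAffineOpen (V n)) ∧ (U : Set G.left) = ⋃ n, (V n : Set G.left) := by
  let pt : ↥(𝟙_ (Over (Spec (CommRingCat.of K)))).left := IsLocalRing.closedPoint K
  obtain ⟨U0, hU0, heU0⟩ : ∃ U0 : G.left.Opens, IsAffineOpen U0 ∧ η[G].left pt ∈ U0 := by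
    obtain ⟨_, ⟨U, hU, rfl⟩, heU, -⟩ := G.left.isBasis_affineOpens.exists_subset_of_mem_open
      (Set.mem_univ (η[G].left pt)) isOpen_univ
    exact ⟨U, hU, heU⟩
  have hcl := isClosed_iUnion G U0 pt heU0
  -- finite affine covers of each W n
  have hfin : ∀ n, ∃ s : Set G.left.affineOpens, s.Finite ∧ W G U0 n = ⨆ i ∈ s, (i : G.left.Opens) :=
    fun n => isCompact_iff_finite_and_eq_biUnion_affineOpens.mp (isCompact_W G U0 hU0 n)
  choose s hs1 hs2 using hfin
  let 𝒜 : Set G.left.affineOpens := ⋃ n, s n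
  have h𝒜c : 𝒜.Countable := Set.countable_iUnion fun n => (hs1 n).countable
  have h𝒜ne : 𝒜.Nonempty := by
    have h0 : η[G].left pt ∈ (W G U0 0 : G.left.Opens) := heU0
    rw [hs2 0] at h0
    simp only [TopologicalSpace.Opens.mem_iSup] at h0
    obtain ⟨i, hi, -⟩ := h0
    exact ⟨i, Set.mem_iUnion.mpr ⟨0, hi⟩⟩
  obtain ⟨f, hf⟩ := h𝒜c.exists_eq_range h𝒜ne
  refine ⟨⨆ n, W G U0 n, ?_, ?_, fun n => (f n : G.left.Opens), fun n => (f n).2, ?_⟩
  · have : ((⨆ n, W G U0 n : G.left.Opens) : Set G.left) = ⋃ n, (W G U0 n : Set G.left) := by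
      simp
    rw [this]
    exact hcl
  · exact TopologicalSpace.Opens.mem_iSup.mpr ⟨0, heU0⟩
  · have : ((⨆ n, W G U0 n : G.left.Opens) : Set G.left) = ⋃ n, (W G U0 n : Set G.left) := by
      simp
    rw [this]
    apply Set.Subset.antisymm
    · intro y hy
      obtain ⟨n, hn⟩ := Set.mem_iUnion.mp hy
      have hn' : y ∈ (W G U0 n : G.left.Opens) := hn
      rw [hs2 n] at hn'
      simp only [TopologicalSpace.Opens.mem_iSup] at hn'
      obtain ⟨i, hi, hyi⟩ := hn'
      have : i ∈ Set.range f := by rw [← hf]; exact Set.mem_iUnion.mpr ⟨n, hi⟩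
      obtain ⟨m, rfl⟩ := this
      exact Set.mem_iUnion.mpr ⟨m, hyi⟩
    · intro y hy
      obtain ⟨m, hm⟩ := Set.mem_iUnion.mp hy
      have : f m ∈ 𝒜 := by rw [hf]; exact ⟨m, rfl⟩
      obtain ⟨n, hn⟩ := Set.mem_iUnion.mp this
      refine Set.mem_iUnion.mpr ⟨n, ?_⟩
      change y ∈ (W G U0 n : G.left.Opens)
      rw [hs2 n]
      simp only [TopologicalSpace.Opens.mem_iSup]
      exact ⟨f m, hn, hm⟩

end Groth.Agent.S1865
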