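import Groth.Statements.S18650
import Mathlib
import Groth.Agent.Helper7.GTS6
import Groth.Agent.Helper7.GTS5
import Groth.Agent.Helper7.GrAcy3
import Groth.Agent.Helper6.GrH

set_option autoImplicit false
universe u
open GrLC

namespace Groth.Agent.S18650

/-- The case M = R of the published statement. Let R be a commutative Noetherian ℤ-graded ring which is
H-local, i.e. has a unique maximal graded ideal m, and which is Cohen–Macaulay, with ht m = n. Then
R is a Gorenstein ring if and only if the graded local cohomology module H^n_m(R) is an injective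
object of the category of graded R-modules. Here H^n_m(R) is computed from a *injective resolution I
of R in the graded category, and its *injectivity is expressed as the existence of a *injective
graded R-module X and an R-linear isomorphism H^n_m(R) ≅ X preserving degrees. (The published item
is stated for a Cohen–Macaulay graded module M and the notion of Gorenstein module; this row is its
case M = R.) -/
theorem result (R : Type u) [CommRing R] [LocCoh.IsCohenMacaulayRing R] (𝒜 : ℤ → AddSubgroup R) [GradedRing 𝒜] (m : HomogeneousIdeal 𝒜) (hm : GrLC.IsStarLocal 𝒜 m) (n : ℕ) (hn : m.toIdeal.height = n) (I : GrLC.StarInjRes 𝒜 𝒜) : LocCoh.IsGorensteinRing R ↔ ∃ (X : GrLC.GMod.{u} 𝒜) (φ : I.H m n ≃ₗ[R] X.carrier), GrLC.IsStarInj 𝒜 X.gr ∧ GrLC.IsGrHom (I.Hgr m n) X.gr φ.toLinearMap := by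
    classical
    haveI : IsNoetherianRing R := inferInstance
    haveI hmp : m.toIdeal.IsPrime := Groth.Agent.Helper7.GTS.isPrime_of_isStarLocal 𝒜 m hm
    have hdimA : ringKrullDim (Localization.AtPrime m.toIdeal) = n := by
      rw [IsLocalization.AtPrime.ringKrullDim_eq_height m.toIdeal, hn]
      rfl
    obtain ⟨e4⟩ := Groth.Agent.Helper7.GrAcy.nonempty_H_equiv m I n
    letI dec : DirectSum.Decomposition (I.Hgr m n) :=
      (Groth.Agent.Helper6.GrH.Hgr_isInternal 𝒜 𝒜 m I n).chooseDecomposition
    haveI gsm : SetLike.GradedSMul 𝒜 (I.Hgr m n) := Groth.Agent.Helper7.GTS.gradedSMul_Hgr' m I n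
    constructor
    · intro hG
      haveI : LocCoh.IsGorensteinLocalRing (Localization.AtPrime m.toIdeal) :=
        hG.isGorensteinLocalRing_localization m.toIdeal
      obtain ⟨hL, -⟩ := Groth.Agent.Helper7.GTS.gor_top_loc m.toIdeal n hdimA (I.H m n) e4
      have hStar : GrLC.IsStarInj 𝒜 (I.Hgr m n) :=
        Groth.Agent.Helper7.GTS.isStarInj_of_baer 𝒜 _
          (fun J hJ g δ hg => Groth.Agent.Helper7.GTS.graded_baer 𝒜 m hm _ hL J hJ g δ hg)
      exact ⟨GrLC.GMod.of 𝒜 (I.H m n) (I.Hgr m n), LinearEquiv.refl R _, hStar, fun _ _ hx => hx⟩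
    · rintro ⟨X, φ, hX, hφ⟩
      haveI hcmA : LocCoh.IsCohenMacaulayLocalRing (Localization.AtPrime m.toIdeal) :=
        LocCoh.IsCohenMacaulayRing.isCohenMacaulayLocalRing_localization m.toIdeal
      have hbass : ∀ (q : HomogeneousIdeal 𝒜) [q.toIdeal.IsPrime] (i : ℕ), 1 ≤ i →
          GrLC.bassNum q.toIdeal (I.H m n) i = 0 := by
        intro q _ i hi
        rw [Groth.Agent.Helper7.BassSoc.bassNum_congr q.toIdeal φ i]
        exact Groth.Agent.Helper7.BassSoc.bassNum_eq_zero_of_isStarInj 𝒜 q X.gr hX i hi
      have hinj := Groth.Agent.Helper7.GTS.injective_localized_of_bassNum 𝒜 m hm (I.Hgr m n)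
        (Groth.Agent.Helper7.GTS.H_torsion' m I n) hbass
      obtain ⟨e67⟩ := Groth.Agent.Helper7.GTS.nonempty_localized_lc_equiv' m.toIdeal n
      let e0 : LocalizedModule m.toIdeal.primeCompl (I.H m n) ≃ₗ[Localization.AtPrime m.toIdeal]
          LocalizedModule m.toIdeal.primeCompl (LocCoh.H m.toIdeal n R) :=
        IsLocalizedModule.mapEquiv m.toIdeal.primeCompl
          (LocalizedModule.mkLinearMap m.toIdeal.primeCompl (I.H m n))
          (LocalizedModule.mkLinearMap m.toIdeal.primeCompl (LocCoh.H m.toIdeal n R))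
          (Localization.AtPrime m.toIdeal) e4
      have hinj' : Module.Injective (Localization.AtPrime m.toIdeal)
          (LocCoh.H (IsLocalRing.maximalIdeal (Localization.AtPrime m.toIdeal)) n
            (Localization.AtPrime m.toIdeal)) :=
        (Module.Baer.of_equiv (e0.trans e67) (Module.Baer.of_injective hinj)).injective
      have hGloc : LocCoh.IsGorensteinLocalRing (Localization.AtPrime m.toIdeal) :=
        (Groth.Agent.S11175.result (Localization.AtPrime m.toIdeal)).2
          ⟨n, fun i hi => Groth.Agent.Helper7.GTS.subsingleton_lc_of_cm _ n hdimA i hi, hinj'⟩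
      exact Groth.Agent.Helper7.GrGor.isGorensteinRing_of_local 𝒜 m hm hGloc

end Groth.Agent.S18650
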