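import Groth.Statements.S18651
import Mathlib
import Groth.Agent.Helper7.GrDu7
import Groth.Agent.Helper7.GrWPoly2
import Groth.Agent.Helper7.GrDu4
import Groth.Agent.Helper7.KunP2
import Groth.Agent.Helper7.KunX

set_option autoImplicit false
universe u
attribute [local instance] MvPolynomial.weightedGradedAlgebra
open GrLC

namespace Groth.Agent.S18651

/-- Let k be a field and R = k[X_1, …, X_N] the polynomial ring with deg X_i = w_i > 0. Then the
canonical module of R is K_R = X_1 X_2 ⋯ X_N · R ≅ R(−d) with d = w_1 + ⋯ + w_N; stated here as: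
there is a bijective R-linear map R → K_R homogeneous of degree d. The canonical module is
represented by a finitely generated graded module C together with a homogeneous isomorphism from
Hom_R(C, E) onto H^N_m(R), where m = R_+, E is a *injective envelope of R/m and H^N_m(R) is computed
from a *injective resolution of R in the graded category; by graded Matlis duality this says exactly
that C ≅ K_R as graded modules. -/
theorem result (k : Type u) [Field k] (N : ℕ) (w : Fin N → ℤ) (hw : ∀ i, 0 < w i) (m : HomogeneousIdeal (MvPolynomial.weightedHomogeneousSubmodule k w)) (hm : GrLC.IsStarLocal (MvPolynomial.weightedHomogeneousSubmodule k w) m) (hmsp : m.toIdeal = Ideal.span (⋃ n ∈ Set.Ioi (0 : ℤ), (MvPolynomial.weightedHomogeneousSubmodule k w n : Set (MvPolynomial (Fin N) k)))) (I : GrLC.StarInjRes (MvPolynomial.weightedHomogeneousSubmodule k w) (MvPolynomial.weightedHomogeneousSubmodule k w)) (E' : Type u) [AddCommGroup E'] [Module (MvPolynomial (Fin N) k) E'] (𝓔 : ℤ → AddSubgroup E') [DirectSum.Decomposition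 𝓔] [SetLike.GradedSMul (MvPolynomial.weightedHomogeneousSubmodule k w) 𝓔] (e : (MvPolynomial (Fin N) k ⧸ m.toIdeal) →ₗ[MvPolynomial (Fin N) k] E') (he : GrLC.IsStarInjHull (MvPolynomial.weightedHomogeneousSubmodule k w) (GrLC.quotGr (MvPolynomial.weightedHomogeneousSubmodule k w) m) 𝓔 e) (C : Type u) [AddCommGroup C] [Module (MvPolynomial (Fin N) k) C] (𝒞 : ℤ → AddSubgroup C) [DirectSum.Decomposition 𝒞] [SetLike.GradedSMul (MvPolynomial.weightedHomogeneousSubmodule k w) 𝒞] (hC : GrLC.IsStarCanonical (MvPolynomial.weightedHomogeneousSubmodule k w) 𝒞 𝓔 m N I) : ∃ f : MvPolynomial (Fin N) k →ₗ[MvPolynomial (Fin N) k] C, Function.Bijective f ∧ GrLC.IsGrHomDeg (MvPolynomial.weightedHomogeneousSubmodule k w) 𝒞 f ((Finset.univ : Finset (Fin N)).sum w) := by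
    haveI : SetLike.GradedSMul (Groth.Agent.Helper7.Kun.plus (MvPolynomial.weightedHomogeneousSubmodule k w)) 𝓔 :=
      Groth.Agent.Helper7.Kun.gradedSMul_plus (MvPolynomial.weightedHomogeneousSubmodule k w) 𝓔
    haveI : SetLike.GradedSMul (Groth.Agent.Helper7.Kun.plus (MvPolynomial.weightedHomogeneousSubmodule k w)) 𝒞 :=
      Groth.Agent.Helper7.Kun.gradedSMul_plus (MvPolynomial.weightedHomogeneousSubmodule k w) 𝒞
    haveI : SetLike.GradedSMul (MvPolynomial.weightedHomogeneousSubmodule k w)
        (Groth.Agent.Helper7.Kun.plus (MvPolynomial.weightedHomogeneousSubmodule k w)) :=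
      Groth.Agent.Helper7.Kun.gradedSMul_self (MvPolynomial.weightedHomogeneousSubmodule k w)
    have hC' : GrLC.IsStarCanonical (Groth.Agent.Helper7.Kun.plus (MvPolynomial.weightedHomogeneousSubmodule k w)) 𝒞 𝓔
        (Groth.Agent.Helper7.Kun.idealPlus (MvPolynomial.weightedHomogeneousSubmodule k w) m) N
        (Groth.Agent.Helper7.Kun.resPlus (MvPolynomial.weightedHomogeneousSubmodule k w)
          (Groth.Agent.Helper7.Kun.resSelf (MvPolynomial.weightedHomogeneousSubmodule k w) I)) := by
      obtain ⟨hfin, φ, hφ⟩ := hC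
      exact ⟨hfin, φ, fun d f hf => hφ d f hf⟩
    have hdim : ringKrullDim (MvPolynomial (Fin N) k) = N := by
      rw [MvPolynomial.ringKrullDim_of_isNoetherianRing, ringKrullDim_eq_zero_of_field]
      simp
    have hH := (Groth.Agent.Helper7.WPoly.hilb_poly k N w hw
      (Groth.Agent.Helper7.Kun.idealPlus (MvPolynomial.weightedHomogeneousSubmodule k w) m) hmsp
      (Groth.Agent.Helper7.Kun.resPlus (MvPolynomial.weightedHomogeneousSubmodule k w)
          (Groth.Agent.Helper7.Kun.resSelf (MvPolynomial.weightedHomogeneousSubmodule k w) I))).2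
    obtain ⟨f, hf, hfd⟩ := Groth.Agent.Helper7.GrDu.exists_bijective_of_hilb
      (Groth.Agent.Helper7.Kun.plus (MvPolynomial.weightedHomogeneousSubmodule k w))
      (Groth.Agent.Helper7.WPoly.plus_eq_bot k N w hw)
      (Groth.Agent.Helper7.Kun.deg0_isField (Groth.Agent.Helper7.WPoly.h0 k w hw))
      (Groth.Agent.Helper7.Kun.idealPlus (MvPolynomial.weightedHomogeneousSubmodule k w) m)
      (Groth.Agent.Helper7.Kun.isStarLocal_idealPlus (MvPolynomial.weightedHomogeneousSubmodule k w)
        (Groth.Agent.Helper7.WPoly.hpos k w hw) (Groth.Agent.Helper7.WPoly.h0 k w hw) m hmsp).1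
      𝓔 e (Groth.Agent.Helper7.GrDu.isStarInjHull_plus (MvPolynomial.weightedHomogeneousSubmodule k w) m 𝓔 e he)
      𝒞 N hdim _ hC' (∑ i, w i) hH
    exact ⟨f, hf, fun g r hr => hfd g r hr⟩

end Groth.Agent.S18651
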