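import Groth.Statements.S18658
import Mathlib
import Groth.Agent.Helper7.GrDu9
import Groth.Agent.Helper7.GrVer9
import Groth.Agent.Helper7.GrDel6
import Groth.Agent.Helper6.GrH

set_option autoImplicit false
universe u
open GrLC

namespace Groth.Agent.S18658

/-- Let R be a graded ring defined over a field, q ≥ 1, and R' = R^(q) its Veronese subring. Then K_{R'}
= (K_R)^(q): the canonical module of R' is the Veronese submodule ⊕_j (K_R)_{jq} of the canonical
module of R. Stated here as: for canonical modules C of R and C' of R' there is an injective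
additive map g : C' → C, semilinear over the inclusion φ : R' → R, carrying C'_j onto C_{jq} for
every j. Here 'graded ring defined over a field' means R = ⊕_{n ≥ 0} R_n is Noetherian with R_0 a
field, and m = R_+ is its unique graded maximal ideal. Both R and R' have dimension n = dim R; the
canonical module of each is represented by a finitely generated graded module together with a
homogeneous isomorphism from its Hom into a *injective envelope of the residue field onto the top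
graded local cohomology H^n of the ring with support in its irrelevant ideal, computed from a
*injective resolution in the graded category (by graded Matlis duality this pins the module up to
graded isomorphism). The Veronese subring R^(q) = ⊕_j R_{jq}, regraded by (R^(q))_j = R_{jq}, is
presented abstractly as a ℤ-graded ring R' with an injective ring homomorphism φ : R' → R carrying
R'_j onto R_{jq} for every j. -/
theorem result (R : Type u) [CommRing R] [IsNoetherianRing R] (𝒜 : ℤ → AddSubgroup R) [GradedRing 𝒜] (hpos : ∀ n : ℤ, n < 0 → 𝒜 n = ⊥) (h0 : IsField (GrLC.deg0 𝒜)) (m : HomogeneousIdeal 𝒜) (hm : GrLC.IsStarLocal 𝒜 m) (hmsp : m.toIdeal = Ideal.span (⋃ n ∈ Set.Ioi (0 : ℤ), (𝒜 n : Set R))) (n : ℕ) (hn : ringKrullDim R = n) (I : GrLC.StarInjRes 𝒜 𝒜) (E' : Type u) [AddCommGroup E'] [Module R E'] (𝓔 : ℤ → AddSubgroup E') [DirectSum.Decomposition 𝓔] [SetLike.GradedSMul 𝒜 𝓔] (e : (R ⧸ m.toIdeal) →ₗ[R] E') (he : GrLC.IsStarInjHull 𝒜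 (GrLC.quotGr 𝒜 m) 𝓔 e) (C : Type u) [AddCommGroup C] [Module R C] (𝒞 : ℤ → AddSubgroup C) [DirectSum.Decomposition 𝒞] [SetLike.GradedSMul 𝒜 𝒞] (hC : GrLC.IsStarCanonical 𝒜 𝒞 𝓔 m n I) (q : ℕ) (hq : 0 < q) (R' : Type u) [CommRing R'] (𝒜' : ℤ → AddSubgroup R') [GradedRing 𝒜'] (φ : R' →+* R) (hφ : Function.Injective φ) (hdeg : ∀ j : ℤ, (𝒜' j).map (φ : R' →+ R) = 𝒜 (j * q)) (m' : HomogeneousIdeal 𝒜') (hm' : GrLC.IsStarLocal 𝒜' m') (hm'sp : m'.toIdeal = Ideal.span (⋃ j ∈ Set.Ioi (0 : ℤ), (𝒜' j : Set R'))) (I' : GrLC.StarInjRes 𝒜' 𝒜') (E'' : Type u) [AddCommGroup E''] [Module R' E''] (𝓔'' : ℤ → AddSubgroup E'') [DirectSum.Decomposition 𝓔''] [SetLike.GradedSMul 𝒜' 𝓔''] (e' : (R' ⧸ m'.toIdeal) →ₗ[R'] E'') (he' : GrLC.IsStarInjHull 𝒜' (GrLC.quotGr 𝒜' m') 𝓔'' e') (C' : Type u) [AddCommGroup C'] [Module R' C'] (𝒞' : ℤ → AddSubgroup C') [DirectSum.Decomposition 𝒞'] [SetLike.GradedSMul 𝒜' 𝒞'] (hC' : GrLC.IsStarCanonical 𝒜' 𝒞' 𝓔'' m' n I') : ∃ g : C' →ₛₗ[φ]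 C, Function.Injective g ∧ ∀ j : ℤ, (𝒞' j).map (g : C' →+ C) = 𝒞 (j * q) := by
    classical
    let D : Groth.Agent.Helper7.GrVer.VData 𝒜 𝒜' :=
      { φ := φ
        q := q
        hq := hq
        inj := hφ
        map_mem := fun j r' hr' => by
          rw [← hdeg j]
          exact ⟨r', hr', rfl⟩
        exists_mem := fun j r hr => by
          rw [← hdeg j] at hr
          obtain ⟨r', hr', e⟩ := hr
          exact ⟨r', hr', e⟩ }
    haveI : IsNoetherianRing R' := Groth.Agent.Helper7.GrVer.isNoetherianRing_of_vdata D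
    have hpos' : ∀ j : ℤ, j < 0 → 𝒜' j = ⊥ := by
      intro j hj
      rw [eq_bot_iff]
      intro x hx
      have h1 : φ x ∈ 𝒜 (j * q) := D.map_mem j x hx
      have hneg : j * (q : ℤ) < 0 := mul_neg_of_neg_of_pos hj (by exact_mod_cast hq)
      rw [hpos _ hneg] at h1
      have h2 : φ x = 0 := (AddSubgroup.mem_bot).mp h1
      exact (AddSubgroup.mem_bot).mpr (hφ (h2.trans (map_zero φ).symm))
    have h0' : IsField (GrLC.deg0 𝒜') := by
      have hmem : ∀ x ∈ GrLC.deg0 𝒜', φ x ∈ GrLC.deg0 𝒜 := by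
        intro x hx
        have := D.map_mem 0 x hx
        rwa [zero_mul] at this
      let ρ : GrLC.deg0 𝒜' →+* GrLC.deg0 𝒜 := φ.restrict (GrLC.deg0 𝒜') (GrLC.deg0 𝒜) hmem
      have hρ : Function.Bijective ρ := by
        constructor
        · intro a b hab
          exact Subtype.ext (hφ (congrArg Subtype.val hab))
        · rintro ⟨r, hr⟩
          have hr' : r ∈ 𝒜 (0 * (q : ℤ)) := by rw [zero_mul]; exact hr
          obtain ⟨r', hr'm, e⟩ := D.exists_mem 0 r hr'
          exact ⟨⟨r', hr'm⟩, Subtype.ext e⟩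
      exact (RingEquiv.ofBijective ρ hρ).toMulEquiv.isField h0
    obtain ⟨hfin, Φ, hΦ⟩ := hC
    obtain ⟨hfin', Φ', hΦ'⟩ := hC'
    haveI := hfin
    haveI := hfin'
    obtain ⟨P⟩ := Groth.Agent.Helper7.GrDu.nonempty_dualPair 𝒜 hpos h0 m hm.1 𝓔 e he 𝒞
      (fun d => I.Hcomp m n d) (Groth.Agent.Helper6.GrH.Hgr_isInternal 𝒜 𝒜 m I n) Φ
      (fun d f hf => hΦ d f hf)
    obtain ⟨P'⟩ := Groth.Agent.Helper7.GrDu.nonempty_dualPair 𝒜' hpos' h0' m' hm'.1 𝓔'' e' he' 𝒞'
      (fun d => I'.Hcomp m' n d) (Groth.Agent.Helper6.GrH.Hgr_isInternal 𝒜' 𝒜' m' I' n) Φ'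
      (fun d f hf => hΦ' d f hf)
    obtain ⟨θ, hθi, hθ1, hθ2⟩ :=
      Groth.Agent.Helper7.GrVer.exists_theta_ring D m hmsp m' hm'sp I I' n
    have hsm' : ∀ (i d : ℤ) (r' : R') (h' : I'.H m' n), r' ∈ 𝒜' i → h' ∈ I'.Hgr m' n d →
        r' • h' ∈ I'.Hgr m' n (i + d) := by
      intro i d r' h' hr' hh'
      have := Groth.Agent.Helper7.GrDel.smul_mem_Hgr hr' n d h' hh'
      rwa [add_comm] at this
    obtain ⟨g, hg, hgj⟩ := Groth.Agent.Helper7.GrDu.exists_semilinear D 𝒞 𝒞' (I.Hgr m n)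
      (I'.Hgr m' n) hsm' P P' θ hθi hθ1 hθ2
    exact ⟨g, hg, hgj⟩

end Groth.Agent.S18658
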