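import Groth.Statements.S18672
import Mathlib
import Groth.Agent.Helper9.GrStd
-- import your own Groth.Agent.* helpers here

set_option autoImplicit false
universe u
open GrLC

namespace Groth.Agent.S18672

/-- Let R be a graded ring defined over a field k = R_0 which is Cohen–Macaulay and generated over k by
R_1 (the standing hypotheses of this section; only generation in degree one is used), q ≥ 1, R' =
R^(q), and a an integer. Then the Veronese submodule [R(a)]^(q) = ⊕_j R_{a+jq} is generated over R'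
by its piece R(a)_n = R_{a+n}, where n is the smallest multiple of q with n + a ≥ 0. Here 'graded
ring defined over a field' means R = ⊕_{n ≥ 0} R_n is Noetherian with R_0 a field, and m = R_+ is
its unique graded maximal ideal. The Veronese subring R^(q) = ⊕_j R_{jq}, regraded by (R^(q))_j =
R_{jq}, is presented abstractly as a ℤ-graded ring R' with an injective ring homomorphism φ : R' → R
carrying R'_j onto R_{jq} for every j. The module [R(a)]^(q) is presented as a graded R'-module M'
with an injective additive map g : M' → R, semilinear over φ, carrying M'_j onto R_{a+jq} for every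
j; with n = j₀q, the conclusion is that the R'-span of M'_{j₀} is all of M'. -/
theorem result (R : Type u) [CommRing R] [LocCoh.IsCohenMacaulayRing R] (𝒜 : ℤ → AddSubgroup R) [GradedRing 𝒜] (hpos : ∀ n : ℤ, n < 0 → 𝒜 n = ⊥) (h0 : IsField (GrLC.deg0 𝒜)) (hstd : Ideal.span (⋃ n ∈ Set.Ioi (0 : ℤ), (𝒜 n : Set R)) = Ideal.span ((𝒜 1 : AddSubgroup R) : Set R)) (q : ℕ) (hq : 0 < q) (R' : Type u) [CommRing R'] (𝒜' : ℤ → AddSubgroup R') [GradedRing 𝒜'] (φ : R' →+* R) (hφ : Function.Injective φ) (hdeg : ∀ j : ℤ, (𝒜' j).map (φ : R' →+ R) = 𝒜 (j * q)) (a : ℤ) (M' : Type u) [AddCommGroup M'] [Module R' M'] (ℳ' : ℤ → AddSubgroup M') [DirectSum.Decomposition ℳ'] [SetLike.GradedSMul 𝒜' ℳ'] (g : M' →ₛₗ[φ] R) (hg : Function.Injective g) (hgdeg : ∀ j : ℤ, (ℳ' j).map (g : M' →+ R) = 𝒜 (a + j * q)) (j₀ : ℤ) (hj₀ : 0 ≤ a + j₀ * q) (hj₀' : a + (j₀ - 1) * q < 0) : Submodule.span R' ((ℳ' j₀ : AddSubgroup M') : Set M') = ⊤ := by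
  classical
  -- every homogeneous piece lies in the span
  have hpiece : ∀ j : ℤ, ∀ x ∈ ℳ' j,
      x ∈ Submodule.span R' ((ℳ' j₀ : AddSubgroup M') : Set M') := by
    intro j x hx
    have hgx : g x ∈ 𝒜 (a + j * q) := by
      rw [← hgdeg j]
      exact ⟨x, hx, rfl⟩
    by_cases hj : j < j₀
    · -- the piece is zero
      have hneg : a + j * q < 0 := by
        have h1 : j * (q : ℤ) ≤ (j₀ - 1) * q := by
          apply mul_le_mul_of_nonneg_right (by omega) (by positivity)
        omega
      rw [hpos _ hneg, AddSubgroup.mem_bot] at hgx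
      have : x = 0 := hg (by rw [hgx, map_zero])
      rw [this]
      exact Submodule.zero_mem _
    · push Not at hj
      obtain ⟨t, ht⟩ : ∃ t : ℕ, (t : ℤ) = j - j₀ := ⟨(j - j₀).toNat, by omega⟩
      have hdegeq : a + j * q = (a + j₀ * q) + ((t * q : ℕ) : ℤ) := by
        push_cast
        rw [ht]; ring
      rw [hdegeq] at hgx
      have hcl := Groth.Agent.Helper9.GrStd.add_le 𝒜 hstd (a + j₀ * q) hj₀ (t * q) hgx
      have key : ∀ z ∈ AddSubgroup.closure
          (Groth.Agent.Helper9.GrStd.prodSet 𝒜 (a + j₀ * q) ((t * q : ℕ) : ℤ)),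
          ∃ y ∈ Submodule.span R' ((ℳ' j₀ : AddSubgroup M') : Set M'), g y = z := by
        intro z hz
        induction hz using AddSubgroup.closure_induction with
        | mem z hz =>
          obtain ⟨u, hu, v, hv, rfl⟩ := hz
          rw [← hgdeg j₀] at hu
          obtain ⟨m₀, hm₀, rfl⟩ := hu
          have hv' : v ∈ 𝒜 ((t : ℤ) * q) := by
            have : ((t * q : ℕ) : ℤ) = (t : ℤ) * q := by push_cast; ring
            rwa [this] at hv
          rw [← hdeg (t : ℤ)] at hv'
          obtain ⟨r', _, rfl⟩ := hv'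
          refine ⟨r' • m₀, Submodule.smul_mem _ _ (Submodule.subset_span hm₀), ?_⟩
          rw [map_smulₛₗ, smul_eq_mul, mul_comm]
          rfl
        | zero => exact ⟨0, Submodule.zero_mem _, map_zero _⟩
        | add u v _ _ hu hv =>
          obtain ⟨y₁, hy₁, rfl⟩ := hu
          obtain ⟨y₂, hy₂, rfl⟩ := hv
          exact ⟨y₁ + y₂, Submodule.add_mem _ hy₁ hy₂, map_add _ _ _⟩
        | neg u _ hu =>
          obtain ⟨y₁, hy₁, rfl⟩ := hu
          exact ⟨-y₁, Submodule.neg_mem _ hy₁, map_neg _ _⟩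
      obtain ⟨y, hy, hyx⟩ := key _ hcl
      have : y = x := hg hyx
      rwa [this] at hy
  rw [eq_top_iff]
  intro m _
  rw [← DirectSum.sum_support_decompose ℳ' m]
  exact Submodule.sum_mem _ fun i _ => hpiece i _ (DirectSum.decompose ℳ' m i).2

end Groth.Agent.S18672
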