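import Groth.Statements.S18704
import Mathlib
import Groth.Agent.Helper9.DepthS2
import Groth.Agent.S18702
import Groth.Agent.S18703
-- import your own Groth.Agent.* helpers here

set_option autoImplicit false
universe u
open QGor

namespace Groth.Agent.S18704

/-- Affine form. Let A be a Noetherian ring with Serre's condition (S_2), I an ideal with ht I ≥ 2
(every prime containing I has height ≥ 2), and G a finite A-module with G_p reflexive for every
prime p not containing I. Then the following are equivalent: (i) G has (S_2) and dim Supp(G_p) ≥ 2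
for every prime p ⊇ I in Supp G; (ii) depth_I G ≥ 2; (iii) G is reflexive. -/
theorem result (A : Type u) [CommRing A] [IsNoetherianRing A]
    (hA : LocCoh.HasSk 2 A A) (I : Ideal A) (hI : 2 ≤ I.height)
    (G : Type u) [AddCommGroup G] [Module A G] [Module.Finite A G]
    (hU : ∀ p : PrimeSpectrum A, ¬ I ≤ p.asIdeal →
      Module.IsReflexive (Localization.AtPrime p.asIdeal) (LocalizedModule p.asIdeal.primeCompl G)) :
    ((LocCoh.HasSk 2 A G ∧ ∀ p : PrimeSpectrum A, I ≤ p.asIdeal → p ∈ Module.support A G →
        (2 : WithBot ℕ∞) ≤ Module.supportDim (Localization.AtPrime p.asIdeal) (LocalizedModule p.asIdeal.primeCompl G)) ↔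
      2 ≤ LocCoh.idealDepth I G) ∧
    (2 ≤ LocCoh.idealDepth I G ↔ Module.IsReflexive A G) := by
  open Groth.Agent.Helper9.DepthKer Groth.Agent.Helper9.ReflKer Groth.Agent.Helper9.DepthS2
    Groth.Agent.Helper9.DepthLoc LocCoh Module in
  classical
  have c2 : ∀ x : ℕ∞, ((2 : ℕ) : WithBot ℕ∞) ≤ (x : WithBot ℕ∞) ↔ (2 : ℕ∞) ≤ x := by
    intro x
    rw [show ((2 : ℕ) : WithBot ℕ∞) = ((2:ℕ∞) : WithBot ℕ∞) from rfl, WithBot.coe_le_coe]
  have c2' : ∀ x : ℕ∞, (2 : WithBot ℕ∞) ≤ (x : WithBot ℕ∞) ↔ (2 : ℕ∞) ≤ x := by
    intro x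
    rw [show (2 : WithBot ℕ∞) = ((2:ℕ∞) : WithBot ℕ∞) from rfl, WithBot.coe_le_coe]
  have c22 : ((2 : ℕ) : WithBot ℕ∞) = (2 : WithBot ℕ∞) := by norm_num
  have hA2 : 2 ≤ idealDepth I A := by
    apply two_le_idealDepth_of_local I A
    intro p _ hIp hnt
    have h := hA p
    rw [supportDim_locSelf p] at h
    have hh : (2 : ℕ∞) ≤ p.height := le_trans hI (Ideal.height_mono hIp)
    rw [min_eq_left ((c2 _).mpr hh)] at h
    exact (c2 _).mp h
  refine ⟨⟨?_, ?_⟩, ⟨?_, ?_⟩⟩
  · rintro ⟨hS, hcod⟩
    apply two_le_idealDepth_of_local I G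
    intro p hpp hIp hnt
    have hsupp : (⟨p, hpp⟩ : PrimeSpectrum A) ∈ Module.support A G :=
      Module.mem_support_iff.mpr hnt
    have hc : (2 : WithBot ℕ∞) ≤ supportDim (Localization.AtPrime p)
        (LocalizedModule p.primeCompl G) := hcod ⟨p, hpp⟩ hIp hsupp
    have h := hS p
    rw [c22, min_eq_left hc] at h
    exact (c2' _).mp h
  · intro h2
    refine ⟨?_, ?_⟩
    · intro q hq
      by_cases hnt : Nontrivial (LocalizedModule q.primeCompl G)
      · by_cases hIq : I ≤ q
        · have h3 := le_depth_loc I G 2 (by exact_mod_cast h2) q hIq hnt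
          refine le_trans (min_le_left _ _) ?_
          exact (c2 _).mpr (by exact_mod_cast h3)
        · haveI := hU ⟨q, hq⟩ hIq
          have hS := Groth.Agent.S18702.result (Localization.AtPrime q)
            (IsLocalRing.maximalIdeal (Localization.AtPrime q)) (LocalizedModule q.primeCompl G)
          have hAq := hA q
          have hD : Module.supportDim (Localization.AtPrime q) (LocalizedModule q.primeCompl G) ≤
              Module.supportDim (Localization.AtPrime q) (LocalizedModule q.primeCompl A) := by
            rw [Module.supportDim_eq_of_equiv (locSelfEquiv q),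
              Module.supportDim_self_eq_ringKrullDim]
            exact Module.supportDim_le_ringKrullDim _ _
          refine hnum 2 (Or.inr rfl) _ _ hD _ _ ?_ ?_ hAq
          · intro h
            unfold LocCoh.depth at h ⊢
            rw [idealDepth_congr _ (locSelfEquiv q)] at h
            exact hS.1 h
          · intro h
            unfold LocCoh.depth at h ⊢
            rw [idealDepth_congr _ (locSelfEquiv q)] at h
            exact hS.2.1 h
      · rw [not_nontrivial_iff_subsingleton] at hnt
        rw [depth_eq_top_of_subsingleton]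
        exact le_trans (min_le_left _ _) le_top
    · intro p hIp hp
      haveI := p.isPrime
      refine le_trans ?_ (idealDepth_le_supportDim I G p.asIdeal hIp hp)
      exact (c2' _).mpr h2
  · intro h2
    exact Groth.Agent.S18703.result A I (le_trans (by norm_num) hA2) G hU h2
  · intro hrefl
    exact (Groth.Agent.S18702.result A I G).2.1 hA2

end Groth.Agent.S18704
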