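import Groth.Statements.S18731
import Mathlib
import Groth.Agent.Helper9.IdealComap
-- import your own Groth.Agent.* helpers here

set_option autoImplicit false
universe u
open CategoryTheory CategoryTheory.Limits AlgebraicGeometry TopologicalSpace
open ModPair

namespace Groth.Agent.S18731

/-- Let I on X and J on Y be quasi-coherent ideal sheaves of effective Cartier divisors and f : X ⟶ Y a
morphism satisfying the modulus condition I ≤ J.comap f (the closed subscheme J ×_Y X of X lies
inside the closed subscheme cut out by I). Then the pull-back of the divisor of J along f is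
defined: J.comap f is the ideal sheaf of an effective Cartier divisor on X. -/
theorem result {X Y : Scheme.{u}} (I : X.IdealSheafData)
    (J : Y.IdealSheafData) (hI : BlowUp.IsEffCartierIdeal I) (hJ : BlowUp.IsEffCartierIdeal J)
    (f : X ⟶ Y) (hf : ModPair.IsAmbient I J f) : BlowUp.IsEffCartierIdeal (J.comap f) := by
  intro x
  obtain ⟨U, hxU, g, hg, hJU⟩ := hJ (f x)
  obtain ⟨V, hxV, h, hh, hIV⟩ := hI x
  obtain ⟨s, hsle, hxs⟩ := V.2.exists_basicOpen_le (V := f ⁻¹ᵁ U.1) ⟨x, hxU⟩ hxV
  let V' : X.affineOpens := ⟨X.basicOpen s, V.2.basicOpen s⟩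
  have hV'V : V' ≤ V := X.basicOpen_le s
  refine ⟨V', hxs, (f.appLE U.1 V'.1 hsle).hom g, ?_, ?_⟩
  · -- nonzerodivisor
    have h1 : I.ideal V' = Ideal.span {(X.presheaf.map (homOfLE hV'V).op).hom h} := by
      rw [← I.map_ideal hV'V, hIV, Ideal.map_span, Set.image_singleton]
    have h2 : (X.presheaf.map (homOfLE hV'V).op).hom h ∈ nonZeroDivisors Γ(X, V'.1) := by
      haveI : IsLocalization.Away s Γ(X, V'.1) := V.2.isLocalization_basicOpen s
      exact IsLocalization.map_nonZeroDivisors_le (Submonoid.powers s) Γ(X, V'.1)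
        ⟨h, hh, rfl⟩
    have h3 : (J.comap f).ideal V' = Ideal.span {(f.appLE U.1 V'.1 hsle).hom g} := by
      rw [Groth.Agent.Helper9.IdealComap.ideal_comap f J U V' hsle, hJU, Ideal.map_span,
        Set.image_singleton]
    have h4 : (X.presheaf.map (homOfLE hV'V).op).hom h ∈ (J.comap f).ideal V' := by
      apply hf V'
      rw [h1]
      exact Ideal.mem_span_singleton_self _
    rw [h3, Ideal.mem_span_singleton'] at h4
    obtain ⟨c, hc⟩ := h4
    rw [← hc] at h2
    exact (mul_mem_nonZeroDivisors.mp h2).2
  · rw [Groth.Agent.Helper9.IdealComap.ideal_comap f J U V' hsle, hJU, Ideal.map_span,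
      Set.image_singleton]

end Groth.Agent.S18731
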