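import Groth.Statements.S18736
import Groth.Agent.Helper4.NApx19
import Groth.Agent.Helper4.NApx18
import Mathlib

set_option autoImplicit false
universe u
open CategoryTheory CategoryTheory.Limits AlgebraicGeometry TopologicalSpace
open ModPair

namespace Groth.Agent.S18736


/-- With the minimal-case product: let (S, I_S), (T, I_T), (X, I_X) be schemes equipped with
quasi-coherent ideal sheaves of effective Cartier divisors, p : X ⟶ S a morphism satisfying the
modulus condition I_X ≤ I_S.comap p, and f : T ⟶ S a minimal morphism, I_T = I_S.comap f. Let Y be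
the scheme-theoretic image in X ×_S T of the open pr₁⁻¹(X°) ∩ pr₂⁻¹(T°) (X°, T° the open complements
of the supports of I_X, I_T), with projections r : Y ⟶ X and q : Y ⟶ T, and put I_Y := I_X.comap r.
Then I_Y is the ideal sheaf of an effective Cartier divisor, q satisfies the modulus condition I_Y ≤
I_T.comap q, and (Y, I_Y) with q and r is the fibre product of (T, I_T) and (X, I_X) over (S, I_S)
among modulus pairs and morphisms satisfying the modulus condition: for every scheme W with the
ideal sheaf I_W of an effective Cartier divisor and morphisms a : W ⟶ T, b : W ⟶ X with I_W ≤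
I_T.comap a, I_W ≤ I_X.comap b and a ≫ f = b ≫ p, there is a unique c : W ⟶ Y with c ≫ q = a, c ≫ r
= b and I_W ≤ I_Y.comap c. -/
theorem result {S T X : Scheme.{u}} (IS : S.IdealSheafData)
    (IT : T.IdealSheafData) (IX : X.IdealSheafData) (hS : BlowUp.IsEffCartierIdeal IS)
    (hT : BlowUp.IsEffCartierIdeal IT) (hX : BlowUp.IsEffCartierIdeal IX)
    (p : X ⟶ S) (hp : ModPair.IsAmbient IX IS p) (f : T ⟶ S) (hf : ModPair.IsMinimal IT IS f) :
    BlowUp.IsEffCartierIdeal (IX.comap (ModPair.mprodι p f IX IT ≫ pullback.fst p f)) ∧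
      ModPair.IsAmbient (IX.comap (ModPair.mprodι p f IX IT ≫ pullback.fst p f)) IT
        (ModPair.mprodι p f IX IT ≫ pullback.snd p f) ∧
      ∀ (W : Scheme.{u}) (IW : W.IdealSheafData), BlowUp.IsEffCartierIdeal IW →
        ∀ (a : W ⟶ T) (b : W ⟶ X), ModPair.IsAmbient IW IT a → ModPair.IsAmbient IW IX b →
          a ≫ f = b ≫ p →
          ∃! c : W ⟶ ModPair.mprod p f IX IT,
            c ≫ ModPair.mprodι p f IX IT ≫ pullback.snd p f = a ∧
              c ≫ ModPair.mprodι p f IX IT ≫ pullback.fst p f = b ∧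
              ModPair.IsAmbient IW (IX.comap (ModPair.mprodι p f IX IT ≫ pullback.fst p f)) c := by

  set pr₁ := pullback.fst p f with hpr₁
  set pr₂ := pullback.snd p f with hpr₂
  set Ω := ModPair.prodInterior p f IX IT with hΩdef
  set m := ModPair.mprodι p f IX IT with hm
  have hm' : m = Ω.ι.imageι := rfl
  have hf' : IT = IS.comap f := hf
  have hp' : IX ≤ IS.comap p := hp
  have hΩ : Ω = pr₁ ⁻¹ᵁ ModPair.interior IX := by
    apply le_antisymm
    · exact inf_le_left
    · intro z hz
      refine ⟨hz, ?_⟩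
      show pr₂ z ∈ ModPair.interior IT
      rw [hf', Groth.Agent.Helper4.NApx19.interior_comap]
      show f (pr₂ z) ∈ ModPair.interior IS
      have h2 : f (pr₂ z) = p (pr₁ z) := by
        rw [← Scheme.Hom.comp_apply, ← Scheme.Hom.comp_apply, pullback.condition]
      rw [h2]
      exact Groth.Agent.Helper4.NApx19.interior_le_of_isAmbient IX IS p hp hz
  haveI hqcΩ : QuasiCompact Ω.ι := by
    rw [hΩ]; exact Groth.Agent.Helper4.NApx14.quasiCompact_preimage_interior_ι IX hX pr₁
  set r := m ≫ pr₁ with hr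
  set q := m ≫ pr₂ with hq
  have hrΩ : r ⁻¹ᵁ ModPair.interior IX = m ⁻¹ᵁ Ω := by
    rw [hΩ]; rfl
  haveI : IsSchemeTheoreticallyDominant Ω.ι.toImage :=
    Groth.Agent.Helper4.NApx15.isSchemeTheoreticallyDominant_toImage Ω.ι
  haveI hdom : IsSchemeTheoreticallyDominant (r ⁻¹ᵁ ModPair.interior IX).ι := by
    rw [hrΩ]
    let e := IsOpenImmersion.isoOfRangeEq Ω.ι.toImage (m ⁻¹ᵁ Ω).ι
      (by rw [Scheme.Opens.range_ι]; exact Groth.Agent.Helper4.NApx18.range_toImage_opens Ω)
    have he : e.hom ≫ (m ⁻¹ᵁ Ω).ι = Ω.ι.toImage := IsOpenImmersion.isoOfRangeEq_hom_fac _ _ _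
    have : (m ⁻¹ᵁ Ω).ι = e.inv ≫ Ω.ι.toImage := by rw [← he, Iso.inv_hom_id_assoc]
    rw [this]
    infer_instance
  have hcart : BlowUp.IsEffCartierIdeal (IX.comap r) :=
    Groth.Agent.Helper4.NApx14.isEffCartierIdeal_comap IX hX r
  refine ⟨hcart, ?_, ?_⟩
  · show IX.comap r ≤ IT.comap q
    have h0 : IT.comap q = (IS.comap f).comap q :=
      congrArg (fun J : T.IdealSheafData => J.comap q) hf'
    rw [h0, ← Scheme.IdealSheafData.comap_comp]
    have h3 : q ≫ f = r ≫ p := by
      rw [hq, hr, Category.assoc, Category.assoc, pullback.condition]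
    rw [h3, Scheme.IdealSheafData.comap_comp IS r p]
    have h4 : (fun J : X.IdealSheafData => J.comap r) IX ≤
        (fun J : X.IdealSheafData => J.comap r) (IS.comap p) :=
      Scheme.IdealSheafData.comap_mono r hp'
    exact h4
  · intro W IW hW a b ha hb hab
    have ha' : IW ≤ IT.comap a := ha
    have hb' : IW ≤ IX.comap b := hb
    let h : W ⟶ pullback p f := pullback.lift b a hab.symm
    have hh1 : h ≫ pr₁ = b := pullback.lift_fst _ _ _
    have hh2 : h ≫ pr₂ = a := pullback.lift_snd _ _ _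
    haveI hWd : IsSchemeTheoreticallyDominant (ModPair.interior IW).ι :=
      Groth.Agent.Helper4.NApx19.isSchemeTheoreticallyDominant_interior_ι IW hW
    have hsub : Set.range ((ModPair.interior IW).ι ≫ h) ⊆ Set.range Ω.ι := by
      rintro _ ⟨w, rfl⟩
      rw [Scheme.Opens.range_ι, hΩ]
      show pr₁ (((ModPair.interior IW).ι ≫ h) w) ∈ ModPair.interior IX
      rw [← Scheme.Hom.comp_apply, Category.assoc, hh1, Scheme.Hom.comp_apply]
      exact Groth.Agent.Helper4.NApx19.interior_le_of_isAmbient IW IX b hb w.2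
    let h₀ : (ModPair.interior IW : Scheme.{u}) ⟶ (Ω : Scheme.{u}) :=
      IsOpenImmersion.lift Ω.ι ((ModPair.interior IW).ι ≫ h) hsub
    have hh₀ : h₀ ≫ Ω.ι = (ModPair.interior IW).ι ≫ h := IsOpenImmersion.lift_fac _ _ _
    have hker : m.ker ≤ h.ker := by
      have h5 : m.ker = Ω.ι.ker := by
        rw [hm']; exact Scheme.IdealSheafData.ker_subschemeι _
      have h6 : h.ker = ((ModPair.interior IW).ι ≫ h).ker := by
        rw [Scheme.Hom.ker_comp, (ModPair.interior IW).ι.ker_eq_bot,
          Scheme.IdealSheafData.map_bot]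
      rw [h5, h6, ← hh₀]
      exact Scheme.Hom.le_ker_comp h₀ Ω.ι
    let c : W ⟶ ModPair.mprod p f IX IT := IsClosedImmersion.lift m h hker
    have hc : c ≫ m = h := IsClosedImmersion.lift_fac m h hker
    refine ⟨c, ⟨?_, ?_, ?_⟩, ?_⟩
    · show c ≫ m ≫ pr₂ = a
      rw [← Category.assoc, hc, hh2]
    · show c ≫ m ≫ pr₁ = b
      rw [← Category.assoc, hc, hh1]
    · show IW ≤ (IX.comap r).comap c
      rw [← Scheme.IdealSheafData.comap_comp]
      have : c ≫ r = b := by rw [hr, ← Category.assoc, hc, hh1]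
      rw [this]
      exact hb'
    · rintro c' ⟨hc'1, hc'2, -⟩
      have hc'1' : c' ≫ m ≫ pr₂ = a := hc'1
      have hc'2' : c' ≫ m ≫ pr₁ = b := hc'2
      rw [← cancel_mono m, hc]
      apply pullback.hom_ext
      · rw [Category.assoc, hc'2', hh1]
      · rw [Category.assoc, hc'1', hh2]

end Groth.Agent.S18736
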