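import Groth.Statements.S18737
import Groth.Agent.Helper4.NApx17
import Mathlib

set_option autoImplicit false
universe u
open CategoryTheory CategoryTheory.Limits AlgebraicGeometry TopologicalSpace
open ModPair

namespace Groth.Agent.S18737


/-- Let X be a scheme and I the quasi-coherent ideal sheaf of an effective Cartier divisor on X, with
open complement U, and suppose U is the disjoint union of two opens U₀, U₁ of X. Let X₀, X₁ ⊆ X be
the scheme-theoretic images of U₀ and U₁ in X and p : X₀ ⨿ X₁ ⟶ X the morphism induced by the two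
closed immersions. Then the pulled-back ideal I.comap p is the ideal sheaf of an effective Cartier
divisor, and p is an abstract admissible blow-up from (X₀ ⨿ X₁, I.comap p) to (X, I): proper, with
the pulled-back modulus, and an isomorphism over U. -/
theorem result {X : Scheme.{u}}
    (I : X.IdealSheafData) (hI : BlowUp.IsEffCartierIdeal I) (U₀ U₁ : X.Opens)
    (hU : U₀ ⊔ U₁ = ModPair.interior I) (hd : Disjoint U₀ U₁) :
    BlowUp.IsEffCartierIdeal (I.comap (coprod.desc U₀.ι.imageι U₁.ι.imageι)) ∧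
      ModPair.IsAdmBlowup (I.comap (coprod.desc U₀.ι.imageι U₁.ι.imageι)) I
        (coprod.desc U₀.ι.imageι U₁.ι.imageι) := by

  obtain ⟨hqc0, hoi0, hr0, hc0⟩ := Groth.Agent.Helper4.NApx17.clopen_piece I hI U₀ U₁ hU hd
  obtain ⟨hqc1, hoi1, hr1, hc1⟩ := Groth.Agent.Helper4.NApx17.clopen_piece I hI U₁ U₀
    (by rw [sup_comm]; exact hU) hd.symm
  haveI := hqc0
  haveI := hqc1
  haveI := hoi0
  haveI := hoi1
  set p : U₀.ι.image ⨿ U₁.ι.image ⟶ X := coprod.desc U₀.ι.imageι U₁.ι.imageι with hp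
  have hinl : (coprod.inl : U₀.ι.image ⟶ U₀.ι.image ⨿ U₁.ι.image) ≫ p = U₀.ι.imageι :=
    coprod.inl_desc _ _
  have hinr : (coprod.inr : U₁.ι.image ⟶ U₀.ι.image ⨿ U₁.ι.image) ≫ p = U₁.ι.imageι :=
    coprod.inr_desc _ _
  have hcases : ∀ y : ↥(U₀.ι.image ⨿ U₁.ι.image),
      y ∈ Set.range (coprod.inl : U₀.ι.image ⟶ U₀.ι.image ⨿ U₁.ι.image) ∨
      y ∈ Set.range (coprod.inr : U₁.ι.image ⟶ U₀.ι.image ⨿ U₁.ι.image) := fun y => by
    have hc := (isCompl_range_inl_inr U₀.ι.image U₁.ι.image).sup_eq_top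
    have : y ∈ (⊤ : Set _) := trivial
    rw [← hc] at this
    exact this
  have hU0 : U₀ ≤ ModPair.interior I := hU ▸ le_sup_left
  have hU1 : U₁ ≤ ModPair.interior I := hU ▸ le_sup_right
  refine ⟨?_, rfl, inferInstance, ?_⟩
  · -- effective Cartier
    apply Groth.Agent.Helper4.NApx16.isEffCartierIdeal_of_cover
    intro y
    rcases hcases y with hy | hy
    · refine ⟨_, coprod.inl, inferInstance, hy, ?_⟩
      rw [← Scheme.IdealSheafData.comap_comp, hinl]
      exact hc0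
    · refine ⟨_, coprod.inr, inferInstance, hy, ?_⟩
      rw [← Scheme.IdealSheafData.comap_comp, hinr]
      exact hc1
  · -- isomorphism over the interior
    set U := ModPair.interior I with hUdef
    let p' : (p ⁻¹ᵁ U : Scheme.{u}) ⟶ X := (p ⁻¹ᵁ U).ι ≫ p
    have hp' : (p ∣_ U) ≫ U.ι = p' := morphismRestrict_ι p U
    -- points of the source
    have hpt : ∀ x : (p ⁻¹ᵁ U : Scheme.{u}),
        (∃ u : (U₀ : Scheme.{u}), (p ⁻¹ᵁ U).ι x = (coprod.inl : U₀.ι.image ⟶ _) (U₀.ι.toImage u)) ∨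
        (∃ u : (U₁ : Scheme.{u}), (p ⁻¹ᵁ U).ι x = (coprod.inr : U₁.ι.image ⟶ _) (U₁.ι.toImage u)) := by
      intro x
      have hx : p ((p ⁻¹ᵁ U).ι x) ∈ U := x.2
      rcases hcases ((p ⁻¹ᵁ U).ι x) with ⟨y₀, hy₀⟩ | ⟨y₁, hy₁⟩
      · left
        rw [← hy₀, ← Scheme.Hom.comp_apply, hinl] at hx
        have : y₀ ∈ Set.range U₀.ι.toImage := by rw [hr0]; exact hx
        obtain ⟨u, rfl⟩ := this
        exact ⟨u, hy₀.symm⟩
      · right
        rw [← hy₁, ← Scheme.Hom.comp_apply, hinr] at hx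
        have : y₁ ∈ Set.range U₁.ι.toImage := by rw [hr1]; exact hx
        obtain ⟨u, rfl⟩ := this
        exact ⟨u, hy₁.symm⟩
    have hval0 : ∀ u : (U₀ : Scheme.{u}),
        p ((coprod.inl : U₀.ι.image ⟶ U₀.ι.image ⨿ U₁.ι.image) (U₀.ι.toImage u)) = u.1 := fun u => by
      rw [← Scheme.Hom.comp_apply, hinl, ← Scheme.Hom.comp_apply, Scheme.Hom.toImage_imageι]
      rfl
    have hval1 : ∀ u : (U₁ : Scheme.{u}),
        p ((coprod.inr : U₁.ι.image ⟶ U₀.ι.image ⨿ U₁.ι.image) (U₁.ι.toImage u)) = u.1 := fun u => by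
      rw [← Scheme.Hom.comp_apply, hinr, ← Scheme.Hom.comp_apply, Scheme.Hom.toImage_imageι]
      rfl
    have hp'x : ∀ x : (p ⁻¹ᵁ U : Scheme.{u}), p' x = p ((p ⁻¹ᵁ U).ι x) := fun x => by
      show ((p ⁻¹ᵁ U).ι ≫ p) x = _
      rw [Scheme.Hom.comp_apply]
    have hdis : ∀ (a : (U₀ : Scheme.{u})) (b : (U₁ : Scheme.{u})), a.1 ≠ b.1 := fun a b hab =>
      Set.disjoint_left.mp ((TopologicalSpace.Opens.coe_disjoint).mpr hd) a.2 (hab ▸ b.2)
    have hinj : Function.Injective p' := by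
      intro x x' hxx'
      rw [hp'x, hp'x] at hxx'
      apply (p ⁻¹ᵁ U).ι.isOpenEmbedding.injective
      rcases hpt x with ⟨u, hu⟩ | ⟨u, hu⟩ <;> rcases hpt x' with ⟨u', hu'⟩ | ⟨u', hu'⟩
      · rw [hu, hu', hval0, hval0] at hxx'
        rw [hu, hu', Subtype.ext hxx']
      · rw [hu, hu', hval0, hval1] at hxx'
        exact absurd hxx' (hdis u u')
      · rw [hu, hu', hval1, hval0] at hxx'
        exact absurd hxx'.symm (hdis u' u)
      · rw [hu, hu', hval1, hval1] at hxx'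
        rw [hu, hu', Subtype.ext hxx']
    haveI : IsOpenImmersion p' := by
      apply IsOpenImmersion.of_forall_source_exists p' hinj
      intro x
      rcases hpt x with ⟨u, hu⟩ | ⟨u, hu⟩
      · have hsub : Set.range (U₀.ι.toImage ≫ (coprod.inl : U₀.ι.image ⟶ U₀.ι.image ⨿ U₁.ι.image)) ⊆
            Set.range (p ⁻¹ᵁ U).ι := by
          rintro _ ⟨v, rfl⟩
          rw [Scheme.Opens.range_ι]
          show p _ ∈ U
          rw [Scheme.Hom.comp_apply, hval0]
          exact hU0 v.2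
        let i := IsOpenImmersion.lift (p ⁻¹ᵁ U).ι (U₀.ι.toImage ≫ coprod.inl) hsub
        have hi : i ≫ (p ⁻¹ᵁ U).ι = U₀.ι.toImage ≫ coprod.inl := IsOpenImmersion.lift_fac _ _ _
        haveI : IsOpenImmersion i := by
          haveI : IsOpenImmersion (i ≫ (p ⁻¹ᵁ U).ι) := by rw [hi]; infer_instance
          exact IsOpenImmersion.of_comp i (p ⁻¹ᵁ U).ι
        refine ⟨_, i, inferInstance, ⟨u, ?_⟩, ?_⟩
        · apply (p ⁻¹ᵁ U).ι.isOpenEmbedding.injective
          rw [← Scheme.Hom.comp_apply, hi, Scheme.Hom.comp_apply, hu]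
        · have : i ≫ p' = U₀.ι := by
            show i ≫ (p ⁻¹ᵁ U).ι ≫ p = _
            rw [← Category.assoc, hi, Category.assoc, hinl, Scheme.Hom.toImage_imageι]
          rw [this]; infer_instance
      · have hsub : Set.range (U₁.ι.toImage ≫ (coprod.inr : U₁.ι.image ⟶ U₀.ι.image ⨿ U₁.ι.image)) ⊆
            Set.range (p ⁻¹ᵁ U).ι := by
          rintro _ ⟨v, rfl⟩
          rw [Scheme.Opens.range_ι]
          show p _ ∈ U
          rw [Scheme.Hom.comp_apply, hval1]
          exact hU1 v.2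
        let i := IsOpenImmersion.lift (p ⁻¹ᵁ U).ι (U₁.ι.toImage ≫ coprod.inr) hsub
        have hi : i ≫ (p ⁻¹ᵁ U).ι = U₁.ι.toImage ≫ coprod.inr := IsOpenImmersion.lift_fac _ _ _
        haveI : IsOpenImmersion i := by
          haveI : IsOpenImmersion (i ≫ (p ⁻¹ᵁ U).ι) := by rw [hi]; infer_instance
          exact IsOpenImmersion.of_comp i (p ⁻¹ᵁ U).ι
        refine ⟨_, i, inferInstance, ⟨u, ?_⟩, ?_⟩
        · apply (p ⁻¹ᵁ U).ι.isOpenEmbedding.injective
          rw [← Scheme.Hom.comp_apply, hi, Scheme.Hom.comp_apply, hu]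
        · have : i ≫ p' = U₁.ι := by
            show i ≫ (p ⁻¹ᵁ U).ι ≫ p = _
            rw [← Category.assoc, hi, Category.assoc, hinr, Scheme.Hom.toImage_imageι]
          rw [this]; infer_instance
    haveI : IsOpenImmersion (p ∣_ U) := by
      haveI : IsOpenImmersion ((p ∣_ U) ≫ U.ι) := by rw [hp']; infer_instance
      exact IsOpenImmersion.of_comp (p ∣_ U) U.ι
    apply isIso_of_isOpenImmersion_of_opensRange_eq_top
    rw [eq_top_iff]
    intro w _
    have hw : w.1 ∈ U₀ ⊔ U₁ := by rw [hU]; exact w.2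
    have key : ∀ y : ↥(U₀.ι.image ⨿ U₁.ι.image), p y = w.1 → w ∈ (p ∣_ U).opensRange := by
      intro y hy
      have hyU : y ∈ p ⁻¹ᵁ U := by show p y ∈ U; rw [hy]; exact w.2
      let x : (p ⁻¹ᵁ U : Scheme.{u}) := ⟨y, hyU⟩
      refine ⟨x, ?_⟩
      apply U.ι.isOpenEmbedding.injective
      have h1 : ((p ∣_ U) ≫ U.ι) x = U.ι w := by
        rw [hp']
        exact (hp'x x).trans hy
      exact h1
    rcases hw with hw | hw
    · exact key _ (hval0 ⟨w.1, hw⟩)
    · exact key _ (hval1 ⟨w.1, hw⟩)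

end Groth.Agent.S18737
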