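import Groth.Statements.S18741
import Mathlib
-- import your own Groth.Agent.* helpers here

set_option autoImplicit false
universe v₁ v₂ v₃ u₁ u₂ u₃
open CategoryTheory
open ModPair

namespace Groth.Agent.S18741

theorem hrcf {C : Type u₁} [Category.{v₁} C] (W : MorphismProperty C)
    [W.HasRightCalculusOfFractions] (S : C) :
    (W.inverseImage (Over.forget S)).HasRightCalculusOfFractions where
  exists_rightFraction X Y φ := by
    let φ₀ : W.LeftFraction X.left Y.left := ⟨φ.f.left, φ.s.left, φ.hs⟩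
    obtain ⟨ψ, hψ⟩ := φ₀.exists_rightFraction
    have hψ' : ψ.s ≫ φ.f.left = ψ.f ≫ φ.s.left := hψ
    have hw : ψ.f ≫ Y.hom = ψ.s ≫ X.hom := by
      rw [← Over.w φ.s, ← Over.w φ.f, ← Category.assoc, ← Category.assoc, hψ']
    refine ⟨⟨(Over.homMk ψ.s rfl : Over.mk (ψ.s ≫ X.hom) ⟶ X), ψ.hs, Over.homMk ψ.f hw⟩, ?_⟩
    ext
    exact hψ'
  ext X Y Y' f₁ f₂ s hs h := by
    obtain ⟨X', t, ht, hft⟩ := MorphismProperty.HasRightCalculusOfFractions.ext f₁.left f₂.left
      s.left hs (congrArg CommaMorphism.left h)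
    refine ⟨Over.mk (t ≫ X.hom), Over.homMk t rfl, ht, ?_⟩
    ext
    exact hft

/-- Let C be a category, W a class of morphisms of C admitting a calculus of right fractions, and S an
object of C; let W_S be the class of morphisms of the slice category over S whose underlying
morphism lies in W. Then the canonical functor from the localization of the slice category C/S at
W_S to the slice category over S of the localization of C at W is an equivalence: for every
localization functor L : C ⥤ D at W, every localization functor L' : C/S ⥤ E at W_S, and every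
functor Φ : E ⥤ D/L(S) through which the functor C/S ⥤ D/L(S) induced by L factors up to
isomorphism, Φ is an equivalence of categories. -/
theorem result {C : Type u₁}
    [Category.{v₁} C] (W : MorphismProperty C) [W.HasRightCalculusOfFractions] (S : C)
    {D : Type u₂} [Category.{v₂} D] (L : C ⥤ D) [L.IsLocalization W]
    {E : Type u₃} [Category.{v₃} E] (L' : Over S ⥤ E)
    [L'.IsLocalization (W.inverseImage (Over.forget S))]
    (Φ : E ⥤ Over (L.obj S)) (e : L' ⋙ Φ ≅ Over.post L) : Φ.IsEquivalence := by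
  haveI : (W.inverseImage (Over.forget S)).HasRightCalculusOfFractions := hrcf W S
  have hL : W.IsInvertedBy L := Localization.inverts L W
  have hL' : (W.inverseImage (Over.forget S)).IsInvertedBy L' :=
    Localization.inverts L' (W.inverseImage (Over.forget S))
  haveI : L.EssSurj := Localization.essSurj L W
  haveI : L'.EssSurj := Localization.essSurj L' (W.inverseImage (Over.forget S))
  have hnat : ∀ {A B : Over S} (g : A ⟶ B),
      Φ.map (L'.map g) = e.hom.app A ≫ (Over.post L).map g ≫ e.inv.app B := by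
    intro A B g
    have h1 := e.hom.naturality g
    have h2 : Φ.map (L'.map g) ≫ e.hom.app B = e.hom.app A ≫ (Over.post L).map g := h1
    rw [← Category.assoc, ← h2, Category.assoc, Iso.hom_inv_id_app]
    exact (Category.comp_id _).symm
  have key_inj : ∀ {Z B : Over S} (g₁ g₂ : Z ⟶ B),
      Φ.map (L'.map g₁) = Φ.map (L'.map g₂) → L'.map g₁ = L'.map g₂ := by
    intro Z B g₁ g₂ h
    rw [hnat, hnat] at h
    have h1 : (Over.post L).map g₁ = (Over.post L).map g₂ :=
      (cancel_mono (e.inv.app B)).mp ((cancel_epi (e.hom.app Z)).mp h)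
    have h3 : L.map g₁.left = L.map g₂.left := congrArg CommaMorphism.left h1
    obtain ⟨T, t, ht, htg⟩ := (MorphismProperty.map_eq_iff_precomp L W g₁.left g₂.left).mp h3
    let t' : Over.mk (t ≫ Z.hom) ⟶ Z := Over.homMk t rfl
    have ht' : (W.inverseImage (Over.forget S)) t' := ht
    haveI : IsIso (L'.map t') := hL' t' ht'
    rw [← cancel_epi (L'.map t'), ← L'.map_comp, ← L'.map_comp]
    congr 1
    ext
    exact htg
  haveI : Φ.Faithful := by
    refine Φ.faithful_of_comp_essSurj L' (fun A B α β hαβ => ?_)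
    obtain ⟨φ, rfl⟩ := Localization.exists_rightFraction L' (W.inverseImage (Over.forget S)) α
    obtain ⟨ψ, rfl⟩ := Localization.exists_rightFraction L' (W.inverseImage (Over.forget S)) β
    obtain ⟨χ, hχ⟩ := (MorphismProperty.LeftFraction.mk φ.s ψ.s ψ.hs :
      (W.inverseImage (Over.forget S)).LeftFraction φ.X' ψ.X').exists_rightFraction
    have hχ' : χ.s ≫ φ.s = χ.f ≫ ψ.s := hχ
    have hW1 : (W.inverseImage (Over.forget S)) (χ.s ≫ φ.s) :=
      MorphismProperty.comp_mem _ _ _ χ.hs φ.hs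
    haveI : IsIso (L'.map (χ.s ≫ φ.s)) := hL' _ hW1
    rw [← cancel_epi (L'.map (χ.s ≫ φ.s))]
    have e1 : L'.map (χ.s ≫ φ.s) ≫ φ.map L' hL' = L'.map (χ.s ≫ φ.f) := by
      rw [L'.map_comp, Category.assoc, MorphismProperty.RightFraction.map_s_comp_map, ← L'.map_comp]
    have e2 : L'.map (χ.s ≫ φ.s) ≫ ψ.map L' hL' = L'.map (χ.f ≫ ψ.f) := by
      rw [hχ', L'.map_comp, Category.assoc, MorphismProperty.RightFraction.map_s_comp_map,
        ← L'.map_comp]
    rw [e1, e2]
    apply key_inj
    rw [← e1, ← e2, Φ.map_comp, Φ.map_comp, hαβ]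
  haveI : Φ.Full := by
    refine Φ.full_of_comp_essSurj L' (fun A B φ => ?_)
    let φ' : (Over.post L).obj A ⟶ (Over.post L).obj B := e.inv.app A ≫ φ ≫ e.hom.app B
    have hw : φ'.left ≫ L.map B.hom = L.map A.hom := Over.w φ'
    obtain ⟨ρ, hρ⟩ := Localization.exists_rightFraction L W φ'.left
    have h1 : L.map ρ.s ≫ φ'.left = L.map ρ.f := by
      rw [hρ]
      exact MorphismProperty.RightFraction.map_s_comp_map ρ L hL
    have h2 : L.map (ρ.f ≫ B.hom) = L.map (ρ.s ≫ A.hom) := by
      rw [L.map_comp, L.map_comp, ← h1]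
      exact (Category.assoc _ _ _).trans (congrArg (fun t => L.map ρ.s ≫ t) hw)
    obtain ⟨T, t, ht, htg⟩ := (MorphismProperty.map_eq_iff_precomp L W _ _).mp h2
    let s' : Over.mk (t ≫ ρ.s ≫ A.hom) ⟶ A := Over.homMk (t ≫ ρ.s) (by simp)
    let f' : Over.mk (t ≫ ρ.s ≫ A.hom) ⟶ B := Over.homMk (t ≫ ρ.f) (by simpa using htg)
    have hs' : (W.inverseImage (Over.forget S)) s' := MorphismProperty.comp_mem _ _ _ ht ρ.hs
    haveI : IsIso (L'.map s') := hL' s' hs'
    refine ⟨inv (L'.map s') ≫ L'.map f', ?_⟩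
    rw [Φ.map_comp, Functor.map_inv, IsIso.inv_comp_eq, hnat, hnat]
    have h3 : (Over.post L).map s' ≫ φ' = (Over.post L).map f' := by
      ext
      change L.map (t ≫ ρ.s) ≫ φ'.left = L.map (t ≫ ρ.f)
      rw [L.map_comp, L.map_comp]
      exact (Category.assoc _ _ _).trans (congrArg (fun u => L.map t ≫ u) h1)
    have h5 : φ' ≫ e.inv.app B = e.inv.app A ≫ φ := by
      change (e.inv.app A ≫ φ ≫ e.hom.app B) ≫ e.inv.app B = _
      have h6 : e.hom.app B ≫ e.inv.app B = 𝟙 _ := Iso.hom_inv_id_app e B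
      calc (e.inv.app A ≫ φ ≫ e.hom.app B) ≫ e.inv.app B
          = e.inv.app A ≫ φ ≫ (e.hom.app B ≫ e.inv.app B) := by
            simp only [Category.assoc]
        _ = e.inv.app A ≫ φ := by rw [h6]; simp
    rw [← h3]
    refine Eq.symm ?_
    calc (e.hom.app _ ≫ (Over.post L).map s' ≫ e.inv.app A) ≫ φ
        = e.hom.app _ ≫ (Over.post L).map s' ≫ (e.inv.app A ≫ φ) := by simp only [Category.assoc]
      _ = e.hom.app _ ≫ (Over.post L).map s' ≫ (φ' ≫ e.inv.app B) := by rw [h5]
      _ = e.hom.app _ ≫ ((Over.post L).map s' ≫ φ') ≫ e.inv.app B := by simp only [Category.assoc]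
  haveI : Φ.EssSurj := by
    refine ⟨fun Y => ?_⟩
    let i : L.obj (L.objPreimage Y.left) ≅ Y.left := L.objObjPreimageIso Y.left
    obtain ⟨ρ, hρ⟩ := Localization.exists_rightFraction L W (i.hom ≫ Y.hom)
    have h1 : L.map ρ.s ≫ i.hom ≫ Y.hom = L.map ρ.f := by
      rw [hρ]
      exact MorphismProperty.RightFraction.map_s_comp_map ρ L hL
    haveI : IsIso (L.map ρ.s) := hL ρ.s ρ.hs
    let A : Over S := Over.mk ρ.f
    let j : L.obj ρ.X' ≅ L.obj (L.objPreimage Y.left) := asIso (L.map ρ.s)
    have hj : j.hom = L.map ρ.s := rfl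
    refine ⟨L'.obj A, ⟨e.app A ≪≫ Over.isoMk (j ≪≫ i) ?_⟩⟩
    change (j.hom ≫ i.hom) ≫ Y.hom = L.map ρ.f
    rw [hj, Category.assoc]
    exact h1
  exact {}

end Groth.Agent.S18741
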