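import Groth.Statements.S18742
import Groth.Agent.Helper4.NApx25
import Mathlib

set_option autoImplicit false
universe u
open CategoryTheory CategoryTheory.Limits AlgebraicGeometry TopologicalSpace
open ModPair

namespace Groth.Agent.S18742


/-- Let S be a quasi-compact quasi-separated scheme, (X_i) a cofiltered system of S-schemes with affine,
scheme-theoretically dominant transition morphisms and all X_i quasi-compact and quasi-separated, X
its limit in the category of S-schemes, and Y ⟶ S locally of finite type with Y quasi-compact and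
quasi-separated. Then the canonical map from the colimit of the sets Hom_S(X_i, Y) to Hom_S(X, Y) is
bijective: every S-morphism X ⟶ Y factors through the projection to some X_i, and two S-morphisms
X_i ⟶ Y with the same composite X ⟶ Y become equal after composition with some transition morphism
X_j ⟶ X_i. No finite-presentation hypothesis on Y is assumed. -/
theorem result {S : Scheme.{u}} [CompactSpace S]
    [QuasiSeparatedSpace S] {I : Type u} [SmallCategory I] [IsCofiltered I] (D : I ⥤ Over S)
    (c : Cone D) (hc : IsLimit c)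
    [∀ (i j : I) (t : i ⟶ j), IsAffineHom (D.map t).left]
    [∀ (i j : I) (t : i ⟶ j), IsSchemeTheoreticallyDominant (D.map t).left]
    [∀ i, CompactSpace (D.obj i).left] [∀ i, QuasiSeparatedSpace (D.obj i).left]
    (Y : Over S) [CompactSpace Y.left] [QuasiSeparatedSpace Y.left] [LocallyOfFiniteType Y.hom] :
    (∀ φ : c.pt ⟶ Y, ∃ (i : I) (φi : D.obj i ⟶ Y), c.π.app i ≫ φi = φ) ∧
      ∀ (i : I) (φ ψ : D.obj i ⟶ Y), c.π.app i ≫ φ = c.π.app i ≫ ψ →
        ∃ (j : I) (t : j ⟶ i), D.map t ≫ φ = D.map t ≫ ψ := by

  classical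
  haveI : IsConnected I := IsCofiltered.isConnected I
  let D' := D ⋙ Over.forget S
  let t := Groth.Agent.Helper4.NApx1.strNat D
  let c' := (Over.forget S).mapCone c
  have hc' : IsLimit c' := isLimitOfPreserves (Over.forget S) hc
  haveI h2 : ∀ {i j : I} (a : i ⟶ j), IsAffineHom (D'.map a) := fun {i j} a =>
    (inferInstance : IsAffineHom (D.map a).left)
  haveI h2' : ∀ {i j : I} (a : i ⟶ j), IsSchemeTheoreticallyDominant (D'.map a) := fun {i j} a =>
    (inferInstance : IsSchemeTheoreticallyDominant (D.map a).left)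
  haveI h3 : ∀ i, CompactSpace (D'.obj i) := fun i => (inferInstance : CompactSpace (D.obj i).left)
  haveI h4 : ∀ i, QuasiSeparatedSpace (D'.obj i) := fun i =>
    (inferInstance : QuasiSeparatedSpace (D.obj i).left)
  constructor
  · intro φ
    have hφ : ∀ i, c'.π.app i ≫ t.app i = φ.left ≫ Y.hom := by
      intro i
      have h5 : (c.π.app i).left ≫ (D.obj i).hom = c.pt.hom := Over.w (c.π.app i)
      have h6 : φ.left ≫ Y.hom = c.pt.hom := Over.w φ
      show (c.π.app i).left ≫ (D.obj i).hom = φ.left ≫ Y.hom
      rw [h5, h6]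
    obtain ⟨k, ψ, hψ1, hψ2⟩ :=
      Groth.Agent.Helper4.NApx25.exists_factor D' t c' hc' Y.hom φ.left hφ
    refine ⟨k, Over.homMk ψ hψ2, ?_⟩
    apply Over.OverMorphism.ext
    exact hψ1
  · intro i φ ψ h
    have ha : t.app i = φ.left ≫ Y.hom := (Over.w φ).symm
    have hb : t.app i = ψ.left ≫ Y.hom := (Over.w ψ).symm
    have hab : c'.π.app i ≫ φ.left = c'.π.app i ≫ ψ.left := congrArg (fun m => m.left) h
    obtain ⟨k, hik, hk⟩ := Scheme.exists_hom_comp_eq_comp_of_locallyOfFiniteType D' t Y.hom c' hc'
      φ.left ψ.left ha hb hab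
    refine ⟨k, hik, ?_⟩
    apply Over.OverMorphism.ext
    exact hk

end Groth.Agent.S18742
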