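import Groth.Statements.S18743
import Groth.Agent.Helper4.NApx19
import Mathlib

set_option autoImplicit false
universe u
open CategoryTheory CategoryTheory.Limits AlgebraicGeometry TopologicalSpace
open ModPair

namespace Groth.Agent.S18743


/-- Let (S, I_S), (T, I_T), (X, I_X) be schemes equipped with quasi-coherent ideal sheaves of effective
Cartier divisors, p : X ⟶ S a morphism with the modulus condition I_X ≤ I_S.comap p, and f : T ⟶ S a
minimal morphism (I_T = I_S.comap f) which is flat. Then the ambient product of (T, I_T) and (X,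
I_X) over (S, I_S) has total space all of X ×_S T with modulus pulled back from X: the open
pr₁⁻¹(X°) ∩ pr₂⁻¹(T°) (X°, T° the complements of the supports) is scheme-theoretically dominant in X
×_S T, the closed immersion of its scheme-theoretic image is an isomorphism, and I_X.comap pr₁ is
the ideal sheaf of an effective Cartier divisor. -/
theorem result {S T X : Scheme.{u}} (IS : S.IdealSheafData)
    (IT : T.IdealSheafData) (IX : X.IdealSheafData) (hS : BlowUp.IsEffCartierIdeal IS)
    (hT : BlowUp.IsEffCartierIdeal IT) (hX : BlowUp.IsEffCartierIdeal IX)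
    (p : X ⟶ S) (hp : ModPair.IsAmbient IX IS p) (f : T ⟶ S) (hf : ModPair.IsMinimal IT IS f) [Flat f] :
    IsSchemeTheoreticallyDominant (ModPair.prodInterior p f IX IT).ι ∧
      IsIso (ModPair.mprodι p f IX IT) ∧
      BlowUp.IsEffCartierIdeal (IX.comap (pullback.fst p f)) := by

  set pr₁ := pullback.fst p f with hpr₁
  set pr₂ := pullback.snd p f with hpr₂
  have hc : BlowUp.IsEffCartierIdeal (IX.comap pr₁) :=
    Groth.Agent.Helper4.NApx19.isEffCartierIdeal_comap_of_flat IX hX pr₁
  have hW : ModPair.prodInterior p f IX IT = ModPair.interior (IX.comap pr₁) := by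
    rw [Groth.Agent.Helper4.NApx19.interior_comap]
    apply le_antisymm
    · exact inf_le_left
    · intro z hz
      refine ⟨hz, ?_⟩
      show pr₂ z ∈ ModPair.interior IT
      have hf' : IT = IS.comap f := hf
      rw [hf', Groth.Agent.Helper4.NApx19.interior_comap]
      show f (pr₂ z) ∈ ModPair.interior IS
      have h2 : f (pr₂ z) = p (pr₁ z) := by
        rw [← Scheme.Hom.comp_apply, ← Scheme.Hom.comp_apply, pullback.condition]
      rw [h2]
      exact Groth.Agent.Helper4.NApx19.interior_le_of_isAmbient IX IS p hp hz
  have hdom : ∀ U : (pullback p f).Opens, U = ModPair.interior (IX.comap pr₁) →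
      IsSchemeTheoreticallyDominant U.ι := by
    rintro U rfl
    exact Groth.Agent.Helper4.NApx19.isSchemeTheoreticallyDominant_interior_ι _ hc
  haveI hd := hdom _ hW
  refine ⟨hd, ?_, hc⟩
  show IsIso (ModPair.prodInterior p f IX IT).ι.ker.subschemeι
  rw [Scheme.isIso_subschemeι_iff_eq_bot]
  exact (ModPair.prodInterior p f IX IT).ι.ker_eq_bot

end Groth.Agent.S18743
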