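import Groth.Statements.S18744
import Groth.Agent.Helper4.NApx22
import Mathlib

set_option autoImplicit false
universe u
open CategoryTheory CategoryTheory.Limits AlgebraicGeometry TopologicalSpace
open ModPair

namespace Groth.Agent.S18744


/-- Let (X_i, I_i) be a cofiltered system of schemes equipped with quasi-coherent ideal sheaves of
effective Cartier divisors, with affine and minimal transition morphisms (the modulus of X_i is the
pull-back of the modulus of X_j along each transition morphism X_i ⟶ X_j), and let X be its limit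
with projections π_i. Then the pulled-back ideal I_i.comap π_i is the ideal sheaf of an effective
Cartier divisor on X for every i; with this modulus X is a modulus pair mapping minimally to each
(X_i, I_i). (The source allows the conditions on the transition morphisms to hold only beyond some
index; here they are assumed throughout.) -/
theorem result {I : Type u}
    [SmallCategory I] [IsCofiltered I] (D : I ⥤ Scheme.{u}) (c : Cone D) (hc : IsLimit c)
    [∀ (i j : I) (t : i ⟶ j), IsAffineHom (D.map t)]
    (J : ∀ i, (D.obj i).IdealSheafData) (hJ : ∀ i, BlowUp.IsEffCartierIdeal (J i))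
    (hmin : ∀ (i j : I) (t : i ⟶ j), ModPair.IsMinimal (J i) (J j) (D.map t)) (i : I) :
    BlowUp.IsEffCartierIdeal ((J i).comap (c.π.app i)) := by

  classical
  haveI hAff : ∀ {i j : I} (f : i ⟶ j), IsAffineHom (D.map f) := fun f => inferInstance
  intro x
  obtain ⟨A, hxA, a, ha, hIa⟩ := hJ i (c.π.app i x)
  haveI := isAffineHom_π_app D c hc i
  have hV : IsAffineOpen (c.π.app i ⁻¹ᵁ A.1) := A.2.preimage (c.π.app i)
  refine ⟨⟨_, hV⟩, hxA, ((c.π.app i).app A.1).hom a, ?_, ?_⟩
  · apply Groth.Agent.Helper4.NApx22.app_mem_nonZeroDivisors_of_stages D c hc i A.2 a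
    intro j
    have hAj : IsAffineOpen (D.map j.hom ⁻¹ᵁ A.1) := A.2.preimage _
    apply Groth.Agent.Helper4.NApx22.mem_nonZeroDivisors_of_ideal_eq_span (J j.left) (hJ j.left)
      ⟨_, hAj⟩
    have hm : J j.left = (J i).comap (D.map j.hom) := hmin _ _ j.hom
    rw [congrArg (fun L : (D.obj j.left).IdealSheafData => L.ideal ⟨_, hAj⟩) hm,
      Groth.Agent.Helper9.IdealComap.ideal_comap (D.map j.hom) (J i) A ⟨_, hAj⟩ le_rfl, hIa,
      Ideal.map_span, Set.image_singleton, ← Scheme.Hom.app_eq_appLE]
  · rw [Groth.Agent.Helper9.IdealComap.ideal_comap (c.π.app i) (J i) A ⟨_, hV⟩ le_rfl, hIa,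
      Ideal.map_span, Set.image_singleton, ← Scheme.Hom.app_eq_appLE]

end Groth.Agent.S18744
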