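import Groth.Statements.S18745
import Groth.Agent.Helper4.NApx25
import Groth.Agent.Helper4.NApx26
import Mathlib

set_option autoImplicit false
universe u
open CategoryTheory CategoryTheory.Limits AlgebraicGeometry TopologicalSpace
open ModPair

namespace Groth.Agent.S18745


/-- Let S be a quasi-compact quasi-separated scheme, (X_i, I_i) a cofiltered system of S-schemes, all
quasi-compact and quasi-separated, carrying quasi-coherent ideal sheaves of effective Cartier
divisors, with affine and minimal transition morphisms, and let X be its limit (as an S-scheme) with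
projections π_i and modulus I = I_i.comap π_i for every i. Let Y ⟶ S be locally of finite type with
Y quasi-compact and quasi-separated, carrying the ideal sheaf I_Y of an effective Cartier divisor.
Assume that either every transition morphism is scheme-theoretically dominant, or Y ⟶ S is locally
of finite presentation. Then every S-morphism φ : X ⟶ Y satisfying the modulus condition I ≤
I_Y.comap φ descends: for some i there is an S-morphism φ_i : X_i ⟶ Y satisfying the modulus
condition I_i ≤ I_Y.comap φ_i with π_i ≫ φ_i = φ. (The base is taken to be a scheme, that is the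
base modulus pair with empty modulus; morphisms over an arbitrary base modulus pair are among
these.) -/
theorem result {S : Scheme.{u}}
    [CompactSpace S] [QuasiSeparatedSpace S] {I : Type u} [SmallCategory I] [IsCofiltered I]
    (D : I ⥤ Over S) (c : Cone D) (hc : IsLimit c)
    [∀ (i j : I) (t : i ⟶ j), IsAffineHom (D.map t).left]
    [∀ i, CompactSpace (D.obj i).left] [∀ i, QuasiSeparatedSpace (D.obj i).left]
    (J : ∀ i, (D.obj i).left.IdealSheafData) (hJ : ∀ i, BlowUp.IsEffCartierIdeal (J i))
    (hmin : ∀ (i j : I) (t : i ⟶ j), ModPair.IsMinimal (J i) (J j) (D.map t).left)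
    (IX : c.pt.left.IdealSheafData) (hIX : ∀ i, IX = (J i).comap (c.π.app i).left)
    (Y : Over S) [CompactSpace Y.left] [QuasiSeparatedSpace Y.left] [LocallyOfFiniteType Y.hom]
    (IY : Y.left.IdealSheafData) (hY : BlowUp.IsEffCartierIdeal IY)
    (h : (∀ (i j : I) (t : i ⟶ j), IsSchemeTheoreticallyDominant (D.map t).left) ∨
      LocallyOfFinitePresentation Y.hom)
    (φ : c.pt ⟶ Y) (hφ : ModPair.IsAmbient IX IY φ.left) :
    ∃ (i : I) (φi : D.obj i ⟶ Y), ModPair.IsAmbient (J i) IY φi.left ∧ c.π.app i ≫ φi = φ := by

  classical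
  haveI : IsConnected I := IsCofiltered.isConnected I
  let D' := D ⋙ Over.forget S
  let t := Groth.Agent.Helper4.NApx1.strNat D
  let c' := (Over.forget S).mapCone c
  have hc' : IsLimit c' := isLimitOfPreserves (Over.forget S) hc
  haveI h2 : ∀ {i j : I} (a : i ⟶ j), IsAffineHom (D'.map a) := fun {i j} a =>
    (inferInstance : IsAffineHom (D.map a).left)
  haveI h3 : ∀ i, CompactSpace (D'.obj i) := fun i => (inferInstance : CompactSpace (D.obj i).left)
  haveI h4 : ∀ i, QuasiSeparatedSpace (D'.obj i) := fun i =>
    (inferInstance : QuasiSeparatedSpace (D.obj i).left)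
  have hφS : ∀ i, c'.π.app i ≫ t.app i = φ.left ≫ Y.hom := by
    intro i
    have h5 : (c.π.app i).left ≫ (D.obj i).hom = c.pt.hom := Over.w (c.π.app i)
    have h6 : φ.left ≫ Y.hom = c.pt.hom := Over.w φ
    show (c.π.app i).left ≫ (D.obj i).hom = φ.left ≫ Y.hom
    rw [h5, h6]
  -- Step 1: descend the morphism
  have step1 : ∃ (k : I) (ψ : D'.obj k ⟶ Y.left), c'.π.app k ≫ ψ = φ.left ∧ ψ ≫ Y.hom = t.app k := by
    rcases h with hdom | hfp
    · haveI h2' : ∀ {i j : I} (a : i ⟶ j), IsSchemeTheoreticallyDominant (D'.map a) :=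
        fun {i j} a => hdom i j a
      exact Groth.Agent.Helper4.NApx25.exists_factor D' t c' hc' Y.hom φ.left hφS
    · haveI := hfp
      have ha : c'.π ≫ t = (Functor.const _).map (φ.left ≫ Y.hom) := by
        ext i
        simp only [NatTrans.comp_app, Functor.const_map_app]
        exact hφS i
      exact Scheme.exists_π_app_comp_eq_of_locallyOfFinitePresentation D' t Y.hom c' hc' φ.left ha
  obtain ⟨k, ψ, hψ1, hψ2⟩ := step1
  -- Step 2: descend the modulus condition
  have hloc := Groth.Agent.Helper4.NApx26.exists_local_data' (J k) IY (hJ k) hY ψ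
  have hφ' : IX ≤ IY.comap φ.left := hφ
  have hle : (J k).comap (c'.π.app k) ≤ (IY.comap ψ).comap (c'.π.app k) := by
    have e1 : (J k).comap (c'.π.app k) = IX := (hIX k).symm
    have e2 : (IY.comap ψ).comap (c'.π.app k) = IY.comap φ.left := by
      rw [← Scheme.IdealSheafData.comap_comp, hψ1]
      rfl
    rw [e1, e2]
    exact hφ'
  obtain ⟨j, tj, hj⟩ := Groth.Agent.Helper4.NApx26.le_descends D' c' hc' k (J k) (IY.comap ψ) hloc hle
  refine ⟨j, D.map tj ≫ Over.homMk ψ hψ2, ?_, ?_⟩
  · show J j ≤ IY.comap ((D.map tj).left ≫ ψ)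
    have hm : J j = (J k).comap (D.map tj).left := hmin j k tj
    have e3 : IY.comap ((D.map tj).left ≫ ψ) = (IY.comap ψ).comap (D'.map tj) :=
      Scheme.IdealSheafData.comap_comp IY (D'.map tj) ψ
    rw [hm]
    exact le_of_le_of_eq hj e3.symm
  · rw [← Category.assoc, c.w]
    apply Over.OverMorphism.ext
    exact hψ1

end Groth.Agent.S18745
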