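import Groth.Statements.S18755
import Groth.Agent.Helper4.NApx24
import Mathlib

set_option autoImplicit false
universe u
open CategoryTheory CategoryTheory.Limits AlgebraicGeometry TopologicalSpace
open ModPair

namespace Groth.Agent.S18755


/-- Let (S₀, I₀), (S₁, I₁), (T, J), (X, I) be schemes with quasi-coherent ideal sheaves of effective
Cartier divisors, f : X ⟶ S₁, g : T ⟶ S₁ and σ : S₁ ⟶ S₀ morphisms satisfying the modulus condition,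
and let (Y₁, K₁) with π₁ and (Y₀, K₀) with π₀ be ambient products of (X, I) and (T, J) over S₁ and
over S₀ (the latter for f ≫ σ and g ≫ σ): blow-ups of the scheme-theoretic image of the product of
the interiors inside X ×_{S₁} T, resp. X ×_{S₀} T, in the intersection of the pulled-back moduli,
with K·E = D_X·D_T. Then the ambient product is functorial in the base: there is a unique morphism φ
: Y₁ ⟶ Y₀ compatible with the maps to X ×_{S₀} T (through the canonical X ×_{S₁} T ⟶ X ×_{S₀} T),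
and every such φ is minimal, K₁ = K₀.comap φ. -/
theorem result {S₀ S₁ T X Y₁ Y₀ : Scheme.{u}} (I₀ : S₀.IdealSheafData)
    (I₁ : S₁.IdealSheafData) (J : T.IdealSheafData) (I : X.IdealSheafData)
    (h₀ : BlowUp.IsEffCartierIdeal I₀) (h₁ : BlowUp.IsEffCartierIdeal I₁)
    (hT : BlowUp.IsEffCartierIdeal J) (hX : BlowUp.IsEffCartierIdeal I)
    (f : X ⟶ S₁) (hf : ModPair.IsAmbient I I₁ f) (g : T ⟶ S₁) (hg : ModPair.IsAmbient J I₁ g)
    (σ : S₁ ⟶ S₀) (hσ : ModPair.IsAmbient I₁ I₀ σ)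
    (π₁ : Y₁ ⟶ ModPair.mprod f g I J) (K₁ : Y₁.IdealSheafData) (hY₁ : ModPair.IsAmbProd f g I J π₁ K₁)
    (π₀ : Y₀ ⟶ ModPair.mprod (f ≫ σ) (g ≫ σ) I J) (K₀ : Y₀.IdealSheafData)
    (hY₀ : ModPair.IsAmbProd (f ≫ σ) (g ≫ σ) I J π₀ K₀) :
    (∃! φ : Y₁ ⟶ Y₀, φ ≫ π₀ ≫ ModPair.mprodι (f ≫ σ) (g ≫ σ) I J =
        π₁ ≫ ModPair.mprodι f g I J ≫ pullback.mapDesc f g σ) ∧
      ∀ φ : Y₁ ⟶ Y₀, φ ≫ π₀ ≫ ModPair.mprodι (f ≫ σ) (g ≫ σ) I J =
          π₁ ≫ ModPair.mprodι f g I J ≫ pullback.mapDesc f g σ →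
        ModPair.IsMinimal K₁ K₀ φ := by

  classical
  obtain ⟨hπ₁, hK₁⟩ := hY₁
  obtain ⟨hπ₀, hK₀⟩ := hY₀
  set δ := pullback.mapDesc f g σ with hδ
  set ι₁ := ModPair.mprodι f g I J with hι₁
  set ι₀ := ModPair.mprodι (f ≫ σ) (g ≫ σ) I J with hι₀
  set Ω₁ := ModPair.prodInterior f g I J with hΩ₁
  set Ω₀ := ModPair.prodInterior (f ≫ σ) (g ≫ σ) I J with hΩ₀
  have hδ1 : δ ≫ pullback.fst (f ≫ σ) (g ≫ σ) = pullback.fst f g := by
    rw [hδ]; exact (pullback.lift_fst _ _ _).trans (Category.comp_id _)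
  have hδ2 : δ ≫ pullback.snd (f ≫ σ) (g ≫ σ) = pullback.snd f g := by
    rw [hδ]; exact (pullback.lift_snd _ _ _).trans (Category.comp_id _)
  -- quasi-compactness of Ω₁
  haveI q1 : QuasiCompact (pullback.fst f g ⁻¹ᵁ ModPair.interior I).ι :=
    Groth.Agent.Helper4.NApx14.quasiCompact_preimage_interior_ι I hX _
  haveI q2 : QuasiCompact (pullback.snd f g ⁻¹ᵁ ModPair.interior J).ι :=
    Groth.Agent.Helper4.NApx14.quasiCompact_preimage_interior_ι J hT _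
  haveI qΩ : QuasiCompact Ω₁.ι :=
    Groth.Agent.Helper4.NApx23.quasiCompact_inf_ι _ _
  haveI dT : IsSchemeTheoreticallyDominant Ω₁.ι.toImage :=
    Groth.Agent.Helper4.NApx15.isSchemeTheoreticallyDominant_toImage Ω₁.ι
  -- the map between the closures
  have hrange : Set.range (Ω₁.ι ≫ δ).base ⊆ Set.range Ω₀.ι.base := by
    rintro _ ⟨z, rfl⟩
    rw [Scheme.Opens.range_ι]
    have hz : Ω₁.ι z ∈ Ω₁ := z.2
    refine ⟨?_, ?_⟩
    · show pullback.fst (f ≫ σ) (g ≫ σ) ((Ω₁.ι ≫ δ) z) ∈ ModPair.interior I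
      have : pullback.fst (f ≫ σ) (g ≫ σ) ((Ω₁.ι ≫ δ) z) = pullback.fst f g (Ω₁.ι z) := by
        rw [← hδ1]; rfl
      rw [this]; exact hz.1
    · show pullback.snd (f ≫ σ) (g ≫ σ) ((Ω₁.ι ≫ δ) z) ∈ ModPair.interior J
      have : pullback.snd (f ≫ σ) (g ≫ σ) ((Ω₁.ι ≫ δ) z) = pullback.snd f g (Ω₁.ι z) := by
        rw [← hδ2]; rfl
      rw [this]; exact hz.2
  have hker : ι₀.ker ≤ (ι₁ ≫ δ).ker := by
    have h1 : ι₀.ker = Ω₀.ι.ker := Scheme.IdealSheafData.ker_subschemeι _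
    have h2 : (ι₁ ≫ δ).ker = (Ω₁.ι ≫ δ).ker := by
      have h3 : Ω₁.ι ≫ δ = Ω₁.ι.toImage ≫ (ι₁ ≫ δ) := by
        rw [← Category.assoc, Scheme.Hom.toImage_imageι]
      have h5 : (Ω₁.ι.toImage ≫ (ι₁ ≫ δ)).ker = (ι₁ ≫ δ).ker := by
        rw [Scheme.Hom.ker_comp Ω₁.ι.toImage, dT.ker_eq_bot, Scheme.IdealSheafData.map_bot]
      rw [h3, h5]
    have h4 : IsOpenImmersion.lift Ω₀.ι (Ω₁.ι ≫ δ) hrange ≫ Ω₀.ι = Ω₁.ι ≫ δ :=
      IsOpenImmersion.lift_fac _ _ _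
    rw [h1, h2, ← h4]
    exact Scheme.Hom.le_ker_comp _ _
  set μ := IsClosedImmersion.lift ι₀ (ι₁ ≫ δ) hker with hμ
  have hμfac : μ ≫ ι₀ = ι₁ ≫ δ := IsClosedImmersion.lift_fac _ _ _
  -- centres
  have hC₁ : ModPair.prodCentre f g I J =
      I.comap (ι₁ ≫ pullback.fst f g) ⊔ J.comap (ι₁ ≫ pullback.snd f g) := rfl
  have hC₀ : ModPair.prodCentre (f ≫ σ) (g ≫ σ) I J =
      I.comap (ι₀ ≫ pullback.fst (f ≫ σ) (g ≫ σ)) ⊔ J.comap (ι₀ ≫ pullback.snd (f ≫ σ) (g ≫ σ)) := rfl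
  have e1 : μ ≫ ι₀ ≫ pullback.fst (f ≫ σ) (g ≫ σ) = ι₁ ≫ pullback.fst f g := by
    rw [← Category.assoc, hμfac, Category.assoc, hδ1]
  have e2 : μ ≫ ι₀ ≫ pullback.snd (f ≫ σ) (g ≫ σ) = ι₁ ≫ pullback.snd f g := by
    rw [← Category.assoc, hμfac, Category.assoc, hδ2]
  have hCμ : (ModPair.prodCentre (f ≫ σ) (g ≫ σ) I J).comap μ = ModPair.prodCentre f g I J := by
    rw [hC₀, hC₁, Scheme.IdealSheafData.comap_sup, ← Scheme.IdealSheafData.comap_comp,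
      ← Scheme.IdealSheafData.comap_comp, e1, e2]
  have hCπ : (ModPair.prodCentre (f ≫ σ) (g ≫ σ) I J).comap (π₁ ≫ μ) =
      (ModPair.prodCentre f g I J).comap π₁ := by
    rw [Scheme.IdealSheafData.comap_comp, hCμ]
  have hEff : BlowUp.IsEffCartierIdeal ((ModPair.prodCentre (f ≫ σ) (g ≫ σ) I J).comap (π₁ ≫ μ)) := by
    rw [hCπ]; exact hπ₁.1
  obtain ⟨φ₀, hφ₀, hφ₀u⟩ := hπ₀.2 Y₁ (π₁ ≫ μ) hEff
  have hiff : ∀ φ : Y₁ ⟶ Y₀, (φ ≫ π₀ ≫ ι₀ = π₁ ≫ ι₁ ≫ δ) ↔ φ ≫ π₀ = π₁ ≫ μ := by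
    intro φ
    constructor
    · intro h
      rw [← cancel_mono ι₀, Category.assoc, Category.assoc, hμfac]
      exact h
    · intro h
      rw [← Category.assoc, h, Category.assoc, hμfac]
  refine ⟨⟨φ₀, (hiff φ₀).mpr hφ₀, fun φ hφ => hφ₀u φ ((hiff φ).mp hφ)⟩, ?_⟩
  intro φ hφ
  have hφ' : φ ≫ π₀ = π₁ ≫ μ := (hiff φ).mp hφ
  show K₁ = K₀.comap φ
  have hE : ((ModPair.prodCentre (f ≫ σ) (g ≫ σ) I J).comap π₀).comap φ =
      (ModPair.prodCentre f g I J).comap π₁ := by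
    rw [← Scheme.IdealSheafData.comap_comp, hφ', hCπ]
  have hIφ : ((I.comap (ι₀ ≫ pullback.fst (f ≫ σ) (g ≫ σ))).comap π₀).comap φ =
      (I.comap (ι₁ ≫ pullback.fst f g)).comap π₁ := by
    rw [← Scheme.IdealSheafData.comap_comp, hφ', Scheme.IdealSheafData.comap_comp,
      ← Scheme.IdealSheafData.comap_comp I μ, e1]
  have hJφ : ((J.comap (ι₀ ≫ pullback.snd (f ≫ σ) (g ≫ σ))).comap π₀).comap φ =
      (J.comap (ι₁ ≫ pullback.snd f g)).comap π₁ := by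
    rw [← Scheme.IdealSheafData.comap_comp, hφ', Scheme.IdealSheafData.comap_comp,
      ← Scheme.IdealSheafData.comap_comp J μ, e2]
  have hpull := congrArg (fun L : Y₀.IdealSheafData => L.comap φ) hK₀
  simp only [Groth.Agent.Helper4.NApx24.comap_mul] at hpull
  rw [hE, hIφ, hJφ, ← hK₁] at hpull
  exact (Groth.Agent.Helper4.NApx24.mul_right_cancel_of_isEffCartier _ _ _ hπ₁.1 hpull).symm

end Groth.Agent.S18755
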