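import Groth.Statements.S18756
import Groth.Agent.Lead.LimExistOver
import Groth.Agent.Lead.FD16
import Mathlib

set_option autoImplicit false
universe u
open CategoryTheory CategoryTheory.Limits AlgebraicGeometry TopologicalSpace
open ModPair

namespace Groth.Agent.S18756

/-- Let (X_i) be a cofiltered system of schemes with affine transition morphisms such that X_{i₀} is
quasi-compact and quasi-separated for some index i₀, let X be its limit, and let {U_a ⟶ X} be an
fppf covering: a jointly surjective family of morphisms which are flat and of finite presentation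
(flat, locally of finite presentation, quasi-compact and quasi-separated). Then the covering
descends: for some index i there is a finite fppf covering {V_j ⟶ X_i}_{j < n} such that every V_j
×_{X_i} X is one of the U_a, i.e. for each j some U_{a_j} ⟶ X is the base change of V_j ⟶ X_i along
X ⟶ X_i. (The source states the same for Zariski, Nisnevich and étale coverings; only the fppf case
is given here.) -/
theorem result {I : Type u} [SmallCategory I] [IsCofiltered I]
    (D : I ⥤ Scheme.{u}) (c : Cone D) (hc : IsLimit c)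
    [∀ (i j : I) (t : i ⟶ j), IsAffineHom (D.map t)] (i₀ : I) [CompactSpace (D.obj i₀)]
    [QuasiSeparatedSpace (D.obj i₀)] {ι : Type u} (U : ι → Scheme.{u}) (u : ∀ a, U a ⟶ c.pt)
    [∀ a, Flat (u a)] [∀ a, LocallyOfFinitePresentation (u a)] [∀ a, QuasiCompact (u a)]
    [∀ a, QuasiSeparated (u a)] (hcov : ∀ x : c.pt, ∃ (a : ι) (y : U a), (u a).base y = x) :
    ∃ (i : I) (n : ℕ) (V : Fin n → Scheme.{u}) (v : ∀ j, V j ⟶ D.obj i) (a : Fin n → ι)
      (e : ∀ j, U (a j) ⟶ V j),
      (∀ j, Flat (v j) ∧ LocallyOfFinitePresentation (v j) ∧ QuasiCompact (v j) ∧ QuasiSeparated (v j)) ∧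
      (∀ x : D.obj i, ∃ (j : Fin n) (y : V j), (v j).base y = x) ∧
      ∀ j, IsPullback (e j) (u (a j)) (v j) (c.π.app i) := by
  classical
  have hA : ∀ {i j : I} (f : i ⟶ j), IsAffineHom (D.map f) := fun f ↦ inferInstance
  have hπ : IsAffineHom (c.π.app i₀) := isAffineHom_π_app D c hc i₀
  have hcpt : CompactSpace c.pt := QuasiCompact.compactSpace_of_compactSpace (c.π.app i₀)
  have hqs : QuasiSeparatedSpace c.pt := quasiSeparatedSpace_of_quasiSeparated (c.π.app i₀)
  -- finite subcover
  obtain ⟨t, ht⟩ := isCompact_univ.elim_finite_subcover (fun a ↦ Set.range (u a))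
    (fun a ↦ (u a).isOpenMap.isOpen_range) (fun x _ ↦ by
      obtain ⟨a, y, rfl⟩ := hcov x
      exact Set.mem_iUnion.mpr ⟨a, y, rfl⟩)
  let n := t.card
  let a : Fin n → ι := fun j ↦ (t.equivFin.symm j).1
  have hcov' : ∀ x : c.pt, ∃ j : Fin n, x ∈ Set.range (u (a j)) := by
    intro x
    have := ht (Set.mem_univ x)
    simp only [Set.mem_iUnion] at this
    obtain ⟨b, hb, hx⟩ := this
    have hab : a (t.equivFin ⟨b, hb⟩) = b := by simp [a]
    exact ⟨t.equivFin ⟨b, hb⟩, by rw [hab]; exact hx⟩
  -- models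
  have hM : ∀ j : Fin n, ∃ (k : I) (_ : k ⟶ i₀)
      (M : Groth.Agent.Lead.LimExist.Model (u (a j)) k), Flat M.fi := by
    intro j
    have : CompactSpace (U (a j)) := QuasiCompact.compactSpace_of_compactSpace (u (a j))
    have : QuasiSeparatedSpace (U (a j)) := quasiSeparatedSpace_of_quasiSeparated (u (a j))
    exact Groth.Agent.Lead.LimExist.exists_model_prop_over hc @Flat i₀
      (fun k s X₀ f₀ _ _ _ h ↦ Groth.Agent.Lead.FD16.flat_descends hc k (𝟙 _) f₀ h)
      (u (a j)) inferInstance
  choose k s M hMet using hM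
  -- common index
  obtain ⟨i, hi⟩ := IsCofiltered.inf_objs_exists (insert i₀ (Finset.univ.image k))
  have ti₀ : i ⟶ i₀ := (hi (by simp)).some
  have tk : ∀ j, i ⟶ k j := fun j ↦ (hi (by simp)).some
  let N : ∀ j, Groth.Agent.Lead.LimExist.Model (u (a j)) i :=
    fun j ↦ (M j).rebase (Over.mk (tk j))
  have hNet : ∀ j, Flat (N j).fi := fun j ↦ by
    haveI := hMet j
    exact inferInstanceAs (Flat (pullback.fst (D.map (tk j)) (M j).fi))
  -- the union of the images
  let O : (D.obj i).Opens := ⨆ j, ⟨Set.range (N j).fi, by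
    haveI := hNet j
    exact (N j).fi.isOpenMap.isOpen_range⟩
  have hO : c.π.app i ⁻¹ᵁ O = ⊤ := by
    rw [eq_top_iff]
    intro x _
    obtain ⟨j, y, rfl⟩ := hcov' x
    refine TopologicalSpace.Opens.mem_iSup.mpr ⟨j, (N j).g y, ?_⟩
    rw [← Scheme.Hom.comp_apply, (N j).sq.w, Scheme.Hom.comp_apply]
  have : CompactSpace (D.obj i) := QuasiCompact.compactSpace_of_compactSpace (D.map ti₀)
  obtain ⟨i', s', hs'⟩ := Groth.Agent.Lead.LimExist.exists_map_eq_top_over hc i O hO
  have hq' : QuasiSeparatedSpace (D.obj i') :=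
    quasiSeparatedSpace_of_quasiSeparated (D.map (s' ≫ ti₀))
  let N' : ∀ j, Groth.Agent.Lead.LimExist.Model (u (a j)) i' :=
    fun j ↦ (N j).rebase (Over.mk s')
  refine ⟨i', n, fun j ↦ (N' j).Xi, fun j ↦ (N' j).fi, a, fun j ↦ (N' j).g, ?_, ?_,
    fun j ↦ (N' j).sq⟩
  · intro j
    haveI := hNet j
    have := (N' j).cpt
    have := (N' j).qsep
    exact ⟨inferInstanceAs (Flat (pullback.fst (D.map s') (N j).fi)), (N' j).lfp, inferInstance,
      inferInstance⟩
  · intro x
    have hx : D.map s' x ∈ O := by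
      have : x ∈ D.map s' ⁻¹ᵁ O := by rw [hs']; trivial
      exact this
    obtain ⟨j, hj⟩ := TopologicalSpace.Opens.mem_iSup.mp hx
    have : x ∈ Set.range (pullback.fst (D.map s') (N j).fi) := by
      rw [Scheme.Pullback.range_fst]
      exact hj
    obtain ⟨y, hy⟩ := this
    exact ⟨j, y, hy⟩

end Groth.Agent.S18756
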