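import Groth.Statements.S18763
import Mathlib
import Groth.Agent.Helper9.QuotGrp
-- import your own Groth.Agent.* helpers here

set_option autoImplicit false
universe u
open CategoryTheory CategoryTheory.Limits MonoidalCategory CartesianMonoidalCategory MonObj GrpObj AlgebraicGeometry
open AlgGrp

namespace Groth.Agent.S18763

/-- Let G be a finite group scheme over a field k and H a closed subgroup scheme of G, and let (Q, q₀)
with its G-action be the homogeneous space G/H for the fppf topology (the orbit map of q₀ is an fppf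
H-torsor onto Q). Let N be a closed subgroup scheme of G which is the kernel of the action of G on
Q: a point g of G with values in a k-scheme T factors through N exactly when g acts as the identity
on all points of Q with values in T-schemes. Then N (the core of H in G) is normal in G, is
contained in H, and contains every closed normal subgroup scheme of G which is contained in H. (The
published definition takes the core to be the kernel of the linear representation of G on the
coordinate ring of G/H; this is the same subgroup as the kernel of the action on G/H used here.) -/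
theorem result
    (k : Type u) [Field k]
    (G : Over (Spec (CommRingCat.of k))) [GrpObj G] [IsFinite G.hom]
    (H : Over (Spec (CommRingCat.of k))) [GrpObj H] (i : H ⟶ G) [IsMonHom i] [IsClosedImmersion i.left]
    (Q : Over (Spec (CommRingCat.of k))) (aQ : AlgGrp.Action G Q) (q₀ : 𝟙_ (Over (Spec (CommRingCat.of k))) ⟶ Q)
    (hQ : ChGrp.IsHomog Scheme.fppfPrecoverage i aQ q₀)
    (N : Over (Spec (CommRingCat.of k))) [GrpObj N] (n : N ⟶ G) [IsMonHom n] [IsClosedImmersion n.left]
    (hN : ∀ (T : Over (Spec (CommRingCat.of k))) (g : T ⟶ G),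
      (∃ g' : T ⟶ N, g' ≫ n = g) ↔
        ∀ (T' : Over (Spec (CommRingCat.of k))) (v : T' ⟶ T) (q : T' ⟶ Q), lift (v ≫ g) q ≫ aQ.act = q) :
    AlgGrp.IsNormalHom n ∧ (∃ m : N ⟶ H, m ≫ i = n) ∧
      ∀ (N' : Over (Spec (CommRingCat.of k))) [GrpObj N'] (n' : N' ⟶ G) [IsMonHom n'] [IsClosedImmersion n'.left],
        AlgGrp.IsNormalHom n' → (∃ m' : N' ⟶ H, m' ≫ i = n') → ∃ r : N' ⟶ N, r ≫ n = n' := by
  obtain ⟨_, hpb, hloc⟩ := hQ
  have hfib := Groth.Agent.Helper9.QuotGrp.fib_of_isPullback (p := aQ.orbitMap q₀) (u := i) hpb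
  refine ⟨?_, ?_, ?_⟩
  · intro T g x
    have h0 := (hN T (g * (x ≫ n) * g⁻¹)).mpr (by
      intro T' v q
      rw [MonObj.comp_mul, MonObj.comp_mul, GrpObj.comp_inv, AlgGrp.Action.lift_mul_act,
        AlgGrp.Action.lift_mul_act]
      have h1 := (hN T (x ≫ n)).mp ⟨x, rfl⟩ T' v (lift (v ≫ g)⁻¹ q ≫ aQ.act)
      rw [h1, ← AlgGrp.Action.lift_mul_act, mul_inv_cancel, AlgGrp.Action.lift_one_act])
    obtain ⟨y, hy⟩ := h0
    exact ⟨y, hy.symm⟩
  · have h1 := (hN N n).mp ⟨𝟙 N, Category.id_comp _⟩ N (𝟙 N) (toUnit N ≫ q₀)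
    rw [Category.id_comp] at h1
    have h2 : (1 : N ⟶ G) ≫ aQ.orbitMap q₀ = n ≫ aQ.orbitMap q₀ := by
      rw [AlgGrp.Action.comp_orbitMap, AlgGrp.Action.comp_orbitMap, h1,
        AlgGrp.Action.lift_one_act]
    obtain ⟨h, hh⟩ := (hfib 1 n).mp h2
    exact ⟨h, by rw [hh, _root_.one_mul]⟩
  · intro N' _ n' _ _ hn' hm
    obtain ⟨m', hm'⟩ := hm
    have h0 := (hN N' n').mpr (by
      intro T' v q
      obtain ⟨E, j, gam, sq⟩ : ∃ (E : Over (Spec (CommRingCat.of k))) (j : E ⟶ T') (gam : E ⟶ G),
          IsPullback j gam q (aQ.orbitMap q₀) := ⟨_, _, _, IsPullback.of_hasPullback _ _⟩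
      have hj : Groth.Agent.Helper9.DescTools.Loc Scheme.fpqcPrecoverage j := by
        obtain ⟨R, hR, hsec⟩ :=
          Groth.Agent.Helper9.DescTools.pullback_loc Scheme.fppfPrecoverage sq hloc
        exact ⟨R, Scheme.fppfPrecoverage_le_fpqcPrecoverage _ hR, hsec⟩
      apply Groth.Agent.Helper9.ExactH1.over_epi_q j hj
      obtain ⟨y, hy⟩ := hn' E gam⁻¹ (j ≫ v)
      rw [_root_.inv_inv] at hy
      have h3 : (j ≫ v ≫ n') * gam = gam * ((y ≫ m') ≫ i) := by
        rw [Category.assoc, hm', ← hy, Category.assoc]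
        group
      have h4 := (hfib gam ((j ≫ v ≫ n') * gam)).mpr ⟨y ≫ m', h3⟩
      rw [comp_lift_assoc, sq.w, AlgGrp.Action.comp_orbitMap, ← AlgGrp.Action.lift_mul_act,
        ← AlgGrp.Action.comp_orbitMap, ← AlgGrp.Action.comp_orbitMap]
      exact h4.symm)
    obtain ⟨r, hr⟩ := h0
    exact ⟨r, hr⟩

end Groth.Agent.S18763
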