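import Groth.Statements.S18774
import Groth.Agent.Helper4.SN34
import Groth.Agent.Lead.PerfLib
import Groth.Agent.Lead.ProperFinA
import Mathlib

set_option autoImplicit false
universe u
open CategoryTheory CategoryTheory.Limits AlgebraicGeometry
open VBCurve

namespace Groth.Agent.S18774


/-- Let k be a finite field and C a smooth proper geometrically integral curve over k (proper, smooth
and geometrically integral over k, of dimension one), and write g = dim_k H^1(C, O_C). Let E be a
finite locally free O_C-module and F a finite locally free submodule of E of rank r' ≥ 1 (a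
monomorphism F → E). Then deg F ≤ r' · (dim_k H^0(C, E) + g − 1), that is, the slope of F is at most
h^0(C, E) + g − 1; here the degree of a rank-n locally free module G is χ(G) − n·χ(O_C). -/
theorem result (k : Type u) [Field k] [Finite k] (X : Scheme.{u}) [X.Over (Spec (CommRingCat.of k))]
    [IsProper (X ↘ Spec (CommRingCat.of k))] [Smooth (X ↘ Spec (CommRingCat.of k))]
    [GeometricallyIntegral (X ↘ Spec (CommRingCat.of k))] (hdim : topologicalKrullDim ↥X = 1)
    (E : X.Modules) (hE : FlatMod.IsFinLocFree E) (F : X.Modules) (r' : ℕ) (hr' : 0 < r')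
    (hF : FlatMod.IsFinLocFreeOfRank r' F) (i : F ⟶ E) [Mono i] :
    Curv2.deg k X F r' ≤ (r' : ℤ) * ((Module.finrank k (Coh.HH X E 0) : ℤ) + (Curv2.genus k X : ℤ) - 1) := by

  haveI := Groth.Agent.Helper4.NApx82.isNoetherian_of_proper k X
  have hEc : Coh.IsCoh E := Groth.Agent.Lead.PerfLib.isCoh_of_isFinLocFree hE
  have h := Groth.Agent.Helper4.SN.chi_le_h0_of_mono k hdim.le i hEc
  have hO := Groth.Agent.Helper4.SN.chi_eq_h0_sub_h1 k hdim.le (Coh.structureModule X)
  unfold Groth.Agent.Helper4.SN.chi at hO
  haveI : Nonempty X := by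
    by_contra hne
    rw [not_nonempty_iff] at hne
    haveI : IsEmpty (TopologicalSpace.IrreducibleCloseds X) :=
      ⟨fun Z => by
        obtain ⟨z, -⟩ := Z.isIrreducible'.nonempty
        exact hne.false z⟩
    have : topologicalKrullDim X = ⊥ := by
      unfold topologicalKrullDim
      exact Order.krullDim_eq_bot
    rw [this] at hdim
    exact absurd hdim (by decide)
  have hcO : Coh.IsCoh (Coh.structureModule X) :=
    Groth.Agent.Helper1.SerreFin.isCoh_of_isInvertible _
      Groth.Agent.Helper4.TensorInv.isInvertible_structureModule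
  haveI : Module.Finite k (Coh.HH X (Coh.structureModule X) 0) :=
    Groth.Agent.S0002.result k X _ hcO 0
  haveI : Nontrivial (Coh.HH X (Coh.structureModule X) 0) := by
    have e := Groth.Agent.Lead.ProperFinA.h0Equiv (Coh.structureModule X)
    haveI : Nonempty ↥(⊤ : X.Opens) := by
      obtain ⟨z⟩ := (inferInstance : Nonempty X)
      exact ⟨⟨z, trivial⟩⟩
    haveI : Nontrivial ((Coh.toAb (Coh.structureModule X)).obj.obj (Opposite.op ⊤)) :=
      (inferInstance : Nontrivial Γ(X, ⊤))
    exact e.toEquiv.nontrivial
  have hpos : (1 : ℤ) ≤ (Module.finrank k (Coh.HH X (Coh.structureModule X) 0) : ℤ) := by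
    exact_mod_cast Module.finrank_pos
  unfold Curv2.deg Curv2.genus
  rw [hO]
  have hr1 : (1 : ℤ) ≤ (r' : ℤ) := by exact_mod_cast hr'
  have hh : (0 : ℤ) ≤ (Module.finrank k (Coh.HH X E 0) : ℤ) := Int.natCast_nonneg _
  nlinarith

end Groth.Agent.S18774
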