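import Groth.Statements.S18789
import Mathlib
import Groth.Agent.Helper9.GradedHomog
-- import your own Groth.Agent.* helpers here

set_option autoImplicit false
universe u v w x
open TorusGr

namespace Groth.Agent.S18789

open DirectSum in
/-- Let `A` be a commutative algebra over a field `k`, graded by an additive commutative group `M` (for
`M` the character group of a split torus `T` this is a `T`-action on `Spec A`, and an `M`-graded
`A`-module is a `T`-equivariant quasi-coherent sheaf), let `P` be a finitely generated projective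
`A`-module with a compatible `M`-grading (a locally free `T`-sheaf of finite rank), and let `m` be a
homogeneous maximal ideal with residue field `k` (a `T`-fixed rational point). If homogeneous
elements `f i` of `P` reduce to a basis of `P/mP`, then there is a homogeneous `s ∉ m` such that
after inverting `s` the `f i` generate `P` and every relation among them is killed by a power of
`s`: on the invariant open `D(s)` the module is free on the homogeneous sections `f i`, with the
weights of the fibre `P/mP`. (The published statement has `M ≅ ℤ^r`, a split torus; here `M` is any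
additive commutative group, i.e. any diagonalizable group.) -/
theorem result
    {k : Type u} [Field k] {M : Type v} [AddCommGroup M] [DecidableEq M]
    {A : Type w} [CommRing A] [Algebra k A] (𝒜 : M → Submodule k A) [GradedAlgebra 𝒜]
    {P : Type x} [AddCommGroup P] [Module A P] [Module k P] [IsScalarTower k A P]
    (ℳ : M → Submodule k P) [Decomposition ℳ] [SetLike.GradedSMul 𝒜 ℳ]
    [Module.Finite A P] [Module.Projective A P]
    (m : Ideal A) [m.IsMaximal] (hm : m.IsHomogeneous 𝒜)
    (hrat : Function.Surjective (algebraMap k (A ⧸ m)))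
    {n : ℕ} (wt : Fin n → M) (f : Fin n → P) (hf : ∀ i, f i ∈ ℳ (wt i))
    (hli : LinearIndependent (A ⧸ m)
      (fun i => (Submodule.Quotient.mk (f i) : P ⧸ (m • (⊤ : Submodule A P)))))
    (hsp : Submodule.span A (Set.range f) ⊔ m • (⊤ : Submodule A P) = ⊤) :
    ∃ s : A, SetLike.IsHomogeneousElem 𝒜 s ∧ s ∉ m ∧
      (∀ p : P, ∃ (N : ℕ) (c : Fin n → A), s ^ N • p = ∑ i, c i • f i) ∧
      (∀ c : Fin n → A, ∑ i, c i • f i = 0 → ∃ N : ℕ, ∀ i, s ^ N * c i = 0) := by
  open Groth.Agent.Helper9.GradedHomog in
  classical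
  set Fs : Submodule A P := Submodule.span A (Set.range f) with hFs
  have hmprime : m.IsPrime := Ideal.IsMaximal.isPrime inferInstance
  -- Part A: generation
  obtain ⟨a₁, ha₁gen, ha₁m⟩ : ∃ a : A, (∀ p : P, a • p ∈ Fs) ∧ a ∉ m := by
    have htop : (⊤ : Submodule A (P ⧸ Fs)) ≤ m • (⊤ : Submodule A (P ⧸ Fs)) := by
      intro q _
      obtain ⟨p, rfl⟩ := Submodule.Quotient.mk_surjective Fs q
      have hp : p ∈ Fs ⊔ m • (⊤ : Submodule A P) := by rw [hsp]; trivial
      obtain ⟨x, hx, y, hy, rfl⟩ := Submodule.mem_sup.mp hp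
      rw [Submodule.Quotient.mk_add, (Submodule.Quotient.mk_eq_zero Fs).mpr hx, zero_add]
      have hmap : Submodule.map Fs.mkQ (m • (⊤ : Submodule A P)) ≤
          m • (⊤ : Submodule A (P ⧸ Fs)) := by
        rw [Submodule.map_smul'']
        exact Submodule.smul_mono le_rfl le_top
      exact hmap ⟨y, hy, rfl⟩
    obtain ⟨r, hr1, hr2⟩ := Submodule.exists_sub_one_mem_and_smul_eq_zero_of_fg_of_le_smul m
      (⊤ : Submodule A (P ⧸ Fs)) Module.Finite.fg_top htop
    refine ⟨r, fun p => ?_, fun hrm => ?_⟩
    · have := hr2 (Submodule.Quotient.mk p) trivial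
      rw [← Submodule.Quotient.mk_smul, Submodule.Quotient.mk_eq_zero] at this
      exact this
    · have h1 : (1 : A) ∈ m := by
        have := m.sub_mem hrm hr1
        simpa using this
      exact (Ideal.IsMaximal.ne_top inferInstance) ((Ideal.eq_top_iff_one m).mpr h1)
  -- Part B: relations
  obtain ⟨a₂, ha₂rel, ha₂m⟩ : ∃ a : A,
      (∀ c : Fin n → A, ∑ i, c i • f i = 0 → ∀ i, a * c i = 0) ∧ a ∉ m := by
    let _ : Field (A ⧸ m) := Ideal.Quotient.field m
    have hspan : ⊤ ≤ Submodule.span (A ⧸ m)
        (Set.range fun i => (Submodule.Quotient.mk (f i) : P ⧸ (m • (⊤ : Submodule A P)))) := by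
      intro q _
      obtain ⟨p, rfl⟩ := Submodule.Quotient.mk_surjective _ q
      have hp : p ∈ Fs ⊔ m • (⊤ : Submodule A P) := by rw [hsp]; trivial
      obtain ⟨x, hx, y, hy, rfl⟩ := Submodule.mem_sup.mp hp
      rw [Submodule.Quotient.mk_add, (Submodule.Quotient.mk_eq_zero _).mpr hy, add_zero]
      obtain ⟨c, rfl⟩ := (Submodule.mem_span_range_iff_exists_fun A).mp hx
      have hsum : (Submodule.Quotient.mk (∑ i, c i • f i) : P ⧸ (m • (⊤ : Submodule A P))) =
          ∑ i, Submodule.Quotient.mk (c i • f i) :=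
        map_sum (m • (⊤ : Submodule A P)).mkQ _ _
      rw [hsum]
      refine Submodule.sum_mem _ fun i _ => ?_
      rw [Submodule.Quotient.mk_smul]
      have : c i • (Submodule.Quotient.mk (f i) : P ⧸ (m • (⊤ : Submodule A P))) =
          (Ideal.Quotient.mk m (c i)) • (Submodule.Quotient.mk (f i) : P ⧸ (m • (⊤ : Submodule A P))) :=
        rfl
      rw [this]
      exact Submodule.smul_mem _ _ (Submodule.subset_span ⟨i, rfl⟩)
    let bq := Module.Basis.mk hli hspan
    have hlift : ∀ j : Fin n, ∃ φ : P →ₗ[A] A, ∀ p : P,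
        Ideal.Quotient.mk m (φ p) = bq.coord j (Submodule.Quotient.mk p) := by
      intro j
      let gj : P →ₗ[A] (A ⧸ m) :=
        ((bq.coord j).restrictScalars A) ∘ₗ (m • (⊤ : Submodule A P)).mkQ
      obtain ⟨φ, hφ⟩ := Module.projective_lifting_property (Submodule.mkQ m) gj
        (Submodule.mkQ_surjective m)
      exact ⟨φ, fun p => LinearMap.congr_fun hφ p⟩
    choose φ hφ using hlift
    let Gm : Matrix (Fin n) (Fin n) A := Matrix.of fun j i => φ j (f i)
    have hGm : Gm.map (Ideal.Quotient.mk m) = 1 := by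
      ext j i
      rw [Matrix.map_apply]
      show Ideal.Quotient.mk m (φ j (f i)) = _
      rw [hφ]
      have : (Submodule.Quotient.mk (f i) : P ⧸ (m • (⊤ : Submodule A P))) = bq i := by
        rw [Module.Basis.mk_apply]
      rw [this, Module.Basis.coord_apply, Module.Basis.repr_self, Matrix.one_apply,
        Finsupp.single_apply]
      by_cases h : i = j
      · rw [if_pos h, if_pos h.symm]
      · rw [if_neg h, if_neg (Ne.symm h)]
    refine ⟨Gm.det, fun c hc i => ?_, fun hdet => ?_⟩
    · have hmv : Gm.mulVec c = 0 := by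
        ext j
        rw [Matrix.mulVec, dotProduct, Pi.zero_apply]
        have : ∑ i, Gm j i * c i = φ j (∑ i, c i • f i) := by
          rw [map_sum]
          refine Finset.sum_congr rfl fun i _ => ?_
          rw [map_smul, smul_eq_mul, mul_comm]
          rfl
        rw [this, hc, map_zero]
      have h2 : (Gm.adjugate * Gm).mulVec c = 0 := by
        rw [← Matrix.mulVec_mulVec, hmv, Matrix.mulVec_zero]
      rw [Matrix.adjugate_mul, Matrix.smul_mulVec, Matrix.one_mulVec] at h2
      have := congrFun h2 i
      simpa using this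
    · have h1 : Ideal.Quotient.mk m Gm.det = 1 := by
        rw [RingHom.map_det, RingHom.mapMatrix_apply, hGm, Matrix.det_one]
      rw [Ideal.Quotient.eq_zero_iff_mem.mpr hdet] at h1
      exact zero_ne_one h1
  -- Part C: homogeneous components
  obtain ⟨g₁, hg₁⟩ := exists_component_notMem 𝒜 ha₁m
  obtain ⟨g₂, hg₂⟩ := exists_component_notMem 𝒜 ha₂m
  have hgen := gen_homogeneous 𝒜 ℳ wt f hf ha₁gen g₁
  have hrel := rel_homogeneous 𝒜 ℳ wt f hf ha₂rel g₂
  refine ⟨(DirectSum.decompose 𝒜 a₁ g₁ : A) * (DirectSum.decompose 𝒜 a₂ g₂ : A),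
    ⟨g₁ + g₂, SetLike.mul_mem_graded (SetLike.coe_mem _) (SetLike.coe_mem _)⟩, ?_, ?_, ?_⟩
  · intro h
    rcases hmprime.mem_or_mem h with h | h
    · exact hg₁ h
    · exact hg₂ h
  · intro p
    have : ((DirectSum.decompose 𝒜 a₁ g₁ : A) * (DirectSum.decompose 𝒜 a₂ g₂ : A)) • p ∈ Fs := by
      rw [mul_smul]
      exact hgen _
    obtain ⟨c, hc⟩ := (Submodule.mem_span_range_iff_exists_fun A).mp this
    exact ⟨1, c, by rw [pow_one]; exact hc.symm⟩
  · intro c hc
    refine ⟨1, fun i => ?_⟩
    rw [pow_one, mul_assoc, hrel c hc i, mul_zero]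

end Groth.Agent.S18789
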