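import Groth.Statements.S18790
import Mathlib
-- import your own Groth.Agent.* helpers here

set_option autoImplicit false
universe u v w
open TorusGr

namespace Groth.Agent.S18790

/-- Let `A` be a commutative algebra over a field `k`, graded by an additive commutative group `M` (for
`M` the character group of a split torus `T`, a `T`-action on `Spec A`), let `J` be the ideal
generated by the homogeneous elements of non-zero degree (its zero locus is the fixed-point
subscheme) and let `m ⊇ J` be a maximal ideal with residue field `k` (a fixed rational point) at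
which the fixed-point subscheme is the reduced point: `J` and `m` agree after localizing at `m`.
Then the cotangent space `m/m²` has no part of weight zero: every degree-zero element of `m` lies in
`m²`. (The published statement has `M ≅ ℤ^r`, a split torus, and phrases the conclusion as the
non-vanishing of the weights of a semi-invariant basis of `m/m²`; here `M` is any additive
commutative group, i.e. any diagonalizable group.) -/
theorem result
    {k : Type u} [Field k] {M : Type v} [AddCommGroup M] [DecidableEq M]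
    {A : Type w} [CommRing A] [Algebra k A] (𝒜 : M → Submodule k A) [GradedAlgebra 𝒜]
    (m : Ideal A) [m.IsMaximal] (hrat : Function.Surjective (algebraMap k (A ⧸ m)))
    (hfix : ∀ i : M, i ≠ 0 → ∀ a ∈ 𝒜 i, a ∈ m)
    (hred : ∀ a ∈ m, ∃ s ∉ m, s * a ∈ Ideal.span {b : A | ∃ i : M, i ≠ 0 ∧ b ∈ 𝒜 i})
    {f : A} (hf0 : f ∈ 𝒜 0) (hfm : f ∈ m) : f ∈ m ^ 2 := by
  classical
  -- degree zero projection
  let π₀ : A → A := fun x => ((DirectSum.decompose 𝒜 x 0 : 𝒜 0) : A)
  have hπadd : ∀ x y, π₀ (x + y) = π₀ x + π₀ y := fun x y => by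
    simp only [π₀, DirectSum.decompose_add, DirectSum.add_apply, Submodule.coe_add]
  have hπ0 : π₀ 0 = 0 := by
    simp only [π₀, DirectSum.decompose_zero, DirectSum.zero_apply, ZeroMemClass.coe_zero]
  set J : Ideal A := Ideal.span {b : A | ∃ i : M, i ≠ 0 ∧ b ∈ 𝒜 i} with hJ
  have hcomp : ∀ (a : A) (i : M), ((DirectSum.decompose 𝒜 a i : 𝒜 i) : A) ∈ 𝒜 i := fun a i =>
    (DirectSum.decompose 𝒜 a i).2
  -- degree zero part of an element of J lies in m^2
  have hJ2 : ∀ x ∈ J, ∀ a : A, π₀ (a * x) ∈ m ^ 2 := by
    intro x hx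
    induction hx using Submodule.span_induction with
    | mem b hb =>
      obtain ⟨d, hd, hbd⟩ := hb
      intro a
      have h1 : π₀ (a * b) = ((DirectSum.decompose 𝒜 a (-d) : 𝒜 (-d)) : A) * b := by
        have := DirectSum.coe_decompose_mul_add_of_right_mem 𝒜 (a := a) (i := -d) hbd
        rw [neg_add_cancel] at this
        exact this
      rw [h1, pow_two]
      exact Ideal.mul_mem_mul (hfix (-d) (neg_ne_zero.mpr hd) _ (hcomp a (-d))) (hfix d hd b hbd)
    | zero =>
      intro a
      rw [mul_zero, hπ0]
      exact zero_mem _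
    | add x y _ _ hx hy =>
      intro a
      rw [mul_add, hπadd]
      exact add_mem (hx a) (hy a)
    | smul c x _ hx =>
      intro a
      rw [smul_eq_mul, ← mul_assoc]
      exact hx (a * c)
  obtain ⟨s, hs, hsf⟩ := hred f hfm
  have h1 : π₀ (s * f) ∈ m ^ 2 := by
    have := hJ2 (s * f) hsf 1
    rwa [one_mul] at this
  have h2 : π₀ (s * f) = π₀ s * f := DirectSum.coe_decompose_mul_of_right_mem_zero 𝒜 hf0
  rw [h2] at h1
  have hs0 : π₀ s ∉ m := by
    intro hmem
    apply hs
    rw [← DirectSum.sum_support_decompose 𝒜 s]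
    apply Ideal.sum_mem
    intro i _
    by_cases hi : i = 0
    · subst hi
      exact hmem
    · exact hfix i hi _ (hcomp s i)
  -- invert π₀ s modulo m
  obtain ⟨t, ht⟩ := Ideal.Quotient.exists_inv (I := m)
    (show (Ideal.Quotient.mk m (π₀ s)) ≠ 0 from fun h => hs0 (Ideal.Quotient.eq_zero_iff_mem.mp h))
  obtain ⟨t', rfl⟩ := Ideal.Quotient.mk_surjective t
  have h3 : 1 - π₀ s * t' ∈ m := by
    rw [← Ideal.Quotient.eq_zero_iff_mem, map_sub, map_one, map_mul, ht, sub_self]
  have h4 : f = t' * (π₀ s * f) + (1 - π₀ s * t') * f := by ring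
  rw [h4]
  apply add_mem
  · exact Ideal.mul_mem_left _ _ h1
  · rw [pow_two]
    exact Ideal.mul_mem_mul h3 hfm

end Groth.Agent.S18790
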