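import Groth.Statements.S18791
import Mathlib
-- import your own Groth.Agent.* helpers here

set_option autoImplicit false
universe u v w x
open TorusGr

namespace Groth.Agent.S18791

/-- Let `φ : B → A` be a degree-preserving homomorphism of commutative algebras over a field `k` graded
by an additive commutative group `M` (for `M` the character group of a split torus, an equivariant
morphism `Spec A → Spec B`), and let `m` be a maximal ideal of `A` containing all homogeneous
elements of non-zero degree (a fixed point). Then the ideal of those `b` whose image is zero in the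
local ring `A_m` is homogeneous: the homogeneous (weight) components of such a `b` again die in
`A_m`. Since `A_m` embeds in its completion when `A` is Noetherian, these are the elements of `B`
that die in the completed local ring. (The published lemma asserts moreover that, for `B = k[Y_1, …,
Y_d]` mapping the `Y_i` to semi-invariant lifts of a basis of `m/m²`, the kernel of the induced
surjection of completions `k[[Y]] → Â_m` is generated by semi-invariant polynomials; generation of
that kernel by polynomials can fail, so only the statement about polynomial elements of the kernel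
is recorded here. The published statement has `M ≅ ℤ^r` (a split torus) and `B` the polynomial ring
on the lifts; here `M` is any additive commutative group and `B` any `M`-graded `k`-algebra.) -/
theorem result
    {k : Type u} [Field k] {M : Type v} [AddCommGroup M] [DecidableEq M]
    {A : Type w} [CommRing A] [Algebra k A] (𝒜 : M → Submodule k A) [GradedAlgebra 𝒜]
    {B : Type x} [CommRing B] [Algebra k B] (ℬ : M → Submodule k B) [GradedAlgebra ℬ]
    (φ : B →ₐ[k] A) (hφ : ∀ i : M, ∀ b ∈ ℬ i, φ b ∈ 𝒜 i)
    (m : Ideal A) [m.IsMaximal] (hfix : ∀ i : M, i ≠ 0 → ∀ a ∈ 𝒜 i, a ∈ m) :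
    (RingHom.ker ((algebraMap A (Localization.AtPrime m)).comp (φ : B →+* A))).IsHomogeneous ℬ := by
  classical
  intro i b hb
  rw [RingHom.mem_ker, RingHom.comp_apply] at hb ⊢
  obtain ⟨⟨s, hs⟩, hsb⟩ :=
    (IsLocalization.map_eq_zero_iff m.primeCompl (Localization.AtPrime m) (φ b)).mp hb
  have hsm : s ∉ m := hs
  have hsb' : s * φ b = 0 := hsb
  let c : M → A := fun l => φ ((DirectSum.decompose ℬ b l : ℬ l) : B)
  have hc : ∀ l, c l ∈ 𝒜 l := fun l => hφ l _ (SetLike.coe_mem _)
  set T := (DirectSum.decompose ℬ b).support with hT
  have hcT : ∀ l, l ∉ T → c l = 0 := by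
    intro l hl
    have : DirectSum.decompose ℬ b l = 0 := DFinsupp.notMem_support_iff.mp hl
    show φ ((DirectSum.decompose ℬ b l : ℬ l) : B) = 0
    rw [this, ZeroMemClass.coe_zero, map_zero]
  have hsum : (φ b : A) = ∑ l ∈ T, c l := by
    conv_lhs => rw [← DirectSum.sum_support_decompose ℬ b]
    exact map_sum φ _ _
  let sj : M → A := fun j => GradedRing.proj 𝒜 j s
  have hsj : ∀ j, sj j ∈ 𝒜 j := fun j => (DirectSum.decompose 𝒜 s j).2
  have hcomp : ∀ i, ∑ l ∈ T, sj (i - l) * c l = 0 := by
    intro i
    have h0 : GradedRing.proj 𝒜 i (s * φ b) = 0 := by rw [hsb', map_zero]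
    rw [hsum, Finset.mul_sum, map_sum] at h0
    rw [← h0]
    apply Finset.sum_congr rfl
    intro l _
    have := DirectSum.coe_decompose_mul_add_of_right_mem 𝒜 (a := s) (i := i - l) (hc l)
    rw [sub_add_cancel] at this
    exact this.symm
  -- degree zero part of s is not in m
  have hu : sj 0 ∉ m := by
    intro hmem
    apply hsm
    rw [← DirectSum.sum_support_decompose 𝒜 s]
    apply Ideal.sum_mem
    intro j _
    by_cases hj : j = 0
    · subst hj
      exact hmem
    · exact hfix j hj _ (hsj j)
  obtain ⟨t, ht⟩ := Ideal.Quotient.exists_inv (I := m)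
    (show (Ideal.Quotient.mk m (sj 0)) ≠ 0 from fun h => hu (Ideal.Quotient.eq_zero_iff_mem.mp h))
  obtain ⟨t', rfl⟩ := Ideal.Quotient.mk_surjective t
  have h3 : 1 - sj 0 * t' ∈ m := by
    rw [← Ideal.Quotient.eq_zero_iff_mem, map_sub, map_one, map_mul, ht, sub_self]
  -- the ideal spanned by the components
  set N : Submodule A A := Submodule.span A (Set.range c) with hN
  have hcN : ∀ l, c l ∈ N := fun l => Submodule.subset_span ⟨l, rfl⟩
  have hfg : N.FG := by
    apply Submodule.fg_span
    apply ((T.image c).finite_toSet.insert 0).subset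
    rintro _ ⟨l, rfl⟩
    by_cases hl : l ∈ T
    · exact Or.inr (Finset.mem_coe.mpr (Finset.mem_image_of_mem c hl))
    · exact Or.inl (hcT l hl)
  have hle : N ≤ m • N := by
    rw [hN, Submodule.span_le]
    rintro _ ⟨l, rfl⟩
    show c l ∈ m • N
    by_cases hl : l ∈ T
    · have h4 : sj 0 * c l = -∑ l' ∈ T.erase l, sj (l - l') * c l' := by
        have := hcomp l
        rw [← Finset.add_sum_erase T _ hl, sub_self] at this
        exact eq_neg_of_add_eq_zero_left this
      have h5 : sj 0 * c l ∈ m • N := by
        rw [h4]
        apply neg_mem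
        apply Submodule.sum_mem
        intro l' hl'
        have hne : l - l' ≠ 0 := sub_ne_zero.mpr (Finset.ne_of_mem_erase hl').symm
        exact Submodule.smul_mem_smul (hfix _ hne _ (hsj _)) (hcN l')
      have h6 : c l = t' * (sj 0 * c l) + (1 - sj 0 * t') * c l := by ring
      rw [h6]
      apply add_mem
      · exact Submodule.smul_mem _ t' h5
      · exact Submodule.smul_mem_smul h3 (hcN l)
    · rw [hcT l hl]
      exact zero_mem _
  obtain ⟨r, hr1, hrN⟩ :=
    Submodule.exists_sub_one_mem_and_smul_eq_zero_of_fg_of_le_smul m N hfg hle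
  have hrm : r ∉ m := by
    intro hr
    have : (1 : A) ∈ m := by
      have := m.sub_mem hr hr1
      rwa [sub_sub_cancel] at this
    exact (Ideal.IsMaximal.ne_top inferInstance) ((Ideal.eq_top_iff_one m).mpr this)
  exact (IsLocalization.map_eq_zero_iff m.primeCompl (Localization.AtPrime m) _).mpr
    ⟨⟨r, hrm⟩, hrN (c i) (hcN i)⟩

end Groth.Agent.S18791
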