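import Groth.Statements.S18792
import Mathlib
-- import your own Groth.Agent.* helpers here

set_option autoImplicit false
universe u
open DefMod

namespace Groth.Agent.S18792

/-- Let A be an associative unital algebra over ℚ, let a ∈ A be nilpotent and let b ∈ A. Then the
commutator map x ↦ a x − x a is a nilpotent ℚ-linear endomorphism of A, and exp(a) b exp(−a) =
exp(ad a)(b), where exp is the finite exponential series of a nilpotent element and ad a is the
commutator map. (The published statement takes A an algebra over an arbitrary commutative ring; the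
factorials in the exponential series require the rationals to act, so A is taken to be a ℚ-algebra
here. The intermediate double-sum expansion printed between the two sides is not restated.) -/
theorem result {A : Type u} [Ring A] [Algebra ℚ A] (a b : A)
    (ha : IsNilpotent a) :
    IsNilpotent (LinearMap.mulLeft ℚ a - LinearMap.mulRight ℚ a) ∧
      IsNilpotent.exp a * b * IsNilpotent.exp (-a) =
        IsNilpotent.exp (LinearMap.mulLeft ℚ a - LinearMap.mulRight ℚ a) b := by
  have hLpow : ∀ (c : A) (n : ℕ), (LinearMap.mulLeft ℚ c) ^ n = LinearMap.mulLeft ℚ (c ^ n) := by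
    intro c n
    induction n with
    | zero => ext x; simp
    | succ n ih =>
      ext x
      rw [pow_succ, Module.End.mul_apply, ih]
      simp [pow_succ, mul_assoc]
  have hRpow : ∀ (c : A) (n : ℕ), (LinearMap.mulRight ℚ c) ^ n = LinearMap.mulRight ℚ (c ^ n) := by
    intro c n
    induction n with
    | zero => ext x; simp
    | succ n ih =>
      ext x
      rw [pow_succ, Module.End.mul_apply, ih]
      simp [pow_succ', mul_assoc]
  obtain ⟨k, hk⟩ := ha
  have hLk : (LinearMap.mulLeft ℚ a) ^ k = 0 := by
    rw [hLpow, hk]; ext x; simp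
  have hRk : (-LinearMap.mulRight ℚ a) ^ k = 0 := by
    have : (-LinearMap.mulRight ℚ a : Module.End ℚ A) = LinearMap.mulRight ℚ (-a) := by
      ext x; simp
    rw [this, hRpow, neg_pow, hk]; ext x; simp
  have hLnil : IsNilpotent (LinearMap.mulLeft ℚ a) := ⟨k, hLk⟩
  have hRnil : IsNilpotent (-LinearMap.mulRight ℚ a : Module.End ℚ A) := ⟨k, hRk⟩
  have hcomm : Commute (LinearMap.mulLeft ℚ a) (-LinearMap.mulRight ℚ a : Module.End ℚ A) := by
    show (LinearMap.mulLeft ℚ a : Module.End ℚ A) * (-LinearMap.mulRight ℚ a) =
      (-LinearMap.mulRight ℚ a) * LinearMap.mulLeft ℚ a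
    ext x
    simp [mul_assoc]
  have hsub : (LinearMap.mulLeft ℚ a - LinearMap.mulRight ℚ a : Module.End ℚ A) =
      LinearMap.mulLeft ℚ a + (-LinearMap.mulRight ℚ a) := sub_eq_add_neg _ _
  refine ⟨?_, ?_⟩
  · rw [hsub]
    exact hcomm.isNilpotent_add hLnil hRnil
  · rw [hsub, IsNilpotent.exp_add_of_commute hcomm hLnil hRnil, Module.End.mul_apply]
    have hnegk : (-a) ^ k = 0 := by rw [neg_pow, hk, mul_zero]
    have e1 : IsNilpotent.exp (-LinearMap.mulRight ℚ a : Module.End ℚ A) b =
        b * IsNilpotent.exp (-a) := by
      have : (-LinearMap.mulRight ℚ a : Module.End ℚ A) = LinearMap.mulRight ℚ (-a) := by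
        ext x; simp
      rw [IsNilpotent.exp_eq_sum hRk, IsNilpotent.exp_eq_sum hnegk, this, Finset.mul_sum,
        LinearMap.sum_apply]
      refine Finset.sum_congr rfl fun i _ => ?_
      rw [hRpow, LinearMap.smul_apply, LinearMap.mulRight_apply, mul_smul_comm]
    have e2 : ∀ y : A, IsNilpotent.exp (LinearMap.mulLeft ℚ a) y = IsNilpotent.exp a * y := by
      intro y
      rw [IsNilpotent.exp_eq_sum hLk, IsNilpotent.exp_eq_sum hk, Finset.sum_mul,
        LinearMap.sum_apply]
      refine Finset.sum_congr rfl fun i _ => ?_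
      rw [hLpow, LinearMap.smul_apply, LinearMap.mulLeft_apply, smul_mul_assoc]
    rw [e1, e2, mul_assoc]

end Groth.Agent.S18792
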