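import Groth.Statements.S18803
import Mathlib
-- import your own Groth.Agent.* helpers here

set_option autoImplicit false
universe u v w w'
open DefMod

namespace Groth.Agent.S18803

/-- Let K be a field of characteristic zero, D an associative K-algebra, E and F left D-modules, and s :
D → Hom_K(E, F) a K-linear map with s(ab)(e) = a s(b)(e) + s(a)(b e). The twisted sum F ⊕_s E (that
is F × E with a · (f, e) = (a f + s(a) e, a e)) is a trivial extension of E by F — there is a
D-linear isomorphism F ⊕_s E ≅ F × E with the direct-sum module structure, carrying the inclusion f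
↦ (f, 0) to itself and compatible with the second projections — if and only if s is principal:
s(a)(e) = a σ(e) − σ(a e) for some K-linear σ : E → F (a Hochschild 1-coboundary). -/
theorem result
    {K : Type u} [Field K] [CharZero K]
    {D : Type v} [Ring D] [Algebra K D]
    {E : Type w} [AddCommGroup E] [Module K E] [Module D E] [IsScalarTower K D E]
    {F : Type w'} [AddCommGroup F] [Module K F] [Module D F] [IsScalarTower K D F]
    (s : D →ₗ[K] E →ₗ[K] F) (hs : W4c6defoisocp1.IsHomDerivation s) :
    (∃ Ψ : W4c6defoisocp1.TwistExt s hs ≃ₗ[D] F × E,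
        (∀ f : F, Ψ (W4c6defoisocp1.TwistExt.inl f) = (f, 0)) ∧ ∀ x : W4c6defoisocp1.TwistExt s hs, (Ψ x).2 = W4c6defoisocp1.TwistExt.snd x) ↔
      W4c6defoisocp1.IsPrincipal s := by
  open W4c6defoisocp1 in
  constructor
  · rintro ⟨Ψ, hΨ1, hΨ2⟩
    have hs1 : s 1 = 0 := TwistExt.map_one_eq_zero hs
    have hsalg : ∀ c : K, s (algebraMap K D c) = 0 := by
      intro c
      rw [Algebra.algebraMap_eq_smul_one, map_smul, hs1, smul_zero]
    have hfst : ∀ x : TwistExt s hs, x = TwistExt.inl (TwistExt.val x).1 + TwistExt.mk (0, (TwistExt.val x).2) := by
      intro x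
      apply TwistExt.ext <;> simp
    let σf : E → F := fun e => (Ψ (TwistExt.mk (0, e))).1
    have hadd : ∀ e e' : E, σf (e + e') = σf e + σf e' := by
      intro e e'
      have : (TwistExt.mk (0, e + e') : TwistExt s hs) = TwistExt.mk (0, e) + TwistExt.mk (0, e') := by
        apply TwistExt.ext <;> simp
      show (Ψ (TwistExt.mk (0, e + e'))).1 = _
      rw [this, map_add]; rfl
    have hkey : ∀ (a : D) (e : E), s a e + σf (a • e) = a • σf e := by
      intro a e
      have h1 : a • (TwistExt.mk (0, e) : TwistExt s hs) =
          TwistExt.inl (s a e) + TwistExt.mk (0, a • e) := by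
        apply TwistExt.ext <;> simp
      have h2 := congrArg Ψ h1
      rw [map_smul, map_add, hΨ1] at h2
      have h3 := congrArg Prod.fst h2
      simp only [Prod.smul_fst, Prod.fst_add] at h3
      exact h3.symm
    refine ⟨{ toFun := σf
              map_add' := hadd
              map_smul' := ?_ }, ?_⟩
    · intro c e
      simp only [RingHom.id_apply]
      have h1 := hkey (algebraMap K D c) e
      rw [hsalg, LinearMap.zero_apply, zero_add, algebraMap_smul, algebraMap_smul] at h1
      exact h1
    · intro a e
      show s a e = a • σf e - σf (a • e)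
      rw [← hkey a e]; abel
  · rintro ⟨σ, hσ⟩
    let Ψf : TwistExt s hs →ₗ[D] F × E :=
      { toFun := fun x => ((TwistExt.val x).1 + σ (TwistExt.val x).2, (TwistExt.val x).2)
        map_add' := by
          intro x y
          ext <;> simp
          abel
        map_smul' := by
          intro a x
          ext
          · simp only [TwistExt.val_smul, RingHom.id_apply, Prod.smul_fst, hσ, smul_add]
            abel
          · simp }
    let Ψg : F × E →ₗ[D] TwistExt s hs :=
      { toFun := fun x => TwistExt.mk (x.1 - σ x.2, x.2)
        map_add' := by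
          intro x y
          apply TwistExt.ext <;> simp
          abel
        map_smul' := by
          intro a x
          apply TwistExt.ext
          · simp only [TwistExt.val_mk, Prod.smul_fst, Prod.smul_snd, RingHom.id_apply,
              TwistExt.val_smul, hσ, smul_sub]
            abel
          · simp }
    refine ⟨LinearEquiv.ofLinearMap Ψf Ψg ?_ ?_, ?_, ?_⟩
    · ext x <;> simp [Ψf, Ψg]
    · ext x
      apply TwistExt.ext <;> simp [Ψf, Ψg]
    · intro f
      show ((TwistExt.val (TwistExt.inl f : TwistExt s hs)).1 + σ (TwistExt.val (TwistExt.inl f : TwistExt s hs)).2, _) = _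
      simp
    · intro x
      rfl

end Groth.Agent.S18803
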