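import Groth.Statements.S18806
import Groth.Agent.Helper9.Comod
-- import your own Groth.Agent.* helpers here

set_option autoImplicit false
universe u v v' w w' x
open TensorProduct
open HopfRep

namespace Groth.Agent.S18806

/-- Let k be a field, i : C → D an injective morphism of k-coalgebras and V a right D-comodule with
coaction ρ : V → V ⊗ D. If ρ(v) lies in the image of V ⊗ C → V ⊗ D (induced by i) for every v, then
V comes from a C-comodule: there is a C-comodule structure on V whose coaction, followed by V ⊗ C →
V ⊗ D, is ρ. (The source states this for left comodules over the coordinate bialgebras of an affine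
monoid scheme over k and of its group of units, assumed open and schematically dense, and uses that
assumption only through the injectivity of the restriction map of coordinate rings; the row is the
right-comodule mirror image for any injective coalgebra map. The converse direction is immediate.) -/
theorem result (k : Type u) [Field k]
    (C : Type v) [AddCommGroup C] [Module k C] [Coalgebra k C]
    (D : Type v') [AddCommGroup D] [Module k D] [Coalgebra k D]
    (i : C →ₗc[k] D) (hi : Function.Injective i)
    (V : Type w) [AddCommGroup V] [Module k V] [HopfRep.Comod k D V]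
    (h : ∀ v : V, HopfRep.Comod.coact (k := k) (A := D) v ∈ LinearMap.range ((i : C →ₗ[k] D).lTensor V)) :
    ∃ c : HopfRep.Comod k C V,
      (i : C →ₗ[k] D).lTensor V ∘ₗ c.coact = HopfRep.Comod.coact (k := k) (A := D) := by
  classical
  let ι : V ⊗[k] C →ₗ[k] V ⊗[k] D := (i : C →ₗ[k] D).lTensor V
  have hinj : Function.Injective ι := Groth.Agent.Helper9.lTensor_injective _ hi
  let ρD : V →ₗ[k] V ⊗[k] D := HopfRep.Comod.coact (k := k) (A := D) (V := V)
  let ρ : V →ₗ[k] V ⊗[k] C := (LinearEquiv.ofInjective ι hinj).symm.toLinearMap ∘ₗ
    LinearMap.codRestrict (LinearMap.range ι) ρD h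
  have hρ : ∀ v, ι (ρ v) = ρD v := by
    intro v
    have := LinearEquiv.apply_symm_apply (LinearEquiv.ofInjective ι hinj)
      (LinearMap.codRestrict (LinearMap.range ι) ρD h v)
    have h2 := congrArg Subtype.val this
    rw [LinearEquiv.ofInjective_apply] at h2
    exact h2
  refine ⟨{ coact := ρ, coassoc := ?_, counit_comp := ?_ }, LinearMap.ext hρ⟩
  · have hii : Function.Injective
        ((TensorProduct.map (i : C →ₗ[k] D) (i : C →ₗ[k] D)).lTensor V) :=
      Groth.Agent.Helper9.lTensor_injective _
        (TensorProduct.map_injective_of_flat_flat _ _ hi hi)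
    have h1 : ∀ z : (V ⊗[k] C) ⊗[k] C,
        ((TensorProduct.map (i : C →ₗ[k] D) (i : C →ₗ[k] D)).lTensor V)
          ((TensorProduct.assoc k V C C) z) =
        (TensorProduct.assoc k V D D) (TensorProduct.map ι (i : C →ₗ[k] D) z) := by
      intro z
      induction z using TensorProduct.induction_on with
      | zero => simp
      | tmul y c =>
        induction y using TensorProduct.induction_on with
        | zero => simp
        | tmul v c' => simp [ι]
        | add y₁ y₂ h₁ h₂ =>
          simp only [TensorProduct.add_tmul, map_add]
          rw [h₁, h₂]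
      | add z₁ z₂ h₁ h₂ =>
        simp only [map_add]
        rw [h₁, h₂]
    have h2 : ∀ y : V ⊗[k] C, TensorProduct.map ι (i : C →ₗ[k] D) ((ρ.rTensor C) y) =
        (ρD.rTensor D) (ι y) := by
      intro y
      induction y using TensorProduct.induction_on with
      | zero => simp
      | tmul v c => simp [ι, hρ]
      | add y₁ y₂ h₁ h₂ =>
        simp only [map_add]
        rw [h₁, h₂]
    apply LinearMap.ext
    intro v
    apply hii
    simp only [LinearMap.comp_apply, LinearEquiv.coe_coe]
    rw [h1, h2, hρ]
    have hD := LinearMap.congr_fun (HopfRep.Comod.coassoc (k := k) (A := D) (V := V)) v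
    simp only [LinearMap.comp_apply, LinearEquiv.coe_coe] at hD
    rw [hD, ← LinearMap.lTensor_comp_apply, CoalgHomClass.map_comp_comul,
      LinearMap.lTensor_comp_apply]
    exact congrArg _ (hρ v).symm
  · apply LinearMap.ext
    intro v
    have hD := LinearMap.congr_fun (HopfRep.Comod.counit_comp (k := k) (A := D) (V := V)) v
    simp only [LinearMap.comp_apply] at hD ⊢
    rw [← hD, ← hρ v, ← LinearMap.lTensor_comp_apply, CoalgHomClass.counit_comp]

end Groth.Agent.S18806
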