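import Groth.Statements.S18808
import Groth.Agent.Helper9.Comod
-- import your own Groth.Agent.* helpers here

set_option autoImplicit false
universe u v v' w w' x
open TensorProduct
open HopfRep

namespace Groth.Agent.S18808

/-- Let k be a field, i : C → D an injective morphism of k-coalgebras and V a right D-comodule with
coaction ρ. Call a D-subcomodule K of V admissible when the induced coaction of V/K, namely ρ
followed by the projection V ⊗ D → (V/K) ⊗ D, takes all its values in the image of (V/K) ⊗ C → (V/K)
⊗ D (so that V/K comes from a C-comodule). Then there is a least admissible D-subcomodule of V: V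
has a largest quotient D-comodule coming from C, through which every D-comodule map from V to a
comodule coming from C factors. (The source states this for left comodules over the coordinate
bialgebras of an affine monoid scheme and its open schematically dense group of units, as the
existence of a universal map from a representation of the unit group to a representation of the
monoid; it uses that assumption only through the injectivity of the restriction map.) -/
theorem result (k : Type u) [Field k]
    (C : Type v) [AddCommGroup C] [Module k C] [Coalgebra k C]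
    (D : Type v') [AddCommGroup D] [Module k D] [Coalgebra k D]
    (i : C →ₗc[k] D) (hi : Function.Injective i)
    (V : Type w) [AddCommGroup V] [Module k V] [HopfRep.Comod k D V] :
    ∃ K : Submodule k V, HopfRep.IsSubcomod (k := k) (A := D) K ∧
      (∀ v : V, K.mkQ.rTensor D (HopfRep.Comod.coact (k := k) (A := D) v) ∈
        LinearMap.range ((i : C →ₗ[k] D).lTensor (V ⧸ K))) ∧
      ∀ K' : Submodule k V, HopfRep.IsSubcomod (k := k) (A := D) K' →
        (∀ v : V, K'.mkQ.rTensor D (HopfRep.Comod.coact (k := k) (A := D) v) ∈
          LinearMap.range ((i : C →ₗ[k] D).lTensor (V ⧸ K'))) → K ≤ K' := by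
  classical
  let ρ : V →ₗ[k] V ⊗[k] D := HopfRep.Comod.coact (k := k) (A := D) (V := V)
  let act : (D →ₗ[k] k) → V →ₗ[k] V := fun ψ =>
    (TensorProduct.rid k V).toLinearMap ∘ₗ ψ.lTensor V ∘ₗ ρ
  have hact : ∀ ψ v, act ψ v = TensorProduct.rid k V (ψ.lTensor V (ρ v)) := fun _ _ => rfl
  let K : Submodule k V :=
    Submodule.span k {w | ∃ (ψ : D →ₗ[k] k), ψ ∘ₗ (i : C →ₗ[k] D) = 0 ∧ ∃ v : V, w = act ψ v}
  -- composition of actions
  have hcompose : ∀ (φ ψ : D →ₗ[k] k) (v : V),
      act φ (act ψ v) = act (LinearMap.mul' k k ∘ₗ TensorProduct.map φ ψ ∘ₗ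
        Coalgebra.comul (R := k) (A := D)) v := by
    intro φ ψ v
    have hH : ∀ (z' : V ⊗[k] D) (d : D),
        TensorProduct.rid k V ((LinearMap.mul' k k ∘ₗ TensorProduct.map φ ψ).lTensor V
          ((TensorProduct.assoc k V D D) (z' ⊗ₜ[k] d))) =
        ψ d • TensorProduct.rid k V (φ.lTensor V z') := by
      intro z' d
      induction z' using TensorProduct.induction_on with
      | zero => simp
      | tmul v' d' =>
        simp [mul_smul]
        exact smul_comm _ _ _
      | add z₁ z₂ h₁ h₂ =>
        rw [TensorProduct.add_tmul]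
        simp only [map_add, smul_add]
        rw [h₁, h₂]
    have hG : ∀ y : V ⊗[k] D,
        TensorProduct.rid k V (φ.lTensor V (ρ (TensorProduct.rid k V (ψ.lTensor V y)))) =
        TensorProduct.rid k V ((LinearMap.mul' k k ∘ₗ TensorProduct.map φ ψ).lTensor V
          ((TensorProduct.assoc k V D D) ((ρ.rTensor D) y))) := by
      intro y
      induction y using TensorProduct.induction_on with
      | zero => simp
      | tmul v' d =>
        rw [LinearMap.rTensor_tmul, hH]
        simp
      | add y₁ y₂ h₁ h₂ =>
        simp only [map_add]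
        rw [h₁, h₂]
    rw [hact, hact, hG, hact]
    have hco := LinearMap.congr_fun (HopfRep.Comod.coassoc (k := k) (A := D) (V := V)) v
    simp only [LinearMap.comp_apply, LinearEquiv.coe_coe] at hco
    rw [hco, ← LinearMap.lTensor_comp_apply]
    rfl
  have hperp : ∀ (φ ψ : D →ₗ[k] k), ψ ∘ₗ (i : C →ₗ[k] D) = 0 →
      (LinearMap.mul' k k ∘ₗ TensorProduct.map φ ψ ∘ₗ Coalgebra.comul (R := k) (A := D)) ∘ₗ
        (i : C →ₗ[k] D) = 0 := by
    intro φ ψ hψ
    have h0 : TensorProduct.map φ ψ ∘ₗ
        TensorProduct.map (i : C →ₗ[k] D) (i : C →ₗ[k] D) = 0 := by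
      rw [← TensorProduct.map_comp, hψ, TensorProduct.map_zero_right]
    apply LinearMap.ext
    intro c
    simp only [LinearMap.comp_apply, LinearMap.zero_apply]
    have h1 := LinearMap.congr_fun (CoalgHomClass.map_comp_comul i) c
    simp only [LinearMap.comp_apply] at h1
    have h2 := LinearMap.congr_fun h0 (Coalgebra.comul (R := k) (A := C) c)
    simp only [LinearMap.comp_apply, LinearMap.zero_apply] at h2
    rw [← h1, h2, map_zero]
  refine ⟨K, ?_, ?_, ?_⟩
  · -- K is a subcomodule
    intro w hw
    induction hw using Submodule.span_induction with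
    | mem w hw =>
      obtain ⟨ψ, hψ, v, rfl⟩ := hw
      apply Groth.Agent.Helper9.mem_range_rTensor_subtype_of_forall_functional
      intro φ
      have := hcompose φ ψ v
      rw [hact φ] at this
      rw [this]
      exact Submodule.subset_span ⟨_, hperp φ ψ hψ, v, rfl⟩
    | zero => rw [map_zero]; exact zero_mem _
    | add x y _ _ hx hy => rw [map_add]; exact add_mem hx hy
    | smul a x _ hx => rw [map_smul]; exact Submodule.smul_mem _ a hx
  · -- admissible
    intro v
    apply Groth.Agent.Helper9.mem_range_lTensor_of_forall_functional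
    intro ψ hψ
    rw [Groth.Agent.Helper9.rid_lTensor_rTensor, Submodule.mkQ_apply,
      Submodule.Quotient.mk_eq_zero]
    exact Submodule.subset_span ⟨ψ, hψ, v, rfl⟩
  · -- least
    intro K' _ hK'
    apply Submodule.span_le.mpr
    rintro _ ⟨ψ, hψ, v, rfl⟩
    obtain ⟨y, hy⟩ := hK' v
    have h1 := Groth.Agent.Helper9.rid_lTensor_rTensor K'.mkQ ψ (ρ v)
    rw [← hy, ← LinearMap.lTensor_comp_apply, hψ, LinearMap.lTensor_zero, LinearMap.zero_apply,
      map_zero] at h1
    have h2 : K'.mkQ (act ψ v) = 0 := h1.symm
    rw [Submodule.mkQ_apply, Submodule.Quotient.mk_eq_zero] at h2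
    exact h2

end Groth.Agent.S18808
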