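import Groth.Statements.S18809
import Groth.Agent.Helper9.Comod
import Groth.Agent.S18807
-- import your own Groth.Agent.* helpers here

set_option autoImplicit false
universe u v v' w w' x
open TensorProduct
open HopfRep

namespace Groth.Agent.S18809

/-- Let k be a field and i : C → D an injective morphism of k-coalgebras. If every right D-comodule is
semisimple (every subcomodule has a complementary subcomodule), then every right C-comodule is
semisimple. (The source states this for the coordinate bialgebras of an affine monoid scheme over k
and of its open schematically dense group of units, through the injectivity of the restriction map,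
with semisimple meaning that every representation is a sum of irreducible subrepresentations;
D-comodules are quantified in the universe of the given C-comodule.) -/
theorem result (k : Type u) [Field k]
    (C : Type v) [AddCommGroup C] [Module k C] [Coalgebra k C]
    (D : Type v') [AddCommGroup D] [Module k D] [Coalgebra k D]
    (i : C →ₗc[k] D) (hi : Function.Injective i)
    (hD : ∀ (W : Type w) [AddCommGroup W] [Module k W] [HopfRep.Comod k D W], HopfRep.IsSemisimpleComod k D W)
    (V : Type w) [AddCommGroup V] [Module k V] [HopfRep.Comod k C V] :
    HopfRep.IsSemisimpleComod k C V := by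
  classical
  let ι : V ⊗[k] C →ₗ[k] V ⊗[k] D := (i : C →ₗ[k] D).lTensor V
  let ρ : V →ₗ[k] V ⊗[k] C := HopfRep.Comod.coact (k := k) (A := C) (V := V)
  have h1 : ∀ z : (V ⊗[k] C) ⊗[k] C,
      ((TensorProduct.map (i : C →ₗ[k] D) (i : C →ₗ[k] D)).lTensor V)
        ((TensorProduct.assoc k V C C) z) =
      (TensorProduct.assoc k V D D) (TensorProduct.map ι (i : C →ₗ[k] D) z) := by
    intro z
    induction z using TensorProduct.induction_on with
    | zero => simp
    | tmul y c =>
      induction y using TensorProduct.induction_on with
      | zero => simp
      | tmul v c' => simp [ι]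
      | add y₁ y₂ h₁ h₂ =>
        simp only [TensorProduct.add_tmul, map_add]
        rw [h₁, h₂]
    | add z₁ z₂ h₁ h₂ =>
      simp only [map_add]
      rw [h₁, h₂]
  have h2 : ∀ y : V ⊗[k] C, TensorProduct.map ι (i : C →ₗ[k] D) ((ρ.rTensor C) y) =
      ((ι ∘ₗ ρ).rTensor D) (ι y) := by
    intro y
    induction y using TensorProduct.induction_on with
    | zero => simp
    | tmul v c => simp [ι]
    | add y₁ y₂ h₁ h₂ =>
      simp only [map_add]
      rw [h₁, h₂]
  letI instD : HopfRep.Comod k D V :=
    { coact := ι ∘ₗ ρ
      coassoc := by
        apply LinearMap.ext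
        intro v
        simp only [LinearMap.comp_apply, LinearEquiv.coe_coe]
        have hC := LinearMap.congr_fun (HopfRep.Comod.coassoc (k := k) (A := C) (V := V)) v
        simp only [LinearMap.comp_apply, LinearEquiv.coe_coe] at hC
        have e := h2 (ρ v)
        rw [← e, ← h1, hC, ← LinearMap.lTensor_comp_apply, CoalgHomClass.map_comp_comul,
          LinearMap.lTensor_comp_apply]
      counit_comp := by
        apply LinearMap.ext
        intro v
        have hC := LinearMap.congr_fun (HopfRep.Comod.counit_comp (k := k) (A := C) (V := V)) v
        simp only [LinearMap.comp_apply] at hC ⊢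
        rw [← hC, ← LinearMap.lTensor_comp_apply, CoalgHomClass.counit_comp] }
  have hss : HopfRep.IsSemisimpleComod k D V := hD V
  intro W hW
  have hWD : HopfRep.IsSubcomod (k := k) (A := D) W := by
    intro w hw
    obtain ⟨y, hy⟩ := hW w hw
    refine ⟨(i : C →ₗ[k] D).lTensor W y, ?_⟩
    show _ = ι (ρ w)
    rw [← hy]
    simp only [ι, ← LinearMap.comp_apply, LinearMap.rTensor_comp_lTensor,
      LinearMap.lTensor_comp_rTensor]
  obtain ⟨W', hW', hcompl⟩ := hss W hWD
  exact ⟨W', Groth.Agent.S18807.result k C D i hi V rfl W' hW', hcompl⟩

end Groth.Agent.S18809
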