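import Groth.Statements.S18810
import Groth.Agent.Helper9.Comod
-- import your own Groth.Agent.* helpers here

set_option autoImplicit false
universe u v v' w w' x
open TensorProduct
open HopfRep

namespace Groth.Agent.S18810

/-- Let k be a field, C a k-coalgebra, V a right C-comodule and (S_j) a family of simple C-comodules
which are pairwise non-isomorphic (for j ≠ j' no k-linear isomorphism S_j ≃ S_j' commutes with the
coactions). For each j let V[j] be the isotypic component of type S_j: the sum of the images of all
comodule maps S_j → V (equivalently of all simple subcomodules of V isomorphic to S_j, a nonzero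
such map being injective). Then the family j ↦ V[j] is independent, so that the socle of V is the
direct sum of its isotypic components. (The source states this for representations of an affine
monoid scheme over k, i.e. left comodules over its coordinate bialgebra; the row is the
right-comodule form over any coalgebra.) -/
theorem result (k : Type u) [Field k]
    (C : Type v) [AddCommGroup C] [Module k C] [Coalgebra k C]
    (V : Type w) [AddCommGroup V] [Module k V] [HopfRep.Comod k C V]
    {ι : Type x} (S : ι → Type w') [∀ j, AddCommGroup (S j)] [∀ j, Module k (S j)]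
    [∀ j, HopfRep.Comod k C (S j)] (hS : ∀ j, HopfRep.IsSimpleComod k C (S j))
    (hne : ∀ j j', j ≠ j' → ∀ e : S j ≃ₗ[k] S j', ¬ Hoch.IsComodHom C (e : S j →ₗ[k] S j')) :
    iSupIndep (fun j => ⨆ f : {f : S j →ₗ[k] V // Hoch.IsComodHom C f}, LinearMap.range f.1) := by
  classical
  intro j
  rw [Submodule.disjoint_def]
  intro x hx1 hx2
  let β := Σ j' : {j' : ι // j' ≠ j}, {f : S j'.1 →ₗ[k] V // Hoch.IsComodHom C f}
  let Q : Submodule k V := ⨆ b : β, LinearMap.range b.2.1
  have hQ : HopfRep.IsSubcomod (k := k) (A := C) Q :=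
    Groth.Agent.Helper9.isSubcomod_iSup fun b => Groth.Agent.Helper9.isSubcomod_range b.2.2
  have hx2' : x ∈ Q := by
    refine (?_ : (⨆ (j') (_ : j' ≠ j), ⨆ f : {f : S j' →ₗ[k] V // Hoch.IsComodHom C f},
      LinearMap.range f.1) ≤ Q) hx2
    exact iSup_le fun j' => iSup_le fun hj' => iSup_le fun f =>
      le_iSup (fun b : β => LinearMap.range b.2.1) ⟨⟨j', hj'⟩, f⟩
  have hno : ∀ h : S j →ₗ[k] V, Hoch.IsComodHom C h → LinearMap.range h ≤ Q → h = 0 := by
    intro h hh hle
    by_contra h0
    obtain ⟨b, e, he⟩ := Groth.Agent.Helper9.exists_iso_of_range_le_iSup'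
      (fun b : β => S b.1.1) (fun b => hS _) (fun b => b.2.1) (fun b => b.2.2) (S j) (hS j)
      h hh h0 hle
    exact hne j b.1.1 (Ne.symm b.1.2) e he
  obtain ⟨T, hT⟩ := Submodule.mem_iSup_iff_exists_finset.mp hx1
  have key : ∀ T : Finset {f : S j →ₗ[k] V // Hoch.IsComodHom C f},
      HopfRep.IsSubcomod (k := k) (A := C) (⨆ f ∈ T, LinearMap.range f.1) ∧
        (⨆ f ∈ T, LinearMap.range f.1) ⊓ Q = ⊥ := by
    intro T
    induction T using Finset.induction_on with
    | empty => simp [Groth.Agent.Helper9.isSubcomod_bot]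
    | insert a T ha ih =>
      rw [Finset.iSup_insert, sup_comm]
      exact ⟨Groth.Agent.Helper9.isSubcomod_sup ih.1 (Groth.Agent.Helper9.isSubcomod_range a.2),
        Groth.Agent.Helper9.sup_range_inf_eq_bot ih.1 hQ ih.2 (S j) (hS j) a.1 a.2 hno⟩
  have hx : x ∈ (⨆ f ∈ T, LinearMap.range f.1) ⊓ Q := ⟨hT, hx2'⟩
  rw [(key T).2] at hx
  exact hx

end Groth.Agent.S18810
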