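import Groth.Statements.S18811
import Mathlib
-- import your own Groth.Agent.* helpers here

set_option autoImplicit false
universe u
open CategoryTheory CategoryTheory.Limits AlgebraicGeometry
open Variety

namespace Groth.Agent.S18811

/-- Let k be a field and X, Y quasi-compact k-schemes whose diagonal morphisms over k are affine
(semi-separated; for instance X and Y separated over k). Then the canonical map Γ(X, O_X) ⊗_k Γ(Y,
O_Y) → Γ(X ×_k Y, O) is an isomorphism: the commutative square of rings of global sections formed by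
Spec k, X, Y and X ×_k Y with the pullback maps along the structure morphisms and the two
projections is a pushout square of commutative rings. -/
theorem result (k : Type u) [Field k]
    (X : Scheme.{u}) [X.Over (Spec (CommRingCat.of k))] [CompactSpace ↥X]
    [IsAffineHom (pullback.diagonal (X ↘ (Spec (CommRingCat.of k))))]
    (Y : Scheme.{u}) [Y.Over (Spec (CommRingCat.of k))] [CompactSpace ↥Y]
    [IsAffineHom (pullback.diagonal (Y ↘ (Spec (CommRingCat.of k))))] :
    IsPushout (X ↘ (Spec (CommRingCat.of k))).appTop (Y ↘ (Spec (CommRingCat.of k))).appTop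
      (pullback.fst (X ↘ (Spec (CommRingCat.of k))) (Y ↘ (Spec (CommRingCat.of k)))).appTop
      (pullback.snd (X ↘ (Spec (CommRingCat.of k))) (Y ↘ (Spec (CommRingCat.of k)))).appTop := by
  have hsub : Subsingleton (Spec (CommRingCat.of k)) := by
    change Subsingleton (PrimeSpectrum k)
    infer_instance
  have hqcX : QuasiCompact (pullback.diagonal (X ↘ (Spec (CommRingCat.of k)))) := inferInstance
  have hqcY : QuasiCompact (pullback.diagonal (Y ↘ (Spec (CommRingCat.of k)))) := inferInstance
  have hqsX : QuasiSeparatedSpace X := by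
    have : QuasiSeparated (X ↘ (Spec (CommRingCat.of k))) := ⟨hqcX⟩
    exact quasiSeparatedSpace_of_quasiSeparated (X ↘ (Spec (CommRingCat.of k)))
  have hqsY : QuasiSeparatedSpace Y := by
    have : QuasiSeparated (Y ↘ (Spec (CommRingCat.of k))) := ⟨hqcY⟩
    exact quasiSeparatedSpace_of_quasiSeparated (Y ↘ (Spec (CommRingCat.of k)))
  have H : IsPullback (pullback.fst (X ↘ (Spec (CommRingCat.of k))) (Y ↘ (Spec (CommRingCat.of k))))
      (pullback.snd (X ↘ (Spec (CommRingCat.of k))) (Y ↘ (Spec (CommRingCat.of k))))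
      (X ↘ (Spec (CommRingCat.of k))) (Y ↘ (Spec (CommRingCat.of k))) := IsPullback.of_hasPullback _ _
  have hflat : ((X ↘ (Spec (CommRingCat.of k))).appLE ⊤ ⊤ le_top).hom.Flat :=
    RingHom.Flat.of_isField (isField_of_isIntegral_of_subsingleton (Spec (CommRingCat.of k))) _
  have hUY : (⊤ : (pullback (X ↘ (Spec (CommRingCat.of k))) (Y ↘ (Spec (CommRingCat.of k)))).Opens) =
      (pullback.fst (X ↘ (Spec (CommRingCat.of k))) (Y ↘ (Spec (CommRingCat.of k)))) ⁻¹ᵁ ⊤ ⊓
        (pullback.snd (X ↘ (Spec (CommRingCat.of k))) (Y ↘ (Spec (CommRingCat.of k)))) ⁻¹ᵁ ⊤ := by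
    simp
  have hiso := isIso_pushoutSection_of_isCompact_of_flat_right_of_ringHomFlat H
    (US := ⊤) (UT := ⊤) (UX := ⊤) le_top le_top hUY (isAffineOpen_top (Spec (CommRingCat.of k)))
    (by simpa using isCompact_univ) (by simpa using isQuasiSeparated_univ)
    (by simpa using isCompact_univ) (by simpa using isQuasiSeparated_univ) hflat
  have hpo := (isIso_pushoutSection_iff H le_top le_top hUY).mp hiso
  have key : ∀ {A B : Scheme.{u}} (f : A ⟶ B) (h : (⊤ : A.Opens) ≤ f ⁻¹ᵁ ⊤),
      f.appLE ⊤ ⊤ h = f.appTop := by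
    intro A B f h
    rw [Scheme.Hom.appTop, Scheme.Hom.app_eq_appLE]
    rfl
  have e1 : (X ↘ Spec (CommRingCat.of k)).appLE ⊤ ⊤ le_top =
      (X ↘ Spec (CommRingCat.of k)).appTop := key _ _
  have e2 : (Y ↘ Spec (CommRingCat.of k)).appLE ⊤ ⊤ le_top =
      (Y ↘ Spec (CommRingCat.of k)).appTop := key _ _
  have e3 : (pullback.fst (X ↘ Spec (CommRingCat.of k)) (Y ↘ Spec (CommRingCat.of k))).appLE ⊤ ⊤
      (by simp) = (pullback.fst (X ↘ Spec (CommRingCat.of k)) (Y ↘ Spec (CommRingCat.of k))).appTop :=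
    key _ _
  have e4 : (pullback.snd (X ↘ Spec (CommRingCat.of k)) (Y ↘ Spec (CommRingCat.of k))).appLE ⊤ ⊤
      (by simp) = (pullback.snd (X ↘ Spec (CommRingCat.of k)) (Y ↘ Spec (CommRingCat.of k))).appTop :=
    key _ _
  exact IsPushout.of_iso hpo (Iso.refl _) (Iso.refl _) (Iso.refl _) (Iso.refl _)
    (by simp [e1]) (by simp [e2]) (by simp [e3]) (by simp [e4])

end Groth.Agent.S18811
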