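import Groth.Statements.S18814
import Groth.Agent.Helper9.Comod
-- import your own Groth.Agent.* helpers here

set_option autoImplicit false
universe u v v' w w'
open TensorProduct
open HopfRep

namespace Groth.Agent.S18814

/-- Let k be a field, C and D commutative bialgebras over k (coordinate rings of affine monoid schemes M
and N) and V a k-vector space carrying a right C-comodule structure with coaction ρ_C : V → V ⊗ C
and a right D-comodule structure with coaction ρ_D : V → V ⊗ D which commute: (ρ_C ⊗ id_D) ∘ ρ_D and
(ρ_D ⊗ id_C) ∘ ρ_C agree in V ⊗ C ⊗ D after reassociating and swapping the last two factors (the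
actions of M and N on V commute). Assume V is semisimple as a D-comodule. Then for every simple
D-comodule S the isotypic component of V of type S, the sum of the images of all D-comodule maps S →
V, is a C-subcomodule of V. (The source works with left comodules; this is the right-comodule form.) -/
theorem result (k : Type u) [Field k]
    (C : Type v) [CommRing C] [Bialgebra k C] (D : Type v') [CommRing D] [Bialgebra k D]
    (V : Type w) [AddCommGroup V] [Module k V] [HopfRep.Comod k C V] [HopfRep.Comod k D V]
    (hcomm : (TensorProduct.assoc k V C D).toLinearMap ∘ₗ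
        (HopfRep.Comod.coact (k := k) (A := C) (V := V)).rTensor D ∘ₗ HopfRep.Comod.coact (k := k) (A := D) =
      (TensorProduct.comm k D C).toLinearMap.lTensor V ∘ₗ (TensorProduct.assoc k V D C).toLinearMap ∘ₗ
        (HopfRep.Comod.coact (k := k) (A := D) (V := V)).rTensor C ∘ₗ HopfRep.Comod.coact (k := k) (A := C))
    (hV : HopfRep.IsSemisimpleComod k D V)
    (S : Type w') [AddCommGroup S] [Module k S] [HopfRep.Comod k D S] (hS : HopfRep.IsSimpleComod k D S) :
    HopfRep.IsSubcomod (k := k) (A := C)
      (⨆ f : {f : S →ₗ[k] V // Hoch.IsComodHom D f}, LinearMap.range f.1) := by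
  classical
  have hT : ∀ φ : C →ₗ[k] k, Hoch.IsComodHom D
      ((TensorProduct.rid k V).toLinearMap ∘ₗ φ.lTensor V ∘ₗ
        HopfRep.Comod.coact (k := k) (A := C) (V := V)) := by
    intro φ
    have hM : ∀ (z : V ⊗[k] D) (c : C),
        ((TensorProduct.rid k V).toLinearMap.rTensor D) (((φ.lTensor V).rTensor D)
          ((TensorProduct.assoc k V C D).symm ((TensorProduct.comm k D C).toLinearMap.lTensor V
            ((TensorProduct.assoc k V D C) (z ⊗ₜ[k] c))))) = φ c • z := by
      intro z c
      induction z using TensorProduct.induction_on with
      | zero => simp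
      | tmul v d => simp [TensorProduct.smul_tmul']
      | add z₁ z₂ h₁ h₂ =>
        rw [TensorProduct.add_tmul]
        simp only [map_add, smul_add]
        rw [h₁, h₂]
    have hN : ∀ y : V ⊗[k] C,
        ((TensorProduct.rid k V).toLinearMap.rTensor D) (((φ.lTensor V).rTensor D)
          ((TensorProduct.assoc k V C D).symm ((TensorProduct.comm k D C).toLinearMap.lTensor V
            ((TensorProduct.assoc k V D C)
              (((HopfRep.Comod.coact (k := k) (A := D) (V := V)).rTensor C) y))))) =
        HopfRep.Comod.coact (k := k) (A := D) (V := V)
          (TensorProduct.rid k V (φ.lTensor V y)) := by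
      intro y
      induction y using TensorProduct.induction_on with
      | zero => simp
      | tmul v c =>
        rw [LinearMap.rTensor_tmul, hM]
        simp
      | add y₁ y₂ h₁ h₂ =>
        simp only [map_add]
        rw [h₁, h₂]
    apply LinearMap.ext
    intro v
    have h := LinearMap.congr_fun hcomm v
    simp only [LinearMap.comp_apply, LinearEquiv.coe_coe] at h ⊢
    rw [← hN, ← h, LinearEquiv.symm_apply_apply, LinearMap.rTensor_comp_apply,
      LinearMap.rTensor_comp_apply]
  intro v hv
  induction hv using Submodule.iSup_induction' with
  | mem f x hx =>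
    obtain ⟨s, rfl⟩ := hx
    apply Groth.Agent.Helper9.mem_range_rTensor_subtype_of_forall_functional
    intro φ
    have hcomp := Groth.Agent.Helper9.IsComodHom.comp (hT φ) f.2
    refine le_iSup (fun g : {f : S →ₗ[k] V // Hoch.IsComodHom D f} => LinearMap.range g.1)
      ⟨_, hcomp⟩ ?_
    exact ⟨s, rfl⟩
  | zero => rw [map_zero]; exact zero_mem _
  | add x y _ _ hx hy => rw [map_add]; exact add_mem hx hy

end Groth.Agent.S18814
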