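import Groth.Statements.S18818
import Groth.Agent.Helper9.ComodAlg
-- import your own Groth.Agent.* helpers here

set_option autoImplicit false
universe u v w
open TensorProduct
open HopfRep

namespace Groth.Agent.S18818

/-- Let k be a field, C a k-coalgebra and V a right C-comodule which is semisimple in the sense that
every subcomodule has a complementary subcomodule (equivalently every injective comodule map into V
splits). Then V is completely reducible: V is the sum of its simple subcomodules, the nonzero
subcomodules W whose only subcomodules are 0 and W. (The source states this for representations of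
an affine monoid scheme over k, i.e. left comodules over its coordinate bialgebra; the converse
implication and the stability of the class under subobjects and quotients are not part of this row.) -/
theorem result (k : Type u) [Field k]
    (C : Type v) [AddCommGroup C] [Module k C] [Coalgebra k C]
    (V : Type w) [AddCommGroup V] [Module k V] [HopfRep.Comod k C V] (hV : HopfRep.IsSemisimpleComod k C V) :
    (⨆ W : {W : Submodule k V // HopfRep.IsSubcomod (k := k) (A := C) W ∧ W ≠ ⊥ ∧
        ∀ W' : Submodule k V, HopfRep.IsSubcomod (k := k) (A := C) W' → W' ≤ W → W' = ⊥ ∨ W' = W},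
      (W.1 : Submodule k V)) = ⊤ := by
  classical
  haveI := Groth.Agent.Helper9.isSemisimpleComod_iff.mp hV
  have hTsub : HopfRep.IsSubcomod (k := k) (A := C)
      (⨆ W : {W : Submodule k V // HopfRep.IsSubcomod (k := k) (A := C) W ∧ W ≠ ⊥ ∧
        ∀ W' : Submodule k V, HopfRep.IsSubcomod (k := k) (A := C) W' → W' ≤ W → W' = ⊥ ∨ W' = W},
      (W.1 : Submodule k V)) :=
    Groth.Agent.Helper9.isSubcomod_iSup fun W => W.2.1
  have h := IsSemisimpleModule.sSup_simples_eq_top (Groth.Agent.Helper9.actAlg k C V) V
  have hle : sSup {m : Submodule (Groth.Agent.Helper9.actAlg k C V) V |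
      IsSimpleModule (Groth.Agent.Helper9.actAlg k C V) m} ≤
      Groth.Agent.Helper9.toSub _ hTsub := by
    apply sSup_le
    intro m hm
    have hm' : IsSimpleModule (Groth.Agent.Helper9.actAlg k C V)
        (Groth.Agent.Helper9.toSub (m.restrictScalars k)
          (Groth.Agent.Helper9.isSubcomod_restrictScalars m)) := by
      have : Groth.Agent.Helper9.toSub (m.restrictScalars k)
          (Groth.Agent.Helper9.isSubcomod_restrictScalars m) = m := by
        ext; rfl
      rw [this]; exact hm
    have hs := (Groth.Agent.Helper9.isSimpleModule_toSub_iff _ _).mp hm'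
    intro x hx
    exact le_iSup (fun W : {W : Submodule k V // HopfRep.IsSubcomod (k := k) (A := C) W ∧ W ≠ ⊥ ∧
        ∀ W' : Submodule k V, HopfRep.IsSubcomod (k := k) (A := C) W' → W' ≤ W → W' = ⊥ ∨ W' = W} =>
      (W.1 : Submodule k V))
      ⟨m.restrictScalars k, Groth.Agent.Helper9.isSubcomod_restrictScalars m, hs.1, hs.2⟩ hx
  rw [h] at hle
  rw [eq_top_iff]
  intro x _
  exact hle Submodule.mem_top

end Groth.Agent.S18818
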