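import Groth.Statements.S18820
import Mathlib
-- import your own Groth.Agent.* helpers here

set_option autoImplicit false
universe u
open CategoryTheory MonoidalCategory CartesianMonoidalCategory AlgebraicGeometry
open AlgGrp

namespace Groth.Agent.S18820

/-- Let k be a field, M a k-scheme (in the source a monoid k-scheme) acting on a k-scheme X through a :
M ×_k X → X, and z : Z → X a closed immersion which is surjective (a closed subscheme defined by an
ideal all of whose sections are nilpotent, e.g. the reduction of X), stable under the action: a_Z :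
M ×_k Z → Z satisfies (id_M × z) followed by a = a_Z followed by z. For an open subset U of X the
following are equivalent: (i) U is stable, i.e. a maps M ×_k U into U; (ii) U ∩ Z is stable, i.e.
a_Z maps M ×_k (U ∩ Z) into U ∩ Z. (The monoid axioms of the source play no role and are not
assumed.) -/
theorem result (k : Type u) [Field k]
    (M X Z : Over (Spec (CommRingCat.of k))) (a : M ⊗ X ⟶ X) (aZ : M ⊗ Z ⟶ Z) (z : Z ⟶ X)
    [IsClosedImmersion z.left] [Surjective z.left] (hz : (M ◁ z) ≫ a = aZ ≫ z) (U : X.left.Opens) :
    (CartesianMonoidalCategory.snd M X).left ⁻¹ᵁ U ≤ a.left ⁻¹ᵁ U ↔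
      (CartesianMonoidalCategory.snd M Z).left ⁻¹ᵁ (z.left ⁻¹ᵁ U) ≤ aZ.left ⁻¹ᵁ (z.left ⁻¹ᵁ U) := by
  have hsurj : Surjective (M ◁ z).left := by
    rw [Over.whiskerLeft_left]
    haveI : MorphismProperty.IsStableUnderComposition @Surjective.{u} :=
      (inferInstance : MorphismProperty.IsMultiplicative @Surjective.{u}).toIsStableUnderComposition
    exact MorphismProperty.pullbackMap (P := @Surjective.{u}) (inferInstance : Surjective (𝟙 M.left))
      (inferInstance : Surjective z.left) (by simp) (by simp)
  have hsnd : (M ◁ z).left ≫ (CartesianMonoidalCategory.snd M X).left =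
      (CartesianMonoidalCategory.snd M Z).left ≫ z.left := by
    rw [← Over.comp_left, ← Over.comp_left, CartesianMonoidalCategory.whiskerLeft_snd]
  have hact : (M ◁ z).left ≫ a.left = aZ.left ≫ z.left := by
    rw [← Over.comp_left, ← Over.comp_left, hz]
  constructor
  · intro h p hp
    have hp' : (CartesianMonoidalCategory.snd M X).left ((M ◁ z).left p) ∈ U := by
      rw [← Scheme.Hom.comp_apply, hsnd, Scheme.Hom.comp_apply]
      exact hp
    have := h hp'
    change a.left ((M ◁ z).left p) ∈ U at this
    rw [← Scheme.Hom.comp_apply, hact, Scheme.Hom.comp_apply] at this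
    exact this
  · intro h p' hp'
    obtain ⟨p, rfl⟩ := hsurj.surj p'
    have hp : p ∈ (CartesianMonoidalCategory.snd M Z).left ⁻¹ᵁ (z.left ⁻¹ᵁ U) := by
      change z.left ((CartesianMonoidalCategory.snd M Z).left p) ∈ U
      rw [← Scheme.Hom.comp_apply, ← hsnd, Scheme.Hom.comp_apply]
      exact hp'
    have := h hp
    change z.left (aZ.left p) ∈ U at this
    rw [← Scheme.Hom.comp_apply, ← hact, Scheme.Hom.comp_apply] at this
    exact this

end Groth.Agent.S18820
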