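import Groth.Statements.S18824
import Mathlib
import Groth.Prelude.Def_Magnet2
-- import your own Groth.Agent.* helpers here

set_option autoImplicit false
universe u
open CategoryTheory MonoidalCategory CartesianMonoidalCategory MonObj AlgebraicGeometry
open AlgGrp

namespace Groth.Agent.S18824

theorem key {S : Scheme.{u}} {G X : Over S} [GrpObj G] (a : AlgGrp.Action G X) :
    ∃ σ : G ⊗ X ≅ G ⊗ X, a.act = σ.hom ≫ CartesianMonoidalCategory.snd G X := by
  let m : Magnet.MonAct G X := Magnet.MonAct.ofAction a
  have hact : a.act = m.act := rfl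
  have e1 : lift ((CartesianMonoidalCategory.fst G X)⁻¹) m.act ≫ m.act =
      CartesianMonoidalCategory.snd G X := by
    calc lift ((CartesianMonoidalCategory.fst G X)⁻¹) m.act ≫ m.act
        = lift ((CartesianMonoidalCategory.fst G X)⁻¹)
            (lift (CartesianMonoidalCategory.fst G X) (CartesianMonoidalCategory.snd G X) ≫ m.act) ≫ m.act := by
          rw [lift_fst_snd, Category.id_comp]
      _ = CartesianMonoidalCategory.snd G X := by
          rw [← m.lift_mul_act, inv_mul_cancel, m.lift_one_act]
  have e2 : lift (CartesianMonoidalCategory.fst G X)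
      (lift (CartesianMonoidalCategory.fst G X)⁻¹ (CartesianMonoidalCategory.snd G X) ≫ m.act) ≫ m.act =
      CartesianMonoidalCategory.snd G X := by
    rw [← m.lift_mul_act, mul_inv_cancel, m.lift_one_act]
  refine ⟨⟨lift (CartesianMonoidalCategory.fst G X) m.act,
    lift (CartesianMonoidalCategory.fst G X)
      (lift ((CartesianMonoidalCategory.fst G X)⁻¹) (CartesianMonoidalCategory.snd G X) ≫ m.act), ?_, ?_⟩, ?_⟩
  · apply CartesianMonoidalCategory.hom_ext
    · simp
    · rw [Category.assoc, lift_snd, ← Category.assoc, comp_lift, GrpObj.comp_inv, lift_fst, lift_snd,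
        Category.id_comp]
      exact e1
  · apply CartesianMonoidalCategory.hom_ext
    · simp
    · rw [Category.assoc, lift_snd, Category.id_comp]
      exact e2
  · rw [hact]; simp

theorem gen {S : Scheme.{u}} {G X : Over S} [GrpObj G] (a : AlgGrp.Action G X)
    (P : MorphismProperty Scheme.{u}) [P.IsStableUnderBaseChange] (h : P G.hom) :
    P a.act.left := by
  obtain ⟨σ, hσ⟩ := key a
  have h1 : a.act.left = σ.hom.left ≫ Limits.pullback.snd G.hom X.hom := by
    rw [hσ, Over.comp_left]
    rfl
  haveI : IsIso σ.hom.left := (inferInstance : IsIso ((Over.forget S).map σ.hom))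
  rw [h1]
  exact (P.cancel_left_of_respectsIso _ _).mpr (MorphismProperty.pullback_snd _ _ h)

/-- The square `G ⊗ Y → G ⊗ X`, `snd`, `snd`, `f` is a pullback (on underlying schemes). -/
theorem isPullback_whiskerLeft_snd {S : Scheme.{u}} (G : Over S) {Y X : Over S} (f : Y ⟶ X) :
    IsPullback (G ◁ f).left (CartesianMonoidalCategory.snd G Y).left
      (CartesianMonoidalCategory.snd G X).left f.left := by
  have hr : IsPullback (Limits.pullback.fst G.hom X.hom) (Limits.pullback.snd G.hom X.hom) G.hom X.hom :=
    IsPullback.of_hasPullback _ _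
  have ho : IsPullback ((G ◁ f).left ≫ Limits.pullback.fst G.hom X.hom) (Limits.pullback.snd G.hom Y.hom)
      G.hom (f.left ≫ X.hom) := by
    have h1 : (G ◁ f).left ≫ Limits.pullback.fst G.hom X.hom = Limits.pullback.fst G.hom Y.hom :=
      Over.whiskerLeft_left_fst f
    have h2 : f.left ≫ X.hom = Y.hom := Over.w f
    rw [h1, h2]
    exact IsPullback.of_hasPullback _ _
  exact IsPullback.of_right ho (Over.whiskerLeft_left_snd f) hr

/-- Let k be a field, G a locally algebraic group over k (a group k-scheme locally of finite type)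
acting on a k-scheme X through a : G ×_k X → X, and U an open subset of X. Let G·U ⊆ X be the image
under a of G ×_k U (the preimage of U under the projection). Then G·U is open in X, contains U, is
G-stable in the sense that a maps G ×_k (G·U) into G·U, and is the smallest such set: every G-stable
open subset of X containing U contains G·U. -/
theorem result (k : Type u) [Field k]
    (G X : Over (Spec (CommRingCat.of k))) [GrpObj G] [LocallyOfFiniteType G.hom] (a : AlgGrp.Action G X)
    (U : Set ↥X.left) (hU : IsOpen U) :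
    IsOpen (a.act.left.base '' ((CartesianMonoidalCategory.snd G X).left.base ⁻¹' U)) ∧
      U ⊆ a.act.left.base '' ((CartesianMonoidalCategory.snd G X).left.base ⁻¹' U) ∧
      a.act.left.base '' ((CartesianMonoidalCategory.snd G X).left.base ⁻¹'
          (a.act.left.base '' ((CartesianMonoidalCategory.snd G X).left.base ⁻¹' U))) ⊆
        a.act.left.base '' ((CartesianMonoidalCategory.snd G X).left.base ⁻¹' U) ∧
      ∀ W : Set ↥X.left, IsOpen W → U ⊆ W →
        a.act.left.base '' ((CartesianMonoidalCategory.snd G X).left.base ⁻¹' W) ⊆ W →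
          a.act.left.base '' ((CartesianMonoidalCategory.snd G X).left.base ⁻¹' U) ⊆ W := by
  haveI : Subsingleton (Spec (CommRingCat.of k)) :=
    inferInstanceAs (Subsingleton (PrimeSpectrum k))
  haveI : LocallyOfFinitePresentation G.hom :=
    LocallyOfFinitePresentation.iff_locallyOfFiniteType.mpr inferInstance
  haveI : UniversallyOpen G.hom := inferInstance
  have hopen : IsOpenMap a.act.left.base := by
    haveI : UniversallyOpen a.act.left := gen a @UniversallyOpen inferInstance
    exact a.act.left.isOpenMap
  let m : Magnet.MonAct G X := Magnet.MonAct.ofAction a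
  refine ⟨?_, ?_, ?_, ?_⟩
  · exact hopen _ (hU.preimage (CartesianMonoidalCategory.snd G X).left.continuous)
  · intro x hx
    refine ⟨(lift (toUnit X ≫ η[G]) (𝟙 X)).left x, ?_, ?_⟩
    · change (CartesianMonoidalCategory.snd G X).left ((lift (toUnit X ≫ η[G]) (𝟙 X)).left x) ∈ U
      rw [← Scheme.Hom.comp_apply, ← Over.comp_left, lift_snd]
      exact hx
    · change a.act.left ((lift (toUnit X ≫ η[G]) (𝟙 X)).left x) = x
      rw [← Scheme.Hom.comp_apply, ← Over.comp_left]
      have : lift (toUnit X ≫ η[G]) (𝟙 X) ≫ a.act = 𝟙 X := by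
        have := m.lift_one_act (𝟙 X)
        rwa [Hom.one_def] at this
      rw [this]
      rfl
  · rintro _ ⟨p, ⟨q, hq, hqp⟩, rfl⟩
    -- p ∈ G ⊗ X with snd p = a q, snd q ∈ U
    have hpb := isPullback_whiskerLeft_snd G a.act
    obtain ⟨r, hr1, hr2⟩ := Scheme.Pullback.exists_preimage_pullback
      (f := (CartesianMonoidalCategory.snd G X).left) (g := a.act.left) p q hqp.symm
    obtain ⟨r', hr'def⟩ : ∃ r', r' = hpb.isoPullback.inv r := ⟨_, rfl⟩
    have hr'1 : (G ◁ a.act).left r' = p := by
      rw [hr'def, ← Scheme.Hom.comp_apply, hpb.isoPullback_inv_fst]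
      exact hr1
    have hr'2 : (CartesianMonoidalCategory.snd G (G ⊗ X)).left r' = q := by
      rw [hr'def, ← Scheme.Hom.comp_apply, hpb.isoPullback_inv_snd]
      exact hr2
    refine ⟨((α_ G G X).inv ≫ (μ[G] ▷ X)).left r', ?_, ?_⟩
    · change (CartesianMonoidalCategory.snd G X).left (((α_ G G X).inv ≫ (μ[G] ▷ X)).left r') ∈ U
      rw [← Scheme.Hom.comp_apply, ← Over.comp_left]
      have : ((α_ G G X).inv ≫ (μ[G] ▷ X)) ≫ CartesianMonoidalCategory.snd G X =
          CartesianMonoidalCategory.snd G (G ⊗ X) ≫ CartesianMonoidalCategory.snd G X := by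
        simp
      rw [this, Over.comp_left, Scheme.Hom.comp_apply, hr'2]
      exact hq
    · change a.act.left (((α_ G G X).inv ≫ (μ[G] ▷ X)).left r') = a.act.left p
      rw [← hr'1, ← Scheme.Hom.comp_apply, ← Scheme.Hom.comp_apply, ← Over.comp_left, ← Over.comp_left]
      have : ((α_ G G X).inv ≫ (μ[G] ▷ X)) ≫ a.act = (G ◁ a.act) ≫ a.act := by
        rw [Category.assoc, a.mul_act, Iso.inv_hom_id_assoc]
      rw [this]
  · intro W hW hUW hstab
    refine subset_trans (Set.image_mono (Set.preimage_mono hUW)) hstab

end Groth.Agent.S18824
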