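import Groth.Statements.S18826
import Mathlib
import Groth.Agent.Helper2.MaxOpenAct
open Groth.Agent.Helper2 Groth.Agent.Helper2.MaxOpenAct
-- import your own Groth.Agent.* helpers here

set_option autoImplicit false
universe u
open CategoryTheory MonoidalCategory CartesianMonoidalCategory MonObj AlgebraicGeometry
open AlgGrp

namespace Groth.Agent.S18826

/-- Let k be a field, G a locally algebraic group over k (a group k-scheme locally of finite type)
acting on k-schemes X and Y, and f : X → Y a G-equivariant k-morphism. Let P be a property of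
morphisms of schemes which is local on the target for the Zariski topology, stable under base
change, and descends along flat surjective universally open morphisms (the published hypothesis is
descent along fpqc morphisms; the printed argument descends only along the restriction G ×_k U → G·U
of the action, which is flat, surjective and universally open). Then there is a largest open subset
V of Y such that the restriction f⁻¹(V) → V of f has P, and this V is G-stable: the action G ×_k Y →
Y maps G ×_k V into V. -/
theorem result (k : Type u) [Field k]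
    (G X Y : Over (Spec (CommRingCat.of k))) [GrpObj G] [LocallyOfFiniteType G.hom]
    (aX : AlgGrp.Action G X) (aY : AlgGrp.Action G Y) (f : X ⟶ Y) (hf : (G ◁ f) ≫ aY.act = aX.act ≫ f)
    (P : MorphismProperty Scheme.{u}) [IsZariskiLocalAtTarget P] [P.IsStableUnderBaseChange]
    [P.DescendsAlong (@Flat ⊓ @Surjective ⊓ @UniversallyOpen)] :
    ∃ V : Y.left.Opens, P (f.left ∣_ V) ∧ (∀ V' : Y.left.Opens, P (f.left ∣_ V') → V' ≤ V) ∧
      (CartesianMonoidalCategory.snd G Y).left ⁻¹ᵁ V ≤ aY.act.left ⁻¹ᵁ V := by
  obtain ⟨V, hV, hmax, -, -⟩ := Groth.Agent.Helper2.MaxOpenTgt.target_main (P := P)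
    Groth.Agent.Helper2.MaxOpen.nice_isOpenImmersion (fun j _ => inferInstance) f.left
  refine ⟨V, hV, hmax, ?_⟩
  have sq1 : IsPullback (snd G X).left (G ◁ f).left f.left (snd G Y).left :=
    ((Groth.Agent.Helper2.MaxOpenGrp.isPullback_whiskerLeft f G).flip).map (Over.forget _)
  have sq2' : IsPullback aX.act.left (G ◁ f).left f.left aY.act.left :=
    (sq2 aX aY f hf).map (Over.forget _)
  haveI : Flat (snd G Y).left := by
    rw [Over.snd_left]; infer_instance
  haveI : UniversallyOpen (snd G Y).left := by
    rw [Over.snd_left]; infer_instance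
  haveI : IsIso (Groth.Agent.Helper2.HS2.shear aY (𝟙 G)).left :=
    (Over.forget _).map_isIso (Groth.Agent.Helper2.HS2.shear aY (𝟙 G))
  have hact : aY.act.left = (Groth.Agent.Helper2.HS2.shear aY (𝟙 G)).left ≫ (snd G Y).left := by
    rw [← Over.comp_left, shear_snd]
  haveI : Flat aY.act.left := by
    rw [hact]; infer_instance
  haveI : UniversallyOpen aY.act.left := by
    rw [hact]; infer_instance
  have h1 : P ((G ◁ f).left ∣_ ((snd G Y).left ⁻¹ᵁ V)) :=
    (Groth.Agent.Helper2.MaxOpen.restrict_iff (P := P) sq1 V _ le_rfl).mpr (P.pullback_snd _ _ hV)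
  let V' : Y.left.Opens := ⟨aY.act.left '' ((snd G Y).left ⁻¹ᵁ V : (G ⊗ Y).left.Opens),
    aY.act.left.isOpenMap _ ((snd G Y).left ⁻¹ᵁ V).2⟩
  have h2 : P (f.left ∣_ V') := image_has sq2' _ h1 V' rfl
  intro x hx
  exact hmax V' h2 ⟨x, hx, rfl⟩

end Groth.Agent.S18826
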