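import Groth.Statements.S18827
import Groth.Agent.Helper9.ComodAlg
-- import your own Groth.Agent.* helpers here

set_option autoImplicit false
universe u v w
open TensorProduct
open HopfRep

namespace Groth.Agent.S18827

/-- Let k be a field, C a k-coalgebra, V a right C-comodule which is semisimple (every subcomodule has a
complementary subcomodule, which over a field is the same as being the sum of its simple
subcomodules) and W a subcomodule of V. Then the subcomodule W with its induced structure and the
quotient comodule V/W are again semisimple. (The source states this for representations of an affine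
monoid scheme over k.) -/
theorem result (k : Type u) [Field k]
    (C : Type v) [AddCommGroup C] [Module k C] [Coalgebra k C]
    (V : Type w) [AddCommGroup V] [Module k V] [c : HopfRep.Comod k C V] (hV : HopfRep.IsSemisimpleComod k C V)
    (W : Submodule k V) (hW : HopfRep.IsSubcomod (k := k) (A := C) W) :
    @HopfRep.IsSemisimpleComod k C _ _ _ _ ↥W _ _ (ComodSub.Comod.restr c W hW) ∧
      @HopfRep.IsSemisimpleComod k C _ _ _ _ (V ⧸ W) _ _ (ComodSub.Comod.quot c W hW) := by
  classical
  constructor
  · letI cW : HopfRep.Comod k C ↥W := ComodSub.Comod.restr c W hW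
    have hsub : Hoch.IsComodHom C W.subtype := ComodSub.isComodHom_subtype c W hW
    intro U hU
    have hU' : HopfRep.IsSubcomod (k := k) (A := C) (U.map W.subtype) :=
      Groth.Agent.Helper9.isSubcomod_map hsub hU
    obtain ⟨U'', hU'', hc⟩ := hV _ hU'
    refine ⟨U''.comap W.subtype, Groth.Agent.Helper9.isSubcomod_comap hsub hU'', ?_⟩
    rw [Groth.Agent.Helper9.isCompl_iff_mem] at hc ⊢
    constructor
    · intro x hx1 hx2
      have := hc.1 (x : V) ⟨x, hx1, rfl⟩ hx2
      exact Subtype.ext this
    · intro x
      obtain ⟨y, ⟨y', hy', rfl⟩, z, hz, hyz⟩ := hc.2 (x : V)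
      have hzW : z ∈ W := by
        have : z = (x : V) - W.subtype y' := by rw [← hyz]; abel
        rw [this]
        exact W.sub_mem x.2 y'.2
      refine ⟨y', hy', ⟨z, hzW⟩, hz, ?_⟩
      exact Subtype.ext hyz
  · letI cQ : HopfRep.Comod k C (V ⧸ W) := ComodSub.Comod.quot c W hW
    have hq : Hoch.IsComodHom C W.mkQ := ComodSub.isComodHom_mkQ c W hW
    intro U hU
    have hU₁ : HopfRep.IsSubcomod (k := k) (A := C) (U.comap W.mkQ) :=
      Groth.Agent.Helper9.isSubcomod_comap hq hU
    obtain ⟨U₂, hU₂, hc⟩ := hV _ hU₁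
    refine ⟨U₂.map W.mkQ, Groth.Agent.Helper9.isSubcomod_map hq hU₂, ?_⟩
    rw [Groth.Agent.Helper9.isCompl_iff_mem] at hc ⊢
    constructor
    · rintro x hx1 ⟨u, hu, rfl⟩
      have : u = 0 := hc.1 u hx1 hu
      rw [this, map_zero]
    · intro x
      obtain ⟨v, rfl⟩ := W.mkQ_surjective x
      obtain ⟨y, hy, z, hz, hyz⟩ := hc.2 v
      exact ⟨W.mkQ y, hy, W.mkQ z, ⟨z, hz, rfl⟩, by rw [← map_add, hyz]⟩

end Groth.Agent.S18827
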