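import Groth.Statements.S18834
import Mathlib
import Groth.Agent.Helper9.Reynolds2
-- import your own Groth.Agent.* helpers here

set_option autoImplicit false
universe u
open TensorProduct
open GIT

namespace Groth.Agent.S18834

/-- Let k be an algebraically closed field of characteristic zero, G = Spec A a linearly reductive
affine group over k (A a commutative Hopf algebra whose finite-dimensional comodules are semisimple)
acting on an affine k-scheme Spec R of finite type (a multiplicative coaction of A on R), and R^G
the ring of invariants. Then for every ideal I of R^G the ideal I·R of R generated by I satisfies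
(I·R) ∩ R^G = I. (The section also assumes Spec R irreducible; that hypothesis plays no role here
and is not carried.) -/
theorem result (k : Type u) [Field k] [IsAlgClosed k] [CharZero k]
    (A : Type u) [CommRing A] [HopfAlgebra k A] (hG : HopfRep.IsLinearlyReductive k A)
    (R : Type u) [CommRing R] [Algebra k R] [Algebra.FiniteType k R]
    [HopfRep.Comod k A R] [GLin.IsCoactAlg k A R]
    (I : Ideal (GLin.invariants k A R)) :
    Ideal.comap (GLin.invariants k A R).val.toRingHom
        (Ideal.map (GLin.invariants k A R).val.toRingHom I) = I := by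
  open Groth.Agent.Helper9 in
  have hss : HopfRep.IsSemisimpleComod k A R :=
    semisimple_of_finite (fun V' _ _ _ hf => hG V' hf)
  obtain ⟨E, hE₁, hE₂, hE₃⟩ := Groth.Agent.Helper9.exists_reynolds hss
  apply le_antisymm _ Ideal.le_comap_map
  intro f hf
  rw [Ideal.mem_comap] at hf
  have key : ∀ x ∈ Ideal.map (GLin.invariants k A R).val.toRingHom I, ∀ r : R,
      ∃ y ∈ I, (y : R) = E (r * x) := by
    intro x hx
    unfold Ideal.map at hx
    induction hx using Submodule.span_induction with
    | mem x hx =>
      obtain ⟨i, hi, rfl⟩ := hx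
      intro r
      refine ⟨i * ⟨E r, (hE₃ _).mp (hE₂ r)⟩, I.mul_mem_right _ hi, ?_⟩
      show (i : R) * E r = E (r * (i : R))
      rw [mul_comm r, Groth.Agent.Helper9.reynolds_mul hss E hE₁ hE₂ hE₃ i.1 i.2]
    | zero =>
      intro r
      exact ⟨0, I.zero_mem, by simp⟩
    | add x y _ _ hx hy =>
      intro r
      obtain ⟨a, ha, hax⟩ := hx r
      obtain ⟨b, hb, hby⟩ := hy r
      refine ⟨a + b, I.add_mem ha hb, ?_⟩
      rw [mul_add, map_add, ← hax, ← hby]
      rfl
    | smul s x _ hx =>
      intro r
      obtain ⟨a, ha, hax⟩ := hx (r * s)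
      exact ⟨a, ha, by rw [hax, smul_eq_mul, mul_assoc]⟩
  obtain ⟨y, hy, hyf⟩ := key _ hf 1
  rw [one_mul] at hyf
  have h1 : E (f : R) = f := (hE₃ _).mpr f.2
  have h2 : y = f := Subtype.ext (hyf.trans h1)
  rw [← h2]
  exact hy

end Groth.Agent.S18834
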