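import Groth.Statements.S18841
import Groth.Agent.Helper1.BD11

set_option autoImplicit false
universe u
open CategoryTheory CategoryTheory.Limits AlgebraicGeometry Polynomial
open Variety

namespace Groth.Agent.S18841

/-- Let k be an algebraically closed field of characteristic zero, X a projective k-scheme embedded in
projective n-space by a closed immersion ι, with L ≅ ι^*O(1), and fix N ≥ 0 and a rational
polynomial P. There is an integer l_0 such that for every coherent O_X-module F which is a quotient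
q : O_X^N → F with Hilbert polynomial P with respect to L, writing G for the kernel of q, one has
for all l ≥ l_0: H^i(X, F(l)) = 0 and H^i(X, G(l)) = 0 for every i > 0, and G(l) is generated by its
global sections (twists M(l) = M ⊗ L^(⊗l)). -/
theorem result
    (k : Type u) [Field k] [IsAlgClosed k] [CharZero k]
    (X : Scheme.{u}) [X.Over (Spec (CommRingCat.of k))] [IsProper (X ↘ Spec (CommRingCat.of k))]
    (n : ℕ) (ι : X ⟶ CohB1.ProjSpace n k) [IsClosedImmersion ι]
    (hι : ι ≫ CohB1.ProjSpace.toSpec n k = X ↘ Spec (CommRingCat.of k))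
    (L : X.Modules) (hL : Nonempty (L ≅ (Scheme.Modules.pullback ι).obj (Twist.twistProjSpace n k 1)))
    (N : ℕ) (P : ℚ[X]) :
    ∃ l₀ : ℕ, ∀ (F : X.Modules) (q : FlatMod.freeMod X N ⟶ F),
      Coh.IsCoh F → Epi q → ShStab.IsHilbPoly k X L F P →
        ∀ l : ℕ, l₀ ≤ l →
          (∀ i : ℕ, 0 < i → Subsingleton (Coh.HH X (ShStab.twist X L F l) i)) ∧
          (∀ i : ℕ, 0 < i → Subsingleton (Coh.HH X (ShStab.twist X L (kernel q) l) i)) ∧
          Curv2.IsGloballyGenerated (ShStab.twist X L (kernel q) l) := by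
  obtain ⟨eL⟩ := hL
  haveI := Groth.Agent.Helper4.NApx82.isNoetherian_of_proper k X
  have eL' : L ≅ Groth.Agent.Helper5.PnBridge.LL k ι := eL
  have hE : Coh.IsCoh (FlatMod.freeMod X N) := Groth.Agent.Helper1.Dev.isCoh_freeMod X N
  obtain ⟨m, hm⟩ := Groth.Agent.Helper1.BD.exists_reg_kernel k ι hι (FlatMod.freeMod X N) hE P
  refine ⟨m.toNat, ?_⟩
  intro F q hF hq hHP l hl
  haveI := hq
  have hml : m ≤ (l : ℤ) := (Int.self_le_toNat m).trans (by exact_mod_cast hl)
  have hHP' : ShStab.IsHilbPoly k X (Groth.Agent.Helper5.PnBridge.LL k ι) F P := by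
    intro a
    rw [← hHP a]
    congr 1
    exact Groth.Agent.Helper4.SN.chi_iso k (PicGrp.tensorModIso (Iso.refl F)
      (Groth.Agent.Helper4.AmpleIso.tensorPowIso eL'.symm a))
  have hint := Groth.Agent.Helper5.PnBridge.forall_int_of_isHilbPoly k ι hι F hF P hHP'
  obtain ⟨hregK, hregF⟩ := hm F hF q hq hint
  have hK : Coh.IsCoh (kernel q) := Groth.Agent.Lead.PerfLib.isCoh_kernel hE hF q
  have hGK := Groth.Agent.Helper1.ClTr.isCoh_push n k ι _ hK
  have hGF := Groth.Agent.Helper1.ClTr.isCoh_push n k ι _ hF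
  have iso : ∀ M : X.Modules,
      Nonempty (Groth.Agent.Helper1.ClTr.tw n k ι M (l : ℤ) ≅ ShStab.twist X L M l) := by
    intro M
    obtain ⟨e⟩ := Groth.Agent.Helper5.PnBridge.nonempty_twistOn_iso k ι M l
    exact ⟨e ≪≫ PicGrp.tensorModIso (Iso.refl M)
      (Groth.Agent.Helper4.AmpleIso.tensorPowIso eL'.symm l)⟩
  refine ⟨?_, ?_, ?_⟩
  · intro j hj
    obtain ⟨e⟩ := iso F
    haveI : Subsingleton (Coh.HH X (Groth.Agent.Helper1.ClTr.tw n k ι F (l : ℤ)) j) :=
      (Groth.Agent.Helper1.ClTr.subsingleton_HH_tw_iff n k ι F hF.1 l j).2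
        (Groth.Agent.Helper1.KzReg.subsingleton_HH_of_isReg n k _ hGF m hregF j hj l (by omega))
    exact (Groth.Agent.Helper1.ProjTop.HHlinEquiv k e j).symm.toEquiv.subsingleton
  · intro j hj
    obtain ⟨e⟩ := iso (kernel q)
    haveI : Subsingleton (Coh.HH X (Groth.Agent.Helper1.ClTr.tw n k ι (kernel q) (l : ℤ)) j) :=
      (Groth.Agent.Helper1.ClTr.subsingleton_HH_tw_iff n k ι (kernel q) hK.1 l j).2
        (Groth.Agent.Helper1.KzReg.subsingleton_HH_of_isReg n k _ hGK m hregK j hj l (by omega))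
    exact (Groth.Agent.Helper1.ProjTop.HHlinEquiv k e j).symm.toEquiv.subsingleton
  · obtain ⟨e⟩ := iso (kernel q)
    have hgg := (Groth.Agent.Helper1.ClTr.isRegX_and_gg n k ι (kernel q) hK m
      ((Groth.Agent.Helper1.ClTr.isRegX_iff n k ι (kernel q) hK.1 m).2 hregK) l hml).2
    exact Groth.Agent.Helper4.CounitEpi.isGloballyGenerated_of_iso e hgg

end Groth.Agent.S18841
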