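import Groth.Statements.S18859
import Mathlib
import Groth.Agent.Helper9.TorsorFun
-- import your own Groth.Agent.* helpers here

set_option autoImplicit false
universe u
open CategoryTheory MonoidalCategory CartesianMonoidalCategory MonObj GrpObj AlgebraicGeometry
open NonAbH1

namespace Groth.Agent.S18859

/-- Let S be a scheme, G a group scheme over S and X → S a G-torsor for the fpqc topology (a
pseudo-torsor under G acquiring sections on the members of some fpqc covering family of S). Then the
functions on S are the G-invariant functions on X: the ring map Γ(S, O_S) → Γ(X, O_X) is injective,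
and a global function s on X lies in its image if and only if the pullbacks of s to G ×_S X along
the action morphism and along the second projection coincide. (The source works over a scheme of
finite type over a field with G the base change of an affine group scheme over that field and states
the equality O_S = (O_X)^G as sheaves on S; applied to the restriction of the torsor over each open
of S, the present global form is that equality.) -/
theorem result {S : Scheme.{u}} {G X : Over S}
    [GrpObj G] (a : AlgGrp.Action G X) (ha : NonAbH1.IsTorsorFor Scheme.fpqcPrecoverage a) :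
    Function.Injective X.hom.appTop.hom ∧
      ∀ s : Γ(X.left, ⊤), s ∈ Set.range X.hom.appTop.hom ↔
        a.act.left.appTop.hom s = (CartesianMonoidalCategory.snd G X).left.appTop.hom s := by
  have hP : Presieve.IsSheaf Scheme.fpqcTopology (BigSite.gammaPre.{u} ⋙ forget CommRingCat.{u + 1}) := by
    rw [← isSheaf_iff_isSheaf_of_type,
      ← Presheaf.isSheaf_iff_isSheaf_forget Scheme.fpqcTopology BigSite.gammaPre.{u} (forget CommRingCat.{u + 1})]
    exact BigSite.isSheaf_gammaPre _
  obtain ⟨h1, h2⟩ := Groth.Agent.Helper9.TorsorFun.descent
    (BigSite.gammaPre.{u} ⋙ forget CommRingCat.{u + 1}) hP a ha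
  have hmap : ∀ {T T' : Scheme.{u}} (f : T ⟶ T') (x : ULift.{u + 1} Γ(T', ⊤)),
      (BigSite.gammaPre.{u} ⋙ forget CommRingCat.{u + 1}).map f.op x = ULift.up (f.appTop.hom x.down) :=
    fun f x => rfl
  refine ⟨?_, ?_⟩
  · intro s₁ s₂ h
    have h3 : (BigSite.gammaPre.{u} ⋙ forget CommRingCat.{u + 1}).map X.hom.op (ULift.up s₁) =
        (BigSite.gammaPre.{u} ⋙ forget CommRingCat.{u + 1}).map X.hom.op (ULift.up s₂) := by
      rw [hmap, hmap]
      exact congrArg ULift.up h
    exact congrArg ULift.down (h1 h3)
  · intro s
    have h4 := h2 (ULift.up s)
    rw [hmap, hmap] at h4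
    constructor
    · rintro ⟨r, hr⟩
      have h5 := h4.mp ⟨ULift.up r, by rw [hmap]; exact congrArg ULift.up hr⟩
      exact congrArg ULift.down h5
    · intro hs
      obtain ⟨r, hr⟩ := h4.mpr (congrArg ULift.up hs)
      have hr' := (hmap X.hom r).symm.trans hr
      exact ⟨r.down, congrArg ULift.down hr'⟩

end Groth.Agent.S18859
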