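import Groth.Statements.S1886
import Mathlib
import Groth.Agent.Helper2.Grpd2
import Groth.Agent.Helper2.Grpd9
open Groth.Agent.Helper2.Grpd2 Groth.Agent.Helper2.Grpd9
-- import your own Groth.Agent.* helpers here

set_option autoImplicit false
universe u
open CategoryTheory CategoryTheory.Limits AlgebraicGeometry
open Grpd

namespace Groth.Agent.S1886

/-- Let (U, R, s, t, c) be a groupoid scheme over S with stabilizer group scheme G → U and identity
section e : U → G. Then j = (t, s) : R → U ×_S U is separated iff G → U is separated iff e is a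
closed immersion; and j is quasi-separated iff G → U is quasi-separated iff e is quasi-compact. (A
groupoid scheme carries U, R, s, t, c, e, i over S with the groupoid axioms on T-points; 'finite
locally free' is finite, flat and locally of finite presentation; C ⊂ Γ(U) is the ring of functions
a with s♯(a) = t♯(a) and M = Spec C.) -/
theorem result (S : Scheme.{u}) (G : Grpd.GroupoidScheme S) : ((IsSeparated G.j ↔ IsSeparated G.stabilizerToU) ∧ (IsSeparated G.stabilizerToU ↔ IsClosedImmersion G.eStab)) ∧ ((QuasiSeparated G.j ↔ QuasiSeparated G.stabilizerToU) ∧ (QuasiSeparated G.stabilizerToU ↔ QuasiCompact G.eStab)) := by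
  have h1 : IsSeparated G.j → IsSeparated G.stabilizerToU := fun h =>
    MorphismProperty.pullback_snd (P := @IsSeparated) G.j G.diag h
  have h2 : IsSeparated G.stabilizerToU → IsClosedImmersion G.eStab := fun h => by
    have : IsClosedImmersion (G.eStab ≫ G.stabilizerToU) := by rw [eStab_toU]; infer_instance
    exact IsClosedImmersion.of_comp G.eStab G.stabilizerToU
  have h3 : IsClosedImmersion G.eStab → IsSeparated G.j := fun h =>
    ⟨diagonal_of_eStab G @IsClosedImmersion h⟩
  have h4 : QuasiSeparated G.j → QuasiSeparated G.stabilizerToU := fun h =>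
    MorphismProperty.pullback_snd (P := @QuasiSeparated) G.j G.diag h
  have h5 : QuasiSeparated G.stabilizerToU → QuasiCompact G.eStab := fun h => by
    have : QuasiCompact (G.eStab ≫ G.stabilizerToU) := by rw [eStab_toU]; infer_instance
    exact QuasiCompact.of_comp G.eStab G.stabilizerToU
  have h6 : QuasiCompact G.eStab → QuasiSeparated G.j := fun h =>
    ⟨diagonal_of_eStab G @QuasiCompact h⟩
  exact ⟨⟨⟨h1, fun h => h3 (h2 h)⟩, ⟨h2, fun h => h1 (h3 h)⟩⟩,
    ⟨⟨h4, fun h => h6 (h5 h)⟩, ⟨h5, fun h => h4 (h6 h)⟩⟩⟩

end Groth.Agent.S1886
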