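import Groth.Statements.S18861
import Mathlib
import Groth.Prelude.Def_Magnet2
-- import your own Groth.Agent.* helpers here

set_option autoImplicit false
universe u
open CategoryTheory MonoidalCategory CartesianMonoidalCategory MonObj GrpObj AlgebraicGeometry
open AlgGrp

namespace Groth.Agent.S18861

theorem key {S : Scheme.{u}} {G X : Over S} [GrpObj G] (a : AlgGrp.Action G X) :
    ∃ σ : G ⊗ X ≅ G ⊗ X, a.act = σ.hom ≫ CartesianMonoidalCategory.snd G X := by
  let m : Magnet.MonAct G X := Magnet.MonAct.ofAction a
  have hact : a.act = m.act := rfl
  have e1 : lift ((CartesianMonoidalCategory.fst G X)⁻¹) m.act ≫ m.act =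
      CartesianMonoidalCategory.snd G X := by
    calc lift ((CartesianMonoidalCategory.fst G X)⁻¹) m.act ≫ m.act
        = lift ((CartesianMonoidalCategory.fst G X)⁻¹)
            (lift (CartesianMonoidalCategory.fst G X) (CartesianMonoidalCategory.snd G X) ≫ m.act) ≫ m.act := by
          rw [lift_fst_snd, Category.id_comp]
      _ = CartesianMonoidalCategory.snd G X := by
          rw [← m.lift_mul_act, inv_mul_cancel, m.lift_one_act]
  have e2 : lift (CartesianMonoidalCategory.fst G X)
      (lift (CartesianMonoidalCategory.fst G X)⁻¹ (CartesianMonoidalCategory.snd G X) ≫ m.act) ≫ m.act =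
      CartesianMonoidalCategory.snd G X := by
    rw [← m.lift_mul_act, mul_inv_cancel, m.lift_one_act]
  refine ⟨⟨lift (CartesianMonoidalCategory.fst G X) m.act,
    lift (CartesianMonoidalCategory.fst G X)
      (lift ((CartesianMonoidalCategory.fst G X)⁻¹) (CartesianMonoidalCategory.snd G X) ≫ m.act), ?_, ?_⟩, ?_⟩
  · apply CartesianMonoidalCategory.hom_ext
    · simp
    · rw [Category.assoc, lift_snd, ← Category.assoc, comp_lift, GrpObj.comp_inv, lift_fst, lift_snd,
        Category.id_comp]
      exact e1
  · apply CartesianMonoidalCategory.hom_ext
    · simp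
    · rw [Category.assoc, lift_snd, Category.id_comp]
      exact e2
  · rw [hact]; simp

theorem gen {S : Scheme.{u}} {G X : Over S} [GrpObj G] (a : AlgGrp.Action G X)
    (P : MorphismProperty Scheme.{u}) [P.IsStableUnderBaseChange] (h : P G.hom) :
    P a.act.left := by
  obtain ⟨σ, hσ⟩ := key a
  have h1 : a.act.left = σ.hom.left ≫ Limits.pullback.snd G.hom X.hom := by
    rw [hσ, Over.comp_left]
    rfl
  haveI : IsIso σ.hom.left := (inferInstance : IsIso ((Over.forget S).map σ.hom))
  rw [h1]
  exact (P.cancel_left_of_respectsIso _ _).mpr (MorphismProperty.pullback_snd _ _ h)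

/-- Let S be a scheme and G a group scheme over S acting on an S-scheme X, with action morphism G ×_S X
→ X. If G → S is surjective, resp. flat, resp. affine, resp. proper, resp. finite, resp. smooth,
then so is the action morphism. (The source works over a field, where G → S is automatically
faithfully flat, with G and X of finite type, and concludes that the action morphism is faithfully
flat, and smooth, affine, proper or finite when G is; the base and the finiteness conditions play no
role.) -/
theorem result {S : Scheme.{u}} {G X : Over S} [GrpObj G]
    (a : AlgGrp.Action G X) :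
    (Surjective G.hom → Surjective a.act.left) ∧ (Flat G.hom → Flat a.act.left) ∧
      (IsAffineHom G.hom → IsAffineHom a.act.left) ∧ (IsProper G.hom → IsProper a.act.left) ∧
      (IsFinite G.hom → IsFinite a.act.left) ∧ (Smooth G.hom → Smooth a.act.left) := by
  exact ⟨fun h => gen a @Surjective h, fun h => gen a @Flat h, fun h => gen a @IsAffineHom h,
    fun h => gen a @IsProper h, fun h => gen a @IsFinite h, fun h => gen a @Smooth h⟩

end Groth.Agent.S18861
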