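import Groth.Statements.S18864
import Mathlib
-- import your own Groth.Agent.* helpers here

set_option autoImplicit false
universe u v w
open HopfRep

namespace Groth.Agent.S18864

/-- Let k be a field and G = lim G_i a pro-algebraic group scheme over k, so that G = Spec A with A the
direct limit of the Hopf algebras A_i of the affine group schemes G_i of finite type; assume
moreover that the maps A_i → A are injective, so that A is the directed union of the A_i, here given
as injective bialgebra maps A_i → A with directed, jointly covering images. Then every homomorphism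
from G to an affine group scheme H = Spec B of finite type over k factors through some projection G
→ G_i: every bialgebra map f : B → A with B finitely generated as a k-algebra is the composite of
A_i → A with a bialgebra map B → A_i for some i. (The published statement allows arbitrary
transition maps in the system; this row assumes each A_i → A injective, the case the printed
argument treats. The source also states the pro-finite variant with H finite, which is the case of
finite-dimensional A_i and B; finite generation of the A_i is not used.) -/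
theorem result (k : Type u) [Field k]
    (A : Type v) [CommRing A] [HopfAlgebra k A] {ι : Type v} (Aι : ι → Type v)
    [∀ i, CommRing (Aι i)] [∀ i, HopfAlgebra k (Aι i)] (emb : ∀ i, Aι i →ₐc[k] A)
    (hinj : ∀ i, Function.Injective (emb i))
    (hdir : ∀ i j, ∃ l, Set.range (emb i) ⊆ Set.range (emb l) ∧ Set.range (emb j) ⊆ Set.range (emb l))
    (hcov : ∀ a : A, ∃ i, a ∈ Set.range (emb i))
    (B : Type w) [CommRing B] [HopfAlgebra k B] [Algebra.FiniteType k B] (f : B →ₐc[k] A) :
    ∃ (i : ι) (g : B →ₐc[k] Aι i), (emb i).comp g = f := by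
  classical
  obtain ⟨s, hs⟩ := (Algebra.FiniteType.out : (⊤ : Subalgebra k B).FG)
  have key : ∀ t : Finset A, ∃ i, ∀ a ∈ t, a ∈ Set.range (emb i) := by
    intro t
    induction t using Finset.induction_on with
    | empty => obtain ⟨i, _⟩ := hcov 0; exact ⟨i, by simp⟩
    | insert a t _ ih =>
      obtain ⟨i, hi⟩ := ih
      obtain ⟨j, hj⟩ := hcov a
      obtain ⟨l, hl1, hl2⟩ := hdir i j
      refine ⟨l, fun x hx => ?_⟩
      rcases Finset.mem_insert.1 hx with rfl | hx
      · exact hl2 hj
      · exact hl1 (hi x hx)
  obtain ⟨i, hi⟩ := key (s.image f)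
  have hrange : ∀ b : B, (f : B →ₐ[k] A) b ∈ ((emb i : Aι i →ₐ[k] A)).range := by
    intro b
    have hb : b ∈ Algebra.adjoin k (s : Set B) := by rw [hs]; trivial
    induction hb using Algebra.adjoin_induction with
    | mem x hx =>
      obtain ⟨y, hy⟩ := hi _ (Finset.mem_image_of_mem f hx)
      exact ⟨y, hy⟩
    | algebraMap r => rw [AlgHom.commutes]; exact Subalgebra.algebraMap_mem _ r
    | add x y _ _ hx hy => rw [map_add]; exact add_mem hx hy
    | mul x y _ _ hx hy => rw [map_mul]; exact mul_mem hx hy
  obtain ⟨g0, hg0⟩ : ∃ g0 : B →ₐ[k] Aι i, ∀ b, emb i (g0 b) = f b := by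
    refine ⟨((AlgEquiv.ofInjective (emb i : Aι i →ₐ[k] A) (hinj i)).symm : _ →ₐ[k] Aι i).comp
      ((f : B →ₐ[k] A).codRestrict _ hrange), fun b => ?_⟩
    have := (AlgEquiv.ofInjective (emb i : Aι i →ₐ[k] A) (hinj i)).apply_symm_apply
      ((f : B →ₐ[k] A).codRestrict _ hrange b)
    exact congrArg Subtype.val this
  have hg0' : (emb i : Aι i →ₐ[k] A).comp g0 = (f : B →ₐ[k] A) := AlgHom.ext hg0
  have hcounit : (Bialgebra.counitAlgHom k (Aι i)).comp g0 = Bialgebra.counitAlgHom k B := by
    rw [← BialgHom.counitAlgHom_comp (emb i), AlgHom.comp_assoc, hg0', BialgHom.counitAlgHom_comp]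
  have hinj2 : Function.Injective
      (Algebra.TensorProduct.map (emb i : Aι i →ₐ[k] A) (emb i : Aι i →ₐ[k] A)) := by
    have := TensorProduct.map_injective_of_flat_flat
      ((emb i : Aι i →ₐ[k] A).toLinearMap) ((emb i : Aι i →ₐ[k] A).toLinearMap) (hinj i) (hinj i)
    exact this
  have hcomul : (Algebra.TensorProduct.map g0 g0).comp (Bialgebra.comulAlgHom k B) =
      (Bialgebra.comulAlgHom k (Aι i)).comp g0 := by
    apply AlgHom.ext
    intro b
    apply hinj2
    have e1 : (Algebra.TensorProduct.map (emb i : Aι i →ₐ[k] A) (emb i : Aι i →ₐ[k] A)).comp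
        (Algebra.TensorProduct.map g0 g0) =
        Algebra.TensorProduct.map (f : B →ₐ[k] A) (f : B →ₐ[k] A) := by
      rw [← Algebra.TensorProduct.map_comp, hg0']
    have e2 := AlgHom.congr_fun e1 (Bialgebra.comulAlgHom k B b)
    have e3 := AlgHom.congr_fun (BialgHom.map_comp_comulAlgHom f) b
    have e4 := AlgHom.congr_fun (BialgHom.map_comp_comulAlgHom (emb i)) (g0 b)
    simp only [AlgHom.comp_apply] at e2 e3 e4 ⊢
    rw [e2, e3, e4]
    exact congrArg _ (hg0 b).symm
  refine ⟨i, BialgHom.ofAlgHom g0 hcounit hcomul, ?_⟩
  apply BialgHom.ext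
  intro b
  exact hg0 b

end Groth.Agent.S18864
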