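import Groth.Statements.S18879
import Groth.Agent.Helper5.DimFormula8

set_option autoImplicit false
universe u
open CategoryTheory AlgebraicGeometry
open Resolve

namespace Groth.Agent.S18879

/-- Let f : Y ⟶ X be a morphism locally of finite type between Noetherian separated schemes which is
birational: it maps the maximal points of Y bijectively onto the maximal points of X, and over every
maximal point of X its fibre is one point with the same residue field. Then for every point y of Y,
the Krull dimension of the local ring of Y at y is at most the Krull dimension of the local ring of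
X at f y (the codimension of a point does not increase along f). -/
theorem result {X Y : Scheme.{u}} (f : Y ⟶ X)
    [IsNoetherian X] [X.IsSeparated] [IsNoetherian Y] [Y.IsSeparated] [LocallyOfFiniteType f]
    (hf : RadPt.IsBirational f) (y : Y) :
    ringKrullDim (Y.presheaf.stalk y) ≤ ringKrullDim (X.presheaf.stalk (f.base y)) := by
  obtain ⟨ξ, a, c, hξ, -, ha, hc, hineq⟩ :=
    Groth.Agent.Helper5.DimFormula.scheme_dimension_inequality f y
  have hξg : ξ ∈ genericPoints Y := hξ
  have hfξ : f ξ ∈ genericPoints X := hf.1.mapsTo hξg
  have hbij := (hf.2 (f ξ) hfξ).2 ξ rfl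
  have htr : @Algebra.trdeg (X.residueField (f ξ)) (Y.residueField ξ) _ _
      (f.residueFieldMap ξ).hom.toAlgebra = 0 := by
    let _ := (f.residueFieldMap ξ).hom.toAlgebra
    have halg : Algebra.IsAlgebraic (X.residueField (f ξ)) (Y.residueField ξ) := by
      refine ⟨fun z => ?_⟩
      obtain ⟨w, rfl⟩ := hbij.2 z
      exact isAlgebraic_algebraMap w
    exact trdeg_eq_zero
  rw [htr, add_zero] at hineq
  have h1 : (a : Cardinal.{u}) ≤ c := le_trans (le_self_add) hineq
  have h2 : a ≤ c := by exact_mod_cast h1
  show ringKrullDim (Y.presheaf.stalk y) ≤ ringKrullDim (X.presheaf.stalk (f y))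
  rw [ha, hc]
  exact_mod_cast h2

end Groth.Agent.S18879
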