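import Groth.Statements.S18884
import Mathlib
import Groth.Agent.Helper9.Cosheaf
-- import your own Groth.Agent.* helpers here

set_option autoImplicit false
universe v u w
open CategoryTheory CategoryTheory.Limits
open Desc

namespace Groth.Agent.S18884

/-- Let C be a category with pullbacks equipped with a class W of morphisms, the covers, stable under
base change and under composition. An abelian cosheaf is a functor F : C ⥤ Ab such that for every
cover π : Y ⟶ X the map F(π) is surjective and its kernel is the image of F(p₁) − F(p₂), where p₁,
p₂ : Y ×_X Y ⟶ Y are the two projections. If D is a full subcategory of C such that every object of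
C is the target of a cover whose source lies in D, then the restriction functor from the full
subcategory of abelian cosheaves in C ⥤ Ab to D ⥤ Ab is full and faithful. -/
theorem result {C : Type u} [Category.{v} C]
    [HasPullbacks C] (W : MorphismProperty C) [W.IsStableUnderBaseChange] [W.IsStableUnderComposition]
    (D : ObjectProperty C) (hD : ∀ X : C, ∃ (Y : C) (π : Y ⟶ X), W π ∧ D Y) :
    (ObjectProperty.ι (fun F : C ⥤ AddCommGrpCat.{w} =>
        ∀ ⦃Y X : C⦄ (π : Y ⟶ X), W π → Function.Surjective (F.map π).hom ∧
          (F.map π).hom.ker = ((F.map (pullback.fst π π)).hom - (F.map (pullback.snd π π)).hom).range) ⋙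
      (Functor.whiskeringLeft D.FullSubcategory C AddCommGrpCat.{w}).obj D.ι).Full ∧
    (ObjectProperty.ι (fun F : C ⥤ AddCommGrpCat.{w} =>
        ∀ ⦃Y X : C⦄ (π : Y ⟶ X), W π → Function.Surjective (F.map π).hom ∧
          (F.map π).hom.ker = ((F.map (pullback.fst π π)).hom - (F.map (pullback.snd π π)).hom).range) ⋙
      (Functor.whiskeringLeft D.FullSubcategory C AddCommGrpCat.{w}).obj D.ι).Faithful := by
  constructor
  · constructor
    intro F G γ
    have hF : Groth.Agent.Helper9.Cosheaf.IsCosheaf W F.obj := F.property
    refine ⟨ObjectProperty.homMk (Groth.Agent.Helper9.Cosheaf.extNat D hD hF γ), ?_⟩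
    ext X : 2
    exact Groth.Agent.Helper9.Cosheaf.extNat_restrict D hD hF γ X
  · constructor
    intro F G α β h
    have hF : Groth.Agent.Helper9.Cosheaf.IsCosheaf W F.obj := F.property
    apply ObjectProperty.hom_ext
    apply Groth.Agent.Helper9.Cosheaf.faithful_aux (W := W) D hD hF
    intro X
    exact congrArg (fun t => t.app X) h

end Groth.Agent.S18884
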