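import Groth.Statements.S18888
import Mathlib
-- import your own Groth.Agent.* helpers here

set_option autoImplicit false
universe u v w
open CAlg

namespace Groth.Agent.S18888

/-- Let A be a unique factorisation domain in which 2 is invertible, with fraction field K, and let L ⊇
K be a quadratic extension field (of degree 2 over K) containing an element y ∉ K whose square is a
squarefree element d of A. Then the integral closure of A in L equals the A-subalgebra A[y]
generated by y. -/
theorem result {A : Type u} {K : Type v} {L : Type w}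
    [CommRing A] [IsDomain A] [UniqueFactorizationMonoid A] [Field K] [Algebra A K] [IsFractionRing A K]
    [Field L] [Algebra K L] [Algebra A L] [IsScalarTower A K L]
    (h2 : IsUnit (2 : A)) (hL : Module.finrank K L = 2)
    (d : A) (hd : Squarefree d) (y : L) (hy : y * y = algebraMap A L d)
    (hyK : y ∉ Set.range (algebraMap K L)) :
    integralClosure A L = Algebra.adjoin A {y} := by
  classical
  have hyint : IsIntegral A y :=
    ⟨Polynomial.X ^ 2 - Polynomial.C d, Polynomial.monic_X_pow_sub_C d two_ne_zero, by
      simp [pow_two, hy]⟩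
  have hinjKL : Function.Injective (algebraMap K L) := (algebraMap K L).injective
  have hfd : FiniteDimensional K L := Module.finite_of_finrank_pos (by rw [hL]; norm_num)
  have hinjAK : Function.Injective (algebraMap A K) := IsFractionRing.injective A K
  apply le_antisymm
  · intro z hz
    have hz' : IsIntegral A z := hz
    -- basis {1, y}
    have hli : LinearIndependent K ![(1 : L), y] := by
      rw [LinearIndependent.pair_iff]
      intro s t hst
      have ht : t = 0 := by
        by_contra ht
        apply hyK
        refine ⟨-(s / t), ?_⟩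
        have h1 : t • y = -(s • (1 : L)) := by
          rw [eq_neg_iff_add_eq_zero, add_comm]; exact hst
        have h2 : y = t⁻¹ • (t • y) := by rw [smul_smul, inv_mul_cancel₀ ht, one_smul]
        rw [h2, h1, Algebra.smul_def, Algebra.smul_def, mul_one, ← map_neg, ← map_mul]
        congr 1
        field_simp
      subst ht
      rw [zero_smul, add_zero, Algebra.smul_def, mul_one] at hst
      exact ⟨hinjKL (by rw [hst, map_zero]), rfl⟩
    have hspan := hli.span_eq_top_of_card_eq_finrank' (by rw [hL]; rfl)
    have hzmem : z ∈ Submodule.span K (Set.range ![(1 : L), y]) := by rw [hspan]; trivial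
    obtain ⟨cf, hcf⟩ := (Submodule.mem_span_range_iff_exists_fun K).mp hzmem
    rw [Fin.sum_univ_two] at hcf
    simp only [Matrix.cons_val_zero, Matrix.cons_val_one, Algebra.smul_def, mul_one] at hcf
    obtain ⟨a, ha⟩ : ∃ a, a = cf 0 := ⟨_, rfl⟩
    obtain ⟨b, hb⟩ : ∃ b, b = cf 1 := ⟨_, rfl⟩
    rw [← ha, ← hb] at hcf
    -- claim: a, b in A
    suffices h : (∃ a' : A, algebraMap A K a' = a) ∧ (∃ b' : A, algebraMap A K b' = b) by
      obtain ⟨⟨a', ha'⟩, ⟨b', hb'⟩⟩ := h
      rw [← hcf, ← ha', ← hb', ← IsScalarTower.algebraMap_apply, ← IsScalarTower.algebraMap_apply]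
      exact add_mem (Subalgebra.algebraMap_mem _ _)
        (mul_mem (Subalgebra.algebraMap_mem _ _) (Algebra.subset_adjoin rfl))
    by_cases hb0 : b = 0
    · subst hb0
      rw [map_zero, zero_mul, add_zero] at hcf
      refine ⟨?_, ⟨0, map_zero _⟩⟩
      rw [← hcf] at hz'
      have : IsIntegral A a := (isIntegral_algebraMap_iff hinjKL).mp hz'
      exact IsIntegrallyClosed.isIntegral_iff.mp this
    · have hzK : z ∉ (algebraMap K L).range := by
        rintro ⟨c, hc⟩
        apply hyK
        refine ⟨b⁻¹ * (c - a), ?_⟩
        have : algebraMap K L b * y = algebraMap K L (c - a) := by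
          rw [map_sub, hc, ← hcf]; ring
        rw [map_mul, ← this, ← mul_assoc, ← map_mul, inv_mul_cancel₀ hb0, map_one, one_mul]
      have hzintK : IsIntegral K z := hz'.tower_top
      obtain ⟨q, hq⟩ : ∃ q : Polynomial K, q = Polynomial.X ^ 2 - Polynomial.C (2 * a) * Polynomial.X
          + Polynomial.C (a ^ 2 - b ^ 2 * algebraMap A K d) := ⟨_, rfl⟩
      have hqz : Polynomial.aeval z q = 0 := by
        rw [hq]
        simp only [map_add, map_sub, map_mul, map_pow, Polynomial.aeval_X, Polynomial.aeval_C,
          ← IsScalarTower.algebraMap_apply A K L]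
        rw [← hy, ← hcf]
        simp only [map_ofNat]
        ring
      have hqdeg : q.natDegree = 2 := by
        rw [hq]
        compute_degree!
      have hqmonic : q.Monic := by
        rw [hq]
        monicity!
      have hdvd := minpoly.dvd K z hqz
      have h2le := (minpoly.two_le_natDegree_iff hzintK).mpr hzK
      have hqeq : q = minpoly K z :=
        Polynomial.eq_of_monic_of_dvd_of_natDegree_le (minpoly.monic hzintK) hqmonic hdvd
          (by rw [hqdeg]; exact h2le)
      rw [minpoly.isIntegrallyClosed_eq_field_fractions' K hz'] at hqeq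
      have hc1 := congrArg (fun p => Polynomial.coeff p 1) hqeq
      have hc0 := congrArg (fun p => Polynomial.coeff p 0) hqeq
      simp only [hq, Polynomial.coeff_map] at hc1 hc0
      simp only [Polynomial.coeff_add, Polynomial.coeff_sub, Polynomial.coeff_X_pow,
        Polynomial.coeff_C_mul, Polynomial.coeff_X_one, Polynomial.coeff_C_zero,
        Polynomial.coeff_X_zero, Polynomial.coeff_C] at hc1 hc0
      norm_num at hc1 hc0
      obtain ⟨u, hu⟩ := h2
      have hu2 : algebraMap A K (↑u⁻¹ : A) * 2 = 1 := by
        have : (2 : K) = algebraMap A K (u : A) := by rw [hu, map_ofNat]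
        rw [this, ← map_mul, Units.inv_mul, map_one]
      have ha' : algebraMap A K (-((↑u⁻¹ : A) * (minpoly A z).coeff 1)) = a := by
        rw [map_neg, map_mul, ← hc1]
        linear_combination (2 * a) * hu2 - a * hu2
      obtain ⟨e, he⟩ : ∃ e : A, algebraMap A K e = b ^ 2 * algebraMap A K d := by
        refine ⟨(-((↑u⁻¹ : A) * (minpoly A z).coeff 1)) ^ 2 - (minpoly A z).coeff 0, ?_⟩
        rw [map_sub, map_pow, ha', ← hc0]
        ring
      refine ⟨⟨_, ha'⟩, ?_⟩
      obtain ⟨n, ⟨v, hv⟩, hrel, hnv⟩ := IsFractionRing.exists_reduced_fraction A b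
      have hv0 : v ≠ 0 := nonZeroDivisors.ne_zero hv
      have hbv : b * algebraMap A K v = algebraMap A K n := by
        rw [← hnv]
        exact IsLocalization.mk'_spec K n ⟨v, hv⟩
      have hA : n ^ 2 * d = e * v ^ 2 := by
        apply hinjAK
        rw [map_mul, map_mul, map_pow, map_pow, he, ← hbv]
        ring
      have hdvd2 : v ^ 2 ∣ d := by
        have h1 : IsRelPrime (v ^ 2) (n ^ 2) := (hrel.symm.pow_left).pow_right
        exact h1.dvd_of_dvd_mul_left ⟨e, by rw [hA, mul_comm]⟩
      have hvu : IsUnit v := hd v (by rwa [← pow_two])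
      obtain ⟨w, hw⟩ := hvu
      refine ⟨n * (↑w⁻¹ : A), ?_⟩
      rw [map_mul, ← hbv, ← hw, mul_assoc, ← map_mul, Units.mul_inv, map_one, mul_one]
  · refine Algebra.adjoin_le ?_
    rintro _ rfl
    exact hyint

end Groth.Agent.S18888
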