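import Groth.Statements.S18890
import Mathlib
-- import your own Groth.Agent.* helpers here

set_option autoImplicit false
universe u v w w'
open CAlg

namespace Groth.Agent.S18890

/-- Let R be a commutative ring, G a finite group whose order is invertible in R, M an R-module with an
R-linear action ρ of G and N an arbitrary R-module. Then the natural map M^G ⊗_R N → M ⊗_R N induced
by the inclusion of the invariants is injective, and its image is the submodule of invariants of M
⊗_R N under the action ρ ⊗ 1 (G acting on the first factor). (The source lets G be a group of
R-automorphisms of M; a possibly non-faithful linear action changes nothing.) -/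
theorem result {R : Type u} [CommRing R]
    {G : Type v} [Group G] [Finite G] (hG : IsUnit ((Nat.card G : ℕ) : R))
    {M : Type w} {N : Type w'} [AddCommGroup M] [Module R M] [AddCommGroup N] [Module R N]
    (ρ : Representation R G M) :
    Function.Injective (LinearMap.rTensor N ρ.invariants.subtype) ∧
      LinearMap.range (LinearMap.rTensor N ρ.invariants.subtype) =
        (ρ.tprod (Representation.trivial R G N)).invariants := by
  classical
  haveI : Fintype G := Fintype.ofFinite G
  obtain ⟨u, hu⟩ := hG
  have hcard : (u : R) = (Fintype.card G : R) := by rw [hu, Nat.card_eq_fintype_card]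
  let e : M →ₗ[R] M := ((u⁻¹ : Rˣ) : R) • ∑ g : G, ρ g
  have he_apply : ∀ m, e m = ((u⁻¹ : Rˣ) : R) • ∑ g : G, ρ g m := by
    intro m
    simp [e, LinearMap.sum_apply]
  have he_inv : ∀ m, e m ∈ ρ.invariants := by
    intro m
    rw [Representation.mem_invariants]
    intro h
    rw [he_apply, map_smul, map_sum]
    congr 1
    have : ∀ g : G, ρ h (ρ g m) = ρ (h * g) m := fun g => by rw [map_mul]; rfl
    simp only [this]
    exact Fintype.sum_equiv (Equiv.mulLeft h) _ _ (fun g => rfl)
  have he_fix : ∀ m ∈ ρ.invariants, e m = m := by
    intro m hm
    rw [Representation.mem_invariants] at hm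
    rw [he_apply]
    simp only [hm, Finset.sum_const, Finset.card_univ]
    rw [← Nat.cast_smul_eq_nsmul R, ← hcard, smul_smul, Units.inv_mul, one_smul]
  let e' : M →ₗ[R] ρ.invariants := e.codRestrict _ he_inv
  have hcomp : e' ∘ₗ ρ.invariants.subtype = LinearMap.id := by
    ext m
    exact he_fix m m.2
  have hcomp' : ρ.invariants.subtype ∘ₗ e' = e := by
    ext m
    rfl
  constructor
  · have : Function.LeftInverse (LinearMap.rTensor N e') (LinearMap.rTensor N ρ.invariants.subtype) := by
      intro w
      rw [← LinearMap.comp_apply, ← LinearMap.rTensor_comp, hcomp, LinearMap.rTensor_id,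
        LinearMap.id_apply]
    exact this.injective
  · apply le_antisymm
    · rintro _ ⟨w, rfl⟩
      rw [Representation.mem_invariants]
      intro g
      induction w using TensorProduct.induction_on with
      | zero => simp
      | tmul m n =>
        have hm := (Representation.mem_invariants ρ (m : M)).mp m.2 g
        simp [Representation.tprod_apply, hm]
      | add x y hx hy => simp only [map_add, hx, hy]
    · intro z hz
      rw [Representation.mem_invariants] at hz
      refine ⟨LinearMap.rTensor N e' z, ?_⟩
      rw [← LinearMap.comp_apply, ← LinearMap.rTensor_comp, hcomp']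
      have h1 : LinearMap.rTensor N e =
          ((u⁻¹ : Rˣ) : R) • ∑ g : G, LinearMap.rTensor N (ρ g) := by
        show LinearMap.rTensorHom N (((u⁻¹ : Rˣ) : R) • ∑ g : G, ρ g) = _
        rw [map_smul, map_sum]
        rfl
      rw [h1, LinearMap.smul_apply, LinearMap.sum_apply]
      have h2 : ∀ g : G, LinearMap.rTensor N (ρ g) z = z := by
        intro g
        have := hz g
        rw [Representation.tprod_apply] at this
        exact this
      simp only [h2, Finset.sum_const, Finset.card_univ]
      rw [← Nat.cast_smul_eq_nsmul R, ← hcard, smul_smul, Units.inv_mul, one_smul]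

end Groth.Agent.S18890
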