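import Groth.Statements.S18891
import Mathlib
-- import your own Groth.Agent.* helpers here

set_option autoImplicit false
universe u
open CategoryTheory CategoryTheory.Limits AlgebraicGeometry
open Mor

namespace Groth.Agent.S18891

/-- Let f : X → Y be a morphism of schemes which is proper and formally unramified, and such that for
every algebraically closed field Ω the map X(Ω) → Y(Ω), g ↦ g ≫ f, is injective. Then f is a closed
immersion. -/
theorem result {X Y : Scheme.{u}} (f : X ⟶ Y)
    [IsProper f] [FormallyUnramified f]
    (hinj : ∀ (Ω : Type u) [Field Ω] [IsAlgClosed Ω],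
      Function.Injective (fun g : Spec (CommRingCat.of Ω) ⟶ X => g ≫ f)) :
    IsClosedImmersion f := by
  rw [IsClosedImmersion.iff_isProper_and_mono]
  refine ⟨inferInstance, ?_⟩
  change Mono f
  rw [← pullback.isIso_diagonal_iff, isIso_iff_isOpenImmersion_and_surjective]
  refine ⟨inferInstance, ⟨fun w => ?_⟩⟩
  let κ := (pullback f f).residueField w
  let Ω := AlgebraicClosure κ
  let g : Spec (CommRingCat.of Ω) ⟶ pullback f f :=
    Spec.map (CommRingCat.ofHom (algebraMap κ Ω)) ≫ (pullback f f).fromSpecResidueField w
  have h12 : g ≫ pullback.fst f f = g ≫ pullback.snd f f := by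
    apply hinj Ω
    change (g ≫ pullback.fst f f) ≫ f = (g ≫ pullback.snd f f) ≫ f
    exact (Category.assoc _ _ _).trans ((congrArg (fun t => g ≫ t) pullback.condition).trans
      (Category.assoc _ _ _).symm)
  have hg : g = (g ≫ pullback.fst f f) ≫ pullback.diagonal f := by
    apply pullback.hom_ext
    · simp
    · simp [h12]
  obtain ⟨pt⟩ : Nonempty (Spec (CommRingCat.of Ω)) := inferInstance
  refine ⟨(g ≫ pullback.fst f f) pt, ?_⟩
  have h1 : g pt = w := by
    change ((pullback f f).fromSpecResidueField w) _ = w
    exact Scheme.fromSpecResidueField_apply _ _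
  refine Eq.trans ?_ h1
  exact (congrArg (fun t : Spec (CommRingCat.of Ω) ⟶ pullback f f => t pt) hg).symm

end Groth.Agent.S18891
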