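import Groth.Statements.S18893
import Groth.Agent.Helper4.SN654
import Mathlib

set_option autoImplicit false
universe u
open CategoryTheory CategoryTheory.Limits AlgebraicGeometry
open Curves

namespace Groth.Agent.S18893


/-- Let k be an algebraically closed field of characteristic different from 2 and X a hyperelliptic
curve over k (p : X → Spec k smooth and proper, X connected of dimension one, genus dim_k H¹(X, O_X)
≥ 2, with a double cover h : X → P¹_k, finite and flat of rank 2 everywhere) with hyperelliptic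
involution σ (σ ≫ h = h, σ ≠ id). Then σ lies in the centre of the automorphism group of X over k:
it commutes with every k-automorphism τ of X. -/
theorem result (k : Type u) [Field k] [IsAlgClosed k] (h2 : (2 : k) ≠ 0)
    {X : Scheme.{u}} (p : X ⟶ Spec (CommRingCat.of k)) [IsProper p] [Smooth p] [ConnectedSpace ↥X]
    (hX : topologicalKrullDim ↥X = 1) (hg : 2 ≤ @Curv2.genus k _ X ⟨p⟩)
    (h : X ⟶ CohB1.ProjSpace 1 k) (hh : h ≫ CohB1.ProjSpace.toSpec 1 k = p)
    [IsFinite h] [Flat h] (hr : ∀ y : ↥(CohB1.ProjSpace 1 k), h.finrank y = 2)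
    (σ : X ⟶ X) (hσ : σ ≫ h = h) (hσ₁ : σ ≠ 𝟙 X)
    (τ : X ≅ X) (hτ : τ.hom ≫ p = p) :
    τ.hom ≫ σ = σ ≫ τ.hom := by

  letI : X.Over (Spec (CommRingCat.of k)) := ⟨p⟩
  haveI : IsProper (X ↘ Spec (CommRingCat.of k)) := ‹IsProper p›
  haveI : Smooth (X ↘ Spec (CommRingCat.of k)) := ‹Smooth p›
  haveI := Groth.Agent.Helper4.NApx82.isNoetherian_of_proper k X
  have hreg : ∀ x : X, IsRegularLocalRing (X.presheaf.stalk x) := fun x =>
    Groth.Agent.Helper4.SN.regular_of_smooth k x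
  haveI : IsIntegral X := Groth.Agent.Helper4.SN.isIntegral_of_connected_of_isDomain_stalk X
    (fun x => haveI := hreg x; Groth.Agent.Lead.RegLocal.isDomain_of_isRegularLocalRing _)
  have hh₂ : (τ.hom ≫ h) ≫ CohB1.ProjSpace.toSpec 1 k = p := by
    rw [Category.assoc, hh, hτ]
  have hr₂ : ∀ y : ↥(CohB1.ProjSpace 1 k), (τ.hom ≫ h).finrank y = 2 := by
    intro y
    rw [Scheme.Hom.finrank_comp_left_of_isIso]
    exact hr y
  have hσ' : (τ.hom ≫ σ ≫ τ.inv) ≫ (τ.hom ≫ h) = τ.hom ≫ h := by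
    simp only [Category.assoc, Iso.inv_hom_id_assoc]
    rw [hσ]
  have hσ'₁ : τ.hom ≫ σ ≫ τ.inv ≠ 𝟙 X := by
    intro hc
    apply hσ₁
    have h1 : σ = τ.inv ≫ (τ.hom ≫ σ ≫ τ.inv) ≫ τ.hom := by
      simp
    rw [h1, hc]
    simp
  have key := Groth.Agent.Helper4.SN654.main18892 k hX hreg hg h (τ.hom ≫ h) hh hh₂ hr hr₂
    σ (τ.hom ≫ σ ≫ τ.inv) hσ hσ₁ hσ' hσ'₁
  have h2 : σ ≫ τ.hom = (τ.hom ≫ σ ≫ τ.inv) ≫ τ.hom := by rw [← key]
  rw [h2]
  simp

end Groth.Agent.S18893
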