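import Groth.Statements.S18895
import Groth.Agent.Helper4.SN56
import Groth.Agent.Helper4.SN42
import Mathlib

set_option autoImplicit false
universe u
open CategoryTheory CategoryTheory.Limits AlgebraicGeometry
open Curves

namespace Groth.Agent.S18895


/-- Let k be an algebraically closed field of characteristic different from 2 (the standing convention
of the section; it plays no role here) and X a connected smooth proper curve over k of genus dim_k
H¹(X, O_X) ≥ 1. For every invertible O_X-module L of positive degree one has dim_k H⁰(X, L) ≤ deg L. -/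
theorem result (k : Type u) [Field k] [IsAlgClosed k] (h2 : (2 : k) ≠ 0)
    (X : Scheme.{u}) [X.Over (Spec (CommRingCat.of k))]
    [IsProper (X ↘ Spec (CommRingCat.of k))] [Smooth (X ↘ Spec (CommRingCat.of k))] [ConnectedSpace ↥X]
    (hX : topologicalKrullDim ↥X = 1) (hg : 1 ≤ Curv2.genus k X)
    (L : X.Modules) (hL : PicF.IsInvertible L) (hdeg : 0 < Curv2.deg k X L 1) :
    (Module.finrank k (Coh.HH X L 0) : ℤ) ≤ Curv2.deg k X L 1 := by

  haveI := Groth.Agent.Helper4.NApx82.isNoetherian_of_proper k X
  haveI : IsIntegral X := by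
    apply Groth.Agent.Helper4.SN.isIntegral_of_connected_of_isDomain_stalk X
    intro x
    haveI := Groth.Agent.Helper4.SN.regular_of_smooth k x
    exact Groth.Agent.Lead.RegLocal.isDomain_of_isRegularLocalRing _
  have hcL := Groth.Agent.Helper1.SerreFin.isCoh_of_isInvertible L hL
  haveI : Module.Finite k (Coh.HH X L 0) := Groth.Agent.S0002.result k X _ hcL 0
  haveI : Module.Finite k (Coh.HH X L 1) := Groth.Agent.S0002.result k X _ hcL 1
  have hχL := Groth.Agent.Helper4.SN.chi_eq_h0_sub_h1 k hX.le L
  have hχO := Groth.Agent.Helper4.SN.chi_eq_h0_sub_h1 k hX.le (Coh.structureModule X)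
  unfold Groth.Agent.Helper4.SN.chi at hχL hχO
  have hO := Groth.Agent.Helper4.SN.finrank_h0_unit_of_isAlgClosed k (X := X)
  have hdegL : Curv2.deg k X L 1 =
      (Module.finrank k (Coh.HH X L 0) : ℤ) - (Module.finrank k (Coh.HH X L 1) : ℤ)
        - 1 + (Curv2.genus k X : ℤ) := by
    unfold Curv2.deg Curv2.genus
    rw [hχL, hχO, hO]
    push_cast
    ring
  have hg' : (1 : ℤ) ≤ (Curv2.genus k X : ℤ) := by exact_mod_cast hg
  by_cases h1 : Subsingleton (Coh.HH X L 1)
  · have hz : Module.finrank k (Coh.HH X L 1) = 0 := Module.finrank_zero_of_subsingleton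
    rw [hz] at hdegL
    push_cast at hdegL
    omega
  · rw [not_subsingleton_iff_nontrivial] at h1
    by_cases h0 : Subsingleton (Coh.HH X L 0)
    · have hz : Module.finrank k (Coh.HH X L 0) = 0 := Module.finrank_zero_of_subsingleton
      rw [hz]
      push_cast
      omega
    · rw [not_subsingleton_iff_nontrivial] at h0
      have hcl := Groth.Agent.Helper4.SN.clifford_two_h0_le k hX L hL h0 h1
      omega

end Groth.Agent.S18895
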