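import Groth.Statements.S18897
import Groth.Agent.Lead.InvFPB
import Groth.Agent.Lead.QCurvD

set_option autoImplicit false
universe u
open CategoryTheory CategoryTheory.Limits AlgebraicGeometry
open Curves

namespace Groth.Agent.S18897

/-- Let k be a field, p : X → Spec k a smooth, proper, geometrically connected curve (X of dimension
one), and G a finite group acting faithfully on X by k-automorphisms, with the order of G invertible
in k. Let π : X → Y be a k-morphism which is a quotient of X by G: π is affine and G-invariant and
over every open of Y the sections of O_Y are exactly the G-invariant sections of O_X. Then Y is a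
smooth, proper, geometrically connected curve over k and π is a cover of degree |G|: finite, flat,
of rank |G| at every point. (The source says projective where this row says proper; for curves over
a field the two agree.) -/
theorem result (k : Type u) [Field k]
    {X Y : Scheme.{u}} (p : X ⟶ Spec (CommRingCat.of k)) [IsProper p] [Smooth p] [GeometricallyConnected p]
    (hX : topologicalKrullDim ↥X = 1)
    {G : Type u} [Group G] [Finite G] (hG : ((Nat.card G : ℕ) : k) ≠ 0)
    (ρ : G →* Aut X) (hρ : Function.Injective ρ) (hρk : ∀ g : G, (ρ g).hom ≫ p = p)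
    (π : X ⟶ Y) (q : Y ⟶ Spec (CommRingCat.of k)) (hπ : π ≫ q = p) (hquot : SGA1.IsQuot ρ π) :
    IsProper q ∧ Smooth q ∧ GeometricallyConnected q ∧ topologicalKrullDim ↥Y = 1 ∧
      IsFinite π ∧ Flat π ∧ ∀ y : Y, π.finrank y = Nat.card G := by
  subst hπ
  have hN' : IsUnit ((Nat.card G : ℕ) : Γ(Spec (CommRingCat.of k), ⊤)) := by
    have h0 : IsUnit ((Nat.card G : ℕ) : k) := Ne.isUnit hG
    have := h0.map (Scheme.ΓSpecIso (CommRingCat.of k)).inv.hom
    rwa [map_natCast] at this
  obtain ⟨⟨hsurj, hfin, -, -⟩, h2⟩ := Groth.Agent.Lead.InvFP.main (π ≫ q) π q rfl hquot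
  obtain ⟨-, hsep, h3⟩ := h2 hN'
  obtain ⟨hprop, hqfp, hπfp⟩ := h3 inferInstance
  haveI := hsurj
  haveI := hfin
  haveI := hprop
  haveI := hqfp
  obtain ⟨hint, hN⟩ := Groth.Agent.Lead.QCurv.curve_facts k (π ≫ q)
  haveI := hint
  have hdim : topologicalKrullDim X ≤ 1 := hX.le
  haveI : IsLocallyNoetherian Y := LocallyOfFiniteType.isLocallyNoetherian q
  have hflat : Flat π := Groth.Agent.Lead.QCurv.flat_quot hquot hN hdim
  haveI := hflat
  have hsm : Smooth q := Groth.Agent.Lead.QCurv.smooth_quot (π ≫ q) hdim q rfl hquot
  have hgc : GeometricallyConnected q := by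
    rw [geometricallyConnected_iff]
    intro K _ y Z fst snd h
    have hW : IsPullback (pullback.fst π fst) (pullback.snd π fst ≫ snd) (π ≫ q) y :=
      (IsPullback.of_hasPullback π fst).paste_vert h
    haveI : ConnectedSpace ↥(pullback π fst) :=
      (‹GeometricallyConnected (π ≫ q)›).geometrically_connectedSpace y _ _ hW
    have hs : Function.Surjective (pullback.snd π fst).base :=
      (inferInstance : Surjective (pullback.snd π fst)).surj
    exact hs.connectedSpace (pullback.snd π fst).continuous
  have hdimY : topologicalKrullDim ↥Y = 1 :=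
    le_antisymm (Groth.Agent.Lead.QCurv.dim_le_one hquot hN hdim)
      (hX ▸ Groth.Agent.Lead.QCurv.topologicalKrullDim_le_of_isIntegralHom π)
  refine ⟨hprop, hsm, hgc, hdimY, hfin, hflat, fun y => ?_⟩
  exact Groth.Agent.Lead.QCurv.finrank_eq hquot hN hdim (π ≫ q) hρk hρ y

end Groth.Agent.S18897
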