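import Groth.Statements.S1890
import Mathlib

set_option autoImplicit false
universe u
open CategoryTheory CategoryTheory.Limits AlgebraicGeometry
open Grpd

namespace Groth.Agent.S1890

/-- two disjoint closed subsets of a prime spectrum are separated by an element -/
theorem exists_sep (A : Type u) [CommRing A] (C T : Set (PrimeSpectrum A)) (hC : IsClosed C)
    (hT : IsClosed T) (hdisj : C ∩ T = ∅) :
    ∃ g : A, (∀ x ∈ C, g ∈ x.asIdeal) ∧ (∀ x ∈ T, (1 - g) ∈ x.asIdeal) := by
  obtain ⟨J, rfl⟩ := (PrimeSpectrum.isClosed_iff_zeroLocus_ideal C).mp hC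
  obtain ⟨K, rfl⟩ := (PrimeSpectrum.isClosed_iff_zeroLocus_ideal T).mp hT
  rw [← PrimeSpectrum.zeroLocus_sup, PrimeSpectrum.zeroLocus_empty_iff_eq_top] at hdisj
  have h1 : (1 : A) ∈ J ⊔ K := by rw [hdisj]; trivial
  obtain ⟨g, hg, k, hk, hgk⟩ := Submodule.mem_sup.mp h1
  refine ⟨g, fun x hx => hx hg, fun x hx => ?_⟩
  have : 1 - g = k := by rw [← hgk]; ring
  rw [this]
  exact hx hk

theorem isUnit_res_of_le {X : Scheme.{u}} (a b : Γ(X, ⊤)) (hle : X.basicOpen b ≤ X.basicOpen a) :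
    IsUnit (a |_ X.basicOpen b) := by
  have h1 : IsUnit (a |_ X.basicOpen a) := RingedSpace.isUnit_res_basicOpen _ a
  have h2 : a |_ X.basicOpen b = X.presheaf.map (homOfLE hle).op (a |_ X.basicOpen a) := by
    simp only [TopCat.Presheaf.restrictOpenCommRingCat_apply]
    rw [← CommRingCat.comp_apply, ← Functor.map_comp]
    rfl
  rw [h2]
  exact h1.map _

/-- Take a quasi-compact immersion j : V → Spec A and an element f ∈ A such that j⁻¹(D(f)) is affine and
j(V) ∩ V(f) is closed in Spec A. Then V is affine. -/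
theorem result (A : Type u) [CommRing A] (V : Scheme.{u}) (j : V ⟶ Spec (CommRingCat.of A)) [IsImmersion j] [QuasiCompact j] (f : A) (haff : IsAffineOpen (j ⁻¹ᵁ PrimeSpectrum.basicOpen f)) (hcl : IsClosed (Set.range ⇑j ∩ PrimeSpectrum.zeroLocus {f})) : IsAffine V := by
  have hcomp : CompactSpace V := QuasiCompact.compactSpace_of_compactSpace j
  have hqs : QuasiSeparatedSpace V := quasiSeparatedSpace_of_quasiSeparated j
  -- the closed set C
  have hCcl : IsClosed ((coborder (Set.range ⇑j))ᶜ : Set (PrimeSpectrum A)) :=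
    (j.isLocallyClosed_range.isOpen_coborder).isClosed_compl
  have hdisj : ((coborder (Set.range ⇑j))ᶜ : Set (PrimeSpectrum A)) ∩
      (Set.range ⇑j ∩ PrimeSpectrum.zeroLocus {f}) = ∅ := by
    rw [Set.eq_empty_iff_forall_notMem]
    rintro x ⟨hx1, hx2, -⟩
    exact hx1 (subset_coborder hx2)
  obtain ⟨g, hgC, hgT⟩ := exists_sep A _ _ hCcl hcl hdisj
  -- D(g) ⊆ coborderRange
  have hDg : (PrimeSpectrum.basicOpen g : (Spec (CommRingCat.of A)).Opens) ≤ j.coborderRange := by
    intro x hx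
    by_contra hcon
    exact hx (hgC x hcon)
  -- j⁻¹ D(g) is affine
  have haffg : IsAffineOpen (j ⁻¹ᵁ PrimeSpectrum.basicOpen g) := by
    have h1 : IsAffineOpen (j.coborderRange.ι ⁻¹ᵁ
        (PrimeSpectrum.basicOpen g : (Spec (CommRingCat.of A)).Opens)) := by
      rw [← j.coborderRange.ι.isAffineOpen_iff_of_isOpenImmersion,
        Scheme.Hom.image_preimage_eq_opensRange_inf, Scheme.Opens.opensRange_ι]
      have := IsAffineOpen.Spec_basicOpen (R := CommRingCat.of A) g
      convert this using 1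
      exact inf_eq_right.mpr hDg
    have h2 := h1.preimage j.liftCoborder
    rw [← Scheme.Hom.comp_preimage, j.liftCoborder_ι] at h2
    exact h2
  -- global sections
  set f₀ : Γ(Spec (CommRingCat.of A), ⊤) := (Scheme.ΓSpecIso (CommRingCat.of A)).inv f with hf₀
  set g₀ : Γ(Spec (CommRingCat.of A), ⊤) := (Scheme.ΓSpecIso (CommRingCat.of A)).inv g with hg₀
  set f' : Γ(V, ⊤) := j.appTop f₀ with hf'
  set g' : Γ(V, ⊤) := j.appTop g₀ with hg'
  have hbf : V.basicOpen f' = j ⁻¹ᵁ PrimeSpectrum.basicOpen f := by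
    rw [hf', ← Scheme.preimage_basicOpen_top, hf₀, basicOpen_eq_of_affine]
  have hbg : V.basicOpen g' = j ⁻¹ᵁ PrimeSpectrum.basicOpen g := by
    rw [hg', ← Scheme.preimage_basicOpen_top, hg₀, basicOpen_eq_of_affine]
  have hbk : V.basicOpen (1 - g') = j ⁻¹ᵁ PrimeSpectrum.basicOpen (1 - g) := by
    have : (1 - g') = j.appTop ((Scheme.ΓSpecIso (CommRingCat.of A)).inv (1 - g)) := by
      rw [hg', hg₀, map_sub, map_sub, map_one, map_one]
    rw [this, ← Scheme.preimage_basicOpen_top, basicOpen_eq_of_affine]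
  -- V_{1-g'} ≤ V_{f'}
  have hle : V.basicOpen (1 - g') ≤ V.basicOpen f' := by
    rw [hbk, hbf]
    intro v hv
    change f ∉ (j v).asIdeal
    intro hfv
    have hT : j v ∈ Set.range ⇑j ∩ PrimeSpectrum.zeroLocus {f} := by
      refine ⟨⟨v, rfl⟩, ?_⟩
      intro a ha
      rw [Set.mem_singleton_iff] at ha
      rw [ha]
      exact hfv
    exact hv (hgT _ hT)
  -- f' is a unit on V_{1-g'}
  have hunit : IsUnit (f' |_ V.basicOpen (1 - g')) := isUnit_res_of_le f' (1 - g') hle
  obtain ⟨u, hu⟩ := hunit.exists_right_inv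
  obtain ⟨n, c, hc⟩ := exists_eq_pow_mul_of_isCompact_of_isQuasiSeparated V ⊤
    isCompact_univ isQuasiSeparated_univ (1 - g') u
  have hres : (f' * c - (1 - g') ^ n) |_ V.basicOpen (1 - g') = 0 := by
    simp only [TopCat.Presheaf.restrictOpenCommRingCat_apply] at hc hu ⊢
    rw [map_sub, map_mul, map_pow, hc, ← mul_assoc, mul_comm _ (_ ^ n), mul_assoc, hu, mul_one,
      sub_self]
  obtain ⟨m, hm⟩ := exists_of_res_zero_of_qcqs_of_top hres
  have hmem : (1 - g') ^ (m + n) ∈ Ideal.span ({f', g'} : Set Γ(V, ⊤)) := by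
    have : (1 - g') ^ (m + n) = f' * ((1 - g') ^ m * c) := by
      rw [pow_add]
      linear_combination (-1 : Γ(V, ⊤)) * hm
    rw [this]
    exact Ideal.mul_mem_right _ _ (Ideal.subset_span (by simp))
  have hdvd : g' ∣ 1 - (1 - g') ^ (m + n) := by
    have := sub_dvd_pow_sub_pow (1 : Γ(V, ⊤)) (1 - g') (m + n)
    simpa using this
  have hspan : Ideal.span ({f', g'} : Set Γ(V, ⊤)) = ⊤ := by
    rw [Ideal.eq_top_iff_one]
    obtain ⟨q, hq⟩ := hdvd
    have : (1 : Γ(V, ⊤)) = (1 - g') ^ (m + n) + g' * q := by rw [← hq]; ring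
    rw [this]
    exact Ideal.add_mem _ hmem (Ideal.mul_mem_right _ _ (Ideal.subset_span (by simp)))
  refine isAffine_of_isAffineOpen_basicOpen _ hspan ?_
  intro i hi
  rcases hi with rfl | rfl
  · rw [hbf]; exact haff
  · rw [hbg]; exact haffg

end Groth.Agent.S1890
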