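import Groth.Statements.S18903
import Groth.Agent.Lead.InvFPB
import Groth.Agent.Lead.QFamB
import Groth.Agent.S1386
import Groth.Agent.S18900
import Groth.Agent.Helper4.SN64

set_option autoImplicit false
universe u
open CategoryTheory CategoryTheory.Limits AlgebraicGeometry
open Curves

namespace Groth.Agent.S18903

/-- Let S be a scheme on which 2 is invertible and f : X → S a smooth curve of genus g ≥ 2 (proper and
smooth, geometrically connected fibres of dimension one and genus g). The following are equivalent: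
(a) f = h ≫ q for a conic bundle q : P → S (a smooth curve of genus 0) and a double cover h : X → P
(finite, flat, locally of finite presentation, of rank 2 at every point); (b) there are an
S-automorphism σ of X with σ ∘ σ = id and a quotient π : X → P of X by the group generated by σ (π
affine and σ-invariant, with O_P the σ-invariant sections of O_X over every open) such that the
induced morphism P → S is a conic bundle. -/
theorem result {X S : Scheme.{u}} (f : X ⟶ S)
    (h2 : IsUnit (2 : Γ(S, ⊤)))
    [IsProper f] [Smooth f] [GeometricallyConnected f]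
    (hdim : ∀ s : S, topologicalKrullDim ↥(f.fiber s) = 1) (g : ℕ) (hg : 2 ≤ g)
    (hgen : ∀ s : S, letI : (f.fiber s).Over (Spec (S.residueField s)) := ⟨f.fiberToSpecResidueField s⟩
      Curv2.genus (S.residueField s) (f.fiber s) = g) :
    (∃ (P : Scheme.{u}) (q : P ⟶ S) (h : X ⟶ P), h ≫ q = f ∧
        IsProper q ∧ Smooth q ∧ GeometricallyConnected q ∧
        (∀ s : S, topologicalKrullDim ↥(q.fiber s) = 1) ∧
        (∀ s : S, letI : (q.fiber s).Over (Spec (S.residueField s)) := ⟨q.fiberToSpecResidueField s⟩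
          Curv2.genus (S.residueField s) (q.fiber s) = 0) ∧
        IsFinite h ∧ Flat h ∧ LocallyOfFinitePresentation h ∧ ∀ y : P, h.finrank y = 2) ↔
      ∃ (σ : Aut X) (P : Scheme.{u}) (π : X ⟶ P) (q : P ⟶ S), σ.hom ≫ f = f ∧ σ * σ = 1 ∧ π ≫ q = f ∧
        SGA1.IsQuot (Subgroup.zpowers σ).subtype π ∧
        IsProper q ∧ Smooth q ∧ GeometricallyConnected q ∧
        (∀ s : S, topologicalKrullDim ↥(q.fiber s) = 1) ∧
        ∀ s : S, letI : (q.fiber s).Over (Spec (S.residueField s)) := ⟨q.fiberToSpecResidueField s⟩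
          Curv2.genus (S.residueField s) (q.fiber s) = 0 := by
  constructor
  · rintro ⟨P, q, h, hhq, hprop, hsm, hgc, hdimq, hgenq, hfin, hflat, hfp, hrk⟩
    haveI := hfin
    haveI := hflat
    haveI := hfp
    have h2P : IsUnit (2 : Γ(P, ⊤)) := by
      have := h2.map q.appTop.hom
      rwa [map_ofNat] at this
    obtain ⟨σ, hσh, hσ2, hquot⟩ := Groth.Agent.S18900.result h hrk h2P
    refine ⟨σ, P, h, q, ?_, hσ2, hhq, hquot, hprop, hsm, hgc, hdimq, hgenq⟩
    rw [← hhq, ← Category.assoc, hσh]
  · rintro ⟨σ, P, π, q, hσf, hσ2, hπq, hquot, hprop, hsm, hgc, hdimq, hgenq⟩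
    subst hπq
    haveI := hprop
    haveI := hsm
    have hpow : σ ^ 2 = 1 := by rw [pow_two, hσ2]
    have hfo : IsOfFinOrder σ := isOfFinOrder_iff_pow_eq_one.mpr ⟨2, by norm_num, hpow⟩
    haveI : Finite ↥(Subgroup.zpowers σ) := (finite_zpowers.mpr hfo).to_subtype
    have hρ : ∀ a : ↥(Subgroup.zpowers σ),
        ((Subgroup.zpowers σ).subtype a).hom ≫ (π ≫ q) = π ≫ q := by
      intro a
      have hle : Subgroup.zpowers σ ≤ Groth.Agent.Lead.QFam.stabOver (π ≫ q) := by
        rw [Subgroup.zpowers_le]; exact hσf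
      exact hle a.2
    have hdvd : orderOf σ ∣ 2 := orderOf_dvd_of_pow_eq_one hpow
    have hcard : Nat.card ↥(Subgroup.zpowers σ) = 1 ∨ Nat.card ↥(Subgroup.zpowers σ) = 2 := by
      rw [Nat.card_zpowers]
      exact (Nat.dvd_prime Nat.prime_two).mp hdvd
    have hN : IsUnit ((Nat.card ↥(Subgroup.zpowers σ) : ℕ) : Γ(S, ⊤)) := by
      rcases hcard with h1 | h1 <;> rw [h1]
      · simp
      · simpa using h2
    obtain ⟨⟨hsurj, hfin, -, -⟩, hm⟩ :=
      Groth.Agent.Lead.InvFP.main (π ≫ q) π q rfl hquot
    obtain ⟨hfl, hsep, h3⟩ := hm hN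
    obtain ⟨-, hqfp, hπfp⟩ := h3 inferInstance
    haveI := hfin
    haveI := hqfp
    haveI : Flat q := hfl inferInstance
    have hNY : IsUnit ((Nat.card ↥(Subgroup.zpowers σ) : ℕ) : Γ(P, ⊤)) := by
      have := hN.map q.appTop.hom
      rwa [map_natCast] at this
    -- σ acts non-trivially on every fibre
    have key : ∀ s : S, (π ≫ q).fiberι s ≫ σ.hom ≠ (π ≫ q).fiberι s := by
      intro s hfix
      have hle : Subgroup.zpowers σ ≤ Groth.Agent.Lead.QFam.stabUnder ((π ≫ q).fiberι s) := by
        rw [Subgroup.zpowers_le]; exact hfix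
      have hall : ∀ a : ↥(Subgroup.zpowers σ),
          (π ≫ q).fiberι s ≫ ((Subgroup.zpowers σ).subtype a).hom = (π ≫ q).fiberι s :=
        fun a => hle a.2
      obtain ⟨ρs, hρ₁, hρ₀, hquots⟩ :=
        Groth.Agent.Lead.QFam.fibre_action π q hρ hquot hNY s
      have htriv : ∀ a, ρs a = 1 := by
        intro a
        apply Iso.ext
        apply pullback.hom_ext
        · change (ρs a).hom ≫ (π ≫ q).fiberι s = 𝟙 _ ≫ (π ≫ q).fiberι s
          rw [hρ₁ a, hall a, Category.id_comp]
        · change (ρs a).hom ≫ (π ≫ q).fiberToSpecResidueField s =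
            𝟙 _ ≫ (π ≫ q).fiberToSpecResidueField s
          rw [hρ₀ a, Category.id_comp]
      haveI := Groth.Agent.Lead.QFam.isIso_of_isQuot_trivial hquots htriv
      letI : ((π ≫ q).fiber s).Over (Spec (S.residueField s)) :=
        ⟨(π ≫ q).fiberToSpecResidueField s⟩
      letI : (q.fiber s).Over (Spec (S.residueField s)) := ⟨q.fiberToSpecResidueField s⟩
      haveI : IsProper ((q.fiber s) ↘ Spec (S.residueField s)) :=
        inferInstanceAs (IsProper (pullback.snd q (S.fromSpecResidueField s)))
      have hle' := Groth.Agent.Helper4.SN.main1566 (S.residueField s) (X := q.fiber s)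
        (Y := (π ≫ q).fiber s) (hdimq s).le (MoreMor.fiberMap π q s)
        (pullback.lift_snd _ _ _) ⊤ (by simp) inferInstance
      have e1 := hgen s
      have e2 := hgenq s
      rw [e1, e2] at hle'
      omega
    have hfaith : ∀ (s : S) (a : ↥(Subgroup.zpowers σ)), a ≠ 1 →
        (π ≫ q).fiberι s ≫ ((Subgroup.zpowers σ).subtype a).hom ≠ (π ≫ q).fiberι s := by
      intro s a ha
      have haσ : (a : Aut X) = σ := by
        obtain ⟨n, hn⟩ := Subgroup.mem_zpowers_iff.mp a.2
        rcases Int.even_or_odd' n with ⟨m, rfl | rfl⟩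
        · exfalso
          apply ha
          apply Subtype.ext
          rw [← hn, zpow_mul, zpow_ofNat, hpow, one_zpow]
          rfl
        · rw [← hn, zpow_add, zpow_mul, zpow_ofNat, hpow, one_zpow, one_mul, zpow_one]
      change (π ≫ q).fiberι s ≫ (a : Aut X).hom ≠ _
      rw [haσ]
      exact key s
    have hfib := fun s : S =>
      Groth.Agent.Lead.QFam.fibre_pkg' π q hρ hquot hNY s (hdim s) (hfaith s)
    have hflat : Flat π := by
      rw [Flat.iff_flat_stalkMap]
      intro x
      have h1 := (Groth.Agent.S1386.result π q).1 x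
      have hA : ((π ≫ q).stalkMap x).hom.Flat :=
        (Flat.iff_flat_stalkMap (π ≫ q)).mp inferInstance x
      have hB : ((MoreMor.fiberMap π q (q (π x))).stalkMap ((π ≫ q).asFiber x)).hom.Flat :=
        (Flat.iff_flat_stalkMap _).mp (hfib _).2.1 _
      exact (h1.mp ⟨hA, hB⟩).2
    haveI := hflat
    refine ⟨P, q, π, rfl, hprop, hsm, hgc, hdimq, hgenq, hfin, hflat, hπfp, fun y => ?_⟩
    have hyr : y ∈ Set.range (q.fiberι (q y)) := by
      rw [Scheme.Hom.range_fiberι]; rfl
    obtain ⟨y', hy'⟩ := hyr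
    have hpb := Groth.Agent.Lead.QFam.isPullback_fiberMap π q (q y)
    rw [← hy', ← Scheme.Hom.finrank_of_isPullback _ _ _ _ hpb y', (hfib (q y)).2.2.1 y',
      Nat.card_zpowers]
    rcases (Nat.dvd_prime Nat.prime_two).mp hdvd with h1 | h1
    · exfalso
      rw [orderOf_eq_one_iff] at h1
      apply key (q y)
      rw [h1]
      exact Category.comp_id _
    · exact h1

end Groth.Agent.S18903
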