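import Groth.Statements.S18905
import Mathlib
import Groth.Agent.Helper3.DualNum

set_option autoImplicit false
universe u
open scoped TensorProduct
open CategoryTheory CategoryTheory.Limits AlgebraicGeometry
open Mor

namespace Groth.Agent.S18905

/-- Let k be an algebraically closed field and X a scheme locally of finite type over k. Then X → Spec k
is formally unramified if and only if the map Hom_k(Spec k[ε], X) → Hom_k(Spec k, X) given by
restricting along the closed immersion of Spec k into Spec k[ε] (k[ε] the ring of dual numbers, ε ↦
0), is bijective; since that map is always surjective, the condition is stated as injectivity: two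
k-morphisms from Spec k[ε] to X which agree on Spec k are equal. -/
theorem result (k : Type u) [Field k] [IsAlgClosed k]
    {X : Scheme.{u}} (p : X ⟶ Spec (CommRingCat.of k)) [LocallyOfFiniteType p] :
    FormallyUnramified p ↔
      ∀ v₁ v₂ : Spec (CommRingCat.of (DualNumber k)) ⟶ X,
        v₁ ≫ p = Spec.map (CommRingCat.ofHom (algebraMap k (DualNumber k))) →
        v₂ ≫ p = Spec.map (CommRingCat.ofHom (algebraMap k (DualNumber k))) →
        Spec.map (CommRingCat.ofHom (TrivSqZeroExt.fstHom k k k).toRingHom) ≫ v₁ =
          Spec.map (CommRingCat.ofHom (TrivSqZeroExt.fstHom k k k).toRingHom) ≫ v₂ →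
        v₁ = v₂ := by
  constructor
  · intro hU v₁ v₂ h₁ h₂ h
    have hsurj : Function.Surjective
        (CommRingCat.ofHom (TrivSqZeroExt.fstHom k k k).toRingHom).hom := by
      intro c
      exact ⟨TrivSqZeroExt.inl c, by simp⟩
    haveI : IsClosedImmersion
        (Spec.map (CommRingCat.ofHom (TrivSqZeroExt.fstHom k k k).toRingHom)) :=
      IsClosedImmersion.spec_of_surjective _ hsurj
    refine FormallyUnramified.hom_ext
      (Spec.map (CommRingCat.ofHom (TrivSqZeroExt.fstHom k k k).toRingHom)) ?_ p h
      (h₁.trans h₂.symm)
    refine ⟨2, ?_⟩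
    apply Scheme.IdealSheafData.ext_of_isAffine
    rw [Scheme.IdealSheafData.ideal_pow, Pi.pow_apply, Scheme.Hom.ker_apply,
      Scheme.IdealSheafData.zero_eq_bot, Scheme.IdealSheafData.ideal_bot, Pi.bot_apply, pow_two,
      eq_bot_iff, Ideal.mul_le]
    intro x hx y hy
    rw [Ideal.mem_bot]
    set i := Spec.map (CommRingCat.ofHom (TrivSqZeroExt.fstHom k k k).toRingHom) with hi
    have hnat := Scheme.ΓSpecIso_naturality
      (CommRingCat.ofHom (TrivSqZeroExt.fstHom k k k).toRingHom)
    have key : ∀ z, z ∈ RingHom.ker (i.app ⊤).hom →
        TrivSqZeroExt.fst ((Scheme.ΓSpecIso (CommRingCat.of (DualNumber k))).hom z) = 0 := by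
      intro z hz
      have h1 := congrArg (fun f => f.hom z) hnat
      simp only [CommRingCat.hom_comp, RingHom.comp_apply] at h1
      have hz' : (i.appTop).hom z = 0 := hz
      rw [hz', map_zero] at h1
      exact h1.symm
    have hinj : Function.Injective (Scheme.ΓSpecIso (CommRingCat.of (DualNumber k))).hom :=
      (ConcreteCategory.bijective_of_isIso _).1
    apply hinj
    rw [map_mul, map_zero]
    ext
    · simp [key x hx]
    · simp [key x hx, key y hy]
  · intro H
    wlog hX : ∃ S, X = Spec S generalizing X
    · rw [IsZariskiLocalAtSource.iff_of_openCover (P := @FormallyUnramified) X.affineCover]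
      intro i
      haveI hlf : LocallyOfFiniteType (X.affineCover.f i ≫ p) := inferInstance
      refine this (X.affineCover.f i ≫ p) ?_ ⟨_, rfl⟩
      intro v₁ v₂ h₁ h₂ h
      have := H (v₁ ≫ X.affineCover.f i) (v₂ ≫ X.affineCover.f i)
        (by rw [Category.assoc]; exact h₁) (by rw [Category.assoc]; exact h₂)
        (by rw [← Category.assoc, ← Category.assoc, h])
      exact (cancel_mono (X.affineCover.f i)).mp this
    obtain ⟨S, rfl⟩ := hX
    obtain ⟨φ, rfl⟩ := Spec.map_surjective p
    rw [HasRingHomProperty.Spec_iff (P := @FormallyUnramified)]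
    have hft : φ.hom.FiniteType := by
      rwa [HasRingHomProperty.Spec_iff (P := @LocallyOfFiniteType)] at *
    algebraize [φ.hom]
    have hmain : Algebra.FormallyUnramified k S := by
      refine Groth.Agent.Helper3.DualNum.main k S ?_
      intro φ₁ φ₂ h12
      have := H (Spec.map (CommRingCat.ofHom φ₁.toRingHom)) (Spec.map (CommRingCat.ofHom φ₂.toRingHom))
        ?_ ?_ ?_
      · have h3 := Spec.map_injective this
        refine AlgHom.ext fun x => ?_
        exact congrArg (fun f => f.hom x) h3
      · rw [← Spec.map_comp]
        congr 1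
        refine CommRingCat.hom_ext (RingHom.ext fun c => ?_)
        exact φ₁.commutes c
      · rw [← Spec.map_comp]
        congr 1
        refine CommRingCat.hom_ext (RingHom.ext fun c => ?_)
        exact φ₂.commutes c
      · rw [← Spec.map_comp, ← Spec.map_comp]
        congr 1
        refine CommRingCat.hom_ext (RingHom.ext fun x => ?_)
        exact congrArg (fun f : S →ₐ[k] k => f x) h12
    exact RingHom.formallyUnramified_algebraMap.mpr hmain

end Groth.Agent.S18905
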