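import Groth.Statements.S18909
import Groth.Agent.Lead.InvFPB
import Groth.Agent.Lead.QFamA
import Groth.Agent.S1386
import Groth.Agent.Helper3.SmFibOpen

set_option autoImplicit false
universe u
open CategoryTheory CategoryTheory.Limits AlgebraicGeometry
open Curves

namespace Groth.Agent.S18909

/-- Let f : X → S be a smooth curve of genus g ≠ 1 (proper and smooth, geometrically connected fibres of
dimension one and genus g) and G a finite group acting on X by S-automorphisms, faithfully on every
fibre (rendered: every g ≠ 1 moves some point of each fibre), with the order of G invertible in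
O_S(S). Let π : X → Y be a quotient of X by G over S (π affine and G-invariant, O_Y the G-invariant
sections of O_X; the source shows such a quotient exists). Then Y → S is proper and smooth with
geometrically connected fibres of dimension one, and π is a cover of degree |G|: finite, flat,
locally of finite presentation and of rank |G| at every point of Y. -/
theorem result {X Y S : Scheme.{u}} (f : X ⟶ S)
    [IsProper f] [Smooth f] [GeometricallyConnected f]
    (hdim : ∀ s : S, topologicalKrullDim ↥(f.fiber s) = 1) (g : ℕ) (hg : g ≠ 1)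
    (hgen : ∀ s : S, letI : (f.fiber s).Over (Spec (S.residueField s)) := ⟨f.fiberToSpecResidueField s⟩
      Curv2.genus (S.residueField s) (f.fiber s) = g)
    {G : Type u} [Group G] [Finite G] (hG : IsUnit ((Nat.card G : ℕ) : Γ(S, ⊤)))
    (ρ : G →* Aut X) (hρ : ∀ a : G, (ρ a).hom ≫ f = f)
    (hfaith : ∀ (s : S) (a : G), a ≠ 1 → ∃ x : X, f x = s ∧ (ρ a).hom x ≠ x)
    (π : X ⟶ Y) (q : Y ⟶ S) (hπ : π ≫ q = f) (hquot : SGA1.IsQuot ρ π) :
    IsProper q ∧ Smooth q ∧ GeometricallyConnected q ∧ (∀ s : S, topologicalKrullDim ↥(q.fiber s) = 1) ∧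
      IsFinite π ∧ Flat π ∧ LocallyOfFinitePresentation π ∧ ∀ y : Y, π.finrank y = Nat.card G := by
  subst hπ
  obtain ⟨⟨hsurj, hfin, -, -⟩, h2⟩ := Groth.Agent.Lead.InvFP.main (π ≫ q) π q rfl hquot
  obtain ⟨hfl, hsep, h3⟩ := h2 hG
  have hqflat : Flat q := hfl inferInstance
  obtain ⟨hprop, hqfp, hπfp⟩ := h3 inferInstance
  haveI := hsurj
  haveI := hfin
  haveI := hprop
  haveI := hqfp
  haveI := hqflat
  have hNY : IsUnit ((Nat.card G : ℕ) : Γ(Y, ⊤)) := by
    have := hG.map q.appTop.hom
    rwa [map_natCast] at this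
  have hfib := fun s : S => Groth.Agent.Lead.QFam.fibre_pkg π q hρ hquot hNY s (hdim s) (hfaith s)
  have hsm : Smooth q := by
    rw [← Scheme.Hom.smoothLocus_eq_top_iff, eq_top_iff]
    rintro y -
    exact (Groth.Agent.Helper3.SmFibOpen.smooth_fiber_iff q (q y)).mp (hfib (q y)).1 y rfl
  have hflat : Flat π := by
    rw [Flat.iff_flat_stalkMap]
    intro x
    have h1 := (Groth.Agent.S1386.result π q).1 x
    have hA : ((π ≫ q).stalkMap x).hom.Flat :=
      (Flat.iff_flat_stalkMap (π ≫ q)).mp inferInstance x
    have hB : ((MoreMor.fiberMap π q (q (π x))).stalkMap ((π ≫ q).asFiber x)).hom.Flat :=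
      (Flat.iff_flat_stalkMap _).mp (hfib _).2.1 _
    exact (h1.mp ⟨hA, hB⟩).2
  haveI := hflat
  have hgc : GeometricallyConnected q := by
    rw [geometricallyConnected_iff]
    intro K _ y Z fst snd h
    have hW : IsPullback (pullback.fst π fst) (pullback.snd π fst ≫ snd) (π ≫ q) y :=
      (IsPullback.of_hasPullback π fst).paste_vert h
    haveI : ConnectedSpace ↥(pullback π fst) :=
      (‹GeometricallyConnected (π ≫ q)›).geometrically_connectedSpace y _ _ hW
    have hs : Function.Surjective (pullback.snd π fst).base :=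
      (inferInstance : Surjective (pullback.snd π fst)).surj
    exact hs.connectedSpace (pullback.snd π fst).continuous
  refine ⟨hprop, hsm, hgc, fun s => (hfib s).2.2.2, hfin, hflat, hπfp, fun y => ?_⟩
  have hyr : y ∈ Set.range (q.fiberι (q y)) := by
    rw [Scheme.Hom.range_fiberι]; rfl
  obtain ⟨y', hy'⟩ := hyr
  have hpb := Groth.Agent.Lead.QFam.isPullback_fiberMap π q (q y)
  rw [← hy', ← Scheme.Hom.finrank_of_isPullback _ _ _ _ hpb y']
  exact (hfib (q y)).2.2.1 y'

end Groth.Agent.S18909
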