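import Groth.Statements.S18920
import Mathlib
-- import your own Groth.Agent.* helpers here

set_option autoImplicit false
universe u
open CAlg

namespace Groth.Agent.S18920

/-- Let M be a commutative monoid, s ≥ 1, and ξ_1, …, ξ_s elements of M with ξ_i ^ (s!/i) = 1 for 1 ≤ i
≤ s (an (s!/i)-th root of unity for each i). Suppose that for every finitely supported function d on
{1, …, s} with Σ_i i · d_i = s! the product ∏_i ξ_i ^ d_i equals 1. Then ξ_1 ^ j = ξ_j for every 1 ≤
j ≤ s. (The source works with roots of unity in the complex numbers.) -/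
theorem result
    {M : Type u} [CommMonoid M] (s : ℕ) (hs : 1 ≤ s) (ξ : ℕ → M)
    (hξ : ∀ i : ℕ, 1 ≤ i → i ≤ s → ξ i ^ (s.factorial / i) = 1)
    (hprod : ∀ d : ℕ →₀ ℕ, (∀ i ∈ d.support, 1 ≤ i ∧ i ≤ s) →
      (d.sum fun i n => i * n) = s.factorial → (d.prod fun i n => ξ i ^ n) = 1)
    (j : ℕ) (hj : 1 ≤ j) (hjs : j ≤ s) :
    ξ 1 ^ j = ξ j := by
  -- take d with d_1 = j and d_j = s!/j - 1 (merged when j = 1)
  have hjdvd : j ∣ s.factorial := Nat.dvd_factorial hj hjs
  have hqpos : 0 < s.factorial / j := Nat.div_pos (Nat.le_of_dvd (Nat.factorial_pos s) hjdvd) hj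
  have hjq : j * (s.factorial / j) = s.factorial := Nat.mul_div_cancel' hjdvd
  rcases Nat.eq_or_lt_of_le hj with h1 | h1
  · rw [← h1]; simp
  · -- j ≥ 2
    set q := s.factorial / j with hq
    let d : ℕ →₀ ℕ := Finsupp.single 1 j + Finsupp.single j (q - 1)
    have hsupp : ∀ i ∈ d.support, 1 ≤ i ∧ i ≤ s := by
      intro i hi
      have := Finsupp.support_add hi
      rw [Finset.mem_union] at this
      rcases this with h | h
      · have := Finsupp.support_single_subset h
        simp only [Finset.mem_singleton] at this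
        subst this; exact ⟨le_rfl, by omega⟩
      · have := Finsupp.support_single_subset h
        simp only [Finset.mem_singleton] at this
        subst this; exact ⟨hj, hjs⟩
    have hsum : (d.sum fun i n => i * n) = s.factorial := by
      rw [Finsupp.sum_add_index' (by simp) (by intros; ring)]
      rw [Finsupp.sum_single_index (by simp), Finsupp.sum_single_index (by simp)]
      have : j * (q - 1) = j * q - j := by rw [Nat.mul_sub_one]
      rw [this, hjq]
      have : j ≤ s.factorial := Nat.le_of_dvd (Nat.factorial_pos s) hjdvd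
      omega
    have hp := hprod d hsupp hsum
    rw [Finsupp.prod_add_index' (by simp) (by intros; rw [pow_add])] at hp
    rw [Finsupp.prod_single_index (by simp), Finsupp.prod_single_index (by simp)] at hp
    have hξj := hξ j hj hjs
    rw [← hq] at hξj
    calc ξ 1 ^ j = ξ 1 ^ j * (ξ j ^ q) := by rw [hξj, mul_one]
      _ = ξ 1 ^ j * (ξ j ^ (q - 1) * ξ j) := by
        rw [← pow_succ, Nat.sub_add_cancel hqpos]
      _ = (ξ 1 ^ j * ξ j ^ (q - 1)) * ξ j := by rw [mul_assoc]
      _ = ξ j := by rw [hp, one_mul]

end Groth.Agent.S18920
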