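import Groth.Statements.S18924
import Groth.Agent.Helper6.ResCnt

set_option autoImplicit false
universe u
open ResHyp

namespace Groth.Agent.S18924

/-- Let F be a finite field with q elements and let n ≥ 3 be odd. Count the pairs (f, g) where f is a
binary quadratic form and g a binary form of degree n over F, recorded by their coefficient vectors
of lengths 3 and n + 1 (leading coefficients may vanish), whose resultant — the Sylvester
determinant of the two coefficient vectors with size parameters 2 and n — equals 1. The number of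
such pairs is q ^ (n + 3) - q ^ (n + 1). (The published statement gives q ^ (n + 3) + q ^ (n + 1);
for q = 3 and n = 3 the count is 648, not 810.) -/
theorem result (F : Type u) [Field F] [Fintype F] (n : ℕ)
    (hn : Odd n) (h3 : 3 ≤ n) :
    Nat.card {p : (Fin 3 → F) × (Fin (n + 1) → F) //
      Polynomial.resultant (∑ i : Fin 3, Polynomial.C (p.1 i) * Polynomial.X ^ (i : ℕ))
        (∑ j : Fin (n + 1), Polynomial.C (p.2 j) * Polynomial.X ^ (j : ℕ)) 2 n = 1} =
      Fintype.card F ^ (n + 3) - Fintype.card F ^ (n + 1) := by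
  obtain ⟨k, rfl⟩ := hn
  have h := Groth.Agent.Helper6.ResCnt.card_res_eq_one (F := F) k
  have h' : Nat.card {p : (Fin 3 → F) × (Fin (2 * k + 1 + 1) → F) //
      Polynomial.resultant (∑ i : Fin 3, Polynomial.C (p.1 i) * Polynomial.X ^ (i : ℕ))
        (∑ j : Fin (2 * k + 1 + 1), Polynomial.C (p.2 j) * Polynomial.X ^ (j : ℕ)) 2 (2 * k + 1) = 1} =
      (Fintype.card F - 1) * (Fintype.card F + 1) * Fintype.card F ^ (2 * k + 1 + 1) := h
  rw [h']
  obtain ⟨T, hT⟩ : ∃ T, Fintype.card F = T + 1 :=
    Nat.exists_eq_succ_of_ne_zero Fintype.card_ne_zero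
  rw [hT]
  simp only [Nat.add_sub_cancel]
  have hid : (T + 1) ^ (2 * k + 1 + 3) =
      T * (T + 1 + 1) * (T + 1) ^ (2 * k + 1 + 1) + (T + 1) ^ (2 * k + 1 + 1) := by ring
  omega

end Groth.Agent.S18924
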