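import Groth.Statements.S18925
import Groth.Agent.Helper6.ResCnt

set_option autoImplicit false
universe u
open ResHyp

namespace Groth.Agent.S18925

/-- Let F be a finite field with q elements and let n ≥ 2. Count the pairs (f, g) where f is a binary
quadratic form and g a binary form of degree n over F, recorded by their coefficient vectors of
lengths 3 and n + 1 (leading coefficients may vanish), whose resultant — the Sylvester determinant
of the two coefficient vectors with size parameters 2 and n — is nonzero, i.e. f and g have no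
common zero on the projective line. The number of such pairs is q ^ (n + 4) - q ^ (n + 3) - q ^ (n +
2) + q ^ (n + 1). (The source's result is the compactly supported ℓ-adic cohomology of this locus:
one-dimensional of Tate weights n + 4, n + 3, n + 2, n + 1 in degrees 2n + 8, 2n + 7, 2n + 5, 2n + 4
and zero elsewhere; this row keeps only the resulting point count.) -/
theorem result (F : Type u) [Field F] [Fintype F] (n : ℕ) (h2 : 2 ≤ n) :
    Nat.card {p : (Fin 3 → F) × (Fin (n + 1) → F) //
      Polynomial.resultant (∑ i : Fin 3, Polynomial.C (p.1 i) * Polynomial.X ^ (i : ℕ))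
        (∑ j : Fin (n + 1), Polynomial.C (p.2 j) * Polynomial.X ^ (j : ℕ)) 2 n ≠ 0} =
      Fintype.card F ^ (n + 4) - Fintype.card F ^ (n + 3) - Fintype.card F ^ (n + 2) + Fintype.card F ^ (n + 1) := by
  have h := Groth.Agent.Helper6.ResCnt.card_res_ne_zero (F := F) n (by omega)
  have h' : Nat.card {p : (Fin 3 → F) × (Fin (n + 1) → F) //
      Polynomial.resultant (∑ i : Fin 3, Polynomial.C (p.1 i) * Polynomial.X ^ (i : ℕ))
        (∑ j : Fin (n + 1), Polynomial.C (p.2 j) * Polynomial.X ^ (j : ℕ)) 2 n ≠ 0} =
      (Fintype.card F - 1) * (Fintype.card F - 1) * (Fintype.card F + 1) *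
        Fintype.card F ^ (n + 1) := h
  rw [h']
  obtain ⟨T, hT⟩ : ∃ T, Fintype.card F = T + 2 :=
    ⟨Fintype.card F - 2, by have := Fintype.one_lt_card (α := F); omega⟩
  rw [hT]
  have e1 : T + 2 - 1 = T + 1 := by omega
  rw [e1]
  have hid : (T + 2) ^ (n + 4) + (T + 2) ^ (n + 1) =
      (T + 1) * (T + 1) * (T + 2 + 1) * (T + 2) ^ (n + 1) + (T + 2) ^ (n + 3) + (T + 2) ^ (n + 2) := by
    ring
  have hRQ : (T + 2) ^ (n + 1) ≤ (T + 1) * (T + 1) * (T + 2 + 1) * (T + 2) ^ (n + 1) :=
    Nat.le_mul_of_pos_left _ (by positivity)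
  omega

end Groth.Agent.S18925
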