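import Groth.Statements.S18928
import Mathlib
-- import your own Groth.Agent.* helpers here

set_option autoImplicit false
universe u
open DPow

namespace Groth.Agent.S18928

/-- Let B be a commutative ring, I an ideal of B with a divided power structure, p a prime, r a natural
number, b an element of B and δ an element of I. Then (b + δ)^(p^r) − b^(p^r) lies in the ideal p^r
I. (The source states this for a divided power thickening over the Witt vectors of length n and 0 ≤
r ≤ n; neither restriction is used.) -/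
theorem result {B : Type u} [CommRing B] {I : Ideal B}
    (hI : DividedPowers I) (p : ℕ) [Fact p.Prime] (r : ℕ) (b δ : B) (hδ : δ ∈ I) :
    (b + δ) ^ (p ^ r) - b ^ (p ^ r) ∈ Ideal.span {((p : B) ^ r)} * I := by
  classical
  have hpp : p.Prime := Fact.out
  set n : ℕ := p ^ r with hn
  have hn0 : 0 < n := pow_pos hpp.pos r
  have hcast : ((n : ℕ) : B) = (p : B) ^ r := by rw [hn]; push_cast; rfl
  -- each term with m ≥ 1 lies in the ideal
  have hterm : ∀ m : ℕ, 1 ≤ m → m ≤ n →
      δ ^ m * b ^ (n - m) * (n.choose m : B) ∈ Ideal.span {((p : B) ^ r)} * I := by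
    intro m hm1 hmn
    obtain ⟨m', rfl⟩ : ∃ m', m = m' + 1 := ⟨m - 1, by omega⟩
    obtain ⟨n', hn'⟩ : ∃ n', n = n' + 1 := ⟨n - 1, by omega⟩
    have h1 : δ ^ (m' + 1) = ((m' + 1).factorial : B) * hI.dpow (m' + 1) δ :=
      (hI.factorial_mul_dpow_eq_pow hδ).symm
    have h2 : ((m' + 1).factorial : B) * (n.choose (m' + 1) : B) =
        (n : B) * (n'.descFactorial m' : B) := by
      rw [← Nat.cast_mul, ← Nat.descFactorial_eq_factorial_mul_choose, hn',
        Nat.succ_descFactorial_succ, Nat.cast_mul]
    have h3 : δ ^ (m' + 1) * b ^ (n - (m' + 1)) * (n.choose (m' + 1) : B) =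
        (n : B) * ((n'.descFactorial m' : B) * b ^ (n - (m' + 1)) * hI.dpow (m' + 1) δ) := by
      rw [h1]
      calc ((m' + 1).factorial : B) * hI.dpow (m' + 1) δ * b ^ (n - (m' + 1)) *
            (n.choose (m' + 1) : B)
          = (((m' + 1).factorial : B) * (n.choose (m' + 1) : B)) *
              (b ^ (n - (m' + 1)) * hI.dpow (m' + 1) δ) := by ring
        _ = _ := by rw [h2]; ring
    rw [h3, hcast]
    exact Ideal.mul_mem_mul (Ideal.mem_span_singleton_self _)
      (I.mul_mem_left _ (hI.dpow_mem (Nat.succ_ne_zero m') hδ))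
  have hexp : (b + δ) ^ n - b ^ n =
      ∑ m ∈ Finset.Ico 1 (n + 1), δ ^ m * b ^ (n - m) * (n.choose m : B) := by
    rw [add_comm b δ, add_pow, Finset.range_eq_Ico, Finset.sum_eq_sum_Ico_succ_bot (Nat.succ_pos n)]
    simp
  rw [hexp]
  apply Ideal.sum_mem
  intro m hm
  rw [Finset.mem_Ico] at hm
  exact hterm m hm.1 (by omega)

end Groth.Agent.S18928
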