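import Groth.Statements.S18929
import Mathlib
-- import your own Groth.Agent.* helpers here

set_option autoImplicit false
universe u
open DPow

namespace Groth.Agent.S18929

/-- congruence: `p^i (a+t)^(p^m) = p^i a^(p^m)` when `p^(i+m) = 0` and `t` lies in a PD ideal. -/
theorem congr_aux {B : Type u} [CommRing B] {I : Ideal B} (hI : DividedPowers I) (p i m : ℕ)
    (hpos : 0 < p) (hp : (p : B) ^ (i + m) = 0) (a t : B) (ht : t ∈ I) :
    (p : B) ^ i * (a + t) ^ (p ^ m) = (p : B) ^ i * a ^ (p ^ m) := by
  rw [add_comm a t, add_pow, Finset.mul_sum, Finset.sum_range_succ']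
  simp only [pow_zero, tsub_zero, one_mul, Nat.choose_zero_right, Nat.cast_one, mul_one]
  rw [add_eq_right]
  apply Finset.sum_eq_zero
  intro j _
  have h1 : ((p ^ m).choose (j + 1) : B) * t ^ (j + 1) =
      ((p ^ m).descFactorial (j + 1) : B) * hI.dpow (j + 1) t := by
    rw [← hI.factorial_mul_dpow_eq_pow ht, ← mul_assoc, ← Nat.cast_mul,
      Nat.descFactorial_eq_factorial_mul_choose, Nat.mul_comm]
  have h2 : (p ^ m) ∣ (p ^ m).descFactorial (j + 1) := by
    obtain ⟨N, hN⟩ : ∃ N, p ^ m = N + 1 := ⟨p ^ m - 1, by have := Nat.pow_pos (n := m) hpos; omega⟩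
    rw [hN, Nat.succ_descFactorial_succ]
    exact dvd_mul_right _ _
  obtain ⟨c, hc⟩ := h2
  have h3 : (p : B) ^ i * ((p ^ m).descFactorial (j + 1) : B) = 0 := by
    rw [hc, Nat.cast_mul, Nat.cast_pow, ← mul_assoc, ← pow_add, hp, zero_mul]
  calc (p : B) ^ i * (t ^ (j + 1) * a ^ (p ^ m - (j + 1)) * ((p ^ m).choose (j + 1) : B))
      = ((p : B) ^ i * ((p ^ m).descFactorial (j + 1) : B)) * (hI.dpow (j + 1) t * a ^ (p ^ m - (j + 1))) := by
        rw [mul_assoc ((p : B) ^ i) ((p ^ m).descFactorial (j + 1) : B), ← mul_assoc ((p ^ m).descFactorial (j + 1) : B), ← h1]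
        ring
    _ = 0 := by rw [h3, zero_mul]

/-- Let p be a prime, n a natural number, B a commutative ring in which p^n = 0, and I an ideal of B
equipped with divided powers. There is a ring homomorphism θ from the truncated Witt vectors
W_n(B/I) to B such that, for every Witt vector x over B, θ applied to the truncation of the image of
x in W_n(B/I) equals Σ_{i<n} p^i x_i^(p^(n−i)); in particular this sum depends only on the residues
of x_0, …, x_{n−1} modulo I. (The source works with a divided power thickening of an algebra over a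
perfect field and also checks linearity over the Witt vectors of that field; only the ring
homomorphism is asserted here. θ is unique, the truncation-of-reduction map being surjective.) -/
theorem result (p : ℕ) [Fact p.Prime] (n : ℕ)
    {B : Type u} [CommRing B] (hp : (p : B) ^ n = 0) {I : Ideal B} (hI : DividedPowers I) :
    ∃ θ : TruncatedWittVector p n (B ⧸ I) →+* B, ∀ x : WittVector p B, θ (WittVector.truncate n (WittVector.map (Ideal.Quotient.mk I) x)) =
        ∑ i : Fin n, (p : B) ^ (i : ℕ) * (x.coeff i) ^ (p ^ (n - i)) := by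
  have hpos : 0 < p := (Fact.out : p.Prime).pos
  -- the projection
  let π : WittVector p B →+* TruncatedWittVector p n (B ⧸ I) :=
    (WittVector.truncate n).comp (WittVector.map (Ideal.Quotient.mk I))
  have hπ : Function.Surjective π := by
    intro y
    obtain ⟨z, hz⟩ := WittVector.truncate_surjective (p := p) n (B ⧸ I) y
    obtain ⟨x, hx⟩ := WittVector.map_surjective (p := p) _ Ideal.Quotient.mk_surjective z
    exact ⟨x, by simp [π, hx, hz]⟩
  -- ghost component formula
  have hghost : ∀ x : WittVector p B, WittVector.ghostComponent n x =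
      ∑ i : Fin n, (p : B) ^ (i : ℕ) * (x.coeff i) ^ (p ^ (n - i)) := by
    intro x
    rw [WittVector.ghostComponent_apply, wittPolynomial_eq_sum_C_mul_X_pow, map_sum,
      Finset.sum_range_succ, ← Finset.sum_range (fun i => (p : B) ^ i * (x.coeff i) ^ (p ^ (n - i)))]
    simp only [map_mul, map_pow, MvPolynomial.aeval_C, MvPolynomial.aeval_X, map_natCast,
      tsub_self, pow_zero, pow_one]
    rw [hp, zero_mul, add_zero]
  have hkey : ∀ x y : WittVector p B, π x = π y →
      WittVector.ghostComponent n x = WittVector.ghostComponent n y := by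
    intro x y hxy
    rw [hghost, hghost]
    apply Finset.sum_congr rfl
    intro i _
    have h1 : (π x).coeff i = (π y).coeff i := by rw [hxy]
    simp only [π, RingHom.comp_apply, WittVector.coeff_truncate, WittVector.map_coeff] at h1
    have h2 : x.coeff i - y.coeff i ∈ I := by
      rw [← Ideal.Quotient.eq]; exact h1
    have h3 := congr_aux hI p i (n - i) hpos (by rw [Nat.add_sub_cancel' (le_of_lt i.2)]; exact hp)
      (y.coeff i) (x.coeff i - y.coeff i) h2
    rw [← h3]
    congr 2
    ring
  have hker : RingHom.ker π ≤ RingHom.ker (WittVector.ghostComponent (p := p) (R := B) n) := by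
    intro x hx
    rw [RingHom.mem_ker] at hx ⊢
    have := hkey x 0 (by rw [hx, map_zero])
    rw [this, map_zero]
  refine ⟨RingHom.liftOfSurjective π hπ ⟨WittVector.ghostComponent n, hker⟩, ?_⟩
  intro x
  have := RingHom.liftOfRightInverse_comp_apply π _ (Function.surjInv_eq hπ)
    ⟨WittVector.ghostComponent n, hker⟩ x
  rw [← hghost]
  exact this

end Groth.Agent.S18929
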