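import Groth.Statements.S18930
import Mathlib
-- import your own Groth.Agent.* helpers here

set_option autoImplicit false
universe u
open DPow

namespace Groth.Agent.S18930

/-- Let p be a prime, n ≥ 1, B a commutative ring with p^n = 0 and A = B/pB. Let θ : W_n(A) → B be the
ring homomorphism which sends the reduction of a Witt vector (x_0, …, x_{n−1}) over B to Σ_{i<n} p^i
x_i^(p^(n−i)), let J_n be its kernel and let I_n be the set of a in W_n(A) whose zeroth component
satisfies a_0^(p^n) = 0. Then J_n + (p) ⊆ I_n. (In the source B is the ring of global sections of a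
scheme over the Witt vectors of length n of a perfect field.) -/
theorem result (p : ℕ) [Fact p.Prime] (n : ℕ) (hn : 0 < n)
    {B : Type u} [CommRing B] (hp : (p : B) ^ n = 0)
    (θ : TruncatedWittVector p n (B ⧸ (Ideal.span {(p : B)})) →+* B)
    (hθ : ∀ x : WittVector p B, θ (WittVector.truncate n (WittVector.map (Ideal.Quotient.mk (Ideal.span {(p : B)})) x)) =
        ∑ i : Fin n, (p : B) ^ (i : ℕ) * (x.coeff i) ^ (p ^ (n - i)))
    (a : TruncatedWittVector p n (B ⧸ (Ideal.span {(p : B)})))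
    (ha : a ∈ RingHom.ker θ ⊔ Ideal.span {(p : TruncatedWittVector p n (B ⧸ (Ideal.span {(p : B)})))}) :
    (TruncatedWittVector.coeff ⟨0, hn⟩ a) ^ (p ^ n) = 0 := by
  classical
  obtain ⟨j, hj, q, hq, rfl⟩ := Submodule.mem_sup.1 ha
  obtain ⟨w, rfl⟩ := Ideal.mem_span_singleton'.1 hq
  rw [RingHom.mem_ker] at hj
  obtain ⟨J, rfl⟩ := WittVector.truncate_surjective p n _ j
  obtain ⟨W', rfl⟩ := WittVector.truncate_surjective p n _ w
  obtain ⟨x, rfl⟩ := WittVector.map_surjective (Ideal.Quotient.mk (Ideal.span {(p : B)}))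
    Ideal.Quotient.mk_surjective J
  have hpA : ((p : ℕ) : B ⧸ Ideal.span {(p : B)}) = 0 := by
    have : ((p : ℕ) : B ⧸ Ideal.span {(p : B)}) = Ideal.Quotient.mk (Ideal.span {(p : B)}) (p : B) := by
      simp
    rw [this, Ideal.Quotient.eq_zero_iff_mem]
    exact Ideal.subset_span rfl
  have e1 : WittVector.truncate n (WittVector.map (Ideal.Quotient.mk (Ideal.span {(p : B)})) x) +
      WittVector.truncate n W' * (p : TruncatedWittVector p n (B ⧸ (Ideal.span {(p : B)}))) =
      WittVector.truncate n (WittVector.map (Ideal.Quotient.mk (Ideal.span {(p : B)})) x +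
        W' * (p : WittVector p (B ⧸ (Ideal.span {(p : B)})))) := by
    rw [map_add, map_mul, map_natCast]
  rw [e1, WittVector.coeff_truncate]
  simp only [WittVector.add_coeff_zero, WittVector.mul_coeff_zero, WittVector.map_coeff]
  have hp0 : (p : WittVector p (B ⧸ (Ideal.span {(p : B)}))).coeff 0 = 0 := by
    have : (p : WittVector p (B ⧸ (Ideal.span {(p : B)}))).coeff 0 =
        WittVector.constantCoeff (p : WittVector p (B ⧸ (Ideal.span {(p : B)}))) := rfl
    rw [this, map_natCast, hpA]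
  rw [hp0, mul_zero, add_zero, ← map_pow, Ideal.Quotient.eq_zero_iff_mem]
  -- now x.coeff 0 ^ p ^ n ∈ (p)
  rw [hθ] at hj
  obtain ⟨k, rfl⟩ := Nat.exists_eq_succ_of_ne_zero hn.ne'
  rw [Fin.sum_univ_succ] at hj
  simp only [Fin.val_zero, pow_zero, one_mul, Nat.sub_zero, Fin.val_succ] at hj
  rw [Ideal.mem_span_singleton]
  refine ⟨-∑ i : Fin k, (p : B) ^ (i : ℕ) * x.coeff (i + 1) ^ p ^ (k + 1 - (i + 1)), ?_⟩
  rw [mul_neg, Finset.mul_sum]
  have : ∀ i : Fin k, (p : B) * ((p : B) ^ (i : ℕ) * x.coeff (i + 1) ^ p ^ (k + 1 - (i + 1))) =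
      (p : B) ^ ((i : ℕ) + 1) * x.coeff (i + 1) ^ p ^ (k + 1 - (i + 1)) := by
    intro i; ring
  simp only [this]
  linear_combination hj

end Groth.Agent.S18930
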