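import Groth.Statements.S18931
import Mathlib
-- import your own Groth.Agent.* helpers here

set_option autoImplicit false
universe u
open DPow

namespace Groth.Agent.S18931

/-- Let p be a prime, n ≥ 1, B a commutative ring with p^n = 0 and A = B/pB, and assume that the p-th
power map of A is surjective. Let θ : W_n(A) → B be the ring homomorphism which sends the reduction
of a Witt vector (x_0, …, x_{n−1}) over B to Σ_{i<n} p^i x_i^(p^(n−i)). Then every a in W_n(A) with
a_0^(p^n) = 0 lies in ker θ + (p); together with the reverse inclusion, ker θ + (p) is exactly the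
set of such a. (In the source B is the ring of global sections of a scheme over the Witt vectors of
length n of a perfect field. The printed argument subtracts a single correction term, which suffices
for n ≤ 2; in general one corrects the components one at a time.) -/
theorem result (p : ℕ) [Fact p.Prime]
    (n : ℕ) (hn : 0 < n) {B : Type u} [CommRing B] (hp : (p : B) ^ n = 0)
    (hF : Function.Surjective (fun y : B ⧸ (Ideal.span {(p : B)}) => y ^ p))
    (θ : TruncatedWittVector p n (B ⧸ (Ideal.span {(p : B)})) →+* B)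
    (hθ : ∀ x : WittVector p B, θ (WittVector.truncate n (WittVector.map (Ideal.Quotient.mk (Ideal.span {(p : B)})) x)) =
        ∑ i : Fin n, (p : B) ^ (i : ℕ) * (x.coeff i) ^ (p ^ (n - i)))
    (a : TruncatedWittVector p n (B ⧸ (Ideal.span {(p : B)}))) (ha : (TruncatedWittVector.coeff ⟨0, hn⟩ a) ^ (p ^ n) = 0) :
    a ∈ RingHom.ker θ ⊔ Ideal.span {(p : TruncatedWittVector p n (B ⧸ (Ideal.span {(p : B)})))} := by
  -- notation
  -- trivial case: p is a unit in B
  by_cases hunit : IsUnit (p : B)
  · have hsub : Subsingleton (B ⧸ (Ideal.span {(p : B)})) := by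
      rw [Ideal.Quotient.subsingleton_iff]
      exact Ideal.eq_top_of_isUnit_mem _ (Ideal.subset_span rfl) hunit
    have hsub' : Subsingleton (TruncatedWittVector p n (B ⧸ (Ideal.span {(p : B)}))) := by
      refine ⟨fun x y => ?_⟩
      ext i
      exact Subsingleton.elim _ _
    rw [Subsingleton.elim a 0]
    exact Submodule.zero_mem _
  have hchar : CharP (B ⧸ (Ideal.span {(p : B)})) p := CharP.quotient B p hunit
  -- iterated Frobenius is surjective on the quotient
  have hFm : ∀ m : ℕ, Function.Surjective (fun y : (B ⧸ (Ideal.span {(p : B)})) => y ^ (p ^ m)) := by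
    intro m
    induction m with
    | zero => intro y; exact ⟨y, by simp⟩
    | succ m ih =>
      intro y
      obtain ⟨z, hz⟩ := ih y
      obtain ⟨w, hw⟩ := hF z
      refine ⟨w, ?_⟩
      change w ^ (p ^ (m + 1)) = y
      change z ^ (p ^ m) = y at hz
      change w ^ p = z at hw
      rw [pow_succ', pow_mul, hw, hz]
  have hlift : ∀ (m : ℕ) (b : B), ∃ x c : B, b = x ^ (p ^ m) + (p : B) * c := by
    intro m b
    obtain ⟨yb, hy⟩ := hFm m (Ideal.Quotient.mk _ b)
    obtain ⟨y, rfl⟩ := Ideal.Quotient.mk_surjective yb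
    change (Ideal.Quotient.mk _ y) ^ (p ^ m) = Ideal.Quotient.mk _ b at hy
    rw [← map_pow, Ideal.Quotient.eq] at hy
    obtain ⟨d, hd⟩ := Ideal.mem_span_singleton'.1 hy
    refine ⟨y, -d, ?_⟩
    linear_combination hd
  -- lift a to a Witt vector
  obtain ⟨at', hat⟩ := WittVector.truncate_surjective p n (B ⧸ (Ideal.span {(p : B)})) a
  obtain ⟨x₀, hx₀⟩ := Ideal.Quotient.mk_surjective (at'.coeff 0)
  have ha0 : TruncatedWittVector.coeff ⟨0, hn⟩ a = at'.coeff 0 := by
    rw [← hat, WittVector.coeff_truncate]
  have hx₀p : x₀ ^ (p ^ n) ∈ Ideal.span {(p : B)} := by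
    rw [← Ideal.Quotient.eq_zero_iff_mem, map_pow, hx₀, ← ha0]
    exact ha
  obtain ⟨y₀, hy₀⟩ := Ideal.mem_span_singleton'.1 hx₀p
  -- the correction
  have hdec : ∀ (j : ℕ), 1 ≤ j → j ≤ n → ∃ (xs : ℕ → B) (c : B), xs 0 = x₀ ∧
      ∑ i ∈ Finset.range j, (p : B) ^ i * (xs i) ^ (p ^ (n - i)) = (p : B) ^ j * c := by
    intro j hj1
    induction j, hj1 using Nat.le_induction with
    | base =>
      intro _
      refine ⟨fun _ => x₀, y₀, rfl, ?_⟩
      simp only [Finset.range_one, Finset.sum_singleton, pow_zero, one_mul, Nat.sub_zero, pow_one]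
      rw [← hy₀, mul_comm]
    | succ j hj ih =>
      intro hjn
      obtain ⟨xs, c, h0, hc⟩ := ih (Nat.le_of_succ_le hjn)
      obtain ⟨x, c', hx⟩ := hlift (n - j) (-c)
      refine ⟨Function.update xs j x, -c', ?_, ?_⟩
      · rw [Function.update_of_ne (by omega : (0 : ℕ) ≠ j)]
        exact h0
      · rw [Finset.sum_range_succ, Function.update_self]
        have hsum : ∑ i ∈ Finset.range j, (p : B) ^ i * (Function.update xs j x i) ^ (p ^ (n - i)) =
            ∑ i ∈ Finset.range j, (p : B) ^ i * (xs i) ^ (p ^ (n - i)) := by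
          apply Finset.sum_congr rfl
          intro i hi
          rw [Function.update_of_ne (ne_of_lt (Finset.mem_range.1 hi))]
        rw [hsum, hc]
        have hx' : x ^ (p ^ (n - j)) = -c - (p : B) * c' := by rw [hx]; ring
        rw [hx']
        ring
  obtain ⟨xs, c, h0, hc⟩ := hdec n hn le_rfl
  set bt : WittVector p (B ⧸ (Ideal.span {(p : B)})) := WittVector.map (Ideal.Quotient.mk (Ideal.span {(p : B)})) (WittVector.mk p xs) with hbt
  have hbker : WittVector.truncate n bt ∈ RingHom.ker θ := by
    rw [RingHom.mem_ker, hθ, Fin.sum_univ_eq_sum_range (fun i => (p : B) ^ i * ((WittVector.mk p xs).coeff i) ^ (p ^ (n - i))) n]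
    change ∑ i ∈ Finset.range n, (p : B) ^ i * (xs i) ^ (p ^ (n - i)) = 0
    rw [hc, hp, zero_mul]
  -- the difference
  set dt : WittVector p (B ⧸ (Ideal.span {(p : B)})) := at' - bt with hdt
  have hd0 : dt.coeff 0 = 0 := by
    have : at' = dt + bt := by rw [hdt]; ring
    have h1 := congrArg (fun w => WittVector.coeff w 0) this
    simp only [WittVector.add_coeff_zero] at h1
    have h2 : bt.coeff 0 = at'.coeff 0 := by
      rw [hbt, WittVector.map_coeff]
      change Ideal.Quotient.mk _ (xs 0) = _
      rw [h0, hx₀]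
    rw [h2] at h1
    exact (add_eq_right.mp h1.symm)
  -- dt is divisible by p
  have hroot : ∀ z : (B ⧸ (Ideal.span {(p : B)})), ∃ w : (B ⧸ (Ideal.span {(p : B)})), w ^ p = z := fun z => hF z
  choose r hr using hroot
  have hdp : dt = WittVector.mk p (fun i => r (dt.coeff (i + 1))) * (p : WittVector p (B ⧸ (Ideal.span {(p : B)}))) := by
    ext i
    cases i with
    | zero => rw [WittVector.mul_charP_coeff_zero, hd0]
    | succ i =>
      rw [WittVector.mul_charP_coeff_succ]
      change dt.coeff (i + 1) = (r (dt.coeff (i + 1))) ^ p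
      rw [hr]
  have hadec : a = WittVector.truncate n bt + WittVector.truncate n dt := by
    rw [← map_add, hdt, ← hat]
    congr 1
    ring
  rw [hadec]
  refine Submodule.add_mem_sup hbker ?_
  rw [hdp, map_mul, map_natCast]
  exact Ideal.mul_mem_left _ _ (Ideal.subset_span rfl)

end Groth.Agent.S18931
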