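import Groth.Statements.S18932
import Mathlib
-- import your own Groth.Agent.* helpers here

set_option autoImplicit false
universe u
open DPow

namespace Groth.Agent.S18932

/-- Let p be a prime, k a perfect field of characteristic p, n a natural number and A a commutative
W_n(k)-algebra, W_n(k) the truncated Witt vectors, which is flat over W_n(k) and whose reduction
A/pA has surjective p-th power map. Let θ : W_n(A/pA) → A be the ring homomorphism which sends the
reduction of a Witt vector (x_0, …, x_{n−1}) over A to Σ_{i<n} p^i x_i^(p^(n−i)). Then θ is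
surjective, so A is the quotient of W_n(A/pA) by the kernel of θ. (This is the step of the source's
proposition establishing that Spec of the divided power envelope of that kernel is a thickening of
Spec A; the assertion that it is a final object of the crystalline site is not stated here.) -/
theorem result (p : ℕ) [Fact p.Prime]
    (k : Type u) [Field k] [CharP k p] [PerfectRing k p] (n : ℕ)
    (A : Type u) [CommRing A] [Algebra (TruncatedWittVector p n k) A] [Module.Flat (TruncatedWittVector p n k) A]
    (hF : Function.Surjective (fun y : A ⧸ (Ideal.span {(p : A)}) => y ^ p))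
    (θ : TruncatedWittVector p n (A ⧸ (Ideal.span {(p : A)})) →+* A)
    (hθ : ∀ x : WittVector p A, θ (WittVector.truncate n (WittVector.map (Ideal.Quotient.mk (Ideal.span {(p : A)})) x)) =
        ∑ i : Fin n, (p : A) ^ (i : ℕ) * (x.coeff i) ^ (p ^ (n - i))) :
    Function.Surjective θ := by
  -- p^n = 0 in A
  have hpn : (p : A) ^ n = 0 := by
    have h0 : (p : TruncatedWittVector p n k) ^ n = 0 := by
      have h1 : (p : TruncatedWittVector p n k) ^ n = WittVector.truncate n ((p : WittVector p k) ^ n) := by
        rw [map_pow, map_natCast]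
      rw [h1]
      have hk : (p : WittVector p k) ^ n ∈ RingHom.ker (WittVector.truncate (p := p) (R := k) n) := by
        rw [WittVector.mem_ker_truncate]
        intro i hi
        exact WittVector.coeff_p_pow_eq_zero p k (ne_of_lt hi)
      exact hk
    have h2 := congrArg (algebraMap (TruncatedWittVector p n k) A) h0
    rwa [map_pow, map_natCast, map_zero] at h2
  -- iterated Frobenius is surjective on the quotient
  have hFm : ∀ m : ℕ, Function.Surjective (fun y : A ⧸ (Ideal.span {(p : A)}) => y ^ (p ^ m)) := by
    intro m
    induction m with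
    | zero => intro y; exact ⟨y, by simp⟩
    | succ m ih =>
      intro y
      obtain ⟨z, hz⟩ := ih y
      obtain ⟨w, hw⟩ := hF z
      refine ⟨w, ?_⟩
      change w ^ (p ^ (m + 1)) = y
      change z ^ (p ^ m) = y at hz
      change w ^ p = z at hw
      rw [pow_succ', pow_mul, hw, hz]
  have hlift : ∀ (m : ℕ) (a : A), ∃ x c : A, a = x ^ (p ^ m) + (p : A) * c := by
    intro m a
    obtain ⟨yb, hy⟩ := hFm m (Ideal.Quotient.mk _ a)
    obtain ⟨y, rfl⟩ := Ideal.Quotient.mk_surjective yb
    change (Ideal.Quotient.mk _ y) ^ (p ^ m) = Ideal.Quotient.mk _ a at hy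
    rw [← map_pow, Ideal.Quotient.eq] at hy
    obtain ⟨d, hd⟩ := Ideal.mem_span_singleton'.1 hy
    refine ⟨y, -d, ?_⟩
    linear_combination hd
  have hdec : ∀ (j : ℕ), j ≤ n → ∀ a : A, ∃ (xs : ℕ → A) (c : A),
      a = ∑ i ∈ Finset.range j, (p : A) ^ i * (xs i) ^ (p ^ (n - i)) + (p : A) ^ j * c := by
    intro j
    induction j with
    | zero => intro _ a; exact ⟨fun _ => 0, a, by simp⟩
    | succ j ih =>
      intro hj a
      obtain ⟨xs, c, hc⟩ := ih (Nat.le_of_succ_le hj) a
      obtain ⟨x, c', hx⟩ := hlift (n - j) c
      refine ⟨Function.update xs j x, c', ?_⟩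
      rw [Finset.sum_range_succ, Function.update_self]
      have hsum : ∑ i ∈ Finset.range j, (p : A) ^ i * (Function.update xs j x i) ^ (p ^ (n - i)) =
          ∑ i ∈ Finset.range j, (p : A) ^ i * (xs i) ^ (p ^ (n - i)) := by
        apply Finset.sum_congr rfl
        intro i hi
        rw [Function.update_of_ne (ne_of_lt (Finset.mem_range.1 hi))]
      rw [hsum, hc, hx]
      ring
  intro a
  obtain ⟨xs, c, hc⟩ := hdec n le_rfl a
  refine ⟨WittVector.truncate n (WittVector.map (Ideal.Quotient.mk (Ideal.span {(p : A)})) (WittVector.mk p xs)), ?_⟩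
  rw [hθ, hc, hpn, zero_mul, add_zero]
  exact Fin.sum_univ_eq_sum_range (fun i => (p : A) ^ i * (xs i) ^ (p ^ (n - i))) n

end Groth.Agent.S18932
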