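import Groth.Statements.S18936
import Mathlib
-- import your own Groth.Agent.* helpers here

set_option autoImplicit false
universe u
open CAlg

namespace Groth.Agent.S18936

/-- Let A be a Noetherian commutative ring, q a prime ideal of A and f an element of A whose image in
the localization A_q is a non-zero-divisor. Then there is an element b of A not in q such that the
image of f in A[1/b] is a non-zero-divisor. -/
theorem result {A : Type u} [CommRing A] [IsNoetherianRing A]
    (q : Ideal A) [q.IsPrime] (f : A)
    (hf : algebraMap A (Localization.AtPrime q) f ∈ nonZeroDivisors (Localization.AtPrime q)) :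
    ∃ b : A, b ∉ q ∧ algebraMap A (Localization.Away b) f ∈ nonZeroDivisors (Localization.Away b) := by
  classical
  -- annihilator of f
  let K : Ideal A := LinearMap.ker (LinearMap.mulLeft A f)
  have hK : ∀ x, x ∈ K ↔ f * x = 0 := fun x => by simp [K]
  obtain ⟨s, hs⟩ := (IsNoetherian.noetherian K)
  have hgen : ∀ x ∈ s, ∃ c : A, c ∉ q ∧ c * x = 0 := by
    intro x hx
    have hxK : x ∈ K := by rw [← hs]; exact Submodule.subset_span hx
    have h1 : algebraMap A (Localization.AtPrime q) f * algebraMap A (Localization.AtPrime q) x = 0 := by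
      rw [← map_mul, (hK x).1 hxK, map_zero]
    have h2 : algebraMap A (Localization.AtPrime q) x = 0 := by
      have := (mem_nonZeroDivisors_iff.1 hf).2 _ (by rw [mul_comm]; exact h1)
      exact this
    obtain ⟨m, hm⟩ := (IsLocalization.map_eq_zero_iff q.primeCompl (Localization.AtPrime q) x).1 h2
    exact ⟨m.1, m.2, hm⟩
  choose! c hc using hgen
  set b := ∏ x ∈ s, c x with hb
  have hbq : b ∉ q := by
    rw [hb, Ideal.IsPrime.prod_mem_iff]
    rintro ⟨x, hx, hcx⟩
    exact (hc x hx).1 hcx
  have hbK : ∀ y ∈ K, b * y = 0 := by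
    intro y hy
    rw [← hs] at hy
    induction hy using Submodule.span_induction with
    | mem x hx =>
      obtain ⟨e, he⟩ := Finset.dvd_prod_of_mem c hx
      rw [hb, he, mul_comm (c x) e, mul_assoc, (hc x hx).2, mul_zero]
    | zero => simp
    | add x y _ _ hx hy => rw [mul_add, hx, hy, add_zero]
    | smul a x _ hx => rw [smul_eq_mul, mul_left_comm, hx, mul_zero]
  refine ⟨b, hbq, ?_⟩
  rw [mem_nonZeroDivisors_iff_right]
  intro z hz
  obtain ⟨⟨a, t⟩, hat⟩ := IsLocalization.surj (Submonoid.powers b) z
  simp only at hat
  have htu : IsUnit (algebraMap A (Localization.Away b) t.1) :=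
    IsLocalization.map_units (Localization.Away b) t
  -- a * f maps to zero
  have h1 : algebraMap A (Localization.Away b) (a * f) = 0 := by
    rw [map_mul, ← hat, mul_right_comm, hz, zero_mul]
  obtain ⟨⟨_, m, rfl⟩, hm⟩ :=
    (IsLocalization.map_eq_zero_iff (Submonoid.powers b) (Localization.Away b) (a * f)).1 h1
  simp only at hm
  have h2 : b ^ m * a ∈ K := by rw [hK]; rw [← hm]; ring
  have h3 := hbK _ h2
  have h4 : algebraMap A (Localization.Away b) a = 0 := by
    rw [IsLocalization.map_eq_zero_iff (Submonoid.powers b)]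
    exact ⟨⟨b ^ (m + 1), m + 1, rfl⟩, by simp only; rw [pow_succ', mul_assoc]; exact h3⟩
  rw [h4] at hat
  exact (htu.mul_left_eq_zero).1 hat

end Groth.Agent.S18936
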