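import Groth.Statements.S18942
import Mathlib
-- import your own Groth.Agent.* helpers here

set_option autoImplicit false
universe u
open DPow

namespace Groth.Agent.S18942

/-- Let p be a prime, k a perfect field of characteristic p, n a natural number and x an element of
W_n(k), written here as the truncation of a Witt vector x over k. For any Witt vectors y_0, …,
y_{n−1} over k lifting the components of x under the map y ↦ (y_0)^(p^n) (that is, (y_i)_0^(p^n) =
x_i), one has x = Σ_{i<n} p^i y_i^(p^(n−i)) in W_n(k). -/
theorem result (p : ℕ) [Fact p.Prime]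
    (k : Type u) [Field k] [CharP k p] [PerfectRing k p] (n : ℕ) (x : WittVector p k)
    (y : Fin n → WittVector p k) (hy : ∀ i : Fin n, ((y i).coeff 0) ^ (p ^ n) = x.coeff i) :
    WittVector.truncate n x =
      WittVector.truncate n (∑ i : Fin n, (p : WittVector p k) ^ (i : ℕ) * (y i) ^ (p ^ (n - i))) := by
  classical
  set c : Fin n → k := fun i => (y i).coeff 0 with hc
  set T : WittVector p k := ∑ i : Fin n, WittVector.teichmuller p ((c i) ^ (p ^ (n - i))) * (p : WittVector p k) ^ (i : ℕ) with hT
  set z : WittVector p k := ∑ i : Fin n, (p : WittVector p k) ^ (i : ℕ) * (y i) ^ (p ^ (n - i)) with hz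
  -- coefficients of T
  have hTcoeff : ∀ j : ℕ, j < n → T.coeff j = x.coeff j := by
    intro j hj
    rw [hT, WittVector.sum_coeff_eq_coeff_sum]
    · rw [Finset.sum_eq_single (⟨j, hj⟩ : Fin n)]
      · rw [WittVector.teichmuller_mul_pow_coeff, ← pow_mul, ← pow_add]
        have : n - j + j = n := Nat.sub_add_cancel hj.le
        change (c ⟨j, hj⟩) ^ (p ^ (n - j + j)) = _
        rw [this]
        exact hy ⟨j, hj⟩
      · intro b _ hb
        apply WittVector.teichmuller_mul_pow_coeff_of_ne
        intro h
        exact hb (Fin.ext h.symm)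
      · intro h
        exact absurd (Finset.mem_univ _) h
    · intro m
      refine ⟨fun ⟨a, _, ha⟩ ⟨b, _, hb⟩ => ?_⟩
      ext
      have ha' : m = (a : ℕ) := by
        by_contra hne
        exact ha (WittVector.teichmuller_mul_pow_coeff_of_ne _ hne)
      have hb' : m = (b : ℕ) := by
        by_contra hne
        exact hb (WittVector.teichmuller_mul_pow_coeff_of_ne _ hne)
      exact congrArg Fin.val (Fin.ext (ha'.symm.trans hb'))
  -- z - T is divisible by p^n
  have hdiv : ∀ i : Fin n, ((p : WittVector p k) ^ n) ∣
      (p : WittVector p k) ^ (i : ℕ) * (y i) ^ (p ^ (n - i)) -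
        WittVector.teichmuller p ((c i) ^ (p ^ (n - i))) * (p : WittVector p k) ^ (i : ℕ) := by
    intro i
    have h1 : (p : WittVector p k) ∣ y i - WittVector.teichmuller p (c i) := by
      rw [← Ideal.mem_span_singleton, WittVector.mem_span_p_iff_coeff_zero_eq_zero]
      change WittVector.constantCoeff (y i - WittVector.teichmuller p (c i)) = 0
      rw [map_sub]
      change (y i).coeff 0 - (WittVector.teichmuller p (c i)).coeff 0 = 0
      rw [WittVector.teichmuller_coeff_zero]
      exact sub_self _
    have h2 := dvd_sub_pow_of_dvd_sub h1 (n - i)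
    rw [← map_pow] at h2
    have h3 : (p : WittVector p k) ^ (i : ℕ) * (y i) ^ (p ^ (n - i)) -
        WittVector.teichmuller p ((c i) ^ (p ^ (n - i))) * (p : WittVector p k) ^ (i : ℕ) =
        (p : WittVector p k) ^ (i : ℕ) * ((y i) ^ (p ^ (n - i)) - WittVector.teichmuller p ((c i) ^ (p ^ (n - i)))) := by
      ring
    rw [h3]
    have h4 : (p : WittVector p k) ^ n ∣ (p : WittVector p k) ^ (i : ℕ) * (p : WittVector p k) ^ (n - i + 1) := by
      rw [← pow_add]
      apply pow_dvd_pow
      have := i.isLt
      omega
    exact h4.trans (mul_dvd_mul_left _ h2)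
  have hzT : ((p : WittVector p k) ^ n) ∣ z - T := by
    rw [hz, hT, ← Finset.sum_sub_distrib]
    exact Finset.dvd_sum (fun i _ => hdiv i)
  rw [← Ideal.mem_span_singleton, WittVector.mem_span_p_pow_iff_le_coeff_eq_zero,
    ← WittVector.le_coeff_eq_iff_le_sub_coeff_eq_zero] at hzT
  ext i
  rw [WittVector.coeff_truncate, WittVector.coeff_truncate, hzT i i.isLt, hTcoeff i i.isLt]

end Groth.Agent.S18942
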