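import Groth.Statements.S18943
import Mathlib
-- import your own Groth.Agent.* helpers here

set_option autoImplicit false
open scoped ContDiff
open CInfGerm

namespace Groth.Agent.S18943

open MeasureTheory in
theorem hasDerivAt_I (h : ℝ → ℝ) (hh : ContDiff ℝ 1 h) (n : ℕ) (x₀ : ℝ) :
    HasDerivAt (fun x => ∫ t in (0:ℝ)..1, t ^ n * h (t * x))
      (∫ t in (0:ℝ)..1, t ^ (n + 1) * deriv h (t * x₀)) x₀ := by
  have hdiff : Differentiable ℝ h := hh.differentiable_one
  have hc : Continuous h := hdiff.continuous
  have hcont' : Continuous (deriv h) := hh.continuous_deriv (le_refl _)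
  obtain ⟨C, hC⟩ := (isCompact_Icc (a := -(|x₀| + 1)) (b := |x₀| + 1)).exists_bound_of_continuousOn
    hcont'.continuousOn
  have key := intervalIntegral.hasDerivAt_integral_of_dominated_loc_of_deriv_le (μ := volume)
    (a := 0) (b := 1)
    (F := fun x t => t ^ n * h (t * x)) (F' := fun x t => t ^ (n + 1) * deriv h (t * x)) (x₀ := x₀)
    (s := Metric.ball x₀ 1) (bound := fun _ => C)
    (Metric.ball_mem_nhds x₀ one_pos)
    (Filter.Eventually.of_forall fun x => (Continuous.aestronglyMeasurable (by fun_prop)))
    (Continuous.intervalIntegrable (by fun_prop) _ _)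
    (Continuous.aestronglyMeasurable (by fun_prop))
    (Filter.Eventually.of_forall fun t ht x hx => ?_)
    intervalIntegrable_const
    (Filter.Eventually.of_forall fun t ht x hx => ?_)
  · exact key.2
  · rw [Set.uIoc_of_le zero_le_one] at ht
    have hx' : |x - x₀| < 1 := by
      rw [Metric.mem_ball, Real.dist_eq] at hx
      exact hx
    have hxabs : |x| ≤ |x₀| + 1 := by
      have := abs_sub_abs_le_abs_sub x x₀
      linarith
    have htx : t * x ∈ Set.Icc (-(|x₀| + 1)) (|x₀| + 1) := by
      have h1 : |t * x| ≤ |x₀| + 1 := by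
        rw [abs_mul, abs_of_pos ht.1]
        calc t * |x| ≤ 1 * |x| := mul_le_mul_of_nonneg_right ht.2 (abs_nonneg x)
          _ = |x| := one_mul _
          _ ≤ _ := hxabs
      exact abs_le.mp h1
    have hb := hC (t * x) htx
    calc ‖t ^ (n + 1) * deriv h (t * x)‖ = |t| ^ (n + 1) * ‖deriv h (t * x)‖ := by
          rw [norm_mul, norm_pow, Real.norm_eq_abs]
      _ ≤ 1 * C := by
          apply mul_le_mul _ hb (norm_nonneg _) zero_le_one
          apply pow_le_one₀ (abs_nonneg t)
          rw [abs_of_pos ht.1]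
          exact ht.2
      _ = C := one_mul C
  · have h1 : HasDerivAt (fun x => h (t * x)) (deriv h (t * x) * t) x := by
      have h2 : HasDerivAt (fun x : ℝ => t * x) t x := by
        simpa using (hasDerivAt_id x).const_mul t
      exact (hdiff (t * x)).hasDerivAt.comp x h2
    have h3 := h1.const_mul (t ^ n)
    have h4 : t ^ (n + 1) * deriv h (t * x) = t ^ n * (deriv h (t * x) * t) := by ring
    rw [h4]
    exact h3

theorem contDiff_I : ∀ (m : ℕ) (h : ℝ → ℝ), ContDiff ℝ ∞ h → ∀ n : ℕ,
    ContDiff ℝ m (fun x => ∫ t in (0:ℝ)..1, t ^ n * h (t * x))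
  | 0, h, hh, n => by
    rw [Nat.cast_zero, contDiff_zero]
    exact continuous_iff_continuousAt.mpr fun x =>
      (hasDerivAt_I h (hh.of_le (by simp)) n x).continuousAt
  | m + 1, h, hh, n => by
    rw [Nat.cast_add, Nat.cast_one, contDiff_succ_iff_deriv]
    have h1 : ContDiff ℝ 1 h := hh.of_le (by simp)
    refine ⟨fun x => (hasDerivAt_I h h1 n x).differentiableAt, by simp, ?_⟩
    have hd : deriv (fun x => ∫ t in (0:ℝ)..1, t ^ n * h (t * x)) =
        fun x => ∫ t in (0:ℝ)..1, t ^ (n + 1) * deriv h (t * x) :=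
      funext fun x => (hasDerivAt_I h h1 n x).deriv
    rw [hd]
    exact contDiff_I m (deriv h) ((contDiff_infty_iff_deriv.mp hh).2) (n + 1)

/-- Let f be an infinitely differentiable real-valued function on the real line with f(0) = 0. Then f(x)
= x·g(x) for an infinitely differentiable function g. (The source phrases this for germs at 0: the
maximal ideal of the local ring of germs of smooth functions at the origin is generated by the
coordinate t; the global form stated here is what its argument, smooth extension of f(x)/x across 0,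
gives.) -/
theorem result (f : ℝ → ℝ) (hf : ContDiff ℝ ∞ f) (h0 : f 0 = 0) :
    ∃ g : ℝ → ℝ, ContDiff ℝ ∞ g ∧ ∀ x : ℝ, f x = x * g x := by
  have hdiff : Differentiable ℝ f := (contDiff_infty_iff_deriv.mp hf).1
  have hf' : ContDiff ℝ ∞ (deriv f) := (contDiff_infty_iff_deriv.mp hf).2
  refine ⟨fun x => ∫ t in (0:ℝ)..1, t ^ 0 * deriv f (t * x), ?_, ?_⟩
  · rw [contDiff_infty]
    intro m
    exact contDiff_I m (deriv f) hf' 0
  · intro x
    have h1 : (x * ∫ t in (0:ℝ)..1, deriv f (t * x)) = ∫ s in (0 * x)..(1 * x), deriv f s :=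
      intervalIntegral.mul_integral_comp_mul_right (f := deriv f) x
    have h2 : ∫ s in (0:ℝ)..x, deriv f s = f x - f 0 :=
      intervalIntegral.integral_deriv_eq_sub (fun y _ => hdiff y) (hf'.continuous.intervalIntegrable _ _)
    simp only [pow_zero, one_mul]
    rw [h1, zero_mul, one_mul, h2, h0, sub_zero]

end Groth.Agent.S18943
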