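import Groth.Statements.S18945
import Mathlib
import Groth.Agent.Helper9.SyntCover
import Groth.Agent.S18934
-- import your own Groth.Agent.* helpers here

set_option autoImplicit false
universe u
open CategoryTheory AlgebraicGeometry
open Synt

namespace Groth.Agent.S18945

/-- Let p be a prime, X a scheme and a a global section of the structure sheaf of X. There is a covering
of X for the syntomic topology, that is a jointly surjective family of syntomic morphisms X_i → X,
such that the restriction of a to each X_i is a p-th power. (The source states the surjectivity of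
the p-th power map of the structure sheaf on the small syntomic site of a syntomic scheme over a
perfect field of characteristic p; the covering it uses elsewhere, adjoining a p-th root T^p = a
over affine pieces, gives the statement for every scheme, which is the form given here.) -/
theorem result (p : ℕ) [Fact p.Prime] (X : Scheme.{u}) (a : Γ(X, ⊤)) :
    ∃ 𝒰 : Scheme.Cover.{u} (Scheme.precoverage @Synt.IsSyntomicMor) X,
      ∀ i : 𝒰.I₀, ∃ b : Γ(𝒰.X i, ⊤), b ^ p = (𝒰.f i).appTop a := by
  classical
  have hp0 : p ≠ 0 := (Fact.out : p.Prime).ne_zero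
  let aU : (U : X.affineOpens) → Γ(X, U.1) :=
    fun U => (X.presheaf.map (homOfLE (le_top : U.1 ≤ ⊤)).op).hom a
  let fU : (U : X.affineOpens) → Polynomial Γ(X, U.1) :=
    fun U => Polynomial.X ^ p - Polynomial.C (aU U)
  have hmonic : ∀ U, (fU U).Monic := fun U => Polynomial.monic_X_pow_sub_C _ hp0
  let ψ : (U : X.affineOpens) → (Γ(X, U.1) ⟶ CommRingCat.of (AdjoinRoot (fU U))) :=
    fun U => CommRingCat.ofHom (algebraMap Γ(X, U.1) (AdjoinRoot (fU U)))
  let g : (U : X.affineOpens) → (Spec (CommRingCat.of (AdjoinRoot (fU U))) ⟶ X) :=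
    fun U => Spec.map (ψ U) ≫ U.2.fromSpec
  have hsurj : ∀ U : X.affineOpens, Function.Surjective (Spec.map (ψ U)) := by
    intro U
    haveI := (Groth.Agent.S18934.result p Γ(X, U.1) (aU U)).2
    exact PrimeSpectrum.comap_surjective_of_faithfullyFlat
  have hsynt : ∀ U : X.affineOpens, Synt.IsSyntomicMor (g U) := by
    intro U
    let pb := AdjoinRoot.powerBasis' (hmonic U)
    haveI : Module.Free Γ(X, U.1) (AdjoinRoot (fU U)) := Module.Free.of_basis pb.basis
    haveI : Module.Finite Γ(X, U.1) (AdjoinRoot (fU U)) := pb.finite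
    exact Groth.Agent.Helper9.SyntCover.isSyntomicMor_of_presentation U.2 (AdjoinRoot (fU U)) 1
      (Groth.Agent.Helper9.SyntRoot.presAdjoinRoot (fU U))
  have hcov : ∀ x : X, ∃ (U : X.affineOpens) (y : _), g U y = x := by
    intro x
    obtain ⟨U, hU, hxU, -⟩ := (TopologicalSpace.Opens.isBasis_iff_nbhd.mp X.isBasis_affineOpens)
      (TopologicalSpace.Opens.mem_top x)
    obtain ⟨y, hy⟩ := Groth.Agent.Helper9.SyntCover.mem_range_of_surjective hU (ψ ⟨U, hU⟩)
      (hsurj ⟨U, hU⟩) hxU
    exact ⟨⟨U, hU⟩, y, hy⟩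
  refine ⟨Scheme.Cover.mkOfCovers X.affineOpens _ g hcov hsynt, ?_⟩
  intro (U : X.affineOpens)
  refine ⟨(Scheme.ΓSpecIso (CommRingCat.of (AdjoinRoot (fU U)))).inv.hom (AdjoinRoot.root (fU U)), ?_⟩
  have h1 := Groth.Agent.Helper9.SyntCover.appTop_eq U.2 (ψ U) a
  refine Eq.trans ?_ h1.symm
  refine (RingHom.map_pow _ _ _).symm.trans (congrArg _ ?_)
  have h := AdjoinRoot.eval₂_root (fU U)
  simp only [fU, Polynomial.eval₂_sub, Polynomial.eval₂_pow, Polynomial.eval₂_X,
    Polynomial.eval₂_C, sub_eq_zero] at h
  exact h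

end Groth.Agent.S18945
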