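import Groth.Statements.S18948
import Mathlib
-- import your own Groth.Agent.* helpers here

set_option autoImplicit false
universe u v
open CExt

namespace Groth.Agent.S18948

/-- Let f : E → G be a surjective homomorphism of groups whose kernel is central in E, and let x ∈ E.
Then f maps the conjugacy class of x bijectively onto the conjugacy class of f(x) if and only if
every element of G commuting with f(x) is the image of some element of E commuting with x. (In the
source E → G is the central extension, with kernel the roots of unity, attached to a Brauer class of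
the classifying stack of a finite tame étale group scheme, and a conjugacy class of E mapping
bijectively onto a given class of G is a marking; the equivalence is stated here for an arbitrary
central extension of abstract groups.) -/
theorem result {E : Type u} {G : Type v} [Group E] [Group G]
    (f : E →* G) (hf : Function.Surjective f) (hker : f.ker ≤ Subgroup.center E) (x : E) :
    Set.BijOn f (MulAction.orbit (ConjAct E) x) (MulAction.orbit (ConjAct G) (f x)) ↔
      ∀ g : G, g * f x = f x * g → ∃ e : E, f e = g ∧ e * x = x * e := by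
  have horbE : ∀ y : E, y ∈ MulAction.orbit (ConjAct E) x ↔ ∃ c : E, c * x * c⁻¹ = y := by
    intro y
    rw [MulAction.mem_orbit_iff]
    constructor
    · rintro ⟨c, hc⟩
      exact ⟨ConjAct.ofConjAct c, by rw [← hc, ConjAct.smul_def]⟩
    · rintro ⟨c, hc⟩
      exact ⟨ConjAct.toConjAct c, by rw [ConjAct.smul_def, ConjAct.ofConjAct_toConjAct, hc]⟩
  have horbG : ∀ y : G, y ∈ MulAction.orbit (ConjAct G) (f x) ↔ ∃ c : G, c * f x * c⁻¹ = y := by
    intro y
    rw [MulAction.mem_orbit_iff]
    constructor
    · rintro ⟨c, hc⟩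
      exact ⟨ConjAct.ofConjAct c, by rw [← hc, ConjAct.smul_def]⟩
    · rintro ⟨c, hc⟩
      exact ⟨ConjAct.toConjAct c, by rw [ConjAct.smul_def, ConjAct.ofConjAct_toConjAct, hc]⟩
  constructor
  · intro hbij g hg
    obtain ⟨e₀, rfl⟩ := hf g
    refine ⟨e₀, rfl, ?_⟩
    have h1 : e₀ * x * e₀⁻¹ ∈ MulAction.orbit (ConjAct E) x := (horbE _).2 ⟨e₀, rfl⟩
    have h2 : x ∈ MulAction.orbit (ConjAct E) x := MulAction.mem_orbit_self x
    have h3 : f (e₀ * x * e₀⁻¹) = f x := by
      rw [map_mul, map_mul, map_inv, hg, mul_inv_cancel_right]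
    have := hbij.injOn h1 h2 h3
    calc e₀ * x = e₀ * x * e₀⁻¹ * e₀ := by group
      _ = x * e₀ := by rw [this]
  · intro h
    refine ⟨?_, ?_, ?_⟩
    · intro y hy
      obtain ⟨c, rfl⟩ := (horbE y).1 hy
      exact (horbG _).2 ⟨f c, by simp⟩
    · intro a ha b hb hab
      obtain ⟨a, rfl⟩ := (horbE a).1 ha
      obtain ⟨b, rfl⟩ := (horbE b).1 hb
      have hcomm : f (b⁻¹ * a) * f x = f x * f (b⁻¹ * a) := by
        simp only [map_mul, map_inv] at hab ⊢
        calc (f b)⁻¹ * f a * f x = (f b)⁻¹ * (f a * f x * (f a)⁻¹) * f a := by group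
          _ = (f b)⁻¹ * (f b * f x * (f b)⁻¹) * f a := by rw [hab]
          _ = f x * ((f b)⁻¹ * f a) := by group
      obtain ⟨e, hfe, hex⟩ := h _ hcomm
      have hk : e⁻¹ * (b⁻¹ * a) ∈ f.ker := by
        rw [MonoidHom.mem_ker, map_mul, map_inv, hfe, inv_mul_cancel]
      have hkc := Subgroup.mem_center_iff.1 (hker hk) x
      -- b⁻¹ a = e k
      have h5 : (b⁻¹ * a) * x * (b⁻¹ * a)⁻¹ = x := by
        have : b⁻¹ * a = e * (e⁻¹ * (b⁻¹ * a)) := by group
        rw [this]
        set k := e⁻¹ * (b⁻¹ * a) with hkdef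
        calc e * k * x * (e * k)⁻¹ = e * (k * x) * k⁻¹ * e⁻¹ := by group
          _ = e * (x * k) * k⁻¹ * e⁻¹ := by rw [hkc]
          _ = e * x * e⁻¹ := by group
          _ = x * e * e⁻¹ := by rw [hex]
          _ = x := by group
      calc a * x * a⁻¹ = b * ((b⁻¹ * a) * x * (b⁻¹ * a)⁻¹) * b⁻¹ := by group
        _ = b * x * b⁻¹ := by rw [h5]
    · intro y hy
      obtain ⟨c, rfl⟩ := (horbG y).1 hy
      obtain ⟨e, rfl⟩ := hf c
      exact ⟨e * x * e⁻¹, (horbE _).2 ⟨e, rfl⟩, by simp⟩

end Groth.Agent.S18948
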