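import Groth.Statements.S18950
import Mathlib
-- import your own Groth.Agent.* helpers here

set_option autoImplicit false
universe u v
open CExt

namespace Groth.Agent.S18950

/-- Let f : E → G be a homomorphism of groups whose kernel is central in E, let α be an endomorphism of
E with f ∘ α = f which is the identity on the kernel, and let S ⊆ E be a subset fixed pointwise by α
such that f(S) generates G. Then α is the identity. (In the source S is the marking of a marked
central extension of finite tame étale group schemes and the hypothesis is that the marked conjugacy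
classes generate G; the conclusion there is that a morphism of marked extensions inducing the
identity on the kernel and on G is unique.) -/
theorem result {E : Type u} {G : Type v} [Group E] [Group G]
    (f : E →* G) (hker : f.ker ≤ Subgroup.center E) (α : E →* E) (hα : f.comp α = f)
    (hαA : ∀ a ∈ f.ker, α a = a) (S : Set E) (hS : Subgroup.closure (f '' S) = ⊤)
    (hαS : ∀ s ∈ S, α s = s) : α = MonoidHom.id E := by
  set H : Subgroup E := α.eqLocus (MonoidHom.id E) with hH
  have hmem : ∀ e : E, e ∈ H ↔ α e = e := fun e => Iff.rfl
  have hkerH : f.ker ≤ H := fun a ha => (hmem a).2 (hαA a ha)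
  have hSH : S ⊆ H := fun s hs => (hmem s).2 (hαS s hs)
  have hmap : H.map f = ⊤ := by
    rw [eq_top_iff, ← hS, Subgroup.closure_le]
    rintro _ ⟨s, hs, rfl⟩
    exact ⟨s, hSH hs, rfl⟩
  have htop : H = ⊤ := by
    rw [eq_top_iff]
    intro e _
    have : f e ∈ H.map f := by rw [hmap]; trivial
    obtain ⟨h, hh, hfe⟩ := this
    have hk : e * h⁻¹ ∈ f.ker := by
      rw [MonoidHom.mem_ker, map_mul, map_inv, hfe, mul_inv_cancel]
    have := H.mul_mem (hkerH hk) hh
    simpa using this
  ext e
  have : e ∈ H := by rw [htop]; trivial
  exact (hmem e).1 this

end Groth.Agent.S18950
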