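import Groth.Statements.S18953
import Mathlib
-- import your own Groth.Agent.* helpers here

set_option autoImplicit false
universe u v
open OrbPic

namespace Groth.Agent.S18953

/-- Let G₁ and G₂ be groups with subsets C₁ ⊆ G₁ and C₂ ⊆ G₂, and let C ⊆ G₁ × G₂ be the union of C₁ ×
{1} and {1} × C₂. Restricting the character and the weight along the two inclusions G₁ → G₁ × G₂ and
G₂ → G₁ × G₂ is a bijection from the geometric partial orbifold line bundles of G₁ × G₂ with respect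
to C onto pairs of geometric partial orbifold line bundles of G₁ with respect to C₁ and of G₂ with
respect to C₂. (As in the source after a choice of roots of unity, each group stands for the
geometric points of a tame finite étale group scheme, characters are homomorphisms to ℚ/ℤ and
weights are class functions; the source states the Galois-equivariant version, which follows by
taking invariants.) -/
theorem result (G₁ : Type u) (G₂ : Type v) [Group G₁] [Group G₂] (C₁ : Set G₁) (C₂ : Set G₂) :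
    Set.BijOn
      (fun p : (Additive (G₁ × G₂) →+ W4c6brauerbgmalle.QmodZ) × (G₁ × G₂ → ℚ) =>
        ((p.1.comp (MonoidHom.toAdditive (MonoidHom.inl G₁ G₂)), fun g => p.2 (g, 1)),
          (p.1.comp (MonoidHom.toAdditive (MonoidHom.inr G₁ G₂)), fun g => p.2 (1, g))))
      (W4c6brauerbgmalle.picOrb (G₁ × G₂) ((fun g => (g, (1 : G₂))) '' C₁ ∪ (fun g => ((1 : G₁), g)) '' C₂))
      ((W4c6brauerbgmalle.picOrb G₁ C₁ : Set _) ×ˢ (W4c6brauerbgmalle.picOrb G₂ C₂ : Set _)) := by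
  classical
  have hone : ∀ (H : Type (max u v)) (_ : Group H) (g h : H), h * g * h⁻¹ = 1 ↔ g = 1 := by
    intro H _ g h
    constructor
    · intro hh
      have : g = h⁻¹ * (h * g * h⁻¹) * h := by group
      rw [this, hh]; group
    · rintro rfl; group
  have hone1 : ∀ (g h : G₁), h * g * h⁻¹ = 1 ↔ g = 1 := by
    intro g h
    constructor
    · intro hh
      have : g = h⁻¹ * (h * g * h⁻¹) * h := by group
      rw [this, hh]; group
    · rintro rfl; group
  have hone2 : ∀ (g h : G₂), h * g * h⁻¹ = 1 ↔ g = 1 := by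
    intro g h
    constructor
    · intro hh
      have : g = h⁻¹ * (h * g * h⁻¹) * h := by group
      rw [this, hh]; group
    · rintro rfl; group
  obtain ⟨C, hCdef⟩ : ∃ C : Set (G₁ × G₂), C = (fun g => (g, (1 : G₂))) '' C₁ ∪ (fun g => ((1 : G₁), g)) '' C₂ :=
    ⟨_, rfl⟩
  rw [← hCdef]
  have hCl : ∀ g ∈ C₁, (g, (1 : G₂)) ∈ C := by
    intro g hg; rw [hCdef]; exact Or.inl ⟨g, hg, rfl⟩
  have hCr : ∀ g ∈ C₂, ((1 : G₁), g) ∈ C := by
    intro g hg; rw [hCdef]; exact Or.inr ⟨g, hg, rfl⟩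
  have hCform : ∀ x ∈ C, (∃ g ∈ C₁, x = (g, 1)) ∨ (∃ g ∈ C₂, x = (1, g)) := by
    intro x hx
    rw [hCdef] at hx
    rcases hx with ⟨g, hg, rfl⟩ | ⟨g, hg, rfl⟩
    · exact Or.inl ⟨g, hg, rfl⟩
    · exact Or.inr ⟨g, hg, rfl⟩
  refine ⟨?_, ?_, ?_⟩
  · -- MapsTo
    rintro ⟨χ, w⟩ ⟨h1, h2, h3, h4⟩
    refine Set.mem_prod.mpr ⟨⟨?_, ?_, ?_, ?_⟩, ⟨?_, ?_, ?_, ?_⟩⟩
    · exact h1
    · intro g hg
      show w (g, 1) = 0
      by_cases hx : (g, (1 : G₂)) ∈ C
      · rcases hCform _ hx with ⟨g', hg', heq⟩ | ⟨g', hg', heq⟩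
        · rw [Prod.mk.injEq] at heq
          exact absurd (heq.1 ▸ hg') hg
        · rw [Prod.mk.injEq] at heq
          rw [heq.1]
          exact h1
      · exact h2 _ hx
    · intro g h
      show w (h * g * h⁻¹, 1) = w (g, 1)
      have := h3 (g, 1) (h, 1)
      simpa using this
    · intro g hg
      exact h4 (g, 1) (hCl g hg)
    · exact h1
    · intro g hg
      show w (1, g) = 0
      by_cases hx : ((1 : G₁), g) ∈ C
      · rcases hCform _ hx with ⟨g', hg', heq⟩ | ⟨g', hg', heq⟩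
        · rw [Prod.mk.injEq] at heq
          rw [heq.2]
          exact h1
        · rw [Prod.mk.injEq] at heq
          exact absurd (heq.2 ▸ hg') hg
      · exact h2 _ hx
    · intro g h
      show w (1, h * g * h⁻¹) = w (1, g)
      have := h3 (1, g) (1, h)
      simpa using this
    · intro g hg
      exact h4 (1, g) (hCr g hg)
  · -- InjOn
    rintro ⟨χ, w⟩ ⟨h1, h2, h3, h4⟩ ⟨χ', w'⟩ ⟨h1', h2', h3', h4'⟩ heq
    rw [Prod.mk.injEq, Prod.mk.injEq, Prod.mk.injEq] at heq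
    obtain ⟨⟨e1, e2⟩, ⟨e3, e4⟩⟩ := heq
    have hχ : χ = χ' := by
      apply DFunLike.ext
      intro x
      obtain ⟨⟨g₁, g₂⟩, rfl⟩ := Additive.ofMul.surjective x
      have hsplit : ((g₁, g₂) : G₁ × G₂) = (g₁, 1) * (1, g₂) := by simp
      rw [hsplit, ofMul_mul, map_add, map_add]
      have a1 := DFunLike.congr_fun e1 (Additive.ofMul g₁)
      have a2 := DFunLike.congr_fun e3 (Additive.ofMul g₂)
      have b1 : χ (Additive.ofMul ((g₁, 1) : G₁ × G₂)) = χ' (Additive.ofMul ((g₁, 1) : G₁ × G₂)) := a1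
      have b2 : χ (Additive.ofMul ((1, g₂) : G₁ × G₂)) = χ' (Additive.ofMul ((1, g₂) : G₁ × G₂)) := a2
      rw [b1, b2]
    have hw : w = w' := by
      funext x
      by_cases hx : x ∈ C
      · rcases hCform _ hx with ⟨g, hg, rfl⟩ | ⟨g, hg, rfl⟩
        · exact congrFun e2 g
        · exact congrFun e4 g
      · rw [show w x = 0 from h2 x hx, show w' x = 0 from h2' x hx]
    rw [hχ, hw]
  · -- SurjOn
    rintro ⟨⟨χ₁, w₁⟩, ⟨χ₂, w₂⟩⟩ hmem
    obtain ⟨⟨p1, p2, p3, p4⟩, ⟨q1, q2, q3, q4⟩⟩ := Set.mem_prod.mp hmem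
    have p1' : w₁ 1 = 0 := p1
    have q1' : w₂ 1 = 0 := q1
    have p2' : ∀ g, g ∉ C₁ → w₁ g = 0 := p2
    have q2' : ∀ g, g ∉ C₂ → w₂ g = 0 := q2
    have p3' : ∀ g h, w₁ (h * g * h⁻¹) = w₁ g := p3
    have q3' : ∀ g h, w₂ (h * g * h⁻¹) = w₂ g := q3
    have p4' : ∀ g, g ∈ C₁ → W4c6brauerbgmalle.toQmodZ (w₁ g) = χ₁ (Additive.ofMul g) := p4
    have q4' : ∀ g, g ∈ C₂ → W4c6brauerbgmalle.toQmodZ (w₂ g) = χ₂ (Additive.ofMul g) := q4
    obtain ⟨χ, hχ⟩ : ∃ χ : Additive (G₁ × G₂) →+ W4c6brauerbgmalle.QmodZ,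
        ∀ g₁ g₂, χ (Additive.ofMul (g₁, g₂)) = χ₁ (Additive.ofMul g₁) + χ₂ (Additive.ofMul g₂) :=
      ⟨χ₁.comp (MonoidHom.toAdditive (MonoidHom.fst G₁ G₂)) +
        χ₂.comp (MonoidHom.toAdditive (MonoidHom.snd G₁ G₂)), fun g₁ g₂ => rfl⟩
    obtain ⟨w, hw⟩ : ∃ w : G₁ × G₂ → ℚ, ∀ g₁ g₂, w (g₁, g₂) =
        if g₂ = 1 then w₁ g₁ else if g₁ = 1 then w₂ g₂ else 0 :=
      ⟨fun x => if x.2 = 1 then w₁ x.1 else if x.1 = 1 then w₂ x.2 else 0, fun g₁ g₂ => rfl⟩
    refine ⟨(χ, w), ⟨?_, ?_, ?_, ?_⟩, ?_⟩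
    · show w (1, 1) = 0
      rw [hw, if_pos rfl, p1']
    · rintro ⟨g₁, g₂⟩ hx
      show w (g₁, g₂) = 0
      rw [hw]
      by_cases hg2 : g₂ = 1
      · rw [if_pos hg2]
        apply p2'
        intro hg1
        apply hx
        rw [hg2]
        exact hCl g₁ hg1
      · rw [if_neg hg2]
        by_cases hg1 : g₁ = 1
        · rw [if_pos hg1]
          apply q2'
          intro hg2'
          apply hx
          rw [hg1]
          exact hCr g₂ hg2'
        · rw [if_neg hg1]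
    · rintro ⟨g₁, g₂⟩ ⟨h₁, h₂⟩
      show w (h₁ * g₁ * h₁⁻¹, h₂ * g₂ * h₂⁻¹) = w (g₁, g₂)
      rw [hw, hw]
      simp only [hone1, hone2, p3', q3']
    · intro x hx
      rcases hCform _ hx with ⟨g, hg, rfl⟩ | ⟨g, hg, rfl⟩
      · show W4c6brauerbgmalle.toQmodZ (w (g, 1)) = χ (Additive.ofMul (g, 1))
        rw [hw, if_pos rfl, hχ, p4' g hg, ofMul_one, map_zero, add_zero]
      · show W4c6brauerbgmalle.toQmodZ (w (1, g)) = χ (Additive.ofMul (1, g))
        rw [hw, hχ, ofMul_one, map_zero, zero_add]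
        by_cases hg1 : g = 1
        · rw [if_pos hg1, p1', hg1, ofMul_one, map_zero, map_zero]
        · rw [if_neg hg1, if_pos rfl, q4' g hg]
    · show ((χ.comp (MonoidHom.toAdditive (MonoidHom.inl G₁ G₂)), fun g => w (g, 1)),
        (χ.comp (MonoidHom.toAdditive (MonoidHom.inr G₁ G₂)), fun g => w (1, g))) = ((χ₁, w₁), (χ₂, w₂))
      have e1 : χ.comp (MonoidHom.toAdditive (MonoidHom.inl G₁ G₂)) = χ₁ := by
        apply DFunLike.ext
        intro x
        obtain ⟨g, rfl⟩ := Additive.ofMul.surjective x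
        show χ (Additive.ofMul (g, 1)) = χ₁ (Additive.ofMul g)
        rw [hχ, ofMul_one, map_zero, add_zero]
      have e3 : χ.comp (MonoidHom.toAdditive (MonoidHom.inr G₁ G₂)) = χ₂ := by
        apply DFunLike.ext
        intro x
        obtain ⟨g, rfl⟩ := Additive.ofMul.surjective x
        show χ (Additive.ofMul (1, g)) = χ₂ (Additive.ofMul g)
        rw [hχ, ofMul_one, map_zero, zero_add]
      have e2 : (fun g => w (g, 1)) = w₁ := by
        funext g
        rw [hw, if_pos rfl]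
      have e4 : (fun g => w (1, g)) = w₂ := by
        funext g
        rw [hw]
        by_cases hg1 : g = 1
        · rw [if_pos hg1, p1', hg1, q1']
        · rw [if_neg hg1, if_pos rfl]
      rw [e1, e2, e3, e4]

end Groth.Agent.S18953
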