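import Groth.Statements.S18954
import Mathlib
-- import your own Groth.Agent.* helpers here

set_option autoImplicit false
universe u v w
open Classical
open BGCount

namespace Groth.Agent.S18954

/-- Let a finite group G act on a finite set X, let W be a finite set of orbits and f a function on
orbits with values in a field of characteristic zero. Then Σ_{O ∈ W} f(O)/|Stab(x_O)|, with x_O any
point of O, equals |G|⁻¹ · Σ f(orbit(x)) over the points x of X whose orbit lies in W. (In the
source X is the set of 1-cocycles of the absolute Galois group of a field in a finite étale group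
scheme G, acted on by the geometric points of G, the orbits are the isomorphism classes of G-torsors
and the stabilisers their automorphism groups; stated here for an arbitrary action of a finite group
on a finite set, the representative x_O being chosen by Quotient.out.) -/
theorem result {G : Type u} {X : Type v} (𝕜 : Type w)
    [Group G] [Fintype G] [MulAction G X] [Fintype X] [Field 𝕜] [CharZero 𝕜]
    (W : Finset (MulAction.orbitRel.Quotient G X)) (f : MulAction.orbitRel.Quotient G X → 𝕜) :
    (∑ O ∈ W, f O / (Nat.card (MulAction.stabilizer G O.out) : 𝕜)) =
      (Fintype.card G : 𝕜)⁻¹ *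
        ∑ x ∈ Finset.univ.filter (fun x : X => (Quotient.mk (MulAction.orbitRel G X) x) ∈ W),
          f (Quotient.mk (MulAction.orbitRel G X) x) := by
  have hG : (Fintype.card G : 𝕜) ≠ 0 := by exact_mod_cast Fintype.card_ne_zero
  have key : ∀ b : X, (Nat.card (MulAction.orbit G b) : 𝕜) * (Nat.card (MulAction.stabilizer G b) : 𝕜) =
      (Fintype.card G : 𝕜) := by
    intro b
    have h1 := Subgroup.card_eq_card_quotient_mul_card_subgroup (MulAction.stabilizer G b)
    rw [← Nat.card_congr (MulAction.orbitEquivQuotientStabilizer G b),
      Nat.card_eq_fintype_card (α := G)] at h1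
    rw [h1]
    push_cast
    ring
  have hmem : ∀ (O : MulAction.orbitRel.Quotient G X) (x : X),
      x ∈ MulAction.orbit G O.out ↔ Quotient.mk (MulAction.orbitRel G X) x = O := by
    intro O x
    constructor
    · intro hx
      have : Quotient.mk (MulAction.orbitRel G X) x = Quotient.mk (MulAction.orbitRel G X) O.out :=
        Quotient.sound hx
      rw [this, Quotient.out_eq]
    · intro hx
      have : Quotient.mk (MulAction.orbitRel G X) x = Quotient.mk (MulAction.orbitRel G X) O.out := by
        rw [hx, Quotient.out_eq]
      exact Quotient.exact this
  rw [← Finset.sum_fiberwise_of_maps_to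
    (s := Finset.univ.filter fun x : X => Quotient.mk (MulAction.orbitRel G X) x ∈ W) (t := W)
    (g := fun x => Quotient.mk (MulAction.orbitRel G X) x)
    (fun x hx => (Finset.mem_filter.1 hx).2), Finset.mul_sum]
  refine Finset.sum_congr rfl fun O hO => ?_
  have h1 : ∑ x ∈ (Finset.univ.filter fun x : X => Quotient.mk (MulAction.orbitRel G X) x ∈ W) with
      Quotient.mk (MulAction.orbitRel G X) x = O, f (Quotient.mk (MulAction.orbitRel G X) x) =
      (Nat.card (MulAction.orbit G O.out) : 𝕜) * f O := by
    rw [Finset.sum_congr rfl (g := fun _ => f O) (fun x hx => by rw [(Finset.mem_filter.1 hx).2]),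
      Finset.sum_const, nsmul_eq_mul]
    congr 2
    rw [Nat.card_eq_fintype_card, Fintype.card_subtype]
    congr 1
    ext x
    simp only [Finset.mem_filter, Finset.mem_univ, true_and]
    constructor
    · rintro ⟨_, hx⟩
      exact (hmem O x).2 hx
    · intro hx
      have := (hmem O x).1 hx
      exact ⟨this ▸ hO, this⟩
  rw [h1]
  have hs : (Nat.card (MulAction.stabilizer G O.out) : 𝕜) ≠ 0 := by
    intro h0
    have := key O.out
    rw [h0, mul_zero] at this
    exact hG this.symm
  have ho : (Nat.card (MulAction.orbit G O.out) : 𝕜) ≠ 0 := by
    intro h0
    have := key O.out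
    rw [h0, zero_mul] at this
    exact hG this.symm
  rw [← key O.out]
  field_simp

end Groth.Agent.S18954
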