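import Groth.Statements.S18956
import Mathlib
import Groth.Agent.Helper9.FlatDom
-- import your own Groth.Agent.* helpers here

set_option autoImplicit false
universe u
open CategoryTheory MonoidalCategory CartesianMonoidalCategory MonObj AlgebraicGeometry Opposite
open Magnet

namespace Groth.Agent.S18956

/-- Let k be a field, M an affine monoid k-scheme, G an affine group k-scheme and i : G → M a
homomorphism of monoids which is a quasi-compact open immersion with scheme-theoretically dense
image. Let X be a k-scheme with an action aX of G, and j : Z → X a closed immersion which is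
G-equivariant for an action aZ of G on Z (a closed G-stable subscheme). For a G-scheme W write D_W
for the functor on k-schemes whose value at Y is the set of k-morphisms M ×_k Y → W that are
G-equivariant for G acting on M ×_k Y by left multiplication through i on the first factor. Then the
square of presheaves formed by D_Z → D_X (composition with j), the restrictions D_Z → Z and D_X → X
to the unit section of M, and j is cartesian. (The published statement takes G to be the group of
units of M, open and schematically dense; here it is assumed only that i is a homomorphism of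
monoids and a quasi-compact, scheme-theoretically dominant open immersion.) -/
theorem result (k : Type u) [Field k]
    (M G X Z : Over (Spec (CommRingCat.of k))) [MonObj M] [GrpObj G] [IsAffine M.left] [IsAffine G.left]
    (i : G ⟶ M) [IsMonHom i] [IsOpenImmersion i.left] [QuasiCompact i.left]
    [IsSchemeTheoreticallyDominant i.left]
    (aX : AlgGrp.Action G X) (aZ : AlgGrp.Action G Z) (j : Z ⟶ X) [IsClosedImmersion j.left]
    (hj : Magnet.MonAct.IsEquivariant (Magnet.MonAct.ofAction aZ) (Magnet.MonAct.ofAction aX) j) :
    IsPullback
      (Magnet.MonAct.eqvHom.postcomp ((Magnet.MonAct.regular M).restrict i) j hj)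
      (Magnet.MonAct.eqvHom.evalAt ((Magnet.MonAct.regular M).restrict i) (Magnet.MonAct.ofAction aZ) η[M])
      (Magnet.MonAct.eqvHom.evalAt ((Magnet.MonAct.regular M).restrict i) (Magnet.MonAct.ofAction aX) η[M])
      (yoneda.map j) := by
  haveI : Mono j.left := inferInstance
  haveI : Mono j := (Over.forget _).mono_of_mono_map ‹Mono j.left›
  apply IsPullback.of_forall_isPullback_app
  intro T
  rw [Limits.Types.isPullback_iff]
  refine ⟨?_, ?_, ?_⟩
  · ext φ
    exact (Category.assoc _ _ _).symm
  · rintro φ₁ φ₂ ⟨h1, -⟩
    have h2 : φ₁.1 ≫ j = φ₂.1 ≫ j := congrArg Subtype.val h1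
    exact Subtype.ext ((cancel_mono j).mp h2)
  · intro φY z hz
    have hz' : lift (toUnit (unop T) ≫ η[M]) (𝟙 (unop T)) ≫ φY.1 = z ≫ j := hz
    haveI := Groth.Agent.Helper9.FlatDom.dom_whiskerRight k i (unop T)
    have hk : ((G ◁ z) ≫ (Magnet.MonAct.ofAction aZ).act).left ≫ j.left =
        (i ▷ (unop T)).left ≫ φY.1.left := by
      rw [← Over.comp_left, ← Over.comp_left,
        Groth.Agent.Helper9.FlatDom.key i (Magnet.MonAct.ofAction aX) (unop T) φY, hz',
        MonoidalCategory.whiskerLeft_comp, Category.assoc, Category.assoc]
      congr 2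
    obtain ⟨ψ, hψ⟩ := Groth.Agent.Helper9.SchDom.exists_lift_of_schDominant
      (i ▷ (unop T)).left φY.1.left j.left _ hk
    let φZ : M ⊗ (unop T) ⟶ Z := Over.homMk ψ (by
      have e1 : Z.hom = j.left ≫ X.hom := (Over.w j).symm
      rw [e1, ← Category.assoc, hψ]
      exact Over.w φY.1)
    have hφZ : φZ ≫ j = φY.1 := by
      apply Over.OverMorphism.ext
      exact hψ
    have heq : Magnet.MonAct.IsEquivariant
        (((Magnet.MonAct.regular M).restrict i).prod (Magnet.MonAct.trivial G (unop T)))
        (Magnet.MonAct.ofAction aZ) φZ := by
      unfold Magnet.MonAct.IsEquivariant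
      rw [← cancel_mono j, Category.assoc, hφZ, Category.assoc]
      have h3 : (Magnet.MonAct.ofAction aZ).act ≫ j = (G ◁ j) ≫ (Magnet.MonAct.ofAction aX).act := hj
      rw [h3, ← MonoidalCategory.whiskerLeft_comp_assoc, hφZ]
      exact φY.2
    refine ⟨⟨φZ, heq⟩, ?_, ?_⟩
    · exact Subtype.ext hφZ
    · change lift (toUnit (unop T) ≫ η[M]) (𝟙 (unop T)) ≫ φZ = z
      rw [← cancel_mono j, Category.assoc, hφZ]
      exact hz'

end Groth.Agent.S18956
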