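import Groth.Statements.S18957
import Mathlib
import Groth.Agent.Helper9.FlatDom
-- import your own Groth.Agent.* helpers here

set_option autoImplicit false
universe u
open CategoryTheory MonoidalCategory CartesianMonoidalCategory MonObj AlgebraicGeometry Opposite
open Magnet

namespace Groth.Agent.S18957

/-- Let k be a field, M a monoid k-scheme with an action a on a k-scheme X, G a group k-scheme and i : G
→ M a homomorphism of monoids which is a quasi-compact open immersion with scheme-theoretically
dense image. Let j : Z → X be a closed immersion and b an action of G on Z for which j is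
equivariant, G acting on X through i and a (a closed G-stable subscheme). Then the G-action on Z
extends to an M-action making j equivariant: there is an action c of M on Z such that j is
equivariant for c and a and the restriction of c along i is b. (The published statement takes G to
be the group of units of M, schematically dense in M; here it is assumed only that i is a
homomorphism of monoids and a quasi-compact, scheme-theoretically dominant open immersion.) -/
theorem result (k : Type u) [Field k]
    (M G X Z : Over (Spec (CommRingCat.of k))) [MonObj M] [GrpObj G]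
    (i : G ⟶ M) [IsMonHom i] [IsOpenImmersion i.left] [QuasiCompact i.left]
    [IsSchemeTheoreticallyDominant i.left]
    (a : Magnet.MonAct M X) (b : AlgGrp.Action G Z) (j : Z ⟶ X) [IsClosedImmersion j.left]
    (hj : Magnet.MonAct.IsEquivariant (Magnet.MonAct.ofAction b) (a.restrict i) j) :
    ∃ c : Magnet.MonAct M Z, Magnet.MonAct.IsEquivariant c a j ∧ c.restrict i = Magnet.MonAct.ofAction b := by
  haveI : Mono j.left := inferInstance
  haveI : Mono j := (Over.forget _).mono_of_mono_map ‹Mono j.left›
  haveI := Groth.Agent.Helper9.FlatDom.dom_whiskerRight k i Z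
  have hj' : b.act ≫ j = (i ▷ Z) ≫ (M ◁ j) ≫ a.act := by
    have h1 : (Magnet.MonAct.ofAction b).act ≫ j = (G ◁ j) ≫ (a.restrict i).act := hj
    rw [Magnet.MonAct.restrict_act, whisker_exchange_assoc] at h1
    exact h1
  have hk : b.act.left ≫ j.left = (i ▷ Z).left ≫ ((M ◁ j) ≫ a.act).left := by
    rw [← Over.comp_left, ← Over.comp_left, hj']
  obtain ⟨ψ, hψ⟩ := Groth.Agent.Helper9.SchDom.exists_lift_of_schDominant
    (i ▷ Z).left ((M ◁ j) ≫ a.act).left j.left _ hk
  let cact : M ⊗ Z ⟶ Z := Over.homMk ψ (by
    have e1 : Z.hom = j.left ≫ X.hom := (Over.w j).symm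
    rw [e1, ← Category.assoc, hψ]
    exact Over.w ((M ◁ j) ≫ a.act))
  have hc : cact ≫ j = (M ◁ j) ≫ a.act := by
    apply Over.OverMorphism.ext
    exact hψ
  let c : Magnet.MonAct M Z := Magnet.MonAct.mk' cact
    (fun T x => by
      rw [← cancel_mono j, Category.assoc, hc, lift_whiskerLeft_assoc, a.lift_one_act])
    (fun T g h x => by
      rw [← cancel_mono j, Category.assoc, hc, lift_whiskerLeft_assoc, a.lift_mul_act,
        Category.assoc, hc, lift_whiskerLeft_assoc, Category.assoc, hc, lift_whiskerLeft_assoc])
  refine ⟨c, ?_, ?_⟩
  · exact hc
  · apply Magnet.MonAct.ext'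
    rw [Magnet.MonAct.restrict_act]
    change (i ▷ Z) ≫ cact = b.act
    rw [← cancel_mono j, Category.assoc, hc, hj']

end Groth.Agent.S18957
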