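import Groth.Statements.S18958
import Mathlib
import Groth.Agent.Helper9.OpenZero
-- import your own Groth.Agent.* helpers here

set_option autoImplicit false
universe u
open CategoryTheory MonoidalCategory CartesianMonoidalCategory MonObj AlgebraicGeometry Opposite
open Magnet

namespace Groth.Agent.S18958

/-- Let k be a field, G a group k-scheme and M a monoid k-scheme with a homomorphism of monoids i : G →
M and a zero o : Spec k → M (m·o = o = o·m for every point m of M). Assume that for every k-scheme T
whose underlying scheme is the spectrum of a field K, every open subset of M ×_k T which is stable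
under G acting by left multiplication through i on the first factor and which contains the zero
section T → M ×_k T is the whole of M ×_k T. Let X be a k-scheme with an action aX of G and j : U →
X an open immersion, G-equivariant for an action aU of G on U (an open G-stable subscheme). For a
G-scheme W write D_W for the functor on k-schemes whose value at Y is the set of k-morphisms M ×_k Y
→ W that are G-equivariant for G acting on M ×_k Y by left multiplication through i on the first
factor. Then the square of presheaves formed by D_U → D_X (composition with j), the restrictions D_U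
→ U and D_X → X to the zero section of M, and j is cartesian. (In the source M is a Kempf monoid
with G its group of units, and the restriction to the zero section is viewed as the retraction of
D_X onto the fixed points X^G; the displayed property of the open G-stable subsets of M over field
extensions is what the argument uses about M, and the square over X^G is cartesian exactly when the
one over X is, U^G being X^G ×_X U.) -/
theorem result (k : Type u) [Field k]
    (M G X U : Over (Spec (CommRingCat.of k))) [MonObj M] [GrpObj G] (i : G ⟶ M) [IsMonHom i]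
    (o : 𝟙_ (Over (Spec (CommRingCat.of k))) ⟶ M)
    (ho : ∀ (T : Over (Spec (CommRingCat.of k))) (m : T ⟶ M), m * (toUnit T ≫ o) = toUnit T ≫ o ∧ (toUnit T ≫ o) * m = toUnit T ≫ o)
    (hM : ∀ (T : Over (Spec (CommRingCat.of k))) (K : Type u) [Field K] (eT : T.left ≅ Spec (CommRingCat.of K))
      (W : (M ⊗ T).left.Opens),
      (CartesianMonoidalCategory.snd G (M ⊗ T)).left ⁻¹ᵁ W ≤
          ((((Magnet.MonAct.regular M).restrict i).prod (Magnet.MonAct.trivial G T)).act).left ⁻¹ᵁ W →
      (CartesianMonoidalCategory.lift (toUnit T ≫ o) (𝟙 T)).left ⁻¹ᵁ W = ⊤ → W = ⊤)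
    (aX : AlgGrp.Action G X) (aU : AlgGrp.Action G U) (j : U ⟶ X) [IsOpenImmersion j.left]
    (hj : Magnet.MonAct.IsEquivariant (Magnet.MonAct.ofAction aU) (Magnet.MonAct.ofAction aX) j) :
    IsPullback
      (Magnet.MonAct.eqvHom.postcomp ((Magnet.MonAct.regular M).restrict i) j hj)
      (Magnet.MonAct.eqvHom.evalAt ((Magnet.MonAct.regular M).restrict i) (Magnet.MonAct.ofAction aU) o)
      (Magnet.MonAct.eqvHom.evalAt ((Magnet.MonAct.regular M).restrict i) (Magnet.MonAct.ofAction aX) o)
      (yoneda.map j) := by
  haveI : Mono j.left := inferInstance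
  haveI : Mono j := (Over.forget _).mono_of_mono_map ‹Mono j.left›
  apply IsPullback.of_forall_isPullback_app
  intro T
  rw [Limits.Types.isPullback_iff]
  refine ⟨?_, ?_, ?_⟩
  · ext φ
    exact (Category.assoc _ _ _).symm
  · rintro φ₁ φ₂ ⟨h1, -⟩
    have h2 : φ₁.1 ≫ j = φ₂.1 ≫ j := congrArg Subtype.val h1
    exact Subtype.ext ((cancel_mono j).mp h2)
  · intro φY z hz
    have hz' : lift (toUnit (unop T) ≫ o) (𝟙 (unop T)) ≫ φY.1 = z ≫ j := hz
    have hrange : Set.range φY.1.left ⊆ Set.range j.left :=
      Groth.Agent.Helper9.OpenZero.range_subset k M G X U i o hM (Magnet.MonAct.ofAction aX)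
        (Magnet.MonAct.ofAction aU) j hj (unop T) φY.1 φY.2 z hz'
    have hψ : IsOpenImmersion.lift j.left φY.1.left hrange ≫ j.left = φY.1.left :=
      IsOpenImmersion.lift_fac _ _ _
    let φU : M ⊗ (unop T) ⟶ U := Over.homMk (IsOpenImmersion.lift j.left φY.1.left hrange) (by
      have e1 : U.hom = j.left ≫ X.hom := (Over.w j).symm
      rw [e1, ← Category.assoc, hψ]
      exact Over.w φY.1)
    have hφU : φU ≫ j = φY.1 := by
      apply Over.OverMorphism.ext
      exact hψ
    have heq : Magnet.MonAct.IsEquivariant
        (((Magnet.MonAct.regular M).restrict i).prod (Magnet.MonAct.trivial G (unop T)))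
        (Magnet.MonAct.ofAction aU) φU := by
      unfold Magnet.MonAct.IsEquivariant
      rw [← cancel_mono j, Category.assoc, hφU, Category.assoc]
      have h3 : (Magnet.MonAct.ofAction aU).act ≫ j = (G ◁ j) ≫ (Magnet.MonAct.ofAction aX).act := hj
      rw [h3, ← MonoidalCategory.whiskerLeft_comp_assoc, hφU]
      exact φY.2
    refine ⟨⟨φU, heq⟩, ?_, ?_⟩
    · exact Subtype.ext hφU
    · change lift (toUnit (unop T) ≫ o) (𝟙 (unop T)) ≫ φU = z
      rw [← cancel_mono j, Category.assoc, hφU]
      exact hz'

end Groth.Agent.S18958
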