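import Groth.Statements.S1896
import Groth.Agent.S4637
import Groth.Agent.Helper4.StalkExact
import Groth.Agent.Helper4.EpiStalk
import Mathlib

set_option autoImplicit false
universe u
open CategoryTheory AlgebraicGeometry
open Cyc

namespace Groth.Agent.S1896

/-- For a short exact sequence 0 → F → G → H → 0 of coherent O_X-modules (X locally Noetherian with
dimension function δ) whose supports have δ-dimension at most k, one has [G]_k = [F]_k + [H]_k
coefficientwise. Here (X, δ) satisfies Cyc.IsSetup (X locally Noetherian with universally catenary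
local rings, δ a dimension function). -/
theorem result (X : Scheme.{u}) (δ : X → ℤ) (hX : Cyc.IsSetup X δ) (k : ℤ) (T : ShortComplex X.Modules) (hT : T.ShortExact) (h₁ : Coh.IsCoh T.X₁) (h₂ : Coh.IsCoh T.X₂) (h₃ : Coh.IsCoh T.X₃) (hdim : ∀ x : X, Nontrivial (T.X₂.presheaf.stalk x) → δ x ≤ k) : Cyc.sheafFun δ k T.X₂ = Cyc.sheafFun δ k T.X₁ + Cyc.sheafFun δ k T.X₃ := by
  funext x
  simp only [Pi.add_apply]
  unfold Cyc.sheafFun
  split_ifs with hk
  · haveI := hT.mono_f
    haveI := hT.epi_g
    have hinj := Groth.Agent.Helper4.StalkExact.stalkLin_injective T.f x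
    have hsurj := Groth.Agent.Helper4.EpiStalk.stalkLin_surjective_of_epi T.g x
    have hex := Groth.Agent.Helper4.StalkExact.stalkLin_exact T hT.exact x
    have hadd := Module.length_eq_add_of_exact _ _ hinj hsurj hex
    have hfin : Module.length (X.presheaf.stalk x) (T.X₂.presheaf.stalk x) ≠ ⊤ := by
      by_cases hnt : Nontrivial (T.X₂.presheaf.stalk x)
      · haveI := hX.1
        have h4 := (Groth.Agent.S4637.result T.X₂ h₂ x).mp ⟨hnt, fun y hy hyx => by
          by_contra hne
          have h5 := (hX.2.2 y x hyx hne).1
          have h6 := hdim y hy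
          omega⟩
        exact Module.length_ne_top_iff.mpr h4.2
      · rw [not_nontrivial_iff_subsingleton] at hnt
        rw [Module.length_eq_zero]
        exact ENat.zero_ne_top
    rw [hadd] at hfin ⊢
    rw [ENat.toNat_add (ne_top_of_le_ne_top hfin le_self_add) (ne_top_of_le_ne_top hfin le_add_self)]
    push_cast
    rfl
  · simp

end Groth.Agent.S1896
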