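import Groth.Statements.S18960
import Mathlib
-- import your own Groth.Agent.* helpers here

set_option autoImplicit false
universe w' w v u
open CategoryTheory Limits
open CatLim

namespace Groth.Agent.S18960

theorem aux {C : Type u} [Category.{v} C] (T : C ⥤ C) {X Y Z : C} (ιj : X ⟶ Y) (d : Y ⟶ Z) (fj : X ⟶ Z)
    (sX : T.obj X ⟶ X) (sY : T.obj Y ⟶ Y) (sZ : T.obj Z ⟶ Z) (h1 : ιj ≫ d = fj)
    (h2 : T.map fj ≫ sZ = sX ≫ fj) (he : T.map ιj ≫ sY = sX ≫ ιj) :
    T.map ιj ≫ T.map d ≫ sZ = T.map ιj ≫ sY ≫ d := by
  rw [← T.map_comp_assoc, h1, h2, ← Category.assoc, he, Category.assoc, h1]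

/-- Let C be a category and T an endofunctor of C; let C(T) be the category whose objects are pairs (X,
u) with u : T X → X an isomorphism and whose morphisms (X, u) → (Y, w) are the morphisms X → Y
compatible with u and w — the full subcategory of T-algebras with invertible structure map — and let
π : C(T) → C be the forgetful functor. If T preserves colimits of shape J then π creates colimits of
shape J. (The source assumes T preserves all small colimits and concludes for all small shapes; the
argument is shape by shape.) -/
theorem result {C : Type u} [Category.{v} C] (T : C ⥤ C)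
    (J : Type w) [Category.{w'} J] [PreservesColimitsOfShape J T] :
    Nonempty (CreatesColimitsOfShape J
      ((ObjectProperty.ι (fun A : Endofunctor.Algebra T => IsIso A.str)) ⋙ Endofunctor.Algebra.forget T)) := by
  refine ⟨⟨fun {K} => createsColimitOfReflectsIso fun c t => ?_⟩⟩
  -- abbreviations
  let π := (ObjectProperty.ι (fun A : Endofunctor.Algebra T => IsIso A.str)) ⋙ Endofunctor.Algebra.forget T
  have tT : IsColimit (T.mapCocone c) := isColimitOfPreserves T t
  let α : (K ⋙ π) ⋙ T ⟶ K ⋙ π :=
    { app := fun j => (K.obj j).obj.str
      naturality := fun j j' f => (K.map f).hom.h }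
  haveI : ∀ j, IsIso (α.app j) := fun j => (K.obj j).property
  haveI : IsIso α := NatIso.isIso_of_isIso_app α
  let e : T.obj c.pt ≅ c.pt := IsColimit.coconePointsIsoOfNatIso tT t (asIso α)
  have he : ∀ j, T.map (c.ι.app j) ≫ e.hom = (K.obj j).obj.str ≫ c.ι.app j := fun j =>
    IsColimit.comp_coconePointsIsoOfNatIso_hom tT t (asIso α) j
  let pt : ObjectProperty.FullSubcategory (fun A : Endofunctor.Algebra T => IsIso A.str) :=
    ⟨⟨c.pt, e.hom⟩, (inferInstance : IsIso e.hom)⟩
  let lifted : Cocone K :=
    { pt := pt
      ι :=
        { app := fun j => ObjectProperty.homMk ⟨c.ι.app j, he j⟩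
          naturality := fun j j' f => by
            apply ObjectProperty.hom_ext
            apply Endofunctor.Algebra.Hom.ext
            change (K.map f).hom.f ≫ c.ι.app j' = c.ι.app j ≫ 𝟙 c.pt
            exact c.ι.naturality f } }
  refine
    { liftedCocone := lifted
      validLift := Cocone.ext (Iso.refl _) (fun j => Category.comp_id _)
      makesColimit :=
        { desc := fun s => ObjectProperty.homMk ⟨t.desc (π.mapCocone s), by
            let d : c.pt ⟶ s.pt.obj.a := t.desc (π.mapCocone s)
            change T.map d ≫ s.pt.obj.str = e.hom ≫ d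
            apply tT.hom_ext
            intro j
            exact aux T (c.ι.app j) d (s.ι.app j).hom.f (K.obj j).obj.str e.hom s.pt.obj.str
              (t.fac (π.mapCocone s) j) (s.ι.app j).hom.h (he j)⟩
          fac := fun s j => by
            apply ObjectProperty.hom_ext
            apply Endofunctor.Algebra.Hom.ext
            exact t.fac (π.mapCocone s) j
          uniq := fun s m hm => by
            apply ObjectProperty.hom_ext
            apply Endofunctor.Algebra.Hom.ext
            apply t.uniq (π.mapCocone s) m.hom.f
            intro j
            have := congrArg (fun x => x.hom.f) (hm j)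
            exact this } }

end Groth.Agent.S18960
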