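import Groth.Statements.S19005
import Mathlib
-- import your own Groth.Agent.* helpers here

set_option autoImplicit false
open scoped TensorProduct
open K2Cent

namespace Groth.Agent.S19005

/-- For abelian groups X and M and ε in M with 2ε = 0 (in the source X is the character group of a split
torus and ε is the class of −1 among the units), the map x ↦ (x ⊗ x, −(x ⊗ ε)) into (X ⊗ X) × (X ⊗
M) is quadratic over ℤ, i.e. it underlies an integer quadratic map with exactly these values. -/
theorem result (X M : Type*) [AddCommGroup X]
    [AddCommGroup M] (ε : M) (hε : 2 • ε = 0) :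
    ∃ R : QuadraticMap ℤ X (TensorProduct ℤ X X × TensorProduct ℤ X M),
      ∀ x : X, R x = (x ⊗ₜ[ℤ] x, -(x ⊗ₜ[ℤ] ε)) := by
  classical
  -- the first component
  let Q1 : QuadraticMap ℤ X (TensorProduct ℤ X X) :=
    LinearMap.BilinMap.toQuadraticMap (TensorProduct.mk ℤ X X)
  -- the additive map x ↦ -(x ⊗ ε), killed by 2
  let L : X →ₗ[ℤ] TensorProduct ℤ X M := -((TensorProduct.mk ℤ X M).flip ε)
  have hL : ∀ x, L x = -(x ⊗ₜ[ℤ] ε) := fun x => rfl
  have h2L : ∀ x, (2 : ℤ) • L x = 0 := by
    intro x
    rw [hL, smul_neg, ← TensorProduct.tmul_smul]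
    have : (2 : ℤ) • ε = 0 := by
      have := hε
      rw [← natCast_zsmul] at this
      simpa using this
    rw [this, TensorProduct.tmul_zero, neg_zero]
  let Q2 : QuadraticMap ℤ X (TensorProduct ℤ X M) :=
    { toFun := L
      toFun_smul := by
        intro a x
        rw [map_smul]
        -- a • y = (a*a) • y when 2 • y = 0
        have hev : (2 : ℤ) ∣ a * a - a := by
          have : a * a - a = a * (a - 1) := by ring
          rw [this]
          exact Int.even_mul_pred_self a |>.two_dvd
        obtain ⟨c, hc⟩ := hev
        have : (a * a) • L x = a • L x + (a * a - a) • L x := by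
          rw [← add_smul]; congr 1; ring
        rw [this, hc, mul_comm, mul_smul, h2L, smul_zero, add_zero]
      exists_companion' := ⟨0, fun x y => by simp⟩ }
  refine ⟨(LinearMap.inl ℤ _ _).compQuadraticMap Q1 + (LinearMap.inr ℤ _ _).compQuadraticMap Q2, ?_⟩
  intro x
  simp only [add_apply, LinearMap.compQuadraticMap_apply, LinearMap.inl_apply,
    LinearMap.inr_apply, Prod.mk_add_mk, add_zero, zero_add]
  rfl

end Groth.Agent.S19005
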