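import Groth.Statements.S19006
import Mathlib
-- import your own Groth.Agent.* helpers here

set_option autoImplicit false
universe u v w x
open RootD

namespace Groth.Agent.S19006

/-- For a root pairing over an integral domain of characteristic zero, a quadratic form Q on the
coweight module N with polar form B, and a root α with coroot α^∨, the form Q is invariant under the
reflection attached to α acting on N if and only if B(y, α^∨) = ⟨α, y⟩ Q(α^∨) for all y in N. (The
source states this for integer-valued forms on the cocharacter lattice of a split reductive group;
here the form takes values in the base ring of the pairing.) -/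
theorem result {ι : Type u} {R : Type v} {M : Type w} {N : Type x} [CommRing R] [IsDomain R] [CharZero R]
    [AddCommGroup M] [Module R M] [AddCommGroup N] [Module R N] (P : RootPairing ι R M N)
    (Q : QuadraticMap R N R) (j : ι) :
    (∀ y : N, Q (P.coreflection j y) = Q y) ↔
      ∀ y : N, QuadraticMap.polar Q y (P.coroot j) = P.root' j y * Q (P.coroot j) := by
  set v := P.coroot j with hv
  have hvv : P.root' j v = 2 := by
    rw [hv, RootPairing.root'_coroot_eq_pairing, RootPairing.pairing_same]
  -- key expansion
  have key : ∀ y : N, Q (P.coreflection j y) =
      Q y + (P.root' j y * P.root' j y) * Q v - P.root' j y * QuadraticMap.polar Q y v := by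
    intro y
    rw [RootPairing.coreflection_apply, sub_eq_add_neg, ← neg_smul, QuadraticMap.map_add (⇑Q),
      QuadraticMap.map_smul, QuadraticMap.polar_smul_right]
    simp only [smul_eq_mul]
    ring
  have h2 : (2 : R) ≠ 0 := two_ne_zero
  constructor
  · intro h y
    have hy := h y
    rw [key] at hy
    have hy' : P.root' j y * (P.root' j y * Q v - QuadraticMap.polar Q y v) = 0 := by
      linear_combination hy
    rcases mul_eq_zero.1 hy' with hc | hc
    · -- pairing zero: use y + v
      have hyv := h (y + v)
      rw [key, (P.root' j).map_add y v, hc, hvv, zero_add, QuadraticMap.polar_add_left, QuadraticMap.polar_self,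
        QuadraticMap.map_add (⇑Q) y v] at hyv
      simp only [nsmul_eq_mul, Nat.cast_ofNat] at hyv
      have : (2 : R) * QuadraticMap.polar Q y v = 0 := by linear_combination -hyv
      rcases mul_eq_zero.1 this with h' | h'
      · exact absurd h' h2
      · rw [h', hc, zero_mul]
    · linear_combination -hc
  · intro h y
    rw [key, h y]
    ring

end Groth.Agent.S19006
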