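import Groth.Statements.S19007
import Mathlib
import Groth.Agent.Helper9.RootQuad
-- import your own Groth.Agent.* helpers here

set_option autoImplicit false
universe u v w x
open RootD

namespace Groth.Agent.S19007

/-- Let P be a finite reduced crystallographic root pairing over an integral domain of characteristic
zero, b a base of P (a system of simple roots) and Q a quadratic form on the coweight module with
polar form B. Then Q is invariant under all root reflections (equivalently under the Weyl group) on
the span of the coroots if and only if for all pairs of distinct simple roots α_i ≠ α_j one has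
B(α_i^∨, α_j^∨) = ⟨α_j, α_i^∨⟩ Q(α_j^∨). (In the source the form is integer-valued on the lattice
spanned by the coroots and the condition says that the bilinear form lies in the kernel of the last
map of a three-term complex built from the Bruhat cells of codimension at most two; here the form
takes values in the base ring.) -/
theorem result {ι : Type u} {R : Type v} {M : Type w} {N : Type x} [CommRing R] [IsDomain R] [CharZero R]
    [AddCommGroup M] [Module R M] [AddCommGroup N] [Module R N] (P : RootPairing ι R M N)
    [Finite ι] [P.IsCrystallographic] [P.IsReduced] (b : P.Base) (Q : QuadraticMap R N R) :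
    (∀ i : ι, ∀ y ∈ Submodule.span R (Set.range P.coroot), Q (P.coreflection i y) = Q y) ↔
      ∀ i ∈ b.support, ∀ j ∈ b.support, i ≠ j →
        QuadraticMap.polar Q (P.coroot i) (P.coroot j) = P.pairing j i * Q (P.coroot j) := by
  classical
  constructor
  · intro hinv i _ j _ _
    have := Groth.Agent.Helper9.RootQuad.polar_coroot P (Submodule.span R (Set.range P.coroot)) j
      (Submodule.subset_span ⟨j, rfl⟩) Q (hinv j) (P.coroot i) (Submodule.subset_span ⟨i, rfl⟩)
    rw [this, P.root'_coroot_eq_pairing]
  · intro h
    have hSinv : ∀ i : ι, ∀ y ∈ Submodule.span R (Set.range P.coroot),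
        P.coreflection i y ∈ Submodule.span R (Set.range P.coroot) := by
      intro i y hy
      induction hy using Submodule.span_induction with
      | mem x hx =>
        obtain ⟨j, rfl⟩ := hx
        rw [← P.coroot_reflectionPerm]
        exact Submodule.subset_span ⟨_, rfl⟩
      | zero => simp
      | add x y _ _ hx hy => rw [map_add]; exact Submodule.add_mem _ hx hy
      | smul a x _ hx => rw [map_smul]; exact Submodule.smul_mem _ a hx
    -- step 1: polar against simple coroots on S
    have hstep1 : ∀ j ∈ b.support, ∀ y ∈ Submodule.span R (Set.range P.coroot),
        QuadraticMap.polar Q y (P.coroot j) = P.root' j y * Q (P.coroot j) := by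
      intro j hj y hy
      have hy' : y ∈ Submodule.span R (P.coroot '' b.support) := by
        rw [b.span_coroot_support]; exact hy
      have : (Q.polarBilin.flip (P.coroot j)) y
          = ((LinearMap.lsmul R R (Q (P.coroot j))) ∘ₗ (P.root' j)) y := by
        refine LinearMap.eqOn_span (f := Q.polarBilin.flip (P.coroot j))
          (g := (LinearMap.lsmul R R (Q (P.coroot j))) ∘ₗ (P.root' j)) ?_ hy'
        rintro _ ⟨i, hi, rfl⟩
        simp only [LinearMap.flip_apply, QuadraticMap.polarBilin_apply_apply, LinearMap.comp_apply,
          LinearMap.lsmul_apply, smul_eq_mul, P.root'_coroot_eq_pairing]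
        by_cases hij : i = j
        · subst hij
          rw [QuadraticMap.polar_self, P.pairing_same, two_smul]; ring
        · rw [h i hi j hj hij]; ring
      simp only [LinearMap.flip_apply, QuadraticMap.polarBilin_apply_apply, LinearMap.comp_apply,
        LinearMap.lsmul_apply, smul_eq_mul] at this
      rw [this]; ring
    intro i
    refine b.induction_reflect i (p := fun i => ∀ y ∈ Submodule.span R (Set.range P.coroot),
      Q (P.coreflection i y) = Q y) ?_ ?_ ?_
    · intro i hi y hy
      have : P.coreflection (P.reflectionPerm i i) y = P.coreflection i y := by
        rw [P.coreflection_apply, P.coreflection_apply]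
        have h1 : P.coroot (P.reflectionPerm i i) = - P.coroot i := by
          rw [P.coroot_reflectionPerm, P.coreflection_apply_self]
        have h2 : P.root (P.reflectionPerm i i) = - P.root i := by
          rw [P.root_reflectionPerm, P.reflection_apply_self]
        rw [h1]
        simp only [RootPairing.root', h2, map_neg, LinearMap.neg_apply, neg_smul, smul_neg, neg_neg]
      rw [this]
      exact hi y hy
    · intro j hj y hy
      rw [P.coreflection_apply, sub_eq_add_neg, ← neg_smul, QuadraticMap.map_add (⇑Q),
        QuadraticMap.map_smul, QuadraticMap.polar_smul_right, hstep1 j hj y hy]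
      simp only [smul_eq_mul]
      ring
    · intro i j hi hj y hy
      have hrr : P.coreflection (P.reflectionPerm j i) =
          P.coreflection j * P.coreflection i * P.coreflection j :=
        P.flip.reflection_reflectionPerm
      have hj' : ∀ y ∈ Submodule.span R (Set.range P.coroot), Q (P.coreflection j y) = Q y := by
        intro y hy
        rw [P.coreflection_apply, sub_eq_add_neg, ← neg_smul, QuadraticMap.map_add (⇑Q),
          QuadraticMap.map_smul, QuadraticMap.polar_smul_right, hstep1 j hj y hy]
        simp only [smul_eq_mul]
        ring
      rw [hrr]
      simp only [LinearEquiv.mul_apply]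
      rw [hj' _ (hSinv i _ (hSinv j _ hy)), hi _ (hSinv j _ hy), hj' _ hy]

end Groth.Agent.S19007
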