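import Groth.Statements.S19009
import Mathlib
import Groth.Agent.Helper9.RootQuad
-- import your own Groth.Agent.* helpers here

set_option autoImplicit false
universe u v w x
open RootD

namespace Groth.Agent.S19009

/-- Let P be a root pairing over an integral domain R of characteristic zero (roots α acting on the
coweight module N through reflections y ↦ y − ⟨α, y⟩ α^∨), D ⊆ N a submodule containing every coroot
and such that every element of D has a positive integer multiple in the span of the coroots (the
derived part), and Y₀ a complement of D in N. Let Q_d be a quadratic form on N whose restriction to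
D is invariant under all root reflections. Then there is a quadratic form on N, invariant under all
root reflections and agreeing with Q_d on D, if and only if there is an R-bilinear form Φ on N with
Φ(y₀, α^∨) = ⟨α, y₀⟩ Q_d(α^∨) for all y₀ in Y₀ and all roots α. (In the source R = ℤ, N = Y₀ ⊕ Y_der
is the cocharacter lattice of a split reductive group, and the condition is phrased as integrality
on Y₀ × Y_der of the pairing y₀, y ↦ B(q(y₀), y) deduced from the polar form B of Q_d; that pairing
is characterised by the displayed values on coroots, only the values of Φ on Y₀ × D matter, and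
forms take values in R here.) -/
theorem result {ι : Type u} {R : Type v} {M : Type w} {N : Type x} [CommRing R] [IsDomain R] [CharZero R]
    [AddCommGroup M] [Module R M] [AddCommGroup N] [Module R N] (P : RootPairing ι R M N)
    (D Y₀ : Submodule R N) (hD : ∀ i : ι, P.coroot i ∈ D)
    (hDsat : ∀ y ∈ D, ∃ n : ℕ, 0 < n ∧ n • y ∈ Submodule.span R (Set.range P.coroot))
    (hc : IsCompl Y₀ D)
    (Qd : QuadraticMap R N R) (hQd : ∀ i : ι, ∀ y ∈ D, Qd (P.coreflection i y) = Qd y) :
    (∃ Q : QuadraticMap R N R, (∀ (i : ι) (y : N), Q (P.coreflection i y) = Q y) ∧ ∀ y ∈ D, Q y = Qd y) ↔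
      ∃ Φ : N →ₗ[R] N →ₗ[R] R, ∀ y₀ ∈ Y₀, ∀ i : ι,
        Φ y₀ (P.coroot i) = P.root' i y₀ * Qd (P.coroot i) := by
  classical
  constructor
  · rintro ⟨Q, hinv, hQD⟩
    refine ⟨Q.polarBilin, ?_⟩
    intro y₀ _ i
    rw [QuadraticMap.polarBilin_apply_apply,
      Groth.Agent.Helper9.RootQuad.polar_coroot P ⊤ i trivial Q (fun y _ => hinv i y) y₀ trivial,
      hQD _ (hD i)]
  · rintro ⟨Φ, hΦ⟩
    let π₀ : N →ₗ[R] N := Y₀.subtype ∘ₗ Submodule.projectionOnto Y₀ D hc
    let πD : N →ₗ[R] N := D.subtype ∘ₗ Submodule.projectionOnto D Y₀ hc.symm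
    have hπ₀mem : ∀ y, π₀ y ∈ Y₀ := fun y => Submodule.coe_mem _
    have hπDmem : ∀ y, πD y ∈ D := fun y => Submodule.coe_mem _
    have hπ₀D : ∀ d ∈ D, π₀ d = 0 := by
      intro d hd
      simp only [π₀, LinearMap.comp_apply, Submodule.projectionOnto_apply_of_mem_right hc hd,
        map_zero]
    have hπDD : ∀ d ∈ D, πD d = d := by
      intro d hd
      simp only [πD, LinearMap.comp_apply, Submodule.projectionOnto_apply_of_mem_left hc.symm hd,
        Submodule.subtype_apply]
    have hsum : ∀ y, π₀ y + πD y = y := by
      intro y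
      obtain ⟨y₀, hy₀, d, hd, rfl⟩ : ∃ y₀ ∈ Y₀, ∃ d ∈ D, y₀ + d = y := by
        have : y ∈ Y₀ ⊔ D := by rw [hc.sup_eq_top]; trivial
        exact Submodule.mem_sup.1 this
      simp only [π₀, πD, LinearMap.comp_apply, map_add,
        Submodule.projectionOnto_apply_of_mem_right hc hd,
        Submodule.projectionOnto_apply_of_mem_left hc hy₀,
        Submodule.projectionOnto_apply_of_mem_right hc.symm hy₀,
        Submodule.projectionOnto_apply_of_mem_left hc.symm hd, Submodule.subtype_apply,
        add_zero, zero_add, map_zero]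
    let B : LinearMap.BilinMap R N R := Φ.compl₁₂ π₀ πD
    refine ⟨Qd.comp πD + B.toQuadraticMap, ?_, ?_⟩
    · intro i y
      have h1 : π₀ (P.coreflection i y) = π₀ y := by
        rw [P.coreflection_apply, map_sub, map_smul, hπ₀D _ (hD i), smul_zero, sub_zero]
      have h2 : πD (P.coreflection i y) = πD y - P.root' i y • P.coroot i := by
        rw [P.coreflection_apply, map_sub, map_smul, hπDD _ (hD i)]
      simp only [add_apply, QuadraticMap.comp_apply, LinearMap.BilinMap.toQuadraticMap_apply, B,
        LinearMap.compl₁₂_apply, h1, h2]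
      have hpol := Groth.Agent.Helper9.RootQuad.polar_coroot P D i (hD i) Qd (hQd i) (πD y) (hπDmem y)
      have hΦ' := hΦ (π₀ y) (hπ₀mem y) i
      have hc' : P.root' i y = P.root' i (π₀ y) + P.root' i (πD y) := by
        rw [← map_add, hsum]
      rw [sub_eq_add_neg, ← neg_smul, QuadraticMap.map_add (⇑Qd), QuadraticMap.map_smul,
        QuadraticMap.polar_smul_right, hpol, map_add, map_smul, hΦ']
      simp only [smul_eq_mul]
      rw [hc']
      ring
    · intro d hd
      simp only [add_apply, QuadraticMap.comp_apply, LinearMap.BilinMap.toQuadraticMap_apply, B,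
        LinearMap.compl₁₂_apply, hπ₀D d hd, hπDD d hd, map_zero, LinearMap.zero_apply, add_zero]

end Groth.Agent.S19009
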