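import Groth.Statements.S19010
import Mathlib
import Groth.Agent.Helper9.RootQuad
-- import your own Groth.Agent.* helpers here

set_option autoImplicit false
universe u v w x
open RootD

namespace Groth.Agent.S19010

/-- Let P be a root pairing over an integral domain R of characteristic zero (roots α acting on the
coweight module N through reflections y ↦ y − ⟨α, y⟩ α^∨), D ⊆ N a submodule containing every coroot
and such that every element of D has a positive integer multiple in the span of the coroots (the
derived part), and Y₀ a complement of D in N. Let Q' be a quadratic form on N invariant under all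
root reflections. Then restriction to Y₀ is a bijection from the set of quadratic forms on N that
are invariant under all root reflections and agree with Q' on D onto the set of all quadratic forms
on Y₀. (In the source R = ℤ and N = Y₀ ⊕ Y_der is the cocharacter lattice of a split reductive
group; forms take values in R here.) -/
theorem result {ι : Type u} {R : Type v} {M : Type w} {N : Type x} [CommRing R] [IsDomain R] [CharZero R]
    [AddCommGroup M] [Module R M] [AddCommGroup N] [Module R N] (P : RootPairing ι R M N)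
    (D Y₀ : Submodule R N) (hD : ∀ i : ι, P.coroot i ∈ D)
    (hDsat : ∀ y ∈ D, ∃ n : ℕ, 0 < n ∧ n • y ∈ Submodule.span R (Set.range P.coroot))
    (hc : IsCompl Y₀ D)
    (Q' : QuadraticMap R N R) (hQ' : ∀ (i : ι) (y : N), Q' (P.coreflection i y) = Q' y) :
    Set.BijOn (fun Q : QuadraticMap R N R => Q.comp Y₀.subtype)
      {Q | (∀ (i : ι) (y : N), Q (P.coreflection i y) = Q y) ∧ ∀ y ∈ D, Q y = Q' y} Set.univ := by
  classical
  have hcast : ∀ n : ℕ, 0 < n → (n : R) ≠ 0 := fun n hn => Nat.cast_ne_zero.2 hn.ne'
  refine ⟨fun _ _ => Set.mem_univ _, ?_, ?_⟩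
  · -- injectivity
    rintro Q₁ ⟨h1inv, h1D⟩ Q₂ ⟨h2inv, h2D⟩ h12
    simp only at h12
    have hY : ∀ y₀ ∈ Y₀, Q₁ y₀ = Q₂ y₀ := by
      intro y₀ hy₀
      have := DFunLike.congr_fun h12 ⟨y₀, hy₀⟩
      simpa using this
    have hpol : ∀ y₀ : N, ∀ d ∈ D, QuadraticMap.polar Q₁ y₀ d = QuadraticMap.polar Q₂ y₀ d := by
      intro y₀ d hd
      obtain ⟨n, hn, hnd⟩ := hDsat d hd
      have hspan : ∀ z ∈ Submodule.span R (Set.range P.coroot),
          Q₁.polarBilin y₀ z = Q₂.polarBilin y₀ z := by
        intro z hz
        refine LinearMap.eqOn_span (f := Q₁.polarBilin y₀) (g := Q₂.polarBilin y₀) ?_ hz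
        rintro _ ⟨i, rfl⟩
        simp only [QuadraticMap.polarBilin_apply_apply]
        rw [Groth.Agent.Helper9.RootQuad.polar_coroot P ⊤ i trivial Q₁ (fun y _ => h1inv i y) y₀ trivial,
          Groth.Agent.Helper9.RootQuad.polar_coroot P ⊤ i trivial Q₂ (fun y _ => h2inv i y) y₀ trivial,
          h1D _ (hD i), h2D _ (hD i)]
      have := hspan _ hnd
      simp only [QuadraticMap.polarBilin_apply_apply] at this
      rw [← Nat.cast_smul_eq_nsmul R, QuadraticMap.polar_smul_right, QuadraticMap.polar_smul_right,
        smul_eq_mul, smul_eq_mul] at this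
      exact mul_left_cancel₀ (hcast n hn) this
    ext y
    obtain ⟨y₀, hy₀, d, hd, rfl⟩ : ∃ y₀ ∈ Y₀, ∃ d ∈ D, y₀ + d = y := by
      have : y ∈ Y₀ ⊔ D := by rw [hc.sup_eq_top]; trivial
      exact Submodule.mem_sup.1 this
    rw [QuadraticMap.map_add (⇑Q₁), QuadraticMap.map_add (⇑Q₂), hY y₀ hy₀, h1D d hd, h2D d hd,
      hpol y₀ d hd]
  · -- surjectivity
    intro Q₀ _
    let π : N →ₗ[R] Y₀ := Submodule.projectionOnto Y₀ D hc
    have hπD : ∀ d ∈ D, π d = 0 := fun d hd =>
      Submodule.projectionOnto_apply_of_mem_right hc hd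
    have hπY : ∀ y₀ : Y₀, π y₀ = y₀ := fun y₀ =>
      Submodule.projectionOnto_apply_left hc y₀
    refine ⟨Q' + (Q₀ - Q'.comp Y₀.subtype).comp π, ⟨?_, ?_⟩, ?_⟩
    · intro i y
      have : π (P.coreflection i y) = π y := by
        rw [P.coreflection_apply, map_sub, map_smul, hπD _ (hD i), smul_zero, sub_zero]
      simp only [add_apply, QuadraticMap.comp_apply, this, hQ' i y]
    · intro d hd
      simp only [add_apply, QuadraticMap.comp_apply, hπD d hd, QuadraticMap.map_zero,
        add_zero]
    · ext y₀
      simp only [QuadraticMap.comp_apply, add_apply, sub_apply,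
        Submodule.subtype_apply, hπY]
      ring

end Groth.Agent.S19010
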