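import Groth.Statements.S19012
import Mathlib
import Groth.Agent.Helper9.RootQuad
-- import your own Groth.Agent.* helpers here

set_option autoImplicit false
universe u v w x
open RootD

namespace Groth.Agent.S19012

/-- Let P be a finite reduced crystallographic root pairing over a field of characteristic zero which is
irreducible, and b a base. A quadratic form on the coweight module that is invariant under all root
reflections and vanishes on some simple coroot is zero; in other words an invariant form is
determined by its value on a single simple coroot. (The source proves, component by component of the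
Dynkin diagram, that an invariant integer-valued form on the coroot lattice with prescribed value on
the first simple coroot of each component is unique; here the system is irreducible, the coroots
span the coweight module, and forms take values in the base field.) -/
theorem result {ι : Type u} {K : Type v} {M : Type w} {N : Type x} [Field K] [CharZero K]
    [AddCommGroup M] [Module K M] [AddCommGroup N] [Module K N] (P : RootPairing ι K M N)
    [Finite ι] [P.IsCrystallographic] [P.IsReduced] [P.IsIrreducible] (b : P.Base)
    (Q : QuadraticMap K N K) (hQ : ∀ (i : ι) (y : N), Q (P.coreflection i y) = Q y)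
    (i₀ : ι) (hi₀ : i₀ ∈ b.support) (h0 : Q (P.coroot i₀) = 0) : Q = 0 := by
  classical
  have hpc : ∀ (j : ι) (y : N), QuadraticMap.polar Q y (P.coroot j) = P.root' j y * Q (P.coroot j) :=
    fun j y => Groth.Agent.Helper9.RootQuad.polar_coroot P ⊤ j trivial Q (fun y _ => hQ j y) y trivial
  -- propagation
  have hprop : ∀ i j : ι, Q (P.coroot i) = 0 → P.pairing i j ≠ 0 → Q (P.coroot j) = 0 := by
    intro i j hi hij
    have h1 := hpc j (P.coroot i)
    have h2 := hpc i (P.coroot j)
    rw [QuadraticMap.polar_comm, h2, hi, mul_zero, P.root'_coroot_eq_pairing] at h1
    have hji : P.pairing j i ≠ 0 := fun h => hij (P.pairing_eq_zero_iff'.1 h)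
    rcases mul_eq_zero.1 h1.symm with h | h
    · exact absurd h hji
    · exact h
  let q : Submodule K N := Submodule.span K (P.coroot '' {j | Q (P.coroot j) = 0})
  have hqinv : ∀ i, q ∈ Module.End.invtSubmodule (P.coreflection i) := by
    intro i
    rw [Module.End.mem_invtSubmodule_iff_forall_mem_of_mem]
    intro y hy
    induction hy using Submodule.span_induction with
    | mem x hx =>
      obtain ⟨j, hj, rfl⟩ := hx
      simp only [LinearEquiv.coe_coe]
      rw [P.coreflection_apply_coroot]
      by_cases hij : P.pairing i j = 0
      · rw [hij, zero_smul, sub_zero]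
        exact Submodule.subset_span ⟨j, hj, rfl⟩
      · have hji : P.pairing j i ≠ 0 := fun h => hij (P.pairing_eq_zero_iff'.1 h)
        refine q.sub_mem (Submodule.subset_span ⟨j, hj, rfl⟩) (q.smul_mem _ ?_)
        exact Submodule.subset_span ⟨i, hprop j i hj hji, rfl⟩
    | zero => simp
    | add x y _ _ hx hy => rw [map_add]; exact q.add_mem hx hy
    | smul a x _ hx => rw [map_smul]; exact q.smul_mem a hx
  have hqne : q ≠ ⊥ := by
    intro h
    have : P.coroot i₀ ∈ q := Submodule.subset_span ⟨i₀, h0, rfl⟩
    rw [h, Submodule.mem_bot] at this
    exact P.flip.ne_zero i₀ this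
  have hqtop : q = ⊤ := RootPairing.IsIrreducible.eq_top_of_invtSubmodule_coreflection q hqinv hqne
  have hpol : ∀ y' y : N, QuadraticMap.polar Q y' y = 0 := by
    intro y' y
    have hy : y ∈ q := by rw [hqtop]; trivial
    have : Q.polarBilin y' y = (0 : N →ₗ[K] K) y := by
      refine LinearMap.eqOn_span (f := Q.polarBilin y') (g := 0) ?_ hy
      rintro _ ⟨j, hj, rfl⟩
      simp only [QuadraticMap.polarBilin_apply_apply, LinearMap.zero_apply]
      rw [hpc j y', hj, mul_zero]
    simpa using this
  ext y
  have := hpol y y
  rw [QuadraticMap.polar_self, two_smul] at this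
  have h2 : (2 : K) * Q y = 0 := by rw [two_mul]; exact this
  rcases mul_eq_zero.1 h2 with h | h
  · exact absurd h two_ne_zero
  · simpa using h

end Groth.Agent.S19012
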