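import Groth.Statements.S19018
import Mathlib
-- import your own Groth.Agent.* helpers here

set_option autoImplicit false
universe u
open TensorProduct
open SymTen

namespace Groth.Agent.S19018

open scoped Pointwise

lemma comap_span_image {k T : Type u} [Field k] [NeZero (2 : k)] [CommRing T] [Algebra k T]
    (σ : T →ₐ[k] T) (hσ : ∀ t, σ (σ t) = t)
    (G' : Set (AlgHom.equalizer σ (AlgHom.id k T))) :
    Ideal.comap (AlgHom.equalizer σ (AlgHom.id k T)).val
      (Ideal.span ((AlgHom.equalizer σ (AlgHom.id k T)).val '' G')) = Ideal.span G' := by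
  have hρmem : ∀ y : T, y + σ y ∈ AlgHom.equalizer σ (AlgHom.id k T) := fun y => by
    rw [AlgHom.mem_equalizer]
    simp [map_add, hσ, add_comm]
  apply le_antisymm
  · intro x hx
    rw [Ideal.mem_comap] at hx
    have key : ∀ y ∈ Ideal.span ((AlgHom.equalizer σ (AlgHom.id k T)).val '' G'), ∀ t : T,
        (⟨t * y + σ (t * y), hρmem _⟩ : AlgHom.equalizer σ (AlgHom.id k T)) ∈ Ideal.span G' := by
      intro y hy
      induction hy using Submodule.span_induction with
      | mem y hy =>
        obtain ⟨g, hg, rfl⟩ := hy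
        intro t
        have hgσ : σ (g : T) = g := by
          have := g.2
          rw [AlgHom.mem_equalizer] at this
          simpa using this
        have : (⟨t * (AlgHom.equalizer σ (AlgHom.id k T)).val g +
            σ (t * (AlgHom.equalizer σ (AlgHom.id k T)).val g), hρmem _⟩ :
            AlgHom.equalizer σ (AlgHom.id k T)) = ⟨t + σ t, hρmem t⟩ * g := by
          apply Subtype.ext
          simp only [Subalgebra.coe_val, map_mul, hgσ, MulMemClass.coe_mul]
          ring
        rw [this]
        exact Ideal.mul_mem_left _ _ (Ideal.subset_span hg)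
      | zero =>
        intro t
        have : (⟨t * 0 + σ (t * 0), hρmem _⟩ : AlgHom.equalizer σ (AlgHom.id k T)) = 0 := by
          apply Subtype.ext
          simp
        rw [this]
        exact Ideal.zero_mem _
      | add y y' _ _ hy hy' =>
        intro t
        have := Ideal.add_mem _ (hy t) (hy' t)
        convert this using 1
        apply Subtype.ext
        simp only [mul_add, map_add, AddMemClass.mk_add_mk]
        ring
      | smul c y _ hy =>
        intro t
        have := hy (t * c)
        convert this using 1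
        apply Subtype.ext
        simp only [smul_eq_mul, mul_assoc]
    have h2 := key _ hx 1
    have hx2 : (⟨1 * (AlgHom.equalizer σ (AlgHom.id k T)).val x +
        σ (1 * (AlgHom.equalizer σ (AlgHom.id k T)).val x), hρmem _⟩ :
        AlgHom.equalizer σ (AlgHom.id k T)) = algebraMap k _ 2 * x := by
      have hxσ : σ (x : T) = x := by
        have := x.2
        rw [AlgHom.mem_equalizer] at this
        simpa using this
      apply Subtype.ext
      simp only [Subalgebra.coe_val, one_mul, hxσ, MulMemClass.coe_mul, Subalgebra.coe_algebraMap]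
      rw [map_ofNat]
      ring
    rw [hx2] at h2
    have h3 := Ideal.mul_mem_left (Ideal.span G') (algebraMap k _ (2⁻¹ : k)) h2
    rw [← mul_assoc, ← map_mul, inv_mul_cancel₀ (NeZero.ne (2 : k)), map_one, one_mul] at h3
    exact h3
  · rw [Ideal.span_le]
    intro g hg
    rw [SetLike.mem_coe, Ideal.mem_comap]
    exact Ideal.subset_span ⟨g, hg, rfl⟩

/-- Suppose k is a field in which 2 ≠ 0 and R is a commutative k-algebra. Write I for the ideal of the
diagonal, i.e. the kernel of multiplication R ⊗_k R → R, and write S for the subalgebra of R ⊗_k R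
consisting of elements invariant under interchanging the two tensor factors. Then, viewed as ideals
of S, the swap-invariant elements of I^4 form precisely the square of the ideal of swap-invariant
elements of I^2. (The source is stated over the complex numbers; the proof needs only that 2 is
invertible.) -/
theorem result
    (k R : Type u) [Field k] [NeZero (2 : k)] [CommRing R] [Algebra k R] :
    Ideal.comap
        (AlgHom.equalizer ((Algebra.TensorProduct.comm k R R : R ⊗[k] R ≃ₐ[k] R ⊗[k] R) : R ⊗[k] R →ₐ[k] R ⊗[k] R)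
          (AlgHom.id k (R ⊗[k] R))).val
        (KaehlerDifferential.ideal k R ^ 4) =
      (Ideal.comap
        (AlgHom.equalizer ((Algebra.TensorProduct.comm k R R : R ⊗[k] R ≃ₐ[k] R ⊗[k] R) : R ⊗[k] R →ₐ[k] R ⊗[k] R)
          (AlgHom.id k (R ⊗[k] R))).val
        (KaehlerDifferential.ideal k R ^ 2)) ^ 2 := by
  classical
  obtain ⟨σ, hσdef⟩ : ∃ σ : R ⊗[k] R →ₐ[k] R ⊗[k] R,
      ((Algebra.TensorProduct.comm k R R : R ⊗[k] R ≃ₐ[k] R ⊗[k] R) : R ⊗[k] R →ₐ[k] R ⊗[k] R) = σ := ⟨_, rfl⟩
  rw [hσdef]
  have hσσ : ∀ t, σ (σ t) = t := by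
    intro t
    rw [← hσdef]
    induction t using TensorProduct.induction_on with
    | zero => simp
    | tmul a b => simp
    | add x y hx hy => rw [map_add, map_add, hx, hy]
  have hσtmul : ∀ a b : R, σ (a ⊗ₜ[k] b) = b ⊗ₜ[k] a := by
    intro a b
    rw [← hσdef]
    simp
  -- generators
  let δ : R → R ⊗[k] R := fun s => (1 : R) ⊗ₜ[k] s - s ⊗ₜ[k] (1 : R)
  have hδσ : ∀ a, σ (δ a) = - δ a := by
    intro a
    simp only [δ, map_sub, hσtmul]
    ring
  have hI : KaehlerDifferential.ideal k R = Ideal.span (Set.range δ) :=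
    (KaehlerDifferential.span_range_eq_ideal k R).symm
  have hPmem : ∀ a b, δ a * δ b ∈ AlgHom.equalizer σ (AlgHom.id k (R ⊗[k] R)) := by
    intro a b
    rw [AlgHom.mem_equalizer, map_mul, hδσ, hδσ]
    simp
  let G2 : Set (AlgHom.equalizer σ (AlgHom.id k (R ⊗[k] R))) :=
    Set.range fun ab : R × R => ⟨δ ab.1 * δ ab.2, hPmem ab.1 ab.2⟩
  have hG2 : (AlgHom.equalizer σ (AlgHom.id k (R ⊗[k] R))).val '' G2 = Set.range δ * Set.range δ := by
    ext y
    simp only [G2, Set.mem_image, Set.mem_range, Set.mem_mul, Prod.exists]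
    constructor
    · rintro ⟨_, ⟨a, b, rfl⟩, rfl⟩
      exact ⟨_, ⟨a, rfl⟩, _, ⟨b, rfl⟩, rfl⟩
    · rintro ⟨_, ⟨a, rfl⟩, _, ⟨b, rfl⟩, rfl⟩
      exact ⟨_, ⟨a, b, rfl⟩, rfl⟩
  have hI2 : KaehlerDifferential.ideal k R ^ 2 =
      Ideal.span ((AlgHom.equalizer σ (AlgHom.id k (R ⊗[k] R))).val '' G2) := by
    rw [hG2, pow_two, hI, Ideal.span_mul_span']
  have hI4 : KaehlerDifferential.ideal k R ^ 4 =
      Ideal.span ((AlgHom.equalizer σ (AlgHom.id k (R ⊗[k] R))).val '' (G2 * G2)) := by
    have : KaehlerDifferential.ideal k R ^ 4 = KaehlerDifferential.ideal k R ^ 2 * KaehlerDifferential.ideal k R ^ 2 := by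
      rw [← pow_add]
    rw [this, hI2, Ideal.span_mul_span', Set.image_mul]
  rw [hI2, hI4, comap_span_image σ hσσ, comap_span_image σ hσσ, pow_two, Ideal.span_mul_span']

end Groth.Agent.S19018
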