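import Groth.Statements.S19019
import Mathlib
import Groth.Agent.Helper9.Toep
-- import your own Groth.Agent.* helpers here

set_option autoImplicit false
open scoped ComplexOrder
open Toeplitz

namespace Groth.Agent.S19019

/-- Let A be an m × m complex Hermitian Toeplitz matrix, with entries A i j = t (j - i) constant along
diagonals, and let f(y) = Σ_{-m < k < m} t k · exp(i k y) be the trigonometric polynomial attached
to it. If f has positive real part at every real y outside a countable set, then A is positive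
definite (hence nondegenerate). (The source also states the mirror case: f negative off a countable
set gives A negative definite, which is this statement for -A.) -/
theorem result
    (m : ℕ) (t : ℤ → ℂ) (A : Matrix (Fin m) (Fin m) ℂ)
    (hA : ∀ i j : Fin m, A i j = t ((j : ℤ) - (i : ℤ))) (hH : A.IsHermitian)
    (hpos : Set.Countable {y : ℝ | ¬ 0 < (∑ k ∈ Finset.Ioo (-(m : ℤ)) (m : ℤ),
        t k * Complex.exp (Complex.I * (k : ℂ) * (y : ℂ))).re}) :
    A.PosDef := by
  classical
  refine Matrix.PosDef.of_dotProduct_mulVec_pos hH ?_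
  intro x hx
  have hq : dotProduct (star x) (A.mulVec x) =
      ∑ i : Fin m, ∑ j : Fin m, t ((j : ℤ) - (i : ℤ)) * star (x i) * x j := by
    simp only [dotProduct, Matrix.mulVec, Pi.star_apply, Finset.mul_sum, hA]
    exact Finset.sum_congr rfl fun i _ => Finset.sum_congr rfl fun j _ => by ring
  have hmem : ∀ i j : Fin m, ((j:ℤ) - (i:ℤ)) ∈ Finset.Ioo (-(m:ℤ)) (m:ℤ) := by
    intro i j
    rw [Finset.mem_Ioo]
    have := i.2
    have := j.2
    omega
  have I1 := Helper9.Toep.key m x t (Finset.Ioo (-(m:ℤ)) m)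
  simp only [hmem, if_true] at I1
  rw [← hq] at I1
  have I2 := Helper9.Toep.key m x (fun _ => 1) {0}
  have hsum2 : (∑ i : Fin m, ∑ j : Fin m,
      if ((j : ℤ) - (i : ℤ)) ∈ ({0} : Finset ℤ) then (fun _ : ℤ => (1:ℂ)) ((j : ℤ) - (i : ℤ)) * star (x i) * x j else 0)
      = ((∑ i : Fin m, Complex.normSq (x i) : ℝ) : ℂ) := by
    push_cast
    refine Finset.sum_congr rfl fun i _ => ?_
    rw [Finset.sum_eq_single i]
    · simp [Complex.normSq_eq_conj_mul_self]
    · intro j _ hji
      rw [if_neg]
      rw [Finset.mem_singleton]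
      intro h
      apply hji
      apply Fin.ext
      omega
    · intro h; exact absurd (Finset.mem_univ i) h
  rw [hsum2] at I2
  set P : ℝ → ℂ := fun y => ∑ j : Fin m, x j * Helper9.Toep.E (-(j:ℤ)) y with hP
  set Q : ℝ → ℂ := fun y => ∑ i : Fin m, star (x i) * Helper9.Toep.E (i:ℤ) y with hQ
  set f : ℝ → ℂ := fun y => ∑ k ∈ Finset.Ioo (-(m:ℤ)) (m:ℤ), t k * Helper9.Toep.E k y with hf
  have hPc : Continuous P :=
    continuous_finsetSum _ fun i _ => continuous_const.mul (Helper9.Toep.E_continuous _)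
  have hQc : Continuous Q :=
    continuous_finsetSum _ fun i _ => continuous_const.mul (Helper9.Toep.E_continuous _)
  have hfc : Continuous f :=
    continuous_finsetSum _ fun i _ => continuous_const.mul (Helper9.Toep.E_continuous _)
  have hQP : ∀ y, Q y * P y = ((Complex.normSq (P y) : ℝ) : ℂ) := by
    intro y
    have hc : Q y = (starRingEnd ℂ) (P y) := by
      simp only [hP, hQ, map_sum, map_mul, Helper9.Toep.E_conj, neg_neg, Complex.star_def]
    rw [hc, mul_comm, Complex.mul_conj]
  set N : ℝ → ℝ := fun y => Complex.normSq (P y) with hN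
  have hNc : Continuous N := Complex.continuous_normSq.comp hPc
  set g : ℝ → ℝ := fun y => (f y).re * N y with hg
  have hgc : Continuous g := (Complex.continuous_re.comp hfc).mul hNc
  have I1' : ∫ y in (0:ℝ)..(2 * Real.pi), f y * (Q y * P y)
      = (2 * Real.pi : ℂ) * dotProduct (star x) (A.mulVec x) := I1
  have I2' : ∫ y in (0:ℝ)..(2 * Real.pi), (∑ k ∈ ({0} : Finset ℤ), (1:ℂ) * Helper9.Toep.E k y) * (Q y * P y)
      = (2 * Real.pi : ℂ) * ((∑ i : Fin m, Complex.normSq (x i) : ℝ) : ℂ) := I2
  have J2 : ∫ y in (0:ℝ)..(2 * Real.pi), N y = 2 * Real.pi * ∑ i : Fin m, Complex.normSq (x i) := by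
    have h1 : ∀ y : ℝ, (∑ k ∈ ({0} : Finset ℤ), (1:ℂ) * Helper9.Toep.E k y) * (Q y * P y)
        = ((N y : ℝ) : ℂ) := by
      intro y
      rw [Finset.sum_singleton, Helper9.Toep.E_zero, one_mul, one_mul, hQP]
    simp_rw [h1] at I2'
    rw [intervalIntegral.integral_ofReal] at I2'
    exact_mod_cast I2'
  have J1 : ∫ y in (0:ℝ)..(2 * Real.pi), g y
      = 2 * Real.pi * (dotProduct (star x) (A.mulVec x)).re := by
    have h1 : ∀ y : ℝ, g y = RCLike.re (f y * (Q y * P y)) := by
      intro y
      rw [hQP, RCLike.re_to_complex, Complex.re_mul_ofReal]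
    simp_rw [h1]
    rw [intervalIntegral.intervalIntegral_re, I1', RCLike.re_to_complex]
    · rw [show (2 * Real.pi : ℂ) = ((2 * Real.pi : ℝ) : ℂ) by push_cast; ring, Complex.re_ofReal_mul]
    · exact (hfc.mul (hQc.mul hPc)).intervalIntegrable _ _
  have hxpos : 0 < ∑ i : Fin m, Complex.normSq (x i) := by
    obtain ⟨i, hi⟩ : ∃ i, x i ≠ 0 := by
      by_contra hcon
      push Not at hcon
      exact hx (funext hcon)
    exact Finset.sum_pos' (fun j _ => Complex.normSq_nonneg _)
      ⟨i, Finset.mem_univ i, Complex.normSq_pos.mpr hi⟩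
  have h2pi : (0:ℝ) < 2 * Real.pi := by positivity
  have hNpos : 0 < ∫ y in (0:ℝ)..(2 * Real.pi), N y := by
    rw [J2]; positivity
  have hbad : MeasureTheory.volume {y : ℝ | ¬ 0 < (f y).re} = 0 :=
    hpos.measure_zero MeasureTheory.volume
  have hNsupp := (intervalIntegral.integral_pos_iff_support_of_nonneg_ae
    (Filter.Eventually.of_forall fun y => Complex.normSq_nonneg (P y))
    (hNc.intervalIntegrable _ _)).mp hNpos
  have hgsupp : 0 < MeasureTheory.volume (Function.support g ∩ Set.Ioc 0 (2 * Real.pi)) := by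
    calc 0 < MeasureTheory.volume (Function.support N ∩ Set.Ioc 0 (2 * Real.pi)) := hNsupp.2
      _ = MeasureTheory.volume ((Function.support N ∩ Set.Ioc 0 (2 * Real.pi)) \ {y : ℝ | ¬ 0 < (f y).re}) :=
          (MeasureTheory.measure_sdiff_null hbad).symm
      _ ≤ _ := by
          refine MeasureTheory.measure_mono ?_
          rintro y ⟨⟨hy1, hy2⟩, hy3⟩
          refine ⟨?_, hy2⟩
          simp only [Set.mem_ofPred_eq, not_not] at hy3
          rw [Function.mem_support] at hy1 ⊢
          exact mul_ne_zero hy3.ne' hy1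
  have hgae : 0 ≤ᵐ[MeasureTheory.volume] g := by
    have hae : ∀ᵐ y ∂(MeasureTheory.volume : MeasureTheory.Measure ℝ), y ∉ {y : ℝ | ¬ 0 < (f y).re} :=
      MeasureTheory.measure_eq_zero_iff_ae_notMem.mp hbad
    filter_upwards [hae] with y hy
    simp only [Set.mem_ofPred_eq, not_not] at hy
    exact mul_nonneg hy.le (Complex.normSq_nonneg _)
  have hgpos : 0 < ∫ y in (0:ℝ)..(2 * Real.pi), g y :=
    (intervalIntegral.integral_pos_iff_support_of_nonneg_ae hgae (hgc.intervalIntegrable _ _)).mpr
      ⟨h2pi, hgsupp⟩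
  rw [J1] at hgpos
  have hre : 0 < (dotProduct (star x) (A.mulVec x)).re := by
    by_contra hcon
    push Not at hcon
    have : 2 * Real.pi * (dotProduct (star x) (A.mulVec x)).re ≤ 0 :=
      mul_nonpos_of_nonneg_of_nonpos h2pi.le hcon
    linarith
  have him : (dotProduct (star x) (A.mulVec x)).im = 0 :=
    hH.im_star_dotProduct_mulVec_self x
  exact Complex.pos_iff.mpr ⟨hre, him.symm⟩

end Groth.Agent.S19019
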