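import Groth.Statements.S19020
import Mathlib
-- import your own Groth.Agent.* helpers here

set_option autoImplicit false
open Toeplitz

namespace Groth.Agent.S19020

theorem vand (n d : ℕ) :
    ∑ a ∈ Finset.range (n + 1), n.choose a * n.choose (a + d) = (2 * n).choose (n + d) := by
  by_cases hd : d ≤ n
  · have h1 := Nat.add_choose_eq n n (n - d)
    rw [Finset.Nat.sum_antidiagonal_eq_sum_range_succ_mk] at h1
    have h2 : (2 * n).choose (n + d) = (n + n).choose (n - d) := by
      rw [two_mul]
      apply Nat.choose_symm_of_eq_add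
      omega
    rw [h2, h1]
    have hsub : Finset.range (n - d + 1) ⊆ Finset.range (n + 1) := by
      intro a ha
      rw [Finset.mem_range] at ha ⊢
      omega
    rw [← Finset.sum_subset hsub]
    · apply Finset.sum_congr rfl
      intro a ha
      rw [Finset.mem_range] at ha
      congr 1
      have : n - d - a = n - (a + d) := by omega
      rw [this, Nat.choose_symm (by omega)]
    · intro a ha1 ha2
      rw [Finset.mem_range] at ha1 ha2
      rw [Nat.choose_eq_zero_of_lt (by omega : n < a + d), mul_zero]
  · push Not at hd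
    rw [Nat.choose_eq_zero_of_lt (by omega : 2 * n < n + d)]
    apply Finset.sum_eq_zero
    intro a _
    rw [Nat.choose_eq_zero_of_lt (by omega : n < a + d), mul_zero]

/-- coefficients of the `n`-th difference operator -/
noncomputable def cf (n l i : ℕ) : ℝ :=
  if i ≤ l then (-1 : ℝ) ^ (l - i) * (n.choose (l - i) : ℝ) else 0

theorem gram_entry (n m i j : ℕ) (hj : j < m) (hij : i ≤ j) :
    ∑ l ∈ Finset.range (m + n), cf n l i * cf n l j =
      (-1 : ℝ) ^ (i + j) * ((2 * n).choose (n + (j - i)) : ℝ) := by
  have hsub : Finset.Ico j (m + n) ⊆ Finset.range (m + n) := by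
    intro l hl
    rw [Finset.mem_Ico] at hl
    rw [Finset.mem_range]
    exact hl.2
  rw [← Finset.sum_subset hsub]
  · rw [Finset.sum_Ico_eq_sum_range]
    have hterm : ∀ a ∈ Finset.range (m + n - j), cf n (j + a) i * cf n (j + a) j =
        (-1 : ℝ) ^ (i + j) * ((n.choose a * n.choose (a + (j - i)) : ℕ) : ℝ) := by
      intro a _
      have e1 : j + a - i = a + (j - i) := by omega
      have e2 : j + a - j = a := by omega
      have e3 : i + j = 2 * i + (j - i) := by omega
      rw [cf, cf, if_pos (by omega), if_pos (by omega), e1, e2, e3]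
      push_cast
      rw [pow_add, pow_add, pow_mul]
      have h4 : ((-1 : ℝ) ^ a) * ((-1 : ℝ) ^ a) = 1 := by
        rw [← pow_add, ← two_mul, pow_mul]; simp
      calc (-1 : ℝ) ^ a * (-1) ^ (j - i) * ↑(n.choose (a + (j - i))) * ((-1) ^ a * ↑(n.choose a))
          = ((-1 : ℝ) ^ a * (-1) ^ a) * ((-1) ^ (j - i) * (↑(n.choose a) * ↑(n.choose (a + (j - i))))) := by ring
        _ = _ := by rw [h4]; simp
    rw [Finset.sum_congr rfl hterm, ← Finset.mul_sum, ← Nat.cast_sum]
    congr 2
    have hsub2 : Finset.range (n + 1) ⊆ Finset.range (m + n - j) := by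
      intro a ha
      rw [Finset.mem_range] at ha ⊢
      omega
    rw [← Finset.sum_subset hsub2]
    · exact vand n (j - i)
    · intro a _ ha2
      rw [Finset.mem_range] at ha2
      rw [Nat.choose_eq_zero_of_lt (by omega : n < a), zero_mul]
  · intro l hl1 hl2
    rw [Finset.mem_range] at hl1
    rw [Finset.mem_Ico] at hl2
    have : ¬ j ≤ l := fun h => hl2 ⟨h, hl1⟩
    rw [cf, cf, if_neg this, mul_zero]


/-- For natural numbers n and m, the m × m real Toeplitz matrix with (i, j) entry (-1)^(i+j) · C(2n, n +
|i - j|), i.e. with t_k = (-1)^k C(2n, n + k) on the k-th diagonal for |k| ≤ n and zero beyond, is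
positive definite; in particular it is nondegenerate, which is the printed assertion (positive
definiteness is what the printed proof establishes; m = 0 is the empty matrix). -/
theorem result (n m : ℕ) :
    (Matrix.of fun i j : Fin m =>
        (-1 : ℝ) ^ ((i : ℕ) + (j : ℕ)) * (Nat.choose (2 * n) (n + Nat.dist i j) : ℝ)).PosDef := by
  classical
  let A : Matrix (Fin (m + n)) (Fin m) ℝ := Matrix.of fun l i => cf n l i
  have hA : Function.Injective A.mulVec := by
    intro x y hxy
    have hAz : A.mulVec (x - y) = 0 := by rw [Matrix.mulVec_sub, hxy, sub_self]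
    have hz : ∀ (k : ℕ) (hk : k < m), (x - y) ⟨k, hk⟩ = 0 := by
      intro k
      induction k using Nat.strong_induction_on with
      | _ k ih =>
        intro hk
        have h0 := congrFun hAz (Fin.castAdd n ⟨k, hk⟩)
        simp only [Matrix.mulVec, dotProduct, Pi.zero_apply, A, Matrix.of_apply] at h0
        rw [Finset.sum_eq_single ⟨k, hk⟩] at h0
        · simpa [cf] using h0
        · intro b _ hb
          have hbk : (b : ℕ) ≠ k := fun h => hb (Fin.ext h)
          rcases lt_or_gt_of_ne hbk with h | h
          · have := ih b h b.2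
            rw [show (⟨(b : ℕ), b.2⟩ : Fin m) = b from rfl] at this
            rw [this, mul_zero]
          · have : ¬ (b : ℕ) ≤ k := by omega
            simp [cf, this]
        · intro h
          exact absurd (Finset.mem_univ _) h
    have : x - y = 0 := by
      ext i
      exact hz i i.2
    exact sub_eq_zero.mp this
  have hT : (Matrix.of fun i j : Fin m =>
      (-1 : ℝ) ^ ((i : ℕ) + (j : ℕ)) * (Nat.choose (2 * n) (n + Nat.dist i j) : ℝ)) =
      A.conjTranspose * A := by
    ext i j
    simp only [Matrix.mul_apply, Matrix.conjTranspose_apply, star_trivial, Matrix.of_apply, A]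
    rw [Fin.sum_univ_eq_sum_range (fun l => cf n l i * cf n l j) (m + n)]
    rcases le_total (i : ℕ) (j : ℕ) with h | h
    · rw [gram_entry n m i j j.2 h]
      congr 3
      rw [Nat.dist_eq_sub_of_le h]
    · rw [Finset.sum_congr rfl (fun l _ => mul_comm _ _), gram_entry n m j i i.2 h, add_comm]
      congr 3
      rw [Nat.dist_eq_sub_of_le_right h]
  rw [hT]
  exact Matrix.PosDef.conjTranspose_mul_self A hA

end Groth.Agent.S19020
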