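import Groth.Statements.S19021
import Mathlib
import Groth.Agent.S19020
-- import your own Groth.Agent.* helpers here

set_option autoImplicit false
open Toeplitz

namespace Groth.Agent.S19021

/-- For natural numbers n and m, the m × m integer Toeplitz matrix with (i, j) entry (-1)^(i+j) ·
C(2n+1, n+1+i-j) (the binomial coefficient being 0 outside the range 0 ≤ n+1+i-j ≤ 2n+1;
equivalently s_k = (-1)^k C(2n+1, n+k+1) on the diagonal i - j = k for -n-1 ≤ k ≤ n and zero beyond)
is nondegenerate: its determinant is nonzero (m = 0 is the empty matrix, of determinant 1). -/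
theorem result (n m : ℕ) :
    (Matrix.of fun i j : Fin m =>
        (-1 : ℤ) ^ ((i : ℕ) + (j : ℕ)) *
          (if (j : ℕ) ≤ (i : ℕ) then (Nat.choose (2 * n + 1) (n + 1 + ((i : ℕ) - (j : ℕ))) : ℤ)
            else (Nat.choose (2 * n + 1) (n + ((j : ℕ) - (i : ℕ))) : ℤ))).det ≠ 0 := by
  classical
  intro hdet
  set M : Matrix (Fin m) (Fin m) ℤ := Matrix.of fun i j : Fin m =>
        (-1 : ℤ) ^ ((i : ℕ) + (j : ℕ)) *
          (if (j : ℕ) ≤ (i : ℕ) then (Nat.choose (2 * n + 1) (n + 1 + ((i : ℕ) - (j : ℕ))) : ℤ)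
            else (Nat.choose (2 * n + 1) (n + ((j : ℕ) - (i : ℕ))) : ℤ)) with hM
  let MR : Matrix (Fin m) (Fin m) ℝ := M.map (Int.castRingHom ℝ)
  have hdetR : MR.det = 0 := by
    have : MR.det = (Int.castRingHom ℝ) M.det := by
      rw [RingHom.map_det]; rfl
    rw [this, hdet, map_zero]
  obtain ⟨x, hx0, hx⟩ := Matrix.exists_mulVec_eq_zero_iff.mpr hdetR
  have hT := Groth.Agent.S19020.result (n + 1) m
  have hsum : (Matrix.of fun i j : Fin m =>
      (-1 : ℝ) ^ ((i : ℕ) + (j : ℕ)) * (Nat.choose (2 * (n + 1)) (n + 1 + Nat.dist i j) : ℝ)) =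
      MR + MR.transpose := by
    ext i j
    simp only [Matrix.add_apply, Matrix.transpose_apply, Matrix.map_apply, Matrix.of_apply, MR, hM,
      Int.coe_castRingHom]
    have hpas : ∀ k : ℕ, (Nat.choose (2 * (n + 1)) (n + 1 + k) : ℝ) =
        (Nat.choose (2 * n + 1) (n + 1 + k) : ℝ) + (Nat.choose (2 * n + 1) (n + k) : ℝ) := by
      intro k
      have : (2 * (n + 1)).choose (n + 1 + k) =
          (2 * n + 1).choose (n + k) + (2 * n + 1).choose (n + 1 + k) := by
        have e1 : 2 * (n + 1) = (2 * n + 1) + 1 := by ring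
        have e2 : n + 1 + k = (n + k) + 1 := by ring
        rw [e1, e2, Nat.choose_succ_succ]
      rw [this]; push_cast; ring
    rcases lt_trichotomy (i : ℕ) (j : ℕ) with h | h | h
    · have h1 : ¬ (j : ℕ) ≤ (i : ℕ) := by omega
      have h2 : (i : ℕ) ≤ (j : ℕ) := by omega
      rw [if_neg h1, if_pos h2, Nat.dist_eq_sub_of_le h2, hpas, add_comm (j : ℕ) (i : ℕ)]
      push_cast
      ring
    · have h1 : (j : ℕ) ≤ (i : ℕ) := by omega
      have h2 : (i : ℕ) ≤ (j : ℕ) := by omega
      have hsym : (Nat.choose (2 * n + 1) (n + 0) : ℝ) = (Nat.choose (2 * n + 1) (n + 1 + 0) : ℝ) := by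
        congr 1
        apply Nat.choose_symm_of_eq_add
        omega
      rw [if_pos h1, if_pos h2, Nat.dist_eq_sub_of_le h2, hpas, h, Nat.sub_self, hsym]
      push_cast
      ring
    · have h1 : (j : ℕ) ≤ (i : ℕ) := by omega
      have h2 : ¬ (i : ℕ) ≤ (j : ℕ) := by omega
      rw [if_pos h1, if_neg h2, Nat.dist_eq_sub_of_le_right h1, hpas, add_comm (j : ℕ) (i : ℕ)]
      push_cast
      ring
  rw [hsum] at hT
  have hpos := hT.dotProduct_mulVec_pos hx0
  rw [Matrix.add_mulVec, dotProduct_add, hx, star_trivial, Matrix.dotProduct_mulVec,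
    Matrix.vecMul_transpose, hx] at hpos
  simp at hpos

end Groth.Agent.S19021
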