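import Groth.Statements.S19022
import Groth.Agent.Helper4.QAffSec
import Mathlib

set_option autoImplicit false
universe u
open CategoryTheory AlgebraicGeometry
open PicF

namespace Groth.Agent.S19022


/-- Let X be a scheme, L an invertible O_X-module and T a finite set of closed points of X that lies in
some affine open of X. Then T lies in an affine open U of X on which L is trivial (L restricted to U
is isomorphic to the structure sheaf). (The source states this for a smooth quasi-projective complex
surface, where every finite set of points lies in an affine open, and phrases it as: X^n and the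
symmetric product S^n X are covered by the opens U^n and S^n U with U affine and L trivial on U; the
printed argument uses only that the finitely many points lie in one affine open, which is taken as
the hypothesis here.) -/
theorem result
    (X : Scheme.{u}) (L : X.Modules) (hL : PicF.IsInvertible L)
    (T : Finset X) (hT : ∀ x ∈ T, IsClosed ({x} : Set X))
    (hU : ∃ U : X.Opens, IsAffineOpen U ∧ ∀ x ∈ T, x ∈ U) :
    ∃ U : X.Opens, IsAffineOpen U ∧ (∀ x ∈ T, x ∈ U) ∧
      Nonempty (L.restrict U.ι ≅ Coh.structureModule (↑U : Scheme.{u})) := by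

  obtain ⟨U₀, hU₀, hTU₀⟩ := hU
  haveI : IsAffine (U₀ : Scheme.{u}) := hU₀
  let E : Set (U₀ : Scheme.{u}) := {y | (y.1 : X) ∈ (T : Set X)}
  have hE : E.Finite := by
    apply Set.Finite.preimage (f := fun y : (U₀ : Scheme.{u}) => (y.1 : X))
    · exact Subtype.val_injective.injOn
    · exact T.finite_toSet
  obtain ⟨f, hf, hEf, -, ⟨ε⟩⟩ := Groth.Agent.Helper4.QAffSec.exists_basicOpen_triv
    (L.restrict U₀.ι) (Groth.Agent.Helper4.QAffSec.isInvertible_restrict U₀.ι hL) ⊤ E hE
    (fun _ _ => trivial)
  set V := (U₀ : Scheme.{u}).basicOpen f with hV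
  refine ⟨U₀.ι ''ᵁ V, hf.image_of_isOpenImmersion U₀.ι, ?_, ?_⟩
  · intro x hx
    exact ⟨⟨x, hTU₀ x hx⟩, hEf (show (⟨x, hTU₀ x hx⟩ : (U₀ : Scheme.{u})) ∈ E from hx), rfl⟩
  · have h1 : Groth.Agent.Helper4.TensorInv.IsTrivAlong (L.restrict U₀.ι) V.ι := ⟨ε⟩
    have h2 : Groth.Agent.Helper4.TensorInv.IsTrivAlong L (V.ι ≫ U₀.ι) := by
      obtain ⟨i⟩ := h1
      exact ⟨(Scheme.Modules.restrictFunctorComp V.ι U₀.ι).app L ≪≫ i⟩
    have h3 := Groth.Agent.Helper4.TensorInv.IsTrivAlong.comp (V.ι ≫ U₀.ι) h2
      (U₀.ι.isoImage V).inv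
    exact h3.congr (Scheme.Hom.isoImage_inv_ι U₀.ι V)

end Groth.Agent.S19022
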