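import Groth.Statements.S19025
import Mathlib
-- import your own Groth.Agent.* helpers here

set_option autoImplicit false
universe u
open HigherRestr

namespace Groth.Agent.S19025

/-- In abstract form, the estimate its proof establishes. Let S be a commutative ring, I an ideal of S,
g₀ and g₁ elements with g₁ - g₀ ∈ I, N a natural number and y a sequence in S such that, for 1 ≤ i ≤
N, the (N-i)-fold unit-step forward difference of y taken at i lies in I^(N-i). Then g₀^N times the
N-fold forward difference of y at 0, minus the N-fold forward difference at 0 of the twisted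
sequence j ↦ g₀^(N-j) g₁^j y_j, lies in I^N. (In the source S is the ring of functions on an affine
chart of X^n, I the ideal of a pairwise diagonal, g₀ and g₁ the two pullbacks of a transition unit
of L, and y_j the components x_λ along the compositions a₀^(N-j) a₁^j μ; the estimate is what makes
the higher order restrictions D^l_L well defined on ker D^(l-1)_L independently of the
trivialisation.) -/
theorem result
    (S : Type u) [CommRing S] (I : Ideal S) (g₀ g₁ : S) (hg : g₁ - g₀ ∈ I)
    (N : ℕ) (y : ℕ → S)
    (hy : ∀ i : ℕ, 1 ≤ i → i ≤ N → (fwdDiff (1 : ℕ))^[N - i] y i ∈ I ^ (N - i)) :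
    g₀ ^ N * (fwdDiff (1 : ℕ))^[N] y 0 -
        (fwdDiff (1 : ℕ))^[N] (fun j : ℕ => g₀ ^ (N - j) * g₁ ^ j * y j) 0 ∈ I ^ N := by
  classical
  let E : Module.End S (ℕ → S) :=
    { toFun := fun z j => z (j + 1), map_add' := fun _ _ => rfl, map_smul' := fun _ _ => rfl }
  have hE : ∀ (k : ℕ) (z : ℕ → S) (j : ℕ), (E ^ k) z j = z (j + k) := by
    intro k
    induction k with
    | zero => intro z j; simp
    | succ k ih =>
      intro z j
      rw [pow_succ, Module.End.mul_apply, ih]
      show z (j + k + 1) = _
      rfl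
  have hΔ : ∀ (n : ℕ) (z : ℕ → S), (fwdDiff (1 : ℕ))^[n] z = ((E - 1) ^ n) z := by
    intro n
    induction n with
    | zero => intro z; simp
    | succ n ih =>
      intro z
      rw [Function.iterate_succ_apply', ih, pow_succ', Module.End.mul_apply]
      rfl
  set u := g₁ - g₀ with hu
  have hop : g₁ • E + (-g₀) • (1 : Module.End S (ℕ → S)) = g₀ • (E - 1) + u • E := by
    rw [hu]; module
  have hcomm : Commute (g₀ • (E - 1)) (u • E) := by
    apply Commute.smul_left
    apply Commute.smul_right
    exact (Commute.refl E).sub_left (Commute.one_left E)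
  have hcomm2 : Commute (g₁ • E) ((-g₀) • (1 : Module.End S (ℕ → S))) := by
    apply Commute.smul_left
    apply Commute.smul_right
    exact Commute.one_right E
  have h1 : (fwdDiff (1 : ℕ))^[N] (fun j : ℕ => g₀ ^ (N - j) * g₁ ^ j * y j) 0
      = ((g₁ • E + (-g₀) • (1 : Module.End S (ℕ → S))) ^ N) y 0 := by
    rw [fwdDiff_iter_eq_sum_shift, hcomm2.add_pow, LinearMap.sum_apply, Finset.sum_apply]
    refine Finset.sum_congr rfl fun k hk => ?_
    rw [smul_pow, smul_pow, one_pow]
    simp only [Module.End.mul_apply, LinearMap.smul_apply, Module.End.one_apply,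
      Module.End.natCast_apply, map_smul, map_nsmul, Pi.smul_apply, hE, smul_eq_mul, zero_add,
      nsmul_eq_mul, Pi.mul_apply, Pi.natCast_apply, mul_one]
    rw [zsmul_eq_mul, neg_pow g₀]
    push_cast
    ring
  have hterm : ∀ m : ℕ, m ≤ N →
      ((u • E) ^ m * (g₀ • (E - 1)) ^ (N - m) * (N.choose m : Module.End S (ℕ → S))) y 0
        = u ^ m * (g₀ ^ (N - m) * ((N.choose m : S) * (fwdDiff (1 : ℕ))^[N - m] y m)) := by
    intro m hm
    rw [smul_pow, smul_pow, hΔ]
    simp only [Module.End.mul_apply, LinearMap.smul_apply, Module.End.natCast_apply,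
      map_smul, map_nsmul, Pi.smul_apply, hE]
    simp only [smul_eq_mul, nsmul_eq_mul, zero_add]
    ring
  rw [h1, hop, add_comm (g₀ • (E - 1)) (u • E), hcomm.symm.add_pow, LinearMap.sum_apply,
    Finset.sum_apply, Finset.sum_range_succ', hterm 0 (Nat.zero_le _)]
  simp only [pow_zero, one_mul, Nat.sub_zero, Nat.choose_zero_right, Nat.cast_one]
  rw [sub_add_cancel_right]
  refine neg_mem (Ideal.sum_mem _ fun m hm => ?_)
  have hm' : m + 1 ≤ N := Finset.mem_range.mp hm
  rw [hterm (m + 1) hm']
  have h2 : I ^ N = I ^ (m + 1) * I ^ (N - (m + 1)) := by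
    rw [← pow_add]; congr 1; omega
  rw [h2]
  refine Ideal.mul_mem_mul (Ideal.pow_mem_pow hg _) ?_
  refine Ideal.mul_mem_left _ _ (Ideal.mul_mem_left _ _ ?_)
  exact hy (m + 1) (by omega) hm'

end Groth.Agent.S19025
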