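import Groth.Statements.S19033
import Groth.Agent.Helper6.ExcBI

set_option autoImplicit false
universe u
open LabGraph

namespace Groth.Agent.S19033

open LabGraph in
/-- Let X be a quasi-wp-stable curve of genus g ≥ 2 over an algebraically closed field, encoded by a
weighted multigraph: vertices are the irreducible components C_v, with the weight w v and the loops
at v chosen so that w v plus the number of loops at v is the arithmetic genus of C_v; two distinct
components are joined by one edge for each node and by two edges for each tacnode at which they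
meet. For a set Y of vertices (a subcurve) canDeg Y is then deg_Y ω_X = 2 g_Y − 2 + k_Y and cut Y is
k_Y, the length of the intersection of Y with its complementary subcurve; a vertex is exceptional
(weight zero, loopless, exactly two edges to other vertices) exactly when C_v is an exceptional
component; the twist of the indicator function of Y is the multidegree Σ_{C ⊆ Y} C of the degree
class group construction; and the graph is a connected quasistable graph. Let d, d' be properly
balanced multidegrees of the same total degree D (each satisfies the Basic Inequality 2·|K·d_Y −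
D·canDeg Y| ≤ cut Y·K for every Y, where K = 2g − 2 = canDeg of the whole graph, and takes the value
1 on every exceptional vertex), with d strictly balanced: for every nonempty proper Y with d_Y equal
to the upper extreme, i.e. 2(K·d_Y − D·canDeg Y) = K·cut Y, every edge with exactly one endpoint in
Y has an exceptional endpoint. Suppose d' = d + Σ_i twist(1_{Z_i}) for nested vertex sets Z_1 ⊆ ⋯ ⊆
Z_m, each with d at its upper extreme, such that for j < i no edge joins a vertex of Z_j to a vertex
outside Z_i. Then d = d'. (The source assumes only that d − d' lies in the lattice generated by the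
multidegrees of the components and takes the existence of such a nested family from an earlier paper
it cites without proof; this row carries that description as its hypothesis.) -/
theorem result {V E : Type u} [Fintype V] [Fintype E]
    [DecidableEq V] [DecidableEq E] (ends : E → V × V) (w : V → ℕ) (hX : IsQuasistableGraph ends w)
    (hg : 2 ≤ genus ends w) (d d' : V → ℤ) (hD : ∑ v, d v = ∑ v, d' v)
    (hBI : SatisfiesBI ends w d) (hBI' : SatisfiesBI ends w d')
    (hone : ∀ v : V, IsExceptional ends w v → d v = 1) (hone' : ∀ v : V, IsExceptional ends w v → d' v = 1)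
    (hstrict : ∀ Y : Finset V, Y.Nonempty → Y ≠ Finset.univ →
      2 * (canDeg ends w Finset.univ * (∑ v ∈ Y, d v) - (∑ v, d v) * canDeg ends w Y)
          = (cut ends Y : ℤ) * canDeg ends w Finset.univ →
      ∀ e : E, (((ends e).1 ∈ Y ∧ (ends e).2 ∉ Y) ∨ ((ends e).1 ∉ Y ∧ (ends e).2 ∈ Y)) →
        (IsExceptional ends w (ends e).1 ∨ IsExceptional ends w (ends e).2))
    (m : ℕ) (Z : Fin m → Finset V) (hmono : ∀ i j : Fin m, i ≤ j → Z i ⊆ Z j)
    (hext : ∀ i : Fin m, 2 * (canDeg ends w Finset.univ * (∑ v ∈ Z i, d v) - (∑ v, d v) * canDeg ends w (Z i))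
          = (cut ends (Z i) : ℤ) * canDeg ends w Finset.univ)
    (hsep : ∀ i j : Fin m, j < i → ∀ e : E,
      ¬ (((ends e).1 ∈ Z j ∧ (ends e).2 ∉ Z i) ∨ ((ends e).2 ∈ Z j ∧ (ends e).1 ∉ Z i)))
    (hsum : ∀ v : V, d' v = d v + ∑ i : Fin m, twist ends (fun u => if u ∈ Z i then (1 : ℤ) else 0) v) :
    d = d' := by
  classical
  have hK : 0 < canDeg ends w Finset.univ := Groth.Agent.Helper6.ExcBI.K_pos ends w hg
  have hconn := hX.1.1
  have key : ∀ i : Fin m, Z i = ∅ ∨ Z i = Finset.univ := by
    intro i
    refine WellFoundedLT.induction (motive := fun i => Z i = ∅ ∨ Z i = Finset.univ) i ?_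
    intro i ih
    by_contra hcon
    rw [not_or] at hcon
    obtain ⟨hne, hnu⟩ := hcon
    obtain ⟨v0, hv0⟩ := Finset.nonempty_iff_ne_empty.mpr hne
    obtain ⟨w0, hw0⟩ : ∃ w0, w0 ∉ Z i := by
      by_contra hall
      push Not at hall
      exact hnu (Finset.eq_univ_iff_forall.mpr hall)
    obtain ⟨e, he⟩ := Groth.Agent.Helper7.CapBI.exists_crossing ends hconn (Z i) v0 w0 hv0 hw0
    have hexc := hstrict (Z i) ⟨v0, hv0⟩ hnu (hext i) e he
    have hearly : ∀ j, j < i → Z j = ∅ := by
      intro j hj
      rcases ih j hj with h | h
      · exact h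
      · exfalso
        apply hnu
        apply Finset.eq_univ_iff_forall.mpr
        intro u
        exact hmono j i hj.le (h ▸ Finset.mem_univ u)
    have hmaxi : ∀ x, x ∈ Z i → ∀ j : Fin m, ∀ u,
        (fun u => if u ∈ Z j then (1 : ℤ) else 0) u ≤ (fun u => if u ∈ Z j then (1 : ℤ) else 0) x := by
      intro x hx j u
      show (if u ∈ Z j then (1 : ℤ) else 0) ≤ (if x ∈ Z j then (1 : ℤ) else 0)
      rcases lt_or_ge j i with hj | hj
      · rw [hearly j hj]; simp
      · have : x ∈ Z j := hmono i j hj hx
        rw [if_pos this]; split_ifs <;> norm_num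
    have caseA : ∀ x y, x ∈ Z i → y ∉ Z i → IsExceptional ends w x →
        (((ends e).1 = x ∧ (ends e).2 = y) ∨ ((ends e).1 = y ∧ (ends e).2 = x)) → False := by
      intro x y hx hy hex hxy
      have h1 : ∑ j : Fin m, twist ends (fun u => if u ∈ Z j then (1 : ℤ) else 0) x ≤ -1 := by
        calc ∑ j : Fin m, twist ends (fun u => if u ∈ Z j then (1 : ℤ) else 0) x
            ≤ ∑ j : Fin m, (if j = i then (-1 : ℤ) else 0) := by
              refine Finset.sum_le_sum fun j _ => ?_
              by_cases hj : j = i
              · rw [hj, if_pos rfl]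
                refine Groth.Agent.Helper6.ExcBI.twist_le_neg_one ends _ x (hmaxi x hx i) e ?_
                rcases hxy with ⟨h1, h2⟩ | ⟨h1, h2⟩
                · left; refine ⟨h1, ?_⟩; rw [h2]; simp [hx, hy]
                · right; refine ⟨h2, ?_⟩; rw [h1]; simp [hx, hy]
              · rw [if_neg hj]
                exact Groth.Agent.Helper6.ExcBI.twist_nonpos_of_max ends _ x (hmaxi x hx j)
          _ = -1 := by simp
      have := hsum x
      rw [hone x hex, hone' x hex] at this
      linarith
    have caseB : ∀ x y, x ∉ Z i → y ∈ Z i → IsExceptional ends w x →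
        (((ends e).1 = x ∧ (ends e).2 = y) ∨ ((ends e).1 = y ∧ (ends e).2 = x)) → False := by
      intro x y hx hy hex hxy
      have hcut := Groth.Agent.Helper6.ExcBI.cut_insert_le ends w (Z i) x y hex hx hy e hxy
      have hBIx := hBI (insert x (Z i))
      rw [Finset.sum_insert hx, Groth.Agent.Helper6.ExcBI.canDeg_insert_exc ends w (Z i) x hex hx,
        hone x hex] at hBIx
      have hA := le_abs_self (canDeg ends w Finset.univ * (1 + ∑ v ∈ Z i, d v) -
        (∑ v, d v) * canDeg ends w (Z i))
      have hc := mul_le_mul_of_nonneg_right hcut hK.le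
      have := hext i
      linarith
    rcases he with ⟨h1, h2⟩ | ⟨h1, h2⟩
    · rcases hexc with hx | hx
      · exact caseA _ _ h1 h2 hx (Or.inl ⟨rfl, rfl⟩)
      · exact caseB _ _ h2 h1 hx (Or.inr ⟨rfl, rfl⟩)
    · rcases hexc with hx | hx
      · exact caseB _ _ h1 h2 hx (Or.inl ⟨rfl, rfl⟩)
      · exact caseA _ _ h2 h1 hx (Or.inr ⟨rfl, rfl⟩)
  funext v
  have := hsum v
  have hz : ∑ i : Fin m, twist ends (fun u => if u ∈ Z i then (1 : ℤ) else 0) v = 0 := by
    refine Finset.sum_eq_zero fun i _ => ?_
    rcases key i with h | h
    · rw [h]; exact Groth.Agent.Helper6.ExcBI.twist_const ends _ 0 (by intro u; simp) v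
    · rw [h]; exact Groth.Agent.Helper6.ExcBI.twist_const ends _ 1 (by intro u; simp) v
  rw [hz, add_zero] at this
  exact this.symm

end Groth.Agent.S19033
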