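import Groth.Statements.S19034
import Groth.Agent.Helper6.ExcBI

set_option autoImplicit false
universe u
open LabGraph

namespace Groth.Agent.S19034

open LabGraph in
/-- Let σ : Z → X be the contraction of some exceptional components of a quasi-wp-stable curve Z of
genus g ≥ 2 onto a quasi-wp-stable curve X, and d a properly balanced multidegree on X; then the
pull-back d̃ of d to Z (d̃_W = d_{σ(W)} when σ(W) is a curve, d̃ = 0 on contracted components) is
balanced. Encode Z by its weighted multigraph (vertices = irreducible components, weight plus number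
of loops = arithmetic genus of the component, one edge per node and two per tacnode joining distinct
components; canDeg Y = deg_Y ω_Z, cut Y = k_Y, K = canDeg of all vertices = 2g − 2; exceptional
vertex = exceptional component), and let S be the set of contracted components, each an exceptional
vertex. The components of X are the vertices outside S; for a set W of them, the subcurve σ(W) of X
has deg ω_X equal to canDeg Ŵ and k equal to cut Ŵ, where Ŵ is W together with the vertices of S all
of whose edges end in W, and the exceptional components of X are the exceptional vertices outside S.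
So the hypotheses below say that d̃ vanishes on S and that d = d̃|_{V∖S} is properly balanced on X
(Basic Inequality 2·|K·d_W − D·canDeg Ŵ| ≤ cut Ŵ·K for every W disjoint from S, D the total degree,
and value 1 on exceptional vertices outside S); the conclusion is the Basic Inequality for d̃ on Z,
for every set of vertices. -/
theorem result {V E : Type u} [Fintype V] [Fintype E]
    [DecidableEq V] [DecidableEq E] (ends : E → V × V) (w : V → ℕ) (hZ : IsQuasistableGraph ends w)
    (hg : 2 ≤ genus ends w) (S : Finset V) (hS : ∀ v ∈ S, IsExceptional ends w v)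
    (dt : V → ℤ) (hzero : ∀ v ∈ S, dt v = 0)
    (hBI : ∀ W : Finset V, Disjoint W S →
      2 * |canDeg ends w Finset.univ * (∑ v ∈ W, dt v) - (∑ v, dt v) * canDeg ends w (Finset.univ.filter (fun v : V => v ∈ W ∨ (v ∈ S ∧ ∀ e : E, ((ends e).1 = v → (ends e).2 ∈ W) ∧ ((ends e).2 = v → (ends e).1 ∈ W))))|
        ≤ (cut ends (Finset.univ.filter (fun v : V => v ∈ W ∨ (v ∈ S ∧ ∀ e : E, ((ends e).1 = v → (ends e).2 ∈ W) ∧ ((ends e).2 = v → (ends e).1 ∈ W)))) : ℤ) * canDeg ends w Finset.univ)
    (hone : ∀ v : V, v ∉ S → IsExceptional ends w v → dt v = 1) :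
    SatisfiesBI ends w dt := by
  classical
  intro Y
  have hK : 0 < canDeg ends w Finset.univ := Groth.Agent.Helper6.ExcBI.K_pos ends w hg
  have hq : ∀ e : E, ¬ ((ends e).1 ∈ S ∧ (ends e).2 ∈ S) := by
    rintro e ⟨h1, h2⟩
    by_cases hne : (ends e).1 = (ends e).2
    · exact (hS _ h1).2.1 e (Prod.ext rfl hne.symm)
    · exact hZ.2 e hne ⟨hS _ h1, hS _ h2⟩
  obtain ⟨W, hW⟩ : ∃ W, W = Y.filter (fun v => v ∉ S) := ⟨_, rfl⟩
  have hWmem : ∀ v, v ∈ W ↔ v ∈ Y ∧ v ∉ S := by
    intro v; rw [hW, Finset.mem_filter]
  have hdisj : Disjoint W S := by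
    rw [Finset.disjoint_left]
    intro v hv
    exact ((hWmem v).mp hv).2
  have hBIW := hBI W hdisj
  obtain ⟨What, hWhat⟩ : ∃ What, What = Finset.univ.filter (fun v : V => v ∈ W ∨ (v ∈ S ∧ ∀ e : E, ((ends e).1 = v → (ends e).2 ∈ W) ∧ ((ends e).2 = v → (ends e).1 ∈ W))) := ⟨_, rfl⟩
  rw [← hWhat] at hBIW
  have hWhatmem : ∀ v, v ∈ What ↔ v ∈ W ∨ (v ∈ S ∧ ∀ e : E, ((ends e).1 = v → (ends e).2 ∈ W) ∧
      ((ends e).2 = v → (ends e).1 ∈ W)) := by
    intro v; rw [hWhat, Finset.mem_filter]; simp only [Finset.mem_univ, true_and]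
  have h1 : ∑ v ∈ W, dt v = ∑ v ∈ Y, dt v := by
    rw [hW, Finset.sum_filter]
    refine Finset.sum_congr rfl fun v _ => ?_
    split_ifs with h
    · exact (hzero v h).symm
    · rfl
  have h2 : canDeg ends w What = canDeg ends w Y :=
    Groth.Agent.Helper6.ExcBI.canDeg_congr_exc ends w S hS What Y
      (Groth.Agent.Helper6.ExcBI.hat_iff_Y ends S Y W What hWmem hWhatmem)
  have h3 : (cut ends What : ℤ) ≤ cut ends Y :=
    Groth.Agent.Helper6.ExcBI.cut_hat_le ends w S hS hq Y W What hWmem hWhatmem
  rw [h1, h2] at hBIW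
  exact hBIW.trans (mul_le_mul_of_nonneg_right h3 hK.le)

end Groth.Agent.S19034
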