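import Groth.Statements.S19035
import Mathlib
-- import your own Groth.Agent.* helpers here

set_option autoImplicit false
universe u v w x
open CAlg

namespace Groth.Agent.S19035

/-- Let p be a prime and k a perfect field of characteristic p. Let (A_i) be a directed system of
finitely generated commutative k-algebras, indexed by a nonempty directed preorder, with compatible
k-algebra transition maps, and let B be a finitely generated k-algebra with compatible k-algebra
maps A_i → B which present B as the direct limit of the system (every element of B is the image of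
an element of some A_i, and two elements of some A_i with the same image in B have the same image in
some A_j). Then the p-typical Witt vectors commute with this direct limit: every Witt vector over B
is the image of a Witt vector over some A_i, and two Witt vectors over some A_i with the same image
over B already have the same image over some A_j. (Both finiteness hypotheses matter: for an
arbitrary filtered direct limit of commutative rings either assertion can fail.) -/
theorem result
    (p : ℕ) [Fact p.Prime] (k : Type u) [Field k] [CharP k p] [PerfectRing k p]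
    {ι : Type v} [Preorder ι] [IsDirected ι (· ≤ ·)] [Nonempty ι]
    (A : ι → Type w) [∀ i, CommRing (A i)] [∀ i, Algebra k (A i)]
    [∀ i, Algebra.FiniteType k (A i)]
    (f : ∀ i j, i ≤ j → (A i →ₐ[k] A j))
    (hf : ∀ i j l (hij : i ≤ j) (hjl : j ≤ l) (x : A i),
      f j l hjl (f i j hij x) = f i l (hij.trans hjl) x)
    (B : Type x) [CommRing B] [Algebra k B] [Algebra.FiniteType k B]
    (g : ∀ i, A i →ₐ[k] B)
    (hfg : ∀ i j (hij : i ≤ j) (x : A i), g j (f i j hij x) = g i x)
    (hsurj : ∀ b : B, ∃ i, ∃ x : A i, g i x = b)
    (hinj : ∀ i (x y : A i), g i x = g i y → ∃ j, ∃ hij : i ≤ j, f i j hij x = f i j hij y) :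
    (∀ w : WittVector p B, ∃ i, ∃ v : WittVector p (A i),
        WittVector.map (g i).toRingHom v = w) ∧
    (∀ i (v v' : WittVector p (A i)),
        WittVector.map (g i).toRingHom v = WittVector.map (g i).toRingHom v' →
        ∃ j, ∃ hij : i ≤ j,
          WittVector.map (f i j hij).toRingHom v = WittVector.map (f i j hij).toRingHom v') := by
  classical
  -- a stage where g i is surjective
  have hsurj' : ∃ i, Function.Surjective (g i) := by
    obtain ⟨S, hS⟩ := (Algebra.FiniteType.out : (⊤ : Subalgebra k B).FG)
    choose ib xb hxb using fun b : B => hsurj b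
    obtain ⟨i, hi⟩ := Finset.exists_le (S.image ib)
    refine ⟨i, ?_⟩
    have hrange : (g i).range = ⊤ := by
      rw [eq_top_iff, ← hS]
      refine Algebra.adjoin_le ?_
      intro b hb
      have hle : ib b ≤ i := hi _ (Finset.mem_image_of_mem _ hb)
      exact ⟨f (ib b) i hle (xb b), by
        change g i (f (ib b) i hle (xb b)) = b
        rw [hfg, hxb]⟩
    intro b
    have : b ∈ (g i).range := by rw [hrange]; trivial
    exact this
  refine ⟨?_, ?_⟩
  · intro w
    obtain ⟨i, hi⟩ := hsurj'
    choose s hs using hi
    refine ⟨i, WittVector.mk p (fun n => s (w.coeff n)), ?_⟩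
    ext n
    rw [WittVector.map_coeff]
    simp only [WittVector.coeff_mk]
    exact hs _
  · intro i v v' hvv'
    -- kernel of g i is finitely generated
    haveI : IsNoetherianRing (A i) := Algebra.FiniteType.isNoetherianRing k (A i)
    obtain ⟨T, hT⟩ := (IsNoetherian.noetherian (RingHom.ker (g i).toRingHom) :
      (RingHom.ker (g i).toRingHom).FG)
    have key : ∀ T' : Finset (A i), (∀ x ∈ T', g i x = 0) →
        ∃ j, ∃ hij : i ≤ j, ∀ x ∈ T', f i j hij x = 0 := by
      intro T'
      induction T' using Finset.induction_on with
      | empty => intro _; exact ⟨i, le_rfl, by simp⟩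
      | insert x T' hx ih =>
        intro hT'
        obtain ⟨j, hij, hj⟩ := ih (fun y hy => hT' y (Finset.mem_insert_of_mem hy))
        have hx0 : g i x = g i 0 := by rw [hT' x (Finset.mem_insert_self _ _), map_zero]
        obtain ⟨j', hij', hj'⟩ := hinj i x 0 hx0
        obtain ⟨l, hjl, hj'l⟩ := exists_ge_ge j j'
        refine ⟨l, hij.trans hjl, ?_⟩
        intro y hy
        rcases Finset.mem_insert.1 hy with rfl | hy
        · rw [← hf i j' l hij' hj'l, hj', map_zero, map_zero]
        · rw [← hf i j l hij hjl, hj y hy, map_zero]
    obtain ⟨j, hij, hj⟩ := key T (by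
      intro x hx
      have : x ∈ RingHom.ker (g i).toRingHom := by rw [← hT]; exact Ideal.subset_span hx
      exact this)
    have hle : RingHom.ker (g i).toRingHom ≤ RingHom.ker (f i j hij).toRingHom := by
      rw [← hT, Ideal.span_le]
      intro x hx
      exact hj x hx
    refine ⟨j, hij, ?_⟩
    ext n
    rw [WittVector.map_coeff, WittVector.map_coeff]
    have h1 := congrArg (fun w => WittVector.coeff w n) hvv'
    simp only [WittVector.map_coeff] at h1
    have h2 : v.coeff n - v'.coeff n ∈ RingHom.ker (g i).toRingHom := by
      rw [RingHom.mem_ker, map_sub, h1, sub_self]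
    have h3 := hle h2
    rw [RingHom.mem_ker, map_sub, sub_eq_zero] at h3
    exact h3

end Groth.Agent.S19035
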