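import Groth.Statements.S19037
import Mathlib
-- import your own Groth.Agent.* helpers here

set_option autoImplicit false
universe u v
open scoped Polynomial LaurentPolynomial
open Instab

namespace Groth.Agent.S19037

/-- Affine form over a ring R. Let A be a commutative ℤ-graded R-algebra and t an element of degree −1
(so A is a graded algebra over R[t] with t in degree −1), and let ψ : A[1/t] → R[T, T⁻¹] be an
R-algebra map sending t to T which is graded, in the sense that each homogeneous element of degree n
of A goes to an element of R times T^(−n). Then ψ is obtained by inverting t from an R-algebra map χ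
: A → R[T] (compared through the inclusion of R[T] in R[T, T⁻¹]) if and only if ψ kills t·a for
every homogeneous a of degree 1; such a χ is unique. (The source states this for quasi-coherent
graded algebras over an arbitrary base scheme; the statement is local on the base and is given here
over an affine base.) -/
theorem result
    {R : Type u} {A : Type v} [CommRing R] [CommRing A] [Algebra R A]
    (𝒜 : ℤ → Submodule R A) [GradedAlgebra 𝒜] (t : A) (ht : t ∈ 𝒜 (-1))
    (ψ : Localization.Away t →ₐ[R] R[T;T⁻¹])
    (hψt : ψ (algebraMap A (Localization.Away t) t) = LaurentPolynomial.T 1)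
    (hψ : ∀ (n : ℤ) (a : A), a ∈ 𝒜 n →
      ∃ r : R, ψ (algebraMap A (Localization.Away t) a) = LaurentPolynomial.C r * LaurentPolynomial.T (-n)) :
    (∃! χ : A →ₐ[R] R[X], ∀ a : A,
        ψ (algebraMap A (Localization.Away t) a) = Polynomial.toLaurentAlg (χ a)) ↔
      ∀ a ∈ 𝒜 1, ψ (algebraMap A (Localization.Away t) (t * a)) = 0 := by
  classical
  -- the composite algebra map A → R[T;T⁻¹]
  let φ : A →ₐ[R] R[T;T⁻¹] := ψ.comp (IsScalarTower.toAlgHom R A (Localization.Away t))
  have hφ : ∀ a, φ a = ψ (algebraMap A (Localization.Away t) a) := fun a => rfl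
  have hinj : Function.Injective (Polynomial.toLaurentAlg (R := R)) := by
    intro x y h
    have : Polynomial.toLaurent x = Polynomial.toLaurent y := by
      simpa [Polynomial.toLaurentAlg_apply] using h
    exact Polynomial.toLaurent_injective this
  have hT : ∀ n : ℤ, IsUnit (LaurentPolynomial.T n : R[T;T⁻¹]) := LaurentPolynomial.isUnit_T
  constructor
  · rintro ⟨χ, hχ, -⟩ a ha
    obtain ⟨r, hr⟩ := hψ 1 a ha
    have h1 : Polynomial.toLaurent (χ a) = LaurentPolynomial.C r * LaurentPolynomial.T (-1) := by
      rw [← hr, hχ a, Polynomial.toLaurentAlg_apply]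
    have hr0 : r = 0 := by
      by_contra hne
      have h2 := LaurentPolynomial.support_coeff_C_mul_T_of_ne_zero hne (-1)
      rw [← h1, LaurentPolynomial.support_coeff_toLaurent] at h2
      have h3 : (-1 : ℤ) ∈ Finset.map Nat.castEmbedding (χ a).support := by
        rw [h2]; simp
      rw [Finset.mem_map] at h3
      obtain ⟨k, -, hk⟩ := h3
      simp only [Nat.castEmbedding_apply] at hk
      omega
    rw [map_mul, map_mul, hr, hr0]
    simp
  · intro h
    -- every homogeneous element of positive degree is killed
    have hpos : ∀ (n : ℕ) (a : A), a ∈ 𝒜 ((n : ℤ) + 1) → φ a = 0 := by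
      intro n a ha
      have h1 : t ^ n * a ∈ 𝒜 1 := by
        have h2 : t ^ n ∈ 𝒜 ((n : ℤ) • (-1 : ℤ)) := by
          have := SetLike.pow_mem_graded n ht
          simpa using this
        have h3 := SetLike.mul_mem_graded h2 ha
        have h4 : ((n : ℤ) • (-1 : ℤ)) + ((n : ℤ) + 1) = 1 := by simp
        rwa [h4] at h3
      have h5 := h _ h1
      rw [← mul_assoc, map_mul, map_mul, map_mul, map_mul, map_pow, map_pow, hψt, ← pow_succ'] at h5
      have hu : IsUnit ((LaurentPolynomial.T 1 : R[T;T⁻¹]) ^ (n + 1)) := (hT 1).pow _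
      exact (hu.mul_right_eq_zero).mp h5
    -- each homogeneous element maps into the range
    have hhom : ∀ (n : ℤ) (a : A), a ∈ 𝒜 n → φ a ∈ (Polynomial.toLaurentAlg (R := R)).range := by
      intro n a ha
      rcases lt_or_ge 0 n with hn | hn
      · obtain ⟨k, rfl⟩ : ∃ k : ℕ, n = (k : ℤ) + 1 := ⟨(n - 1).toNat, by omega⟩
        rw [hpos k a ha]
        exact Subalgebra.zero_mem _
      · obtain ⟨r, hr⟩ := hψ n a ha
        obtain ⟨k, hk⟩ : ∃ k : ℕ, -n = (k : ℤ) := ⟨(-n).toNat, by omega⟩
        refine ⟨Polynomial.C r * Polynomial.X ^ k, ?_⟩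
        have h6 : Polynomial.toLaurentAlg (Polynomial.C r * Polynomial.X ^ k) =
            LaurentPolynomial.C r * LaurentPolynomial.T (k : ℤ) := by
          rw [Polynomial.toLaurentAlg_apply, Polynomial.toLaurent_C_mul_X_pow]
        rw [hφ, hr, hk]
        exact h6
    have hall : ∀ a : A, φ a ∈ (Polynomial.toLaurentAlg (R := R)).range := by
      intro a
      rw [← DirectSum.sum_support_decompose 𝒜 a, map_sum]
      exact Subalgebra.sum_mem _ fun i _ => hhom i _ (SetLike.coe_mem _)
    let e := AlgEquiv.ofInjective (Polynomial.toLaurentAlg (R := R)) hinj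
    let χ : A →ₐ[R] R[X] := (e.symm : _ →ₐ[R] R[X]).comp (φ.codRestrict _ hall)
    have hχ : ∀ a, φ a = Polynomial.toLaurentAlg (χ a) := by
      intro a
      have h1 : (e (χ a) : R[T;T⁻¹]) = Polynomial.toLaurentAlg (χ a) := rfl
      rw [← h1]
      simp [χ]
    refine ⟨χ, fun a => hχ a, ?_⟩
    intro χ' hχ'
    ext a : 1
    apply hinj
    rw [← hχ' a, ← hχ a]
    rfl

end Groth.Agent.S19037
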