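import Groth.Statements.S19041
import Mathlib
import Groth.Agent.Helper9.GcMod
-- import your own Groth.Agent.* helpers here

set_option autoImplicit false
universe u
open Dieu

namespace Groth.Agent.S19041

/-- Let `k` be a perfect field of characteristic `2` and `c` a natural number, and consider the explicit
`2c`-dimensional `k`-space on `X_1, …, X_c, Y_1, …, Y_c` with its operators `F` and `V` (`F Y_j =
0`; `F X_j = X_{j/2}` for `j` even and `Y_{c-(j-1)/2}` for `j` odd; `V Y_j = Y_{2j}` when `2j ≤ c`,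
else `0`; `V X_j = Y_{2c-2j+1}` when `2j > c`, else `0`). For `j = 2^e l` with `l` odd and `c < 2j ≤
2c`, and for `j'` with `c < 2j' ≤ 2c` and `n` with `2^n (2c - 2j' + 1) = c - (l-1)/2`, one has
`F^{e+1} X_j + V^{n+1} X_{j'} = 0`. (Stated over any perfect field of characteristic `2`; the source
works over an algebraically closed one.) -/
theorem result (c : ℕ) (k : Type u) [Field k] [CharP k 2] [PerfectRing k 2]
    (j e l : ℕ) (hj : j = 2 ^ e * l) (hl : Odd l) (hjc : j ≤ c) (hcj : c < 2 * j)
    (j' n : ℕ) (hj'c : j' ≤ c) (hcj' : c < 2 * j') (hn : 2 ^ n * (2 * c - 2 * j' + 1) = c - (l - 1) / 2) :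
    (W4c6eohyperellchar2.F c k)^[e + 1] (W4c6eohyperellchar2.X c k j) + (W4c6eohyperellchar2.V c k)^[n + 1] (W4c6eohyperellchar2.X c k j') = 0 := by
  have hA : ∀ e l : ℕ, 2 ^ e * l ≤ c →
      (W4c6eohyperellchar2.F c k)^[e] (W4c6eohyperellchar2.X c k (2 ^ e * l)) =
        W4c6eohyperellchar2.X c k l := by
    intro e
    induction e with
    | zero => intro l _; simp
    | succ e ih =>
      intro l hl
      have hpow : 2 ^ (e + 1) * l = 2 * (2 ^ e * l) := by ring
      obtain ⟨a, ha⟩ : ∃ a, a = 2 ^ e * l := ⟨_, rfl⟩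
      rw [← ha] at hpow
      rw [hpow] at hl
      rw [Function.iterate_succ_apply, hpow,
        Groth.Agent.Helper9.GcMod.F_X_even c k (2 * a) (by omega) hl]
      have h2 : 2 * a / 2 = a := by omega
      rw [h2, ha]
      exact ih l (by omega)
  have hB : ∀ n m : ℕ, (W4c6eohyperellchar2.V c k)^[n] (W4c6eohyperellchar2.Y c k m) =
      W4c6eohyperellchar2.Y c k (2 ^ n * m) := by
    intro n
    induction n with
    | zero => intro m; simp
    | succ n ih =>
      intro m
      rw [Function.iterate_succ_apply, Groth.Agent.Helper9.GcMod.V_Y, ih]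
      congr 1
      rw [pow_succ]; ring
  have hlj : l ≤ j := by
    rw [hj]
    exact Nat.le_mul_of_pos_left l (by positivity)
  have h1 : (W4c6eohyperellchar2.F c k)^[e + 1] (W4c6eohyperellchar2.X c k j) =
      W4c6eohyperellchar2.Y c k (c - (l - 1) / 2) := by
    rw [Function.iterate_succ_apply', hj, hA e l (by rw [← hj]; exact hjc)]
    exact Groth.Agent.Helper9.GcMod.F_X_odd c k l (Nat.odd_iff.1 hl) (by omega)
  have h2 : (W4c6eohyperellchar2.V c k)^[n + 1] (W4c6eohyperellchar2.X c k j') =
      W4c6eohyperellchar2.Y c k (c - (l - 1) / 2) := by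
    rw [Function.iterate_succ_apply, Groth.Agent.Helper9.GcMod.V_X c k j' (by omega) hj'c, hB, hn]
  rw [h1, h2]
  refine Prod.ext ?_ ?_ <;> funext i <;> simp [CharTwo.add_self_eq_zero]

end Groth.Agent.S19041
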