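import Groth.Statements.S19042
import Mathlib
import Groth.Agent.Helper9.GcMod
-- import your own Groth.Agent.* helpers here

set_option autoImplicit false
universe u
open Dieu

namespace Groth.Agent.S19042

/-- Let `k` be a perfect field of characteristic `2` and `c` a natural number, and consider the explicit
`2c`-dimensional `k`-space on `X_1, …, X_c, Y_1, …, Y_c` with its operators `F` and `V` (`F Y_j =
0`; `F X_j = X_{j/2}` for `j` even and `Y_{c-(j-1)/2}` for `j` odd; `V Y_j = Y_{2j}` when `2j ≤ c`,
else `0`; `V X_j = Y_{2c-2j+1}` when `2j > c`, else `0`). The vectors `X_j` with `c < 2j ≤ 2c`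
generate it as a module over `k[F, V]`: a `k`-subspace stable under `F` and `V` containing them is
everything. (Stated over any perfect field of characteristic `2`; the source works over an
algebraically closed one.) -/
theorem result (c : ℕ) (k : Type u) [Field k] [CharP k 2] [PerfectRing k 2]
    (N : Submodule k (W4c6eohyperellchar2.GcMod c k))
    (hF : ∀ v ∈ N, W4c6eohyperellchar2.F c k v ∈ N) (hV : ∀ v ∈ N, W4c6eohyperellchar2.V c k v ∈ N)
    (hX : ∀ j : ℕ, c < 2 * j → j ≤ c → W4c6eohyperellchar2.X c k j ∈ N) : N = ⊤ := by
  -- all X_j
  have hXall : ∀ d j : ℕ, c - j = d → 1 ≤ j → j ≤ c → W4c6eohyperellchar2.X c k j ∈ N := by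
    intro d
    induction d using Nat.strong_induction_on with
    | _ d ih =>
      intro j hd h1 hjc
      by_cases h2 : c < 2 * j
      · exact hX j h2 hjc
      · have hmem : W4c6eohyperellchar2.X c k (2 * j) ∈ N :=
          ih (c - 2 * j) (by omega) (2 * j) rfl (by omega) (by omega)
        have := hF _ hmem
        rw [Groth.Agent.Helper9.GcMod.F_X_even c k (2 * j) (by omega) (by omega)] at this
        have h3 : 2 * j / 2 = j := by omega
        rw [h3] at this
        exact this
  have hYall : ∀ m : ℕ, 1 ≤ m → m ≤ c → W4c6eohyperellchar2.Y c k m ∈ N := by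
    intro m
    induction m using Nat.strong_induction_on with
    | _ m ih =>
      intro h1 hmc
      by_cases hpar : m % 2 = 0
      · have hmem := ih (m / 2) (by omega) (by omega) (by omega)
        have := hV _ hmem
        rw [Groth.Agent.Helper9.GcMod.V_Y] at this
        have h3 : 2 * (m / 2) = m := by omega
        rw [h3] at this
        exact this
      · have hmem := hXall (c - (2 * c + 1 - m) / 2) ((2 * c + 1 - m) / 2) rfl (by omega) (by omega)
        have := hV _ hmem
        rw [Groth.Agent.Helper9.GcMod.V_X c k _ (by omega) (by omega)] at this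
        have h3 : 2 * c - 2 * ((2 * c + 1 - m) / 2) + 1 = m := by omega
        rw [h3] at this
        exact this
  rw [eq_top_iff]
  intro v _
  rw [Groth.Agent.Helper9.GcMod.decomp c k v]
  refine N.add_mem (N.sum_mem fun i _ => N.smul_mem _ (hXall _ _ rfl (by omega) (by have := i.2; omega)))
    (N.sum_mem fun i _ => N.smul_mem _ (hYall _ (by omega) (by have := i.2; omega)))

end Groth.Agent.S19042
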