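import Groth.Statements.S19043
import Mathlib
import Groth.Agent.Helper9.GcMod
-- import your own Groth.Agent.* helpers here

set_option autoImplicit false
universe u
open Dieu

namespace Groth.Agent.S19043

/-- Let `k` be a perfect field of characteristic `2` and `c` a natural number, and let `M` be the
explicit `2c`-dimensional `k`-space on `X_1, …, X_c, Y_1, …, Y_c` with its operators `F` and `V` (`F
Y_j = 0`; `F X_j = X_{j/2}` for `j` even and `Y_{c-(j-1)/2}` for `j` odd; `V Y_j = Y_{2j}` when `2j
≤ c`, else `0`; `V X_j = Y_{2c-2j+1}` when `2j > c`, else `0`). The classes of the `X_j` with `c <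
2j ≤ 2c` in the quotient of `M` by the `k`-span of `F(M) ∪ V(M)` are linearly independent and span
that quotient. (Stated over any perfect field of characteristic `2`; the source works over an
algebraically closed one.) -/
theorem result (c : ℕ) (k : Type u) [Field k] [CharP k 2] [PerfectRing k 2] :
    LinearIndependent k (fun j : {j : ℕ // c < 2 * j ∧ j ≤ c} =>
        Submodule.mkQ (Submodule.span k (Set.range (W4c6eohyperellchar2.F c k) ∪ Set.range (W4c6eohyperellchar2.V c k))) (W4c6eohyperellchar2.X c k j.1)) ∧
      Submodule.span k (Set.range (fun j : {j : ℕ // c < 2 * j ∧ j ≤ c} =>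
        Submodule.mkQ (Submodule.span k (Set.range (W4c6eohyperellchar2.F c k) ∪ Set.range (W4c6eohyperellchar2.V c k))) (W4c6eohyperellchar2.X c k j.1))) = ⊤ := by
  classical
  obtain ⟨S, hS⟩ : ∃ S : Submodule k (W4c6eohyperellchar2.GcMod c k), S =
      Submodule.span k (Set.range (W4c6eohyperellchar2.F c k) ∪ Set.range (W4c6eohyperellchar2.V c k)) :=
    ⟨_, rfl⟩
  rw [← hS]
  -- the big submodule T
  let T : Submodule k (W4c6eohyperellchar2.GcMod c k) :=
    { carrier := {v | ∀ i : Fin c, c < 2 * (i.val + 1) → v.1 i = 0}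
      add_mem' := by
        intro a b ha hb i hi
        simp only [Prod.fst_add, Pi.add_apply, ha i hi, hb i hi, add_zero]
      zero_mem' := by intro i _; rfl
      smul_mem' := by
        intro r a ha i hi
        simp only [Prod.smul_fst, Pi.smul_apply, ha i hi, smul_zero] }
  have hST : S ≤ T := by
    rw [hS, Submodule.span_le]
    rintro v (⟨w, rfl⟩ | ⟨w, rfl⟩)
    · intro i hi
      change W4c6eohyperellchar2.coefX w (2 * (i.val + 1)) ^ 2 = 0
      unfold W4c6eohyperellchar2.coefX
      rw [dif_neg (by omega)]
      simp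
    · intro i hi
      rfl
  -- membership of all basis vectors other than the chosen ones
  have hXS : ∀ j : ℕ, 1 ≤ j → 2 * j ≤ c → W4c6eohyperellchar2.X c k j ∈ S := by
    intro j h1 h2
    rw [hS]
    refine Submodule.subset_span (Or.inl ⟨W4c6eohyperellchar2.X c k (2 * j), ?_⟩)
    rw [Groth.Agent.Helper9.GcMod.F_X_even c k (2 * j) (by omega) (by omega)]
    congr 1
    omega
  have hYS : ∀ m : ℕ, 1 ≤ m → m ≤ c → W4c6eohyperellchar2.Y c k m ∈ S := by
    intro m h1 hmc
    rw [hS]
    by_cases hpar : m % 2 = 0
    · refine Submodule.subset_span (Or.inr ⟨W4c6eohyperellchar2.Y c k (m / 2), ?_⟩)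
      rw [Groth.Agent.Helper9.GcMod.V_Y]
      congr 1
      omega
    · refine Submodule.subset_span (Or.inr ⟨W4c6eohyperellchar2.X c k ((2 * c + 1 - m) / 2), ?_⟩)
      rw [Groth.Agent.Helper9.GcMod.V_X c k _ (by omega) (by omega)]
      congr 1
      omega
  constructor
  · rw [linearIndependent_iff']
    intro s g hsum j₀ hj₀
    have h1 : ∑ j ∈ s, g j • W4c6eohyperellchar2.X c k j.1 ∈ S := by
      rw [← Submodule.Quotient.mk_eq_zero, ← Submodule.mkQ_apply, map_sum, ← hsum]
      refine Finset.sum_congr rfl fun j _ => ?_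
      rw [map_smul]
    have h2 := hST h1 ⟨j₀.1 - 1, by have := j₀.2; omega⟩ (by have := j₀.2; simp only; omega)
    rw [Prod.fst_sum, Finset.sum_apply, Finset.sum_eq_single j₀] at h2
    · simp only [Prod.smul_fst, Pi.smul_apply, W4c6eohyperellchar2.X, smul_eq_mul] at h2
      rw [if_pos (by have := j₀.2; omega), mul_one] at h2
      exact h2
    · intro b _ hb
      simp only [Prod.smul_fst, Pi.smul_apply, W4c6eohyperellchar2.X, smul_eq_mul]
      rw [if_neg, mul_zero]
      intro h
      apply hb
      apply Subtype.ext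
      have := j₀.2
      omega
    · intro h; exact absurd hj₀ h
  · rw [eq_top_iff]
    rintro q -
    obtain ⟨v, rfl⟩ := Submodule.mkQ_surjective S q
    rw [Groth.Agent.Helper9.GcMod.decomp c k v, map_add, map_sum, map_sum]
    refine Submodule.add_mem _ (Submodule.sum_mem _ fun i _ => ?_) (Submodule.sum_mem _ fun i _ => ?_)
    · rw [map_smul]
      refine Submodule.smul_mem _ _ ?_
      by_cases h2 : c < 2 * (i.val + 1)
      · exact Submodule.subset_span ⟨⟨i.val + 1, h2, by have := i.2; omega⟩, rfl⟩
      · have : W4c6eohyperellchar2.X c k (i.val + 1) ∈ S := hXS _ (by omega) (by omega)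
        rw [Submodule.mkQ_apply, (Submodule.Quotient.mk_eq_zero S).2 this]
        exact Submodule.zero_mem _
    · rw [map_smul]
      refine Submodule.smul_mem _ _ ?_
      have : W4c6eohyperellchar2.Y c k (i.val + 1) ∈ S := hYS _ (by omega) (by have := i.2; omega)
      rw [Submodule.mkQ_apply, (Submodule.Quotient.mk_eq_zero S).2 this]
      exact Submodule.zero_mem _

end Groth.Agent.S19043
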