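import Groth.Statements.S19092
import Mathlib
-- import your own Groth.Agent.* helpers here

set_option autoImplicit false
universe u
open FrobAlg

namespace Groth.Agent.S19092

theorem finite_iff_exists {R T : Type*} [CommRing R] [CommRing T] (f : R →+* T) :
    f.Finite ↔ ∃ (n : ℕ) (g : Fin n → T), ∀ b : T, ∃ c : Fin n → R, ∑ k, f (c k) * g k = b := by
  letI := f.toAlgebra
  constructor
  · intro h
    have h' : Module.Finite R T := h
    obtain ⟨n, g, hg⟩ := Submodule.fg_iff_exists_fin_generating_family.1 h'.fg_top
    refine ⟨n, g, fun b => ?_⟩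
    have hb : b ∈ Submodule.span R (Set.range g) := by rw [hg]; trivial
    obtain ⟨c, hc⟩ := (Submodule.mem_span_range_iff_exists_fun R).1 hb
    refine ⟨c, ?_⟩
    rw [← hc]
    refine Finset.sum_congr rfl (fun k _ => ?_)
    rw [Algebra.smul_def]; rfl
  · rintro ⟨n, g, hg⟩
    show Module.Finite R T
    refine ⟨Submodule.fg_iff_exists_fin_generating_family.2 ⟨n, g, ?_⟩⟩
    rw [eq_top_iff]
    intro b _
    obtain ⟨c, hc⟩ := hg b
    rw [Submodule.mem_span_range_iff_exists_fun R]
    refine ⟨c, ?_⟩
    rw [← hc]
    refine Finset.sum_congr rfl (fun k _ => ?_)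
    rw [Algebra.smul_def]; rfl

/-- Let p be a prime and A a commutative ring of characteristic p whose absolute Frobenius a ↦ a^p is a
finite ring homomorphism. Then the same holds for every quotient and every localization of A: for
every ideal I of A such that A ⧸ I has characteristic p (every proper ideal) the absolute Frobenius
of A ⧸ I is finite, and for every submonoid S of A and every localization B of A at S of
characteristic p (every nonzero localization) the absolute Frobenius of B is finite. -/
theorem result (p : ℕ) [Fact p.Prime]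
    (A : Type u) [CommRing A] [CharP A p] (hF : (frobenius A p).Finite) :
    (∀ (I : Ideal A) [CharP (A ⧸ I) p], (frobenius (A ⧸ I) p).Finite) ∧
      ∀ (S : Submonoid A) (B : Type u) [CommRing B] [Algebra A B] [IsLocalization S B] [CharP B p],
        (frobenius B p).Finite := by
  constructor
  · intro I _
    have h1 : ((frobenius (A ⧸ I) p).comp (Ideal.Quotient.mk I)) =
        (Ideal.Quotient.mk I).comp (frobenius A p) := by
      ext a; simp [frobenius_def]
    have h2 : ((Ideal.Quotient.mk I).comp (frobenius A p)).Finite :=
      RingHom.Finite.comp (RingHom.Finite.of_surjective _ Ideal.Quotient.mk_surjective) hF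
    rw [← h1] at h2
    exact RingHom.Finite.of_comp_finite h2
  · intro S B _ _ _ _
    obtain ⟨n, g, hg⟩ := (finite_iff_exists _).1 hF
    rw [finite_iff_exists]
    refine ⟨n, fun k => algebraMap A B (g k), fun b => ?_⟩
    obtain ⟨⟨a, s⟩, has⟩ := IsLocalization.surj S b
    simp only at has
    have hs : IsUnit (algebraMap A B s) := IsLocalization.map_units B s
    obtain ⟨c, hc⟩ := hg (a * (s : A) ^ (p - 1))
    obtain ⟨v, hv⟩ := hs
    refine ⟨fun k => algebraMap A B (c k) * ((v⁻¹ : Bˣ) : B), ?_⟩
    have hp : p - 1 + 1 = p := Nat.sub_add_cancel (Fact.out : p.Prime).one_le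
    have e1 : algebraMap A B (a * (s : A) ^ (p - 1)) = b * (v : B) ^ p := by
      rw [map_mul, map_pow, ← has, ← hv, mul_assoc, ← pow_succ', hp]
    have e2 : ∑ k, algebraMap A B (frobenius A p (c k) * g k) = b * (v : B) ^ p := by
      rw [← map_sum, hc, e1]
    have e3 : ∀ k, frobenius B p (algebraMap A B (c k) * ((v⁻¹ : Bˣ) : B)) * algebraMap A B (g k) =
        algebraMap A B (frobenius A p (c k) * g k) * ((v⁻¹ : Bˣ) : B) ^ p := by
      intro k
      simp only [frobenius_def, map_mul, map_pow, mul_pow]
      ring
    simp only [e3, ← Finset.sum_mul, e2]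
    rw [mul_assoc, ← mul_pow, Units.mul_inv, one_pow, mul_one]

end Groth.Agent.S19092
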