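import Groth.Statements.S19106
import Mathlib
-- import your own Groth.Agent.* helpers here

set_option autoImplicit false
open HilbD

namespace Groth.Agent.S19106

/-- Let μ be a non-empty Young diagram, V the number of its cells, E the number of unordered pairs of
cells sharing a side (a cell together with the cell immediately below it, or immediately to its
right, both in μ) and Q the number of 2 × 2 blocks of cells of μ (cells c such that the cell
diagonally below-right of c is in μ, the other two corners being in μ automatically). Then V − E + Q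
− 1 = 0, stated as V + Q = E + 1 in the naturals. (The empty diagram, for which the count reads 0 −
0 + 0 − 1, is excluded.) -/
theorem result (μ : YoungDiagram) (hμ : μ ≠ ⊥) :
    μ.cells.card + (μ.cells.filter (fun c => (c.1 + 1, c.2 + 1) ∈ μ)).card =
      (μ.cells.filter (fun c => (c.1 + 1, c.2) ∈ μ)).card + (μ.cells.filter (fun c => (c.1, c.2 + 1) ∈ μ)).card + 1 := by
  classical
  -- (0,0) ∈ μ
  have h00 : ((0, 0) : ℕ × ℕ) ∈ μ := by
    have hne : μ.cells.Nonempty := by
      rw [Finset.nonempty_iff_ne_empty]
      intro he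
      apply hμ
      apply le_antisymm _ bot_le
      rw [← YoungDiagram.cells_subset_iff, he]
      exact Finset.empty_subset _
    obtain ⟨c, hc⟩ := hne
    exact μ.up_left_mem (Nat.zero_le c.1) (Nat.zero_le c.2) ((YoungDiagram.mem_cells c).mp hc)
  set A : Finset (ℕ × ℕ) := μ.cells.filter (fun d => 1 ≤ d.1) with hA
  set Bf : Finset (ℕ × ℕ) := μ.cells.filter (fun d => 1 ≤ d.2) with hB
  have hEv : (μ.cells.filter (fun c => (c.1 + 1, c.2) ∈ μ)).card = A.card := by
    apply Finset.card_nbij' (fun c => (c.1 + 1, c.2)) (fun d => (d.1 - 1, d.2))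
    · intro c hc
      simp only [Finset.coe_filter, Set.mem_ofPred_eq, YoungDiagram.mem_cells] at hc
      simp only [hA, Finset.coe_filter, Set.mem_ofPred_eq, YoungDiagram.mem_cells]
      exact ⟨hc.2, by omega⟩
    · intro d hd
      simp only [hA, Finset.coe_filter, Set.mem_ofPred_eq, YoungDiagram.mem_cells] at hd
      simp only [Finset.coe_filter, Set.mem_ofPred_eq, YoungDiagram.mem_cells]
      have e : d.1 - 1 + 1 = d.1 := by omega
      refine ⟨μ.up_left_mem (Nat.sub_le _ _) le_rfl hd.1, ?_⟩
      rw [e]
      exact hd.1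
    · intro c _
      simp
    · intro d hd
      simp only [hA, Finset.coe_filter, Set.mem_ofPred_eq] at hd
      ext
      · simp only; omega
      · rfl
  have hEh : (μ.cells.filter (fun c => (c.1, c.2 + 1) ∈ μ)).card = Bf.card := by
    apply Finset.card_nbij' (fun c => (c.1, c.2 + 1)) (fun d => (d.1, d.2 - 1))
    · intro c hc
      simp only [Finset.coe_filter, Set.mem_ofPred_eq, YoungDiagram.mem_cells] at hc
      simp only [hB, Finset.coe_filter, Set.mem_ofPred_eq, YoungDiagram.mem_cells]
      exact ⟨hc.2, by omega⟩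
    · intro d hd
      simp only [hB, Finset.coe_filter, Set.mem_ofPred_eq, YoungDiagram.mem_cells] at hd
      simp only [Finset.coe_filter, Set.mem_ofPred_eq, YoungDiagram.mem_cells]
      have e : d.2 - 1 + 1 = d.2 := by omega
      refine ⟨μ.up_left_mem le_rfl (Nat.sub_le _ _) hd.1, ?_⟩
      rw [e]
      exact hd.1
    · intro c _
      simp
    · intro d hd
      simp only [hB, Finset.coe_filter, Set.mem_ofPred_eq] at hd
      ext
      · rfl
      · simp only; omega
  have hQ : (μ.cells.filter (fun c => (c.1 + 1, c.2 + 1) ∈ μ)).card = (A ∩ Bf).card := by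
    apply Finset.card_nbij' (fun c => (c.1 + 1, c.2 + 1)) (fun d => (d.1 - 1, d.2 - 1))
    · intro c hc
      simp only [Finset.coe_filter, Set.mem_ofPred_eq, YoungDiagram.mem_cells] at hc
      simp only [hA, hB, Finset.coe_inter, Finset.coe_filter, Set.mem_inter_iff, Set.mem_ofPred_eq,
        YoungDiagram.mem_cells]
      exact ⟨⟨hc.2, by omega⟩, ⟨hc.2, by omega⟩⟩
    · intro d hd
      simp only [hA, hB, Finset.coe_inter, Finset.coe_filter, Set.mem_inter_iff, Set.mem_ofPred_eq,
        YoungDiagram.mem_cells] at hd
      simp only [Finset.coe_filter, Set.mem_ofPred_eq, YoungDiagram.mem_cells]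
      have e1 : d.1 - 1 + 1 = d.1 := by omega
      have e2 : d.2 - 1 + 1 = d.2 := by omega
      refine ⟨μ.up_left_mem (Nat.sub_le _ _) (Nat.sub_le _ _) hd.1.1, ?_⟩
      rw [e1, e2]
      exact hd.1.1
    · intro c _
      simp
    · intro d hd
      simp only [hA, hB, Finset.coe_inter, Finset.coe_filter, Set.mem_inter_iff,
        Set.mem_ofPred_eq] at hd
      ext
      · simp only; omega
      · simp only; omega
  have hU : A ∪ Bf = μ.cells.erase (0, 0) := by
    ext d
    simp only [hA, hB, Finset.mem_union, Finset.mem_filter, Finset.mem_erase, ne_eq, Prod.ext_iff]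
    constructor
    · rintro (⟨h1, h2⟩ | ⟨h1, h2⟩)
      · exact ⟨fun h => by omega, h1⟩
      · exact ⟨fun h => by omega, h1⟩
    · rintro ⟨h1, h2⟩
      by_cases h3 : 1 ≤ d.1
      · exact Or.inl ⟨h2, h3⟩
      · refine Or.inr ⟨h2, ?_⟩
        by_contra h4
        exact h1 ⟨by omega, by omega⟩
  have hcard := Finset.card_union_add_card_inter A Bf
  rw [hU, Finset.card_erase_of_mem ((YoungDiagram.mem_cells _).mpr h00)] at hcard
  have hpos : 0 < μ.cells.card := Finset.card_pos.mpr ⟨_, (YoungDiagram.mem_cells _).mpr h00⟩
  rw [hEv, hEh, hQ]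
  omega

end Groth.Agent.S19106
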