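import Groth.Statements.S19130
import Groth.Agent.Helper6.SepPushB
import Groth.Agent.Helper6.ConstUnitB
import Groth.Agent.S0626
import Groth.Agent.S0627

set_option autoImplicit false
universe u
open CategoryTheory CategoryTheory.Limits AlgebraicGeometry Opposite
open EtCoh

namespace Groth.Agent.S19130

/-- Let p be a prime and Y an integral scheme which is normal (every local ring is integrally closed in
its fraction field) and whose function field is algebraically closed. Then the étale cohomology of
the constant sheaf Z/p on Y is Z/p in degree 0 and vanishes in positive degrees: H^0(Y_et, Z/p) has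
exactly p elements and H^i(Y_et, Z/p) = 0 for i > 0. Moreover, for every nonempty open subscheme j :
U → Y, the unit morphism from the constant sheaf Z/p on Y_et to j_* of its restriction to U is an
isomorphism. -/
theorem result
    (p : ℕ) [Fact p.Prime] (Y : Scheme.{u}) [IsIntegral Y]
    (hnorm : ∀ y : Y, IsIntegrallyClosed (Y.presheaf.stalk y)) [IsAlgClosed Y.functionField] :
    Nat.card (EtCoh.H Y (EtCoh.const Y (ZMod p)) 0) = p ∧
      (∀ i : ℕ, 0 < i → Subsingleton (EtCoh.H Y (EtCoh.const Y (ZMod p)) i)) ∧
      ∀ U : Y.Opens, (U : Set Y).Nonempty →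
        IsIso ((EtCoh.pullPushAdj U.ι).unit.app (EtCoh.const Y (ZMod p))) := by
  have : IsSepClosed Y.functionField := inferInstance
  refine ⟨?_, ?_, fun U hU => Groth.Agent.S0627.result Y hnorm U hU (ZMod p)⟩
  · let N : AddCommGrpCat.{u + 1} := AddCommGrpCat.of (ULift.{u + 1} (ZMod p))
    have e0 := Sheaf.H.equiv₀ (EtCoh.const Y (ZMod p)) (EtCore.topIsTerminal Y)
    rw [Nat.card_congr e0.toEquiv]
    have hbij : Function.Bijective
        (fun n : N => (Groth.Agent.Helper4.ConstLoc.η Y N).app (op (EtCoh.top Y)) n) := by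
      constructor
      · intro a b hab
        obtain ⟨y⟩ : Nonempty Y := inferInstance
        exact Groth.Agent.Helper4.ConstLoc.const_injective N (EtCoh.top Y) y a b hab
      · intro t
        have : PreconnectedSpace (EtCoh.top Y).left :=
          inferInstanceAs (PreconnectedSpace Y)
        obtain ⟨n, hn⟩ := Groth.Agent.Helper6.ConstUnitB.exists_const_of_preconnected N
          (EtCoh.top Y) t
        exact ⟨n, hn.symm⟩
    rw [← Nat.card_congr (Equiv.ofBijective _ hbij)]
    show Nat.card (ULift.{u + 1} (ZMod p)) = p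
    rw [Nat.card_congr Equiv.ulift, Nat.card_zmod]
  · intro i hi
    obtain ⟨n, rfl⟩ : ∃ n, i = n + 1 := ⟨i - 1, by omega⟩
    have := Groth.Agent.S0626.result Y hnorm (ZMod p)
    let e : EtCoh.const Y (ZMod p) ≅ (EtCoh.push (Y.fromSpecStalk (genericPoint Y))).obj
        ((EtCoh.pull (Y.fromSpecStalk (genericPoint Y))).obj (EtCoh.const Y (ZMod p))) :=
      asIso ((EtCoh.pullPushAdj (Y.fromSpecStalk (genericPoint Y))).unit.app
        (EtCoh.const Y (ZMod p)))
    have hz : ∀ x : EtCoh.H Y (EtCoh.const Y (ZMod p)) (n + 1), x = 0 := by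
      intro x
      have h1 : x.comp (Abelian.Ext.mk₀ e.hom) (add_zero _) = 0 :=
        @Groth.Agent.Helper6.SepPushB.H_push_eq_zero (Y.functionField) inferInstance
          inferInstance Y (Y.fromSpecStalk (genericPoint Y)) n
          ((EtCoh.pull (Y.fromSpecStalk (genericPoint Y))).obj (EtCoh.const Y (ZMod p))) _
      have h2 : (x.comp (Abelian.Ext.mk₀ e.hom) (add_zero _)).comp
          (Abelian.Ext.mk₀ e.inv) (add_zero _) = x := by
        rw [Abelian.Ext.comp_assoc_of_third_deg_zero, Abelian.Ext.mk₀_comp_mk₀, Iso.hom_inv_id,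
          Abelian.Ext.comp_mk₀_id]
      rw [← h2, h1, Abelian.Ext.zero_comp]
    exact ⟨fun a b => (hz a).trans (hz b).symm⟩

end Groth.Agent.S19130
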