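import Groth.Statements.S19135
import Groth.Agent.Helper6.LcD13
import Groth.Agent.Helper6.LcD8
import Groth.Agent.S0299
import Groth.Agent.Helper6.MatlisBidual
import Groth.Agent.Helper6.DFinExt
import Groth.Agent.Helper6.BiD9

set_option autoImplicit false
universe u
open CategoryTheory
attribute [local instance] HasDerivedCategory.standard
open Dual

namespace Groth.Agent.S19135

/-- In the case of the spectrum of the base local ring and its closed point, let A be a Noetherian local
ring with maximal ideal m and ω a normalized dualizing complex over A (Hom(k, ω[i]) = 0 in D(A) for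
i ≠ 0), assume the total right derived functor RΓ_m of the m-power-torsion functor exists on D(A),
and let M be an object of D(A) which is bounded with finitely generated cohomology modules. Then
RHom(M, ω) is concentrated in degrees ≥ 0 (Hom(M, ω[i]) = 0 for all i < 0) if and only if RΓ_m M is
concentrated in degrees ≤ 0 (H^i(RΓ_m M) = 0 for all i > 0); and RHom(M, ω) is concentrated in
degrees ≤ 0 if and only if RΓ_m M is concentrated in degrees ≥ 0. In particular M is perverse
coherent (RHom(M, ω) concentrated in degree 0) exactly when its local cohomology at m is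
concentrated in degree 0. (The published statement of the two halves, read in cohomological
indexing, has the inequalities on the local cohomology side exchanged: over a field k with ω = k,
the complex k[1] has RHom(k[1], ω) = k[−1] concentrated in degrees ≥ 0 while its local cohomology
k[1] is concentrated in degree −1, not in degrees ≥ 0. This statement gives the form that local
duality yields, which is the one compatible with the description of the perverse t-structure by
support conditions.) -/
theorem result
    (A : Type u) [CommRing A] [IsLocalRing A] [IsNoetherianRing A]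
    (ω : Dual.D A) (hω : Dual.IsDualizing A ω) (hn : Dual.IsNormalized A ω)
    [DRing.HasRgammaI (IsLocalRing.maximalIdeal A)] (M : Dual.D A)
    (hfin : ∀ i : ℤ, Module.Finite A (Dual.HD A M i))
    (hbd : ∃ a b : ℤ, ∀ i : ℤ, (i < a ∨ b < i) → Subsingleton (Dual.HD A M i)) :
    ((∀ i : ℤ, i < 0 → Subsingleton (M ⟶ ω⟦i⟧)) ↔
      (∀ i : ℤ, 0 < i → Subsingleton (Dual.HD A ((DRing.RgammaI (IsLocalRing.maximalIdeal A)).obj M) i))) ∧
    ((∀ i : ℤ, 0 < i → Subsingleton (M ⟶ ω⟦i⟧)) ↔
      (∀ i : ℤ, i < 0 → Subsingleton (Dual.HD A ((DRing.RgammaI (IsLocalRing.maximalIdeal A)).obj M) i))) := by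
  obtain ⟨E, _, _, f, hf⟩ := Groth.Agent.S0299.result A (IsLocalRing.ResidueField A)
  obtain ⟨I, a, b, hv, hinj, _, ⟨e⟩, _, _⟩ := Groth.Agent.Helper6.BiD.exists_dualizing_rep ω hω
  have hXfin : ∀ j : ℤ, Module.Finite A (M ⟶ (CategoryTheory.shiftFunctor (Dual.D A) j).obj ω) :=
    fun j => Groth.Agent.Helper6.DFinExt.main M ω hfin hω.finite_cohomology
      ⟨a, b, I, hv, hinj, ⟨e⟩⟩ j
  have key : ∀ i : ℤ, Subsingleton (Dual.HD A ((DRing.RgammaI (IsLocalRing.maximalIdeal A)).obj M) i) ↔
      Subsingleton (M ⟶ (CategoryTheory.shiftFunctor (Dual.D A) (-i)).obj ω) := by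
    intro i
    obtain ⟨e1⟩ := Groth.Agent.Helper6.LcD.hd_rgamma (IsLocalRing.maximalIdeal A) i M
    obtain ⟨e2⟩ := Groth.Agent.Helper6.LcD.main ω hω hn E f hf M hbd hfin i
    have e12 := e1 ≪≫ₗ e2
    haveI := hXfin (-i)
    haveI : Small.{u} (M ⟶ (CategoryTheory.shiftFunctor (Dual.D A) (-i)).obj ω) :=
      Module.Finite.small A _
    let eX := Shrink.linearEquiv.{u} A (M ⟶ (CategoryTheory.shiftFunctor (Dual.D A) (-i)).obj ω)
    constructor
    · intro h
      by_contra hne
      rw [not_subsingleton_iff_nontrivial] at hne
      obtain ⟨x, hx⟩ := exists_ne (0 : M ⟶ (CategoryTheory.shiftFunctor (Dual.D A) (-i)).obj ω)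
      have hx' : eX.symm x ≠ 0 := fun h0 => hx (by
        have := congrArg eX h0
        rwa [LinearEquiv.apply_symm_apply, map_zero] at this)
      obtain ⟨φ, hφ⟩ := Groth.Agent.Helper6.MatlisBidual.exists_map_ne_zero f hf.injective
        hf.isInjective (eX.symm x) hx'
      have h0 : (φ ∘ₗ eX.symm.toLinearMap) = 0 := by
        have := Subsingleton.elim (e12.symm (φ ∘ₗ eX.symm.toLinearMap)) (e12.symm 0)
        exact e12.symm.injective this
      exact hφ (LinearMap.congr_fun h0 x)
    · intro h
      haveI : Subsingleton ((M ⟶ (CategoryTheory.shiftFunctor (Dual.D A) (-i)).obj ω) →ₗ[A] E) :=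
        ⟨fun x y => by
          ext z
          rw [Subsingleton.elim z 0, map_zero, map_zero]⟩
      exact e12.toEquiv.subsingleton
  refine ⟨⟨fun h i hi => (key i).mpr (h (-i) (by omega)), fun h i hi => ?_⟩,
    ⟨fun h i hi => (key i).mpr (h (-i) (by omega)), fun h i hi => ?_⟩⟩
  · have := (key (-i)).mp (h (-i) (by omega))
    rwa [neg_neg] at this
  · have := (key (-i)).mp (h (-i) (by omega))
    rwa [neg_neg] at this

end Groth.Agent.S19135
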