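import Groth.Statements.S19136
import Mathlib
-- import your own Groth.Agent.* helpers here

set_option autoImplicit false
universe u
open Instab

namespace Groth.Agent.S19136

/-- Let p be a seminorm and ℓ a linear form on a real vector space, let y₀ and y₁ be vectors at which p
is positive and ℓ is non-negative, and let y = t y₀ + (1 - t) y₁ with 0 < t < 1 be a point of the
open segment at which p is positive. Then ℓ(y)/p(y) is at least the smaller of ℓ(y₀)/p(y₀) and
ℓ(y₁)/p(y₁), and if it equals that smaller value then ℓ(y₀)/p(y₀) = ℓ(y₁)/p(y₁). (The published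
lemma concerns the numerical invariant attached to a degree-two cohomology class and a semi-norm on
graded points of a stack; restricted to one rational simplex that invariant is the quotient of a
linear form by a semi-norm on the non-negative orthant of a real coordinate space, and local
quasi-concavity there amounts to this inequality with its equality clause, the set where the linear
form is non-negative being automatically convex; the lemma's further assertion, that the invariant
is positive at no pair of antipodal points, is not stated here. The vector space is arbitrary here.) -/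
theorem result {E : Type u} [AddCommGroup E] [Module ℝ E]
    (p : Seminorm ℝ E) (ℓ : E →ₗ[ℝ] ℝ) (y₀ y₁ : E) (h₀ : 0 < p y₀) (h₁ : 0 < p y₁)
    (hℓ₀ : 0 ≤ ℓ y₀) (hℓ₁ : 0 ≤ ℓ y₁) (t : ℝ) (ht₀ : 0 < t) (ht₁ : t < 1)
    (hy : 0 < p (t • y₀ + (1 - t) • y₁)) :
    min (ℓ y₀ / p y₀) (ℓ y₁ / p y₁) ≤ ℓ (t • y₀ + (1 - t) • y₁) / p (t • y₀ + (1 - t) • y₁) ∧
      (ℓ (t • y₀ + (1 - t) • y₁) / p (t • y₀ + (1 - t) • y₁) = min (ℓ y₀ / p y₀) (ℓ y₁ / p y₁) →
        ℓ y₀ / p y₀ = ℓ y₁ / p y₁) := by
  have hpy : p (t • y₀ + (1 - t) • y₁) ≤ t * p y₀ + (1 - t) * p y₁ := by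
    have h := map_add_le_add p (t • y₀) ((1 - t) • y₁)
    rw [map_smul_eq_mul, map_smul_eq_mul, Real.norm_eq_abs, Real.norm_eq_abs,
      abs_of_pos ht₀, abs_of_pos (by linarith : (0 : ℝ) < 1 - t)] at h
    exact h
  have hℓy : ℓ (t • y₀ + (1 - t) • y₁) = t * ℓ y₀ + (1 - t) * ℓ y₁ := by
    rw [map_add, map_smul, map_smul, smul_eq_mul, smul_eq_mul]
  rw [hℓy]
  generalize p (t • y₀ + (1 - t) • y₁) = Py at *
  generalize ℓ y₀ = a at *
  generalize ℓ y₁ = b at *
  generalize p y₀ = P0 at *
  generalize p y₁ = P1 at *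
  have h1t : 0 < 1 - t := by linarith
  rcases le_total (a / P0) (b / P1) with hab | hab
  · rw [min_eq_left hab]
    have hab' : a * P1 ≤ b * P0 := (div_le_div_iff₀ h₀ h₁).1 hab
    have key : a * Py ≤ (t * a + (1 - t) * b) * P0 := by
      have h2 : a * Py ≤ a * (t * P0 + (1 - t) * P1) := mul_le_mul_of_nonneg_left hpy hℓ₀
      have h3 : (1 - t) * (a * P1) ≤ (1 - t) * (b * P0) := mul_le_mul_of_nonneg_left hab' h1t.le
      nlinarith
    refine ⟨(div_le_div_iff₀ h₀ hy).2 key, fun heq => ?_⟩
    have heq' : (t * a + (1 - t) * b) * P0 = a * Py := (div_eq_div_iff hy.ne' h₀.ne').1 heq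
    have h2 : a * Py ≤ a * (t * P0 + (1 - t) * P1) := mul_le_mul_of_nonneg_left hpy hℓ₀
    have h4 : (1 - t) * (b * P0) ≤ (1 - t) * (a * P1) := by nlinarith
    have h5 : b * P0 ≤ a * P1 := le_of_mul_le_mul_left h4 h1t
    rw [div_eq_div_iff h₀.ne' h₁.ne']
    linarith
  · rw [min_eq_right hab]
    have hab' : b * P0 ≤ a * P1 := (div_le_div_iff₀ h₁ h₀).1 hab
    have key : b * Py ≤ (t * a + (1 - t) * b) * P1 := by
      have h2 : b * Py ≤ b * (t * P0 + (1 - t) * P1) := mul_le_mul_of_nonneg_left hpy hℓ₁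
      have h3 : t * (b * P0) ≤ t * (a * P1) := mul_le_mul_of_nonneg_left hab' ht₀.le
      nlinarith
    refine ⟨(div_le_div_iff₀ h₁ hy).2 key, fun heq => ?_⟩
    have heq' : (t * a + (1 - t) * b) * P1 = b * Py := (div_eq_div_iff hy.ne' h₁.ne').1 heq
    have h2 : b * Py ≤ b * (t * P0 + (1 - t) * P1) := mul_le_mul_of_nonneg_left hpy hℓ₁
    have h4 : t * (a * P1) ≤ t * (b * P0) := by nlinarith
    have h5 : a * P1 ≤ b * P0 := le_of_mul_le_mul_left h4 ht₀
    rw [div_eq_div_iff h₀.ne' h₁.ne']
    linarith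

end Groth.Agent.S19136
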