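import Groth.Statements.S19137
import Mathlib
-- import your own Groth.Agent.* helpers here

set_option autoImplicit false
universe u
open Instab

namespace Groth.Agent.S19137

/-- Let p be a seminorm on a real vector space whose unit ball is strictly convex in the sense that p(a
+ b) < p(a) + p(b) whenever p(a) and p(b) are non-zero and b is not a positive multiple of a; let ℓ
be a linear form, y₀ and y₁ vectors with p and ℓ positive at both and y₁ not a positive multiple of
y₀, and y = t y₀ + (1 - t) y₁ with 0 < t < 1 a point at which p is positive. Then ℓ(y)/p(y) is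
strictly greater than the smaller of ℓ(y₀)/p(y₀) and ℓ(y₁)/p(y₁). (The published lemma says that
when the norm on graded points is locally a norm with strictly convex unit balls, the numerical
invariant attached to a degree-two class and that norm is strictly quasi-concave on each cone and is
positive at no pair of antipodal points; on one rational simplex the first property is this strict
form of the quasi-concavity inequality for the quotient of a linear form by the norm, at points
where the linear form is positive, and the second property is not stated here. The vector space is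
arbitrary here.) -/
theorem result {E : Type u} [AddCommGroup E] [Module ℝ E]
    (p : Seminorm ℝ E)
    (hp : ∀ a b : E, p a ≠ 0 → p b ≠ 0 → (¬ ∃ c : ℝ, 0 < c ∧ b = c • a) → p (a + b) < p a + p b)
    (ℓ : E →ₗ[ℝ] ℝ) (y₀ y₁ : E) (h₀ : 0 < p y₀) (h₁ : 0 < p y₁)
    (hℓ₀ : 0 < ℓ y₀) (hℓ₁ : 0 < ℓ y₁) (hne : ¬ ∃ c : ℝ, 0 < c ∧ y₁ = c • y₀)
    (t : ℝ) (ht₀ : 0 < t) (ht₁ : t < 1) (hy : 0 < p (t • y₀ + (1 - t) • y₁)) :
    min (ℓ y₀ / p y₀) (ℓ y₁ / p y₁) < ℓ (t • y₀ + (1 - t) • y₁) / p (t • y₀ + (1 - t) • y₁) := by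
  have h1t : 0 < 1 - t := by linarith
  have hpa : p (t • y₀) = t * p y₀ := by
    rw [map_smul_eq_mul, Real.norm_eq_abs, abs_of_pos ht₀]
  have hpb : p ((1 - t) • y₁) = (1 - t) * p y₁ := by
    rw [map_smul_eq_mul, Real.norm_eq_abs, abs_of_pos h1t]
  have hpy : p (t • y₀ + (1 - t) • y₁) < t * p y₀ + (1 - t) * p y₁ := by
    have h := hp (t • y₀) ((1 - t) • y₁) (by rw [hpa]; positivity) (by rw [hpb]; positivity) ?_
    · rwa [hpa, hpb] at h
    · rintro ⟨c, hc, hcy⟩
      apply hne
      refine ⟨(1 - t)⁻¹ * (c * t), by positivity, ?_⟩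
      have : y₁ = (1 - t)⁻¹ • ((1 - t) • y₁) := by
        rw [smul_smul, inv_mul_cancel₀ h1t.ne', one_smul]
      rw [this, hcy, smul_smul, smul_smul, mul_assoc]
  have hℓy : ℓ (t • y₀ + (1 - t) • y₁) = t * ℓ y₀ + (1 - t) * ℓ y₁ := by
    rw [map_add, map_smul, map_smul, smul_eq_mul, smul_eq_mul]
  rw [hℓy]
  generalize p (t • y₀ + (1 - t) • y₁) = Py at *
  generalize ℓ y₀ = a at *
  generalize ℓ y₁ = b at *
  generalize p y₀ = P0 at *
  generalize p y₁ = P1 at *
  rcases le_total (a / P0) (b / P1) with hab | hab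
  · rw [min_eq_left hab]
    have hab' : a * P1 ≤ b * P0 := (div_le_div_iff₀ h₀ h₁).1 hab
    have key : a * Py < (t * a + (1 - t) * b) * P0 := by
      have h2 : a * Py < a * (t * P0 + (1 - t) * P1) := mul_lt_mul_of_pos_left hpy hℓ₀
      have h3 : (1 - t) * (a * P1) ≤ (1 - t) * (b * P0) := mul_le_mul_of_nonneg_left hab' h1t.le
      nlinarith
    exact (div_lt_div_iff₀ h₀ hy).2 key
  · rw [min_eq_right hab]
    have hab' : b * P0 ≤ a * P1 := (div_le_div_iff₀ h₁ h₀).1 hab
    have key : b * Py < (t * a + (1 - t) * b) * P1 := by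
      have h2 : b * Py < b * (t * P0 + (1 - t) * P1) := mul_lt_mul_of_pos_left hpy hℓ₁
      have h3 : t * (b * P0) ≤ t * (a * P1) := mul_le_mul_of_nonneg_left hab' ht₀.le
      nlinarith
    exact (div_lt_div_iff₀ h₁ hy).2 key

end Groth.Agent.S19137
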