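import Groth.Statements.S1914
import Groth.Agent.Helper6.KSam6

set_option autoImplicit false
universe u
open CategoryTheory
attribute [local instance] HasDerivedCategory.standard
open IntMult

namespace Groth.Agent.S1914

/-- Let A be a Noetherian local ring, I = (g₁, …, g_c) an ideal generated by a regular sequence and M a
finite A-module with Supp(M/IM) of dimension ≤ 0. Then c! · length_A(M/I^t M)/t^c tends, as t → ∞,
to Σ_i (−1)^i length_A Tor_i^A(A/I, M); that is, e_I(M, c) equals this alternating sum. -/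
theorem result (A : Type u) [CommRing A] [IsNoetherianRing A] [IsLocalRing A] (c : ℕ) (g : Fin c → A) (hreg : RingTheory.Sequence.IsRegular A (List.ofFn g)) (M : Type u) [AddCommGroup M] [Module A M] [Module.Finite A M] (h0 : Module.supportDim A (M ⧸ (Ideal.span (Set.range g) • (⊤ : Submodule A M))) ≤ 0) : Filter.Tendsto (fun t : ℕ => (c.factorial : ℝ) * ((Module.length A (M ⧸ (Ideal.span (Set.range g) ^ t • (⊤ : Submodule A M)))).toNat : ℝ) / (t : ℝ) ^ c) Filter.atTop (nhds (IntMult.chi A (A ⧸ Ideal.span (Set.range g)) M : ℝ)) := by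
  have hset : {a | a ∈ List.ofFn g} = Set.range g := by
    ext a
    exact List.mem_ofFn
  have hI : Ideal.ofList (List.ofFn g) = Ideal.span (Set.range g) := by
    unfold Ideal.ofList
    rw [hset]
  have hne : Ideal.span (Set.range g) ≠ ⊤ := by
    intro e
    apply hreg.top_ne_smul
    rw [hI, e, smul_eq_mul, Ideal.top_mul]
  have hl : ∀ a ∈ List.ofFn g, a ∈ IsLocalRing.maximalIdeal A := by
    intro a ha
    obtain ⟨j, rfl⟩ := List.mem_ofFn.mp ha
    rw [IsLocalRing.mem_maximalIdeal]
    intro hu
    exact hne (Ideal.eq_top_of_isUnit_mem _ (Ideal.subset_span ⟨j, rfl⟩) hu)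
  have hfl : IsFiniteLength A (M ⧸ (Ideal.span (Set.range g) • (⊤ : Submodule A M))) :=
    Groth.Agent.Helper1.SupportDim.isFiniteLength_of_supportDim_le_zero h0
  have hFL : Groth.Agent.Helper6.KEuler.FL (Ideal.span {a | a ∈ List.ofFn g}) M := by
    rw [hset]
    exact Groth.Agent.Helper6.KEuler.FL_of_isFiniteLength_quot hfl
  have key := Groth.Agent.Helper6.KSam.samuel_tendsto (List.ofFn g) c List.length_ofFn hl M hFL
  rw [hset] at key
  have hchi := Groth.Agent.Helper6.KSam.intMult_chi_eq_chiK (List.ofFn g)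
    hreg.toIsWeaklyRegular M
  rw [hI] at hchi
  rw [hchi]
  exact key

end Groth.Agent.S1914
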