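import Groth.Statements.S19170
import Mathlib
-- import your own Groth.Agent.* helpers here

set_option autoImplicit false
universe u
open ProCompl

namespace Groth.Agent.S19170

/-- Let B be a topological abelian group generated as a group by a compact subset. Then every character
χ : B → ℚ/ℤ with open kernel (a continuous character for discrete ℚ/ℤ) has kernel of finite index;
consequently each such character factors through B^∧, the completion of B taken along its
finite-index open subgroups, i.e. (B^∧)^D = B^D. (The published statement assumes moreover that B is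
Hausdorff, locally compact and totally disconnected; only compact generation is needed for this
assertion, so those assumptions are dropped here.) -/
theorem result
    {B : Type u} [AddCommGroup B] [TopologicalSpace B] [IsTopologicalAddGroup B]
    (hcg : ∃ K : Set B, IsCompact K ∧ AddSubgroup.closure K = ⊤)
    (χ : B →+ ℚ ⧸ AddSubgroup.zmultiples (1 : ℚ)) (hχ : IsOpen (χ.ker : Set B)) : χ.ker.FiniteIndex := by
  classical
  obtain ⟨K, hK, hKgen⟩ := hcg
  let U : B → Set B := fun b => {x | χ x = χ b}
  have hU : ∀ b, IsOpen (U b) := by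
    intro b
    have : U b = (fun x => x - b) ⁻¹' (χ.ker : Set B) := by
      ext x
      simp [U, AddMonoidHom.mem_ker, sub_eq_zero]
    rw [this]
    exact hχ.preimage (continuous_id.sub continuous_const)
  obtain ⟨t, ht⟩ := hK.elim_finite_subcover U hU (fun x _ => Set.mem_iUnion.2 ⟨x, rfl⟩)
  have himg : (χ '' K).Finite := by
    apply (t.image χ).finite_toSet.subset
    rintro _ ⟨x, hx, rfl⟩
    obtain ⟨b, hb, hxb⟩ := Set.mem_iUnion₂.1 (ht hx)
    simp only [Finset.coe_image, Set.mem_image, Finset.mem_coe]
    exact ⟨b, hb, hxb.symm⟩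
  have hrange : χ.range = AddSubgroup.closure (χ '' K) := by
    rw [AddMonoidHom.range_eq_map, ← hKgen, AddMonoidHom.map_closure]
  have hfg : AddGroup.FG χ.range := by
    rw [AddGroup.fg_iff_addSubgroup_fg, hrange]
    exact ⟨himg.toFinset, by simp⟩
  have htors0 : IsAddTorsion (ℚ ⧸ AddSubgroup.zmultiples (1 : ℚ)) := by
    intro x
    obtain ⟨q, rfl⟩ := QuotientAddGroup.mk_surjective x
    rw [isOfFinAddOrder_iff_nsmul_eq_zero]
    refine ⟨q.den, q.den_pos, ?_⟩
    rw [← QuotientAddGroup.mk_nsmul, QuotientAddGroup.eq_zero_iff, AddSubgroup.mem_zmultiples_iff]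
    refine ⟨q.num, ?_⟩
    rw [nsmul_eq_mul, zsmul_eq_mul, mul_one, mul_comm]
    exact (Rat.mul_den_eq_num q).symm
  have htors : IsAddTorsion χ.range := htors0.addSubgroup _
  haveI : Finite χ.range := AddCommGroup.finite_of_fg_isAddTorsion _ htors
  refine ⟨?_⟩
  rw [AddSubgroup.index_ker]
  exact Nat.card_pos.ne'

end Groth.Agent.S19170
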