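import Groth.Statements.S19169
import Groth.Agent.S19170
import Groth.Agent.Helper9.OpenSubgrp
import Mathlib
-- import your own Groth.Agent.* helpers here

set_option autoImplicit false
universe u
open ProCompl

namespace Groth.Agent.S19169

/-- Let B be a Hausdorff, locally compact, totally disconnected topological abelian group which is
compactly generated, i.e. generated as a group by a compact subset. Then the open subgroups of
finite index of B have trivial intersection: every nonzero b lies outside some open subgroup of
finite index. Equivalently, the natural map from B to its completion with respect to open subgroups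
of finite index is injective. -/
theorem result
    {B : Type u} [AddCommGroup B] [TopologicalSpace B] [IsTopologicalAddGroup B]
    [T2Space B] [LocallyCompactSpace B] [TotallyDisconnectedSpace B]
    (hcg : ∃ K : Set B, IsCompact K ∧ AddSubgroup.closure K = ⊤) (b : B) (hb : b ≠ 0) :
    ∃ B' : AddSubgroup B, IsOpen (B' : Set B) ∧ B'.FiniteIndex ∧ b ∉ B' := by
  classical
  have hO : IsOpen ({b}ᶜ : Set B) := isOpen_compl_singleton
  have h0 : (0 : B) ∈ ({b}ᶜ : Set B) := by simpa using hb.symm
  obtain ⟨U, hUo, hUO⟩ := Groth.Agent.Helper9.exists_openAddSubgroup_subset hO h0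
  have hbU : b ∉ U := fun h => hUO h rfl
  have hne : (QuotientAddGroup.mk b : B ⧸ U) ≠ 0 := fun h =>
    hbU ((QuotientAddGroup.eq_zero_iff b).mp h)
  obtain ⟨φ, hφ⟩ := CharacterModule.exists_character_apply_ne_zero_of_ne_zero hne
  let ψ : B →+ ℚ ⧸ AddSubgroup.zmultiples (1 : ℚ) := φ.comp (QuotientAddGroup.mk' U)
  have hψ : IsOpen (ψ.ker : Set B) := by
    apply AddSubgroup.isOpen_mono (H₁ := U) _ hUo
    intro a ha
    show φ (QuotientAddGroup.mk a) = 0
    rw [(QuotientAddGroup.eq_zero_iff a).mpr ha, map_zero]
  exact ⟨ψ.ker, hψ, Groth.Agent.S19170.result hcg ψ hψ, fun h => hφ h⟩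

end Groth.Agent.S19169
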