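import Groth.Statements.S19172
import Groth.Agent.Helper9.FIComplLim
-- import your own Groth.Agent.* helpers here

set_option autoImplicit false
universe u v w
open ProCompl

namespace Groth.Agent.S19172

open W4c61motalbduality Groth.Agent.Helper9.FILim

open W4c61motalbduality in
/-- Let i : A → B and p : B → C be continuous homomorphisms of topological abelian groups with p
surjective and open and with the kernel of p equal to the image of i. Then the induced sequence of
completions with respect to open subgroups of finite index, A^∧ → B^∧ → C^∧ → 0, is exact: the map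
B^∧ → C^∧ is surjective and its kernel is the image of A^∧. The completion is the group of
compatible families of residues modulo all open subgroups of finite index. (The published statement
takes i injective, as the first map of an exact sequence 0 → A → B → C → 0 of topological abelian
groups; here it is only assumed that the image of i is the kernel of p, which is all the proof
uses.) -/
theorem result
    {A : Type u} {B : Type v} {C : Type w}
    [AddCommGroup A] [TopologicalSpace A] [IsTopologicalAddGroup A]
    [AddCommGroup B] [TopologicalSpace B] [IsTopologicalAddGroup B]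
    [AddCommGroup C] [TopologicalSpace C] [IsTopologicalAddGroup C]
    (i : A →+ B) (hi : Continuous i) (p : B →+ C) (hp : Continuous p)
    (hpo : IsOpenMap p) (hps : Function.Surjective p) (hex : p.ker = i.range) :
    Function.Surjective (FICompl.map p hp) ∧ (FICompl.map p hp).ker = (FICompl.map i hi).range := by
  classical
  -- image of an open finite-index subgroup of B in C
  let pU : OpenFI B → OpenFI C := fun U =>
    ⟨U.toAddSubgroup.map p, hpo _ U.isOpen', by
      haveI := U.finiteIndex'
      refine ⟨fun h0 => ?_⟩
      have hd := AddSubgroup.index_map_dvd U.toAddSubgroup hps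
      rw [h0, zero_dvd_iff] at hd
      exact AddSubgroup.FiniteIndex.index_ne_zero hd⟩
  have hpU : ∀ U, (pU U).toAddSubgroup = U.toAddSubgroup.map p := fun U => rfl
  constructor
  · -- surjectivity
    intro z
    let mapQ : ∀ U : OpenFI B, B ⧸ U.toAddSubgroup →+ C ⧸ (pU U).toAddSubgroup := fun U =>
      QuotientAddGroup.map U.toAddSubgroup (pU U).toAddSubgroup p (AddSubgroup.le_comap_map p _)
    have hmapQ : ∀ U b, mapQ U (QuotientAddGroup.mk b) = QuotientAddGroup.mk (p b) := fun U b => rfl
    obtain ⟨y, hy⟩ := exists_compatible (G := B) (fun U => {y | mapQ U y = z.1 (pU U)})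
      (by
        intro U
        obtain ⟨c, hc⟩ := QuotientAddGroup.mk_surjective (z.1 (pU U))
        obtain ⟨b, rfl⟩ := hps c
        exact ⟨QuotientAddGroup.mk b, by rw [Set.mem_ofPred_eq, hmapQ, hc]⟩)
      (by
        intro U V h x hx
        rw [Set.mem_ofPred_eq] at hx ⊢
        have hz := z.2 (pU V) (pU U) (AddSubgroup.map_mono h)
        rw [← hz, ← hx]
        induction x using QuotientAddGroup.induction_on with
        | H b => rfl)
    refine ⟨y, ?_⟩
    apply Subtype.ext
    funext W
    have h1 := hy (W.comap p hp)
    rw [Set.mem_ofPred_eq] at h1
    have hle : (pU (W.comap p hp)).toAddSubgroup ≤ W.toAddSubgroup := AddSubgroup.map_comap_le p _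
    have hz := z.2 (pU (W.comap p hp)) W hle
    rw [← hz, ← h1]
    show QuotientAddGroup.map _ _ p _ (y.1 (W.comap p hp)) = _
    generalize y.1 (W.comap p hp) = t
    induction t using QuotientAddGroup.induction_on with
    | H b => rfl
  · -- exactness
    apply le_antisymm
    · intro y hy
      rw [AddMonoidHom.mem_ker] at hy
      have hyW : ∀ W : OpenFI C, QuotientAddGroup.map (W.comap p hp).toAddSubgroup W.toAddSubgroup p
          (W.comap_le p) (y.1 (W.comap p hp)) = 0 := by
        intro W
        have := congrArg (fun t : FICompl C => t.1 W) hy
        exact this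
      -- key claim
      have key : ∀ V₀ : OpenFI B, ∃ a : A,
          (QuotientAddGroup.mk (i a) : B ⧸ V₀.toAddSubgroup) = y.1 V₀ := by
        intro V₀
        obtain ⟨b, hb⟩ := QuotientAddGroup.mk_surjective (y.1 V₀)
        set W := pU V₀ with hW
        have hle : V₀.toAddSubgroup ≤ (W.comap p hp).toAddSubgroup := AddSubgroup.le_comap_map p _
        have hcomp := y.2 V₀ (W.comap p hp) hle
        have h0 := hyW W
        rw [← hcomp, ← hb] at h0
        have h1 : (QuotientAddGroup.mk (p b) : C ⧸ W.toAddSubgroup) = 0 := h0
        rw [QuotientAddGroup.eq_zero_iff] at h1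
        obtain ⟨v, hv, hpv⟩ := h1
        have hker : b - v ∈ p.ker := by
          rw [AddMonoidHom.mem_ker, map_sub, hpv, sub_self]
        rw [hex] at hker
        obtain ⟨a, ha⟩ := hker
        refine ⟨a, ?_⟩
        rw [ha, ← hb, QuotientAddGroup.eq]
        simpa using hv
      obtain ⟨x, hx⟩ := exists_compatible (G := A)
        (fun U => {x | ∀ (V : OpenFI B) (h : U.toAddSubgroup ≤ V.toAddSubgroup.comap i),
          QuotientAddGroup.map U.toAddSubgroup V.toAddSubgroup i h x = y.1 V})
        (by
          intro U
          by_contra hempty
          rw [Set.not_nonempty_iff_eq_empty, Set.eq_empty_iff_forall_notMem] at hempty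
          simp only [Set.mem_ofPred_eq, not_forall] at hempty
          choose Vf hf hne using hempty
          haveI := U.finiteIndex'
          haveI : Finite (A ⧸ U.toAddSubgroup) := inferInstance
          let V₀ : OpenFI B := ⟨⨅ x, (Vf x).toAddSubgroup, by
              rw [AddSubgroup.coe_iInf]
              exact isOpen_iInter_of_finite (fun x => (Vf x).isOpen'), by
              haveI : ∀ x, (Vf x).toAddSubgroup.FiniteIndex := fun x => (Vf x).finiteIndex'
              exact AddSubgroup.finiteIndex_iInf (fun x => inferInstance)⟩
          obtain ⟨a, ha⟩ := key V₀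
          have hle : V₀.toAddSubgroup ≤ (Vf (QuotientAddGroup.mk a)).toAddSubgroup :=
            iInf_le (fun x => (Vf x).toAddSubgroup) _
          apply hne (QuotientAddGroup.mk a)
          have hcomp := y.2 V₀ (Vf (QuotientAddGroup.mk a)) hle
          rw [← hcomp, ← ha]
          rfl)
        (by
          intro U U' h x hx V hV
          rw [Set.mem_ofPred_eq] at hx
          have := hx V (h.trans hV)
          rw [← this]
          induction x using QuotientAddGroup.induction_on with
          | H a => rfl)
      refine ⟨x, ?_⟩
      apply Subtype.ext
      funext V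
      exact hx (V.comap i hi) V (V.comap_le i)
    · rintro _ ⟨x, rfl⟩
      rw [AddMonoidHom.mem_ker]
      apply Subtype.ext
      funext W
      show QuotientAddGroup.map _ _ p _ (QuotientAddGroup.map _ _ i _ (x.1 _)) = 0
      generalize x.1 _ = t
      induction t using QuotientAddGroup.induction_on with
      | H a =>
        show (QuotientAddGroup.mk (p (i a)) : C ⧸ W.toAddSubgroup) = 0
        have : p (i a) = 0 := by
          have : i a ∈ p.ker := by rw [hex]; exact ⟨a, rfl⟩
          exact this
        rw [this]; rfl

end Groth.Agent.S19172
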