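import Groth.Statements.S19173
import Groth.Agent.S19170
import Groth.Agent.S19171
import Mathlib
-- import your own Groth.Agent.* helpers here

set_option autoImplicit false
universe u v
open ProCompl

namespace Groth.Agent.S19173

open W4c61motalbduality Topology in
/-- Let B be a Hausdorff, locally compact, totally disconnected topological abelian group generated as a
group by a compact subset, and let i : A → B be an injective continuous homomorphism inducing the
topology of A from that of B (a strict injection) with closed image. Then the map induced by i on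
completions with respect to open subgroups of finite index is injective; together with right
exactness for open surjections this makes 0 → A^∧ → B^∧ → C^∧ → 0 exact for a topological exact
sequence 0 → A → B → C → 0 with such B, strict closed i and open p. -/
theorem result
    {A : Type u} {B : Type v} [AddCommGroup A] [TopologicalSpace A] [IsTopologicalAddGroup A]
    [AddCommGroup B] [TopologicalSpace B] [IsTopologicalAddGroup B]
    [T2Space B] [LocallyCompactSpace B] [TotallyDisconnectedSpace B]
    (hcg : ∃ K : Set B, IsCompact K ∧ AddSubgroup.closure K = ⊤)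
    (i : A →+ B) (hi : Continuous i) (hinj : Function.Injective i) (hind : IsInducing i)
    (hcl : IsClosed (Set.range i)) :
    Function.Injective (FICompl.map i hi) := by
  classical
  have key : ∀ U : OpenFI A, ∃ V : OpenFI B,
      (V.comap i hi).toAddSubgroup ≤ U.toAddSubgroup := by
    intro U
    haveI := U.finiteIndex'
    haveI : Finite (A ⧸ U.toAddSubgroup) := AddSubgroup.finite_quotient_of_finiteIndex
    have hφ0 : ∀ c : A ⧸ U.toAddSubgroup,
        ∃ φ : (A ⧸ U.toAddSubgroup) →+ ℚ ⧸ AddSubgroup.zmultiples (1 : ℚ), c ≠ 0 → φ c ≠ 0 := by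
      intro c
      by_cases hc : c = 0
      · exact ⟨0, fun h => (h hc).elim⟩
      · obtain ⟨φ, hφ⟩ := CharacterModule.exists_character_apply_ne_zero_of_ne_zero hc
        exact ⟨φ, fun _ => hφ⟩
    choose φ hφ using hφ0
    let χ : (A ⧸ U.toAddSubgroup) → (A →+ ℚ ⧸ AddSubgroup.zmultiples (1 : ℚ)) :=
      fun c => (φ c).comp (QuotientAddGroup.mk' U.toAddSubgroup)
    have hχ : ∀ c, IsOpen ((χ c).ker : Set A) := by
      intro c
      apply AddSubgroup.isOpen_mono (H₁ := U.toAddSubgroup) _ U.isOpen'
      intro a ha
      show φ c (QuotientAddGroup.mk a) = 0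
      rw [(QuotientAddGroup.eq_zero_iff a).mpr ha, map_zero]
    have hψ0 := fun c => Groth.Agent.S19171.result hcg i hi hinj hind hcl (χ c) (hχ c)
    choose ψ hψo hψi using hψ0
    have hψf : ∀ c, (ψ c).ker.FiniteIndex := fun c =>
      Groth.Agent.S19170.result hcg (ψ c) (hψo c)
    refine ⟨⟨⨅ c, (ψ c).ker, ?_, AddSubgroup.finiteIndex_iInf hψf⟩, ?_⟩
    · rw [AddSubgroup.coe_iInf]
      exact isOpen_iInter_of_finite hψo
    · intro a ha
      by_contra hna
      have hc : (QuotientAddGroup.mk a : A ⧸ U.toAddSubgroup) ≠ 0 := fun h =>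
        hna ((QuotientAddGroup.eq_zero_iff a).mp h)
      have h1 : i a ∈ (⨅ c, (ψ c).ker : AddSubgroup B) := ha
      have h2 : i a ∈ (ψ (QuotientAddGroup.mk a)).ker := (AddSubgroup.mem_iInf.mp h1) _
      have h3 : ψ (QuotientAddGroup.mk a) (i a) = χ (QuotientAddGroup.mk a) a :=
        DFunLike.congr_fun (hψi (QuotientAddGroup.mk a)) a
      have h4 : ψ (QuotientAddGroup.mk a) (i a) = 0 := h2
      rw [h4] at h3
      exact hφ _ hc h3.symm
  rw [injective_iff_map_eq_zero]
  intro x hx
  apply Subtype.ext
  funext U
  obtain ⟨V, hV⟩ := key U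
  have h1 := x.2 (V.comap i hi) U hV
  have h2 : (FICompl.map i hi x).1 V = 0 := by rw [hx]; rfl
  obtain ⟨a, ha⟩ := QuotientAddGroup.mk_surjective (x.1 (V.comap i hi))
  have h3 : x.1 (V.comap i hi) = 0 := by
    have h4 : QuotientAddGroup.map (V.comap i hi).toAddSubgroup V.toAddSubgroup i
        (V.comap_le i) (x.1 (V.comap i hi)) = 0 := h2
    rw [← ha] at h4
    have h5 : (QuotientAddGroup.mk (i a) : B ⧸ V.toAddSubgroup) = 0 := h4
    rw [QuotientAddGroup.eq_zero_iff] at h5
    rw [← ha]
    exact (QuotientAddGroup.eq_zero_iff a).mpr h5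
  rw [← h1, h3, map_zero]
  rfl

end Groth.Agent.S19173
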