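import Groth.Statements.S19176
import Mathlib
import Groth.Agent.Helper9.MonomialQuot
-- import your own Groth.Agent.* helpers here

set_option autoImplicit false
universe u
open PlaneCurve

namespace Groth.Agent.S19176

open MvPolynomial in
/-- Let k be a field of characteristic p (p = 0 allowed) and F = y² − x³ in k[x, y] (x the variable of
index 0, y of index 1). The singular subscheme of the plane curve F = 0, cut out by F and its two
partial derivatives, is finite over k of degree 4 when p = 2, of degree 3 when p = 3, and of degree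
2 otherwise: the k-dimension of k[x, y]/(F, ∂F/∂x, ∂F/∂y) is that number. (The source phrases this
through the complete local ring of a cusp; the row is the computation for the standard cusp y² =
x³.) -/
theorem result (k : Type u) [Field k] (p : ℕ) [CharP k p] :
    Module.finrank k (MvPolynomial (Fin 2) k ⧸ Ideal.span
      ({X 1 ^ 2 - X 0 ^ 3, pderiv 0 (X 1 ^ 2 - X 0 ^ 3), pderiv 1 (X 1 ^ 2 - X 0 ^ 3)} :
        Set (MvPolynomial (Fin 2) k))) = (if p = 2 then 4 else if p = 3 then 3 else 2) := by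
  classical
  have hd0 : pderiv 0 (X 1 ^ 2 - X 0 ^ 3 : MvPolynomial (Fin 2) k) = -(3 * X 0 ^ 2) := by simp
  have hd1 : pderiv 1 (X 1 ^ 2 - X 0 ^ 3 : MvPolynomial (Fin 2) k) = 2 * X 1 := by simp
  rw [hd0, hd1]
  have hp1 : p ≠ 1 := CharP.char_ne_one k p
  have h2iff : (2 : k) = 0 ↔ p = 2 := by
    have := CharP.cast_eq_zero_iff k p 2
    rw [Nat.cast_ofNat] at this
    rw [this, Nat.dvd_prime Nat.prime_two]
    tauto
  have h3iff : (3 : k) = 0 ↔ p = 3 := by
    have := CharP.cast_eq_zero_iff k p 3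
    rw [Nat.cast_ofNat] at this
    rw [this, Nat.dvd_prime Nat.prime_three]
    tauto
  have hC2 : (2 : MvPolynomial (Fin 2) k) = C (2 : k) := (map_ofNat C 2).symm
  have hC3 : (3 : MvPolynomial (Fin 2) k) = C (3 : k) := (map_ofNat C 3).symm
  -- membership helpers
  have hX0sq : (3 : k) ≠ 0 → (X 0 ^ 2 : MvPolynomial (Fin 2) k) ∈ Ideal.span
      ({X 1 ^ 2 - X 0 ^ 3, -(3 * X 0 ^ 2), 2 * X 1} : Set (MvPolynomial (Fin 2) k)) := by
    intro h3
    have hm : (-(3 * X 0 ^ 2) : MvPolynomial (Fin 2) k) ∈ Ideal.span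
        ({X 1 ^ 2 - X 0 ^ 3, -(3 * X 0 ^ 2), 2 * X 1} : Set (MvPolynomial (Fin 2) k)) :=
      Ideal.subset_span (by simp)
    have := Ideal.mul_mem_left _ (C (-(3 : k)⁻¹)) hm
    convert this using 1
    rw [hC3]
    have : (C (-(3 : k)⁻¹) : MvPolynomial (Fin 2) k) * -(C 3 * X 0 ^ 2) = C ((3 : k)⁻¹ * 3) * X 0 ^ 2 := by
      rw [C_mul, C_neg]; ring
    rw [this, inv_mul_cancel₀ h3, C_1, one_mul]
  have hX1 : (2 : k) ≠ 0 → (X 1 : MvPolynomial (Fin 2) k) ∈ Ideal.span
      ({X 1 ^ 2 - X 0 ^ 3, -(3 * X 0 ^ 2), 2 * X 1} : Set (MvPolynomial (Fin 2) k)) := by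
    intro h2
    have hm : (2 * X 1 : MvPolynomial (Fin 2) k) ∈ Ideal.span
        ({X 1 ^ 2 - X 0 ^ 3, -(3 * X 0 ^ 2), 2 * X 1} : Set (MvPolynomial (Fin 2) k)) :=
      Ideal.subset_span (by simp)
    have := Ideal.mul_mem_left _ (C ((2 : k)⁻¹)) hm
    convert this using 1
    rw [hC2, ← mul_assoc, ← C_mul, inv_mul_cancel₀ h2, C_1, one_mul]
  have hF : (X 1 ^ 2 - X 0 ^ 3 : MvPolynomial (Fin 2) k) ∈ Ideal.span
      ({X 1 ^ 2 - X 0 ^ 3, -(3 * X 0 ^ 2), 2 * X 1} : Set (MvPolynomial (Fin 2) k)) :=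
    Ideal.subset_span (by simp)
  by_cases hp2 : p = 2
  · rw [if_pos hp2]
    have h2 : (2 : k) = 0 := h2iff.2 hp2
    have h3 : (3 : k) ≠ 0 := by
      intro h
      have := h3iff.1 h
      omega
    have hI : Ideal.span ({X 1 ^ 2 - X 0 ^ 3, -(3 * X 0 ^ 2), 2 * X 1} : Set (MvPolynomial (Fin 2) k)) =
        Ideal.span ({X 0 ^ 2, X 1 ^ 2} : Set (MvPolynomial (Fin 2) k)) := by
      apply le_antisymm
      · rw [Ideal.span_le]
        intro x hx
        simp only [Set.mem_insert_iff, Set.mem_singleton_iff] at hx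
        rcases hx with rfl | rfl | rfl
        · exact Ideal.mem_span_pair.2 ⟨-X 0, 1, by ring⟩
        · exact Ideal.mem_span_pair.2 ⟨-3, 0, by ring⟩
        · rw [hC2, h2, C_0, zero_mul]
          exact Ideal.zero_mem _
      · rw [Ideal.span_le]
        intro x hx
        simp only [Set.mem_insert_iff, Set.mem_singleton_iff] at hx
        rcases hx with rfl | rfl
        · exact hX0sq h3
        · have := Ideal.add_mem _ hF (Ideal.mul_mem_left _ (X 0) (hX0sq h3))
          have e : (X 1 ^ 2 : MvPolynomial (Fin 2) k) = X 1 ^ 2 - X 0 ^ 3 + X 0 * X 0 ^ 2 := by ring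
          rw [← e] at this
          exact this
    rw [hI, Groth.Agent.Helper9.MonomialQuot.finrank_quot_pow]
  · rw [if_neg hp2]
    have h2 : (2 : k) ≠ 0 := fun h => hp2 (h2iff.1 h)
    by_cases hp3 : p = 3
    · rw [if_pos hp3]
      have h3 : (3 : k) = 0 := h3iff.2 hp3
      have hI : Ideal.span ({X 1 ^ 2 - X 0 ^ 3, -(3 * X 0 ^ 2), 2 * X 1} : Set (MvPolynomial (Fin 2) k)) =
          Ideal.span ({X 0 ^ 3, X 1 ^ 1} : Set (MvPolynomial (Fin 2) k)) := by
        apply le_antisymm
        · rw [Ideal.span_le]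
          intro x hx
          simp only [Set.mem_insert_iff, Set.mem_singleton_iff] at hx
          rcases hx with rfl | rfl | rfl
          · exact Ideal.mem_span_pair.2 ⟨-1, X 1, by ring⟩
          · rw [hC3, h3, C_0, zero_mul, neg_zero]
            exact Ideal.zero_mem _
          · exact Ideal.mem_span_pair.2 ⟨0, 2, by ring⟩
        · rw [Ideal.span_le]
          intro x hx
          simp only [Set.mem_insert_iff, Set.mem_singleton_iff] at hx
          rcases hx with rfl | rfl
          · have := Ideal.sub_mem _ (Ideal.mul_mem_left _ (X 1) (hX1 h2)) hF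
            have e : (X 0 ^ 3 : MvPolynomial (Fin 2) k) = X 1 * X 1 - (X 1 ^ 2 - X 0 ^ 3) := by ring
            rw [← e] at this
            exact this
          · rw [pow_one]; exact hX1 h2
      rw [hI, Groth.Agent.Helper9.MonomialQuot.finrank_quot_pow]
    · rw [if_neg hp3]
      have h3 : (3 : k) ≠ 0 := fun h => hp3 (h3iff.1 h)
      have hI : Ideal.span ({X 1 ^ 2 - X 0 ^ 3, -(3 * X 0 ^ 2), 2 * X 1} : Set (MvPolynomial (Fin 2) k)) =
          Ideal.span ({X 0 ^ 2, X 1 ^ 1} : Set (MvPolynomial (Fin 2) k)) := by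
        apply le_antisymm
        · rw [Ideal.span_le]
          intro x hx
          simp only [Set.mem_insert_iff, Set.mem_singleton_iff] at hx
          rcases hx with rfl | rfl | rfl
          · exact Ideal.mem_span_pair.2 ⟨-X 0, X 1, by ring⟩
          · exact Ideal.mem_span_pair.2 ⟨-3, 0, by ring⟩
          · exact Ideal.mem_span_pair.2 ⟨0, 2, by ring⟩
        · rw [Ideal.span_le]
          intro x hx
          simp only [Set.mem_insert_iff, Set.mem_singleton_iff] at hx
          rcases hx with rfl | rfl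
          · exact hX0sq h3
          · rw [pow_one]; exact hX1 h2
      rw [hI, Groth.Agent.Helper9.MonomialQuot.finrank_quot_pow]

end Groth.Agent.S19176
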