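import Groth.Statements.S19177
import Mathlib
-- import your own Groth.Agent.* helpers here

set_option autoImplicit false
universe u
open CAlg

namespace Groth.Agent.S19177

/-- Let S → R be a homomorphism of commutative rings making R a finitely generated projective S-module
of rank 2 at every prime of S (the affine form of a finite locally free morphism of degree 2). Then
the cokernel of the (injective) structure map S → R, the S-module R/S, is a projective S-module of
rank 1 at every prime of S (locally free of rank 1). -/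
theorem result
    (S R : Type u) [CommRing S] [CommRing R] [Algebra S R] [Module.Finite S R] [Module.Projective S R]
    (h2 : ∀ p : PrimeSpectrum S, Module.rankAtStalk (R := S) R p = 2) :
    Module.Projective S (R ⧸ LinearMap.range (Algebra.linearMap S R)) ∧
      ∀ p : PrimeSpectrum S,
        Module.rankAtStalk (R := S) (R ⧸ LinearMap.range (Algebra.linearMap S R)) p = 1 := by
  classical
  -- step 1: for maximal m, m • ⊤ ≠ ⊤
  have hmax : ∀ m : Ideal S, m.IsMaximal → m • (⊤ : Submodule S R) ≠ ⊤ := by
    intro m hm htop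
    have hsupp : (⟨m, hm.isPrime⟩ : PrimeSpectrum S) ∈ Module.support S R := by
      rw [← Module.rankAtStalk_pos_iff_mem_support, h2]; norm_num
    rw [Module.mem_support_iff_of_finite] at hsupp
    obtain ⟨r, hr1, hr2⟩ := Submodule.exists_sub_one_mem_and_smul_eq_zero_of_fg_of_le_smul m
      (⊤ : Submodule S R) Module.Finite.fg_top (le_of_eq htop.symm)
    have hrm : r ∈ m := hsupp (by
      rw [Module.mem_annihilator]; intro x; exact hr2 x trivial)
    have h1 : (1 : S) ∈ m := by
      have := m.sub_mem hrm hr1
      simpa using this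
    exact hm.ne_top ((Ideal.eq_top_iff_one _).mpr h1)
  -- step 2: a retraction
  obtain ⟨n, f, g, -, -, hfg⟩ := Module.Finite.exists_comp_eq_id_of_projective S R
  let J : Ideal S := Submodule.map ((LinearMap.applyₗ (1 : R)) : (R →ₗ[S] S) →ₗ[S] S) ⊤
  have hJ : J = ⊤ := by
    by_contra hne
    obtain ⟨m, hm, hle⟩ := J.exists_le_maximal hne
    refine hmax m hm ?_
    rw [eq_top_iff]
    have h1 : (1 : R) ∈ m • (⊤ : Submodule S R) := by
      have e1 : f (g 1) = 1 := LinearMap.congr_fun hfg 1
      have e2 : g 1 = ∑ a, (g 1 a) • (Pi.single a 1 : Fin n → S) := by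
        ext b
        simp [Finset.sum_apply, Pi.single_apply]
      rw [← e1, e2, map_sum]
      refine Submodule.sum_mem _ fun a _ => ?_
      rw [map_smul]
      refine Submodule.smul_mem_smul (hle ?_) trivial
      exact ⟨(LinearMap.proj a).comp g, trivial, rfl⟩
    rintro x -
    have : x = x • (1 : R) := by simp
    rw [this]
    have hx := Submodule.smul_mem (m • (⊤ : Submodule S R)) (1 : S) h1
    -- m • ⊤ is an S-submodule; need closure under R-multiplication
    have key : ∀ y ∈ m • (⊤ : Submodule S R), x * y ∈ m • (⊤ : Submodule S R) := by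
      intro y hy
      refine Submodule.smul_induction_on hy ?_ ?_
      · intro a ha z _
        rw [mul_smul_comm]
        exact Submodule.smul_mem_smul ha trivial
      · intro y z hy hz
        rw [mul_add]; exact Submodule.add_mem _ hy hz
    simpa using key 1 h1
  have h1J : (1 : S) ∈ J := by rw [hJ]; trivial
  obtain ⟨φ, -, hφ⟩ := h1J
  have hφ1 : φ 1 = 1 := hφ
  -- maps
  let ι : S →ₗ[S] R := Algebra.linearMap S R
  have hφι : ∀ s, φ (ι s) = s := by
    intro s
    have : ι s = s • (1 : R) := by simp [ι, Algebra.smul_def]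
    rw [this, map_smul, hφ1, smul_eq_mul, mul_one]
  let Q := R ⧸ LinearMap.range ι
  let π : R →ₗ[S] Q := (LinearMap.range ι).mkQ
  let j : Q →ₗ[S] R := (LinearMap.range ι).liftQ (LinearMap.id - ι.comp φ) (by
    rintro _ ⟨s, rfl⟩
    simp [hφι])
  have hπj : π.comp j = LinearMap.id := by
    apply LinearMap.ext
    intro q
    obtain ⟨r, rfl⟩ := Submodule.Quotient.mk_surjective _ q
    show π (r - ι (φ r)) = π r
    rw [map_sub]
    have : π (ι (φ r)) = 0 := by
      show Submodule.Quotient.mk (ι (φ r)) = 0
      rw [Submodule.Quotient.mk_eq_zero]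
      exact ⟨_, rfl⟩
    rw [this, sub_zero]
  have hproj : Module.Projective S Q := Module.Projective.of_split j π hπj
  refine ⟨hproj, ?_⟩
  -- rank
  have hφj : ∀ q, φ (j q) = 0 := by
    intro q
    obtain ⟨r, rfl⟩ := Submodule.Quotient.mk_surjective _ q
    show φ (r - ι (φ r)) = 0
    rw [map_sub, hφι, sub_self]
  let e : R ≃ₗ[S] S × Q := LinearEquiv.ofBijective (LinearMap.prod φ π) (by
    constructor
    · rw [← LinearMap.ker_eq_bot, LinearMap.ker_eq_bot']
      intro r hr
      have h1 : φ r = 0 := congrArg Prod.fst hr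
      have h2 : π r = 0 := congrArg Prod.snd hr
      have h3 : r ∈ LinearMap.range ι := (Submodule.Quotient.mk_eq_zero _).mp h2
      obtain ⟨s, rfl⟩ := h3
      rw [hφι] at h1
      rw [h1, map_zero]
    · rintro ⟨s, q⟩
      refine ⟨ι s + j q, ?_⟩
      show (φ (ι s + j q), π (ι s + j q)) = (s, q)
      rw [map_add, map_add, hφι, hφj, add_zero]
      have h4 : π (ι s) = 0 := by
        show Submodule.Quotient.mk (ι s) = 0
        rw [Submodule.Quotient.mk_eq_zero]
        exact ⟨_, rfl⟩
      have h5 : π (j q) = q := LinearMap.congr_fun hπj q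
      rw [h4, h5, zero_add])
  intro p
  have : Nontrivial S := ⟨⟨0, 1, fun h => p.isPrime.ne_top ((Ideal.eq_top_iff_one _).mpr (by rw [← h]; exact zero_mem _))⟩⟩
  have hQfin : Module.Finite S Q := inferInstance
  have h3 := Module.rankAtStalk_eq_of_equiv (R := S) e
  rw [Module.rankAtStalk_prod, Module.rankAtStalk_self] at h3
  have h4 := congrFun h3 p
  rw [h2 p] at h4
  simp only [Pi.add_apply, Pi.one_apply] at h4
  show Module.rankAtStalk (R := S) Q p = 1
  omega

end Groth.Agent.S19177
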