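import Groth.Statements.S19178
import Mathlib
-- import your own Groth.Agent.* helpers here

set_option autoImplicit false
universe u
open Curves

namespace Groth.Agent.S19178

open Polynomial in
/-- the affine Weierstrass equation has no solution `X = ρ(Y)` polynomial in `Y` -/
lemma no_poly_root {k : Type*} [Field k] (a₁ a₂ a₃ a₄ a₆ : k) (ρ : k[X])
    (h : ρ ^ 3 + C a₂ * ρ ^ 2 + (C a₄ - C a₁ * X) * ρ - (X ^ 2 + C a₃ * X - C a₆) = 0) : False := by
  have h' : ρ ^ 3 = X ^ 2 + C a₃ * X - C a₆ - C a₂ * ρ ^ 2 - (C a₄ - C a₁ * X) * ρ := by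
    linear_combination h
  by_cases hd : ρ.natDegree = 0
  · obtain ⟨c, rfl⟩ := natDegree_eq_zero.mp hd
    have e : (X ^ 2 : k[X]) = C (- a₁ * c - a₃) * X + C (c ^ 3 + a₂ * c ^ 2 + a₄ * c + a₆) := by
      simp only [map_add, map_mul, map_pow, map_neg, map_sub]
      linear_combination -h
    have h1 : (X ^ 2 : k[X]).natDegree = 2 := natDegree_X_pow 2
    have h2 := natDegree_linear_le (a := - a₁ * c - a₃) (b := c ^ 3 + a₂ * c ^ 2 + a₄ * c + a₆)
    rw [← e, h1] at h2
    omega
  · have hρ0 : ρ ≠ 0 := by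
      rintro rfl
      simp at hd
    have h3 : (ρ ^ 3).natDegree = 3 * ρ.natDegree := by rw [natDegree_pow]
    have hX2 : (X ^ 2 + C a₃ * X - C a₆ : k[X]).natDegree ≤ 2 := by
      compute_degree
    have hq2 : (C a₂ * ρ ^ 2).natDegree ≤ 2 * ρ.natDegree := by
      refine (natDegree_C_mul_le _ _).trans ?_
      rw [natDegree_pow]
    have hl : ((C a₄ - C a₁ * X) * ρ).natDegree ≤ 1 + ρ.natDegree := by
      refine natDegree_mul_le.trans ?_
      gcongr
      compute_degree
    have : (ρ ^ 3).natDegree ≤ max (max 2 (2 * ρ.natDegree)) (1 + ρ.natDegree) := by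
      rw [h']
      refine (natDegree_sub_le _ _).trans ?_
      refine max_le_max ((natDegree_sub_le _ _).trans (max_le_max hX2 hq2)) hl
    rw [h3] at this
    have : 1 ≤ ρ.natDegree := Nat.one_le_iff_ne_zero.mpr hd
    omega

/-- For every field k and every choice of coefficients a₁, a₂, a₃, a₄, a₆ in k, the homogeneous
Weierstrass cubic Y²Z + a₁XYZ + a₃YZ² − (X³ + a₂X²Z + a₄XZ² + a₆Z³) is an irreducible polynomial in
k[X, Y, Z]. Applied to all fields, this says every fibre of the Weierstrass family over the affine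
space of coefficients is geometrically integral. -/
theorem result (k : Type u) [Field k]
    (W : WeierstrassCurve k) :
    Irreducible (WeierstrassCurve.Projective.polynomial W) := by
  rw [← MulEquiv.irreducible_iff (MvPolynomial.finSuccEquiv k 2)]
  set Y : MvPolynomial (Fin 2) k := MvPolynomial.X 0 with hY
  set Z : MvPolynomial (Fin 2) k := MvPolynomial.X 1 with hZ
  have hF : MvPolynomial.finSuccEquiv k 2 (WeierstrassCurve.Projective.polynomial W) =
      -(Cubic.toPoly ⟨1, MvPolynomial.C W.a₂ * Z, MvPolynomial.C W.a₄ * Z ^ 2 - MvPolynomial.C W.a₁ * Y * Z,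
        MvPolynomial.C W.a₆ * Z ^ 3 - Y ^ 2 * Z - MvPolynomial.C W.a₃ * Y * Z ^ 2⟩) := by
    have e1 : (1 : Fin 3) = Fin.succ 0 := rfl
    have e2 : (2 : Fin 3) = Fin.succ 1 := rfl
    have eC : ∀ a : k, MvPolynomial.finSuccEquiv k 2 (MvPolynomial.C a) = Polynomial.C (MvPolynomial.C a) := by
      intro a
      simp [MvPolynomial.finSuccEquiv_apply]
    rw [WeierstrassCurve.Projective.polynomial, Cubic.toPoly]
    simp only [map_sub, map_add, map_mul, map_pow, eC]
    rw [e1, e2, MvPolynomial.finSuccEquiv_X_zero, MvPolynomial.finSuccEquiv_X_succ,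
      MvPolynomial.finSuccEquiv_X_succ]
    simp only [map_sub, map_add, map_mul, map_pow, map_one]
    ring
  rw [hF]
  obtain ⟨P, hP⟩ : ∃ P : Cubic (MvPolynomial (Fin 2) k), P = ⟨1, MvPolynomial.C W.a₂ * Z,
      MvPolynomial.C W.a₄ * Z ^ 2 - MvPolynomial.C W.a₁ * Y * Z,
      MvPolynomial.C W.a₆ * Z ^ 3 - Y ^ 2 * Z - MvPolynomial.C W.a₃ * Y * Z ^ 2⟩ := ⟨_, rfl⟩
  rw [← hP]
  have ha : P.a = 1 := by rw [hP]
  have hmonic : P.toPoly.Monic := Cubic.monic_of_a_eq_one ha
  have hdeg : P.toPoly.natDegree = 3 := Cubic.natDegree_of_a_ne_zero (by rw [ha]; exact one_ne_zero)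
  have hirr : Irreducible P.toPoly := by
    rw [hmonic.irreducible_iff_roots_eq_zero_of_degree_le_three (by omega) (by omega)]
    apply Multiset.eq_zero_of_forall_notMem
    intro r hr
    have hr' := (Polynomial.mem_roots hmonic.ne_zero).mp hr
    rw [Polynomial.IsRoot.def, Cubic.toPoly, hP] at hr'
    simp only [Polynomial.eval_add, Polynomial.eval_mul, Polynomial.eval_C, Polynomial.eval_pow,
      Polynomial.eval_X] at hr'
    have := congrArg (MvPolynomial.aeval (R := k) ![(Polynomial.X : Polynomial k), 1]) hr'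
    simp only [map_add, map_mul, map_sub, map_pow, map_one, map_zero, MvPolynomial.aeval_C, hY, hZ,
      MvPolynomial.aeval_X, Matrix.cons_val_zero, Matrix.cons_val_one, Matrix.head_cons,
      Polynomial.algebraMap_apply, Algebra.algebraMap_self, RingHom.id_apply] at this
    exact no_poly_root W.a₁ W.a₂ W.a₃ W.a₄ W.a₆
      (MvPolynomial.aeval (R := k) ![(Polynomial.X : Polynomial k), 1] r) (by linear_combination this)
  exact (Associated.neg_left (Associated.refl _)).irreducible_iff.mpr hirr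

end Groth.Agent.S19178
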