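import Groth.Statements.S19181
import Mathlib
import Groth.Agent.Helper9.TwoVarPoly
-- import your own Groth.Agent.* helpers here

set_option autoImplicit false
universe u
open CAlg

namespace Groth.Agent.S19181

open MvPolynomial in
/-- Let R be a commutative ring, a₁, a₂ ∈ R, and C ⊂ A²_R the curve y² + a₁xy = x³ + a₂x², blown up at
the section x = y = 0. In the chart where x = yα (variables y = X 0, α = X 1) the equation of C
becomes y²·g₁ with g₁ = 1 + a₁α − yα³ − a₂α², and the y-saturation of the ideal (y²g₁) is (g₁): for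
s ∈ R[y, α], some yⁿs lies in (y²g₁) if and only if s ∈ (g₁). In the chart where y = xβ (variables x
= X 0, β = X 1) the equation becomes x²·g₂ with g₂ = β² + a₁β − x − a₂, and some xⁿs lies in (x²g₂)
if and only if s ∈ (g₂). In other words the strict transform of C is cut out by g₁, resp. g₂, in the
two charts. -/
theorem result (R : Type u) [CommRing R] (a₁ a₂ : R) :
    (∀ s : MvPolynomial (Fin 2) R,
      (∃ n : ℕ, X 0 ^ n * s ∈ Ideal.span ({X 0 ^ 2 * (1 + C a₁ * X 1 - X 0 * X 1 ^ 3 - C a₂ * X 1 ^ 2)} :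
        Set (MvPolynomial (Fin 2) R))) ↔
      s ∈ Ideal.span ({1 + C a₁ * X 1 - X 0 * X 1 ^ 3 - C a₂ * X 1 ^ 2} : Set (MvPolynomial (Fin 2) R))) ∧
    (∀ s : MvPolynomial (Fin 2) R,
      (∃ n : ℕ, X 0 ^ n * s ∈ Ideal.span ({X 0 ^ 2 * (X 1 ^ 2 + C a₁ * X 1 - X 0 - C a₂)} :
        Set (MvPolynomial (Fin 2) R))) ↔
      s ∈ Ideal.span ({X 1 ^ 2 + C a₁ * X 1 - X 0 - C a₂} : Set (MvPolynomial (Fin 2) R))) := by
  classical
  have hE0 := Groth.Agent.Helper9.TwoVarPoly.EE_X0 R
  have hE1 := Groth.Agent.Helper9.TwoVarPoly.EE_X1 R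
  have hEC := Groth.Agent.Helper9.TwoVarPoly.EE_C R
  obtain ⟨E, hE⟩ : ∃ E, Groth.Agent.Helper9.TwoVarPoly.EE R = E := ⟨_, rfl⟩
  rw [hE] at hE0 hE1 hEC
  constructor
  · intro s
    simp only [Ideal.mem_span_singleton]
    have key := Groth.Agent.Helper9.TwoVarPoly.sat_lemma
      (E (1 + C a₁ * X 1 - X 0 * X 1 ^ 3 - C a₂ * X 1 ^ 2)) ?_ (E s)
    · have e1 : ∀ n : ℕ, (X 0 ^ 2 * (1 + C a₁ * X 1 - X 0 * X 1 ^ 3 - C a₂ * X 1 ^ 2) ∣ X 0 ^ n * s) ↔
          (Polynomial.X ^ 2 * E (1 + C a₁ * X 1 - X 0 * X 1 ^ 3 - C a₂ * X 1 ^ 2) ∣ Polynomial.X ^ n * E s) := by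
        intro n
        rw [← map_dvd_iff E, map_mul, map_mul, map_pow, map_pow, hE0]
      simp only [e1]
      rw [key, map_dvd_iff E]
    · intro t ht
      refine Groth.Agent.Helper9.TwoVarPoly.reg_of_const_one _ ?_ t ht
      simp only [map_sub, map_add, map_mul, map_pow, map_one, hE0, hE1, hEC]
      simp only [← Polynomial.C_pow, ← Polynomial.C_mul, Polynomial.coeff_add, Polynomial.coeff_sub,
        Polynomial.coeff_one_zero, Polynomial.coeff_C_zero, Polynomial.coeff_X_mul_zero]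
      simp
  · intro s
    simp only [Ideal.mem_span_singleton]
    have key := Groth.Agent.Helper9.TwoVarPoly.sat_lemma
      (E (X 1 ^ 2 + C a₁ * X 1 - X 0 - C a₂)) ?_ (E s)
    · have e1 : ∀ n : ℕ, (X 0 ^ 2 * (X 1 ^ 2 + C a₁ * X 1 - X 0 - C a₂) ∣ X 0 ^ n * s) ↔
          (Polynomial.X ^ 2 * E (X 1 ^ 2 + C a₁ * X 1 - X 0 - C a₂) ∣ Polynomial.X ^ n * E s) := by
        intro n
        rw [← map_dvd_iff E, map_mul, map_mul, map_pow, map_pow, hE0]
      simp only [e1]
      rw [key, map_dvd_iff E]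
    · intro t ht
      have hc : (E (X 1 ^ 2 + C a₁ * X 1 - X 0 - C a₂)).coeff 0 =
          Polynomial.X ^ 2 + (Polynomial.C a₁ * Polynomial.X - Polynomial.C a₂) := by
        simp only [map_sub, map_add, map_mul, map_pow, hE0, hE1, hEC]
        simp only [← Polynomial.C_pow, ← Polynomial.C_mul, Polynomial.coeff_add, Polynomial.coeff_sub,
          Polynomial.coeff_C_zero, Polynomial.coeff_X_zero]
        ring
      rw [hc] at ht
      have hmonic : (Polynomial.X ^ 2 + (Polynomial.C a₁ * Polynomial.X - Polynomial.C a₂) : Polynomial R).Monic := by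
        apply Polynomial.monic_X_pow_add
        compute_degree!
      exact (Polynomial.Monic.mul_right_eq_zero_iff hmonic).1 ht

end Groth.Agent.S19181
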