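import Groth.Statements.S19183
import Mathlib
-- import your own Groth.Agent.* helpers here

set_option autoImplicit false
universe u
open CAlg

namespace Groth.Agent.S19183

/-- Let A be a non-zero commutative ring and f ∈ A a non-zero-divisor. The fibre product A ×_{A/(f)} A
of two copies of A over A/(f) — the A-submodule of A × A of pairs (x, y) with x − y ∈ (f), which is
the coordinate ring of two copies of Spec A glued along the Cartier divisor f = 0 — is a free
A-module of rank 2. (This is what makes the gluing of two copies of a curve along an effective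
Cartier divisor finite locally free of degree 2 over the curve.) -/
theorem result (A : Type u) [CommRing A] [Nontrivial A]
    (f : A) (hf : f ∈ nonZeroDivisors A) :
    Module.Free A (Submodule.comap (LinearMap.fst A A A - LinearMap.snd A A A) (Ideal.span ({f} : Set A))) ∧
      Module.finrank A (Submodule.comap (LinearMap.fst A A A - LinearMap.snd A A A) (Ideal.span ({f} : Set A))) = 2 := by
  classical
  let ψ : A × A →ₗ[A] A × A :=
    LinearMap.prod (LinearMap.snd A A A + f • LinearMap.fst A A A) (LinearMap.snd A A A)
  have hψa : ∀ z : A × A, ψ z = (z.2 + f * z.1, z.2) := by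
    intro z
    simp [ψ]
  have hψ : ∀ z, ψ z ∈ Submodule.comap (LinearMap.fst A A A - LinearMap.snd A A A)
      (Ideal.span ({f} : Set A)) := by
    intro z
    rw [Submodule.mem_comap, hψa, LinearMap.sub_apply, LinearMap.fst_apply, LinearMap.snd_apply,
      Ideal.mem_span_singleton]
    exact ⟨z.1, by ring⟩
  let φ : A × A →ₗ[A] (Submodule.comap (LinearMap.fst A A A - LinearMap.snd A A A)
      (Ideal.span ({f} : Set A))) := LinearMap.codRestrict _ ψ hψ
  have hinj : Function.Injective φ := by
    intro z w h
    have h' : ψ z = ψ w := congrArg Subtype.val h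
    rw [hψa, hψa, Prod.mk.injEq] at h'
    obtain ⟨h1, h2⟩ := h'
    rw [h2] at h1
    have h3 : (z.1 - w.1) * f = 0 := by
      have := add_left_cancel h1
      rw [sub_mul, mul_comm z.1, mul_comm w.1, this, sub_self]
    have h4 := (mem_nonZeroDivisors_iff_right.1 hf) _ h3
    exact Prod.ext (sub_eq_zero.1 h4) h2
  have hsurj : Function.Surjective φ := by
    rintro ⟨⟨x, y⟩, hxy⟩
    have hxy' : x - y ∈ Ideal.span ({f} : Set A) := hxy
    obtain ⟨a, ha⟩ := Ideal.mem_span_singleton'.1 hxy'
    refine ⟨(a, y), Subtype.ext ?_⟩
    show ψ (a, y) = (x, y)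
    rw [hψa]
    simp only [Prod.mk.injEq, and_true]
    rw [mul_comm, ha]
    ring
  let E : (A × A) ≃ₗ[A] (Submodule.comap (LinearMap.fst A A A - LinearMap.snd A A A)
      (Ideal.span ({f} : Set A))) := LinearEquiv.ofBijective φ ⟨hinj, hsurj⟩
  refine ⟨Module.Free.of_equiv E, ?_⟩
  rw [← E.finrank_eq, Module.finrank_prod, Module.finrank_self]

end Groth.Agent.S19183
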