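import Groth.Statements.S19184
import Mathlib
-- import your own Groth.Agent.* helpers here

set_option autoImplicit false
universe u
open CAlg

namespace Groth.Agent.S19184

open Polynomial in
/-- Let S be a commutative ring, a, b ∈ S, f = x² + ax + b ∈ S[x] and R = S[x]/(f), a free S-algebra of
rank 2. Let A ⊂ S[x] be the S-subalgebra of polynomials whose class in R lies in the image of S → R;
it is the fibre product S[x] ×_R S, the coordinate ring of the affine line over S with the degree-2
subscheme Spec R collapsed onto Spec S. Then A is a free S-module and S[x] is a finitely generated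
A-module. -/
theorem result (S : Type u) [CommRing S] (a b : S) :
    Module.Free S ((⊥ : Subalgebra S (S[X] ⧸ Ideal.span ({X ^ 2 + C a * X + C b} : Set S[X]))).comap
        (Ideal.Quotient.mkₐ S (Ideal.span ({X ^ 2 + C a * X + C b} : Set S[X])))) ∧
      Module.Finite ((⊥ : Subalgebra S (S[X] ⧸ Ideal.span ({X ^ 2 + C a * X + C b} : Set S[X]))).comap
        (Ideal.Quotient.mkₐ S (Ideal.span ({X ^ 2 + C a * X + C b} : Set S[X])))) S[X] := by
  classical
  obtain ⟨f, hf⟩ : ∃ f : S[X], f = X ^ 2 + C a * X + C b := ⟨_, rfl⟩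
  rw [← hf]
  obtain ⟨Asub, hA⟩ : ∃ Asub : Subalgebra S S[X], Asub =
      (⊥ : Subalgebra S (S[X] ⧸ Ideal.span ({f} : Set S[X]))).comap
        (Ideal.Quotient.mkₐ S (Ideal.span ({f} : Set S[X]))) := ⟨_, rfl⟩
  rw [← hA]
  have hmemA : ∀ p : S[X], p ∈ Asub ↔ ∃ s : S, ∃ q : S[X], p = C s + f * q := by
    intro p
    rw [hA, Subalgebra.mem_comap, Algebra.mem_bot]
    constructor
    · rintro ⟨s, hs⟩
      have h1 : Ideal.Quotient.mk (Ideal.span ({f} : Set S[X])) (p - C s) = 0 := by
        rw [map_sub]
        have : Ideal.Quotient.mk (Ideal.span ({f} : Set S[X])) (C s) =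
            algebraMap S (S[X] ⧸ Ideal.span ({f} : Set S[X])) s := rfl
        rw [this, hs]
        exact sub_self _
      rw [Ideal.Quotient.eq_zero_iff_mem, Ideal.mem_span_singleton'] at h1
      obtain ⟨q, hq⟩ := h1
      exact ⟨s, q, by linear_combination -hq⟩
    · rintro ⟨s, q, rfl⟩
      refine ⟨s, ?_⟩
      have h0 : Ideal.Quotient.mk (Ideal.span ({f} : Set S[X])) (f * q) = 0 :=
        Ideal.Quotient.eq_zero_iff_mem.mpr (Ideal.mul_mem_right _ _ (Ideal.mem_span_singleton_self f))
      show _ = Ideal.Quotient.mk (Ideal.span ({f} : Set S[X])) (C s + f * q)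
      rw [map_add, h0, add_zero]
      rfl
  rcases subsingleton_or_nontrivial S with hS | hS
  · haveI : Subsingleton S[X] := inferInstance
    haveI : Subsingleton Asub := inferInstance
    exact ⟨Module.Free.of_subsingleton S Asub, ⟨⟨∅, Subsingleton.elim _ _⟩⟩⟩
  have hmonic : f.Monic := by
    rw [hf]
    have : (X ^ 2 + C a * X + C b : S[X]) = X ^ 2 + (C a * X + C b) := by ring
    rw [this]
    apply Polynomial.monic_X_pow_add
    exact lt_of_le_of_lt Polynomial.degree_linear_le (by norm_num)
  have hdeg : f.degree = 2 := by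
    rw [hf]
    have : (X ^ 2 + C a * X + C b : S[X]) = C 1 * X ^ 2 + C a * X + C b := by simp
    rw [this]
    exact Polynomial.degree_quadratic one_ne_zero
  refine ⟨?_, ?_⟩
  · -- free
    let φ : (S × S[X]) →ₗ[S] Asub :=
      { toFun := fun x => ⟨C x.1 + f * x.2, (hmemA _).mpr ⟨x.1, x.2, rfl⟩⟩
        map_add' := by
          intro x y
          apply Subtype.ext
          simp only [Prod.fst_add, Prod.snd_add, C_add, Subalgebra.coe_add]
          ring
        map_smul' := by
          intro c x
          apply Subtype.ext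
          simp only [Prod.smul_fst, Prod.smul_snd, smul_eq_mul, C_mul, RingHom.id_apply,
            Subalgebra.coe_smul, Polynomial.smul_eq_C_mul]
          ring }
    have hinj : Function.Injective φ := by
      rw [← LinearMap.ker_eq_bot, LinearMap.ker_eq_bot']
      rintro ⟨s, q⟩ h
      have h1 : C s + f * q = 0 := congrArg Subtype.val h
      have h2 := Polynomial.div_modByMonic_unique q (C s) hmonic
        ⟨h1, by rw [hdeg]; exact lt_of_le_of_lt Polynomial.degree_C_le (by norm_num)⟩
      rw [Polynomial.zero_divByMonic, Polynomial.zero_modByMonic] at h2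
      have hs : s = 0 := by
        have := h2.2.symm
        rwa [Polynomial.C_eq_zero] at this
      rw [hs, ← h2.1]
      rfl
    have hsurj : Function.Surjective φ := by
      rintro ⟨p, hp⟩
      obtain ⟨s, q, rfl⟩ := (hmemA p).mp hp
      exact ⟨(s, q), rfl⟩
    exact Module.Free.of_equiv (LinearEquiv.ofBijective φ ⟨hinj, hsurj⟩)
  · -- finite
    refine ⟨⟨{1, X}, ?_⟩⟩
    rw [eq_top_iff]
    intro p _
    have hr : (p %ₘ f).degree ≤ 1 := by
      have := Polynomial.degree_modByMonic_lt p hmonic
      rw [hdeg] at this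
      by_cases h0 : p %ₘ f = 0
      · rw [h0]; simp
      · rw [Polynomial.degree_eq_natDegree h0] at this ⊢
        have h3 : (p %ₘ f).natDegree < 2 := by exact_mod_cast this
        have h4 : (p %ₘ f).natDegree ≤ 1 := by omega
        exact_mod_cast h4
    have hr' := Polynomial.eq_X_add_C_of_degree_le_one hr
    have hp : p = (C ((p %ₘ f).coeff 0) + f * (p /ₘ f)) * 1 + C ((p %ₘ f).coeff 1) * X := by
      have := Polynomial.modByMonic_add_div p f
      conv_lhs => rw [← this, hr']
      ring
    rw [Finset.coe_insert, Finset.coe_singleton, Submodule.mem_span_pair]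
    refine ⟨⟨C ((p %ₘ f).coeff 0) + f * (p /ₘ f), (hmemA _).mpr ⟨_, _, rfl⟩⟩,
      ⟨C ((p %ₘ f).coeff 1), (hmemA _).mpr ⟨(p %ₘ f).coeff 1, 0, by simp⟩⟩, ?_⟩
    rw [Subalgebra.smul_def, Subalgebra.smul_def]
    exact hp.symm

end Groth.Agent.S19184
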