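import Groth.Statements.S19186
import Mathlib
-- import your own Groth.Agent.* helpers here

set_option autoImplicit false
universe u
open OneMot

namespace Groth.Agent.S19186

/-- Let p and ℓ be distinct prime numbers, r and n natural numbers, and f : A → B a homomorphism of
abelian groups whose kernel and cokernel are annihilated by p^r (f a = 0 implies p^r • a = 0, and
every p^r • b lies in the image of f). Then f induces a bijection between the ℓ^n-torsion subgroups
of A and B and a bijection A/ℓ^n A → B/ℓ^n B. Spelled out without quotients: every ℓ^n-torsion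
element of B has exactly one ℓ^n-torsion preimage; an element of A whose image is an ℓ^n-multiple is
itself an ℓ^n-multiple; and every element of B is the sum of an image and an ℓ^n-multiple. -/
theorem result {A B : Type u} [AddCommGroup A] [AddCommGroup B] (f : A →+ B) (p ℓ r n : ℕ) (hp : p.Prime) (hl : ℓ.Prime) (hne : ℓ ≠ p) (hker : ∀ a : A, f a = 0 → p ^ r • a = 0) (hcoker : ∀ b : B, ∃ a : A, f a = p ^ r • b) : (∀ b : B, ℓ ^ n • b = 0 → ∃! a : A, ℓ ^ n • a = 0 ∧ f a = b) ∧ (∀ a : A, (∃ b' : B, f a = ℓ ^ n • b') → ∃ a' : A, a = ℓ ^ n • a') ∧ (∀ b : B, ∃ (a : A) (b' : B), b = f a + ℓ ^ n • b') := by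
  have hcop : ∀ m : ℕ, IsCoprime ((p ^ m : ℕ) : ℤ) ((ℓ ^ n : ℕ) : ℤ) := by
    intro m
    rw [Nat.isCoprime_iff_coprime]
    apply Nat.Coprime.pow
    exact (Nat.coprime_primes hp hl).2 (Ne.symm hne)
  -- integer versions
  have hkerZ : ∀ a : A, f a = 0 → ((p ^ r : ℕ) : ℤ) • a = 0 := fun a ha => by
    rw [natCast_zsmul]; exact hker a ha
  have hcokerZ : ∀ b : B, ∃ a : A, f a = ((p ^ r : ℕ) : ℤ) • b := fun b => by
    obtain ⟨a, ha⟩ := hcoker b
    exact ⟨a, by rw [natCast_zsmul]; exact ha⟩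
  obtain ⟨u, v, huv⟩ := hcop r
  set P : ℤ := ((p ^ r : ℕ) : ℤ) with hP
  set L : ℤ := ((ℓ ^ n : ℕ) : ℤ) with hL
  have hLsmulA : ∀ a : A, ℓ ^ n • a = L • a := fun a => by rw [hL, natCast_zsmul]
  have hLsmulB : ∀ b : B, ℓ ^ n • b = L • b := fun b => by rw [hL, natCast_zsmul]
  have hsplitA : ∀ a : A, a = (u * P) • a + (v * L) • a := fun a => by
    rw [← add_smul, huv, one_smul]
  have hsplitB : ∀ b : B, b = (u * P) • b + (v * L) • b := fun b => by
    rw [← add_smul, huv, one_smul]
  refine ⟨?_, ?_, ?_⟩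
  · intro b hb
    rw [hLsmulB] at hb
    obtain ⟨a₀, ha₀⟩ := hcokerZ b
    -- a₁ = u • a₀ maps to b
    have hb1 : b = (u * P) • b := by
      have := hsplitB b
      rwa [mul_smul v L b, hb, smul_zero, add_zero] at this
    have hfa1 : f (u • a₀) = b := by
      rw [map_zsmul, ha₀, ← mul_smul]; exact hb1.symm
    have hLa1 : P • (L • (u • a₀)) = 0 := by
      apply hkerZ
      rw [map_zsmul, hfa1, hb]
    refine ⟨(u * P) • (u • a₀), ⟨?_, ?_⟩, ?_⟩
    · rw [hLsmulA]
      rw [← mul_smul, show L * (u * P) = u * (P * L) by ring, mul_smul, mul_smul]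
      rw [hLa1, smul_zero]
    · rw [map_zsmul, hfa1]; exact hb1.symm
    · rintro a' ⟨ha'L, ha'f⟩
      rw [hLsmulA] at ha'L
      set a := (u * P) • (u • a₀) with hadef
      have haL : L • a = 0 := by
        rw [hadef, ← mul_smul, show L * (u * P) = u * (P * L) by ring, mul_smul, mul_smul]
        rw [hLa1, smul_zero]
      have haf : f a = b := by rw [hadef, map_zsmul, hfa1]; exact hb1.symm
      have hc : f (a' - a) = 0 := by rw [map_sub, ha'f, haf, sub_self]
      have hcP := hkerZ _ hc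
      have hcL : L • (a' - a) = 0 := by rw [smul_sub, ha'L, haL, sub_self]
      have := hsplitA (a' - a)
      rw [mul_smul u P, hcP, mul_smul v L, hcL, smul_zero, smul_zero, add_zero] at this
      exact sub_eq_zero.1 this
  · rintro a ⟨b', hb'⟩
    rw [hLsmulB] at hb'
    obtain ⟨a₃, ha₃⟩ := hcokerZ b'
    have h1 : f (P • a - L • a₃) = 0 := by
      rw [map_sub, map_zsmul, map_zsmul, hb', ha₃, ← mul_smul, ← mul_smul, mul_comm, sub_self]
    have h2 := hkerZ _ h1
    rw [smul_sub, sub_eq_zero] at h2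
    obtain ⟨u', v', huv'⟩ := hcop (2 * r)
    have hP2 : ((p ^ (2 * r) : ℕ) : ℤ) = P * P := by
      rw [hP]; push_cast; ring
    rw [hP2] at huv'
    refine ⟨(u' * P) • a₃ + v' • a, ?_⟩
    rw [hLsmulA, smul_add, ← mul_smul, ← mul_smul]
    have : a = (u' * (P * P)) • a + (v' * L) • a := by rw [← add_smul, huv', one_smul]
    conv_lhs => rw [this]
    congr 1
    · rw [show u' * (P * P) = u' * P * P by ring, mul_smul, mul_smul u' P (P • a), h2]
      simp only [← mul_smul]
      congr 1; ring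
    · rw [mul_comm]
  · intro b
    obtain ⟨a₀, ha₀⟩ := hcokerZ b
    refine ⟨u • a₀, v • b, ?_⟩
    rw [hLsmulB, map_zsmul, ha₀, ← mul_smul, ← mul_smul, mul_comm L v]
    exact hsplitB b

end Groth.Agent.S19186
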