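import Groth.Statements.S19191
import Mathlib
-- import your own Groth.Agent.* helpers here

set_option autoImplicit false
universe w v u v' u'
open CategoryTheory CategoryTheory.Limits CategoryTheory.Pretriangulated CategoryTheory.Triangulated
open CohDer

namespace Groth.Agent.S19191

/-- Let `A` be a commutative ring, `T` an `A`-linear triangulated category (octahedron axiom included;
shift functors `A`-linear), `U` a thick subcategory of `T` (a property of objects containing zero,
stable under shifts, extensions, isomorphisms and direct factors), and `Q : T ⥤ E` a localization of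
`T` at the morphisms whose cone lies in `U` (the Verdier quotient `T/U`), where `E` is preadditive
and `A`-linear and `Q` is `A`-linear. For an object `X` of `T` the following two conditions are
equivalent: (i) `X` lies in `U`; (ii) for every maximal ideal `m` of `A` the image of `X` in the
category obtained from `T/U` by tensoring the morphism modules with `A_m` is zero, i.e. some element
of `A` outside `m` annihilates the identity of `Q X`. (The published statement also lists a third
equivalent condition, phrased with idempotent completions of the localized categories; it is not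
asserted here.) -/
theorem result
    {A : Type w} [CommRing A]
    {T : Type u} [Category.{v} T] [Preadditive T] [Linear A T] [HasZeroObject T] [HasShift T ℤ]
    [∀ n : ℤ, (shiftFunctor T n).Additive] [∀ n : ℤ, (shiftFunctor T n).Linear A]
    [Pretriangulated T] [IsTriangulated T]
    (U : ObjectProperty T) [U.IsTriangulated] [U.IsClosedUnderIsomorphisms] [U.IsStableUnderRetracts]
    {E : Type u'} [Category.{v'} E] [Preadditive E] [Linear A E]
    (Q : T ⥤ E) [Q.Additive] [Q.Linear A] [Q.IsLocalization U.trW] (X : T) :
    U X ↔ ∀ m : Ideal A, m.IsMaximal → ∃ s : A, s ∉ m ∧ s • 𝟙 (Q.obj X) = 0 := by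
  classical
  constructor
  · intro hX m _
    refine ⟨1, fun h1 => (Ideal.ne_top_iff_one m).mp (Ideal.IsMaximal.ne_top ‹_›) h1, ?_⟩
    rw [one_smul]
    -- the map X ⟶ 0 is in trW
    have hW : U.trW (contractibleTriangle X).mor₂ := by
      have hT := Pretriangulated.contractible_distinguished X
      exact ObjectProperty.trW.mk' (P := U) hT hX
    have hiso : IsIso (Q.map (contractibleTriangle X).mor₂) := Localization.inverts Q U.trW _ hW
    have hz : Q.map (contractibleTriangle X).mor₂ = 0 := by
      have h0 : (contractibleTriangle X).mor₂ = 0 := rfl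
      rw [h0, Q.map_zero]
    obtain ⟨g, hg1, _⟩ := hiso.out
    rw [hz, zero_comp] at hg1
    exact hg1.symm
  · intro h
    -- the annihilator ideal of 𝟙 (Q.obj X)
    let I : Ideal A :=
      { carrier := {s | s • 𝟙 (Q.obj X) = 0}
        add_mem' := by
          intro a b ha hb
          show (a + b) • 𝟙 (Q.obj X) = 0
          rw [add_smul, ha, hb, add_zero]
        zero_mem' := by
          show (0 : A) • 𝟙 (Q.obj X) = 0
          rw [zero_smul]
        smul_mem' := by
          intro c a ha
          show (c • a) • 𝟙 (Q.obj X) = 0
          rw [smul_assoc, ha, smul_zero] }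
    have hI : I = ⊤ := by
      by_contra hne
      obtain ⟨m, hm, hIm⟩ := Ideal.exists_le_maximal I hne
      obtain ⟨s, hs, hs0⟩ := h m hm
      exact hs (hIm hs0)
    have h1 : (1 : A) ∈ I := by rw [hI]; trivial
    have hid : 𝟙 (Q.obj X) = 0 := by
      have : (1 : A) • 𝟙 (Q.obj X) = 0 := h1
      rwa [one_smul] at this
    have hmap : Q.map (𝟙 X) = Q.map (0 : X ⟶ X) := by
      rw [Q.map_id, Q.map_zero, hid]
    obtain ⟨Z, s, hs, hcomp⟩ := (MorphismProperty.map_eq_iff_postcomp Q U.trW (𝟙 X) 0).mp hmap
    rw [Category.id_comp, zero_comp] at hcomp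
    subst hcomp
    rw [ObjectProperty.trW_iff] at hs
    obtain ⟨Z', g, hh, hT, hZ'⟩ := hs
    -- rotate and use coyoneda exactness
    have hTrot := Pretriangulated.rot_of_distTriang _ hT
    obtain ⟨φ, hφ⟩ := Pretriangulated.Triangle.coyoneda_exact₃ _ hTrot (𝟙 (X⟦(1 : ℤ)⟧)) (by
      show 𝟙 (X⟦(1 : ℤ)⟧) ≫ (-((shiftFunctor T (1 : ℤ)).map (0 : X ⟶ Z))) = 0
      rw [Functor.map_zero, neg_zero, comp_zero])
    have hret : Retract (X⟦(1 : ℤ)⟧) Z' := ⟨φ, hh, hφ.symm⟩
    have hU1 : U (X⟦(1 : ℤ)⟧) := U.prop_of_retract hret hZ'
    exact (U.prop_shift_iff_of_isStableUnderShift X (1 : ℤ)).mp hU1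

end Groth.Agent.S19191
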