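import Groth.Statements.S19196
import Mathlib
-- import your own Groth.Agent.* helpers here

set_option autoImplicit false
universe u
open RelS1

namespace Groth.Agent.S19196

/-- Let R be a Noetherian commutative ring and N a finitely generated R-module which fails Serre's
condition (S_1), in the sense that some associated prime of N is not a minimal prime of the
annihilator of N. Then there exist an element a of R lying in no minimal prime of the annihilator of
N and a nonzero element b of N with a • b = 0; thus the basic open set D(a) meets the support of N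
densely while restriction to it is not injective on N. -/
theorem result (R N : Type u) [CommRing R] [IsNoetherianRing R]
    [AddCommGroup N] [Module R N] [Module.Finite R N]
    (h : ¬ associatedPrimes R N ⊆ (Module.annihilator R N).minimalPrimes) :
    ∃ (a : R) (b : N), (∀ P ∈ (Module.annihilator R N).minimalPrimes, a ∉ P) ∧ b ≠ 0 ∧ a • b = 0 := by
  classical
  rw [Set.not_subset] at h
  obtain ⟨P, hP, hPmin⟩ := h
  obtain ⟨hPprime, x, hPx⟩ := hP
  have hann : Module.annihilator R N ≤ P := by
    intro r hr
    rw [hPx]
    apply Ideal.le_radical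
    rw [Submodule.mem_colon_singleton]
    rw [Module.mem_annihilator] at hr
    rw [hr x]
    exact Submodule.zero_mem _
  have hfin := Ideal.finite_minimalPrimes_of_isNoetherianRing R (Module.annihilator R N)
  have hex : ∃ a ∈ P, ∀ Q ∈ (Module.annihilator R N).minimalPrimes, a ∉ Q := by
    by_contra hcon
    push Not at hcon
    have hsub : (P : Set R) ⊆ ⋃ Q ∈ (hfin.toFinset : Set (Ideal R)), (Q : Set R) := by
      intro a ha
      obtain ⟨Q, hQ, haQ⟩ := hcon a ha
      exact Set.mem_biUnion (by simpa using hQ) haQ
    obtain ⟨Q, hQ, hPQ⟩ := (Ideal.subset_union_prime (f := fun Q : Ideal R => Q) P P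
      (fun Q hQ _ _ => by
        have : Q ∈ (Module.annihilator R N).minimalPrimes := by simpa using hQ
        exact this.1.1)).1 hsub
    have hQ' : Q ∈ (Module.annihilator R N).minimalPrimes := by simpa using hQ
    have hQP : Q ≤ P := hQ'.2 ⟨hPprime, hann⟩ hPQ
    have : P = Q := le_antisymm hPQ hQP
    exact hPmin (this ▸ hQ')
  obtain ⟨a, haP, haQ⟩ := hex
  have hx0 : x ≠ 0 := by
    rintro rfl
    apply hPprime.ne_top
    rw [hPx, Ideal.radical_eq_top, Ideal.eq_top_iff_one, Submodule.mem_colon_singleton]
    simp
  have hpow : ∃ n : ℕ, a ^ n • x = 0 := by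
    rw [hPx] at haP
    obtain ⟨n, hn⟩ := haP
    rw [Submodule.mem_colon_singleton] at hn
    exact ⟨n, (Submodule.mem_bot R).1 hn⟩
  have hn0 : Nat.find hpow ≠ 0 := by
    intro h0
    have := Nat.find_spec hpow
    rw [h0, pow_zero, one_smul] at this
    exact hx0 this
  obtain ⟨m, hm⟩ := Nat.exists_eq_succ_of_ne_zero hn0
  refine ⟨a, a ^ m • x, haQ, ?_, ?_⟩
  · exact Nat.find_min hpow (by omega : m < Nat.find hpow)
  · rw [smul_smul, ← pow_succ', ← Nat.succ_eq_add_one, ← hm]
    exact Nat.find_spec hpow

end Groth.Agent.S19196
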