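import Groth.Statements.S19202
import Mathlib
import Groth.Agent.Helper9.ClosureSub
-- import your own Groth.Agent.* helpers here

set_option autoImplicit false
universe u
open CategoryTheory AlgebraicGeometry
open FlatMor

namespace Groth.Agent.S19202

/-- Let R be a Dedekind domain, X and Y schemes over Spec R with X flat over Spec R, and f : X → Y a
morphism over Spec R. Then the scheme-theoretic image of f, i.e. the closed subscheme of Y cut out
by the kernel ideal sheaf of f, is flat over Spec R. (The published statement takes the base to be a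
non-singular curve and f proper; this row takes the spectrum of any Dedekind domain and any morphism
f over it.) -/
theorem result (R : Type u) [CommRing R] [IsDedekindDomain R]
    {X Y : Scheme.{u}} (p : X ⟶ Spec (CommRingCat.of R)) (q : Y ⟶ Spec (CommRingCat.of R))
    (f : X ⟶ Y) (w : f ≫ q = p) [Flat p] : Flat (f.imageι ≫ q) := by
  have key : ∀ I : Y.IdealSheafData, I = f.ker → Flat (I.subschemeι ≫ q) := by
    intro I hI
    let η := Neron.genPt R
    let ι := f.imageι
    let g : Limits.pullback (ι ≫ q) η ⟶ Y := Limits.pullback.fst (ι ≫ q) η ≫ ι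
    haveI : QuasiCompact g := inferInstance
    have hgq : g ≫ q = Limits.pullback.snd (ι ≫ q) η ≫ η := by
      change (Limits.pullback.fst (ι ≫ q) η ≫ ι) ≫ q = _
      rw [Category.assoc, Limits.pullback.condition]
    have hunit : ∀ r : R, r ≠ 0 →
        IsUnit ((g ≫ q).appTop ((Scheme.ΓSpecIso (CommRingCat.of R)).inv r)) := by
      intro r hr
      rw [hgq, Scheme.Hom.comp_appTop]
      have h1 : η.appTop ((Scheme.ΓSpecIso (CommRingCat.of R)).inv r) =
          (Scheme.ΓSpecIso (CommRingCat.of (FractionRing R))).inv (algebraMap R (FractionRing R) r) := by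
        have := Scheme.ΓSpecIso_inv_naturality (CommRingCat.ofHom (algebraMap R (FractionRing R)))
        exact (congrArg (fun t => t.hom r) this).symm
      rw [CommRingCat.comp_apply, h1]
      have hK : IsUnit (algebraMap R (FractionRing R) r) := by
        rw [isUnit_iff_ne_zero]
        exact (map_ne_zero_iff _ (IsFractionRing.injective R (FractionRing R))).mpr hr
      exact (hK.map _).map _
    have flat1 : Flat (g.imageι ≫ q) :=
      Groth.Agent.Helper9.FlatImage.flat_imageι_comp (R := CommRingCat.of R) g q hunit
    -- f factors through the image of g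
    haveI : IsSchemeTheoreticallyDominant (Limits.pullback.fst p η) := inferInstance
    let b : Limits.pullback p η ⟶ g.image :=
      Limits.pullback.map p η (ι ≫ q) η f.toImage (𝟙 _) (𝟙 _)
        (by rw [Category.comp_id, ← Category.assoc, f.toImage_imageι, w]) (by simp) ≫ g.toImage
    have hb : Limits.pullback.fst p η ≫ f = b ≫ g.imageι := by
      change _ = (_ ≫ g.toImage) ≫ g.imageι
      rw [Category.assoc, g.toImage_imageι]
      change _ = _ ≫ Limits.pullback.fst (ι ≫ q) η ≫ ι
      rw [Limits.pullback.lift_fst_assoc, Category.assoc, f.toImage_imageι]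
    obtain ⟨f', hf'⟩ := Groth.Agent.Helper9.NeronClosed.exists_factor_of_dominant
      (Limits.pullback.fst p η) f g.imageι b hb
    have hker1 : g.ker ≤ f.ker := by
      have h1 : g.imageι.ker = g.ker := Scheme.IdealSheafData.ker_subschemeι _
      have h2 : g.imageι.ker ≤ (f' ≫ g.imageι).ker := Scheme.Hom.le_ker_comp _ _
      have h3 : (f' ≫ g.imageι).ker = f.ker := congrArg Scheme.Hom.ker hf'
      exact h1.symm.le.trans (h2.trans h3.le)
    have hker2 : f.ker ≤ g.ker := by
      have h1 : f.imageι.ker = f.ker := Scheme.IdealSheafData.ker_subschemeι _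
      have h2 : f.imageι.ker ≤ g.ker := Scheme.Hom.le_ker_comp _ _
      exact h1.symm.le.trans h2
    have hIg : I = g.ker := hI.trans (le_antisymm hker2 hker1)
    subst hIg
    exact flat1
  exact key f.ker rfl

end Groth.Agent.S19202
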