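import Groth.Statements.S19205
import Groth.Agent.Helper4.SN56
import Mathlib

set_option autoImplicit false
universe u
open CategoryTheory AlgebraicGeometry
open Curves

namespace Groth.Agent.S19205


/-- Let C be a smooth projective curve of genus g over an algebraically closed field k (an integral
scheme, proper over k, of dimension one, all local rings regular) and d an integer with d ≥ 2g. For
every invertible O_C-module M of degree d' ≤ d having at least m + 1 linearly independent global
sections with m ≥ 1, one has d·m ≤ d'·(d − g). Linear semi-stability of C mapped to P^{d−g} by all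
sections of a line bundle of degree d ≥ 2g, which is what the published statement asserts, follows
from this inequality (reduced degrees d'/m of projections of that image are at least d/(d − g));
linear semi-stability itself is not formalized here. -/
theorem result (k : Type u) [Field k] [IsAlgClosed k] (X : Scheme.{u})
    [X.Over (Spec (CommRingCat.of k))] [IsIntegral X] [IsProper (X ↘ (Spec (CommRingCat.of k)))]
    (hdim : topologicalKrullDim X = 1) (hreg : ∀ x : X, IsRegularLocalRing (X.presheaf.stalk x))
    (d : ℤ) (hd : 2 * (Curv2.genus k X : ℤ) ≤ d)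
    (M : X.Modules) (hM : PicF.IsInvertible M) (m : ℕ) (hm : 1 ≤ m)
    (hsec : m + 1 ≤ Module.finrank k (Coh.HH X M 0)) (hdeg : Curv2.deg k X M 1 ≤ d) :
    d * (m : ℤ) ≤ Curv2.deg k X M 1 * (d - Curv2.genus k X) := by

  haveI := Groth.Agent.Helper4.NApx82.isNoetherian_of_proper k X
  have hcM := Groth.Agent.Helper1.SerreFin.isCoh_of_isInvertible M hM
  haveI : Module.Finite k (Coh.HH X M 0) := Groth.Agent.S0002.result k X _ hcM 0
  haveI : Module.Finite k (Coh.HH X M 1) := Groth.Agent.S0002.result k X _ hcM 1
  have h0 : Nontrivial (Coh.HH X M 0) :=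
    Module.nontrivial_of_finrank_pos (R := k) (by omega)
  have hχM := Groth.Agent.Helper4.SN.chi_eq_h0_sub_h1 k hdim.le M
  have hχO := Groth.Agent.Helper4.SN.chi_eq_h0_sub_h1 k hdim.le (Coh.structureModule X)
  unfold Groth.Agent.Helper4.SN.chi at hχM hχO
  have hO := Groth.Agent.Helper4.SN.finrank_h0_unit_of_isAlgClosed k (X := X)
  have hdegM : Curv2.deg k X M 1 =
      (Module.finrank k (Coh.HH X M 0) : ℤ) - (Module.finrank k (Coh.HH X M 1) : ℤ)
        - 1 + (Curv2.genus k X : ℤ) := by
    unfold Curv2.deg Curv2.genus
    rw [hχM, hχO, hO]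
    push_cast
    ring
  have hg0 : (0 : ℤ) ≤ (Curv2.genus k X : ℤ) := Int.natCast_nonneg _
  have hsec' : (m : ℤ) + 1 ≤ (Module.finrank k (Coh.HH X M 0) : ℤ) := by exact_mod_cast hsec
  have hm' : (1 : ℤ) ≤ (m : ℤ) := by exact_mod_cast hm
  by_cases h1 : Subsingleton (Coh.HH X M 1)
  · have hz : Module.finrank k (Coh.HH X M 1) = 0 := Module.finrank_zero_of_subsingleton
    rw [hz] at hdegM
    push_cast at hdegM
    nlinarith
  · rw [not_subsingleton_iff_nontrivial] at h1
    have hcl := Groth.Agent.Helper4.SN.clifford_two_h0_le k hdim M hM h0 h1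
    nlinarith

end Groth.Agent.S19205
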