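import Groth.Statements.S19210
import Mathlib
-- import your own Groth.Agent.* helpers here

set_option autoImplicit false
universe u
open LocAlg

namespace Groth.Agent.S19210

theorem diff_bounds (j : ℕ) (x : ℝ) (hx : 0 ≤ x) :
    ((j : ℝ) + 1) * x ^ j ≤ (x + 1) ^ (j + 1) - x ^ (j + 1) ∧
      (x + 1) ^ (j + 1) - x ^ (j + 1) ≤ ((j : ℝ) + 1) * (x + 1) ^ j := by
  induction j with
  | zero => simp
  | succ j ih =>
    obtain ⟨ih1, ih2⟩ := ih
    have e : (x + 1) ^ (j + 1 + 1) - x ^ (j + 1 + 1) =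
        (x + 1) * ((x + 1) ^ (j + 1) - x ^ (j + 1)) + x ^ (j + 1) := by ring
    have hx1 : 0 ≤ x + 1 := by linarith
    have hpow : x ^ (j + 1) ≤ (x + 1) ^ (j + 1) := pow_le_pow_left₀ hx (by linarith) _
    have hxj : 0 ≤ x ^ j := pow_nonneg hx j
    have hxj1 : 0 ≤ (x + 1) ^ j := pow_nonneg hx1 j
    constructor
    · rw [e]
      have h1 : (x + 1) * (((j : ℝ) + 1) * x ^ j) ≤ (x + 1) * ((x + 1) ^ (j + 1) - x ^ (j + 1)) :=
        mul_le_mul_of_nonneg_left ih1 hx1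
      have h2 : ((j : ℝ) + 1) * x ^ (j + 1) ≤ (x + 1) * (((j : ℝ) + 1) * x ^ j) := by
        have : (x + 1) * (((j : ℝ) + 1) * x ^ j) = ((j : ℝ) + 1) * x ^ (j + 1) + ((j : ℝ) + 1) * x ^ j := by
          ring
        rw [this]
        have : 0 ≤ ((j : ℝ) + 1) * x ^ j := mul_nonneg (by positivity) hxj
        linarith
      push_cast
      nlinarith
    · rw [e]
      have h1 : (x + 1) * ((x + 1) ^ (j + 1) - x ^ (j + 1)) ≤ (x + 1) * (((j : ℝ) + 1) * (x + 1) ^ j) :=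
        mul_le_mul_of_nonneg_left ih2 hx1
      have h2 : (x + 1) * (((j : ℝ) + 1) * (x + 1) ^ j) = ((j : ℝ) + 1) * (x + 1) ^ (j + 1) := by ring
      push_cast
      nlinarith

theorem base_bounds (j n : ℕ) :
    ((j : ℝ) + 1) * ∑ i ∈ Finset.range n, (i : ℝ) ^ j ≤ (n : ℝ) ^ (j + 1) ∧
      (n : ℝ) ^ (j + 1) ≤ ((j : ℝ) + 1) * ∑ i ∈ Finset.range n, ((i : ℝ) + 1) ^ j := by
  induction n with
  | zero => simp
  | succ n ih =>
    obtain ⟨ih1, ih2⟩ := ih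
    obtain ⟨d1, d2⟩ := diff_bounds j (n : ℝ) (Nat.cast_nonneg n)
    rw [Finset.sum_range_succ, Finset.sum_range_succ]
    push_cast
    constructor
    · nlinarith
    · nlinarith

theorem base_case (j n : ℕ) :
    |(∑ i ∈ Finset.range n, (i : ℝ) ^ j) - (1 / ((j : ℝ) + 1)) * (n : ℝ) ^ (j + 1)| ≤ (n : ℝ) ^ j := by
  obtain ⟨b1, b2⟩ := base_bounds j n
  have hj : (0 : ℝ) < (j : ℝ) + 1 := by positivity
  have hshift : ∑ i ∈ Finset.range n, ((i : ℝ) + 1) ^ j ≤ (∑ i ∈ Finset.range n, (i : ℝ) ^ j) + (n : ℝ) ^ j := by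
    have h1 := Finset.sum_range_succ (fun i => ((i : ℕ) : ℝ) ^ j) n
    have h2 := Finset.sum_range_succ' (fun i => ((i : ℕ) : ℝ) ^ j) n
    have h3 : (0 : ℝ) ≤ ((0 : ℕ) : ℝ) ^ j := by positivity
    have h4 : ∑ i ∈ Finset.range n, ((i : ℝ) + 1) ^ j = ∑ i ∈ Finset.range n, (((i + 1 : ℕ) : ℝ)) ^ j := by
      apply Finset.sum_congr rfl
      intro i _
      push_cast
      rfl
    rw [h4]
    linarith
  have hn : (0 : ℝ) ≤ (n : ℝ) ^ j := by positivity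
  have e : (1 / ((j : ℝ) + 1)) * (n : ℝ) ^ (j + 1) = (n : ℝ) ^ (j + 1) / ((j : ℝ) + 1) := by ring
  rw [e, abs_le]
  constructor
  · rw [neg_le_sub_iff_le_add, div_le_iff₀ hj]
    nlinarith
  · rw [sub_le_iff_le_add]
    have : ∑ i ∈ Finset.range n, (i : ℝ) ^ j ≤ (n : ℝ) ^ (j + 1) / ((j : ℝ) + 1) := by
      rw [le_div_iff₀ hj]; linarith
    linarith

theorem main (a : ℕ) : ∀ j : ℕ, ∃ C : ℝ, 0 ≤ C ∧ ∀ n : ℕ,
    |(∑ i ∈ Finset.range n, ((n : ℝ) - (i : ℝ)) ^ a * (i : ℝ) ^ j) -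
        ((a.factorial : ℝ) * (j.factorial : ℝ) / ((a + j + 1).factorial : ℝ)) * (n : ℝ) ^ (a + j + 1)| ≤
      C * (n : ℝ) ^ (a + j) := by
  induction a with
  | zero =>
    intro j
    refine ⟨1, zero_le_one, fun n => ?_⟩
    have := base_case j n
    have e : ((Nat.factorial 0 : ℝ) * (j.factorial : ℝ) / ((0 + j + 1).factorial : ℝ)) = 1 / ((j : ℝ) + 1) := by
      rw [zero_add, Nat.factorial_succ, Nat.factorial_zero]
      have : (j.factorial : ℝ) ≠ 0 := by positivity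
      push_cast
      field_simp
    rw [e]
    simpa using this
  | succ a ih =>
    intro j
    obtain ⟨C1, hC1, h1⟩ := ih j
    obtain ⟨C2, hC2, h2⟩ := ih (j + 1)
    refine ⟨C1 + C2, by linarith, fun n => ?_⟩
    have hS : ∑ i ∈ Finset.range n, ((n : ℝ) - (i : ℝ)) ^ (a + 1) * (i : ℝ) ^ j =
        (n : ℝ) * (∑ i ∈ Finset.range n, ((n : ℝ) - (i : ℝ)) ^ a * (i : ℝ) ^ j) -
          ∑ i ∈ Finset.range n, ((n : ℝ) - (i : ℝ)) ^ a * (i : ℝ) ^ (j + 1) := by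
      rw [Finset.mul_sum, ← Finset.sum_sub_distrib]
      apply Finset.sum_congr rfl
      intro i _
      ring
    have hB : (((a + 1).factorial : ℝ) * (j.factorial : ℝ) / ((a + 1 + j + 1).factorial : ℝ)) =
        ((a.factorial : ℝ) * (j.factorial : ℝ) / ((a + j + 1).factorial : ℝ)) -
          ((a.factorial : ℝ) * ((j + 1).factorial : ℝ) / ((a + (j + 1) + 1).factorial : ℝ)) := by
      have e1 : a + 1 + j + 1 = (a + j + 1) + 1 := by ring
      have e2 : a + (j + 1) + 1 = (a + j + 1) + 1 := by ring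
      rw [e1, e2, Nat.factorial_succ (a + j + 1), Nat.factorial_succ a, Nat.factorial_succ j]
      have h3 : ((a + j + 1).factorial : ℝ) ≠ 0 := by positivity
      push_cast
      field_simp
      ring
    have e3 : a + 1 + j + 1 = (a + j + 1) + 1 := by ring
    have e4 : a + (j + 1) + 1 = (a + j + 1) + 1 := by ring
    have e5 : a + 1 + j = a + j + 1 := by ring
    have e6 : a + (j + 1) = a + j + 1 := by ring
    have h1n := h1 n
    have h2n := h2 n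
    rw [e4, e6] at h2n
    rw [hS, hB, e3, e4, e5]
    have hn0 : (0 : ℝ) ≤ (n : ℝ) := Nat.cast_nonneg n
    have key : (n : ℝ) * (∑ i ∈ Finset.range n, ((n : ℝ) - (i : ℝ)) ^ a * (i : ℝ) ^ j) -
          (∑ i ∈ Finset.range n, ((n : ℝ) - (i : ℝ)) ^ a * (i : ℝ) ^ (j + 1)) -
        ((a.factorial : ℝ) * (j.factorial : ℝ) / ((a + j + 1).factorial : ℝ) -
          (a.factorial : ℝ) * ((j + 1).factorial : ℝ) / ((a + j + 1 + 1).factorial : ℝ)) *
            (n : ℝ) ^ (a + j + 1 + 1) =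
        (n : ℝ) * ((∑ i ∈ Finset.range n, ((n : ℝ) - (i : ℝ)) ^ a * (i : ℝ) ^ j) -
          ((a.factorial : ℝ) * (j.factorial : ℝ) / ((a + j + 1).factorial : ℝ)) * (n : ℝ) ^ (a + j + 1)) -
        ((∑ i ∈ Finset.range n, ((n : ℝ) - (i : ℝ)) ^ a * (i : ℝ) ^ (j + 1)) -
          ((a.factorial : ℝ) * ((j + 1).factorial : ℝ) / ((a + j + 1 + 1).factorial : ℝ)) *
            (n : ℝ) ^ (a + j + 1 + 1)) := by ring
    rw [key]
    calc |(n : ℝ) * ((∑ i ∈ Finset.range n, ((n : ℝ) - (i : ℝ)) ^ a * (i : ℝ) ^ j) -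
          ((a.factorial : ℝ) * (j.factorial : ℝ) / ((a + j + 1).factorial : ℝ)) * (n : ℝ) ^ (a + j + 1)) -
        ((∑ i ∈ Finset.range n, ((n : ℝ) - (i : ℝ)) ^ a * (i : ℝ) ^ (j + 1)) -
          ((a.factorial : ℝ) * ((j + 1).factorial : ℝ) / ((a + j + 1 + 1).factorial : ℝ)) *
            (n : ℝ) ^ (a + j + 1 + 1))|
        ≤ |(n : ℝ) * ((∑ i ∈ Finset.range n, ((n : ℝ) - (i : ℝ)) ^ a * (i : ℝ) ^ j) -
          ((a.factorial : ℝ) * (j.factorial : ℝ) / ((a + j + 1).factorial : ℝ)) * (n : ℝ) ^ (a + j + 1))| +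
        |(∑ i ∈ Finset.range n, ((n : ℝ) - (i : ℝ)) ^ a * (i : ℝ) ^ (j + 1)) -
          ((a.factorial : ℝ) * ((j + 1).factorial : ℝ) / ((a + j + 1 + 1).factorial : ℝ)) *
            (n : ℝ) ^ (a + j + 1 + 1)| := abs_sub _ _
      _ ≤ (n : ℝ) * (C1 * (n : ℝ) ^ (a + j)) + C2 * (n : ℝ) ^ (a + j + 1) := by
        rw [abs_mul, abs_of_nonneg hn0]
        exact add_le_add (mul_le_mul_of_nonneg_left h1n hn0) h2n
      _ = (C1 + C2) * (n : ℝ) ^ (a + j + 1) := by ring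


/-- For natural numbers j ≤ r, the sums Σ_{i=0}^{n−1} (n − i)^{r−j} i^j equal n^{r+1}·(r − j)!·j!/(r +
1)! up to O(n^r): there is a real constant C with |Σ_{i<n} (n − i)^{r−j} i^j − ((r − j)!·j!/(r +
1)!)·n^{r+1}| ≤ C·n^r for all n ≥ 1. -/
theorem result (r j : ℕ) (hj : j ≤ r) :
    ∃ C : ℝ, ∀ n : ℕ, 1 ≤ n →
      |(∑ i ∈ Finset.range n, ((n : ℝ) - (i : ℝ)) ^ (r - j) * (i : ℝ) ^ j) -
          ((r - j).factorial : ℝ) * (j.factorial : ℝ) / ((r + 1).factorial : ℝ) * (n : ℝ) ^ (r + 1)| ≤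
        C * (n : ℝ) ^ r := by
  obtain ⟨C, _, hC⟩ := main (r - j) j
  refine ⟨C, fun n _ => ?_⟩
  have := hC n
  have e : r - j + j = r := Nat.sub_add_cancel hj
  rw [e] at this
  exact this

end Groth.Agent.S19210
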