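import Groth.Statements.S19216
import Mathlib
-- import your own Groth.Agent.* helpers here

set_option autoImplicit false
universe u
open SymRep

namespace Groth.Agent.S19216

/-- Let k be a field of characteristic zero and r, s ≥ 1. Realise the standard representation of the
symmetric group on a finite set T as the hyperplane of functions T → k with sum zero, the group
acting by precomposition with the inverse. Then the standard representation of the symmetric group
of Fin r ⊕ Fin s, restricted to the subgroup S_r × S_s, is isomorphic to the direct sum of the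
standard representations of S_r and of S_s and of a one-dimensional trivial representation: there is
a k-linear map E from functions on Fin r ⊕ Fin s to triples (function on Fin r, function on Fin s,
scalar), compatible with the actions of S_r × S_s (trivial on the scalar), which maps the sum-zero
hyperplane bijectively onto the product of the two sum-zero hyperplanes and k. (The published
statement is over the complex numbers; a field of characteristic zero is used here. The published
statement also gives the analogous decomposition for any number of blocks, which follows by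
induction; only the two-block case is stated here.) -/
theorem result (k : Type u) [Field k] [CharZero k]
    (r s : ℕ) (hr : 1 ≤ r) (hs : 1 ≤ s) :
    ∃ E : (Fin r ⊕ Fin s → k) →ₗ[k] (Fin r → k) × (Fin s → k) × k,
      (∀ (σ : Equiv.Perm (Fin r)) (τ : Equiv.Perm (Fin s)) (f : Fin r ⊕ Fin s → k),
        E (f ∘ ⇑(Equiv.sumCongr σ τ).symm) = ((E f).1 ∘ ⇑σ.symm, (E f).2.1 ∘ ⇑τ.symm, (E f).2.2)) ∧
      Set.BijOn E {f | ∑ i, f i = 0}
        ({g : Fin r → k | ∑ i, g i = 0} ×ˢ ({h : Fin s → k | ∑ i, h i = 0} ×ˢ Set.univ)) := by
  classical
  have hr0 : (r : k) ≠ 0 := Nat.cast_ne_zero.2 (by omega)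
  have hs0 : (s : k) ≠ 0 := Nat.cast_ne_zero.2 (by omega)
  have hrs0 : ((r : k) + s) ≠ 0 := by
    have : ((r + s : ℕ) : k) ≠ 0 := Nat.cast_ne_zero.2 (by omega)
    simpa using this
  -- averages
  let avL : (Fin r ⊕ Fin s → k) →ₗ[k] k :=
    { toFun := fun f => (r : k)⁻¹ * ∑ i, f (Sum.inl i)
      map_add' := fun f g => by simp [Finset.sum_add_distrib, mul_add]
      map_smul' := fun c f => by simp [Finset.mul_sum, mul_left_comm] }
  let avR : (Fin r ⊕ Fin s → k) →ₗ[k] k :=
    { toFun := fun f => (s : k)⁻¹ * ∑ j, f (Sum.inr j)
      map_add' := fun f g => by simp [Finset.sum_add_distrib, mul_add]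
      map_smul' := fun c f => by simp [Finset.mul_sum, mul_left_comm] }
  let E : (Fin r ⊕ Fin s → k) →ₗ[k] (Fin r → k) × (Fin s → k) × k :=
    { toFun := fun f => (fun i => f (Sum.inl i) - avL f, fun j => f (Sum.inr j) - avR f,
        avL f - avR f)
      map_add' := fun f g => by
        ext <;> simp <;> ring
      map_smul' := fun c f => by
        ext <;> simp <;> ring }
  have hE : ∀ f, E f = (fun i => f (Sum.inl i) - avL f, fun j => f (Sum.inr j) - avR f,
        avL f - avR f) := fun f => rfl
  have havL : ∀ f, avL f = (r : k)⁻¹ * ∑ i, f (Sum.inl i) := fun f => rfl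
  have havR : ∀ f, avR f = (s : k)⁻¹ * ∑ j, f (Sum.inr j) := fun f => rfl
  refine ⟨E, ?_, ?_, ?_, ?_⟩
  · intro σ τ f
    have h1 : avL (f ∘ ⇑(Equiv.sumCongr σ τ).symm) = avL f := by
      rw [havL, havL]
      congr 1
      exact Fintype.sum_equiv σ.symm _ _ (fun i => by simp)
    have h2 : avR (f ∘ ⇑(Equiv.sumCongr σ τ).symm) = avR f := by
      rw [havR, havR]
      congr 1
      exact Fintype.sum_equiv τ.symm _ _ (fun i => by simp)
    rw [hE, hE, h1, h2]
    ext <;> simp
  · -- MapsTo
    intro f hf
    simp only [Set.mem_prod, Set.mem_ofPred_eq, Set.mem_univ, and_true, hE]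
    constructor
    · rw [Finset.sum_sub_distrib, Finset.sum_const, Finset.card_univ, Fintype.card_fin, havL,
        nsmul_eq_mul]
      field_simp
      ring
    · rw [Finset.sum_sub_distrib, Finset.sum_const, Finset.card_univ, Fintype.card_fin, havR,
        nsmul_eq_mul]
      field_simp
      ring
  · -- InjOn
    intro f hf g hg hfg
    rw [Set.mem_ofPred_eq, Fintype.sum_sum_type] at hf hg
    rw [hE, hE] at hfg
    simp only [Prod.mk.injEq] at hfg
    obtain ⟨e1, e2, e3⟩ := hfg
    have hfa : (r : k) * avL f + (s : k) * avR f = 0 := by
      rw [havL, havR, ← mul_assoc, ← mul_assoc, mul_inv_cancel₀ hr0, mul_inv_cancel₀ hs0,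
        one_mul, one_mul]; exact hf
    have hga : (r : k) * avL g + (s : k) * avR g = 0 := by
      rw [havL, havR, ← mul_assoc, ← mul_assoc, mul_inv_cancel₀ hr0, mul_inv_cancel₀ hs0,
        one_mul, one_mul]; exact hg
    have hL : avL f = avL g := by
      have : ((r : k) + s) * (avL f - avL g) = 0 := by
        linear_combination hfa - hga + (s : k) * e3
      rcases mul_eq_zero.1 this with h | h
      · exact absurd h hrs0
      · exact sub_eq_zero.1 h
    have hR : avR f = avR g := by linear_combination hL - e3
    funext x
    rcases x with i | j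
    · have : f (Sum.inl i) - avL f = g (Sum.inl i) - avL g := congrFun e1 i
      linear_combination this + hL
    · have : f (Sum.inr j) - avR f = g (Sum.inr j) - avR g := congrFun e2 j
      linear_combination this + hR
  · -- SurjOn
    rintro ⟨g, h, c⟩ hgh
    simp only [Set.mem_prod, Set.mem_ofPred_eq, Set.mem_univ, and_true] at hgh
    obtain ⟨hg, hh⟩ := hgh
    set a : k := (s : k) * c / ((r : k) + s) with ha
    set b : k := -((r : k) * c) / ((r : k) + s) with hb
    refine ⟨Sum.elim (fun i => g i + a) (fun j => h j + b), ?_, ?_⟩
    · rw [Set.mem_ofPred_eq, Fintype.sum_sum_type]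
      simp only [Sum.elim_inl, Sum.elim_inr, Finset.sum_add_distrib, hg, hh, Finset.sum_const,
        Finset.card_univ, Fintype.card_fin, nsmul_eq_mul, zero_add]
      rw [ha, hb]; field_simp; ring
    · have h1 : avL (Sum.elim (fun i => g i + a) (fun j => h j + b)) = a := by
        rw [havL]
        simp only [Sum.elim_inl, Finset.sum_add_distrib, hg, Finset.sum_const,
          Finset.card_univ, Fintype.card_fin, nsmul_eq_mul, zero_add]
        field_simp
      have h2 : avR (Sum.elim (fun i => g i + a) (fun j => h j + b)) = b := by
        rw [havR]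
        simp only [Sum.elim_inr, Finset.sum_add_distrib, hh, Finset.sum_const,
          Finset.card_univ, Fintype.card_fin, nsmul_eq_mul, zero_add]
        field_simp
      rw [hE, h1, h2]
      ext
      · simp
      · simp
      · simp only
        rw [ha, hb]; field_simp; ring

end Groth.Agent.S19216
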