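import Groth.Statements.S19218
import Mathlib
-- import your own Groth.Agent.* helpers here

set_option autoImplicit false
universe u v
open TensorProduct
open DiagIdeal

namespace Groth.Agent.S19218

section Aux

variable {k : Type u} [Field k] {A : Type v} [CommRing A] [Algebra k A] {n : ℕ}

local notation "RR" => (⨂[k] _ : Fin n, A)

/-- the permutation action -/
noncomputable abbrev act (σ : Equiv.Perm (Fin n)) : RR ≃ₗ[k] RR :=
  PiTensorProduct.reindex k (fun _ : Fin n => A) σ

theorem act_mul (σ : Equiv.Perm (Fin n)) (x y : RR) :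
    act σ (x * y) = act σ x * act σ y := by
  induction x using PiTensorProduct.induction_on with
  | smul_tprod r f =>
    induction y using PiTensorProduct.induction_on with
    | smul_tprod s g =>
      rw [smul_mul_smul_comm, PiTensorProduct.tprod_mul_tprod, map_smul, map_smul, map_smul,
        PiTensorProduct.reindex_tprod, PiTensorProduct.reindex_tprod,
        PiTensorProduct.reindex_tprod, smul_mul_smul_comm, PiTensorProduct.tprod_mul_tprod]
      rfl
    | add y y' h1 h2 => rw [mul_add, map_add, h1, h2, map_add, mul_add]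
  | add x x' h1 h2 => rw [add_mul, map_add, h1, h2, map_add, add_mul]

theorem act_single (σ : Equiv.Perm (Fin n)) (l : Fin n) (a : A) :
    act σ (PiTensorProduct.singleAlgHom (R := k) (A := fun _ : Fin n => A) l a) =
      PiTensorProduct.singleAlgHom (R := k) (A := fun _ : Fin n => A) (σ l) a := by
  show act σ (PiTensorProduct.tprod k (Pi.mulSingle l a)) = PiTensorProduct.tprod k (Pi.mulSingle (σ l) a)
  rw [PiTensorProduct.reindex_tprod]
  congr 1
  funext m
  by_cases h : m = σ l
  · subst h
    simp
  · have h' : σ.symm m ≠ l := fun h2 => h (by rw [← h2]; simp)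
    rw [Pi.mulSingle_eq_of_ne h, Pi.mulSingle_eq_of_ne h']


theorem act_one (σ : Equiv.Perm (Fin n)) : act σ (1 : RR) = 1 := by
  rw [PiTensorProduct.one_def, PiTensorProduct.reindex_tprod]
  rfl

/-- the diagonal ideal -/
noncomputable abbrev dI (i j : Fin n) : Ideal RR :=
  Ideal.span (Set.range fun a : A =>
    PiTensorProduct.singleAlgHom (R := k) (A := fun _ : Fin n => A) i a -
    PiTensorProduct.singleAlgHom (R := k) (A := fun _ : Fin n => A) j a)

theorem tprod_eq_prod (f : Fin n → A) :
    PiTensorProduct.tprod k f =
      ∏ l, PiTensorProduct.singleAlgHom (R := k) (A := fun _ : Fin n => A) l (f l) := by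
  have h1 : f = ∏ l, Pi.mulSingle l (f l) := (Finset.univ_prod_mulSingle f).symm
  conv_lhs => rw [h1]
  rw [PiTensorProduct.tprod_prod]
  rfl

theorem lemD (i j : Fin n) (hij : i ≠ j) (r : RR) :
    act (Equiv.swap i j) r - r ∈ dI (k := k) (A := A) i j := by
  have hmul : ∀ r s : RR, act (Equiv.swap i j) r - r ∈ dI (k := k) (A := A) i j →
      act (Equiv.swap i j) s - s ∈ dI (k := k) (A := A) i j →
      act (Equiv.swap i j) (r * s) - r * s ∈ dI (k := k) (A := A) i j := by
    intro r s hr hs
    have : act (Equiv.swap i j) (r * s) - r * s =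
        act (Equiv.swap i j) r * (act (Equiv.swap i j) s - s) +
          (act (Equiv.swap i j) r - r) * s := by
      rw [act_mul]; ring
    rw [this]
    exact Ideal.add_mem _ (Ideal.mul_mem_left _ _ hs) (Ideal.mul_mem_right _ _ hr)
  have hsingle : ∀ (l : Fin n) (a : A),
      act (Equiv.swap i j) (PiTensorProduct.singleAlgHom (R := k) (A := fun _ : Fin n => A) l a) -
        PiTensorProduct.singleAlgHom (R := k) (A := fun _ : Fin n => A) l a ∈
        dI (k := k) (A := A) i j := by
    intro l a
    rw [act_single]
    by_cases hli : l = i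
    · subst hli
      rw [Equiv.swap_apply_left]
      have : PiTensorProduct.singleAlgHom (R := k) (A := fun _ : Fin n => A) j a -
          PiTensorProduct.singleAlgHom (R := k) (A := fun _ : Fin n => A) l a =
          -(PiTensorProduct.singleAlgHom (R := k) (A := fun _ : Fin n => A) l a -
          PiTensorProduct.singleAlgHom (R := k) (A := fun _ : Fin n => A) j a) := by ring
      rw [this]
      exact Ideal.neg_mem_iff _ |>.mpr (Ideal.subset_span ⟨a, rfl⟩)
    · by_cases hlj : l = j
      · subst hlj
        rw [Equiv.swap_apply_right]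
        exact Ideal.subset_span ⟨a, rfl⟩
      · rw [Equiv.swap_apply_of_ne_of_ne hli hlj, sub_self]
        exact Ideal.zero_mem _
  induction r using PiTensorProduct.induction_on with
  | smul_tprod c f =>
    rw [map_smul, ← smul_sub]
    refine Submodule.smul_of_tower_mem _ c ?_
    rw [tprod_eq_prod]
    refine Finset.prod_induction _ (fun r => act (Equiv.swap i j) r - r ∈ dI (k := k) (A := A) i j)
      hmul ?_ (fun l _ => hsingle l (f l))
    rw [act_one, sub_self]
    exact Ideal.zero_mem _
  | add x y hx hy =>
    have : act (Equiv.swap i j) (x + y) - (x + y) =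
        (act (Equiv.swap i j) x - x) + (act (Equiv.swap i j) y - y) := by
      rw [map_add]; ring
    rw [this]
    exact Ideal.add_mem _ hx hy

theorem lemE (i j : Fin n) (hij : i ≠ j) (v : RR) (hv : v ∈ dI (k := k) (A := A) i j) :
    act (Equiv.swap i j) v ∈ dI (k := k) (A := A) i j := by
  have := Ideal.add_mem _ (lemD i j hij v) hv
  rwa [sub_add_cancel] at this

theorem lemF (i j : Fin n) (hij : i ≠ j) (v : RR) (hv : v ∈ dI (k := k) (A := A) i j) :
    act (Equiv.swap i j) v + v ∈ (dI (k := k) (A := A) i j) ^ 2 := by
  unfold dI at hv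
  induction hv using Submodule.span_induction with
  | mem v hv =>
    obtain ⟨a, rfl⟩ := hv
    rw [map_sub, act_single, act_single, Equiv.swap_apply_left, Equiv.swap_apply_right]
    have : PiTensorProduct.singleAlgHom (R := k) (A := fun _ : Fin n => A) j a -
        PiTensorProduct.singleAlgHom (R := k) (A := fun _ : Fin n => A) i a +
        (PiTensorProduct.singleAlgHom (R := k) (A := fun _ : Fin n => A) i a -
        PiTensorProduct.singleAlgHom (R := k) (A := fun _ : Fin n => A) j a) = 0 := by ring
    rw [this]
    exact Ideal.zero_mem _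
  | zero => rw [map_zero, add_zero]; exact Ideal.zero_mem _
  | add v w _ _ h1 h2 =>
    have : act (Equiv.swap i j) (v + w) + (v + w) =
        (act (Equiv.swap i j) v + v) + (act (Equiv.swap i j) w + w) := by
      rw [map_add]; ring
    rw [this]
    exact Ideal.add_mem _ h1 h2
  | smul r v hv h1 =>
    have : act (Equiv.swap i j) (r • v) + r • v =
        act (Equiv.swap i j) r * (act (Equiv.swap i j) v + v) -
          (act (Equiv.swap i j) r - r) * v := by
      rw [smul_eq_mul, act_mul]; ring
    rw [this]
    refine Ideal.sub_mem _ (Ideal.mul_mem_left _ _ h1) ?_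
    rw [pow_two]
    exact Ideal.mul_mem_mul (lemD i j hij r) hv

theorem lemG (i j : Fin n) (hij : i ≠ j) (s : ℕ) :
    ∀ y ∈ (dI (k := k) (A := A) i j) ^ s,
      act (Equiv.swap i j) y - (-1 : RR) ^ s * y ∈ (dI (k := k) (A := A) i j) ^ (s + 1) := by
  induction s with
  | zero =>
    intro y _
    rw [pow_zero, one_mul, zero_add, pow_one]
    exact lemD i j hij y
  | succ s ih =>
    intro y hy
    rw [pow_succ] at hy
    refine Submodule.mul_induction_on hy ?_ ?_
    · intro u hu v hv
      have : act (Equiv.swap i j) (u * v) - (-1 : RR) ^ (s + 1) * (u * v) =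
          (act (Equiv.swap i j) u - (-1 : RR) ^ s * u) * act (Equiv.swap i j) v +
            ((-1 : RR) ^ s * u) * (act (Equiv.swap i j) v + v) := by
        rw [act_mul, pow_succ]; ring
      rw [this]
      refine Ideal.add_mem _ ?_ ?_
      · rw [pow_succ _ (s + 1)]
        exact Ideal.mul_mem_mul (ih u hu) (lemE i j hij v hv)
      · rw [show s + 1 + 1 = s + 2 by ring, pow_add]
        exact Ideal.mul_mem_mul (Ideal.mul_mem_left _ _ hu) (lemF i j hij v hv)
    · intro x y hx hy
      have : act (Equiv.swap i j) (x + y) - (-1 : RR) ^ (s + 1) * (x + y) =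
          (act (Equiv.swap i j) x - (-1 : RR) ^ (s + 1) * x) +
            (act (Equiv.swap i j) y - (-1 : RR) ^ (s + 1) * y) := by
        rw [map_add]; ring
      rw [this]
      exact Ideal.add_mem _ hx hy

end Aux


/-- Let k be an algebraically closed field of characteristic zero and A a smooth k-algebra which is a
domain of Krull dimension 2. In the n-fold tensor power R of A over k, indexed by Fin n, let I_p (p
= (i, j), i < j) be the ideal generated by the a_i − a_j, a ∈ A, and let I be the intersection of
the I_p, the ideal of the big diagonal. Assume that for every s ≥ 0 the power I ^ s is the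
intersection of the powers I_p ^ s (a property of the big diagonal of a smooth surface that the
source takes from the literature). Then for m ≥ 1 every element of R fixed by all permutations of
the n factors and lying in I ^ (2m − 1) lies in I ^ (2m): on the symmetric product the invariants of
the odd power and of the next even power of the ideal of the big diagonal coincide. (The source
states the sheaf version for a smooth quasi-projective complex surface, using the displayed property
of the powers without restating it as a hypothesis.) -/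
theorem result (k : Type u) [Field k] [IsAlgClosed k] [CharZero k]
    (A : Type v) [CommRing A] [Algebra k A] [Algebra.Smooth k A] [IsDomain A]
    (hdim : ringKrullDim A = 2) (n : ℕ)
    (I : Fin n × Fin n → Ideal (⨂[k] _ : Fin n, A))
    (hI : ∀ p, I p = Ideal.span (Set.range fun a : A =>
        PiTensorProduct.singleAlgHom (R := k) (A := fun _ : Fin n => A) p.1 a -
        PiTensorProduct.singleAlgHom (R := k) (A := fun _ : Fin n => A) p.2 a))
    (IΔ : Ideal (⨂[k] _ : Fin n, A))
    (hIΔ : IΔ = ⨅ p ∈ Finset.univ.filter (fun p : Fin n × Fin n => p.1 < p.2), I p)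
    (hpow : ∀ s : ℕ, IΔ ^ s = ⨅ p ∈ Finset.univ.filter (fun p : Fin n × Fin n => p.1 < p.2), (I p) ^ s)
    (m : ℕ) (hm : 1 ≤ m) (x : ⨂[k] _ : Fin n, A)
    (hx : ∀ σ : Equiv.Perm (Fin n), PiTensorProduct.reindex k (fun _ : Fin n => A) σ x = x)
    (hmem : x ∈ IΔ ^ (2 * m - 1)) :
    x ∈ IΔ ^ (2 * m) := by
  classical
  rw [hpow (2 * m)]
  rw [hpow (2 * m - 1)] at hmem
  simp only [Submodule.mem_iInf] at hmem ⊢
  intro p hp
  have hlt : p.1 < p.2 := (Finset.mem_filter.mp hp).2
  have hne : p.1 ≠ p.2 := ne_of_lt hlt
  have h1 := hmem p hp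
  rw [hI p] at h1 ⊢
  have h2 := lemG (k := k) (A := A) p.1 p.2 hne (2 * m - 1) x h1
  have h3 : act (Equiv.swap p.1 p.2) x = x := hx (Equiv.swap p.1 p.2)
  have hodd : (-1 : ⨂[k] _ : Fin n, A) ^ (2 * m - 1) = -1 := by
    apply Odd.neg_one_pow
    exact ⟨m - 1, by omega⟩
  rw [h3, hodd, show 2 * m - 1 + 1 = 2 * m by omega] at h2
  have h4 : x - -1 * x = (2 : k) • x := by
    rw [two_smul]; ring
  rw [h4] at h2
  have h5 : x = ((2 : k)⁻¹) • ((2 : k) • x) := by
    rw [smul_smul, inv_mul_cancel₀ (two_ne_zero), one_smul]
  rw [h5]
  exact Submodule.smul_of_tower_mem _ _ h2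

end Groth.Agent.S19218
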