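import Groth.Statements.S19237
import Mathlib
import Groth.Agent.S19235
import Groth.Agent.Helper9.FrobSolve
import Groth.Agent.Helper9.TruncWittLocal
-- import your own Groth.Agent.* helpers here

set_option autoImplicit false
universe u v
open SigmaLin

namespace Groth.Agent.S19237

/-- Let k be an algebraically closed field of characteristic p > 0 and n a natural number; let M be a
finitely generated module over the ring W_n(k) of truncated Witt vectors and T : M → M an additive
map with T (c • m) = σ(c) • T m, where σ is either the Frobenius endomorphism of W_n(k) (induced by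
the p-th power map of k) or its inverse (induced by the inverse of the p-th power map). Then m ↦ T m
− m is surjective on M. (The printed statement takes k perfect and separably closed, which is the
same as algebraically closed.) -/
theorem result
    (p : ℕ) [Fact p.Prime] (k : Type u) [Field k] [CharP k p] [IsAlgClosed k] (n : ℕ)
    (σ : TruncatedWittVector p n k →+* TruncatedWittVector p n k)
    (hσ : σ = WittGrp.truncMap p n (frobenius k p) ∨
      σ = WittGrp.truncMap p n (frobeniusEquiv k p).symm.toRingHom)
    (M : Type v) [AddCommGroup M] [Module (TruncatedWittVector p n k) M] [Module.Finite (TruncatedWittVector p n k) M]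
    (T : M →ₛₗ[σ] M) :
    Function.Surjective (fun m : M => T m - m) := by
  classical
  cases n with
  | zero =>
    -- the ring W_0(k) is trivial, hence so is M
    haveI : Subsingleton (TruncatedWittVector p 0 k) :=
      ⟨fun x y => TruncatedWittVector.ext fun i => i.elim0⟩
    haveI : Subsingleton M := Module.subsingleton (TruncatedWittVector p 0 k) M
    intro y
    exact ⟨0, Subsingleton.elim _ _⟩
  | succ n =>
    have key : ∀ (φ : k →+* k), Function.Surjective φ →
        (∀ (m : ℕ) (b : Fin (m + 1) → k), b ≠ 0 →
          ∃ x : k, x ≠ 0 ∧ x = ∑ i : Fin (m + 1), (⇑φ)^[i.val + 1] x * (⇑φ)^[i.val] (b (Fin.rev i))) →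
        (∀ c : k, ∃ y : k, φ y - y + c = 0) →
        σ = WittGrp.truncMap p (n + 1) φ → Function.Surjective (fun m : M => m - T m) := by
      intro φ hφ h2 h3 hσφ
      refine Groth.Agent.S19235.result p (TruncatedWittVector p (n + 1) k)
        (Groth.Agent.Helper9.TruncWittLocal.maximalIdeal_eq p k n) (n + 1)
        (Groth.Agent.Helper9.TruncWittLocal.natCast_p_pow_eq_zero p k n) σ
        (Groth.Agent.Helper9.FrobSolve.conj (Groth.Agent.Helper9.TruncWittLocal.resEquiv p k n) φ)
        ?_ (Groth.Agent.Helper9.FrobSolve.conj_surjective _ _ hφ)
        (Groth.Agent.Helper9.FrobSolve.h2_conj _ _ h2)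
        (Groth.Agent.Helper9.FrobSolve.h3_conj _ _ h3) M T
      intro r
      rw [Groth.Agent.Helper9.FrobSolve.conj_apply, RingEquiv.symm_apply_eq,
        Groth.Agent.Helper9.TruncWittLocal.resEquiv_residue,
        Groth.Agent.Helper9.TruncWittLocal.resEquiv_residue, hσφ, WittGrp.coeff_truncMap]
    have hsurj : Function.Surjective (fun m : M => m - T m) := by
      rcases hσ with hσ | hσ
      · exact key (frobenius k p) (frobeniusEquiv k p).surjective
          (Groth.Agent.Helper9.FrobSolve.h2_frob p) (Groth.Agent.Helper9.FrobSolve.h3_frob p) hσ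
      · exact key (frobeniusEquiv k p).symm.toRingHom (frobeniusEquiv k p).symm.surjective
          (Groth.Agent.Helper9.FrobRoots.h2_invFrob p) (Groth.Agent.Helper9.FrobRoots.h3_invFrob p) hσ
    intro y
    obtain ⟨u, hu⟩ := hsurj (-y)
    refine ⟨u, ?_⟩
    have : u - T u = -y := hu
    show T u - u = y
    rw [← neg_sub, this, neg_neg]

end Groth.Agent.S19237
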