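import Groth.Statements.S19238
import Mathlib
import Groth.Agent.Helper9.SigmaLocal
import Groth.Agent.Helper9.FrobSolve
import Groth.Agent.Helper9.TruncWittLocal
-- import your own Groth.Agent.* helpers here

set_option autoImplicit false
universe u v
open SigmaLin

namespace Groth.Agent.S19238

/-- Let k be an algebraically closed field of characteristic p > 0 and n a natural number; let M be a
finitely generated module over the ring W_n(k) of truncated Witt vectors and T : M → M an additive
map with T (c • m) = σ(c) • T m, where σ is either the Frobenius endomorphism of W_n(k) or its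
inverse. Then the set of T-fixed elements of M is finite. (The printed statement says that the
T-fixed elements form a finitely generated module over the σ-fixed subring of W_n(k), which is the
finite ring of integers modulo p^n.) -/
theorem result
    (p : ℕ) [Fact p.Prime] (k : Type u) [Field k] [CharP k p] [IsAlgClosed k] (n : ℕ)
    (σ : TruncatedWittVector p n k →+* TruncatedWittVector p n k)
    (hσ : σ = WittGrp.truncMap p n (frobenius k p) ∨
      σ = WittGrp.truncMap p n (frobeniusEquiv k p).symm.toRingHom)
    (M : Type v) [AddCommGroup M] [Module (TruncatedWittVector p n k) M] [Module.Finite (TruncatedWittVector p n k) M]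
    (T : M →ₛₗ[σ] M) :
    {m : M | T m = m}.Finite := by
  classical
  cases n with
  | zero =>
    haveI : Subsingleton (TruncatedWittVector p 0 k) :=
      ⟨fun x y => TruncatedWittVector.ext fun i => i.elim0⟩
    haveI : Subsingleton M := Module.subsingleton (TruncatedWittVector p 0 k) M
    exact Set.toFinite _
  | succ n =>
    have key : ∀ (φ : k →+* k), Function.Surjective φ →
        (∀ (m : ℕ) (b : Fin (m + 1) → k), b ≠ 0 →
          ∃ x : k, x ≠ 0 ∧ x = ∑ i : Fin (m + 1), (⇑φ)^[i.val + 1] x * (⇑φ)^[i.val] (b (Fin.rev i))) →
        (∀ c : k, ∃ y : k, φ y - y + c = 0) → {y : k | φ y = y}.Finite →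
        σ = WittGrp.truncMap p (n + 1) φ → {m : M | T m = m}.Finite := by
      intro φ hφ h2 h3 hfin hσφ
      refine Groth.Agent.Helper9.SigmaLocal.fixed_finite p (TruncatedWittVector p (n + 1) k)
        (Groth.Agent.Helper9.TruncWittLocal.maximalIdeal_eq p k n) σ
        (Groth.Agent.Helper9.FrobSolve.conj (Groth.Agent.Helper9.TruncWittLocal.resEquiv p k n) φ)
        ?_ (Groth.Agent.Helper9.FrobSolve.conj_surjective _ _ hφ)
        (Groth.Agent.Helper9.FrobSolve.h2_conj _ _ h2)
        (Groth.Agent.Helper9.FrobSolve.h3_conj _ _ h3)
        (Groth.Agent.Helper9.FrobSolve.fixed_conj_finite _ _ hfin) (n + 1) M T ?_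
      · intro r
        rw [Groth.Agent.Helper9.FrobSolve.conj_apply, RingEquiv.symm_apply_eq,
          Groth.Agent.Helper9.TruncWittLocal.resEquiv_residue,
          Groth.Agent.Helper9.TruncWittLocal.resEquiv_residue, hσφ, WittGrp.coeff_truncMap]
      · intro m
        rw [Groth.Agent.Helper9.TruncWittLocal.natCast_p_pow_eq_zero p k n, zero_smul]
    rcases hσ with hσ | hσ
    · refine key (frobenius k p) (frobeniusEquiv k p).surjective
        (Groth.Agent.Helper9.FrobSolve.h2_frob p) (Groth.Agent.Helper9.FrobSolve.h3_frob p) ?_ hσ
      exact Groth.Agent.Helper9.FrobSolve.fixed_frob_finite k p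
    · refine key (frobeniusEquiv k p).symm.toRingHom (frobeniusEquiv k p).symm.surjective
        (Groth.Agent.Helper9.FrobRoots.h2_invFrob p) (Groth.Agent.Helper9.FrobRoots.h3_invFrob p) ?_ hσ
      refine (Groth.Agent.Helper9.FrobSolve.fixed_frob_finite k p).subset ?_
      intro y hy
      have hy' : (frobeniusEquiv k p).symm y = y := hy
      rw [RingEquiv.symm_apply_eq, frobeniusEquiv_apply] at hy'
      exact hy'.symm

end Groth.Agent.S19238
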