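import Groth.Statements.S19244
import Mathlib
-- import your own Groth.Agent.* helpers here

set_option autoImplicit false
universe v v' u u'
open HomAlg3

open CategoryTheory CategoryTheory.Limits

namespace Groth.Agent.S19244

open CategoryTheory in
/-- Let A be an abelian category and let P be the class of bounded-torsion objects of A, those X with n
• 𝟙_X = 0 for some nonzero integer n; assume P is a Serre class. Let L : A ⥤ D be an additive
functor to a preadditive category exhibiting D as the localization of A at the morphisms whose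
kernel and cokernel are in P (so D is the quotient category A_ℚ = A ⧸ A_{b-tor}; the source assumes
A well-powered, which guarantees that this quotient exists). Then for all objects X, Y of A: (1) for
every nonzero integer n, multiplication by n is bijective on Hom_D(L X, L Y), so that this group is
naturally a ℚ-vector space; (2) a morphism f : X ⟶ Y satisfies L f = 0 if and only if n • f = 0 for
some nonzero integer n; (3) for every g : L X ⟶ L Y there are a nonzero integer n and f : X ⟶ Y with
n • g = L f. Equivalently, the natural map Hom_A(X, Y) ⊗_ℤ ℚ → Hom_D(L X, L Y) is an isomorphism. -/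
theorem result
    {A : Type u} [Category.{v} A] [Abelian A] {D : Type u'} [Category.{v'} D] [Preadditive D]
    (P : ObjectProperty A) (hP : ∀ X : A, P X ↔ ∃ n : ℤ, n ≠ 0 ∧ n • (𝟙 X) = 0) [P.IsSerreClass]
    (L : A ⥤ D) [L.Additive] [L.IsLocalization P.isoModSerre] (X Y : A) :
    (∀ n : ℤ, n ≠ 0 → Function.Bijective (fun g : L.obj X ⟶ L.obj Y => n • g)) ∧
    (∀ f : X ⟶ Y, L.map f = 0 ↔ ∃ n : ℤ, n ≠ 0 ∧ n • f = 0) ∧
    (∀ g : L.obj X ⟶ L.obj Y, ∃ (n : ℤ) (f : X ⟶ Y), n ≠ 0 ∧ n • g = L.map f) := by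
  have hK : ∀ (Z : A) (n : ℤ), n ≠ 0 → P.isoModSerre (n • 𝟙 Z) := by
    intro Z n hn
    constructor
    · show P (kernel (n • 𝟙 Z))
      rw [hP]
      refine ⟨n, hn, ?_⟩
      rw [← cancel_mono (kernel.ι (n • 𝟙 Z)), zero_comp, Preadditive.zsmul_comp, Category.id_comp]
      have := kernel.condition (n • 𝟙 Z)
      rwa [Preadditive.comp_zsmul, Category.comp_id] at this
    · show P (cokernel (n • 𝟙 Z))
      rw [hP]
      refine ⟨n, hn, ?_⟩
      rw [← cancel_epi (cokernel.π (n • 𝟙 Z)), comp_zero, Preadditive.comp_zsmul, Category.comp_id]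
      have := cokernel.condition (n • 𝟙 Z)
      rwa [Preadditive.zsmul_comp, Category.id_comp] at this
  have hiso : ∀ (Z : A) (n : ℤ), n ≠ 0 → IsIso (n • 𝟙 (L.obj Z)) := by
    intro Z n hn
    have := Localization.inverts L P.isoModSerre _ (hK Z n hn)
    rwa [L.map_zsmul, L.map_id] at this
  refine ⟨?_, ?_, ?_⟩
  · intro n hn
    haveI := hiso Y n hn
    have e : (fun g : L.obj X ⟶ L.obj Y => n • g) = fun g => g ≫ (n • 𝟙 (L.obj Y)) := by
      funext g; rw [Preadditive.comp_zsmul, Category.comp_id]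
    rw [e]
    refine ⟨fun g₁ g₂ h => (cancel_mono (n • 𝟙 (L.obj Y))).mp h,
      fun g => ⟨g ≫ inv (n • 𝟙 (L.obj Y)), by
        show (g ≫ inv (n • 𝟙 (L.obj Y))) ≫ (n • 𝟙 (L.obj Y)) = g
        rw [Category.assoc, IsIso.inv_hom_id, Category.comp_id]⟩⟩
  · intro f
    rw [← L.map_zero, MorphismProperty.map_eq_iff_postcomp L P.isoModSerre]
    constructor
    · rintro ⟨Z, s, hs, h⟩
      rw [zero_comp] at h
      have h1 := (P.exists_comp_isoModSerre_eq_zero_iff f).mp ⟨Z, s, hs, h⟩
      rw [hP] at h1
      obtain ⟨n, hn, h0⟩ := h1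
      refine ⟨n, hn, ?_⟩
      rw [← Abelian.image.fac f, ← Category.id_comp (Abelian.image.ι f), ← Preadditive.comp_zsmul,
        ← Preadditive.zsmul_comp, h0, zero_comp, comp_zero]
    · rintro ⟨n, hn, h0⟩
      have h1 : P (Abelian.image f) := by
        rw [hP]; refine ⟨n, hn, ?_⟩
        rw [← cancel_mono (Abelian.image.ι f), ← cancel_epi (Abelian.factorThruImage f),
          zero_comp, comp_zero, Preadditive.zsmul_comp, Category.id_comp, Preadditive.comp_zsmul,
          Abelian.image.fac]
        exact h0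
      obtain ⟨Z, s, hs, h⟩ := (P.exists_comp_isoModSerre_eq_zero_iff f).mpr h1
      exact ⟨Z, s, hs, by rw [h, zero_comp]⟩
  · intro g
    obtain ⟨φ, rfl⟩ := Localization.exists_leftFraction L P.isoModSerre g
    obtain ⟨a, ha, hka⟩ := (hP _).mp φ.hs.1
    obtain ⟨b, hb, hcb⟩ := (hP _).mp φ.hs.2
    -- u : Y' ⟶ image s
    have hu : (b • 𝟙 φ.Y') ≫ cokernel.π φ.s = 0 := by
      rw [Preadditive.zsmul_comp, Category.id_comp, ← Category.comp_id (cokernel.π φ.s),
        ← Preadditive.comp_zsmul, hcb, comp_zero]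
    let u : φ.Y' ⟶ Abelian.image φ.s := kernel.lift (cokernel.π φ.s) (b • 𝟙 φ.Y') hu
    have huι : u ≫ Abelian.image.ι φ.s = b • 𝟙 φ.Y' := kernel.lift_ι _ _ _
    -- v : coimage s ⟶ Y
    have hv : kernel.ι φ.s ≫ (a • 𝟙 Y) = 0 := by
      rw [Preadditive.comp_zsmul, Category.comp_id, ← Category.id_comp (kernel.ι φ.s),
        ← Preadditive.zsmul_comp, hka, zero_comp]
    let v : Abelian.coimage φ.s ⟶ Y := cokernel.desc (kernel.ι φ.s) (a • 𝟙 Y) hv
    have hπv : Abelian.coimage.π φ.s ≫ v = a • 𝟙 Y := cokernel.π_desc _ _ _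
    have hvπ : v ≫ Abelian.coimage.π φ.s = a • 𝟙 (Abelian.coimage φ.s) := by
      rw [← cancel_epi (Abelian.coimage.π φ.s), ← Category.assoc, hπv, Preadditive.zsmul_comp,
        Category.id_comp, Preadditive.comp_zsmul, Category.comp_id]
    let t : φ.Y' ⟶ Y := u ≫ inv (Abelian.coimageImageComparison φ.s) ≫ v
    have hts : t ≫ φ.s = (a * b) • 𝟙 φ.Y' := by
      have hs := Abelian.coimage_image_factorisation φ.s
      calc t ≫ φ.s = u ≫ inv (Abelian.coimageImageComparison φ.s) ≫ (v ≫ Abelian.coimage.π φ.s) ≫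
            Abelian.coimageImageComparison φ.s ≫ Abelian.image.ι φ.s := by
            conv_lhs => rw [← hs]
            simp only [t, Category.assoc]
        _ = (a * b) • 𝟙 φ.Y' := by
            rw [hvπ]
            simp only [Preadditive.zsmul_comp, Preadditive.comp_zsmul, Category.id_comp,
              IsIso.inv_hom_id_assoc, huι]
            rw [mul_smul]
    refine ⟨a * b, φ.f ≫ t, mul_ne_zero ha hb, ?_⟩
    haveI : IsIso (L.map φ.s) := Localization.inverts L P.isoModSerre _ φ.hs
    rw [← cancel_mono (L.map φ.s), Preadditive.zsmul_comp,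
      MorphismProperty.LeftFraction.map_comp_map_s, ← L.map_comp, Category.assoc, hts,
      Preadditive.comp_zsmul, Category.comp_id, L.map_zsmul]

end Groth.Agent.S19244
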