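import Groth.Statements.S19245
import Mathlib
import Groth.Agent.Helper9.GammaZSect
-- import your own Groth.Agent.* helpers here

set_option autoImplicit false
universe u
open LocCohZ

namespace Groth.Agent.S19245

open CategoryTheory TopologicalSpace in
/-- Let A be a flasque abelian sheaf on a topological space X and Z = X ∖ U the closed complement of an
open U. Then the sheaf Γ_Z(A) of sections of A supported in Z is flasque. (The source states the
lemma for every family of supports Φ on a Noetherian topological space, where Γ_Φ(A) is the filtered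
union of the Γ_Z(A), Z ∈ Φ; for a single closed Z no Noetherian hypothesis is needed.) -/
theorem result {X : TopCat.{u}} (A : CohTop.Ab X) [TopCat.Sheaf.IsFlasque A]
    (U : Opens X) : TopCat.Sheaf.IsFlasque ((LocCohZ.sectSuppF U).obj A) := by
  classical
  constructor
  intro Vo Vo' i
  obtain ⟨V⟩ := Vo
  obtain ⟨V'⟩ := Vo'
  have hle : V' ≤ V := leOfHom i.unop
  have hi : i = (homOfLE hle).op := Subsingleton.elim _ _
  subst hi
  rw [AddCommGrpCat.epi_iff_surjective]
  intro t'
  -- the section of `A` over `V'`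
  set s' := Groth.Agent.Helper9.GammaZSect.ιs U A V' t' with hs'
  -- glue `s'` on `V'` with `0` on `V ⊓ U`
  let Ufam : ULift.{u} Bool → Opens X := fun b => if b.down then V' else V ⊓ U
  let W : Opens X := V' ⊔ (V ⊓ U)
  have hWV : W ≤ V := sup_le hle inf_le_left
  let sf : ∀ b : ULift.{u} Bool, ToType (A.obj.obj (Opposite.op (Ufam b))) := fun b =>
    match b with
    | ⟨true⟩ => s'
    | ⟨false⟩ => 0
  have hzero : ∀ (T : Opens X) (hT : T ≤ V') (hTU : T ≤ U),
      A.obj.map (homOfLE hT).op s' = 0 := fun T hT hTU =>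
    Groth.Agent.Helper9.GammaZSect.ιs_res_eq_zero U A hT hTU t'
  have hcompat : TopCat.Presheaf.IsCompatible A.obj Ufam sf := by
    rintro ⟨b⟩ ⟨b'⟩
    cases b <;> cases b'
    · rfl
    · show A.obj.map _ (0 : ToType (A.obj.obj (Opposite.op (V ⊓ U)))) = A.obj.map _ s'
      rw [map_zero]
      exact (hzero _ _ (inf_le_left.trans inf_le_right)).symm
    · show A.obj.map _ s' = A.obj.map _ (0 : ToType (A.obj.obj (Opposite.op (V ⊓ U))))
      rw [map_zero]
      exact hzero _ _ (inf_le_right.trans inf_le_right)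
    · rfl
  obtain ⟨g, hg, -⟩ := TopCat.Sheaf.existsUnique_gluing' A Ufam W
    (fun b => homOfLE (by
      obtain ⟨b⟩ := b
      cases b
      · exact le_sup_right
      · exact le_sup_left))
    (by
      refine sup_le ?_ ?_
      · exact le_iSup Ufam ⟨true⟩
      · exact le_iSup Ufam ⟨false⟩) sf hcompat
  -- extend to `V` by flasqueness
  have hepi : Epi (A.obj.map (homOfLE hWV).op) := TopCat.Presheaf.IsFlasque.epi _
  rw [AddCommGrpCat.epi_iff_surjective] at hepi
  obtain ⟨s, hs⟩ := hepi g
  -- `s` vanishes on `V ⊓ U`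
  have hsU : A.obj.map (homOfLE (inf_le_left : V ⊓ U ≤ V)).op s = 0 := by
    have h1 := hg ⟨false⟩
    have h2 : A.obj.map (homOfLE (le_sup_right : V ⊓ U ≤ W)).op g = 0 := h1
    rw [← hs, ← ConcreteCategory.comp_apply, ← A.obj.map_comp] at h2
    exact h2
  obtain ⟨t, ht⟩ := Groth.Agent.Helper9.GammaZSect.exists_lift U A V s hsU
  refine ⟨t, ?_⟩
  apply Groth.Agent.Helper9.GammaZSect.ιs_injective U A V'
  rw [Groth.Agent.Helper9.GammaZSect.ιs_res, ht]
  have h1 := hg ⟨true⟩
  have h2 : A.obj.map (homOfLE (le_sup_left : V' ≤ W)).op g = s' := h1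
  rw [← hs, ← ConcreteCategory.comp_apply, ← A.obj.map_comp] at h2
  exact h2

end Groth.Agent.S19245
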