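import Groth.Statements.S19263
import Groth.Agent.Helper9.WittFilAux
-- import your own Groth.Agent.* helpers here

set_option autoImplicit false
universe u
open WittFil

namespace Groth.Agent.S19263

/-- Let A be a unique factorisation domain of characteristic p, x_1, …, x_r pairwise non-associate prime
elements of A, B the localisation A[1/(x_1⋯x_r)] with u_i the unit of B defined by x_i, n ∈ ℤ^r and
m ≥ 0. The filtered piece of the length-m truncated p-typical Witt vectors of B cut out by c = ∏ u_i
^ n_i, namely the set of vectors whose j-th coordinate y_j satisfies y_j ^ (p ^ (m-1-j)) · c ∈ A for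
every j < m, is closed under subtraction (so it is an additive subgroup). (The published setting is
a regular local ring A and the prime elements cutting out the components of a divisor; the argument
uses only unique factorisation.) -/
theorem result (p : ℕ) [Fact p.Prime] {A B : Type u} [CommRing A] [IsDomain A]
    [UniqueFactorizationMonoid A] [CharP A p] [CommRing B] [Algebra A B] {r : ℕ} (x : Fin r → A)
    (hx : ∀ i, Prime (x i)) (hxa : ∀ i j, Associated (x i) (x j) → i = j)
    [IsLocalization.Away (∏ i, x i) B] (u : Fin r → Bˣ)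
    (hu : ∀ i, (u i : B) = algebraMap A B (x i)) (n : Fin r → ℤ) (m : ℕ)
    (a b : TruncatedWittVector p m B) (ha : a ∈ WittFil.fil p m (A := A) (WittFil.zmon u n))
    (hb : b ∈ WittFil.fil p m (A := A) (WittFil.zmon u n)) :
    a - b ∈ WittFil.fil p m (A := A) (WittFil.zmon u n) := by
  classical
  have hπ : (∏ i, x i) ≠ 0 := Finset.prod_ne_zero_iff.mpr fun i _ => (hx i).ne_zero
  have hinj : Function.Injective (algebraMap A B) :=
    IsLocalization.injective B (powers_le_nonZeroDivisors_of_noZeroDivisors hπ)
  haveI : CharP B p := charP_of_injective_algebraMap hinj p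
  have hroot : ∀ (z : B) (N : ℕ), N ≠ 0 → z ^ N ∈ (algebraMap A B).range →
      z ∈ (algebraMap A B).range := fun z N hN hz =>
    Groth.Agent.Helper9.mem_range_of_pow_mem_range (∏ i, x i) hπ z N hN hz
  set c : B := WittFil.zmon u n with hc
  let E : Multiplicative ℕ →* B := powersHom B c
  have hE : ∀ t : ℕ, E (Multiplicative.ofAdd t) = c ^ t := fun t => by
    simp [E, powersHom]
  -- homogeneity of the subtraction polynomials
  have hΦ : ∀ k, MvPolynomial.IsWeightedHomogeneous (fun i : Fin 2 × ℕ => p ^ i.2)
      (wittStructureInt p (MvPolynomial.X (0 : Fin 2) - MvPolynomial.X 1) k) (p ^ k • 1) := by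
    intro k
    apply Groth.Agent.Helper9.wittStructureInt_isWeightedHomogeneous'
    intro l
    rw [map_sub, MvPolynomial.bind₁_X_right, MvPolynomial.bind₁_X_right]
    exact (Groth.Agent.Helper9.rename_wittPolynomial_isWeightedHomogeneous' p _ 0 1
      (fun i => by simp) l).sub
      (Groth.Agent.Helper9.rename_wittPolynomial_isWeightedHomogeneous' p _ 1 1
      (fun i => by simp) l)
  -- lifts
  have hout : ∀ (z : TruncatedWittVector p m B) (i : ℕ),
      z.out.coeff i = if h : i < m then z.coeff ⟨i, h⟩ else 0 := fun z i => rfl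
  have hmem : ∀ z : TruncatedWittVector p m B, z ∈ WittFil.fil p m (A := A) c →
      ∀ i, z.out.coeff i ∈ Groth.Agent.Helper9.filSub (A := A) p E (m - 1) (p ^ i) := by
    intro z hz i
    rw [Groth.Agent.Helper9.mem_filSub, hE, hout]
    by_cases hi : i < m
    · rw [dif_pos hi]
      have h := hz ⟨i, hi⟩
      have e : z.coeff ⟨i, hi⟩ ^ p ^ (m - 1) * c ^ p ^ i =
          (z.coeff ⟨i, hi⟩ ^ p ^ (m - 1 - i) * c) ^ p ^ i := by
        rw [mul_pow, ← pow_mul, ← pow_add]
        congr 3
        omega
      rw [e]
      exact pow_mem h _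
    · rw [dif_neg hi, zero_pow (pow_ne_zero _ (Fact.out : p.Prime).ne_zero), zero_mul]
      exact zero_mem _
  intro j
  have hab : a - b = WittVector.truncate m (a.out - b.out) := by
    rw [map_sub]
    congr 1
    · exact (TruncatedWittVector.truncateFun_out a).symm
    · exact (TruncatedWittVector.truncateFun_out b).symm
  have key := Groth.Agent.Helper9.peval_wittStructureInt_mem (A := A) p hroot
    (MvPolynomial.X (0 : Fin 2) - MvPolynomial.X 1) (fun i : Fin 2 × ℕ => p ^ i.2) 1 hΦ E m
    a.out b.out (hmem a ha) (hmem b hb) (j : ℕ) j.2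
  rw [hE, pow_one] at key
  rw [hab, WittVector.coeff_truncate, WittVector.sub_coeff]
  exact key

end Groth.Agent.S19263
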