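import Groth.Statements.S19264
import Groth.Agent.Helper9.WittFilUFD
-- import your own Groth.Agent.* helpers here

set_option autoImplicit false
universe u
open WittFil

namespace Groth.Agent.S19264

/-- Let A be a unique factorisation domain of characteristic p, x_1, …, x_r pairwise non-associate prime
elements of A, B = A[1/(x_1⋯x_r)] with u_i the unit of B defined by x_i, n ∈ ℤ^r and m ≥ 0. The
restriction map from truncated p-typical Witt vectors of length m+1 to those of length m over B
(forgetting the last coordinate) maps the filtered piece cut out by ∏ u_i ^ n_i onto the filtered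
piece cut out by ∏ u_i ^ ⌊n_i / p⌋; that is, the image is exactly that piece. (The other parts of
the exact sequence, injectivity of the (m-fold) Verschiebung from the fractional ideal generated by
(∏ u_i ^ n_i)⁻¹ and exactness in the middle, are immediate from the definition and are not restated.
The published setting is a regular local ring; only unique factorisation is used.) -/
theorem result (p : ℕ) [Fact p.Prime] {A B : Type u} [CommRing A] [IsDomain A]
    [UniqueFactorizationMonoid A] [CharP A p] [CommRing B] [Algebra A B] {r : ℕ} (x : Fin r → A)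
    (hx : ∀ i, Prime (x i)) (hxa : ∀ i j, Associated (x i) (x j) → i = j)
    [IsLocalization.Away (∏ i, x i) B] (u : Fin r → Bˣ)
    (hu : ∀ i, (u i : B) = algebraMap A B (x i)) (n : Fin r → ℤ) (m : ℕ) :
    (TruncatedWittVector.truncate (Nat.le_succ m)) '' WittFil.fil p (m + 1) (A := A) (WittFil.zmon u n) =
      WittFil.fil p m (A := A) (WittFil.zmon u (fun i => n i / (p : ℤ))) := by
  classical
  have hp : p.Prime := Fact.out
  have hp0 : (0 : ℤ) < (p : ℤ) := by exact_mod_cast hp.pos
  let q : Fin r → ℤ := fun i => n i / (p : ℤ)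
  let e : Fin r → ℕ := fun i => (n i % (p : ℤ)).toNat
  have he : ∀ i, e i < p := fun i => by
    have h1 := Int.emod_nonneg (n i) hp0.ne'
    have h2 := Int.emod_lt_of_pos (n i) hp0
    show (n i % (p : ℤ)).toNat < p
    omega
  have hnq : n = (fun i => (p : ℤ) * q i) + (fun i => (e i : ℤ)) := by
    funext i
    have h1 := Int.emod_nonneg (n i) hp0.ne'
    show n i = (p : ℤ) * (n i / (p : ℤ)) + ((n i % (p : ℤ)).toNat : ℤ)
    rw [Int.toNat_of_nonneg h1]
    exact (Int.mul_ediv_add_emod (n i) p).symm
  have hc : WittFil.zmon u n = WittFil.zmon u q ^ p * algebraMap A B (∏ i, x i ^ e i) := by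
    rw [← Groth.Agent.Helper9.zmon_natCast u x hu e, Groth.Agent.Helper9.zmon_pow,
      ← Groth.Agent.Helper9.zmon_add, ← hnq]
  show _ = WittFil.fil p m (A := A) (WittFil.zmon u q)
  ext b
  constructor
  · rintro ⟨a, ha, rfl⟩
    intro j
    rw [TruncatedWittVector.coeff_truncate]
    have h := ha (Fin.castLE (Nat.le_succ m) j)
    rw [Fin.val_castLE] at h
    apply Groth.Agent.Helper9.mem_range_of_pow_mul_prod_mem_range x hx hxa _ p e he hp.ne_zero
    have e1 : m + 1 - 1 - (j : ℕ) = (m - 1 - (j : ℕ)) + 1 := by have := j.2; omega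
    rw [e1, pow_succ, pow_mul, hc] at h
    rw [mul_pow, mul_assoc]
    exact h
  · intro hb
    refine ⟨TruncatedWittVector.mk p
      (fun i : Fin (m + 1) => if h : (i : ℕ) < m then b.coeff ⟨i, h⟩ else 0), ?_, ?_⟩
    · intro j
      rw [TruncatedWittVector.coeff_mk]
      by_cases hj : (j : ℕ) < m
      · rw [dif_pos hj]
        have h := hb ⟨j, hj⟩
        have e1 : m + 1 - 1 - (j : ℕ) = (m - 1 - (j : ℕ)) + 1 := by omega
        rw [e1, pow_succ, pow_mul, hc, ← mul_assoc, ← mul_pow]
        exact mul_mem (pow_mem h p) ⟨_, rfl⟩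
      · rw [dif_neg hj, zero_pow (pow_ne_zero _ hp.ne_zero), zero_mul]
        exact zero_mem _
    · ext j
      rw [TruncatedWittVector.coeff_truncate, TruncatedWittVector.coeff_mk, dif_pos (by simp)]
      rfl

end Groth.Agent.S19264
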