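import Groth.Statements.S19265
import Groth.Agent.Helper9.WittFilAux
-- import your own Groth.Agent.* helpers here

set_option autoImplicit false
universe u
open WittFil

namespace Groth.Agent.S19265

/-- Let A be a unique factorisation domain of characteristic p, x_1, …, x_r pairwise non-associate prime
elements of A, B = A[1/(x_1⋯x_r)] with u_i the unit of B defined by x_i, n, n' ∈ ℤ^r and m ≥ 0. If a
truncated p-typical Witt vector a of length m over B lies in the filtered piece cut out by ∏ u_i ^
n_i and b lies in the piece cut out by ∏ u_i ^ n'_i, then the product a · b lies in the piece cut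
out by ∏ u_i ^ (n_i + n'_i). In particular (n' = 0) each filtered piece is a module over the
truncated Witt vectors of A. (The published statement also asserts the analogous inclusion for sums,
which holds only when both multi-indices are non-negative and is then immediate from monotonicity;
the published setting is a regular local ring, and only unique factorisation is used.) -/
theorem result (p : ℕ) [Fact p.Prime] {A B : Type u} [CommRing A] [IsDomain A]
    [UniqueFactorizationMonoid A] [CharP A p] [CommRing B] [Algebra A B] {r : ℕ} (x : Fin r → A)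
    (hx : ∀ i, Prime (x i)) (hxa : ∀ i j, Associated (x i) (x j) → i = j)
    [IsLocalization.Away (∏ i, x i) B] (u : Fin r → Bˣ)
    (hu : ∀ i, (u i : B) = algebraMap A B (x i)) (n n' : Fin r → ℤ) (m : ℕ)
    (a b : TruncatedWittVector p m B) (ha : a ∈ WittFil.fil p m (A := A) (WittFil.zmon u n))
    (hb : b ∈ WittFil.fil p m (A := A) (WittFil.zmon u n')) :
    a * b ∈ WittFil.fil p m (A := A) (WittFil.zmon u (n + n')) := by
  classical
  have hπ : (∏ i, x i) ≠ 0 := Finset.prod_ne_zero_iff.mpr fun i _ => (hx i).ne_zero
  have hinj : Function.Injective (algebraMap A B) :=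
    IsLocalization.injective B (powers_le_nonZeroDivisors_of_noZeroDivisors hπ)
  haveI : CharP B p := charP_of_injective_algebraMap hinj p
  have hroot : ∀ (z : B) (N : ℕ), N ≠ 0 → z ^ N ∈ (algebraMap A B).range →
      z ∈ (algebraMap A B).range := fun z N hN hz =>
    Groth.Agent.Helper9.mem_range_of_pow_mem_range (∏ i, x i) hπ z N hN hz
  set c : B := WittFil.zmon u n with hc
  set c' : B := WittFil.zmon u n' with hc'
  have hcc : WittFil.zmon u (n + n') = c * c' := by
    simp only [hc, hc', WittFil.zmon, Pi.add_apply, zpow_add, Finset.prod_mul_distrib,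
      Units.val_mul]
  let E : Multiplicative (ℕ × ℕ) →* B :=
    { toFun := fun st => c ^ (Multiplicative.toAdd st).1 * c' ^ (Multiplicative.toAdd st).2
      map_one' := by simp
      map_mul' := by
        intro s t
        simp only [toAdd_mul, Prod.fst_add, Prod.snd_add, pow_add]
        ring }
  have hE : ∀ s t : ℕ, E (Multiplicative.ofAdd (s, t)) = c ^ s * c' ^ t := fun s t => rfl
  let cvec : Fin 2 → ℕ × ℕ := ![(1, 0), (0, 1)]
  -- homogeneity of the multiplication polynomials
  have hΦ : ∀ k, MvPolynomial.IsWeightedHomogeneous (fun i : Fin 2 × ℕ => p ^ i.2 • cvec i.1)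
      (wittStructureInt p (MvPolynomial.X (0 : Fin 2) * MvPolynomial.X 1) k)
      (p ^ k • ((1, 1) : ℕ × ℕ)) := by
    intro k
    apply Groth.Agent.Helper9.wittStructureInt_isWeightedHomogeneous'
    intro l
    rw [map_mul, MvPolynomial.bind₁_X_right, MvPolynomial.bind₁_X_right]
    have h0 := Groth.Agent.Helper9.rename_wittPolynomial_isWeightedHomogeneous' p
      (fun i : Fin 2 × ℕ => p ^ i.2 • cvec i.1) 0 ((1, 0) : ℕ × ℕ) (fun i => by simp [cvec]) l
    have h1 := Groth.Agent.Helper9.rename_wittPolynomial_isWeightedHomogeneous' p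
      (fun i : Fin 2 × ℕ => p ^ i.2 • cvec i.1) 1 ((0, 1) : ℕ × ℕ) (fun i => by simp [cvec]) l
    have h := h0.mul h1
    rw [← smul_add] at h
    exact h
  -- lifts
  have hout : ∀ (z : TruncatedWittVector p m B) (i : ℕ),
      z.out.coeff i = if h : i < m then z.coeff ⟨i, h⟩ else 0 := fun z i => rfl
  have hpw : ∀ (z e : B) (i : ℕ), i < m → z ^ p ^ (m - 1) * e ^ p ^ i =
      (z ^ p ^ (m - 1 - i) * e) ^ p ^ i := by
    intro z e i hi
    rw [mul_pow, ← pow_mul, ← pow_add]
    congr 3
    omega
  have hmema : ∀ i, a.out.coeff i ∈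
      Groth.Agent.Helper9.filSub (A := A) p E (m - 1) (p ^ i • cvec 0) := by
    intro i
    have e0 : p ^ i • cvec 0 = (p ^ i, 0) := by simp [cvec]
    rw [Groth.Agent.Helper9.mem_filSub, e0, hE, pow_zero, mul_one, hout]
    by_cases hi : i < m
    · rw [dif_pos hi, hpw _ _ _ hi]
      exact pow_mem (ha ⟨i, hi⟩) _
    · rw [dif_neg hi, zero_pow (pow_ne_zero _ (Fact.out : p.Prime).ne_zero), zero_mul]
      exact zero_mem _
  have hmemb : ∀ i, b.out.coeff i ∈
      Groth.Agent.Helper9.filSub (A := A) p E (m - 1) (p ^ i • cvec 1) := by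
    intro i
    have e0 : p ^ i • cvec 1 = (0, p ^ i) := by simp [cvec]
    rw [Groth.Agent.Helper9.mem_filSub, e0, hE, pow_zero, one_mul, hout]
    by_cases hi : i < m
    · rw [dif_pos hi, hpw _ _ _ hi]
      exact pow_mem (hb ⟨i, hi⟩) _
    · rw [dif_neg hi, zero_pow (pow_ne_zero _ (Fact.out : p.Prime).ne_zero), zero_mul]
      exact zero_mem _
  intro j
  have hab : a * b = WittVector.truncate m (a.out * b.out) := by
    rw [map_mul]
    congr 1
    · exact (TruncatedWittVector.truncateFun_out a).symm
    · exact (TruncatedWittVector.truncateFun_out b).symm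
  have key := Groth.Agent.Helper9.peval_wittStructureInt_mem (A := A) p hroot
    (MvPolynomial.X (0 : Fin 2) * MvPolynomial.X 1) (fun i : Fin 2 × ℕ => p ^ i.2 • cvec i.1)
    ((1, 1) : ℕ × ℕ) hΦ E m a.out b.out hmema hmemb (j : ℕ) j.2
  rw [hE, pow_one, pow_one] at key
  rw [hab, WittVector.coeff_truncate, WittVector.mul_coeff, hcc]
  exact key

end Groth.Agent.S19265
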