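import Groth.Statements.S19267
import Groth.Agent.Helper9.WittTeich
-- import your own Groth.Agent.* helpers here

set_option autoImplicit false
universe u
open WittFil

namespace Groth.Agent.S19267

/-- Let A → B be a homomorphism of commutative rings, u a unit of B, m ≥ 0 and n, l integers. For an
element c of B call the filtered piece cut out by c the set of truncated p-typical Witt vectors of
length m over B whose j-th coordinate y_j satisfies: y_j ^ (p ^ (m-1-j)) · c lies in the image of A,
for every j < m. Then the piece cut out by u ^ (n − p^(m−1)·l) is exactly the image of the piece cut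
out by u ^ n under multiplication by the truncated Teichmüller representative [u ^ l]. (The
published case is B = S[[π]][1/π] over A = S[[π]] with u = π; the computation is the same in
general.) -/
theorem result (p : ℕ) [Fact p.Prime] {A B : Type u}
    [CommRing A] [CommRing B] [Algebra A B] (m : ℕ) (u : Bˣ) (n l : ℤ) :
    WittFil.fil p m (A := A) ((u ^ (n - (p : ℤ) ^ (m - 1) * l) : Bˣ) : B) =
      (fun a => WittVector.truncate m (WittVector.teichmuller p ((u ^ l : Bˣ) : B)) * a) ''
        WittFil.fil p m (A := A) ((u ^ n : Bˣ) : B) := by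
  classical
  -- coefficient formula in truncated Witt vectors
  have hcoeff : ∀ (t : B) (a : TruncatedWittVector p m B) (j : Fin m),
      TruncatedWittVector.coeff j (WittVector.truncate m (WittVector.teichmuller p t) * a) =
        t ^ p ^ (j : ℕ) * TruncatedWittVector.coeff j a := by
    intro t a j
    obtain ⟨x, rfl⟩ := WittVector.truncate_surjective p m B a
    rw [← map_mul, WittVector.coeff_truncate, WittVector.coeff_truncate,
      Groth.Agent.Helper9.teichmuller_mul_coeff]
  -- the forward inclusion, for all exponents
  have hfwd : ∀ (n l : ℤ) (a : TruncatedWittVector p m B),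
      a ∈ WittFil.fil p m (A := A) ((u ^ n : Bˣ) : B) →
      WittVector.truncate m (WittVector.teichmuller p ((u ^ l : Bˣ) : B)) * a ∈
        WittFil.fil p m (A := A) ((u ^ (n - (p : ℤ) ^ (m - 1) * l) : Bˣ) : B) := by
    intro n l a ha j
    have hj := ha j
    rw [hcoeff, mul_pow, ← pow_mul]
    have e1 : p ^ (j : ℕ) * p ^ (m - 1 - (j : ℕ)) = p ^ (m - 1) := by
      rw [← pow_add]; congr 1; have := j.2; omega
    rw [e1]
    have hU : (u ^ l) ^ (p ^ (m - 1)) * u ^ (n - (p : ℤ) ^ (m - 1) * l) = u ^ n := by
      rw [← zpow_natCast, ← zpow_mul, ← zpow_add]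
      congr 1
      push_cast
      ring
    have hU' := congrArg Units.val hU
    rw [Units.val_mul, Units.val_pow_eq_pow_val] at hU'
    have e2 : ((u ^ l : Bˣ) : B) ^ p ^ (m - 1) *
        TruncatedWittVector.coeff j a ^ p ^ (m - 1 - (j : ℕ)) *
        ((u ^ (n - (p : ℤ) ^ (m - 1) * l) : Bˣ) : B) =
        TruncatedWittVector.coeff j a ^ p ^ (m - 1 - (j : ℕ)) * ((u ^ n : Bˣ) : B) := by
      rw [← hU']; ring
    rw [e2]
    exact hj
  ext b
  constructor
  · intro hb
    refine ⟨WittVector.truncate m (WittVector.teichmuller p ((u ^ (-l) : Bˣ) : B)) * b, ?_, ?_⟩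
    · have := hfwd (n - (p : ℤ) ^ (m - 1) * l) (-l) b hb
      have e : n - (p : ℤ) ^ (m - 1) * l - (p : ℤ) ^ (m - 1) * -l = n := by ring
      rw [e] at this
      exact this
    · show WittVector.truncate m (WittVector.teichmuller p ((u ^ l : Bˣ) : B)) *
        (WittVector.truncate m (WittVector.teichmuller p ((u ^ (-l) : Bˣ) : B)) * b) = b
      rw [← mul_assoc, ← map_mul, ← map_mul, ← Units.val_mul, ← zpow_add, add_neg_cancel,
        zpow_zero, Units.val_one, map_one, map_one, one_mul]
  · rintro ⟨a, ha, rfl⟩
    exact hfwd n l a ha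

end Groth.Agent.S19267
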