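import Groth.Statements.S19272
import Groth.Agent.Helper9.WittFilUFD
-- import your own Groth.Agent.* helpers here

set_option autoImplicit false
universe u
open WittFil

namespace Groth.Agent.S19272

/-- Let A be a unique factorisation domain of characteristic p, x_1, …, x_r pairwise non-associate prime
elements of A, B = A[1/(x_1⋯x_r)] with u_i the unit of B defined by x_i, m ≥ 0, and n ∈ ℤ^r with n_i
< 0 for every i. Then every truncated p-typical Witt vector of length m over B lying in the filtered
piece cut out by ∏ u_i ^ n_i (every coordinate y_j has y_j ^ (p ^ (m−1−j)) · ∏ u_i ^ n_i in the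
image of A) has all its coordinates in the image of the ideal (x_1⋯x_r)·A. (The published item,
stated for the filtered de Rham–Witt pieces in all degrees over a regular local ring, says only that
such vectors have all coordinates in A; this row states the divisibility of every coordinate by
x_1⋯x_r that its proof establishes, in degree zero, for a unique factorisation domain in place of a
regular local ring.) -/
theorem result (p : ℕ) [Fact p.Prime] {A B : Type u} [CommRing A] [IsDomain A]
    [UniqueFactorizationMonoid A] [CharP A p] [CommRing B] [Algebra A B] {r : ℕ} (x : Fin r → A)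
    (hx : ∀ i, Prime (x i)) (hxa : ∀ i j, Associated (x i) (x j) → i = j)
    [IsLocalization.Away (∏ i, x i) B] (u : Fin r → Bˣ)
    (hu : ∀ i, (u i : B) = algebraMap A B (x i)) (m : ℕ) (n : Fin r → ℤ) (hn : ∀ i, n i < 0)
    (a : TruncatedWittVector p m B) (ha : a ∈ WittFil.fil p m (A := A) (WittFil.zmon u n))
    (j : Fin m) :
    ∃ b : A, TruncatedWittVector.coeff j a = algebraMap A B ((∏ i, x i) * b) := by
  classical
  have hπ : (∏ i, x i) ≠ 0 := Finset.prod_ne_zero_iff.mpr fun i _ => (hx i).ne_zero
  have hinj : Function.Injective (algebraMap A B) :=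
    IsLocalization.injective B (powers_le_nonZeroDivisors_of_noZeroDivisors hπ)
  set N : ℕ := p ^ (m - 1 - (j : ℕ)) with hN
  have hN0 : N ≠ 0 := pow_ne_zero _ (Fact.out : p.Prime).ne_zero
  set y : B := TruncatedWittVector.coeff j a with hy
  obtain ⟨α, hα⟩ := ha j
  -- k_i = -n_i ≥ 1
  let k : Fin r → ℕ := fun i => (-(n i)).toNat
  have hk : ∀ i, 1 ≤ k i := fun i => by
    have := hn i
    show 1 ≤ (-(n i)).toNat
    omega
  have hnk : n + (fun i => (k i : ℤ)) = 0 := by
    funext i
    have := hn i
    show n i + ((-(n i)).toNat : ℤ) = 0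
    omega
  have h0 : WittFil.zmon u n * algebraMap A B (∏ i, x i ^ k i) = 1 := by
    rw [← Groth.Agent.Helper9.zmon_natCast u x hu k, ← Groth.Agent.Helper9.zmon_add, hnk,
      Groth.Agent.Helper9.zmon_zero]
  have h1 : y ^ N = algebraMap A B (α * ∏ i, x i ^ k i) := by
    rw [map_mul, hα, mul_assoc, h0, mul_one]
  obtain ⟨β, hβ⟩ := Groth.Agent.Helper9.mem_range_of_pow_mem_range (∏ i, x i) hπ y N hN0
    ⟨_, h1.symm⟩
  have h2 : β ^ N = α * ∏ i, x i ^ k i := by
    apply hinj
    rw [map_pow, hβ, h1]
  obtain ⟨γ, rfl⟩ := Groth.Agent.Helper9.prod_dvd_of_pow_eq x hx hxa β α N k hk h2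
  exact ⟨γ, hβ.symm⟩

end Groth.Agent.S19272
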