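import Groth.Statements.S19273
import Mathlib
-- import your own Groth.Agent.* helpers here

set_option autoImplicit false
universe u
open CAlg

namespace Groth.Agent.S19273

open KaehlerDifferential in
/-- Let A be an integral domain of prime characteristic p, x_1, …, x_N elements of A, r ≤ N, B =
A[1/(x_1⋯x_r)] with u_i the unit of B defined by x_i for i ≤ r, and suppose that the module Ω_A of
absolute Kähler differentials of A is free with a basis b indexed by {1, …, N} ⊔ ι whose i-th vector
is d(x_i) for i ≤ N. Then the module of logarithmic 1-forms — the A-submodule of Ω_B spanned by the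
image of Ω_A and the forms u_i⁻¹ · d(x_i), i ≤ r — is a free A-module: it has a basis indexed by {1,
…, N} ⊔ ι whose vector at i ≤ r is u_i⁻¹ · d(x_i), at r < i ≤ N is d(x_i), and at k ∈ ι is the image
of b_k. (In the published statement A is a regular local F-finite algebra over the prime field with
maximal ideal (x_1, …, x_N), the basis of Ω_A comes from the preceding lemma, and the assertion
covers the logarithmic q-forms for all q together with their identification with the log de Rham
complex of the log ring; only the degree-one freeness is stated here, from the properties of A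
actually used.) -/
theorem result (p : ℕ) [Fact p.Prime]
    {A B : Type u} [CommRing A] [IsDomain A] [CharP A p] [CommRing B] [Algebra A B] {r N : ℕ}
    (hr : r ≤ N) (x : Fin N → A) [IsLocalization.Away (∏ i : Fin r, x (Fin.castLE hr i)) B]
    (u : Fin r → Bˣ) (hu : ∀ i, (u i : B) = algebraMap A B (x (Fin.castLE hr i)))
    {ι : Type u} (b : Module.Basis (Fin N ⊕ ι) A (Ω[A⁄ℤ])) (hb : ∀ i, b (Sum.inl i) = D ℤ A (x i)) :
    ∃ e : Module.Basis (Fin N ⊕ ι) A
        (W4c6katofilta.logForms1 (fun i : Fin r => x (Fin.castLE hr i)) u),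
      (∀ i : Fin r, (e (Sum.inl (Fin.castLE hr i)) : Ω[B⁄ℤ]) =
          ((u i)⁻¹ : Bˣ) • KaehlerDifferential.map ℤ ℤ A B (D ℤ A (x (Fin.castLE hr i)))) ∧
      (∀ i : Fin N, r ≤ (i : ℕ) →
          (e (Sum.inl i) : Ω[B⁄ℤ]) = KaehlerDifferential.map ℤ ℤ A B (D ℤ A (x i))) ∧
      (∀ k : ι, (e (Sum.inr k) : Ω[B⁄ℤ]) = KaehlerDifferential.map ℤ ℤ A B (b (Sum.inr k))) := by
  classical
  set f : Ω[A⁄ℤ] →ₗ[A] Ω[B⁄ℤ] := KaehlerDifferential.map ℤ ℤ A B with hf
  have hx0 : ∀ i, x i ≠ 0 := by
    intro i h0
    have h1 := b.ne_zero (Sum.inl i)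
    rw [hb, h0, map_zero] at h1
    exact h1 rfl
  have hπ : (∏ i : Fin r, x (Fin.castLE hr i)) ≠ 0 :=
    Finset.prod_ne_zero_iff.mpr fun i _ => hx0 _
  have hinj : Function.Injective (algebraMap A B) :=
    IsLocalization.injective B (powers_le_nonZeroDivisors_of_noZeroDivisors hπ)
  have hliB : LinearIndependent B (f ∘ b) :=
    b.linearIndependent.of_isLocalizedModule B
      (Submonoid.powers (∏ i : Fin r, x (Fin.castLE hr i))) f
  let w : Fin N ⊕ ι → Bˣ := fun j =>
    match j with
    | Sum.inl i => if h : (i : ℕ) < r then (u ⟨i, h⟩)⁻¹ else 1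
    | Sum.inr _ => 1
  have hliB' : LinearIndependent B (w • (f ∘ b)) := hliB.units_smul w
  have hliA : LinearIndependent A (w • (f ∘ b)) := by
    refine hliB'.restrict_scalars ?_
    intro a a' haa
    apply hinj
    simpa [Algebra.smul_def] using haa
  set e' : Fin N ⊕ ι → Ω[B⁄ℤ] := w • (f ∘ b) with he'
  have he'l : ∀ i : Fin N, ∀ h : (i : ℕ) < r,
      e' (Sum.inl i) = ((u ⟨i, h⟩)⁻¹ : Bˣ) • f (D ℤ A (x i)) := by
    intro i h
    show w (Sum.inl i) • f (b (Sum.inl i)) = _
    rw [hb]
    show (if h : (i : ℕ) < r then (u ⟨i, h⟩)⁻¹ else 1) • _ = _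
    rw [dif_pos h]
  have he'm : ∀ i : Fin N, ¬ (i : ℕ) < r → e' (Sum.inl i) = f (D ℤ A (x i)) := by
    intro i h
    show w (Sum.inl i) • f (b (Sum.inl i)) = _
    rw [hb]
    show (if h : (i : ℕ) < r then (u ⟨i, h⟩)⁻¹ else 1) • _ = _
    rw [dif_neg h, one_smul]
  have he'r : ∀ k : ι, e' (Sum.inr k) = f (b (Sum.inr k)) := by
    intro k
    show w (Sum.inr k) • f (b (Sum.inr k)) = _
    show (1 : Bˣ) • _ = _
    rw [one_smul]
  have hcast : ∀ i : Fin r, ∀ h : ((Fin.castLE hr i : Fin N) : ℕ) < r,
      (⟨((Fin.castLE hr i : Fin N) : ℕ), h⟩ : Fin r) = i := fun i h => Fin.ext rfl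
  have hspan : Submodule.span A (Set.range e') =
      W4c6katofilta.logForms1 (fun i : Fin r => x (Fin.castLE hr i)) u := by
    apply le_antisymm
    · rw [Submodule.span_le]
      rintro _ ⟨j, rfl⟩
      rcases j with i | k
      · by_cases h : (i : ℕ) < r
        · rw [he'l i h]
          refine Submodule.subset_span (Or.inr ⟨⟨i, h⟩, ?_⟩)
          rfl
        · rw [he'm i h]
          exact Submodule.subset_span (Or.inl ⟨_, rfl⟩)
      · rw [he'r]
        exact Submodule.subset_span (Or.inl ⟨_, rfl⟩)
    · unfold W4c6katofilta.logForms1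
      rw [Submodule.span_le]
      rintro z (⟨ω, rfl⟩ | ⟨i, rfl⟩)
      · have hω : ω ∈ Submodule.span A (Set.range b) := b.mem_span ω
        have : (Submodule.span A (Set.range b)).map f ≤ Submodule.span A (Set.range e') := by
          rw [Submodule.map_span, Submodule.span_le]
          rintro _ ⟨_, ⟨j, rfl⟩, rfl⟩
          rcases j with i | k
          · by_cases h : (i : ℕ) < r
            · have e1 : f (b (Sum.inl i)) = x i • e' (Sum.inl i) := by
                rw [he'l i h, hb, ← algebraMap_smul B (x i), Units.smul_def, smul_smul]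
                have : algebraMap A B (x i) * (((u ⟨i, h⟩)⁻¹ : Bˣ) : B) = 1 := by
                  have := hu ⟨i, h⟩
                  have e2 : Fin.castLE hr ⟨i, h⟩ = i := Fin.ext rfl
                  rw [e2] at this
                  rw [← this, Units.mul_inv]
                rw [this, one_smul]
              rw [e1]
              exact Submodule.smul_mem _ _ (Submodule.subset_span ⟨_, rfl⟩)
            · rw [hb, ← he'm i h]
              exact Submodule.subset_span ⟨_, rfl⟩
          · rw [← he'r]
            exact Submodule.subset_span ⟨_, rfl⟩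
        exact this (Submodule.mem_map_of_mem hω)
      · have h : ((Fin.castLE hr i : Fin N) : ℕ) < r := i.2
        have := he'l (Fin.castLE hr i) h
        rw [hcast i h] at this
        show ((u i)⁻¹ : Bˣ) • f (D ℤ A (x (Fin.castLE hr i))) ∈ _
        rw [← this]
        exact Submodule.subset_span ⟨_, rfl⟩
  let e0 := Module.Basis.span hliA
  let e := e0.map (LinearEquiv.ofEq _ _ hspan)
  have hval : ∀ j, ((e j : W4c6katofilta.logForms1 (fun i : Fin r => x (Fin.castLE hr i)) u) :
      Ω[B⁄ℤ]) = e' j := by
    intro j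
    show ((LinearEquiv.ofEq _ _ hspan (e0 j) : _) : Ω[B⁄ℤ]) = e' j
    rw [LinearEquiv.coe_ofEq_apply, Module.Basis.span_apply]
  refine ⟨e, ?_, ?_, ?_⟩
  · intro i
    have h : ((Fin.castLE hr i : Fin N) : ℕ) < r := i.2
    rw [hval, he'l _ h, hcast i h]
  · intro i hi
    rw [hval, he'm i (by omega)]
  · intro k
    rw [hval, he'r]

end Groth.Agent.S19273
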