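import Groth.Statements.S19274
import Groth.Agent.Helper9.WittFilUFD
import Groth.Agent.S19263
-- import your own Groth.Agent.* helpers here

set_option autoImplicit false
universe u
open WittFil

namespace Groth.Agent.S19274

/-- Let A be a unique factorisation domain of characteristic p, x a prime element of A, B = A[1/x] with
u the unit of B defined by x, m ≥ 1, and n an integer NOT divisible by p^m. For e in B and k ≥ 0
write fil_k(e) for the set of truncated p-typical Witt vectors of length k over B whose j-th
coordinate y_j satisfies y_j ^ (p ^ (k−1−j)) · e ∈ A for all j < k (the filtered piece; fil_k(u^n)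
is the piece of index n). Then fil_{m+1}(u^n) is contained in fil_{m+1}(u^(n−1)) + V(fil_m(u^n))
(the reverse inclusion is immediate): every a in fil_{m+1}(u^n) can be written a = b + V(y) with b
in fil_{m+1}(u^(n−1)) and y a Witt vector over B whose length-m truncation lies in fil_m(u^n), V(y)
being truncated to length m+1. (In the source A is a henselian discrete valuation ring, n = p^r·l >
1 with p not dividing l, and the condition reads m ≥ r + 1.) -/
theorem result (p : ℕ) [Fact p.Prime]
    {A B : Type u} [CommRing A] [IsDomain A] [UniqueFactorizationMonoid A] [CharP A p]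
    [CommRing B] [Algebra A B] (x : A) (hx : Prime x) [IsLocalization.Away x B] (u : Bˣ)
    (hu : (u : B) = algebraMap A B x) (m : ℕ) (hm : 0 < m) (n : ℤ) (hn : ¬ ((p : ℤ) ^ m ∣ n)) :
    ∀ a ∈ WittFil.fil p (m + 1) (A := A) ((u ^ n : Bˣ) : B),
      ∃ b ∈ WittFil.fil p (m + 1) (A := A) ((u ^ (n - 1) : Bˣ) : B),
        ∃ y : WittVector p B,
          WittVector.truncate m y ∈ WittFil.fil p m (A := A) ((u ^ n : Bˣ) : B) ∧
            a = b + WittVector.truncate (m + 1) (WittVector.verschiebung y) := by
  classical
  intro a ha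
  have hp : p.Prime := Fact.out
  have hprod : (∏ i : Fin 1, (fun _ : Fin 1 => x) i) = x := by simp
  haveI : IsLocalization.Away (∏ i : Fin 1, (fun _ : Fin 1 => x) i) B := by
    rw [hprod]; infer_instance
  have hz : ∀ k : ℤ, WittFil.zmon (fun _ : Fin 1 => u) (fun _ => k) = ((u ^ k : Bˣ) : B) := by
    intro k
    simp [WittFil.zmon]
  -- lifts
  set a' : WittVector p B := a.out with ha'
  set a0 : B := a.coeff ⟨0, Nat.succ_pos m⟩ with ha0
  set b' : WittVector p B := WittVector.teichmuller p a0 with hb'
  have hta : WittVector.truncate (m + 1) a' = a := TruncatedWittVector.truncateFun_out a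
  have hb'c : ∀ j : ℕ, b'.coeff j = if j = 0 then a0 else 0 := by
    intro j
    rcases Nat.eq_zero_or_pos j with rfl | hj
    · rw [if_pos rfl]; exact WittVector.teichmuller_coeff_zero p a0
    · rw [if_neg hj.ne']; exact WittVector.teichmuller_coeff_pos p a0 j hj
  set b : TruncatedWittVector p (m + 1) B := WittVector.truncate (m + 1) b' with hb
  have hbc : ∀ j : Fin (m + 1), b.coeff j = if (j : ℕ) = 0 then a0 else 0 := by
    intro j
    rw [hb, WittVector.coeff_truncate, hb'c]
  -- b in both pieces
  have hbfil : ∀ k : ℤ, a0 ^ p ^ m * ((u ^ k : Bˣ) : B) ∈ (algebraMap A B).range →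
      b ∈ WittFil.fil p (m + 1) (A := A) ((u ^ k : Bˣ) : B) := by
    intro k hk j
    rw [hbc]
    by_cases hj : (j : ℕ) = 0
    · rw [if_pos hj, hj]
      exact hk
    · rw [if_neg hj, zero_pow (pow_ne_zero _ hp.ne_zero), zero_mul]
      exact zero_mem _
  have h0 : a0 ^ p ^ m * ((u ^ n : Bˣ) : B) ∈ (algebraMap A B).range := ha ⟨0, Nat.succ_pos m⟩
  have hb1 : b ∈ WittFil.fil p (m + 1) (A := A) ((u ^ n : Bˣ) : B) := hbfil n h0
  have hb2 : b ∈ WittFil.fil p (m + 1) (A := A) ((u ^ (n - 1) : Bˣ) : B) := by
    apply hbfil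
    apply Groth.Agent.Helper9.pow_mul_zpow_pred_mem_range x hx u hu (p ^ m)
      (pow_ne_zero _ hp.ne_zero) n _ a0 h0
    exact_mod_cast hn
  -- difference
  have hd : a - b ∈ WittFil.fil p (m + 1) (A := A) ((u ^ n : Bˣ) : B) := by
    have := Groth.Agent.S19263.result p (fun _ : Fin 1 => x) (fun _ => hx)
      (fun i j _ => Subsingleton.elim i j) (fun _ => u) (fun _ => hu) (fun _ => n) (m + 1) a b
      (by rw [hz]; exact ha) (by rw [hz]; exact hb1)
    rwa [hz] at this
  have hd0 : (a' - b').coeff 0 = 0 := by
    have h1 : a'.coeff 0 = (a' - b').coeff 0 + b'.coeff 0 := by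
      rw [← WittVector.add_coeff_zero, sub_add_cancel]
    have h2 : a'.coeff 0 = a0 := rfl
    rw [h2, hb'c, if_pos rfl] at h1
    exact (add_eq_right.mp h1.symm)
  have hV : WittVector.verschiebung ((a' - b').shift 1) = a' - b' := by
    rw [WittVector.verschiebung_shift (a' - b') 0 (fun i hi => by
      have : i = 0 := by omega
      rw [this]; exact hd0)]
    ext k
    rw [WittVector.shift_coeff, zero_add]
  have hab : a - b = WittVector.truncate (m + 1) (a' - b') := by
    rw [map_sub, hta]
  refine ⟨b, hb2, (a' - b').shift 1, ?_, ?_⟩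
  · intro j
    rw [WittVector.coeff_truncate, WittVector.shift_coeff]
    have h := hd ⟨1 + (j : ℕ), by have := j.2; omega⟩
    rw [hab, WittVector.coeff_truncate] at h
    have e : m + 1 - 1 - (1 + (j : ℕ)) = m - 1 - (j : ℕ) := by omega
    rw [e] at h
    exact h
  · rw [hV, ← hab, add_sub_cancel]

end Groth.Agent.S19274
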