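import Groth.Statements.S19276
import Mathlib
import Groth.Agent.Helper9.GrpAlgCRT
-- import your own Groth.Agent.* helpers here

set_option autoImplicit false
universe u v
open GrpAlg

namespace Groth.Agent.S19276

/-- Let `A` be a finite commutative group and `Λ` a commutative ring in which the order of `A` is
invertible. Then the ring homomorphism from the group ring `Λ[A]` to the product, over the subgroups
`B` of `A` with cyclic quotient, of the cyclotomic quotients `Λ[A ⧸ B]/(Φ_{|A/B|})`, each component
induced by `A → A/B`, is bijective. (In terms of group schemes: `Λ[A]` is the representation ring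
with coefficients in `Λ` of the finite diagonalizable group with character group `A`, the factors
are indexed by its dual cyclic subgroups, i.e. those isomorphic to some `μ_n`, and the components
are restriction followed by the cyclotomic quotient. The published statement takes `Λ = ℤ[1/|A|]`;
here `Λ` is any commutative ring in which `|A|` is invertible.) -/
theorem result (Λ : Type u) [CommRing Λ] (A : Type v)
    [AddCommGroup A] [Finite A] (hA : IsUnit ((Nat.card A : ℕ) : Λ)) :
    Function.Bijective (RingHom.pi fun B : {B : AddSubgroup A // IsAddCyclic (A ⧸ B)} =>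
      W4c6equivkfinstab.cycQuotMap Λ A B.1) := by
  open Groth.Agent.Helper9.GrpAlgCyc Groth.Agent.Helper9.GrpAlgFourier Groth.Agent.Helper9.GrpAlgCRT
    W4c6equivkfinstab in
  have hidx : ∀ B : AddSubgroup A, IsUnit ((B.index : ℕ) : Λ) := by
    intro B
    obtain ⟨c, hc⟩ := B.index_dvd_card
    rw [hc, Nat.cast_mul] at hA
    exact isUnit_of_mul_isUnit_left hA
  constructor
  · rw [injective_iff_map_eq_zero]
    intro x hx
    have hx' : ∀ B : AddSubgroup A, (⊥ : AddSubgroup A) ≤ B → IsAddCyclic (A ⧸ B) →
        cycQuotMap Λ A B x = 0 := by
      intro B _ hB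
      exact congrFun hx ⟨B, hB⟩
    have h1 := quotMap_eq_zero_of_forall Λ A (⊥ : AddSubgroup A) (hidx ⊥) x hx'
    have hinj : Function.Injective (QuotientAddGroup.mk' (⊥ : AddSubgroup A)) := by
      rw [← AddMonoidHom.ker_eq_bot_iff, QuotientAddGroup.ker_mk']
    have h2 : Function.Injective (quotMap Λ A (⊥ : AddSubgroup A)) :=
      AddMonoidAlgebra.mapDomain_injective hinj
    exact h2 (h1.trans (map_zero _).symm)
  · intro g
    choose x hx using fun B : {B : AddSubgroup A // IsAddCyclic (A ⧸ B)} =>
      cycQuotMap_surjective Λ A B.1 (g B)
    obtain ⟨r, hr⟩ := exists_crt Λ A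
      (fun B : {B : AddSubgroup A // IsAddCyclic (A ⧸ B)} => B.1) Subtype.val_injective
      (fun B => inferInstance) (fun B => B.2) (fun B => hidx B.1) x
    refine ⟨r, ?_⟩
    ext B : 1
    exact (hr B).trans (hx B)

end Groth.Agent.S19276
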