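import Groth.Statements.S19277
import Mathlib
import Groth.Agent.Helper9.GrpAlgCyc
-- import your own Groth.Agent.* helpers here

set_option autoImplicit false
universe u v
open GrpAlg

namespace Groth.Agent.S19277

/-- Let `M` be a commutative group, `B ≠ B'` subgroups of finite index with `M ⧸ B` and `M ⧸ B'` cyclic,
and `Λ` a commutative ring in which both indices are invertible. Then the localization of the
`Λ[M]`-module `Λ[M ⧸ B]/(Φ_{|M/B|})` at the multiplicative subset of `Λ[M]` of elements with image
`1` in `Λ[M ⧸ B']/(Φ_{|M/B'|})` is zero. (In terms of group schemes: for two distinct dual cyclic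
subgroups σ, σ' of the diagonalizable group with character group `M`, the ring R̃(σ) with
coefficients in `Λ` vanishes after localization at σ'. The published statement has a split torus,
i.e. `M` free of finite rank, and `Λ = ℤ[1/N]` for `N` the order of the subgroup generated by σ and
σ'; here `M` is any commutative group and `Λ` any commutative ring in which the orders of σ and σ'
are invertible.) -/
theorem result (Λ : Type u) [CommRing Λ] (M : Type v)
    [AddCommGroup M] (B B' : AddSubgroup M) [B.FiniteIndex] [B'.FiniteIndex]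
    [IsAddCyclic (M ⧸ B)] [IsAddCyclic (M ⧸ B')] (hne : B ≠ B')
    (hu : IsUnit ((B.index * B'.index : ℕ) : Λ)) :
    Subsingleton (LocalizedModule (W4c6equivkfinstab.locSubmonoid Λ M B')
      (W4c6equivkfinstab.CycQuot Λ (M ⧸ B))) := by
  open Groth.Agent.Helper9.GrpAlgCyc W4c6equivkfinstab in
  rw [LocalizedModule.subsingleton_iff]
  have hcast : ((B.index * B'.index : ℕ) : Λ) = ((B.index : ℕ) : Λ) * ((B'.index : ℕ) : Λ) := by
    push_cast; ring
  rw [hcast] at hu
  have huB : IsUnit ((B.index : ℕ) : Λ) := isUnit_of_mul_isUnit_left hu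
  have huB' : IsUnit ((B'.index : ℕ) : Λ) := isUnit_of_mul_isUnit_right hu
  have hone : ∀ (B₁ : AddSubgroup M) (m : M), m ∈ B₁ →
      cycQuotMap Λ M B₁ (AddMonoidAlgebra.single m 1 - 1) = 0 := by
    intro B₁ m hm
    rw [map_sub, map_one, cycQuotMap_single, (QuotientAddGroup.eq_zero_iff m).mpr hm]
    rw [← AddMonoidAlgebra.one_def, map_one, sub_self]
  obtain ⟨s, hs1, hs0⟩ : ∃ s : AddMonoidAlgebra Λ M,
      cycQuotMap Λ M B' s = 1 ∧ cycQuotMap Λ M B s = 0 := by
    by_cases h : B' ≤ B
    · obtain ⟨m, hmB, hmB'⟩ : ∃ m, m ∈ B ∧ m ∉ B' := by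
        by_contra hcon
        push Not at hcon
        exact hne (le_antisymm hcon h)
      obtain ⟨y, hy⟩ := exists_mul_eq_one Λ M B' huB' m hmB'
      refine ⟨(AddMonoidAlgebra.single m 1 - 1) * y, hy, ?_⟩
      rw [map_mul, hone B m hmB, zero_mul]
    · obtain ⟨m, hmB', hmB⟩ : ∃ m, m ∈ B' ∧ m ∉ B := by
        by_contra hcon
        push Not at hcon
        exact h hcon
      obtain ⟨y, hy⟩ := exists_mul_eq_one Λ M B huB m hmB
      refine ⟨1 - (AddMonoidAlgebra.single m 1 - 1) * y, ?_, ?_⟩
      · rw [map_sub, map_one, map_mul, hone B' m hmB', zero_mul, sub_zero]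
      · rw [map_sub, map_one, hy, sub_self]
  intro x
  exact ⟨s, hs1, by rw [smul_eq, hs0, zero_mul]⟩

end Groth.Agent.S19277
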