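import Groth.Statements.S19278
import Mathlib
import Groth.Agent.Helper9.GrpAlgCyc
-- import your own Groth.Agent.* helpers here

set_option autoImplicit false
universe u v
open GrpAlg

namespace Groth.Agent.S19278

/-- Let `M` be a commutative group, `B₀` a subgroup of finite index, `B` a subgroup of finite index with
`M ⧸ B` cyclic and `B₀` not contained in `B`, and `Λ` a commutative ring in which the indices of
`B₀` and `B` are invertible. Then the localization of the `Λ[M]`-module `Λ[M ⧸ B₀]` at the
multiplicative subset of `Λ[M]` of elements with image `1` in `Λ[M ⧸ B]/(Φ_{|M/B|})` is zero. (In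
terms of group schemes: for a finite closed subgroup T' = D(M/B₀) of the diagonalizable group with
character group `M` and a dual cyclic subgroup σ = D(M/B) not contained in T', the representation
ring of T' with coefficients in `Λ` vanishes after localization at σ. The published statement has a
split torus and `Λ = ℤ[1/N]`; here `M` is any commutative group and `Λ` any commutative ring in
which the orders of T' and σ are invertible.) -/
theorem result (Λ : Type u) [CommRing Λ]
    (M : Type v) [AddCommGroup M] (B₀ B : AddSubgroup M) [B₀.FiniteIndex] [B.FiniteIndex]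
    [IsAddCyclic (M ⧸ B)] (hle : ¬ B₀ ≤ B) (hu : IsUnit ((B₀.index * B.index : ℕ) : Λ)) :
    Subsingleton (LocalizedModule (W4c6equivkfinstab.locSubmonoid Λ M B)
      (AddMonoidAlgebra Λ (M ⧸ B₀))) := by
  open Groth.Agent.Helper9.GrpAlgCyc W4c6equivkfinstab in
  rw [LocalizedModule.subsingleton_iff]
  have hcast : ((B₀.index * B.index : ℕ) : Λ) = ((B₀.index : ℕ) : Λ) * ((B.index : ℕ) : Λ) := by
    push_cast; ring
  rw [hcast] at hu
  have huB : IsUnit ((B.index : ℕ) : Λ) := isUnit_of_mul_isUnit_right hu
  obtain ⟨m, hmB₀, hmB⟩ : ∃ m, m ∈ B₀ ∧ m ∉ B := by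
    by_contra hcon
    push Not at hcon
    exact hle hcon
  obtain ⟨y, hy⟩ := exists_mul_eq_one Λ M B huB m hmB
  intro x
  refine ⟨(AddMonoidAlgebra.single m 1 - 1) * y, hy, ?_⟩
  show algebraMap (AddMonoidAlgebra Λ M) (AddMonoidAlgebra Λ (M ⧸ B₀)) _ * x = 0
  have h0 : quotMap Λ M B₀ (AddMonoidAlgebra.single m 1 - 1) = 0 := by
    rw [map_sub, map_one]
    have : quotMap Λ M B₀ (AddMonoidAlgebra.single m 1) =
        AddMonoidAlgebra.single ((m : M ⧸ B₀)) 1 := by simp [quotMap]
    rw [this, (QuotientAddGroup.eq_zero_iff m).mpr hmB₀, ← AddMonoidAlgebra.one_def, sub_self]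
  have h1 : algebraMap (AddMonoidAlgebra Λ M) (AddMonoidAlgebra Λ (M ⧸ B₀))
      ((AddMonoidAlgebra.single m 1 - 1) * y) = 0 := by
    show quotMap Λ M B₀ _ = 0
    rw [map_mul, h0, zero_mul]
  rw [h1, zero_mul]

end Groth.Agent.S19278
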