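import Groth.Statements.S19279
import Mathlib
import Groth.Agent.Helper9.GrpAlgCRT
import Groth.Agent.Helper9.LocPi
-- import your own Groth.Agent.* helpers here

set_option autoImplicit false
universe u v
open GrpAlg

namespace Groth.Agent.S19279

/-- Let `M` be a commutative group, `B₀` a subgroup of finite index and `Λ` a commutative ring in which
the index of `B₀` is invertible. Then the `Λ[M]`-linear map from `Λ[M ⧸ B₀]` to the product, over
the subgroups `B ⊇ B₀` with `M ⧸ B` cyclic, of the localizations of `Λ[M ⧸ B₀]` at the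
multiplicative subsets of `Λ[M]` of elements with image `1` in `Λ[M ⧸ B]/(Φ_{|M/B|})`, with
components the localization maps, is bijective. (In terms of group schemes: for a finite closed
subgroup T' = D(M/B₀) of the diagonalizable group with character group `M`, the representation ring
of T' with coefficients in `Λ` is the product of its localizations at the dual cyclic subgroups of
T'. The published statement has a split torus and `Λ = ℤ[1/|T'|]`; here `M` is any commutative group
and `Λ` any commutative ring in which the order of T' is invertible.) -/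
theorem result (Λ : Type u) [CommRing Λ]
    (M : Type v) [AddCommGroup M] (B₀ : AddSubgroup M) [B₀.FiniteIndex]
    (hu : IsUnit ((B₀.index : ℕ) : Λ)) :
    Function.Bijective (LinearMap.pi (R := AddMonoidAlgebra Λ M)
      fun B : {B : AddSubgroup M // B₀ ≤ B ∧ IsAddCyclic (M ⧸ B)} =>
        LocalizedModule.mkLinearMap (W4c6equivkfinstab.locSubmonoid Λ M B.1)
          (AddMonoidAlgebra Λ (M ⧸ B₀))) := by
  open Groth.Agent.Helper9.GrpAlgCyc Groth.Agent.Helper9.GrpAlgFourier Groth.Agent.Helper9.GrpAlgCRT
    W4c6equivkfinstab in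
  classical
  have hfin : Finite {B : AddSubgroup M // B₀ ≤ B ∧ IsAddCyclic (M ⧸ B)} := by
    have : Finite (M ⧸ B₀) := AddSubgroup.finite_quotient_of_finiteIndex
    let f : {B : AddSubgroup M // B₀ ≤ B ∧ IsAddCyclic (M ⧸ B)} → AddSubgroup (M ⧸ B₀) :=
      fun B => B.1.map (QuotientAddGroup.mk' B₀)
    refine Finite.of_injective f ?_
    intro B B' h
    apply Subtype.ext
    have h1 := congrArg (AddSubgroup.comap (QuotientAddGroup.mk' B₀)) h
    simp only [f] at h1
    rw [AddSubgroup.comap_map_eq_self (by rw [QuotientAddGroup.ker_mk']; exact B.2.1),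
      AddSubgroup.comap_map_eq_self (by rw [QuotientAddGroup.ker_mk']; exact B'.2.1)] at h1
    exact h1
  have hfi : ∀ B : {B : AddSubgroup M // B₀ ≤ B ∧ IsAddCyclic (M ⧸ B)}, B.1.FiniteIndex :=
    fun B => AddSubgroup.finiteIndex_of_le B.2.1
  have hidx : ∀ B : {B : AddSubgroup M // B₀ ≤ B ∧ IsAddCyclic (M ⧸ B)},
      IsUnit ((B.1.index : ℕ) : Λ) := by
    intro B
    obtain ⟨c, hc⟩ := AddSubgroup.index_dvd_of_le B.2.1
    rw [hc, Nat.cast_mul] at hu
    exact isUnit_of_mul_isUnit_left hu
  have hcrt := exists_crt Λ M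
    (fun B : {B : AddSubgroup M // B₀ ≤ B ∧ IsAddCyclic (M ⧸ B)} => B.1) Subtype.val_injective
    hfi (fun B => B.2.2) hidx
  choose e he using fun i : {B : AddSubgroup M // B₀ ≤ B ∧ IsAddCyclic (M ⧸ B)} =>
    hcrt (fun j => if j = i then 1 else 0)
  refine Groth.Agent.Helper9.LocPi.pi_mkLinearMap_bijective
    (fun B : {B : AddSubgroup M // B₀ ≤ B ∧ IsAddCyclic (M ⧸ B)} => cycQuotMap Λ M B.1)
    (fun B => locSubmonoid Λ M B.1) (fun B x => Iff.rfl) ?_ e ?_ ?_
  · intro r hr y
    have h1 := quotMap_eq_zero_of_forall Λ M B₀ hu r (fun B hB hcyc => hr ⟨B, hB, hcyc⟩)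
    show algebraMap _ _ r * y = 0
    have h2 : algebraMap (AddMonoidAlgebra Λ M) (AddMonoidAlgebra Λ (M ⧸ B₀)) r =
        quotMap Λ M B₀ r := rfl
    rw [h2, h1, zero_mul]
  · intro i
    rw [he i i, if_pos rfl, map_one]
  · intro i j hji
    rw [he i j, if_neg hji, map_zero]

end Groth.Agent.S19279
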