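import Groth.Statements.S19288
import Mathlib
import Groth.Agent.Helper9.UnramSection
-- import your own Groth.Agent.* helpers here

set_option autoImplicit false
universe u
open CategoryTheory CategoryTheory.Limits MonoidalCategory CartesianMonoidalCategory MonObj AlgebraicGeometry
open AbSch

namespace Groth.Agent.S19288

/-- Let S be a scheme, X a commutative S-group scheme which is etale and separated over S (hence locally
of finite presentation), and P a commutative S-group scheme of finite presentation over S all of
whose fibres are connected. Then every homomorphism of S-group schemes from P to X is trivial (it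
factors through the unit section). -/
theorem result {S : Scheme.{u}} (P X : Over S)
    [GrpObj P] [IsCommMonObj P] [GrpObj X] [IsCommMonObj X]
    [Etale X.hom] [IsSeparated X.hom]
    [QuasiCompact P.hom] [QuasiSeparated P.hom] [LocallyOfFinitePresentation P.hom]
    (hP : ∀ s : S, ConnectedSpace ↥(P.hom.fiber s))
    (f : P ⟶ X) [IsMonHom f] : f = 1 := by
  have he : (η[X] : 𝟙_ (Over S) ⟶ X).left ≫ X.hom = 𝟙 S := by
    have := Over.w (η[X] : 𝟙_ (Over S) ⟶ X)
    exact this
  have hu : (η[P] : 𝟙_ (Over S) ⟶ P).left ≫ P.hom = 𝟙 S := by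
    have := Over.w (η[P] : 𝟙_ (Over S) ⟶ P)
    exact this
  have huf : (η[P] : 𝟙_ (Over S) ⟶ P).left ≫ f.left = (η[X] : 𝟙_ (Over S) ⟶ X).left := by
    rw [← Over.comp_left, IsMonHom.one_hom]
  have key := Groth.Agent.Helper9.UnramSection.eq_comp_section P.hom X.hom
    (η[X] : 𝟙_ (Over S) ⟶ X).left he f.left (Over.w f) hP
    (η[P] : 𝟙_ (Over S) ⟶ P).left hu huf
  apply Over.OverMorphism.ext
  rw [key, Hom.one_def, Over.comp_left]
  rfl

end Groth.Agent.S19288
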