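import Groth.Statements.S19307
import Groth.Agent.Lead.PSTorsA

set_option autoImplicit false
universe u
open CategoryTheory MonoidalCategory CartesianMonoidalCategory MonObj GrpObj AlgebraicGeometry PowerSeries
open NonAbH1

namespace Groth.Agent.S19307

/-- Let R be a commutative ring, G an affine smooth group scheme over the power series ring R⟦X⟧ and P a
G-torsor over Spec R⟦X⟧ for the fpqc topology. Then there is an étale and faithfully flat R-algebra
R' such that P has a section over Spec R'⟦X⟧. (The published statement takes R an algebra over a
field and G the base change to R⟦X⟧ of a smooth affine group scheme over the power series ring of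
that field; the statement here allows any affine smooth group scheme over R⟦X⟧, to which the
published proof applies unchanged.) -/
theorem result
    (R : Type u) [CommRing R]
    (G : Over (Spec (CommRingCat.of R⟦X⟧))) [GrpObj G] [IsAffine G.left] [Smooth G.hom]
    (P : Over (Spec (CommRingCat.of R⟦X⟧))) (a : AlgGrp.Action G P)
    (hP : NonAbH1.IsTorsorFor Scheme.fpqcPrecoverage a) :
    ∃ (R' : Type u) (_ : CommRing R') (_ : Algebra R R'),
      Algebra.Etale R R' ∧ Module.FaithfullyFlat R R' ∧
      NonAbH1.HasSectionOver P (Spec.map (CommRingCat.ofHom (PowerSeries.map (algebraMap R R')))) := by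
  haveI : IsAffineHom G.hom := inferInstance
  haveI : Smooth P.hom := Groth.Agent.Helper9.TorsorProps.smooth a hP inferInstance
  haveI : Surjective P.hom := Groth.Agent.Helper9.TorsorProps.surjective a hP
  haveI : IsAffineHom P.hom := Groth.Agent.Helper9.TorsorProps.isAffineHom a hP inferInstance
  haveI : IsAffine P.left := isAffine_of_isAffineHom P.hom
  exact Groth.Agent.Lead.PSTors.exists_section_powerSeries R P

end Groth.Agent.S19307
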