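import Groth.Statements.S19310
import Mathlib
import Groth.Agent.Helper9.FibreDense
import Groth.Agent.Helper9.TensorDomain
-- import your own Groth.Agent.* helpers here

set_option autoImplicit false
universe u
open TensorProduct
open CAlg

namespace Groth.Agent.S19310

/-- Let k be an algebraically closed field, A a finitely generated k-algebra which is an integral domain
(X = Spec A an affine variety), R a commutative k-algebra, possibly non-reduced, and U an open
subset of X_R = Spec (R ⊗_k A) meeting every fibre of X_R → Spec R (a very dense open subset). Then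
a regular function on X_R whose restriction to U vanishes is zero: if f ∈ R ⊗_k A maps to 0 in the
localisation (R ⊗_k A)[1/g] for every g with D(g) ⊆ U, then f = 0. (The published statement is that
automorphisms of a torsor under a smooth affine group scheme over X_R which are the identity over a
very dense open subset are the identity, for X a smooth projective curve; its proof reduces this to
the present assertion about functions, for quasi-projective X; this row is the affine case.) -/
theorem result
    (k : Type u) [Field k] [IsAlgClosed k]
    (A : Type u) [CommRing A] [Algebra k A] [IsDomain A] [Algebra.FiniteType k A]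
    (R : Type u) [CommRing R] [Algebra k R]
    (U : TopologicalSpace.Opens (PrimeSpectrum (TensorProduct k R A)))
    (hsurj : ∀ q : PrimeSpectrum R, ∃ P ∈ U,
      PrimeSpectrum.comap (Algebra.TensorProduct.includeLeftRingHom : R →+* TensorProduct k R A) P = q)
    (f : TensorProduct k R A)
    (hf : ∀ g : TensorProduct k R A, (PrimeSpectrum.basicOpen g : Set (PrimeSpectrum (TensorProduct k R A))) ⊆ U →
      algebraMap (TensorProduct k R A) (Localization.Away g) f = 0) :
    f = 0 := by
  open Groth.Agent.Helper9.FibreDense Groth.Agent.Helper9.TensorDomain in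
  classical
  by_contra hf0
  -- the annihilator of f in R
  let J : Ideal R := Ideal.torsionOf R (TensorProduct k R A) f
  have hJ : J ≠ ⊤ := by
    intro h
    have h1 : (1 : R) ∈ J := by rw [h]; trivial
    rw [Ideal.mem_torsionOf_iff, one_smul] at h1
    exact hf0 h1
  obtain ⟨q, hqmax, hJq⟩ := Ideal.exists_le_maximal J hJ
  have hD : IsDomain (TensorProduct k (R ⧸ q) A) := by
    let _ : Field (R ⧸ q) := Ideal.Quotient.field q
    exact isDomain_tensor k A (R ⧸ q)
  let P : Ideal (TensorProduct k R A) := RingHom.ker (theta (A := A) q)
  have hPprime : P.IsPrime := RingHom.ker_isPrime _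
  obtain ⟨P', hP'U, hP'q⟩ := hsurj ⟨q, hqmax.isPrime⟩
  have hP'q' : P'.asIdeal.comap (Algebra.TensorProduct.includeLeftRingHom : R →+* TensorProduct k R A) = q :=
    congrArg PrimeSpectrum.asIdeal hP'q
  let b := Module.Free.chooseBasis k A
  let B := Algebra.TensorProduct.basis R b
  have hPle : P ≤ P'.asIdeal := by
    intro x hx
    have hx0 : theta (A := A) q x = 0 := hx
    have hcoef : ∀ i, B.repr x i ∈ q := by
      intro i
      have := repr_theta q b x i
      rw [hx0, map_zero, Finsupp.zero_apply] at this
      exact Ideal.Quotient.eq_zero_iff_mem.mp this.symm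
    rw [← B.linearCombination_repr x, Finsupp.linearCombination_apply, Finsupp.sum]
    refine Ideal.sum_mem _ fun i _ => ?_
    rw [Algebra.smul_def]
    apply Ideal.mul_mem_right
    have : B.repr x i ∈ P'.asIdeal.comap
        (Algebra.TensorProduct.includeLeftRingHom : R →+* TensorProduct k R A) := by
      rw [hP'q']; exact hcoef i
    exact this
  have hPU : (⟨P, hPprime⟩ : PrimeSpectrum (TensorProduct k R A)) ∈ U := by
    have hspec : (⟨P, hPprime⟩ : PrimeSpectrum (TensorProduct k R A)) ⤳ P' :=
      (PrimeSpectrum.le_iff_specializes _ _).mp hPle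
    exact hspec.mem_open U.isOpen hP'U
  obtain ⟨V, ⟨g, rfl⟩, hgP, hgU⟩ :=
    PrimeSpectrum.isTopologicalBasis_basic_opens.exists_subset_of_mem_open hPU U.isOpen
  have hfg := hf g hgU
  obtain ⟨⟨_, n, rfl⟩, hn⟩ := (IsLocalization.map_eq_zero_iff (Submonoid.powers g)
    (Localization.Away g) f).mp hfg
  have hgP' : g ∉ P := hgP
  have hsP : g ^ n ∉ P := fun h => hgP' (hPprime.mem_of_pow_mem n h)
  apply hsP
  show theta (A := A) q (g ^ n) = 0
  refine theta_eq_zero_of_mul_eq_zero q f (g ^ n) (fun r hr => hJq ?_) hn
  exact (Ideal.mem_torsionOf_iff f r).mpr hr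

end Groth.Agent.S19310
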