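import Groth.Statements.S19323
import Mathlib
import Groth.Agent.Helper9.SpSeqMono
-- import your own Groth.Agent.* helpers here

set_option autoImplicit false
universe v u
open CategoryTheory CategoryTheory.Limits
open SpSeq

namespace Groth.Agent.S19323

/-- In an abelian category let E and E' be first-quadrant E₂ cohomological spectral sequences and φ : E
⟶ E' a morphism of spectral sequences such that (i) every differential of E' leaving a position
whose first coordinate is nonzero vanishes, (ii) on every page the map φ at each position followed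
by the outgoing differential of E' is zero, and (iii) φ is a monomorphism at every position of page
2. Then E degenerates at page 2. -/
theorem result
    {C : Type u} [Category.{v} C] [Abelian C]
    (E E' : E₂CohomologicalSpectralSequence C) (φ : E ⟶ E')
    (hE : ∀ pq : ℤ × ℤ, pq.1 < 0 ∨ pq.2 < 0 → IsZero ((E.page 2 le_rfl).X pq))
    (hE' : ∀ pq : ℤ × ℤ, pq.1 < 0 ∨ pq.2 < 0 → IsZero ((E'.page 2 le_rfl).X pq))
    (hd' : ∀ (r : ℤ) (hr : 2 ≤ r) (pq : ℤ × ℤ), pq.1 ≠ 0 →
      (E'.page r hr).d pq (pq + (r, 1 - r)) = 0)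
    (hφd : ∀ (r : ℤ) (hr : 2 ≤ r) (pq : ℤ × ℤ),
      (φ.hom r hr).f pq ≫ (E'.page r hr).d pq (pq + (r, 1 - r)) = 0)
    (hmono : ∀ pq : ℤ × ℤ, Mono ((φ.hom 2 le_rfl).f pq)) :
    SpSeq.Degenerates E 2 := by
  -- main induction
  have key : ∀ (r : ℤ) (hr : 2 ≤ r),
      (∀ pq : ℤ × ℤ, pq.1 < 0 ∨ pq.2 < 0 → IsZero ((E.page r hr).X pq)) ∧
      (∀ pq : ℤ × ℤ, r ≤ pq.1 → Mono ((φ.hom r hr).f pq)) ∧
      (∀ pq pq' : ℤ × ℤ, (E.page r hr).d pq pq' = 0) := by
    -- D from Z and M
    have hD : ∀ (r : ℤ) (hr : 2 ≤ r),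
        (∀ pq : ℤ × ℤ, pq.1 < 0 ∨ pq.2 < 0 → IsZero ((E.page r hr).X pq)) →
        (∀ pq : ℤ × ℤ, r ≤ pq.1 → Mono ((φ.hom r hr).f pq)) →
        (∀ pq pq' : ℤ × ℤ, (E.page r hr).d pq pq' = 0) := by
      intro r hr hZ hM pq pq'
      by_cases hrel : (ComplexShape.up' (⟨r, 1 - r⟩ : ℤ × ℤ)).Rel pq pq'
      · by_cases hneg : pq.1 < 0
        · exact (hZ pq (Or.inl hneg)).eq_of_src _ _
        · have hpq' : pq + (r, 1 - r) = pq' := hrel
          have hge : r ≤ pq'.1 := by
            rw [← hpq']; simp only [Prod.fst_add]; omega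
          have := hM pq' hge
          refine zero_of_comp_mono ((φ.hom r hr).f pq') ?_
          rw [← (φ.hom r hr).comm pq pq']
          subst hpq'
          exact hφd r hr pq
      · exact (E.page r hr).shape _ _ hrel
    intro r hr
    induction r, hr using Int.leInduction with
    | base =>
      have hM : ∀ pq : ℤ × ℤ, (2 : ℤ) ≤ pq.1 → Mono ((φ.hom 2 le_rfl).f pq) := fun pq _ => hmono pq
      exact ⟨hE, hM, hD 2 le_rfl hE hM⟩
    | succ r hr ih =>
      obtain ⟨hZ, hM, hDr⟩ := ih
      have hZ' : ∀ pq : ℤ × ℤ, pq.1 < 0 ∨ pq.2 < 0 →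
          IsZero ((E.page (r + 1) (by omega)).X pq) := by
        intro pq hpq
        exact (Groth.Agent.Helper9.SpSeqMono.isZero_homology_of_isZero _ pq (hZ pq hpq)).of_iso
          (E.iso r (r + 1) pq rfl hr).symm
      have hM' : ∀ pq : ℤ × ℤ, r + 1 ≤ pq.1 → Mono ((φ.hom (r + 1) (by omega)).f pq) := by
        intro pq hpq
        have hcomm := φ.comm r (r + 1) pq rfl hr
        have hMr : Mono ((φ.hom r hr).f pq) := hM pq (by omega)
        have hL : (E'.page r hr).d ((ComplexShape.up' (⟨r, 1 - r⟩ : ℤ × ℤ)).prev pq) pq = 0 := by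
          by_cases hrel : (ComplexShape.up' (⟨r, 1 - r⟩ : ℤ × ℤ)).Rel
              ((ComplexShape.up' (⟨r, 1 - r⟩ : ℤ × ℤ)).prev pq) pq
          · have hpq' : (ComplexShape.up' (⟨r, 1 - r⟩ : ℤ × ℤ)).prev pq + (r, 1 - r) = pq := hrel
            have hne : ((ComplexShape.up' (⟨r, 1 - r⟩ : ℤ × ℤ)).prev pq).1 ≠ 0 := by
              have := congrArg Prod.fst hpq'
              simp only [Prod.fst_add] at this
              omega
            have h0 := hd' r hr _ hne
            rw [hpq'] at h0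
            exact h0
          · exact (E'.page r hr).shape _ _ hrel
        have hmono' : Mono (HomologicalComplex.homologyMap (φ.hom r hr) pq) :=
          Groth.Agent.Helper9.SpSeqMono.mono_homologyMap (φ.hom r hr) pq (hDr _ _) hL
        have heq : (φ.hom (r + 1) (by omega)).f pq =
            (E.iso r (r + 1) pq rfl hr).inv ≫ HomologicalComplex.homologyMap (φ.hom r hr) pq ≫
              (E'.iso r (r + 1) pq rfl hr).hom := by
          rw [hcomm, Iso.inv_hom_id_assoc]
        rw [heq]
        infer_instance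
      exact ⟨hZ', hM', hD (r + 1) (by omega) hZ' hM'⟩
  refine ⟨le_rfl, ?_⟩
  intro r' h₀ _ pq pq'
  exact (key r' h₀).2.2 pq pq'

end Groth.Agent.S19323
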