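import Groth.Statements.S19326
import Mathlib
import Groth.Agent.Helper9.Diag
-- import your own Groth.Agent.* helpers here

set_option autoImplicit false
universe u
open TensorProduct
open GLin

namespace Groth.Agent.S19326

/-- Let k be a field, M a finite abelian group and D = Spec k[M] the finite diagonalizable group scheme
it defines, acting on an affine k-scheme U = Spec R through a multiplicative coaction R → R ⊗ k[M];
write R_a for the weight space of a ∈ M (elements with coaction f ⊗ a). For an ideal J of R the
induced action of D on the closed subscheme V(J) is trivial, meaning that the coaction followed by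
reduction modulo J equals f ↦ (f mod J) ⊗ 1, exactly when J contains the ideal generated by the
weight spaces R_a for a ≠ 0; in other words that ideal defines the largest closed subscheme of U on
which D acts trivially. (The printed setting has U smooth, which plays no role here and is not
assumed; the further assertion that the construction commutes with flat base change on U/D is not
part of this statement.) -/
theorem result
    {k : Type u} [Field k] {M : Type u} [AddCommGroup M] [Finite M]
    {R : Type u} [CommRing R] [Algebra k R] [HopfRep.Comod k (AddMonoidAlgebra k M) R]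
    [GLin.IsCoactAlg k (AddMonoidAlgebra k M) R] (J : Ideal R) :
    (∀ f : R, LinearMap.rTensor (AddMonoidAlgebra k M) (Ideal.Quotient.mkₐ k J).toLinearMap
        (HopfRep.Comod.coact (k := k) (A := AddMonoidAlgebra k M) f) =
        (Ideal.Quotient.mk J f) ⊗ₜ[k] (1 : AddMonoidAlgebra k M)) ↔
      Ideal.span (⋃ (a : M) (_ : a ≠ 0),
        (HopfRep.eigenspace k (AddMonoidAlgebra k M) R (AddMonoidAlgebra.single a 1) : Set R)) ≤ J := by
  classical
  have : Fintype M := Fintype.ofFinite M
  open Groth.Agent.Helper9.Diag in
  constructor
  · intro h
    rw [Ideal.span_le]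
    intro f hf
    simp only [Set.mem_iUnion] at hf
    obtain ⟨a, ha, hfa⟩ := hf
    have hfa' : HopfRep.Comod.coact (k := k) (A := AddMonoidAlgebra k M) f =
        f ⊗ₜ[k] (AddMonoidAlgebra.single a (1 : k)) := hfa
    have h1 := h f
    rw [hfa', LinearMap.rTensor_tmul] at h1
    have h2 := congrArg (fun z => TensorProduct.rid k (R ⧸ J) ((ee a).lTensor (R ⧸ J) z)) h1
    simp only [LinearMap.lTensor_tmul, TensorProduct.rid_tmul, AddMonoidAlgebra.one_def,
      ee_single] at h2
    rw [if_pos trivial, if_neg (Ne.symm ha), one_smul, zero_smul] at h2
    exact Ideal.Quotient.eq_zero_iff_mem.mp h2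
  · intro h f
    have hJ : ∀ a : M, a ≠ 0 → comp k a f ∈ J := by
      intro a ha
      apply h
      apply Ideal.subset_span
      simp only [Set.mem_iUnion]
      exact ⟨a, ha, comp_mem a f⟩
    rw [coact_expand f, map_sum]
    have h0 : ∀ a ∈ Finset.univ, a ≠ (0 : M) →
        LinearMap.rTensor (AddMonoidAlgebra k M) (Ideal.Quotient.mkₐ k J).toLinearMap
          (comp k a f ⊗ₜ[k] (AddMonoidAlgebra.single a (1 : k))) = 0 := by
      intro a _ ha
      rw [LinearMap.rTensor_tmul]
      have : (Ideal.Quotient.mkₐ k J).toLinearMap (comp k a f) = 0 :=
        Ideal.Quotient.eq_zero_iff_mem.mpr (hJ a ha)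
      rw [this, TensorProduct.zero_tmul]
    rw [Finset.sum_eq_single (0 : M) h0 (fun h => absurd (Finset.mem_univ _) h)]
    rw [LinearMap.rTensor_tmul, AddMonoidAlgebra.one_def]
    congr 1
    have hs : (Ideal.Quotient.mk J) f = ∑ a : M, (Ideal.Quotient.mk J) (comp k a f) := by
      rw [← map_sum, sum_comp (k := k) f]
    rw [hs]
    symm
    apply Finset.sum_eq_single (0 : M)
    · intro a _ ha
      exact Ideal.Quotient.eq_zero_iff_mem.mpr (hJ a ha)
    · intro h; exact absurd (Finset.mem_univ _) h

end Groth.Agent.S19326
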