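import Groth.Statements.S19328
import Mathlib
import Groth.Agent.Helper9.MonicCover
-- import your own Groth.Agent.* helpers here

set_option autoImplicit false
universe u
open CategoryTheory CategoryTheory.Limits AlgebraicGeometry
open ModPair

namespace Groth.Agent.S19328

open Polynomial in
theorem exists_monic_lift {A : Type u} [CommRing A] (p : Ideal A) [p.IsPrime]
    (f : p.ResidueField[X]) (hmonic : f.Monic) :
    ∃ (F : A[X]) (s : A), F.Monic ∧ F.natDegree = f.natDegree ∧ algebraMap A p.ResidueField s ≠ 0 ∧
      F.map (algebraMap A p.ResidueField) = scaleRoots f (algebraMap A p.ResidueField s) := by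
  classical
  obtain ⟨b, hb⟩ := IsLocalization.exist_integer_multiples_of_finset (nonZeroDivisors (A ⧸ p))
    ((Finset.range (f.natDegree + 1)).image f.coeff)
  obtain ⟨s, hs⟩ := Ideal.Quotient.mk_surjective (b : A ⧸ p)
  have hsb : algebraMap A p.ResidueField s = algebraMap (A ⧸ p) p.ResidueField b := by
    rw [IsScalarTower.algebraMap_apply A (A ⧸ p) p.ResidueField, ← hs]
    rfl
  have hs0 : algebraMap A p.ResidueField s ≠ 0 := by
    rw [hsb]
    intro h0
    have := (IsFractionRing.injective (A ⧸ p) p.ResidueField) (h0.trans (map_zero _).symm)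
    exact nonZeroDivisors.coe_ne_zero b this
  have hcoef : ∀ i, ∃ a : A, algebraMap A p.ResidueField a =
      f.coeff i * algebraMap A p.ResidueField s := by
    intro i
    by_cases hi : i < f.natDegree + 1
    · obtain ⟨d, hd⟩ := hb (f.coeff i) (Finset.mem_image_of_mem _ (Finset.mem_range.mpr hi))
      obtain ⟨a, ha⟩ := Ideal.Quotient.mk_surjective d
      refine ⟨a, ?_⟩
      rw [IsScalarTower.algebraMap_apply A (A ⧸ p) p.ResidueField, hsb]
      have : algebraMap A (A ⧸ p) a = d := ha
      rw [this, hd, Algebra.smul_def, mul_comm]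
    · refine ⟨0, ?_⟩
      rw [Polynomial.coeff_eq_zero_of_natDegree_lt (by omega), zero_mul, map_zero]
  have hlifts : scaleRoots f (algebraMap A p.ResidueField s) ∈
      Polynomial.lifts (algebraMap A p.ResidueField) := by
    rw [Polynomial.lifts_iff_coeff_lifts]
    intro i
    rw [coeff_scaleRoots]
    rcases lt_trichotomy i f.natDegree with hi | hi | hi
    · obtain ⟨a, ha⟩ := hcoef i
      refine ⟨a * s ^ (f.natDegree - i - 1), ?_⟩
      rw [map_mul, map_pow, ha, mul_assoc, ← pow_succ']
      congr 2
      omega
    · refine ⟨1, ?_⟩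
      rw [hi, Nat.sub_self, pow_zero, mul_one, map_one]
      exact hmonic.symm
    · refine ⟨0, ?_⟩
      rw [Polynomial.coeff_eq_zero_of_natDegree_lt hi, zero_mul, map_zero]
  obtain ⟨F, hFmap, hFdeg, hFmonic⟩ := Polynomial.lifts_and_natDegree_eq_and_monic hlifts
    ((monic_scaleRoots_iff _).mpr hmonic)
  exact ⟨F, s, hFmonic, hFdeg.trans (natDegree_scaleRoots _ _), hs0, hFmap⟩

/-- Let A be a commutative ring such that Spec A is local for fppf coverings, in the sense that for
every scheme X, every jointly surjective family of morphisms to X each of which is flat and of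
finite presentation (locally of finite presentation, quasi-compact and quasi-separated), and every
morphism Spec A ⟶ X, the morphism factors through a member of the family. Then the residue field of
A at every prime ideal is algebraically closed. -/
theorem result (A : Type u) [CommRing A]
    (hloc : ∀ (X : Scheme.{u}) (R : Presieve X),
      R ∈ Scheme.precoverage (@Flat ⊓ @LocallyOfFinitePresentation ⊓ @QuasiCompact ⊓ @QuasiSeparated) X →
      ∀ g : Spec (CommRingCat.of A) ⟶ X,
        ∃ (Y : Scheme.{u}) (v : Y ⟶ X) (h : Spec (CommRingCat.of A) ⟶ Y), R v ∧ h ≫ v = g)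
    (p : Ideal A) [p.IsPrime] : IsAlgClosed p.ResidueField := by
  refine IsAlgClosed.of_exists_root _ (fun f hmonic hirr => ?_)
  obtain ⟨F, s, hFmonic, hFdeg, hs0, hFmap⟩ := exists_monic_lift p f hmonic
  have hn : 0 < F.natDegree := hFdeg ▸ hirr.natDegree_pos
  have hmem : Presieve.singleton (Groth.Agent.Helper9.MonicCover.cov F) ∈
      Scheme.precoverage (@Flat ⊓ @LocallyOfFinitePresentation ⊓ @QuasiCompact ⊓ @QuasiSeparated)
        (Spec (CommRingCat.of A)) := by
    rw [Scheme.singleton_mem_precoverage_iff]
    refine ⟨Groth.Agent.Helper9.MonicCover.surjective_cov F hFmonic hn,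
      ⟨⟨⟨Groth.Agent.Helper9.MonicCover.flat_cov F hFmonic,
        Groth.Agent.Helper9.MonicCover.lofp_cov F⟩, ?_⟩, ?_⟩⟩
    · change QuasiCompact (Spec.map _)
      infer_instance
    · change QuasiSeparated (Spec.map _)
      infer_instance
  obtain ⟨Y, v, h, hRv, hv⟩ := hloc _ _ hmem (𝟙 _)
  obtain ⟨⟩ := hRv
  obtain ⟨r, hr⟩ := Groth.Agent.Helper9.MonicCover.exists_root_of_section F h hv
  refine ⟨algebraMap A p.ResidueField r / algebraMap A p.ResidueField s, ?_⟩
  have h1 : (Polynomial.scaleRoots f (algebraMap A p.ResidueField s)).eval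
      (algebraMap A p.ResidueField r) = 0 := by
    rw [← hFmap, Polynomial.eval_map_algebraMap, Polynomial.aeval_algebraMap_apply,
      Polynomial.coe_aeval_eq_eval, hr, map_zero]
  have h2 := Polynomial.scaleRoots_eval_mul f
    (algebraMap A p.ResidueField r / algebraMap A p.ResidueField s) (algebraMap A p.ResidueField s)
  rw [mul_div_cancel₀ _ hs0, h1] at h2
  exact (mul_eq_zero.mp h2.symm).resolve_left (pow_ne_zero _ hs0)

end Groth.Agent.S19328
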