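import Groth.Statements.S19330
import Groth.Agent.Helper4.NApx15
import Mathlib

set_option autoImplicit false
universe u
open CategoryTheory CategoryTheory.Limits AlgebraicGeometry TopologicalSpace
open ModPair

namespace Groth.Agent.S19330


/-- Let (S, I) be a modulus pair, i.e. a scheme with the quasi-coherent ideal sheaf of an effective
Cartier divisor, with interior U, and let g_i : V_i ⟶ U be a jointly surjective family of closed
immersions into the interior. Let V̄_i be the scheme-theoretic image of V_i ⟶ U ⟶ S. Then the closed
immersions V̄_i ⟶ S are jointly surjective, the modulus restricted to each V̄_i is again the ideal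
sheaf of an effective Cartier divisor (so that V̄_i ⟶ S is a minimal morphism of modulus pairs), and
the interior of V̄_i is V_i: the canonical morphism V_i ⟶ V̄_i is an open immersion whose image is
the preimage of U. -/
theorem result {S : Scheme.{u}} (I : S.IdealSheafData)
    (hI : BlowUp.IsEffCartierIdeal I) {ι : Type u} (V : ι → Scheme.{u})
    (g : ∀ i, V i ⟶ (ModPair.interior I : Scheme.{u})) [∀ i, IsClosedImmersion (g i)]
    (hsurj : ∀ u : (ModPair.interior I : Scheme.{u}), ∃ (i : ι) (v : V i), (g i).base v = u) :
    (∀ s : S, ∃ (i : ι) (v : (g i ≫ (ModPair.interior I).ι).image),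
        (g i ≫ (ModPair.interior I).ι).imageι.base v = s) ∧
      (∀ i, BlowUp.IsEffCartierIdeal (I.comap (g i ≫ (ModPair.interior I).ι).imageι)) ∧
      ∀ i, IsOpenImmersion (g i ≫ (ModPair.interior I).ι).toImage ∧
        Set.range (g i ≫ (ModPair.interior I).ι).toImage.base =
          (g i ≫ (ModPair.interior I).ι).imageι.base ⁻¹' (ModPair.interior I : Set S) := by

  haveI hqcU : QuasiCompact (ModPair.interior I).ι :=
    Groth.Agent.Helper4.NApx14.quasiCompact_interior_ι I hI
  -- range of imageι is the closure of the range
  have hrangeι : ∀ i, Set.range (g i ≫ (ModPair.interior I).ι).imageι =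
      closure (Set.range (g i ≫ (ModPair.interior I).ι)) := fun i => by
    rw [Scheme.Hom.imageι, Scheme.IdealSheafData.range_subschemeι, Scheme.Hom.support_ker]
  -- range of toImage
  have hrange : ∀ i, Set.range (g i ≫ (ModPair.interior I).ι).toImage.base =
      (g i ≫ (ModPair.interior I).ι).imageι.base ⁻¹' (ModPair.interior I : Set S) := fun i => by
    ext y
    constructor
    · rintro ⟨v, rfl⟩
      show (g i ≫ (ModPair.interior I).ι).imageι ((g i ≫ (ModPair.interior I).ι).toImage v) ∈
        ModPair.interior I
      rw [← Scheme.Hom.comp_apply, Scheme.Hom.toImage_imageι, Scheme.Hom.comp_apply]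
      exact ((g i) v).2
    · intro hy
      have hy' : (g i ≫ (ModPair.interior I).ι).imageι y ∈ ModPair.interior I := hy
      have h1 : (g i ≫ (ModPair.interior I).ι).imageι y ∈
          closure (Set.range (g i ≫ (ModPair.interior I).ι)) := by
        rw [← hrangeι i]; exact ⟨y, rfl⟩
      have hC : IsClosed (Set.range (g i)) := (g i).isClosedEmbedding.isClosed_range
      have h2 : Set.range (g i ≫ (ModPair.interior I).ι) =
          (ModPair.interior I).ι '' Set.range (g i) := by
        rw [← Set.range_comp]; rfl
      have h3 : (⟨_, hy'⟩ : (ModPair.interior I : Scheme.{u})) ∈ closure (Set.range (g i)) := by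
        rw [(ModPair.interior I).ι.isOpenEmbedding.isInducing.closure_eq_preimage_closure_image,
          ← h2]
        exact h1
      rw [hC.closure_eq] at h3
      obtain ⟨v, hv⟩ := h3
      refine ⟨v, ?_⟩
      apply (g i ≫ (ModPair.interior I).ι).imageι.isClosedEmbedding.injective
      show (g i ≫ (ModPair.interior I).ι).imageι ((g i ≫ (ModPair.interior I).ι).toImage v) = _
      rw [← Scheme.Hom.comp_apply, Scheme.Hom.toImage_imageι, Scheme.Hom.comp_apply, hv]
      rfl
  refine ⟨?_, ?_, fun i => ⟨inferInstance, hrange i⟩⟩
  · intro s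
    obtain ⟨u, hu, hus⟩ := Groth.Agent.Helper4.NApx15.exists_specializes_interior I hI s
    obtain ⟨i, v, hv⟩ := hsurj ⟨u, hu⟩
    have h1 : s ∈ Set.range (g i ≫ (ModPair.interior I).ι).imageι := by
      rw [hrangeι i]
      have h2 : u ∈ Set.range (g i ≫ (ModPair.interior I).ι) := by
        refine ⟨v, ?_⟩
        rw [Scheme.Hom.comp_apply]
        show (ModPair.interior I).ι ((g i).base v) = u
        rw [hv]
        rfl
      exact hus.mem_closed isClosed_closure (subset_closure h2)
    obtain ⟨y, hy⟩ := h1
    exact ⟨i, y, hy⟩
  · intro i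
    set h := g i ≫ (ModPair.interior I).ι with hh
    haveI : IsSchemeTheoreticallyDominant h.toImage :=
      Groth.Agent.Helper4.NApx15.isSchemeTheoreticallyDominant_toImage h
    let e := IsOpenImmersion.isoOfRangeEq h.toImage (h.imageι ⁻¹ᵁ ModPair.interior I).ι
      (by rw [Scheme.Opens.range_ι]; exact hrange i)
    have he : e.hom ≫ (h.imageι ⁻¹ᵁ ModPair.interior I).ι = h.toImage :=
      IsOpenImmersion.isoOfRangeEq_hom_fac _ _ _
    haveI : IsSchemeTheoreticallyDominant (h.imageι ⁻¹ᵁ ModPair.interior I).ι := by
      have : (h.imageι ⁻¹ᵁ ModPair.interior I).ι = e.inv ≫ h.toImage := by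
        rw [← he, Iso.inv_hom_id_assoc]
      rw [this]
      infer_instance
    exact Groth.Agent.Helper4.NApx14.isEffCartierIdeal_comap I hI h.imageι

end Groth.Agent.S19330
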