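import Groth.Statements.S19331
import Groth.Agent.Helper4.NApx13
import Mathlib

set_option autoImplicit false
universe u
open CategoryTheory CategoryTheory.Limits AlgebraicGeometry TopologicalSpace
open ModPair

namespace Groth.Agent.S19331


/-- Let (S, I) be a modulus pair, i.e. a scheme with the quasi-coherent ideal sheaf of an effective
Cartier divisor, with S quasi-compact and quasi-separated and with interior U, and let t₀ : T₀ ⟶ U
be a finite surjective morphism. Then there are a finite surjective morphism t : T ⟶ S such that the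
pulled-back modulus I.comap t is again the ideal sheaf of an effective Cartier divisor, making T ⟶ S
a minimal morphism of modulus pairs, and an open immersion j : T₀ ⟶ T with image t⁻¹(U) and j ≫ t =
t₀ ≫ (U ⟶ S), so that t₀ is the interior of t. -/
theorem result {S : Scheme.{u}}
    [CompactSpace S] [QuasiSeparatedSpace S] (I : S.IdealSheafData)
    (hI : BlowUp.IsEffCartierIdeal I) {T₀ : Scheme.{u}}
    (t₀ : T₀ ⟶ (ModPair.interior I : Scheme.{u})) [IsFinite t₀] [Surjective t₀] :
    ∃ (T : Scheme.{u}) (t : T ⟶ S) (j : T₀ ⟶ T), IsFinite t ∧ Surjective t ∧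
      BlowUp.IsEffCartierIdeal (I.comap t) ∧ IsOpenImmersion j ∧
      Set.range j.base = t.base ⁻¹' (ModPair.interior I : Set S) ∧
      j ≫ t = t₀ ≫ (ModPair.interior I).ι := by

  have hUc : IsCompact ((ModPair.interior I : S.Opens) : Set S) :=
    Groth.Agent.Helper4.NApx13.isCompact_interior I hI
  obtain ⟨T, π, i, hπ, hi, hpb, hrange, hinj⟩ :=
    Groth.Agent.Helper4.NApx12.exists_finite_extension (ModPair.interior I) hUc t₀
  haveI := hπ
  haveI := hi
  have hfac : i ≫ π = t₀ ≫ (ModPair.interior I).ι := hpb.w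
  have hmem : ∀ y : T₀, π (i y) ∈ ModPair.interior I := fun y => by
    rw [← Scheme.Hom.comp_apply, hfac, Scheme.Hom.comp_apply]
    exact (t₀ y).2
  refine ⟨T, π, i, hπ, ?_, ?_, hi, hrange, hfac⟩
  · constructor
    have hcl : IsClosed (Set.range π) := π.isClosedMap.isClosed_range
    have hsub : ((ModPair.interior I : S.Opens) : Set S) ⊆ Set.range π := by
      intro x hx
      obtain ⟨y, hy⟩ := t₀.surjective ⟨x, hx⟩
      refine ⟨i y, ?_⟩
      rw [← Scheme.Hom.comp_apply, hfac, Scheme.Hom.comp_apply, hy]
      rfl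
    have h1 : Set.range π = Set.univ := by
      apply Set.eq_univ_of_univ_subset
      rw [← (Groth.Agent.Helper4.NApx13.dense_interior I hI).closure_eq]
      exact (hcl.closure_subset_iff).mpr hsub
    intro x
    have : x ∈ Set.range π := by rw [h1]; trivial
    exact this
  · intro y
    obtain ⟨W, hxW, a, ha, hIa⟩ := hI (π y)
    have hWT : IsAffineOpen (π ⁻¹ᵁ W.1) := W.2.preimage π
    refine ⟨⟨π ⁻¹ᵁ W.1, hWT⟩, hxW, (π.app W.1).hom a, ?_, ?_⟩
    · -- nonzerodivisor
      have hunit : IsUnit ((i.app (π ⁻¹ᵁ W.1)).hom ((π.app W.1).hom a)) := by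
        apply RingedSpace.isUnit_of_isUnit_germ
        intro x hx
        have hx' : π (i x) ∈ W.1 := hx
        have h2 : x ∈ T₀.basicOpen ((i.app (π ⁻¹ᵁ W.1)).hom ((π.app W.1).hom a)) := by
          rw [← Scheme.Hom.preimage_basicOpen, ← Scheme.Hom.preimage_basicOpen]
          show π (i x) ∈ S.basicOpen a
          have : π (i x) ∈ ((ModPair.interior I : S.Opens) : Set S) ∩ (W.1 : Set S) :=
            ⟨hmem x, hx'⟩
          rw [Groth.Agent.Helper4.NApx13.interior_inter I W a hIa] at this
          exact this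
        exact (Scheme.mem_basicOpen _ _ _ hx).mp h2
      rw [mem_nonZeroDivisors_iff_right]
      intro z hz
      apply hinj W
      rw [map_zero]
      have h3 := congrArg (i.app (π ⁻¹ᵁ W.1)).hom hz
      rw [map_mul, map_zero] at h3
      exact hunit.mul_left_eq_zero.mp h3
    · rw [Groth.Agent.Helper9.IdealComap.ideal_comap π I W ⟨π ⁻¹ᵁ W.1, hWT⟩ le_rfl, hIa,
        Ideal.map_span, Set.image_singleton, ← Scheme.Hom.app_eq_appLE]

end Groth.Agent.S19331
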