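import Groth.Statements.S19333
import Mathlib
-- import your own Groth.Agent.* helpers here

set_option autoImplicit false
universe u
open ModPair

namespace Groth.Agent.S19333

/-- Let A → B be any homomorphism of commutative rings. An element x of B is integral over A if and only
if for every field K, every valuation subring R of K and every ring homomorphism φ : B → K which
sends the image of A into R, the element φ(x) lies in R. In other words the integral closure of A in
B is the intersection of the subrings R ×_K B taken over all commutative squares A → R ⊆ K ← B with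
R a valuation ring of the field K. -/
theorem result {A B : Type u} [CommRing A]
    [CommRing B] [Algebra A B] (x : B) :
    x ∈ integralClosure A B ↔
      ∀ (K : Type u) [Field K] (R : ValuationSubring K) (φ : B →+* K),
        (∀ a : A, φ (algebraMap A B a) ∈ R) → φ x ∈ R := by
  classical
  constructor
  · -- integral elements map into every valuation ring
    intro hx K _ R φ hφ
    obtain ⟨p, hpm, hp⟩ := (hx : IsIntegral A x)
    let f : A →+* K := φ.comp (algebraMap A B)
    let ψ : A →+* R := f.codRestrict R.toSubring (fun a => hφ a)
    have hint : IsIntegral R (φ x) := by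
      refine ⟨p.map ψ, hpm.map ψ, ?_⟩
      rw [Polynomial.eval₂_map]
      have h1 : (algebraMap R K).comp ψ = f := by
        ext a
        rfl
      rw [h1]
      have h2 : Polynomial.eval₂ f (φ x) p = φ (Polynomial.eval₂ (algebraMap A B) x p) :=
        (Polynomial.hom_eval₂ p (algebraMap A B) φ x).symm
      rw [h2, hp, map_zero]
    obtain ⟨y, hy⟩ := (IsIntegrallyClosed.isIntegral_iff (R := R) (K := K)).mp hint
    rw [← hy]
    exact y.2
  · intro h
    -- the multiplicative set of monic evaluations
    let S : Submonoid B :=
      { carrier := {b | ∃ p : Polynomial A, p.Monic ∧ Polynomial.aeval x p = b}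
        one_mem' := ⟨1, Polynomial.monic_one, by simp⟩
        mul_mem' := by
          rintro _ _ ⟨p, hp, rfl⟩ ⟨q, hq, rfl⟩
          exact ⟨p * q, hp.mul hq, by simp⟩ }
    by_contra hx
    have hdisj : Disjoint ((⊥ : Ideal B) : Set B) (S : Set B) := by
      rw [Set.disjoint_left]
      rintro b hb ⟨p, hp, rfl⟩
      apply hx
      exact ⟨p, hp, by rw [← Polynomial.aeval_def]; exact hb⟩
    obtain ⟨q, hq, -, hqS⟩ := Ideal.exists_le_prime_disjoint (⊥ : Ideal B) S hdisj
    let K := FractionRing (B ⧸ q)
    let φ : B →+* K := (algebraMap (B ⧸ q) K).comp (Ideal.Quotient.mk q)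
    let f : A →+* K := φ.comp (algebraMap A B)
    have hmem : φ x ∈ (⨅ V : {V : ValuationSubring K // (f.range : Set K) ⊆ V.toSubring}, V.1.toSubring) := by
      rw [Subring.mem_iInf]
      rintro ⟨V, hV⟩
      exact h K V φ (fun a => hV ⟨a, rfl⟩)
    rw [iInf_valuationSubring_superset, Subring.closure_eq] at hmem
    obtain ⟨p, hpm, hp⟩ := (hmem : IsIntegral f.range (φ x))
    have hsurj : Function.Surjective f.rangeRestrict := f.rangeRestrict_surjective
    have hlift : p ∈ Polynomial.lifts f.rangeRestrict := by
      rw [Polynomial.mem_lifts]
      exact Polynomial.map_surjective _ hsurj p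
    obtain ⟨p', hp', -, hp'm⟩ := Polynomial.lifts_and_natDegree_eq_and_monic hlift hpm
    have h0 : φ (Polynomial.aeval x p') = 0 := by
      rw [Polynomial.aeval_def, Polynomial.hom_eval₂]
      rw [← hp', Polynomial.eval₂_map] at hp
      exact hp
    have hq' : Polynomial.aeval x p' ∈ q := by
      rw [← Ideal.Quotient.eq_zero_iff_mem]
      exact (IsFractionRing.injective (B ⧸ q) K) (by rw [map_zero]; exact h0)
    exact Set.disjoint_left.mp hqS hq' ⟨p', hp'm, rfl⟩

end Groth.Agent.S19333
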