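import Groth.Statements.S19334
import Mathlib
import Groth.Agent.Helper9.IdealComap
-- import your own Groth.Agent.* helpers here

set_option autoImplicit false
universe u
open CategoryTheory CategoryTheory.Limits AlgebraicGeometry TopologicalSpace
open ModPair

namespace Groth.Agent.S19334

theorem exists_valuationRing_of_nzd {R₀ : Type u} [CommRing R₀] [IsLocalRing R₀] (g₀ : R₀)
    (hg : g₀ ∈ nonZeroDivisors R₀) :
    ∃ (A : Type u) (_ : CommRing A) (_ : IsDomain A) (_ : ValuationRing A) (φ : R₀ →+* A),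
      IsLocalHom φ ∧ φ g₀ ≠ 0 := by
  have hnil : ¬ IsNilpotent g₀ := by
    rintro ⟨n, hn⟩
    have h1 : g₀ ^ n ∈ nonZeroDivisors R₀ := pow_mem hg n
    rw [hn] at h1
    exact zero_notMem_nonZeroDivisors h1
  have h2 : g₀ ∉ nilradical R₀ := hnil
  rw [nilradical_eq_sInf, Ideal.mem_sInf] at h2
  push Not at h2
  obtain ⟨𝔮, h𝔮, hg𝔮⟩ := h2
  have : 𝔮.IsPrime := h𝔮
  let K := FractionRing (R₀ ⧸ 𝔮)
  let f₀ : R₀ →+* K := (algebraMap (R₀ ⧸ 𝔮) K).comp (Ideal.Quotient.mk 𝔮)
  obtain ⟨A, hA, hloc⟩ := IsLocalRing.exists_factor_valuationRing f₀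
  refine ⟨A, inferInstance, inferInstance, inferInstance, f₀.codRestrict A.toSubring hA, hloc, ?_⟩
  intro h0
  have h3 : f₀ g₀ = 0 := congrArg Subtype.val h0
  have h4 : (Ideal.Quotient.mk 𝔮) g₀ = 0 :=
    (IsFractionRing.injective (R₀ ⧸ 𝔮) K) (h3.trans (map_zero _).symm)
  exact hg𝔮 (Ideal.Quotient.eq_zero_iff_mem.mp h4)

/-- Let (X, I) be a modulus pair, i.e. a scheme X with the quasi-coherent ideal sheaf I of an effective
Cartier divisor. Suppose that for every valuation ring R and every morphism p : Spec R ⟶ X along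
which the divisor of I pulls back to an effective Cartier divisor on Spec R (so that p is a minimal
morphism of modulus pairs for the pulled-back modulus), the pulled-back divisor is empty, I.comap p
= ⊤. Then the divisor of I is empty: I = ⊤. -/
theorem result {X : Scheme.{u}}
    (I : X.IdealSheafData) (hI : BlowUp.IsEffCartierIdeal I)
    (h : ∀ (R : Type u) [CommRing R] [IsDomain R] [ValuationRing R]
      (p : Spec (CommRingCat.of R) ⟶ X), BlowUp.IsEffCartierIdeal (I.comap p) → I.comap p = ⊤) :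
    I = ⊤ := by
  rw [← Scheme.IdealSheafData.support_eq_bot_iff]
  by_contra hne
  obtain ⟨x, hx⟩ : ∃ x, x ∈ I.support := by
    by_contra hcon
    push Not at hcon
    apply hne
    apply TopologicalSpace.Closeds.ext
    ext y
    simp only [TopologicalSpace.Closeds.coe_bot, Set.mem_empty_iff_false, iff_false]
    exact hcon y
  obtain ⟨U, hxU, g, hg, hIU⟩ := hI x
  have hgx : ¬ IsUnit (X.presheaf.germ U.1 x hxU g) := by
    have h1 := (Scheme.IdealSheafData.mem_support_iff_of_mem hxU).mp hx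
    rw [hIU, Scheme.zeroLocus_span, Scheme.zeroLocus_singleton] at h1
    intro hu
    exact h1 ((X.mem_basicOpen g x hxU).mpr hu)
  have hgnzd : X.presheaf.germ U.1 x hxU g ∈ nonZeroDivisors (X.presheaf.stalk x) := by
    letI := TopCat.Presheaf.algebra_section_stalk X.presheaf (⟨x, hxU⟩ : U.1)
    have := U.2.isLocalization_stalk ⟨x, hxU⟩
    exact IsLocalization.map_nonZeroDivisors_le (U.2.primeIdealOf ⟨x, hxU⟩).asIdeal.primeCompl
      (X.presheaf.stalk x) ⟨g, hg, rfl⟩
  obtain ⟨A, _, _, _, φ, hφloc, hφg⟩ := exists_valuationRing_of_nzd _ hgnzd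
  let p : Spec (CommRingCat.of A) ⟶ X := Spec.map (CommRingCat.ofHom φ) ≫ X.fromSpecStalk x
  have hpU : p ⁻¹ᵁ U.1 = ⊤ := by
    rw [eq_top_iff]
    intro y _
    change p y ∈ U.1
    have h1 : (X.fromSpecStalk x) ((Spec.map (CommRingCat.ofHom φ)) y) ∈
        Set.range (X.fromSpecStalk x) := ⟨_, rfl⟩
    rw [Scheme.range_fromSpecStalk] at h1
    exact h1.mem_open U.1.isOpen hxU
  have hWaff : IsAffineOpen (p ⁻¹ᵁ U.1) := hpU ▸ isAffineOpen_top _
  have hcomap : (I.comap p).ideal ⟨p ⁻¹ᵁ U.1, hWaff⟩ = Ideal.span {(p.app U.1).hom g} := by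
    rw [Groth.Agent.Helper9.IdealComap.ideal_comap p I U ⟨p ⁻¹ᵁ U.1, hWaff⟩ le_rfl, hIU,
      Ideal.map_span, Set.image_singleton, ← Scheme.Hom.app_eq_appLE]
  have hformula : p.app U.1 = X.presheaf.germ U.1 x hxU ≫ CommRingCat.ofHom φ ≫
      (Scheme.ΓSpecIso (CommRingCat.of A)).inv ≫
      (Spec (CommRingCat.of A)).presheaf.map (homOfLE (le_top : p ⁻¹ᵁ U.1 ≤ ⊤)).op := by
    simp only [p, Scheme.Hom.comp_app, Scheme.fromSpecStalk_app hxU, Category.assoc]
    congr 1
    have h1 := (Spec.map (CommRingCat.ofHom φ)).naturality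
      (homOfLE (le_top : X.fromSpecStalk x ⁻¹ᵁ U.1 ≤ ⊤)).op
    have h2 := Scheme.ΓSpecIso_inv_naturality (CommRingCat.ofHom φ)
    refine (congrArg (fun t => (Scheme.ΓSpecIso (X.presheaf.stalk x)).inv ≫ t) h1).trans ?_
    refine (Category.assoc _ _ _).symm.trans ?_
    refine (congrArg (fun t => t ≫ (Spec (CommRingCat.of A)).presheaf.map
      ((TopologicalSpace.Opens.map (Spec.map (CommRingCat.ofHom φ)).base).map
        (homOfLE (le_top : X.fromSpecStalk x ⁻¹ᵁ U.1 ≤ ⊤)).op.unop).op) h2.symm).trans ?_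
    exact Category.assoc _ _ _
  let θ' : CommRingCat.of A ⟶ Γ(Spec (CommRingCat.of A), p ⁻¹ᵁ U.1) :=
    (Scheme.ΓSpecIso (CommRingCat.of A)).inv ≫
      (Spec (CommRingCat.of A)).presheaf.map (homOfLE (le_top : p ⁻¹ᵁ U.1 ≤ ⊤)).op
  have hθiso : IsIso θ' := by
    have key : ∀ (W : (Spec (CommRingCat.of A)).Opens) (hW : W = ⊤),
        IsIso ((Spec (CommRingCat.of A)).presheaf.map (homOfLE (le_top : W ≤ ⊤)).op) := by
      intro W hW
      subst hW
      have : (homOfLE (le_top : (⊤ : (Spec (CommRingCat.of A)).Opens) ≤ ⊤)) = 𝟙 _ := rfl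
      rw [this, op_id, CategoryTheory.Functor.map_id]
      infer_instance
    have := key _ hpU
    infer_instance
  have hθbij : Function.Bijective θ'.hom := ConcreteCategory.bijective_of_isIso θ'
  have hγ : (p.app U.1).hom g = θ'.hom (φ (X.presheaf.germ U.1 x hxU g)) := by
    rw [hformula]; rfl
  have hdom : IsDomain Γ(Spec (CommRingCat.of A), p ⁻¹ᵁ U.1) :=
    Function.Injective.isDomain (RingEquiv.ofBijective θ'.hom hθbij).symm.toRingHom
      (RingEquiv.ofBijective θ'.hom hθbij).symm.injective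
  have hcart : BlowUp.IsEffCartierIdeal (I.comap p) := by
    intro y
    refine ⟨⟨p ⁻¹ᵁ U.1, hWaff⟩, (show y ∈ p ⁻¹ᵁ U.1 from hpU.symm ▸ (trivial : y ∈ (⊤ : (Spec (CommRingCat.of A)).Opens))), (p.app U.1).hom g, ?_, hcomap⟩
    apply mem_nonZeroDivisors_of_ne_zero
    rw [hγ]
    intro h0
    exact hφg (hθbij.1 (h0.trans (map_zero _).symm))
  have htop := h A p hcart
  have h3 : (I.comap p).ideal ⟨p ⁻¹ᵁ U.1, hWaff⟩ = ⊤ := by rw [htop]; rfl
  rw [hcomap, Ideal.span_singleton_eq_top, hγ] at h3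
  have h4 : IsUnit (φ (X.presheaf.germ U.1 x hxU g)) :=
    (isUnit_map_iff (RingEquiv.ofBijective θ'.hom hθbij) _).mp h3
  exact hgx (hφloc.map_nonunit _ h4)

end Groth.Agent.S19334
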