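import Groth.Statements.S19335
import Mathlib
import Groth.Agent.Helper9.ValProbe
-- import your own Groth.Agent.* helpers here

set_option autoImplicit false
universe u
open CategoryTheory CategoryTheory.Limits AlgebraicGeometry TopologicalSpace
open ModPair

namespace Groth.Agent.S19335

theorem nzd_res {X : Scheme.{u}} (V : X.affineOpens) (g' : Γ(X, V.1)) (W : X.Opens)
    (hW : W = X.basicOpen g') (g : Γ(X, V.1)) (hg : g ∈ nonZeroDivisors Γ(X, V.1)) (hle : W ≤ V.1) :
    (X.presheaf.map (homOfLE hle).op).hom g ∈ nonZeroDivisors Γ(X, W) := by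
  subst hW
  have := V.2.isLocalization_basicOpen g'
  exact IsLocalization.map_nonZeroDivisors_le (Submonoid.powers g') Γ(X, X.basicOpen g') ⟨g, hg, rfl⟩

theorem nzd_germ {X : Scheme.{u}} (U : X.affineOpens) (x : X) (hxU : x ∈ U.1) (g : Γ(X, U.1))
    (hg : g ∈ nonZeroDivisors Γ(X, U.1)) :
    X.presheaf.germ U.1 x hxU g ∈ nonZeroDivisors (X.presheaf.stalk x) := by
  letI := TopCat.Presheaf.algebra_section_stalk X.presheaf (⟨x, hxU⟩ : U.1)
  have := U.2.isLocalization_stalk ⟨x, hxU⟩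
  exact IsLocalization.map_nonZeroDivisors_le (U.2.primeIdealOf ⟨x, hxU⟩).asIdeal.primeCompl
    (X.presheaf.stalk x) ⟨g, hg, rfl⟩

theorem key {X : Scheme.{u}} (I J : X.IdealSheafData)
    (hI : BlowUp.IsEffCartierIdeal I) (hJ : BlowUp.IsEffCartierIdeal J) (hJI : J ≤ I)
    (h : ∀ (R : Type u) [CommRing R] [IsDomain R] [ValuationRing R]
      (p : Spec (CommRingCat.of R) ⟶ X), BlowUp.IsEffCartierIdeal (I.comap p) →
        (∀ x : Spec (CommRingCat.of R),
          x ∈ (ModPair.interior (I.comap p) : Set (Spec (CommRingCat.of R))) ↔ x.asIdeal = ⊥) →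
        I.comap p = J.comap p) (x : X) :
    ∃ W : X.affineOpens, x ∈ W.1 ∧ I.ideal W = J.ideal W := by
  obtain ⟨U, hxU, f, hf, hIU⟩ := hI x
  obtain ⟨V, hxV, g, hg, hJV⟩ := hJ x
  obtain ⟨f', g', e, hxf'⟩ := exists_basicOpen_le_affine_inter U.2 V.2 x ⟨hxU, hxV⟩
  let W₀ : X.affineOpens := X.affineBasicOpen f'
  have hxW₀ : x ∈ W₀.1 := hxf'
  have hW₀U : W₀ ≤ U := X.basicOpen_le f'
  have hW₀V : W₀ ≤ V := fun y hy => X.basicOpen_le g' (e ▸ hy)
  let f₁ : Γ(X, W₀.1) := (X.presheaf.map (homOfLE hW₀U).op).hom f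
  let g₁ : Γ(X, W₀.1) := (X.presheaf.map (homOfLE hW₀V).op).hom g
  have hIW : I.ideal W₀ = Ideal.span {f₁} := by
    rw [← I.map_ideal hW₀U, hIU, Ideal.map_span, Set.image_singleton]
  have hJW : J.ideal W₀ = Ideal.span {g₁} := by
    rw [← J.map_ideal hW₀V, hJV, Ideal.map_span, Set.image_singleton]
  have hf₁ : f₁ ∈ nonZeroDivisors Γ(X, W₀.1) := nzd_res U f' W₀.1 rfl f hf hW₀U
  have hg₁f₁ : g₁ ∈ Ideal.span {f₁} := by
    rw [← hIW]
    apply hJI W₀
    rw [hJW]
    exact Ideal.mem_span_singleton_self g₁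
  obtain ⟨a, ha⟩ := Ideal.mem_span_singleton'.mp hg₁f₁
  have hau : IsUnit (X.presheaf.germ W₀.1 x hxW₀ a) := by
    have hfnzd := nzd_germ W₀ x hxW₀ f₁ hf₁
    have hnil : ¬ IsNilpotent (X.presheaf.germ W₀.1 x hxW₀ f₁) := by
      rintro ⟨n, hn⟩
      have h1 := pow_mem hfnzd n
      rw [hn] at h1
      exact zero_notMem_nonZeroDivisors h1
    obtain ⟨A, _, _, _, φ, hφloc, hφ0, hφP⟩ :=
      Groth.Agent.Helper9.ValProbe.exists_valuationRing_probe _ hnil
    let p : Spec (CommRingCat.of A) ⟶ X := Spec.map (CommRingCat.ofHom φ) ≫ X.fromSpecStalk x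
    obtain ⟨hWaff, θ, hpW, hθ, hbasic, hideal⟩ :=
      Groth.Agent.Helper9.ValProbe.probe x W₀ hxW₀ φ p rfl
    have hIc : (I.comap p).ideal ⟨_, hWaff⟩ =
        Ideal.span {θ (φ (X.presheaf.germ W₀.1 x hxW₀ f₁))} := by
      rw [hideal, hIW, Ideal.map_span, Set.image_singleton, hθ]
    have hJc : (J.comap p).ideal ⟨_, hWaff⟩ =
        Ideal.span {θ (φ (X.presheaf.germ W₀.1 x hxW₀ g₁))} := by
      rw [hideal, hJW, Ideal.map_span, Set.image_singleton, hθ]
    have hdom : IsDomain Γ(Spec (CommRingCat.of A), p ⁻¹ᵁ W₀.1) :=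
      Function.Injective.isDomain θ.symm.toRingHom θ.symm.injective
    have hall : ∀ y : Spec (CommRingCat.of A), y ∈ p ⁻¹ᵁ W₀.1 := by
      intro y
      exact hpW.symm ▸ (trivial : y ∈ (⊤ : (Spec (CommRingCat.of A)).Opens))
    have hcart : BlowUp.IsEffCartierIdeal (I.comap p) := by
      intro y
      refine ⟨⟨_, hWaff⟩, hall y, θ (φ (X.presheaf.germ W₀.1 x hxW₀ f₁)), ?_, hIc⟩
      apply mem_nonZeroDivisors_of_ne_zero
      intro h0
      exact hφ0 (θ.injective (h0.trans (map_zero θ).symm))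
    have hint : ∀ y : Spec (CommRingCat.of A),
        y ∈ (ModPair.interior (I.comap p) : Set (Spec (CommRingCat.of A))) ↔ y.asIdeal = ⊥ := by
      intro y
      change y ∈ (((I.comap p).support : Set _))ᶜ ↔ _
      rw [Set.mem_compl_iff, SetLike.mem_coe,
        Scheme.IdealSheafData.mem_support_iff_of_mem (U := ⟨_, hWaff⟩) (hall y), hIc,
        Scheme.zeroLocus_span, Scheme.zeroLocus_singleton, Set.mem_compl_iff, not_not,
        SetLike.mem_coe, hbasic]
      constructor
      · intro h1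
        by_contra hne
        exact h1 (hφP y.asIdeal y.isPrime hne)
      · intro h1 h2
        rw [h1] at h2
        exact hφ0 h2
    have heq := h A p hcart hint
    have h5 : Ideal.span {θ (φ (X.presheaf.germ W₀.1 x hxW₀ f₁))} =
        Ideal.span {θ (φ (X.presheaf.germ W₀.1 x hxW₀ g₁))} := by
      rw [← hIc, ← hJc, heq]
    have h6 : θ (φ (X.presheaf.germ W₀.1 x hxW₀ f₁)) ∈
        Ideal.span {θ (φ (X.presheaf.germ W₀.1 x hxW₀ g₁))} :=
      h5 ▸ Ideal.mem_span_singleton_self _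
    obtain ⟨c, hc⟩ := Ideal.mem_span_singleton'.mp h6
    have h7 : φ (X.presheaf.germ W₀.1 x hxW₀ g₁) =
        φ (X.presheaf.germ W₀.1 x hxW₀ a) * φ (X.presheaf.germ W₀.1 x hxW₀ f₁) := by
      rw [← ha, map_mul, map_mul]
    have h8 : (θ.symm c * φ (X.presheaf.germ W₀.1 x hxW₀ a)) *
        φ (X.presheaf.germ W₀.1 x hxW₀ f₁) = 1 * φ (X.presheaf.germ W₀.1 x hxW₀ f₁) := by
      apply θ.injective
      rw [one_mul, ← hc, h7]
      simp [mul_assoc]
    have h9 := mul_right_cancel₀ hφ0 h8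
    have h10 : IsUnit (φ (X.presheaf.germ W₀.1 x hxW₀ a)) :=
      IsUnit.of_mul_eq_one _ (by rw [mul_comm]; exact h9)
    exact hφloc.map_nonunit _ h10
  refine ⟨X.affineBasicOpen a, (X.mem_basicOpen a x hxW₀).mpr hau, ?_⟩
  rw [← I.map_ideal_basicOpen W₀ a, ← J.map_ideal_basicOpen W₀ a, hIW, hJW, Ideal.map_span,
    Ideal.map_span, Set.image_singleton, Set.image_singleton, ← ha, map_mul]
  have hunit : IsUnit ((X.presheaf.map (homOfLE (X.basicOpen_le a)).op).hom a) := by
    have := W₀.2.isLocalization_basicOpen a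
    exact IsLocalization.Away.algebraMap_isUnit a
  exact (Ideal.span_singleton_mul_left_unit hunit _).symm

/-- Let X be a scheme and I, J quasi-coherent ideal sheaves of effective Cartier divisors D_I ≤ D_J on
X, i.e. J ≤ I. Suppose that for every valuation ring R and every morphism p : Spec R ⟶ X such that
I.comap p is the ideal sheaf of an effective Cartier divisor on Spec R (so p is a minimal morphism
of modulus pairs for (X, I)) whose open complement consists of the generic point of Spec R only, the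
two divisors agree after pull-back, I.comap p = J.comap p. Then I = J. -/
theorem result {X : Scheme.{u}} (I J : X.IdealSheafData)
    (hI : BlowUp.IsEffCartierIdeal I) (hJ : BlowUp.IsEffCartierIdeal J) (hJI : J ≤ I)
    (h : ∀ (R : Type u) [CommRing R] [IsDomain R] [ValuationRing R]
      (p : Spec (CommRingCat.of R) ⟶ X), BlowUp.IsEffCartierIdeal (I.comap p) →
        (∀ x : Spec (CommRingCat.of R),
          x ∈ (ModPair.interior (I.comap p) : Set (Spec (CommRingCat.of R))) ↔ x.asIdeal = ⊥) →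
        I.comap p = J.comap p) :
    I = J := by
  exact Scheme.IdealSheafData.ext_of_iSup_eq_top (fun x => (key I J hI hJ hJI h x).choose)
    (eq_top_iff.mpr fun x _ => Opens.mem_iSup.mpr ⟨x, (key I J hI hJ hJI h x).choose_spec.1⟩)
    (fun x => (key I J hI hJ hJI h x).choose_spec.2)

end Groth.Agent.S19335
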