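import Groth.Statements.S19338
import Mathlib
-- import your own Groth.Agent.* helpers here

set_option autoImplicit false
universe w v u
open CategoryTheory
open ModPair

namespace Groth.Agent.S19338

/-- Let C be a category and S a class of morphisms which contains the identities, is closed under
composition, admits a right calculus of fractions, and consists of monomorphisms. Then the sieves
containing a morphism of S are the covering sieves of a Grothendieck topology on C, and for every
such topology J a presheaf of types F on C is a J-sheaf if and only if it is S-local, i.e. F sends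
every morphism of S to a bijection. -/
theorem result {C : Type u} [Category.{v} C]
    (S : MorphismProperty C) [S.HasRightCalculusOfFractions]
    (hmono : ∀ ⦃X Y : C⦄ (s : X ⟶ Y), S s → Mono s) :
    (∃ J : GrothendieckTopology C, ∀ (X : C) (T : Sieve X),
        T ∈ J X ↔ ∃ (Y : C) (s : Y ⟶ X), S s ∧ T s) ∧
      ∀ J : GrothendieckTopology C, (∀ (X : C) (T : Sieve X),
          T ∈ J X ↔ ∃ (Y : C) (s : Y ⟶ X), S s ∧ T s) →
        ∀ F : Cᵒᵖ ⥤ Type w,
          Presheaf.IsSheaf J F ↔ ∀ ⦃X Y : C⦄ (s : X ⟶ Y), S s → IsIso (F.map s.op) := by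
  constructor
  · refine ⟨{ sieves := fun X => {T | ∃ (Y : C) (s : Y ⟶ X), S s ∧ T s}
              top_mem' := fun X => ⟨X, 𝟙 X, S.id_mem X, trivial⟩
              pullback_stable' := ?_
              transitive' := ?_ }, fun X T => Iff.rfl⟩
    · rintro X X' T f ⟨Y, s, hs, hT⟩
      obtain ⟨φ, hφ⟩ := (MorphismProperty.LeftFraction.mk f s hs).exists_rightFraction
      refine ⟨φ.X', φ.s, φ.hs, ?_⟩
      change T (φ.s ≫ f)
      have : φ.s ≫ f = φ.f ≫ s := hφ
      rw [this]
      exact T.downward_closed hT _
    · rintro X T ⟨Y, s, hs, hT⟩ R hR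
      obtain ⟨Z, s', hs', hR'⟩ := hR hT
      exact ⟨Z, s' ≫ s, S.comp_mem _ _ hs' hs, hR'⟩
  · intro J hJ F
    rw [isSheaf_iff_isSheaf_of_type]
    constructor
    · intro hF X Y s hs
      have hmono := hmono s hs
      have hcov : Sieve.generate (Presieve.singleton s) ∈ J Y := by
        rw [hJ]
        exact ⟨X, s, hs, Sieve.le_generate _ _ _ (Presieve.singleton_self s)⟩
      have h1 := hF _ hcov
      rw [← Presieve.isSheafFor_iff_generate, Presieve.isSheafFor_singleton] at h1
      rw [isIso_iff_bijective]
      constructor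
      · intro a b hab
        obtain ⟨t, _, htu⟩ := h1 (F.map s.op a) (by
          intro Z p₁ p₂ h
          rw [(cancel_mono s).1 h])
        rw [htu a rfl, htu b hab.symm]
      · intro x
        obtain ⟨t, ht, _⟩ := h1 x (by
          intro Z p₁ p₂ h
          rw [(cancel_mono s).1 h])
        exact ⟨t, ht⟩
    · intro hF X T hT
      rw [hJ] at hT
      obtain ⟨Y, s, hs, hTs⟩ := hT
      intro x hx
      haveI := hF s hs
      have hbij := (isIso_iff_bijective (F.map s.op)).1 (hF s hs)
      obtain ⟨t, ht⟩ := hbij.2 (x s hTs)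
      refine ⟨t, ?_, ?_⟩
      · intro Z g hg
        obtain ⟨φ, hφ⟩ := (MorphismProperty.LeftFraction.mk g s hs).exists_rightFraction
        have hφ' : φ.s ≫ g = φ.f ≫ s := hφ
        have hinj := ((isIso_iff_bijective (F.map φ.s.op)).1 (hF φ.s φ.hs)).1
        apply hinj
        have e1 : F.map φ.s.op (F.map g.op t) = F.map φ.f.op (F.map s.op t) := by
          rw [← Functor.map_comp_apply, ← Functor.map_comp_apply, ← op_comp, ← op_comp, hφ']
        rw [e1, ht]
        exact hx φ.f φ.s hTs hg hφ'.symm
      · intro t' ht'
        apply hbij.1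
        rw [ht, ht' s hTs]

end Groth.Agent.S19338
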