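import Groth.Statements.S19340
import Mathlib
-- import your own Groth.Agent.* helpers here

set_option autoImplicit false
universe v v' u u'
open CategoryTheory
open ModPair

namespace Groth.Agent.S19340

/-- Let C be a category, S a class of morphisms of C containing the identities, closed under composition
and admitting a right calculus of fractions, and L : C ⥤ D a localization functor for S. Then for
every object X of C the comma category of L under X, whose objects are pairs (Y, L(X) ⟶ L(Y)) and
whose morphisms are morphisms Y ⟶ Y' of C compatible with the structure maps, is cofiltered. The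
published statement calls this category filtered; its proof verifies, and this row states,
cofilteredness. -/
theorem result {C : Type u}
    [Category.{v} C] {D : Type u'} [Category.{v'} D] (S : MorphismProperty C)
    [S.HasRightCalculusOfFractions] (L : C ⥤ D) [L.IsLocalization S] (X : C) :
    IsCofiltered (StructuredArrow (L.obj X) L) := by
  have hinv : ∀ {A B : C} (s : A ⟶ B), S s → IsIso (L.map s) := fun s hs =>
    Localization.inverts L S s hs
  -- every structured arrow is a right fraction
  have hfrac : ∀ {Y : C} (a : L.obj X ⟶ L.obj Y), ∃ (X' : C) (s : X' ⟶ X) (_ : S s) (f : X' ⟶ Y),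
      L.map s ≫ a = L.map f := by
    intro Y a
    obtain ⟨φ, hφ⟩ := Localization.exists_rightFraction L S a
    refine ⟨φ.X', φ.s, φ.hs, φ.f, ?_⟩
    rw [hφ, MorphismProperty.RightFraction.map_s_comp_map]
  refine { cone_objs := ?_, cone_maps := ?_, nonempty := ⟨StructuredArrow.mk (𝟙 (L.obj X))⟩ }
  · intro A₁ A₂
    obtain ⟨X₁, s₁, hs₁, f₁, e₁⟩ := hfrac A₁.hom
    obtain ⟨X₂, s₂, hs₂, f₂, e₂⟩ := hfrac A₂.hom
    obtain ⟨φ, hφ⟩ := (MorphismProperty.LeftFraction.mk s₂ s₁ hs₁).exists_rightFraction
    have hφ' : φ.s ≫ s₂ = φ.f ≫ s₁ := hφ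
    -- u = φ.s ≫ s₂ ∈ S
    have hu : S (φ.s ≫ s₂) := S.comp_mem _ _ φ.hs hs₂
    haveI := hinv _ hu
    refine ⟨StructuredArrow.mk (inv (L.map (φ.s ≫ s₂))),
      StructuredArrow.homMk (φ.f ≫ f₁) ?_, StructuredArrow.homMk (φ.s ≫ f₂) ?_, trivial⟩
    · change inv (L.map (φ.s ≫ s₂)) ≫ L.map (φ.f ≫ f₁) = A₁.hom
      rw [IsIso.inv_comp_eq, L.map_comp, ← e₁, ← Category.assoc, ← L.map_comp, hφ']
    · change inv (L.map (φ.s ≫ s₂)) ≫ L.map (φ.s ≫ f₂) = A₂.hom
      rw [IsIso.inv_comp_eq, L.map_comp, ← e₂, ← Category.assoc, ← L.map_comp]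
  · intro A B f g
    obtain ⟨X', s, hs, h, e⟩ := hfrac A.hom
    have hf : A.hom ≫ L.map f.right = B.hom := StructuredArrow.w f
    have hg : A.hom ≫ L.map g.right = B.hom := StructuredArrow.w g
    have heq : L.map (h ≫ f.right) = L.map (h ≫ g.right) := by
      rw [L.map_comp, L.map_comp, ← e, Category.assoc, Category.assoc, hf, hg]
    rw [MorphismProperty.map_eq_iff_precomp L S] at heq
    obtain ⟨W, t, ht, htt⟩ := heq
    have hu : S (t ≫ s) := S.comp_mem _ _ ht hs
    haveI := hinv _ hu
    refine ⟨StructuredArrow.mk (inv (L.map (t ≫ s))), StructuredArrow.homMk (t ≫ h) ?_, ?_⟩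
    · change inv (L.map (t ≫ s)) ≫ L.map (t ≫ h) = A.hom
      rw [IsIso.inv_comp_eq, L.map_comp, L.map_comp, Category.assoc, e]
    · apply StructuredArrow.hom_ext
      change (t ≫ h) ≫ f.right = (t ≫ h) ≫ g.right
      rw [Category.assoc, Category.assoc, htt]

end Groth.Agent.S19340
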