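import Groth.Statements.S19345
import Mathlib
import Groth.Agent.Helper9.MonicCover
import Groth.Agent.Helper9.AICLocal
-- import your own Groth.Agent.* helpers here

set_option autoImplicit false
universe u
open CategoryTheory CategoryTheory.Limits AlgebraicGeometry TopologicalSpace
open ModPair

namespace Groth.Agent.S19345

theorem zariski_local {P : Scheme.{u}} [IsAffine P] [IsLocalRing Γ(P, ⊤)] (X : Scheme.{u})
    (R : Presieve X) (hR : R ∈ Scheme.precoverage (@IsOpenImmersion ⊓ @QuasiCompact) X)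
    (g : P ⟶ X) : ∃ (Y : Scheme.{u}) (w : Y ⟶ X) (h : P ⟶ Y), R w ∧ h ≫ w = g := by
  let x₀ : P := P.isoSpec.inv (IsLocalRing.closedPoint Γ(P, ⊤))
  obtain ⟨Y, w, hRw, hx⟩ :=
    (Presieve.mem_comap_jointlySurjectivePrecoverage_iff _).mp hR.1 (g x₀)
  have hw : IsOpenImmersion w := (hR.2 hRw).1
  have hrange : Set.range g ⊆ Set.range w := by
    rintro _ ⟨y, rfl⟩
    have h1 : P.isoSpec.hom y ⤳ IsLocalRing.closedPoint Γ(P, ⊤) :=
      IsLocalRing.specializes_closedPoint _
    have h2 : y ⤳ x₀ := by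
      have h3 := h1.map P.isoSpec.inv.continuous
      have h4 : P.isoSpec.inv (P.isoSpec.hom y) = y := by
        rw [← Scheme.Hom.comp_apply, Iso.hom_inv_id]
        rfl
      rwa [h4] at h3
    have h3 : g y ⤳ g x₀ := h2.map g.continuous
    exact h3.mem_open w.isOpenEmbedding.isOpen_range hx
  exact ⟨Y, w, IsOpenImmersion.lift w g hrange, hRw, IsOpenImmersion.lift_fac _ _ _⟩

theorem finite_local {P : Scheme.{u}} [IsAffine P] [IsDomain Γ(P, ⊤)]
    (hAIC : Curves.IsAIC Γ(P, ⊤)) (X : Scheme.{u})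
    (R : Presieve X) (hR : R ∈ Scheme.precoverage @IsFinite X)
    (g : P ⟶ X) : ∃ (Y : Scheme.{u}) (w : Y ⟶ X) (h : P ⟶ Y), R w ∧ h ≫ w = g := by
  let η : P := P.isoSpec.inv ⟨⊥, Ideal.isPrime_bot⟩
  obtain ⟨Y, w, hRw, y, hy⟩ :=
    (Presieve.mem_comap_jointlySurjectivePrecoverage_iff _).mp hR.1 (g η)
  have hw : IsFinite w := hR.2 hRw
  obtain ⟨z, hz1, hz2⟩ := Scheme.Pullback.exists_preimage_pullback η y hy.symm
  have haff : IsAffine (pullback g w) := isAffine_of_isAffineHom (pullback.fst g w)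
  have hfin : IsFinite (pullback.fst g w) := inferInstance
  have hφfin : (pullback.fst g w).appTop.hom.Finite := (pullback.fst g w).finite_appTop
  have hnat : pullback.fst g w ≫ P.isoSpec.hom =
      (pullback g w).isoSpec.hom ≫ Spec.map (pullback.fst g w).appTop :=
    (Scheme.isoSpec_hom_naturality _).symm
  let q : PrimeSpectrum Γ(pullback g w, ⊤) := (pullback g w).isoSpec.hom z
  have hq : q.asIdeal.comap (pullback.fst g w).appTop.hom = ⊥ := by
    have h1 : (Spec.map (pullback.fst g w).appTop) q = P.isoSpec.hom η := by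
      change ((pullback g w).isoSpec.hom ≫ Spec.map (pullback.fst g w).appTop) z = _
      rw [← hnat, Scheme.Hom.comp_apply, hz1]
    have h2 : P.isoSpec.hom η = ⟨⊥, Ideal.isPrime_bot⟩ := by
      change (P.isoSpec.inv ≫ P.isoSpec.hom) _ = _
      rw [Iso.inv_hom_id]
      rfl
    rw [h2] at h1
    exact congrArg PrimeSpectrum.asIdeal h1
  obtain ⟨ψ, hψ⟩ := Groth.Agent.Helper9.AICLocal.exists_retraction_of_integral
    (pullback.fst g w).appTop.hom hφfin.to_isIntegral hAIC q.asIdeal hq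
  let σ : P ⟶ pullback g w :=
    P.isoSpec.hom ≫ Spec.map (CommRingCat.ofHom ψ) ≫ (pullback g w).isoSpec.inv
  have hσ : σ ≫ pullback.fst g w = 𝟙 P := by
    rw [← cancel_mono P.isoSpec.hom]
    simp only [σ, Category.assoc, hnat, Iso.inv_hom_id_assoc, Category.id_comp]
    rw [← Spec.map_comp]
    have h3 : (pullback.fst g w).appTop ≫ CommRingCat.ofHom ψ = 𝟙 _ := by
      ext a
      exact congrArg (fun t : Γ(P, ⊤) →+* Γ(P, ⊤) => t a) hψ
    rw [h3, Spec.map_id, Category.comp_id]
  refine ⟨Y, w, σ ≫ pullback.snd g w, hRw, ?_⟩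
  rw [Category.assoc, ← pullback.condition, ← Category.assoc, hσ, Category.id_comp]


theorem forward (P : Scheme.{u}) [QuasiSeparatedSpace P]
    (hZ : ∀ (X : Scheme.{u}) (R : Presieve X),
      R ∈ Scheme.precoverage (@IsOpenImmersion ⊓ @QuasiCompact) X →
        ∀ g : P ⟶ X, ∃ (Y : Scheme.{u}) (w : Y ⟶ X) (h : P ⟶ Y), R w ∧ h ≫ w = g)
    (hF : ∀ (X : Scheme.{u}) (R : Presieve X), R ∈ Scheme.precoverage @IsFinite X →
        ∀ g : P ⟶ X, ∃ (Y : Scheme.{u}) (w : Y ⟶ X) (h : P ⟶ Y), R w ∧ h ≫ w = g) :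
    IsAffine P ∧ IsLocalRing Γ(P, ⊤) ∧ IsDomain Γ(P, ⊤) ∧ Curves.IsAIC Γ(P, ⊤) := by
  have haff : IsAffine P := by
    have hmem : Presieve.ofArrows (fun U : P.affineOpens => (U.1 : Scheme.{u}))
        (fun U => U.1.ι) ∈ Scheme.precoverage (@IsOpenImmersion ⊓ @QuasiCompact) P := by
      rw [Scheme.ofArrows_mem_precoverage_iff]
      refine ⟨fun x => ?_, fun U => ⟨inferInstance, ?_⟩⟩
      · obtain ⟨_, ⟨U, hU, rfl⟩, hxU, -⟩ :=
          P.isBasis_affineOpens.exists_subset_of_mem_open (Set.mem_univ x) isOpen_univ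
        refine ⟨⟨U, hU⟩, ?_⟩
        rw [Scheme.Opens.range_ι]
        exact hxU
      · haveI : IsAffine (U.1 : Scheme.{u}) := U.2
        infer_instance
    obtain ⟨Y, w, h, hRw, hw⟩ := hZ P _ hmem (𝟙 P)
    obtain ⟨U⟩ := hRw
    haveI : IsAffine (U.1 : Scheme.{u}) := U.2
    haveI : IsSplitEpi U.1.ι := ⟨⟨⟨h, hw⟩⟩⟩
    haveI : IsIso U.1.ι := isIso_of_mono_of_isSplitEpi _
    exact IsAffine.of_isIso (inv U.1.ι)
  -- transfer to `Spec Γ(P, ⊤)`
  let e : P ≅ Spec (CommRingCat.of Γ(P, ⊤)) := P.isoSpec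
  have hZ' : ∀ (X : Scheme.{u}) (R : Presieve X),
      R ∈ Scheme.precoverage (@IsOpenImmersion ⊓ @QuasiCompact) X →
        ∀ g : Spec (CommRingCat.of Γ(P, ⊤)) ⟶ X, ∃ (Y : Scheme.{u}) (w : Y ⟶ X) (h : Spec (CommRingCat.of Γ(P, ⊤)) ⟶ Y),
          R w ∧ h ≫ w = g := by
    intro X R hR g
    obtain ⟨Y, w, h, hRw, hw⟩ := hZ X R hR (e.hom ≫ g)
    exact ⟨Y, w, e.inv ≫ h, hRw, by rw [Category.assoc, hw, Iso.inv_hom_id_assoc]⟩
  have hF' : ∀ (X : Scheme.{u}) (R : Presieve X), R ∈ Scheme.precoverage @IsFinite X →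
        ∀ g : Spec (CommRingCat.of Γ(P, ⊤)) ⟶ X, ∃ (Y : Scheme.{u}) (w : Y ⟶ X) (h : Spec (CommRingCat.of Γ(P, ⊤)) ⟶ Y),
          R w ∧ h ≫ w = g := by
    intro X R hR g
    obtain ⟨Y, w, h, hRw, hw⟩ := hF X R hR (e.hom ≫ g)
    exact ⟨Y, w, e.inv ≫ h, hRw, by rw [Category.assoc, hw, Iso.inv_hom_id_assoc]⟩
  have hnt : Nontrivial Γ(P, ⊤) := by
    by_contra hcon
    rw [not_nontrivial_iff_subsingleton] at hcon
    haveI : IsEmpty (Spec (CommRingCat.of Γ(P, ⊤))) := by
      change IsEmpty (PrimeSpectrum Γ(P, ⊤))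
      infer_instance
    obtain ⟨Y, w, h, hRw, hw⟩ := hF' (Spec (CommRingCat.of Γ(P, ⊤))) ⊥ (Scheme.bot_mem_precoverage _ _) (𝟙 _)
    exact hRw
  have hlocal : IsLocalRing Γ(P, ⊤) := by
    refine IsLocalRing.of_isUnit_or_isUnit_one_sub_self (fun a => ?_)
    let c : Bool → Γ(P, ⊤) := fun b => cond b a (1 - a)
    have hmem : Presieve.ofArrows
        (fun b : Bool => Spec (CommRingCat.of (Localization.Away (c b))))
        (fun b => Spec.map (CommRingCat.ofHom (algebraMap Γ(P, ⊤) (Localization.Away (c b))))) ∈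
        Scheme.precoverage (@IsOpenImmersion ⊓ @QuasiCompact) (Spec (CommRingCat.of Γ(P, ⊤))) := by
      rw [Scheme.ofArrows_mem_precoverage_iff]
      refine ⟨fun x => ?_, fun b => ⟨inferInstance, inferInstance⟩⟩
      have hrange : ∀ b, Set.range (Spec.map (CommRingCat.ofHom
          (algebraMap Γ(P, ⊤) (Localization.Away (c b))))) =
          (PrimeSpectrum.basicOpen (c b) : Set (PrimeSpectrum Γ(P, ⊤))) := fun b =>
        PrimeSpectrum.localization_away_comap_range (Localization.Away (c b)) (c b)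
      by_cases hax : a ∈ x.asIdeal
      · refine ⟨false, ?_⟩
        rw [hrange]
        intro h1
        have h2 := x.asIdeal.add_mem hax h1
        simp only [c, cond_false, add_sub_cancel] at h2
        exact x.isPrime.ne_top ((Ideal.eq_top_iff_one _).mpr h2)
      · refine ⟨true, ?_⟩
        rw [hrange]
        exact hax
    obtain ⟨Y, w, h, hRw, hw⟩ := hZ' _ _ hmem (𝟙 _)
    obtain ⟨b⟩ := hRw
    obtain ⟨ψ, hψ⟩ := Groth.Agent.Helper9.AICLocal.exists_retraction_of_section
      (algebraMap Γ(P, ⊤) (Localization.Away (c b))) h hw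
    have hu : IsUnit (c b) := by
      have h1 : IsUnit (algebraMap Γ(P, ⊤) (Localization.Away (c b)) (c b)) :=
        IsLocalization.Away.algebraMap_isUnit (c b)
      have h2 := h1.map ψ
      have h3 : ψ (algebraMap Γ(P, ⊤) (Localization.Away (c b)) (c b)) = c b :=
        congrArg (fun t : Γ(P, ⊤) →+* Γ(P, ⊤) => t (c b)) hψ
      rwa [h3] at h2
    cases b
    · exact Or.inr hu
    · exact Or.inl hu
  have hnzd : NoZeroDivisors Γ(P, ⊤) := by
    refine ⟨fun {a b} hab => ?_⟩
    let c : Bool → Γ(P, ⊤) := fun i => cond i a b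
    have hmem : Presieve.ofArrows
        (fun i : Bool => Spec (CommRingCat.of (Γ(P, ⊤) ⧸ Ideal.span {c i})))
        (fun i => Spec.map (CommRingCat.ofHom (Ideal.Quotient.mk (Ideal.span {c i})))) ∈
        Scheme.precoverage @IsFinite (Spec (CommRingCat.of Γ(P, ⊤))) := by
      refine (Scheme.ofArrows_mem_precoverage_iff _).mpr ⟨fun x => ?_, fun i => ?_⟩
      · have hrange : ∀ i, Set.range (Spec.map (CommRingCat.ofHom
            (Ideal.Quotient.mk (Ideal.span {c i})))) =
            PrimeSpectrum.zeroLocus (Ideal.span {c i} : Set Γ(P, ⊤)) := fun i => by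
          have := _root_.range_comap_of_surjective _
            (Ideal.Quotient.mk (Ideal.span {c i})) Ideal.Quotient.mk_surjective
          rw [Ideal.mk_ker] at this
          exact this
        have h0 : a * b ∈ x.asIdeal := hab ▸ x.asIdeal.zero_mem
        rcases x.isPrime.mem_or_mem h0 with h1 | h1
        · refine ⟨true, ?_⟩
          rw [hrange]
          exact (PrimeSpectrum.mem_zeroLocus _ _).mpr
            (SetLike.coe_subset_coe.mpr ((Ideal.span_le).mpr (by simpa [c] using h1)))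
        · refine ⟨false, ?_⟩
          rw [hrange]
          exact (PrimeSpectrum.mem_zeroLocus _ _).mpr
            (SetLike.coe_subset_coe.mpr ((Ideal.span_le).mpr (by simpa [c] using h1)))
      · rw [IsFinite.SpecMap_iff]
        exact RingHom.Finite.of_surjective _ Ideal.Quotient.mk_surjective
    obtain ⟨Y, w, h, hRw, hw⟩ := hF' _ _ hmem (𝟙 _)
    obtain ⟨i⟩ := hRw
    obtain ⟨ψ, hψ⟩ := Groth.Agent.Helper9.AICLocal.exists_retraction_of_section
      (Ideal.Quotient.mk (Ideal.span {c i})) h hw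
    have h0 : c i = 0 := by
      have h3 : ψ (Ideal.Quotient.mk (Ideal.span {c i}) (c i)) = c i :=
        congrArg (fun t : Γ(P, ⊤) →+* Γ(P, ⊤) => t (c i)) hψ
      rw [← h3, Ideal.Quotient.eq_zero_iff_mem.mpr (Ideal.mem_span_singleton_self _), map_zero]
    cases i
    · exact Or.inr h0
    · exact Or.inl h0
  have hdom : IsDomain Γ(P, ⊤) := NoZeroDivisors.to_isDomain _
  refine ⟨haff, hlocal, hdom, ?_⟩
  intro F hFm hFd
  have hmem : Presieve.singleton (Groth.Agent.Helper9.MonicCover.cov F) ∈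
      Scheme.precoverage @IsFinite (Spec (CommRingCat.of Γ(P, ⊤))) := by
    exact (Scheme.singleton_mem_precoverage_iff _ _).mpr
      ⟨Groth.Agent.Helper9.MonicCover.surjective_cov F hFm hFd,
      Groth.Agent.Helper9.MonicCover.isFinite_cov F hFm⟩
  obtain ⟨Y, w, h, hRw, hw⟩ := hF' _ _ hmem (𝟙 _)
  obtain ⟨⟩ := hRw
  exact Groth.Agent.Helper9.MonicCover.exists_root_of_section F h hw

/-- Let P be a quasi-separated scheme. Then P is local for Zariski coverings (for every scheme X, every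
jointly surjective family of quasi-compact open immersions into X and every morphism P ⟶ X, the
morphism factors through a member) and for finite coverings (the same for jointly surjective
families of finite morphisms) — which together is locality for the rqfh coverings, the finite
composites of coverings of these two kinds — if and only if P is affine and Γ(P) is a local integral
domain in which every monic polynomial of positive degree has a root, i.e. the spectrum of an
absolutely integrally closed local domain. The published statement allows any scheme P; this row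
assumes P quasi-separated. -/
theorem result (P : Scheme.{u}) [QuasiSeparatedSpace P] :
    ((∀ (X : Scheme.{u}) (R : Presieve X), R ∈ Scheme.precoverage (@IsOpenImmersion ⊓ @QuasiCompact) X →
        ∀ g : P ⟶ X, ∃ (Y : Scheme.{u}) (w : Y ⟶ X) (h : P ⟶ Y), R w ∧ h ≫ w = g) ∧
      (∀ (X : Scheme.{u}) (R : Presieve X), R ∈ Scheme.precoverage @IsFinite X →
        ∀ g : P ⟶ X, ∃ (Y : Scheme.{u}) (w : Y ⟶ X) (h : P ⟶ Y), R w ∧ h ≫ w = g)) ↔
    (IsAffine P ∧ IsLocalRing Γ(P, ⊤) ∧ IsDomain Γ(P, ⊤) ∧ Curves.IsAIC Γ(P, ⊤)) := by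
  constructor
  · rintro ⟨hZ, hF⟩
    exact forward P hZ hF
  · rintro ⟨haff, hlocal, hdom, hAIC⟩
    exact ⟨fun X R hR g => zariski_local X R hR g, fun X R hR g => finite_local hAIC X R hR g⟩

end Groth.Agent.S19345
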