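import Groth.Statements.S19348
import Mathlib
-- import your own Groth.Agent.* helpers here

set_option autoImplicit false
universe u
open RigCh

namespace Groth.Agent.S19348

/-- Let p be a prime and m a natural number, P a commutative ring complete and separated for the p-adic
topology, and I an ideal of P with a divided power structure of level m, that is a sub-ideal J of I
endowed with divided powers such that x ^ (p ^ m) and p * x lie in J for all x in I. Then an element
of P whose class in P / I is invertible is invertible in P. (The source states this for a lift of a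
unit to the p-adically completed level-m divided power envelope of a closed immersion; the statement
here keeps exactly what its argument uses: completeness for p and the level-m divided powers on the
kernel.) -/
theorem result (p : ℕ) [Fact p.Prime] (m : ℕ)
    (P : Type u) [CommRing P] [IsAdicComplete (Ideal.span {(p : P)}) P]
    (I J : Ideal P) (hJ : DividedPowers J) (hJI : J ≤ I)
    (hpow : ∀ x ∈ I, x ^ (p ^ m) ∈ J) (hmul : ∀ x ∈ I, (p : P) * x ∈ J)
    (u : P) (hu : IsUnit (Ideal.Quotient.mk I u)) : IsUnit u := by
  classical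
  have hp : (p : ℕ).Prime := Fact.out
  obtain ⟨w, hw⟩ := hu.exists_right_inv
  obtain ⟨v, rfl⟩ := Ideal.Quotient.mk_surjective w
  have hx : 1 - u * v ∈ I := by
    rw [← Ideal.Quotient.eq_zero_iff_mem, map_sub, map_one, map_mul, hw, sub_self]
  set x := 1 - u * v with hxdef
  have hy : x ^ (p ^ m) ∈ J := hpow x hx
  have h1 : (x ^ (p ^ m)) ^ p ∈ Ideal.span {(p : P)} := by
    rw [← hJ.factorial_mul_dpow_eq_pow hy, Ideal.mem_span_singleton]
    have : (p : ℕ) ∣ p.factorial := Nat.dvd_factorial hp.pos le_rfl
    obtain ⟨c, hc⟩ := this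
    exact ⟨(c : P) * hJ.dpow p (x ^ (p ^ m)), by rw [hc]; push_cast; ring⟩
  have h2 : (x ^ (p ^ m)) ^ p ∈ (⊥ : Ideal P).jacobson :=
    IsAdicComplete.le_jacobson_bot (Ideal.span {(p : P)}) h1
  have h3 : IsUnit (1 - (x ^ (p ^ m)) ^ p) := by
    have := (Ideal.mem_jacobson_bot.1 h2) (-1)
    have e : (x ^ (p ^ m)) ^ p * (-1) + 1 = 1 - (x ^ (p ^ m)) ^ p := by ring
    rwa [e] at this
  have h4 : (1 - x) ∣ 1 - (x ^ (p ^ m)) ^ p := by
    rw [← pow_mul]
    have := sub_dvd_pow_sub_pow (1 : P) x (p ^ m * p)
    rwa [one_pow] at this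
  have h5 : IsUnit (1 - x) := isUnit_of_dvd_unit h4 h3
  have h6 : 1 - x = u * v := by rw [hxdef]; ring
  rw [h6] at h5
  exact isUnit_of_mul_isUnit_left h5

end Groth.Agent.S19348
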