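import Groth.Statements.S19350
import Groth.Agent.Lead.StrictFlat
import Groth.Agent.Lead.RefPowC
import Groth.Agent.Lead.LocLift6
import Groth.Agent.Helper4.FinLocFree2
import Groth.Agent.Helper4.FinLocFree4

set_option autoImplicit false
universe u
open RigCh

namespace Groth.Agent.S19350

open AlgebraicGeometry CategoryTheory in
/-- Let X be a separated scheme of finite type over a field k, I a quasi-coherent ideal sheaf on X, b :
X' → X a blowing up of X in I and F a finite locally free O_X-module. Then for any strict transform
G of F along b (an epimorphism π from the pullback of F onto G whose kernel consists,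
affine-locally, of the sections annihilated by a power of the exceptional ideal), π is an
isomorphism and G is finite locally free. (The published statement asserts only that the strict
transform is locally free. The source assumes k of positive characteristic, which plays no role
here.) -/
theorem result (k : Type u) [Field k]
    (X : Scheme.{u}) (f : X ⟶ Spec (CommRingCat.of k)) [IsSeparated f] [QuasiCompact f] [LocallyOfFiniteType f]
    (I : X.IdealSheafData) {X' : Scheme.{u}} (b : X' ⟶ X) (hb : BlowUp.IsBlowUp b I)
    (F : X.Modules) (hF : FlatMod.IsFinLocFree F) (G : X'.Modules) (π : (Scheme.Modules.pullback b).obj F ⟶ G)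
    (hG : BlowUp.IsStrictTransform b I F G π) : IsIso π ∧ FlatMod.IsFinLocFree G := by
  classical
  have hP : FlatMod.IsFinLocFree ((Scheme.Modules.pullback b).obj F) :=
    Groth.Agent.Lead.LocLift.isFinLocFree_pullback b hF
  haveI : ((Scheme.Modules.pullback b).obj F).IsQuasicoherent :=
    Groth.Agent.Helper4.FinLocFree4.isQuasicoherent_of_isFinLocFree _ hP
  haveI : Epi π := hG.1
  haveI : Mono π := by
    apply Groth.Agent.Lead.RefPowC.mono_of_app_injective_affine
    intro V hV _ m hm
    obtain ⟨n, hn⟩ := (hG.2 ⟨V, hV⟩ m).mp hm
    refine Groth.Agent.Lead.StrictFlat.section_eq_zero_of_killed (I.comap b) hb.1 _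
      (fun x _ => ?_) ⟨V, hV⟩ m n hn
    haveI := Groth.Agent.Helper4.FinLocFree2.free_stalk_of_isFinLocFree _ hP x
    infer_instance
  haveI : IsIso π := isIso_of_mono_of_epi π
  refine ⟨inferInstance, ?_⟩
  intro x
  obtain ⟨U, n, hxU, ⟨e⟩⟩ := hP x
  exact ⟨U, n, hxU, ⟨((Scheme.Modules.restrictFunctor U.ι).mapIso (asIso π)).symm ≪≫ e⟩⟩

end Groth.Agent.S19350
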