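import Groth.Statements.S19356
import Mathlib
import Groth.Agent.Helper9.PosInv
-- import your own Groth.Agent.* helpers here

set_option autoImplicit false
universe u
open AbVar

namespace Groth.Agent.S19356

/-- Let R be a finite-dimensional ℚ-algebra with a ℚ-linear involution x ↦ x† (an anti-automorphism of
order two) and a ℚ-linear functional σ with σ(x x†) > 0 for every x ≠ 0; this is the positivity of
the involution, σ being the trace of R over ℚ in the case of the endomorphism algebra of an abelian
variety with a Rosati involution, and the trace on a cohomology group in the case of an algebra of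
correspondences with the adjoint for a Weil form. Let α ∈ R with α α† = q for a rational number q.
Then α† lies in the subalgebra ℚ[α], and for every ℚ-algebra homomorphism ρ : ℚ[α] → ℂ one has ρ(α†)
= the complex conjugate of ρ(α) and |ρ(α)|² = q. (The published statement is for the endomorphism
algebra of an abelian variety with a Rosati involution, with σ its trace over ℚ and q an integer;
the form given here, for an arbitrary ℚ-linear functional σ positive on every x x† with x ≠ 0 and
rational q, is what its proof establishes.) -/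
theorem result (R : Type u) [Ring R] [Algebra ℚ R]
    [Module.Finite ℚ R] [StarRing R] [StarModule ℚ R]
    (σ : R →ₗ[ℚ] ℚ) (hpos : ∀ x : R, x ≠ 0 → 0 < σ (x * star x))
    (α : R) (q : ℚ) (hα : α * star α = algebraMap ℚ R q) :
    ∃ hmem : star α ∈ Algebra.adjoin ℚ ({α} : Set R),
      ∀ ρ : Algebra.adjoin ℚ ({α} : Set R) →ₐ[ℚ] ℂ,
        ρ ⟨star α, hmem⟩ = starRingEnd ℂ (ρ ⟨α, Algebra.self_mem_adjoin_singleton ℚ α⟩) ∧
          ‖ρ ⟨α, Algebra.self_mem_adjoin_singleton ℚ α⟩‖ ^ 2 = (q : ℝ) := by
  classical
  set S := Algebra.adjoin ℚ ({α} : Set R) with hS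
  have hαS : α ∈ S := Algebra.self_mem_adjoin_singleton ℚ α
  have hmem : star α ∈ S := by
    by_cases h0 : α = 0
    · rw [h0, star_zero]; exact S.zero_mem
    · have hp := hpos α h0
      rw [hα] at hp
      have hq : q ≠ 0 := by
        rintro rfl
        simp at hp
      have hinv : α * (q⁻¹ • star α) = 1 := by
        rw [mul_smul_comm, hα, Algebra.algebraMap_eq_smul_one, smul_smul, inv_mul_cancel₀ hq,
          one_smul]
      have h1 := Helper9.PosInv.mem_adjoin_of_mul_eq_one α (q⁻¹ • star α) hinv
      have h2 : star α = q • (q⁻¹ • star α) := by rw [smul_smul, mul_inv_cancel₀ hq, one_smul]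
      rw [h2]
      exact S.smul_mem h1 q
  refine ⟨hmem, fun ρ => ?_⟩
  set a : S := ⟨α, hαS⟩ with ha
  set a' : S := ⟨star α, hmem⟩ with ha'
  have hcomm : ∀ x y : S, x * y = y * x := fun x y => Std.Commutative.comm x y
  -- commutation facts in R
  have c1 : ∀ x : S, α * (x : R) = (x : R) * α := fun x => congrArg Subtype.val (hcomm a x)
  have c4 : ∀ y : S, (y : R) * star α = star α * (y : R) := fun y =>
    congrArg Subtype.val (hcomm y a')
  have c2 : ∀ y : S, α * star (y : R) = star (y : R) * α := by
    intro y
    have h := congrArg star (c4 y)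
    rw [star_mul, star_mul, star_star] at h
    exact h
  have c3 : ∀ x : S, star (x : R) * star α = star α * star (x : R) := by
    intro x
    have h := congrArg star (c1 x)
    rw [star_mul, star_mul] at h
    exact h
  -- bilinear form
  let B : LinearMap.BilinForm ℚ S := LinearMap.mk₂ ℚ
    (fun x y => σ ((x : R) * star (y : R)) + σ ((y : R) * star (x : R)))
    (by intro x₁ x₂ y; simp only [Subalgebra.coe_add, add_mul, mul_add, star_add, map_add]; ring)
    (by intro c x y; simp only [Subalgebra.coe_smul, smul_mul_assoc, mul_smul_comm, star_smul,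
          star_trivial, map_smul, smul_eq_mul]; ring)
    (by intro x y₁ y₂; simp only [Subalgebra.coe_add, add_mul, mul_add, star_add, map_add]; ring)
    (by intro c x y; simp only [Subalgebra.coe_smul, smul_mul_assoc, mul_smul_comm, star_smul,
          star_trivial, map_smul, smul_eq_mul]; ring)
  have hB : ∀ x y : S, B x y = σ ((x : R) * star (y : R)) + σ ((y : R) * star (x : R)) :=
    fun x y => rfl
  have hsymm : ∀ x y, B x y = B y x := fun x y => by rw [hB, hB, add_comm]
  have hBpos : ∀ x : S, x ≠ 0 → 0 < B x x := by
    intro x hx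
    have hx' : (x : R) ≠ 0 := fun h => hx (Subtype.ext h)
    have := hpos (x : R) hx'
    rw [hB]; linarith
  have hadj : ∀ x y : S, B (LinearMap.mulLeft ℚ a x) y = B x (LinearMap.mulLeft ℚ a' y) := by
    intro x y
    simp only [LinearMap.mulLeft_apply, hB, Subalgebra.coe_mul, ha, ha', star_mul, star_star]
    have e1 : α * (x : R) * star (y : R) = (x : R) * (star (y : R) * α) := by
      rw [c1 x, mul_assoc, c2 y]
    have e2 : (y : R) * (star (x : R) * star α) = star α * (y : R) * star (x : R) := by
      rw [c3 x, ← mul_assoc, c4 y]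
    rw [e1, e2]
  have hρ0 : ρ.toLinearMap ≠ 0 := by
    intro h
    have h1 : ρ.toLinearMap 1 = 0 := by rw [h]; rfl
    rw [AlgHom.toLinearMap_apply, map_one] at h1
    exact one_ne_zero h1
  have hconj := Helper9.PosInv.adjoint_eigen B hsymm hBpos (LinearMap.mulLeft ℚ a)
    (LinearMap.mulLeft ℚ a') hadj ρ.toLinearMap hρ0 (ρ a) (ρ a')
    (fun x => by simp only [LinearMap.mulLeft_apply, AlgHom.toLinearMap_apply, map_mul])
    (fun x => by simp only [LinearMap.mulLeft_apply, AlgHom.toLinearMap_apply, map_mul])
  refine ⟨hconj, ?_⟩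
  have haa' : a * a' = algebraMap ℚ S q := Subtype.ext hα
  have h1 : ρ a * (starRingEnd ℂ) (ρ a) = (q : ℂ) := by
    rw [← hconj, ← map_mul, haa', AlgHom.commutes]
    rfl
  rw [Complex.mul_conj] at h1
  rw [Complex.sq_norm]
  have h2 : ((Complex.normSq (ρ a) : ℝ) : ℂ) = (((q : ℝ)) : ℂ) := by
    rw [h1]; push_cast; rfl
  exact_mod_cast h2

end Groth.Agent.S19356
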