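import Groth.Statements.S19374
import Mathlib
-- import your own Groth.Agent.* helpers here

set_option autoImplicit false
universe u
open CategoryTheory Opposite Instab
open Instab Instab.Fan

namespace Groth.Agent.S19374

theorem mk_smul {F : Fan.{u}} {n : ICone} (ξ : F.obj (op n)) (v w : Fan.Orth n) (c : ℝ) (hc : 0 < c)
    (h : w.1 = c • v.1) : Fan.P.mk ξ v = Fan.P.mk ξ w := by
  have hreal : (𝟙 n : n ⟶ n).realMap v.1 = v.1 := by
    funext j
    show ∑ i, (((𝟙 n : n ⟶ n).toLin (Pi.single i 1) j : ℤ) : ℝ) * v.1 i = v.1 j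
    have h1 : ∀ i, (((𝟙 n : n ⟶ n).toLin (Pi.single i 1) j : ℤ) : ℝ) = if j = i then 1 else 0 := by
      intro i
      show (((Pi.single i (1 : ℤ) : Fin n.dim → ℤ) j : ℤ) : ℝ) = if j = i then 1 else 0
      rw [Pi.single_apply]
      split_ifs <;> simp
    simp only [h1]
    simp
  have hrel := Fan.Rel.glue (F := F) (𝟙 n) ξ v w c hc (by rw [hreal]; exact h)
  have e : F.map (𝟙 n : n ⟶ n).op ξ = ξ := by simp
  rw [e] at hrel
  exact Quot.sound hrel

/-- Let F be a formal fan and U ⊆ P F. Then U is locally convex in the simplex-wise sense — for every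
rational simplex, a ray lying strictly between two rays that map into U also maps into U — if and
only if, for every n-cone ξ of F, the set of nonzero nonnegative vectors v of ℝ^n whose point of the
rational simplex of ξ lies in U is a convex subset of ℝ^n (convexity of the preimage of U in each
punctured cone of the affine realization). -/
theorem result (F : Fan.{u}) (U : Set (Fan.P F)) :
    Fan.IsLocallyConvex U ↔
      ∀ (n : ICone) (ξ : F.obj (op n)),
        Convex ℝ {v : Fin n.dim → ℝ | ∃ h : (∀ i, 0 ≤ v i) ∧ v ≠ 0, Fan.P.mk ξ (⟨v, h⟩ : Fan.Orth n) ∈ U} := by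
  constructor
  · intro hU n ξ x hx y hy a b ha hb hab
    obtain ⟨hx1, hx2⟩ := hx
    obtain ⟨hy1, hy2⟩ := hy
    rcases eq_or_lt_of_le ha with ha0 | ha0
    · have hb1 : b = 1 := by rw [← ha0] at hab; linarith
      rw [← ha0, hb1, zero_smul, one_smul, zero_add]
      exact ⟨hy1, hy2⟩
    rcases eq_or_lt_of_le hb with hb0 | hb0
    · have ha1 : a = 1 := by rw [← hb0] at hab; linarith
      rw [← hb0, ha1, zero_smul, one_smul, add_zero]
      exact ⟨hx1, hx2⟩
    have hnn : ∀ i, 0 ≤ (a • x + b • y) i := by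
      intro i
      have h1 := hx1.1 i
      have h2 := hy1.1 i
      simp only [Pi.add_apply, Pi.smul_apply, smul_eq_mul]
      positivity
    have hne : a • x + b • y ≠ 0 := by
      intro h0
      apply hx1.2
      funext i
      have h1 := hx1.1 i
      have h2 := hy1.1 i
      have h3 := congr_fun h0 i
      simp only [Pi.add_apply, Pi.smul_apply, smul_eq_mul, Pi.zero_apply] at h3
      have h4 : 0 ≤ a * x i := by positivity
      have h5 : 0 ≤ b * y i := by positivity
      have h6 : a * x i = 0 := by linarith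
      rcases mul_eq_zero.mp h6 with h7 | h7
      · exact absurd h7 ha0.ne'
      · exact h7
    refine ⟨⟨hnn, hne⟩, ?_⟩
    exact hU n ξ ⟨x, hx1⟩ ⟨a • x + b • y, ⟨hnn, hne⟩⟩ ⟨y, hy1⟩ hx2 hy2 ⟨a, b, ha0, hb0, rfl⟩
  · intro hC n ξ v₀ v₁ v₂ h₀ h₂ hex
    obtain ⟨a, b, ha, hb, hv⟩ := hex
    have hab : 0 < a + b := by linarith
    have hconv := hC n ξ
    have hm0 : v₀.1 ∈ {v : Fin n.dim → ℝ | ∃ h : (∀ i, 0 ≤ v i) ∧ v ≠ 0,
        Fan.P.mk ξ (⟨v, h⟩ : Fan.Orth n) ∈ U} := ⟨v₀.2, h₀⟩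
    have hm2 : v₂.1 ∈ {v : Fin n.dim → ℝ | ∃ h : (∀ i, 0 ≤ v i) ∧ v ≠ 0,
        Fan.P.mk ξ (⟨v, h⟩ : Fan.Orth n) ∈ U} := ⟨v₂.2, h₂⟩
    have hmem := hconv hm0 hm2 (a := a / (a + b)) (b := b / (a + b)) (by positivity) (by positivity)
      (by field_simp)
    obtain ⟨hw, hwU⟩ := hmem
    have heq : Fan.P.mk ξ (⟨(a / (a + b)) • v₀.1 + (b / (a + b)) • v₂.1, hw⟩ : Fan.Orth n) =
        Fan.P.mk ξ v₁ := by
      apply mk_smul ξ _ v₁ (a + b) hab
      rw [hv]
      show a • v₀.1 + b • v₂.1 = (a + b) • ((a / (a + b)) • v₀.1 + (b / (a + b)) • v₂.1)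
      rw [smul_add, smul_smul, smul_smul]
      congr 2 <;> field_simp
    rw [← heq]
    exact hwU

end Groth.Agent.S19374
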