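import Groth.Statements.S19377
import Groth.Agent.S1535
import Groth.Agent.S0558
import Groth.Agent.Helper4.SN412
import Mathlib

set_option autoImplicit false
universe u
open CategoryTheory AlgebraicGeometry
open RelProj

namespace Groth.Agent.S19377


/-- Let k be a field, S a smooth, separated and quasi-compact k-scheme and f : X → S a proper smooth
morphism. The following two conditions are equivalent. (P): there is a dense open subscheme U of X,
quasi-projective over S, such that every connected component of S has a point not lying in the image
f(X ∖ U). Generic projectivity: there is a dense open subscheme V of S such that the restriction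
f⁻¹(V) → V of f is projective. (The source works over the residue field of a complete discrete
valuation ring of mixed characteristic and adds that the restriction over V is smooth, which is
automatic; the base field plays no role and is arbitrary here.) -/
theorem result
    {k : Type u} [Field k] {X S : Scheme.{u}} (f : X ⟶ S) (g : S ⟶ Spec (.of k))
    [Smooth g] [IsSeparated g] [QuasiCompact g] [IsProper f] [Smooth f] :
    (∃ U : X.Opens, Dense (U : Set X) ∧ RelProj.IsQuasiProjective (U.ι ≫ f) ∧
        ∀ s : S, ∃ s' : S, s' ∈ connectedComponent s ∧ s' ∉ ⇑f.base '' (U : Set X)ᶜ) ↔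
      ∃ V : S.Opens, Dense (V : Set S) ∧ RelProj.IsProjective (f ∣_ V) := by

  haveI : CompactSpace S := QuasiCompact.compactSpace_of_compactSpace g
  haveI : IsLocallyNoetherian S := LocallyOfFiniteType.isLocallyNoetherian g
  haveI : IsNoetherian S := {}
  have hS : ∀ s : S, IsDomain (S.presheaf.stalk s) := by
    intro s
    letI : S.Over (Spec (CommRingCat.of k)) := ⟨g⟩
    haveI : Smooth (S ↘ (Spec (CommRingCat.of k))) := ‹Smooth g›
    haveI := Groth.Agent.S1535.result k S s
    exact Groth.Agent.S0558.result _
  have hcc := Groth.Agent.Helper4.SN412.cc_open_irred S hS
  constructor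
  · rintro ⟨U, -, hq, hU⟩
    exact Groth.Agent.Helper4.SN412.forward f (fun s => (hcc s).2.isPreirreducible) U hq hU
  · rintro ⟨V, hV, hp⟩
    exact Groth.Agent.Helper4.SN412.backward f f.isOpenMap (fun s => (hcc s).1) V hV hp

end Groth.Agent.S19377
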