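import Groth.Statements.S19380
import Mathlib
-- import your own Groth.Agent.* helpers here

set_option autoImplicit false
universe u
open CAlg

namespace Groth.Agent.S19380

/-- Let L be a commutative ring, σ a ring automorphism of L of finite order dividing d (σ^d = 1), and C
an r × r matrix over L. The reverse characteristic polynomial det(1 − T·N) of the twisted product N
= C·σ(C)·σ²(C)⋯σ^(d−1)(C), with σ applied to the entries, is fixed by σ acting on coefficients. (In
the source this is phrased for the fibre at a closed point x of degree d of a convergent F-module
with Frobenius matrix C: the d-th iterate of the semilinear Frobenius of the fibre is the linear map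
with matrix N, so its characteristic polynomial has coefficients in the subfield fixed by the
Frobenius of K(x), namely K, and likewise with the valuation ring in place of K for an integral
F-module; only this linear-algebra statement, over any commutative ring, is given here.) -/
theorem result
    (L : Type u) [CommRing L] (σ : L ≃+* L) (d : ℕ) (hσ : σ ^ d = 1)
    (r : ℕ) (C : Matrix (Fin r) (Fin r) L) :
    (Matrix.charpolyRev (((List.range d).map fun i => C.map ⇑(σ ^ i)).prod)).map (σ : L →+* L) =
      Matrix.charpolyRev (((List.range d).map fun i => C.map ⇑(σ ^ i)).prod) := by
  classical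
  have hmap : ∀ M : Matrix (Fin r) (Fin r) L,
      (Matrix.charpolyRev M).map (σ : L →+* L) = Matrix.charpolyRev (M.map (σ : L →+* L)) := by
    intro M
    rw [Matrix.charpolyRev, Matrix.charpolyRev, ← Polynomial.coe_mapRingHom, RingHom.map_det]
    congr 1
    ext i j
    simp [Matrix.one_apply, apply_ite]
  have hcomm : ∀ M N : Matrix (Fin r) (Fin r) L,
      Matrix.charpolyRev (M * N) = Matrix.charpolyRev (N * M) := by
    intro M N
    rw [← Matrix.reverse_charpoly, ← Matrix.reverse_charpoly, Matrix.charpoly_mul_comm]
  have hprodmap : ∀ l : List (Matrix (Fin r) (Fin r) L),
      l.prod.map (σ : L →+* L) = (l.map fun M => M.map (σ : L →+* L)).prod := by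
    intro l
    have := map_list_prod (RingHom.mapMatrix (σ : L →+* L) (m := Fin r)) l
    rw [RingHom.mapMatrix_apply] at this
    rw [this]
    rfl
  rw [hmap, hprodmap, List.map_map]
  cases d with
  | zero => simp
  | succ d' =>
    have h1 : ((List.range (d' + 1)).map fun i => C.map ⇑(σ ^ i)).prod =
        C * ((List.range d').map fun i => C.map ⇑(σ ^ (i + 1))).prod := by
      rw [List.range_succ_eq_map, List.map_cons, List.prod_cons, List.map_map]
      congr 1
    have h2 : ((List.range (d' + 1)).map
        ((fun M : Matrix (Fin r) (Fin r) L => M.map (σ : L →+* L)) ∘ fun i => C.map ⇑(σ ^ i))).prod =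
        ((List.range d').map fun i => C.map ⇑(σ ^ (i + 1))).prod * C := by
      rw [List.range_succ, List.map_append, List.prod_append]
      congr 1
      · congr 1
        apply List.map_congr_left
        intro i _
        ext a b
        simp [pow_succ']
      · simp only [List.map_cons, List.map_nil, List.prod_cons, List.prod_nil, mul_one,
          Function.comp_apply]
        ext a b
        have : σ (((σ ^ d') (C a b))) = (σ ^ (d' + 1)) (C a b) := by
          rw [pow_succ']; rfl
        simp only [Matrix.map_apply, RingHom.coe_coe, this, hσ]
        rfl
    rw [h1, h2, hcomm]

end Groth.Agent.S19380
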