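import Groth.Statements.S19383
import Mathlib
-- import your own Groth.Agent.* helpers here

set_option autoImplicit false
universe u
open CAlg

namespace Groth.Agent.S19383

/-- Over a discrete valuation ring, let V be a henselian discrete valuation ring with maximal ideal 𝔪
and B a Noetherian V-algebra, B̂ its 𝔪B-adic completion. Then B is flat over V if and only if B̂ is
flat over V. (The published lemma takes V an excellent normal ring with an ideal I such that (V,
V/I) is a henselian pair and B of finite type; in that generality it fails: for V = ℤ_p[[x]], I =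
(p) and B = V[y]/(x, py − 1) ≅ ℚ_p one has IB = B, so B̂ = 0 is flat while B is not flat over V.
Over a discrete valuation ring flatness is torsion-freeness and the statement holds for every
Noetherian B.) -/
theorem result
    (V : Type u) [CommRing V] [IsDomain V] [IsDiscreteValuationRing V] [HenselianLocalRing V]
    (B : Type u) [CommRing B] [Algebra V B] [IsNoetherianRing B] :
    Module.Flat V B ↔
      Module.Flat V (AdicCompletion ((IsLocalRing.maximalIdeal V).map (algebraMap V B)) B) := by
  classical
  obtain ⟨I, hI⟩ : ∃ I : Ideal B, I = (IsLocalRing.maximalIdeal V).map (algebraMap V B) := ⟨_, rfl⟩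
  rw [← hI]
  constructor
  · intro hflat
    haveI : Module.Flat B (AdicCompletion I B) := inferInstance
    exact Module.Flat.trans V B (AdicCompletion I B)
  · intro hflat
    rw [IsDedekindDomain.flat_iff_torsion_eq_bot, eq_bot_iff]
    intro b hb
    rw [Submodule.mem_torsion_iff] at hb
    obtain ⟨⟨v, hv⟩, hvb⟩ := hb
    have hv0 : v ≠ 0 := nonZeroDivisors.ne_zero hv
    rw [Submodule.mem_bot]
    -- image in completion is zero
    have h1 : AdicCompletion.of I B b = 0 := by
      have htor := Module.Flat.torsion_eq_bot (R := V) (M := AdicCompletion I B)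
      have hmem : AdicCompletion.of I B b ∈ Submodule.torsion V (AdicCompletion I B) := by
        rw [Submodule.mem_torsion_iff]
        refine ⟨⟨v, hv⟩, ?_⟩
        show v • AdicCompletion.of I B b = 0
        rw [← algebraMap_smul B v (AdicCompletion.of I B b), ← map_smul, algebraMap_smul]
        have : v • b = 0 := hvb
        rw [this, map_zero]
      rw [htor] at hmem
      exact (Submodule.mem_bot _).mp hmem
    have h2 : b ∈ (⨅ i : ℕ, I ^ i • ⊤ : Submodule B B) := by
      rw [Submodule.mem_iInf]
      intro n
      have := congrArg (fun x => x.1 n) h1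
      simp only [AdicCompletion.of_apply] at this
      exact (Submodule.Quotient.mk_eq_zero _).mp this
    obtain ⟨⟨r, hr⟩, hrb⟩ := (I.mem_iInf_smul_pow_eq_bot_iff b).mp h2
    obtain ⟨ϖ, hϖ⟩ := IsDiscreteValuationRing.exists_irreducible V
    obtain ⟨n, u, hvu⟩ := IsDiscreteValuationRing.eq_unit_mul_pow_irreducible hv0 hϖ
    -- ϖ^n • b = 0
    have h3 : (ϖ ^ n) • b = 0 := by
      have : v • b = 0 := hvb
      rw [hvu, mul_smul] at this
      have h4 := congrArg (fun x => (↑u⁻¹ : V) • x) this
      simp only [smul_zero] at h4
      rw [← mul_smul, Units.inv_mul, one_smul] at h4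
      exact h4
    -- r = algebraMap ϖ * c
    have hr' : r ∈ Ideal.span {algebraMap V B ϖ} := by
      rw [hI, hϖ.maximalIdeal_eq, Ideal.map_span, Set.image_singleton] at hr
      exact hr
    obtain ⟨c, hc⟩ := Ideal.mem_span_singleton'.mp hr'
    have h5 : ∀ j : ℕ, r ^ j * b = b := by
      intro j
      induction j with
      | zero => simp
      | succ j ih =>
        rw [pow_succ, mul_assoc]
        have : r * b = b := hrb
        rw [this, ih]
    have h6 := h5 n
    rw [← hc, mul_pow, mul_assoc, ← map_pow, ← Algebra.smul_def, h3, mul_zero] at h6
    exact h6.symm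

end Groth.Agent.S19383
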