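import Groth.Statements.S19392
import Mathlib
-- import your own Groth.Agent.* helpers here

set_option autoImplicit false
universe u
open InvQ

namespace Groth.Agent.S19392

open Polynomial W4c6intromoduli

theorem rootPoly_eq {k : Type u} [Field k] (la mu : Fin 4 → k) :
    rootPoly la mu =
      C (mu 0 * mu 1 * mu 2 * mu 3)
      + C (-(la 0 * mu 1 * mu 2 * mu 3 + mu 0 * la 1 * mu 2 * mu 3 + mu 0 * mu 1 * la 2 * mu 3 + mu 0 * mu 1 * mu 2 * la 3)) * X
      + C (la 0 * la 1 * mu 2 * mu 3 + la 0 * mu 1 * la 2 * mu 3 + la 0 * mu 1 * mu 2 * la 3 + mu 0 * la 1 * la 2 * mu 3 + mu 0 * la 1 * mu 2 * la 3 + mu 0 * mu 1 * la 2 * la 3) * X ^ 2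
      + C (-(la 0 * la 1 * la 2 * mu 3 + la 0 * la 1 * mu 2 * la 3 + la 0 * mu 1 * la 2 * la 3 + mu 0 * la 1 * la 2 * la 3)) * X ^ 3
      + C (la 0 * la 1 * la 2 * la 3) * X ^ 4 := by
  simp only [rootPoly, Fin.prod_univ_four, map_add, map_mul, map_neg]
  ring

theorem coeff_quartic {k : Type u} [Field k] (a0 a1 a2 a3 a4 : k) :
    (C a0 + C a1 * X + C a2 * X ^ 2 + C a3 * X ^ 3 + C a4 * X ^ 4 : k[X]).coeff 0 = a0 ∧
    (C a0 + C a1 * X + C a2 * X ^ 2 + C a3 * X ^ 3 + C a4 * X ^ 4 : k[X]).coeff 1 = a1 ∧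
    (C a0 + C a1 * X + C a2 * X ^ 2 + C a3 * X ^ 3 + C a4 * X ^ 4 : k[X]).coeff 2 = a2 ∧
    (C a0 + C a1 * X + C a2 * X ^ 2 + C a3 * X ^ 3 + C a4 * X ^ 4 : k[X]).coeff 3 = a3 ∧
    (C a0 + C a1 * X + C a2 * X ^ 2 + C a3 * X ^ 3 + C a4 * X ^ 4 : k[X]).coeff 4 = a4 := by
  refine ⟨?_, ?_, ?_, ?_, ?_⟩ <;> simp [coeff_X_pow, coeff_X, coeff_C]

theorem coef0 {k : Type u} [Field k] (la mu : Fin 4 → k) : coef la mu 0 = mu 0 * mu 1 * mu 2 * mu 3 := by
  rw [coef, rootPoly_eq]; exact (coeff_quartic _ _ _ _ _).1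
theorem coef1 {k : Type u} [Field k] (la mu : Fin 4 → k) : coef la mu 1 = -(la 0 * mu 1 * mu 2 * mu 3 + mu 0 * la 1 * mu 2 * mu 3 + mu 0 * mu 1 * la 2 * mu 3 + mu 0 * mu 1 * mu 2 * la 3) := by
  rw [coef, rootPoly_eq]; exact (coeff_quartic _ _ _ _ _).2.1
theorem coef2 {k : Type u} [Field k] (la mu : Fin 4 → k) : coef la mu 2 = la 0 * la 1 * mu 2 * mu 3 + la 0 * mu 1 * la 2 * mu 3 + la 0 * mu 1 * mu 2 * la 3 + mu 0 * la 1 * la 2 * mu 3 + mu 0 * la 1 * mu 2 * la 3 + mu 0 * mu 1 * la 2 * la 3 := by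
  rw [coef, rootPoly_eq]; exact (coeff_quartic _ _ _ _ _).2.2.1
theorem coef3 {k : Type u} [Field k] (la mu : Fin 4 → k) : coef la mu 3 = -(la 0 * la 1 * la 2 * mu 3 + la 0 * la 1 * mu 2 * la 3 + la 0 * mu 1 * la 2 * la 3 + mu 0 * la 1 * la 2 * la 3) := by
  rw [coef, rootPoly_eq]; exact (coeff_quartic _ _ _ _ _).2.2.2.1
theorem coef4 {k : Type u} [Field k] (la mu : Fin 4 → k) : coef la mu 4 = la 0 * la 1 * la 2 * la 3 := by
  rw [coef, rootPoly_eq]; exact (coeff_quartic _ _ _ _ _).2.2.2.2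

theorem two_invI {k : Type u} [Field k] (la mu : Fin 4 → k) :
    2 * invI (coef la mu) =
      ((la 0 * mu 1 - la 1 * mu 0) * (la 2 * mu 3 - la 3 * mu 2)) ^ 2 +
      ((la 0 * mu 2 - la 2 * mu 0) * (la 3 * mu 1 - la 1 * mu 3)) ^ 2 +
      ((la 0 * mu 3 - la 3 * mu 0) * (la 1 * mu 2 - la 2 * mu 1)) ^ 2 := by
  rw [invI, coef0, coef1, coef2, coef3, coef4]; ring

theorem invJ_eq {k : Type u} [Field k] (la mu : Fin 4 → k) :
    invJ (coef la mu) =
      (((la 0 * mu 1 - la 1 * mu 0) * (la 2 * mu 3 - la 3 * mu 2)) - ((la 0 * mu 2 - la 2 * mu 0) * (la 3 * mu 1 - la 1 * mu 3))) *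
      (((la 0 * mu 2 - la 2 * mu 0) * (la 3 * mu 1 - la 1 * mu 3)) - ((la 0 * mu 3 - la 3 * mu 0) * (la 1 * mu 2 - la 2 * mu 1))) *
      (((la 0 * mu 3 - la 3 * mu 0) * (la 1 * mu 2 - la 2 * mu 1)) - ((la 0 * mu 1 - la 1 * mu 0) * (la 2 * mu 3 - la 3 * mu 2))) := by
  rw [invJ, coef0, coef1, coef2, coef3, coef4]; ring

/-- Over a field of characteristic different from 2 and 3, a nonzero binary quartic f has P(f) = Q(f) =
0 for the two basic invariants P, Q if and only if f has a triple zero. Stated for f = ∏_i (μ_i X₀ −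
λ_i X₁) given by four root points (λ_i, μ_i) ≠ (0, 0) (over an algebraically closed field every
nonzero quartic form is of this shape), with the integral invariants I = 6P and J = 72Q of the
coefficients of f; a triple zero means that three of the four root points are pairwise proportional. -/
theorem result (k : Type u) [Field k]
    (h2 : (2 : k) ≠ 0) (h3 : (3 : k) ≠ 0) (la mu : Fin 4 → k) (hne : ∀ i, la i ≠ 0 ∨ mu i ≠ 0) :
    (W4c6intromoduli.invI (W4c6intromoduli.coef la mu) = 0 ∧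
        W4c6intromoduli.invJ (W4c6intromoduli.coef la mu) = 0) ↔
      ∃ i j l : Fin 4, i ≠ j ∧ j ≠ l ∧ i ≠ l ∧
        la i * mu j = la j * mu i ∧ la j * mu l = la l * mu j := by
  have hPl : ((la 0 * mu 1 - la 1 * mu 0) * (la 2 * mu 3 - la 3 * mu 2)) +
      ((la 0 * mu 2 - la 2 * mu 0) * (la 3 * mu 1 - la 1 * mu 3)) +
      ((la 0 * mu 3 - la 3 * mu 0) * (la 1 * mu 2 - la 2 * mu 1)) = 0 := by ring
  have hI := two_invI la mu
  have hJ := invJ_eq la mu
  set A := (la 0 * mu 1 - la 1 * mu 0) * (la 2 * mu 3 - la 3 * mu 2) with hA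
  set B := (la 0 * mu 2 - la 2 * mu 0) * (la 3 * mu 1 - la 1 * mu 3) with hB
  set C := (la 0 * mu 3 - la 3 * mu 0) * (la 1 * mu 2 - la 2 * mu 1) with hC
  have h6 : (6 : k) ≠ 0 := by
    have : (6 : k) = 2 * 3 := by norm_num
    rw [this]; exact mul_ne_zero h2 h3
  constructor
  · rintro ⟨eI, eJ⟩
    rw [eI, mul_zero] at hI
    rw [eJ] at hJ
    have hABC : A = 0 ∧ B = 0 := by
      rcases mul_eq_zero.1 hJ.symm with h | h
      · rcases mul_eq_zero.1 h with h | h
        · -- A = B
          have hAB : A = B := sub_eq_zero.1 h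
          have hC' : C = -2 * A := by linear_combination hPl + hAB
          have : 6 * A ^ 2 = 0 := by rw [hC', ← hAB] at hI; linear_combination -hI
          have hA0 : A = 0 := by
            rcases mul_eq_zero.1 this with h | h
            · exact absurd h h6
            · exact pow_eq_zero_iff (by norm_num) |>.1 h
          exact ⟨hA0, by rw [← hAB]; exact hA0⟩
        · -- B = C
          have hBC : B = C := sub_eq_zero.1 h
          have hA' : A = -2 * B := by linear_combination hPl + hBC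
          have : 6 * B ^ 2 = 0 := by rw [hA', ← hBC] at hI; linear_combination -hI
          have hB0 : B = 0 := by
            rcases mul_eq_zero.1 this with h | h
            · exact absurd h h6
            · exact pow_eq_zero_iff (by norm_num) |>.1 h
          exact ⟨by rw [hA', hB0]; ring, hB0⟩
      · -- C = A
        have hCA : C = A := sub_eq_zero.1 h
        have hB' : B = -2 * A := by linear_combination hPl - hCA
        have : 6 * A ^ 2 = 0 := by rw [hB', hCA] at hI; linear_combination -hI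
        have hA0 : A = 0 := by
          rcases mul_eq_zero.1 this with h | h
          · exact absurd h h6
          · exact pow_eq_zero_iff (by norm_num) |>.1 h
        exact ⟨hA0, by rw [hB', hA0]; ring⟩
    obtain ⟨hA0, hB0⟩ := hABC
    rcases mul_eq_zero.1 hA0 with a1 | a1 <;> rcases mul_eq_zero.1 hB0 with b1 | b1
    · exact ⟨1, 0, 2, by decide, by decide, by decide, by linear_combination -a1, by linear_combination b1⟩
    · exact ⟨0, 1, 3, by decide, by decide, by decide, by linear_combination a1, by linear_combination -b1⟩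
    · exact ⟨0, 2, 3, by decide, by decide, by decide, by linear_combination b1, by linear_combination a1⟩
    · exact ⟨2, 3, 1, by decide, by decide, by decide, by linear_combination a1, by linear_combination b1⟩
  · rintro ⟨i, j, l, hij, hjl, hil, e1, e2⟩
    have e3 : la i * mu l = la l * mu i := by
      rcases hne j with h | h
      · apply mul_left_cancel₀ h
        linear_combination la i * e2 + la l * e1
      · apply mul_left_cancel₀ h
        linear_combination mu l * e1 + mu i * e2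
    have hABC : A = 0 ∧ B = 0 ∧ C = 0 := by
      rw [hA, hB, hC]
      fin_cases i <;> fin_cases j <;> fin_cases l <;> simp at hij hjl hil <;>
        simp only [Fin.zero_eta, Fin.mk_one, Fin.reduceFinMk] at e1 e2 e3 <;>
        (refine ⟨?_, ?_, ?_⟩ <;> grind)
    obtain ⟨hA0, hB0, hC0⟩ := hABC
    rw [hA0, hB0, hC0] at hI hJ
    constructor
    · have : 2 * W4c6intromoduli.invI (W4c6intromoduli.coef la mu) = 0 := by rw [hI]; ring
      rcases mul_eq_zero.1 this with h | h
      · exact absurd h h2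
      · exact h
    · rw [hJ]; ring

end Groth.Agent.S19392
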