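import Groth.Statements.S19395
import Mathlib
import Groth.Agent.Helper9.SSClos
import Groth.Agent.Helper9.SSConj
-- import your own Groth.Agent.* helpers here

set_option autoImplicit false
universe u
open InvQ

namespace Groth.Agent.S19395

/-- Over an algebraically closed field, the Zariski closures of the conjugation orbits of two square
matrices B₁, B₂ meet if and only if their semisimple parts lie in one orbit. The semisimple parts
are given as S_i with B_i = S_i + N_i, S_i semisimple, N_i nilpotent, S_i N_i = N_i S_i; a common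
point of the two closures is a matrix C at which every polynomial in the matrix entries vanishing on
the whole orbit of B₁, and every one vanishing on the whole orbit of B₂, vanishes. -/
theorem result (k : Type u) [Field k] [IsAlgClosed k]
    (n : ℕ) (B₁ S₁ N₁ B₂ S₂ N₂ : Matrix (Fin n) (Fin n) k)
    (hS₁ : Module.End.IsSemisimple (Matrix.toLin' S₁)) (hN₁ : IsNilpotent N₁) (hc₁ : Commute S₁ N₁)
    (hB₁ : B₁ = S₁ + N₁)
    (hS₂ : Module.End.IsSemisimple (Matrix.toLin' S₂)) (hN₂ : IsNilpotent N₂) (hc₂ : Commute S₂ N₂)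
    (hB₂ : B₂ = S₂ + N₂) :
    (∃ C : Matrix (Fin n) (Fin n) k,
        (∀ F : MvPolynomial (Fin n × Fin n) k,
          (∀ A : Matrix (Fin n) (Fin n) k, IsUnit A.det →
            MvPolynomial.eval (fun p => (A * B₁ * A⁻¹) p.1 p.2) F = 0) →
          MvPolynomial.eval (fun p => C p.1 p.2) F = 0) ∧
        (∀ F : MvPolynomial (Fin n × Fin n) k,
          (∀ A : Matrix (Fin n) (Fin n) k, IsUnit A.det →
            MvPolynomial.eval (fun p => (A * B₂ * A⁻¹) p.1 p.2) F = 0) →
          MvPolynomial.eval (fun p => C p.1 p.2) F = 0)) ↔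
      ∃ A : Matrix (Fin n) (Fin n) k, IsUnit A.det ∧ A * S₁ * A⁻¹ = S₂ := by
  classical
  obtain ⟨m₁, hm₁⟩ := hN₁
  obtain ⟨m₂, hm₂⟩ := hN₂
  subst hB₁ hB₂
  have cl₁ : ∀ F : MvPolynomial (Fin n × Fin n) k,
      (∀ A : Matrix (Fin n) (Fin n) k, IsUnit A.det →
        MvPolynomial.eval (fun p => (A * (S₁ + N₁) * A⁻¹) p.1 p.2) F = 0) →
      MvPolynomial.eval (fun p => S₁ p.1 p.2) F = 0 := fun F hF =>
    Helper9.SSClos.main F m₁ S₁ N₁ hS₁ (by rw [pow_succ, hm₁, zero_mul]) hc₁ hF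
  have cl₂ : ∀ F : MvPolynomial (Fin n × Fin n) k,
      (∀ A : Matrix (Fin n) (Fin n) k, IsUnit A.det →
        MvPolynomial.eval (fun p => (A * (S₂ + N₂) * A⁻¹) p.1 p.2) F = 0) →
      MvPolynomial.eval (fun p => S₂ p.1 p.2) F = 0 := fun F hF =>
    Helper9.SSClos.main F m₂ S₂ N₂ hS₂ (by rw [pow_succ, hm₂, zero_mul]) hc₂ hF
  constructor
  · rintro ⟨C, hC₁, hC₂⟩
    have e1 : C.charpoly = (S₁ + N₁).charpoly := Helper9.SSConj.charpoly_eq_of_closure _ _ hC₁
    have e2 : C.charpoly = (S₂ + N₂).charpoly := Helper9.SSConj.charpoly_eq_of_closure _ _ hC₂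
    have e3 : S₁.charpoly = (S₁ + N₁).charpoly := Helper9.SSConj.charpoly_eq_of_closure _ _ cl₁
    have e4 : S₂.charpoly = (S₂ + N₂).charpoly := Helper9.SSConj.charpoly_eq_of_closure _ _ cl₂
    have hcp : S₁.charpoly = S₂.charpoly := by rw [e3, ← e1, e2, ← e4]
    apply Helper9.SSConj.conj_of_finrank_eigenspace_eq S₁ S₂ hS₁ hS₂
    intro μ
    rw [← hS₁.isFinitelySemisimple.maxGenEigenspace_eq_eigenspace,
      ← hS₂.isFinitelySemisimple.maxGenEigenspace_eq_eigenspace,
      LinearMap.finrank_maxGenEigenspace_eq, LinearMap.finrank_maxGenEigenspace_eq,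
      Matrix.charpoly_toLin', Matrix.charpoly_toLin', hcp]
  · rintro ⟨A, hA, hAS⟩
    refine ⟨S₂, ?_, cl₂⟩
    intro F hF
    have hAi : A⁻¹ * A = 1 := Matrix.nonsing_inv_mul _ hA
    have hAi' : A * A⁻¹ = 1 := Matrix.mul_nonsing_inv _ hA
    have hconjmul : ∀ X Y : Matrix (Fin n) (Fin n) k,
        (A * X * A⁻¹) * (A * Y * A⁻¹) = A * (X * Y) * A⁻¹ := by
      intro X Y
      calc (A * X * A⁻¹) * (A * Y * A⁻¹) = A * X * (A⁻¹ * A) * Y * A⁻¹ := by
            simp only [mul_assoc]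
        _ = A * (X * Y) * A⁻¹ := by rw [hAi, mul_one]; simp only [mul_assoc]
    have hpow : ∀ j : ℕ, (A * N₁ * A⁻¹) ^ (j + 1) = A * N₁ ^ (j + 1) * A⁻¹ := by
      intro j
      induction j with
      | zero => simp
      | succ j ih => rw [pow_succ, ih, hconjmul, ← pow_succ]
    apply Helper9.SSClos.main F m₁ S₂ (A * N₁ * A⁻¹) hS₂ ?_ ?_ ?_
    · rw [hpow, pow_succ, hm₁, zero_mul, mul_zero, zero_mul]
    · show S₂ * (A * N₁ * A⁻¹) = A * N₁ * A⁻¹ * S₂
      rw [← hAS, hconjmul, hconjmul, hc₁.eq]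
    · intro A' hA'
      have h := hF (A' * A) (by rw [Matrix.det_mul]; exact hA'.mul hA)
      rw [← h]
      congr 2
      funext p
      rw [Matrix.mul_inv_rev, ← hAS]
      simp only [mul_add, add_mul, mul_assoc]

end Groth.Agent.S19395
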