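import Groth.Statements.S19398
import Mathlib
import Groth.Agent.Helper9.Reynolds
-- import your own Groth.Agent.* helpers here

set_option autoImplicit false
universe u
open GIT

namespace Groth.Agent.S19398

/-- For a reductive group G (here: every finite-dimensional representation completely reducible, i.e.
linearly reductive) acting linearly on vector spaces V and V′ of any dimension, with Reynolds
operators E and E′ (the projections onto the invariants along the unique invariant complement),
every G-linear map u : V → V′ satisfies E′ ∘ u = u ∘ E. Stated for comodules over a commutative Hopf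
algebra A whose finite-dimensional comodules are semisimple; a Reynolds operator is a comodule
endomorphism that is idempotent and fixes exactly the invariant vectors (such an operator is the
projection onto the invariants along an invariant complement, which is unique). -/
theorem result (k : Type u) [Field k] (A : Type u) [CommRing A] [HopfAlgebra k A]
    (hG : HopfRep.IsLinearlyReductive k A)
    (V W : Type u) [AddCommGroup V] [Module k V] [HopfRep.Comod k A V]
    [AddCommGroup W] [Module k W] [HopfRep.Comod k A W]
    (E : V →ₗ[k] V) (hE₁ : Hoch.IsComodHom A E) (hE₂ : E ∘ₗ E = E)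
    (hE₃ : ∀ x : V, E x = x ↔ x ∈ HopfRep.fixedPts k A V)
    (E' : W →ₗ[k] W) (hE'₁ : Hoch.IsComodHom A E') (hE'₂ : E' ∘ₗ E' = E')
    (hE'₃ : ∀ y : W, E' y = y ↔ y ∈ HopfRep.fixedPts k A W)
    (u : V →ₗ[k] W) (hu : Hoch.IsComodHom A u) :
    E' ∘ₗ u = u ∘ₗ E := by
  open Groth.Agent.Helper9 in
  have hss : HopfRep.IsSemisimpleComod k A V :=
    semisimple_of_finite (fun V' _ _ _ hf => hG V' hf)
  have hg : Hoch.IsComodHom A (E' ∘ₗ u) := Groth.Agent.Helper9.IsComodHom.comp hE'₁ hu
  have hE'f : ∀ y : W, E' y ∈ HopfRep.fixedPts k A W := by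
    intro y
    rw [← hE'₃]
    exact LinearMap.congr_fun hE'₂ y
  have hEf : ∀ x : V, E x ∈ HopfRep.fixedPts k A V := by
    intro x
    rw [← hE₃]
    exact LinearMap.congr_fun hE₂ x
  apply LinearMap.ext
  intro v
  have h1 : (E' ∘ₗ u) (v - E v) = 0 := by
    apply Groth.Agent.Helper9.reynolds_kills hss E hE₁ (fun x hx => (hE₃ x).mpr hx) (E' ∘ₗ u) hg
      (fun w => hE'f _)
    rw [map_sub]
    have := LinearMap.congr_fun hE₂ v
    simp only [LinearMap.comp_apply] at this
    rw [this, sub_self]
  have h2 : E' (u (E v)) = u (E v) :=
    (hE'₃ _).mpr (Groth.Agent.Helper9.map_mem_fixedPts hu (hEf v))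
  rw [map_sub, sub_eq_zero] at h1
  simp only [LinearMap.comp_apply] at h1 ⊢
  rw [h1, h2]

end Groth.Agent.S19398
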