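import Groth.Statements.S19400
import Mathlib
import Groth.Agent.Helper9.GrpPt
import Groth.Agent.S19602
-- import your own Groth.Agent.* helpers here

set_option autoImplicit false
universe u
open GIT

namespace Groth.Agent.S19400

/-- For a reductive group G (here: every finite-dimensional representation completely reducible, i.e.
linearly reductive; any characteristic) acting on an affine variety X = Spec R over an algebraically
closed field with all orbits of closed points closed, the morphism X → Y = Spec R^G is a geometric
quotient; in particular it is surjective on closed points and its fibre over every closed point of Y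
is a single orbit. This row states those two point-set assertions in coaction form: G = Spec A with
A a finitely generated commutative Hopf algebra whose finite-dimensional comodules are semisimple, R
of finite type with a multiplicative unital coaction, points as k-algebra maps. The published
statement takes X to be a variety (reduced and irreducible); this row does not assume R reduced or a
domain. -/
theorem result (k : Type u) [Field k] [IsAlgClosed k]
    (A : Type u) [CommRing A] [HopfAlgebra k A] [Algebra.FiniteType k A]
    (hG : HopfRep.IsLinearlyReductive k A)
    (R : Type u) [CommRing R] [Algebra k R] [Algebra.FiniteType k R]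
    [HopfRep.Comod k A R] [GLin.IsCoactAlg k A R]
    (hcl : ∀ x : R →ₐ[k] k, GLin.IsClosedOrbit k A x)
    (y : GLin.invariants k A R →ₐ[k] k) :
    (∃ x : R →ₐ[k] k, x.comp (GLin.invariants k A R).val = y) ∧
      ∀ x x' : R →ₐ[k] k, x.comp (GLin.invariants k A R).val = y →
        x'.comp (GLin.invariants k A R).val = y →
          ∃ g : A →ₐ[k] k, x' = GLin.actPt k g x := by
  have hss : HopfRep.IsSemisimpleComod k A R :=
    Groth.Agent.Helper9.semisimple_of_finite (fun V' _ _ _ hf => hG V' hf)
  constructor
  · -- surjectivity on points
    have hne : Ideal.map (GLin.invariants k A R).val.toRingHom (RingHom.ker y) ≠ ⊤ := by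
      intro htop
      have h1 := Groth.Agent.Helper9.comap_map_invariants hss (RingHom.ker y)
      rw [htop, Ideal.comap_top] at h1
      have h2 : (1 : GLin.invariants k A R) ∈ RingHom.ker y := by rw [← h1]; exact Submodule.mem_top
      rw [RingHom.mem_ker, map_one] at h2
      exact one_ne_zero h2
    obtain ⟨x, hx⟩ := Groth.Agent.Helper9.exists_point_of_ne_top (k := k) _ hne
    refine ⟨x, ?_⟩
    apply AlgHom.ext
    intro f
    have hmem : f - algebraMap k (GLin.invariants k A R) (y f) ∈ RingHom.ker y := by
      rw [RingHom.mem_ker, map_sub, AlgHom.commutes]
      simp
    have h2 := hx (Ideal.mem_map_of_mem (GLin.invariants k A R).val.toRingHom hmem)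
    rw [RingHom.mem_ker] at h2
    have h3 : x ((GLin.invariants k A R).val (f - algebraMap k (GLin.invariants k A R) (y f))) = 0 :=
      h2
    rw [map_sub, map_sub, AlgHom.commutes, AlgHom.commutes, sub_eq_zero] at h3
    have h4 : x ((GLin.invariants k A R).val f) = y f := by simpa using h3
    exact h4
  · intro x x' hx hx'
    have hxx : x.comp (GLin.invariants k A R).val = x'.comp (GLin.invariants k A R).val := by
      rw [hx, hx']
    obtain ⟨z, hz, hz'⟩ := (Groth.Agent.S19602.result k A hG R x x').mp hxx
    obtain ⟨g, hg⟩ := Groth.Agent.Helper9.exists_actPt_of_closed x z (hcl x) hz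
    obtain ⟨g', hg'⟩ := Groth.Agent.Helper9.exists_actPt_of_closed x' z (hcl x') hz'
    exact Groth.Agent.Helper9.same_orbit x x' g g' (hg.trans hg'.symm)

end Groth.Agent.S19400
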