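import Groth.Statements.S19436
import Mathlib
import Groth.Agent.S18387
-- import your own Groth.Agent.* helpers here

set_option autoImplicit false
universe u
open CAlg

namespace Groth.Agent.S19436

/-- For a Noetherian local commutative algebra R over a field k, with maximal ideal M, and an ideal I of
R whose quotient R/I is finite-dimensional over k of dimension n, the power M^n lies in I. -/
theorem result (k : Type u) [Field k] (R : Type u) [CommRing R]
    [Algebra k R] [IsNoetherianRing R] [IsLocalRing R] (I : Ideal R) [Module.Finite k (R ⧸ I)] (n : ℕ)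
    (hn : Module.finrank k (R ⧸ I) = n) : IsLocalRing.maximalIdeal R ^ n ≤ I := by
  classical
  subst hn
  set A := R ⧸ I with hA
  have hArt : IsArtinianRing A := IsArtinianRing.of_finite k A
  have hnil := Groth.Agent.S18387.result k A
  -- image of the maximal ideal lies in the nilradical
  have hle : (IsLocalRing.maximalIdeal R).map (Ideal.Quotient.mk I) ≤ nilradical A := by
    rw [Ideal.map_le_iff_le_comap]
    intro x hx
    rw [Ideal.mem_comap, mem_nilradical]
    have hjac : Ideal.Quotient.mk I x ∈ Ideal.jacobson (⊥ : Ideal A) := by
      rw [Ideal.jacobson, Ideal.mem_sInf]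
      rintro J ⟨-, hJ⟩
      have hJ' : (J.comap (Ideal.Quotient.mk I)).IsMaximal :=
        Ideal.comap_isMaximal_of_surjective _ Ideal.Quotient.mk_surjective
      have := IsLocalRing.eq_maximalIdeal hJ'
      have hx' : x ∈ J.comap (Ideal.Quotient.mk I) := by rw [this]; exact hx
      exact hx'
    obtain ⟨m, hm⟩ := IsArtinianRing.isNilpotent_jacobson_bot (R := A)
    refine ⟨m, ?_⟩
    have := Ideal.pow_mem_pow hjac m
    rw [hm] at this
    simpa using this
  intro z hz
  have h1 : Ideal.Quotient.mk I z ∈ ((IsLocalRing.maximalIdeal R) ^ Module.finrank k A).map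
      (Ideal.Quotient.mk I) := Ideal.mem_map_of_mem _ hz
  rw [Ideal.map_pow] at h1
  have h2 := Ideal.pow_right_mono hle (Module.finrank k A) h1
  rw [hnil] at h2
  exact Ideal.Quotient.eq_zero_iff_mem.1 (by simpa using h2)

end Groth.Agent.S19436
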