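import Groth.Statements.S19438
import Mathlib
-- import your own Groth.Agent.* helpers here

set_option autoImplicit false
universe u
open CAlg

namespace Groth.Agent.S19438

/-- First assertion: let A be a Noetherian local commutative algebra over a field k with maximal ideal
M, residue field k (the map from k to A/M is onto) and embedding dimension dim M/M^2 at least 2, and
let I be a proper ideal with A/I finite-dimensional over k. If A/I is generated as a k-algebra by
one element, then some element of I does not lie in M^2; that is, the finite closed subscheme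
defined by I lies on a smooth hypersurface germ (it is curvilinear). (The published statement is for
the local ring of a smooth surface at a closed point; only a Noetherian local algebra with residue
field k and embedding dimension at least 2 is assumed here, which is what the published argument
uses.) -/
theorem result (k : Type u) [Field k]
    (A : Type u) [CommRing A] [Algebra k A] [IsNoetherianRing A] [IsLocalRing A]
    (hres : Function.Surjective (algebraMap k (IsLocalRing.ResidueField A)))
    (hemb : 2 ≤ Module.finrank (IsLocalRing.ResidueField A) (IsLocalRing.CotangentSpace A))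
    (I : Ideal A) (hI : I ≠ ⊤) [Module.Finite k (A ⧸ I)]
    (f : A ⧸ I) (hf : Algebra.adjoin k {f} = ⊤) :
    ∃ g ∈ I, g ∉ IsLocalRing.maximalIdeal A ^ 2 := by
  classical
  by_contra hcon
  push Not at hcon
  -- hcon : ∀ g ∈ I, g ∈ M^2
  obtain ⟨Mx, hMx⟩ : ∃ Mx : Ideal A, Mx = IsLocalRing.maximalIdeal A := ⟨_, rfl⟩
  obtain ⟨a, rfl⟩ := Ideal.Quotient.mk_surjective f
  obtain ⟨c, hc⟩ := hres (IsLocalRing.residue A a)
  have hm : a - algebraMap k A c ∈ Mx := by
    rw [hMx, ← IsLocalRing.residue_eq_zero_iff, map_sub, ← hc]
    rw [IsScalarTower.algebraMap_apply k A (IsLocalRing.ResidueField A)]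
    exact sub_self _
  obtain ⟨m, hmdef⟩ : ∃ m, m = a - algebraMap k A c := ⟨_, rfl⟩
  rw [← hmdef] at hm
  have ha : a = algebraMap k A c + m := by rw [hmdef]; ring
  -- key claim
  have hkey : ∀ x : A, ∃ α β : k, x - algebraMap k A α - algebraMap k A β * m ∈ Mx ^ 2 := by
    intro x
    have hx : Ideal.Quotient.mk I x ∈ Algebra.adjoin k {Ideal.Quotient.mk I a} := by
      rw [hf]; trivial
    rw [Algebra.adjoin_singleton_eq_range_aeval] at hx
    obtain ⟨p, hp⟩ := hx
    have h1 : x - Polynomial.aeval a p ∈ Mx ^ 2 := by
      rw [hMx]
      apply hcon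
      rw [← Ideal.Quotient.eq]
      rw [← hp]
      show _ = Ideal.Quotient.mkₐ k I (Polynomial.aeval a p)
      rw [← Polynomial.aeval_algHom_apply]
      rfl
    -- Taylor in A / Mx^2
    have h2 : Ideal.Quotient.mkₐ k (Mx ^ 2) (Polynomial.aeval a p) =
        Ideal.Quotient.mkₐ k (Mx ^ 2) (algebraMap k A (p.eval c) +
          algebraMap k A (p.derivative.eval c) * m) := by
      rw [← Polynomial.aeval_algHom_apply, ha, map_add]
      have hsq : (Ideal.Quotient.mkₐ k (Mx ^ 2) m) ^ 2 = 0 := by
        rw [← map_pow]
        exact Ideal.Quotient.eq_zero_iff_mem.mpr (Ideal.pow_mem_pow hm 2)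
      rw [Polynomial.aeval_add_of_sq_eq_zero _ _ _ hsq, map_add, map_mul]
      simp only [AlgHom.commutes, Polynomial.aeval_algebraMap_apply_eq_algebraMap_eval]
    refine ⟨p.eval c, p.derivative.eval c, ?_⟩
    have h3 : Polynomial.aeval a p - (algebraMap k A (p.eval c) +
          algebraMap k A (p.derivative.eval c) * m) ∈ Mx ^ 2 := by
      rw [← Ideal.Quotient.eq]
      exact h2
    have : x - algebraMap k A (Polynomial.eval c p) - algebraMap k A (Polynomial.eval c (Polynomial.derivative p)) * m =
        (x - Polynomial.aeval a p) + (Polynomial.aeval a p - (algebraMap k A (p.eval c) +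
          algebraMap k A (p.derivative.eval c) * m)) := by ring
    rw [this]
    exact Ideal.add_mem _ h1 h3
  -- cotangent space spanned by class of m
  have hle : Module.finrank (IsLocalRing.ResidueField A) (IsLocalRing.CotangentSpace A) ≤ 1 := by
    rw [hMx] at hm
    apply finrank_le_one ((IsLocalRing.maximalIdeal A).toCotangent ⟨m, hm⟩)
    intro w
    obtain ⟨⟨y, hy⟩, rfl⟩ := Ideal.toCotangent_surjective _ w
    obtain ⟨α, β, hαβ⟩ := hkey y
    have hα : α = 0 := by
      by_contra hα0
      have hunit : IsUnit (algebraMap k A α) := (IsUnit.mk0 α hα0).map (algebraMap k A)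
      have hmem : algebraMap k A α ∈ IsLocalRing.maximalIdeal A := by
        have h1 : algebraMap k A α = y - algebraMap k A β * m -
            (y - algebraMap k A α - algebraMap k A β * m) := by ring
        rw [h1]
        refine Ideal.sub_mem _ (Ideal.sub_mem _ hy (Ideal.mul_mem_left _ _ hm)) ?_
        rw [hMx] at hαβ
        exact Ideal.pow_le_self (by norm_num) hαβ
      exact (IsLocalRing.mem_maximalIdeal _).mp hmem hunit
    rw [hα, map_zero, sub_zero, hMx] at hαβ
    refine ⟨algebraMap A (IsLocalRing.ResidueField A) (algebraMap k A β), ?_⟩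
    rw [IsScalarTower.algebraMap_smul, ← map_smul, Ideal.toCotangent_eq]
    have : ((algebraMap k A β • (⟨m, hm⟩ : IsLocalRing.maximalIdeal A) : IsLocalRing.maximalIdeal A) : A) - y =
        -(y - algebraMap k A β * m) := by
      simp only [Submodule.coe_smul, smul_eq_mul]
      ring
    rw [this]
    exact Ideal.neg_mem_iff _ |>.mpr hαβ
  omega

end Groth.Agent.S19438
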