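import Groth.Statements.S19439
import Mathlib
-- import your own Groth.Agent.* helpers here

set_option autoImplicit false
universe u
open CAlg

namespace Groth.Agent.S19439

/-- Affine form: for all n and N there is an integer d, that depends only on n and N, such that for
every algebraically closed field k and every ideal I of the polynomial ring in N variables over k
whose quotient has finite dimension n over k, the polynomials of total degree at most d map onto the
quotient. -/
theorem result (n N : ℕ) :
    ∃ d : ℕ, ∀ (k : Type u) [Field k] [IsAlgClosed k] (I : Ideal (MvPolynomial (Fin N) k))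
      [Module.Finite k (MvPolynomial (Fin N) k ⧸ I)],
      Module.finrank k (MvPolynomial (Fin N) k ⧸ I) = n →
      Submodule.map (Ideal.Quotient.mkₐ k I).toLinearMap (MvPolynomial.restrictTotalDegree (Fin N) k d) = ⊤ := by
  refine ⟨n, ?_⟩
  intro k _ _ I _ hn
  classical
  obtain ⟨π, hπ⟩ : ∃ π : MvPolynomial (Fin N) k →ₗ[k] (MvPolynomial (Fin N) k ⧸ I),
      π = (Ideal.Quotient.mkₐ k I).toLinearMap := ⟨_, rfl⟩
  rw [← hπ]
  have hπmul : ∀ p r, π (p * r) = π p * π r := by
    intro p r; rw [hπ]; simp
  obtain ⟨V, hV⟩ : ∃ V : ℕ → Submodule k (MvPolynomial (Fin N) k ⧸ I),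
      V = fun j => Submodule.map π (MvPolynomial.restrictTotalDegree (Fin N) k j) := ⟨_, rfl⟩
  have hVmem : ∀ j q, q ∈ V j ↔ ∃ p : MvPolynomial (Fin N) k, p.totalDegree ≤ j ∧ π p = q := by
    intro j q
    rw [hV]
    simp only [Submodule.mem_map, MvPolynomial.mem_restrictTotalDegree]
  have hVmono : Monotone V := by
    intro a b hab q hq
    rw [hVmem] at hq ⊢
    obtain ⟨p, hp, rfl⟩ := hq
    exact ⟨p, le_trans hp hab, rfl⟩
  have hmul : ∀ j i q, q ∈ V j → π (MvPolynomial.X i) * q ∈ V (j + 1) := by
    intro j i q hq
    rw [hVmem] at hq ⊢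
    obtain ⟨r, hr, rfl⟩ := hq
    refine ⟨MvPolynomial.X i * r, ?_, hπmul _ _⟩
    calc (MvPolynomial.X i * r).totalDegree ≤ (MvPolynomial.X i : MvPolynomial (Fin N) k).totalDegree + r.totalDegree :=
          MvPolynomial.totalDegree_mul _ _
      _ ≤ 1 + j := by rw [MvPolynomial.totalDegree_X]; omega
      _ = j + 1 := by ring
  have hstab : ∀ j, V (j + 1) ≤ V j → V (j + 2) ≤ V (j + 1) := by
    intro j hj q hq
    rw [hVmem] at hq
    obtain ⟨p, hp, rfl⟩ := hq
    rw [p.as_sum, map_sum]
    apply Submodule.sum_mem
    intro s hs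
    have hdeg : s.degree ≤ j + 2 := le_trans (MvPolynomial.le_totalDegree hs) hp
    by_cases h1 : s.degree ≤ j + 1
    · rw [hVmem]
      refine ⟨MvPolynomial.monomial s (MvPolynomial.coeff s p), ?_, rfl⟩
      exact le_trans (MvPolynomial.totalDegree_monomial_le _ _) h1
    · have hpos : s ≠ 0 := by
        rintro rfl
        simp at h1
      obtain ⟨i, hi⟩ : ∃ i, s i ≠ 0 := by
        by_contra hcon
        push Not at hcon
        exact hpos (Finsupp.ext hcon)
      have hs' := Finsupp.sub_add_single_one_cancel hi
      have hdeg' : (s - Finsupp.single i 1).degree ≤ j + 1 := by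
        have : s.degree = (s - Finsupp.single i 1).degree + 1 := by
          conv_lhs => rw [← hs']
          rw [map_add, Finsupp.degree_single]
        omega
      rw [← hs', MvPolynomial.monomial_add_single, pow_one, mul_comm, hπmul]
      apply hmul
      apply hj
      rw [hVmem]
      exact ⟨_, le_trans (MvPolynomial.totalDegree_monomial_le _ _) hdeg', rfl⟩
  have hstab' : ∀ j, V (j + 1) ≤ V j → ∀ t, V (j + t) ≤ V j := by
    intro j hj t
    induction t with
    | zero => exact le_rfl
    | succ t ih =>
      have : ∀ t, V (j + t + 1) ≤ V (j + t) := by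
        intro t
        induction t with
        | zero => exact hj
        | succ t ih2 => exact hstab (j + t) ih2
      exact le_trans (this t) ih
  have htop : ∀ j, V (j + 1) ≤ V j → V j = ⊤ := by
    intro j hj
    rw [eq_top_iff]
    intro q _
    obtain ⟨p, rfl⟩ := Ideal.Quotient.mk_surjective q
    have hq : π p ∈ V (j + p.totalDegree) := by
      rw [hVmem]
      exact ⟨p, by omega, rfl⟩
    have := hstab' j hj p.totalDegree hq
    rw [hπ] at this
    exact this
  -- dimension count
  have hex : ∃ j, j ≤ n ∧ V (j + 1) ≤ V j := by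
    by_contra hcon
    push Not at hcon
    have hlt : ∀ j, j ≤ n → V j < V (j + 1) := by
      intro j hj
      exact lt_of_le_of_ne (hVmono (Nat.le_succ j)) (fun h => hcon j hj (le_of_eq h.symm))
    have hfr : ∀ j, j ≤ n + 1 → j ≤ Module.finrank k (V j) := by
      intro j
      induction j with
      | zero => intro _; exact Nat.zero_le _
      | succ j ih =>
        intro hj
        have := Submodule.finrank_lt_finrank_of_lt (hlt j (by omega))
        have := ih (by omega)
        omega
    have h1 := hfr (n + 1) le_rfl
    have h2 := Submodule.finrank_le (V (n + 1))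
    omega
  obtain ⟨j, hjn, hj⟩ := hex
  have h1 := htop j hj
  have h2 := hVmono hjn
  rw [h1, top_le_iff] at h2
  rw [← h2, hV]

end Groth.Agent.S19439
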