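import Groth.Statements.S19440
import Mathlib
-- import your own Groth.Agent.* helpers here

set_option autoImplicit false
universe u
open LinAlg

namespace Groth.Agent.S19440

/-- Let U, V be commuting n × n matrices over a field k and e a vector which is cyclic for them (the
vectors U^p V^q e span k^n). An invertible matrix T which commutes with U and V and fixes e is the
identity: the general linear group acts freely by simultaneous conjugation on commuting pairs with a
cyclic vector. -/
theorem result (k : Type u) [Field k] (n : ℕ)
    (U V : Matrix (Fin n) (Fin n) k) (hUV : U * V = V * U) (e : Fin n → k)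
    (he : Submodule.span k (Set.range fun p : ℕ × ℕ => (U ^ p.1 * V ^ p.2).mulVec e) = ⊤)
    (T : Matrix.GeneralLinearGroup (Fin n) k)
    (hTU : (T : Matrix (Fin n) (Fin n) k) * U = U * T) (hTV : (T : Matrix (Fin n) (Fin n) k) * V = V * T)
    (hTe : (T : Matrix (Fin n) (Fin n) k).mulVec e = e) : T = 1 := by
  set M : Matrix (Fin n) (Fin n) k := (T : Matrix (Fin n) (Fin n) k) with hMdef
  have hcU : Commute M U := hTU
  have hcV : Commute M V := hTV
  have hM : Matrix.toLin' M = LinearMap.id := by
    apply LinearMap.ext_on he
    rintro _ ⟨⟨p, q⟩, rfl⟩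
    simp only [Matrix.toLin'_apply, LinearMap.id_coe, id_eq, Matrix.mulVec_mulVec]
    have h1 : M * (U ^ p * V ^ q) = (U ^ p * V ^ q) * M :=
      ((hcU.pow_right p).mul_right (hcV.pow_right q)).eq
    rw [h1, ← Matrix.mulVec_mulVec, hTe]
  have hM1 : M = 1 := by
    apply Matrix.toLin'.injective
    rw [hM, Matrix.toLin'_one]
  exact Units.ext hM1

end Groth.Agent.S19440
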