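import Groth.Statements.S19443
import Mathlib
-- import your own Groth.Agent.* helpers here

set_option autoImplicit false
universe u
open LinAlg

namespace Groth.Agent.S19443

/-- Algebraic form: let G be a finite group with order invertible in the field k, ρ a linear
representation of G on a k-vector space V, and ω a nondegenerate bilinear form on V invariant under
G. Then ω restricted to the fixed subspace V^G is nondegenerate (for a finite group of symplectic
automorphisms, the fixed subspace is a symplectic subspace). -/
theorem result (k : Type u) [Field k]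
    (G : Type u) [Group G] [Finite G] (hG : (Nat.card G : k) ≠ 0)
    (V : Type u) [AddCommGroup V] [Module k V] (ρ : Representation k G V)
    (ω : LinearMap.BilinForm k V) (hω : ω.Nondegenerate)
    (hinv : ∀ (g : G) (v w : V), ω (ρ g v) (ρ g w) = ω v w) :
    (ω.restrict ρ.invariants).Nondegenerate := by
  classical
  haveI := Fintype.ofFinite G
  have hcard : (Fintype.card G : k) ≠ 0 := by rwa [← Nat.card_eq_fintype_card]
  let avg : V → V := fun v => (Fintype.card G : k)⁻¹ • ∑ g, ρ g v
  have havg : ∀ v, avg v ∈ ρ.invariants := by
    intro v
    rw [Representation.mem_invariants]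
    intro h
    simp only [avg, map_smul, map_sum]
    congr 1
    calc ∑ g, ρ h (ρ g v) = ∑ g, ρ (h * g) v := by simp [map_mul]
      _ = ∑ g, ρ g v := Equiv.sum_comp (Equiv.mulLeft h) (fun g => ρ g v)
  have hL : ∀ x ∈ ρ.invariants, ∀ v, ω x (avg v) = ω x v := by
    intro x hx v
    simp only [avg, map_smul, map_sum, smul_eq_mul]
    have : ∀ g, ω x (ρ g v) = ω x v := fun g => by
      conv_lhs => rw [← (Representation.mem_invariants ρ x).1 hx g]
      exact hinv g x v
    simp only [this, Finset.sum_const, Finset.card_univ, nsmul_eq_mul]
    rw [← mul_assoc, inv_mul_cancel₀ hcard, one_mul]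
  have hR : ∀ x ∈ ρ.invariants, ∀ v, ω (avg v) x = ω v x := by
    intro x hx v
    simp only [avg, map_smul, map_sum, smul_eq_mul, LinearMap.smul_apply, LinearMap.sum_apply]
    have : ∀ g, ω (ρ g v) x = ω v x := fun g => by
      conv_lhs => rw [← (Representation.mem_invariants ρ x).1 hx g]
      exact hinv g v x
    simp only [this, Finset.sum_const, Finset.card_univ, nsmul_eq_mul]
    rw [← mul_assoc, inv_mul_cancel₀ hcard, one_mul]
  constructor
  · intro x hx
    have : (x : V) = 0 := hω.1 x fun v => by
      rw [← hL x x.2 v]
      exact hx ⟨avg v, havg v⟩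
    exact Subtype.ext this
  · intro x hx
    have : (x : V) = 0 := hω.2 x fun v => by
      rw [← hR x x.2 v]
      exact hx ⟨avg v, havg v⟩
    exact Subtype.ext this

end Groth.Agent.S19443
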