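import Groth.Statements.S19448
import Mathlib
-- import your own Groth.Agent.* helpers here

set_option autoImplicit false
universe u
open CAlg

namespace Groth.Agent.S19448

/-- Let k be a field, A a Noetherian local k-algebra with maximal ideal M and residue field k, and G a
finite group with |G| ≠ 0 in k acting on A by k-algebra automorphisms. An element of G which acts
trivially on M/M^2 acts trivially on A; in other words the stabilizer acts faithfully on the
cotangent space whenever it acts faithfully on the local ring. -/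
theorem result (k : Type u) [Field k] (A : Type u) [CommRing A]
    [Algebra k A] [IsLocalRing A] [IsNoetherianRing A]
    (hres : Function.Surjective (algebraMap k (IsLocalRing.ResidueField A)))
    (G : Type u) [Group G] [Finite G] [MulSemiringAction G A] [SMulCommClass G k A]
    (hG : (Nat.card G : k) ≠ 0) (g : G)
    (hg : ∀ a ∈ IsLocalRing.maximalIdeal A, g • a - a ∈ IsLocalRing.maximalIdeal A ^ 2) (a : A) :
    g • a = a := by
  classical
  -- notation
  obtain ⟨Mx, hMx⟩ : ∃ Mx : Ideal A, Mx = IsLocalRing.maximalIdeal A := ⟨_, rfl⟩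
  rw [← hMx] at hg
  obtain ⟨gL, hgL⟩ : ∃ gL : Module.End k A, gL = DistribMulAction.toModuleEnd k A g := ⟨_, rfl⟩
  have hgLa : ∀ a, gL a = g • a := by intro a; rw [hgL]; rfl
  obtain ⟨δ, hδ⟩ : ∃ δ : Module.End k A, δ = gL - 1 := ⟨_, rfl⟩
  have hδa : ∀ a, δ a = g • a - a := by
    intro a
    rw [hδ, LinearMap.sub_apply, hgLa, Module.End.one_apply]
  -- δ kills scalars
  have hδc : ∀ c : k, δ (algebraMap k A c) = 0 := by
    intro c
    rw [hδa, Algebra.algebraMap_eq_smul_one, smul_comm, smul_one, sub_self]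
  -- F1
  have hF1 : ∀ a, δ a ∈ Mx ^ 2 := by
    intro a
    obtain ⟨c, hc⟩ := hres (IsLocalRing.residue A a)
    have hm : a - algebraMap k A c ∈ Mx := by
      rw [hMx, ← IsLocalRing.residue_eq_zero_iff, map_sub, ← hc]
      rw [IsScalarTower.algebraMap_apply k A (IsLocalRing.ResidueField A)]
      exact sub_self _
    have : δ a = δ (a - algebraMap k A c) := by rw [map_sub, hδc, sub_zero]
    rw [this, hδa]
    exact hg _ hm
  have hgM : ∀ b ∈ Mx, g • b ∈ Mx := by
    intro b hb
    have h1 : g • b = b + (g • b - b) := by ring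
    rw [h1]
    exact Mx.add_mem hb (Ideal.pow_le_self (by norm_num) (hg b hb))
  -- F2
  have hF2 : ∀ n : ℕ, ∀ a ∈ Mx ^ n, δ a ∈ Mx ^ (n + 1) := by
    intro n
    induction n with
    | zero =>
      intro a _
      exact Ideal.pow_le_pow_right (by norm_num) (hF1 a)
    | succ n ih =>
      intro a ha
      rw [pow_succ] at ha
      refine Submodule.mul_induction_on ha ?_ ?_
      · intro x hx y hy
        have : δ (x * y) = δ x * (g • y) + x * δ y := by
          rw [hδa, hδa, hδa, smul_mul']
          ring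
        rw [this]
        apply Ideal.add_mem
        · rw [pow_succ (Mx) (n + 1)]
          exact Ideal.mul_mem_mul (ih x hx) (hgM y hy)
        · have h2 : Mx ^ (n + 1 + 1) = Mx ^ n * Mx ^ 2 := by rw [← pow_add]
          rw [h2]
          exact Ideal.mul_mem_mul hx (hF1 y)
      · intro x y hx hy
        rw [map_add]
        exact Ideal.add_mem _ hx hy
  have hF3 : ∀ (j : ℕ) (a : A), (δ ^ j) a ∈ Mx ^ j := by
    intro j
    induction j with
    | zero => intro a; simp
    | succ j ih =>
      intro a
      rw [pow_succ' δ, Module.End.mul_apply]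
      exact hF2 j _ (ih a)
  -- order
  obtain ⟨m, hm⟩ : ∃ m, m = orderOf g := ⟨_, rfl⟩
  have hmk : (m : k) ≠ 0 := by
    intro h0
    apply hG
    obtain ⟨t, ht⟩ : m ∣ Nat.card G := by rw [hm]; exact orderOf_dvd_natCard g
    rw [ht, Nat.cast_mul, h0, zero_mul]
  have hgLm : gL ^ m = 1 := by
    rw [hgL, ← map_pow, hm, pow_orderOf_eq_one, map_one]
  -- polynomial identity
  obtain ⟨P, hP⟩ : ∃ P : Polynomial k, P = (Polynomial.X + 1) ^ m - 1 := ⟨_, rfl⟩
  have haevalP : Polynomial.aeval δ P = 0 := by
    rw [hP, map_sub, map_pow, map_add, Polynomial.aeval_X, map_one, hδ, sub_add_cancel, hgLm, sub_self]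
  have hdvd : Polynomial.X ^ 2 ∣ P - Polynomial.C (m : k) * Polynomial.X := by
    rw [Polynomial.X_pow_dvd_iff]
    intro d hd
    rw [hP]
    simp only [Polynomial.coeff_sub, Polynomial.coeff_X_add_one_pow, Polynomial.coeff_one,
      Polynomial.coeff_C_mul, Polynomial.coeff_X]
    interval_cases d
    · simp
    · simp
  obtain ⟨R, hR⟩ := hdvd
  obtain ⟨S, hS⟩ : ∃ S : Polynomial k, S = - Polynomial.C ((m : k)⁻¹) * R := ⟨_, rfl⟩
  have hX : P ∣ Polynomial.X - Polynomial.X ^ 2 * S := by
    refine ⟨Polynomial.C ((m : k)⁻¹), ?_⟩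
    have h1 : Polynomial.C ((m : k)⁻¹) * Polynomial.C (m : k) = 1 := by
      rw [← Polynomial.C_mul, inv_mul_cancel₀ hmk, Polynomial.C_1]
    have h2 : P = Polynomial.C (m : k) * Polynomial.X + Polynomial.X ^ 2 * R := by
      rw [← hR]; ring
    rw [hS]
    calc Polynomial.X - Polynomial.X ^ 2 * (-Polynomial.C ((m : k)⁻¹) * R)
        = (Polynomial.C ((m : k)⁻¹) * Polynomial.C (m : k)) * Polynomial.X +
            Polynomial.C ((m : k)⁻¹) * (Polynomial.X ^ 2 * R) := by rw [h1]; ring
      _ = P * Polynomial.C ((m : k)⁻¹) := by rw [h2]; ring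
  have hXn : ∀ n : ℕ, P ∣ Polynomial.X - Polynomial.X ^ (n + 1) * S ^ n := by
    intro n
    induction n with
    | zero => simp
    | succ n ih =>
      have : Polynomial.X - Polynomial.X ^ (n + 1 + 1) * S ^ (n + 1) =
          (Polynomial.X - Polynomial.X ^ 2 * S) +
            Polynomial.X * S * (Polynomial.X - Polynomial.X ^ (n + 1) * S ^ n) := by ring
      rw [this]
      exact dvd_add hX (dvd_mul_of_dvd_right ih _)
  have hδn : ∀ n : ℕ, δ = δ ^ (n + 1) * (Polynomial.aeval δ S) ^ n := by
    intro n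
    obtain ⟨W, hW⟩ := hXn n
    have := congrArg (Polynomial.aeval δ) hW
    rw [map_mul, haevalP, zero_mul, map_sub, map_mul, map_pow, map_pow, Polynomial.aeval_X,
      sub_eq_zero] at this
    exact this
  -- conclusion
  have hmem : δ a ∈ (⨅ i, Mx ^ i : Ideal A) := by
    rw [Ideal.mem_iInf]
    intro n
    rcases n with _ | n
    · simp
    · have := hδn n
      have h2 : δ a = (δ ^ (n + 1)) (((Polynomial.aeval δ S) ^ n) a) := by
        conv_lhs => rw [this]
        rfl
      rw [h2]
      exact hF3 (n + 1) _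
  rw [Ideal.iInf_pow_eq_bot_of_isLocalRing Mx (by rw [hMx]; exact Ideal.IsPrime.ne_top'),
    Ideal.mem_bot, hδa, sub_eq_zero] at hmem
  exact hmem

end Groth.Agent.S19448
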