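import Groth.Statements.S19453
import Mathlib
import Groth.Agent.Helper9.Curvilinear
-- import your own Groth.Agent.* helpers here

set_option autoImplicit false
universe u
open CAlg

namespace Groth.Agent.S19453

/-- Converse direction: let k be a field, A a regular local k-algebra of Krull dimension 2 with maximal
ideal M and residue field k, and I an ideal with A/I of finite dimension n ≥ 1 over k. If some
element of I does not lie in M^2, then A/I is isomorphic as a k-algebra to k[x]/(x^n): a cluster
lying on a smooth curve germ of a smooth surface is curvilinear, with coordinate ring generated by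
one element. -/
theorem result (k : Type u) [Field k]
    (A : Type u) [CommRing A] [Algebra k A] [IsRegularLocalRing A] (hdim : ringKrullDim A = 2)
    (hres : Function.Surjective (algebraMap k (IsLocalRing.ResidueField A)))
    (I : Ideal A) [Module.Finite k (A ⧸ I)] (n : ℕ) (hn : Module.finrank k (A ⧸ I) = n) (h1 : 1 ≤ n)
    (g : A) (hgI : g ∈ I) (hg : g ∉ IsLocalRing.maximalIdeal A ^ 2) :
    Nonempty ((A ⧸ I) ≃ₐ[k] (Polynomial k ⧸ Ideal.span {(Polynomial.X : Polynomial k) ^ n})) := by
  classical
  have hnt : Nontrivial (A ⧸ I) := by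
    by_contra h
    rw [not_nontrivial_iff_subsingleton] at h
    have := Module.finrank_zero_of_subsingleton (R := k) (M := A ⧸ I)
    omega
  have hItop : I ≠ ⊤ := by
    intro h
    have : Subsingleton (A ⧸ I) := Ideal.Quotient.subsingleton_iff.2 h
    exact not_subsingleton _ this
  have hIM : I ≤ IsLocalRing.maximalIdeal A := IsLocalRing.le_maximalIdeal hItop
  obtain ⟨b, hbM, hMb⟩ := Groth.Agent.Helper9.Curvilinear.key_gen A hdim g (hIM hgI) hg
  haveI : IsLocalRing (A ⧸ I) :=
    IsLocalRing.of_surjective' (Ideal.Quotient.mk I) Ideal.Quotient.mk_surjective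
  refine Groth.Agent.Helper9.Curvilinear.trunc_of_principal k (A ⧸ I) (Ideal.Quotient.mk I b) ?_ ?_ n hn
  · rw [IsLocalRing.mem_maximalIdeal, mem_nonunits_iff]
    intro hu
    obtain ⟨y, hy⟩ := hu.exists_right_inv
    obtain ⟨y, rfl⟩ := Ideal.Quotient.mk_surjective y
    rw [← map_mul, ← map_one (Ideal.Quotient.mk I), Ideal.Quotient.eq] at hy
    have h1 : b * y - 1 ∈ IsLocalRing.maximalIdeal A := hIM hy
    have h2 : b * y ∈ IsLocalRing.maximalIdeal A := Ideal.mul_mem_right _ _ hbM
    have h3 : (1 : A) ∈ IsLocalRing.maximalIdeal A := by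
      have := sub_mem h2 h1
      simpa using this
    exact (Ideal.ne_top_iff_one _).1 (IsLocalRing.maximalIdeal.isMaximal A).ne_top h3
  · intro y
    obtain ⟨a, rfl⟩ := Ideal.Quotient.mk_surjective y
    obtain ⟨c, hc⟩ := hres (IsLocalRing.residue A a)
    have hmem : a - algebraMap k A c ∈ IsLocalRing.maximalIdeal A := by
      rw [← IsLocalRing.residue_eq_zero_iff, map_sub, ← hc, sub_eq_zero]
      rw [IsScalarTower.algebraMap_apply k A (IsLocalRing.ResidueField A)]
      rfl
    rw [hMb, Ideal.mem_span_pair] at hmem
    obtain ⟨u, v, huv⟩ := hmem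
    refine ⟨c, Ideal.Quotient.mk I v, ?_⟩
    have : a = algebraMap k A c + (u * g + v * b) := by rw [huv]; ring
    conv_lhs => rw [this]
    rw [map_add, map_add, map_mul, map_mul, Ideal.Quotient.eq_zero_iff_mem.2 hgI, mul_zero,
      zero_add, mul_comm]
    rfl

end Groth.Agent.S19453
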