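import Groth.Statements.S19461
import Mathlib
import Groth.Agent.Helper2.FibreCrit
open IsLocalRing Function
-- import your own Groth.Agent.* helpers here

set_option autoImplicit false
universe u
open CAlg

namespace Groth.Agent.S19461

/-- The implication from isomorphic completions to flat and unramified. Let A → B be a local
homomorphism of Noetherian local rings and ψ a ring map from the completion of A at its maximal
ideal to that of B whose composite with A → A^ is A → B → B^. If ψ is bijective, then A → B is flat
and the maximal ideal of A generates the maximal ideal of B. (The published statement is the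
implication, for a morphism of algebraic varieties over an algebraically closed field, from
isomorphic induced maps of completed local rings at every point to flat and unramified; its proof is
this local-ring argument, valid for any Noetherian local rings. The converse implication is a
separate result.) -/
theorem result (A B : Type u) [CommRing A]
    [CommRing B] [IsLocalRing A] [IsLocalRing B] [IsNoetherianRing A] [IsNoetherianRing B]
    [Algebra A B] [IsLocalHom (algebraMap A B)]
    (ψ : AdicCompletion (IsLocalRing.maximalIdeal A) A →+* AdicCompletion (IsLocalRing.maximalIdeal B) B)
    (hψ : ψ.comp (algebraMap A (AdicCompletion (IsLocalRing.maximalIdeal A) A)) =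
      (algebraMap B (AdicCompletion (IsLocalRing.maximalIdeal B) B)).comp (algebraMap A B))
    (hbij : Function.Bijective ψ) :
    Module.Flat A B ∧
      Ideal.map (algebraMap A B) (IsLocalRing.maximalIdeal A) = IsLocalRing.maximalIdeal B := by
  have htower : IsScalarTower A B (AdicCompletion (maximalIdeal B) B) :=
    IsScalarTower.of_algebraMap_eq fun r => by
      rw [AdicCompletion.algebraMap_apply, AdicCompletion.algebraMap_apply, Algebra.algebraMap_self,
        RingHom.id_apply]
  have hψa : ∀ a : A, ψ (algebraMap A _ a) = algebraMap A (AdicCompletion (maximalIdeal B) B) a := by
    intro a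
    have := RingHom.congr_fun hψ a
    simp only [RingHom.comp_apply] at this
    rw [this, ← IsScalarTower.algebraMap_apply]
  -- `B̂` is flat over `A`
  let e : AdicCompletion (maximalIdeal A) A ≃ₗ[A] AdicCompletion (maximalIdeal B) B :=
    { (RingEquiv.ofBijective ψ hbij).toAddEquiv with
      map_smul' := by
        intro a x
        show ψ (a • x) = a • ψ x
        rw [Algebra.smul_def, map_mul, hψa, ← Algebra.smul_def] }
  have hflatA : Module.Flat A (AdicCompletion (maximalIdeal B) B) := Module.Flat.of_linearEquiv e.symm
  haveI : Module.FaithfullyFlat B (AdicCompletion (maximalIdeal B) B) :=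
    Module.FaithfullyFlat.of_flat_of_isLocalHom
  refine ⟨Groth.Agent.Helper2.FibreCrit.flat_of_faithfullyFlat_module (R := A) (S := B)
    (M := AdicCompletion (maximalIdeal B) B), ?_⟩
  apply Ideal.map_injective_of_faithfullyFlat (A := B) (B := AdicCompletion (maximalIdeal B) B)
  rw [Ideal.map_map, ← AdicCompletion.maximalIdeal_eq_map, ← hψ, ← Ideal.map_map,
    ← AdicCompletion.maximalIdeal_eq_map]
  have hmax : (Ideal.map ψ (maximalIdeal (AdicCompletion (maximalIdeal A) A))).IsMaximal :=
    (Ideal.isMaximal_map_iff_of_bijective ψ hbij).2 inferInstance
  exact IsLocalRing.eq_maximalIdeal hmax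

end Groth.Agent.S19461
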