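import Groth.Statements.S19462
import Mathlib
import Groth.Agent.Helper9.LocalBasis
import Groth.Agent.Helper9.GradedHomog2
-- import your own Groth.Agent.* helpers here

set_option autoImplicit false
universe u
open GrNak

namespace Groth.Agent.S19462

/-- Let k be a field and R a commutative ℤ-graded k-algebra whose pieces of negative degree vanish and
whose degree-zero piece is the image of k, and let M be a finitely generated ℤ-graded R-module,
graded compatibly with R. Then M is a projective R-module if and only if M has an R-basis consisting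
of homogeneous elements, i.e. M is a free graded module. (The published statement takes R a graded
quotient of a polynomial ring k[x_0, …, x_n] with its standard grading; stated here for any
commutative graded k-algebra concentrated in non-negative degrees with degree-zero part k, to which
the same graded-Nakayama argument applies.) -/
theorem result {k : Type u} [Field k] {R : Type u} [CommRing R] [Algebra k R]
    {σ : Type u} [SetLike σ R] [AddSubmonoidClass σ R] (𝒜 : ℤ → σ) [GradedRing 𝒜]
    (hneg : ∀ i : ℤ, i < 0 → ∀ x ∈ 𝒜 i, x = 0)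
    (hk : ∀ c : k, algebraMap k R c ∈ 𝒜 0) (h0 : ∀ x ∈ 𝒜 0, ∃ c : k, algebraMap k R c = x)
    {M : Type u} [AddCommGroup M] [Module R M] [Module.Finite R M]
    {τ : Type u} [SetLike τ M] [AddSubmonoidClass τ M] (ℳ : ℤ → τ) [DirectSum.Decomposition ℳ]
    [SetLike.GradedSMul 𝒜 ℳ] :
    Module.Projective R M ↔
      ∃ (ι : Type u) (b : Module.Basis ι R M), ∀ i : ι, SetLike.IsHomogeneousElem ℳ (b i) := by
  open Groth.Agent.Helper9.LocalBasis Groth.Agent.Helper9.GradedHomog2 DirectSum in
  classical
  constructor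
  swap
  · rintro ⟨ι, b, -⟩
    exact Module.Projective.of_basis b
  intro hproj
  rcases subsingleton_or_nontrivial R with hR | hR
  · have : Subsingleton M := Module.subsingleton R M
    exact ⟨PEmpty, Module.Basis.empty M, fun i => i.elim⟩
  -- degree-zero component is multiplicative
  have hmul0 : ∀ a r : R, (decompose 𝒜 (a * r) 0 : R) =
      (decompose 𝒜 a 0 : R) * (decompose 𝒜 r 0 : R) := by
    intro a r
    conv_lhs => rw [← sum_support_decompose 𝒜 a, Finset.sum_mul, decompose_sum]
    rw [DFinsupp.finsetSum_apply, AddSubmonoidClass.coe_finsetSum]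
    have hterm : ∀ i ∈ (decompose 𝒜 a).support,
        (decompose 𝒜 ((decompose 𝒜 a i : R) * r) 0 : R) =
          if i = 0 then (decompose 𝒜 a 0 : R) * (decompose 𝒜 r 0 : R) else 0 := by
      intro i _
      have h1 := coe_decompose_mul_add_of_left_mem 𝒜 (i := i) (j := -i) (b := r)
        (SetLike.coe_mem (decompose 𝒜 a i))
      rw [add_neg_cancel] at h1
      rw [h1]
      split_ifs with hi
      · subst hi; simp
      · rcases lt_or_gt_of_ne hi with hlt | hgt
        · rw [hneg i hlt _ (SetLike.coe_mem _), zero_mul]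
        · rw [hneg (-i) (by omega) _ (SetLike.coe_mem _), mul_zero]
    rw [Finset.sum_congr rfl hterm, Finset.sum_ite_eq']
    split_ifs with h0s
    · rfl
    · rw [DFinsupp.notMem_support_iff] at h0s
      rw [h0s, ZeroMemClass.coe_zero, zero_mul]
  let 𝔪 : Ideal R :=
    { carrier := {r | (decompose 𝒜 r 0 : R) = 0}
      add_mem' := by
        intro a b ha hb
        simp only [Set.mem_ofPred_eq] at ha hb ⊢
        rw [decompose_add, DirectSum.add_apply, AddMemClass.coe_add, ha, hb, add_zero]
      zero_mem' := by simp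
      smul_mem' := by
        intro c x hx
        simp only [Set.mem_ofPred_eq, smul_eq_mul] at hx ⊢
        rw [hmul0, hx, mul_zero] }
  have hmem𝔪 : ∀ r, r ∈ 𝔪 ↔ (decompose 𝒜 r 0 : R) = 0 := fun r => Iff.rfl
  have hone : (decompose 𝒜 (1 : R) 0 : R) = 1 :=
    decompose_of_mem_same 𝒜 (SetLike.GradedOne.one_mem)
  have hunit : ∀ r : R, r ∉ 𝔪 → r ∈ 𝒜 0 → IsUnit r := by
    intro r hr hr0
    obtain ⟨c, rfl⟩ := h0 r hr0
    have hc : c ≠ 0 := by
      rintro rfl
      apply hr
      rw [hmem𝔪, map_zero, decompose_zero]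
      rfl
    exact (IsUnit.mk0 c hc).map (algebraMap k R)
  have hmax : 𝔪.IsMaximal := by
    rw [Ideal.isMaximal_iff]
    refine ⟨fun h => ?_, fun J x hJ hx hxJ => ?_⟩
    · rw [hmem𝔪, hone] at h
      exact one_ne_zero h
    · have hx0 : (decompose 𝒜 x 0 : R) ∉ 𝔪 := by
        rw [hmem𝔪, decompose_of_mem_same 𝒜 (SetLike.coe_mem _)]
        exact hx
      have hu := hunit _ hx0 (SetLike.coe_mem _)
      have hdiff : x - (decompose 𝒜 x 0 : R) ∈ 𝔪 := by
        rw [hmem𝔪]
        have h1 : (decompose 𝒜 x 0 : R) + (x - (decompose 𝒜 x 0 : R)) = x := by ring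
        have h2 := congrArg (fun y => (decompose 𝒜 y 0 : R)) h1
        simp only [decompose_add, DirectSum.add_apply, AddMemClass.coe_add] at h2
        rw [decompose_of_mem_same 𝒜 (SetLike.coe_mem (decompose 𝒜 x 0))] at h2
        exact add_eq_left.mp h2
      have hx0J : (decompose 𝒜 x 0 : R) ∈ J := by
        have := J.sub_mem hxJ (hJ hdiff)
        rwa [sub_sub_cancel] at this
      exact (Ideal.eq_top_of_isUnit_mem J hx0J hu) ▸ Submodule.mem_top
  let _ : Field (R ⧸ 𝔪) := Ideal.Quotient.field 𝔪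
  -- spanning set of images of homogeneous elements
  let S : Set (M ⧸ (𝔪 • (⊤ : Submodule R M))) :=
    {v | ∃ h : M, SetLike.IsHomogeneousElem ℳ h ∧ Submodule.Quotient.mk h = v}
  have hSspan : Submodule.span (R ⧸ 𝔪) S = ⊤ := by
    rw [eq_top_iff]
    intro v _
    obtain ⟨p, rfl⟩ := Submodule.Quotient.mk_surjective _ v
    rw [← sum_support_decompose ℳ p]
    have hsum : (Submodule.Quotient.mk (∑ i ∈ (decompose ℳ p).support, (decompose ℳ p i : M)) :
        M ⧸ (𝔪 • (⊤ : Submodule R M))) =
        ∑ i ∈ (decompose ℳ p).support, Submodule.Quotient.mk (decompose ℳ p i : M) :=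
      map_sum (𝔪 • (⊤ : Submodule R M)).mkQ _ _
    rw [hsum]
    exact Submodule.sum_mem _ fun i _ =>
      Submodule.subset_span ⟨_, ⟨i, SetLike.coe_mem _⟩, rfl⟩
  obtain ⟨bset, hbS, hbspan, hbli⟩ := exists_linearIndependent (R ⧸ 𝔪) S
  have hbfin : Finite ↥bset := by
    have : IsNoetherian (R ⧸ 𝔪) (M ⧸ (𝔪 • (⊤ : Submodule R M))) := inferInstance
    exact hbli.finite_of_isNoetherian
  have : Fintype ↥bset := Fintype.ofFinite _
  have hchoose : ∀ v : ↥bset, ∃ h : M, SetLike.IsHomogeneousElem ℳ h ∧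
      Submodule.Quotient.mk h = (v : M ⧸ (𝔪 • (⊤ : Submodule R M))) := fun v => hbS v.2
  choose f hfhom hfmk using hchoose
  choose wt hwt using hfhom
  have hli : LinearIndependent (R ⧸ 𝔪)
      (fun i : ↥bset => (Submodule.Quotient.mk (f i) : M ⧸ (𝔪 • (⊤ : Submodule R M)))) := by
    have : (fun i : ↥bset => (Submodule.Quotient.mk (f i) : M ⧸ (𝔪 • (⊤ : Submodule R M)))) =
        Subtype.val := funext hfmk
    rw [this]
    exact hbli
  have hsp : Submodule.span R (Set.range f) ⊔ 𝔪 • (⊤ : Submodule R M) = ⊤ := by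
    rw [eq_top_iff]
    intro p _
    have hp : (Submodule.Quotient.mk p : M ⧸ (𝔪 • (⊤ : Submodule R M))) ∈
        Submodule.span (R ⧸ 𝔪) (Set.range (Subtype.val : ↥bset → _)) := by
      rw [Subtype.range_coe, hbspan, hSspan]
      trivial
    obtain ⟨κ, hκ⟩ := (Submodule.mem_span_range_iff_exists_fun (R ⧸ 𝔪)).mp hp
    have hlift : ∀ i : ↥bset, ∃ r : R, Ideal.Quotient.mk 𝔪 r = κ i :=
      fun i => Ideal.Quotient.mk_surjective (κ i)
    choose r hr using hlift
    have hdiff : p - ∑ i, r i • f i ∈ 𝔪 • (⊤ : Submodule R M) := by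
      rw [← Submodule.Quotient.mk_eq_zero, Submodule.Quotient.mk_sub, ← hκ, sub_eq_zero]
      have hsum : (Submodule.Quotient.mk (∑ i, r i • f i) : M ⧸ (𝔪 • (⊤ : Submodule R M))) =
          ∑ i, Submodule.Quotient.mk (r i • f i) :=
        map_sum (𝔪 • (⊤ : Submodule R M)).mkQ _ _
      rw [hsum]
      refine (Finset.sum_congr rfl fun i _ => ?_).symm
      rw [Submodule.Quotient.mk_smul, hfmk, ← hr]
      rfl
    have : p = ∑ i, r i • f i + (p - ∑ i, r i • f i) := by abel
    rw [this]
    exact Submodule.add_mem_sup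
      (Submodule.sum_mem _ fun i _ => Submodule.smul_mem _ _ (Submodule.subset_span ⟨i, rfl⟩))
      hdiff
  obtain ⟨s, ⟨d, hsd⟩, hs𝔪, hsgen, hsrel⟩ := exists_homogeneous_of_exists 𝒜 ℳ wt f hwt 𝔪
    (exists_gen_of_maximal f 𝔪 hsp) (exists_rel_of_maximal f 𝔪 hli hsp)
  have hsunit : IsUnit s := by
    apply hunit s hs𝔪
    by_cases hd : d = 0
    · rw [← hd]; exact hsd
    · exfalso
      apply hs𝔪
      rw [hmem𝔪, decompose_of_mem_ne 𝒜 hsd hd]
  obtain ⟨u, rfl⟩ := hsunit
  have hliR : LinearIndependent R f := by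
    rw [Fintype.linearIndependent_iff]
    intro c hc i
    have := hsrel c hc i
    exact (Units.mul_right_eq_zero u).mp this
  have hspanR : ⊤ ≤ Submodule.span R (Set.range f) := by
    intro p _
    have h1 := hsgen p
    have h2 : p = (↑u⁻¹ : R) • ((u : R) • p) := by
      rw [← mul_smul, Units.inv_mul, one_smul]
    rw [h2]
    exact Submodule.smul_mem _ _ h1
  refine ⟨↥bset, Module.Basis.mk hliR hspanR, fun i => ?_⟩
  rw [Module.Basis.mk_apply]
  exact ⟨wt i, hwt i⟩

end Groth.Agent.S19462
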