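import Groth.Statements.S19473
import Mathlib
import Groth.Agent.Helper9.GrpDiag
import Groth.Agent.Helper9.UnramSection
-- import your own Groth.Agent.* helpers here

set_option autoImplicit false
universe u
open CategoryTheory CategoryTheory.Limits MonoidalCategory CartesianMonoidalCategory MonObj GrpObj AlgebraicGeometry
open AlgGrp

namespace Groth.Agent.S19473

/-- Let S be a scheme and G an S-group scheme whose structure morphism G → S is locally of finite type.
Then G → S is unramified — formally unramified, since it is locally of finite type — if and only if
the identity section S → G is an open immersion. (The separated and quasi-separated clauses of the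
published item are separate results.) -/
theorem result (S : Scheme.{u})
    (G : Over S) [GrpObj G] [LocallyOfFiniteType G.hom] :
    FormallyUnramified G.hom ↔ IsOpenImmersion η[G].left := by
  have he : (η[G] : 𝟙_ (Over S) ⟶ G).left ≫ G.hom = 𝟙 S := Over.w (η[G] : 𝟙_ (Over S) ⟶ G)
  constructor
  · intro h
    exact Groth.Agent.Helper9.UnramSection.isOpenImmersion_of_section G.hom _ he
  · intro h
    have hpb := (Groth.Agent.Helper9.GrpDiag.isPullback_diag G).map (Over.forget S)
    have hdiag : IsOpenImmersion ((Over.forget S).map (lift (𝟙 G) (𝟙 G))) :=
      MorphismProperty.of_isPullback (P := @IsOpenImmersion) hpb.flip h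
    haveI : IsOpenImmersion (pullback.diagonal G.hom) := by
      have : (Over.forget S).map (lift (𝟙 G) (𝟙 G)) = pullback.diagonal G.hom := by
        apply pullback.hom_ext <;> simp [pullback.diagonal]
      rwa [this] at hdiag
    infer_instance

end Groth.Agent.S19473
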