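import Groth.Statements.S19479
import Groth.Agent.Helper9.ComodAlg
-- import your own Groth.Agent.* helpers here

set_option autoImplicit false
universe u v w
open HopfRep

namespace Groth.Agent.S19479

open TensorProduct in
/-- Let K be a field, C a K-coalgebra and V a right C-comodule. The following are equivalent: (i) V is
the internal direct sum of a family of simple subcomodules, i.e. there is an independent family of
subcomodules W_i with sum V, each W_i nonzero and having no subcomodules inside it other than 0 and
W_i; (ii) every subcomodule of V has a complementary subcomodule. A subcomodule is a subspace W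
whose coaction lands in the image of W ⊗ C. (The source states this for left comodules; a left
comodule over C is a right comodule over the co-opposite coalgebra, so the statement is the same.) -/
theorem result {K : Type u} {C : Type v} [Field K]
    [AddCommGroup C] [Module K C] [Coalgebra K C] (V : Type w) [AddCommGroup V] [Module K V] [HopfRep.Comod K C V] :
    (∃ (ι : Type w) (W : ι → Submodule K V), iSupIndep W ∧ iSup W = ⊤ ∧ ∀ i,
        HopfRep.IsSubcomod (k := K) (A := C) (W i) ∧ W i ≠ ⊥ ∧
          ∀ W' : Submodule K V, HopfRep.IsSubcomod (k := K) (A := C) W' → W' ≤ W i → W' = ⊥ ∨ W' = W i) ↔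
      HopfRep.IsSemisimpleComod K C V := by
  classical
  constructor
  · rintro ⟨ι, W, _, hsup, hW⟩
    rw [Groth.Agent.Helper9.isSemisimpleComod_iff]
    apply IsSemisimpleModule.of_sSup_simples_eq_top
    rw [eq_top_iff]
    intro x _
    have hx : x ∈ iSup W := by rw [hsup]; trivial
    have hle : iSup W ≤ (sSup {m : Submodule (Groth.Agent.Helper9.actAlg K C V) V |
        IsSimpleModule (Groth.Agent.Helper9.actAlg K C V) m}).restrictScalars K := by
      apply iSup_le
      intro i y hy
      have hs : IsSimpleModule (Groth.Agent.Helper9.actAlg K C V)
          (Groth.Agent.Helper9.toSub (W i) (hW i).1) :=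
        (Groth.Agent.Helper9.isSimpleModule_toSub_iff _ _).mpr (hW i).2
      have : Groth.Agent.Helper9.toSub (W i) (hW i).1 ≤
          sSup {m : Submodule (Groth.Agent.Helper9.actAlg K C V) V |
            IsSimpleModule (Groth.Agent.Helper9.actAlg K C V) m} := le_sSup hs
      exact this hy
    exact hle hx
  · intro hV
    haveI := Groth.Agent.Helper9.isSemisimpleComod_iff.mp hV
    obtain ⟨s, hind, hsup, hsimple⟩ :=
      IsSemisimpleModule.exists_sSupIndep_sSup_simples_eq_top (Groth.Agent.Helper9.actAlg K C V) V
    refine ⟨s, fun i => i.1.restrictScalars K, ?_, ?_, ?_⟩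
    · intro i
      rw [Submodule.disjoint_def]
      intro x hx1 hx2
      have hle : (⨆ (j : s) (_ : j ≠ i), j.1.restrictScalars K) ≤
          (sSup (s \ {i.1})).restrictScalars K := by
        apply iSup_le
        intro j
        apply iSup_le
        intro hj y hy
        have hmem : j.1 ∈ s \ {i.1} := ⟨j.2, fun h => hj (Subtype.ext h)⟩
        exact (le_sSup hmem : j.1 ≤ sSup (s \ {i.1})) hy
      have hd := hind i.2
      rw [Submodule.disjoint_def] at hd
      exact hd x hx1 (hle hx2)
    · have hTsub : HopfRep.IsSubcomod (k := K) (A := C) (⨆ i : s, i.1.restrictScalars K) :=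
        Groth.Agent.Helper9.isSubcomod_iSup fun i => Groth.Agent.Helper9.isSubcomod_restrictScalars _
      have hle : sSup s ≤ Groth.Agent.Helper9.toSub _ hTsub := by
        apply sSup_le
        intro m hm x hx
        exact le_iSup (fun i : s => i.1.restrictScalars K) ⟨m, hm⟩ hx
      rw [hsup] at hle
      rw [eq_top_iff]
      intro x _
      exact hle Submodule.mem_top
    · intro i
      have hm' : IsSimpleModule (Groth.Agent.Helper9.actAlg K C V)
          (Groth.Agent.Helper9.toSub (i.1.restrictScalars K)
            (Groth.Agent.Helper9.isSubcomod_restrictScalars i.1)) := by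
        have : Groth.Agent.Helper9.toSub (i.1.restrictScalars K)
            (Groth.Agent.Helper9.isSubcomod_restrictScalars i.1) = i.1 := by
          ext; rfl
        rw [this]; exact hsimple _ i.2
      have hs := (Groth.Agent.Helper9.isSimpleModule_toSub_iff _ _).mp hm'
      exact ⟨Groth.Agent.Helper9.isSubcomod_restrictScalars i.1, hs.1, hs.2⟩

end Groth.Agent.S19479
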