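import Groth.Statements.S19485
import Mathlib
-- import your own Groth.Agent.* helpers here

set_option autoImplicit false
universe u
open Crimp

namespace Groth.Agent.S19485

/-- The criterion for closedness under multiplication on which the description of the stratum rests.
Over R = k⟦t⟧ with k an algebraically closed field of characteristic zero, let S̃ = k⟦x⟧ regarded as
an R-algebra through t ↦ x ^ 3, that is S̃ = R[x] / (x ^ 3 - t). Let m, n be natural numbers with m
not divisible by 3, and let g be a power series with nonzero constant term. Then the R-submodule of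
S̃ spanned by 1 and x ^ m g together with the ideal x ^ n S̃ is closed under multiplication if and
only if n ≤ 2m. (The published proposition goes on to describe the stratum of crimps with these
invariants as irreducible of dimension ⌊(n - m)/3⌋ with a normal form for g; only the closedness
criterion is stated here.) -/
theorem result {k : Type u} [Field k] [IsAlgClosed k] [CharZero k]
    (m n : ℕ) (hm : ¬ 3 ∣ m) (x g : W4c1hurwitzcpt.RootDisk 3 k)
    (hx : W4c1hurwitzcpt.RootDisk.val x = PowerSeries.X) (hg : PowerSeries.order (W4c1hurwitzcpt.RootDisk.val g) = 0)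
    (M : Submodule (PowerSeries k) (W4c1hurwitzcpt.RootDisk 3 k))
    (hM : M = Submodule.span (PowerSeries k) {1, x ^ m * g} ⊔
      (Ideal.span {x ^ n} : Ideal (W4c1hurwitzcpt.RootDisk 3 k)).restrictScalars (PowerSeries k)) :
    (∀ a ∈ M, ∀ b ∈ M, a * b ∈ M) ↔ n ≤ 2 * m := by
  classical
  subst hM
  have hval : ∀ r : PowerSeries k, W4c1hurwitzcpt.RootDisk.val (algebraMap (PowerSeries k)
      (W4c1hurwitzcpt.RootDisk 3 k) r) = PowerSeries.expand 3 (NeZero.ne 3) r := fun r => rfl
  have hmemu : (x ^ m * g) ∈
      Submodule.span (PowerSeries k) {(1 : W4c1hurwitzcpt.RootDisk 3 k), x ^ m * g} ⊔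
      (Ideal.span {x ^ n} : Ideal (W4c1hurwitzcpt.RootDisk 3 k)).restrictScalars (PowerSeries k) :=
    Submodule.mem_sup_left (Submodule.subset_span (by simp))
  constructor
  · intro hclosed
    by_contra hlt
    push Not at hlt
    have hcontra := hclosed _ hmemu _ hmemu
    rw [Submodule.mem_sup] at hcontra
    obtain ⟨y, hy, z, hz, hyz⟩ := hcontra
    rw [Submodule.mem_span_pair] at hy
    obtain ⟨r, r', rfl⟩ := hy
    rw [Submodule.restrictScalars_mem, Ideal.mem_span_singleton'] at hz
    obtain ⟨h, hh⟩ := hz
    rw [← hh, Algebra.smul_def, Algebra.smul_def, mul_one] at hyz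
    have e3 := congrArg W4c1hurwitzcpt.RootDisk.val hyz
    simp only [map_add, map_mul, map_pow, hval, hx] at e3
    obtain ⟨G, hG⟩ : ∃ G, W4c1hurwitzcpt.RootDisk.val g = G := ⟨_, rfl⟩
    obtain ⟨H, hH⟩ : ∃ H, W4c1hurwitzcpt.RootDisk.val h = H := ⟨_, rfl⟩
    rw [hG] at hg e3
    rw [hH] at e3
    have hL : PowerSeries.order ((PowerSeries.X : PowerSeries k) ^ m * G * (PowerSeries.X ^ m * G)) = (2 * m : ℕ) := by
      rw [PowerSeries.order_mul, PowerSeries.order_mul, PowerSeries.order_X_pow, hg]
      push_cast
      ring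
    have hHn : (n : ℕ∞) ≤ PowerSeries.order (H * PowerSeries.X ^ n) := by
      rw [PowerSeries.order_mul, PowerSeries.order_X_pow]
      exact le_add_self
    -- order of B + C is not 2m
    have hBC : PowerSeries.order (PowerSeries.expand 3 (NeZero.ne 3) r +
        PowerSeries.expand 3 (NeZero.ne 3) r' * (PowerSeries.X ^ m * G)) ≠ (2 * m : ℕ) := by
      have hB : r ≠ 0 → ∃ a : ℕ, PowerSeries.order (PowerSeries.expand 3 (NeZero.ne 3) r) = (3 * a : ℕ) := by
        intro hr
        have := (PowerSeries.order_finite_iff_ne_zero (φ := r)).2 hr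
        refine ⟨(PowerSeries.order r).toNat, ?_⟩
        rw [PowerSeries.order_expand, ← ENat.natCast_toNat (ne_of_lt this)]
        push_cast
        simp
      have hC : r' ≠ 0 → ∃ c : ℕ, PowerSeries.order (PowerSeries.expand 3 (NeZero.ne 3) r' *
          (PowerSeries.X ^ m * G)) = (3 * c + m : ℕ) := by
        intro hr
        have := (PowerSeries.order_finite_iff_ne_zero (φ := r')).2 hr
        refine ⟨(PowerSeries.order r').toNat, ?_⟩
        rw [PowerSeries.order_mul, PowerSeries.order_mul, PowerSeries.order_X_pow, hg,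
          PowerSeries.order_expand, ← ENat.natCast_toNat (ne_of_lt this)]
        push_cast
        simp
      by_cases hr : r = 0
      · by_cases hr' : r' = 0
        · rw [hr, hr', map_zero, zero_mul, add_zero, PowerSeries.order_zero]
          exact ENat.top_ne_natCast _
        · obtain ⟨c, hc⟩ := hC hr'
          rw [hr, map_zero, zero_add, hc]
          intro hEq
          have : 3 * c + m = 2 * m := by exact_mod_cast hEq
          exact hm ⟨c, by omega⟩
      · obtain ⟨a, ha⟩ := hB hr
        by_cases hr' : r' = 0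
        · rw [hr', map_zero, zero_mul, add_zero, ha]
          intro hEq
          have : 3 * a = 2 * m := by exact_mod_cast hEq
          exact hm (by omega)
        · obtain ⟨c, hc⟩ := hC hr'
          have hne : PowerSeries.order (PowerSeries.expand 3 (NeZero.ne 3) r) ≠
              PowerSeries.order (PowerSeries.expand 3 (NeZero.ne 3) r' * (PowerSeries.X ^ m * G)) := by
            rw [ha, hc]
            intro hEq
            have : 3 * a = 3 * c + m := by exact_mod_cast hEq
            exact hm (by omega)
          rw [PowerSeries.order_add_of_order_ne _ _ hne, ha, hc]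
          intro hEq
          rcases min_choice ((3 * a : ℕ) : ℕ∞) ((3 * c + m : ℕ) : ℕ∞) with h | h
          · rw [h] at hEq
            have : 3 * a = 2 * m := by exact_mod_cast hEq
            exact hm (by omega)
          · rw [h] at hEq
            have : 3 * c + m = 2 * m := by exact_mod_cast hEq
            exact hm ⟨c, by omega⟩
    have e4 : H * PowerSeries.X ^ n = PowerSeries.X ^ m * G * (PowerSeries.X ^ m * G) +
        -(PowerSeries.expand 3 (NeZero.ne 3) r +
          PowerSeries.expand 3 (NeZero.ne 3) r' * (PowerSeries.X ^ m * G)) := by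
      rw [← e3]; ring
    have hne : PowerSeries.order ((PowerSeries.X : PowerSeries k) ^ m * G * (PowerSeries.X ^ m * G)) ≠
        PowerSeries.order (-(PowerSeries.expand 3 (NeZero.ne 3) r +
          PowerSeries.expand 3 (NeZero.ne 3) r' * (PowerSeries.X ^ m * G))) := by
      rw [PowerSeries.order_neg, hL]
      exact hBC.symm
    have h5 := PowerSeries.order_add_of_order_ne _ _ hne
    rw [← e4, hL] at h5
    rw [h5] at hHn
    have : (n : ℕ∞) ≤ (2 * m : ℕ) := le_trans hHn (min_le_left _ _)
    have : n ≤ 2 * m := by exact_mod_cast this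
    omega
  · intro hnm a ha b hb
    rw [Submodule.mem_sup] at ha hb
    obtain ⟨y₁, hy₁, z₁, hz₁, rfl⟩ := ha
    obtain ⟨y₂, hy₂, z₂, hz₂, rfl⟩ := hb
    rw [Submodule.mem_span_pair] at hy₁ hy₂
    obtain ⟨r₁, r₁', rfl⟩ := hy₁
    obtain ⟨r₂, r₂', rfl⟩ := hy₂
    rw [Submodule.restrictScalars_mem] at hz₁ hz₂
    have hu2 : (x ^ m * g) * (x ^ m * g) ∈ (Ideal.span {x ^ n} : Ideal (W4c1hurwitzcpt.RootDisk 3 k)) := by
      rw [Ideal.mem_span_singleton']
      refine ⟨x ^ (2 * m - n) * g * g, ?_⟩
      have : x ^ (2 * m) = x ^ (2 * m - n) * x ^ n := by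
        rw [← pow_add]; congr 1; omega
      calc x ^ (2 * m - n) * g * g * x ^ n = (x ^ (2 * m - n) * x ^ n) * (g * g) := by ring
        _ = x ^ (2 * m) * (g * g) := by rw [← this]
        _ = _ := by ring
    rw [Submodule.mem_sup]
    refine ⟨(r₁ * r₂) • (1 : W4c1hurwitzcpt.RootDisk 3 k) + (r₁ * r₂' + r₁' * r₂) • (x ^ m * g), ?_,
      (algebraMap _ _ (r₁' * r₂')) * ((x ^ m * g) * (x ^ m * g)) +
        z₁ * (r₂ • (1 : W4c1hurwitzcpt.RootDisk 3 k) + r₂' • (x ^ m * g) + z₂) +
        (r₁ • (1 : W4c1hurwitzcpt.RootDisk 3 k) + r₁' • (x ^ m * g)) * z₂, ?_, ?_⟩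
    · rw [Submodule.mem_span_pair]
      exact ⟨_, _, rfl⟩
    · rw [Submodule.restrictScalars_mem]
      refine Ideal.add_mem _ (Ideal.add_mem _ (Ideal.mul_mem_left _ _ hu2) (Ideal.mul_mem_right _ _ hz₁))
        (Ideal.mul_mem_left _ _ hz₂)
    · simp only [Algebra.smul_def, map_mul, map_add]
      ring

end Groth.Agent.S19485
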