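import Groth.Statements.S19486
import Mathlib
-- import your own Groth.Agent.* helpers here

set_option autoImplicit false
universe u
open Crimp

namespace Groth.Agent.S19486

/-- The emptiness of the stratum rests on the following computation. Over R = k⟦t⟧ with k an
algebraically closed field of characteristic zero, let S̃ = S̃₁ × R where S̃₁ = k⟦x⟧ is regarded as
an R-algebra through t ↦ x ^ 2, that is S̃₁ = R[x] / (x ^ 2 - t), with R embedded diagonally in the
product. Let m be odd, n > 2m, and let g be a power series with nonzero constant term. Then the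
R-submodule of S̃ spanned by 1 = (1, 1) and (x ^ m g, 0) together with the ideal x ^ n S̃₁ × 0 is
not closed under multiplication. (The published item concludes that the corresponding stratum of
crimps is empty; only this computation is stated here, with the ideal read as x ^ n S̃₁ × 0.) -/
theorem result {k : Type u} [Field k] [IsAlgClosed k] [CharZero k]
    (m n : ℕ) (hm : Odd m) (hmn : 2 * m < n) (x g : W4c1hurwitzcpt.RootDisk 2 k)
    (hx : W4c1hurwitzcpt.RootDisk.val x = PowerSeries.X) (hg : PowerSeries.order (W4c1hurwitzcpt.RootDisk.val g) = 0)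
    (M : Submodule (PowerSeries k) (W4c1hurwitzcpt.RootDisk 2 k × PowerSeries k))
    (hM : M = Submodule.span (PowerSeries k) {(1 : W4c1hurwitzcpt.RootDisk 2 k × PowerSeries k), (x ^ m * g, 0)} ⊔
      ((Ideal.span {x ^ n} : Ideal (W4c1hurwitzcpt.RootDisk 2 k)).restrictScalars (PowerSeries k)).prod ⊥) :
    ∃ a ∈ M, ∃ b ∈ M, a * b ∉ M := by
  classical
  subst hM
  have hmem : ((x ^ m * g, 0) : W4c1hurwitzcpt.RootDisk 2 k × PowerSeries k) ∈
      Submodule.span (PowerSeries k) {(1 : W4c1hurwitzcpt.RootDisk 2 k × PowerSeries k), (x ^ m * g, 0)} ⊔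
      ((Ideal.span {x ^ n} : Ideal (W4c1hurwitzcpt.RootDisk 2 k)).restrictScalars (PowerSeries k)).prod ⊥ :=
    Submodule.mem_sup_left (Submodule.subset_span (by simp))
  refine ⟨_, hmem, _, hmem, ?_⟩
  intro hcontra
  rw [Submodule.mem_sup] at hcontra
  obtain ⟨y, hy, z, hz, hyz⟩ := hcontra
  rw [Submodule.mem_span_pair] at hy
  obtain ⟨r, r', rfl⟩ := hy
  rw [Submodule.mem_prod] at hz
  obtain ⟨hz1, hz2⟩ := hz
  rw [Submodule.restrictScalars_mem, Ideal.mem_span_singleton'] at hz1
  obtain ⟨h, hh⟩ := hz1
  rw [Submodule.mem_bot] at hz2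
  have e2 := congrArg Prod.snd hyz
  have e1 := congrArg Prod.fst hyz
  simp only [Prod.snd_add, Prod.smul_snd, Prod.snd_one, smul_zero, add_zero, hz2, Prod.snd_mul,
    mul_zero, smul_eq_mul, mul_one] at e2
  subst e2
  simp only [Prod.fst_add, Prod.smul_fst, Prod.fst_one, zero_smul, zero_add, Prod.fst_mul] at e1
  rw [← hh, Algebra.smul_def] at e1
  -- transport to power series
  have hval : ∀ r : PowerSeries k, W4c1hurwitzcpt.RootDisk.val (algebraMap (PowerSeries k)
      (W4c1hurwitzcpt.RootDisk 2 k) r) = PowerSeries.expand 2 (NeZero.ne 2) r := fun r => rfl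
  have e3 := congrArg W4c1hurwitzcpt.RootDisk.val e1
  simp only [map_add, map_mul, map_pow, hval, hx] at e3
  obtain ⟨G, hG⟩ : ∃ G, W4c1hurwitzcpt.RootDisk.val g = G := ⟨_, rfl⟩
  obtain ⟨H, hH⟩ : ∃ H, W4c1hurwitzcpt.RootDisk.val h = H := ⟨_, rfl⟩
  rw [hG] at hg e3
  rw [hH] at e3
  -- e3 : expand r' * (X^m * G) + H * X^n = X^m * G * (X^m * G)
  have hL : PowerSeries.order ((PowerSeries.X : PowerSeries k) ^ m * G * (PowerSeries.X ^ m * G)) = (2 * m : ℕ) := by
    rw [PowerSeries.order_mul, PowerSeries.order_mul, PowerSeries.order_X_pow, hg]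
    push_cast
    ring
  have hHn : (n : ℕ∞) ≤ PowerSeries.order (H * PowerSeries.X ^ n) := by
    rw [PowerSeries.order_mul, PowerSeries.order_X_pow]
    exact le_add_self
  by_cases hr : r' = 0
  · rw [hr, map_zero, zero_mul, zero_add] at e3
    rw [e3, hL] at hHn
    have : n ≤ 2 * m := by exact_mod_cast hHn
    omega
  · obtain ⟨c, hc⟩ : ∃ c : ℕ, PowerSeries.order r' = c := by
      have := (PowerSeries.order_finite_iff_ne_zero (φ := r')).2 hr
      exact ⟨(PowerSeries.order r').toNat, (ENat.natCast_toNat (ne_of_lt this)).symm⟩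
    have hu : PowerSeries.order (PowerSeries.expand 2 (NeZero.ne 2) r' * (PowerSeries.X ^ m * G)) =
        (2 * c + m : ℕ) := by
      rw [PowerSeries.order_mul, PowerSeries.order_mul, PowerSeries.order_X_pow, hg,
        PowerSeries.order_expand, hc]
      push_cast
      ring
    have e4 : H * PowerSeries.X ^ n = PowerSeries.X ^ m * G * (PowerSeries.X ^ m * G) +
        -(PowerSeries.expand 2 (NeZero.ne 2) r' * (PowerSeries.X ^ m * G)) := by
      rw [← e3]; ring
    have hne : PowerSeries.order ((PowerSeries.X : PowerSeries k) ^ m * G * (PowerSeries.X ^ m * G)) ≠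
        PowerSeries.order (-(PowerSeries.expand 2 (NeZero.ne 2) r' * (PowerSeries.X ^ m * G))) := by
      rw [PowerSeries.order_neg, hL, hu]
      intro hEq
      have : 2 * m = 2 * c + m := by exact_mod_cast hEq
      obtain ⟨q, hq⟩ := hm
      omega
    have h5 := PowerSeries.order_add_of_order_ne _ _ hne
    rw [← e4, PowerSeries.order_neg, hL, hu] at h5
    rw [h5] at hHn
    have : (n : ℕ∞) ≤ (2 * m : ℕ) := le_trans hHn (min_le_left _ _)
    have : n ≤ 2 * m := by exact_mod_cast this
    omega

end Groth.Agent.S19486
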