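import Groth.Statements.S19488
import Mathlib

set_option autoImplicit false
universe u
open CategoryTheory CategoryTheory.Limits AlgebraicGeometry
open W4c1frobunstiva

namespace Groth.Agent.S19488

/-- Fix a closed immersion of schemes f : S → T, an O_T-module G, an O_S-module E and an epimorphism ψ :
G → f_*E. Then the morphism ψ′ : f^*G → E that corresponds to ψ under the adjunction between
pullback and pushforward (it is the pullback f^*ψ followed by the counit f^*f_*E → E, an isomorphism
for a closed immersion) is an epimorphism, and the canonical map f^*(ker ψ) → ker(f^*ψ) is an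
epimorphism. (The published statement takes G and E locally free, which these two assertions do not
use.) -/
theorem result
    {S T : Scheme.{u}} (f : S ⟶ T) [IsClosedImmersion f] (G : T.Modules) (E : S.Modules)
    (ψ : G ⟶ (Scheme.Modules.pushforward f).obj E) [Epi ψ] :
    Epi (((Scheme.Modules.pullbackPushforwardAdjunction f).homEquiv G E).symm ψ) ∧
      Epi (kernelComparison ψ (Scheme.Modules.pullback f)) := by
  classical
  -- faithfulness of the pushforward along a closed immersion
  have hfaith : ∀ {E' : S.Modules} (h₁ h₂ : E ⟶ E'),
      (Scheme.Modules.pushforward f).map h₁ = (Scheme.Modules.pushforward f).map h₂ → h₁ = h₂ := by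
    intro E' h₁ h₂ h
    apply Scheme.Modules.hom_ext
    intro V
    obtain ⟨U, hU, hUV⟩ := (f.isEmbedding.isInducing.isOpen_iff).mp V.isOpen
    obtain rfl : f ⁻¹ᵁ (⟨U, hU⟩ : T.Opens) = V := TopologicalSpace.Opens.ext hUV
    have := congrArg (fun φ => Scheme.Modules.Hom.app φ (⟨U, hU⟩ : T.Opens)) h
    simpa [Scheme.Modules.pushforward_map_app] using this
  constructor
  · constructor
    intro E' h₁ h₂ h
    apply hfaith
    have key : ∀ h : E ⟶ E', ψ ≫ (Scheme.Modules.pushforward f).map h =
        ((Scheme.Modules.pullbackPushforwardAdjunction f).homEquiv G E')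
          (((Scheme.Modules.pullbackPushforwardAdjunction f).homEquiv G E).symm ψ ≫ h) := by
      intro h
      rw [Adjunction.homEquiv_naturality_right, Equiv.apply_symm_apply]
    have e1 := key h₁
    have e2 := key h₂
    rw [h] at e1
    exact (cancel_epi ψ).mp (e1.trans e2.symm)
  · let S₀ : ShortComplex T.Modules := ShortComplex.mk (kernel.ι ψ) ψ (kernel.condition ψ)
    have hS₀ : S₀.Exact := ShortComplex.exact_of_f_is_kernel _ (kernelIsKernel ψ)
    have hE : Epi S₀.g := ‹Epi ψ›
    have hpres : PreservesFiniteColimits (Scheme.Modules.pullback f) := inferInstance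
    have key : PreservesFiniteColimits (Scheme.Modules.pullback f) →
        ∀ (S' : ShortComplex T.Modules), S'.Exact ∧ Epi S'.g →
          (S'.map (Scheme.Modules.pullback f)).Exact ∧
            Epi ((Scheme.Modules.pullback f).map S'.g) :=
      ((Scheme.Modules.pullback f).preservesFiniteColimits_tfae.out 3 1).mp
    have h2 := key hpres S₀ ⟨hS₀, hE⟩
    have h3 := (ShortComplex.exact_iff_epi_kernel_lift (S₀.map (Scheme.Modules.pullback f))).mp h2.1
    exact h3

end Groth.Agent.S19488
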