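import Groth.Statements.S19502
import Mathlib
-- import your own Groth.Agent.* helpers here

set_option autoImplicit false
universe u
open W4c3ghconstell

namespace Groth.Agent.S19502

lemma split_tsum {ι : Type u} [DecidableEq ι] (F : ι → ℝ) (hF : Summable F) (D : Finset ι) :
    Summable (fun i => if i ∈ D then (0 : ℝ) else F i) ∧
      ∑' i, F i = ∑ i ∈ D, F i + ∑' i, (if i ∈ D then (0 : ℝ) else F i) := by
  have h1 : Summable (fun i => if i ∈ D then F i else (0 : ℝ)) :=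
    summable_of_ne_finset_zero (s := D) fun i hi => by simp [hi]
  have hdec : (fun i => if i ∈ D then (0 : ℝ) else F i) = fun i => F i - (if i ∈ D then F i else (0 : ℝ)) := by
    funext i
    by_cases hi : i ∈ D <;> simp [hi]
  have h2 : Summable (fun i => if i ∈ D then (0 : ℝ) else F i) := by
    rw [hdec]; exact hF.sub h1
  refine ⟨h2, ?_⟩
  have h3 : ∑' i, (if i ∈ D then F i else (0 : ℝ)) = ∑ i ∈ D, F i := by
    rw [tsum_eq_sum (s := D) fun i hi => by simp [hi]]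
    exact Finset.sum_congr rfl fun i hi => by simp [hi]
  have h4 : (fun i => F i) = fun i => (if i ∈ D then F i else (0 : ℝ)) + (if i ∈ D then (0 : ℝ) else F i) := by
    funext i
    by_cases hi : i ∈ D <;> simp [hi]
  conv_lhs => rw [h4]
  rw [h1.tsum_add h2, h3]

/-- Let ι index the irreducible representations, θ : ι → ℚ a weight which is negative exactly on the
finite set D₋, h h' : ι → ℕ with h' ≤ h pointwise (the isotypic dimensions of an object and of a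
sub-object) and Σ_i θ_i h_i summable. For a finite set D of indices put S_D = Σ_{i ∉ D} θ_i h_i, d =
#(D ∖ D₋) and θ̃_D = Σ_{i ∈ D} θ_i h'_i + (S_D / d) · Σ_{i ∈ D ∖ D₋} h'_i / h_i, the modified weight
attached to the parameters chosen for D (a quotient by zero is read as zero). Then for finite sets
D₋ ⊆ D ⊆ D̃ contained in the locus θ ≠ 0: (first error term) θ̃_{D̃} − θ̃_D = Σ_{τ ∈ D̃ ∖ D} (θ_τ
h_τ + S_{D̃}/d̃) · (h'_τ/h_τ − (1/d) Σ_{σ ∈ D ∖ D₋} h'_σ/h_σ); (second error term) Σ_i θ_i h'_i −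
θ̃_D = Σ_{τ ∉ D} θ_τ h_τ · (h'_τ/h_τ − (1/d) Σ_{σ ∈ D ∖ D₋} h'_σ/h_σ). -/
theorem result {ι : Type u} [DecidableEq ι]
    (θ : ι → ℚ) (h h' : ι → ℕ) (hle : ∀ i, h' i ≤ h i) (hfin : {i | θ i < 0}.Finite)
    (hsum : Summable (fun i => (θ i : ℝ) * (h i : ℝ))) (D D' : Finset ι)
    (hDm : hfin.toFinset ⊆ D) (hDD' : D ⊆ D') (hsupp : ∀ i ∈ D', θ i ≠ 0) :
    (((∑ i ∈ D', (θ i : ℝ) * (h' i : ℝ)) + ((∑' i, if i ∈ D' then (0 : ℝ) else (θ i : ℝ) * (h i : ℝ)) / ((D' \ hfin.toFinset).card : ℝ)) * (∑ σ ∈ D' \ hfin.toFinset, ((h' σ : ℝ) / (h σ : ℝ)))) - ((∑ i ∈ D, (θ i : ℝ) * (h' i : ℝ)) + ((∑' i, if i ∈ D then (0 : ℝ) else (θ i : ℝ) * (h i : ℝ)) / ((D \ hfin.toFinset).card : ℝ)) * (∑ σ ∈ D \ hfin.toFinset, ((h' σ : ℝ) / (h σ : ℝ)))) =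
      ∑ τ ∈ D' \ D, ((θ τ : ℝ) * (h τ : ℝ) + (∑' i, if i ∈ D' then (0 : ℝ) else (θ i : ℝ) * (h i : ℝ)) / ((D' \ hfin.toFinset).card : ℝ)) *
        (((h' τ : ℝ) / (h τ : ℝ)) - (1 / ((D \ hfin.toFinset).card : ℝ)) * (∑ σ ∈ D \ hfin.toFinset, ((h' σ : ℝ) / (h σ : ℝ))))) ∧
    ((∑' i, (θ i : ℝ) * (h' i : ℝ)) - ((∑ i ∈ D, (θ i : ℝ) * (h' i : ℝ)) + ((∑' i, if i ∈ D then (0 : ℝ) else (θ i : ℝ) * (h i : ℝ)) / ((D \ hfin.toFinset).card : ℝ)) * (∑ σ ∈ D \ hfin.toFinset, ((h' σ : ℝ) / (h σ : ℝ)))) =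
      ∑' τ, if τ ∈ D then (0 : ℝ) else (θ τ : ℝ) * (h τ : ℝ) *
        (((h' τ : ℝ) / (h τ : ℝ)) - (1 / ((D \ hfin.toFinset).card : ℝ)) * (∑ σ ∈ D \ hfin.toFinset, ((h' σ : ℝ) / (h σ : ℝ))))) := by
  classical
  obtain ⟨Dm, hDmdef⟩ : ∃ Dm, hfin.toFinset = Dm := ⟨_, rfl⟩
  rw [hDmdef] at hDm ⊢
  obtain ⟨f, hf⟩ : ∃ f : ι → ℝ, f = fun i => (θ i : ℝ) * (h i : ℝ) := ⟨_, rfl⟩
  obtain ⟨g, hg⟩ : ∃ g : ι → ℝ, g = fun i => (θ i : ℝ) * (h' i : ℝ) := ⟨_, rfl⟩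
  obtain ⟨r, hr⟩ : ∃ r : ι → ℝ, r = fun i => (h' i : ℝ) / (h i : ℝ) := ⟨_, rfl⟩
  have hfi : ∀ i, (θ i : ℝ) * (h i : ℝ) = f i := fun i => by rw [hf]
  have hgi : ∀ i, (θ i : ℝ) * (h' i : ℝ) = g i := fun i => by rw [hg]
  have hri : ∀ i, (h' i : ℝ) / (h i : ℝ) = r i := fun i => by rw [hr]
  have hfsum : Summable f := by rw [hf]; exact hsum
  have hgfr : ∀ i, g i = f i * r i := by
    intro i
    rw [hf, hg, hr]
    by_cases h0 : h i = 0
    · have : h' i = 0 := by have := hle i; omega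
      simp [h0, this]
    · have : (h i : ℝ) ≠ 0 := by exact_mod_cast h0
      field_simp
  have hgsum : Summable g := by
    refine Summable.of_norm_bounded (g := fun i => ‖f i‖) hfsum.norm fun i => ?_
    rw [hf, hg]
    simp only [norm_mul]
    refine mul_le_mul_of_nonneg_left ?_ (norm_nonneg _)
    rw [Real.norm_natCast, Real.norm_natCast]
    exact_mod_cast hle i
  simp only [hfi, hgi, hri]
  obtain ⟨hSD, eSD⟩ := split_tsum f hfsum D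
  obtain ⟨hSD', eSD'⟩ := split_tsum f hfsum D'
  obtain ⟨A, hA⟩ : ∃ A, ∑' i, (if i ∈ D' then (0 : ℝ) else f i) = A := ⟨_, rfl⟩
  obtain ⟨A0, hA0⟩ : ∃ A0, ∑' i, (if i ∈ D then (0 : ℝ) else f i) = A0 := ⟨_, rfl⟩
  rw [hA] at eSD' ⊢
  rw [hA0] at eSD ⊢
  have hsd : ∀ F : ι → ℝ, ∑ i ∈ D', F i = ∑ i ∈ D, F i + ∑ i ∈ D' \ D, F i := by
    intro F
    rw [add_comm, Finset.sum_sdiff hDD']
  have hA0A : A0 = A + ∑ τ ∈ D' \ D, f τ := by
    have := hsd f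
    linarith
  have hE : D' \ Dm = (D \ Dm) ∪ (D' \ D) := by
    ext i
    simp only [Finset.mem_sdiff, Finset.mem_union]
    constructor
    · rintro ⟨h1, h2⟩
      by_cases hi : i ∈ D
      · exact Or.inl ⟨hi, h2⟩
      · exact Or.inr ⟨h1, hi⟩
    · rintro (⟨h1, h2⟩ | ⟨h1, h2⟩)
      · exact ⟨hDD' h1, h2⟩
      · exact ⟨h1, fun h3 => h2 (hDm h3)⟩
  have hdisj : Disjoint (D \ Dm) (D' \ D) := by
    rw [Finset.disjoint_left]
    intro i h1 h2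
    exact (Finset.mem_sdiff.1 h2).2 (Finset.mem_sdiff.1 h1).1
  have hρ : ∑ σ ∈ D' \ Dm, r σ = ∑ σ ∈ D \ Dm, r σ + ∑ τ ∈ D' \ D, r τ := by
    rw [hE, Finset.sum_union hdisj]
  have hcard : ((D' \ Dm).card : ℝ) = ((D \ Dm).card : ℝ) + ((D' \ D).card : ℝ) := by
    rw [hE, Finset.card_union_of_disjoint hdisj]
    push_cast; ring
  obtain ⟨ρ, hρdef⟩ : ∃ ρ, ∑ σ ∈ D \ Dm, r σ = ρ := ⟨_, rfl⟩
  obtain ⟨d, hd⟩ : ∃ d : ℝ, ((D \ Dm).card : ℝ) = d := ⟨_, rfl⟩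
  obtain ⟨mm, hmm⟩ : ∃ mm : ℝ, ((D' \ D).card : ℝ) = mm := ⟨_, rfl⟩
  have hd0 : d = 0 → ρ = 0 := by
    intro h0
    rw [← hd] at h0
    have : (D \ Dm).card = 0 := by exact_mod_cast h0
    rw [Finset.card_eq_zero] at this
    rw [← hρdef, this, Finset.sum_empty]
  rw [hρ, hcard, hρdef, hd, hmm]
  constructor
  · -- first identity
    have hterm : ∀ τ, (f τ + A / (d + mm)) * (r τ - 1 / d * ρ) =
        g τ - (1 / d * ρ) * f τ + (A / (d + mm)) * r τ - (A / (d + mm)) * (1 / d * ρ) := by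
      intro τ
      rw [hgfr]; ring
    simp only [hterm, Finset.sum_add_distrib, Finset.sum_sub_distrib, ← Finset.mul_sum, Finset.sum_const,
      nsmul_eq_mul, hmm]
    rw [hsd g, hA0A]
    by_cases hdz : d = 0
    · rw [hd0 hdz, hdz]
      simp
      ring
    · have hmm0 : (0 : ℝ) ≤ mm := by rw [← hmm]; exact Nat.cast_nonneg _
      have hdpos : (0 : ℝ) < d := by
        rw [← hd] at hdz ⊢
        have : (0 : ℝ) ≤ ((D \ Dm).card : ℝ) := Nat.cast_nonneg _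
        exact lt_of_le_of_ne this (Ne.symm hdz)
      have hdm : d + mm ≠ 0 := by linarith
      field_simp
      ring
  · -- second identity
    obtain ⟨hGD, eGD⟩ := split_tsum g hgsum D
    rw [eGD]
    have hfun : (fun τ => if τ ∈ D then (0 : ℝ) else f τ * (r τ - 1 / d * ρ)) =
        fun τ => (if τ ∈ D then (0 : ℝ) else g τ) - (1 / d * ρ) * (if τ ∈ D then (0 : ℝ) else f τ) := by
      funext τ
      by_cases hτ : τ ∈ D
      · simp [hτ]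
      · simp only [hτ, if_false]
        rw [hgfr]; ring
    rw [hfun, hGD.tsum_sub (hSD.mul_left _), tsum_mul_left, hA0]
    ring

end Groth.Agent.S19502
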