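import Groth.Statements.S19512
import Mathlib
import Groth.Agent.S19511
-- import your own Groth.Agent.* helpers here

set_option autoImplicit false
universe u
open CategoryTheory CategoryTheory.Limits AlgebraicGeometry
open Variety

namespace Groth.Agent.S19512

/-- Let k be a field and f : X → Y a k-morphism between proper k-schemes which is a fibration, i.e. O_Y
→ f_*O_X is an isomorphism (Γ(V, O_Y) → Γ(f⁻¹V, O_X) bijective for every open V ⊆ Y). If X is
integral, then Y is integral. (The second assertion of (ii), generic flatness of f, is quoted from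
the literature and not stated.) -/
theorem result (k : Type u) [Field k] (X Y : Scheme.{u})
    [X.Over (Spec (CommRingCat.of k))] [Y.Over (Spec (CommRingCat.of k))] [IsProper (X ↘ Spec (CommRingCat.of k))] [IsProper (Y ↘ Spec (CommRingCat.of k))]
    (f : X ⟶ Y) (hf : f ≫ (Y ↘ Spec (CommRingCat.of k)) = X ↘ Spec (CommRingCat.of k)) (hfib : ∀ V : Y.Opens, IsIso (f.app V))
    [AlgebraicGeometry.IsIntegral X] : AlgebraicGeometry.IsIntegral Y := by
  haveI : IsProper (f ≫ (Y ↘ Spec (CommRingCat.of k))) := by rw [hf]; infer_instance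
  haveI : IsProper f := IsProper.of_comp f (Y ↘ Spec (CommRingCat.of k))
  have hs : Surjective f := Groth.Agent.S19511.surj f f.isClosedMap.isClosed_range hfib
  have hne : Nonempty Y := (inferInstance : Nonempty X).map f
  refine { nonempty := hne, component_integral := fun V hV => ?_ }
  obtain ⟨⟨y, hy⟩⟩ := hV
  obtain ⟨x, rfl⟩ := hs.surj y
  haveI : Nonempty (f ⁻¹ᵁ V) := ⟨⟨x, hy⟩⟩
  haveI := hfib V
  have hinj : Function.Injective (f.app V).hom :=
    ((ConcreteCategory.isIso_iff_bijective (f.app V)).mp inferInstance).1
  haveI : Nontrivial Γ(Y, V) := by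
    refine ⟨⟨0, 1, fun h01 => ?_⟩⟩
    have := congrArg (Y.presheaf.germ V (f x) hy).hom h01
    rw [map_zero, map_one] at this
    exact zero_ne_one this
  exact hinj.isDomain _

end Groth.Agent.S19512
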