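import Groth.Statements.S19548
import Mathlib
import Groth.Agent.Helper9.WeylExch
-- import your own Groth.Agent.* helpers here

set_option autoImplicit false
universe u
open CategoryTheory AlgebraicGeometry
open RedSub

namespace Groth.Agent.S19548

/-- Let Φ be a finite reduced root system (a reduced root pairing over ℤ on a finite index set) with a
base b, let w = σ_{α_1} ⋯ σ_{α_ℓ} be a reduced decomposition of a Weyl group element into simple
reflections (every α_j in the base, and no shorter word in the simple reflections gives the same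
permutation of the roots), and let γ be a positive root with w⁻¹(γ) negative. Then for some i with 1
≤ i ≤ ℓ one has σ_γ σ_{α_1} ⋯ σ_{α_i} = σ_{α_1} ⋯ σ_{α_{i-1}}. (Indices are shifted by one below:
the word is a list and the prefixes are its first i + 1 and first i letters.) -/
theorem result {idx M N : Type}
    [AddCommGroup M] [AddCommGroup N] [Finite idx]
    (P : RootPairing idx ℤ M N) [P.IsReduced] (b : P.Base) (l : List idx)
    (hl : ∀ a ∈ l, a ∈ b.support)
    (hred : ∀ l' : List idx, (∀ a ∈ l', a ∈ b.support) →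
      RedSub.wordPerm P l' = RedSub.wordPerm P l → l.length ≤ l'.length)
    (c : idx) (hc : c ∈ RedSub.posRoots P b) (hneg : (RedSub.wordPerm P l).symm c ∈ RedSub.negRoots P b) :
    ∃ i : ℕ, i < l.length ∧
      P.reflectionPerm c * RedSub.wordPerm P (l.take (i + 1)) = RedSub.wordPerm P (l.take i) := by
  classical
  have hpos0 : b.IsPos ((RedSub.wordPerm P (l.take 0))⁻¹ c) := by
    have : RedSub.wordPerm P (l.take 0) = 1 := by simp [RedSub.wordPerm]
    rw [this, inv_one, Equiv.Perm.one_apply]
    exact Groth.Agent.Helper9.WeylExch.isPos_of_mem_posRoots P b hc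
  have hnegℓ : ¬ b.IsPos ((RedSub.wordPerm P (l.take l.length))⁻¹ c) := by
    rw [List.take_length]
    exact Groth.Agent.Helper9.WeylExch.not_isPos_of_mem_negRoots P b hneg
  have hex : ∃ j, ¬ b.IsPos ((RedSub.wordPerm P (l.take j))⁻¹ c) := ⟨l.length, hnegℓ⟩
  obtain ⟨j, hj, hmin⟩ : ∃ j, ¬ b.IsPos ((RedSub.wordPerm P (l.take j))⁻¹ c) ∧
      ∀ j' < j, b.IsPos ((RedSub.wordPerm P (l.take j'))⁻¹ c) :=
    ⟨Nat.find hex, Nat.find_spec hex, fun j' hj' => not_not.mp (Nat.find_min hex hj')⟩
  have hjℓ : j ≤ l.length := by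
    by_contra h
    push Not at h
    exact hnegℓ (hmin _ h)
  obtain ⟨i, rfl⟩ : ∃ i, j = i + 1 := Nat.exists_eq_succ_of_ne_zero (fun h => hj (h ▸ hpos0))
  have hi : i < l.length := by omega
  refine ⟨i, hi, ?_⟩
  have hposi := hmin i (Nat.lt_succ_self i)
  have htake : l.take (i + 1) = l.take i ++ [l[i]] := List.take_succ_eq_append_getElem hi
  have ha_supp : l[i] ∈ b.support := hl _ (List.getElem_mem hi)
  have hw1 : RedSub.wordPerm P (l.take (i + 1)) =
      RedSub.wordPerm P (l.take i) * P.reflectionPerm l[i] := by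
    rw [htake, Groth.Agent.Helper9.WeylExch.wordPerm_append_singleton]
  have hγ : (RedSub.wordPerm P (l.take (i + 1)))⁻¹ c =
      P.reflectionPerm l[i] ((RedSub.wordPerm P (l.take i))⁻¹ c) := by
    rw [hw1, mul_inv_rev, P.reflectionPerm_inv, Equiv.Perm.mul_apply]
  rw [hγ] at hj
  have heq : (RedSub.wordPerm P (l.take i))⁻¹ c = l[i] := by
    by_contra hne
    exact hj (hposi.reflectionPerm ha_supp hne)
  have hc' : c = RedSub.wordPerm P (l.take i) l[i] := by
    rw [← heq]
    simp
  have hsq : P.reflectionPerm l[i] * P.reflectionPerm l[i] = 1 := by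
    rw [← sq]
    exact P.reflectionPerm_sq _
  rw [hc', Groth.Agent.Helper9.WeylExch.reflectionPerm_wordPerm, hw1]
  calc RedSub.wordPerm P (l.take i) * P.reflectionPerm l[i] * (RedSub.wordPerm P (l.take i))⁻¹ *
        (RedSub.wordPerm P (l.take i) * P.reflectionPerm l[i])
      = RedSub.wordPerm P (l.take i) * (P.reflectionPerm l[i] * P.reflectionPerm l[i]) := by group
    _ = RedSub.wordPerm P (l.take i) := by rw [hsq, mul_one]

end Groth.Agent.S19548
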