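import Groth.Statements.S19556
import Mathlib
-- import your own Groth.Agent.* helpers here

set_option autoImplicit false
universe u
open CategoryTheory AlgebraicGeometry
open Mor

namespace Groth.Agent.S19556

/-- Let S be a scheme, p : X → S and q : Y → S schemes over S, and π : X → Y a finite surjective
morphism over S (π ≫ q = p). If X is separated over S then Y is separated over S. (The published
statement is about the quotient map X → X/G of a scheme by an action of a finite group scheme,
assumed to exist and then finite and surjective; this row keeps of it only a finite surjective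
S-morphism π, which is all the argument uses.) -/
theorem result {S X Y : Scheme.{u}} (p : X ⟶ S) (q : Y ⟶ S)
    (π : X ⟶ Y) (hπ : π ≫ q = p) [IsFinite π] [Surjective π] [IsSeparated p] :
    IsSeparated q := by
  have e : p = π ≫ q := hπ.symm
  have hΦ : IsFinite (Limits.pullback.map p p q q π π (𝟙 S) ((Category.comp_id _).trans e)
      ((Category.comp_id _).trans e)) :=
    MorphismProperty.pullbackMap (P := @IsFinite) ‹IsFinite π› ‹IsFinite π› e e
  have hcomm : Limits.pullback.diagonal p ≫ (Limits.pullback.map p p q q π π (𝟙 S) ((Category.comp_id _).trans e)
      ((Category.comp_id _).trans e)) = π ≫ Limits.pullback.diagonal q := by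
    apply Limits.pullback.hom_ext
    · rw [Category.assoc, Limits.pullback.lift_fst, Limits.pullback.diagonal_fst_assoc,
        Category.assoc, Limits.pullback.diagonal_fst, Category.comp_id]
    · rw [Category.assoc, Limits.pullback.lift_snd, Limits.pullback.diagonal_snd_assoc,
        Category.assoc, Limits.pullback.diagonal_snd, Category.comp_id]
  have hrange : Set.range (Limits.pullback.diagonal q) =
      (Limits.pullback.map p p q q π π (𝟙 S) ((Category.comp_id _).trans e)
      ((Category.comp_id _).trans e)) '' Set.range (Limits.pullback.diagonal p) := by
    have h1 : Set.range (π ≫ Limits.pullback.diagonal q) = Set.range (Limits.pullback.diagonal q) := by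
      ext y
      constructor
      · rintro ⟨x, rfl⟩
        exact ⟨π x, by simp⟩
      · rintro ⟨x, rfl⟩
        obtain ⟨x', rfl⟩ := π.surjective x
        exact ⟨x', by simp⟩
    rw [← h1, ← hcomm]
    ext y
    constructor
    · rintro ⟨x, rfl⟩
      exact ⟨Limits.pullback.diagonal p x, ⟨x, rfl⟩, by simp⟩
    · rintro ⟨_, ⟨x, rfl⟩, rfl⟩
      exact ⟨x, by simp⟩
  refine ⟨IsClosedImmersion.of_isPreimmersion _ ?_⟩
  rw [hrange]
  exact Scheme.Hom.isClosedMap _ _ (Limits.pullback.diagonal p).isClosedEmbedding.isClosed_range

end Groth.Agent.S19556
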