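import Groth.Statements.S19562
import Mathlib
-- import your own Groth.Agent.* helpers here

set_option autoImplicit false
universe u
open W4c1limliniiii

namespace Groth.Agent.S19562

theorem lin_core {k : Type u} [Field k] {W : Type u} [AddCommGroup W] [Module k W]
    [Module.Finite k W] (F G : W →ₗ[k] W) (hFG : F.comp G = 0) (hGF : G.comp F = 0)
    (V V' : Submodule k W) (r : ℕ) (hV : Module.finrank k V = r) (hV' : Module.finrank k V' = r)
    (h1 : Submodule.map F V ≤ V') (h2 : Submodule.map G V' ≤ V) :
    (LinearMap.ker G ⊓ V' ≤ Submodule.map F V ∧ LinearMap.ker F ⊓ V ≤ Submodule.map G V') ↔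
      Module.finrank k ↥(Submodule.map F V) + Module.finrank k ↥(Submodule.map G V') = r := by
  -- rank-nullity on V and V'
  have rn : ∀ (H : W →ₗ[k] W) (U : Submodule k W),
      Module.finrank k ↥(Submodule.map H U) + Module.finrank k ↥(LinearMap.ker H ⊓ U) =
        Module.finrank k U := by
    intro H U
    have h := LinearMap.finrank_range_add_finrank_ker (H.domRestrict U)
    rw [LinearMap.range_domRestrict, LinearMap.ker_domRestrict] at h
    have e : Submodule.comap U.subtype (LinearMap.ker H) =
        Submodule.comap U.subtype (LinearMap.ker H ⊓ U) := by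
      rw [Submodule.comap_inf, Submodule.comap_subtype_self, inf_top_eq]
    rw [e, (Submodule.comapSubtypeEquivOfLe (inf_le_right : LinearMap.ker H ⊓ U ≤ U)).finrank_eq] at h
    exact h
  have hle1 : Submodule.map F V ≤ LinearMap.ker G ⊓ V' := by
    refine le_inf ?_ h1
    rintro _ ⟨v, _, rfl⟩
    rw [LinearMap.mem_ker]
    exact LinearMap.congr_fun hGF v
  have hle2 : Submodule.map G V' ≤ LinearMap.ker F ⊓ V := by
    refine le_inf ?_ h2
    rintro _ ⟨v, _, rfl⟩
    rw [LinearMap.mem_ker]
    exact LinearMap.congr_fun hFG v
  have a1 := rn F V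
  have a2 := rn G V'
  rw [hV] at a1
  rw [hV'] at a2
  have l1 := Submodule.finrank_mono hle1
  have l2 := Submodule.finrank_mono hle2
  constructor
  · rintro ⟨e1, e2⟩
    have := Submodule.finrank_mono e1
    omega
  · intro hsum
    constructor
    · have heq : Module.finrank k ↥(Submodule.map F V) = Module.finrank k ↥(LinearMap.ker G ⊓ V') := by
        omega
      exact (Submodule.eq_of_le_of_finrank_eq hle1 heq).ge
    · have heq : Module.finrank k ↥(Submodule.map G V') = Module.finrank k ↥(LinearMap.ker F ⊓ V) := by
        omega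
      exact (Submodule.eq_of_le_of_finrank_eq hle2 heq).ge


open TensorProduct in
/-- Let k be a field, 0 < r < d, and f_i, g_i (i < n) linear maps forward and backward between
consecutive ones of n + 1 copies of k^d, forming a linked Grassmannian over Spec k whose scalar s is
zero: every composite f_i ∘ g_i and g_i ∘ f_i vanishes, rank f_i + rank g_i ≥ d, and for consecutive
indices im f_i ∩ ker f_{i+1} = 0 and im g_{i+1} ∩ ker g_i = 0. Let (V_i) be a k-valued point of the
linked Grassmannian of rank-r sub-bundles (subspaces V_i of k ⊗ k^d with quotient of rank d − r,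
with f_i(V_i) ⊆ V_{i+1} and g_i(V_{i+1}) ⊆ V_i). Then (V_i) is exact, meaning ker g_i ∩ V_{i+1} ⊆
f_i(V_i) and ker f_i ∩ V_i ⊆ g_i(V_{i+1}) for all i, if and only if dim f_i(V_i) + dim g_i(V_{i+1})
= r for all i. (The published assertion is for points with values in an arbitrary scheme and also
says that f_i(V_i) and g_i(V_{i+1}) are then sub-bundles; this row is the case of a field, where the
last clause is empty.) -/
theorem result (k : Type u) [Field k]
    (d r n : ℕ) (hr : 0 < r) (hrd : r < d) (f g : Fin n → ((Fin d → k) →ₗ[k] (Fin d → k)))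
    (hI : ∀ i, (f i).comp (g i) = 0 ∧ (g i).comp (f i) = 0)
    (hII : ∀ i, d ≤ Module.finrank k (LinearMap.range (f i)) + Module.finrank k (LinearMap.range (g i)))
    (hIII : ∀ i j : Fin n, i.val + 1 = j.val →
      LinearMap.range (f i) ⊓ LinearMap.ker (f j) = ⊥ ∧
        LinearMap.range (g j) ⊓ LinearMap.ker (g i) = ⊥)
    (V : Fin (n + 1) → Module.Grassmannian k (k ⊗[k] (Fin d → k)) (d - r))
    (hV : V ∈ W4c1limliniiii.LGPoints k d r n f g k) :
    W4c1limliniiii.IsExact k d r n f g k V ↔
      ∀ i : Fin n,
        Module.finrank k ↥(Submodule.map ((f i).baseChange k) (V i.castSucc).toSubmodule) +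
          Module.finrank k ↥(Submodule.map ((g i).baseChange k) (V i.succ).toSubmodule) = r := by
  have hW : Module.finrank k (k ⊗[k] (Fin d → k)) = d := by
    rw [Module.finrank_tensorProduct, Module.finrank_self, Module.finrank_fin_fun, one_mul]
  have hdim : ∀ j : Fin (n + 1), Module.finrank k (V j).toSubmodule = r := by
    intro j
    have h1 := (V j).rankAtStalk_eq ⟨⊥, Ideal.isPrime_bot⟩
    rw [Module.rankAtStalk_eq_finrank_of_free] at h1
    have h2 := Submodule.finrank_quotient_add_finrank (V j).toSubmodule
    rw [hW] at h2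
    have h3 : Module.finrank k ((k ⊗[k] (Fin d → k)) ⧸ (V j).toSubmodule) = d - r := h1
    omega
  have key : ∀ i : Fin n,
      (LinearMap.ker ((g i).baseChange k) ⊓ (V i.succ).toSubmodule ≤
        Submodule.map ((f i).baseChange k) (V i.castSucc).toSubmodule ∧
      LinearMap.ker ((f i).baseChange k) ⊓ (V i.castSucc).toSubmodule ≤
        Submodule.map ((g i).baseChange k) (V i.succ).toSubmodule) ↔
      Module.finrank k ↥(Submodule.map ((f i).baseChange k) (V i.castSucc).toSubmodule) +
          Module.finrank k ↥(Submodule.map ((g i).baseChange k) (V i.succ).toSubmodule) = r := by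
    intro i
    apply lin_core
    · rw [← LinearMap.baseChange_comp, (hI i).1, LinearMap.baseChange_zero]
    · rw [← LinearMap.baseChange_comp, (hI i).2, LinearMap.baseChange_zero]
    · exact hdim _
    · exact hdim _
    · exact (hV i).1
    · exact (hV i).2
  unfold W4c1limliniiii.IsExact
  exact forall_congr' key

end Groth.Agent.S19562
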