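import Groth.Statements.S19574
import Mathlib
import Groth.Agent.Helper9.FlatChase
-- import your own Groth.Agent.* helpers here

set_option autoImplicit false
universe u
open CategoryTheory MonoidalCategory
open Lie3Mod

namespace Groth.Agent.S19574

/-- Let R be a commutative ring and d ≥ 1. Let K be a chain complex of R-modules concentrated in degrees
0, …, d + 1, written … → 0 → P_{d+1} → P_d → … → P_1 → M with M = K_0, which is exact (so 0 →
P_{d+1} → … → P_1 → M → 0 is an exact sequence), such that P_1, …, P_d are flat R-modules and such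
that for every ideal I of R the complex obtained by applying (R/I) ⊗_R − termwise is again exact.
Then M is a flat R-module. (No flatness is assumed for P_{d+1}. The published lemma adds that for R
Noetherian it suffices to test prime ideals I; that refinement is not part of this statement.) -/
theorem result (R : Type u) [CommRing R]
    (d : ℕ) (hd : 1 ≤ d) (K : ChainComplex (ModuleCat.{u} R) ℕ)
    (hzero : ∀ i : ℕ, d + 1 < i → Limits.IsZero (K.X i))
    (hflat : ∀ i : ℕ, 1 ≤ i → i ≤ d → Module.Flat R (K.X i))
    (hK : K.Acyclic)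
    (hbc : ∀ I : Ideal R,
      (((tensorLeft (ModuleCat.of R (R ⧸ I))).mapHomologicalComplex (ComplexShape.down ℕ)).obj K).Acyclic) :
    Module.Flat R (K.X 0) := by
  have h0 := (HomologicalComplex.exactAt_iff' K 1 0 0 (by simp) (by simp)).mp (hK 0)
  rw [ShortComplex.moduleCat_exact_iff] at h0
  have h1 := (HomologicalComplex.exactAt_iff' K 2 1 0 (by simp) (by simp)).mp (hK 1)
  rw [ShortComplex.moduleCat_exact_iff] at h1
  haveI : Module.Flat R (K.X 1) := hflat 1 le_rfl hd
  refine Groth.Agent.Helper9.FlatChase.flat_of_chase (K.d 1 0).hom (K.d 2 1).hom (K.d 3 2).hom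
    ?_ ?_ ?_ ?_ ?_
  · intro m
    obtain ⟨x, hx⟩ := h0 m (by
      have : K.d 0 0 = 0 := K.shape 0 0 (by simp)
      show (K.d 0 0).hom m = 0
      rw [this]; rfl)
    exact ⟨x, hx⟩
  · intro p hp
    exact h1 p hp
  · intro q
    have := K.d_comp_d 2 1 0
    have h : (K.d 2 1 ≫ K.d 1 0).hom q = (0 : K.X 2 ⟶ K.X 0).hom q := by rw [this]
    exact h
  · intro r
    have := K.d_comp_d 3 2 1
    have h : (K.d 3 2 ≫ K.d 2 1).hom r = (0 : K.X 3 ⟶ K.X 1).hom r := by rw [this]
    exact h
  · intro I z hz
    have h2 := (HomologicalComplex.exactAt_iff'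
      (((tensorLeft (ModuleCat.of R (R ⧸ I))).mapHomologicalComplex (ComplexShape.down ℕ)).obj K)
      3 2 1 (by simp) (by simp)).mp (hbc I 2)
    rw [ShortComplex.moduleCat_exact_iff] at h2
    exact h2 z hz

end Groth.Agent.S19574
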