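import Groth.Statements.S1959
import Mathlib

set_option autoImplicit false
universe u
open Polynomial
open EtAlg

namespace Groth.Agent.S1959

/-- Let I be an ideal of a ring A, A -> B an integral ring map and b an element of B whose image in B/IB
is idempotent. Then there are d ≥ 1 and a monic polynomial f over A with f(b) = 0 whose reduction
modulo I is x^d (x - 1)^d. -/
theorem result (A B : Type u) [CommRing A] [CommRing B] [Algebra A B]
    [Algebra.IsIntegral A B] (I : Ideal A) (b : B)
    (hb : IsIdempotentElem (Ideal.Quotient.mk (I.map (algebraMap A B)) b)) :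
    ∃ (f : A[X]) (d : ℕ), f.Monic ∧ 1 ≤ d ∧ aeval b f = 0 ∧
      f.map (Ideal.Quotient.mk I) = X ^ d * (X - 1) ^ d := by
  classical
  rcases subsingleton_or_nontrivial A with hs | hnt
  · have : Subsingleton (A ⧸ I) := (Ideal.Quotient.mk_surjective (I := I)).subsingleton
    have : Subsingleton B := (algebraMap A B).codomain_trivial
    exact ⟨0, 1, Subsingleton.elim _ _, le_rfl, Subsingleton.elim _ _, Subsingleton.elim _ _⟩
  have hc : b * b - b ∈ I.map (algebraMap A B) := by
    rw [← Ideal.Quotient.eq, map_mul]; exact hb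
  change b * b - b ∈ Submodule.span B (algebraMap A B '' (I : Set A)) at hc
  rw [Finsupp.mem_span_image_iff_linearCombination] at hc
  obtain ⟨l, hl, hlc⟩ := hc
  rw [Finsupp.linearCombination_apply, Finsupp.sum] at hlc
  let S : Set B := insert b (l.support.image l : Finset B)
  have hSfin : S.Finite := (Finset.finite_toSet _).insert b
  let B' := Algebra.adjoin A S
  have hfin : Module.Finite A B' :=
    Algebra.finite_adjoin_of_finite_of_isIntegral hSfin fun x _ => Algebra.IsIntegral.isIntegral x
  have hbB' : b ∈ B' := Algebra.subset_adjoin (Set.mem_insert _ _)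
  have hlB' : ∀ a ∈ l.support, l a ∈ B' := fun a ha =>
    Algebra.subset_adjoin (Set.mem_insert_of_mem _ (Finset.mem_coe.2 (Finset.mem_image_of_mem l ha)))
  let c' : B' := ⟨b * b - b, sub_mem (mul_mem hbB' hbB') hbB'⟩
  let φ : Module.End A B' := Algebra.lmul A B' c'
  have hrange : LinearMap.range φ ≤ I • (⊤ : Submodule A B') := by
    rintro _ ⟨y, rfl⟩
    have hy : φ y = ∑ a ∈ l.support.attach, (a : A) • ((⟨l a, hlB' a a.2⟩ : B') * y) := by
      apply Subtype.ext
      simp only [φ, c']
      rw [AddSubmonoidClass.coe_finsetSum]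
      change (b * b - b) * (y : B) = _
      rw [← hlc, Finset.sum_mul, ← Finset.sum_attach]
      refine Finset.sum_congr rfl fun a _ => ?_
      simp only [smul_eq_mul, Subalgebra.coe_mul, Algebra.smul_def, Subalgebra.coe_algebraMap]
      ring
    rw [hy]
    refine Submodule.sum_mem _ fun a _ => ?_
    exact Submodule.smul_mem_smul (hl a.2) Submodule.mem_top
  obtain ⟨p, hpm, -, hpc, hp0⟩ :=
    LinearMap.exists_monic_and_natDegree_eq_and_coeff_mem_pow_and_aeval_eq_zero A φ I hrange
  have hp0' : aeval c' p = 0 := by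
    have h1 : aeval φ p = Algebra.lmul A B' (aeval c' p) :=
      Polynomial.aeval_algHom_apply (Algebra.lmul A B') c' p
    have h2 := congrArg (fun ψ : Module.End A B' => ψ 1) h1
    simp only [hp0, LinearMap.zero_apply] at h2
    simpa using h2.symm
  have hp0'' : aeval (b * b - b) p = 0 := by
    have := aeval_subalgebra_coe p B' c'
    rw [hp0'] at this
    simpa [c'] using this.symm
  set n := p.natDegree with hn
  have hpmap : p.map (Ideal.Quotient.mk I) = X ^ n := by
    ext k
    rw [coeff_map, coeff_X_pow]
    split_ifs with hk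
    · rw [hk, hn, hpm.coeff_natDegree, map_one]
    · rcases lt_or_gt_of_ne hk with h | h
      · rw [Ideal.Quotient.eq_zero_iff_mem]
        exact Ideal.pow_le_self (by omega) (hpc k)
      · rw [coeff_eq_zero_of_natDegree_lt h, map_zero]
  have hqm : (X ^ 2 - X : A[X]).Monic := monic_X_pow_sub (by rw [degree_X]; norm_num)
  have hqdeg : (X ^ 2 - X : A[X]).natDegree ≠ 0 := by
    intro h0
    have : (X ^ 2 - X : A[X]).natDegree = 2 := by
      rw [natDegree_sub_eq_left_of_natDegree_lt] <;> simp
    omega
  refine ⟨(X * p).comp (X ^ 2 - X), n + 1, (monic_X.mul hpm).comp hqm hqdeg, by omega, ?_, ?_⟩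
  · rw [aeval_comp]
    simp only [map_sub, map_pow, aeval_X, map_mul]
    rw [pow_two, hp0'', mul_zero]
  · rw [Polynomial.map_comp, Polynomial.map_mul, hpmap, map_X, Polynomial.map_sub,
      Polynomial.map_pow, map_X, ← pow_succ', X_pow_comp]
    rw [show (X ^ 2 - X : (A ⧸ I)[X]) = X * (X - 1) by ring, mul_pow]

end Groth.Agent.S1959
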