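import Groth.Statements.S19590
import Mathlib
-- import your own Groth.Agent.* helpers here

set_option autoImplicit false
open BddFin

namespace Groth.Agent.S19590

/-- entrywise divisibility by `3 ^ t` -/
def D {n : ℕ} (t : ℕ) (A : Matrix (Fin n) (Fin n) ℤ) : Prop := ∀ i j, (3 : ℤ) ^ t ∣ A i j

theorem D_mul {n : ℕ} {t s : ℕ} {A B : Matrix (Fin n) (Fin n) ℤ} (hA : D t A) (hB : D s B) :
    D (t + s) (A * B) := by
  intro i j
  rw [Matrix.mul_apply]
  refine Finset.dvd_sum fun l _ => ?_
  rw [pow_add]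
  exact mul_dvd_mul (hA i l) (hB l j)

theorem D_zero {n : ℕ} (A : Matrix (Fin n) (Fin n) ℤ) : D 0 A := fun i j => by simp

open Finset in
theorem key (n : ℕ) (q : ℕ) (hq : q.Prime) (M : Matrix (Fin n) (Fin n) ℤ)
    (h3 : ∀ i j, (3 : ℤ) ∣ M i j) (hpow : (M + 1) ^ q = 1) : M = 0 := by
  set g : Matrix (Fin n) (Fin n) ℤ := M + 1 with hg
  let G : ℕ → Matrix (Fin n) (Fin n) ℤ := fun i => ∑ l ∈ range i, g ^ l
  have hG : ∀ i, g ^ i = G i * M + 1 := fun i => (geom_sum_mul_add M i).symm
  set T : Matrix (Fin n) (Fin n) ℤ := ∑ i ∈ range q, G i with hT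
  have hS : (∑ i ∈ range q, g ^ i) = T * M + (q : ℤ) • (1 : Matrix (Fin n) (Fin n) ℤ) := by
    rw [Finset.sum_congr rfl (fun i _ => hG i), Finset.sum_add_distrib, ← Finset.sum_mul,
      Finset.sum_const, Finset.card_range, Nat.cast_smul_eq_nsmul]
  have hrel : (q : ℤ) • M = -(T * M * M) := by
    have h1 := geom_sum_mul_add M q
    rw [← hg, hpow, hS, add_mul, smul_mul_assoc, one_mul] at h1
    have h2 : T * M * M + (q : ℤ) • M = 0 := by
      have := congrArg (fun z => z - 1) h1
      simpa using this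
    exact eq_neg_of_add_eq_zero_right h2
  -- descent
  have hdesc : ∀ k : ℕ, D (k + 1) M := by
    intro k
    induction k with
    | zero => intro i j; simpa using h3 i j
    | succ k ih =>
      by_cases hq3 : q = 3
      · -- q = 3
        have hT3 : T = (3 : ℤ) • (1 : Matrix (Fin n) (Fin n) ℤ) + M := by
          rw [hT, hq3]
          simp only [G, Finset.sum_range_succ, Finset.sum_range_zero, pow_zero, pow_one, hg,
            zero_add]
          module
        have hDT : D 1 T := by
          intro i j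
          rw [hT3, Matrix.add_apply, Matrix.smul_apply, pow_one]
          refine dvd_add (Dvd.intro _ rfl) (h3 i j)
        have h4 := D_mul (D_mul hDT ih) ih
        intro i j
        have h5 := h4 i j
        have h6 : (T * M * M) i j = -((3 : ℤ) * M i j) := by
          have := congrFun (congrFun hrel i) j
          rw [Matrix.neg_apply, Matrix.smul_apply, hq3] at this
          rw [eq_neg_iff_add_eq_zero, add_comm, ← eq_neg_iff_add_eq_zero]
          simpa using this
        rw [h6, dvd_neg] at h5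
        have e : (3 : ℤ) ^ (1 + (k + 1) + (k + 1)) = 3 * 3 ^ (k + 1 + (k + 1)) := by ring
        rw [e] at h5
        have h7 := (mul_dvd_mul_iff_left (three_ne_zero (α := ℤ))).mp h5
        exact (pow_dvd_pow 3 (by omega)).trans h7
      · have h4 := D_mul (D_mul (D_zero T) ih) ih
        intro i j
        have h5 := h4 i j
        have h6 : (T * M * M) i j = -((q : ℤ) * M i j) := by
          have := congrFun (congrFun hrel i) j
          rw [Matrix.neg_apply, Matrix.smul_apply] at this
          rw [eq_neg_iff_add_eq_zero, add_comm, ← eq_neg_iff_add_eq_zero]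
          simpa using this
        rw [h6, dvd_neg] at h5
        have hcop : IsCoprime ((3 : ℤ) ^ (0 + (k + 1) + (k + 1))) (q : ℤ) := by
          apply IsCoprime.pow_left
          have : Nat.Coprime 3 q := (Nat.coprime_primes Nat.prime_three hq).mpr (Ne.symm hq3)
          exact_mod_cast Nat.isCoprime_iff_coprime.mpr this
        have h7 := hcop.dvd_of_dvd_mul_left h5
        exact (pow_dvd_pow 3 (by omega)).trans h7
  ext i j
  rw [Matrix.zero_apply]
  apply Int.eq_zero_of_abs_lt_dvd (hdesc (M i j).natAbs i j)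
  rw [Int.abs_eq_natAbs]
  have h9 : (M i j).natAbs + 1 < 3 ^ ((M i j).natAbs + 1) :=
    Nat.lt_pow_self (show 1 < 3 by norm_num)
  have h8 : ((M i j).natAbs : ℤ) < ((3 ^ ((M i j).natAbs + 1) : ℕ) : ℤ) := by
    exact_mod_cast (Nat.lt_succ_self _).trans h9
  simpa using h8

/-- For every n, the orders of the finite subgroups of GL_n(ℤ) are bounded: there is B such that every
finite subgroup of GL_n(ℤ) has at most B elements. -/
theorem result (n : ℕ) :
    ∃ B : ℕ, ∀ H : Subgroup (Matrix.GeneralLinearGroup (Fin n) ℤ), Finite H → Nat.card H ≤ B := by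
  classical
  let φ : Matrix.GeneralLinearGroup (Fin n) ℤ →* Matrix.GeneralLinearGroup (Fin n) (ZMod 3) :=
    Matrix.GeneralLinearGroup.map (Int.castRingHom (ZMod 3))
  haveI : Finite (Matrix.GeneralLinearGroup (Fin n) (ZMod 3)) := inferInstance
  refine ⟨Nat.card (Matrix.GeneralLinearGroup (Fin n) (ZMod 3)), fun H hH => ?_⟩
  let ψ : H →* Matrix.GeneralLinearGroup (Fin n) (ZMod 3) := φ.comp H.subtype
  apply Nat.card_le_card_of_injective ψ
  rw [injective_iff_map_eq_one]
  intro h hh
  by_contra hne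
  have hfin : IsOfFinOrder h := isOfFinOrder_of_finite h
  have hd0 : orderOf h ≠ 0 := hfin.orderOf_pos.ne'
  have hd1 : orderOf h ≠ 1 := fun e => hne (orderOf_eq_one_iff.mp e)
  obtain ⟨q, hq, hqd⟩ := Nat.exists_prime_and_dvd hd1
  set h' : H := h ^ (orderOf h / q) with hh'
  have ho : orderOf h' = q := orderOf_pow_orderOf_div hd0 hqd
  have hψ : ψ h' = 1 := by rw [hh', map_pow, hh, one_pow]
  have hpow : h' ^ q = 1 := by rw [← ho]; exact pow_orderOf_eq_one h'
  have hne' : h' ≠ 1 := by
    intro e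
    rw [e, orderOf_one] at ho
    exact hq.one_lt.ne ho
  set g : Matrix (Fin n) (Fin n) ℤ :=
    ((h' : Matrix.GeneralLinearGroup (Fin n) ℤ) : Matrix (Fin n) (Fin n) ℤ) with hg
  have hg3 : ∀ i j, (3 : ℤ) ∣ (g - 1) i j := by
    intro i j
    have h1 : (ψ h' : Matrix (Fin n) (Fin n) (ZMod 3)) i j = (1 : Matrix (Fin n) (Fin n) (ZMod 3)) i j := by
      rw [hψ]; rfl
    have h2 : (ψ h' : Matrix (Fin n) (Fin n) (ZMod 3)) i j = ((g i j : ℤ) : ZMod 3) :=
      Matrix.GeneralLinearGroup.map_apply _ i j _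
    rw [h2] at h1
    rw [Matrix.sub_apply]
    have h3 : (((g i j - (1 : Matrix (Fin n) (Fin n) ℤ) i j : ℤ)) : ZMod 3) = 0 := by
      push_cast
      rw [h1]
      by_cases hij : i = j <;> simp [Matrix.one_apply, hij]
    exact_mod_cast (ZMod.intCast_zmod_eq_zero_iff_dvd _ 3).mp h3
  have hgq : (g - 1 + 1) ^ q = 1 := by
    rw [sub_add_cancel]
    have h1 : ((h' ^ q : H) : Matrix.GeneralLinearGroup (Fin n) ℤ) = 1 := by rw [hpow]; rfl
    have h2 := congrArg (fun z : Matrix.GeneralLinearGroup (Fin n) ℤ =>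
      (z : Matrix (Fin n) (Fin n) ℤ)) h1
    simpa using h2
  have hk := key n q hq (g - 1) hg3 hgq
  apply hne'
  have hg1 : g = 1 := sub_eq_zero.mp hk
  exact Subtype.ext (Units.ext hg1)

end Groth.Agent.S19590
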