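import Groth.Statements.S19591
import Mathlib
-- import your own Groth.Agent.* helpers here

set_option autoImplicit false
universe u v
open BddFin

namespace Groth.Agent.S19591

/-- Let K be a perfect field of characteristic 2, V a finite-dimensional K-vector space with dim V > 2
and q a quadratic form on V whose polar bilinear form is non-degenerate. Then q represents zero
non-trivially. (Non-degeneracy of the polar form, which is alternating in characteristic 2, forces
dim V to be even, as the published lemma notes.) -/
theorem result
    (K : Type u) [Field K] [CharP K 2] [PerfectField K]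
    (V : Type v) [AddCommGroup V] [Module K V] [FiniteDimensional K V]
    (hV : 2 < Module.finrank K V) (q : QuadraticForm K V)
    (hq : (QuadraticMap.polarBilin q).Nondegenerate) :
    ∃ v : V, v ≠ 0 ∧ q v = 0 := by
  classical
  haveI : Nontrivial V := Module.nontrivial_of_finrank_pos (R := K) (by omega)
  obtain ⟨v, hv⟩ := exists_ne (0 : V)
  by_cases hqv : q v = 0
  · exact ⟨v, hv, hqv⟩
  let φ : V →ₗ[K] K := QuadraticMap.polarBilin q v
  have hφ : ∀ w, φ w = QuadraticMap.polar q v w := fun w => rfl
  have h2 : (2 : K) = 0 := CharP.cast_eq_zero K 2 |> fun h => by exact_mod_cast h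
  have hvker : v ∈ LinearMap.ker φ := by
    rw [LinearMap.mem_ker, hφ, QuadraticMap.polar_self, two_nsmul, ← two_mul, h2, zero_mul]
  have hle : Submodule.span K {v} ≤ LinearMap.ker φ := by
    rw [Submodule.span_le]
    intro x hx
    rw [Set.mem_singleton_iff.mp hx]
    exact hvker
  have hker : 2 ≤ Module.finrank K (LinearMap.ker φ) := by
    have h1 := LinearMap.finrank_range_add_finrank_ker φ
    have h3 : Module.finrank K (LinearMap.range φ) ≤ 1 := by
      have := Submodule.finrank_le (LinearMap.range φ)
      rwa [Module.finrank_self] at this
    omega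
  have hlt : Submodule.span K {v} < LinearMap.ker φ := by
    refine lt_of_le_of_ne hle ?_
    intro heq
    have h1 : Module.finrank K (Submodule.span K {v}) = 1 := finrank_span_singleton hv
    rw [heq] at h1
    omega
  obtain ⟨w, hwker, hwspan⟩ := SetLike.exists_of_lt hlt
  have hpol : QuadraticMap.polar q v w = 0 := by
    rw [← hφ]
    exact hwker
  -- square root
  haveI : PerfectRing K 2 := PerfectField.toPerfectRing 2
  obtain ⟨x, hx⟩ := (bijective_frobenius K 2).surjective (q w / q v)
  rw [frobenius_def] at hx
  refine ⟨x • v + w, ?_, ?_⟩
  · intro h0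
    apply hwspan
    have : w = (-x) • v := by
      rw [neg_smul]
      exact eq_neg_of_add_eq_zero_right h0
    rw [this]
    exact Submodule.smul_mem _ _ (Submodule.mem_span_singleton_self v)
  · rw [QuadraticMap.map_add (⇑q), QuadraticMap.map_smul, QuadraticMap.polar_smul_left, hpol, smul_zero,
      add_zero, smul_eq_mul, ← pow_two, hx, div_mul_cancel₀ _ hqv]
    rw [← two_mul, h2, zero_mul]

end Groth.Agent.S19591
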