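import Groth.Statements.S19593
import Groth.Agent.Helper4.SN393
import Groth.Agent.Helper4.SN370
import Groth.Agent.Helper4.CounitEpi
import Groth.Agent.Helper4.QuasiAffineGG
import Groth.Agent.Helper4.GGSec
import Groth.Agent.Helper4.NApx35
import Groth.Agent.Helper1.TR6

set_option autoImplicit false
universe u
open CategoryTheory AlgebraicGeometry
open PicF

namespace Groth.Agent.S19593

theorem isInvertible_of_isRelVeryAmple {X Y : Scheme.{u}} (q : X ⟶ Y) (L : X.Modules)
    (h : RelProj.IsRelVeryAmple q L) : PicF.IsInvertible L := by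
  obtain ⟨E₀, hE₀, 𝒮₀, j₀, hj₀, P₀, p₀, chart₀, hP₀, O1, lam, hO1, i, himm, hip, ⟨e⟩⟩ := h
  haveI : E₀.IsQuasicoherent := hE₀
  have h1 : PicF.IsInvertible O1 :=
    Groth.Agent.Helper1.TRR.isInvertible_of_isRelTwist (Groth.Agent.Helper1.SG.isGenDegOne hj₀) hO1
  exact Groth.Agent.Helper4.AmpleIso.isInvertible_of_iso e.symm
    (Groth.Agent.Helper4.PullSec.isInvertible_pullback i h1)

theorem result
    (k : Type u) [Field k] [Infinite k] (Y : Scheme.{u}) (f : Y ⟶ Spec (CommRingCat.of k)) [IsProper f]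
    (A : Y.Modules) (hA : RelProj.IsRelVeryAmple f A)
    (ι : Type) [Finite ι] (y : ι → ↥Y) :
    ∃ s : Coh.structureModule Y ⟶ A, ∀ i : ι, y i ∈ CohB1.genLocus A s := by
  classical
  have hinv : PicF.IsInvertible A := isInvertible_of_isRelVeryAmple f A hA
  obtain ⟨E₀, hE₀, s, hs⟩ := Groth.Agent.Helper4.SN370.exists_epi_of_isRelVeryAmple f A hA
  haveI : E₀.IsQuasicoherent := hE₀
  have hgg : Curv2.IsGloballyGenerated A :=
    Groth.Agent.Helper4.CounitEpi.isGloballyGenerated_of_epi s hs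
      (Groth.Agent.Helper4.CounitEpi.isGloballyGenerated_pullback f
        (Groth.Agent.Helper4.QuasiAffineGG.isGloballyGenerated_of_isOpenImmersion_Spec (𝟙 _) E₀))
  haveI : Fintype ι := Fintype.ofFinite ι
  obtain ⟨σ, hσ⟩ := Groth.Agent.Helper4.SN393.exists_section_of_finset
    (Groth.Agent.Helper4.NApx35.φ f) hinv
    (Groth.Agent.Helper4.GGSec.exists_mem_genLocus_of_isGloballyGenerated A hinv hgg)
    (Finset.univ.image y)
  exact ⟨σ, fun i => hσ (y i) (Finset.mem_image_of_mem y (Finset.mem_univ i))⟩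

end Groth.Agent.S19593
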