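import Groth.Statements.S19603
import Mathlib
import Groth.Agent.Helper9.HomogComod
-- import your own Groth.Agent.* helpers here

set_option autoImplicit false
universe u
open GIT

namespace Groth.Agent.S19603

/-- For the whole projective space U = P(V), let k be an algebraically closed field of arbitrary
characteristic and G = Spec A a linearly reductive affine algebraic group acting linearly on affine
ι-space, and let v be a vector. Then some invariant homogeneous polynomial of positive degree is
non-zero at v (the point of v is semistable) if and only if the origin is not in the closure of the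
orbit of v. -/
theorem result (k : Type u) [Field k] [IsAlgClosed k]
    (A : Type u) [CommRing A] [HopfAlgebra k A] [Algebra.FiniteType k A] (hG : HopfRep.IsLinearlyReductive k A)
    (ι : Type u) [Fintype ι] [HopfRep.Comod k A (MvPolynomial ι k)] [GLin.IsCoactAlg k A (MvPolynomial ι k)]
    (hlin : GLin.IsLinear k A ι) (v : ι → k) :
    GLin.IsSemistableVec k A v ↔
      ¬ GLin.InOrbitClosure k A (GLin.vecPt k ι v) (GLin.vecPt k ι (fun _ => (0 : k))) := by
  open MvPolynomial in
  constructor
  · intro hss hcl
    apply hss
    intro F hF d hd hFd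
    have hmem : F - algebraMap k (MvPolynomial ι k) (GLin.vecPt k ι v F) ∈
        RingHom.ker (GLin.orbitHom k A (GLin.vecPt k ι v)) := by
      rw [RingHom.mem_ker, map_sub, Groth.Agent.Helper9.orbitHom_invariant _ F hF,
        AlgHom.commutes, sub_self]
    have h2 := hcl hmem
    rw [RingHom.mem_ker, map_sub, AlgHom.commutes] at h2
    have h3 : GLin.vecPt k ι (fun _ => (0 : k)) F = 0 := by
      show MvPolynomial.aeval (fun _ => (0 : k)) F = 0
      rw [MvPolynomial.aeval_eq_eval, MvPolynomial.eval_zero', MvPolynomial.constantCoeff_eq]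
      apply MvPolynomial.IsHomogeneous.coeff_eq_zero hFd
      simp only [map_zero]
      omega
    rw [h3, zero_sub, neg_eq_zero] at h2
    have h4 : algebraMap k k (GLin.vecPt k ι v F) = GLin.vecPt k ι v F := rfl
    rw [h4] at h2
    show MvPolynomial.eval v F = 0
    rw [← MvPolynomial.aeval_eq_eval]
    exact h2
  · intro hncl
    have hssR : HopfRep.IsSemisimpleComod k A (MvPolynomial ι k) :=
      Groth.Agent.Helper9.semisimple_of_finite (fun V' _ _ _ hf => hG V' hf)
    obtain ⟨E, hE₁, hE₂, hE₃⟩ := Groth.Agent.Helper9.exists_reynolds hssR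
    -- a function in the orbit ideal not vanishing at the origin
    have : ∃ h ∈ RingHom.ker (GLin.orbitHom k A (GLin.vecPt k ι v)),
        GLin.vecPt k ι (fun _ => (0 : k)) h ≠ 0 := by
      by_contra hcon
      push Not at hcon
      exact hncl (fun h hh => (RingHom.mem_ker).mpr (hcon h hh))
    obtain ⟨h, hh, hh0⟩ := this
    set c := GLin.vecPt k ι (fun _ => (0 : k)) h with hc
    set a : MvPolynomial ι k := c⁻¹ • h with ha
    have haI : a ∈ RingHom.ker (GLin.orbitHom k A (GLin.vecPt k ι v)) := by
      rw [RingHom.mem_ker, ha, map_smul, (RingHom.mem_ker).mp hh, smul_zero]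
    have hb0 : (1 - a) ∈ RingHom.ker (GLin.vecPt k ι (fun _ => (0 : k))) := by
      rw [RingHom.mem_ker, map_sub, map_one, ha, map_smul, ← hc, smul_eq_mul,
        inv_mul_cancel₀ hh0, sub_self]
    have hinv : ∀ r, E r ∈ GLin.invariants k A (MvPolynomial ι k) := fun r => (hE₃ _).mp (hE₂ r)
    have hE1 : E 1 = 1 := (hE₃ 1).mpr (GLin.invariants k A (MvPolynomial ι k)).one_mem
    have hEa : E a ∈ RingHom.ker (GLin.orbitHom k A (GLin.vecPt k ι v)) :=
      Groth.Agent.Helper9.reynolds_mem hssR E hE₁ hE₂ hE₃ _
        (Groth.Agent.Helper9.isSubcomod_ker_orbitHom _) a haI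
    have hEb : E (1 - a) ∈ RingHom.ker (GLin.vecPt k ι (fun _ => (0 : k))) :=
      Groth.Agent.Helper9.reynolds_mem hssR E hE₁ hE₂ hE₃ _
        (Groth.Agent.Helper9.isSubcomod_ker_zero hlin) (1 - a) hb0
    set f := E (1 - a) with hf
    have hfv : GLin.vecPt k ι v f = 1 := by
      rw [hf, map_sub, hE1, map_sub, map_one,
        Groth.Agent.Helper9.apply_eq_zero_of_invariant_of_mem_ker _ _ (hinv a) hEa, sub_zero]
    -- decompose into homogeneous components
    have hsum := MvPolynomial.sum_homogeneousComponent f
    have hfv' : ∑ d ∈ Finset.range (f.totalDegree + 1),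
        GLin.vecPt k ι v (MvPolynomial.homogeneousComponent d f) = 1 := by
      rw [← map_sum, hsum, hfv]
    have : ∃ d ∈ Finset.range (f.totalDegree + 1),
        GLin.vecPt k ι v (MvPolynomial.homogeneousComponent d f) ≠ 0 := by
      by_contra hcon
      push Not at hcon
      rw [Finset.sum_eq_zero hcon] at hfv'
      exact zero_ne_one hfv'
    obtain ⟨d, _, hd⟩ := this
    have hd0 : d ≠ 0 := by
      intro h0
      subst h0
      apply hd
      rw [MvPolynomial.homogeneousComponent_zero]
      have : MvPolynomial.coeff 0 f = 0 := by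
        have := (RingHom.mem_ker).mp hEb
        have h5 : MvPolynomial.aeval (fun _ => (0 : k)) f = 0 := this
        rw [MvPolynomial.aeval_eq_eval, MvPolynomial.eval_zero', MvPolynomial.constantCoeff_eq]
          at h5
        exact h5
      rw [this, map_zero, map_zero]
    intro hnull
    apply hd
    have hFinv : MvPolynomial.homogeneousComponent d f ∈ GLin.invariants k A (MvPolynomial ι k) :=
      Groth.Agent.Helper9.map_mem_fixedPts
        (Groth.Agent.Helper9.isComodHom_homogeneousComponent hlin d) (hinv (1 - a))
    have := hnull _ hFinv d (Nat.pos_of_ne_zero hd0)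
      (MvPolynomial.homogeneousComponent_isHomogeneous d f)
    show MvPolynomial.aeval v (MvPolynomial.homogeneousComponent d f) = 0
    rw [MvPolynomial.aeval_eq_eval]
    exact this

end Groth.Agent.S19603
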