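import Groth.Statements.S19609
import Mathlib
-- import your own Groth.Agent.* helpers here

set_option autoImplicit false
universe u
open CartMod

namespace Groth.Agent.S19609

/-- Let p be a prime and u : A → B a ring homomorphism between commutative rings which are complete and
separated for the p-adic topology and have no p-torsion (flat over the p-adic base). If u induces a
bijection A/pA → B/pB (injectivity: u a ∈ pB forces a ∈ pA; surjectivity: every b ∈ B is congruent
to some u a modulo pB), then u is bijective. (The published statement is for a morphism of flat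
p-adic formal schemes over the Witt vectors of a perfect field: if its special fibre is an
isomorphism, so is the morphism; this row is its affine, ring-level case.) -/
theorem result (p : ℕ) [Fact p.Prime]
    {A B : Type u} [CommRing A] [CommRing B]
    [IsAdicComplete (Ideal.span {(p : A)}) A] [IsAdicComplete (Ideal.span {(p : B)}) B]
    (hA : IsSMulRegular A (p : A)) (hB : IsSMulRegular B (p : B)) (u : A →+* B)
    (hinj : ∀ a : A, u a ∈ Ideal.span {(p : B)} → a ∈ Ideal.span {(p : A)})
    (hsurj : ∀ b : B, ∃ a : A, b - u a ∈ Ideal.span {(p : B)}) :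
    Function.Bijective u := by
  classical
  have hAmem : ∀ (n : ℕ) (x : A),
      x ∈ ((Ideal.span {(p : A)}) ^ n • (⊤ : Submodule A A)) ↔ (p : A) ^ n ∣ x := by
    intro n x
    rw [smul_eq_mul, Ideal.mul_top, Ideal.span_singleton_pow, Ideal.mem_span_singleton]
  have hBmem : ∀ (n : ℕ) (x : B),
      x ∈ ((Ideal.span {(p : B)}) ^ n • (⊤ : Submodule B B)) ↔ (p : B) ^ n ∣ x := by
    intro n x
    rw [smul_eq_mul, Ideal.mul_top, Ideal.span_singleton_pow, Ideal.mem_span_singleton]
  have hAhaus : ∀ x : A, (∀ n : ℕ, (p : A) ^ n ∣ x) → x = 0 := by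
    intro x hx
    apply IsHausdorff.haus (inferInstance : IsHausdorff (Ideal.span {(p : A)}) A)
    intro n
    rw [SModEq.sub_mem, sub_zero, hAmem]
    exact hx n
  have hBhaus : ∀ x : B, (∀ n : ℕ, (p : B) ^ n ∣ x) → x = 0 := by
    intro x hx
    apply IsHausdorff.haus (inferInstance : IsHausdorff (Ideal.span {(p : B)}) B)
    intro n
    rw [SModEq.sub_mem, sub_zero, hBmem]
    exact hx n
  have hinj' : ∀ n : ℕ, ∀ a : A, u a = 0 → (p : A) ^ n ∣ a := by
    intro n
    induction n with
    | zero => intro a _; simp
    | succ n ih =>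
      intro a ha
      have h1 : a ∈ Ideal.span {(p : A)} := hinj a (by rw [ha]; exact zero_mem _)
      obtain ⟨a1, rfl⟩ := Ideal.mem_span_singleton.1 h1
      have h2 : u a1 = 0 := by
        have : (p : B) • u a1 = (p : B) • 0 := by
          rw [smul_zero, smul_eq_mul, ← map_natCast u, ← map_mul, ha]
        exact hB this
      obtain ⟨c, hc⟩ := ih a1 h2
      exact ⟨c, by rw [hc]; ring⟩
  constructor
  · rw [injective_iff_map_eq_zero]
    intro a ha
    exact hAhaus a fun n => hinj' n a ha
  · intro b
    choose g hg using hsurj
    have hg' : ∀ b : B, ∃ c : B, b - u (g b) = (p : B) * c := fun b =>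
      Ideal.mem_span_singleton.1 (hg b)
    choose h hh using hg'
    let bs : ℕ → B := fun n => Nat.rec b (fun _ x => h x) n
    have hbs : ∀ n, bs (n + 1) = h (bs n) := fun n => rfl
    let s : ℕ → A := fun n => ∑ i ∈ Finset.range n, (p : A) ^ i * g (bs i)
    have hs : ∀ n, b - u (s n) = (p : B) ^ n * bs n := by
      intro n
      induction n with
      | zero => simp [s, bs]
      | succ n ih =>
        have e1 : s (n + 1) = s n + (p : A) ^ n * g (bs n) := Finset.sum_range_succ _ _
        rw [e1, map_add, map_mul, map_pow, map_natCast, hbs]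
        have := hh (bs n)
        calc b - (u (s n) + (p : B) ^ n * u (g (bs n)))
            = (b - u (s n)) - (p : B) ^ n * u (g (bs n)) := by ring
          _ = (p : B) ^ n * (bs n - u (g (bs n))) := by rw [ih]; ring
          _ = (p : B) ^ (n + 1) * h (bs n) := by rw [this]; ring
    have hcauchy : ∀ {m n : ℕ}, m ≤ n →
        s m ≡ s n [SMOD ((Ideal.span {(p : A)}) ^ m • (⊤ : Submodule A A))] := by
      intro m n hmn
      rw [SModEq.sub_mem, hAmem]
      induction n, hmn using Nat.le_induction with
      | base => simp
      | succ n hmn ih =>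
        have e1 : s (n + 1) = s n + (p : A) ^ n * g (bs n) := Finset.sum_range_succ _ _
        have e2 : s m - s (n + 1) = (s m - s n) - (p : A) ^ n * g (bs n) := by rw [e1]; ring
        rw [e2]
        exact dvd_sub ih (Dvd.dvd.mul_right (pow_dvd_pow _ hmn) _)
    obtain ⟨L, hL⟩ := IsPrecomplete.prec
      (inferInstance : IsPrecomplete (Ideal.span {(p : A)}) A) (f := s) hcauchy
    refine ⟨L, ?_⟩
    have : b - u L = 0 := by
      apply hBhaus
      intro n
      have h1 : (p : A) ^ n ∣ s n - L := by
        have := hL n
        rwa [SModEq.sub_mem, hAmem] at this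
      obtain ⟨c, hc⟩ := h1
      have e : b - u L = (b - u (s n)) + u (s n - L) := by rw [map_sub]; ring
      rw [e, hs n, hc, map_mul, map_pow, map_natCast]
      exact ⟨bs n + u c, by ring⟩
    exact (sub_eq_zero.1 this).symm

end Groth.Agent.S19609
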