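import Groth.Statements.S19610
import Groth.Agent.Helper2.TorOne2
open TensorProduct Function LinearMap Groth.Agent.Helper2.TorReg Groth.Agent.Helper2.TorOne2
-- import your own Groth.Agent.* helpers here

set_option autoImplicit false
universe u
open scoped TensorProduct
open CartMod

namespace Groth.Agent.S19610

/-- Let p be a prime and B a commutative algebra over the commutative ring A, both complete and
separated for the p-adic topology and both without p-torsion (flat over the p-adic base). If B/pB is
flat over A/pA, then B/p^nB is flat over A/p^nA for every n ≥ 1 (the quotients are written as base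
changes (A/p^n) ⊗_A B). (The published statement is for a morphism of flat p-adic formal schemes
over the Witt vectors of a perfect field: if its special fibre is flat, so are the induced morphisms
of schemes modulo every power of p; this row is its affine, ring-level case.) -/
theorem result (p : ℕ) [Fact p.Prime]
    {A B : Type u} [CommRing A] [CommRing B] [Algebra A B]
    [IsAdicComplete (Ideal.span {(p : A)}) A] [IsAdicComplete (Ideal.span {(p : B)}) B]
    (hA : IsSMulRegular A (p : A)) (hB : IsSMulRegular B (p : B))
    (h : Module.Flat (A ⧸ Ideal.span {(p : A)}) ((A ⧸ Ideal.span {(p : A)}) ⊗[A] B))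
    (n : ℕ) (hn : 1 ≤ n) :
    Module.Flat (A ⧸ (Ideal.span {(p : A)} ^ n)) ((A ⧸ (Ideal.span {(p : A)} ^ n)) ⊗[A] B) := by
  have hreg : RingTheory.Sequence.IsWeaklyRegular B [(p : A)] := by
    rw [RingTheory.Sequence.isWeaklyRegular_singleton_iff]
    intro a b hab
    apply hB
    simpa [Algebra.smul_def] using hab
  have h1 := rTensor_injective_of_isWeaklyRegular (M := B) [(p : A)] hreg
  have h2 : Ideal.ofList [(p : A)] = Ideal.span {(p : A)} := by
    simp [Ideal.ofList]
  rw [h2, ← muI_injective_iff] at h1
  exact flat_quot_of_pow_le (Ideal.span {(p : A)}) h1 _ n le_rfl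

end Groth.Agent.S19610
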