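import Groth.Statements.S19611
import Mathlib
-- import your own Groth.Agent.* helpers here

set_option autoImplicit false
universe u
open CategoryTheory AlgebraicGeometry
open CartMod

namespace Groth.Agent.S19611

/-- For a prime p and a scheme Y of characteristic p, write Y♭ for the scheme-theoretic image of the
absolute Frobenius F_Y : Y → Y, i.e. the closed subscheme of Y defined by the sections of O_Y whose
p-th power vanishes, and Y → Y♭ for the canonical morphism through which F_Y factors. Then Y → Y♭ is
an epimorphism of schemes: two morphisms g₁, g₂ from Y♭ to a scheme Z with equal composites Y → Y♭ →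
Z are equal. (The published statement is for k-morphisms g₁, g₂ from Y♭ to a k-scheme Z over a
perfect field k of characteristic p, compared after Frobenius twist through Y → (Y♭)'; this row asks
right-cancellation against morphisms to every scheme Z, which is equivalent to it for k-morphisms.) -/
theorem result (p : ℕ) [Fact p.Prime] (Y : Scheme.{u}) [FrobSch.IsCharP Y p] :
    Epi (FrobSch.frob Y p).toImage := by
  have hqc : QuasiCompact (FrobSch.frob Y p) := ⟨fun U _ hU' => hU'⟩
  have hcomp := (FrobSch.frob Y p).toImage_imageι
  have hpt : ∀ x : Y, (FrobSch.frob Y p).imageι ((FrobSch.frob Y p).toImage x) = x := by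
    intro x
    have h : ((FrobSch.frob Y p).toImage ≫ (FrobSch.frob Y p).imageι) x = (FrobSch.frob Y p) x := by
      rw [hcomp]
    rw [Scheme.Hom.comp_apply] at h
    exact h
  have hsurj : Function.Surjective (FrobSch.frob Y p).toImage := by
    intro y
    refine ⟨(FrobSch.frob Y p).imageι y, ?_⟩
    apply (FrobSch.frob Y p).imageι.isEmbedding.injective
    exact hpt _
  have hind : Topology.IsInducing (FrobSch.frob Y p).toImage.base := by
    have h1 : Topology.IsInducing ((FrobSch.frob Y p).imageι.base ∘ (FrobSch.frob Y p).toImage.base) := by
      have : ((FrobSch.frob Y p).imageι.base ∘ (FrobSch.frob Y p).toImage.base) = id := by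
        funext x
        exact hpt x
      rw [this]
      exact Topology.IsInducing.id
    exact Topology.IsInducing.of_comp (FrobSch.frob Y p).toImage.continuous
      (FrobSch.frob Y p).imageι.continuous h1
  apply CategoryTheory.Functor.epi_of_epi_map (Scheme.forgetToLocallyRingedSpace)
  apply CategoryTheory.Functor.epi_of_epi_map (LocallyRingedSpace.forgetToSheafedSpace)
  apply SheafedSpace.epi_of_base_surjective_of_stalk_mono _ hsurj
  intro x
  have h1 : Mono ((TopCat.Presheaf.stalkFunctor _ ((FrobSch.frob Y p).toImage x)).map
      (FrobSch.frob Y p).toImage.c) :=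
    ConcreteCategory.mono_of_injective _
      ((FrobSch.frob Y p).stalkFunctor_toImage_injective _)
  have h2 : IsIso (Y.presheaf.stalkPushforward CommRingCat (FrobSch.frob Y p).toImage.base x) :=
    TopCat.Presheaf.stalkPushforward.stalkPushforward_iso_of_isInducing _ hind _ x
  exact @mono_comp _ _ _ _ _ _ h1 _ (@IsIso.mono_of_iso _ _ _ _ _ h2)

end Groth.Agent.S19611
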