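import Groth.Statements.S19612
import Groth.Agent.Helper2.TruncFlat
open TensorProduct Function LinearMap Groth.Agent.Helper2.TruncFlat
-- import your own Groth.Agent.* helpers here

set_option autoImplicit false
universe u
open scoped TensorProduct
open CartMod

namespace Groth.Agent.S19612

/-- Let k be a perfect field of characteristic p, W = W(k) the ring of Witt vectors of k, and A a
commutative W-algebra which is complete and separated for the p-adic topology (an adic W-algebra).
Then flatness of A over W is equivalent to flatness of A/p^nA = (W/p^nW) ⊗_W A over W/p^nW for every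
n ≥ 1. -/
theorem result (p : ℕ) [Fact p.Prime] (k : Type u) [Field k]
    [CharP k p] [PerfectRing k p] (A : Type u) [CommRing A] [Algebra (WittVector p k) A]
    [IsAdicComplete (Ideal.span {(p : WittVector p k)}) A] :
    Module.Flat (WittVector p k) A ↔
      ∀ n : ℕ, 1 ≤ n →
        Module.Flat (WittVector p k ⧸ (Ideal.span {(p : WittVector p k)} ^ n))
          ((WittVector p k ⧸ (Ideal.span {(p : WittVector p k)} ^ n)) ⊗[WittVector p k] A) := by
  constructor
  · intro h n _
    infer_instance
  · intro h
    have hp0 : (p : WittVector p k) ≠ 0 := WittVector.p_nonzero p k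
    have hpnzd : (p : WittVector p k) ∈ nonZeroDivisors (WittVector p k) :=
      mem_nonZeroDivisors_of_ne_zero hp0
    -- p-torsion free
    have htf : ∀ a : A, (p : WittVector p k) • a = 0 → a = 0 := by
      intro a ha
      apply IsHausdorff.haus' (I := Ideal.span {(p : WittVector p k)}) a
      intro n
      rw [SModEq.zero]
      have := h (n + 1) (Nat.succ_le_succ (Nat.zero_le n))
      exact mem_pow_smul_top_of_flat_trunc (p : WittVector p k) hpnzd n a ha
    rw [Module.Flat.flat_iff_torsion_eq_bot_of_isBezout, eq_bot_iff]
    intro a ha
    rw [Submodule.mem_torsion_iff] at ha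
    obtain ⟨⟨w, hw⟩, hwa⟩ := ha
    have hw0 : w ≠ 0 := nonZeroDivisors.ne_zero hw
    have hirr : Irreducible (p : WittVector p k) := WittVector.irreducible p
    obtain ⟨m, u, hu⟩ := IsDiscreteValuationRing.eq_unit_mul_pow_irreducible hw0 hirr
    have h1 : ((p : WittVector p k) ^ m) • a = 0 := by
      have : (u : WittVector p k) • (((p : WittVector p k) ^ m) • a) = 0 := by
        rw [← mul_smul, ← hu]; exact hwa
      have h2 := congrArg (fun z => ((u⁻¹ : (WittVector p k)ˣ) : WittVector p k) • z) this
      simpa [← mul_smul] using h2
    rw [Submodule.mem_bot]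
    clear hu hwa
    induction m with
    | zero => simpa using h1
    | succ m ih =>
      apply ih
      apply htf
      rw [← mul_smul, ← pow_succ']
      exact h1

end Groth.Agent.S19612
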