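import Groth.Statements.S19618
import Mathlib
-- import your own Groth.Agent.* helpers here

set_option autoImplicit false
universe u
open CategoryTheory CategoryTheory.Limits AlgebraicGeometry Opposite TopologicalSpace
open BlowUp

namespace Groth.Agent.S19618

theorem pos_to_one_le (a : WithBot ℕ∞) (h : 0 < a) : 1 ≤ a := by
  induction a with
  | bot => exact absurd h (by simp)
  | coe b =>
    have hb : (0 : ℕ∞) < b := by exact_mod_cast h
    exact_mod_cast (Order.one_le_iff_pos.mpr hb)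

theorem one_le_dim {X : Scheme.{u}} (𝓘 : X.IdealSheafData) (hY : BlowUp.IsEffCartierIdeal 𝓘)
    (y : X) (hy : y ∈ 𝓘.support) : ¬ ringKrullDim ↑(X.presheaf.stalk y) ≤ 0 := by
  intro hle
  obtain ⟨U, hyU, f, hf, hIU⟩ := hY y
  have h1 : y ∈ X.zeroLocus (U := U.1) (𝓘.ideal U) :=
    (Scheme.IdealSheafData.mem_support_iff_of_mem hyU).mp hy
  rw [Scheme.mem_zeroLocus_iff] at h1
  have h2 : y ∉ X.basicOpen f := h1 f (by rw [hIU]; exact Ideal.mem_span_singleton_self f)
  have h3 : ¬ IsUnit (X.presheaf.germ U.1 y hyU f) := fun hu =>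
    h2 ((Scheme.mem_basicOpen X f y hyU).mpr hu)
  haveI : Ring.KrullDimLE 0 ↑(X.presheaf.stalk y) := Ring.krullDimLE_iff.mpr (by simpa using hle)
  have h4 : IsNilpotent (X.presheaf.germ U.1 y hyU f) :=
    Ring.KrullDimLE.isNilpotent_iff_mem_maximalIdeal.mpr
      ((IsLocalRing.mem_maximalIdeal _).mpr h3)
  -- nonzerodivisor
  letI := X.presheaf.algebra_section_stalk ⟨y, hyU⟩
  haveI := U.2.isLocalization_stalk ⟨y, hyU⟩
  have h5 : (X.presheaf.germ U.1 y hyU f) ∈ nonZeroDivisors ↑(X.presheaf.stalk y) := by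
    have := IsLocalization.map_nonZeroDivisors_le (U.2.primeIdealOf ⟨y, hyU⟩).asIdeal.primeCompl
      (X.presheaf.stalk y)
    exact this (Submonoid.mem_map_of_mem _ hf)
  obtain ⟨n, hn⟩ := h4
  have h6 := pow_mem h5 n
  rw [hn] at h6
  exact zero_notMem_nonZeroDivisors h6

/-- Let X be a locally Noetherian scheme, Y an effective Cartier divisor on X (a quasi-coherent ideal
sheaf which, near every point, is generated on some affine open by one nonzerodivisor; Y is its
support) and Z a closed integral subscheme (a closed immersion i from an integral scheme with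
generic point ξ). If Y and Z intersect properly — every point ζ of Y ∩ Z which is maximal under
generization inside Y ∩ Z satisfies dim O_{X,ζ} = codim(Y,X) + codim(Z,X), where codim(Y,X) is the
infimum over y ∈ Y of dim O_{X,y} and codim(Z,X) = dim O_{X,i(ξ)} — then Z is not contained in Y. -/
theorem result {X Z : Scheme.{u}}
    [IsLocallyNoetherian X] (𝓘 : X.IdealSheafData) (hY : BlowUp.IsEffCartierIdeal 𝓘)
    (i : Z ⟶ X) [IsClosedImmersion i] [IsIntegral Z]
    (hprop : ∀ ζ : ↥X, ζ ∈ (𝓘.support : Set ↥X) ∩ Set.range i.base →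
        (∀ ζ' : ↥X, ζ' ∈ (𝓘.support : Set ↥X) ∩ Set.range i.base → ζ' ⤳ ζ → ζ' = ζ) →
        ringKrullDim ↑(X.presheaf.stalk ζ) =
          (⨅ y : (𝓘.support : Set ↥X), ringKrullDim ↑(X.presheaf.stalk y.1)) +
            ringKrullDim ↑(X.presheaf.stalk (i (genericPoint ↥Z)))) :
    ¬ Set.range i.base ⊆ (𝓘.support : Set ↥X) := by
  intro hsub
  set ζ₀ := i (genericPoint ↥Z) with hζ₀
  have hmem : ζ₀ ∈ (𝓘.support : Set ↥X) ∩ Set.range i.base :=
    ⟨hsub ⟨_, rfl⟩, ⟨_, rfl⟩⟩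
  have hmax : ∀ ζ' : ↥X, ζ' ∈ (𝓘.support : Set ↥X) ∩ Set.range i.base → ζ' ⤳ ζ₀ → ζ' = ζ₀ := by
    rintro ζ' ⟨-, z, rfl⟩ hspec
    have h1 : genericPoint ↥Z ⤳ z := genericPoint_specializes z
    have h2 : ζ₀ ⤳ i z := h1.map i.continuous
    exact (hspec.antisymm h2).eq
  have key := hprop ζ₀ hmem hmax
  have hc : (1 : WithBot ℕ∞) ≤ ⨅ y : (𝓘.support : Set ↥X), ringKrullDim ↑(X.presheaf.stalk y.1) := by
    refine le_iInf fun y => ?_
    have := one_le_dim 𝓘 hY y.1 y.2
    rw [not_le] at this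
    exact pos_to_one_le _ this
  have hfin : ringKrullDim ↑(X.presheaf.stalk ζ₀) ≠ ⊤ := ringKrullDim_ne_top
  have hbot : ringKrullDim ↑(X.presheaf.stalk ζ₀) ≠ ⊥ := ringKrullDim_ne_bot
  obtain ⟨n, hn⟩ : ∃ n : ℕ, ringKrullDim ↑(X.presheaf.stalk ζ₀) = n := by
    obtain ⟨a, ha⟩ := WithBot.ne_bot_iff_exists.mp hbot
    rw [← ha] at hfin
    have : a ≠ ⊤ := fun h => hfin (by rw [h]; rfl)
    obtain ⟨m, hm⟩ := ENat.ne_top_iff_exists.mp this
    exact ⟨m, by rw [← ha, ← hm]; rfl⟩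
  rw [hn] at key
  have h2 : (1 : WithBot ℕ∞) + (n : WithBot ℕ∞) ≤ n := by
    calc (1 : WithBot ℕ∞) + (n : WithBot ℕ∞) ≤ _ + n := add_le_add_left hc _
      _ = n := key.symm
  have h3 : ((1 + n : ℕ) : WithBot ℕ∞) ≤ (n : ℕ) := by
    simpa using h2
  have := Nat.cast_le.mp h3
  omega

end Groth.Agent.S19618
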