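import Groth.Statements.S1962
import Groth.Agent.Helper1.HensFE

set_option autoImplicit false
universe u
open EtAlg

namespace Groth.Agent.S1962

/-- A strict henselization S of a local ring R (characterized by its universal property, with R → S a
local homomorphism) is formally étale over R. -/
theorem result (R S : Type u) [CommRing R] [IsLocalRing R] [CommRing S]
    [IsLocalRing S] [Algebra R S] [IsLocalHom (algebraMap R S)] [Hensel.IsStrictHenselization R S] :
    Algebra.FormallyEtale R S := by
  exact Algebra.FormallyEtale.of_equiv
    (Groth.Agent.Helper1.Hens.equivOfIsStrictHenselization R S).symm

end Groth.Agent.S1962
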