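import Groth.Statements.S19620
import Groth.Agent.S6508
import Groth.Agent.Helper4.SuppLib
import Groth.Agent.Helper4.HasRD
import Groth.Agent.Helper4.SchAdj
import Groth.Agent.Helper9.Lpull1
import Mathlib

set_option autoImplicit false
universe u
open CategoryTheory CategoryTheory.Limits AlgebraicGeometry
attribute [local instance] HasDerivedCategory.standard
open DCoh

namespace Groth.Agent.S19620


/-- Let f : X → Y be a proper morphism of schemes, with Rf_* the total right derived functor of f_* on
the unbounded derived categories of modules (assumed to exist), let Z ⊆ X be a closed subset and E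
an object of D(O_X) whose cohomology sheaves are all supported in Z (every stalk at a point outside
Z is trivial). Then the cohomology sheaves of Rf_*E are supported in the closed subset f(Z) of Y.
(The published statement, made in a setting where all schemes are separated and of finite type over
a regular base, takes f proper and perfect and concludes that Rf_* carries perfect complexes acyclic
outside Z to perfect complexes acyclic outside f(Z); the perfectness of Rf_*E is a separate result,
and the support inclusion, which is what the published proof establishes, holds for every proper f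
and every E and is stated in that generality.) -/
theorem result {X Y : Scheme.{u}} (f : X ⟶ Y) [IsProper f]
    [DCoh.HasRpush f] (Z : Set ↥X) (hZ : IsClosed Z) (E : DCoh.D X)
    (hE : ∀ i : ℤ, CohB1.support (DCoh.HD E i) ⊆ Z) (i : ℤ) :
    CohB1.support (DCoh.HD ((DCoh.Rpush f).obj E) i) ⊆ f.base '' Z := by

  classical
  have hcl : IsClosed (f.base '' Z) := f.isClosedMap Z hZ
  let V : Y.Opens := ⟨(f.base '' Z)ᶜ, hcl.isOpen_compl⟩
  haveI : DCoh.HasRpush (f ∣_ V) := Groth.Agent.Helper4.HasRD.hasRpush _
  obtain ⟨e⟩ := Groth.Agent.S6508.result f V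
  -- E restricted to f⁻¹ V vanishes
  have h1 : IsZero ((DCoh.restrictD (f ⁻¹ᵁ V).ι).obj E) := by
    rw [Groth.Agent.Helper4.SuppLib.isZero_restrictD_iff]
    intro n x hx
    have hxZ : (f ⁻¹ᵁ V).ι x ∈ Z := hE n hx
    have hxV : (f ⁻¹ᵁ V).ι x ∈ f ⁻¹ᵁ V := by
      simpa using x.2
    exact hxV ⟨_, hxZ, rfl⟩
  -- a right adjoint maps zero objects to zero objects
  haveI := Groth.Agent.Helper9.Lpull1.hasLpull (f ∣_ V)
  have adj := Groth.Agent.Helper4.SchAdj.adj (f ∣_ V)
  have h2 : IsZero ((DCoh.Rpush (f ∣_ V)).obj ((DCoh.restrictD (f ⁻¹ᵁ V).ι).obj E)) := by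
    rw [IsZero.iff_id_eq_zero]
    apply (adj.homEquiv _ _).symm.injective
    exact h1.eq_of_tgt _ _
  have h3 : IsZero ((DCoh.restrictD V.ι).obj ((DCoh.Rpush f).obj E)) :=
    h2.of_iso (e.app E)
  intro y hy
  by_contra hyZ
  have := (Groth.Agent.Helper4.SuppLib.isZero_restrictD_iff V.ι _).1 h3 i ⟨y, hyZ⟩
  exact this hy

end Groth.Agent.S19620
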