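import Groth.Statements.S19626
import Groth.Agent.Helper4.EtFlasque
import Mathlib

set_option autoImplicit false
universe u
open CategoryTheory CategoryTheory.Limits AlgebraicGeometry Opposite
open EtCore

namespace Groth.Agent.S19626


/-- Let f : X → Y be a morphism of schemes and F an abelian sheaf on the small étale site of X which is
flasque in the sense of étale cohomology: H^q(W, F|_W) = 0 for every étale X-scheme W and every q >
0, where F|_W is the pullback of F along the structure morphism of W. Then the direct image f_*F is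
flasque on Y in the same sense: H^q(W', (f_*F)|_{W'}) = 0 for every étale Y-scheme W' and every q >
0. -/
theorem result {X Y : Scheme.{u}} (f : X ⟶ Y)
    (F : EtCoh.Ab X)
    (hF : ∀ (W : X.Etale) (q : ℕ), 0 < q → Subsingleton (EtCoh.H W.left ((EtCoh.pull W.hom).obj F) q))
    (W' : Y.Etale) (q : ℕ) (hq : 0 < q) :
    Subsingleton (EtCoh.H W'.left ((EtCoh.pull W'.hom).obj ((EtCoh.push f).obj F)) q) := by

  obtain ⟨n, rfl⟩ : ∃ n, q = n + 1 := ⟨q - 1, by omega⟩
  haveI : Etale (W'.hom : W'.left ⟶ Y) := W'.prop
  have h := @Groth.Agent.Helper4.EtFlasque.main X Y f W'.left W'.hom _ F hF n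
  have h2 : ∀ x : EtCoh.H W'.left ((EtCoh.pull W'.hom).obj ((EtCoh.push f).obj F)) (n + 1),
      x = 0 := fun x =>
    Groth.Agent.Helper4.AcycColim.ext_eq_zero_of_iso
      ((@Groth.Agent.Helper9.EtShriekOpen.pullIsoRestr W'.left Y W'.hom _ _).app
        ((EtCoh.push f).obj F)).symm h x
  exact ⟨fun a b => (h2 a).trans (h2 b).symm⟩

end Groth.Agent.S19626
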