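import Groth.Statements.S1963
import Mathlib
import Groth.Agent.Helper7.ValEtD

set_option autoImplicit false
universe u
open EtAlg

namespace Groth.Agent.S1963

/-- Let A be a valuation ring, B an etale A-algebra and m a prime of B lying over the maximal ideal of
A. Then the localization B_m is a valuation ring, the map A -> B_m is injective and local, and the
extension is weakly unramified: every nonzero element of B_m is a unit multiple of the image of an
element of A. -/
theorem result (A B : Type u) [CommRing A] [IsDomain A] [ValuationRing A]
    [CommRing B] [Algebra A B] [Algebra.Etale A B] (m : Ideal B) [m.IsPrime]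
    (hm : m.comap (algebraMap A B) = IsLocalRing.maximalIdeal A) :
    IsDomain (Localization.AtPrime m) ∧ (∀ _ : IsDomain (Localization.AtPrime m), ValuationRing (Localization.AtPrime m)) ∧
    Function.Injective (algebraMap A (Localization.AtPrime m)) ∧ IsLocalHom (algebraMap A (Localization.AtPrime m)) ∧
    ∀ b : Localization.AtPrime m, b ≠ 0 → ∃ (a : A) (u : (Localization.AtPrime m)ˣ),
      b = u * algebraMap A (Localization.AtPrime m) a := by
  haveI : Module.Flat A B := inferInstance
  haveI : Module.Flat A (Localization.AtPrime m) := Module.Flat.trans A B (Localization.AtPrime m)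
  haveI : Algebra.EssFiniteType A (Localization.AtPrime m) := inferInstance
  haveI : Algebra.FormallyUnramified A (Localization.AtPrime m) := inferInstance
  obtain ⟨hdom, hval⟩ :=
    Groth.Agent.Helper7.ValEt.isDomain_and_valuationRing_of_unramified A (Localization.AtPrime m)
  refine ⟨hdom, hval, ?_, ?_, ?_⟩
  · rw [injective_iff_map_eq_zero]
    intro a ha
    by_contra ha0
    have h1 : (1 : Localization.AtPrime m) ∈ Submodule.torsion A (Localization.AtPrime m) :=
      ⟨⟨a, mem_nonZeroDivisors_of_ne_zero ha0⟩, by
        change a • (1 : Localization.AtPrime m) = 0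
        rw [Algebra.smul_def, mul_one]; exact ha⟩
    rw [Module.Flat.torsion_eq_bot] at h1
    exact one_ne_zero ((Submodule.mem_bot A).mp h1)
  · constructor
    intro a ha
    by_contra hna
    have h1 : a ∈ IsLocalRing.maximalIdeal A := (IsLocalRing.mem_maximalIdeal a).mpr hna
    rw [← hm, Ideal.mem_comap] at h1
    have h2 : algebraMap B (Localization.AtPrime m) (algebraMap A B a) ∈
        IsLocalRing.maximalIdeal (Localization.AtPrime m) := by
      rw [← Localization.AtPrime.map_eq_maximalIdeal]
      exact Ideal.mem_map_of_mem _ h1
    rw [← IsScalarTower.algebraMap_apply] at h2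
    exact (IsLocalRing.mem_maximalIdeal _).mp h2 ha
  · intro b hb
    exact Groth.Agent.Helper7.ValEt.exists_unit_mul_of_unramified A (Localization.AtPrime m) b hb

end Groth.Agent.S1963
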