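import Groth.Statements.S19630
import Mathlib
import Groth.Agent.Helper9.DeRhamGen
-- import your own Groth.Agent.* helpers here

set_option autoImplicit false
universe u
open DeRham

namespace Groth.Agent.S19630

open exteriorPower in
/-- In the affine case, at ring level, let k ⊆ K be a finite extension of fields of characteristic zero
and B a smooth K-algebra, so that Y = Spec B is a smooth affine variety over K which may also be
regarded over k. Let ψ be the map of de Rham complexes from Ω•_{B/k} to Ω•_{B/K} induced by the
identity of B. Then ψ is bijective in every degree: the de Rham complex of Y over k and over K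
coincide, and hence the natural map H^i_dR(Y/k) → H^i_dR(Y/K) is an isomorphism. (The source states
the isomorphism on de Rham cohomology for any smooth variety Y over K, through the equality of the
two de Rham complexes; this row is that equality for affine Y.) -/
theorem result
    (k K : Type u) [Field k] [Field K] [CharZero k] [Algebra k K] [Module.Finite k K]
    (B : Type u) [CommRing B] [Algebra K B] [Algebra k B] [IsScalarTower k K B] [Algebra.Smooth K B]
    (ψ : ∀ p : ℕ, ↥(⋀[B]^p (Ω[B⁄k])) →+ ↥(⋀[B]^p (Ω[B⁄K])))
    (hψ : DeRham.IsCxMap (KaehlerDifferential.D k B) (KaehlerDifferential.D K B) (RingHom.id B) ψ)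
    (p : ℕ) :
    Function.Bijective (ψ p) := by
  classical
  -- Ω[K/k] = 0
  haveI : Algebra.IsAlgebraic k K := Algebra.IsAlgebraic.of_finite k K
  haveI : Algebra.IsSeparable k K := inferInstance
  haveI : Algebra.FormallyUnramified k K := Algebra.FormallyUnramified.of_isSeparable k K
  haveI : Subsingleton (Ω[K⁄k]) := inferInstance
  -- the comparison map
  let π : Ω[B⁄k] →ₗ[B] Ω[B⁄K] := KaehlerDifferential.map k K B B
  have hsurj : Function.Surjective π := KaehlerDifferential.map_surjective k K B
  have hinj : Function.Injective π := by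
    rw [← LinearMap.ker_eq_bot, eq_bot_iff]
    intro x hx
    have hex := KaehlerDifferential.exact_mapBaseChange_map k K B
    obtain ⟨y, rfl⟩ := (hex x).1 hx
    have : y = 0 := Subsingleton.elim _ _
    rw [this, map_zero]
    exact Submodule.zero_mem _
  let e : Ω[B⁄k] ≃ₗ[B] Ω[B⁄K] := LinearEquiv.ofBijective π ⟨hinj, hsurj⟩
  have hψ' : ψ p = (exteriorPower.map p π).toAddMonoidHom := by
    refine Groth.Agent.Helper9.DeRhamGen.addHom_ext_gen (KaehlerDifferential.D k B)
      (KaehlerDifferential.span_range_derivation k B) p _ _ fun b₀ b => ?_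
    rw [hψ p b₀ b]
    simp only [DeRham.gen, RingHom.id_apply, LinearMap.toAddMonoidHom_coe, map_smul,
      exteriorPower.map_apply_ιMulti]
    congr 2
    funext i
    simp [π]
  rw [hψ']
  have h1 : (exteriorPower.map p (e.symm : Ω[B⁄K] →ₗ[B] Ω[B⁄k])) ∘ₗ (exteriorPower.map p π) = LinearMap.id := by
    rw [← exteriorPower.map_comp]
    have : (e.symm : Ω[B⁄K] →ₗ[B] Ω[B⁄k]) ∘ₗ π = LinearMap.id := by
      refine LinearMap.ext fun x => ?_
      change e.symm (e x) = x
      exact e.symm_apply_apply x
    rw [this, exteriorPower.map_id]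
  have h2 : (exteriorPower.map p π) ∘ₗ (exteriorPower.map p (e.symm : Ω[B⁄K] →ₗ[B] Ω[B⁄k])) = LinearMap.id := by
    rw [← exteriorPower.map_comp]
    have : π ∘ₗ (e.symm : Ω[B⁄K] →ₗ[B] Ω[B⁄k]) = LinearMap.id := by
      refine LinearMap.ext fun x => ?_
      change e (e.symm x) = x
      exact e.apply_symm_apply x
    rw [this, exteriorPower.map_id]
  refine ⟨?_, ?_⟩
  · intro x y hxy
    have := congrArg (exteriorPower.map p (e.symm : Ω[B⁄K] →ₗ[B] Ω[B⁄k])) hxy
    have hx := LinearMap.congr_fun h1 x
    have hy := LinearMap.congr_fun h1 y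
    simp only [LinearMap.comp_apply, LinearMap.id_apply] at hx hy
    simpa [hx, hy] using this
  · intro y
    refine ⟨exteriorPower.map p (e.symm : Ω[B⁄K] →ₗ[B] Ω[B⁄k]) y, ?_⟩
    have hy := LinearMap.congr_fun h2 y
    simpa using hy

end Groth.Agent.S19630
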