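import Groth.Statements.S19632
import Mathlib
-- import your own Groth.Agent.* helpers here

set_option autoImplicit false
universe u
open DeRham

namespace Groth.Agent.S19632

open LaurentPolynomial

variable {k : Type u} [Field k]

/-- coefficientwise scaling by the index -/
noncomputable def eulerFin : (ℤ →₀ k) →ₗ[k] (ℤ →₀ k) where
  toFun g := Finsupp.onFinset g.support (fun n => (n : k) * g n) (by
    intro n hn
    rw [Finsupp.mem_support_iff]
    exact right_ne_zero_of_mul hn)
  map_add' g h := by
    ext n; simp [mul_add]
  map_smul' c g := by
    ext n; simp [mul_left_comm]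

theorem eulerFin_apply (g : ℤ →₀ k) (n : ℤ) : eulerFin g n = (n : k) * g n := rfl

noncomputable def eulerLin : LaurentPolynomial k →ₗ[k] LaurentPolynomial k :=
  (AddMonoidAlgebra.coeffLinearEquiv k).symm.toLinearMap ∘ₗ eulerFin ∘ₗ
    (AddMonoidAlgebra.coeffLinearEquiv k).toLinearMap

theorem eulerLin_coeff (f : LaurentPolynomial k) (n : ℤ) :
    (eulerLin f).coeff n = (n : k) * f.coeff n := rfl

theorem eulerLin_CT (a : k) (n : ℤ) : eulerLin (C a * T n) = (n : k) • (C a * T n) := by
  ext m
  rw [eulerLin_coeff, ← single_eq_C_mul_T]
  simp only [AddMonoidAlgebra.coeff_smul, Finsupp.smul_apply, AddMonoidAlgebra.coeff_single, smul_eq_mul]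
  by_cases h : n = m
  · subst h; simp
  · simp [Finsupp.single_eq_of_ne' h]

theorem eulerLin_leibniz (a b : LaurentPolynomial k) :
    eulerLin (a * b) = a * eulerLin b + b * eulerLin a := by
  induction a using LaurentPolynomial.induction_on' with
  | add p q hp hq => rw [add_mul, map_add, hp, hq, map_add]; ring
  | C_mul_T m r =>
    induction b using LaurentPolynomial.induction_on' with
    | add p q hp hq => rw [mul_add, map_add, hp, hq, map_add]; ring
    | C_mul_T n s =>
      have e : C r * T m * (C s * T n) = C (r * s) * T (m + n) := by
        rw [T_add, map_mul]; ring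
      rw [e, eulerLin_CT, eulerLin_CT, eulerLin_CT, ← e]
      simp only [Algebra.smul_def]
      push_cast
      ring

noncomputable def eulerDer : Derivation k (LaurentPolynomial k) (LaurentPolynomial k) where
  toLinearMap := eulerLin
  map_one_eq_zero' := by
    have : (1 : LaurentPolynomial k) = C 1 * T 0 := by simp
    show eulerLin 1 = 0
    rw [this, eulerLin_CT]; simp
  leibniz' a b := by
    show eulerLin (a * b) = a • eulerLin b + b • eulerLin a
    rw [eulerLin_leibniz]; rfl

theorem main [CharZero k] (f : LaurentPolynomial k) :
    KaehlerDifferential.D k (LaurentPolynomial k) f = 0 ↔ f ∈ Set.range (algebraMap k (LaurentPolynomial k)) := by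
  constructor
  · intro h
    have h1 : eulerDer f = 0 := by
      rw [← Derivation.liftKaehlerDifferential_comp_D eulerDer f, h, map_zero]
    have h2 : ∀ n : ℤ, n ≠ 0 → f.coeff n = 0 := by
      intro n hn
      have : (eulerLin f).coeff n = 0 := by
        have : eulerLin f = 0 := h1
        rw [this]; rfl
      rw [eulerLin_coeff] at this
      rcases mul_eq_zero.1 this with h | h
      · exact absurd (by exact_mod_cast h) hn
      · exact h
    refine ⟨f.coeff 0, ?_⟩
    ext n
    rw [LaurentPolynomial.algebraMap_apply, Algebra.algebraMap_self, RingHom.id_apply]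
    have : (C (f.coeff 0) : LaurentPolynomial k) = AddMonoidAlgebra.single 0 (f.coeff 0) := by
      rw [single_eq_C_mul_T]; simp
    rw [this, AddMonoidAlgebra.coeff_single]
    by_cases hn : n = 0
    · subst hn; simp
    · rw [Finsupp.single_eq_of_ne' (Ne.symm hn), h2 n hn]
  · rintro ⟨c, rfl⟩
    exact Derivation.map_algebraMap _ c


/-- Let k be a field of characteristic zero and G_m = Spec k[t, t⁻¹] the multiplicative group. The
kernel of the differential d : k[t, t⁻¹] → Ω¹ of the de Rham complex of G_m consists of the
constants: for a Laurent polynomial f, df = 0 if and only if f lies in the image of k. Equivalently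
H^0_dR(G_m/k) = k. (Characteristic zero is used: in characteristic p the element t^p is closed.) -/
theorem result (k : Type u) [Field k] [CharZero k]
    (f : LaurentPolynomial k) :
    KaehlerDifferential.D k (LaurentPolynomial k) f = 0 ↔ f ∈ Set.range (algebraMap k (LaurentPolynomial k)) := by
  exact main f

end Groth.Agent.S19632
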