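import Groth.Statements.S19633
import Mathlib
import Groth.Agent.Helper9.DeRhamGen
import Groth.Agent.Helper9.LaurentDeRham
-- import your own Groth.Agent.* helpers here

set_option autoImplicit false
universe u
open DeRham

namespace Groth.Agent.S19633

open exteriorPower in
/-- Let k be a field of characteristic zero, G_m = Spec k[t, t⁻¹], and d the de Rham differential of
k[t, t⁻¹] over k. Then: every 1-form is closed; the exact 1-forms and the k-line spanned by t⁻¹ dt
are complementary subspaces of the 1-forms, and t⁻¹ dt is not exact — so H^1_dR(G_m/k) is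
one-dimensional, generated by the class of dt/t (the isomorphism with k being the residue); and for
every i ≥ 2 the closed i-forms are exact, so H^i_dR(G_m/k) = 0 for i > 1. (Characteristic zero is
used in the computation of the exact forms.) -/
theorem result (k : Type u) [Field k] [CharZero k]
    (d : ∀ p : ℕ, ↥(⋀[LaurentPolynomial k]^p (Ω[LaurentPolynomial k⁄k])) →ₗ[k] ↥(⋀[LaurentPolynomial k]^(p + 1) (Ω[LaurentPolynomial k⁄k])))
    (hd : DeRham.IsDiff (KaehlerDifferential.D k (LaurentPolynomial k)) d) :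
    DeRham.cocycles d 1 = ⊤ ∧
    IsCompl (DeRham.coboundaries d 1)
      (Submodule.span k {DeRham.gen (KaehlerDifferential.D k (LaurentPolynomial k)) 1
        (LaurentPolynomial.T (-1)) (fun _ => LaurentPolynomial.T 1)}) ∧
    DeRham.gen (KaehlerDifferential.D k (LaurentPolynomial k)) 1
        (LaurentPolynomial.T (-1)) (fun _ => LaurentPolynomial.T 1) ∉ DeRham.coboundaries d 1 ∧
    ∀ i : ℕ, DeRham.cocycles d (i + 2) ≤ DeRham.coboundaries d (i + 2) := by
  classical
  have hsub : ∀ p : ℕ, 2 ≤ p →
      Subsingleton ↥(⋀[LaurentPolynomial k]^p (Ω[LaurentPolynomial k⁄k])) :=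
    fun p hp => Groth.Agent.Helper9.LaurentDeRham.extPow_subsingleton k p hp
  -- residue functional
  let resL : ↥(⋀[LaurentPolynomial k]^1 (Ω[LaurentPolynomial k⁄k])) →ₗ[k] k :=
    (Groth.Agent.Helper9.LaurentDeRham.coeffAt k (-1)) ∘ₗ
      ((Groth.Agent.Helper9.LaurentDeRham.liftΩ k ∘ₗ
        (exteriorPower.oneEquiv (LaurentPolynomial k) (Ω[LaurentPolynomial k⁄k])).toLinearMap).restrictScalars k)
  have hresL : ∀ ω, resL ω = Groth.Agent.Helper9.LaurentDeRham.coeffAt k (-1)
      (Groth.Agent.Helper9.LaurentDeRham.liftΩ k (exteriorPower.oneEquiv (LaurentPolynomial k) (Ω[LaurentPolynomial k⁄k]) ω)) := fun ω => rfl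
  have hd0gen : ∀ (b₀ : LaurentPolynomial k) (b : Fin 0 → LaurentPolynomial k),
      exteriorPower.oneEquiv (LaurentPolynomial k) (Ω[LaurentPolynomial k⁄k]) (d 0 (DeRham.gen (KaehlerDifferential.D k (LaurentPolynomial k)) 0 b₀ b)) =
        KaehlerDifferential.D k (LaurentPolynomial k) b₀ := by
    intro b₀ b
    rw [hd.1 0 b₀ b, exteriorPower.oneEquiv_ιMulti]
    rfl
  have hres0 : ∀ x, resL (d 0 x) = 0 := by
    have h := Groth.Agent.Helper9.DeRhamGen.addHom_ext_gen (KaehlerDifferential.D k (LaurentPolynomial k))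
      (KaehlerDifferential.span_range_derivation k (LaurentPolynomial k)) 0
      ((resL ∘ₗ d 0).toAddMonoidHom) 0 (fun b₀ b => by
        simp only [LinearMap.toAddMonoidHom_coe, LinearMap.coe_comp, Function.comp_apply,
          AddMonoidHom.zero_apply]
        rw [hresL, hd0gen, Groth.Agent.Helper9.LaurentDeRham.liftΩ_D,
          Groth.Agent.Helper9.LaurentDeRham.coeffAt_dT])
    intro x
    exact DFunLike.congr_fun h x
  obtain ⟨v, hv⟩ : ∃ v, DeRham.gen (KaehlerDifferential.D k (LaurentPolynomial k)) 1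
      (LaurentPolynomial.T (-1)) (fun _ => LaurentPolynomial.T 1) = v := ⟨_, rfl⟩
  rw [hv]
  have hresv : resL v = 1 := by
    rw [hresL, ← hv, DeRham.gen, map_smul, map_smul, exteriorPower.oneEquiv_ιMulti,
      Groth.Agent.Helper9.LaurentDeRham.liftΩ_D, Groth.Agent.Helper9.LaurentDeRham.dT_T_one, smul_eq_mul,
      mul_one, LaurentPolynomial.T, Groth.Agent.Helper9.LaurentDeRham.coeffAt_single, if_pos rfl]
  have hcob : DeRham.coboundaries d 1 = LinearMap.range (d 0) := rfl
  have hker : ∀ ω, resL ω = 0 → ω ∈ LinearMap.range (d 0) := by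
    intro ω hω
    rw [hresL] at hω
    have h1 := Groth.Agent.Helper9.LaurentDeRham.eq_liftΩ_smul k (exteriorPower.oneEquiv (LaurentPolynomial k) (Ω[LaurentPolynomial k⁄k]) ω)
    have h2 := Groth.Agent.Helper9.LaurentDeRham.dT_antiLin k _ hω
    have h3 := Groth.Agent.Helper9.LaurentDeRham.Pd_all k
      (Groth.Agent.Helper9.LaurentDeRham.antiLin k
        (Groth.Agent.Helper9.LaurentDeRham.liftΩ k (exteriorPower.oneEquiv (LaurentPolynomial k) (Ω[LaurentPolynomial k⁄k]) ω)))
    unfold Groth.Agent.Helper9.LaurentDeRham.Pd at h3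
    rw [h2, ← h1] at h3
    refine ⟨DeRham.gen (KaehlerDifferential.D k (LaurentPolynomial k)) 0
      (Groth.Agent.Helper9.LaurentDeRham.antiLin k
        (Groth.Agent.Helper9.LaurentDeRham.liftΩ k (exteriorPower.oneEquiv (LaurentPolynomial k) (Ω[LaurentPolynomial k⁄k]) ω))) Fin.elim0, ?_⟩
    apply (exteriorPower.oneEquiv (LaurentPolynomial k) (Ω[LaurentPolynomial k⁄k])).injective
    rw [hd0gen, h3]
  refine ⟨?_, ?_, ?_, ?_⟩
  · rw [eq_top_iff]
    intro x _
    change d 1 x = 0
    haveI := hsub 2 le_rfl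
    exact Subsingleton.elim _ _
  · rw [hcob]
    constructor
    · rw [Submodule.disjoint_def]
      intro x hx hx'
      obtain ⟨y, rfl⟩ := hx
      obtain ⟨c, hc⟩ := Submodule.mem_span_singleton.1 hx'
      have := hres0 y
      rw [← hc, map_smul, hresv, smul_eq_mul, mul_one] at this
      rw [← hc, this, zero_smul]
    · rw [codisjoint_iff, eq_top_iff]
      intro ω _
      rw [Submodule.mem_sup]
      refine ⟨ω - resL ω • v, hker _ ?_, resL ω • v, Submodule.smul_mem _ _ (Submodule.mem_span_singleton_self v), by abel⟩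
      rw [map_sub, map_smul, hresv, smul_eq_mul, mul_one, sub_self]
  · rw [hcob]
    rintro ⟨y, hy⟩
    have := hres0 y
    rw [hy, hresv] at this
    exact one_ne_zero this
  · intro i x _
    haveI := hsub (i + 2) (by omega)
    rw [Subsingleton.elim x 0]
    exact Submodule.zero_mem _

end Groth.Agent.S19633
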