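import Groth.Statements.S19649
import Mathlib
import Groth.Agent.Helper9.MvGraded
-- import your own Groth.Agent.* helpers here

set_option autoImplicit false
universe u v
open Instab

namespace Groth.Agent.S19649

open MvPolynomial DirectSum in
/-- The case of a point, in graded-module form over an affine base. Let R be a commutative ring, n a
natural number, A = R[x_1, …, x_n] the polynomial ring graded by ℤ^n with x_i of degree the i-th
basis vector (the weight grading of the standard action of the n-dimensional split torus on affine
n-space), and P a finitely generated projective A-module carrying a compatible ℤ^n-grading (an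
equivariant vector bundle on affine n-space over Spec R). Then P is graded-free Zariski-locally on
Spec R: for every prime p of R there are r ∉ p and finitely many homogeneous elements f_1, …, f_m of
P such that, after inverting r, the f_i form an A-basis of P — every element of P multiplied by a
power of r is an A-linear combination of the f_i, and the coefficients of every A-linear relation
among the f_i are killed by a power of r. (This is the case of a point of the source's description
of filtered points of quotient stacks by the general linear group, whose argument the source gives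
in full: an equivariant vector bundle on affine n-space over a base is, locally on the base, the
standard one attached to a cocharacter; the general case, an identification of mapping stacks, is
not stated here.) -/
theorem result
    {R : Type u} [CommRing R] (n : ℕ)
    {P : Type v} [AddCommGroup P] [Module (MvPolynomial (Fin n) R) P] [Module R P]
    [IsScalarTower R (MvPolynomial (Fin n) R) P]
    (ℳ : (Fin n → ℤ) → Submodule R P) [DirectSum.Decomposition ℳ]
    [SetLike.GradedSMul (MvPolynomial.weightedHomogeneousSubmodule R (fun i : Fin n => (Pi.single i 1 : Fin n → ℤ))) ℳ]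
    [Module.Finite (MvPolynomial (Fin n) R) P] [Module.Projective (MvPolynomial (Fin n) R) P]
    (p : PrimeSpectrum R) :
    ∃ r : R, r ∉ p.asIdeal ∧ ∃ (m : ℕ) (d : Fin m → (Fin n → ℤ)) (f : Fin m → P), (∀ i, f i ∈ ℳ (d i)) ∧
      (∀ q : P, ∃ (N : ℕ) (c : Fin m → MvPolynomial (Fin n) R), (MvPolynomial.C r : MvPolynomial (Fin n) R) ^ N • q = ∑ i, c i • f i) ∧
      (∀ c : Fin m → MvPolynomial (Fin n) R, ∑ i, c i • f i = 0 →
        ∃ N : ℕ, ∀ i, (MvPolynomial.C r : MvPolynomial (Fin n) R) ^ N * c i = 0) := by
  classical
  letI : GradedAlgebra (MvPolynomial.weightedHomogeneousSubmodule R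
    (fun i : Fin n => (Pi.single i 1 : Fin n → ℤ))) :=
    MvPolynomial.weightedGradedAlgebra R _
  let 𝔑 : Ideal (MvPolynomial (Fin n) R) := Ideal.comap (MvPolynomial.constantCoeff) p.asIdeal
  haveI : 𝔑.IsPrime := Ideal.comap_isPrime _ _
  obtain ⟨m, d, f, hf, s, ⟨g, hsg⟩, hs𝔑, hgen, hrel⟩ :=
    Groth.Agent.Helper9.MvGraded.exists_homogeneous_local_basis
      (MvPolynomial.weightedHomogeneousSubmodule R
        (fun i : Fin n => (Pi.single i 1 : Fin n → ℤ))) ℳ (P := P) 𝔑
  have hs0 : MvPolynomial.constantCoeff s ∉ p.asIdeal := hs𝔑
  have hne : MvPolynomial.constantCoeff s ≠ 0 := fun h => hs0 (h ▸ zero_mem _)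
  have hsC : s = MvPolynomial.C (MvPolynomial.constantCoeff s) :=
    Groth.Agent.Helper9.MvGraded.eq_C_of_isWeightedHomogeneous n
      ((MvPolynomial.mem_weightedHomogeneousSubmodule R _ _ _).mp hsg) hne
  refine ⟨MvPolynomial.constantCoeff s, hs0, m, d, f, hf, fun q => ?_, fun c hc => ?_⟩
  · have := hgen q
    rw [Submodule.mem_span_range_iff_exists_fun] at this
    obtain ⟨c, hc⟩ := this
    exact ⟨1, c, by rw [pow_one, ← hsC, hc]⟩
  · exact ⟨1, fun i => by rw [pow_one, ← hsC]; exact hrel c hc i⟩

end Groth.Agent.S19649
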