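import Groth.Statements.S19651
import Mathlib
-- import your own Groth.Agent.* helpers here

set_option autoImplicit false
universe u v
open AbVar

namespace Groth.Agent.S19651

open Polynomial in
/-- Stated for an arbitrary invariant bilinear form, as the argument there allows. Let k be a field, V a
k-vector space with a bilinear form B and M a linear automorphism of V with B(Mx, My) = B(x, y) for
all x, y. If Q₁ and Q₂ are polynomials such that the reciprocal polynomial of Q₁ (its coefficient
list reversed) is coprime to Q₂, then every vector killed by a power of Q₁(M) is B-orthogonal to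
every vector killed by a power of Q₂(M). With Q₁ = Q₂ = Q this says that the generalized kernel of
Q(M) is totally isotropic whenever Q is coprime to its reciprocal polynomial, which for an
irreducible Q means that Q is not self-reciprocal. (The published statement takes M symplectic and
Q₁, Q₂ irreducible factors of the characteristic polynomial, with Q not self-reciprocal in the first
clause; its second clause asks Q₁ and Q₂ to be distinct and not reciprocal, which holds as proved
when this is read as saying that Q₂ is not the reciprocal of Q₁, but fails if it only means that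
neither is self-reciprocal, as the diagonal matrix with entries 2 and 1/2 preserving the standard
alternating form on k² shows; the coprimality of the reciprocal of Q₁ with Q₂, which is what the
published proof uses, is imposed here and covers both clauses.) -/
theorem result
    {k : Type u} [Field k] {V : Type v} [AddCommGroup V] [Module k V]
    (B : LinearMap.BilinForm k V) (M : V ≃ₗ[k] V)
    (hM : ∀ x y : V, B (M x) (M y) = B x y)
    (Q₁ Q₂ : k[X]) (h : IsCoprime Q₁.reverse Q₂)
    (x y : V)
    (hx : ∃ n : ℕ, (Polynomial.aeval (M : V →ₗ[k] V) Q₁ ^ n) x = 0)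
    (hy : ∃ n : ℕ, (Polynomial.aeval (M : V →ₗ[k] V) Q₂ ^ n) y = 0) :
    B x y = 0 := by
  classical
  set Mℓ : V →ₗ[k] V := (M : V →ₗ[k] V) with hMℓ
  set d := Q₁.natDegree with hd
  have hM' : ∀ a c : V, B (Mℓ a) (Mℓ c) = B a c := fun a c => hM a c
  have hpow : ∀ (i : ℕ) (a c : V), B ((Mℓ ^ i) a) ((Mℓ ^ i) c) = B a c := by
    intro i
    induction i with
    | zero => intro a c; simp
    | succ i ih =>
      intro a c
      rw [pow_succ', Module.End.mul_apply, Module.End.mul_apply, hM', ih]
  -- polynomials in M commute
  have hcomm : ∀ (P : k[X]) (j : ℕ) (b : V),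
      Polynomial.aeval Mℓ P ((Mℓ ^ j) b) = (Mℓ ^ j) (Polynomial.aeval Mℓ P b) := by
    intro P j b
    have h1 : Polynomial.aeval Mℓ P * Mℓ ^ j = Mℓ ^ j * Polynomial.aeval Mℓ P := by
      have : Mℓ ^ j = Polynomial.aeval Mℓ (Polynomial.X ^ j : k[X]) := by simp
      rw [this, ← map_mul, ← map_mul, mul_comm]
    have := congrArg (fun f : V →ₗ[k] V => f b) h1
    simpa [Module.End.mul_apply] using this
  have hcomm2 : ∀ (P P' : k[X]) (b : V),
      Polynomial.aeval Mℓ P (Polynomial.aeval Mℓ P' b) =
        Polynomial.aeval Mℓ P' (Polynomial.aeval Mℓ P b) := by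
    intro P P' b
    have h1 : Polynomial.aeval Mℓ P * Polynomial.aeval Mℓ P' =
        Polynomial.aeval Mℓ P' * Polynomial.aeval Mℓ P := by
      rw [← map_mul, ← map_mul, mul_comm]
    have := congrArg (fun f : V →ₗ[k] V => f b) h1
    simpa [Module.End.mul_apply] using this
  -- adjoint identity
  have hadj : ∀ a b : V, B (Polynomial.aeval Mℓ Q₁ a) ((Mℓ ^ d) b) =
      B a (Polynomial.aeval Mℓ Q₁.reverse b) := by
    intro a b
    rw [Polynomial.aeval_eq_sum_range,
      Polynomial.aeval_eq_sum_range' (n := d + 1)
        (lt_of_le_of_lt (Polynomial.reverse_natDegree_le _) (Nat.lt_succ_self _))]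
    simp only [LinearMap.sum_apply, LinearMap.smul_apply, map_sum, map_smul, smul_eq_mul]
    rw [← Finset.sum_range_reflect (fun j => Q₁.reverse.coeff j * B a ((Mℓ ^ j) b)) (d + 1)]
    apply Finset.sum_congr rfl
    intro i hi
    rw [Finset.mem_range] at hi
    have hi' : i ≤ d := by omega
    have e1 : d + 1 - 1 - i = d - i := by omega
    rw [e1, Polynomial.coeff_reverse, Polynomial.revAt_le (Nat.sub_le _ _), Nat.sub_sub_self hi']
    congr 1
    have e2 : (Mℓ ^ d) b = (Mℓ ^ i) ((Mℓ ^ (d - i)) b) := by
      rw [← Module.End.mul_apply, ← pow_add]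
      congr 2
      omega
    rw [e2, hpow]
  have hadjn : ∀ (n : ℕ) (a b : V),
      B ((Polynomial.aeval Mℓ Q₁ ^ n) a) ((Mℓ ^ (d * n)) b) =
        B a ((Polynomial.aeval Mℓ Q₁.reverse ^ n) b) := by
    intro n
    induction n with
    | zero => intro a b; simp
    | succ n ih =>
      intro a b
      rw [pow_succ' (Polynomial.aeval Mℓ Q₁), Module.End.mul_apply, Nat.mul_succ, add_comm (d * n) d,
        pow_add, Module.End.mul_apply, hadj, hcomm, ih, pow_succ (Polynomial.aeval Mℓ Q₁.reverse),
        Module.End.mul_apply]
  obtain ⟨n, hn⟩ := hx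
  obtain ⟨m, hm⟩ := hy
  obtain ⟨u, v, huv⟩ : IsCoprime (Q₁.reverse ^ n) (Q₂ ^ m) := IsCoprime.pow h
  have h1 := congrArg (fun P : k[X] => Polynomial.aeval Mℓ P y) huv
  simp only [map_add, map_mul, map_pow, map_one, LinearMap.add_apply, Module.End.mul_apply,
    Module.End.one_apply] at h1
  rw [hm, map_zero, add_zero] at h1
  -- y = R^n (u y)
  have h2 : y = (Polynomial.aeval Mℓ Q₁.reverse ^ n) (Polynomial.aeval Mℓ u y) := by
    have h3 : Polynomial.aeval Mℓ u ((Polynomial.aeval Mℓ Q₁.reverse ^ n) y) =
        (Polynomial.aeval Mℓ Q₁.reverse ^ n) (Polynomial.aeval Mℓ u y) := by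
      have := hcomm2 u (Q₁.reverse ^ n) y
      simpa [map_pow] using this
    rw [← h3]
    exact h1.symm
  rw [h2, ← hadjn, hn, map_zero, LinearMap.zero_apply]

end Groth.Agent.S19651
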