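import Groth.Statements.S19652
import Mathlib
import Groth.Agent.Helper9.BilinAdj
-- import your own Groth.Agent.* helpers here

set_option autoImplicit false
universe u v
open AbVar

namespace Groth.Agent.S19652

open Polynomial in
/-- Stated for an arbitrary invariant nondegenerate bilinear form, as the argument there allows. Let k
be a field, V a finite-dimensional k-vector space with a nondegenerate bilinear form B and M a
linear automorphism of V with B(Mx, My) = B(x, y) for all x, y. If Q is a polynomial associated to
its own reciprocal polynomial (its coefficient list reversed), then B restricted to the generalized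
kernel of Q(M), the union of the kernels of the powers Q(M)^n, is nondegenerate. (The published
statement takes M symplectic and Q a self-reciprocal divisor of the characteristic polynomial;
divisibility plays no role and is not assumed.) -/
theorem result
    {k : Type u} [Field k] {V : Type v} [AddCommGroup V] [Module k V] [FiniteDimensional k V]
    (B : LinearMap.BilinForm k V) (hB : B.Nondegenerate) (M : V ≃ₗ[k] V)
    (hM : ∀ x y : V, B (M x) (M y) = B x y)
    (Q : k[X]) (hQ : Associated Q Q.reverse) :
    (B.restrict (⨆ n : ℕ, LinearMap.ker (Polynomial.aeval (M : V →ₗ[k] V) Q ^ n))).Nondegenerate := by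
  classical
  obtain ⟨f, hf⟩ : ∃ f : Module.End k V, f = (M : V →ₗ[k] V) := ⟨_, rfl⟩
  rw [← hf]
  have hfM : ∀ x, f x = M x := by intro x; rw [hf]; rfl
  obtain ⟨N, hN⟩ : ∃ N, N = Q.natDegree := ⟨_, rfl⟩
  obtain ⟨g, hg⟩ : ∃ g : Module.End k V, g = Polynomial.aeval f Q := ⟨_, rfl⟩
  rw [← hg]
  have hiso : ∀ (i : ℕ) (x z : V), B ((f ^ i) x) ((f ^ i) z) = B x z := by
    intro i
    induction i with
    | zero => intro x z; simp
    | succ i ih =>
      intro x z
      rw [pow_succ', Module.End.mul_apply, Module.End.mul_apply, hfM, hfM, hM]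
      exact ih x z
  have hstep1 : ∀ x y, B (g x) ((f ^ N) y) = B x ((Polynomial.aeval f Q.reverse) y) := by
    intro x y
    have hlt : Q.reverse.natDegree < N + 1 := by
      rw [hN]
      exact Nat.lt_succ_of_le (Polynomial.reverse_natDegree_le Q)
    rw [hg, Polynomial.aeval_eq_sum_range, Polynomial.aeval_eq_sum_range' hlt, ← hN]
    simp only [LinearMap.sum_apply, LinearMap.smul_apply, map_sum, map_smul, smul_eq_mul]
    rw [← Finset.sum_range_reflect (fun j => Q.reverse.coeff j * B x ((f ^ j) y))]
    apply Finset.sum_congr rfl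
    intro i hi
    have hiN : i ≤ N := Nat.lt_succ_iff.mp (Finset.mem_range.mp hi)
    have h1 : N + 1 - 1 - i = N - i := by omega
    rw [h1, Polynomial.coeff_reverse, ← hN, Polynomial.revAt_le (Nat.sub_le N i),
      Nat.sub_sub_self hiN]
    congr 1
    have h2 : f ^ N = f ^ i * f ^ (N - i) := by rw [← pow_add]; congr 1; omega
    rw [h2, Module.End.mul_apply, hiso]
  obtain ⟨U, hU⟩ := hQ
  obtain ⟨u, hu, huU⟩ := Polynomial.isUnit_iff.mp U.isUnit
  have hrev : Polynomial.aeval f Q.reverse = u • g := by
    rw [← hU, ← huU, map_mul, Polynomial.aeval_C, ← hg, Algebra.algebraMap_eq_smul_one,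
      mul_smul_comm, mul_one]
  have hadj : ∀ x y, B (g x) ((f ^ N) y) = u * B x (g y) := by
    intro x y
    rw [hstep1, hrev, LinearMap.smul_apply, map_smul, smul_eq_mul]
  have hfbij : Function.Bijective (f ^ N) := by
    rw [Module.End.coe_pow]
    have : Function.Bijective f := by rw [hf]; exact M.bijective
    exact this.iterate N
  have hcomm : Commute (f ^ N) g := by
    have h1 : f ^ N = Polynomial.aeval f ((Polynomial.X : Polynomial k) ^ N) := by rw [map_pow, Polynomial.aeval_X]
    rw [h1, hg]
    exact (Commute.all _ _).map (Polynomial.aeval f)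
  have hL := Groth.Agent.Helper9.BilinAdj.left_vanish B g g (f ^ N) u hu.ne_zero hcomm hadj
  have hR := Groth.Agent.Helper9.BilinAdj.right_vanish B g g (f ^ N) u hfbij hcomm hadj
  have hmono : Monotone (fun n => LinearMap.ker (g ^ n)) := by
    intro m n hmn x hx
    exact Groth.Agent.Helper9.BilinAdj.pow_apply_eq_zero_of_le g hmn x hx
  have hmem : ∀ x, x ∈ (⨆ n : ℕ, LinearMap.ker (g ^ n)) ↔ ∃ n, (g ^ n) x = 0 := by
    intro x
    rw [Submodule.mem_iSup_of_directed _ hmono.directed_le]
    simp only [LinearMap.mem_ker]
  refine ⟨?_, ?_⟩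
  · intro x hx
    have hxv : ∀ v, B x v = 0 := by
      apply Groth.Agent.Helper9.BilinAdj.left_orth B g g (fun n x z h => hL n x z h) x
        ((hmem _).mp x.2)
      intro y hy
      exact hx ⟨y, (hmem y).mpr hy⟩
    exact Subtype.ext (hB.1 x hxv)
  · intro y hy
    have hyv : ∀ v, B v y = 0 := by
      apply Groth.Agent.Helper9.BilinAdj.right_orth B g g (fun n z y h => hR n z y h) y
        ((hmem _).mp y.2)
      intro x hx
      exact hy ⟨x, (hmem x).mpr hx⟩
    exact Subtype.ext (hB.2 y hyv)

end Groth.Agent.S19652
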