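import Groth.Statements.S19655
import Mathlib
import Groth.Agent.Helper3.WeilG

set_option autoImplicit false
universe u
open scoped TensorProduct
open CategoryTheory CategoryTheory.Limits MonoidalCategory CartesianMonoidalCategory AlgebraicGeometry
open Neron

namespace Groth.Agent.S19655

/-- Let R be a Dedekind domain with fraction field K, A an abelian variety over K (a proper smooth
geometrically connected K-group scheme) and N a Néron model of A over Spec R. Then for every smooth
R-scheme Y, every K-morphism to A defined on a dense open subscheme of the generic fibre of Y is the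
restriction of exactly one R-morphism Y → N: K-rational maps from smooth R-schemes to A extend
uniquely to the Néron model. (The text works over a connected Dedekind scheme; the affine case is
stated.) -/
theorem result
    (R : Type u) [CommRing R] [IsDedekindDomain R]
    (N : Over (Spec (CommRingCat.of R))) (A : Over (Spec (CommRingCat.of (FractionRing R))))
    (e : (Neron.genericFibre R).obj N ≅ A) (hN : Neron.IsNeronModelOf R N A e)
    [GrpObj A] [IsProper A.hom] [Smooth A.hom] [GeometricallyConnected A.hom]
    (Y : Over (Spec (CommRingCat.of R))) [Smooth Y.hom]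
    (W : ((Neron.genericFibre R).obj Y).left.Opens) (hW : Dense (W : Set ↥((Neron.genericFibre R).obj Y).left))
    (g : (W : Scheme.{u}) ⟶ A.left) (hg : g ≫ A.hom = W.ι ≫ ((Neron.genericFibre R).obj Y).hom) :
    ∃! h : Y ⟶ N, W.ι ≫ ((Neron.genericFibre R).map h ≫ e.hom).left = g := by
  obtain ⟨-, -, -, -, hbij⟩ := hN
  have hb := hbij Y inferInstance
  haveI : GrpObj (Over.mk A.hom) := inferInstanceAs (GrpObj A)
  haveI : Smooth ((Neron.genericFibre R).obj Y).hom := by
    show Smooth (pullback.snd Y.hom (Neron.genPt R))
    infer_instance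
  have hdense : ∀ z : ↥((Neron.genericFibre R).obj Y).left,
      z ∈ closure ((W : Set ↥((Neron.genericFibre R).obj Y).left) ∩
        {y | ((Neron.genericFibre R).obj Y).hom y = ((Neron.genericFibre R).obj Y).hom z}) := by
    intro z
    have : {y : ↥((Neron.genericFibre R).obj Y).left |
        ((Neron.genericFibre R).obj Y).hom y = ((Neron.genericFibre R).obj Y).hom z} = Set.univ := by
      ext y; simp only [Set.mem_setOf_eq, Set.mem_univ, iff_true]
      exact Subsingleton.elim _ _
    rw [this, Set.inter_univ]
    exact hW z
  obtain ⟨g', ⟨hg'c, hg'W⟩, hg'u⟩ := Groth.Agent.Helper3.WeilG.proper_ext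
    ((Neron.genericFibre R).obj Y).hom A.hom W hdense g hg
  obtain ⟨h, hh⟩ := hb.2 (Over.homMk g' hg'c)
  have hh' : (Neron.genericFibre R).map h ≫ e.hom = Over.homMk g' hg'c := hh
  refine ⟨h, ?_, ?_⟩
  · show W.ι ≫ ((Neron.genericFibre R).map h ≫ e.hom).left = g
    rw [hh']
    exact hg'W
  · intro h' hh'2
    have hh'3 : W.ι ≫ ((Neron.genericFibre R).map h' ≫ e.hom).left = g := hh'2
    apply hb.1
    show (Neron.genericFibre R).map h' ≫ e.hom = (Neron.genericFibre R).map h ≫ e.hom
    rw [hh']
    apply Over.OverMorphism.ext
    exact hg'u _ ⟨Over.w _, hh'3⟩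

end Groth.Agent.S19655
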