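import Groth.Statements.S1966
import Mathlib
import Groth.Agent.Lead.HenselianPair

set_option autoImplicit false
universe u
open EtAlg

namespace Groth.Agent.S1966

open Polynomial Groth.Agent.Lead

/-- Towers indexed by the natural numbers: let (A_k) be rings with surjective transition maps A_{k+1} ->
A_k whose kernels consist of nilpotent elements, and let A be a ring with compatible projections p_k
: A -> A_k identifying A with the set of compatible sequences (p is jointly injective and every
compatible sequence comes from an element of A). Then for every k the pair (A, ker p_k) is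
henselian. -/
theorem result (A : Type u) [CommRing A] (As : ℕ → Type u) [∀ k, CommRing (As k)]
    (t : ∀ k, As (k + 1) →+* As k) (ht : ∀ k, Function.Surjective (t k))
    (hnil : ∀ k (x : As (k + 1)), t k x = 0 → IsNilpotent x)
    (p : ∀ k, A →+* As k) (hp : ∀ k, (t k).comp (p (k + 1)) = p k)
    (hinj : ∀ a b : A, (∀ k, p k a = p k b) → a = b)
    (hsurj : ∀ x : ∀ k, As k, (∀ k, t k (x (k + 1)) = x k) → ∃ a : A, ∀ k, p k a = x k) (k : ℕ) :
    HenselianRing A (RingHom.ker (p k)) := by
  have hp' : ∀ j (a : A), t j (p (j + 1) a) = p j a := fun j a => by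
    rw [← hp j]; rfl
  -- unit lifting along `t j`
  have hU : ∀ j (x : As (j + 1)), IsUnit (t j x) → IsUnit x := by
    intro j x hx
    obtain ⟨v', hv'⟩ := hx.exists_right_inv
    obtain ⟨v, rfl⟩ := ht j v'
    have h0 : t j (x * v - 1) = 0 := by rw [map_sub, map_mul, hv', map_one, sub_self]
    have hn := hnil j _ h0
    have : IsUnit (x * v) := by
      have h1 : x * v = (x * v - 1) + 1 := by ring
      rw [h1]
      exact hn.isUnit_add_one
    exact isUnit_of_mul_isUnit_left this
  -- units of `A` are detected at level 0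
  have hV : ∀ a : A, IsUnit (p 0 a) → IsUnit a := by
    intro a ha
    have hall : ∀ j, IsUnit (p j a) := by
      intro j
      induction j with
      | zero => exact ha
      | succ j ih => exact hU j _ (by rw [hp']; exact ih)
    choose w hw using fun j => (hall j).exists_right_inv
    have hcompat : ∀ j, t j (w (j + 1)) = w j := by
      intro j
      have h1 : p j a * t j (w (j + 1)) = 1 := by
        rw [← hp' j a, ← map_mul, hw, map_one]
      calc t j (w (j + 1)) = (w j * p j a) * t j (w (j + 1)) := by
            rw [mul_comm (w j), hw, one_mul]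
        _ = w j * (p j a * t j (w (j + 1))) := by ring
        _ = w j := by rw [h1, mul_one]
    obtain ⟨b, hb⟩ := hsurj w hcompat
    refine isUnit_iff_exists_inv.2 ⟨b, hinj _ _ fun j => ?_⟩
    rw [map_mul, hb, hw, map_one]
  -- reduce to `k = 0`
  have hker : RingHom.ker (p k) ≤ RingHom.ker (p 0) := by
    intro a ha
    rw [RingHom.mem_ker] at ha ⊢
    induction k with
    | zero => exact ha
    | succ k ih => exact ih (by rw [← hp' k a, ha, map_zero])
  suffices h0 : HenselianRing A (RingHom.ker (p 0)) from henselianRing_of_le hker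
  have hjac : RingHom.ker (p 0) ≤ Ideal.jacobson ⊥ := by
    intro x hx
    rw [RingHom.mem_ker] at hx
    rw [Ideal.mem_jacobson_bot]
    intro y
    apply hV
    rw [map_add, map_mul, hx, zero_mul, zero_add, map_one]
    exact isUnit_one
  refine ⟨hjac, fun f hf a₀ h₁ h₂ => ?_⟩
  have hd : IsUnit (f.derivative.eval a₀) := isUnit_of_isUnit_mk hjac h₂
  rw [RingHom.mem_ker] at h₁
  let T : ℕ → Type u := fun j =>
    {y : As j // (f.map (p j)).eval y = 0 ∧ IsUnit ((f.map (p j)).derivative.eval y)}
  have hmapmap : ∀ j, (f.map (p (j + 1))).map (t j) = f.map (p j) := fun j => by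
    rw [Polynomial.map_map, hp]
  have step : ∀ j (y : T j), ∃ y' : T (j + 1), t j y'.1 = y.1 := by
    intro j y
    obtain ⟨b, hb⟩ := ht j y.1
    have hN : HenselianRing (As (j + 1)) (RingHom.ker (t j)) :=
      henselianRing_of_locally_nilpotent _ fun x hx => hnil j x ((RingHom.mem_ker).1 hx)
    have e1 : ∀ z : As (j + 1), t j ((f.map (p (j + 1))).eval z) = (f.map (p j)).eval (t j z) := by
      intro z
      rw [← hmapmap j]
      conv_rhs => rw [eval_map, eval₂_at_apply]
    have e2 : ∀ z : As (j + 1), t j ((f.map (p (j + 1))).derivative.eval z) =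
        (f.map (p j)).derivative.eval (t j z) := by
      intro z
      rw [← hmapmap j]
      conv_rhs => rw [derivative_map, eval_map, eval₂_at_apply]
    have h1 : (f.map (p (j + 1))).eval b ∈ RingHom.ker (t j) := by
      rw [RingHom.mem_ker, e1, hb]; exact y.2.1
    have h2 : IsUnit ((f.map (p (j + 1))).derivative.eval b) :=
      hU j _ (by rw [e2, hb]; exact y.2.2)
    obtain ⟨y', hy', hy'b⟩ := hN.is_henselian _ (hf.map _) b h1 (h2.map _)
    have hty' : t j y' = y.1 := by
      rw [RingHom.mem_ker, map_sub, sub_eq_zero] at hy'b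
      rw [hy'b, hb]
    refine ⟨⟨y', hy', hU j _ ?_⟩, hty'⟩
    rw [e2, hty']; exact y.2.2
  choose nxt hnxt using step
  have e0 : ∀ z : A, p 0 (f.eval z) = (f.map (p 0)).eval (p 0 z) := fun z => by
    rw [eval_map, eval₂_at_apply]
  let x0 : T 0 := ⟨p 0 a₀, by rw [← e0, h₁], by
    rw [derivative_map, eval_map, eval₂_at_apply]; exact hd.map _⟩
  let X : ∀ j, T j := fun j => Nat.rec (motive := T) x0 (fun j y => nxt j y) j
  have hXcompat : ∀ j, t j (X (j + 1)).1 = (X j).1 := fun j => hnxt j (X j)
  obtain ⟨a, ha⟩ := hsurj (fun j => (X j).1) hXcompat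
  refine ⟨a, ?_, ?_⟩
  · apply hinj
    intro j
    rw [map_zero, ← (X j).2.1, ← ha j, eval_map, eval₂_at_apply]
  · rw [RingHom.mem_ker, map_sub, ha 0]
    exact sub_self _

end Groth.Agent.S1966
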