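import Groth.Statements.S19660
import Mathlib
import Groth.Agent.Helper9.BilinAdj
-- import your own Groth.Agent.* helpers here

set_option autoImplicit false
universe u v
open AbVar

namespace Groth.Agent.S19660

/-- The text applies this to the Frobenius acting on the points of prime order of a principally
polarised abelian variety over a finite field with q elements and to their Weil pairing. Let k be a
field, V a finite-dimensional k-vector space with a nondegenerate bilinear form B, q a nonzero
element of k and M a linear automorphism of V with B(Mx, My) = q·B(x, y) for all x, y. Write V₁ and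
V_q for the generalized eigenspaces of M at 1 and at q. Then every vector of V₁ that is B-orthogonal
to all of V_q is zero, every vector of V_q that is B-orthogonal (on the right) to all of V₁ is zero,
and when q ≠ 1 the form B vanishes identically on V₁ × V₁ and on V_q × V_q. (The text asserts this
as the evident adaptation, to a form scaled by q, of the orthogonality and nondegeneracy facts for
generalized kernels of an automorphism preserving a form; the abstract statement is recorded here,
the application to the Weil pairing needing that pairing's formalism.) -/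
theorem result
    {k : Type u} [Field k] {V : Type v} [AddCommGroup V] [Module k V] [FiniteDimensional k V]
    (B : LinearMap.BilinForm k V) (hB : B.Nondegenerate) (q : k) (hq : q ≠ 0)
    (M : V ≃ₗ[k] V) (hM : ∀ x y : V, B (M x) (M y) = q * B x y) :
    (∀ x ∈ Module.End.maxGenEigenspace (M : Module.End k V) 1,
        (∀ y ∈ Module.End.maxGenEigenspace (M : Module.End k V) q, B x y = 0) → x = 0) ∧
      (∀ y ∈ Module.End.maxGenEigenspace (M : Module.End k V) q,
        (∀ x ∈ Module.End.maxGenEigenspace (M : Module.End k V) 1, B x y = 0) → y = 0) ∧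
      (q ≠ 1 → ∀ x ∈ Module.End.maxGenEigenspace (M : Module.End k V) 1,
        ∀ x' ∈ Module.End.maxGenEigenspace (M : Module.End k V) 1, B x x' = 0) ∧
      (q ≠ 1 → ∀ y ∈ Module.End.maxGenEigenspace (M : Module.End k V) q,
        ∀ y' ∈ Module.End.maxGenEigenspace (M : Module.End k V) q, B y y' = 0) := by
  classical
  have hfbij : Function.Bijective ((M : Module.End k V)) := M.bijective
  have hcomm : Commute (M : Module.End k V) ((M : Module.End k V) - q • (1 : Module.End k V)) :=
    (Commute.refl _).sub_right ((Commute.one_right _).smul_right q)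
  have hadj : ∀ x y, B (((M : Module.End k V) - (1 : k) • (1 : Module.End k V)) x) ((M : Module.End k V) y) =
      (-1 : k) * B x (((M : Module.End k V) - q • (1 : Module.End k V)) y) := by
    intro x y
    simp only [LinearMap.sub_apply, LinearMap.smul_apply, Module.End.one_apply, one_smul, map_sub,
      map_smul, smul_eq_mul, LinearEquiv.coe_coe, hM]
    ring
  have hL := Groth.Agent.Helper9.BilinAdj.left_vanish B _ _ _ (-1 : k) (by norm_num) hcomm hadj
  have hR := Groth.Agent.Helper9.BilinAdj.right_vanish B _ _ _ (-1 : k) hfbij hcomm hadj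
  refine ⟨?_, ?_, ?_, ?_⟩
  · intro x hx hxy
    rw [Module.End.mem_maxGenEigenspace] at hx
    apply hB.1 x
    apply Groth.Agent.Helper9.BilinAdj.left_orth B _ _ (fun n x z h => hL n x z h) x hx
    intro y hy
    exact hxy y ((Module.End.mem_maxGenEigenspace _ _ _).mpr hy)
  · intro y hy hxy
    rw [Module.End.mem_maxGenEigenspace] at hy
    apply hB.2 y
    apply Groth.Agent.Helper9.BilinAdj.right_orth B _ _ (fun n z y h => hR n z y h) y hy
    intro x hx
    exact hxy x ((Module.End.mem_maxGenEigenspace _ _ _).mpr hx)
  · intro hq1 x hx x' hx'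
    rw [Module.End.mem_maxGenEigenspace] at hx hx'
    obtain ⟨n1, hn1⟩ := hx
    obtain ⟨n2, hn2⟩ := hx'
    have h1 := Groth.Agent.Helper9.BilinAdj.pow_apply_eq_zero_of_le _ (le_max_left n1 n2) x hn1
    have h2 := Groth.Agent.Helper9.BilinAdj.pow_apply_eq_zero_of_le _ (le_max_right n1 n2) x' hn2
    obtain ⟨w, hw⟩ := Groth.Agent.Helper9.BilinAdj.exists_eq_pow_apply (M : Module.End k V) 1 q
      (Ne.symm hq1) _ x' h2
    rw [hw]
    exact hL _ x w h1
  · intro hq1 y hy y' hy'
    rw [Module.End.mem_maxGenEigenspace] at hy hy'
    obtain ⟨n1, hn1⟩ := hy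
    obtain ⟨n2, hn2⟩ := hy'
    have h1 := Groth.Agent.Helper9.BilinAdj.pow_apply_eq_zero_of_le _ (le_max_left n1 n2) y hn1
    have h2 := Groth.Agent.Helper9.BilinAdj.pow_apply_eq_zero_of_le _ (le_max_right n1 n2) y' hn2
    obtain ⟨w, hw⟩ := Groth.Agent.Helper9.BilinAdj.exists_eq_pow_apply (M : Module.End k V) q 1
      hq1 _ y h1
    rw [hw]
    exact hR _ w y' h2

end Groth.Agent.S19660
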