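import Groth.Statements.S19695
import Groth.Agent.Helper1.FC1
import Groth.Agent.Helper4.StalkExact

set_option autoImplicit false
universe u
open CategoryTheory CategoryTheory.Limits AlgebraicGeometry Opposite
open FinCov

namespace Groth.Agent.S19695

/-- Let X be a scheme, A a quasi-coherent O_X-algebra which is locally free of rank d as an O_X-module,
and τ : A → O_X its trace (the O_X-linear map which over every affine open where A is finite free is
the trace of the regular representation). Then the structure map O_X → A followed by τ equals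
multiplication by d on O_X. -/
theorem result {X : Scheme.{u}} (A : RelSpec.QCAlg X) (d : ℕ)
    (hA : FlatMod.IsFinLocFreeOfRank d A.toModule)
    (τ : A.toModule ⟶ Coh.structureModule X) (hτ : FinCov.IsTrace A τ) :
    FinCov.strMod A ≫ τ = d • 𝟙 (Coh.structureModule X) := by
  classical
  apply Scheme.Modules.hom_ext
  intro U
  ext (s : Γ(X, U))
  apply Groth.Agent.Helper4.TwistExt.eq_of_cover (Coh.structureModule X) U
  intro y hy
  obtain ⟨V, hyV, hV⟩ := hA y
  obtain ⟨D, hD, hyD, -, hDU, ⟨b⟩⟩ :=
    Groth.Agent.Helper1.FC.exists_affine_basis_le A hV U y hyV hy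
  refine ⟨D, hDU, hyD, ?_⟩
  letI := Groth.Agent.Helper1.FC.algSect A D
  have h1 := hτ D hD (Module.Free.of_basis b) (Module.Finite.of_basis b)
    ((A.str.app (op D)).hom (X.presheaf.map (homOfLE hDU).op s))
  have h2 : Algebra.trace Γ(X, D) (A.presheaf.obj (op D))
      ((A.str.app (op D)).hom (X.presheaf.map (homOfLE hDU).op s)) =
      d • (X.presheaf.map (homOfLE hDU).op s) := by
    have := Algebra.trace_algebraMap_of_basis b (X.presheaf.map (homOfLE hDU).op s)
    rw [Fintype.card_fin] at this
    exact this
  rw [h2] at h1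
  refine (Groth.Agent.Helper4.StalkExact.app_res (FinCov.strMod A ≫ τ) (homOfLE hDU) s).symm.trans
    (Eq.trans ?_ (Groth.Agent.Helper4.StalkExact.app_res (d • 𝟙 (Coh.structureModule X))
      (homOfLE hDU) s))
  refine Eq.trans ?_ (h1.trans ?_)
  · rfl
  · exact (Groth.Agent.Helper1.FC.nsmul_app d (𝟙 (Coh.structureModule X)) D _).symm

end Groth.Agent.S19695
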