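import Groth.Statements.S19708
import Mathlib
-- import your own Groth.Agent.* helpers here

set_option autoImplicit false
universe u v w
open W4c5adicflatcompl
open CAlg

namespace Groth.Agent.S19708

/-- Let A be a commutative ring, I an ideal of A, M an I-adically complete A-module, Z a set and f : Z →
M a function. Then f is I-adically decaying (for every n, all but finitely many values f(z) lie in
I^n M) if and only if the family (f(z))_{z ∈ Z} has an I-adic sum in M, i.e. there is an element m
of M such that for every n some finite subset S of Z has f(z) ∈ I^n M for all z outside S and m −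
Σ_{z ∈ S} f(z) ∈ I^n M. -/
theorem result {A : Type u} [CommRing A] (I : Ideal A) (Z : Type v)
    (M : Type w) [AddCommGroup M] [Module A M] [IsAdicComplete I M] (f : Z → M) :
    f ∈ decaying I Z M ↔ ∃ m : M, ∀ n : ℕ, ∃ S : Finset Z,
      (∀ z, z ∉ S → f z ∈ (I ^ n • ⊤ : Submodule A M)) ∧ m - (∑ z ∈ S, f z) ∈ (I ^ n • ⊤ : Submodule A M) := by
  classical
  constructor
  · intro hf
    rw [mem_decaying_iff] at hf
    have hanti : ∀ {n n' : ℕ}, n ≤ n' → (I ^ n' • ⊤ : Submodule A M) ≤ I ^ n • ⊤ := by
      intro n n' h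
      exact Submodule.smul_mono_left (Ideal.pow_le_pow_right h)
    have hT : ∀ n z, z ∈ (hf n).toFinset ↔ f z ∉ (I ^ n • ⊤ : Submodule A M) := by
      intro n z
      simp
    have hmono : ∀ {n n' : ℕ}, n ≤ n' → (hf n).toFinset ⊆ (hf n').toFinset := by
      intro n n' h z hz
      rw [hT] at hz ⊢
      exact fun hz' => hz (hanti h hz')
    have hcauchy : ∀ {m n : ℕ}, m ≤ n → (∑ z ∈ (hf m).toFinset, f z) ≡ (∑ z ∈ (hf n).toFinset, f z)
        [SMOD (I ^ m • ⊤ : Submodule A M)] := by
      intro m n h
      rw [SModEq.sub_mem, ← Finset.sum_sdiff (hmono h)]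
      have : ∑ z ∈ (hf m).toFinset, f z - (∑ x ∈ (hf n).toFinset \ (hf m).toFinset, f x +
          ∑ x ∈ (hf m).toFinset, f x) = - ∑ x ∈ (hf n).toFinset \ (hf m).toFinset, f x := by abel
      rw [this, Submodule.neg_mem_iff]
      apply Submodule.sum_mem
      intro z hz
      rw [Finset.mem_sdiff, hT, hT, not_not] at hz
      exact hz.2
    obtain ⟨L, hL⟩ := IsPrecomplete.prec (I := I) (M := M) inferInstance hcauchy
    refine ⟨L, fun n => ⟨(hf n).toFinset, ?_, ?_⟩⟩
    · intro z hz
      rw [hT, not_not] at hz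
      exact hz
    · exact SModEq.sub_mem.mp (hL n).symm
  · rintro ⟨m, hm⟩
    rw [mem_decaying_iff]
    intro n
    obtain ⟨S, hS, _⟩ := hm n
    refine S.finite_toSet.subset ?_
    intro z hz
    by_contra hzS
    exact hz (hS z hzS)

end Groth.Agent.S19708
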