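import Groth.Statements.S1974
import Mathlib
import Groth.Agent.S0426
import Groth.Agent.Lead.WEField4

set_option autoImplicit false
universe u
open EtAlg

namespace Groth.Agent.S1974

open TensorProduct Groth.Agent.Lead.WEField

/-- Let A -> B be weakly etale and q a prime of B lying over the prime p of A. Then the residue field of
q is a separable algebraic extension of the residue field of p. -/
theorem result (A B : Type u) [CommRing A] [CommRing B] [Algebra A B]
    [Algebra.WeaklyEtale A B] (p : Ideal A) [p.IsPrime] (q : Ideal B) [q.IsPrime] [q.LiesOver p]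
    [Algebra (Localization.AtPrime p) (Localization.AtPrime q)] [Localization.AtPrime.IsLiesOverAlgebra p q] :
    Algebra.IsSeparable p.ResidueField q.ResidueField := by
  let Φ : p.ResidueField ⊗[A] B →ₐ[p.ResidueField] q.ResidueField :=
    Algebra.TensorProduct.lift (Algebra.ofId _ _) (IsScalarTower.toAlgHom A B q.ResidueField)
      (fun _ _ => Commute.all _ _)
  have hΦ : ∀ b : B, Φ (1 ⊗ₜ b) = algebraMap B q.ResidueField b := by
    intro b
    simp [Φ]
  have hvnr : VNR (p.ResidueField ⊗[A] B) :=
    vnr_of_flat_lmul' (Algebra.WeaklyEtale.flat_lmul' p.ResidueField (p.ResidueField ⊗[A] B))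
  have hsurj : Function.Surjective Φ := by
    intro y
    obtain ⟨y', rfl⟩ := IsLocalRing.residue_surjective y
    obtain ⟨b, s, rfl⟩ := IsLocalization.exists_mk'_eq q.primeCompl y'
    obtain ⟨r, hr⟩ := hvnr ((1 : p.ResidueField) ⊗ₜ[A] (s : B))
    have hz : algebraMap B q.ResidueField s ≠ 0 := by
      rw [Ne, Ideal.algebraMap_residueField_eq_zero]
      exact s.2
    have h1 := congrArg Φ hr
    rw [map_mul, map_mul, hΦ] at h1
    have h2 : algebraMap B q.ResidueField s * Φ r = 1 := by
      have : algebraMap B q.ResidueField s * 1 =
          algebraMap B q.ResidueField s * (algebraMap B q.ResidueField s * Φ r) := by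
        rw [mul_one, ← mul_assoc]; exact h1
      exact (mul_left_cancel₀ hz this).symm
    refine ⟨(1 ⊗ₜ b) * r, ?_⟩
    rw [map_mul, hΦ]
    have h3 : IsLocalRing.residue (Localization.AtPrime q)
        (IsLocalization.mk' (Localization.AtPrime q) b s) * algebraMap B q.ResidueField s =
        algebraMap B q.ResidueField b := by
      rw [IsScalarTower.algebraMap_apply B (Localization.AtPrime q) q.ResidueField,
        IsScalarTower.algebraMap_apply B (Localization.AtPrime q) q.ResidueField,
        IsLocalRing.ResidueField.algebraMap_eq, ← map_mul, IsLocalization.mk'_spec]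
    rw [← h3, mul_assoc, h2, mul_one]
  have hWE : Algebra.WeaklyEtale p.ResidueField q.ResidueField :=
    weaklyEtale_of_surjective p.ResidueField Φ hsurj
  exact Groth.Agent.S0426.result

end Groth.Agent.S1974
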