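import Groth.Statements.S19748
import Mathlib
-- import your own Groth.Agent.* helpers here

set_option autoImplicit false
universe u
open scoped TensorProduct
open GrSegre

namespace Groth.Agent.S19748

theorem proj_smul {k : Type u} [Field k] {R : Type u} [CommRing R] [Algebra k R]
    (𝒜 : ℤ → Submodule k R) {M : Type u} [AddCommGroup M] [Module R M]
    (ℳ : ℤ → AddSubgroup M) [DirectSum.Decomposition ℳ] [SetLike.GradedSMul 𝒜 ℳ]
    (c : ℤ) (F : R) (hF : F ∈ 𝒜 c) (x : M) (j : ℤ) :
    ((DirectSum.decompose ℳ (F • x)) j : M) = F • ((DirectSum.decompose ℳ x) (j - c) : M) := by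
  induction x using DirectSum.Decomposition.inductionOn ℳ with
  | zero => simp
  | @homogeneous m x =>
    have hFx : F • (x : M) ∈ ℳ (c + m) := SetLike.GradedSMul.smul_mem hF x.2
    by_cases h : c + m = j
    · subst h
      rw [DirectSum.decompose_of_mem_same ℳ hFx]
      have : c + m - c = m := by ring
      rw [this, DirectSum.decompose_of_mem_same ℳ x.2]
    · rw [DirectSum.decompose_of_mem_ne ℳ hFx h]
      have h' : m ≠ j - c := fun h2 => h (by rw [h2]; ring)
      rw [DirectSum.decompose_of_mem_ne ℳ x.2 h', smul_zero]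
  | add x y hx hy =>
    rw [smul_add, DirectSum.decompose_add, DirectSum.decompose_add, DirectSum.add_apply,
      DirectSum.add_apply, AddSubgroup.coe_add, AddSubgroup.coe_add, hx, hy, smul_add]

theorem lower {k : Type u} [Field k] {R : Type u} [CommRing R] [Algebra k R]
    (𝒜 : ℤ → Submodule k R) {M : Type u} [AddCommGroup M] [Module R M]
    (ℳ : ℤ → AddSubgroup M) [DirectSum.Decomposition ℳ] [SetLike.GradedSMul 𝒜 ℳ]
    (c : ℤ) (F : R) (hF : F ∈ 𝒜 c) (hinj : Function.Injective (fun x : M => F • x))
    (n : ℤ) (a' : M) (ha : F • a' ∈ ℳ n) : a' ∈ ℳ (n - c) := by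
  classical
  have hz : ∀ m : ℤ, m ≠ n - c → ((DirectSum.decompose ℳ a') m : M) = 0 := by
    intro m hm
    apply hinj
    show F • ((DirectSum.decompose ℳ a') m : M) = F • (0 : M)
    have := proj_smul 𝒜 ℳ c F hF a' (m + c)
    rw [show m + c - c = m by ring] at this
    rw [← this, smul_zero]
    apply DirectSum.decompose_of_mem_ne ℳ ha
    intro h
    exact hm (by rw [h]; ring)
  rw [← DirectSum.sum_support_decompose ℳ a']
  refine AddSubgroup.sum_mem _ fun m _ => ?_
  by_cases hm : m = n - c
  · rw [hm]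
    exact (DirectSum.decompose ℳ a' (n - c)).2
  · rw [hz m hm]
    exact AddSubgroup.zero_mem _

theorem pow_bij {R : Type u} [CommRing R] {M : Type u} [AddCommGroup M] [Module R M] (f : R)
    (h : Function.Bijective (fun x : M => f • x)) (e : ℕ) :
    Function.Bijective (fun x : M => (f ^ e) • x) := by
  have : (fun x : M => (f ^ e) • x) = (fun x : M => f • x)^[e] := by
    induction e with
    | zero => funext x; simp
    | succ e ih =>
      funext x
      rw [Function.iterate_succ', Function.comp_apply, ← ih, pow_succ', mul_smul]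
  rw [this]
  exact h.iterate e


/-- Let R and S be graded rings defined over a field k with Segre product T = R # S, M a graded R-module
and N a graded S-module. Suppose that multiplication by some homogeneous element f ∈ R_d of positive
degree d is bijective on M and multiplication by some homogeneous g ∈ S_e of positive degree e is
bijective on N. Then multiplication by some homogeneous element of T of positive degree is bijective
on M # N. Here a graded ring defined over k is a commutative k-algebra of finite type, graded in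
nonnegative degrees by k-subspaces with degree-zero part k·1; the Segre product T = R # S = ⊕_n R_n
⊗_k S_n is presented abstractly as a graded k-algebra T with an injective k-algebra homomorphism ψ :
T → R ⊗_k S carrying T_n onto the k-span of the elementary tensors a ⊗ b with a ∈ R_n, b ∈ S_n; the
Segre product M # N = ⊕_n M_n ⊗_k N_n of a graded R-module M and a graded S-module N is presented
abstractly as a graded T-module P with an injective k-linear map φ : P → M ⊗_k N carrying P_n onto
the k-span of the tensors x ⊗ y with x ∈ M_n, y ∈ N_n and turning the action of t ∈ T into that of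
ψ(t) (acting factorwise on M ⊗_k N). -/
theorem result (k : Type u) [Field k] (R : Type u) [CommRing R] [Algebra k R] (𝒜 : ℤ → Submodule k R) [GradedAlgebra 𝒜] (hposR : ∀ n : ℤ, n < 0 → 𝒜 n = ⊥) (h0R : 𝒜 0 = Submodule.span k {(1 : R)}) [Algebra.FiniteType k R] (S : Type u) [CommRing S] [Algebra k S] (ℬ : ℤ → Submodule k S) [GradedAlgebra ℬ] (hposS : ∀ n : ℤ, n < 0 → ℬ n = ⊥) (h0S : ℬ 0 = Submodule.span k {(1 : S)}) [Algebra.FiniteType k S] (T : Type u) [CommRing T] [Algebra k T] (𝒯 : ℤ → Submodule k T) [GradedAlgebra 𝒯] (ψ : T →ₐ[k] TensorProduct k R S) (hT : GrSeg.IsSegreRing 𝒜 ℬ 𝒯 ψ) (M : Type u) [AddCommGroup M] [Module R M] [Module k M] [IsScalarTower k R M] (ℳ : ℤ → AddSubgroup M) [DirectSum.Decomposition ℳ] [SetLike.GradedSMul 𝒜 ℳ] (N : Type u) [AddCommGroup N] [Module S N] [Module k N] [IsScalarTower k S N] (𝒩 : ℤ → AddSubgroup N) [DirectSum.Decomposition 𝒩] [SetLike.GradedSMul ℬ 𝒩] (P : Type u) [AddCommGroup P] [Module T P] [Module k P] [IsScalarTower k T P] (𝒬 : ℤ → AddSubgroup P) [DirectSum.Decomposition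 𝒬] (φ : P →ₗ[k] TensorProduct k M N) (hP : GrSeg.IsSegreMod ψ ℳ 𝒩 𝒬 φ) (d : ℕ) (hd : 0 < d) (f : R) (hf : f ∈ 𝒜 (d : ℤ)) (hfM : Function.Bijective (fun x : M => f • x)) (e : ℕ) (he : 0 < e) (g : S) (hg : g ∈ ℬ (e : ℤ)) (hgN : Function.Bijective (fun y : N => g • y)) : ∃ (c : ℤ) (t : T), 0 < c ∧ t ∈ 𝒯 c ∧ Function.Bijective (fun p : P => t • p) := by
  classical
  obtain ⟨c, hcdef⟩ : ∃ c : ℤ, c = (d : ℤ) * (e : ℤ) := ⟨_, rfl⟩
  have hc : 0 < c := by
    rw [hcdef]
    positivity
  have hF : f ^ e ∈ 𝒜 c := by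
    have := SetLike.pow_mem_graded e hf
    rw [hcdef]
    convert this using 2
    simp [mul_comm]
  have hG : g ^ d ∈ ℬ c := by
    have := SetLike.pow_mem_graded d hg
    rw [hcdef]
    convert this using 2
    simp
  have hFM := pow_bij f hfM e
  have hGN := pow_bij g hgN d
  have hmem : (f ^ e) ⊗ₜ[k] (g ^ d) ∈ GrSeg.segrePiece k 𝒜 ℬ c :=
    Submodule.subset_span ⟨f ^ e, hF, g ^ d, hG, rfl⟩
  rw [← hT.2 c] at hmem
  obtain ⟨t, ht, hψt⟩ := hmem
  have hψt' : ψ t = (f ^ e) ⊗ₜ[k] (g ^ d) := hψt
  refine ⟨c, t, hc, ht, ?_⟩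
  -- the two linear equivalences
  let LF : M →ₗ[k] M := Algebra.lsmul k k M (f ^ e)
  let LG : N →ₗ[k] N := Algebra.lsmul k k N (g ^ d)
  have hLF : Function.Bijective LF := hFM
  have hLG : Function.Bijective LG := hGN
  let eF : M ≃ₗ[k] M := LinearEquiv.ofBijective LF hLF
  let eG : N ≃ₗ[k] N := LinearEquiv.ofBijective LG hLG
  let Θ : TensorProduct k M N ≃ₗ[k] TensorProduct k M N := TensorProduct.congr eF eG
  have hΘ : ∀ z : TensorProduct k M N, GrSeg.act k R S M N (ψ t) z = Θ z := by
    intro z
    rw [hψt']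
    induction z using TensorProduct.induction_on with
    | zero => simp
    | tmul m n =>
      rw [GrSeg.act_tmul]
      rfl
    | add z w hz hw => rw [map_add, map_add, hz, hw]
  have hφt : ∀ p : P, φ (t • p) = Θ (φ p) := fun p => by rw [hP.map_smul, hΘ]
  constructor
  · intro p p' h
    apply hP.injective
    apply Θ.injective
    rw [← hφt, ← hφt]
    exact congrArg φ h
  · -- surjective
    have hlow : ∀ n : ℤ, ∀ z ∈ GrSeg.segrePiece k ℳ 𝒩 n, Θ.symm z ∈ GrSeg.segrePiece k ℳ 𝒩 (n - c) := by
      intro n z hz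
      unfold GrSeg.segrePiece at hz
      induction hz using Submodule.span_induction with
      | mem z hz =>
        obtain ⟨a, ha, b, hb, rfl⟩ := hz
        have h1 : Θ.symm (a ⊗ₜ[k] b) = (eF.symm a) ⊗ₜ[k] (eG.symm b) := rfl
        rw [h1]
        refine Submodule.subset_span ⟨eF.symm a, ?_, eG.symm b, ?_, rfl⟩
        · apply lower 𝒜 ℳ c (f ^ e) hF hFM.1 n
          have : (f ^ e) • eF.symm a = eF (eF.symm a) := rfl
          rw [this, LinearEquiv.apply_symm_apply]
          exact ha
        · apply lower ℬ 𝒩 c (g ^ d) hG hGN.1 n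
          have : (g ^ d) • eG.symm b = eG (eG.symm b) := rfl
          rw [this, LinearEquiv.apply_symm_apply]
          exact hb
      | zero => rw [map_zero]; exact Submodule.zero_mem _
      | add z w _ _ hz hw => rw [map_add]; exact Submodule.add_mem _ hz hw
      | smul r z _ hz => rw [map_smul]; exact Submodule.smul_mem _ _ hz
    intro p
    induction p using DirectSum.Decomposition.inductionOn 𝒬 with
    | zero => exact ⟨0, smul_zero _⟩
    | @homogeneous n p =>
      have h1 : φ (p : P) ∈ GrSeg.segrePiece k ℳ 𝒩 n := by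
        have : φ (p : P) ∈ φ '' ((𝒬 n : AddSubgroup P) : Set P) := ⟨p, p.2, rfl⟩
        rw [hP.image_piece n] at this
        exact this
      have h2 := hlow n _ h1
      have h3 : Θ.symm (φ (p : P)) ∈ ((GrSeg.segrePiece k ℳ 𝒩 (n - c) : Submodule k _) : Set _) := h2
      rw [← hP.image_piece (n - c)] at h3
      obtain ⟨q, _, hq⟩ := h3
      refine ⟨q, ?_⟩
      apply hP.injective
      show φ (t • q) = φ (p : P)
      rw [hφt, hq, LinearEquiv.apply_symm_apply]
    | add p p' hp hp' =>
      obtain ⟨q, hq⟩ := hp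
      obtain ⟨q', hq'⟩ := hp'
      refine ⟨q + q', ?_⟩
      show t • (q + q') = p + p'
      rw [smul_add]
      exact congrArg₂ (· + ·) hq hq'

end Groth.Agent.S19748
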