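import Groth.Statements.S19749
import Mathlib
-- import your own Groth.Agent.* helpers here

set_option autoImplicit false
universe u
open scoped TensorProduct
open GrSegre

namespace Groth.Agent.S19749

theorem proj_smul' {k : Type u} [Field k] {T : Type u} [CommRing T] [Algebra k T]
    (𝒯 : ℤ → Submodule k T) [GradedAlgebra 𝒯] {P : Type u} [AddCommGroup P] [Module T P]
    (𝒬 : ℤ → AddSubgroup P) [DirectSum.Decomposition 𝒬] (n : ℤ) (p : P) (hp : p ∈ 𝒬 n)
    (hsm : ∀ (i : ℤ) (t : T), t ∈ 𝒯 i → t • p ∈ 𝒬 (i + n))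
    (t : T) (j : ℤ) :
    ((DirectSum.decompose 𝒬 (t • p)) j : P) = ((DirectSum.decompose 𝒯 t) (j - n) : T) • p := by
  induction t using DirectSum.Decomposition.inductionOn 𝒯 with
  | zero => simp
  | @homogeneous i t =>
    have htp : (t : T) • p ∈ 𝒬 (i + n) := hsm i t t.2
    by_cases h : i + n = j
    · subst h
      rw [DirectSum.decompose_of_mem_same 𝒬 htp]
      have : i + n - n = i := by ring
      rw [this, DirectSum.decompose_of_mem_same 𝒯 t.2]
    · rw [DirectSum.decompose_of_mem_ne 𝒬 htp h]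
      have h' : i ≠ j - n := fun h2 => h (by rw [h2]; ring)
      rw [DirectSum.decompose_of_mem_ne 𝒯 t.2 h', zero_smul]
  | add t t' ht ht' =>
    rw [add_smul, DirectSum.decompose_add, DirectSum.decompose_add, DirectSum.add_apply,
      DirectSum.add_apply, AddSubgroup.coe_add, Submodule.coe_add, ht, ht', add_smul]


/-- Let R and S be graded rings defined over a field k, both generated over k by their degree-one parts
and of positive Krull dimension, T = R # S, M a graded R-module and N a graded S-module, n an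
integer with N_m ≠ 0 for every m ≥ n, and x ∈ M_n, y ∈ N_n. If x # y generates M # N as a T-module,
then R_d x = M_{n+d} for every d ≥ 0 (every element of M_{n+d} is r x for some r ∈ R_d). Here a
graded ring defined over k is a commutative k-algebra of finite type, graded in nonnegative degrees
by k-subspaces with degree-zero part k·1; the Segre product T = R # S = ⊕_n R_n ⊗_k S_n is presented
abstractly as a graded k-algebra T with an injective k-algebra homomorphism ψ : T → R ⊗_k S carrying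
T_n onto the k-span of the elementary tensors a ⊗ b with a ∈ R_n, b ∈ S_n; the Segre product M # N =
⊕_n M_n ⊗_k N_n of a graded R-module M and a graded S-module N is presented abstractly as a graded
T-module P with an injective k-linear map φ : P → M ⊗_k N carrying P_n onto the k-span of the
tensors x ⊗ y with x ∈ M_n, y ∈ N_n and turning the action of t ∈ T into that of ψ(t) (acting
factorwise on M ⊗_k N), and x # y is the element of P mapped to x ⊗ y. -/
theorem result (k : Type u) [Field k] (R : Type u) [CommRing R] [Algebra k R] (𝒜 : ℤ → Submodule k R) [GradedAlgebra 𝒜] (hposR : ∀ n : ℤ, n < 0 → 𝒜 n = ⊥) (h0R : 𝒜 0 = Submodule.span k {(1 : R)}) [Algebra.FiniteType k R] (S : Type u) [CommRing S] [Algebra k S] (ℬ : ℤ → Submodule k S) [GradedAlgebra ℬ] (hposS : ∀ n : ℤ, n < 0 → ℬ n = ⊥) (h0S : ℬ 0 = Submodule.span k {(1 : S)}) [Algebra.FiniteType k S] (T : Type u) [CommRing T] [Algebra k T] (𝒯 : ℤ → Submodule k T) [GradedAlgebra 𝒯] (ψ : T →ₐ[k]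 TensorProduct k R S) (hT : GrSeg.IsSegreRing 𝒜 ℬ 𝒯 ψ) (hstdR : Ideal.span (⋃ n ∈ Set.Ioi (0 : ℤ), (𝒜 n : Set R)) = Ideal.span ((𝒜 1 : Submodule k R) : Set R)) (hstdS : Ideal.span (⋃ n ∈ Set.Ioi (0 : ℤ), (ℬ n : Set S)) = Ideal.span ((ℬ 1 : Submodule k S) : Set S)) (hr1 : 1 ≤ ringKrullDim R) (hs1 : 1 ≤ ringKrullDim S) (M : Type u) [AddCommGroup M] [Module R M] [Module k M] [IsScalarTower k R M] (ℳ : ℤ → AddSubgroup M) [DirectSum.Decomposition ℳ] [SetLike.GradedSMul 𝒜 ℳ] (N : Type u) [AddCommGroup N] [Module S N] [Module k N] [IsScalarTower k S N] (𝒩 : ℤ → AddSubgroup N) [DirectSum.Decomposition 𝒩] [SetLike.GradedSMul ℬ 𝒩] (P : Type u) [AddCommGroup P] [Module T P] [Module k P] [IsScalarTower k T P] (𝒬 : ℤ → AddSubgroup P) [DirectSum.Decomposition 𝒬] (φ : P →ₗ[k] TensorProduct k M N) (hP : GrSeg.IsSegreMod ψ ℳ 𝒩 𝒬 φ) (n : ℤ) (hNn : ∀ m : ℤ, n ≤ m → 𝒩 m ≠ ⊥) (x : M) (hx : x ∈ ℳ n) (y : N) (hy : y ∈ 𝒩 n) (p : P) (hp : φ p = x ⊗ₜ[k] y) (hgen : Submodule.span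 T {p} = ⊤) (d : ℤ) (hd : 0 ≤ d) (z : M) (hz : z ∈ ℳ (n + d)) : ∃ r ∈ 𝒜 d, r • x = z := by
  classical
  -- a nonzero element of N_{n+d} and a functional
  obtain ⟨w, hw, hw0⟩ : ∃ w ∈ 𝒩 (n + d), w ≠ 0 := by
    have := hNn (n + d) (by omega)
    by_contra hcon
    push Not at hcon
    apply this
    rw [AddSubgroup.eq_bot_iff_forall]
    exact hcon
  obtain ⟨lam, hlam⟩ : ∃ lam : Module.Dual k N, lam w ≠ 0 := by
    by_contra hcon
    push Not at hcon
    exact hw0 ((Module.forall_dual_apply_eq_zero_iff k w).1 hcon)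
  -- action lands in the right piece
  have hact : ∀ (i : ℤ) (τ : TensorProduct k R S), τ ∈ GrSeg.segrePiece k 𝒜 ℬ i →
      GrSeg.act k R S M N τ (x ⊗ₜ[k] y) ∈ GrSeg.segrePiece k ℳ 𝒩 (i + n) := by
    intro i τ hτ
    unfold GrSeg.segrePiece at hτ
    induction hτ using Submodule.span_induction with
    | mem τ hτ =>
      obtain ⟨a, ha, b, hb, rfl⟩ := hτ
      rw [GrSeg.act_tmul]
      exact Submodule.subset_span ⟨a • x, SetLike.GradedSMul.smul_mem ha hx, b • y,
        SetLike.GradedSMul.smul_mem hb hy, rfl⟩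
    | zero => rw [map_zero, LinearMap.zero_apply]; exact Submodule.zero_mem _
    | add τ σ _ _ h1 h2 => rw [map_add, LinearMap.add_apply]; exact Submodule.add_mem _ h1 h2
    | smul r τ _ h1 => rw [map_smul, LinearMap.smul_apply]; exact Submodule.smul_mem _ _ h1
  have hpn : p ∈ 𝒬 n := by
    have h1 : x ⊗ₜ[k] y ∈ ((GrSeg.segrePiece k ℳ 𝒩 n : Submodule k _) : Set _) :=
      Submodule.subset_span ⟨x, hx, y, hy, rfl⟩
    rw [← hP.image_piece n] at h1
    obtain ⟨p', hp', hp'e⟩ := h1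
    have : p' = p := hP.injective (by rw [hp'e, hp])
    rwa [← this]
  have hsm : ∀ (i : ℤ) (t : T), t ∈ 𝒯 i → t • p ∈ 𝒬 (i + n) := by
    intro i t ht
    have h1 : ψ t ∈ GrSeg.segrePiece k 𝒜 ℬ i := by
      rw [← hT.2 i]
      exact ⟨t, ht, rfl⟩
    have h2 := hact i _ h1
    rw [← hp, ← hP.map_smul] at h2
    have h3 : φ (t • p) ∈ ((GrSeg.segrePiece k ℳ 𝒩 (i + n) : Submodule k _) : Set _) := h2
    rw [← hP.image_piece (i + n)] at h3
    obtain ⟨q, hq, hqe⟩ := h3
    have : q = t • p := hP.injective hqe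
    rwa [← this]
  -- the element q
  have hzw : z ⊗ₜ[k] w ∈ ((GrSeg.segrePiece k ℳ 𝒩 (n + d) : Submodule k _) : Set _) :=
    Submodule.subset_span ⟨z, hz, w, hw, rfl⟩
  rw [← hP.image_piece (n + d)] at hzw
  obtain ⟨q, hq, hqe⟩ := hzw
  have hqtop : q ∈ Submodule.span T {p} := by rw [hgen]; trivial
  obtain ⟨t, rfl⟩ := Submodule.mem_span_singleton.mp hqtop
  have hproj := proj_smul' 𝒯 𝒬 n p hpn hsm t (n + d)
  rw [DirectSum.decompose_of_mem_same 𝒬 hq, show n + d - n = d by ring] at hproj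
  -- now t • p = t_d • p
  have htd : ψ ((DirectSum.decompose 𝒯 t) d : T) ∈ GrSeg.segrePiece k 𝒜 ℬ d := by
    rw [← hT.2 d]
    exact ⟨_, (DirectSum.decompose 𝒯 t d).2, rfl⟩
  have heq : z ⊗ₜ[k] w = GrSeg.act k R S M N (ψ ((DirectSum.decompose 𝒯 t) d : T)) (x ⊗ₜ[k] y) := by
    rw [← hqe, hproj, hP.map_smul, hp]
  -- contraction with lam
  let Lam : TensorProduct k M N →ₗ[k] M :=
    (TensorProduct.rid k M).toLinearMap ∘ₗ (TensorProduct.map LinearMap.id lam)
  have hLam : ∀ (m : M) (v : N), Lam (m ⊗ₜ[k] v) = lam v • m := by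
    intro m v
    simp [Lam]
  have hclaim : ∀ τ ∈ GrSeg.segrePiece k 𝒜 ℬ d, ∃ r ∈ 𝒜 d,
      Lam (GrSeg.act k R S M N τ (x ⊗ₜ[k] y)) = r • x := by
    intro τ hτ
    unfold GrSeg.segrePiece at hτ
    induction hτ using Submodule.span_induction with
    | mem τ hτ =>
      obtain ⟨a, ha, b, hb, rfl⟩ := hτ
      refine ⟨lam (b • y) • a, Submodule.smul_mem _ _ ha, ?_⟩
      rw [GrSeg.act_tmul, hLam, smul_assoc]
    | zero =>
      refine ⟨0, Submodule.zero_mem _, ?_⟩
      rw [map_zero, LinearMap.zero_apply, map_zero, zero_smul]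
    | add τ σ _ _ h1 h2 =>
      obtain ⟨r1, hr1, e1⟩ := h1
      obtain ⟨r2, hr2, e2⟩ := h2
      refine ⟨r1 + r2, Submodule.add_mem _ hr1 hr2, ?_⟩
      rw [map_add, LinearMap.add_apply, map_add, e1, e2, add_smul]
    | smul c τ _ h1 =>
      obtain ⟨r1, hr1, e1⟩ := h1
      refine ⟨c • r1, Submodule.smul_mem _ _ hr1, ?_⟩
      rw [map_smul, LinearMap.smul_apply, map_smul, e1, smul_assoc]
  obtain ⟨r, hr, hre⟩ := hclaim _ htd
  rw [← heq, hLam] at hre
  refine ⟨(lam w)⁻¹ • r, Submodule.smul_mem _ _ hr, ?_⟩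
  rw [smul_assoc, ← hre, smul_smul, inv_mul_cancel₀ hlam, one_smul]

end Groth.Agent.S19749
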