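import Groth.Statements.S19759
import Mathlib
import Groth.Agent.Helper7.GrTau7
import Groth.Agent.Helper7.KunA
import Groth.Agent.Helper7.KunX
import Groth.Agent.Helper7.GrTopRE1

set_option autoImplicit false
universe u
open GrDual

namespace Groth.Agent.S19759

/-- Let R be a graded ring defined over a field k with m = R_+ and n = dim R, K_R = (H^n_m(R))^* its
canonical module, and M a finitely generated graded R-module. Then (H^n_m(M))^* ≅ Hom_R(M, K_R) as
graded R-modules. Stated here as the existence of an R-linear isomorphism carrying the degree-d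
piece of (H^n_m(M))^* into the maps M → K_R homogeneous of degree d (existence of an isomorphism
only; the published one is natural in M). Here a graded ring defined over k is a commutative
k-algebra of finite type, graded in nonnegative degrees by k-subspaces with degree-zero part k·1,
and R_+ is the ideal spanned by the R_n with n > 0; the graded k-dual M^* = ⊕_n Hom_k(M_{−n}, k) of
a graded R-module M (with r ∈ R acting by (r f)(x) = f(r x)) is presented abstractly as a graded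
R-module D with a k-bilinear pairing β : D × M → k compatible with the R-actions, under which D_n
pairs to zero with M_m for m ≠ −n and is identified with the full dual space of M_{−n}; graded local
cohomology with its homogeneous pieces is computed from *injective resolutions in the graded
category and carries the k-vector space structures given. -/
theorem result (k : Type u) [Field k] (R : Type u) [CommRing R] [Algebra k R] (𝒜 : ℤ → Submodule k R) [GradedAlgebra 𝒜] (hposR : ∀ n : ℤ, n < 0 → 𝒜 n = ⊥) (h0R : 𝒜 0 = Submodule.span k {(1 : R)}) [Algebra.FiniteType k R] (mR : HomogeneousIdeal 𝒜) (hmR : mR.toIdeal = Ideal.span (⋃ n ∈ Set.Ioi (0 : ℤ), (𝒜 n : Set R))) (n : ℕ) (hn : ringKrullDim R = n) (I : GrLC.StarInjRes 𝒜 𝒜) [Module k (I.H mR n)] [IsScalarTower k R (I.H mR n)] [DirectSum.Decomposition (I.Hgr mR n)] (K : Type u) [AddCommGroup K] [Module R K] [Module k K] [IsScalarTower k R K] (𝒦 : ℤ → AddSubgroup K) [DirectSum.Decomposition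 𝒦] [SetLike.GradedSMul 𝒜 𝒦] (βK : K →ₗ[k] I.H mR n →ₗ[k] k) (hK : GrSeg.IsGDual R (I.Hgr mR n) 𝒦 βK) (M : Type u) [AddCommGroup M] [Module R M] [Module k M] [IsScalarTower k R M] (ℳ : ℤ → AddSubgroup M) [DirectSum.Decomposition ℳ] [SetLike.GradedSMul 𝒜 ℳ] [Module.Finite R M] (EM : GrLC.StarInjRes 𝒜 ℳ) [Module k (EM.H mR n)] [IsScalarTower k R (EM.H mR n)] [DirectSum.Decomposition (EM.Hgr mR n)] (D : Type u) [AddCommGroup D] [Module R D] [Module k D] [IsScalarTower k R D] (𝒟 : ℤ → AddSubgroup D) [DirectSum.Decomposition 𝒟] [SetLike.GradedSMul 𝒜 𝒟] (βD : D →ₗ[k] EM.H mR n →ₗ[k] k) (hD : GrSeg.IsGDual R (EM.Hgr mR n) 𝒟 βD) : ∃ ε : D ≃ₗ[R] (M →ₗ[R] K), GrLC.IsGrHom 𝒟 (fun d : ℤ => (GrLC.homDeg 𝒜 ℳ 𝒦 d).toAddSubgroup) ε.toLinearMap := by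
    haveI : IsNoetherianRing R := Algebra.FiniteType.isNoetherianRing k R
    haveI : SetLike.GradedSMul (Groth.Agent.Helper7.Kun.plus 𝒜) ℳ :=
      Groth.Agent.Helper7.Kun.gradedSMul_plus 𝒜 ℳ
    haveI : SetLike.GradedSMul (Groth.Agent.Helper7.Kun.plus 𝒜) 𝒦 :=
      Groth.Agent.Helper7.Kun.gradedSMul_plus 𝒜 𝒦
    haveI : SetLike.GradedSMul (Groth.Agent.Helper7.Kun.plus 𝒜) 𝒟 :=
      Groth.Agent.Helper7.Kun.gradedSMul_plus 𝒜 𝒟
    haveI : SetLike.GradedSMul 𝒜 (Groth.Agent.Helper7.Kun.plus 𝒜) :=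
      Groth.Agent.Helper7.Kun.gradedSMul_self 𝒜
    have hvan : Groth.Agent.Helper7.GrTopRE.TopVan (Groth.Agent.Helper7.Kun.plus 𝒜)
        (Groth.Agent.Helper7.Kun.idealPlus 𝒜 mR) n :=
      Groth.Agent.Helper7.GrTopRE.topVan_of_dim (Groth.Agent.Helper7.Kun.plus 𝒜) _ n hn
    letI : Module k ((Groth.Agent.Helper7.Kun.resPlus 𝒜 (Groth.Agent.Helper7.Kun.resSelf 𝒜 I)).H
        (Groth.Agent.Helper7.Kun.idealPlus 𝒜 mR) n) := inferInstanceAs (Module k (I.H mR n))
    haveI : IsScalarTower k R ((Groth.Agent.Helper7.Kun.resPlus 𝒜 (Groth.Agent.Helper7.Kun.resSelf 𝒜 I)).H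
        (Groth.Agent.Helper7.Kun.idealPlus 𝒜 mR) n) := inferInstanceAs (IsScalarTower k R (I.H mR n))
    letI : DirectSum.Decomposition
        ((Groth.Agent.Helper7.Kun.resPlus 𝒜 (Groth.Agent.Helper7.Kun.resSelf 𝒜 I)).Hgr
        (Groth.Agent.Helper7.Kun.idealPlus 𝒜 mR) n) :=
      inferInstanceAs (DirectSum.Decomposition (I.Hgr mR n))
    letI : Module k ((Groth.Agent.Helper7.Kun.resPlus 𝒜 EM).H
        (Groth.Agent.Helper7.Kun.idealPlus 𝒜 mR) n) := inferInstanceAs (Module k (EM.H mR n))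
    haveI : IsScalarTower k R ((Groth.Agent.Helper7.Kun.resPlus 𝒜 EM).H
        (Groth.Agent.Helper7.Kun.idealPlus 𝒜 mR) n) := inferInstanceAs (IsScalarTower k R (EM.H mR n))
    letI : DirectSum.Decomposition
        ((Groth.Agent.Helper7.Kun.resPlus 𝒜 EM).Hgr (Groth.Agent.Helper7.Kun.idealPlus 𝒜 mR) n) :=
      inferInstanceAs (DirectSum.Decomposition (EM.Hgr mR n))
    let βK' : K →ₗ[k] (Groth.Agent.Helper7.Kun.resPlus 𝒜 (Groth.Agent.Helper7.Kun.resSelf 𝒜 I)).H
          (Groth.Agent.Helper7.Kun.idealPlus 𝒜 mR) n →ₗ[k] k := βK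
    let βD' : D →ₗ[k] (Groth.Agent.Helper7.Kun.resPlus 𝒜 EM).H
          (Groth.Agent.Helper7.Kun.idealPlus 𝒜 mR) n →ₗ[k] k := βD
    have hK' : GrSeg.IsGDual R
        ((Groth.Agent.Helper7.Kun.resPlus 𝒜 (Groth.Agent.Helper7.Kun.resSelf 𝒜 I)).Hgr
          (Groth.Agent.Helper7.Kun.idealPlus 𝒜 mR) n) 𝒦 βK' :=
      ⟨hK.map_smul, hK.vanish, hK.eq_zero, hK.exists_eq⟩
    have hD' : GrSeg.IsGDual R
        ((Groth.Agent.Helper7.Kun.resPlus 𝒜 EM).Hgr (Groth.Agent.Helper7.Kun.idealPlus 𝒜 mR) n) 𝒟 βD' :=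
      ⟨hD.map_smul, hD.vanish, hD.eq_zero, hD.exists_eq⟩
    obtain ⟨ε, hε⟩ := Groth.Agent.Helper7.GrTau.exists_gdual_equiv
      (Groth.Agent.Helper7.Kun.resPlus 𝒜 (Groth.Agent.Helper7.Kun.resSelf 𝒜 I))
      (Groth.Agent.Helper7.Kun.idealPlus 𝒜 mR) n βK' hK'
      (Groth.Agent.Helper7.Kun.resPlus 𝒜 EM) βD' hD' hvan
    exact ⟨ε, fun d δ hδ => hε d δ hδ⟩

end Groth.Agent.S19759
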