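import Groth.Statements.S1976
import Groth.Agent.Lead.IndEtale
import Groth.Agent.Lead.WEField4
import Groth.Agent.Lead.WeaklyEtale

set_option autoImplicit false
universe u
open CategoryTheory
open EtAlg

namespace Groth.Agent.S1976

open CategoryTheory.Limits

section
variable (K : Type u) [Field K] (B : Type u) [CommRing B] [Algebra K B]

/-- index category: finitely generated subalgebras -/
abbrev Idx := {S : Subalgebra K B // S.FG}

instance : Nonempty (Idx K B) := ⟨⟨⊥, Subalgebra.fg_bot⟩⟩

instance : IsDirected (Idx K B) (· ≤ ·) :=
  ⟨fun S T => ⟨⟨S.1 ⊔ T.1, S.2.sup T.2⟩, le_sup_left (a := S.1), le_sup_right (b := T.1)⟩⟩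

/-- the diagram of f.g. subalgebras -/
noncomputable def D : Idx K B ⥤ Under (CommRingCat.of K) where
  obj S := Under.mk (CommRingCat.ofHom (algebraMap K S.1))
  map {S T} f := Under.homMk (CommRingCat.ofHom (Subalgebra.inclusion (leOfHom f)).toRingHom)
    (by ext; rfl)
  map_id S := by ext; rfl
  map_comp f g := by ext; rfl

/-- the cocone with vertex `B` -/
noncomputable def c : Cocone (D K B) where
  pt := Under.mk (CommRingCat.ofHom (algebraMap K B))
  ι :=
    { app := fun S => Under.homMk (CommRingCat.ofHom S.1.val.toRingHom) (by ext; rfl)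
      naturality := fun S T f => by ext; rfl }

/-- the forgetful functor to types -/
abbrev G : Under (CommRingCat.of K) ⥤ Type u := Under.forget _ ⋙ forget CommRingCat

noncomputable def cIsColimit : IsColimit (c K B) := by
  haveI : PreservesColimitsOfShape (Idx K B) (Under.forget (CommRingCat.of K)) :=
    PreservesFilteredColimitsOfSize.preserves_filtered_colimits _
  haveI : PreservesColimitsOfShape (Idx K B) (forget CommRingCat.{u}) :=
    PreservesFilteredColimitsOfSize.preserves_filtered_colimits _
  haveI : ReflectsColimit (D K B) (G K) := reflectsColimit_of_reflectsIsomorphisms _ _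
  apply isColimitOfReflects (G K)
  apply Types.FilteredColimit.isColimitOf'
  · intro (b : B)
    have hfg : (Algebra.adjoin K ({b} : Set B)).FG := by
      have := Subalgebra.fg_adjoin_finset (R := K) ({b} : Finset B)
      rwa [Finset.coe_singleton] at this
    exact ⟨⟨Algebra.adjoin K {b}, hfg⟩,
      (⟨b, Algebra.subset_adjoin (Set.mem_singleton b)⟩ : Algebra.adjoin K ({b} : Set B)), rfl⟩
  · intro S x y hxy
    refine ⟨S, 𝟙 S, ?_⟩
    have hxy' : x = y := by
      have h1 : ((show S.1 from x) : B) = ((show S.1 from y) : B) := hxy
      exact Subtype.ext h1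
    rw [hxy']

/-- finitely generated subalgebras of a weakly étale algebra over a field are étale -/
theorem etale_of_fg [Algebra.WeaklyEtale K B] (S : Subalgebra K B) (hS : S.FG) :
    Algebra.Etale K S := by
  haveI : Algebra.WeaklyEtale K S := Groth.Agent.Lead.WEField.weaklyEtale_subalgebra K B S
  haveI : Algebra.FiniteType K S := (Subalgebra.fg_iff_finiteType S).mp hS
  haveI : Algebra.FormallyUnramified K S :=
    Groth.Agent.Lead.formallyUnramified_of_weaklyEtale K S (Algebra.WeaklyEtale.flat_lmul' K S)
  haveI : Algebra.FormallyEtale K S := Algebra.FormallyEtale.of_formallyUnramified_of_field K S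
  haveI : Algebra.FinitePresentation K S := Algebra.FinitePresentation.of_finiteType.mp inferInstance
  exact ⟨inferInstance, inferInstance⟩

end

/-- (2) ⇔ (3): a K-algebra B over a field K is weakly etale exactly when it can be written as a filtered
colimit of etale K-algebras, and in that case its finitely generated K-subalgebras are etale. -/
theorem result (K : Type u) [Field K] (B : Type u) [CommRing B] [Algebra K B] :
    (Algebra.WeaklyEtale K B ↔ EtPBC.IsIndEtale K B) ∧
    (Algebra.WeaklyEtale K B → ∀ S : Subalgebra K B, S.FG → Algebra.Etale K S) := by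
  refine ⟨⟨fun h => ?_, fun h => Groth.Agent.Lead.IndEtale.weaklyEtale_of_isIndEtale h⟩,
    fun h S hS => etale_of_fg K B S hS⟩
  refine ⟨Idx K B, inferInstance, inferInstance, D K B, c K B, cIsColimit K B, ?_, ⟨Iso.refl _⟩⟩
  intro S
  have key := etale_of_fg K B S.1 S.2
  have halg : (algebraMap K S.1).toAlgebra = (inferInstance : Algebra K S.1) :=
    Algebra.algebra_ext _ _ (fun r => rfl)
  show @Algebra.Etale K S.1 _ _ (algebraMap K S.1).toAlgebra
  rw [halg]
  exact key

end Groth.Agent.S1976
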