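import Groth.Statements.S19799
import Mathlib
-- import your own Groth.Agent.* helpers here

set_option autoImplicit false
universe u v w
open scoped TensorProduct
open CAlg

namespace Groth.Agent.S19799

universe u1 u2 u3

theorem isReduced_tensor (k : Type u1) [Field k] [IsAlgClosed k]
    (A' : Type u2) [CommRing A'] [Algebra k A'] [Module.Finite k A'] [IsReduced A']
    (B' : Type u3) [CommRing B'] [Algebra k B'] [IsReduced B'] : IsReduced (A' ⊗[k] B') := by
  classical
  haveI : IsArtinianRing A' := IsArtinianRing.of_finite k A'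
  haveI : Finite (MaximalSpectrum A') := inferInstance
  haveI := Fintype.ofFinite (MaximalSpectrum A')
  let e1 : A' ≃ₐ[k] (∀ m : MaximalSpectrum A', A' ⧸ m.asIdeal) :=
    (IsArtinianRing.equivPi A').restrictScalars k
  letI : ∀ m : MaximalSpectrum A', Field (A' ⧸ m.asIdeal) := fun m =>
    @Ideal.Quotient.field _ _ m.asIdeal m.isMaximal
  have hbij : ∀ m : MaximalSpectrum A', Function.Bijective (algebraMap k (A' ⧸ m.asIdeal)) := by
    intro m
    exact IsAlgClosed.algebraMap_bijective_of_isIntegral
  let e2 : ∀ m : MaximalSpectrum A', k ≃ₐ[k] (A' ⧸ m.asIdeal) := fun m =>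
    AlgEquiv.ofBijective (Algebra.ofId k _) (hbij m)
  let e3 : (MaximalSpectrum A' → k) ≃ₐ[k] (∀ m : MaximalSpectrum A', A' ⧸ m.asIdeal) :=
    AlgEquiv.piCongrRight e2
  let e : A' ≃ₐ[k] (MaximalSpectrum A' → k) := e1.trans e3.symm
  let E : A' ⊗[k] B' ≃ₐ[k] (MaximalSpectrum A' → B') :=
    ((Algebra.TensorProduct.comm k A' B').trans
      (Algebra.TensorProduct.congr (AlgEquiv.refl (R := k) (A₁ := B')) e)).trans
      (Algebra.TensorProduct.piScalarRight k k B' (MaximalSpectrum A'))
  exact isReduced_of_injective E.toRingEquiv.toRingHom E.injective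


/-- Let k be an algebraically closed field and A, B commutative k-algebras, each finite-dimensional as a
k-vector space. Then reduction commutes with tensor products: the kernel of the canonical surjection
A ⊗_k B ⟶ (A/nilradical A) ⊗_k (B/nilradical B) equals the nilradical of A ⊗_k B, so that this
surjection induces an isomorphism (A ⊗_k B)_red ≅ A_red ⊗_k B_red and in particular A_red ⊗_k B_red
is reduced. -/
theorem result (k : Type u) [Field k]
    [IsAlgClosed k] (A : Type v) [CommRing A] [Algebra k A] [Module.Finite k A]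
    (B : Type w) [CommRing B] [Algebra k B] [Module.Finite k B] :
    RingHom.ker (Algebra.TensorProduct.map (Ideal.Quotient.mkₐ k (nilradical A))
      (Ideal.Quotient.mkₐ k (nilradical B))).toRingHom = nilradical (A ⊗[k] B) := by
  classical
  have hfA : Function.Surjective (Ideal.Quotient.mkₐ k (nilradical A)) :=
    Ideal.Quotient.mkₐ_surjective _ _
  have hfB : Function.Surjective (Ideal.Quotient.mkₐ k (nilradical B)) :=
    Ideal.Quotient.mkₐ_surjective _ _
  have hker := Algebra.TensorProduct.map_ker (Ideal.Quotient.mkₐ k (nilradical A))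
    (Ideal.Quotient.mkₐ k (nilradical B)) hfA hfB
  haveI : IsReduced (A ⧸ nilradical A) :=
    (Ideal.isRadical_iff_quotient_reduced (nilradical A)).mp (Ideal.radical_isRadical _)
  haveI : IsReduced (B ⧸ nilradical B) :=
    (Ideal.isRadical_iff_quotient_reduced (nilradical B)).mp (Ideal.radical_isRadical _)
  haveI : IsReduced ((A ⧸ nilradical A) ⊗[k] (B ⧸ nilradical B)) := isReduced_tensor k _ _
  apply le_antisymm
  · show RingHom.ker (Algebra.TensorProduct.map (Ideal.Quotient.mkₐ k (nilradical A))
      (Ideal.Quotient.mkₐ k (nilradical B))) ≤ _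
    rw [hker, sup_le_iff]
    constructor
    · rw [Ideal.map_le_iff_le_comap]
      intro a ha
      have ha' : a ∈ nilradical A := by
        rw [RingHom.mem_ker] at ha
        exact Ideal.Quotient.eq_zero_iff_mem.mp ha
      rw [Ideal.mem_comap, mem_nilradical]
      exact (mem_nilradical.mp ha').map _
    · rw [Ideal.map_le_iff_le_comap]
      intro b hb
      have hb' : b ∈ nilradical B := by
        rw [RingHom.mem_ker] at hb
        exact Ideal.Quotient.eq_zero_iff_mem.mp hb
      rw [Ideal.mem_comap, mem_nilradical]
      exact (mem_nilradical.mp hb').map _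
  · intro x hx
    rw [RingHom.mem_ker]
    have hnil : IsNilpotent ((Algebra.TensorProduct.map (Ideal.Quotient.mkₐ k (nilradical A))
      (Ideal.Quotient.mkₐ k (nilradical B))).toRingHom x) := (mem_nilradical.mp hx).map _
    exact hnil.eq_zero

end Groth.Agent.S19799
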