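import Groth.Statements.S19801
import Groth.Agent.Helper4.SN155
import Groth.Agent.Helper4.SN13
import Mathlib

set_option autoImplicit false
universe u
open CategoryTheory CategoryTheory.Limits AlgebraicGeometry Asymptotics
open Variety

namespace Groth.Agent.S19801


/-- Let X be a projective variety of dimension d over a field k, i.e. a geometrically integral scheme
proper over k admitting an ample invertible module, with dim X = d; let L be an invertible
O_X-module and F a coherent O_X-module. Then dim_k H^0(X, F ⊗ L^m) = O(m^d) as m → ∞. -/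
theorem result (k : Type u) [Field k] (X : Scheme.{u})
    [X.Over (Spec (CommRingCat.of k))] [IsIntegral X] [GeometricallyIntegral (X ↘ Spec (CommRingCat.of k))]
    [IsProper (X ↘ Spec (CommRingCat.of k))] (hproj : ∃ A : X.Modules, CohB1.IsAmple A)
    (d : ℕ) (hd : topologicalKrullDim X = d) (L : X.Modules) (hL : PicF.IsInvertible L)
    (F : X.Modules) (hF : Coh.IsCoh F) :
    (fun m : ℕ => (Module.finrank k (Coh.HH X (CohB1.tensorMod F (CohB1.tensorPow L m)) 0) : ℝ)) =O[Filter.atTop]
      (fun m : ℕ => (m : ℝ) ^ d) := by

  obtain ⟨C, hC⟩ := Groth.Agent.Helper4.SN.growthLE_of_dimLT k L hL d F hF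
    (Groth.Agent.Helper4.SN.dimLT_of_dim_le d hd.le _)
  refine Asymptotics.IsBigO.of_bound (C : ℝ) ?_
  rw [Filter.eventually_atTop]
  refine ⟨1, fun m hm => ?_⟩
  rw [Real.norm_natCast, norm_pow, Real.norm_natCast]
  exact_mod_cast hC m hm

end Groth.Agent.S19801
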