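import Groth.Statements.S19856
import Mathlib
-- import your own Groth.Agent.* helpers here

set_option autoImplicit false
universe u v
open CAlg

namespace Groth.Agent.S19856

/-- Ring-level form: let O be a discrete valuation ring and G a finite group acting faithfully on O by
ring automorphisms, such that every element of G acts trivially on the residue field of O (that is,
g • a - a lies in the maximal ideal for all a) and such that the order of G is nonzero in the
residue field of O. Then G is cyclic. (The source states this for a finite group of order invertible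
in an algebraically closed field k acting faithfully on a smooth connected k-variety and the
subgroup of elements fixing pointwise a codimension-one irreducible component of the ramification
locus, applied to the local ring at the generic point of that component; it is stated here for an
arbitrary discrete valuation ring with a faithful action. The source also shows that this subgroup
is nontrivial; that geometric part is not stated.) -/
theorem result
    (O : Type u) [CommRing O] [IsDomain O] [IsDiscreteValuationRing O]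
    (G : Type v) [Group G] [Finite G] [MulSemiringAction G O] [FaithfulSMul G O]
    (htriv : ∀ (g : G) (a : O), g • a - a ∈ IsLocalRing.maximalIdeal O)
    (hcard : ((Nat.card G : ℕ) : IsLocalRing.ResidueField O) ≠ 0) :
    IsCyclic G := by
  classical
  obtain ⟨ϖ, hϖ⟩ := IsDiscreteValuationRing.exists_irreducible O
  obtain ⟨Mx, hMx⟩ : ∃ Mx : Ideal O, Mx = IsLocalRing.maximalIdeal O := ⟨_, rfl⟩
  rw [← hMx] at htriv
  have hMspan : Mx = Ideal.span {ϖ} := by rw [hMx]; exact hϖ.maximalIdeal_eq
  have hϖM : ϖ ∈ Mx := by rw [hMspan]; exact Ideal.mem_span_singleton_self ϖ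
  have hϖ0 : ϖ ≠ 0 := hϖ.ne_zero
  have hres : ∀ x y : O, x - y ∈ Mx → IsLocalRing.residue O x = IsLocalRing.residue O y := by
    intro x y h
    rw [← sub_eq_zero, ← map_sub, IsLocalRing.residue_eq_zero_iff, ← hMx]
    exact h
  -- the character
  have hex : ∀ g : G, ∃ u : O, g • ϖ = u * ϖ := by
    intro g
    have h1 : g • ϖ ∈ Mx := by
      have : g • ϖ = (g • ϖ - ϖ) + ϖ := by ring
      rw [this]
      exact Ideal.add_mem _ (htriv g ϖ) hϖM
    rw [hMspan, Ideal.mem_span_singleton'] at h1
    obtain ⟨u, hu⟩ := h1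
    exact ⟨u, hu.symm⟩
  choose c hc using hex
  have hc1 : c 1 = 1 := by
    have := hc 1
    rw [one_smul] at this
    have h2 : (c 1 - 1) * ϖ = 0 := by linear_combination -this
    rcases mul_eq_zero.mp h2 with h | h
    · exact sub_eq_zero.mp h
    · exact absurd h hϖ0
  have hcmul : ∀ g h : G, c (g * h) = (g • c h) * c g := by
    intro g h
    have h1 := hc (g * h)
    rw [mul_smul, hc h, smul_mul', hc g] at h1
    have h2 : (c (g * h) - (g • c h) * c g) * ϖ = 0 := by linear_combination -h1
    rcases mul_eq_zero.mp h2 with h' | h'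
    · exact sub_eq_zero.mp h'
    · exact absurd h' hϖ0
  let χ : G →* IsLocalRing.ResidueField O :=
    { toFun := fun g => IsLocalRing.residue O (c g)
      map_one' := by rw [hc1, map_one]
      map_mul' := by
        intro g h
        rw [hcmul, map_mul, hres _ _ (htriv g (c h)), mul_comm] }
  apply isCyclic_of_injective_ringHom χ
  rw [injective_iff_map_eq_one]
  intro g hg
  -- hg : residue (c g) = 1
  have hcg : c g - 1 ∈ Mx := by
    rw [hMx, ← IsLocalRing.residue_eq_zero_iff, map_sub, map_one, sub_eq_zero]
    exact hg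
  have hϖ2 : g • ϖ - ϖ ∈ Mx ^ 2 := by
    have : g • ϖ - ϖ = (c g - 1) * ϖ := by rw [hc g]; ring
    rw [this, pow_two]
    exact Ideal.mul_mem_mul hcg hϖM
  have hg2 : ∀ a ∈ Mx, g • a - a ∈ Mx ^ 2 := by
    intro a ha
    rw [hMspan, Ideal.mem_span_singleton'] at ha
    obtain ⟨b, rfl⟩ := ha
    have : g • (b * ϖ) - b * ϖ = (g • b - b) * (g • ϖ) + b * (g • ϖ - ϖ) := by
      rw [smul_mul']; ring
    rw [this]
    apply Ideal.add_mem
    · rw [pow_two]
      refine Ideal.mul_mem_mul (htriv g b) ?_
      have : g • ϖ = (g • ϖ - ϖ) + ϖ := by ring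
      rw [this]
      exact Ideal.add_mem _ (htriv g ϖ) hϖM
    · exact Ideal.mul_mem_left _ _ hϖ2
  -- the additive endomorphism δ
  obtain ⟨gL, hgL⟩ : ∃ gL : Module.End ℤ O, gL = DistribMulAction.toModuleEnd ℤ O g := ⟨_, rfl⟩
  have hgLa : ∀ a, gL a = g • a := by intro a; rw [hgL]; rfl
  obtain ⟨δ, hδ⟩ : ∃ δ : Module.End ℤ O, δ = gL - 1 := ⟨_, rfl⟩
  have hδa : ∀ a, δ a = g • a - a := by
    intro a
    rw [hδ, LinearMap.sub_apply, hgLa, Module.End.one_apply]
  have hgM : ∀ b ∈ Mx, g • b ∈ Mx := by
    intro b hb
    have h1 : g • b = b + (g • b - b) := by ring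
    rw [h1]
    exact Mx.add_mem hb (htriv g b)
  have hF2 : ∀ n : ℕ, ∀ a ∈ Mx ^ n, δ a ∈ Mx ^ (n + 1) := by
    intro n
    induction n with
    | zero =>
      intro a _
      rw [hδa, zero_add, pow_one]
      exact htriv g a
    | succ n ih =>
      intro a ha
      rw [pow_succ] at ha
      refine Submodule.mul_induction_on ha ?_ ?_
      · intro x hx y hy
        have : δ (x * y) = δ x * (g • y) + x * δ y := by
          rw [hδa, hδa, hδa, smul_mul']
          ring
        rw [this]
        apply Ideal.add_mem
        · rw [pow_succ (Mx) (n + 1)]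
          exact Ideal.mul_mem_mul (ih x hx) (hgM y hy)
        · have h2 : Mx ^ (n + 1 + 1) = Mx ^ n * Mx ^ 2 := by rw [← pow_add]
          rw [h2, hδa y]
          exact Ideal.mul_mem_mul hx (hg2 y hy)
      · intro x y hx hy
        rw [map_add]
        exact Ideal.add_mem _ hx hy
  -- order
  obtain ⟨m, hm⟩ : ∃ m, m = orderOf g := ⟨_, rfl⟩
  have hmunit : IsUnit ((m : ℕ) : O) := by
    rw [← IsLocalRing.residue_ne_zero_iff_isUnit, map_natCast]
    intro h0
    apply hcard
    obtain ⟨t, ht⟩ : m ∣ Nat.card G := by rw [hm]; exact orderOf_dvd_natCard g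
    rw [ht, Nat.cast_mul, h0, zero_mul]
  have hgLm : gL ^ m = 1 := by
    rw [hgL, ← map_pow, hm, pow_orderOf_eq_one, map_one]
  obtain ⟨P, hP⟩ : ∃ P : Polynomial ℤ, P = (Polynomial.X + 1) ^ m - 1 := ⟨_, rfl⟩
  have haevalP : Polynomial.aeval δ P = 0 := by
    rw [hP, map_sub, map_pow, map_add, Polynomial.aeval_X, map_one, hδ, sub_add_cancel, hgLm, sub_self]
  have hdvd : Polynomial.X ^ 2 ∣ P - Polynomial.C (m : ℤ) * Polynomial.X := by
    rw [Polynomial.X_pow_dvd_iff]
    intro d hd
    rw [hP]
    simp only [Polynomial.coeff_sub, Polynomial.coeff_X_add_one_pow, Polynomial.coeff_one,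
      Polynomial.coeff_C_mul, Polynomial.coeff_X]
    interval_cases d
    · simp
    · simp
  obtain ⟨R, hR⟩ := hdvd
  have hrel : (m : ℤ) • δ + δ ^ 2 * Polynomial.aeval δ R = 0 := by
    have h2 : P = Polynomial.C (m : ℤ) * Polynomial.X + Polynomial.X ^ 2 * R := by
      rw [← hR]; ring
    have := haevalP
    rw [h2, map_add, map_mul, map_mul, map_pow, Polynomial.aeval_X, Polynomial.aeval_C,
      Algebra.algebraMap_eq_smul_one, smul_mul_assoc, one_mul] at this
    exact this
  have hall : ∀ (j : ℕ) (a : O), δ a ∈ Mx ^ j := by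
    intro j
    induction j with
    | zero => intro a; simp
    | succ j ih =>
      intro a
      have h1 := LinearMap.congr_fun hrel a
      rw [LinearMap.add_apply, LinearMap.smul_apply, Module.End.mul_apply, pow_two,
        Module.End.mul_apply, LinearMap.zero_apply] at h1
      have h2 : ((m : ℕ) : O) * δ a = - δ (δ ((Polynomial.aeval δ R) a)) := by
        have : ((m : ℤ) • δ a : O) = ((m : ℕ) : O) * δ a := by
          rw [zsmul_eq_mul]; push_cast; rfl
        rw [← this]
        exact eq_neg_of_add_eq_zero_left h1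
      have h3 : ((m : ℕ) : O) * δ a ∈ Mx ^ (j + 1) := by
        rw [h2]
        exact Ideal.neg_mem_iff _ |>.mpr (hF2 j _ (ih _))
      obtain ⟨v, hv⟩ := hmunit
      have h4 : δ a = (↑v⁻¹ : O) * (((m : ℕ) : O) * δ a) := by
        rw [← hv, ← mul_assoc, Units.inv_mul, one_mul]
      rw [h4]
      exact Ideal.mul_mem_left _ _ h3
  have hfix : ∀ a : O, g • a = a := by
    intro a
    have hmem : δ a ∈ (⨅ i, Mx ^ i : Ideal O) := by
      rw [Ideal.mem_iInf]
      intro n
      exact hall n a
    rw [Ideal.iInf_pow_eq_bot_of_isLocalRing Mx (by rw [hMx]; exact Ideal.IsPrime.ne_top'),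
      Ideal.mem_bot, hδa, sub_eq_zero] at hmem
    exact hmem
  apply FaithfulSMul.eq_of_smul_eq_smul (α := O)
  intro a
  rw [hfix a, one_smul]

end Groth.Agent.S19856
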