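import Groth.Statements.S19881
import Mathlib
import Groth.Agent.Helper7.GrPA4
import Groth.Agent.Helper7.GrHP2
import Groth.Agent.S17772

set_option autoImplicit false
universe u
open GrLC

namespace Groth.Agent.S19881

/-- Let R = ⊕_{n ≥ 0} R_n be a (Noetherian) positively ℤ-graded ring which is standard graded
(irrelevant ideal generated by R_1), with R_0 Artinian, *local with unique homogeneous maximal ideal
m, Cohen–Macaulay of Krull dimension d, and with infinite residue field R/m. If the a-invariant of R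
equals −d, i.e. the end (largest nonzero degree) of the graded local cohomology module H^d_m(R),
computed from any *injective resolution of R in the graded category, is −d, then R is a polynomial
ring over R_0 in d variables of degree one: there is an R_0-algebra isomorphism R_0[T_1, …, T_d] ≅ R
mapping every variable into R_1. (The published statement asserts the equivalence of a(R) = −d with
R ≅ R_0[T_1, …, T_d] without the residue-field hypothesis; its argument treats the case of an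
infinite residue field, which is the case stated here, and only the forward implication is stated.) -/
theorem result (R : Type u) [CommRing R]
    [LocCoh.IsCohenMacaulayRing R] (𝒜 : ℤ → AddSubgroup R) [GradedRing 𝒜]
    (hpos : ∀ n : ℤ, n < 0 → 𝒜 n = ⊥)
    (hstd : Ideal.span (⋃ n ∈ Set.Ioi (0 : ℤ), (𝒜 n : Set R)) = Ideal.span ((𝒜 1 : AddSubgroup R) : Set R))
    [IsArtinianRing (GrLC.deg0 𝒜)] (m : HomogeneousIdeal 𝒜) (hm : GrLC.IsStarLocal 𝒜 m)
    (hinf : Infinite (R ⧸ m.toIdeal)) (d : ℕ) (hd : ringKrullDim R = d) (I : GrLC.StarInjRes 𝒜 𝒜)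
    (ha : GrLC.endDeg (I.Hgr m d) = (((-(d : ℤ) : ℤ) : WithTop ℤ) : WithBot (WithTop ℤ))) :
    ∃ e : MvPolynomial (Fin d) (GrLC.deg0 𝒜) ≃ₐ[GrLC.deg0 𝒜] R, ∀ t : Fin d, e (MvPolynomial.X t) ∈ 𝒜 1 := by
  classical
  have hN : IsNoetherianRing R := inferInstance
  let a : HomogeneousIdeal 𝒜 := Groth.Agent.Helper7.GrHt.irr 𝒜
  have ha' : a.toIdeal = Ideal.span (⋃ n ∈ Set.Ioi (0 : ℤ), (𝒜 n : Set R)) := rfl
  let X : GrLC.GMod.{u} 𝒜 := GrLC.GMod.of 𝒜 R 𝒜
  have hfX : Module.Finite R X.carrier := (inferInstance : Module.Finite R R)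
  obtain ⟨P, N, hPN⟩ := Groth.Agent.Helper7.GrEC.exists_hilbPoly 𝒜 hpos a ha' (ha'.trans hstd) X
  have hP : ∃ N : ℤ, ∀ n : ℤ, N ≤ n → P.eval (n : ℚ) =
      ((Module.length (GrLC.deg0 𝒜) (GrLC.comp 𝒜 𝒜 n)).toNat : ℚ) := ⟨N, hPN⟩
  have hdim : Module.supportDim R X.carrier ≤ (d : WithBot ℕ∞) := by
    have h1 : Module.supportDim R R = ringKrullDim R := Module.supportDim_self_eq_ringKrullDim R
    exact le_of_eq (h1.trans hd)
  have hdeg : P.degree < (d : WithBot ℕ) :=
    Groth.Agent.Helper7.GrEC.degree_lt_of_supportDim_le 𝒜 hpos a ha' d X P ⟨N, hPN⟩ hdim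
  have hend := Groth.Agent.S17772.result R 𝒜 hpos hstd m hm d hd I P hP
  have hall : ∀ n : ℤ, -(d : ℤ) < n → P.eval (n : ℚ) =
      ((Module.length (GrLC.deg0 𝒜) (GrLC.comp 𝒜 𝒜 n)).toNat : ℚ) := by
    intro n hn
    by_contra hne
    have h1 : ((n : WithTop ℤ) : WithBot (WithTop ℤ)) ≤ GrLC.endDeg (I.Hgr m d) := by
      rw [hend]
      exact le_iSup₂ (f := fun (n : ℤ)
        (_ : P.eval (n : ℚ) ≠ ((Module.length (GrLC.deg0 𝒜) (GrLC.comp 𝒜 𝒜 n)).toNat : ℚ)) =>
          ((n : WithTop ℤ) : WithBot (WithTop ℤ))) n hne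
    rw [ha] at h1
    have h2 : n ≤ -(d : ℤ) := by exact_mod_cast h1
    omega
  exact Groth.Agent.Helper7.GrPA.main 𝒜 hpos m hm hstd hinf d hd I P hdeg hall

end Groth.Agent.S19881
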