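import Groth.Statements.S19891
import Mathlib
import Groth.Agent.Helper9.SpecClosure
-- import your own Groth.Agent.* helpers here

set_option autoImplicit false
universe u
open CategoryTheory AlgebraicGeometry
open ValCrit

namespace Groth.Agent.S19891

open IsLocalRing in
theorem mem_range_diagonal {X Y Z : Scheme.{u}} (h : Z ⟶ Y) (f : Y ⟶ X)
    (hRC : ∀ (z : ↥Z) (R : ValuationSubring ↑(Z.residueField z)) (φ : Spec (CommRingCat.of ↥R) ⟶ X),
        Spec.map (CommRingCat.ofHom R.subtype) ≫ φ = Z.fromSpecResidueField z ≫ h ≫ f →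
        ∀ φ₁ φ₂ : Spec (CommRingCat.of ↥R) ⟶ Y,
          Spec.map (CommRingCat.ofHom R.subtype) ≫ φ₁ = Z.fromSpecResidueField z ≫ h → φ₁ ≫ f = φ →
          Spec.map (CommRingCat.ofHom R.subtype) ≫ φ₂ = Z.fromSpecResidueField z ≫ h → φ₂ ≫ f = φ →
          φ₁ = φ₂)
    (z : Z) (y : (Limits.pullback f f : Scheme.{u})) (hs : (h ≫ Limits.pullback.diagonal f) z ⤳ y) :
    y ∈ Set.range (Limits.pullback.diagonal f) := by
  let g : Z ⟶ Limits.pullback f f := h ≫ Limits.pullback.diagonal f
  let stalk_y_to_residue_x' : (Limits.pullback f f).presheaf.stalk y ⟶ Z.residueField z :=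
    (Limits.pullback f f).presheaf.stalkSpecializes hs ≫ g.stalkMap z ≫ Z.residue z
  obtain ⟨A, hA, hA_local⟩ := exists_factor_valuationRing stalk_y_to_residue_x'.hom
  let stalk_y_to_A : (Limits.pullback f f).presheaf.stalk y ⟶ .of A :=
    CommRingCat.ofHom (stalk_y_to_residue_x'.hom.codRestrict _ hA)
  have w : Z.fromSpecResidueField z ≫ g =
      Spec.map (CommRingCat.ofHom (algebraMap A (Z.residueField z))) ≫
        Spec.map stalk_y_to_A ≫ (Limits.pullback f f).fromSpecStalk y := by
    rw [Scheme.fromSpecResidueField, Category.assoc, ← Scheme.SpecMap_stalkMap_fromSpecStalk,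
      ← Scheme.SpecMap_stalkSpecializes_fromSpecStalk hs]
    simp_rw [← Spec.map_comp_assoc]
    rfl
  let l : Spec (CommRingCat.of A) ⟶ Limits.pullback f f :=
    Spec.map stalk_y_to_A ≫ (Limits.pullback f f).fromSpecStalk y
  have w' : Spec.map (CommRingCat.ofHom A.subtype) ≫ l =
      Z.fromSpecResidueField z ≫ h ≫ Limits.pullback.diagonal f := w.symm
  have e12 : l ≫ Limits.pullback.fst f f = l ≫ Limits.pullback.snd f f := by
    refine hRC z A (l ≫ Limits.pullback.fst f f ≫ f) ?_ _ _ ?_ ?_ ?_ ?_
    · rw [← Category.assoc, w']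
      simp
    · rw [← Category.assoc, w']
      simp
    · simp
    · rw [← Category.assoc, w']
      simp
    · simp [Limits.pullback.condition]
  have hl : l = (l ≫ Limits.pullback.fst f f) ≫ Limits.pullback.diagonal f := by
    apply Limits.pullback.hom_ext
    · simp
    · simp [e12]
  refine ⟨(l ≫ Limits.pullback.fst f f) (closedPoint A), ?_⟩
  have h1 : l (closedPoint A) = y := by
    change ((Limits.pullback f f).fromSpecStalk y) ((Spec.map stalk_y_to_A) (closedPoint A)) = y
    have : Spec.map stalk_y_to_A (closedPoint A) =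
        closedPoint ((Limits.pullback f f).presheaf.stalk y) :=
      comap_closedPoint (S := A) (stalk_y_to_residue_x'.hom.codRestrict A.toSubring hA)
    rw [this, (Limits.pullback f f).fromSpecStalk_closedPoint]
  refine Eq.trans ?_ h1
  exact (congrArg (fun t : Spec (CommRingCat.of A) ⟶ Limits.pullback f f => t (closedPoint A)) hl).symm

/-- Let h : Z → Y and f : Y → X be morphisms of quasi-compact quasi-separated schemes, with h dominant.
Then f is separated if and only if the following refined uniqueness criterion holds: for every point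
z of Z, every valuation ring R of the residue field κ(z) and every morphism φ : Spec R → X whose
restriction to Spec κ(z) is the canonical morphism Spec κ(z) → Z → Y → X, any two morphisms Spec R →
Y lying over φ and restricting to Spec κ(z) → Z → Y on the generic point coincide. (The published
statement does not require h to be dominant; its proof uses that every point of Y generalises to a
point of h(Z), and for Z empty the criterion holds whatever f is, so dominance of h is assumed
here.) -/
theorem result {X Y Z : Scheme.{u}} (h : Z ⟶ Y) (f : Y ⟶ X)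
    [CompactSpace ↥Z] [QuasiSeparatedSpace ↥Z] [CompactSpace ↥Y] [QuasiSeparatedSpace ↥Y]
    [CompactSpace ↥X] [QuasiSeparatedSpace ↥X] (hd : DenseRange h.base) :
    IsSeparated f ↔
      ∀ (z : ↥Z) (R : ValuationSubring ↑(Z.residueField z)) (φ : Spec (CommRingCat.of ↥R) ⟶ X),
        Spec.map (CommRingCat.ofHom R.subtype) ≫ φ = Z.fromSpecResidueField z ≫ h ≫ f →
        ∀ φ₁ φ₂ : Spec (CommRingCat.of ↥R) ⟶ Y,
          Spec.map (CommRingCat.ofHom R.subtype) ≫ φ₁ = Z.fromSpecResidueField z ≫ h → φ₁ ≫ f = φ →
          Spec.map (CommRingCat.ofHom R.subtype) ≫ φ₂ = Z.fromSpecResidueField z ≫ h → φ₂ ≫ f = φ →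
          φ₁ = φ₂ := by
  constructor
  · intro hsep z R φ hφ φ₁ φ₂ h1 h1' h2 h2'
    have hU := IsSeparated.valuativeCriterion f
    let S : ValuativeCommSq f :=
      { R := R, K := Z.residueField z, i₁ := Z.fromSpecResidueField z ≫ h, i₂ := φ,
        commSq := ⟨by rw [Category.assoc]; exact hφ.symm⟩ }
    have hsub : Subsingleton S.commSq.LiftStruct := hU S
    let L₁ : S.commSq.LiftStruct := ⟨φ₁, h1, h1'⟩
    let L₂ : S.commSq.LiftStruct := ⟨φ₂, h2, h2'⟩
    exact congrArg CommSq.LiftStruct.l (Subsingleton.elim L₁ L₂)
  · intro hRC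
    have hqs : QuasiSeparated f := inferInstance
    have hqsP : QuasiSeparatedSpace ↥(Limits.pullback f f) :=
      quasiSeparatedSpace_of_quasiSeparated (Limits.pullback.fst f f)
    have hqc : QuasiCompact (h ≫ Limits.pullback.diagonal f) := inferInstance
    have hclosed : IsClosed (Set.range (Limits.pullback.diagonal f)) := by
      rw [← closure_subset_iff_isClosed]
      intro y hy
      have hy' : y ∈ closure (Set.range (h ≫ Limits.pullback.diagonal f)) := by
        have h1 : Set.range (Limits.pullback.diagonal f) ⊆
            closure (Set.range (h ≫ Limits.pullback.diagonal f)) := by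
          rintro _ ⟨y₀, rfl⟩
          have h2 : y₀ ∈ closure (Set.range h) := hd.closure_eq ▸ Set.mem_univ y₀
          have h3 := image_closure_subset_closure_image (Limits.pullback.diagonal f).continuous
            (Set.mem_image_of_mem _ h2)
          rwa [← Set.range_comp] at h3
        exact closure_minimal h1 isClosed_closure hy
      obtain ⟨z, hz⟩ := Groth.Agent.Helper9.SpecClosure.exists_specializes_of_mem_closure_range
        (h ≫ Limits.pullback.diagonal f) y hy'
      exact mem_range_diagonal h f hRC z y hz
    exact ⟨IsClosedImmersion.of_isPreimmersion _ hclosed⟩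

end Groth.Agent.S19891
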