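import Groth.Statements.S19895
import Mathlib
import Groth.Agent.Helper9.Verlinde
import Groth.Agent.Helper9.Verlinde2
import Groth.Agent.Helper9.Verlinde3
-- import your own Groth.Agent.* helpers here

set_option autoImplicit false
open Complex
open VerlindeComb

namespace Groth.Agent.S19895

/-- Fix integers r ≥ 2 and k ≥ 1, and two partitions λ, λ' with k ≥ λ_1 ≥ ⋯ ≥ λ_{r-1} ≥ λ_r = 0 and k ≥
λ'_1 ≥ ⋯ ≥ λ'_{r-1} ≥ λ'_r = 0 such that λ is not equivalent to the dual partition λ'* = (k − λ'_r,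
…, k − λ'_1), two integer vectors being equivalent when their difference is a constant vector (a, …,
a). For an integer vector v with r + k > v_1 > ⋯ > v_{r-1} > v_r = 0 put z(v)_j = exp(2πi v_j / (r +
k)), let S_μ(v) = det(z(v)_j^{μ_i + r − i}) / det(z(v)_j^{r − i}) be the Schur value and P(v) =
∏_{i<j} (2 sin(π (v_i − v_j)/(r + k)))². Then the sum over all such v of exp(−2πi (|λ| + |λ'|) (v_1
+ ⋯ + v_r) / (r (r + k))) · S_λ(v) · S_{λ'}(v) · P(v) vanishes; that is, the genus-zero Verlinde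
number of rank r, degree 0 and level k with two parabolic points of types λ, λ' is zero. (Only the
vanishing case is stated; the complementary case, where the number equals 1, is not part of this
statement. The source allows r = 1, where the non-equivalence hypothesis cannot hold.) Indices are
0-based below: lam i stands for λ_{i+1}. -/
theorem result (r k : ℕ) (hr : 2 ≤ r)
    (hk : 1 ≤ k) (lam lam' : Fin r → ℕ) (hlam : Antitone lam) (hlamk : ∀ i, lam i ≤ k)
    (hlam0 : ∀ i : Fin r, (i : ℕ) = r - 1 → lam i = 0)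
    (hlam' : Antitone lam') (hlam'k : ∀ i, lam' i ≤ k) (hlam'0 : ∀ i : Fin r, (i : ℕ) = r - 1 → lam' i = 0)
    (hne : ¬ ∃ a : ℤ, ∀ i, (lam i : ℤ) - ((k - lam' (Fin.rev i) : ℕ) : ℤ) = a)
    (z : (Fin r → ℕ) → Fin r → ℂ)
    (hz : ∀ v j, z v j = Complex.exp (2 * Real.pi * Complex.I * (v j : ℂ) / ((r : ℂ) + k)))
    (S : (Fin r → ℕ) → (Fin r → ℕ) → ℂ)
    (hS : ∀ μ v, S μ v = (Matrix.of fun i j : Fin r => z v j ^ (μ i + (r - 1 - (i : ℕ)))).det /
        (Matrix.of fun i j : Fin r => z v j ^ (r - 1 - (i : ℕ))).det)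
    (P : (Fin r → ℕ) → ℝ)
    (hP : ∀ v, P v = ∏ p ∈ (Finset.univ : Finset (Fin r × Fin r)).filter (fun p => p.1 < p.2),
        ((2 : ℝ) * Real.sin (Real.pi * ((v p.1 : ℝ) - (v p.2 : ℝ)) / ((r : ℝ) + k))) ^ 2) :
    (∑ v ∈ (Finset.univ : Finset (Fin r → Fin (r + k))).filter
        (fun v : Fin r → Fin (r + k) => StrictAnti v ∧ ∀ i : Fin r, (i : ℕ) = r - 1 → (v i : ℕ) = 0),
      Complex.exp (-(2 * Real.pi * Complex.I * (((∑ i, lam i) + (∑ i, lam' i) : ℕ) : ℂ) *
          ((∑ j, (v j : ℕ) : ℕ) : ℂ) / ((r : ℂ) * ((r : ℂ) + k)))) *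
        S lam (fun j => (v j : ℕ)) * S lam' (fun j => (v j : ℕ)) * (P (fun j => (v j : ℕ)) : ℂ)) = 0 := by
  have hr1 : 1 ≤ r := by omega
  have hN : 1 ≤ r + k := by omega
  have hr0 : (r : ℂ) ≠ 0 := by exact_mod_cast (by omega : r ≠ 0)
  have hNc : (r : ℂ) + k ≠ 0 := by exact_mod_cast (by omega : r + k ≠ 0)
  have hbSA : StrictAnti (fun i : Fin r => lam i + (r - 1 - (i : ℕ))) := by
    intro i j hij
    have h1 := hlam hij.le
    have h2 : (i : ℕ) < j := hij
    have h3 := j.isLt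
    show lam j + (r - 1 - (j : ℕ)) < lam i + (r - 1 - (i : ℕ))
    omega
  have hbN : ∀ i : Fin r, (fun i : Fin r => lam i + (r - 1 - (i : ℕ))) i < r + k := by
    intro i
    have h1 := hlamk i
    have h3 := i.isLt
    show lam i + (r - 1 - (i : ℕ)) < r + k
    omega
  have hb2SA : StrictAnti (fun i : Fin r => (k - lam' (Fin.rev i)) + (r - 1 - (i : ℕ))) := by
    intro i j hij
    have h1 : lam' (Fin.rev i) ≤ lam' (Fin.rev j) := hlam' (Fin.rev_le_rev.mpr hij.le)
    have h2 : (i : ℕ) < j := hij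
    have h3 := j.isLt
    have h4 := hlam'k (Fin.rev j)
    show (k - lam' (Fin.rev j)) + (r - 1 - (j : ℕ)) < (k - lam' (Fin.rev i)) + (r - 1 - (i : ℕ))
    omega
  have hb2N : ∀ i : Fin r, (fun i : Fin r => (k - lam' (Fin.rev i)) + (r - 1 - (i : ℕ))) i < r + k := by
    intro i
    have h3 := i.isLt
    show (k - lam' (Fin.rev i)) + (r - 1 - (i : ℕ)) < r + k
    omega
  have hne' : ¬ ∃ a : ℤ, ∀ i : Fin r,
      (((fun i : Fin r => lam i + (r - 1 - (i : ℕ))) i : ℕ) : ℤ) -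
        (((fun i : Fin r => (k - lam' (Fin.rev i)) + (r - 1 - (i : ℕ))) i : ℕ) : ℤ) = a := by
    rintro ⟨a, ha⟩
    apply hne
    refine ⟨a, fun i => ?_⟩
    have h1 := ha i
    simp only [] at h1
    push_cast at h1 ⊢
    linarith
  have hcore := Groth.Agent.Helper9.Verlinde3.core' hr1 hN _ _ hbSA hbN hb2SA hb2N hne'
  rw [← hcore]
  refine Finset.sum_congr rfl fun v hv => ?_
  rw [Finset.mem_filter] at hv
  have hvSA : StrictAnti (fun j => (v j : ℕ)) := fun a c hac => hv.2.1 hac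
  have hvN : ∀ i, (fun j => (v j : ℕ)) i < r + k := fun i => (v i).isLt
  have hzz : z (fun j => (v j : ℕ)) = fun j => Groth.Agent.Helper9.Verlinde.zeta (r + k) ^ (v j : ℕ) := by
    funext j
    rw [hz]
    unfold Groth.Agent.Helper9.Verlinde.zeta
    rw [← Complex.exp_nat_mul]
    congr 1
    push_cast
    ring
  have hSl : ∀ μ : Fin r → ℕ, S μ (fun j => (v j : ℕ)) =
      Groth.Agent.Helper9.Verlinde2.alt (fun j => Groth.Agent.Helper9.Verlinde.zeta (r + k) ^ (v j : ℕ))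
        (fun i => μ i + (r - 1 - (i : ℕ))) /
      Groth.Agent.Helper9.Verlinde2.alt (fun j => Groth.Agent.Helper9.Verlinde.zeta (r + k) ^ (v j : ℕ))
        (fun i => r - 1 - (i : ℕ)) := by
    intro μ
    rw [hS, hzz]
    rfl
  have hPv : (P (fun j => (v j : ℕ)) : ℂ) =
      Groth.Agent.Helper9.Verlinde.vdm (r + k) (fun j => (v j : ℕ)) *
        (starRingEnd ℂ) (Groth.Agent.Helper9.Verlinde.vdm (r + k) (fun j => (v j : ℕ))) := by
    rw [Groth.Agent.Helper9.Verlinde.vdm_mul_conj, hP]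
    congr 1
    refine Finset.prod_congr rfl fun p _ => ?_
    rw [Nat.cast_add]
  have hterm := Groth.Agent.Helper9.Verlinde3.term_dual (k := k) hr1 (fun j => (v j : ℕ)) hvSA hvN lam lam' hlam'k
  rw [hSl lam, hSl lam', hPv]
  rw [mul_assoc, mul_assoc, ← mul_assoc (_ / _) (_ / _), hterm]
  unfold Groth.Agent.Helper9.Verlinde3.G
  rw [← mul_assoc, ← mul_assoc]
  congr 2
  -- the phases
  have hSb : ((∑ j : Fin r, (lam j + (r - 1 - (j : ℕ))) : ℕ) : ℂ) =
      ((∑ i, lam i : ℕ) : ℂ) + ((∑ j : Fin r, (r - 1 - (j : ℕ)) : ℕ) : ℂ) := by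
    rw [Finset.sum_add_distrib]
    push_cast
    ring
  have hSb2 : ((∑ j : Fin r, ((k - lam' (Fin.rev j)) + (r - 1 - (j : ℕ))) : ℕ) : ℂ) =
      (r : ℂ) * k - ((∑ i, lam' i : ℕ) : ℂ) + ((∑ j : Fin r, (r - 1 - (j : ℕ)) : ℕ) : ℂ) := by
    have h1 : (∑ j : Fin r, (k - lam' (Fin.rev j))) = ∑ j : Fin r, (k - lam' j) :=
      Equiv.sum_comp (Fin.revPerm : Equiv.Perm (Fin r)) (fun j => k - lam' j)
    have h2 : (∑ j : Fin r, (k - lam' j)) + ∑ j, lam' j = r * k := by
      rw [← Finset.sum_add_distrib]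
      have h3 : ∀ j ∈ (Finset.univ : Finset (Fin r)), (k - lam' j) + lam' j = k := by
        intro j _
        have := hlam'k j
        omega
      rw [Finset.sum_congr rfl h3]
      simp
    rw [Finset.sum_add_distrib, h1]
    have h4 : ((∑ j : Fin r, (k - lam' j) : ℕ) : ℂ) = (r : ℂ) * k - ((∑ i, lam' i : ℕ) : ℂ) := by
      rw [eq_sub_iff_add_eq]
      exact_mod_cast h2
    push_cast at h4 ⊢
    rw [h4]
  beta_reduce
  rw [Finset.prod_pow_eq_pow_sum, ← pow_mul]
  unfold Groth.Agent.Helper9.Verlinde.zeta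
  rw [← Complex.exp_nat_mul, ← Complex.exp_nat_mul, ← Complex.exp_add]
  congr 1
  rw [hSb, hSb2]
  push_cast
  field_simp
  ring

end Groth.Agent.S19895
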