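import Groth.Statements.S19898
import Groth.Agent.Helper4.TopExt
import Mathlib

set_option autoImplicit false
universe u
open scoped TensorProduct
open SymTen

namespace Groth.Agent.S19898


/-- Let R be a commutative ring and R' a commutative R-algebra that is free of rank d as an R-module.
Let (C, γ) be the degree-d divided power algebra of R' over R, given as an R-algebra C with a
multiplicative homogeneous degree-d polynomial law γ : R' → C that is universal among such laws; let
φ : C → T^d_R(R') be the R-algebra homomorphism into the d-fold tensor power whose composite with γ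
is the law x ↦ x ⊗ ⋯ ⊗ x, and π : C → R the R-algebra homomorphism whose composite with γ is the
norm law of R' over R. Let T^d_R(R') act on itself factor by factor and let I_d ⊂ T^d_R(R') be the
R-span of the pure tensors with two equal factors, so that T^d_R(R')/I_d is the top exterior power
Λ^d_R(R'), free of rank one. Then for every c ∈ C and every x ∈ T^d_R(R') the element φ(c)·x − π(c)
x lies in I_d: the symmetric tensor φ(c) acts on Λ^d_R(R') as multiplication by the scalar π(c),
i.e. the homomorphism TS^d_R(R') → R given by the action on the top exterior power, composed with φ,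
equals π. (The source states this for R' finite locally free of constant rank d; the free case is
the affine-local form.) -/
theorem result (R : Type u) [CommRing R] (R' : Type u) [CommRing R']
    [Algebra R R'] [Module.Free R R'] [Module.Finite R R'] (d : ℕ) (hd : Module.finrank R R' = d)
    {C : Type u} [CommRing C] [Algebra R C] (γ : PolLaw.MulLaw R R' C d) (hγ : PolLaw.IsGammaD γ)
    (φ : C →ₐ[R] (⨂[R] _ : Fin d, R')) (hφ : PolLaw.MulLaw.postcomp φ γ = SymTen.tpowLaw R R' d)
    (π : C →ₐ[R] R) (hπ : PolLaw.MulLaw.postcomp π γ = PolLaw.normLaw R R' d hd)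
    (c : C) (x : ⨂[R] _ : Fin d, R') :
    SymTen.tpowAct R R' R' d (φ c) x - π c • x ∈ SymTen.altSpan R R' d := by

  classical
  rcases subsingleton_or_nontrivial R with hR | hR
  · have : Subsingleton (⨂[R] _ : Fin d, R') := Module.subsingleton R _
    rw [Subsingleton.elim (SymTen.tpowAct R R' R' d (φ c) x - π c • x) 0]
    exact Submodule.zero_mem _
  let b : Module.Basis (Fin d) R R' := Module.finBasisOfFinrankEq R R' hd
  rw [Groth.Agent.Helper4.TopExt.tpowAct_eq_mul]
  apply Groth.Agent.Helper4.TopExt.mem_altSpan_of_D_eq_zero b
  rw [map_sub, map_smul, sub_eq_zero]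
  induction x using PiTensorProduct.induction_on with
  | smul_tprod r y =>
    have key : (Groth.Agent.Helper4.TopExt.Dy b y) ∘ₗ φ.toLinearMap =
        (b.det y • (LinearMap.id : R →ₗ[R] R)) ∘ₗ π.toLinearMap := by
      apply Groth.Agent.Helper4.TopExt.linear_ext γ hγ
      apply Groth.Agent.Helper4.PolLawExt.ext_of_mv
      intro n
      funext z
      have e1 : φ.toLinearMap.lTensor (MvPolynomial (Fin n) R) (γ.law.toFun' (MvPolynomial (Fin n) R) z) =
          (SymTen.tpowLaw R R' d).law.toFun' (MvPolynomial (Fin n) R) z :=
        congrArg (fun F => F.law.toFun' (MvPolynomial (Fin n) R) z) hφ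
      have e2 : π.toLinearMap.lTensor (MvPolynomial (Fin n) R) (γ.law.toFun' (MvPolynomial (Fin n) R) z) =
          (PolLaw.normLaw R R' d hd).law.toFun' (MvPolynomial (Fin n) R) z :=
        congrArg (fun F => F.law.toFun' (MvPolynomial (Fin n) R) z) hπ
      show ((Groth.Agent.Helper4.TopExt.Dy b y) ∘ₗ φ.toLinearMap).lTensor (MvPolynomial (Fin n) R)
          (γ.law.toFun' (MvPolynomial (Fin n) R) z) =
        ((b.det y • (LinearMap.id : R →ₗ[R] R)) ∘ₗ π.toLinearMap).lTensor (MvPolynomial (Fin n) R)
          (γ.law.toFun' (MvPolynomial (Fin n) R) z)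
      rw [LinearMap.lTensor_comp_apply, LinearMap.lTensor_comp_apply, e1, e2,
        Groth.Agent.Helper4.TopExt.law_eq, PolLaw.normLaw_apply]
      simp only [LinearMap.lTensor_tmul, LinearMap.smul_apply, LinearMap.id_apply, smul_eq_mul, mul_one]
    have h := LinearMap.congr_fun key c
    simp only [LinearMap.coe_comp, Function.comp_apply, AlgHom.toLinearMap_apply,
      Groth.Agent.Helper4.TopExt.Dy_apply, LinearMap.smul_apply, LinearMap.id_apply] at h
    rw [mul_smul_comm, map_smul, map_smul, h, Groth.Agent.Helper4.TopExt.D_tprod]
    simp only [smul_eq_mul]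
    ring
  | add x y hx hy => rw [mul_add, map_add, map_add, smul_add, hx, hy]

end Groth.Agent.S19898
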