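import Groth.Statements.S19904
import Mathlib
-- import your own Groth.Agent.* helpers here

set_option autoImplicit false
universe u v
open CategoryTheory
open ArtFun

namespace Groth.Agent.S19904

/-- For functors F, G, G' on Artinian local Λ-algebras with residue field k and morphisms φ : F → G, ψ :
G' → G: if φ is smooth then the base change F ×_G G' → G' (second projection of the fibre product of
functors) is smooth. -/
theorem result {Λ : Type u} {k : Type u} [CommRing Λ] [Field k] [Algebra Λ k]
    [IsNoetherianRing Λ] [Module.Finite Λ k]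
    {F G G' : ArtFun.Art Λ k ⥤ Type v} (φ : F ⟶ G) (ψ : G' ⟶ G) (hφ : ArtFun.IsSmooth φ) :
    ArtFun.IsSmooth (Limits.pullback.snd φ ψ) := by
  intro B A μ hμ
  rintro ⟨⟨x, y'⟩, h⟩
  change (Limits.pullback.snd φ ψ).app A x = G'.map μ y' at h
  have hP := IsPullback.of_hasPullback φ ψ
  have hPA := hP.app A
  have hPB := hP.app B
  -- the element of F(A)
  have e₁ : φ.app A ((Limits.pullback.fst φ ψ).app A x) = G.map μ (ψ.app B y') := by
    have := ConcreteCategory.congr_hom hPA.w x
    have h2 : (ψ.app A) ((Limits.pullback.snd φ ψ).app A x) = G.map μ (ψ.app B y') := by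
      rw [h]
      exact NatTrans.naturality_apply ψ μ y'
    rw [← h2]
    exact this
  obtain ⟨z₁, hz₁⟩ := hφ μ hμ ⟨((Limits.pullback.fst φ ψ).app A x, ψ.app B y'), e₁⟩
  have hz₁a : F.map μ z₁ = (Limits.pullback.fst φ ψ).app A x := congrArg (fun t => t.1.1) hz₁
  have hz₁b : φ.app B z₁ = ψ.app B y' := congrArg (fun t => t.1.2) hz₁
  obtain ⟨z, hz, hz'⟩ := CategoryTheory.Limits.Types.exists_of_isPullback hPB z₁ y' hz₁b
  refine ⟨z, ?_⟩
  apply Subtype.ext
  apply Prod.ext
  · change (Limits.pullback φ ψ).map μ z = x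
    apply CategoryTheory.Limits.Types.ext_of_isPullback hPA
    · rw [← hz₁a, ← hz]
      exact NatTrans.naturality_apply (Limits.pullback.fst φ ψ) μ z
    · rw [h, ← hz']
      exact NatTrans.naturality_apply (Limits.pullback.snd φ ψ) μ z
  · exact hz'

end Groth.Agent.S19904
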