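import Groth.Statements.S19919
import Mathlib
-- import your own Groth.Agent.* helpers here

set_option autoImplicit false
universe u v w
open DPow

namespace Groth.Agent.S19919

/-- Let R be a commutative ring and P = R⟨X_1, …, X_N⟩ the divided power polynomial algebra over R,
presented concretely as an R-algebra P with elements x i n = X_i^[n] (i < N, n ≥ 0) such that
X_i^[0] = 1, X_i^[n] · X_i^[m] = C(n+m, n) X_i^[n+m], and the monomials ∏_i X_i^[e_i] form an
R-basis of P; let P_+ be the ideal generated by the X_i^[n] with n ≥ 1 and γ the divided power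
structure on P_+ with γ_n(X_i^[1]) = X_i^[n]. Then (P, P_+, γ) is the free divided power R-algebra
on N variables: for every commutative R-algebra S, every ideal J of S with a divided power structure
δ and every family s_1, …, s_N of elements of J there is exactly one R-algebra homomorphism φ : P →
S that is a divided power morphism from (P_+, γ) to (J, δ) and satisfies φ(X_i^[1]) = s_i for all i. -/
theorem result (R : Type u) [CommRing R] (N : ℕ)
    (P : Type v) [CommRing P] [Algebra R P] (x : Fin N → ℕ → P)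
    (hx0 : ∀ i, x i 0 = 1)
    (hxmul : ∀ i n m, x i n * x i m = ((n + m).choose n : P) * x i (n + m))
    (b : Module.Basis (Fin N →₀ ℕ) R P) (hb : ∀ e : Fin N →₀ ℕ, b e = e.prod (fun i k => x i k))
    (γ : DividedPowers (Ideal.span {y : P | ∃ (i : Fin N) (n : ℕ), 1 ≤ n ∧ y = x i n}))
    (hγ : ∀ (i : Fin N) (n : ℕ), γ.dpow n (x i 1) = x i n)
    (S : Type w) [CommRing S] [Algebra R S] (J : Ideal S) (δ : DividedPowers J)
    (s : Fin N → S) (hs : ∀ i, s i ∈ J) :
    ∃! φ : P →ₐ[R] S, γ.IsDPMorphism δ φ.toRingHom ∧ ∀ i, φ (x i 1) = s i := by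
  classical
  have hdp0 : ∀ i, δ.dpow 0 (s i) = 1 := fun i => δ.dpow_zero (hs i)
  -- basis elements as products over `Fin N`
  have hb' : ∀ e : Fin N →₀ ℕ, b e = ∏ i, x i (e i) := by
    intro e
    rw [hb, Finsupp.prod_fintype _ _ (fun i => hx0 i)]
  have hbsingle : ∀ i k, b (Finsupp.single i k) = x i k := by
    intro i k
    rw [hb, Finsupp.prod_single_index (hx0 i)]
  have hbmul : ∀ e e' : Fin N →₀ ℕ, b e * b e' =
      ((∏ i, ((e i + e' i).choose (e i)) : ℕ) : P) * b (e + e') := by
    intro e e'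
    rw [hb', hb', hb', ← Finset.prod_mul_distrib, Nat.cast_prod, ← Finset.prod_mul_distrib]
    apply Finset.prod_congr rfl
    intro i _
    rw [hxmul, Finsupp.add_apply]
  -- the linear map
  let φ₀ : P →ₗ[R] S := b.constr R (fun e => ∏ i, δ.dpow (e i) (s i))
  have hφ₀ : ∀ e, φ₀ (b e) = ∏ i, δ.dpow (e i) (s i) := fun e => b.constr_basis R _ e
  have hone : φ₀ 1 = 1 := by
    have h1 : (1 : P) = b 0 := by
      rw [hb']; simp [hx0]
    rw [h1, hφ₀]
    simp [hdp0]
  have hmul : ∀ a c, φ₀ (a * c) = φ₀ a * φ₀ c := by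
    have : (LinearMap.mul R P).compr₂ φ₀ = (LinearMap.mul R S).compl₁₂ φ₀ φ₀ := by
      apply LinearMap.ext_basis b b
      intro e e'
      simp only [LinearMap.compr₂_apply, LinearMap.mul_apply', LinearMap.compl₁₂_apply]
      rw [hbmul, ← nsmul_eq_mul, map_nsmul, hφ₀, hφ₀, hφ₀, nsmul_eq_mul, Nat.cast_prod,
        ← Finset.prod_mul_distrib, ← Finset.prod_mul_distrib]
      apply Finset.prod_congr rfl
      intro i _
      rw [δ.mul_dpow (hs i), Finsupp.add_apply]
    intro a c
    exact LinearMap.congr_fun₂ this a c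
  let φ : P →ₐ[R] S := AlgHom.ofLinearMap φ₀ hone hmul
  have hφx : ∀ i k, φ (x i k) = δ.dpow k (s i) := by
    intro i k
    show φ₀ (x i k) = _
    rw [← hbsingle, hφ₀]
    rw [Finset.prod_eq_single i]
    · simp
    · intro j _ hj
      rw [Finsupp.single_apply, if_neg (Ne.symm hj), hdp0]
    · intro h; exact absurd (Finset.mem_univ i) h
  have hx1mem : ∀ i, x i 1 ∈ Ideal.span {y : P | ∃ (i : Fin N) (n : ℕ), 1 ≤ n ∧ y = x i n} :=
    fun i => Ideal.subset_span ⟨i, 1, le_refl 1, rfl⟩
  have hγcomp : ∀ i m n, n ≠ 0 → γ.dpow m (x i n) = (Nat.uniformBell m n : P) * x i (m * n) := by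
    intro i m n hn
    rw [← hγ i n, γ.dpow_comp hn (hx1mem i), hγ]
  refine ⟨φ, ⟨?_, ?_⟩, ?_⟩
  · apply DividedPowers.IsDPMorphism.on_span γ δ rfl
    · rintro _ ⟨i, n, hn, rfl⟩
      show φ (x i n) ∈ J
      rw [hφx]
      exact δ.dpow_mem (by omega) (hs i)
    · rintro m _ ⟨i, n, hn, rfl⟩
      show φ (γ.dpow m (x i n)) = δ.dpow m (φ (x i n))
      rw [hγcomp i m n (by omega), map_mul, map_natCast, hφx, hφx, δ.dpow_comp (by omega) (hs i)]
  · intro i
    rw [hφx, δ.dpow_one (hs i)]
  · rintro φ' ⟨hφ'dp, hφ's⟩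
    have hφ'x : ∀ i k, φ' (x i k) = δ.dpow k (s i) := by
      intro i k
      rw [← hγ i k]
      have := hφ'dp.map_dpow (n := k) (hx1mem i)
      rw [← hφ's i]
      exact this
    apply AlgHom.toLinearMap_injective
    apply b.ext
    intro e
    show φ' (b e) = φ₀ (b e)
    rw [hφ₀, hb', map_prod]
    apply Finset.prod_congr rfl
    intro i _
    exact hφ'x i (e i)

end Groth.Agent.S19919
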