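import Groth.Statements.S1992
import Mathlib

set_option autoImplicit false
universe u
open Polynomial
open EtAlg

namespace Groth.Agent.S1992

open IsLocalRing

/-- Over a localization of an absolutely integrally closed ring, a suitable root-scaling of a monic
polynomial splits into linear factors. -/
theorem split_scaleRoots (A : Type u) [CommRing A]
    (hA : ∀ f : A[X], f.Monic → ∃ s : Multiset A, f = (s.map fun a => X - C a).prod)
    (M : Submonoid A) (R : Type u) [CommRing R] [Algebra A R] [IsLocalization M R]
    (F : R[X]) (hF : F.Monic) :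
    ∃ (u : R) (_ : IsUnit u) (S : Multiset R),
      scaleRoots F u = (S.map fun a => X - C a).prod := by
  classical
  set n := F.natDegree with hn
  obtain ⟨b, hb⟩ := IsLocalization.exist_integer_multiples_of_finset M
    ((Finset.range (n + 1)).image F.coeff)
  let u : R := algebraMap A R b
  have hu : IsUnit u := IsLocalization.map_units R b
  have hlifts : scaleRoots F u ∈ lifts (algebraMap A R) := by
    rw [lifts_iff_coeff_lifts]
    intro i
    rw [coeff_scaleRoots, ← hn]
    rcases lt_trichotomy i n with h | h | h
    · obtain ⟨c, hc⟩ := hb (F.coeff i) (Finset.mem_image_of_mem _ (Finset.mem_range.2 (by omega)))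
      obtain ⟨m, hm⟩ : ∃ m, n - i = m + 1 := ⟨n - i - 1, by omega⟩
      refine ⟨c * b ^ m, ?_⟩
      rw [map_mul, hc, map_pow, Algebra.smul_def, hm, pow_succ]
      ring
    · refine ⟨1, ?_⟩
      rw [h, hn, hF.coeff_natDegree, Nat.sub_self, pow_zero, map_one, mul_one]
    · refine ⟨0, ?_⟩
      rw [coeff_eq_zero_of_natDegree_lt (by omega), zero_mul, map_zero]
  have hmonic : (scaleRoots F u).Monic := (monic_scaleRoots_iff u).2 hF
  obtain ⟨g, hgmap, -, hgmonic⟩ := lifts_and_natDegree_eq_and_monic hlifts hmonic
  obtain ⟨s, hs⟩ := hA g hgmonic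
  refine ⟨u, hu, s.map (algebraMap A R), ?_⟩
  rw [← hgmap, hs, Polynomial.map_multiset_prod, Multiset.map_map, Multiset.map_map]
  congr 1
  refine Multiset.map_congr rfl fun a _ => ?_
  simp

theorem eval_scale {R : Type u} [CommRing R] (F : R[X]) (u r : R) :
    (scaleRoots F u).eval (u * r) = u ^ F.natDegree * F.eval r := by
  have := scaleRoots_eval₂_mul (p := F) (RingHom.id R) r u
  simpa [eval₂_id] using this

theorem eval_prod {R : Type u} [CommRing R] (S : Multiset R) (x : R) :
    ((S.map fun a => X - C a).prod).eval x = (S.map fun a => x - a).prod := by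
  rw [eval_multiset_prod, Multiset.map_map]
  congr 1
  refine Multiset.map_congr rfl fun a _ => ?_
  simp

/-- Let A be an absolutely integrally closed ring, i.e. every monic polynomial over A is a product of
linear factors X - a. Then for every prime p of A the localization A_p is a strictly henselian local
ring (henselian with separably closed residue field). -/
theorem result (A : Type u) [CommRing A]
    (hA : ∀ f : A[X], f.Monic → ∃ s : Multiset A, f = (s.map fun a => X - C a).prod)
    (p : Ideal A) [p.IsPrime] :
    EtCoh.IsStrictlyHenselianLocalRing (Localization.AtPrime p) := by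
  set R := Localization.AtPrime p
  have key := split_scaleRoots A hA p.primeCompl R
  have hhens : HenselianLocalRing R := by
    refine ⟨fun F hF a₀ h1 _ => ?_⟩
    obtain ⟨u, hu, S, hS⟩ := key F hF
    obtain ⟨v, hv⟩ := hu.exists_left_inv
    have h2 : (scaleRoots F u).eval (u * a₀) ∈ maximalIdeal R := by
      rw [eval_scale]; exact Ideal.mul_mem_left _ _ h1
    rw [hS, eval_prod] at h2
    obtain ⟨y, hy, hym⟩ := ((maximalIdeal.isMaximal R).isPrime.multiset_prod_mem_iff_exists_mem _).1 h2
    obtain ⟨a, haS, rfl⟩ := Multiset.mem_map.1 hy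
    refine ⟨v * a, ?_, ?_⟩
    · have h3 : (scaleRoots F u).eval (u * (v * a)) = 0 := by
        rw [hS, eval_prod]
        apply Multiset.prod_eq_zero
        refine Multiset.mem_map.2 ⟨a, haS, ?_⟩
        rw [← mul_assoc, mul_comm u v, hv, one_mul, sub_self]
      rw [eval_scale] at h3
      have h4 : IsUnit (u ^ F.natDegree) := hu.pow _
      exact (h4.mul_right_eq_zero).1 h3
    · have : v * a - a₀ = -(v * (u * a₀ - a)) := by
        rw [mul_sub, ← mul_assoc, hv]; ring
      rw [this]
      exact neg_mem (Ideal.mul_mem_left _ _ hym)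
  refine ⟨hhens, ?_⟩
  have : IsAlgClosed (ResidueField R) := by
    apply IsAlgClosed.of_exists_root
    intro P hPm hPirr
    obtain ⟨Q, hQmap, hQdeg, hQm⟩ := lifts_and_natDegree_eq_and_monic
      ((mem_lifts P).2 (map_surjective (residue R) residue_surjective P)) hPm
    obtain ⟨u, hu, S, hS⟩ := key Q hQm
    obtain ⟨v, hv⟩ := hu.exists_left_inv
    have hcard : S.card = Q.natDegree := by
      have := congrArg natDegree hS
      rw [natDegree_scaleRoots, natDegree_multiset_prod_X_sub_C_eq_card] at this
      exact this.symm
    have hpos : 0 < Q.natDegree := by rw [hQdeg]; exact hPirr.natDegree_pos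
    obtain ⟨a, haS⟩ := Multiset.card_pos_iff_exists_mem.1 (by omega : 0 < S.card)
    have h3 : (scaleRoots Q u).eval (u * (v * a)) = 0 := by
      rw [hS, eval_prod]
      apply Multiset.prod_eq_zero
      refine Multiset.mem_map.2 ⟨a, haS, ?_⟩
      rw [← mul_assoc, mul_comm u v, hv, one_mul, sub_self]
    rw [eval_scale] at h3
    have h4 : IsUnit (u ^ Q.natDegree) := hu.pow _
    have h5 : Q.eval (v * a) = 0 := (h4.mul_right_eq_zero).1 h3
    refine ⟨residue R (v * a), ?_⟩
    rw [← hQmap, eval_map, eval₂_at_apply, h5, map_zero]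
  infer_instance

end Groth.Agent.S1992
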