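import Groth.Statements.S19965
import Mathlib
-- import your own Groth.Agent.* helpers here

set_option autoImplicit false
universe u
open CategoryTheory MonoidalCategory CartesianMonoidalCategory MonObj AlgebraicGeometry
open ChGrp

namespace Groth.Agent.S19965

/-- In the case of group schemes with the quotient given as a scheme, let S be a scheme, G a group
scheme over S, i : H → G a homomorphism from a group scheme H, and let the S-scheme Q with its
G-action and base point q₀ be the quotient G/H for the fppf topology: i is a homomorphism, the
square exhibiting G ×_S H as G ×_Q G through (g, h) ↦ (g, g·i(h)) and the orbit map of q₀ is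
cartesian, and the orbit map G → Q acquires sections on the members of an fppf covering family of Q.
Let P be a property of morphisms of schemes which is stable under base change and local on the
target for the fppf topology. If H → S has P, then the orbit map G → Q has P. (In the source G and H
are group algebraic spaces, H is flat and locally of finite presentation over S so that G/H exists
as an algebraic space, and P is a property of morphisms of algebraic spaces; here all three are
schemes, the quotient is part of the data, and flatness of H plays no part.) -/
theorem result (S : Scheme.{u})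
    (G H : Over S) [GrpObj G] [GrpObj H] (i : H ⟶ G)
    (Q : Over S) (aQ : AlgGrp.Action G Q) (q₀ : 𝟙_ (Over S) ⟶ Q)
    (hQ : ChGrp.IsHomog Scheme.fppfPrecoverage i aQ q₀)
    (P : MorphismProperty Scheme.{u}) [P.IsStableUnderBaseChange]
    [P.IsLocalAtTarget Scheme.fppfPrecoverage]
    (hP : P H.hom) : P (aQ.orbitMap q₀).left := by
  obtain ⟨hmon, sq, R, hR, hsec⟩ := hQ
  -- the first projection `G ×_S H → G` has `P`
  have hfst : P (fst G H).left := by
    have h1 : IsPullback (Limits.pullback.snd G.hom H.hom) (Limits.pullback.fst G.hom H.hom) H.hom G.hom :=
      (IsPullback.of_hasPullback G.hom H.hom).flip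
    exact P.of_isPullback h1 hP
  -- the cartesian square in schemes
  have sq' : IsPullback ((G ◁ i) ≫ μ[G]).left (fst G H).left (aQ.orbitMap q₀).left (aQ.orbitMap q₀).left :=
    (sq.map (Over.forget S)).flip
  refine MorphismProperty.IsLocalAtTarget.of_forall_pullbackSnd (K := Scheme.fppfPrecoverage) hR ?_
  intro U g _ hg
  obtain ⟨s, hs⟩ := hsec g hg
  have hs' : s ≫ (aQ.orbitMap q₀).left = g := hs
  have h2 : IsPullback (Limits.pullback.fst (fst G H).left s) (Limits.pullback.snd (fst G H).left s)
      (fst G H).left s := IsPullback.of_hasPullback _ _
  have h3 : P (Limits.pullback.snd (fst G H).left s) := P.of_isPullback h2 hfst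
  have h4 := h2.paste_horiz sq'
  rw [hs'] at h4
  have h5 : Limits.pullback.snd (aQ.orbitMap q₀).left g =
      h4.isoPullback.inv ≫ Limits.pullback.snd (fst G H).left s := by
    rw [Iso.eq_inv_comp, IsPullback.isoPullback_hom_snd]
  rw [h5]
  exact (P.cancel_left_of_respectsIso _ _).mpr h3

end Groth.Agent.S19965
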