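import Groth.Statements.S1998
import Mathlib

set_option autoImplicit false
universe u
open EtAlg

namespace Groth.Agent.S1998

set_option linter.unusedSectionVars false
open Polynomial

section
variable {ι : Type u} [Preorder ι] [IsDirected ι (· ≤ ·)] [Nonempty ι]
    (G : ι → Type u) [∀ i, CommRing (G i)] (f : ∀ i j, i ≤ j → G i →+* G j)
    [DirectedSystem G fun i j h => f i j h] (I : ∀ i, Ideal (G i))
    (hI : ∀ i j (h : i ≤ j), (I i).map (f i j h) ≤ I j)

local notation "L" => Ring.DirectLimit G fun i j h => f i j h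
local notation "φ" => Ring.DirectLimit.of G (fun i j h => f i j h)

include hI in
theorem f_mem {i j : ι} (h : i ≤ j) {y : G i} (hy : y ∈ I i) : f i j h y ∈ I j :=
  hI i j h (Ideal.mem_map_of_mem _ hy)

theorem f_f {i j k : ι} (hij : i ≤ j) (hjk : j ≤ k) (x : G i) :
    f j k hjk (f i j hij x) = f i k (hij.trans hjk) x :=
  DirectedSystem.map_map (f := fun i j h => f i j h) hij hjk x

include hI in
/-- Elements of the limit ideal come from some `I i`. -/
theorem mem_iSup_iff (x : L) :
    x ∈ (⨆ i, (I i).map (φ i)) ↔ ∃ i, ∃ y ∈ I i, φ i y = x := by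
  constructor
  · intro hx
    let S : Ideal L :=
      { carrier := {x | ∃ i, ∃ y ∈ I i, φ i y = x}
        add_mem' := by
          rintro a b ⟨i, y, hy, rfl⟩ ⟨j, z, hz, rfl⟩
          obtain ⟨k, hik, hjk⟩ := exists_ge_ge i j
          refine ⟨k, f i k hik y + f j k hjk z, Ideal.add_mem _ (f_mem G f I hI hik hy)
            (f_mem G f I hI hjk hz), ?_⟩
          rw [map_add, Ring.DirectLimit.of_f, Ring.DirectLimit.of_f]
        zero_mem' := ⟨Classical.arbitrary ι, 0, Ideal.zero_mem _, map_zero _⟩
        smul_mem' := by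
          rintro c a ⟨i, y, hy, rfl⟩
          obtain ⟨j, z, rfl⟩ := Ring.DirectLimit.exists_of c
          obtain ⟨k, hik, hjk⟩ := exists_ge_ge i j
          refine ⟨k, f j k hjk z * f i k hik y, Ideal.mul_mem_left _ _ (f_mem G f I hI hik hy), ?_⟩
          rw [map_mul, Ring.DirectLimit.of_f, Ring.DirectLimit.of_f, smul_eq_mul] }
    have hle : (⨆ i, (I i).map (φ i)) ≤ S := by
      refine iSup_le fun i => ?_
      rw [Ideal.map_le_iff_le_comap]
      intro y hy
      exact ⟨i, y, hy, rfl⟩
    exact hle hx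
  · rintro ⟨i, y, hy, rfl⟩
    exact (le_iSup (fun i => (I i).map (φ i)) i) (Ideal.mem_map_of_mem _ hy)

include hI in
/-- If `φ k x` lies in the limit ideal, then `x` lands in `I k'` at some later stage. -/
theorem exists_mem_of_of_mem {k : ι} (x : G k) (hx : φ k x ∈ (⨆ i, (I i).map (φ i))) :
    ∃ k' : ι, ∃ h : k ≤ k', f k k' h x ∈ I k' := by
  obtain ⟨m, y, hy, hxy⟩ := (mem_iSup_iff G f I hI _).1 hx
  obtain ⟨n, hkn, hmn⟩ := exists_ge_ge k m
  have h0 : φ n (f k n hkn x - f m n hmn y) = 0 := by
    rw [map_sub, Ring.DirectLimit.of_f, Ring.DirectLimit.of_f, hxy, sub_self]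
  obtain ⟨k', hnk', h1⟩ := Ring.DirectLimit.of.zero_exact h0
  refine ⟨k', hkn.trans hnk', ?_⟩
  rw [map_sub, sub_eq_zero, f_f, f_f] at h1
  rw [h1]
  exact f_mem G f I hI _ hy

end

/-- Let (A_j, I_j) be a directed system of henselian pairs (ring maps A_j -> A_k for j ≤ k carrying I_j
into I_k). Then the direct limit A of the A_j together with the ideal generated by the images of the
I_j is a henselian pair. -/
theorem result {ι : Type u} [Preorder ι] [IsDirected ι (· ≤ ·)] [Nonempty ι]
    (G : ι → Type u) [∀ i, CommRing (G i)] (f : ∀ i j, i ≤ j → G i →+* G j)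
    [DirectedSystem G fun i j h => f i j h] (I : ∀ i, Ideal (G i))
    (hI : ∀ i j (h : i ≤ j), (I i).map (f i j h) ≤ I j) (hh : ∀ i, HenselianRing (G i) (I i)) :
    HenselianRing (Ring.DirectLimit G fun i j h => f i j h)
      (⨆ i, (I i).map (Ring.DirectLimit.of G (fun i j h => f i j h) i)) := by
  refine ⟨?_, ?_⟩
  · -- Jacobson
    intro x hx
    obtain ⟨i, y, hy, rfl⟩ := (mem_iSup_iff G f I hI _).1 hx
    rw [Ideal.mem_jacobson_bot]
    intro z
    obtain ⟨j, w, rfl⟩ := Ring.DirectLimit.exists_of z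
    obtain ⟨k, hik, hjk⟩ := exists_ge_ge i j
    have h1 : f i k hik y ∈ Ideal.jacobson (⊥ : Ideal (G k)) := (hh k).jac (f_mem G f I hI hik hy)
    have h2 := (Ideal.mem_jacobson_bot.1 h1) (f j k hjk w)
    have h3 := h2.map (Ring.DirectLimit.of G (fun i j h => f i j h) k)
    rwa [map_add, map_mul, map_one, Ring.DirectLimit.of_f, Ring.DirectLimit.of_f] at h3
  · intro F hF a₀ h₁ h₂
    -- lift the polynomial and the point
    obtain ⟨i, F₀, hF₀⟩ := Ring.DirectLimit.Polynomial.exists_of F
    obtain ⟨q, hqmap, -, hqmonic⟩ := lifts_and_natDegree_eq_and_monic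
      ((mem_lifts F).2 ⟨F₀, hF₀⟩) hF
    obtain ⟨j, b, rfl⟩ := Ring.DirectLimit.exists_of a₀
    -- inverse of the derivative modulo the ideal
    obtain ⟨v, hv⟩ := h₂.exists_right_inv
    obtain ⟨v, rfl⟩ := Ideal.Quotient.mk_surjective v
    rw [← map_mul, ← map_one (Ideal.Quotient.mk _), Ideal.Quotient.eq] at hv
    obtain ⟨m, v', rfl⟩ := Ring.DirectLimit.exists_of v
    obtain ⟨k₀, hik₀, hjk₀'⟩ := exists_ge_ge i j
    obtain ⟨k, hk₀k, hmk⟩ := exists_ge_ge k₀ m
    have hik : i ≤ k := hik₀.trans hk₀k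
    have hjk : j ≤ k := hjk₀'.trans hk₀k
    -- everything at level k
    have hmapk : ∀ (k' : ι) (h : i ≤ k'), (q.map (f i k' h)).map
        (Ring.DirectLimit.of G (fun i j h => f i j h) k') = F := by
      intro k' h
      rw [Polynomial.map_map, ← hqmap]
      congr 1
      ext x
      simp
    have heval : ∀ (k' : ι) (h : i ≤ k') (c : G k'),
        Ring.DirectLimit.of G (fun i j h => f i j h) k' ((q.map (f i k' h)).eval c) =
          F.eval (Ring.DirectLimit.of G (fun i j h => f i j h) k' c) := by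
      intro k' h c
      rw [← hmapk k' h]
      conv_rhs => rw [eval_map, eval₂_at_apply]
    have hderiv : ∀ (k' : ι) (h : i ≤ k') (c : G k'),
        Ring.DirectLimit.of G (fun i j h => f i j h) k' ((q.map (f i k' h)).derivative.eval c) =
          F.derivative.eval (Ring.DirectLimit.of G (fun i j h => f i j h) k' c) := by
      intro k' h c
      rw [← hmapk k' h]
      conv_rhs => rw [derivative_map, eval_map, eval₂_at_apply]
    -- first condition
    have hx₁ : Ring.DirectLimit.of G (fun i j h => f i j h) k ((q.map (f i k hik)).eval (f j k hjk b)) ∈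
        (⨆ i, (I i).map (Ring.DirectLimit.of G (fun i j h => f i j h) i)) := by
      rw [heval, Ring.DirectLimit.of_f]; exact h₁
    obtain ⟨k₁, hkk₁, hmem₁⟩ := exists_mem_of_of_mem G f I hI _ hx₁
    -- second condition
    have hx₂ : Ring.DirectLimit.of G (fun i j h => f i j h) k
        ((q.map (f i k hik)).derivative.eval (f j k hjk b) * f m k hmk v' - 1) ∈
        (⨆ i, (I i).map (Ring.DirectLimit.of G (fun i j h => f i j h) i)) := by
      rw [map_sub, map_mul, map_one, hderiv, Ring.DirectLimit.of_f, Ring.DirectLimit.of_f]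
      exact hv
    obtain ⟨k₂, hkk₂, hmem₂⟩ := exists_mem_of_of_mem G f I hI _ hx₂
    obtain ⟨n, hk₁n, hk₂n⟩ := exists_ge_ge k₁ k₂
    have hin : i ≤ n := hik.trans (hkk₁.trans hk₁n)
    have hjn : j ≤ n := hjk.trans (hkk₁.trans hk₁n)
    have hkn : k ≤ n := hkk₁.trans hk₁n
    have hqn : (q.map (f i k hik)).map (f k n hkn) = q.map (f i n hin) := by
      rw [Polynomial.map_map]
      congr 1
      ext x
      exact f_f G f hik hkn x
    -- transport the two conditions to level n
    have c₁ : (q.map (f i n hin)).eval (f j n hjn b) ∈ I n := by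
      have := f_mem G f I hI hk₁n hmem₁
      rw [f_f] at this
      have e : f k n hkn ((q.map (f i k hik)).eval (f j k hjk b)) =
          (q.map (f i n hin)).eval (f j n hjn b) := by
        rw [← hqn]
        conv_rhs => rw [eval_map, ← f_f G f hjk hkn b, eval₂_at_apply]
      rwa [e] at this
    have c₂ : IsUnit (Ideal.Quotient.mk (I n) ((q.map (f i n hin)).derivative.eval (f j n hjn b))) := by
      have := f_mem G f I hI hk₂n hmem₂
      rw [f_f] at this
      have e : f k n (hkk₂.trans hk₂n) ((q.map (f i k hik)).derivative.eval (f j k hjk b)) =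
          (q.map (f i n hin)).derivative.eval (f j n hjn b) := by
        rw [← hqn]
        conv_rhs => rw [derivative_map, eval_map, ← f_f G f hjk hkn b, eval₂_at_apply]
      rw [map_sub, map_mul, map_one, e] at this
      refine isUnit_iff_exists_inv.2 ⟨Ideal.Quotient.mk (I n) (f k n (hkk₂.trans hk₂n) (f m k hmk v')), ?_⟩
      rw [← map_mul, ← map_one (Ideal.Quotient.mk (I n)), Ideal.Quotient.eq]
      exact this
    obtain ⟨r, hr, hrb⟩ := (hh n).is_henselian _ (hqmonic.map _) (f j n hjn b) c₁ c₂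
    refine ⟨Ring.DirectLimit.of G (fun i j h => f i j h) n r, ?_, ?_⟩
    · rw [IsRoot.def, ← heval n hin r, hr.eq_zero, map_zero]
    · rw [← Ring.DirectLimit.of_f hjn b, ← map_sub]
      exact (mem_iSup_iff G f I hI _).2 ⟨n, _, hrb, rfl⟩

end Groth.Agent.S1998
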