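import Groth.Statements.S19994
import Mathlib
import Groth.Agent.Helper3.CHR4

set_option autoImplicit false
universe u v w
open scoped TensorProduct
open WildQuot

namespace Groth.Agent.S19994

/-- Let `A` be a complete regular local ring of Krull dimension at least `2` and prime characteristic
`p`, with maximal ideal `m`; let `k` be a field with a ring map `k → A` whose composite with `A →
A/m` is onto; let `G` be a group of order `p` acting on `A` by ring automorphisms fixing the image
of `k` and ramified precisely at the origin (for every prime `P ≠ m`, the inertia subgroup of `P`,
i.e. the elements of `G` fixing every element modulo `P`, is trivial). Then the singular locus of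
`Spec A^G` is contained in the closed point: for every non-maximal prime ideal `P` of the invariant
ring `A^G`, the localization `(A^G)_P` is a regular local ring. (The published statement also
asserts that the punctured spectrum of `A` is a `G`-torsor over the punctured spectrum of `A^G`;
this row omits that clause. Together with the non-regularity of `A^G` itself, the singular locus is
exactly the closed point.) -/
theorem result
    (p : ℕ) [Fact p.Prime] (A : Type u) [CommRing A] [IsRegularLocalRing A] [CharP A p]
    [IsAdicComplete (IsLocalRing.maximalIdeal A) A] (hdim : 2 ≤ ringKrullDim A)
    (k : Type v) [Field k] [Algebra k A]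
    (hk : Function.Surjective (IsLocalRing.residue A ∘ algebraMap k A))
    (G : Type w) [Group G] [Finite G] [MulSemiringAction G A] (hcard : Nat.card G = p)
    (hGk : ∀ (σ : G) (c : k), σ • algebraMap k A c = algebraMap k A c)
    (hram : ∀ P : Ideal A, P.IsPrime → P ≠ IsLocalRing.maximalIdeal A → P.inertia G = ⊥)
    (P : Ideal (FixedPoints.subring A G)) [P.IsPrime] (hP : ¬ P.IsMaximal) :
    IsRegularLocalRing (Localization.AtPrime P) := by
  apply Groth.Agent.Helper3.CHR.regular_of_inertia_trivial A G P
  intro q hq hqP σ hσ
  have hne : q ≠ IsLocalRing.maximalIdeal A := by
    rintro rfl
    apply hP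
    rw [← hqP]
    haveI : Algebra.IsIntegral (FixedPoints.subring A G) A :=
      Algebra.IsInvariant.isIntegral _ _ G
    exact Ideal.isMaximal_comap_of_isIntegral_of_isMaximal _
  have hin := hram q hq hne
  by_contra hcon
  push Not at hcon
  apply hσ
  have h1 : σ ∈ q.inertia G := hcon
  rw [hin] at h1
  exact Subgroup.mem_bot.mp h1

end Groth.Agent.S19994
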