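import Groth.Statements.S20010
import Mathlib.AlgebraicGeometry.AffineTransitionLimit

set_option autoImplicit false
universe u
open CategoryTheory CategoryTheory.Limits AlgebraicGeometry TopologicalSpace
open ModPair

namespace Groth.Agent.S20010

/-- A quasi-compact open immersion `u : U ⟶ X` whose range is the preimage of an open `V` of `Y`
under `π : X ⟶ Y` is the base change of `V.ι`. -/
theorem isPullback_of_opensRange_eq {U X Y : Scheme.{u}} (u : U ⟶ X) [IsOpenImmersion u] (π : X ⟶ Y)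
    (V : Y.Opens) (h : π ⁻¹ᵁ V = u.opensRange) :
    ∃ e : U ⟶ (V : Scheme.{u}), IsPullback e u V.ι π := by
  let φ : U ⟶ (π ⁻¹ᵁ V : Scheme.{u}) := u.isoOpensRange.hom ≫ (Scheme.isoOfEq X h.symm).hom
  haveI : IsIso φ := by dsimp only [φ]; infer_instance
  have hφ : φ ≫ (π ⁻¹ᵁ V).ι = u ≫ 𝟙 X := by
    simp [φ]
  have h1 : IsPullback φ u (π ⁻¹ᵁ V).ι (𝟙 X) := IsPullback.of_horiz_isIso ⟨hφ⟩
  have h2 : IsPullback (π ∣_ V) (π ⁻¹ᵁ V).ι V.ι π := isPullback_morphismRestrict π V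
  have := h1.paste_horiz h2
  rw [Category.id_comp] at this
  exact ⟨_, this⟩

theorem aux {I : Type u} [SmallCategory I] [IsCofiltered I]
    (D : I ⥤ Scheme.{u}) (c : Cone D) (hc : IsLimit c)
    [∀ (i j : I) (t : i ⟶ j), IsAffineHom (D.map t)] (i₀ : I) [CompactSpace (D.obj i₀)]
    [QuasiSeparatedSpace (D.obj i₀)] {ι : Type u} (U : ι → Scheme.{u}) (u : ∀ a, U a ⟶ c.pt)
    [∀ a, IsOpenImmersion (u a)] [∀ a, QuasiCompact (u a)] (hcov : ∀ x : c.pt, ∃ (a : ι) (y : U a), (u a).base y = x) :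
    ∃ (i : I) (n : ℕ) (V : Fin n → Scheme.{u}) (v : ∀ j, V j ⟶ D.obj i) (a : Fin n → ι)
      (e : ∀ j, U (a j) ⟶ V j),
      (∀ j, IsOpenImmersion (v j) ∧ QuasiCompact (v j)) ∧
      (∀ x : D.obj i, ∃ (j : Fin n) (y : V j), (v j).base y = x) ∧
      ∀ j, IsPullback (e j) (u (a j)) (v j) (c.π.app i) := by
  classical
  haveI hAff : ∀ {i j : I} (f : i ⟶ j), IsAffineHom (D.map f) := fun f => inferInstance
  haveI : IsAffineHom (c.π.app i₀) := isAffineHom_π_app D c hc i₀
  haveI : CompactSpace c.pt := QuasiCompact.compactSpace_of_compactSpace (c.π.app i₀)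
  -- stages over i₀ are qcqs
  have hstage : ∀ {i : I} (f : i ⟶ i₀), CompactSpace (D.obj i) ∧ QuasiSeparatedSpace (D.obj i) :=
    fun f => ⟨QuasiCompact.compactSpace_of_compactSpace (D.map f),
      quasiSeparatedSpace_of_quasiSeparated (D.map f)⟩
  -- finite subcover
  have hcov' : (Set.univ : Set c.pt) ⊆ ⋃ a, ((u a).opensRange : Set c.pt) := by
    intro x _
    obtain ⟨a, y, hy⟩ := hcov x
    exact Set.mem_iUnion.mpr ⟨a, y, hy⟩
  obtain ⟨t, ht⟩ := isCompact_univ.elim_finite_subcover _ (fun a => (u a).opensRange.isOpen) hcov'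
  -- each range is a compact open, descend it
  have hcpt : ∀ a, IsCompact ((u a).opensRange : Set c.pt) := fun a => by
    haveI : CompactSpace (U a) := QuasiCompact.compactSpace_of_compactSpace (u a)
    exact isCompact_range (u a).continuous
  have hdesc : ∀ a, ∃ (i : I) (V : (D.obj i).Opens), IsCompact (V : Set (D.obj i)) ∧
      c.π.app i ⁻¹ᵁ V = (u a).opensRange := fun a =>
    exists_preimage_eq D c hc _ (hcpt a)
  choose ia Va hVa hVa' using hdesc
  -- common stage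
  obtain ⟨i₁, hi₁⟩ := IsCofiltered.inf_objs_exists (insert i₀ (t.image ia))
  have f₀ : i₁ ⟶ i₀ := (hi₁ (Finset.mem_insert_self _ _)).some
  have fa : ∀ a ∈ t, i₁ ⟶ ia a := fun a ha =>
    (hi₁ (Finset.mem_insert_of_mem (Finset.mem_image_of_mem ia ha))).some
  haveI := (hstage f₀).1
  haveI := (hstage f₀).2
  -- opens on stage i₁
  let V₁ : ι → (D.obj i₁).Opens := fun a =>
    if ha : a ∈ t then D.map (fa a ha) ⁻¹ᵁ Va a else ⊥
  have hV₁ : ∀ a ∈ t, c.π.app i₁ ⁻¹ᵁ V₁ a = (u a).opensRange := by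
    intro a ha
    simp only [V₁, dif_pos ha]
    rw [← Scheme.Hom.comp_preimage, c.w, hVa']
  have hV₁c : ∀ a ∈ t, IsCompact (V₁ a : Set (D.obj i₁)) := by
    intro a ha
    simp only [V₁, dif_pos ha]
    exact QuasiCompact.isCompact_preimage (f := D.map (fa a ha)) _ (Va a).2 (hVa a)
  let V' : (D.obj i₁).Opens := ⨆ a ∈ t, V₁ a
  have hV' : c.π.app i₁ ⁻¹ᵁ (⊤ : (D.obj i₁).Opens) ≤ c.π.app i₁ ⁻¹ᵁ V' := by
    intro x _
    have hx := ht (Set.mem_univ x)
    simp only [Set.mem_iUnion] at hx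
    obtain ⟨a, ha, hxa⟩ := hx
    have : x ∈ c.π.app i₁ ⁻¹ᵁ V₁ a := by rw [hV₁ a ha]; exact hxa
    show c.π.app i₁ x ∈ V'
    simp only [V', Opens.mem_iSup]
    exact ⟨a, ha, this⟩
  obtain ⟨j, fj, hj⟩ := exists_map_preimage_le_map_preimage D c hc
    (U := ⊤) (V := V') CompactSpace.isCompact_univ hV'
  haveI := (hstage (fj ≫ f₀)).1
  haveI := (hstage (fj ≫ f₀)).2
  -- the final family
  let W : t → (D.obj j).Opens := fun a => D.map fj ⁻¹ᵁ V₁ a.1
  have hW : ∀ a : t, c.π.app j ⁻¹ᵁ W a = (u a.1).opensRange := by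
    intro a
    simp only [W]
    rw [← Scheme.Hom.comp_preimage, c.w, hV₁ a.1 a.2]
  have hWc : ∀ a : t, IsCompact (W a : Set (D.obj j)) := fun a =>
    QuasiCompact.isCompact_preimage (f := D.map fj) _ (V₁ a.1).2 (hV₁c a.1 a.2)
  have hWcov : ∀ x : D.obj j, ∃ a : t, x ∈ W a := by
    intro x
    have hx : x ∈ D.map fj ⁻¹ᵁ V' := hj (show x ∈ D.map fj ⁻¹ᵁ (⊤ : (D.obj i₁).Opens) from trivial)
    have hx' : D.map fj x ∈ V' := hx
    simp only [V', Opens.mem_iSup] at hx'
    obtain ⟨a, ha, hxa⟩ := hx'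
    exact ⟨⟨a, ha⟩, hxa⟩
  let eqv : Fin t.card ≃ t := t.equivFin.symm
  have hpb : ∀ k : Fin t.card, ∃ e : U (eqv k).1 ⟶ (W (eqv k) : Scheme.{u}),
      IsPullback e (u (eqv k).1) (W (eqv k)).ι (c.π.app j) := fun k =>
    isPullback_of_opensRange_eq (u (eqv k).1) (c.π.app j) (W (eqv k)) (hW (eqv k))
  choose e he using hpb
  refine ⟨j, t.card, fun k => (W (eqv k) : Scheme.{u}), fun k => (W (eqv k)).ι,
    fun k => (eqv k).1, e, fun k => ⟨inferInstance, ?_⟩, fun x => ?_, he⟩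
  · haveI : CompactSpace ↥(W (eqv k) : Scheme.{u}) := isCompact_iff_compactSpace.mp (hWc (eqv k))
    infer_instance
  · obtain ⟨a, hxa⟩ := hWcov x
    refine ⟨eqv.symm a, ⟨x, by simpa using hxa⟩, ?_⟩
    rfl

/-- Let (X_i) be a cofiltered system of schemes with affine transition morphisms such that X_{i₀} is
quasi-compact and quasi-separated for some index i₀, let X be its limit, and let {U_a ⟶ X} be a
family of quasi-compact open immersions (open immersions of finite presentation) which is jointly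
surjective (a covering family for the Zariski class). Then the covering descends: for some index i
there is a finite jointly surjective family {V_j ⟶ X_i}_{j < n} of quasi-compact open immersions
such that every V_j ×_{X_i} X is one of the U_a, i.e. for each j some U_{a_j} ⟶ X is the base change
of V_j ⟶ X_i along X ⟶ X_i. -/
theorem result {I : Type u} [SmallCategory I] [IsCofiltered I]
    (D : I ⥤ Scheme.{u}) (c : Cone D) (hc : IsLimit c)
    [∀ (i j : I) (t : i ⟶ j), IsAffineHom (D.map t)] (i₀ : I) [CompactSpace (D.obj i₀)]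
    [QuasiSeparatedSpace (D.obj i₀)] {ι : Type u} (U : ι → Scheme.{u}) (u : ∀ a, U a ⟶ c.pt)
    [∀ a, IsOpenImmersion (u a)] [∀ a, QuasiCompact (u a)] (hcov : ∀ x : c.pt, ∃ (a : ι) (y : U a), (u a).base y = x) :
    ∃ (i : I) (n : ℕ) (V : Fin n → Scheme.{u}) (v : ∀ j, V j ⟶ D.obj i) (a : Fin n → ι)
      (e : ∀ j, U (a j) ⟶ V j),
      (∀ j, IsOpenImmersion (v j) ∧ QuasiCompact (v j)) ∧
      (∀ x : D.obj i, ∃ (j : Fin n) (y : V j), (v j).base y = x) ∧
      ∀ j, IsPullback (e j) (u (a j)) (v j) (c.π.app i) := by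
  exact aux D c hc i₀ U u hcov

end Groth.Agent.S20010
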