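import Groth.Statements.S20018
import Mathlib
-- import your own Groth.Agent.* helpers here

set_option autoImplicit false
open CAlg

namespace Groth.Agent.S20018

universe uR

/-- partial products, defined recursively -/
noncomputable def Q {R : Type uR} [CommRing R] (x : PowerSeries R) : ℕ → PowerSeries R
  | 0 => 1
  | (n+1) => Q x n * (1 - PowerSeries.C (PowerSeries.coeff (n+1) (Q x n) - PowerSeries.coeff (n+1) x) *
      PowerSeries.X ^ (n+1))

theorem coeff_mul_low {R : Type uR} [CommRing R] (P : PowerSeries R) (a : R) (n m : ℕ) (hm : m ≤ n) :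
    PowerSeries.coeff m (P * (1 - PowerSeries.C a * PowerSeries.X ^ (n+1))) = PowerSeries.coeff m P := by
  have : P * (1 - PowerSeries.C a * PowerSeries.X ^ (n+1)) =
      P - PowerSeries.C a * (P * PowerSeries.X ^ (n+1)) := by ring
  rw [this, map_sub, PowerSeries.coeff_C_mul, PowerSeries.coeff_mul_X_pow', if_neg (by omega)]
  simp

theorem coeff_mul_top {R : Type uR} [CommRing R] (P : PowerSeries R) (a : R) (n : ℕ) :
    PowerSeries.coeff (n+1) (P * (1 - PowerSeries.C a * PowerSeries.X ^ (n+1))) =
      PowerSeries.coeff (n+1) P - a * PowerSeries.constantCoeff P := by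
  have : P * (1 - PowerSeries.C a * PowerSeries.X ^ (n+1)) =
      P - PowerSeries.C a * (P * PowerSeries.X ^ (n+1)) := by ring
  rw [this, map_sub, PowerSeries.coeff_C_mul, PowerSeries.coeff_mul_X_pow', if_pos le_rfl,
    Nat.sub_self, PowerSeries.coeff_zero_eq_constantCoeff_apply]

theorem constantCoeff_prod {R : Type uR} [CommRing R] (β : ℕ → R) (n : ℕ) :
    PowerSeries.constantCoeff (∏ i ∈ Finset.range n,
      (1 - PowerSeries.C (β i) * PowerSeries.X ^ (i + 1) : PowerSeries R)) = 1 := by
  rw [map_prod]
  apply Finset.prod_eq_one
  intro i _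
  simp


open PowerSeries in
/-- Product expansion of big Witt vectors: let R be a commutative ring and x ∈ 1 + tR[[t]] a formal
power series with constant term 1. Then x can be written uniquely as an infinite product ∏_{i ≥ 1}
(1 - α_i t^i) with α_i ∈ R. The infinite product is expressed through its truncations: there is a
unique sequence α : ℕ → R (α i standing for the coefficient attached to t^{i+1}) such that for every
N the series x and the finite product ∏_{i=0}^{N} (1 - α_i t^{i+1}) agree modulo t^{N+2}. -/
theorem result
    (R : Type*) [CommRing R] (x : PowerSeries R) (hx : PowerSeries.constantCoeff x = 1) :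
    ∃! α : ℕ → R, ∀ N : ℕ,
      PowerSeries.trunc (N + 2) x =
        PowerSeries.trunc (N + 2) (∏ i ∈ Finset.range (N + 1),
          (1 - PowerSeries.C (α i) * PowerSeries.X ^ (i + 1) : PowerSeries R)) := by
  classical
  have hQ : ∀ n, ∀ m ≤ n, PowerSeries.coeff m (Q x n) = PowerSeries.coeff m x := by
    intro n
    induction n with
    | zero =>
      intro m hm
      obtain rfl : m = 0 := by omega
      simp [Q, hx]
    | succ n ih =>
      intro m hm
      rcases Nat.lt_or_ge m (n+1) with h | h
      · show PowerSeries.coeff m (Q x n * _) = _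
        rw [coeff_mul_low _ _ _ _ (by omega)]
        exact ih m (by omega)
      · obtain rfl : m = n + 1 := by omega
        show PowerSeries.coeff (n+1) (Q x n * _) = _
        rw [coeff_mul_top]
        have h0 : PowerSeries.constantCoeff (Q x n) = 1 := by
          rw [← PowerSeries.coeff_zero_eq_constantCoeff_apply, ih 0 (Nat.zero_le _),
            PowerSeries.coeff_zero_eq_constantCoeff_apply, hx]
        rw [h0]
        ring
  have hprod : ∀ n, Q x n = ∏ i ∈ Finset.range n,
      (1 - PowerSeries.C (PowerSeries.coeff (i+1) (Q x i) - PowerSeries.coeff (i+1) x) *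
        PowerSeries.X ^ (i + 1) : PowerSeries R) := by
    intro n
    induction n with
    | zero => simp [Q]
    | succ n ih =>
      rw [Finset.prod_range_succ, ← ih]
      rfl
  have huniq : ∀ β γ : ℕ → R,
      (∀ N : ℕ, PowerSeries.trunc (N + 2) x = PowerSeries.trunc (N + 2) (∏ i ∈ Finset.range (N + 1),
          (1 - PowerSeries.C (β i) * PowerSeries.X ^ (i + 1) : PowerSeries R))) →
      (∀ N : ℕ, PowerSeries.trunc (N + 2) x = PowerSeries.trunc (N + 2) (∏ i ∈ Finset.range (N + 1),
          (1 - PowerSeries.C (γ i) * PowerSeries.X ^ (i + 1) : PowerSeries R))) → β = γ := by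
    intro β γ hβ hγ
    funext n
    induction n using Nat.strong_induction_on with
    | _ n ih =>
      have h1 := congrArg (fun q => Polynomial.coeff q (n+1)) (hβ n)
      have h2 := congrArg (fun q => Polynomial.coeff q (n+1)) (hγ n)
      simp only [PowerSeries.coeff_trunc, if_pos (show n + 1 < n + 2 by omega)] at h1 h2
      rw [Finset.prod_range_succ, coeff_mul_top, constantCoeff_prod, mul_one] at h1 h2
      have hpe : (∏ i ∈ Finset.range n, (1 - PowerSeries.C (β i) * PowerSeries.X ^ (i + 1) : PowerSeries R)) =
          ∏ i ∈ Finset.range n, (1 - PowerSeries.C (γ i) * PowerSeries.X ^ (i + 1) : PowerSeries R) := by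
        apply Finset.prod_congr rfl
        intro i hi
        rw [ih i (Finset.mem_range.mp hi)]
      rw [hpe] at h1
      have := h1.symm.trans h2
      linear_combination -this
  refine ⟨fun i => PowerSeries.coeff (i+1) (Q x i) - PowerSeries.coeff (i+1) x, ?_, ?_⟩
  · intro N
    beta_reduce
    rw [← hprod (N+1)]
    ext m
    simp only [PowerSeries.coeff_trunc]
    split_ifs with h
    · exact (hQ (N+1) m (by omega)).symm
    · rfl
  · intro β hβ
    refine huniq β _ hβ ?_
    intro N
    rw [← hprod (N+1)]
    ext m
    simp only [PowerSeries.coeff_trunc]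
    split_ifs with h
    · exact (hQ (N+1) m (by omega)).symm
    · rfl

end Groth.Agent.S20018
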