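import Groth.Statements.S20024
import Groth.Agent.Helper9.WittTeich
-- import your own Groth.Agent.* helpers here

set_option autoImplicit false
universe u
open WittFil

namespace Groth.Agent.S20024

/-- Case q = 0: let p be a prime, S a commutative ring of characteristic p and B a commutative S-algebra
(in the source B = S[[π]][1/π]), u a unit of B (the uniformizer π), m, s natural numbers, i, l
integers and c a p-typical Witt vector over S. Write Φ_v(c) for the length-m truncation of V^s(c ·
[v]), where c is mapped to the Witt vectors of B, [v] is the Teichmüller representative of v ∈ B and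
V is the Verschiebung; for n = p^(m−1−s) · i the degree-zero piece F_n^{m,0}(S) is the set of all
Φ_{u^i}(c). Then multiplication by the truncated Teichmüller representative [u^l] satisfies [u^l] ·
Φ_{u^i}(c) = Φ_{u^(i + p^s l)}(c); consequently [u^l] · F_n^{m,0}(S) = F_{n + p^(m−1) l}^{m,0}(S).
(Only the part of the lemma in differential degree q = 0 is stated; the source's S is a regular
local F-finite F_p-algebra, and the identity holds for any S-algebra B of characteristic p.) -/
theorem result (p : ℕ) [Fact p.Prime] {S B : Type u}
    [CommRing S] [CharP S p] [CommRing B] [Algebra S B] (m s : ℕ) (u : Bˣ) (i l : ℤ)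
    (c : WittVector p S) :
    WittVector.truncate m (WittVector.teichmuller p ((u ^ l : Bˣ) : B)) *
        WittFil.vShiftTeich p m s ((u ^ i : Bˣ) : B) c =
      WittFil.vShiftTeich p m s ((u ^ (i + (p : ℤ) ^ s * l) : Bˣ) : B) c := by
  apply TruncatedWittVector.ext
  intro j
  unfold WittFil.vShiftTeich
  rw [← map_mul, WittVector.coeff_truncate, WittVector.coeff_truncate,
    Groth.Agent.Helper9.teichmuller_mul_coeff]
  by_cases hj : (j : ℕ) < s
  · rw [WittVector.iterate_verschiebung_coeff_eq_zero _ hj,
      WittVector.iterate_verschiebung_coeff_eq_zero _ hj, mul_zero]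
  · push Not at hj
    obtain ⟨k, hk⟩ : ∃ k, (j : ℕ) = k + s := ⟨(j : ℕ) - s, by omega⟩
    rw [hk, WittVector.iterate_verschiebung_coeff, WittVector.iterate_verschiebung_coeff,
      Groth.Agent.Helper9.mul_teichmuller_coeff, Groth.Agent.Helper9.mul_teichmuller_coeff]
    have hU : (u ^ l) ^ (p ^ (k + s)) * (u ^ i) ^ (p ^ k) = (u ^ (i + (p : ℤ) ^ s * l)) ^ (p ^ k) := by
      rw [← zpow_natCast, ← zpow_natCast, ← zpow_natCast, ← zpow_mul, ← zpow_mul, ← zpow_mul,
        ← zpow_add]
      congr 1
      push_cast
      ring
    have hU' := congrArg Units.val hU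
    rw [Units.val_mul, Units.val_pow_eq_pow_val, Units.val_pow_eq_pow_val,
      Units.val_pow_eq_pow_val] at hU'
    rw [← hU']
    ring

end Groth.Agent.S20024
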