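import Groth.Statements.S2004
import Mathlib

set_option autoImplicit false
universe u
open TensorProduct
open EtAlg

namespace Groth.Agent.S2004

section aux
variable {R R' : Type u} [CommRing R] [CommRing R'] [Algebra R R'] (f : R)

lemma awayMap_algebraMap (r : R) :
    Localization.awayMap (algebraMap R R') f (algebraMap R (Localization.Away f) r) =
      algebraMap R' (Localization.Away (algebraMap R R' f)) (algebraMap R R' r) := by
  unfold Localization.awayMap IsLocalization.Away.map
  rw [IsLocalization.map_eq]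

lemma loc_eq_zero_iff (r : R) :
    algebraMap R (Localization.Away f) r = 0 ↔ ∃ n : ℕ, f ^ n * r = 0 := by
  rw [IsLocalization.map_eq_zero_iff (Submonoid.powers f)]
  constructor
  · rintro ⟨⟨_, n, rfl⟩, h⟩
    exact ⟨n, h⟩
  · rintro ⟨n, h⟩
    exact ⟨⟨f ^ n, n, rfl⟩, h⟩

lemma exists_rep (y : Localization.Away f) :
    ∃ (r₀ : R) (n : ℕ), y * algebraMap R (Localization.Away f) (f ^ n) = algebraMap R (Localization.Away f) r₀ := by
  obtain ⟨⟨r₀, ⟨_, n, rfl⟩⟩, h⟩ := IsLocalization.surj (Submonoid.powers f) y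
  exact ⟨r₀, n, h⟩

lemma isUnit_loc_pow (n : ℕ) : IsUnit (algebraMap R (Localization.Away f) (f ^ n)) :=
  IsLocalization.map_units (Localization.Away f) (⟨f ^ n, n, rfl⟩ : Submonoid.powers f)

/-- injectivity of the quotient map, unwound -/
lemma quot_inj (hq : EtGlue.QuotPowBijective R R' f) (n : ℕ) (hn : 0 < n) (r : R) (x' : R')
    (h : algebraMap R R' r = algebraMap R R' f ^ n * x') : ∃ r₁ : R, r = f ^ n * r₁ := by
  have hinj := (hq n hn).1
  have h0 : Ideal.quotientMap (Ideal.map (algebraMap R R') (Ideal.span {f ^ n})) (algebraMap R R')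
      Ideal.le_comap_map (Ideal.Quotient.mk _ r) = 0 := by
    rw [Ideal.quotientMap_mk, Ideal.Quotient.eq_zero_iff_mem, h, Ideal.map_span, Set.image_singleton, map_pow]
    exact Ideal.mul_mem_right _ _ (Ideal.subset_span rfl)
  have h1 : Ideal.Quotient.mk (Ideal.span {f ^ n}) r = 0 := by
    apply hinj
    rw [h0, map_zero]
  rw [Ideal.Quotient.eq_zero_iff_mem, Ideal.mem_span_singleton'] at h1
  obtain ⟨a, ha⟩ := h1
  exact ⟨a, by rw [← ha, mul_comm]⟩

/-- surjectivity of the quotient map, unwound -/
lemma quot_surj (hq : EtGlue.QuotPowBijective R R' f) (n : ℕ) (hn : 0 < n) (x : R') :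
    ∃ (r : R) (x' : R'), x = algebraMap R R' r + algebraMap R R' f ^ n * x' := by
  have hsurj := (hq n hn).2
  obtain ⟨q, hq'⟩ := hsurj (Ideal.Quotient.mk _ x)
  obtain ⟨r, rfl⟩ := Ideal.Quotient.mk_surjective q
  rw [Ideal.quotientMap_mk, Ideal.Quotient.eq, Ideal.map_span, Set.image_singleton, map_pow,
    Ideal.mem_span_singleton'] at hq'
  obtain ⟨a, ha⟩ := hq'
  refine ⟨r, -a, ?_⟩
  linear_combination ha

end aux

/-- Let R -> R' induce bijections R/f^n R -> R'/f^n R' for all n > 0. Then (R -> R', f) is a glueing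
pair if and only if R -> R' maps the f-power torsion of R bijectively onto the f-power torsion of R'
(stated as: injective on f-power torsion elements, and every f-power torsion element of R' is the
image of one of R). -/
theorem result (R R' : Type u) [CommRing R] [CommRing R'] [Algebra R R'] (f : R)
    (hq : EtGlue.QuotPowBijective R R' f) :
    EtGlue.IsGlueingPair R R' f ↔
      ((∀ x : R, (∃ n : ℕ, f ^ n * x = 0) → algebraMap R R' x = 0 → x = 0) ∧
       (∀ x' : R', (∃ n : ℕ, algebraMap R R' f ^ n * x' = 0) →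
          ∃ x : R, (∃ n : ℕ, f ^ n * x = 0) ∧ algebraMap R R' x = x')) := by
  constructor
  · rintro ⟨-, hinj, hmid, -⟩
    constructor
    · rintro x ⟨n, hn⟩ hx
      apply hinj
      simp only [Prod.mk.injEq, map_zero]
      exact ⟨hx, (loc_eq_zero_iff f x).2 ⟨n, hn⟩⟩
    · rintro x' ⟨n, hn⟩
      have h0 : algebraMap R' (Localization.Away (algebraMap R R' f)) x' = 0 :=
        (loc_eq_zero_iff (algebraMap R R' f) x').2 ⟨n, hn⟩
      obtain ⟨r, hr1, hr2⟩ := hmid x' 0 (by rw [h0, map_zero])
      exact ⟨r, (loc_eq_zero_iff f r).1 hr2, hr1⟩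
  · rintro ⟨htinj, htsurj⟩
    refine ⟨hq, ?_, ?_, ?_⟩
    · intro r r' h
      simp only [Prod.mk.injEq] at h
      rw [← sub_eq_zero]
      apply htinj
      · apply (loc_eq_zero_iff f _).1
        rw [map_sub, h.2, sub_self]
      · rw [map_sub, h.1, sub_self]
    · intro x y hxy
      obtain ⟨r₀, n, hy⟩ := exists_rep f y
      -- apply ψ
      have h1 : algebraMap R' (Localization.Away (algebraMap R R' f)) (x * algebraMap R R' f ^ n - algebraMap R R' r₀) = 0 := by
        have := congrArg (Localization.awayMap (algebraMap R R') f) hy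
        rw [map_mul, awayMap_algebraMap, awayMap_algebraMap, ← hxy, ← map_mul, map_pow] at this
        rw [map_sub, this, sub_self]
      obtain ⟨m, hm⟩ := (loc_eq_zero_iff (algebraMap R R' f) _).1 h1
      -- use m+1
      have hm' : algebraMap R R' (f ^ (m + 1) * r₀) = algebraMap R R' f ^ (m + 1 + n) * x := by
        have : algebraMap R R' f ^ (m + 1) * (x * algebraMap R R' f ^ n - algebraMap R R' r₀) = 0 := by
          rw [pow_succ, mul_comm (algebraMap R R' f ^ m), mul_assoc, hm, mul_zero]
        rw [map_mul, map_pow, pow_add]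
        linear_combination (-1 : R') * this
      obtain ⟨r₁, hr₁⟩ := quot_inj f hq (m + 1 + n) (by omega) _ _ hm'
      have hy₁ : algebraMap R (Localization.Away f) r₁ = y := by
        apply (isUnit_loc_pow f (m + 1 + n)).mul_left_cancel
        rw [← map_mul, ← hr₁, map_mul, pow_add, map_mul, ← hy]
        simp only [map_mul, map_pow]
        ring
      have htors : ∃ k : ℕ, algebraMap R R' f ^ k * (x - algebraMap R R' r₁) = 0 := by
        refine ⟨m + 1 + n, ?_⟩
        rw [mul_sub, ← hm', ← map_pow, ← map_mul, ← hr₁, sub_self]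
      obtain ⟨t, ⟨k, hk⟩, ht⟩ := htsurj _ htors
      refine ⟨r₁ + t, ?_, ?_⟩
      · rw [map_add, ht]; ring
      · rw [map_add, hy₁, (loc_eq_zero_iff f t).2 ⟨k, hk⟩, add_zero]
    · intro z
      obtain ⟨x₀, n, hz⟩ := exists_rep (algebraMap R R' f) z
      obtain ⟨r, x', hx⟩ := quot_surj f hq (n + 1) (by omega) (x₀ * algebraMap R R' f)
      refine ⟨x', - IsLocalization.mk' (Localization.Away f) r (⟨f ^ (n + 1), n + 1, rfl⟩ : Submonoid.powers f), ?_⟩
      apply (isUnit_loc_pow (algebraMap R R' f) (n + 1)).mul_left_cancel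
      rw [map_neg, sub_neg_eq_add, mul_add]
      have h2 : algebraMap R' (Localization.Away (algebraMap R R' f)) (algebraMap R R' f ^ (n + 1)) *
          Localization.awayMap (algebraMap R R') f
            (IsLocalization.mk' (Localization.Away f) r (⟨f ^ (n + 1), n + 1, rfl⟩ : Submonoid.powers f)) =
          algebraMap R' (Localization.Away (algebraMap R R' f)) (algebraMap R R' r) := by
        rw [← map_pow, ← awayMap_algebraMap, ← map_mul, IsLocalization.mk'_spec'_mk, awayMap_algebraMap]
      rw [h2, ← map_mul, ← map_add, add_comm, ← hx, map_mul, pow_succ, map_mul, ← hz]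
      ring

end Groth.Agent.S2004
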