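import Groth.Statements.S2012
import Mathlib

set_option autoImplicit false
universe u
open EtAlg

namespace Groth.Agent.S2012

/-- Let A be a ring and I an ideal contained in its Jacobson radical. Let B be an A-algebra which is
flat, integral and of finite presentation over A and such that A/I -> B/IB is bijective. Then A -> B
is bijective. -/
theorem result (A B : Type u) [CommRing A] [CommRing B] [Algebra A B]
    (I : Ideal A) (hI : I ≤ (⊥ : Ideal A).jacobson) [Module.Flat A B] [Algebra.IsIntegral A B] [Algebra.FinitePresentation A B]
    (hq : Function.Bijective (Ideal.quotientMap (I.map (algebraMap A B)) (algebraMap A B) Ideal.le_comap_map)) :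
    Function.Bijective (algebraMap A B) := by
  have hfin : Module.Finite A B := Algebra.IsIntegral.finite
  have hfp : Module.FinitePresentation A B := Module.FinitePresentation.of_finite_of_finitePresentation A B
  have hproj : Module.Projective A B := Module.Flat.projective_of_finitePresentation
  -- surjectivity by Nakayama
  have hsurj : Function.Surjective (algebraMap A B) := by
    have h1 : (⊤ : Submodule A B) ≤ LinearMap.range (Algebra.linearMap A B) := by
      apply Submodule.le_of_le_smul_of_le_jacobson_bot (I := I) Module.Finite.fg_top hI
      intro b _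
      obtain ⟨x, hx⟩ := hq.2 (Ideal.Quotient.mk _ b)
      obtain ⟨a, rfl⟩ := Ideal.Quotient.mk_surjective x
      rw [Ideal.quotientMap_mk] at hx
      have h2 : b - algebraMap A B a ∈ I.map (algebraMap A B) := by
        rw [← Ideal.Quotient.eq_zero_iff_mem, map_sub, hx, sub_self]
      have h3 : b - algebraMap A B a ∈ (I • ⊤ : Submodule A B) := by
        rw [Ideal.smul_top_eq_map]; exact h2
      have h4 : b = algebraMap A B a + (b - algebraMap A B a) := by ring
      rw [h4]
      exact Submodule.add_mem_sup ⟨a, rfl⟩ h3
    intro b
    obtain ⟨a, ha⟩ := h1 (Submodule.mem_top : b ∈ ⊤)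
    exact ⟨a, ha⟩
  refine ⟨?_, hsurj⟩
  -- injectivity: the kernel is a direct summand, zero by Nakayama
  obtain ⟨s, hs⟩ := Module.projective_lifting_property (Algebra.linearMap A B) LinearMap.id hsurj
  have hs' : ∀ b, algebraMap A B (s b) = b := fun b => LinearMap.congr_fun hs b
  have hKI : ∀ k : A, algebraMap A B k = 0 → k ∈ I := by
    intro k hk
    have h1 : Ideal.quotientMap (I.map (algebraMap A B)) (algebraMap A B) Ideal.le_comap_map
        (Ideal.Quotient.mk I k) = 0 := by
      rw [Ideal.quotientMap_mk, hk, map_zero]
    have h2 := hq.1 (h1.trans (map_zero _).symm)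
    exact Ideal.Quotient.eq_zero_iff_mem.mp h2
  have hK : LinearMap.ker (Algebra.linearMap A B) = ⊥ := by
    apply Submodule.eq_bot_of_le_smul_of_le_jacobson_bot I _ _ _ hI
    · -- finitely generated: image of the projection
      have : LinearMap.ker (Algebra.linearMap A B) =
          LinearMap.range (LinearMap.id - s.comp (Algebra.linearMap A B)) := by
        ext k
        simp only [LinearMap.mem_ker, LinearMap.mem_range, Algebra.linearMap_apply]
        constructor
        · intro hk
          exact ⟨k, by simp [hk]⟩
        · rintro ⟨y, rfl⟩
          simp [hs']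
      rw [this, LinearMap.range_eq_map]
      exact Submodule.FG.map _ (Ideal.fg_top A)
    · intro k hk
      have hk0 : algebraMap A B k = 0 := hk
      have hkI := hKI k hk0
      have hπ : (1 : A) - s (algebraMap A B 1) ∈ LinearMap.ker (Algebra.linearMap A B) := by
        simp [hs']
      have h3 : k = k • ((1 : A) - s (algebraMap A B 1)) := by
        rw [smul_eq_mul, mul_sub, mul_one, ← smul_eq_mul, ← map_smul, Algebra.smul_def, hk0,
          zero_mul, map_zero, sub_zero]
      rw [h3]
      exact Submodule.smul_mem_smul hkI hπ
  exact (injective_iff_map_eq_zero _).mpr fun a ha =>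
    (Submodule.mem_bot A).mp (hK ▸ (show a ∈ LinearMap.ker (Algebra.linearMap A B) from ha))

end Groth.Agent.S2012
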