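import Groth.Statements.S2014
import Mathlib


set_option autoImplicit false
universe u
open EtAlg

namespace Groth.Agent.S2014

/-- Let R be a Noetherian local ring of Krull dimension 1 and x an element of the maximal ideal
contained in no minimal prime of R. Then the number of minimal prime ideals of R is at most the
length of R/xR as an R-module. -/
theorem result (R : Type u) [CommRing R] [IsNoetherianRing R] [IsLocalRing R]
    (hdim : ringKrullDim R = 1) (x : R) (hx : x ∈ IsLocalRing.maximalIdeal R) (hmin : ∀ p ∈ minimalPrimes R, x ∉ p) :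
    (Set.ncard (minimalPrimes R) : ℕ∞) ≤ Module.length R (R ⧸ Ideal.span {x}) := by
  classical
  have hfin : (minimalPrimes R).Finite := minimalPrimes.finite_of_isNoetherianRing R
  have := hfin.to_subtype
  have hcard : Set.ncard (minimalPrimes R) = Nat.card (minimalPrimes R) :=
    (Nat.card_coe_set_eq _).symm
  rw [hcard]
  set n := Nat.card (minimalPrimes R) with hn
  let e : Fin n ≃ minimalPrimes R := (Finite.equivFin (minimalPrimes R)).symm
  let J : ℕ → Ideal R := fun k =>
    (Finset.univ.filter (fun i : Fin n => i.val < k)).inf (fun i => (e i).1)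
  have hJsucc : ∀ k (hk : k < n), J (k + 1) = J k ⊓ (e ⟨k, hk⟩).1 := by
    intro k hk
    have : (Finset.univ.filter (fun i : Fin n => i.val < k + 1)) =
        insert ⟨k, hk⟩ (Finset.univ.filter (fun i : Fin n => i.val < k)) := by
      ext i
      simp only [Finset.mem_filter, Finset.mem_univ, true_and, Finset.mem_insert, Fin.ext_iff]
      omega
    simp only [J, this, Finset.inf_insert, inf_comm]
  have hprime : ∀ i : Fin n, (e i).1.IsPrime := fun i => (e i).2.1.1
  -- the key non-containment
  have hkey : ∀ k (hk : k < n), ¬ (J k ≤ J (k + 1) ⊔ Ideal.span {x}) := by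
    intro k hk hle
    have h1 : J k ≤ J (k + 1) ⊔ (IsLocalRing.maximalIdeal R) • J k := by
      intro a ha
      obtain ⟨b, hb, c, hc, rfl⟩ := Submodule.mem_sup.mp (hle ha)
      obtain ⟨c, rfl⟩ := Ideal.mem_span_singleton'.mp hc
      refine Submodule.mem_sup.mpr ⟨b, hb, c * x, ?_, rfl⟩
      have hcx : c * x ∈ J k := by
        have : c * x = (b + c * x) - b := by ring
        rw [this]
        exact sub_mem ha (by rw [hJsucc k hk] at hb; exact hb.1)
      have hcJ : c ∈ J k := by
        simp only [J, Submodule.mem_finsetInf] at hcx ⊢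
        intro i hi
        have := hcx i hi
        rcases (hprime i).mem_or_mem this with h | h
        · exact h
        · exact absurd h (hmin _ (e i).2)
      rw [mul_comm, ← smul_eq_mul]
      exact Submodule.smul_mem_smul hx hcJ
    have h2 : J k ≤ J (k + 1) :=
      Submodule.le_of_le_smul_of_le_jacobson_bot (IsNoetherian.noetherian _)
        (IsLocalRing.maximalIdeal_le_jacobson _) h1
    have h3 : J k ≤ (e ⟨k, hk⟩).1 := h2.trans (by rw [hJsucc k hk]; exact inf_le_right)
    obtain ⟨i, hi, hile⟩ := ((hprime ⟨k, hk⟩).inf_le').mp h3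
    simp only [Finset.mem_filter, Finset.mem_univ, true_and] at hi
    have h4 : (e i).1 = (e ⟨k, hk⟩).1 :=
      le_antisymm hile ((e ⟨k, hk⟩).2.2 ⟨hprime i, bot_le⟩ hile)
    have h5 : i = ⟨k, hk⟩ := e.injective (Subtype.ext h4)
    rw [h5] at hi
    simp at hi
  let N : ℕ → Submodule R (R ⧸ Ideal.span {x}) := fun k =>
    Submodule.map (Submodule.mkQ (Ideal.span {x})) (J k)
  have hJanti : ∀ k, J (k + 1) ≤ J k := by
    intro k
    apply Finset.inf_mono
    intro i
    simp only [Finset.mem_filter, Finset.mem_univ, true_and]
    omega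
  have hNlt : ∀ k (hk : k < n), N (k + 1) < N k := by
    intro k hk
    refine lt_of_le_of_ne (Submodule.map_mono (hJanti k)) ?_
    intro heq
    apply hkey k hk
    have h1 : J k ≤ Submodule.comap (Submodule.mkQ (Ideal.span {x})) (N k) := Submodule.le_comap_map _ _
    rw [← heq] at h1
    have h2 : Submodule.comap (Submodule.mkQ (Ideal.span {x})) (N (k + 1)) =
        Ideal.span {x} ⊔ J (k + 1) := Submodule.comap_map_mkQ _ _
    rw [h2, sup_comm] at h1
    exact h1
  let s : LTSeries (Submodule R (R ⧸ Ideal.span {x})) :=
    LTSeries.mk n (fun i => N (n - i.val)) (by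
      rw [Fin.strictMono_iff_lt_succ]
      intro i
      have hi : i.val < n := i.2
      have : n - (Fin.castSucc i).val = (n - i.succ.val) + 1 := by
        simp only [Fin.val_castSucc, Fin.val_succ]; omega
      rw [this]
      exact hNlt _ (by simp only [Fin.val_succ]; omega))
  have := Order.LTSeries.length_le_krullDim s
  rw [← Module.coe_length] at this
  exact_mod_cast this

end Groth.Agent.S2014
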