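import Groth.Statements.S2017
import Mathlib

set_option autoImplicit false
universe u
open EtAlg

namespace Groth.Agent.S2017

/-- Let R be a Noetherian ring, A, B, C R-algebras of finite type, f : A -> B a surjective R-algebra map
and g : C -> B an R-algebra map making B a finite C-module. Then the fibre product A ×_B C (the
equalizer of f ∘ pr₁ and g ∘ pr₂ in A × C) is an R-algebra of finite type. -/
theorem result (R A B C : Type u) [CommRing R] [IsNoetherianRing R] [CommRing A] [CommRing B]
    [CommRing C] [Algebra R A] [Algebra R B] [Algebra R C] [Algebra.FiniteType R A] [Algebra.FiniteType R B]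
    [Algebra.FiniteType R C] (f : A →ₐ[R] B) (hf : Function.Surjective f) (g : C →ₐ[R] B)
    (hg : (g.toRingHom).Finite) :
    Algebra.FiniteType R ↥(AlgHom.equalizer (f.comp (AlgHom.fst R A C)) (g.comp (AlgHom.snd R A C))) := by
  classical
  set D := AlgHom.equalizer (f.comp (AlgHom.fst R A C)) (g.comp (AlgHom.snd R A C)) with hD
  have hmemD : ∀ p : A × C, p ∈ D ↔ f p.1 = g p.2 := fun p => by
    simp [hD, AlgHom.mem_equalizer]
  letI := g.toRingHom.toAlgebra
  have hfin : Module.Finite C B := hg
  obtain ⟨s, hs⟩ := hfin.fg_top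
  choose lift hlift using hf
  let gens : Set (A × C) :=
    {((1 : A), (0 : C)), ((0 : A), (1 : C))} ∪ (fun b => (lift b, (0 : C))) '' (s : Set B)
  have hgens_fin : gens.Finite :=
    (Set.toFinite _).union ((Finset.finite_toSet s).image _)
  let T : Submodule D (A × C) := Submodule.span D gens
  have h1 : ∀ a, f a = 0 → ((a, 0) : A × C) ∈ T := by
    intro a ha
    have hd : ((a, 0) : A × C) ∈ D := by rw [hmemD]; simp [ha]
    have : ((a, 0) : A × C) = (⟨(a, 0), hd⟩ : D) • ((1, 0) : A × C) := by
      rw [Subalgebra.smul_def]; simp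
    rw [this]
    exact T.smul_mem _ (Submodule.subset_span (by simp [gens]))
  have h2 : ∀ b ∈ Submodule.span C (s : Set B), ∃ a, f a = b ∧ ((a, 0) : A × C) ∈ T := by
    intro b hb
    induction hb using Submodule.span_induction with
    | mem b hb =>
      exact ⟨lift b, hlift b, Submodule.subset_span (Or.inr ⟨b, hb, rfl⟩)⟩
    | zero => exact ⟨0, map_zero f, by
        have : ((0, 0) : A × C) = 0 := rfl
        rw [this]; exact T.zero_mem⟩
    | add x y _ _ hx hy =>
      obtain ⟨a, ha, haT⟩ := hx
      obtain ⟨a', ha', haT'⟩ := hy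
      refine ⟨a + a', by simp [ha, ha'], ?_⟩
      have := T.add_mem haT haT'
      simpa using this
    | smul c x _ hx =>
      obtain ⟨a, ha, haT⟩ := hx
      have hd : ((lift (g c), c) : A × C) ∈ D := by rw [hmemD]; exact hlift _
      refine ⟨lift (g c) * a, ?_, ?_⟩
      · rw [map_mul, hlift, ha, Algebra.smul_def]; rfl
      · have := T.smul_mem (⟨_, hd⟩ : D) haT
        rw [Subalgebra.smul_def] at this
        simpa using this
  have hT : T = ⊤ := by
    rw [eq_top_iff]
    rintro ⟨a, c⟩ -
    obtain ⟨a', ha', haT'⟩ := h2 (f a) (by rw [hs]; trivial)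
    have h3 : ((a - a', 0) : A × C) ∈ T := h1 _ (by rw [map_sub, ha', sub_self])
    have hd : ((lift (g c), c) : A × C) ∈ D := by rw [hmemD]; exact hlift _
    have h4 : ((0, c) : A × C) ∈ T := by
      have : ((0, c) : A × C) = (⟨_, hd⟩ : D) • ((0, 1) : A × C) := by
        rw [Subalgebra.smul_def]; simp
      rw [this]
      exact T.smul_mem _ (Submodule.subset_span (by simp [gens]))
    have : ((a, c) : A × C) = (a - a', 0) + (a', 0) + (0, c) := by simp
    rw [this]
    exact T.add_mem (T.add_mem h3 haT') h4
  have hAC : (⊤ : Subalgebra R (A × C)).FG := (inferInstance : Algebra.FiniteType R (A × C)).out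
  have hBC : (⊤ : Submodule D (A × C)).FG := Submodule.fg_def.mpr ⟨gens, hgens_fin, hT⟩
  exact ⟨fg_of_fg_of_fg R D (A × C) hAC hBC Subtype.val_injective⟩

end Groth.Agent.S2017
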