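import Groth.Statements.S2018
import Mathlib

set_option autoImplicit false
universe u
open EtAlg

namespace Groth.Agent.S2018

/-- Let g : A' -> A be a surjective ring map and f : B -> A an integral ring map. Then the projection
from the fibre product B ×_A A' (the equalizer of f ∘ pr₁ and g ∘ pr₂ in B × A') to A' is integral. -/
theorem result (A A' B : Type u) [CommRing A] [CommRing A'] [CommRing B] (g : A' →+* A)
    (hg : Function.Surjective g) (f : B →+* A) (hf : f.IsIntegral) :
    ((RingHom.snd B A').comp ((f.comp (RingHom.fst B A')).eqLocus (g.comp (RingHom.snd B A'))).subtype).IsIntegral := by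
  classical
  intro a'
  rcases subsingleton_or_nontrivial B with hB | hB
  · have hA : Subsingleton A := by
      refine ⟨fun x y => ?_⟩
      have h10 : (1 : A) = 0 := by rw [← map_one f, ← map_zero f, Subsingleton.elim (1 : B) 0]
      calc x = x * 1 := (mul_one x).symm
        _ = y * 1 := by rw [h10, mul_zero, mul_zero]
        _ = y := mul_one y
    let w0 : (f.comp (RingHom.fst B A')).eqLocus (g.comp (RingHom.snd B A')) :=
      ⟨(0, a'), Subsingleton.elim _ _⟩
    have : ((RingHom.snd B A').comp
        ((f.comp (RingHom.fst B A')).eqLocus (g.comp (RingHom.snd B A'))).subtype) w0 = a' := rfl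
    rw [← this]
    exact RingHom.isIntegralElem_map _
  obtain ⟨q0, hq0, hq0e⟩ := hf (g a')
  -- make the degree positive
  set q : Polynomial B := q0 * Polynomial.X with hqdef
  have hq : q.Monic := hq0.mul Polynomial.monic_X
  have hqe : Polynomial.eval₂ f (g a') q = 0 := by
    rw [hqdef, Polynomial.eval₂_mul, hq0e, zero_mul]
  set n := q.natDegree with hn
  have hnpos : n ≠ 0 := by
    rw [hn, hqdef, hq0.natDegree_mul Polynomial.monic_X, Polynomial.natDegree_X]
    exact Nat.succ_ne_zero _
  set P := (f.comp (RingHom.fst B A')).eqLocus (g.comp (RingHom.snd B A')) with hP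
  set φ : P →+* A' := (RingHom.snd B A').comp P.subtype with hφ
  -- lifting of elements of B
  have hlift : ∀ b : B, ∃ x : P, (x : B × A').1 = b := by
    intro b
    obtain ⟨y, hy⟩ := hg (f b)
    exact ⟨⟨(b, y), by simp [hP, RingHom.mem_eqLocus, hy]⟩, rfl⟩
  choose σ hσ using hlift
  have hσ2 : ∀ b : B, g (φ (σ b)) = f b := by
    intro b
    have := (σ b).2
    simp only [hP, RingHom.mem_eqLocus, RingHom.coe_comp, Function.comp_apply, RingHom.coe_fst,
      RingHom.coe_snd] at this
    simp only [hφ, RingHom.coe_comp, Function.comp_apply, RingHom.coe_snd, Subring.coe_subtype]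
    rw [← this, hσ]
  set c : A' := a' ^ n + ∑ i : Fin n, φ (σ (q.coeff i)) * a' ^ (i : ℕ) with hc
  have hgc : g c = 0 := by
    rw [hc, map_add, map_pow, map_sum]
    simp only [map_mul, map_pow, hσ2]
    have h1 : q = Polynomial.X ^ n + ∑ i : Fin n, Polynomial.C (q.coeff i) * Polynomial.X ^ (i : ℕ) := by
      conv_lhs => rw [hq.as_sum]
      rw [Finset.sum_range]
    have h2 := hqe
    rw [h1] at h2
    simp only [Polynomial.eval₂_add, Polynomial.eval₂_pow, Polynomial.eval₂_X,
      Polynomial.eval₂_finsetSum, Polynomial.eval₂_mul, Polynomial.eval₂_C] at h2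
    convert h2 using 4 <;> rw [← h1]
  let w : P := ⟨(0, c), by simp [hP, RingHom.mem_eqLocus, hgc]⟩
  have hφw : φ w = c := rfl
  refine ⟨Polynomial.X ^ n + ((∑ i : Fin n, Polynomial.C (σ (q.coeff i)) * Polynomial.X ^ (i : ℕ)) -
    Polynomial.C w), ?_, ?_⟩
  · apply Polynomial.monic_X_pow_add
    refine lt_of_le_of_lt (Polynomial.degree_sub_le _ _) (max_lt (Polynomial.degree_sum_fin_lt _) ?_)
    refine lt_of_le_of_lt Polynomial.degree_C_le ?_
    exact_mod_cast Nat.pos_of_ne_zero hnpos
  · simp only [Polynomial.eval₂_add, Polynomial.eval₂_pow, Polynomial.eval₂_X,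
      Polynomial.eval₂_finsetSum, Polynomial.eval₂_mul, Polynomial.eval₂_C, Polynomial.eval₂_sub,
      hφw]
    rw [hc]; ring

end Groth.Agent.S2018
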