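import Groth.Statements.S2049
import Mathlib
import Groth.Agent.Helper8.EssLoc
import Groth.Agent.Helper9.VP4
-- import your own Groth.Agent.* helpers here

set_option autoImplicit false
universe u
open CAlg

namespace Groth.Agent.S2049

/-- Let `A` be a valuation ring, `A → B` a local homomorphism of local rings essentially of finite type,
and `M` a finite `B`-module which is flat over `A`. Then `M` is finitely presented over `B`. -/
theorem result {A B M : Type u} [CommRing A] [IsDomain A]
    [ValuationRing A] [CommRing B] [IsLocalRing B] [Algebra A B] [IsLocalHom (algebraMap A B)]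
    [Algebra.EssFiniteType A B] [AddCommGroup M] [Module B M] [Module A M] [IsScalarTower A B M]
    [Module.Finite B M] [Module.Flat A M] : Module.FinitePresentation B M := by
  classical
  obtain ⟨n, q, hq, φ, hφ⟩ := Groth.Agent.Helper8.EssLoc.main (A := A) (B := B)
  let _ : Algebra (Localization.AtPrime q) B := φ.toRingHom.toAlgebra
  let _ : Module (Localization.AtPrime q) M := Module.compHom M φ.toRingHom
  have hst1 : IsScalarTower (Localization.AtPrime q) B M := ⟨fun r b m => by
    show (φ r * b) • m = φ r • (b • m)
    exact mul_smul _ _ _⟩
  let _ : Module (MvPolynomial (Fin n) A) M :=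
    Module.compHom M (φ.toRingHom.comp
      (algebraMap (MvPolynomial (Fin n) A) (Localization.AtPrime q)))
  have hst2 : IsScalarTower (MvPolynomial (Fin n) A) (Localization.AtPrime q) M :=
    ⟨fun p r m => by
      show φ (p • r) • m = φ (algebraMap _ _ p) • (φ r • m)
      rw [Algebra.smul_def, map_mul, mul_smul]⟩
  have hst3 : IsScalarTower A (MvPolynomial (Fin n) A) M := ⟨fun a p m => by
    show φ (algebraMap _ _ (a • p)) • m = a • (φ (algebraMap _ _ p) • m)
    rw [Algebra.smul_def, map_mul, map_mul, mul_smul,
      ← IsScalarTower.algebraMap_apply A (MvPolynomial (Fin n) A) (Localization.AtPrime q),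
      φ.commutes, algebraMap_smul]⟩
  have hfinB : Module.Finite (Localization.AtPrime q) B :=
    Module.Finite.of_surjective (Algebra.linearMap (Localization.AtPrime q) B) hφ
  have hfin : Module.Finite (Localization.AtPrime q) M :=
    Module.Finite.trans B M
  have htf : ∀ c : A, c ≠ 0 → ∀ m : M, c • m = 0 → m = 0 := by
    intro c hc m hm
    have hreg : IsSMulRegular M c :=
      Module.Flat.isSMulRegular_of_nonZeroDivisors (mem_nonZeroDivisors_of_ne_zero hc)
    exact hreg (show c • m = c • 0 by rw [hm, smul_zero])
  have hfp : Module.FinitePresentation (Localization.AtPrime q) M :=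
    Groth.Agent.Helper9.VP4.finitePresentation_localization q htf
  exact Groth.Agent.Helper9.VP4.finitePresentation_of_surjective_algebraMap
    (R := Localization.AtPrime q) (S := B) hφ

end Groth.Agent.S2049
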