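import Groth.Statements.S2051
import Groth.Agent.Helper2.PairHensUniv

set_option autoImplicit false
universe u
open CAlg

namespace Groth.Agent.S2051

/-- For a ring `A` and an ideal `I` the pair `(A, I)` has a henselization: an `A`-algebra, henselian
along the extension of `I`, through which every ring map from `A` to a henselian pair `(C, J)` with
`I` mapping into `J` factors uniquely. -/
theorem result (A : Type u) [CommRing A] (I : Ideal A) :
    ∃ (Ah : Type u) (_ : CommRing Ah) (_ : Algebra A Ah), Hens2.IsPairHenselization A I Ah := by
  exact ⟨Groth.Agent.Helper2.PairHens.Hens I, inferInstance, inferInstance,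
    Groth.Agent.Helper2.PairHens.Hens.isPairHenselization A I⟩

end Groth.Agent.S2051
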