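import Groth.Statements.S2083
import Groth.Agent.Helper2.DepthCM2

set_option autoImplicit false
universe u
open CAlg

namespace Groth.Agent.S2083

/-- Let `R` be a Noetherian local ring, `M` a finite Cohen–Macaulay `R`-module and `g` a member of the
maximal ideal for which the support of `M/gM` has dimension exactly one less than that of `M`. Then
`g` is a nonzerodivisor on `M`, and the quotient `M/gM` is again Cohen–Macaulay, with depth one
smaller than that of `M`. -/
theorem result {R M : Type u} [CommRing R] [IsLocalRing R] [IsNoetherianRing R]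
    [AddCommGroup M] [Module R M] [Module.Finite R M] (hM : LocCoh.IsCohenMacaulayModule R M) (g : R)
    (hg : g ∈ IsLocalRing.maximalIdeal R)
    (hdim : Module.supportDim R (M ⧸ Ideal.span {g} • (⊤ : Submodule R M)) + 1 = Module.supportDim R M) :
    IsSMulRegular M g ∧ LocCoh.IsCohenMacaulayModule R (M ⧸ Ideal.span {g} • (⊤ : Submodule R M)) ∧
      LocCoh.depth R (M ⧸ Ideal.span {g} • (⊤ : Submodule R M)) + 1 = LocCoh.depth R M := by
  open Groth.Agent.Helper2 Groth.Agent.Helper2.DepthCM Groth.Agent.Helper2.DepthCM2 RingTheory.Sequence IsLocalRing Pointwise in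
  classical
  have hsp : (Ideal.span {g} • (⊤ : Submodule R M)) = g • (⊤ : Submodule R M) :=
    Submodule.ideal_span_singleton_smul g ⊤
  let e : (M ⧸ Ideal.span {g} • (⊤ : Submodule R M)) ≃ₗ[R] QuotSMulTop g M :=
    Submodule.quotEquivOfEq _ _ hsp
  have hwr : IsWeaklyRegular M [g] := by
    refine weaklyRegular_of_dim_drop [g] M hM (by simpa using hg) ?_
    rw [Ideal.ofList_singleton]
    simpa using hdim
  have hreg : IsSMulRegular M g := (isWeaklyRegular_singleton_iff M g).1 hwr
  have hcm := cm_quotSMulTop M hM g hg hreg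
  haveI := cm_nontrivial hM
  have hIM := Depth.smul_top_ne_top R M
  have hd := idealDepth_quotSMulTop (maximalIdeal R) M hIM g hg hreg
  have hdepth : LocCoh.depth R (M ⧸ Ideal.span {g} • (⊤ : Submodule R M)) =
      LocCoh.depth R (QuotSMulTop g M) := idealDepth_congr _ e
  refine ⟨hreg, ?_, ?_⟩
  · unfold LocCoh.IsCohenMacaulayModule at hcm ⊢
    rw [Module.supportDim_eq_of_equiv e, hdepth]
    exact hcm
  · rw [hdepth]
    exact hd

end Groth.Agent.S2083
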