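import Groth.Statements.S2085
import Mathlib
import Groth.Agent.Helper2.LocSupp
import Groth.Agent.Helper2.DepthCM4
import Groth.Agent.Helper2.Ass
import Groth.Agent.Helper2.Depth

set_option autoImplicit false
universe u
open CAlg

namespace Groth.Agent.S2085

/-- Let `M` be a finite module over a Noetherian ring `R`. Then every associated prime of `M` is minimal
in the support of `M` (no embedded primes) if and only if `M` satisfies Serre's condition `(S_1)`. -/
theorem result {R M : Type u} [CommRing R] [IsNoetherianRing R] [AddCommGroup M] [Module R M]
    [Module.Finite R M] :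
    (∀ p ∈ associatedPrimes R M, p ∈ (Module.annihilator R M).minimalPrimes) ↔ LocCoh.HasSk 1 R M := by
  open Groth.Agent.Helper2 IsLocalRing in
  constructor
  · intro h p hp
    rcases subsingleton_or_nontrivial (LocalizedModule p.primeCompl M) with hT | hT
    · rw [Module.supportDim_eq_bot_of_subsingleton]
      simp
    by_cases hd : LocCoh.depth (Localization.AtPrime p) (LocalizedModule p.primeCompl M) = 0
    · -- `p` is associated, hence minimal
      have hnr := (Depth.depth_eq_zero_iff (Localization.AtPrime p)
        (LocalizedModule p.primeCompl M)).mp hd
      have hass := Ass.maximalIdeal_mem_ass_of_forall_not_regular (Localization.AtPrime p)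
        (LocalizedModule p.primeCompl M) hnr
      rw [← Module.associatedPrimes.preimage_comap_associatedPrimes_eq_associatedPrimes_of_isLocalizedModule
        p.primeCompl (Localization.AtPrime p) (LocalizedModule.mkLinearMap p.primeCompl M),
        Set.mem_preimage] at hass
      have hcomap : (maximalIdeal (Localization.AtPrime p)).comap
          (algebraMap R (Localization.AtPrime p)) = p :=
        IsLocalization.AtPrime.under_maximalIdeal (Localization.AtPrime p) p
      rw [hcomap] at hass
      have hmin := h p hass
      have hle : Module.supportDim (Localization.AtPrime p) (LocalizedModule p.primeCompl M) ≤ 0 := by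
        apply DepthCM4.supportDim_localized_le_zero
        intro q hq hqp
        rw [Module.mem_support_iff_of_finite] at hq
        exact le_antisymm hqp (hmin.2 ⟨q.2, hq⟩ hqp)
      rw [hd]
      exact le_trans (min_le_right _ _) (le_trans hle (by simp))
    · have h1 : (1 : ℕ∞) ≤ LocCoh.depth (Localization.AtPrime p)
          (LocalizedModule p.primeCompl M) := Order.one_le_iff_pos.mpr (pos_iff_ne_zero.mpr hd)
      refine le_trans (min_le_left _ _) ?_
      exact_mod_cast h1
  · intro h p hp
    have hpp : p.IsPrime := (AssociatedPrimes.mem_iff.1 hp).isPrime
    have hcm : (maximalIdeal (Localization.AtPrime p)).comap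
        (algebraMap R (Localization.AtPrime p)) = p :=
      IsLocalization.AtPrime.under_maximalIdeal (Localization.AtPrime p) p
    have hass : maximalIdeal (Localization.AtPrime p) ∈
        associatedPrimes (Localization.AtPrime p) (LocalizedModule p.primeCompl M) := by
      rw [← Module.associatedPrimes.preimage_comap_associatedPrimes_eq_associatedPrimes_of_isLocalizedModule
        p.primeCompl (Localization.AtPrime p) (LocalizedModule.mkLinearMap p.primeCompl M),
        Set.mem_preimage, hcm]
      exact hp
    haveI : Nontrivial (LocalizedModule p.primeCompl M) := by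
      by_contra hcon
      rw [not_nontrivial_iff_subsingleton] at hcon
      rw [associatedPrimes.eq_empty_of_subsingleton] at hass
      exact hass
    have hd : LocCoh.depth (Localization.AtPrime p) (LocalizedModule p.primeCompl M) = 0 := by
      rw [Depth.depth_eq_zero_iff]
      intro x hx
      exact Depth.not_regular_of_mem_ass _ _ _ hass x hx
    have hS := h p
    rw [hd] at hS
    have hdim : Module.supportDim (Localization.AtPrime p) (LocalizedModule p.primeCompl M) ≤ 0 := by
      by_contra hcon
      rw [not_le] at hcon
      have h1 : (1 : WithBot ℕ∞) ≤ Module.supportDim (Localization.AtPrime p)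
          (LocalizedModule p.primeCompl M) := by
        generalize Module.supportDim (Localization.AtPrime p)
          (LocalizedModule p.primeCompl M) = d at hcon
        induction d using WithBot.recBotCoe with
        | bot => simp at hcon
        | coe e =>
          have h3 : (0 : ℕ∞) < e := by exact_mod_cast hcon
          have h4 : (1 : ℕ∞) ≤ e := Order.one_le_iff_pos.mpr h3
          exact_mod_cast h4
      have h2 : min ((1 : ℕ) : WithBot ℕ∞) (Module.supportDim (Localization.AtPrime p)
          (LocalizedModule p.primeCompl M)) = 1 := by
        rw [Nat.cast_one]; exact min_eq_left h1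
      rw [h2] at hS
      have : (1 : WithBot ℕ∞) ≤ 0 := by exact_mod_cast hS
      exact absurd this (by decide)
    have hpsupp : (⟨p, hpp⟩ : PrimeSpectrum R) ∈ Module.support R M := by
      rw [Module.mem_support_iff_of_finite]
      rw [AssociatedPrimes.mem_iff, isAssociatedPrime_iff] at hp
      obtain ⟨-, y, hy⟩ := hp
      intro a ha
      show a ∈ p
      rw [hy, Submodule.mem_colon_singleton, Submodule.mem_bot]
      exact Module.mem_annihilator.mp ha y
    refine ⟨⟨hpp, (Module.mem_support_iff_of_finite).mp hpsupp⟩, ?_⟩
    rintro q ⟨hq, hannq⟩ hqp
    by_contra hcon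
    have hlt : q < p := lt_of_le_of_ne hqp (fun heq => hcon (heq ▸ le_rfl))
    have hqsupp : (⟨q, hq⟩ : PrimeSpectrum R) ∈ Module.support R M :=
      (Module.mem_support_iff_of_finite).mpr hannq
    have hdisj : Disjoint (p.primeCompl : Set R) (q : Set R) := by
      rw [Set.disjoint_left]
      intro x hx hxq
      exact hx (hqp hxq)
    have hQprime : (q.map (algebraMap R (Localization.AtPrime p))).IsPrime :=
      IsLocalization.isPrime_of_isPrime_disjoint p.primeCompl _ q hq hdisj
    have hunder : (q.map (algebraMap R (Localization.AtPrime p))).comap
        (algebraMap R (Localization.AtPrime p)) = q :=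
      IsLocalization.under_map_of_isPrime_disjoint p.primeCompl _ hq hdisj
    have hQsupp := LocSupp.mem_support_localized p M ⟨q, hq⟩ hqp hqsupp
      ⟨q.map (algebraMap R (Localization.AtPrime p)), hQprime⟩ hunder
    have hmsupp := LocSupp.mem_support_localized p M ⟨p, hpp⟩ le_rfl hpsupp
      ⟨maximalIdeal (Localization.AtPrime p), inferInstance⟩
      hcm
    have hpos : (1 : WithBot ℕ∞) ≤ Module.supportDim (Localization.AtPrime p)
        (LocalizedModule p.primeCompl M) := by
      unfold Module.supportDim
      rw [Order.one_le_krullDim_iff]
      refine ⟨⟨_, hQsupp⟩, ⟨_, hmsupp⟩, ?_⟩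
      show q.map (algebraMap R (Localization.AtPrime p)) < maximalIdeal (Localization.AtPrime p)
      refine lt_of_le_of_ne (IsLocalRing.le_maximalIdeal hQprime.ne_top) ?_
      intro heq
      have := congrArg (Ideal.comap (algebraMap R (Localization.AtPrime p))) heq
      rw [hunder, hcm] at this
      exact hlt.ne this
    have : (1 : WithBot ℕ∞) ≤ 0 := hpos.trans hdim
    exact absurd this (by decide)

end Groth.Agent.S2085
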