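import Groth.Statements.S2088
import Groth.Agent.Helper1.ResExtMain

set_option autoImplicit false
universe u
open CAlg

namespace Groth.Agent.S2088

/-- Let `(R, 𝔪, k)` be a local ring and `K/k` a field extension. Then there is a flat local homomorphism
of local rings `R → R'` with `𝔪R' = 𝔪_{R'}` whose residue field is isomorphic to `K` over `k`. -/
theorem result {R K : Type u} [CommRing R] [IsLocalRing R] [Field K]
    [Algebra (IsLocalRing.ResidueField R) K] :
    ∃ (R' : Type u) (_ : CommRing R') (_ : IsLocalRing R') (_ : Algebra R R') (_ : IsLocalHom (algebraMap R R')),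
      Module.Flat R R' ∧ (IsLocalRing.maximalIdeal R).map (algebraMap R R') = IsLocalRing.maximalIdeal R' ∧
      Nonempty (IsLocalRing.ResidueField R' ≃ₐ[IsLocalRing.ResidueField R] K) := by
  obtain ⟨B, _, _, hloc, ρ, hsurj, hker, hcomm, hflat, hmax, hlh, -⟩ :=
    Groth.Agent.Helper1.ResExt.main R K
  refine ⟨B, inferInstance, hloc, inferInstance, hlh, hflat, hmax, ?_⟩
  haveI : IsLocalHom ρ := by
    refine ⟨fun x hx => ?_⟩
    by_contra hu
    have : x ∈ RingHom.ker ρ := by rw [hker]; exact hu
    rw [RingHom.mem_ker] at this
    rw [this] at hx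
    exact not_isUnit_zero hx
  let g : IsLocalRing.ResidueField B →ₐ[IsLocalRing.ResidueField R] K :=
    { IsLocalRing.ResidueField.lift ρ with
      commutes' := fun x => by
        obtain ⟨a, rfl⟩ := IsLocalRing.residue_surjective x
        show IsLocalRing.ResidueField.lift ρ
          (algebraMap (IsLocalRing.ResidueField R) (IsLocalRing.ResidueField B)
            (IsLocalRing.residue R a)) = _
        rw [IsLocalRing.ResidueField.algebraMap_residue,
          IsLocalRing.ResidueField.lift_residue_apply]
        exact hcomm a }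
  refine ⟨AlgEquiv.ofBijective g ⟨(IsLocalRing.ResidueField.lift ρ).injective, fun s => ?_⟩⟩
  obtain ⟨x, rfl⟩ := hsurj s
  exact ⟨IsLocalRing.residue B x, IsLocalRing.ResidueField.lift_residue_apply ρ x⟩

end Groth.Agent.S2088
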