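import Groth.Statements.S2095
import Mathlib

set_option autoImplicit false
universe u
open CAlg

namespace Groth.Agent.S2095

open TensorProduct in
/-- Let `R → S` be a ring map, `𝔫 ⊆ S` an ideal and `R → R'` a ring map admitting an `R`-linear
retraction. If `R' → R' ⊗ S` is formally smooth for the adic topology of the extension of `𝔫`, then
`R → S` is formally smooth for the `𝔫`-adic topology. -/
theorem result {R S R' : Type u} [CommRing R] [CommRing S] [Algebra R S]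
    (𝔫 : Ideal S) [CommRing R'] [Algebra R R'] (ρ : R' →ₗ[R] R) (hρ : ∀ r : R, ρ (algebraMap R R' r) = r)
    (h : CAlgX.IsAdicFormallySmooth R' (R' ⊗[R] S)
      (𝔫.map (Algebra.TensorProduct.includeRight : S →ₐ[R] R' ⊗[R] S))) :
    CAlgX.IsAdicFormallySmooth R S 𝔫 := by
  classical
  intro A _ _ J hJ ψ ⟨k, hk⟩
  -- base change
  let ι : A →ₐ[R] R' ⊗[R] A := Algebra.TensorProduct.includeRight
  let J' : Ideal (R' ⊗[R] A) := J.map ι
  have hJ' : J' ^ 2 = ⊥ := by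
    rw [← Ideal.map_pow, hJ, Ideal.map_bot]
  let θ : A ⧸ J →ₐ[R] (R' ⊗[R] A) ⧸ J' := Ideal.quotientMapₐ J' ι Ideal.le_comap_map
  let ψ' : R' ⊗[R] S →ₐ[R'] (R' ⊗[R] A) ⧸ J' :=
    Algebra.TensorProduct.lift (Algebra.ofId R' _) (θ.comp ψ) (fun _ _ => Commute.all _ _)
  have hψ'1 : ∀ s : S, ψ' (1 ⊗ₜ s) = θ (ψ s) := by
    intro s
    simp [ψ']
  have hkill : ∃ k : ℕ, ∀ x ∈ (𝔫.map (Algebra.TensorProduct.includeRight : S →ₐ[R] R' ⊗[R] S)) ^ k,
      ψ' x = 0 := by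
    refine ⟨k, fun x hx => ?_⟩
    rw [← Ideal.map_pow] at hx
    have hle : Ideal.map (Algebra.TensorProduct.includeRight : S →ₐ[R] R' ⊗[R] S) (𝔫 ^ k) ≤
        RingHom.ker ψ'.toRingHom := by
      rw [Ideal.map_le_iff_le_comap]
      intro y hy
      rw [Ideal.mem_comap, RingHom.mem_ker]
      change ψ' ((1 : R') ⊗ₜ y) = 0
      rw [hψ'1, hk y hy, map_zero]
    exact hle hx
  obtain ⟨χ', hχ'⟩ := h (R' ⊗[R] A) J' hJ' ψ' hkill
  have hχ'1 : ∀ x, Ideal.Quotient.mk J' (χ' x) = ψ' x := fun x => by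
    rw [← hχ']; rfl
  -- the retraction
  let p : R' ⊗[R] A →ₗ[R] A := (TensorProduct.lid R A).toLinearMap ∘ₗ ρ.rTensor A
  have hp_tmul : ∀ (r' : R') (a : A), p (r' ⊗ₜ a) = ρ r' • a := fun r' a => by simp [p]
  have hp_mul : ∀ (x : R' ⊗[R] A) (a : A), p (x * (1 ⊗ₜ a)) = p x * a := by
    intro x a
    induction x using TensorProduct.induction_on with
    | zero => simp
    | tmul r' b =>
      rw [Algebra.TensorProduct.tmul_mul_tmul, hp_tmul, hp_tmul, mul_one, smul_mul_assoc]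
    | add x y hx hy => rw [add_mul, map_add, hx, hy, map_add, add_mul]
  have hρ1 : ρ 1 = 1 := by simpa using hρ 1
  have hp_one : ∀ a : A, p (1 ⊗ₜ a) = a := fun a => by rw [hp_tmul, hρ1, one_smul]
  have hpJ' : ∀ x ∈ J', ∀ a : R' ⊗[R] A, p (a * x) ∈ J := by
    intro x hx
    refine Submodule.span_induction (p := fun x _ => ∀ a : R' ⊗[R] A, p (a * x) ∈ J) ?_ ?_ ?_ ?_ hx
    · rintro _ ⟨j, hj, rfl⟩ a
      change p (a * (1 ⊗ₜ j)) ∈ J
      rw [hp_mul]; exact J.mul_mem_left _ hj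
    · intro a; simp
    · intro x y _ _ hx hy a
      rw [mul_add, map_add]; exact J.add_mem (hx a) (hy a)
    · intro b x _ hx a
      rw [smul_eq_mul, ← mul_assoc]; exact hx (a * b)
  have hpJ : ∀ x ∈ J', p x ∈ J := fun x hx => by simpa using hpJ' x hx 1
  have hJJ : ∀ x ∈ J, ∀ y ∈ J, x * y = 0 := by
    intro x hx y hy
    have : x * y ∈ J ^ 2 := by rw [pow_two]; exact Ideal.mul_mem_mul hx hy
    rwa [hJ] at this
  have hJJ' : ∀ x ∈ J', ∀ y ∈ J', x * y = 0 := by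
    intro x hx y hy
    have : x * y ∈ J' ^ 2 := by rw [pow_two]; exact Ideal.mul_mem_mul hx hy
    rwa [hJ'] at this
  -- key: description of χ' (1 ⊗ s)
  have hkey : ∀ s : S, ∀ a : A, Ideal.Quotient.mk J a = ψ s →
      χ' (1 ⊗ₜ s) - 1 ⊗ₜ a ∈ J' := by
    intro s a ha
    rw [← Ideal.Quotient.eq, hχ'1, hψ'1, ← ha]
    rfl
  let σ : S → A := fun s => p (χ' (1 ⊗ₜ s))
  have hσ : ∀ s : S, ∀ a : A, Ideal.Quotient.mk J a = ψ s → σ s - a ∈ J := by
    intro s a ha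
    have := hpJ _ (hkey s a ha)
    rwa [map_sub, hp_one] at this
  have hσmul : ∀ s t : S, σ (s * t) = σ s * σ t := by
    intro s t
    obtain ⟨a, ha⟩ := Ideal.Quotient.mk_surjective (ψ s)
    obtain ⟨b, hb⟩ := Ideal.Quotient.mk_surjective (ψ t)
    set j' := χ' (1 ⊗ₜ s) - 1 ⊗ₜ a with hj'
    set k' := χ' (1 ⊗ₜ t) - 1 ⊗ₜ b with hk'
    have hjm : j' ∈ J' := hkey s a ha
    have hkm : k' ∈ J' := hkey t b hb
    have e1 : χ' (1 ⊗ₜ s) = 1 ⊗ₜ a + j' := by rw [hj']; ring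
    have e2 : χ' (1 ⊗ₜ t) = 1 ⊗ₜ b + k' := by rw [hk']; ring
    have e3 : χ' (1 ⊗ₜ (s * t)) = χ' (1 ⊗ₜ s) * χ' (1 ⊗ₜ t) := by
      rw [← map_mul, Algebra.TensorProduct.tmul_mul_tmul, mul_one]
    change p (χ' (1 ⊗ₜ (s * t))) = p (χ' (1 ⊗ₜ s)) * p (χ' (1 ⊗ₜ t))
    rw [e3, e1, e2]
    have e4 : ((1 : R') ⊗ₜ[R] a + j') * (1 ⊗ₜ b + k') =
        1 ⊗ₜ (a * b) + k' * (1 ⊗ₜ a) + j' * (1 ⊗ₜ b) := by
      have : j' * k' = 0 := hJJ' _ hjm _ hkm
      have h2 : ((1 : R') ⊗ₜ[R] a) * (1 ⊗ₜ b) = 1 ⊗ₜ (a * b) := by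
        rw [Algebra.TensorProduct.tmul_mul_tmul, mul_one]
      rw [add_mul, mul_add, mul_add, this, h2]; ring
    rw [e4, map_add, map_add, map_add, map_add, hp_mul, hp_mul, hp_one, hp_one, hp_one]
    have : p j' * p k' = 0 := hJJ _ (hpJ _ hjm) _ (hpJ _ hkm)
    linear_combination -this
  have hσone : σ 1 = 1 := by
    change p (χ' (1 ⊗ₜ 1)) = 1
    rw [← Algebra.TensorProduct.one_def, map_one, Algebra.TensorProduct.one_def, hp_one]
  have hσadd : ∀ s t : S, σ (s + t) = σ s + σ t := by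
    intro s t
    change p (χ' (1 ⊗ₜ (s + t))) = _
    rw [TensorProduct.tmul_add, map_add, map_add]
  have hσalg : ∀ r : R, σ (algebraMap R S r) = algebraMap R A r := by
    intro r
    change p (χ' (1 ⊗ₜ (algebraMap R S r))) = _
    have e1 : ((1 : R') ⊗ₜ[R] (algebraMap R S r)) =
        algebraMap R' (R' ⊗[R] S) (algebraMap R R' r) := by
      rw [Algebra.TensorProduct.algebraMap_apply, Algebra.algebraMap_eq_smul_one r,
        TensorProduct.tmul_smul, Algebra.algebraMap_self_apply, Algebra.algebraMap_eq_smul_one r,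
        TensorProduct.smul_tmul']
    rw [e1, AlgHom.commutes, Algebra.TensorProduct.algebraMap_apply, Algebra.algebraMap_self_apply,
      hp_tmul, hρ, Algebra.algebraMap_eq_smul_one]
  let χ : S →ₐ[R] A :=
    { toFun := σ
      map_one' := hσone
      map_mul' := hσmul
      map_zero' := by
        have := hσadd 0 0
        simpa using this
      map_add' := hσadd
      commutes' := hσalg }
  refine ⟨χ, ?_⟩
  ext s
  obtain ⟨a, ha⟩ := Ideal.Quotient.mk_surjective (ψ s)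
  change Ideal.Quotient.mk J (σ s) = ψ s
  rw [← ha, Ideal.Quotient.eq]
  exact hσ s a ha

end Groth.Agent.S2095
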