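import Groth.Statements.S2097
import Mathlib

set_option autoImplicit false
universe u
open CAlg

namespace Groth.Agent.S2097

/-- Let `R → S` be smooth, `A` an `R`-algebra and `I ⊆ A` an ideal all of whose elements are nilpotent.
Every `R`-algebra map `S → A/I` lifts to an `R`-algebra map `S → A`. -/
theorem result {R S A : Type u} [CommRing R] [CommRing S] [Algebra R S] [Algebra.Smooth R S]
    [CommRing A] [Algebra R A] (I : Ideal A) (hI : ∀ x ∈ I, IsNilpotent x) (g : S →ₐ[R] A ⧸ I) :
    ∃ f : S →ₐ[R] A, (Ideal.Quotient.mkₐ R I).comp f = g := by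
  classical
  obtain ⟨n, f, hfsurj, hfg⟩ := (Algebra.FinitePresentation.out : ∃ (n : ℕ)
    (f : MvPolynomial (Fin n) R →ₐ[R] S), Function.Surjective f ∧ (RingHom.ker f.toRingHom).FG)
  choose a ha using fun i : Fin n => Ideal.Quotient.mk_surjective (g (f (MvPolynomial.X i)))
  let φ : MvPolynomial (Fin n) R →ₐ[R] A := MvPolynomial.aeval a
  have hφ : (Ideal.Quotient.mkₐ R I).comp φ = g.comp f := by
    apply MvPolynomial.algHom_ext
    intro i
    simp [φ, ha]
  let I' : Ideal A := (RingHom.ker f.toRingHom).map φ.toRingHom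
  have hI'I : I' ≤ I := by
    rw [Ideal.map_le_iff_le_comap]
    intro x hx
    rw [Ideal.mem_comap, ← Ideal.Quotient.eq_zero_iff_mem]
    have h1 := congrArg (fun h => h x) hφ
    simp only [AlgHom.comp_apply] at h1
    have h2 : f x = 0 := hx
    rw [h2, map_zero] at h1
    exact h1
  have hI'fg : I'.FG := hfg.map _
  have hI'nil : IsNilpotent I' :=
    hI'fg.isNilpotent_iff_le_nilradical.mpr (fun x hx => mem_nilradical.mpr (hI x (hI'I hx)))
  let ψ : MvPolynomial (Fin n) R →ₐ[R] A ⧸ I' := (Ideal.Quotient.mkₐ R I').comp φ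
  have hψ : RingHom.ker f.toRingHom ≤ RingHom.ker ψ.toRingHom := by
    intro x hx
    rw [RingHom.mem_ker]
    change Ideal.Quotient.mk I' (φ x) = 0
    rw [Ideal.Quotient.eq_zero_iff_mem]
    exact Ideal.mem_map_of_mem _ hx
  let g' : S →ₐ[R] A ⧸ I' := AlgHom.liftOfSurjective f hfsurj ψ hψ
  obtain ⟨h, hh⟩ := Algebra.FormallySmooth.exists_lift I' hI'nil g'
  refine ⟨h, ?_⟩
  ext s
  obtain ⟨x, rfl⟩ := hfsurj s
  have h1 : Ideal.Quotient.mk I' (h (f x)) = Ideal.Quotient.mk I' (φ x) := by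
    have := congrArg (fun k => k (f x)) hh
    simp only [AlgHom.comp_apply] at this
    rw [AlgHom.liftOfSurjective_apply] at this
    exact this
  have h2 : h (f x) - φ x ∈ I := hI'I (Ideal.Quotient.eq.mp h1)
  have h3 : Ideal.Quotient.mk I (h (f x)) = Ideal.Quotient.mk I (φ x) := Ideal.Quotient.eq.mpr h2
  have h4 := congrArg (fun k => k x) hφ
  simp only [AlgHom.comp_apply] at h4
  change Ideal.Quotient.mk I (h (f x)) = g (f x)
  rw [h3, ← h4]
  rfl

end Groth.Agent.S2097
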