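import Groth.Statements.S2098
import Mathlib
import Groth.Agent.Helper1.SplitPowers

set_option autoImplicit false
universe u
open CAlg

namespace Groth.Agent.S2098

/-- Let `R` be Noetherian, `I` an ideal inside the Jacobson radical and `u : N → M` a map of finite
`R`-modules. If for arbitrarily large `n` the induced map `N/IⁿN → M/IⁿM` has a left inverse, then
`u` has a left inverse. -/
theorem result {R M N : Type u} [CommRing R] [IsNoetherianRing R] (I : Ideal R)
    (hI : I ≤ (⊥ : Ideal R).jacobson) [AddCommGroup M] [Module R M] [Module.Finite R M] [AddCommGroup N] [Module R N]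
    [Module.Finite R N] (u : N →ₗ[R] M)
    (h : ∀ n₀ : ℕ, ∃ n, n₀ ≤ n ∧ ∃ s : (M ⧸ (I ^ n) • (⊤ : Submodule R M)) →ₗ[R] (N ⧸ (I ^ n) • (⊤ : Submodule R N)),
      ∀ x : N, s (Submodule.Quotient.mk (u x)) = Submodule.Quotient.mk x) :
    ∃ s : M →ₗ[R] N, s.comp u = LinearMap.id := by
  classical
  obtain ⟨b, m, hm⟩ := Module.Finite.exists_fin (R := R) (M := M)
  obtain ⟨a, nn, hn⟩ := Module.Finite.exists_fin (R := R) (M := N)
  have hfg : (LinearMap.ker (Fintype.linearCombination R m)).FG := IsNoetherian.noetherian _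
  obtain ⟨r, ρ, hρ⟩ := Submodule.fg_iff_exists_fin_generating_family.mp hfg
  -- the relation map
  let ψ : (Fin b → N) →ₗ[R] (Fin r → N) :=
    LinearMap.pi (fun k => ∑ i, (ρ k i) • LinearMap.proj (R := R) (φ := fun _ : Fin b => N) i)
  have hψ : ∀ (y : Fin b → N) (k : Fin r), ψ y k = ∑ i, ρ k i • y i := by
    intro y k
    simp [ψ]
  obtain ⟨c, hc⟩ := Ideal.exists_pow_inf_eq_pow_smul I (LinearMap.range ψ)
  -- evaluation map
  let Φ : (M →ₗ[R] N) →ₗ[R] (Fin a → N) :=
    LinearMap.pi (fun j => LinearMap.applyₗ (u (nn j)))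
  have hΦ : ∀ (s : M →ₗ[R] N) (j : Fin a), Φ s j = s (u (nn j)) := by
    intro s j
    simp [Φ]
  have key : ∀ n : ℕ, nn ∈ LinearMap.range Φ ⊔ (I ^ n • ⊤ : Submodule R (Fin a → N)) := by
    intro n
    obtain ⟨mm, hmm, sm, hsm⟩ := h (n + c)
    choose y hy using fun i => Submodule.Quotient.mk_surjective _ (sm (Submodule.Quotient.mk (m i)))
    have hρk : ∀ k, ∑ i, ρ k i • m i = 0 := by
      intro k
      have : ρ k ∈ LinearMap.ker (Fintype.linearCombination R m) := by
        rw [← hρ]; exact Submodule.subset_span ⟨k, rfl⟩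
      rw [LinearMap.mem_ker, Fintype.linearCombination_apply] at this
      exact this
    have h1 : ψ y ∈ (I ^ mm • ⊤ : Submodule R (Fin r → N)) ⊓ LinearMap.range ψ := by
      refine ⟨?_, ⟨y, rfl⟩⟩
      apply Groth.Agent.Helper1.SplitPowers.pi_mem_smul_top
      intro k
      rw [hψ, ← Submodule.Quotient.mk_eq_zero]
      have e1 : (Submodule.Quotient.mk (∑ i, ρ k i • y i) : N ⧸ (I ^ mm • ⊤ : Submodule R N)) =
          sm ((Submodule.mkQ _) (∑ i, ρ k i • m i)) := by
        rw [← Submodule.mkQ_apply, map_sum, map_sum, map_sum]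
        refine Finset.sum_congr rfl fun i _ => ?_
        rw [map_smul, map_smul, map_smul, Submodule.mkQ_apply, Submodule.mkQ_apply, hy]
      rw [e1, hρk, map_zero, map_zero]
    rw [hc mm (by omega)] at h1
    have h2 : ψ y ∈ Submodule.map ψ (I ^ (mm - c) • ⊤ : Submodule R (Fin b → N)) := by
      rw [Submodule.map_smul'', Submodule.map_top]
      exact Submodule.smul_mono le_rfl inf_le_right h1
    obtain ⟨y', hy', hψy'⟩ := h2
    -- the corrected tuple
    have hrel : ∀ ρ' : Fin b → R, ∑ i, ρ' i • m i = 0 → ∑ i, ρ' i • (y - y') i = 0 := by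
      intro ρ' hρ'
      have hmem : ρ' ∈ Submodule.span R (Set.range ρ) := by
        rw [hρ, LinearMap.mem_ker, Fintype.linearCombination_apply]; exact hρ'
      have hle : Submodule.span R (Set.range ρ) ≤
          LinearMap.ker (Fintype.linearCombination R (y - y')) := by
        rw [Submodule.span_le]
        rintro _ ⟨k, rfl⟩
        rw [SetLike.mem_coe, LinearMap.mem_ker, Fintype.linearCombination_apply, ← hψ,
          map_sub, hψy', sub_self, Pi.zero_apply]
      have := hle hmem
      rw [LinearMap.mem_ker, Fintype.linearCombination_apply] at this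
      exact this
    obtain ⟨s, hs⟩ := Groth.Agent.Helper1.SplitPowers.exists_linearMap_of_relations m hm (y - y') hrel
    have hle : (I ^ mm • ⊤ : Submodule R N) ≤ I ^ n • ⊤ :=
      Submodule.smul_mono (Ideal.pow_le_pow_right (by omega)) le_rfl
    have hle' : (I ^ (mm - c) • ⊤ : Submodule R N) ≤ I ^ n • ⊤ :=
      Submodule.smul_mono (Ideal.pow_le_pow_right (by omega)) le_rfl
    -- compare the two maps M → N / I^n N
    have hfac : ∀ z : N, Submodule.factor hle (Submodule.Quotient.mk z) = Submodule.Quotient.mk z :=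
      fun z => rfl
    have hAB : (Submodule.mkQ (I ^ n • ⊤ : Submodule R N)).comp s =
        ((Submodule.factor hle).comp sm).comp (Submodule.mkQ (I ^ mm • ⊤ : Submodule R M)) := by
      apply LinearMap.ext_on_range hm
      intro i
      simp only [LinearMap.comp_apply, Submodule.mkQ_apply, hs, ← hy, hfac]
      rw [Pi.sub_apply, Submodule.Quotient.mk_sub, sub_eq_self, Submodule.Quotient.mk_eq_zero]
      exact hle' (Groth.Agent.Helper1.SplitPowers.apply_mem_smul_top _ y' hy' i)
    have hsu : ∀ x : N, s (u x) - x ∈ (I ^ n • ⊤ : Submodule R N) := by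
      intro x
      have := LinearMap.congr_fun hAB (u x)
      simp only [LinearMap.comp_apply, Submodule.mkQ_apply, hsm, hfac] at this
      rw [← Submodule.Quotient.mk_eq_zero, Submodule.Quotient.mk_sub, this, sub_self]
    rw [Submodule.mem_sup]
    refine ⟨Φ s, ⟨s, rfl⟩, nn - Φ s, ?_, by abel⟩
    apply Groth.Agent.Helper1.SplitPowers.pi_mem_smul_top
    intro j
    rw [Pi.sub_apply, hΦ, ← neg_sub]
    exact Submodule.neg_mem _ (hsu (nn j))
  obtain ⟨s, hs⟩ := Groth.Agent.Helper1.SplitPowers.mem_of_forall_mem_sup I hI (LinearMap.range Φ) nn key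
  refine ⟨s, ?_⟩
  apply LinearMap.ext_on_range hn
  intro j
  rw [LinearMap.comp_apply, LinearMap.id_apply, ← hΦ, hs]

end Groth.Agent.S2098
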