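import Groth.Statements.S2102
import Mathlib

set_option autoImplicit false
universe u
open CategoryTheory AlgebraicGeometry
open Mor

namespace Groth.Agent.S2102

instance topNonempty (X : Scheme.{u}) [IsIntegral X] : Nonempty (⊤ : X.Opens) :=
  ⟨⟨(inferInstance : Nonempty X).some, trivial⟩⟩

open TopologicalSpace in
/-- an element of the function field lying in every local ring is a global section -/
theorem exists_section_of_forall_stalk (X : Scheme.{u}) [IsIntegral X] (z : X.functionField)
    (hz : ∀ p : X, ∃ s : X.presheaf.stalk p, algebraMap (X.presheaf.stalk p) X.functionField s = z) :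
    ∃ t : Γ(X, ⊤), X.germToFunctionField ⊤ t = z := by
  have key : ∀ p : X, ∃ (U : X.Opens) (hp : p ∈ U) (t : Γ(X, U)),
      haveI : Nonempty U := ⟨⟨p, hp⟩⟩
      X.germToFunctionField U t = z := by
    intro p
    obtain ⟨s, hs⟩ := hz p
    obtain ⟨U, hp, t, rfl⟩ := X.presheaf.exists_germ_eq s
    refine ⟨U, hp, t, ?_⟩
    haveI : Nonempty U := ⟨⟨p, hp⟩⟩
    rw [← hs, Scheme.algebraMap_germ_eq_germToFunctionField]
  choose U hU t ht using key
  have hne : ∀ p, Nonempty (U p) := fun p => ⟨⟨p, hU p⟩⟩
  have hcompat : TopCat.Presheaf.IsCompatible X.presheaf U t := by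
    intro p q
    haveI hW : Nonempty (U p ⊓ U q : X.Opens) := by
      obtain ⟨w, hw⟩ := nonempty_preirreducible_inter (U p).isOpen (U q).isOpen
        ⟨p, hU p⟩ ⟨q, hU q⟩
      exact ⟨⟨w, hw⟩⟩
    apply X.germToFunctionField_injective (U p ⊓ U q)
    have h1 : X.germToFunctionField (U p ⊓ U q) (X.presheaf.map (Opens.infLELeft (U p) (U q)).op (t p))
        = z := by
      rw [← ht p]
      exact X.presheaf.germ_res_apply (Opens.infLELeft (U p) (U q)) _ _ _
    have h2 : X.germToFunctionField (U p ⊓ U q) (X.presheaf.map (Opens.infLERight (U p) (U q)).op (t q))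
        = z := by
      rw [← ht q]
      exact X.presheaf.germ_res_apply (Opens.infLERight (U p) (U q)) _ _ _
    rw [h1, h2]
  obtain ⟨s, hs, -⟩ := X.sheaf.existsUnique_gluing' U ⊤ (fun p => homOfLE le_top)
    (fun x _ => Opens.mem_iSup.mpr ⟨x, hU x⟩) t hcompat
  refine ⟨s, ?_⟩
  have p : X := (inferInstance : Nonempty X).some
  rw [← ht p, ← hs p]
  exact (X.presheaf.germ_res_apply (homOfLE le_top : U p ⟶ ⊤) _ _ _).symm

/-- The ring of global sections of an integral normal scheme is an integrally closed domain. -/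
theorem result (X : Scheme.{u}) [IsIntegral X] (hX : Pi1.IsNormalScheme X) :
    IsIntegrallyClosed (Γ(X, ⊤) : Type u) := by
  rw [isIntegrallyClosed_iff (FractionRing Γ(X, ⊤))]
  intro x hx
  have hι : Function.Injective (algebraMap Γ(X, ⊤) X.functionField) :=
    X.germToFunctionField_injective ⊤
  let φ : FractionRing Γ(X, ⊤) →+* X.functionField := IsFractionRing.lift hι
  have hφ : ∀ a, φ (algebraMap _ _ a) = algebraMap Γ(X, ⊤) X.functionField a :=
    fun a => IsFractionRing.lift_algebraMap hι a
  have hzint : IsIntegral Γ(X, ⊤) (φ x) := by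
    obtain ⟨P, hP, hPx⟩ := hx
    refine ⟨P, hP, ?_⟩
    have : Polynomial.eval₂ (algebraMap Γ(X, ⊤) X.functionField) (φ x) P =
        φ (Polynomial.eval₂ (algebraMap Γ(X, ⊤) (FractionRing Γ(X, ⊤))) x P) := by
      rw [Polynomial.hom_eval₂]
      congr 1
      ext a
      exact (hφ a).symm
    rw [this, hPx, map_zero]
  have hstalk : ∀ p : X, ∃ s : X.presheaf.stalk p,
      algebraMap (X.presheaf.stalk p) X.functionField s = φ x := by
    intro p
    haveI := (hX p).2
    haveI := (hX p).1
    letI : Algebra Γ(X, ⊤) (X.presheaf.stalk p) :=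
      TopCat.Presheaf.algebra_section_stalk X.presheaf (⟨p, trivial⟩ : (⊤ : X.Opens))
    haveI : IsScalarTower Γ(X, ⊤) (X.presheaf.stalk p) X.functionField :=
      functionField_isScalarTower X (⊤ : X.Opens) ⟨p, trivial⟩
    have h1 : IsIntegral (X.presheaf.stalk p) (φ x) :=
      IsIntegral.tower_top (R := Γ(X, ⊤)) hzint
    exact IsIntegrallyClosed.algebraMap_eq_of_integral h1
  obtain ⟨t, ht⟩ := exists_section_of_forall_stalk X (φ x) hstalk
  refine ⟨t, ?_⟩
  apply φ.injective
  rw [hφ]
  exact ht

end Groth.Agent.S2102
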