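import Groth.Statements.S2110
import Groth.Agent.Helper2.SymFree3

set_option autoImplicit false
universe u
open Smoothing

namespace Groth.Agent.S2110

/-- Let `A` be a finitely presented `R`-algebra. There is an `A`-algebra `C` of finite type with an
`A`-algebra retraction `C → A` such that for every `a ∈ A` with `A_a` smooth over `R`, the module of
differentials of `C_a` over `R` is a free `C_a`-module. -/
theorem result {R A : Type u} [CommRing R] [CommRing A] [Algebra R A]
    [Algebra.FinitePresentation R A] :
    ∃ (C : Type u) (_ : CommRing C) (_ : Algebra A C) (_ : Algebra R C) (_ : IsScalarTower R A C),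
      Algebra.FiniteType A C ∧ Nonempty (C →ₐ[A] A) ∧
      ∀ a : A, Algebra.Smooth R (Localization.Away a) →
        Module.Free (Localization.Away (algebraMap A C a)) Ω[Localization.Away (algebraMap A C a)⁄R] := by
  classical
  let P := Algebra.Presentation.ofFinitePresentation R A
  let E : Algebra.Extension.{u} R A := P.toExtension
  haveI : Algebra.FormallySmooth R E.Ring :=
    inferInstanceAs (Algebra.FormallySmooth R (MvPolynomial _ R))
  haveI : Module.Free A E.CotangentSpace := Module.Free.of_basis P.cotangentSpaceBasis
  haveI : Module.Finite A E.Cotangent := Algebra.Extension.Cotangent.finite P.fg_ker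
  letI algRC : Algebra R (SymmetricAlgebra A E.Cotangent) :=
    ((algebraMap A (SymmetricAlgebra A E.Cotangent)).comp (algebraMap R A)).toAlgebra
  haveI tow := @IsScalarTower.of_algebraMap_eq R A (SymmetricAlgebra A E.Cotangent) _ _ _ _ _ algRC
    (fun _ => rfl)
  refine ⟨SymmetricAlgebra A E.Cotangent, inferInstance, inferInstance, algRC, tow,
    Groth.Agent.Helper2.SymFree.sym_finiteType, ⟨SymmetricAlgebra.algebraMapInv⟩, ?_⟩
  intro a hsm
  change Module.Free (Localization.Away (algebraMap A (SymmetricAlgebra A E.Cotangent) a))
    Ω[Localization.Away (algebraMap A (SymmetricAlgebra A E.Cotangent) a)⁄R]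
  haveI : IsScalarTower R A
      (Localization.Away (algebraMap A (SymmetricAlgebra A E.Cotangent) a)) := by
    refine IsScalarTower.of_algebraMap_eq fun r => ?_
    rw [IsScalarTower.algebraMap_apply R (SymmetricAlgebra A E.Cotangent)
        (Localization.Away (algebraMap A (SymmetricAlgebra A E.Cotangent) a)),
      IsScalarTower.algebraMap_apply A (SymmetricAlgebra A E.Cotangent)
        (Localization.Away (algebraMap A (SymmetricAlgebra A E.Cotangent) a)),
      ← IsScalarTower.algebraMap_apply R A (SymmetricAlgebra A E.Cotangent)]
  exact Groth.Agent.Helper2.SymFree.main E a (Localization.Away a) _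

end Groth.Agent.S2110
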