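import Groth.Statements.S2113
import Groth.Agent.Helper1.HeightOne

set_option autoImplicit false
universe u
open CAlg

namespace Groth.Agent.S2113

/-- A Noetherian ring in which each prime is maximal or else lies below infinitely many primes is a
Jacobson ring. -/
theorem result {R : Type u} [CommRing R] [IsNoetherianRing R]
    (h : ∀ (p : Ideal R) [p.IsPrime], p.IsMaximal ∨ {q : PrimeSpectrum R | p ≤ q.asIdeal}.Infinite) :
    IsJacobsonRing R := by
  classical
  rw [isJacobsonRing_iff_prime_eq]
  intro P
  refine IsNoetherian.induction (P := fun P : Ideal R => P.IsPrime → P.jacobson = P) ?_ P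
  intro P ih hP
  rcases h P with hmax | hinf
  · exact Ideal.jacobson_eq_self_of_isMaximal
  refine le_antisymm ?_ Ideal.le_jacobson
  intro f hfJ
  by_contra hfP
  let D := R ⧸ P
  let π : R →+* D := Ideal.Quotient.mk P
  have hπ : Function.Surjective π := Ideal.Quotient.mk_surjective
  have hf0 : π f ≠ 0 := by
    intro h0
    exact hfP (Ideal.Quotient.eq_zero_iff_mem.mp h0)
  -- every nonzero prime of `D` contains the image of `f`
  have hmem : ∀ q : Ideal D, q.IsPrime → q ≠ ⊥ → π f ∈ q := by
    intro q hq hqbot
    have hq' : (q.comap π).IsPrime := Ideal.comap_isPrime π q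
    have hle : P ≤ q.comap π := by
      intro x hx
      rw [Ideal.mem_comap]
      have : π x = 0 := Ideal.Quotient.eq_zero_iff_mem.mpr hx
      rw [this]; exact q.zero_mem
    have hne : P ≠ q.comap π := by
      intro heq
      apply hqbot
      rw [eq_bot_iff]
      intro y hy
      obtain ⟨x, rfl⟩ := hπ y
      have : x ∈ q.comap π := hy
      rw [← heq] at this
      rw [Ideal.mem_bot]
      exact Ideal.Quotient.eq_zero_iff_mem.mpr this
    have hjac := ih (q.comap π) (lt_of_le_of_ne hle hne) hq'
    have : f ∈ (q.comap π).jacobson := Ideal.jacobson_mono hle hfJ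
    rw [hjac] at this
    exact this
  -- all primes of `D` have height at most one
  have hht : ∀ q : Ideal D, q.IsPrime → q.height ≤ 1 := by
    intro q hq
    by_contra hlt
    rw [not_le] at hlt
    have h2 : 2 ≤ q.height := by
      have := Order.add_one_le_of_lt hlt
      rwa [one_add_one_eq_two] at this
    have hinf' := Groth.Agent.Helper1.HeightOne.infinite_setOf_notMem q h2 (π f) hf0
    apply hinf'
    refine (Set.finite_singleton (⊥ : PrimeSpectrum D)).subset ?_
    intro q' hq'
    by_contra hne
    apply hq'
    apply hmem q'.asIdeal q'.isPrime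
    intro hbot
    exact hne (PrimeSpectrum.ext hbot)
  -- hence `Spec D` is finite
  have hfinD : (Set.univ : Set (PrimeSpectrum D)).Finite := by
    apply Set.Finite.of_finite_image (f := PrimeSpectrum.asIdeal)
    · refine ((Set.finite_singleton (⊥ : Ideal D)).union
        (Ideal.finite_minimalPrimes_of_isNoetherianRing D (Ideal.span {π f}))).subset ?_
      rintro _ ⟨q, -, rfl⟩
      by_cases hq : q.asIdeal = ⊥
      · left; exact hq
      · right
        have := q.isPrime
        refine Ideal.mem_minimalPrimes_of_height_le
          ((Ideal.span_singleton_le_iff_mem _).mpr (hmem q.asIdeal q.isPrime hq)) ?_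
        exact (hht q.asIdeal q.isPrime).trans
          (Ideal.one_le_height_span_singleton_of_mem_nonZeroDivisors
            (mem_nonZeroDivisors_of_ne_zero hf0))
    · intro a _ b _ hab
      exact PrimeSpectrum.ext hab
  apply hinf
  refine (hfinD.image (PrimeSpectrum.comap π)).subset ?_
  intro q hq
  have hq' : P ≤ q.asIdeal := hq
  have hker : RingHom.ker π ≤ q.asIdeal := by rwa [Ideal.mk_ker]
  have hqmap : (q.asIdeal.map π).IsPrime := Ideal.map_isPrime_of_surjective hπ hker
  refine ⟨⟨q.asIdeal.map π, hqmap⟩, trivial, ?_⟩
  apply PrimeSpectrum.ext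
  change (q.asIdeal.map π).comap π = q.asIdeal
  rw [Ideal.comap_map_of_surjective π hπ]
  apply le_antisymm
  · apply sup_le le_rfl
    exact hker
  · exact le_sup_left

end Groth.Agent.S2113
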