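import Groth.Statements.S2117
import Mathlib
import Groth.Agent.Helper1.FieldSmooth8

set_option autoImplicit false
universe u
open CAlg

namespace Groth.Agent.S2117

/-- Let k be a field of characteristic p > 0 and K a field extension of k. Then K is geometrically
reduced over k (equivalently, K/k is separable: every finitely generated subextension is separably
generated) if and only if the natural base-change map K ⊗_k Ω_{k/ℤ} → Ω_{K/ℤ} on absolute Kähler
differentials is injective. -/
theorem result {k K : Type u} [Field k] [Field K] [Algebra k K] (p : ℕ)
    [Fact p.Prime] [CharP k p] :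
    Algebra.IsGeometricallyReduced k K ↔ Function.Injective (KaehlerDifferential.mapBaseChange ℤ k K) := by
  open Groth.Agent.Helper1.FieldSmooth in
  letI : Algebra (PF.{u} p) k := (pfHom p k).toAlgebra
  letI : Algebra (PF.{u} p) K := ((algebraMap k K).comp (pfHom p k)).toAlgebra
  haveI : IsScalarTower (PF.{u} p) k K := IsScalarTower.of_algebraMap_eq fun _ => rfl
  have h := formallySmooth_iff_of_perfect p (k := k) (K := K) (F := PF.{u} p) (pf_perfect p)
  have hsurj : Function.Surjective (algebraMap ℤ (PF.{u} p)) := by
    intro a
    obtain ⟨n, hn⟩ := ZMod.intCast_surjective a.down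
    refine ⟨n, ?_⟩
    apply ULift.ext
    rw [← hn]
    simp
  rw [← h.1, h.2]
  exact (injective_mapBaseChange_iff ℤ (PF.{u} p) k K hsurj).symm

end Groth.Agent.S2117
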