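import Groth.Statements.S2131
import Mathlib

set_option autoImplicit false
universe u
open CAlg

namespace Groth.Agent.S2131

/-- For an `R`-linear map from a finite module to a finitely presented module, the primes at which its
localization is bijective form an open subset of `Spec R`. -/
theorem result {R M N : Type u} [CommRing R] [AddCommGroup M] [Module R M] [Module.Finite R M]
    [AddCommGroup N] [Module R N] [Module.FinitePresentation R N] (φ : M →ₗ[R] N) :
    IsOpen {p : PrimeSpectrum R | Function.Bijective (LocalizedModule.map p.asIdeal.primeCompl φ)} := by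
  rw [isOpen_iff_forall_mem_open]
  intro p hp
  obtain ⟨g, hg, hbij⟩ := Module.FinitePresentation.exists_notMem_bijective φ p.asIdeal
    (LocalizedModule.mkLinearMap p.asIdeal.primeCompl M)
    (LocalizedModule.mkLinearMap p.asIdeal.primeCompl N) hp
  refine ⟨PrimeSpectrum.basicOpen g, ?_, (PrimeSpectrum.basicOpen g).isOpen, hg⟩
  intro q hq
  have hgq : g ∉ q.asIdeal := hq
  have hpow : ∀ k : ℕ, g ^ k ∈ q.asIdeal.primeCompl := fun k h =>
    hgq (q.isPrime.mem_of_pow_mem k h)
  constructor
  · rw [← LinearMap.ker_eq_bot, LinearMap.ker_eq_bot']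
    intro x hx
    induction x using LocalizedModule.induction_on with
    | h m s =>
      rw [LocalizedModule.map_mk, ← LocalizedModule.zero_mk s, LocalizedModule.mk_eq] at hx
      obtain ⟨u, hu⟩ := hx
      simp only [smul_zero] at hu
      -- u • s • φ m = 0
      have h1 : LocalizedModule.map (Submonoid.powers g) φ
          (LocalizedModule.mk ((u * s : q.asIdeal.primeCompl) • m) 1) = 0 := by
        rw [LocalizedModule.map_mk, ← LocalizedModule.zero_mk 1]
        congr 1
        rw [mul_smul]
        change φ ((u : R) • (s : R) • m) = 0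
        rw [map_smul, map_smul]
        exact hu
      have h2 := hbij.1 (h1.trans (map_zero _).symm)
      rw [← LocalizedModule.zero_mk 1, LocalizedModule.mk_eq] at h2
      obtain ⟨⟨_, k, rfl⟩, hk⟩ := h2
      simp only [smul_zero, one_smul] at hk
      rw [← LocalizedModule.zero_mk s, LocalizedModule.mk_eq]
      refine ⟨⟨g ^ k, hpow k⟩ * u, ?_⟩
      simp only [smul_zero]
      rw [mul_smul]
      have : ((⟨g ^ k, hpow k⟩ : q.asIdeal.primeCompl) • u • s • m : M) = g ^ k • ((u * s) • m) := by
        rw [mul_smul]; rfl
      rw [this]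
      exact hk
  · intro y
    induction y using LocalizedModule.induction_on with
    | h n s =>
      obtain ⟨x, hx⟩ := hbij.2 (LocalizedModule.mk n 1)
      induction x using LocalizedModule.induction_on with
      | h m t =>
        obtain ⟨_, k, rfl⟩ := t
        rw [LocalizedModule.map_mk, LocalizedModule.mk_eq] at hx
        obtain ⟨⟨_, j, rfl⟩, hj⟩ := hx
        simp only [one_smul] at hj
        -- g^j • φ m = g^j • g^k • n
        refine ⟨LocalizedModule.mk ((g ^ j) • m) (⟨g ^ j, hpow j⟩ * ⟨g ^ k, hpow k⟩ * s), ?_⟩
        rw [LocalizedModule.map_mk, LocalizedModule.mk_eq]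
        refine ⟨1, ?_⟩
        simp only [one_smul]
        rw [map_smul]
        have h3 : (g ^ j • φ m : N) = g ^ j • g ^ k • n := hj
        rw [h3, mul_smul, mul_smul]
        change (s : R) • g ^ j • g ^ k • n = g ^ j • g ^ k • (s : R) • n
        rw [smul_comm (s : R) (g ^ j), smul_comm (s : R) (g ^ k)]

end Groth.Agent.S2131
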