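import Groth.Statements.S2132
import Groth.Agent.Helper4.FPAlgDescent
import Mathlib

set_option autoImplicit false
universe u
open CategoryTheory
open CAlg

namespace Groth.Agent.S2132


/-- Let `F : J ⥤ CommRingCat` be a filtered diagram of henselian local rings with local transition maps
and `c` a colimit cocone. Then the colimit is a henselian local ring. -/
theorem result {J : Type u} [SmallCategory J] [IsFiltered J] (F : J ⥤ CommRingCat.{u})
    (hF : ∀ j, HenselianLocalRing (F.obj j)) (hloc : ∀ (i j : J) (a : i ⟶ j), IsLocalHom (F.map a).hom)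
    (c : Limits.Cocone F) (hc : Limits.IsColimit c) : HenselianLocalRing c.pt := by

  classical
  haveI : ∀ j, HenselianLocalRing (F.obj j) := hF
  let φ : ∀ i, F.obj i →+* c.pt := fun i => (c.ι.app i).hom
  have hrep : ∀ a : c.pt, ∃ i y, φ i y = a := fun a =>
    Groth.Agent.Helper4.FPAlgDescent.exists_rep hc a
  have hzero : ∀ (i : J) (x : F.obj i), φ i x = 0 → ∃ (k : J) (g : i ⟶ k), (F.map g).hom x = 0 :=
    fun i x hx => Groth.Agent.Helper4.FPAlgDescent.zero_exact hc x hx
  have hιmap : ∀ {i k : J} (g : i ⟶ k) (x : F.obj i), φ k ((F.map g).hom x) = φ i x :=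
    fun g x => Groth.Agent.Helper4.FPAlgDescent.ι_map c g x
  have hcommon : ∀ S : Finset c.pt, ∃ i, (S : Set c.pt) ⊆ Set.range (φ i) := fun S =>
    Groth.Agent.Helper4.FPAlgDescent.exists_common hc S
  -- units are detected at finite stages
  have hunit : ∀ (i : J) (y : F.obj i), IsUnit (φ i y) → IsUnit y := by
    intro i y hy
    obtain ⟨z, hz⟩ := isUnit_iff_exists_inv.mp hy
    obtain ⟨j, w, rfl⟩ := hrep z
    have h0 : φ (IsFiltered.max i j)
        ((F.map (IsFiltered.leftToMax i j)).hom y * (F.map (IsFiltered.rightToMax i j)).hom w - 1)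
        = 0 := by
      rw [map_sub, map_mul, hιmap, hιmap, hz, map_one, sub_self]
    obtain ⟨l, g, hl⟩ := hzero _ _ h0
    rw [map_sub, map_mul, map_one, sub_eq_zero] at hl
    have h1 : IsUnit ((F.map g).hom ((F.map (IsFiltered.leftToMax i j)).hom y)) :=
      isUnit_iff_exists_inv.mpr ⟨_, hl⟩
    haveI := hloc _ _ g
    haveI := hloc _ _ (IsFiltered.leftToMax i j)
    exact isUnit_of_map_unit (F.map (IsFiltered.leftToMax i j)).hom _
      (isUnit_of_map_unit (F.map g).hom _ h1)
  haveI hnt : Nontrivial c.pt := by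
    refine ⟨⟨0, 1, fun h01 => ?_⟩⟩
    have h0 : φ (IsFiltered.nonempty (C := J)).some 1 = 0 := by
      rw [map_one]; exact h01.symm
    obtain ⟨j, g, hj⟩ := hzero _ _ h0
    rw [map_one] at hj
    exact one_ne_zero hj
  haveI hlocal : IsLocalRing c.pt := by
    refine IsLocalRing.of_isUnit_or_isUnit_one_sub_self fun a => ?_
    obtain ⟨i, y, rfl⟩ := hrep a
    rcases IsLocalRing.isUnit_or_isUnit_one_sub_self y with h | h
    · exact Or.inl (h.map _)
    · right
      have := h.map (φ i)
      rwa [map_sub, map_one] at this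
  have hmem : ∀ (i : J) (y : F.obj i), φ i y ∈ IsLocalRing.maximalIdeal c.pt ↔
      y ∈ IsLocalRing.maximalIdeal (F.obj i) := by
    intro i y
    rw [IsLocalRing.mem_maximalIdeal, IsLocalRing.mem_maximalIdeal, mem_nonunits_iff,
      mem_nonunits_iff, not_iff_not]
    exact ⟨hunit i y, fun h => h.map _⟩
  -- lifting a monic polynomial and a point to a finite stage
  have hlift : ∀ (P : Polynomial c.pt) (hP : P.Monic) (a₀ : c.pt),
      ∃ (k : J) (q : Polynomial (F.obj k)) (b : F.obj k), q.Monic ∧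
        q.map (φ k) = P ∧ φ k b = a₀ := by
    intro P hP a₀
    obtain ⟨k, hk⟩ := hcommon (insert a₀ P.coeffs)
    have hlifts : P ∈ Polynomial.lifts (φ k) := by
      rw [Polynomial.lifts_iff_coeffs_subset_range]
      intro a ha
      exact hk (Finset.mem_coe.mpr (Finset.mem_insert_of_mem ha))
    obtain ⟨q, hq, -, hqm⟩ := Polynomial.lifts_and_degree_eq_and_monic hlifts hP
    obtain ⟨b, hb⟩ := hk (Finset.mem_coe.mpr (Finset.mem_insert_self a₀ P.coeffs))
    exact ⟨k, q, b, hqm, hq, hb⟩
  refine { is_henselian := ?_ }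
  intro P hP a₀ h₁ h₂
  obtain ⟨k, q, b, hqm, rfl, rfl⟩ := hlift P hP a₀
  rw [Polynomial.eval_map_apply, hmem] at h₁
  rw [Polynomial.derivative_map, Polynomial.eval_map_apply] at h₂
  obtain ⟨r, hr, hrb⟩ := HenselianLocalRing.is_henselian q hqm b h₁ (hunit k _ h₂)
  refine ⟨φ k r, ?_, ?_⟩
  · rw [Polynomial.IsRoot.def, Polynomial.eval_map_apply, hr.eq_zero, map_zero]
  · rw [← map_sub, hmem]
    exact hrb

end Groth.Agent.S2132
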