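import Groth.Statements.S2134
import Groth.Agent.Helper1.DescentDep

set_option autoImplicit false
universe u
open CAlg

namespace Groth.Agent.S2134

/-- Let `K/k` be a field extension and `(K_α)` a nonempty family of intermediate fields, directed
downwards, with intersection `k`. For a `K`-subspace `V` of `K^n` (`n ≥ 1`), `V` contains a nonzero
vector with all coordinates in `k` if and only if for every `α` it contains a nonzero vector with
all coordinates in `K_α`. -/
theorem result {k K : Type u} [Field k] [Field K] [Algebra k K] {ι : Type u} [Nonempty ι]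
    (F : ι → IntermediateField k K) (hdir : ∀ a b : ι, ∃ c, F c ≤ F a ⊓ F b) (hinf : ⨅ a, F a = ⊥) (n : ℕ) (hn : 1 ≤ n)
    (V : Submodule K (Fin n → K)) :
    (∃ v ∈ V, v ≠ 0 ∧ ∀ i, v i ∈ Set.range (algebraMap k K)) ↔
      ∀ a, ∃ v ∈ V, v ≠ 0 ∧ ∀ i, v i ∈ F a := by
  classical
  constructor
  · rintro ⟨v, hv, hv0, hvk⟩ a
    refine ⟨v, hv, hv0, fun i => ?_⟩
    obtain ⟨c, hc⟩ := hvk i
    rw [← hc]
    exact (F a).algebraMap_mem c
  · intro hall
    let c : Fin n → ((Fin n → K) ⧸ V) := fun i => V.mkQ (Pi.single i 1)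
    have hsum : ∀ a : Fin n → K, ∑ j, a j • c j = V.mkQ a := by
      intro a
      simp only [c]
      simp_rw [← map_smul]
      rw [← map_sum]
      congr 1
      conv_rhs => rw [← Finset.univ_sum_single a]
      apply Finset.sum_congr rfl
      intro j _
      ext i
      simp [Pi.single_apply]
    have hdep : ∀ α, Groth.Agent.Helper1.DescentDep.Dep c (F α).toSubfield Finset.univ := by
      intro α
      obtain ⟨v, hv, hv0, hvF⟩ := hall α
      refine ⟨v, hvF, fun j hj => absurd (Finset.mem_univ j) hj, hv0, ?_⟩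
      rw [hsum]
      exact (Submodule.Quotient.mk_eq_zero V).mpr hv
    have hdir' : ∀ a b : ι, ∃ d, (F d).toSubfield ≤ (F a).toSubfield ⊓ (F b).toSubfield := by
      intro a b
      obtain ⟨d, hd⟩ := hdir a b
      exact ⟨d, le_inf (fun x hx => (hd hx).1) (fun x hx => (hd hx).2)⟩
    obtain ⟨a, h1, -, h3, h4⟩ := Groth.Agent.Helper1.DescentDep.dep_iInf c
      (fun α => (F α).toSubfield) hdir' Finset.univ hdep
    refine ⟨a, ?_, h3, fun i => ?_⟩
    · rw [hsum] at h4
      exact (Submodule.Quotient.mk_eq_zero V).mp h4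
    · have := h1 i
      rw [← IntermediateField.iInf_toSubfield, hinf] at this
      exact IntermediateField.mem_bot.mp this

end Groth.Agent.S2134
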