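import Groth.Statements.S2138
import Mathlib
import Groth.Agent.Helper1.SymbPow

set_option autoImplicit false
universe u
open CAlg

namespace Groth.Agent.S2138

/-- Let `R → S` be flat and `𝔭` a prime of `R` whose extension `𝔮 = 𝔭S` is prime. Then for every `n` the
extension to `S` of the symbolic power `𝔭^{(n)}` (the contraction of `𝔭ⁿR_𝔭`) equals the symbolic
power `𝔮^{(n)}`. -/
theorem result {R S : Type u} [CommRing R] [CommRing S] [Algebra R S] [Module.Flat R S]
    (p : Ideal R) [p.IsPrime] [(p.map (algebraMap R S)).IsPrime] (n : ℕ) :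
    (((p ^ n).map (algebraMap R (Localization.AtPrime p))).comap (algebraMap R (Localization.AtPrime p))).map
        (algebraMap R S) =
      (((p.map (algebraMap R S)) ^ n).map (algebraMap S (Localization.AtPrime (p.map (algebraMap R S))))).comap
        (algebraMap S (Localization.AtPrime (p.map (algebraMap R S)))) := by
  have hqprime : (p.map (algebraMap R S)).IsPrime := inferInstance
  have hone : (1 : R) ∉ p := fun h => (Ideal.IsPrime.ne_top inferInstance) ((Ideal.eq_top_iff_one p).mpr h)
  have memP : ∀ x, x ∈ ((p ^ n).map (algebraMap R (Localization.AtPrime p))).comap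
      (algebraMap R (Localization.AtPrime p)) ↔ ∃ t, t ∉ p ∧ t * x ∈ p ^ n := by
    intro x
    rw [Ideal.mem_comap, IsLocalization.algebraMap_mem_map_algebraMap_iff p.primeCompl]
    constructor
    · rintro ⟨m, hm, h⟩; exact ⟨m, hm, h⟩
    · rintro ⟨t, ht, h⟩; exact ⟨t, ht, h⟩
  have memQ : ∀ y, y ∈ (((p.map (algebraMap R S)) ^ n).map
      (algebraMap S (Localization.AtPrime (p.map (algebraMap R S))))).comap
      (algebraMap S (Localization.AtPrime (p.map (algebraMap R S)))) ↔
      ∃ s, s ∉ p.map (algebraMap R S) ∧ s * y ∈ (p.map (algebraMap R S)) ^ n := by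
    intro y
    rw [Ideal.mem_comap,
      IsLocalization.algebraMap_mem_map_algebraMap_iff (p.map (algebraMap R S)).primeCompl]
    constructor
    · rintro ⟨m, hm, h⟩; exact ⟨m, hm, h⟩
    · rintro ⟨t, ht, h⟩; exact ⟨t, ht, h⟩
  apply le_antisymm
  · rw [Ideal.map_le_iff_le_comap]
    intro x hx
    obtain ⟨t, ht, htx⟩ := (memP x).mp hx
    rw [Ideal.mem_comap, memQ]
    refine ⟨algebraMap R S t, ?_, ?_⟩
    · intro hmem
      have h1 := Groth.Agent.Helper1.SymbPow.flat_regular (S := S) p t
        (fun x hx => (Ideal.IsPrime.mem_or_mem inferInstance hx).resolve_left ht) 1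
        (by rwa [mul_one])
      exact hqprime.ne_top ((Ideal.eq_top_iff_one _).mpr h1)
    · rw [← map_mul, ← Ideal.map_pow]
      exact Ideal.mem_map_of_mem _ htx
  · intro y hy
    obtain ⟨s, hs, hsy⟩ := (memQ y).mp hy
    refine Groth.Agent.Helper1.SymbPow.saturated_map p hqprime n _ ?_ ?_ s hs y ?_
    · intro x hx
      rw [memP]
      exact ⟨1, hone, by rwa [one_mul]⟩
    · intro t ht x hx
      rw [memP] at hx ⊢
      obtain ⟨t', ht', h⟩ := hx
      exact ⟨t' * t, fun h' => (Ideal.IsPrime.mem_or_mem inferInstance h').elim ht' ht,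
        by rwa [mul_assoc]⟩
    · rw [← Ideal.map_pow] at hsy
      refine Ideal.map_mono ?_ hsy
      intro x hx
      rw [memP]
      exact ⟨1, hone, by rwa [one_mul]⟩

end Groth.Agent.S2138
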