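import Groth.Statements.S2143
import Groth.Agent.Helper5.FtDim9

set_option autoImplicit false
universe u
open CAlg

namespace Groth.Agent.S2143

/-- (1) = (3): let `S` be of finite type over a field `k` and `𝔭` a prime of `S`. The local dimension of
`Spec S` at `𝔭` is the infimum of `dim S_𝔪` over the maximal ideals `𝔪 ⊇ 𝔭`. -/
theorem result {k S : Type u} [Field k] [CommRing S] [Algebra k S] [Algebra.FiniteType k S]
    (p : Ideal S) [p.IsPrime] :
    FlatMor.localDim (PrimeSpectrum S) ⟨p, inferInstance⟩ =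
      ⨅ m : {m : Ideal S // m.IsMaximal ∧ p ≤ m}, ringKrullDim (Localization.AtPrime (hp := m.2.1.isPrime') m.1) := by
  have h1 := Groth.Agent.Helper5.FtDim.localDim_eq k S ⟨p, inferInstance⟩
  have key : ∀ m : {m : Ideal S // m.IsMaximal ∧ p ≤ m},
      ringKrullDim (Localization.AtPrime (hp := m.2.1.isPrime') m.1) =
        ((Order.height (⟨m.1, m.2.1.isPrime'⟩ : PrimeSpectrum S) +
          Order.coheight (⟨m.1, m.2.1.isPrime'⟩ : PrimeSpectrum S) : ℕ∞) : WithBot ℕ∞) := by
    intro m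
    have := m.2.1.isPrime'
    rw [IsLocalization.AtPrime.ringKrullDim_eq_height m.1 (Localization.AtPrime m.1),
      Groth.Agent.Helper5.FtDim.coheight_eq_zero_of_isMaximal ⟨m.1, m.2.1.isPrime'⟩ m.2.1, add_zero,
      ← PrimeSpectrum.height_eq_orderHeight]
  rw [h1]
  apply le_antisymm
  · refine le_iInf fun m => ?_
    rw [key m]
    exact_mod_cast Groth.Agent.Helper5.FtDim.delta_mono k S ⟨p, inferInstance⟩
      ⟨m.1, m.2.1.isPrime'⟩ m.2.2
  · obtain ⟨m, hmax, hpm, hle⟩ :=
      Groth.Agent.Helper5.FtDim.exists_isMaximal_height_le k S ⟨p, inferInstance⟩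
    refine (iInf_le _ (⟨m.asIdeal, hmax, hpm⟩ : {m : Ideal S // m.IsMaximal ∧ p ≤ m})).trans ?_
    rw [key]
    rw [Groth.Agent.Helper5.FtDim.coheight_eq_zero_of_isMaximal _ hmax, add_zero]
    exact_mod_cast hle

end Groth.Agent.S2143
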