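import Groth.Statements.S2146
import Groth.Agent.Helper1.SpreadOut3

set_option autoImplicit false
universe u
open CAlg

namespace Groth.Agent.S2146

/-- Let `S` be a finitely presented `R`-algebra and `𝔮` a prime of `S` over `𝔭` such that the induced
map `R_𝔭 → S_𝔮` is bijective. Then for some `f ∉ 𝔭` there is an `R_f`-algebra `C` with `S_f ≅ R_f ×
C` as `R_f`-algebras. -/
theorem result {R S : Type u} [CommRing R] [CommRing S] [Algebra R S]
    [Algebra.FinitePresentation R S] (q : Ideal S) [q.IsPrime] (p : Ideal R) [p.IsPrime] [q.LiesOver p]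
    (h : Function.Bijective (Localization.localRingHom p q (algebraMap R S) (q.over_def p))) :
    ∃ f : R, f ∉ p ∧ ∀ (Rf Sf : Type u) [CommRing Rf] [CommRing Sf] [Algebra R Rf] [IsLocalization.Away f Rf]
      [Algebra S Sf] [IsLocalization.Away (algebraMap R S f) Sf] [Algebra Rf Sf] [Algebra R Sf] [IsScalarTower R S Sf]
      [IsScalarTower R Rf Sf],
      ∃ (C : Type u) (_ : CommRing C) (_ : Algebra Rf C), Nonempty (Sf ≃ₐ[Rf] (Rf × C)) := by
  classical
  set ℓ := Localization.localRingHom p q (algebraMap R S) (q.over_def p) with hℓ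
  let e : Localization.AtPrime p ≃+* Localization.AtPrime q := RingEquiv.ofBijective ℓ h
  have he : ∀ r : R, e (algebraMap R (Localization.AtPrime p) r) =
      algebraMap S (Localization.AtPrime q) (algebraMap R S r) := fun r =>
    Localization.localRingHom_to_map p q (algebraMap R S) (q.over_def p) r
  -- the map S → R_p
  let φ₀ : S →ₐ[R] Localization.AtPrime p :=
    { (e.symm.toRingHom.comp (algebraMap S (Localization.AtPrime q))) with
      commutes' := fun r => by
        show e.symm (algebraMap S (Localization.AtPrime q) (algebraMap R S r)) = _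
        rw [← he, e.symm_apply_apply] }
  have hφ₀ : ∀ x, e (φ₀ x) = algebraMap S (Localization.AtPrime q) x := fun x =>
    e.apply_symm_apply _
  obtain ⟨f₁, hf₁, π₁, hπ₁⟩ := Groth.Agent.Helper1.SpreadOut.exists_lift_away
    (R := R) (S := S) (T := R) p.primeCompl (Localization.AtPrime p) φ₀
  have hf₁u : IsUnit (algebraMap R (Localization.AtPrime p) f₁) :=
    IsLocalization.map_units _ (⟨f₁, hf₁⟩ : p.primeCompl)
  let can₁ : Localization.Away f₁ →+* Localization.AtPrime p :=
    IsLocalization.Away.lift f₁ hf₁u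
  have hcan₁ : ∀ a : R, can₁ (algebraMap R _ a) = algebraMap R _ a := fun a =>
    IsLocalization.Away.lift_eq f₁ hf₁u a
  have hcompat : ∀ x, can₁ (π₁ x) = φ₀ x :=
    hπ₁ can₁ (by ext a; exact hcan₁ a)
  -- generators
  obtain ⟨X₀, hX₀⟩ := (Algebra.FiniteType.out : (⊤ : Subalgebra R S).FG)
  -- for every element, data N, b, s
  have hdata : ∀ x : S, ∃ (N : ℕ) (b : R) (s : S), s ∉ q ∧
      π₁ x * algebraMap R (Localization.Away f₁) (f₁ ^ N) = algebraMap R (Localization.Away f₁) b ∧
      s * (x * algebraMap R S (f₁ ^ N) - algebraMap R S b) = 0 := by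
    intro x
    obtain ⟨⟨b, ⟨_, N, rfl⟩⟩, hb⟩ := IsLocalization.surj (Submonoid.powers f₁) (π₁ x)
    simp only at hb
    have h1 : algebraMap S (Localization.AtPrime q) (x * algebraMap R S (f₁ ^ N) - algebraMap R S b) = 0 := by
      have h2 := congr(e (can₁ $hb))
      rw [map_mul, map_mul, hcompat, hφ₀, hcan₁, hcan₁, he, he] at h2
      rw [map_sub, map_mul, h2, sub_self]
    obtain ⟨s, hs⟩ := (IsLocalization.map_eq_zero_iff q.primeCompl _ _).1 h1
    exact ⟨N, b, s, s.2, hb, hs⟩
  choose N b s₀ hs₀q hb hs₀ using hdata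
  let s : S := ∏ x ∈ X₀, s₀ x
  have hsq : s ∉ q := by
    intro hmem
    obtain ⟨x, _, hx⟩ := (Ideal.IsPrime.prod_mem_iff).1 hmem
    exact hs₀q x hx
  have hs : ∀ x ∈ X₀, s * (x * algebraMap R S (f₁ ^ N x) - algebraMap R S (b x)) = 0 := by
    intro x hx
    obtain ⟨d, hd⟩ := Finset.dvd_prod_of_mem s₀ hx
    show (∏ x ∈ X₀, s₀ x) * _ = 0
    rw [hd, mul_comm (s₀ x) d, mul_assoc, hs₀ x, mul_zero]
  -- the element c
  obtain ⟨⟨c, ⟨_, M, rfl⟩⟩, hc⟩ := IsLocalization.surj (Submonoid.powers f₁) (π₁ s)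
  simp only at hc
  have hcp : c ∉ p := by
    have h2 := congr(can₁ $hc)
    rw [map_mul, hcompat, hcan₁, hcan₁] at h2
    have hsu : IsUnit (φ₀ s) := by
      have : IsUnit (algebraMap S (Localization.AtPrime q) s) :=
        IsLocalization.map_units _ (⟨s, hsq⟩ : q.primeCompl)
      rw [← hφ₀] at this
      have h3 := this.map e.symm
      rwa [e.symm_apply_apply] at h3
    have hfu : IsUnit (algebraMap R (Localization.AtPrime p) (f₁ ^ M)) := by
      rw [map_pow]; exact hf₁u.pow _
    have hcu : IsUnit (algebraMap R (Localization.AtPrime p) c) := by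
      rw [← h2]; exact hsu.mul hfu
    exact (IsLocalization.AtPrime.isUnit_to_map_iff (Localization.AtPrime p) p c).1 hcu
  refine ⟨f₁ * c, ?_, ?_⟩
  · exact fun hmem => (Ideal.IsPrime.mem_or_mem inferInstance hmem).elim hf₁ hcp
  · intro Rf Sf _ _ _ _ _ _ _ _ _ _
    exact Groth.Agent.Helper1.SpreadOut.final_step f₁ c π₁ X₀ hX₀ s N b
      (fun x _ => hb x) hs M hc Rf Sf

end Groth.Agent.S2146
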