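import Groth.Statements.S2148
import Groth.Agent.Helper1.PBasisField2

set_option autoImplicit false
universe u
open CAlg

namespace Groth.Agent.S2148

/-- Let `k` be a perfect field of characteristic `p > 0` and `K` an extension field of `k`. For `a ∈ K`,
the differential `da` vanishes in `Ω_{K/k}` if and only if `a` is a `p`-th power in `K`. -/
theorem result {k K : Type u} [Field k] [Field K] [Algebra k K] (p : ℕ) [Fact p.Prime]
    [CharP k p] [PerfectRing k p] (a : K) :
    KaehlerDifferential.D k K a = 0 ↔ ∃ b : K, b ^ p = a := by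
  open Groth.Agent.Helper1.PBasisField Groth.Agent.Helper1.PBasis in
  classical
  have : CharP K p := charP_of_injective_algebraMap (algebraMap k K).injective p
  constructor
  · intro hda
    by_contra hnot
    push Not at hnot
    -- every element of `k[K^p]` is a `p`-th power
    have hC : ∀ z ∈ EGA41.pPowerSubalgebra p k K, ∃ b : K, b ^ p = z := by
      intro z hz
      unfold EGA41.pPowerSubalgebra at hz
      induction hz using Algebra.adjoin_induction with
      | mem y hy => obtain ⟨b, rfl⟩ := hy; exact ⟨b, rfl⟩
      | algebraMap c =>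
        obtain ⟨d, hd⟩ := (PerfectRing.bijective_frobenius (R := k) (p := p)).2 c
        refine ⟨algebraMap k K d, ?_⟩
        rw [← map_pow]
        congr 1
      | add y z _ _ hy hz =>
        obtain ⟨b, rfl⟩ := hy
        obtain ⟨c, rfl⟩ := hz
        exact ⟨b + c, add_pow_char b c p⟩
      | mul y z _ _ hy hz =>
        obtain ⟨b, rfl⟩ := hy
        obtain ⟨c, rfl⟩ := hz
        exact ⟨b * c, mul_pow b c p⟩
    have ha : a ∉ IntermediateField.adjoin (EGA41.pPowerSubalgebra p k K) (∅ : Set K) := by
      intro hmem
      rw [mem_adjoin_iff, Algebra.adjoin_empty] at hmem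
      obtain ⟨c, rfl⟩ := Algebra.mem_bot.mp hmem
      obtain ⟨b, hb⟩ := hC _ c.2
      exact hnot b hb
    have hind : PInd p k ({a} : Set K) := by
      have := pInd_insert p k ∅ (pInd_empty p k) a ha
      rwa [insert_empty_eq] at this
    have h1 := linearIndependent_D_of_isPIndependent p k (Subtype.val : ({a} : Set K) → K)
      ((isPIndependent_val_iff p k {a}).mpr hind)
    exact h1.ne_zero ⟨a, rfl⟩ hda
  · rintro ⟨b, rfl⟩
    rw [Derivation.leibniz_pow, ← Nat.cast_smul_eq_nsmul K, CharP.cast_eq_zero, zero_smul]

end Groth.Agent.S2148
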