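import Groth.Statements.S2152
import Groth.Agent.Lead.LimTop
import Mathlib

set_option autoImplicit false
universe u
open CategoryTheory AlgebraicGeometry
open Lim

namespace Groth.Agent.S2152

open Limits Groth.Agent.Lead.LimTop in
set_option backward.isDefEq.respectTransparency false in
theorem aux {I : Type u} [SmallCategory I] [IsCofiltered I] (D : I ⥤ Scheme.{u})
    [∀ (i j : I) (f : i ⟶ j), IsAffineHom (D.map f)] (c : Limits.Cone D) (hc : Limits.IsLimit c) :
    Nonempty (Limits.IsLimit (Scheme.forgetToTop.mapCone c)) := by
  have hA : ∀ {i j : I} (f : i ⟶ j), IsAffineHom (D.map f) := fun f ↦ inferInstance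
  have h1 : Nonempty (IsLimit ((forget TopCat).mapCone (Scheme.forgetToTop.mapCone c))) := by
    rw [Types.isLimit_iff]
    intro x hx
    have hx' : ∀ {l l' : I} (f : l ⟶ l'), D.map f (x l) = x l' := fun f ↦ hx f
    obtain ⟨s, hs⟩ := exists_point D c hc x hx'
    refine ⟨s, hs, fun s' hs' ↦ ?_⟩
    exact eq_of_forall_π_eq D c hc (fun l ↦ (hs' l).trans (hs l).symm)
  obtain ⟨h1⟩ := h1
  rw [TopCat.nonempty_isLimit_iff_eq_induced _ h1]
  exact topology_eq_iInf D c hc

/-- Let `c` be a limit cone of a diagram of schemes indexed by a small cofiltered category with affine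
transition morphisms. Then the image of `c` under the forgetful functor to topological spaces is a
limit cone: the underlying space of the limit scheme is the limit of the underlying spaces. -/
theorem result {I : Type u} [SmallCategory I] [IsCofiltered I] (D : I ⥤ Scheme.{u})
    [∀ (i j : I) (f : i ⟶ j), IsAffineHom (D.map f)] (c : Limits.Cone D) (hc : Limits.IsLimit c) :
    Nonempty (Limits.IsLimit (Scheme.forgetToTop.mapCone c)) := by
  exact aux D c hc

end Groth.Agent.S2152
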