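import Groth.Statements.S2159
import Mathlib

set_option autoImplicit false
universe u
open CAlg

namespace Groth.Agent.S2159

/-- Given surjections `p₁ : P₁ → M` and `p₂ : P₂ → M` from projective modules, with kernels `K` and `L`,
there is an isomorphism `K ⊕ P₂ ≅ L ⊕ P₁`. -/
theorem result {R M P₁ P₂ : Type u} [CommRing R] [AddCommGroup M] [Module R M] [AddCommGroup P₁] [Module R P₁]
    [Module.Projective R P₁] [AddCommGroup P₂] [Module R P₂] [Module.Projective R P₂] (p₁ : P₁ →ₗ[R] M) (p₂ : P₂ →ₗ[R] M)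
    (h₁ : Function.Surjective p₁) (h₂ : Function.Surjective p₂) :
    Nonempty ((LinearMap.ker p₁ × P₂) ≃ₗ[R] (LinearMap.ker p₂ × P₁)) := by
  classical
  obtain ⟨s, hs⟩ := Module.projective_lifting_property p₁ p₂ h₁
  obtain ⟨t, ht⟩ := Module.projective_lifting_property p₂ p₁ h₂
  have hs' : ∀ y, p₁ (s y) = p₂ y := fun y => LinearMap.congr_fun hs y
  have ht' : ∀ x, p₂ (t x) = p₁ x := fun x => LinearMap.congr_fun ht x
  -- forward map
  let F : (LinearMap.ker p₁ × P₂) →ₗ[R] (LinearMap.ker p₂ × P₁) :=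
    LinearMap.prod
      (LinearMap.codRestrict (LinearMap.ker p₂)
        (LinearMap.snd R (LinearMap.ker p₁) P₂ - t ∘ₗ ((LinearMap.ker p₁).subtype ∘ₗ LinearMap.fst R (LinearMap.ker p₁) P₂ +
          s ∘ₗ LinearMap.snd R (LinearMap.ker p₁) P₂))
        (by
          rintro ⟨k, y⟩
          simp only [LinearMap.mem_ker, LinearMap.sub_apply, LinearMap.snd_apply,
            LinearMap.coe_comp, Function.comp_apply, LinearMap.add_apply, LinearMap.fst_apply,
            Submodule.coe_subtype, map_sub, ht', map_add, hs', k.2, LinearMap.map_coe_ker]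
          simp))
      ((LinearMap.ker p₁).subtype ∘ₗ LinearMap.fst R (LinearMap.ker p₁) P₂ + s ∘ₗ LinearMap.snd R (LinearMap.ker p₁) P₂)
  let G : (LinearMap.ker p₂ × P₁) →ₗ[R] (LinearMap.ker p₁ × P₂) :=
    LinearMap.prod
      (LinearMap.codRestrict (LinearMap.ker p₁)
        (LinearMap.snd R (LinearMap.ker p₂) P₁ - s ∘ₗ ((LinearMap.ker p₂).subtype ∘ₗ LinearMap.fst R (LinearMap.ker p₂) P₁ +
          t ∘ₗ LinearMap.snd R (LinearMap.ker p₂) P₁))
        (by
          rintro ⟨l, x⟩
          simp only [LinearMap.mem_ker, LinearMap.sub_apply, LinearMap.snd_apply,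
            LinearMap.coe_comp, Function.comp_apply, LinearMap.add_apply, LinearMap.fst_apply,
            Submodule.coe_subtype, map_sub, hs', map_add, ht', LinearMap.map_coe_ker]
          simp))
      ((LinearMap.ker p₂).subtype ∘ₗ LinearMap.fst R (LinearMap.ker p₂) P₁ + t ∘ₗ LinearMap.snd R (LinearMap.ker p₂) P₁)
  have h1 : F ∘ₗ G = LinearMap.id := by
    apply LinearMap.ext
    rintro ⟨l, x⟩
    ext <;> simp [F, G]
  have h2 : G ∘ₗ F = LinearMap.id := by
    apply LinearMap.ext
    rintro ⟨k, y⟩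
    ext <;> simp [F, G]
  exact ⟨LinearEquiv.ofLinear F G h1 h2⟩

end Groth.Agent.S2159
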