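import Groth.Statements.S2160
import Groth.Agent.Helper1.HeightOne

set_option autoImplicit false
universe u
open CAlg

namespace Groth.Agent.S2160

/-- Let `R` be a Noetherian local domain of Krull dimension at least `2`. Then every nonempty open
subset of `Spec R` is infinite. -/
theorem result {R : Type u} [CommRing R] [IsDomain R] [IsLocalRing R] [IsNoetherianRing R]
    (hdim : 2 ≤ ringKrullDim R) (U : Set (PrimeSpectrum R)) (hU : IsOpen U) (hne : U.Nonempty) : U.Infinite := by
  obtain ⟨p, hp⟩ := hne
  obtain ⟨_, ⟨f, rfl⟩, hpf, hfU⟩ :=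
    PrimeSpectrum.isTopologicalBasis_basic_opens.exists_subset_of_mem_open hp hU
  have hf0 : f ≠ 0 := by
    rintro rfl
    exact hpf p.asIdeal.zero_mem
  have hQ : 2 ≤ (IsLocalRing.maximalIdeal R).height := by
    have h := IsLocalRing.maximalIdeal_height_eq_ringKrullDim (R := R)
    rw [← h] at hdim
    have h2 : ((2 : ℕ∞) : WithBot ℕ∞) ≤ ((IsLocalRing.maximalIdeal R).height : WithBot ℕ∞) := hdim
    exact WithBot.coe_le_coe.mp h2
  refine (Groth.Agent.Helper1.HeightOne.infinite_setOf_notMem
    (IsLocalRing.maximalIdeal R) hQ f hf0).mono ?_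
  intro q hq
  exact hfU hq

end Groth.Agent.S2160
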