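import Groth.Statements.S2170
import Mathlib
import Groth.Agent.Helper1.QuadForm

set_option autoImplicit false
open Finset
open Models

namespace Groth.Agent.S2170

/-- Let A be a symmetric real n × n matrix with non-negative off-diagonal entries and m a vector with
positive entries such that for every i, ∑_{j ≠ i} A_{ij} m_j ≤ −A_{ii} m_i. Then the kernel of A is
the span of the vectors equal to m on an index set I and zero off I, for those I such that A_{ij} =
0 whenever i ∈ I and j ∉ I and such that equality holds in the above inequality for every i ∈ I. The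
published statement omits the symmetry of A (without which it fails) and applies it only to
symmetric matrices; stated here with A symmetric. -/
theorem result {n : ℕ} (A : Matrix (Fin n) (Fin n) ℝ) (m : Fin n → ℝ)
    (hsymm : A.IsSymm) (hA : ∀ i j, i ≠ j → 0 ≤ A i j) (hm : ∀ i, 0 < m i)
    (hle : ∀ i, ∑ j ∈ univ.erase i, A i j * m j ≤ -(A i i * m i)) :
    LinearMap.ker (Matrix.mulVecLin A) = Submodule.span ℝ
      {x : Fin n → ℝ | ∃ I : Finset (Fin n), (∀ i ∈ I, ∀ j ∉ I, A i j = 0) ∧
        (∀ i ∈ I, ∑ j ∈ univ.erase i, A i j * m j = -(A i i * m i)) ∧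
        x = fun i => if i ∈ I then m i else 0} := by
  classical
  have hrow : ∀ i, ∑ j, A i j * m j ≤ 0 := by
    intro i
    rw [← Finset.add_sum_erase univ _ (Finset.mem_univ i)]
    linarith [hle i]
  have hrow_eq : ∀ i, (∑ j ∈ univ.erase i, A i j * m j = -(A i i * m i)) ↔ ∑ j, A i j * m j = 0 := by
    intro i
    rw [← Finset.add_sum_erase univ (fun j => A i j * m j) (Finset.mem_univ i)]
    constructor <;> intro h <;> linarith
  apply le_antisymm
  · -- kernel ⊆ span
    intro x hx
    have hAx : A.mulVec x = 0 := by simpa using hx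
    have h0 : dotProduct x (A.mulVec x) = 0 := by rw [hAx]; simp
    obtain ⟨hr, hcol⟩ := (Groth.Agent.Helper1.QuadForm.form_nonpos A m hsymm hA hm hrow x).2 h0
    set y : Fin n → ℝ := fun i => x i / m i with hydef
    have hxy : ∀ i, x i = y i * m i := by
      intro i
      simp only [hydef]
      field_simp [(hm i).ne']
    have hy0 : ∀ i, y i ≠ 0 → x i ≠ 0 := by
      intro i hyi hxi
      apply hyi
      simp only [hydef, hxi, zero_div]
    -- decomposition
    have hdecomp : x = ∑ c ∈ (univ.image y).erase 0,
        c • (fun i => if i ∈ univ.filter (fun k => y k = c) then m i else 0) := by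
      funext i
      rw [Finset.sum_apply]
      simp only [Pi.smul_apply, smul_eq_mul, Finset.mem_filter, Finset.mem_univ, true_and,
        mul_ite, mul_zero]
      by_cases hyi : y i = 0
      · rw [Finset.sum_eq_zero]
        · rw [hxy i, hyi, zero_mul]
        · intro c hc
          have hc0 : c ≠ 0 := (Finset.mem_erase.1 hc).1
          rw [if_neg]
          rw [hyi]; exact fun h => hc0 h.symm
      · rw [Finset.sum_ite_eq, if_pos]
        · exact hxy i
        · exact Finset.mem_erase.2 ⟨hyi, Finset.mem_image_of_mem y (Finset.mem_univ i)⟩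
    rw [hdecomp]
    refine Submodule.sum_mem _ (fun c hc => Submodule.smul_mem _ c (Submodule.subset_span ?_))
    have hc0 : c ≠ 0 := (Finset.mem_erase.1 hc).1
    refine ⟨univ.filter (fun k => y k = c), ?_, ?_, rfl⟩
    · intro i hi j hj
      simp only [Finset.mem_filter, Finset.mem_univ, true_and] at hi hj
      by_contra hne
      exact hj ((hcol i j hne).symm.trans hi)
    · intro i hi
      simp only [Finset.mem_filter, Finset.mem_univ, true_and] at hi
      rw [hrow_eq]
      exact hr i (hy0 i (by rw [hi]; exact hc0))
  · -- span ⊆ kernel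
    rw [Submodule.span_le]
    rintro _ ⟨I, h1, h2, rfl⟩
    show _ ∈ LinearMap.ker (Matrix.mulVecLin A)
    rw [LinearMap.mem_ker, Matrix.mulVecLin_apply]
    funext i
    simp only [Matrix.mulVec, dotProduct, Pi.zero_apply, mul_ite, mul_zero]
    by_cases hi : i ∈ I
    · refine Eq.trans ?_ ((hrow_eq i).1 (h2 i hi))
      apply Finset.sum_congr rfl
      intro j _
      by_cases hj : j ∈ I
      · rw [if_pos hj]
      · rw [if_neg hj, h1 i hi j hj, zero_mul]
    · apply Finset.sum_eq_zero
      intro j _
      by_cases hj : j ∈ I
      · rw [if_pos hj, Matrix.IsSymm.apply hsymm j i, h1 j hj i hi, zero_mul]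
      · rw [if_neg hj]

end Groth.Agent.S2170
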