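import Groth.Statements.S2171
import Mathlib
import Groth.Agent.Helper1.QuadForm

set_option autoImplicit false
open Finset
open Models

namespace Groth.Agent.S2171

/-- Let A be a symmetric real n by n matrix with non-negative off-diagonal entries, m a vector with
positive entries such that A m = 0, and assume no proper non-empty index set I has A i j = 0 for all
i in I and j outside I. Then x^t A x is at most 0 for every real vector x, with equality exactly
when x is a real multiple of m. -/
theorem result {n : ℕ} (A : Matrix (Fin n) (Fin n) ℝ)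
    (m : Fin n → ℝ) (hsymm : A.IsSymm) (hA : ∀ i j, i ≠ j → 0 ≤ A i j) (hm : ∀ i, 0 < m i)
    (hAm : A.mulVec m = 0)
    (hconn : ∀ I : Finset (Fin n), I.Nonempty → I ≠ univ → ∃ i ∈ I, ∃ j ∉ I, A i j ≠ 0)
    (x : Fin n → ℝ) :
    dotProduct x (A.mulVec x) ≤ 0 ∧ (dotProduct x (A.mulVec x) = 0 ↔ ∃ q : ℝ, x = q • m) := by
  classical
  have hrow0 : ∀ i, ∑ j, A i j * m j = 0 := by
    intro i
    have := congrFun hAm i
    simpa [Matrix.mulVec, dotProduct] using this
  have hrow : ∀ i, ∑ j, A i j * m j ≤ 0 := fun i => (hrow0 i).le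
  obtain ⟨h1, h2⟩ := Groth.Agent.Helper1.QuadForm.form_nonpos A m hsymm hA hm hrow x
  refine ⟨h1, fun h0 => ?_, ?_⟩
  · obtain ⟨-, hcol⟩ := h2 h0
    rcases Nat.eq_zero_or_pos n with hn | hn
    · subst hn
      exact ⟨0, funext fun i => i.elim0⟩
    · set i0 : Fin n := ⟨0, hn⟩
      set y : Fin n → ℝ := fun i => x i / m i with hydef
      set I : Finset (Fin n) := univ.filter (fun i => y i = y i0) with hI
      have hIne : I.Nonempty := ⟨i0, by simp [hI]⟩
      have hIuniv : I = univ := by
        by_contra hne
        obtain ⟨i, hi, j, hj, hij⟩ := hconn I hIne hne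
        apply hj
        simp only [hI, Finset.mem_filter, Finset.mem_univ, true_and] at hi ⊢
        rw [← hi]
        exact (hcol i j hij).symm
      refine ⟨y i0, funext fun i => ?_⟩
      have hi : i ∈ I := by rw [hIuniv]; exact Finset.mem_univ i
      simp only [hI, Finset.mem_filter, Finset.mem_univ, true_and] at hi
      rw [Pi.smul_apply, smul_eq_mul, ← hi]
      simp only [hydef]
      field_simp [(hm i).ne']
  · rintro ⟨q, rfl⟩
    rw [Matrix.mulVec_smul, hAm, smul_zero, dotProduct_zero]

end Groth.Agent.S2171
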