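import Groth.Statements.S2176
import Mathlib
import Groth.Agent.Helper1.Models

set_option autoImplicit false
open Finset
open Models Models.NumericalType

namespace Groth.Agent.S2176

/-- A minimal numerical type (no (-1)-index) with n > 1 indices has genus at least 1. -/
theorem result {n : ℕ} (T : Models.NumericalType n) (hmin : T.IsMinimal) (hn : 1 < n) : 1 ≤ T.genus := by
  classical
  unfold Models.NumericalType.genus
  obtain ⟨c, hc⟩ := Groth.Agent.Helper1.Models.two_dvd_sum T
  rw [hc, Int.mul_ediv_cancel_left _ (by norm_num : (2 : ℤ) ≠ 0)]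
  -- it suffices: 2 * Σ m w (g - 1) - 2 c ≥ 0
  have key : 0 ≤ ∑ i, T.m i * (2 * T.w i * (T.g i - 1) - T.a i i) := by
    apply Finset.sum_nonneg
    intro i _
    apply mul_nonneg (T.m_pos i).le
    have hneg := Groth.Agent.Helper1.Models.diag_neg T hn i
    obtain ⟨k, hk⟩ := T.w_dvd i i
    have hw := T.w_pos i
    have hk1 : k ≤ -1 := by
      by_contra h
      have h0 : 0 ≤ k := by omega
      have : 0 ≤ T.w i * k := mul_nonneg hw.le h0
      linarith
    rcases (T.g_nonneg i).lt_or_eq with hg | hg
    · -- g ≥ 1
      have hg1 : 1 ≤ T.g i := hg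
      have : 0 ≤ 2 * T.w i * (T.g i - 1) := by nlinarith
      linarith
    · -- g = 0, so k ≤ -2 by minimality
      have hk2 : k ≤ -2 := by
        by_contra h
        have hk' : k = -1 := by omega
        apply hmin i
        refine ⟨hg.symm, ?_⟩
        rw [hk, hk']; ring
      rw [← hg, hk]
      nlinarith
  have hexp : ∑ i, T.m i * (2 * T.w i * (T.g i - 1) - T.a i i) =
      2 * (∑ i, T.m i * T.w i * (T.g i - 1)) - ∑ i, T.m i * T.a i i := by
    rw [Finset.mul_sum, ← Finset.sum_sub_distrib]
    apply Finset.sum_congr rfl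
    intro i _
    ring
  rw [hexp, hc] at key
  linarith

end Groth.Agent.S2176
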