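import Groth.Statements.S2178
import Mathlib
import Groth.Agent.S2171
import Groth.Agent.Helper1.Models

set_option autoImplicit false
open Finset
open Models Models.NumericalType

namespace Groth.Agent.S2178

/-- The Picard group of a numerical type (the cokernel of the matrix (a i j / w i) acting on Z^n) has
free rank one: its rank as a Z-module is 1. -/
theorem result {n : ℕ} (T : Models.NumericalType n) : Module.finrank ℤ T.Pic = 1 := by
  classical
  set φ := Matrix.mulVecLin T.picMatrix with hφ
  have h1 : Module.finrank ℤ T.Pic + Module.finrank ℤ (LinearMap.range φ) = n := by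
    have := Submodule.finrank_quotient_add_finrank (LinearMap.range φ)
    simpa using this
  have h2 : Module.finrank ℤ (LinearMap.range φ) + Module.finrank ℤ (LinearMap.ker φ) = n := by
    have e := (LinearMap.quotKerEquivRange φ).finrank_eq
    have := Submodule.finrank_quotient_add_finrank (LinearMap.ker φ)
    rw [e] at this
    simpa using this
  -- kernel elements are killed by `a`
  have hkerA : ∀ x : Fin n → ℤ, x ∈ LinearMap.ker φ → ∀ i, ∑ j, T.a i j * x j = 0 := by
    intro x hx i
    have hx' : T.picMatrix.mulVec x = 0 := by simpa [hφ] using hx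
    have hi := congrFun hx' i
    simp only [Matrix.mulVec, dotProduct, Pi.zero_apply, Models.NumericalType.picMatrix] at hi
    have : ∑ j, T.a i j * x j = T.w i * ∑ j, T.a i j / T.w i * x j := by
      rw [Finset.mul_sum]
      apply Finset.sum_congr rfl
      intro j _
      rw [← mul_assoc, Int.mul_ediv_cancel' (T.w_dvd i j)]
    rw [this, hi, mul_zero]
  -- the real matrix
  set Aℝ : Matrix (Fin n) (Fin n) ℝ := T.a.map (Int.cast : ℤ → ℝ) with hAℝ
  set mℝ : Fin n → ℝ := fun i => (T.m i : ℝ) with hmℝ
  have hsymmℝ : Aℝ.IsSymm := by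
    ext i j
    simp only [hAℝ, Matrix.transpose_apply, Matrix.map_apply]
    rw [Matrix.IsSymm.apply T.symm]
  have hAℝoff : ∀ i j, i ≠ j → 0 ≤ Aℝ i j := by
    intro i j hij
    simp only [hAℝ, Matrix.map_apply]
    exact_mod_cast T.offDiag_nonneg i j hij
  have hmℝpos : ∀ i, 0 < mℝ i := fun i => by simp only [hmℝ]; exact_mod_cast T.m_pos i
  have hAmℝ : Aℝ.mulVec mℝ = 0 := by
    funext i
    simp only [Matrix.mulVec, dotProduct, hAℝ, hmℝ, Matrix.map_apply, Pi.zero_apply]
    have := Groth.Agent.Helper1.Models.row_sum T i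
    exact_mod_cast this
  have hconnℝ : ∀ I : Finset (Fin n), I.Nonempty → I ≠ univ → ∃ i ∈ I, ∃ j ∉ I, Aℝ i j ≠ 0 := by
    intro I hI hI'
    obtain ⟨i, hi, j, hj, hne⟩ := T.connected I hI hI'
    refine ⟨i, hi, j, hj, ?_⟩
    simp only [hAℝ, Matrix.map_apply]
    exact_mod_cast hne
  have hq : ∀ x : Fin n → ℤ, x ∈ LinearMap.ker φ → ∃ q : ℝ, ∀ i, (x i : ℝ) = q * mℝ i := by
    intro x hx
    set xℝ : Fin n → ℝ := fun i => (x i : ℝ) with hxℝ
    have hAx : Aℝ.mulVec xℝ = 0 := by
      funext i
      simp only [Matrix.mulVec, dotProduct, hAℝ, hxℝ, Matrix.map_apply, Pi.zero_apply]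
      have := hkerA x hx i
      exact_mod_cast this
    have h0 : dotProduct xℝ (Aℝ.mulVec xℝ) = 0 := by rw [hAx]; simp
    obtain ⟨q, hq⟩ := ((Groth.Agent.S2171.result Aℝ mℝ hsymmℝ hAℝoff hmℝpos hAmℝ hconnℝ xℝ).2).1 h0
    exact ⟨q, fun i => by have := congrFun hq i; simpa [hxℝ] using this⟩
  have i₀ : Fin n := ⟨0, T.pos⟩
  have hle : Module.finrank ℤ (LinearMap.ker φ) ≤ 1 := by
    let ψ : LinearMap.ker φ →ₗ[ℤ] ℤ := (LinearMap.proj i₀).comp (LinearMap.ker φ).subtype
    have hinj : Function.Injective ψ := by
      rw [injective_iff_map_eq_zero]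
      rintro ⟨x, hx⟩ h0
      have hx0 : x i₀ = 0 := h0
      obtain ⟨q, hq⟩ := hq x hx
      have hq0 : q = 0 := by
        have := hq i₀
        rw [hx0, Int.cast_zero] at this
        rcases mul_eq_zero.1 this.symm with h | h
        · exact h
        · exact absurd h (hmℝpos i₀).ne'
      apply Subtype.ext
      funext i
      have := hq i
      rw [hq0, zero_mul] at this
      exact_mod_cast this
    have := LinearMap.finrank_le_finrank_of_injective hinj
    simpa using this
  have hge : 0 < Module.finrank ℤ (LinearMap.ker φ) := by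
    rw [Module.finrank_pos_iff_exists_ne_zero]
    have hmker : T.m ∈ LinearMap.ker φ := by
      rw [LinearMap.mem_ker, hφ, Matrix.mulVecLin_apply]
      funext i
      simp only [Matrix.mulVec, dotProduct, Pi.zero_apply, Models.NumericalType.picMatrix]
      have hw : T.w i * ∑ j, T.a i j / T.w i * T.m j = 0 := by
        rw [Finset.mul_sum]
        rw [← Groth.Agent.Helper1.Models.row_sum T i]
        apply Finset.sum_congr rfl
        intro j _
        rw [← mul_assoc, Int.mul_ediv_cancel' (T.w_dvd i j)]
      rcases mul_eq_zero.1 hw with h | h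
      · exact absurd h (T.w_pos i).ne'
      · exact h
    refine ⟨⟨T.m, hmker⟩, ?_⟩
    intro h
    have := congrArg (fun y : LinearMap.ker φ => (y : Fin n → ℤ) i₀) h
    simp only [ZeroMemClass.coe_zero, Pi.zero_apply] at this
    exact (T.m_pos i₀).ne' this
  omega

end Groth.Agent.S2178
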