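import Groth.Statements.S2187
import Groth.Agent.Helper6.Davis
import Groth.Agent.Helper7.VascB

set_option autoImplicit false
universe u
open CategoryTheory
open LCI

namespace Groth.Agent.S2187

/-- Let R be a Noetherian local ring and I an ideal of finite projective dimension as an R-module. If F
is a direct summand of the conormal module I/I^2 which is isomorphic to R/I, then there is a
nonzerodivisor x in I whose class in I/I^2 generates F. -/
theorem result {R : Type u} [CommRing R]
    [IsNoetherianRing R] [IsLocalRing R] (I : Ideal R) (n : ℕ)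
    (hpd : HasProjectiveDimensionLT (ModuleCat.of R I) n)
    (F G : Submodule (R ⧸ I) I.Cotangent) (hFG : IsCompl F G) (e : F ≃ₗ[R ⧸ I] (R ⧸ I)) :
    ∃ (x : R) (hx : x ∈ I), x ∈ nonZeroDivisors R ∧
      Submodule.span (R ⧸ I) {I.toCotangent ⟨x, hx⟩} = F := by
  classical
  obtain ⟨⟨x₀, hx₀⟩, h0⟩ := I.toCotangent_surjective ((e.symm 1 : F) : I.Cotangent)
  have hspan : ∀ (x : R) (hx : x ∈ I), I.toCotangent ⟨x, hx⟩ = I.toCotangent ⟨x₀, hx₀⟩ →
      Submodule.span (R ⧸ I) {I.toCotangent ⟨x, hx⟩} = F := by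
    intro x hx hxx
    rw [hxx, h0]
    apply le_antisymm
    · rw [Submodule.span_le, Set.singleton_subset_iff]
      exact (e.symm 1).2
    · intro f hf
      have h1 : (⟨f, hf⟩ : F) = (e ⟨f, hf⟩) • e.symm 1 := by
        apply e.injective
        rw [map_smul, LinearEquiv.apply_symm_apply, smul_eq_mul, mul_one]
      have h2 : f = (e ⟨f, hf⟩) • ((e.symm 1 : F) : I.Cotangent) := by
        have h3 := congrArg (fun t : F => (t : I.Cotangent)) h1
        simpa using h3
      rw [h2]
      exact Submodule.smul_mem _ _ (Submodule.mem_span_singleton_self _)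
  have := hpd
  have hpdLE : HasProjectiveDimensionLE (ModuleCat.of R I) n :=
    hasProjectiveDimensionLT_of_ge _ n (n + 1) (Nat.le_succ n)
  have hI_not_le : ∀ P ∈ associatedPrimes R R, ¬ I ≤ P := by
    intro P hP hIP
    obtain ⟨s, hsP, hsx⟩ := Groth.Agent.Helper7.Vasc.ann_of_ass I n hpdLE P hP hIP x₀ hx₀
    have h1 : s • I.toCotangent ⟨x₀, hx₀⟩ = 0 := by
      rw [← map_smul]
      have h4 : s • (⟨x₀, hx₀⟩ : I) = 0 := by
        apply Subtype.ext
        simpa using hsx
      rw [h4, map_zero]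
    rw [h0] at h1
    have h2 : (Ideal.Quotient.mk I s) • (e.symm 1) = 0 := by
      apply Subtype.ext
      rw [Submodule.coe_smul, Submodule.coe_zero, ← h1, ← Ideal.Quotient.algebraMap_eq,
        algebraMap_smul]
    have h3 : Ideal.Quotient.mk I s = 0 := by
      have h5 := congrArg e h2
      rw [map_smul, LinearEquiv.apply_symm_apply, map_zero, smul_eq_mul, mul_one] at h5
      exact h5
    exact hsP (hIP (Ideal.Quotient.eq_zero_iff_mem.mp h3))
  have hprime : ∀ P ∈ (associatedPrimes.finite R R).toFinset, P.IsPrime := by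
    intro P hP
    rw [Set.Finite.mem_toFinset] at hP
    exact (AssociatedPrimes.mem_iff.mp hP).isPrime
  have hJ : ∀ P ∈ (associatedPrimes.finite R R).toFinset, ¬ (I ^ 2) ≤ P := by
    intro P hP hle
    have hPp := hprime P hP
    rw [Set.Finite.mem_toFinset] at hP
    exact hI_not_le P hP ((Ideal.IsPrime.pow_le_iff two_ne_zero).mp hle)
  obtain ⟨y, hyJ, hy⟩ := Groth.Agent.Helper6.Davis.exists_add_notMem (I ^ 2) x₀ _ hprime hJ
  have hyI : y ∈ I := Ideal.pow_le_self two_ne_zero hyJ
  have hxI : x₀ + y ∈ I := I.add_mem hx₀ hyI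
  refine ⟨x₀ + y, hxI, ?_, hspan _ hxI ?_⟩
  · by_contra hnz
    have h6 : x₀ + y ∈ ⋃ p ∈ associatedPrimes R R, (p : Set R) := by
      rw [biUnion_associatedPrimes_eq_compl_nonZeroDivisors]
      exact hnz
    simp only [Set.mem_iUnion] at h6
    obtain ⟨P, hP, hmem⟩ := h6
    exact hy P ((Set.Finite.mem_toFinset _).mpr hP) hmem
  · rw [Ideal.toCotangent_eq]
    simpa using hyJ

end Groth.Agent.S2187
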