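import Groth.Statements.S2203
import Mathlib
import Groth.Agent.Helper2.MoritaCenter
open Groth.Agent.Helper2.MoritaCenter
-- import your own Groth.Agent.* helpers here

set_option autoImplicit false
universe u
open CategoryTheory
open QCohCat

namespace Groth.Agent.S2203

/-- Ring-isomorphism part of the statement: let A and B be commutative rings whose categories of modules
are equivalent. Then A and B are isomorphic as rings. (The source moreover describes the equivalence
as base change followed by tensoring with an invertible module.) -/
theorem result (A B : Type u) [CommRing A] [CommRing B]
    (F : ModuleCat.{u} A ≌ ModuleCat.{u} B) : Nonempty (A ≃+* B) := by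
  haveI : F.functor.Additive := Functor.additive_of_preserves_binary_products F.functor
  haveI : F.functor.IsLocalization (MorphismProperty.isomorphisms (ModuleCat.{u} A)) :=
    Functor.IsLocalization.of_isEquivalence _ _ le_rfl
  let eA := RingEquiv.ofBijective _ (toCatCenter_bijective A)
  let eB := RingEquiv.ofBijective _ (toCatCenter_bijective B)
  let eT := RingEquiv.ofBijective _ (localization_bijective F)
  exact ⟨(eA.trans eT).trans eB.symm⟩

end Groth.Agent.S2203
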