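import Groth.Statements.S2211
import Mathlib

set_option autoImplicit false
universe u
open DPow

namespace Groth.Agent.S2211

/-- First part: let p be a prime and A a ring in which every integer prime to p is invertible, I an
ideal of A. Two divided power structures on I coincide exactly when their p-th divided power maps
agree on I. -/
theorem result {A : Type u} [CommRing A] (p : ℕ) (hp : p.Prime)
    (hA : ∀ n : ℕ, ¬ p ∣ n → IsUnit (n : A)) {I : Ideal A} (γ γ' : DividedPowers I) :
    γ = γ' ↔ ∀ x ∈ I, γ.dpow p x = γ'.dpow p x := by
  haveI : Fact p.Prime := ⟨hp⟩
  constructor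
  · intro h x _
    rw [h]
  · intro h
    apply DividedPowers.ext
    intro n
    induction n using Nat.strong_induction_on with
    | _ n ih =>
    intro x hx
    -- helper: cancel units
    have cancel : ∀ (k : ℕ) (a b : A), ¬ p ∣ k → (k : A) * a = (k : A) * b → a = b := by
      intro k a b hk hab
      exact (hA k hk).mul_left_cancel hab
    obtain ⟨q, b, hb, rfl⟩ : ∃ q b, b < p ∧ n = q * p + b :=
      ⟨n / p, n % p, Nat.mod_lt _ hp.pos, (Nat.div_add_mod' n p).symm⟩
    rcases Nat.eq_zero_or_pos q with hq | hq
    · subst hq
      simp only [zero_mul, zero_add] at ih ⊢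
      apply cancel (b.factorial)
      · rw [hp.dvd_factorial]; omega
      · rw [γ.factorial_mul_dpow_eq_pow hx, γ'.factorial_mul_dpow_eq_pow hx]
    · rcases Nat.eq_zero_or_pos b with hb0 | hb0
      · subst hb0
        simp only [add_zero] at ih ⊢
        rcases Nat.lt_or_ge q 2 with hq2 | hq2
        · have : q = 1 := by omega
          subst this
          rw [one_mul]
          exact h x hx
        · have hub : ¬ p ∣ Nat.uniformBell q p := by
            rw [Nat.uniformBell_eq]
            have hmod : (∏ i ∈ Finset.range q, Nat.choose (i * p + p - 1) (p - 1)) ≡ 1 [MOD p] := by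
              have : (∏ i ∈ Finset.range q, Nat.choose (i * p + p - 1) (p - 1)) ≡
                  ∏ i ∈ Finset.range q, 1 [MOD p] := by
                apply Nat.ModEq.prod
                intro i _
                have hl := Choose.choose_modEq_choose_mod_mul_choose_div_nat (p := p)
                  (n := i * p + p - 1) (k := p - 1)
                have e1 : (i * p + p - 1) % p = p - 1 := by
                  have : i * p + p - 1 = (p - 1) + p * i := by
                    have := hp.pos
                    rw [Nat.add_sub_assoc (by omega)]; ring
                  rw [this, Nat.add_mul_mod_self_left, Nat.mod_eq_of_lt (by have := hp.pos; omega)]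
                have e2 : (i * p + p - 1) / p = i := by
                  have : i * p + p - 1 = (p - 1) + p * i := by
                    have := hp.pos
                    rw [Nat.add_sub_assoc (by omega)]; ring
                  rw [this, Nat.add_mul_div_left _ _ hp.pos,
                    Nat.div_eq_of_lt (by have := hp.pos; omega), zero_add]
                have e3 : (p - 1) % p = p - 1 := Nat.mod_eq_of_lt (by have := hp.pos; omega)
                have e4 : (p - 1) / p = 0 := Nat.div_eq_of_lt (by have := hp.pos; omega)
                rw [e1, e2, e3, e4] at hl
                simpa using hl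
              simpa using this
            intro hdvd
            have h0 : (∏ i ∈ Finset.range q, Nat.choose (i * p + p - 1) (p - 1)) ≡ 0 [MOD p] :=
              (Nat.modEq_zero_iff_dvd).2 hdvd
            have h10 : 1 ≡ 0 [MOD p] := hmod.symm.trans h0
            have : p ∣ 1 := (Nat.modEq_zero_iff_dvd).1 h10
            exact hp.one_lt.ne' (Nat.dvd_one.1 this)
          apply cancel _ _ _ hub
          rw [← γ.dpow_comp hp.ne_zero hx, ← γ'.dpow_comp hp.ne_zero hx, ← h x hx]
          have hlt : q < q * p := by
            have := hp.two_le
            nlinarith
          exact ih q hlt (γ.dpow_mem hp.ne_zero hx)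
      · -- b ≠ 0
        have hch : ¬ p ∣ Nat.choose (q * p + b) (q * p) := by
          have hl := Choose.choose_modEq_choose_mod_mul_choose_div_nat (p := p)
            (n := q * p + b) (k := q * p)
          have e1 : (q * p + b) % p = b := by
            rw [add_comm, mul_comm, Nat.add_mul_mod_self_left, Nat.mod_eq_of_lt hb]
          have e2 : (q * p + b) / p = q := by
            rw [add_comm, mul_comm, Nat.add_mul_div_left _ _ hp.pos, Nat.div_eq_of_lt hb, zero_add]
          have e3 : (q * p) % p = 0 := Nat.mul_mod_left q p
          have e4 : (q * p) / p = q := Nat.mul_div_cancel q hp.pos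
          rw [e1, e2, e3, e4] at hl
          simp only [Nat.choose_zero_right, Nat.choose_self, mul_one] at hl
          intro hdvd
          have h0 : Nat.choose (q * p + b) (q * p) ≡ 0 [MOD p] := (Nat.modEq_zero_iff_dvd).2 hdvd
          have h10 : 1 ≡ 0 [MOD p] := hl.symm.trans h0
          have : p ∣ 1 := (Nat.modEq_zero_iff_dvd).1 h10
          exact hp.one_lt.ne' (Nat.dvd_one.1 this)
        apply cancel _ _ _ hch
        rw [← γ.mul_dpow hx, ← γ'.mul_dpow hx]
        have h1 : q * p < q * p + b := by omega
        have h2 : b < q * p + b := by
          have := hp.pos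
          have : 0 < q * p := Nat.mul_pos hq hp.pos
          omega
        rw [ih (q * p) h1 hx, ih b h2 hx]

end Groth.Agent.S2211
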