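import Groth.Statements.S2213
import Groth.Agent.Helper7.DivPwH

set_option autoImplicit false
universe u
open DPow

namespace Groth.Agent.S2213

/-- Let (A, I) be a ring with divided powers and t a natural number. There is a divided power ring (D,
J) with an A-algebra structure making A -> D a divided power homomorphism and elements x_1, ..., x_t
of J, such that for every divided power ring (C, K) with a divided power homomorphism A -> C and
every choice of k_1, ..., k_t in K there is exactly one divided power homomorphism D -> C over A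
sending x_i to k_i (the divided power polynomial algebra). -/
theorem result {A : Type u} [CommRing A] {I : Ideal A} (γ : DividedPowers I) (t : ℕ) :
    ∃ (D : Type u) (_ : CommRing D) (_ : Algebra A D) (J : Ideal D) (δ : DividedPowers J)
      (x : Fin t → D), (∀ i, x i ∈ J) ∧ γ.IsDPMorphism δ (algebraMap A D) ∧
      ∀ (C : Type u) [CommRing C] [Algebra A C] (K : Ideal C) (ε : DividedPowers K),
        γ.IsDPMorphism ε (algebraMap A C) → ∀ k : Fin t → C, (∀ i, k i ∈ K) →
          ∃! φ : D →ₐ[A] C, (∀ i, φ (x i) = k i) ∧ δ.IsDPMorphism ε φ.toRingHom := by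
  obtain ⟨D, iD, iAD, pr, δplus, δ, hδplus, hδ1, hδ2⟩ :=
    Groth.Agent.Helper7.DivPw.exists_dpPolynomial γ (Fin t)
  refine ⟨D, iD, iAD, _, δ, fun i => pr.x i 1,
    fun i => Ideal.mem_sup_right (pr.x_mem_augIdeal i le_rfl), hδ1, ?_⟩
  intro C _ _ K ε hε k hk
  exact Groth.Agent.Helper7.DivPw.Pres.universal γ pr δplus hδplus δ hδ1 hδ2 K ε hε k hk

end Groth.Agent.S2213
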