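import Groth.Statements.S8869
import Mathlib
import Groth.Agent.Lead.WeakAss

set_option autoImplicit false
universe u
open CategoryTheory CategoryTheory.Limits AlgebraicGeometry TopologicalSpace
open SDiv

namespace Groth.Agent.S8869

/-- a point has no proper generization iff its local ring has a single prime -/
theorem forall_generization_iff {X : Scheme.{u}} (x : X) :
    (∀ y : X, y ⤳ x → y = x) ↔
      ∀ q : PrimeSpectrum (X.presheaf.stalk x), q = IsLocalRing.closedPoint (X.presheaf.stalk x) := by
  constructor
  · intro h q
    have h1 : X.fromSpecStalk x q ∈ Set.range (X.fromSpecStalk x) := ⟨q, rfl⟩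
    rw [Scheme.range_fromSpecStalk] at h1
    have h2 := h _ h1
    have hinj : Function.Injective (X.fromSpecStalk x) := (X.fromSpecStalk x).isEmbedding.injective
    apply hinj
    rw [h2, Scheme.fromSpecStalk_closedPoint]
  · intro h y hy
    have h1 : y ∈ Set.range (X.fromSpecStalk x) := by
      rw [Scheme.range_fromSpecStalk]; exact hy
    obtain ⟨q, rfl⟩ := h1
    rw [h q, Scheme.fromSpecStalk_closedPoint]

/-- Assume X is a reduced scheme and x is a point of X. Then x is weakly associated to the structure
sheaf O_X exactly when every generization of x equals x itself; equivalently, x is a generic point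
of some irreducible component of X. -/
theorem result (X : Scheme.{u}) [IsReduced X] (x : ↥X) :
    Curv2.IsWeakAssPoint (Coh.structureModule X) x ↔ ∀ y : ↥X, y ⤳ x → y = x := by
  rw [Groth.Agent.Lead.WeakAss.isWeakAssPoint_iff, forall_generization_iff]
  set R := X.presheaf.stalk x with hR
  constructor
  · rintro ⟨m, hm⟩ q
    have hm0 : m ≠ 0 := by
      rintro rfl
      have : LinearMap.ker (LinearMap.toSpanSingleton R R 0) = ⊤ := by
        ext a; simp
      rw [this, Ideal.radical_top] at hm
      exact (IsLocalRing.maximalIdeal.isMaximal R).ne_top hm.symm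
    -- m avoids some minimal prime
    have hnil : m ∉ nilradical R := by
      rw [nilradical_eq_zero]; exact hm0
    rw [nilradical, ← Ideal.sInf_minimalPrimes] at hnil
    rw [Ideal.mem_sInf] at hnil
    push Not at hnil
    obtain ⟨p, hp, hmp⟩ := hnil
    have hpp : p.IsPrime := hp.1.1
    have hle : IsLocalRing.maximalIdeal R ≤ p := by
      rw [← hm, hpp.radical_le_iff]
      intro a ha
      rw [LinearMap.mem_ker, LinearMap.toSpanSingleton_apply, smul_eq_mul] at ha
      have : a * m ∈ p := by rw [ha]; exact p.zero_mem
      exact (hpp.mem_or_mem this).resolve_right hmp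
    have hpmax : p = IsLocalRing.maximalIdeal R :=
      le_antisymm (IsLocalRing.le_maximalIdeal hpp.ne_top) hle
    -- q ≥ some minimal prime... use minimality of p
    have hq : q.asIdeal ≤ IsLocalRing.maximalIdeal R := IsLocalRing.le_maximalIdeal q.2.ne_top
    have hq2 : p ≤ q.asIdeal := hp.2 ⟨q.2, bot_le⟩ (hpmax ▸ hq)
    apply PrimeSpectrum.ext
    change q.asIdeal = IsLocalRing.maximalIdeal R
    exact le_antisymm hq (hpmax ▸ hq2)
  · intro h
    have hmax : IsLocalRing.maximalIdeal R = ⊥ := by
      have h1 : nilradical R = IsLocalRing.maximalIdeal R := by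
        rw [nilradical_eq_sInf]
        apply le_antisymm
        · exact sInf_le (IsLocalRing.maximalIdeal.isMaximal R).isPrime
        · apply le_sInf
          intro J hJ
          have := h ⟨J, hJ⟩
          have h2 : J = IsLocalRing.maximalIdeal R := congrArg PrimeSpectrum.asIdeal this
          rw [h2]
      rw [← h1, nilradical_eq_zero]; rfl
    refine ⟨1, ?_⟩
    have : LinearMap.ker (LinearMap.toSpanSingleton R R 1) = ⊥ := by
      ext a; simp
    rw [this, hmax]
    exact (Ideal.radical_eq_iff.mpr (by rw [← hmax]; exact (IsLocalRing.maximalIdeal.isMaximal R).isPrime.isRadical))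

end Groth.Agent.S8869
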