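import Groth.Statements.S8862
import Mathlib
import Groth.Agent.Helper9.IdealComap
import Groth.Agent.S1571

set_option autoImplicit false
universe u
open CategoryTheory CategoryTheory.Limits AlgebraicGeometry TopologicalSpace
open SDiv

namespace Groth.Agent.S8862

theorem exists_generic_specializes {T : Type*} [TopologicalSpace T] [QuasiSober T] [T0Space T] (y : T) :
    ∃ ξ : T, ξ ⤳ y ∧ ∀ y' : T, y' ⤳ ξ → y' = ξ := by
  have hirr : IsIrreducible (irreducibleComponent y) := isIrreducible_irreducibleComponent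
  have hcl : IsClosed (irreducibleComponent y) := isClosed_irreducibleComponent
  have hgen : IsGenericPoint hirr.genericPoint (irreducibleComponent y) := hirr.isGenericPoint_genericPoint hcl
  refine ⟨hirr.genericPoint, ?_, ?_⟩
  · rw [specializes_iff_mem_closure, hgen.def]
    exact mem_irreducibleComponent
  · intro y' hy'
    have h1 : irreducibleComponent y ⊆ closure {y'} := by
      rw [← hgen.def]
      exact hy'.closure_subset
    have h2 : closure {y'} = irreducibleComponent y := by
      have hirr' : IsIrreducible (closure ({y'} : Set T)) := isIrreducible_singleton.closure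
      exact eq_irreducibleComponent hirr'.2 h1
    have h3 : IsGenericPoint y' (irreducibleComponent y) := h2
    exact h3.eq hgen

/-- Let f : X ⟶ Y be a morphism of schemes with X reduced and 𝓘 the ideal sheaf of an effective Cartier
divisor D ⊆ Y. If f ξ ∉ D for every generic point ξ of an irreducible component of X (every point of
X with no proper generization), then the inverse image ideal sheaf of 𝓘 on X is the ideal of an
effective Cartier divisor. -/
theorem result {X Y : Scheme.{u}} [IsReduced X] (f : X ⟶ Y) (𝓘 : Y.IdealSheafData)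
    (hD : BlowUp.IsEffCartierIdeal 𝓘)
    (h : ∀ ξ : ↥X, (∀ y : ↥X, y ⤳ ξ → y = ξ) → f ξ ∉ 𝓘.support) :
    BlowUp.IsEffCartierIdeal (𝓘.comap f) := by
  intro x
  obtain ⟨W', hxW', t, ht, eE⟩ := hD (f x)
  obtain ⟨_, ⟨V, hV, rfl⟩, hxV, hVW⟩ := X.isBasis_affineOpens.exists_subset_of_mem_open
    (show x ∈ f ⁻¹ᵁ W'.1 from hxW') (f ⁻¹ᵁ W'.1).2
  have hg : (𝓘.comap f).ideal ⟨V, hV⟩ = Ideal.span {(f.appLE W'.1 V hVW).hom t} := by
    rw [Groth.Agent.Helper9.IdealComap.ideal_comap f 𝓘 W' ⟨V, hV⟩ hVW, eE, Ideal.map_span, Set.image_singleton]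
  refine ⟨⟨V, hV⟩, hxV, (f.appLE W'.1 V hVW).hom t, ?_, hg⟩
  set g := (f.appLE W'.1 V hVW).hom t with hgdef
  rw [mem_nonZeroDivisors_iff_right]
  intro z hz
  by_contra hne
  have hne' : X.basicOpen z ≠ ⊥ := by
    rw [Ne, AlgebraicGeometry.basicOpen_eq_bot_iff]; exact hne
  obtain ⟨y, hy⟩ : ∃ y, y ∈ X.basicOpen z := by
    by_contra hcon
    push Not at hcon
    apply hne'
    ext y
    simp only [SetLike.mem_coe]
    constructor
    · intro hy; exact (hcon y hy).elim
    · intro hy; exact hy.elim
  obtain ⟨ξ, hξy, hξ⟩ := exists_generic_specializes y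
  have hξz : ξ ∈ X.basicOpen z := hξy.mem_open (X.basicOpen z).2 hy
  have hξV : ξ ∈ V := X.basicOpen_le z hξz
  have hξg : ξ ∈ X.basicOpen g := by
    rw [← Groth.Agent.S1571.compl_inf_eq_basicOpen (𝓘.comap f) ⟨V, hV⟩ g hg]
    refine ⟨?_, hξV⟩
    change ξ ∉ (𝓘.comap f).support
    rw [Scheme.IdealSheafData.support_comap]
    exact h ξ hξ
  have : ξ ∈ X.basicOpen (z * g) := by
    rw [Scheme.basicOpen_mul]; exact ⟨hξz, hξg⟩
  rw [hz, Scheme.basicOpen_zero] at this
  exact this

end Groth.Agent.S8862
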