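import Groth.Statements.S4650
import Mathlib

set_option autoImplicit false
open CategoryTheory AlgebraicGeometry
universe u
open FDesc

namespace Groth.Agent.S4650

/-- topological form -/
theorem closure_image_mem_irreducibleComponents {A B : Type*} [TopologicalSpace A]
    [TopologicalSpace B] [QuasiSober A] [QuasiSober B] (f : A → B) (hc : Continuous f)
    (hf : GeneralizingMap f) (T : Set A) (hT : T ∈ irreducibleComponents A) :
    ∃ ξ : A, IsGenericPoint ξ T ∧ closure (f '' T) = closure {f ξ} ∧
      closure (f '' T) ∈ irreducibleComponents B := by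
  have hTirr : IsIrreducible T := hT.1
  have hTcl : IsClosed T := isClosed_of_mem_irreducibleComponents T hT
  obtain ⟨ξ, hξ⟩ := QuasiSober.sober hTirr hTcl
  have hξT : ξ ∈ T := hξ.mem
  have hC : closure (f '' T) = closure {f ξ} := by
    apply subset_antisymm
    · apply closure_minimal _ isClosed_closure
      rw [← hξ.def]
      exact image_closure_subset_closure_image hc |>.trans (by rw [Set.image_singleton])
    · exact closure_mono (Set.singleton_subset_iff.mpr ⟨ξ, hξT, rfl⟩)
  refine ⟨ξ, hξ, hC, ?_⟩
  rw [hC]
  refine ⟨isIrreducible_singleton.closure, ?_⟩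
  intro D hD hCD
  have hDc : IsIrreducible (closure D) := hD.closure
  obtain ⟨η', hη'⟩ := QuasiSober.sober hDc isClosed_closure
  have hspec : η' ⤳ f ξ := by
    rw [specializes_iff_mem_closure, hη'.def]
    exact subset_closure (hCD (subset_closure rfl))
  obtain ⟨ξ', hξ'ξ, hfξ'⟩ := hf hspec
  have hsub : T ⊆ closure {ξ'} := by
    rw [← hξ.def]
    exact closure_minimal (Set.singleton_subset_iff.mpr (specializes_iff_mem_closure.mp hξ'ξ))
      isClosed_closure
  have heq : closure {ξ'} ⊆ T := hT.2 isIrreducible_singleton.closure hsub
  have hξ'T : ξ' ∈ T := heq (subset_closure rfl)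
  have hη'C : η' ∈ closure {f ξ} := by
    rw [← hC, ← hfξ']
    exact subset_closure ⟨ξ', hξ'T, rfl⟩
  calc D ⊆ closure D := subset_closure
    _ = closure {η'} := hη'.def.symm
    _ ⊆ closure {f ξ} := closure_minimal (Set.singleton_subset_iff.mpr hη'C) isClosed_closure

/-- Let f : X → Y be a morphism of schemes along which generizations lift (this holds for flat,
quasi-flat or open morphisms). Then every irreducible component of X dominates an irreducible
component of Y: the closure of its image is an irreducible component of Y. -/
theorem result {X Y : Scheme.{u}} (f : X ⟶ Y)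
    (hf : GeneralizingMap ⇑f) (T : Set ↥X) (hT : T ∈ irreducibleComponents ↥X) :
    closure (⇑f '' T) ∈ irreducibleComponents ↥Y := by
  obtain ⟨ξ, -, -, h⟩ := closure_image_mem_irreducibleComponents f f.continuous hf T hT
  exact h

end Groth.Agent.S4650
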