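import Groth.Statements.S4367
import Mathlib

set_option autoImplicit false
universe u
open RedSep

namespace Groth.Agent.S4367

open AlgebraicGeometry in
open CategoryTheory in
/-- Let X be a reduced scheme, f : X -> Y a morphism and j : Z -> Y a closed immersion (a closed
subscheme of Y) such that the image of f is contained, as a set, in the image of j. Then f factors
as a morphism X -> Z followed by j. -/
theorem result
    {X Y Z : Scheme.{u}} [IsReduced X] (f : X ⟶ Y) (j : Z ⟶ Y) [IsClosedImmersion j]
    (h : Set.range f ⊆ Set.range j) :
    ∃ g : X ⟶ Z, g ≫ j = f := by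
  have hker : f.ker = Scheme.IdealSheafData.vanishingIdeal
      (.closure (f '' (⊤ : TopologicalSpace.Closeds X))) := by
    rw [← Scheme.IdealSheafData.map_vanishingIdeal, Scheme.IdealSheafData.vanishingIdeal_top,
      Scheme.nilradical_eq_bot, Scheme.IdealSheafData.map_bot]
  have hle : j.ker ≤ f.ker := by
    rw [hker, ← Scheme.IdealSheafData.le_support_iff_le_vanishingIdeal]
    intro y hy
    have hy' : y ∈ closure (f '' (Set.univ : Set X)) := hy
    rw [Set.image_univ] at hy'
    have hcl : IsClosed (Set.range j) := j.isClosedEmbedding.isClosed_range
    have h2 : y ∈ Set.range j := (closure_minimal h hcl) hy'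
    exact j.range_subset_ker_support h2
  exact ⟨IsClosedImmersion.lift j f hle, IsClosedImmersion.lift_fac j f hle⟩

end Groth.Agent.S4367
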