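import Groth.Statements.S2327
import Groth.Agent.Helper4.TensorAssoc
import Mathlib

set_option autoImplicit false
universe u
open CategoryTheory CategoryTheory.Limits AlgebraicGeometry
open EGA2

namespace Groth.Agent.S2327


/-- Let X be a quasi-compact separated scheme, L an invertible module and n > 0. Then L is ample if and
only if L^{⊗n} is ample. -/
theorem result (X : Scheme.{u}) [CompactSpace X] [X.IsSeparated] (L : X.Modules) (hL : PicF.IsInvertible L) (n : ℕ) (hn : 0 < n) :
    CohB1.IsAmple L ↔ CohB1.IsAmple (CohB1.tensorPow L n) := by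

  exact ⟨Groth.Agent.Helper4.TensorAssoc.isAmple_tensorPow hL n hn,
    Groth.Agent.Helper4.TensorAssoc.isAmple_of_tensorPow hL n hn⟩

end Groth.Agent.S2327
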