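import Groth.Statements.S2341
import Mathlib
import Groth.Agent.Lead.QAff5

set_option autoImplicit false
universe u
open CategoryTheory CategoryTheory.Limits AlgebraicGeometry
open EGA2

namespace Groth.Agent.S2341

/-- A quasi-compact morphism X → Y whose underlying map is a homeomorphism onto its image (for instance
a closed immersion) is quasi-affine. -/
theorem result {X Y : Scheme.{u}} (f : X ⟶ Y) [QuasiCompact f]
    (hf : Topology.IsEmbedding f.base) : Mor2.IsQuasiAffine f := by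
  refine ⟨inferInstance, fun V hV => ?_⟩
  have hUc : IsCompact ((f ⁻¹ᵁ V : X.Opens) : Set X) :=
    QuasiCompact.isCompact_preimage (f := f) _ V.2 hV.isCompact
  refine Groth.Agent.Lead.QAff.opens_isQuasiAffine_of_forall_exists (f ⁻¹ᵁ V) hUc fun x hx ↦ ?_
  obtain ⟨_, ⟨W, hW, rfl⟩, hxW, hWU⟩ := (X.isBasis_affineOpens).exists_subset_of_mem_open
    hx (f ⁻¹ᵁ V).2
  obtain ⟨O, hO, hOW⟩ := hf.isInducing.isOpen_iff.mp W.2
  have hfx : f x ∈ V ⊓ ⟨O, hO⟩ := by
    refine ⟨hx, ?_⟩
    have : x ∈ f.base ⁻¹' O := by rw [hOW]; exact hxW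
    exact this
  obtain ⟨s, hsle, hxs⟩ := hV.exists_basicOpen_le (V := V ⊓ ⟨O, hO⟩) ⟨f x, hfx⟩ hx
  set r : Γ(X, f ⁻¹ᵁ V) := f.app V s with hr
  have hbo : X.basicOpen r = f ⁻¹ᵁ (Y.basicOpen s) := by
    rw [hr, Scheme.preimage_basicOpen]
  have hle : X.basicOpen r ≤ W := by
    rw [hbo]
    intro y hy
    have h1 : f y ∈ O := (hsle hy).2
    have : y ∈ f.base ⁻¹' O := h1
    rw [hOW] at this
    exact this
  have haff : IsAffineOpen (X.basicOpen r) := by
    have h1 := hW.basicOpen (X.presheaf.map (homOfLE hWU).op r)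
    rw [Scheme.basicOpen_res, inf_eq_right.mpr hle] at h1
    exact h1
  refine ⟨r, ?_, ?_⟩
  · rw [hbo]; exact hxs
  · have : IsAffine (X.basicOpen r : Scheme.{u}) := haff
    infer_instance

end Groth.Agent.S2341
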