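import Groth.Statements.S4439
import Groth.Agent.Lead.LocalAllied

set_option autoImplicit false
universe u
open CategoryTheory CategoryTheory.Limits AlgebraicGeometry
open EGA2

namespace Groth.Agent.S4439

theorem alg (A : Type u) [CommRing A] [IsDomain A] [ValuationRing A] (K : Type u) [Field K]
    [Algebra A K] [IsFractionRing A K]
    (R : Type u) [CommRing R] (φ : R →+* K) (ψ : A →+* R) (hφψ : φ.comp ψ = algebraMap A K)
    (p : Ideal R) [hp' : p.IsPrime] (h1 : RingHom.ker φ ≤ p)
    (h2 : IsLocalRing.maximalIdeal A ≤ p.comap ψ) (r : R) :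
    φ r ∈ (algebraMap A K).range := by
  rcases ValuationRing.isInteger_or_isInteger A (φ r) with ⟨a, ha⟩ | ⟨a, ha⟩
  · exact ⟨a, ha⟩
  · by_cases h0 : φ r = 0
    · exact ⟨0, by simp [h0]⟩
    by_cases hu : IsUnit a
    · obtain ⟨u, rfl⟩ := hu
      refine ⟨↑u⁻¹, ?_⟩
      have h3 : algebraMap A K (↑u⁻¹ : A) * algebraMap A K (u : A) = 1 := by
        rw [← map_mul]; simp
      rw [ha] at h3
      have := eq_inv_of_mul_eq_one_left h3
      rw [this, inv_inv]
    · have hm : a ∈ IsLocalRing.maximalIdeal A := (IsLocalRing.mem_maximalIdeal a).mpr hu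
      have hp : ψ a ∈ p := h2 hm
      have hk : r * ψ a - 1 ∈ RingHom.ker φ := by
        rw [RingHom.mem_ker, map_sub, map_mul, map_one]
        have : φ (ψ a) = algebraMap A K a := by rw [← hφψ]; rfl
        rw [this, ha, mul_inv_cancel₀ h0, sub_self]
      have h1' : (1 : R) ∈ p := by
        have := p.sub_mem (p.mul_mem_left r hp) (h1 hk)
        simpa using this
      exact absurd h1' (Ideal.IsPrime.one_notMem hp')

theorem aux (A : Type u) [CommRing A] [IsDomain A]
    [ValuationRing A] (K : Type u) [Field K] [Algebra A K] [IsFractionRing A K] (X : Scheme.{u})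
    (f : X ⟶ Spec (CommRingCat.of A)) [IsSeparated f] (hf : IsClosedMap f.base)
    (x : Spec (CommRingCat.of K) ⟶ X) (hx : x ≫ f = Spec.map (CommRingCat.ofHom (algebraMap A K))) :
    ∃! s : Spec (CommRingCat.of A) ⟶ X, s ≫ f = 𝟙 _ ∧ Spec.map (CommRingCat.ofHom (algebraMap A K)) ≫ s = x := by
  have hinj : Function.Injective (algebraMap A K) := IsFractionRing.injective A K
  have huniq : ∀ s s' : Spec (CommRingCat.of A) ⟶ X, s ≫ f = 𝟙 _ → s' ≫ f = 𝟙 _ →
      Spec.map (CommRingCat.ofHom (algebraMap A K)) ≫ s = x →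
      Spec.map (CommRingCat.ofHom (algebraMap A K)) ≫ s' = x → s = s' := by
    intro s s' h1 h1' h2 h2'
    haveI : IsDominant (Spec.map (CommRingCat.ofHom (algebraMap A K))) :=
      Groth.Agent.Lead.LocalAllied.isDominant_SpecMap_of_injective _ hinj
    exact ext_of_isDominant_of_isSeparated f (h1.trans h1'.symm) _ (h2.trans h2'.symm)
  -- existence
  let p₀ : Spec (CommRingCat.of K) := default
  let ξ : X := x p₀
  have hp₀ : p₀.asIdeal = ⊥ := by
    rcases Ideal.eq_bot_or_top p₀.asIdeal with h | h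
    · exact h
    · exact absurd h p₀.isPrime.ne_top
  have hcl : IsClosed (f.base '' closure {ξ}) := hf _ isClosed_closure
  have hgen : f ξ = (⊥ : PrimeSpectrum A) := by
    have : f ξ = (x ≫ f) p₀ := by simp [ξ]
    rw [this, hx]
    change PrimeSpectrum.comap (algebraMap A K) p₀ = ⊥
    ext a
    simp only [PrimeSpectrum.comap_asIdeal, Ideal.mem_comap, PrimeSpectrum.asIdeal_bot, Ideal.mem_bot]
    rw [hp₀, Ideal.mem_bot]
    exact map_eq_zero_iff _ hinj
  have hall : f.base '' closure {ξ} = Set.univ := by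
    have h1 : (⊥ : PrimeSpectrum A) ∈ f.base '' closure {ξ} := ⟨ξ, subset_closure rfl, hgen⟩
    have h2 : closure {(⊥ : PrimeSpectrum A)} ⊆ f.base '' closure {ξ} :=
      hcl.closure_subset_iff.mpr (Set.singleton_subset_iff.mpr h1)
    rw [PrimeSpectrum.closure_singleton, PrimeSpectrum.asIdeal_bot] at h2
    have h3 : PrimeSpectrum.zeroLocus ((⊥ : Ideal A) : Set A) = Set.univ := by
      simp
    rw [h3] at h2
    exact Set.eq_univ_of_univ_subset h2
  obtain ⟨z, hzcl, hzf⟩ : (IsLocalRing.closedPoint A) ∈ f.base '' closure {ξ} := by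
    rw [hall]; trivial
  have hz : ξ ⤳ z := specializes_iff_mem_closure.mpr hzcl
  obtain ⟨U, hU, hzU, -⟩ := exists_isAffineOpen_mem_and_subset (x := z) (U := ⊤) trivial
  have hξU : ξ ∈ U := hz.mem_open U.isOpen hzU
  have hrange : Set.range x.base ⊆ Set.range hU.fromSpec.base := by
    rw [hU.range_fromSpec]
    rintro _ ⟨p, rfl⟩
    have : p = p₀ := Subsingleton.elim _ _
    rw [this]; exact hξU
  let x' := IsOpenImmersion.lift hU.fromSpec x hrange
  have hx' : x' ≫ hU.fromSpec = x := IsOpenImmersion.lift_fac _ _ _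
  let φ' : Γ(X, U) ⟶ CommRingCat.of K := Spec.preimage x'
  have hφ' : Spec.map φ' = x' := Spec.map_preimage _
  let ψ' : CommRingCat.of A ⟶ Γ(X, U) := Spec.preimage (hU.fromSpec ≫ f)
  have hψ' : Spec.map ψ' = hU.fromSpec ≫ f := Spec.map_preimage _
  have hφψ : ψ' ≫ φ' = CommRingCat.ofHom (algebraMap A K) := by
    apply Spec.map_injective
    rw [Spec.map_comp, hφ', hψ', ← Category.assoc, hx', hx]
  have hφψ' : φ'.hom.comp ψ'.hom = algebraMap A K := by
    have := congrArg CommRingCat.Hom.hom hφψ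
    simpa using this
  let pz := hU.primeIdealOf ⟨z, hzU⟩
  have hpz : hU.fromSpec pz = z := hU.fromSpec_primeIdealOf ⟨z, hzU⟩
  have h1 : RingHom.ker φ'.hom ≤ pz.asIdeal := by
    have hq : hU.fromSpec (x' p₀) = ξ := by
      rw [← Scheme.Hom.comp_apply, hx']
    have hsp : hU.fromSpec (x' p₀) ⤳ hU.fromSpec pz := by
      rw [hq, hpz]; exact hz
    have hsp' : x' p₀ ⤳ pz :=
      (hU.fromSpec.isOpenEmbedding.toIsInducing.specializes_iff).mp hsp
    have hle := (PrimeSpectrum.le_iff_specializes _ _).mpr hsp'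
    intro r hr
    apply hle
    rw [← hφ']
    change r ∈ (PrimeSpectrum.comap φ'.hom p₀).asIdeal
    rw [PrimeSpectrum.comap_asIdeal, Ideal.mem_comap, hp₀, Ideal.mem_bot]
    exact hr
  have h2 : IsLocalRing.maximalIdeal A ≤ pz.asIdeal.comap ψ'.hom := by
    have : (Spec.map ψ') pz = IsLocalRing.closedPoint A := by
      rw [hψ', Scheme.Hom.comp_apply, hpz]; exact hzf
    have h3 := congrArg PrimeSpectrum.asIdeal this
    change (PrimeSpectrum.comap ψ'.hom pz).asIdeal = _ at h3
    rw [PrimeSpectrum.comap_asIdeal] at h3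
    rw [h3]
    exact le_rfl
  have hmem : ∀ r, φ'.hom r ∈ (algebraMap A K).range :=
    fun r => alg A K Γ(X, U) φ'.hom ψ'.hom hφψ' pz.asIdeal h1 h2 r
  let g : K → A := Function.invFun (algebraMap A K)
  have hg : Function.LeftInverse g (algebraMap A K) := Function.leftInverse_invFun hinj
  let e : A ≃+* (algebraMap A K).range := RingEquiv.ofLeftInverse hg
  let σ : Γ(X, U) →+* A :=
    e.symm.toRingHom.comp (φ'.hom.codRestrict (algebraMap A K).range hmem)
  have hσ : ∀ r, algebraMap A K (σ r) = φ'.hom r := by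
    intro r
    obtain ⟨a, ha⟩ := hmem r
    have : σ r = g (φ'.hom r) := rfl
    rw [this, ← ha, hg a]
  have hσψ : ψ' ≫ CommRingCat.ofHom σ = 𝟙 _ := by
    ext a
    apply hinj
    change algebraMap A K (σ (ψ'.hom a)) = algebraMap A K a
    rw [hσ, ← hφψ']
    rfl
  have hσφ : CommRingCat.ofHom σ ≫ CommRingCat.ofHom (algebraMap A K) = φ' := by
    ext r
    exact hσ r
  refine ⟨Spec.map (CommRingCat.ofHom σ) ≫ hU.fromSpec, ⟨?_, ?_⟩, ?_⟩
  · rw [Category.assoc, ← hψ', ← Spec.map_comp, hσψ, Spec.map_id]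
  · rw [← Category.assoc, ← Spec.map_comp, hσφ, hφ', hx']
  · rintro s' ⟨hs1, hs2⟩
    refine huniq _ _ hs1 ?_ hs2 ?_
    · rw [Category.assoc, ← hψ', ← Spec.map_comp, hσψ, Spec.map_id]
    · rw [← Category.assoc, ← Spec.map_comp, hσφ, hφ', hx']

/-- Let A be a valuation ring with field of fractions K and f : X ⟶ Spec A a separated morphism whose
underlying map is closed. Then restriction to the generic point is a bijection from sections of f to
K-rational points of the generic fibre: every morphism Spec K ⟶ X over Spec A extends to exactly one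
section of f. -/
theorem result (A : Type u) [CommRing A] [IsDomain A]
    [ValuationRing A] (K : Type u) [Field K] [Algebra A K] [IsFractionRing A K] (X : Scheme.{u})
    (f : X ⟶ Spec (CommRingCat.of A)) [IsSeparated f] (hf : IsClosedMap f.base)
    (x : Spec (CommRingCat.of K) ⟶ X) (hx : x ≫ f = Spec.map (CommRingCat.ofHom (algebraMap A K))) :
    ∃! s : Spec (CommRingCat.of A) ⟶ X, s ≫ f = 𝟙 _ ∧ Spec.map (CommRingCat.ofHom (algebraMap A K)) ≫ s = x := by
  exact aux A K X f hf x hx

end Groth.Agent.S4439
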