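import Groth.Statements.S2342
import Groth.Agent.S4439

set_option autoImplicit false
universe u
open CategoryTheory CategoryTheory.Limits AlgebraicGeometry
open EGA2

namespace Groth.Agent.S2342

theorem isFractionRing_of_eq_bot (A : Type u) [CommRing A] [IsDomain A] (I : Ideal A) [I.IsPrime]
    (hI : I = ⊥) : IsFractionRing A I.ResidueField := by
  subst hI; infer_instance

theorem aux (A : Type u) [CommRing A] [IsDomain A] [ValuationRing A]
    (X : Scheme.{u}) [IsIntegral X] [X.IsSeparated] (f : X ⟶ Spec (CommRingCat.of A)) (hf : IsClosedMap f.base)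
    (x : X) (hx : f.base ⁻¹' {genericPoint (Spec (CommRingCat.of A))} = {x})
    (hres : Function.Bijective (f.residueFieldMap x).hom) : IsIso f := by
  haveI : IsSeparated f := by
    haveI : IsSeparated (f ≫ terminal.from (Spec (CommRingCat.of A))) := by
      rw [terminal.comp_from]; exact Scheme.IsSeparated.isSeparated_terminal_from
    exact IsSeparated.of_comp f (terminal.from _)
  have hfx : f x = genericPoint (Spec (CommRingCat.of A)) := by
    have : x ∈ f.base ⁻¹' {genericPoint (Spec (CommRingCat.of A))} := by rw [hx]; rfl
    exact this
  have hq : (f x).asIdeal = ⊥ := by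
    rw [hfx, genericPoint_eq_bot_of_affine]; rfl
  set K := (f x).asIdeal.ResidueField with hK
  haveI : IsFractionRing A K := isFractionRing_of_eq_bot A (f x).asIdeal hq
  let ρ := f.residueFieldMap x
  let e : (Spec (CommRingCat.of A)).residueField (f x) ≃+* X.residueField x :=
    RingEquiv.ofBijective ρ.hom hres
  let ρinv : X.residueField x ⟶ (Spec (CommRingCat.of A)).residueField (f x) :=
    CommRingCat.ofHom e.symm.toRingHom
  have hρ : ρ ≫ ρinv = 𝟙 _ := by
    ext a
    exact e.symm_apply_apply a
  let iso := Scheme.Spec.residueFieldIso (CommRingCat.of A) (f x)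
  let θ : X.residueField x ⟶ CommRingCat.of K := ρinv ≫ iso.hom
  let xK : Spec (CommRingCat.of K) ⟶ X := Spec.map θ ≫ X.fromSpecResidueField x
  have hxK : xK ≫ f = Spec.map (CommRingCat.ofHom (algebraMap A K)) := by
    have h1 : X.fromSpecResidueField x ≫ f =
        Spec.map ρ ≫ (Spec (CommRingCat.of A)).fromSpecResidueField (f x) :=
      (Scheme.Hom.SpecMap_residueFieldMap_fromSpecResidueField f x).symm
    have h2 : Spec.map iso.inv ≫ Spec.map (CommRingCat.ofHom (algebraMap A K)) =
        (Spec (CommRingCat.of A)).fromSpecResidueField (f x) :=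
      Scheme.Spec.map_residueFieldIso_inv_eq_fromSpecResidueField (CommRingCat.of A) (f x)
    calc xK ≫ f = Spec.map θ ≫ (X.fromSpecResidueField x ≫ f) := by
          simp only [xK, Category.assoc]
      _ = Spec.map θ ≫ Spec.map ρ ≫ Spec.map iso.inv ≫
            Spec.map (CommRingCat.ofHom (algebraMap A K)) := by rw [h1, h2]
      _ = Spec.map (iso.inv ≫ ρ ≫ θ) ≫ Spec.map (CommRingCat.ofHom (algebraMap A K)) := by
          simp only [Spec.map_comp, Category.assoc]
      _ = Spec.map (CommRingCat.ofHom (algebraMap A K)) := by
          have : iso.inv ≫ ρ ≫ θ = 𝟙 _ := by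
            simp only [θ]
            rw [← Category.assoc ρ, hρ, Category.id_comp, Iso.inv_hom_id]
          rw [this, Spec.map_id, Category.id_comp]
  obtain ⟨s, ⟨hs1, hs2⟩, -⟩ := Groth.Agent.S4439.result A K X f hf xK hxK
  haveI : IsClosedImmersion (s ≫ f) := by rw [hs1]; infer_instance
  haveI : IsClosedImmersion s := IsClosedImmersion.of_comp s f
  -- x is the generic point of X
  have hgen : genericPoint X = x := by
    have h1 : genericPoint X ⤳ x := (genericPoint_spec X).specializes (by trivial)
    have h2 : f (genericPoint X) ⤳ f x := h1.map f.continuous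
    have h3 : f x ⤳ f (genericPoint X) := by
      rw [hfx]; exact (genericPoint_spec _).specializes (by trivial)
    have h4 : f (genericPoint X) = f x := (h2.antisymm h3).eq
    have : genericPoint X ∈ f.base ⁻¹' {genericPoint (Spec (CommRingCat.of A))} := by
      rw [Set.mem_preimage, Set.mem_singleton_iff]; exact h4.trans hfx
    rw [hx] at this
    exact this
  have hxs : x ∈ Set.range s.base := by
    refine ⟨(Spec.map (CommRingCat.ofHom (algebraMap A K))) (IsLocalRing.closedPoint K), ?_⟩
    rw [← Scheme.Hom.comp_apply, hs2]
    simp only [xK, Scheme.Hom.comp_apply]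
    exact Scheme.fromSpecResidueField_apply _ _
  haveI : Surjective s := by
    constructor
    have hcl : IsClosed (Set.range s.base) := s.isClosedEmbedding.isClosed_range
    have : closure {x} ⊆ Set.range s.base := hcl.closure_subset_iff.mpr (Set.singleton_subset_iff.mpr hxs)
    rw [← hgen, (genericPoint_spec X).def] at this
    intro z
    exact this (Set.mem_univ z)
  haveI : IsIso s := isIso_of_isClosedImmersion_of_surjective s
  haveI : IsIso (s ≫ f) := by rw [hs1]; infer_instance
  exact IsIso.of_isIso_comp_left s f

/-- Let A be a valuation ring with Y = Spec A, X an integral separated scheme and f : X → Y a morphism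
which is closed as a map of topological spaces, such that the fibre over the generic point of Y
consists of exactly one point x and the induced map from the residue field of the generic point of Y
to that of x is bijective. Then f is an isomorphism. -/
theorem result (A : Type u) [CommRing A] [IsDomain A] [ValuationRing A]
    (X : Scheme.{u}) [IsIntegral X] [X.IsSeparated] (f : X ⟶ Spec (CommRingCat.of A)) (hf : IsClosedMap f.base)
    (x : X) (hx : f.base ⁻¹' {genericPoint (Spec (CommRingCat.of A))} = {x})
    (hres : Function.Bijective (f.residueFieldMap x).hom) : IsIso f := by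
  exact aux A X f hf x hx hres

end Groth.Agent.S2342
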