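import Groth.Statements.S2352
import Groth.Agent.Helper1.TwistMul6

set_option autoImplicit false
universe u
open CategoryTheory CategoryTheory.Limits AlgebraicGeometry
open EGA2

namespace Groth.Agent.S2352

/-- Let A be a graded ring whose irrelevant ideal is generated by the elements of degree one. Then on
Proj A every twisting sheaf O(n), n ∈ ℤ, is invertible; O(m) ⊗ O(n) ≅ O(m + n) for all integers m
and n; and O(n) ≅ O(1)^{⊗ n} for every natural number n. -/
theorem result {R A : Type u} [CommRing R] [CommRing A] [Algebra R A] (𝒜 : ℕ → Submodule R A) [GradedAlgebra 𝒜] (hgen : (HomogeneousIdeal.irrelevant 𝒜).toIdeal = Ideal.span (𝒜 1 : Set A)) :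
    (∀ n : ℤ, PicF.IsInvertible (Twist.twist 𝒜 n)) ∧
      (∀ m n : ℤ, Nonempty (CohB1.tensorMod (Twist.twist 𝒜 m) (Twist.twist 𝒜 n) ≅ Twist.twist 𝒜 (m + n))) ∧
      ∀ n : ℕ, Nonempty (Twist.twist 𝒜 (n : ℤ) ≅ CohB1.tensorPow (Twist.twist 𝒜 1) n) := by
  have hcov := Groth.Agent.Helper1.TwistMul.iSup_eq_top_of_hgen 𝒜 hgen
  exact ⟨Groth.Agent.Helper1.TwistMul.isInvertible_twist 𝒜 hcov,
    fun m n => Groth.Agent.Helper1.TwistMul.nonempty_twist_tensor_twist_iso 𝒜 hcov m n (m + n) rfl,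
    Groth.Agent.Helper1.TwistMul.nonempty_twist_iso_tensorPow 𝒜 hcov⟩

end Groth.Agent.S2352
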