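import Groth.Statements.S2478
import Groth.Agent.Lead.ProConsLib8
import Groth.Agent.Lead.ProConsLib9

set_option autoImplicit false
universe u
open EGA41

namespace Groth.Agent.S2478

open Topology in
theorem aux {A : Type u} [CommRing A] (E : Set (PrimeSpectrum A)) :
    (∃ (B : Type u) (_ : CommRing B) (f : A →+* B), Set.range (PrimeSpectrum.comap f) = E) ↔
      ∃ S : Set (Set (PrimeSpectrum A)), (∀ s ∈ S, IsConstructible s) ∧ E = ⋂₀ S := by
  constructor
  · rintro ⟨B, _, f, rfl⟩
    have h1 := Groth.Agent.Lead.ProConsLib.pro_image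
      (AlgebraicGeometry.Spec.map (CommRingCat.ofHom f))
      (Groth.Agent.Lead.ProConsLib.pro_univ)
    rw [Set.image_univ] at h1
    obtain ⟨S, hS, hES⟩ := (Groth.Agent.Lead.ProConsLib.pro_iff_sInter_constructible _).mp h1
    exact ⟨S, hS, hES⟩
  · rintro ⟨S, hS, hE⟩
    exact Groth.Agent.Lead.ProConsLib.exists_ringHom_of_sInter E S hS hE

open Topology in
/-- Equivalence of (a'') and (b) for X = Spec A affine: a subset E of Spec A is the image of the map
Spec B → Spec A induced by some ring homomorphism A → B if and only if E is an intersection of a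
family of constructible subsets of Spec A. -/
theorem result {A : Type u} [CommRing A] (E : Set (PrimeSpectrum A)) :
    (∃ (B : Type u) (_ : CommRing B) (f : A →+* B), Set.range (PrimeSpectrum.comap f) = E) ↔
      ∃ S : Set (Set (PrimeSpectrum A)), (∀ s ∈ S, IsConstructible s) ∧ E = ⋂₀ S := by
  exact aux E

end Groth.Agent.S2478
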