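import Groth.Statements.S2483
import Groth.Agent.Helper1.CoeffField

set_option autoImplicit false
universe u
open EGA41

namespace Groth.Agent.S2483

open IsLocalRing in
/-- Let C be a complete Noetherian local ring with maximal ideal 𝔍 ≠ 0 and residue field K, and u : K →
C a ring homomorphism which is a section of the residue map. Then u is the only such section if and
only if Ω_{K/ℤ} = 0. -/
theorem result {C : Type u} [CommRing C] [IsLocalRing C] [IsNoetherianRing C] [IsAdicComplete (maximalIdeal C) C]
    (hm : maximalIdeal C ≠ ⊥) (u : ResidueField C →+* C) (hu : ∀ x, residue C (u x) = x) :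
    (∀ v : ResidueField C →+* C, (∀ x, residue C (v x) = x) → v = u) ↔ Subsingleton (Ω[ResidueField C⁄ℤ]) := by
  classical
  set m := maximalIdeal C with hmdef
  constructor
  · -- uniqueness ⇒ Ω = 0, by contraposition
    intro huniq
    by_contra hΩ
    rw [not_subsingleton_iff_nontrivial] at hΩ
    obtain ⟨ω, hω⟩ := exists_ne (0 : Ω[ResidueField C⁄ℤ])
    -- a nonzero functional on Ω
    have hker : LinearMap.ker (LinearMap.toSpanSingleton (ResidueField C) (Ω[ResidueField C⁄ℤ]) ω) = ⊥ := by
      rw [LinearMap.ker_eq_bot]
      intro c c' h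
      simp only [LinearMap.toSpanSingleton_apply] at h
      exact smul_left_injective _ hω h
    obtain ⟨φ, hφ⟩ := LinearMap.exists_leftInverse_of_injective _ hker
    have hφω : φ ω = 1 := by
      have := congr($hφ 1)
      simpa using this
    let D : ResidueField C → ResidueField C := fun x => φ (KaehlerDifferential.D ℤ (ResidueField C) x)
    have hDadd : ∀ x y, D (x + y) = D x + D y := fun x y => by simp only [D, map_add]
    have hDmul : ∀ x y, D (x * y) = x * D y + y * D x := fun x y => by
      simp only [D, Derivation.leibniz, map_add, map_smul, smul_eq_mul]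
    have hDone : D 1 = 0 := by simp only [D, Derivation.map_one_eq_zero, map_zero]
    have hDzero : D 0 = 0 := by simp only [D, map_zero]
    have hD : ∃ x₀, D x₀ ≠ 0 := by
      by_contra hcon
      push Not at hcon
      have hle : Submodule.span (ResidueField C)
          (Set.range (KaehlerDifferential.D ℤ (ResidueField C))) ≤ LinearMap.ker φ := by
        rw [Submodule.span_le]
        rintro _ ⟨x, rfl⟩
        exact hcon x
      rw [KaehlerDifferential.span_range_derivation] at hle
      have : φ ω = 0 := hle trivial
      rw [hφω] at this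
      exact one_ne_zero this
    obtain ⟨x₀, hx₀⟩ := hD
    -- an element of m not in m²
    have hmm : ¬ m ≤ m ^ 2 := by
      intro hle
      apply hm
      have hfg : (m : Submodule C C).FG := IsNoetherian.noetherian m
      refine Submodule.eq_bot_of_le_smul_of_le_jacobson_bot m m hfg ?_ ?_
      · rw [smul_eq_mul, ← pow_two]; exact hle
      · rw [IsLocalRing.jacobson_eq_maximalIdeal ⊥ bot_ne_top]
    obtain ⟨t, htm, htm2⟩ := Set.not_subset.1 hmm
    -- the ring hom w : K → C/m²
    let q := Ideal.Quotient.mk (m ^ 2)
    have ht2 : q t * q t = 0 := by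
      rw [← map_mul, Ideal.Quotient.eq_zero_iff_mem, ← pow_two]
      exact Ideal.pow_mem_pow htm 2
    let w : ResidueField C →+* C ⧸ m ^ 2 :=
      { toFun := fun x => q (u x) + q (u (D x)) * q t
        map_one' := by simp [hDone]
        map_zero' := by simp [hDzero]
        map_add' := fun x y => by rw [hDadd]; simp only [map_add]; ring
        map_mul' := fun x y => by
          rw [hDmul]
          simp only [map_add, map_mul]
          linear_combination (- q (u (D x)) * q (u (D y))) * ht2 }
    have : IsAdicComplete (m ^ 2) C :=
      Groth.Agent.Helper1.CoeffField.isAdicComplete_pow m C (by norm_num)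
    obtain ⟨v, hv⟩ := Groth.Agent.Helper1.CoeffField.exists_lift (m ^ 2) u w
    have hvx : ∀ x, v x - (u x + u (D x) * t) ∈ m ^ 2 := by
      intro x
      have := congr($hv x)
      rw [RingHom.comp_apply] at this
      rw [← Ideal.Quotient.eq_zero_iff_mem, map_sub, this]
      simp [w, q]
    have hsec : ∀ x, residue C (v x) = x := by
      intro x
      have h1 : v x - u x ∈ m := by
        have h2 : v x - u x = (v x - (u x + u (D x) * t)) + u (D x) * t := by ring
        rw [h2]
        exact m.add_mem (Ideal.pow_le_self (by norm_num) (hvx x)) (m.mul_mem_left _ htm)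
      have : residue C (v x) - residue C (u x) = 0 := by
        rw [← map_sub, residue_eq_zero_iff]
        exact h1
      rw [sub_eq_zero] at this
      rw [this, hu]
    have hvu := huniq v hsec
    apply htm2
    have h3 := hvx x₀
    rw [hvu] at h3
    have h4 : u (D x₀) * t ∈ m ^ 2 := by
      have : u (D x₀) * t = -(u x₀ - (u x₀ + u (D x₀) * t)) := by ring
      rw [this]
      exact (m ^ 2).neg_mem h3
    have hunit : IsUnit (u (D x₀)) := (IsUnit.mk0 _ hx₀).map u
    exact (Ideal.unit_mul_mem_iff_mem _ hunit).1 h4
  · -- Ω = 0 ⇒ uniqueness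
    intro hΩ v hv
    have : Algebra.FormallyUnramified ℤ (ResidueField C) := ⟨hΩ⟩
    have hI : ⨅ i, m ^ i = ⊥ :=
      Ideal.iInf_pow_eq_bot_of_isLocalRing m (IsLocalRing.maximalIdeal.isMaximal C).ne_top
    let g₁ : ResidueField C →ₐ[ℤ] C :=
      { v with commutes' := fun n => by simp }
    let g₂ : ResidueField C →ₐ[ℤ] C :=
      { u with commutes' := fun n => by simp }
    have := Algebra.FormallyUnramified.ext_of_iInf (R := ℤ) (A := ResidueField C) (B := C) (I := m) hI
      (g₁ := g₁) (g₂ := g₂) (fun x => by
        show residue C (v x) = residue C (u x)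
        rw [hv, hu])
    ext x
    exact congr($this x)

end Groth.Agent.S2483
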