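import Groth.Statements.S2554
import Groth.Agent.Helper5.GPIL
import Groth.Agent.Helper5.GPIG

set_option autoImplicit false
open CategoryTheory AlgebraicGeometry
universe u
open EGA43

namespace Groth.Agent.S2554

/-- Let f : X ⟶ Y be proper, flat and locally of finite presentation. The set of points y of Y whose
fibre is geometrically pointwise integral (all local rings of all base field extensions of the fibre
are domains) is open in Y. -/
theorem result {X Y : Scheme.{u}} (f : X ⟶ Y) [IsProper f]
    [Flat f] [LocallyOfFinitePresentation f] :
    IsOpen {y : Y | ∀ x : ↥(f.fiber y), FBase.IsGeomPtIntegralAt (f.fiberToSpecResidueField y) x} := by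
  rw [Groth.Agent.Helper5.GPI.setOf_forall_fiber_eq]
  exact (f.isClosedMap _ (Groth.Agent.Helper5.GPI.isOpen_EI f).isClosed_compl).isOpen_compl

end Groth.Agent.S2554
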