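import Groth.Statements.S2553
import Groth.Agent.Helper5.GPIM
import Groth.Agent.S5935
import Groth.Agent.S2554

set_option autoImplicit false
open CategoryTheory AlgebraicGeometry
universe u
open EGA43

namespace Groth.Agent.S2553

/-- Let f : X ⟶ Y be proper, flat and locally of finite presentation. The set of points y of Y whose
fibre is geometrically integral over the residue field of y is open in Y. -/
theorem result {X Y : Scheme.{u}} (f : X ⟶ Y) [IsProper f]
    [Flat f] [LocallyOfFinitePresentation f] :
    IsOpen {y : Y | GeometricallyIntegral (f.fiberToSpecResidueField y)} := by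
  have hV : IsOpen {y : Y | ∀ x : ↥(f.fiber y),
      FBase.IsGeomPtIntegralAt (f.fiberToSpecResidueField y) x} := Groth.Agent.S2554.result f
  have hU : IsOpen {y : Y | GeometricallyReduced (f.fiberToSpecResidueField y) ∧
      MoreMor.nGeomConnComp f y = ((1 : ℕ) : ℕ∞)} := Groth.Agent.S5935.result f 1 le_rfl
  have heq : {y : Y | GeometricallyIntegral (f.fiberToSpecResidueField y)} =
      {y : Y | ∀ x : ↥(f.fiber y), FBase.IsGeomPtIntegralAt (f.fiberToSpecResidueField y) x} ∩
        {y : Y | GeometricallyReduced (f.fiberToSpecResidueField y) ∧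
          MoreMor.nGeomConnComp f y = ((1 : ℕ) : ℕ∞)} := by
    ext y
    rw [Set.mem_inter_iff]
    simp only [Set.mem_ofPred_eq, Nat.cast_one]
    exact Groth.Agent.Helper5.GPI.geometricallyIntegral_fiber_iff f y
  rw [heq]
  exact hV.inter hU

end Groth.Agent.S2553
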