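import Groth.Statements.S2574
import Groth.Agent.Helper2.FiltFlatCrit
open TensorProduct Function LinearMap Groth.Agent.Helper2.FiltFlatCrit Groth.Agent.Helper2.GrFlatCrit
-- import your own Groth.Agent.* helpers here

set_option autoImplicit false
open TensorProduct
universe u
open EGA43

namespace Groth.Agent.S2574

/-- Let A be a Noetherian ring, J a nilpotent ideal of A and M an A-module. Then M is flat over A if and
only if (A/J) ⊗_A M is flat over A/J and, for every associated prime p of A, the localization M_p is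
flat over A_p. -/
theorem result {A : Type u} [CommRing A] [IsNoetherianRing A]
    (J : Ideal A) (hJ : IsNilpotent J) (M : Type u) [AddCommGroup M] [Module A M] :
    Module.Flat A M ↔
      Module.Flat (A ⧸ J) ((A ⧸ J) ⊗[A] M) ∧
        ∀ p : associatedPrimes A A,
          haveI : p.1.IsPrime := IsAssociatedPrime.isPrime p.2
          Module.Flat (Localization.AtPrime p.1) (LocalizedModule p.1.primeCompl M) := by
  classical
  constructor
  · intro h
    refine ⟨inferInstance, ?_⟩
    intro q
    infer_instance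
  · rintro ⟨hM, hloc⟩
    obtain ⟨N, hN⟩ := hJ
    have hfin : (associatedPrimes A A).Finite := associatedPrimes.finite A A
    set r := hfin.toFinset.card with hr
    let e := hfin.toFinset.equivFin
    let p : Fin r → Ideal A := fun i => (e.symm i).1
    have hpmem : ∀ i, p i ∈ associatedPrimes A A := fun i => hfin.mem_toFinset.1 (e.symm i).2
    have hpprime : ∀ i, (p i).IsPrime := fun i => (hpmem i).isPrime
    have hpsurj : ∀ P ∈ associatedPrimes A A, ∃ i, p i = P := by
      intro P hP
      refine ⟨e ⟨P, hfin.mem_toFinset.2 hP⟩, ?_⟩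
      simp [p]
    have hloc' : ∀ i, Module.Flat (Localization.AtPrime (p i))
        (LocalizedModule (p i).primeCompl M) := fun i => hloc ⟨p i, hpmem i⟩
    have hsep : ∀ a : Ideal A, IsHausdorff J (↥a ⊗[A] M) := by
      intro a
      refine ⟨fun x hx => ?_⟩
      have := hx N
      rw [SModEq.zero, hN] at this
      simpa using this
    set 𝔠 : ℕ → Ideal A := fun n => ⨅ i, Ideal.comap (algebraMap A (Localization.AtPrime (p i)))
      ((J ^ n).map (algebraMap A (Localization.AtPrime (p i)))) with h𝔠
    have h0 : 𝔠 0 = ⊤ := by simp [h𝔠, Ideal.map_top]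
    have hanti : ∀ n, 𝔠 (n + 1) ≤ 𝔠 n := by
      intro n
      exact iInf_mono fun i => Ideal.comap_mono
        (Ideal.map_mono (Ideal.pow_le_pow_right (Nat.le_succ n)))
    have hJ𝔠 : ∀ n, J * 𝔠 n ≤ 𝔠 (n + 1) := by
      intro n
      rw [Ideal.mul_le]
      intro a ha b hb
      simp only [h𝔠, Ideal.mem_iInf, Ideal.mem_comap] at hb ⊢
      intro i
      rw [map_mul, pow_succ', Ideal.map_mul]
      exact Ideal.mul_mem_mul (Ideal.mem_map_of_mem _ ha) (hb i)
    have hbot : 𝔠 N = ⊥ := by
      rw [eq_bot_iff]
      intro x hx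
      rw [Ideal.mem_bot]
      by_contra hx0
      obtain ⟨P, hP, hle⟩ := exists_le_isAssociatedPrime_of_isNoetherianRing A x hx0
      obtain ⟨i, rfl⟩ := hpsurj P hP
      simp only [h𝔠, Ideal.mem_iInf, Ideal.mem_comap] at hx
      have hxi := hx i
      rw [hN] at hxi
      simp only [Ideal.zero_eq_bot, Ideal.map_bot, Ideal.mem_bot] at hxi
      rw [IsLocalization.map_eq_zero_iff (p i).primeCompl] at hxi
      obtain ⟨s, hs⟩ := hxi
      apply s.2
      apply hle
      rw [Submodule.mem_colon_singleton, Submodule.mem_bot]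
      exact hs
    have hcof : ∀ n, ∃ m, 𝔠 m ≤ J ^ n := fun n => ⟨N, by rw [hbot]; exact bot_le⟩
    have hG : ∀ n, PP M (𝔠 n) (𝔠 (n + 1)) (hanti n) := by
      intro n
      apply PP_of_primes J M p hM hloc' (𝔠 n) (𝔠 (n + 1)) (hanti n) (hJ𝔠 n)
      intro a ha b _ hab
      simp only [h𝔠, Ideal.mem_iInf, Ideal.mem_comap] at hab ⊢
      intro i
      have hu : IsUnit (algebraMap A (Localization.AtPrime (p i)) a) :=
        IsLocalization.map_units (M := (p i).primeCompl) _ ⟨a, ha i⟩
      have := hab i
      rw [map_mul] at this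
      exact (Ideal.unit_mul_mem_iff_mem _ hu).1 this
    exact flat_of_filt J M hsep hM 𝔠 h0 hanti hJ𝔠 hcof hG

end Groth.Agent.S2574
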