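import Groth.Statements.S2596
import Mathlib
import Groth.Agent.Helper3.LocPropB

set_option autoImplicit false
open CategoryTheory AlgebraicGeometry
universe u
open scoped TensorProduct
open EGA43

namespace Groth.Agent.S2596

open CategoryTheory.Limits in
/-- Let Y be locally Noetherian, f : X ⟶ Y separated and of finite type, and y a point of Y. Suppose
that for every discrete valuation ring A with fraction field K and every morphism g : Spec A ⟶ Y
sending the closed point to y, every K-point σ of X ×_Y Spec A lying over the generic point Spec K ⟶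
Spec A extends to a section of X ×_Y Spec A ⟶ Spec A. Then f is proper over some open neighbourhood
of y. -/
theorem result {X Y : Scheme.{u}} [IsLocallyNoetherian Y]
    (f : X ⟶ Y) [IsSeparated f] [LocallyOfFiniteType f] [QuasiCompact f] (y : Y)
    (h : ∀ (A : Type u) [CommRing A] [IsDomain A] [IsDiscreteValuationRing A]
      (g : Spec (CommRingCat.of A) ⟶ Y), g.base (IsLocalRing.closedPoint A) = y →
      ∀ σ : Spec (CommRingCat.of (FractionRing A)) ⟶ pullback f g,
        σ ≫ pullback.snd f g = Spec.map (CommRingCat.ofHom (algebraMap A (FractionRing A))) →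
        ∃ s : Spec (CommRingCat.of A) ⟶ pullback f g, s ≫ pullback.snd f g = 𝟙 _ ∧
          Spec.map (CommRingCat.ofHom (algebraMap A (FractionRing A))) ≫ s = σ) :
    ∃ U : Y.Opens, y ∈ U ∧ IsProper (f ∣_ U) := by
  classical
  apply Groth.Agent.Helper3.LocPropB.core f y
  intro K _ R hR φ g hφ hmax hgy hsq
  haveI := hR
  let e : FractionRing R ≃ₐ[R] K := FractionRing.algEquiv R K
  let a : Spec (CommRingCat.of (FractionRing R)) ⟶ Spec (CommRingCat.of R) :=
    Spec.map (CommRingCat.ofHom (algebraMap R (FractionRing R)))
  let ee : Spec (CommRingCat.of (FractionRing R)) ⟶ Spec (CommRingCat.of K) :=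
    Spec.map (CommRingCat.ofHom (e.symm : K →+* FractionRing R))
  let ee' : Spec (CommRingCat.of K) ⟶ Spec (CommRingCat.of (FractionRing R)) :=
    Spec.map (CommRingCat.ofHom (e : FractionRing R →+* K))
  have hee : ee' ≫ ee = 𝟙 _ := by
    rw [← Spec.map_comp, ← Spec.map_id]
    congr 1
    ext x
    simp
  have hea : ee ≫ Spec.map (CommRingCat.ofHom (algebraMap R K)) = a := by
    rw [← Spec.map_comp]
    congr 1
    ext x
    exact e.symm.commutes x
  have hea' : ee' ≫ a = Spec.map (CommRingCat.ofHom (algebraMap R K)) := by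
    rw [← hea, ← Category.assoc, hee, Category.id_comp]
  have hcomm : (ee ≫ φ) ≫ f = a ≫ g := by
    rw [Category.assoc, ← hsq, ← Category.assoc, hea]
  let σ : Spec (CommRingCat.of (FractionRing R)) ⟶ Limits.pullback f g :=
    Limits.pullback.lift (ee ≫ φ) a hcomm
  obtain ⟨s, hs1, hs2⟩ := h R g hgy σ (Limits.pullback.lift_snd _ _ _)
  refine ⟨s ≫ Limits.pullback.fst f g, ?_, ?_⟩
  · rw [Category.assoc, Limits.pullback.condition, ← Category.assoc, hs1, Category.id_comp]
  · rw [← hea', Category.assoc, ← Category.assoc a, hs2, Limits.pullback.lift_fst, ← Category.assoc,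
      hee, Category.id_comp]

end Groth.Agent.S2596
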