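import Groth.Statements.S2908
import Mathlib
import Groth.Agent.Helper9.FinQuot
-- import your own Groth.Agent.* helpers here

set_option autoImplicit false
open CategoryTheory CategoryTheory.Limits AlgebraicGeometry
universe u
open SGA1

namespace Groth.Agent.S2908

/-- Let a finite group G act on a scheme X and let p : X ⟶ Y be a quotient of X by G. Then p is
surjective, two points of X have the same image exactly when they lie in one G-orbit, and the
topology of Y is the quotient topology. -/
theorem result {X Y : Scheme.{u}} {G : Type u} [Group G] [Finite G] (ρ : G →* Aut X)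
    (p : X ⟶ Y) (hp : SGA1.IsQuot ρ p) :
    Function.Surjective p.base ∧ (∀ x x' : X, p.base x = p.base x' ↔ ∃ g : G, (ρ g).hom.base x = x') ∧
      Topology.IsQuotientMap p.base := by
  refine ⟨Groth.Agent.Helper9.FinQuot.surjective hp, fun x x' => ⟨fun hx =>
    Groth.Agent.Helper9.FinQuot.orbit hp x x' hx, ?_⟩, Groth.Agent.Helper9.FinQuot.isQuotientMap hp⟩
  rintro ⟨g, rfl⟩
  exact (congrArg (fun k : X ⟶ Y => k.base x) (hp.inv g)).symm

end Groth.Agent.S2908
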