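import Groth.Statements.S2910
import Mathlib
import Groth.Agent.Helper9.GeomTrans
-- import your own Groth.Agent.* helpers here

set_option autoImplicit false
open CategoryTheory CategoryTheory.Limits AlgebraicGeometry
universe u
open SGA1

namespace Groth.Agent.S2910

/-- Let a finite group G act faithfully on a connected scheme X, let p : X ⟶ Y be a quotient of X by G
with Y locally Noetherian and p finite, and suppose p is etale. Then G acts freely on the geometric
points of X (all inertia groups are trivial), and every automorphism of X over Y is the action of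
exactly one element of G. -/
theorem result {X Y : Scheme.{u}} {G : Type u} [Group G] [Finite G] (ρ : G →* Aut X)
    (p : X ⟶ Y) (hp : SGA1.IsQuot ρ p) [IsLocallyNoetherian Y] [IsFinite p] [ConnectedSpace X]
    (hfaith : Function.Injective ρ) [Etale p] :
    (∀ (K : Type u) [Field K] [IsAlgClosed K] (ξ : Spec (CommRingCat.of K) ⟶ X) (g : G), ξ ≫ (ρ g).hom = ξ → g = 1) ∧
    ∀ u : Aut X, u.hom ≫ p = p → ∃! g : G, ρ g = u := by
  classical
  haveI : LocallyOfFiniteType p := inferInstance
  haveI : IsSeparated p := inferInstance
  haveI : FormallyUnramified p := inferInstance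
  constructor
  · intro K _ _ ξ g hg
    have h1 : (ρ g).hom = 𝟙 X :=
      Groth.Agent.Helper9.GeomTrans.rigidity p (ρ g).hom (𝟙 X)
        ((hp.inv g).trans (Category.id_comp p).symm) K ξ (hg.trans (Category.comp_id ξ).symm)
    apply hfaith
    rw [map_one]
    exact Iso.ext h1
  · intro u hu
    obtain ⟨x⟩ : Nonempty X := inferInstance
    let ξ : Spec (CommRingCat.of (X.residueField x)) ⟶ X := X.fromSpecResidueField x
    obtain ⟨g, hg⟩ := Groth.Agent.Helper9.GeomTrans.main hp (X.residueField x) ξ (ξ ≫ u.hom)
      (by rw [Category.assoc, hu])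
    have h1 : u.hom = (ρ g).hom :=
      Groth.Agent.Helper9.GeomTrans.rigidity p u.hom (ρ g).hom (hu.trans (hp.inv g).symm)
        (X.residueField x) ξ hg
    refine ⟨g, (Iso.ext h1).symm, ?_⟩
    intro g' hg'
    apply hfaith
    rw [hg']
    exact Iso.ext h1

end Groth.Agent.S2910
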