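import Groth.Statements.S2913


set_option autoImplicit false
open CategoryTheory CategoryTheory.Limits AlgebraicGeometry Opposite
universe u
open SGA1

namespace Groth.Agent.S2913

theorem aux {S' S : Scheme.{u}} (g : S' ⟶ S) [Surjective g]
    (hinj : ∀ U : S.Opens, Function.Injective (g.app U).hom) : Epi g := by
  constructor
  intro T h₁ h₂ e
  have hbase : h₁.base = h₂.base := by
    ext x
    obtain ⟨y, rfl⟩ := g.surjective x
    have := congr($(e) y)
    simpa using this
  refine Scheme.Hom.ext hbase fun U => ?_
  have hmono : Mono (g.app (h₂ ⁻¹ᵁ U)) := by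
    apply ConcreteCategory.mono_of_injective
    exact hinj _
  rw [← cancel_mono (g.app (h₂ ⁻¹ᵁ U))]
  rw [Category.assoc, Scheme.Hom.naturality, ← Category.assoc, ← Scheme.Hom.comp_app,
    ← Scheme.Hom.comp_app, Scheme.Hom.congr_app e U]
  erw [Category.assoc, ← Functor.map_comp]
  have key : ∀ (V : S'.Opens) (φ : op V ⟶ op V), S'.presheaf.map φ = 𝟙 _ := by
    intro V φ
    rw [Subsingleton.elim φ (𝟙 _), S'.presheaf.map_id]
  exact (congrArg (fun t => (g ≫ h₂).app U ≫ t) (key _ _)).trans (Category.comp_id _)

/-- Let g : S' ⟶ S be a surjective morphism of schemes such that for every open U of S the map O_S(U) →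
O_{S'}(g⁻¹U) is injective. Then g is an epimorphism in the category of schemes. -/
theorem result {S' S : Scheme.{u}} (g : S' ⟶ S) [Surjective g]
    (hinj : ∀ U : S.Opens, Function.Injective (g.app U).hom) : Epi g := by
  exact aux g hinj

end Groth.Agent.S2913
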