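import Groth.Statements.S2926
import Groth.Agent.Helper1.ExtHom2
import Groth.Agent.Helper1.ExtDual3
import Groth.Agent.Lead.PerfLib5

set_option autoImplicit false
universe u
open CategoryTheory AlgebraicGeometry
attribute [local instance] HasDerivedCategory.standard
open ProjDual

namespace Groth.Agent.S2926

/-- Serre duality on projective space, for a finite locally free module: let k be a field, X = P^r_k and
F a finite locally free O_X-module; assume the internal Hom functor Hom_{O_X}(F, −) exists as the
right adjoint of − ⊗ F (an instance binder). For every i ≤ r the k-dual of H^i(X, F) is k-linearly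
isomorphic to H^{r−i}(X, Hom_{O_X}(F, O_X(−r−1))). (The published statement is for coherent F, with
Ext^{r−i}(F, O_X(−r−1)) on the right; stated here in the locally free case.) -/
theorem result (k : Type u) [Field k] (r : ℕ) (F : (CohB1.ProjSpace r k).Modules) (hF : FlatMod.IsFinLocFree F) [DCoh.HasSheafHom F] (i : ℕ) (hi : i ≤ r) : Nonempty (Module.Dual k (Coh.HH (CohB1.ProjSpace r k) F i) ≃ₗ[k] Coh.HH (CohB1.ProjSpace r k) ((DCoh.sheafHom F).obj (Twist.twistProjSpace r k (-((r : ℤ) + 1)))) (r - i)) := by
  haveI : EnoughInjectives (CohB1.ProjSpace r k).Modules :=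
    Groth.Agent.Helper9.ModCechExt.enoughInjectives_mod (CohB1.ProjSpace r k).ringCatSheaf
  haveI : HasExt.{u} (CohB1.ProjSpace r k).Modules := hasExt_of_enoughInjectives _
  have hcoh : Coh.IsCoh F := Groth.Agent.Lead.PerfLib.isCoh_of_isFinLocFree hF
  obtain ⟨e1⟩ := (Groth.Agent.Helper1.ExtDual.main_Pn r k F hcoh (r - i)).1 i (by omega)
  obtain ⟨e2⟩ := Groth.Agent.Helper1.ExtHom.nonempty_ext_linearEquiv_sheafHom k F
    (DCoh.sheafHomAdj F) hF (Twist.twistProjSpace r k (-((r : ℤ) + 1))) (r - i)
  exact ⟨e1.symm.trans e2⟩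

end Groth.Agent.S2926
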