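import Groth.Statements.S2927
import Groth.Agent.Helper1.StalkExt7
import Groth.Agent.Helper1.LcExt

set_option autoImplicit false
universe u
open CategoryTheory AlgebraicGeometry
open ProjDual

namespace Groth.Agent.S2927

/-- (i)⇔(iii): Let k be a field, X = P^r_k, F a coherent O_X-module and i ≥ 0. Then H^i(X, F(−m))
vanishes for all sufficiently large m if and only if for every closed point x of X the local
cohomology H^i of the stalk F_x, with support in the maximal ideal of O_{X,x}, vanishes. -/
theorem result (k : Type u) [Field k] (r : ℕ) (F : (CohB1.ProjSpace r k).Modules) (hF : Coh.IsCoh F) (i : ℕ) : (∃ m₀ : ℤ, ∀ m : ℤ, m₀ ≤ m → Subsingleton (Coh.HH (CohB1.ProjSpace r k) (Twist.twistBy _ F (-m)) i)) ↔ ∀ x : (CohB1.ProjSpace r k), IsClosed ({x} : Set (CohB1.ProjSpace r k)) → Subsingleton (LocCoh.H (IsLocalRing.maximalIdeal ((CohB1.ProjSpace r k).presheaf.stalk x)) i (F.presheaf.stalk x)) := by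
  haveI : EnoughInjectives (CohB1.ProjSpace r k).Modules :=
    Groth.Agent.Helper9.ModCechExt.enoughInjectives_mod (CohB1.ProjSpace r k).ringCatSheaf
  haveI : HasExt.{u} (CohB1.ProjSpace r k).Modules := hasExt_of_enoughInjectives _
  haveI : HasInjectiveResolutions (ModSite.Mod (CohB1.ProjSpace r k).sheaf) :=
    inferInstanceAs (HasInjectiveResolutions (CohB1.ProjSpace r k).Modules)
  haveI : IsNoetherianRing (MvPolynomial (Fin (r + 1)) k) := inferInstance
  haveI : IsNoetherian (CohB1.ProjSpace r k) :=
    Groth.Agent.Helper3.ProjNoeth.main (CohB1.polyGrading r k)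
  letI : (CohB1.ProjSpace r k).Over (Spec (CommRingCat.of k)) := ⟨CohB1.ProjSpace.toSpec r k⟩
  by_cases hi : i ≤ r
  · -- the criterion at a closed point
    have crit : ∀ x : (CohB1.ProjSpace r k), IsClosed ({x} : Set (CohB1.ProjSpace r k)) →
        (Subsingleton (LocCoh.H (IsLocalRing.maximalIdeal ((CohB1.ProjSpace r k).presheaf.stalk x))
            i (F.presheaf.stalk x)) ↔
          Subsingleton (Abelian.Ext.{u}
            (ModuleCat.of ((CohB1.ProjSpace r k).presheaf.stalk x) (F.presheaf.stalk x))
            (ModuleCat.of ((CohB1.ProjSpace r k).presheaf.stalk x)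
              ((CohB1.ProjSpace r k).presheaf.stalk x)) (r - i))) := by
      intro x hx
      haveI := Groth.Agent.Helper1.PnReg.isRegularLocalRing_stalk r k x
      haveI := hF.1
      haveI : Module.Finite ((CohB1.ProjSpace r k).presheaf.stalk x) (F.presheaf.stalk x) :=
        Groth.Agent.Helper4.FinLocFree2.finite_stalk F hF.2 x
      exact Groth.Agent.Helper1.LcExt.subsingleton_lc_iff _ _ r
        (Groth.Agent.Helper1.PnReg.ringKrullDim_stalk_of_isClosed r k x hx) i hi
    have key : ((∃ q₀ : ℤ, ∀ q : ℤ, q₀ ≤ q → Subsingleton (Coh.HH (CohB1.ProjSpace r k)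
            (CohB1.tensorMod F (Twist.twistProjSpace r k (-q))) i)) ↔
          ∀ x : (CohB1.ProjSpace r k), IsClosed ({x} : Set (CohB1.ProjSpace r k)) →
            Subsingleton (Abelian.Ext.{u}
              (ModuleCat.of ((CohB1.ProjSpace r k).presheaf.stalk x) (F.presheaf.stalk x))
              (ModuleCat.of ((CohB1.ProjSpace r k).presheaf.stalk x)
                ((CohB1.ProjSpace r k).presheaf.stalk x)) (r - i))) := by
      have h := Groth.Agent.Helper1.StalkExt.exists_vanishing_iff_forall_closed r k F hF (r - i)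
        (by omega)
      rw [show r - (r - i) = i by omega] at h
      exact h
    constructor
    · rintro ⟨m₀, hm₀⟩ x hx
      rw [crit x hx]
      exact key.1 ⟨m₀, fun q hq => hm₀ q hq⟩ x hx
    · intro h
      obtain ⟨q₀, hq₀⟩ := key.2 (fun x hx => (crit x hx).1 (h x hx))
      exact ⟨q₀, fun q hq => hq₀ q hq⟩
  · have hir : r < i := by omega
    constructor
    · rintro - x hx
      haveI := Groth.Agent.Helper1.PnReg.isRegularLocalRing_stalk r k x
      have hdim := Groth.Agent.Helper1.PnReg.ringKrullDim_stalk_of_isClosed r k x hx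
      have h1 : Module.supportDim ((CohB1.ProjSpace r k).presheaf.stalk x)
          (F.presheaf.stalk x) < (i : WithBot ℕ∞) := by
        refine lt_of_le_of_lt (Module.supportDim_le_ringKrullDim _ _) ?_
        rw [hdim]
        exact_mod_cast hir
      exact ModuleCat.isZero_iff_subsingleton.1
        (Groth.Agent.Helper1.LocCohVanish.isZero_lc_of_supportDim_lt _ _ i h1)
    · intro _
      exact ⟨0, fun m _ => Groth.Agent.Helper4.SN.subsingleton_HH_of_dim r
        (Groth.Agent.S10829.result k r).le _ i hir⟩

end Groth.Agent.S2927
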