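import Groth.Statements.S2934
import Groth.Agent.Helper1.CoreF
import Groth.Agent.Helper1.CoreG
import Groth.Agent.S0342
import Groth.Agent.S0817

set_option autoImplicit false
universe u
open LocCoh

namespace Groth.Agent.S2934

/-- Let A be a Noetherian local ring which is a quotient of a regular local ring, m its maximal ideal, M
a finite A-module and i ≥ 0. Then H^i_m(M) is an A-module of finite length if and only if for every
prime p ≠ m, writing e = dim A/p, the local cohomology H^{i−e} of M_p with support in the maximal
ideal of A_p vanishes (no condition when e > i). -/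
theorem result (R : Type u) [CommRing R] [IsRegularLocalRing R] (A : Type u) [CommRing A] [IsLocalRing A] [IsNoetherianRing A] (π : R →+* A) (hπ : Function.Surjective π) (M : Type u) [AddCommGroup M] [Module A M] [Module.Finite A M] (i : ℕ) : IsFiniteLength A (LocCoh.H (IsLocalRing.maximalIdeal A) i M) ↔ ∀ p : PrimeSpectrum A, p.asIdeal ≠ IsLocalRing.maximalIdeal A → ∀ (e j : ℕ), ringKrullDim (A ⧸ p.asIdeal) = e → j + e = i → Subsingleton (LocCoh.H (IsLocalRing.maximalIdeal (Localization.AtPrime p.asIdeal)) j (LocalizedModule p.asIdeal.primeCompl M)) := by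
  haveI : LocCoh.IsGorensteinLocalRing R := Groth.Agent.S0342.result R
  letI : Algebra R A := π.toAlgebra
  letI : Module R M := Module.compHom M π
  haveI : IsScalarTower R A M := IsScalarTower.of_algebraMap_smul fun _ _ => rfl
  haveI : Module.Finite R A := Module.Finite.of_surjective (Algebra.linearMap R A) hπ
  haveI : Module.Finite R M := Module.Finite.trans A M
  obtain ⟨d, hd⟩ := Groth.Agent.Helper1.Core.exists_nat_ringKrullDim R
  haveI : IsArtinian A (LocCoh.H (IsLocalRing.maximalIdeal A) i M) :=
    Groth.Agent.S0817.result A M i
  rw [Groth.Agent.Helper1.Core.isFiniteLength_iff_of_isArtinian,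
    Groth.Agent.Helper1.Core.le_radical_iff_stalk M hπ d hd i (IsLocalRing.maximalIdeal A)]
  constructor
  · intro h p hp e j he hj
    haveI := p.2
    refine h p.asIdeal (fun hle => hp ?_) e j he hj
    exact le_antisymm (IsLocalRing.le_maximalIdeal p.2.ne_top) hle
  · intro h p _ hp e j he hj
    refine h ⟨p, inferInstance⟩ (fun heq => hp ?_) e j he hj
    exact heq.ge

end Groth.Agent.S2934
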