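import Groth.Statements.S2936
import Groth.Agent.Helper6.CanonMod1
import Groth.Agent.Helper6.QG5
import Groth.Agent.S0376
import Groth.Agent.S0374

set_option autoImplicit false
universe u
open LocCoh

namespace Groth.Agent.S2936

/-- (iii), for a complete local ring. Let A be a complete Noetherian local ring with maximal ideal m, κ
→ E an injective hull of the residue field, and M a nonzero finite A-module whose support has
dimension n. Then for every i the A-module Hom_A(H^i_m(M), E) is finite with support of dimension at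
most i; for i = n its support has dimension exactly n and its associated primes are exactly the
associated primes p of M with dim A/p = n. -/
theorem result (A : Type u) [CommRing A] [IsLocalRing A] [IsNoetherianRing A] [IsAdicComplete (IsLocalRing.maximalIdeal A) A] (E : Type u) [AddCommGroup E] [Module A E] (f : IsLocalRing.ResidueField A →ₗ[A] E) (hf : InjHull.IsInjectiveHull f) (M : Type u) [AddCommGroup M] [Module A M] [Module.Finite A M] [Nontrivial M] (n : ℕ) (hn : Module.supportDim A M = n) : (∀ i : ℕ, Module.Finite A (LocCoh.H (IsLocalRing.maximalIdeal A) i M →ₗ[A] E) ∧ Module.supportDim A (LocCoh.H (IsLocalRing.maximalIdeal A) i M →ₗ[A] E) ≤ (i : WithBot ℕ∞)) ∧ Module.supportDim A (LocCoh.H (IsLocalRing.maximalIdeal A) n M →ₗ[A] E) = n ∧ associatedPrimes A (LocCoh.H (IsLocalRing.maximalIdeal A) n M →ₗ[A] E) = {p | p ∈ associatedPrimes A M ∧ ringKrullDim (A ⧸ p) = n} := by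
  obtain ⟨ω₀, hω₀⟩ := Groth.Agent.S0376.result A
  obtain ⟨n₀, hω, hnz⟩ := Groth.Agent.Helper6.QG.exists_normalizing_shift ω₀ hω₀
  have key : ∀ i : ℕ, Nonempty ((Dual.inD A M ⟶ (ω₀⟦n₀⟧)⟦(-(i : ℤ))⟧) ≃ₗ[A]
      (LocCoh.H (IsLocalRing.maximalIdeal A) i M →ₗ[A] E)) :=
    fun i => Groth.Agent.S0374.result A (ω₀⟦n₀⟧) hω hnz E f hf M i
  refine ⟨fun i => ?_, ?_, ?_⟩
  · obtain ⟨e⟩ := key i
    haveI := Groth.Agent.Helper6.LD.finite_ext_dualizing (ω₀⟦n₀⟧) hω M (-(i : ℤ))
    refine ⟨Module.Finite.equiv e, ?_⟩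
    rw [← Module.supportDim_eq_of_equiv e]
    have h1 := (Groth.Agent.Helper6.LD.ext_dualizing_vanishing_and_support (ω₀⟦n₀⟧) hω hnz M n hn
      (-(i : ℤ))).2
    simpa using h1
  · obtain ⟨e⟩ := key n
    rw [← Module.supportDim_eq_of_equiv e]
    exact Groth.Agent.Helper6.CanonMod.supportDim_ext_top (ω₀⟦n₀⟧) hω hnz M n hn
  · obtain ⟨e⟩ := key n
    rw [← LinearEquiv.AssociatedPrimes.eq e]
    exact Groth.Agent.Helper6.CanonMod.associatedPrimes_ext_top (ω₀⟦n₀⟧) hω hnz M n hn

end Groth.Agent.S2936
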