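import Groth.Statements.S2955
import Mathlib

set_option autoImplicit false
open RootPairing
open scoped Pointwise Classical
universe u
open RootD

namespace Groth.Agent.S2955

/-- Let P be a finite crystallographic reduced root pairing over a domain of characteristic zero, with a
base b, and write 2ρ for the sum of the positive roots with respect to b. Then for every simple root
β (an index in the support of b) the reflection in β sends 2ρ to 2ρ − 2β (equivalently, the coroot
of β pairs to 1 with ρ; only the reflection identity is asserted). -/
theorem result {ι R M N : Type*} [CommRing R] [CharZero R] [IsDomain R] [AddCommGroup M] [Module R M]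
    [AddCommGroup N] [Module R N] (P : RootPairing ι R M N) [Finite ι] [P.IsCrystallographic] [P.IsReduced]
    [Fintype ι] (b : P.Base) (j : ι) (hj : j ∈ b.support) :
    P.reflection j (∑ i, if b.IsPos i then P.root i else 0) =
      (∑ i, if b.IsPos i then P.root i else 0) - (2 : R) • P.root j := by
  classical
  have hjpos : b.IsPos j := RootPairing.Base.isPos_of_mem_support hj
  -- the reflection permutes positive roots other than `j`
  have hstep : ∀ i, b.IsPos i ∧ i ≠ j → b.IsPos (P.reflectionPerm j i) ∧ P.reflectionPerm j i ≠ j := by
    rintro i ⟨hi, hij⟩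
    refine ⟨hi.reflectionPerm hj hij, fun h => ?_⟩
    have h1 : i = P.reflectionPerm j j := by
      have h0 := P.reflectionPerm_self j i
      rw [h] at h0
      exact h0.symm
    have h3 : b.height i = - b.height j := by
      rw [h1]
      exact RootPairing.Base.height_reflectionPerm_self b j
    rw [RootPairing.Base.isPos_iff] at hi hjpos
    omega
  have hmem : ∀ i, i ∈ Finset.univ.filter (fun i => b.IsPos i ∧ i ≠ j) ↔
      P.reflectionPerm j i ∈ Finset.univ.filter (fun i => b.IsPos i ∧ i ≠ j) := by
    intro i
    simp only [Finset.mem_filter, Finset.mem_univ, true_and]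
    constructor
    · exact hstep i
    · intro h
      have := hstep _ h
      rwa [P.reflectionPerm_self] at this
  have hsum : ∀ g : ι → M, (∑ i, if b.IsPos i then g i else 0) =
      g j + ∑ i ∈ Finset.univ.filter (fun i => b.IsPos i ∧ i ≠ j), g i := by
    intro g
    rw [← Finset.sum_filter, ← Finset.add_sum_erase (Finset.univ.filter fun i => b.IsPos i) g
      (by simp [hjpos] : j ∈ Finset.univ.filter fun i => b.IsPos i)]
    congr 1
    apply Finset.sum_congr _ (fun _ _ => rfl)
    ext i
    simp only [Finset.mem_erase, Finset.mem_filter, Finset.mem_univ, true_and]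
    tauto
  have h1 : P.reflection j (∑ i, if b.IsPos i then P.root i else 0) =
      ∑ i, if b.IsPos i then P.root (P.reflectionPerm j i) else 0 := by
    rw [map_sum]
    refine Finset.sum_congr rfl fun i _ => ?_
    split_ifs
    · rw [P.root_reflectionPerm]
    · rw [map_zero]
  rw [h1, hsum (fun i => P.root (P.reflectionPerm j i)), hsum P.root]
  have h2 : ∑ i ∈ Finset.univ.filter (fun i => b.IsPos i ∧ i ≠ j), P.root (P.reflectionPerm j i) =
      ∑ i ∈ Finset.univ.filter (fun i => b.IsPos i ∧ i ≠ j), P.root i :=
    Finset.sum_equiv (P.reflectionPerm j) hmem (fun i _ => rfl)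
  rw [h2, P.root_reflectionPerm, P.reflection_apply_self, two_smul]
  abel

end Groth.Agent.S2955
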