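import Groth.Statements.S2965
import Mathlib

set_option autoImplicit false
universe u
open SGA3t2b

namespace Groth.Agent.S2965

open Polynomial in
/-- Implication (iv) ⇒ (i) (global form, finite free module): let u be an endomorphism of a finite free
module M over a commutative ring A whose characteristic polynomial is X^r · Q with Q(0) invertible.
Then M is the direct sum of two u-stable submodules M', M'' such that u is nilpotent on M' and
bijective on M''. -/
theorem result {A : Type u} [CommRing A] {M : Type u} [AddCommGroup M] [Module A M]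
    [Module.Free A M] [Module.Finite A M] (u : M →ₗ[A] M) (r : ℕ) (Q : A[X]) (hQ : IsUnit (Q.coeff 0))
    (h : u.charpoly = X ^ r * Q) :
    ∃ M' M'' : Submodule A M, IsCompl M' M'' ∧ (∀ x ∈ M', u x ∈ M') ∧ (∀ x ∈ M'', u x ∈ M'') ∧
      (∃ n : ℕ, ∀ x ∈ M', (u ^ n) x = 0) ∧ Set.BijOn u M'' M'' := by
  classical
  obtain ⟨c, hc⟩ := hQ.exists_left_inv
  have hQdec : X * Q.divX + C (Q.coeff 0) = Q := Polynomial.X_mul_divX_add Q
  -- the key polynomial identity
  have hid : X * (-(C c * Q.divX)) + C c * Q = 1 := by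
    have : C c * Q = C c * (X * Q.divX + C (Q.coeff 0)) := by rw [hQdec]
    rw [this, mul_add, ← C_mul, hc, C_1]
    ring
  have hcop1 : IsCoprime (X : A[X]) Q := ⟨-(C c * Q.divX), C c, by rw [mul_comm]; exact hid⟩
  have hcop : IsCoprime ((X : A[X]) ^ r) Q := hcop1.pow_left
  have hsup : LinearMap.ker (aeval u ((X : A[X]) ^ r)) ⊔ LinearMap.ker (aeval u Q) = ⊤ := by
    rw [Polynomial.sup_ker_aeval_eq_ker_aeval_mul_of_coprime u hcop, ← h,
      LinearMap.aeval_self_charpoly, LinearMap.ker_zero]
  have hdisj := Polynomial.disjoint_ker_aeval_of_isCoprime u hcop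
  have hcomm2 : ∀ (p q : A[X]) (x : M), aeval u p (aeval u q x) = aeval u q (aeval u p x) := by
    intro p q x
    have h1 : aeval u p (aeval u q x) = aeval u (p * q) x := by rw [map_mul]; rfl
    have h2 : aeval u q (aeval u p x) = aeval u (q * p) x := by rw [map_mul]; rfl
    rw [h1, h2, mul_comm]
  have hcomm : ∀ (p : A[X]) (x : M), aeval u p (u x) = u (aeval u p x) := by
    intro p x
    have := hcomm2 p X x
    rwa [aeval_X] at this
  let w : M →ₗ[A] M := aeval u (-(C c * Q.divX))
  have huw : ∀ x ∈ LinearMap.ker (aeval u Q), u (w x) = x := by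
    intro x hx
    have h1 := congrArg (fun p : A[X] => aeval u p x) hid
    simp only [map_add, map_mul, aeval_X, aeval_one, LinearMap.add_apply, Module.End.mul_apply,
      Module.End.one_apply] at h1
    rw [LinearMap.mem_ker.mp hx, map_zero, add_zero] at h1
    exact h1
  have hwu : ∀ x ∈ LinearMap.ker (aeval u Q), w (u x) = x := by
    intro x hx
    rw [hcomm]
    exact huw x hx
  refine ⟨LinearMap.ker (aeval u ((X : A[X]) ^ r)), LinearMap.ker (aeval u Q),
    ⟨hdisj, codisjoint_iff.mpr hsup⟩, ?_, ?_, ⟨r, ?_⟩, ?_, ?_, ?_⟩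
  · intro x hx
    rw [LinearMap.mem_ker] at hx ⊢
    rw [hcomm, hx, map_zero]
  · intro x hx
    rw [LinearMap.mem_ker] at hx ⊢
    rw [hcomm, hx, map_zero]
  · intro x hx
    rw [LinearMap.mem_ker, map_pow, aeval_X] at hx
    exact hx
  · intro x hx
    rw [SetLike.mem_coe, LinearMap.mem_ker] at hx ⊢
    rw [hcomm, hx, map_zero]
  · intro x hx y hy hxy
    rw [← hwu x hx, ← hwu y hy, hxy]
  · intro y hy
    refine ⟨w y, ?_, huw y hy⟩
    rw [SetLike.mem_coe, LinearMap.mem_ker] at hy ⊢
    change aeval u Q (aeval u (-(C c * Q.divX)) y) = 0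
    rw [hcomm2, hy, map_zero]

end Groth.Agent.S2965
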