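import Groth.Statements.S2966
import Mathlib
import Groth.Agent.Helper2.UnipDiagHom
open TensorProduct Groth.Agent.Helper2.ComodGen Groth.Agent.Helper2.ComodDiagG Groth.Agent.Helper2.UnipFlag Groth.Agent.Helper2.FixedRopV Groth.Agent.Helper2.ComodBC Groth.Agent.Helper2.UnipDiagHom
-- import your own Groth.Agent.* helpers here

set_option autoImplicit false
universe u
open scoped TensorProduct
open SGA3t2b

namespace Groth.Agent.S2966

/-- In Hopf-algebra form (with unipotent taken in the representation-theoretic sense: affine and every
non-zero finite-dimensional representation has a non-zero fixed vector): let k be a field, A_M the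
coordinate Hopf algebra of an affine k-group M of finite type which is of multiplicative type in the
sense that it becomes diagonalisable over an algebraic closure of k, and A_U that of a unipotent
affine k-group U of finite type. Then (i) every homomorphism M -> U and (ii) every homomorphism U ->
M is trivial: every bialgebra map A_U -> A_M, resp. A_M -> A_U, factors through the counit. -/
theorem result {k : Type u} [Field k] {AM AU : Type u} [CommRing AM] [CommRing AU]
    [HopfAlgebra k AM] [HopfAlgebra k AU] [Algebra.FiniteType k AM] [Algebra.FiniteType k AU]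
    (hM : HopfRep.IsDiagonalizable (AlgebraicClosure k) (AlgebraicClosure k ⊗[k] AM)) (hU : HopfRep.IsUnipotent k AU) :
    (∀ φ : AU →ₐc[k] AM, SGA3t2b.IsTrivialBialgHom φ) ∧ (∀ ψ : AM →ₐc[k] AU, SGA3t2b.IsTrivialBialgHom ψ) := by
  have hUK : HopfRep.IsUnipotent (AlgebraicClosure k) (AlgebraicClosure k ⊗[k] AU) :=
    (Groth.Agent.S7951.result k (AlgebraicClosure k) AU).1 hU
  constructor
  · intro φ
    apply trivial_of_baseChange (AlgebraicClosure k) φ
    intro x
    obtain ⟨ι, b, hb, i₁, hi₁⟩ := exists_groupLike_basis' hM
    exact trivial_of_unip_to_diag b hb i₁ hi₁ hUK _ x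
  · intro ψ
    apply trivial_of_baseChange (AlgebraicClosure k) ψ
    intro y
    have hy : y ∈ Submodule.span (AlgebraicClosure k)
        {a : AlgebraicClosure k ⊗[k] AM | IsGroupLikeElem (AlgebraicClosure k) a} := by
      have : Submodule.span (AlgebraicClosure k)
        {a : AlgebraicClosure k ⊗[k] AM | IsGroupLikeElem (AlgebraicClosure k) a} = ⊤ := hM
      rw [this]; trivial
    induction hy using Submodule.span_induction with
    | mem χ hχ =>
      have hχ' : IsGroupLikeElem (AlgebraicClosure k) χ := hχ
      rw [groupLike_eq_one hUK _ (hχ'.map (Bialgebra.TensorProduct.map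
        (BialgHom.id (AlgebraicClosure k) (AlgebraicClosure k)) ψ)), hχ'.counit_eq_one, one_smul]
    | zero => simp
    | add a b _ _ ha hb => rw [map_add, map_add, ha, hb, add_smul]
    | smul c a _ ha => rw [map_smul, map_smul, ha, smul_eq_mul, mul_smul]

end Groth.Agent.S2966
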