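import Groth.Statements.S2967
import Mathlib

set_option autoImplicit false
universe u
open SGA3t2b

namespace Groth.Agent.S2967

/-- A commutative p-Lie algebra over a field k of characteristic p is recorded as a k-vector space g
together with its p-th power map φ, which is additive and Frobenius-semilinear. Let g be
finite-dimensional and non-zero, and assume every element of g is killed by some iterate of φ (g is
unipotent). Then the k-subspace of g spanned by the image φ(g) is a proper subspace. -/
theorem result {k : Type u} [Field k] (p : ℕ) [Fact p.Prime] [CharP k p]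
    {V : Type u} [AddCommGroup V] [Module k V] [FiniteDimensional k V] [Nontrivial V]
    (φ : V →ₛₗ[frobenius k p] V) (hφ : ∀ x : V, ∃ n : ℕ, φ^[n] x = 0) :
    Submodule.span k (Set.range φ) ≠ ⊤ := by
  classical
  intro htop
  -- iterates are additive and semilinear
  have hadd : ∀ (n : ℕ) (x y : V), φ^[n] (x + y) = φ^[n] x + φ^[n] y := by
    intro n
    induction n with
    | zero => intro x y; rfl
    | succ n ih =>
      intro x y
      rw [Function.iterate_succ_apply', Function.iterate_succ_apply', Function.iterate_succ_apply',
        ih, map_add]
  have hzero : ∀ n : ℕ, φ^[n] (0 : V) = 0 := by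
    intro n
    induction n with
    | zero => rfl
    | succ n ih => rw [Function.iterate_succ_apply', ih, map_zero]
  have hsmul : ∀ (n : ℕ) (c : k) (x : V), φ^[n] (c • x) = c ^ (p ^ n) • φ^[n] x := by
    intro n
    induction n with
    | zero => intro c x; simp
    | succ n ih =>
      intro c x
      rw [Function.iterate_succ_apply', Function.iterate_succ_apply', ih, map_smulₛₗ,
        frobenius_def, ← pow_mul, pow_succ]
  -- all iterated images span
  have hstep : ∀ (n : ℕ) (v : V), φ^[n] v ∈ Submodule.span k (Set.range (φ^[n + 1])) := by
    intro n v
    have hv : v ∈ Submodule.span k (Set.range φ) := by rw [htop]; trivial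
    induction hv using Submodule.span_induction with
    | mem x hx =>
      obtain ⟨w, rfl⟩ := hx
      rw [← Function.iterate_succ_apply]
      exact Submodule.subset_span ⟨w, rfl⟩
    | zero => rw [hzero]; exact zero_mem _
    | add x y _ _ hx hy => rw [hadd]; exact add_mem hx hy
    | smul c x _ hx => rw [hsmul]; exact Submodule.smul_mem _ _ hx
  have hall : ∀ n : ℕ, Submodule.span k (Set.range (φ^[n])) = ⊤ := by
    intro n
    induction n with
    | zero =>
      rw [eq_top_iff]
      intro v _
      exact Submodule.subset_span ⟨v, rfl⟩
    | succ n ih =>
      rw [eq_top_iff, ← ih, Submodule.span_le]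
      rintro _ ⟨v, rfl⟩
      exact hstep n v
  -- a uniform exponent killing a basis
  let b := Module.finBasis k V
  choose m hm using fun i => hφ (b i)
  let N := Finset.univ.sup m
  have hb : ∀ i, φ^[N] (b i) = 0 := by
    intro i
    have hle : m i ≤ N := Finset.le_sup (Finset.mem_univ i)
    obtain ⟨d, hd⟩ := Nat.exists_eq_add_of_le hle
    rw [hd, add_comm, Function.iterate_add_apply, hm i, hzero]
  have hker : ∀ v : V, φ^[N] v = 0 := by
    intro v
    have hv : v ∈ Submodule.span k (Set.range b) := by rw [b.span_eq]; trivial
    induction hv using Submodule.span_induction with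
    | mem x hx => obtain ⟨i, rfl⟩ := hx; exact hb i
    | zero => exact hzero N
    | add x y _ _ hx hy => rw [hadd, hx, hy, add_zero]
    | smul c x _ hx => rw [hsmul, hx, smul_zero]
  have h0 : Submodule.span k (Set.range (φ^[N])) = ⊥ := by
    rw [Submodule.span_eq_bot]
    rintro _ ⟨v, rfl⟩
    exact hker v
  have := hall N
  rw [h0] at this
  exact bot_ne_top this

end Groth.Agent.S2967
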