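import Groth.Statements.S2978
import Mathlib

set_option autoImplicit false
universe u
open SGA3b

namespace Groth.Agent.S2978

/-- Let A be a Noetherian ring, M a set and a : M × M → A a family vanishing off the diagonal which is a
finite sum of decomposable families: a(m, m') = Σ_i b_i(m) c_i(m') for finitely many b_i, c_i : M →
A. Then a has finite support. -/
theorem result (A : Type u) [CommRing A] [IsNoetherianRing A] (M : Type u)
    (a : M × M → A) (hdiag : ∀ m m', m ≠ m' → a (m, m') = 0)
    (ι : Type u) [Fintype ι] (b c : ι → M → A) (hdec : ∀ m m', a (m, m') = ∑ i, b i m * c i m') :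
    Set.Finite {p : M × M | a p ≠ 0} := by
  classical
  rcases isEmpty_or_nonempty M with hM | hM
  · exact Set.finite_empty.subset (fun p _ => (hM.false p.1).elim)
  set bv : M → (ι → A) := fun m i => b i m with hbv
  have hfg : (Submodule.span A (Set.range bv)).FG := IsNoetherian.noetherian _
  obtain ⟨s', hs', hspan⟩ := (Submodule.fg_span_iff_fg_span_finset_subset _).1 hfg
  have hs'' : ∀ v ∈ s', ∃ m, bv m = v := fun v hv => hs' hv
  choose! g hg using hs''
  set T : Finset M := s'.image g with hT
  -- the functional attached to `m`
  have key : ∀ m, m ∉ T → a (m, m) = 0 := by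
    intro m hm
    set φ : (ι → A) →ₗ[A] A :=
      { toFun := fun v => ∑ i, v i * c i m
        map_add' := fun v w => by simp [add_mul, Finset.sum_add_distrib]
        map_smul' := fun r v => by simp [Finset.mul_sum, mul_assoc] } with hφ
    have hφb : ∀ m', φ (bv m') = a (m', m) := fun m' => (hdec m' m).symm
    have hle : Submodule.span A (s' : Set (ι → A)) ≤ LinearMap.ker φ := by
      rw [Submodule.span_le]
      intro v hv
      have hv' : v ∈ s' := hv
      have h1 : bv (g v) = v := hg v hv'
      have h2 : g v ≠ m := by
        intro h
        apply hm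
        rw [← h]
        exact Finset.mem_image_of_mem g hv'
      show φ v = 0
      rw [← h1, hφb]
      exact hdiag _ _ h2
    have hmem : bv m ∈ Submodule.span A (s' : Set (ι → A)) := by
      rw [← hspan]
      exact Submodule.subset_span ⟨m, rfl⟩
    have := hle hmem
    rw [LinearMap.mem_ker, hφb] at this
    exact this
  refine (T.finite_toSet.image (fun m => (m, m))).subset ?_
  rintro ⟨m, m'⟩ hp
  have hp' : a (m, m') ≠ 0 := hp
  have hmm : m = m' := by
    by_contra hne
    exact hp' (hdiag m m' hne)
  subst hmm
  have : m ∈ T := by
    by_contra hm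
    exact hp' (key m hm)
  exact ⟨m, this, rfl⟩

end Groth.Agent.S2978
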