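import Groth.Statements.S2984
import Mathlib
import Groth.Agent.Helper2.MultTypeSemi
import Groth.Agent.Helper2.MultTypeChart
open TensorProduct SGA3b Groth.Agent.Helper2.MultTypeSemi Groth.Agent.Helper2.MultTypeChart
-- import your own Groth.Agent.* helpers here

set_option autoImplicit false
universe u
open TensorProduct SGA3b
open SGA3b

namespace Groth.Agent.S2984

/-- Let R be a ring and G = Spec A an R-group scheme of multiplicative type and of finite type, with A a
Hopf algebra over R. Then A is finite over R if and only if the n-th power map of G is trivial for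
some n > 0 (the kernel ₙG is all of G). (Affine group schemes over an affine base are taken in
Hopf-algebra form; base change is the tensor product.) -/
theorem result (R : Type u) [CommRing R] (A : Type u) [CommRing A] [HopfAlgebra R A] (hft : Algebra.FiniteType R A) (h : IsMultType R A) :
    Module.Finite R A ↔ ∃ n : ℕ, 0 < n ∧ torsionIdeal R A n = ⊥ := by
  classical
  obtain ⟨s, hs, hf⟩ := h
  constructor
  · intro hfin
    -- local statement
    have hloc : ∀ f : s, ∃ n : ℕ, 0 < n ∧ ∀ (k : ℕ) (a : A), Coalgebra.counit (R := R) a = 0 →
        (1 : Localization.Away f.1) ⊗ₜ[R] (lpow R A (n * k) a) = 0 := by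
      intro f
      obtain ⟨R', _, _, hff, M, _, ⟨e⟩⟩ := hf f.1 f.2
      letI : Algebra R R' := ((algebraMap (Localization.Away f.1) R').comp
        (algebraMap R (Localization.Away f.1))).toAlgebra
      haveI : IsScalarTower R (Localization.Away f.1) R' := IsScalarTower.of_algebraMap_eq (fun _ => rfl)
      rcases subsingleton_or_nontrivial R' with hR' | hR'
      · refine ⟨1, one_pos, fun k a _ => ?_⟩
        apply Module.FaithfullyFlat.tensorProduct_mk_injective (A := Localization.Away f.1) (B := R')
          (Localization.Away f.1 ⊗[R] A)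
        haveI : Subsingleton (R' ⊗[Localization.Away f.1] (Localization.Away f.1 ⊗[R] A)) :=
          Module.subsingleton R' _
        exact Subsingleton.elim _ _
      · haveI : Module.Finite R' (MonoidAlgebra R' M) := Module.Finite.equiv e.toLinearEquiv
        haveI : Finite M := Module.Finite.finite_basis (MonoidAlgebra.basis M R')
        refine ⟨Nat.card M, Nat.card_pos, fun k a ha => ?_⟩
        apply Module.FaithfullyFlat.tensorProduct_mk_injective (A := Localization.Away f.1) (B := R')
          (Localization.Away f.1 ⊗[R] A)
        apply e.injective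
        have hθ := chart_isSemiCoalg R A (Localization.Away f.1) R' M e
        have h1 := lpow_semi hθ (Nat.card M * k) a
        rw [lpow_eq_of_torsion R' M _ (fun m => by rw [pow_mul, pow_card_eq_one', one_pow]), hθ.counit,
          ha] at h1
        rw [map_zero, map_zero] at h1
        rw [chart_apply] at h1
        simpa using h1
    choose nf hnf using hloc
    obtain ⟨t, hts, ht⟩ := (Ideal.span_eq_top_iff_finite s).mp hs
    refine ⟨∏ g ∈ t.attach, nf ⟨g.1, hts g.2⟩, Finset.prod_pos (fun g _ => (hnf _).1), ?_⟩
    rw [torsionIdeal, Ideal.map_eq_bot_iff_le_ker]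
    intro a ha
    rw [RingHom.mem_ker] at ha ⊢
    have ha' : Coalgebra.counit (R := R) a = 0 := ha
    rw [powConv_eq_lpow]
    apply Module.eq_of_isLocalized_span (t : Set R) ht
      (fun g : (t : Set R) => Localization.Away g.1 ⊗[R] A)
      (fun g : (t : Set R) => TensorProduct.mk R (Localization.Away g.1) A 1)
    intro g
    have hg : g.1 ∈ t := g.2
    obtain ⟨k, hk⟩ : nf ⟨g.1, hts g.2⟩ ∣ ∏ g ∈ t.attach, nf ⟨g.1, hts g.2⟩ :=
      Finset.dvd_prod_of_mem (fun g : t => nf ⟨g.1, hts g.2⟩) (Finset.mem_attach t ⟨g.1, hg⟩)
    rw [hk, map_zero]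
    exact (hnf ⟨g.1, hts g.2⟩).2 k a ha'
  · rintro ⟨n, hn, htor⟩
    rw [torsionIdeal_eq_bot_iff] at htor
    apply Module.Finite.of_localizationSpan' s hs (Rₚ := fun g : s => Localization.Away g.1)
      (Mₚ := fun g : s => Localization.Away g.1 ⊗[R] A)
      (f := fun g : s => TensorProduct.mk R (Localization.Away g.1) A 1)
    intro f
    obtain ⟨R', _, _, hff, M, _, ⟨e⟩⟩ := hf f.1 f.2
    letI : Algebra R R' := ((algebraMap (Localization.Away f.1) R').comp
      (algebraMap R (Localization.Away f.1))).toAlgebra
    haveI : IsScalarTower R (Localization.Away f.1) R' := IsScalarTower.of_algebraMap_eq (fun _ => rfl)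
    haveI : Module.Finite R' (MonoidAlgebra R' M) := by
      rcases subsingleton_or_nontrivial R' with hR' | hR'
      · haveI : Subsingleton (MonoidAlgebra R' M) := Module.subsingleton R' _
        infer_instance
      · have hθ := chart_isSemiCoalg R A (Localization.Away f.1) R' M e
        have hsp := chart_span R A (Localization.Away f.1) R' M e
        have htorM := torsion_of_lpow_eq R' M n (lpow_eq_of_chart hθ hsp n htor)
        haveI : Algebra.FiniteType R' (MonoidAlgebra R' M) :=
          Algebra.FiniteType.equiv inferInstance e.toAlgEquiv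
        haveI : Group.FG M := (MonoidAlgebra.finiteType_iff_group_fg (R := R')).mp inferInstance
        haveI : Finite M := CommGroup.finite_of_fg_isMulTorsion (G := M)
          (fun m => isOfFinOrder_iff_pow_eq_one.mpr ⟨n, hn, htorM m⟩)
        exact Module.Finite.of_basis (MonoidAlgebra.basis M R')
    haveI : Module.Finite R' (R' ⊗[Localization.Away f.1] (Localization.Away f.1 ⊗[R] A)) :=
      Module.Finite.equiv e.toLinearEquiv.symm
    exact Module.Finite.of_finite_tensorProduct_of_faithfullyFlat R'

end Groth.Agent.S2984
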