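import Groth.Statements.S3043


set_option autoImplicit false
universe u
open CategoryTheory MonoidalCategory CartesianMonoidalCategory MonObj GrpObj AlgebraicGeometry TensorProduct
open SGA3

namespace Groth.Agent.S3043

open TopologicalSpace in
theorem aux (X S : Scheme.{u}) (π : X ⟶ S) (ε : S ⟶ X) (hε : ε ≫ π = 𝟙 S)
    (hinj : Function.Injective π.base) : IsIntegralHom π := by
  have hπε : ∀ s : S, π (ε s) = s := fun s => by
    have := congrArg (fun f : S ⟶ S => f s) hε
    simpa using this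
  have hεπ : ∀ x : X, ε (π x) = x := fun x => hinj (hπε _)
  have haff : IsAffineHom π := by
    apply isAffineHom_of_forall_exists_isAffineOpen
    intro s
    obtain ⟨W, hW, hsW, -⟩ := Opens.isBasis_iff_nbhd.mp X.isBasis_affineOpens
      (show ε s ∈ (⊤ : X.Opens) from trivial)
    obtain ⟨V₀, hV₀, hsV₀, hV₀W⟩ := Opens.isBasis_iff_nbhd.mp S.isBasis_affineOpens
      (show s ∈ ε ⁻¹ᵁ W from hsW)
    have hmem : ε s ∈ π ⁻¹ᵁ V₀ := by
      show π (ε s) ∈ V₀
      rw [hπε]; exact hsV₀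
    obtain ⟨a, haV, hsa⟩ := IsAffineOpen.exists_basicOpen_le hW (V := π ⁻¹ᵁ V₀) ⟨ε s, hmem⟩ hsW
    set b : Γ(S, V₀) := S.presheaf.map (homOfLE hV₀W).op (ε.app W a) with hb
    have hbo : S.basicOpen b = V₀ ⊓ ε ⁻¹ᵁ (X.basicOpen a) := by
      rw [hb, Scheme.basicOpen_res, Scheme.preimage_basicOpen]
    refine ⟨S.basicOpen b, ?_, hV₀.basicOpen b, ?_⟩
    · rw [hbo]
      exact ⟨hsV₀, hsa⟩
    · have : π ⁻¹ᵁ (S.basicOpen b) = X.basicOpen a := by
        rw [hbo]
        ext x
        constructor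
        · rintro ⟨-, h2⟩
          have : ε (π x) ∈ X.basicOpen a := h2
          rwa [hεπ] at this
        · intro hx
          refine ⟨haV hx, ?_⟩
          show ε (π x) ∈ X.basicOpen a
          rwa [hεπ]
      rw [this]
      exact hW.basicOpen a
  refine ⟨fun U hU => ?_⟩
  intro b
  -- the restriction iso
  have hUeq : ε ⁻¹ᵁ π ⁻¹ᵁ U = U := by
    show (ε ≫ π) ⁻¹ᵁ U = U
    rw [hε]; rfl
  have hcomp : π.app U ≫ ε.app (π ⁻¹ᵁ U) =
      S.presheaf.map (eqToHom hUeq).op := by
    rw [← Scheme.Hom.comp_app, Scheme.Hom.congr_app hε U, Scheme.Hom.id_app]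
    exact Category.id_comp _
  have hsurj : Function.Surjective (S.presheaf.map (eqToHom hUeq).op) :=
    (ConcreteCategory.bijective_of_isIso _).2
  obtain ⟨a', ha'⟩ := hsurj (ε.app (π ⁻¹ᵁ U) b)
  have hcomp' : ε.app (π ⁻¹ᵁ U) (π.app U a') = ε.app (π ⁻¹ᵁ U) b := by
    rw [← ha', ← hcomp]; rfl
  set n := b - π.app U a' with hn
  have hn0 : ε.app (π ⁻¹ᵁ U) n = 0 := by
    rw [hn, map_sub, hcomp', sub_self]
  have hbot : X.basicOpen n = ⊥ := by
    rw [eq_bot_iff]
    intro x hx
    have h1 : π x ∈ ε ⁻¹ᵁ (X.basicOpen n) := by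
      show ε (π x) ∈ X.basicOpen n
      rwa [hεπ]
    rw [Scheme.preimage_basicOpen, hn0, Scheme.basicOpen_zero] at h1
    exact h1
  have hcpt : IsCompact ((π ⁻¹ᵁ U : X.Opens) : Set X) :=
    (IsAffineHom.isAffine_preimage (f := π) U hU).isCompact
  have hnil : IsNilpotent n :=
    (Scheme.isNilpotent_iff_basicOpen_eq_bot_of_isCompact hcpt n).mpr hbot
  have hb : b = π.app U a' + n := by rw [hn]; ring
  rw [hb]
  apply RingHom.IsIntegralElem.add
  · exact RingHom.isIntegralElem_map _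
  · obtain ⟨k, hk⟩ := hnil
    exact ⟨Polynomial.X ^ k, Polynomial.monic_X_pow k, by simp [Polynomial.eval₂_pow, hk]⟩

/-- Let π : X → S be a morphism of schemes admitting a section ε (ε followed by π is the identity). If π
is injective on underlying points, then π is an integral morphism. -/
theorem result (X S : Scheme.{u}) (π : X ⟶ S) (ε : S ⟶ X) (hε : ε ≫ π = 𝟙 S)
    (hinj : Function.Injective π.base) : IsIntegralHom π := by
  exact aux X S π ε hε hinj

end Groth.Agent.S3043
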