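import Groth.Statements.S3058
import Mathlib
import Groth.Agent.Helper2.TF23
open Groth.Agent.Helper2 Groth.Agent.Helper2.TF1 Groth.Agent.Helper2.TF23
-- import your own Groth.Agent.* helpers here

set_option autoImplicit false
open CategoryTheory CategoryTheory.Limits Opposite
universe u
open ToposFin

namespace Groth.Agent.S3058

/-- For a topos of sheaves of sets on a small site: the coproduct of a small family of objects is
quasi-compact if and only if every member is quasi-compact and all but finitely many members are
initial (empty) objects. -/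
theorem result {C : Type u} [SmallCategory C] {J : GrothendieckTopology C} {ι : Type u}
    (F : ι → ToposFin.Sh J) :
    ToposFin.IsQC (∐ F) ↔ (∀ i, ToposFin.IsQC (F i)) ∧ {i | IsEmpty (F i ≅ ⊥_ (ToposFin.Sh J))}.Finite := by
  classical
  have hc := coproductIsCoproduct F
  have hljs : LJS F (Sigma.ι F) := cofan_ljs (Cofan.mk (∐ F) (Sigma.ι F)) hc
  have hmono : ∀ i, Mono ((Cofan.mk (∐ F) (Sigma.ι F)).inj i) := fun i => by
    change Mono (Sigma.ι F i)
    infer_instance
  constructor
  · intro h
    constructor
    · intro i
      have := hmono i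
      exact isQC_of_isQCHom _ (isQCHom_inj (Cofan.mk (∐ F) (Sigma.ι F)) hc i) h
    · obtain ⟨s, hs⟩ := (isQC_iff _).1 h ι F _ hljs
      refine Set.Finite.subset s.finite_toSet ?_
      intro j hj
      by_contra hjs
      apply hj.false
      apply Classical.choice
      rw [← isEmptyObj_iff]
      intro V y
      obtain ⟨T, hT, hx⟩ := hs V ((Sigma.ι F j).hom.app (op V) y)
      refine bot_mem_of_locally hT ?_
      intro W g hg
      obtain ⟨i, z, hz⟩ := hx g hg
      have hij : (i : ι) ≠ j := by
        rintro rfl
        exact hjs i.2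
      refine cofan_disjoint (Cofan.mk (∐ F) (Sigma.ι F)) hc hij z ((F j).obj.map g.op y) ?_
      change (Sigma.ι F i).hom.app (op W) z = (Sigma.ι F j).hom.app (op W) _
      rw [map_app_apply]
      exact hz
  · rintro ⟨hqc, hfin⟩
    have h1 := hljs.drop_empty {i | IsEmpty (F i ≅ ⊥_ (ToposFin.Sh J))} (fun i hi => by
      rw [isEmptyObj_iff]
      simp only [Set.mem_ofPred_eq, not_isEmpty_iff] at hi
      exact hi)
    have : Finite ↥{i | IsEmpty (F i ≅ ⊥_ (ToposFin.Sh J))} := hfin
    exact isQC_of_finite_ljs _ _ h1 (fun i => hqc i)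

end Groth.Agent.S3058
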