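import Groth.Statements.S3072
import Groth.Agent.Helper6.FPTopos3

set_option autoImplicit false
open CategoryTheory CategoryTheory.Limits Opposite
universe u
open ToposFin

namespace Groth.Agent.S3072

/-- For a topos of sheaves of sets on a small site admitting a generating family of coherent objects:
Hom(X, -) commutes with small filtered colimits if and only if X is a retract (image of an
idempotent) of the coequalizer of some pair of morphisms X_1 => X_0 with X_0 and X_1 coherent. -/
theorem result {C : Type u} [SmallCategory C] {J : GrothendieckTopology C} (hE : ToposFin.HasCoherentGenerators J)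
    (X : ToposFin.Sh J) :
    ToposFin.IsFP X ↔ ∃ (X₀ X₁ : ToposFin.Sh J) (a b : X₁ ⟶ X₀) (i : X ⟶ coequalizer a b)
      (p : coequalizer a b ⟶ X), ToposFin.IsCoherent X₀ ∧ ToposFin.IsCoherent X₁ ∧ i ≫ p = 𝟙 X := by
  constructor
  · intro hX
    exact Groth.Agent.Helper6.FPTopos.retract_of_isFP hE X hX
  · rintro ⟨X₀, X₁, a, b, i, p, h₀, h₁, hip⟩
    exact Groth.Agent.Helper6.FPTopos.isFP_of_retract hE X X₀ X₁ a b i p h₀ h₁ hip

end Groth.Agent.S3072
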