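import Groth.Statements.S3076
import Mathlib
import Groth.Agent.Helper2.TF10
open Groth.Agent.Helper2 Groth.Agent.Helper2.TF1 Groth.Agent.Helper2.TF10
-- import your own Groth.Agent.* helpers here

set_option autoImplicit false
open CategoryTheory CategoryTheory.Limits Opposite
universe u
open ToposFin

namespace Groth.Agent.S3076

/-- For a topos of sheaves of sets on a small site admitting a generating family of quasi-compact
objects: let g : Y -> Z and let (f_i : X_i -> Y) be a jointly epimorphic family of quasi-compact
morphisms. If every g o f_i is quasi-separated then g is quasi-separated; if moreover the family is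
finite and every g o f_i is coherent, then g is coherent. -/
theorem result {C : Type u} [SmallCategory C] {J : GrothendieckTopology C} (hE : ToposFin.HasQCGenerators J) {Y Z : ToposFin.Sh J}
    (g : Y ⟶ Z) :
    (∀ {ι : Type u} (X : ι → ToposFin.Sh J) (f : ∀ i, X i ⟶ Y), Epi (Sigma.desc f) →
      (∀ i, ToposFin.IsQCHom (f i)) → (∀ i, ToposFin.IsQSHom (f i ≫ g)) → ToposFin.IsQSHom g) ∧
    (∀ {n : ℕ} (X : Fin n → ToposFin.Sh J) (f : ∀ k, X k ⟶ Y), Epi (Sigma.desc f) →
      (∀ k, ToposFin.IsQCHom (f k)) → (∀ k, ToposFin.IsCohHom (f k ≫ g)) → ToposFin.IsCohHom g) := by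
  constructor
  · intro ι X f hf hqc hqs
    exact qs_of_cover_source hE g X f ((epi_sigma_iff_ljs f).1 hf) hqc hqs
  · intro n X f hf hqc hcoh
    have hf' := (epi_sigma_iff_ljs f).1 hf
    refine ⟨isQCHom_of_finite_cover g X f hf' (fun k => (hcoh k).1), ?_⟩
    refine qs_of_cover_source hE g (ι := ULift.{u} (Fin n)) (fun k => X k.down) (fun k => f k.down) ?_
      (fun k => hqc k.down) (fun k => (hcoh k.down).2)
    exact hf'.of_factor _ _ (fun k => ⟨ULift.up k, 𝟙 _, Category.id_comp _⟩)

end Groth.Agent.S3076
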