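import Groth.Statements.S3089
import Mathlib
-- import your own Groth.Agent.* helpers here

set_option autoImplicit false
universe u
open CategoryTheory
open CohSite

namespace Groth.Agent.S3089

open Opposite in
/-- For abelian sheaves on the topos of sheaves of sets on a small site: let F be an abelian sheaf which
is totally acyclic, i.e. H^q(X, F) = 0 for every sheaf of sets X and every q > 0, and let Y -> X be
a monomorphism of sheaves of sets. Then the restriction map H^0(X, F) -> H^0(Y, F) is surjective. -/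
theorem result {C : Type u} [SmallCategory C] {J : GrothendieckTopology C}
    (F : Sheaf J AddCommGrpCat.{u}) (hF : CohCx.IsTotallyAcyclic F) {Y X : Sheaf J (Type u)} (ι : Y ⟶ X) [Mono ι] :
    Function.Surjective ((CohCx.HK0Functor J F).map ι.op) := by
  classical
  let Φ : Sheaf J (Type u) ⥤ Sheaf J AddCommGrpCat.{u} :=
    Sheaf.composeAndSheafify J AddCommGrpCat.free.{u}
  let sq : Square (Sheaf J (Type u)) :=
    { X₁ := Y, X₂ := X, X₃ := X, X₄ := Limits.pushout ι ι, f₁₂ := ι, f₁₃ := ι
      f₂₄ := Limits.pushout.inl _ _, f₃₄ := Limits.pushout.inr _ _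
      fac := Limits.pushout.condition }
  have hsq : sq.IsPushout := (IsPushout.of_hasPushout ι ι)
  have hΦ : (sq.map Φ).IsPushout := hsq.map Φ
  haveI : Mono ((sheafToPresheaf J (Type u)).map ι) := inferInstance
  haveI hmono : Mono (Φ.map ι) := by
    dsimp only [Φ, Sheaf.composeAndSheafify, Functor.comp_map]
    infer_instance
  let S : ShortComplex (Sheaf J AddCommGrpCat.{u}) :=
    ShortComplex.mk (Limits.biprod.lift (Φ.map ι) (-(Φ.map ι)))
      (Limits.biprod.desc (Φ.map (Limits.pushout.inl ι ι)) (Φ.map (Limits.pushout.inr ι ι)))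
      (sq.map Φ).cokernelCofork.condition
  haveI : Mono S.f := by
    have : Mono (S.f ≫ Limits.biprod.fst) := by
      dsimp [S]
      simp only [Limits.biprod.lift_fst]
      infer_instance
    exact mono_of_mono _ Limits.biprod.fst
  have hcok : Limits.IsColimit (Limits.CokernelCofork.ofπ S.g S.zero) :=
    hΦ.isColimitCokernelCofork
  haveI : Epi S.g := (S.exact_and_epi_g_iff_g_is_cokernel.2 ⟨hcok⟩).2
  have hS : S.ShortExact := { exact := ShortComplex.exact_of_g_is_cokernel _ hcok }
  intro g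
  change (Φ.obj Y ⟶ F) at g
  haveI : Subsingleton (Abelian.Ext S.X₃ F 1) := hF (Limits.pushout ι ι) 0
  obtain ⟨x₂, hx₂⟩ := Abelian.Ext.contravariant_sequence_exact₁ hS F (Abelian.Ext.mk₀ g)
    (n₁ := 1) rfl (Subsingleton.elim _ _)
  obtain ⟨h, rfl⟩ := (Abelian.Ext.mk₀_bijective _ _).2 x₂
  rw [Abelian.Ext.mk₀_comp_mk₀] at hx₂
  have hx : S.f ≫ h = g := (Abelian.Ext.mk₀_bijective _ _).1 hx₂
  refine ⟨(Limits.biprod.inl ≫ h - Limits.biprod.inr ≫ h : Φ.obj X ⟶ F), ?_⟩
  change Φ.map ι ≫ (Limits.biprod.inl ≫ h - Limits.biprod.inr ≫ h) = g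
  rw [← hx]
  dsimp [S]
  rw [Preadditive.comp_sub]
  have h1 : h = Limits.biprod.desc (Limits.biprod.inl ≫ h) (Limits.biprod.inr ≫ h) := by
    apply Limits.biprod.hom_ext' <;> simp
  conv_rhs => rw [h1]
  rw [Limits.biprod.lift_desc]
  simp [sub_eq_add_neg]

end Groth.Agent.S3089
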