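import Groth.Statements.S3093
import Mathlib

set_option autoImplicit false
universe u
open CohTop

namespace Groth.Agent.S3093


private lemma sep_point_compact {X : Type u} [TopologicalSpace X] {a : X} {B' : Set X}
    (hB : IsCompact B')
    (h : ∀ b ∈ B', ∃ U V : Set X, IsOpen U ∧ IsOpen V ∧ a ∈ U ∧ b ∈ V ∧ Disjoint U V) :
    ∃ U V : Set X, IsOpen U ∧ IsOpen V ∧ a ∈ U ∧ B' ⊆ V ∧ Disjoint U V := by
  refine hB.induction_on (p := fun S => ∃ U V : Set X, IsOpen U ∧ IsOpen V ∧ a ∈ U ∧ S ⊆ V ∧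
    Disjoint U V) ?_ ?_ ?_ ?_
  · exact ⟨Set.univ, ∅, isOpen_univ, isOpen_empty, trivial, subset_rfl, Set.disjoint_empty _⟩
  · rintro S T hST ⟨U, V, hU, hV, ha, hT, hd⟩
    exact ⟨U, V, hU, hV, ha, hST.trans hT, hd⟩
  · rintro S T ⟨U, V, hU, hV, ha, hS, hd⟩ ⟨U2, V2, hU2, hV2, ha2, hT, hd2⟩
    refine ⟨U ∩ U2, V ∪ V2, hU.inter hU2, hV.union hV2, ⟨ha, ha2⟩,
      Set.union_subset_union hS hT, ?_⟩
    rw [Set.disjoint_union_right]
    exact ⟨hd.mono_left Set.inter_subset_left, hd2.mono_left Set.inter_subset_right⟩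
  · intro b hb
    obtain ⟨U, V, hU, hV, ha, hbV, hd⟩ := h b hb
    exact ⟨V, mem_nhdsWithin_of_mem_nhds (hV.mem_nhds hbV), U, V, hU, hV, ha, subset_rfl, hd⟩

private lemma sep_compact_compact {X : Type u} [TopologicalSpace X] {A' B' : Set X}
    (hA : IsCompact A') (hB : IsCompact B')
    (h : ∀ a ∈ A', ∀ b ∈ B', ∃ U V : Set X, IsOpen U ∧ IsOpen V ∧ a ∈ U ∧ b ∈ V ∧ Disjoint U V) :
    ∃ U V : Set X, IsOpen U ∧ IsOpen V ∧ A' ⊆ U ∧ B' ⊆ V ∧ Disjoint U V := by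
  refine hA.induction_on (p := fun S => ∃ U V : Set X, IsOpen U ∧ IsOpen V ∧ S ⊆ U ∧ B' ⊆ V ∧
    Disjoint U V) ?_ ?_ ?_ ?_
  · exact ⟨∅, Set.univ, isOpen_empty, isOpen_univ, subset_rfl, Set.subset_univ _,
      Set.empty_disjoint _⟩
  · rintro S T hST ⟨U, V, hU, hV, hT, hBV, hd⟩
    exact ⟨U, V, hU, hV, hST.trans hT, hBV, hd⟩
  · rintro S T ⟨U, V, hU, hV, hS, hBV, hd⟩ ⟨U2, V2, hU2, hV2, hT, hBV2, hd2⟩
    refine ⟨U ∪ U2, V ∩ V2, hU.union hU2, hV.inter hV2, Set.union_subset_union hS hT,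
      Set.subset_inter hBV hBV2, ?_⟩
    rw [Set.disjoint_union_left]
    exact ⟨hd.mono_right Set.inter_subset_left, hd2.mono_right Set.inter_subset_right⟩
  · intro a ha
    obtain ⟨U, V, hU, hV, haU, hBV, hd⟩ := sep_point_compact hB (h a ha)
    exact ⟨U, mem_nhdsWithin_of_mem_nhds (hU.mem_nhds haU), U, V, hU, hV, subset_rfl, hBV, hd⟩

/-- Let X be a topological space and K ⊆ X a compact subset such that any two distinct points of K have
disjoint open neighbourhoods in X. If A and B are subsets of K that are closed in K and W is an open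
subset of X containing A ∩ B, then there are open subsets U ⊇ A and V ⊇ B of X with U ∩ V ⊆ W. -/
theorem result {X : Type u} [TopologicalSpace X] {K : Set X} (hK : IsCompact K)
    (hsep : ∀ x ∈ K, ∀ y ∈ K, x ≠ y → ∃ U V : Set X, IsOpen U ∧ IsOpen V ∧ x ∈ U ∧ y ∈ V ∧ Disjoint U V)
    {A B W : Set X} (hA : A ⊆ K) (hB : B ⊆ K) (hAc : IsClosed (Subtype.val ⁻¹' A : Set K))
    (hBc : IsClosed (Subtype.val ⁻¹' B : Set K)) (hW : IsOpen W) (hABW : A ∩ B ⊆ W) :
    ∃ U V : Set X, IsOpen U ∧ IsOpen V ∧ A ⊆ U ∧ B ⊆ V ∧ U ∩ V ⊆ W := by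
  -- compactness of A \ W and B \ W
  have hcomp : ∀ S : Set X, S ⊆ K → IsClosed (Subtype.val ⁻¹' S : Set K) → IsCompact (S \ W) := by
    intro S hS hSc
    have : CompactSpace K := isCompact_iff_compactSpace.1 hK
    have h1 : IsCompact (Subtype.val ⁻¹' (S \ W) : Set K) := by
      have : IsClosed (Subtype.val ⁻¹' (S \ W) : Set K) := by
        rw [Set.preimage_sdiff]
        exact hSc.sdiff (hW.preimage continuous_subtype_val)
      exact this.isCompact
    have h2 : (Subtype.val '' (Subtype.val ⁻¹' (S \ W) : Set K)) = S \ W := by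
      rw [Subtype.image_preimage_coe]
      exact Set.inter_eq_right.2 (Set.sdiff_subset.trans hS)
    rw [← h2]
    exact h1.image continuous_subtype_val
  have hA' := hcomp A hA hAc
  have hB' := hcomp B hB hBc
  obtain ⟨U, V, hU, hV, hAU, hBV, hd⟩ := sep_compact_compact hA' hB' (by
    intro a ha b hb
    refine hsep a (hA ha.1) b (hB hb.1) ?_
    rintro rfl
    exact ha.2 (hABW ⟨ha.1, hb.1⟩))
  refine ⟨U ∪ W, V ∪ W, hU.union hW, hV.union hW, ?_, ?_, ?_⟩
  · intro a ha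
    by_cases haW : a ∈ W
    · exact Or.inr haW
    · exact Or.inl (hAU ⟨ha, haW⟩)
  · intro b hb
    by_cases hbW : b ∈ W
    · exact Or.inr hbW
    · exact Or.inl (hBV ⟨hb, hbW⟩)
  · rintro x ⟨hx1 | hx1, hx2 | hx2⟩
    · exact (Set.disjoint_left.1 hd hx1 hx2).elim
    · exact hx2
    · exact hx1
    · exact hx1

end Groth.Agent.S3093
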