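import Groth.Statements.S3140
import Groth.Agent.Helper1.RegSeqChain5

set_option autoImplicit false
universe u
open RingTheory.Sequence
open SGA4h

namespace Groth.Agent.S3140

/-- Let A be a Noetherian local ring and u, v two regular sequences of elements of A generating the same
ideal. Then there is a finite chain of regular sequences generating that same ideal, starting at u
and ending at v, in which each sequence is obtained from the previous one either by a permutation or
by changing only its last element. -/
theorem result (A : Type u) [CommRing A] [IsLocalRing A] [IsNoetherianRing A]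
    (u v : List A) (hu : IsRegular A u) (hv : IsRegular A v) (huv : Ideal.span {x | x ∈ u} = Ideal.span {x | x ∈ v}) :
    ∃ ws : List (List A), ws.head? = some u ∧ ws.getLast? = some v ∧
      (∀ w ∈ ws, IsRegular A w ∧ Ideal.span {x | x ∈ w} = Ideal.span {x | x ∈ u}) ∧
      List.IsChain (fun w w' : List A => w.Perm w' ∨ (w.length = w'.length ∧ w.dropLast = w'.dropLast)) ws := by
  classical
  open Groth.Agent.Helper1.RegSeqChain in
  have hI : Ideal.ofList u ≤ IsLocalRing.maximalIdeal A := by
    apply IsLocalRing.le_maximalIdeal
    intro htop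
    apply hu.top_ne_smul
    rw [htop, Submodule.top_smul]
  have hgu : Groth.Agent.Helper1.RegSeqChain.Good (Ideal.ofList u) u := ⟨hu.toIsWeaklyRegular, rfl⟩
  have hgv : Groth.Agent.Helper1.RegSeqChain.Good (Ideal.ofList u) v :=
    ⟨hv.toIsWeaklyRegular, huv.symm⟩
  have hreach := Groth.Agent.Helper1.RegSeqChain.reach_main u.length A (Ideal.ofList u) hI u v rfl
    hgu hgv
  obtain ⟨ws, hhead, hlast, hgood, hchain⟩ :=
    Groth.Agent.Helper1.RegSeqChain.exists_list_of_reflTransGen
      (Groth.Agent.Helper1.RegSeqChain.Good (Ideal.ofList u)) hreach hgu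
  refine ⟨ws, hhead, hlast, ?_, hchain⟩
  intro w hw
  obtain ⟨h1, h2⟩ := hgood w hw
  refine ⟨?_, h2⟩
  apply RingTheory.Sequence.IsRegular.of_isWeaklyRegular_of_mem_maximalIdeal (L := A) _ h1
  intro r hr
  exact hI (h2 ▸ Ideal.subset_span hr)

end Groth.Agent.S3140
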