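import Groth.Statements.S3143
import Groth.Agent.Helper6.HYTriple
import Groth.Agent.Helper6.TateLocE
import Groth.Agent.Helper6.TateLocB

set_option autoImplicit false
universe u
open CategoryTheory CategoryTheory.Limits AlgebraicGeometry Opposite
open EtDual

namespace Groth.Agent.S3143

/-- Let X be a Noetherian separated scheme, n a natural number invertible on X, c a natural number, Y ⊆
X a closed subset with open complement j : U → X, and Z ⊆ Y a closed subset of X with open
complement k' : X' → X, so that U ⊆ X' through an open immersion j' : U → X' with k' ∘ j' = j, and V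
= Y ∩ X' is closed in X' with complement U. If the local cohomology sheaves H^p_Z(ℤ/n) on X vanish
for all p ≤ 2c + 1, then H^{2c}_Y(X, ℤ/n(c)) and H^{2c}_V(X', ℤ/n(c)) are isomorphic. Only the
existence of an isomorphism is asserted; the published statement is that the restriction map is an
isomorphism (and that it is injective under vanishing for p ≤ 2c only). -/
theorem result {X X' U : Scheme.{u}} [IsNoetherian X] [X.IsSeparated]
    (n : ℕ) (hn : IsUnit (n : Γ(X, ⊤))) (c : ℕ)
    (j : U ⟶ X) [IsOpenImmersion j] (k' : X' ⟶ X) [IsOpenImmersion k'] (j' : U ⟶ X') [IsOpenImmersion j']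
    (hfac : j' ≫ k' = j) [EtCoh.BCCont j] [EtCoh.BCCont k'] [EtCoh.BCCont j']
    (hZ : ∀ p : ℕ, p ≤ 2 * c + 1 → IsZero ((EtDual.locCoh k' p).obj (EtCoh.const X (ZMod n)))) :
    Nonempty ((EtDual.HY j (2 * c)).obj (EtDual.tate X n c) ≅ (EtDual.HY j' (2 * c)).obj (EtDual.tate X' n c)) := by
  subst hfac
  have hT : ∀ p : ℕ, p ≤ 2 * c + 1 → IsZero ((EtDual.locCoh k' p).obj (EtDual.tate X n c)) :=
    fun p hp => Groth.Agent.Helper6.TateLocE.isZero_locCoh_tate k' n hn c p (hZ p hp)
  have hHY : ∀ p : ℕ, p ≤ 2 * c + 1 → IsZero ((EtDual.HY k' p).obj (EtDual.tate X n c)) := by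
    intro p hp
    obtain ⟨e⟩ := Groth.Agent.Helper6.TateLocE.nonempty_HY_iso_sections k' (EtDual.tate X n c) p
      (fun q hq => hT q (by omega))
    exact (Functor.map_isZero (sheafToPresheaf X.smallEtaleTopology AddCommGrpCat.{u + 1} ⋙
      (evaluation X.Etaleᵒᵖ AddCommGrpCat.{u + 1}).obj (Opposite.op (EtCoh.top X))) (hT p hp)).of_iso e
  obtain ⟨e⟩ := Groth.Agent.Helper6.HYTriple.nonempty_HY_iso j' k' (EtDual.tate X n c) (2 * c)
    (hHY (2 * c) (by omega)) (hHY (2 * c + 1) le_rfl)
  exact ⟨e ≪≫ (EtDual.HY j' (2 * c)).mapIso (Groth.Agent.Helper6.TateLocB.pullTateIso k' n c)⟩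

end Groth.Agent.S3143
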