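import Groth.Statements.S3208
import Mathlib

set_option autoImplicit false
open SGA7

namespace Groth.Agent.S3208

/-- Let E be a commutative ring which is finitely generated and torsion-free as an additive group, u an
element of E of finite multiplicative order (u^m = 1 for some m > 0), and n ≥ 2 an integer with u ≡
1 modulo nE (i.e. 1 - u = n·v for some v ∈ E). Then u² = 1, and if n ≥ 3 then u = 1. -/
theorem result (E : Type) [CommRing E] [NoZeroSMulDivisors ℤ E] [Module.Finite ℤ E] (u : E) (m : ℕ) (hm : 0 < m)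
    (hu : u ^ m = 1) (n : ℕ) (hn : 2 ≤ n) (hcong : ∃ v : E, 1 - u = (n : E) * v) :
    u ^ 2 = 1 ∧ (3 ≤ n → u = 1) := by
  classical
  open Polynomial in
  -- cancellation of integers
  have hcancel : ∀ (z : ℕ) (x : E), z ≠ 0 → (z : E) * x = 0 → x = 0 := by
    intro z x hz h
    have : (z : ℤ) • x = 0 := by rw [zsmul_eq_mul]; exact_mod_cast h
    exact (smul_eq_zero.mp this).resolve_left (by exact_mod_cast hz)
  -- Lemma A
  have lemA : ∀ (q : ℕ) (v w : E), 2 ≤ q → v = (q : E) * v * w → v = 0 := by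
    intro q v w hq hv
    have hpow : ∀ k : ℕ, v = (q : E) ^ k * (v * w ^ k) := by
      intro k
      induction k with
      | zero => simp
      | succ k ih =>
        calc v = (q : E) ^ k * (v * w ^ k) := ih
          _ = (q : E) ^ k * (((q : E) * v * w) * w ^ k) := by rw [← hv]
          _ = (q : E) ^ (k + 1) * (v * w ^ (k + 1)) := by ring
    have hI : (Ideal.span {(q : ℤ)}) ≠ ⊤ := by
      rw [Ne, Ideal.span_singleton_eq_top, Int.isUnit_iff]
      omega
    have hkr := Ideal.iInf_pow_smul_eq_bot_of_isTorsionFree (M := E) (Ideal.span {(q : ℤ)}) hI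
    have hmem : v ∈ (⨅ i : ℕ, (Ideal.span {(q : ℤ)}) ^ i • ⊤ : Submodule ℤ E) := by
      rw [Submodule.mem_iInf]
      intro k
      rw [Ideal.span_singleton_pow, hpow k]
      have : ((q : E)) ^ k * (v * w ^ k) = ((q : ℤ) ^ k) • (v * w ^ k) := by
        rw [zsmul_eq_mul]; push_cast; rfl
      rw [this]
      exact Submodule.smul_mem_smul (Ideal.mem_span_singleton_self _) trivial
    rw [hkr] at hmem
    exact hmem
  -- Lemma B
  have lemB : ∀ (ℓ n : ℕ) (v : E), ℓ.Prime → 3 ≤ n → (1 + (n : E) * v) ^ ℓ = 1 → v = 0 := by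
    intro ℓ n v hℓ hn hpow
    let P : ℤ[X] := (1 + X) ^ ℓ - 1
    have hP0 : P.coeff 0 = 0 := by
      simp only [P, coeff_sub, coeff_one_add_X_pow, Nat.choose_zero_right, coeff_one_zero]
      simp
    have hP1 : P.coeff 1 = (ℓ : ℤ) := by
      simp only [P, coeff_sub, coeff_one_add_X_pow, Nat.choose_one_right]
      simp [coeff_one]
    have hP2 : P.coeff 2 = (ℓ.choose 2 : ℤ) := by
      simp only [P, coeff_sub, coeff_one_add_X_pow]
      simp [coeff_one]
    have hPeq : P = C (ℓ : ℤ) * X + C (ℓ.choose 2 : ℤ) * X ^ 2 + X ^ 3 * P.divX.divX.divX := by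
      have h1 := X_mul_divX_add P
      have h2 := X_mul_divX_add P.divX
      have h3 := X_mul_divX_add P.divX.divX
      rw [coeff_divX, coeff_divX, hP2] at h3
      rw [coeff_divX, hP1] at h2
      rw [hP0] at h1
      conv_lhs => rw [← h1, ← h2, ← h3]
      simp only [map_zero, add_zero]
      ring
    have hev := congrArg (aeval ((n : E) * v)) hPeq
    simp only [P, map_sub, map_pow, map_add, map_one, aeval_X, map_mul, aeval_C, eq_intCast,
      Int.cast_natCast, map_natCast, map_intCast] at hev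
    rw [hpow, sub_self] at hev
    set p₃ := aeval ((n : E) * v) P.divX.divX.divX with hp₃
    set c2 : E := (ℓ.choose 2 : E) with hc2
    have hn0 : n ≠ 0 := by omega
    have e1 : (ℓ : E) * v + c2 * (n : E) * v ^ 2 + (n : E) ^ 2 * v ^ 3 * p₃ = 0 := by
      apply hcancel n _ hn0
      rw [hev]
      ring
    by_cases hdvd : ℓ ∣ n
    · obtain ⟨n', rfl⟩ := hdvd
      have hℓ0 : ℓ ≠ 0 := hℓ.ne_zero
      have e2 : v + c2 * (n' : E) * v ^ 2 + (ℓ : E) * (n' : E) ^ 2 * v ^ 3 * p₃ = 0 := by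
        apply hcancel ℓ _ hℓ0
        rw [← e1]
        push_cast
        ring
      by_cases hn' : 2 ≤ n'
      · apply lemA n' v (-(c2 * v) - (ℓ : E) * (n' : E) * v ^ 2 * p₃) hn'
        have : v = -(c2 * (n' : E) * v ^ 2 + (ℓ : E) * (n' : E) ^ 2 * v ^ 3 * p₃) := by
          rw [eq_neg_iff_add_eq_zero, ← e2]; ring
        conv_lhs => rw [this]
        ring
      · have hn'1 : n' = 1 := by
          rcases Nat.eq_zero_or_pos n' with h0 | hpos
          · subst h0; omega
          · omega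
        subst hn'1
        have hℓ3 : 3 ≤ ℓ := by omega
        have hodd : Odd ℓ := hℓ.eq_two_or_odd'.resolve_left (by omega)
        obtain ⟨t, ht⟩ := hodd
        have hc2' : c2 = (ℓ : E) * (t : E) := by
          rw [hc2, Nat.choose_two_right]
          have : ℓ * (ℓ - 1) / 2 = ℓ * t := by
            have : ℓ - 1 = 2 * t := by omega
            rw [this, ← mul_assoc, mul_comm ℓ 2, mul_assoc, Nat.mul_div_cancel_left _ (by norm_num)]
          rw [this]
          push_cast
          rfl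
        apply lemA ℓ v (-((t : E) * v) - v ^ 2 * p₃) (by omega)
        have : v = -(c2 * v ^ 2 + (ℓ : E) * v ^ 3 * p₃) := by
          rw [eq_neg_iff_add_eq_zero, ← e2]; push_cast; ring
        conv_lhs => rw [this, hc2']
        ring
    · have hcop : IsCoprime (ℓ : ℤ) (n : ℤ) :=
        Nat.isCoprime_iff_coprime.mpr ((Nat.Prime.coprime_iff_not_dvd hℓ).mpr hdvd)
      obtain ⟨a, b, hab⟩ := hcop
      have hab' : (a : E) * (ℓ : E) + (b : E) * (n : E) = 1 := by exact_mod_cast congrArg (Int.cast : ℤ → E) hab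
      apply lemA n v ((b : E) - (a : E) * c2 * v - (a : E) * (n : E) * v ^ 2 * p₃) (by omega)
      have h1 : (ℓ : E) * v = -(c2 * (n : E) * v ^ 2 + (n : E) ^ 2 * v ^ 3 * p₃) := by
        rw [eq_neg_iff_add_eq_zero, ← e1]; ring
      calc v = ((a : E) * (ℓ : E) + (b : E) * (n : E)) * v := by rw [hab', one_mul]
        _ = (a : E) * ((ℓ : E) * v) + (b : E) * (n : E) * v := by ring
        _ = (a : E) * (-(c2 * (n : E) * v ^ 2 + (n : E) ^ 2 * v ^ 3 * p₃)) + (b : E) * (n : E) * v := by rw [h1]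
        _ = _ := by ring
  -- powers stay congruent to one
  have hpowcong : ∀ (n : ℕ) (u : E), (∃ v : E, 1 - u = (n : E) * v) → ∀ j : ℕ, ∃ v : E, u ^ j = 1 + (n : E) * v := by
    intro n u ⟨v, hv⟩ j
    have hu' : u = 1 + (n : E) * (-v) := by rw [mul_neg, ← hv]; ring
    induction j with
    | zero => exact ⟨0, by simp⟩
    | succ j ih =>
      obtain ⟨w, hw⟩ := ih
      refine ⟨w + (-v) + (n : E) * w * (-v), ?_⟩
      rw [pow_succ, hw]
      conv_lhs => rw [hu']
      ring
  -- main claim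
  have claimC : ∀ (n : ℕ) (u : E), 3 ≤ n → (∃ m : ℕ, 0 < m ∧ u ^ m = 1) → (∃ v : E, 1 - u = (n : E) * v) → u = 1 := by
    intro n u hn ⟨m, hm, hum⟩ hc
    have hfin : IsOfFinOrder u := isOfFinOrder_iff_pow_eq_one.mpr ⟨m, hm, hum⟩
    have hd0 : orderOf u ≠ 0 := (orderOf_pos_iff.mpr hfin).ne'
    by_contra hne
    have hd1 : orderOf u ≠ 1 := fun h => hne (orderOf_eq_one_iff.mp h)
    obtain ⟨ℓ, hℓ, hℓd⟩ := Nat.exists_prime_and_dvd hd1
    have hord := orderOf_pow_orderOf_div hd0 hℓd
    obtain ⟨v', hv'⟩ := hpowcong n u hc (orderOf u / ℓ)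
    have hpow1 : (u ^ (orderOf u / ℓ)) ^ ℓ = 1 := by
      have h5 := pow_orderOf_eq_one (u ^ (orderOf u / ℓ))
      rwa [hord] at h5
    rw [hv'] at hpow1
    have hv0 := lemB ℓ n v' hℓ hn hpow1
    rw [hv0, mul_zero, add_zero] at hv'
    rw [hv', orderOf_one] at hord
    exact hℓ.one_lt.ne hord
  constructor
  · by_cases hn3 : 3 ≤ n
    · rw [claimC n u hn3 ⟨m, hm, hu⟩ hcong, one_pow]
    · have hn2 : n = 2 := by omega
      subst hn2
      obtain ⟨v, hv⟩ := hcong
      apply claimC 4 (u ^ 2) (by norm_num) ⟨m, hm, by rw [← pow_mul, mul_comm, pow_mul, hu, one_pow]⟩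
      refine ⟨v - v ^ 2, ?_⟩
      have hu' : u = 1 - (2 : E) * v := by
        have : ((2 : ℕ) : E) = 2 := by norm_num
        rw [← this, ← hv]; ring
      rw [hu']
      push_cast
      ring
  · intro hn3
    exact claimC n u hn3 ⟨m, hm, hu⟩ hcong

end Groth.Agent.S3208
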