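import Groth.Statements.S3209
import Mathlib
import Groth.Agent.Helper2.FibreProdBC
open TensorProduct Groth.Agent.Helper2.FibreProdBC
-- import your own Groth.Agent.* helpers here

set_option autoImplicit false
universe u
open TensorProduct
open SGA7

namespace Groth.Agent.S3209

/-- Let f : B' → B be a surjective map of R-algebras with kernel J, g : C → B a map of R-algebras, P =
B' ×_B C their fibre product (the equalizer of f ∘ pr₁ and g ∘ pr₂ in B' × C) and S an R-algebra
such that S ⊗_R J → S ⊗_R B' is injective (this holds when Tor_1^R(B, S) = 0, the published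
hypothesis, and in particular when S is flat). Then the canonical map S ⊗_R P → (S ⊗_R B') ×_{S ⊗_R
B} (S ⊗_R C) is bijective: it is injective, and every pair with the same image in S ⊗_R B comes from
S ⊗_R P. -/
theorem result (R B' B C S : Type u) [CommRing R] [CommRing B'] [CommRing B] [CommRing C]
    [CommRing S] [Algebra R B'] [Algebra R B] [Algebra R C] [Algebra R S]
    (f : B' →ₐ[R] B) (hf : Function.Surjective f) (g : C →ₐ[R] B)
    (hJ : Function.Injective (LinearMap.lTensor S (LinearMap.ker f.toLinearMap).subtype)) :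
    letI P := AlgHom.equalizer (f.comp (AlgHom.fst R B' C)) (g.comp (AlgHom.snd R B' C))
    letI φ₁ := Algebra.TensorProduct.map (AlgHom.id R S) ((AlgHom.fst R B' C).comp P.val)
    letI φ₂ := Algebra.TensorProduct.map (AlgHom.id R S) ((AlgHom.snd R B' C).comp P.val)
    Function.Injective (fun z : S ⊗[R] ↥P => (φ₁ z, φ₂ z)) ∧
    ∀ (x : S ⊗[R] B') (y : S ⊗[R] C),
      Algebra.TensorProduct.map (AlgHom.id R S) f x = Algebra.TensorProduct.map (AlgHom.id R S) g y →
        ∃ z : S ⊗[R] ↥P, φ₁ z = x ∧ φ₂ z = y := by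
  have hex : Function.Exact (LinearMap.lTensor S (ιJ f g)) (LinearMap.lTensor S (p₂ f g).toLinearMap) :=
    lTensor_exact S (exact_ιJ_p₂ f g) (p₂_surjective f g hf)
  have hexf : Function.Exact (LinearMap.lTensor S (LinearMap.ker f.toLinearMap).subtype)
      (LinearMap.lTensor S f.toLinearMap) :=
    lTensor_exact S (LinearMap.exact_subtype_ker_map f.toLinearMap) hf
  have h1 : ∀ w, LinearMap.lTensor S (p₁ f g).toLinearMap (LinearMap.lTensor S (ιJ f g) w)
      = LinearMap.lTensor S (LinearMap.ker f.toLinearMap).subtype w := by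
    intro w
    rw [← LinearMap.comp_apply, ← LinearMap.lTensor_comp, p₁_ιJ]
  have h2 : ∀ w, LinearMap.lTensor S (p₂ f g).toLinearMap (LinearMap.lTensor S (ιJ f g) w) = 0 := by
    intro w
    rw [← LinearMap.comp_apply, ← LinearMap.lTensor_comp, p₂_ιJ]
    simp
  have h3 : ∀ z, LinearMap.lTensor S f.toLinearMap (LinearMap.lTensor S (p₁ f g).toLinearMap z)
      = LinearMap.lTensor S g.toLinearMap (LinearMap.lTensor S (p₂ f g).toLinearMap z) := by
    intro z
    rw [← LinearMap.comp_apply, ← LinearMap.lTensor_comp, f_p₁, LinearMap.lTensor_comp,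
      LinearMap.comp_apply]
  refine ⟨?_, ?_⟩
  · intro a b hab
    have e1 : LinearMap.lTensor S (p₁ f g).toLinearMap (a - b) = 0 := by
      have := congrArg Prod.fst hab
      simp only [map_id_eq_lTensor] at this
      rw [map_sub, sub_eq_zero]
      exact this
    have e2 : LinearMap.lTensor S (p₂ f g).toLinearMap (a - b) = 0 := by
      have := congrArg Prod.snd hab
      simp only [map_id_eq_lTensor] at this
      rw [map_sub, sub_eq_zero]
      exact this
    obtain ⟨w, hw⟩ := (hex _).1 e2
    rw [← hw, h1] at e1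
    have hw0 : w = 0 := hJ (by rw [e1, map_zero])
    rw [hw0, map_zero] at hw
    exact sub_eq_zero.1 hw.symm
  · intro x y hxy
    rw [map_id_eq_lTensor, map_id_eq_lTensor] at hxy
    obtain ⟨z₀, hz₀⟩ := LinearMap.lTensor_surjective S (g := (p₂ f g).toLinearMap)
      (p₂_surjective f g hf) y
    have hx' : LinearMap.lTensor S f.toLinearMap (x - LinearMap.lTensor S (p₁ f g).toLinearMap z₀) = 0 := by
      rw [map_sub, h3, hz₀, hxy, sub_self]
    obtain ⟨w, hw⟩ := (hexf _).1 hx'
    refine ⟨z₀ + LinearMap.lTensor S (ιJ f g) w, ?_, ?_⟩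
    · rw [map_id_eq_lTensor, map_add, h1, hw]
      abel
    · rw [map_id_eq_lTensor, map_add, h2, hz₀, add_zero]

end Groth.Agent.S3209
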