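import Groth.Statements.S3211
import Mathlib
import Groth.Agent.Helper3.NeronGrpB

set_option autoImplicit false
universe u
open scoped TensorProduct
open CategoryTheory CategoryTheory.Limits AlgebraicGeometry MonObj
open SGA7

namespace Groth.Agent.S3211

/-- (i) ⟺ (iv): let R be a discrete valuation ring with fraction field K, A an abelian variety over K (a
proper, geometrically integral group scheme) and N a Néron model of A over Spec R. Then A extends to
an abelian scheme over R (a proper smooth group scheme with connected geometric fibres and generic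
fibre K-isomorphic to A) if and only if N is proper over Spec R. -/
theorem result (R : Type u) [CommRing R] [IsDomain R] [IsDiscreteValuationRing R]
    (A : Over (Spec (CommRingCat.of (FractionRing R)))) [GrpObj A] [IsProper A.hom] [GeometricallyIntegral A.hom]
    (N : Over (Spec (CommRingCat.of R))) (e : (Neron.genericFibre R).obj N ≅ A) (hN : Neron.IsNeronModelOf R N A e) :
    (∃ (B : Over (Spec (CommRingCat.of R))) (_ : GrpObj B), IsProper B.hom ∧ Smooth B.hom ∧
        (∀ (k' : Type u) [Field k'] (t : Spec (CommRingCat.of k') ⟶ Spec (CommRingCat.of R)), ConnectedSpace ↑(pullback B.hom t)) ∧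
        Nonempty ((Over.pullback (Spec.map (CommRingCat.ofHom (algebraMap R (FractionRing R))))).obj B ≅ A)) ↔ IsProper N.hom := by
  constructor
  · rintro ⟨B, _, hBp, hBs, -, ⟨θ⟩⟩
    exact Groth.Agent.Helper3.NeronGrpB.forward R A N e hN B hBp hBs θ
  · intro hp
    haveI := Groth.Agent.Helper3.NeronGrpB.geomConn R A N e hN hp
    refine ⟨N, Groth.Agent.Helper3.NeronGrpA.grpObj R A N e hN, hp, hN.1, ?_, ⟨e⟩⟩
    intro k' _ t
    exact GeometricallyConnected.geometrically_connectedSpace t (pullback.fst N.hom t)
      (pullback.snd N.hom t) (IsPullback.of_hasPullback _ _)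

end Groth.Agent.S3211
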