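import Groth.Statements.S3243
import Groth.Agent.Helper6.LerayLowB
import Groth.Agent.Helper6.LerayLowF
import Groth.Agent.S0101

set_option autoImplicit false
universe u
open CategoryTheory AlgebraicGeometry
open Dix

namespace Groth.Agent.S3243

/-- Let X be quasi-compact and quasi-separated, x a point of X and M a torsion-free abelian group, M_x
the constant sheaf on Spec κ(x). Then H¹(X_ét, i_{x*} M_x) = 0. -/
theorem result (X : Scheme.{u}) [CompactSpace X] [QuasiSeparatedSpace X] (x : X) (M : Type) [AddCommGroup M] [IsAddTorsionFree M] : Subsingleton (EtCoh.H X ((Dix.skyPush X x).obj (EtCoh.const (Spec (X.residueField x)) M)) 1) := by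
  have hpfl : Limits.PreservesFiniteLimits (EtCoh.pull (X.fromSpecResidueField x)) :=
    Groth.Agent.S0101.result _
  refine ⟨fun a b => ?_⟩
  apply Groth.Agent.Helper6.LerayLowB.HofPush_injective_one (X.fromSpecResidueField x)
  have h := @Groth.Agent.Helper6.LerayLowF.H1_const_eq_zero (X.residueField x) inferInstance M _ _
  exact (h (EtLim.HofPush (X.fromSpecResidueField x) _ 1 a)).trans
    (h (EtLim.HofPush (X.fromSpecResidueField x) _ 1 b)).symm

end Groth.Agent.S3243
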