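import Groth.Statements.S3244
import Mathlib
import Groth.Agent.S0108
import Groth.Agent.Helper8.ArtSchA

set_option autoImplicit false
universe u
open CategoryTheory AlgebraicGeometry
open Dix

namespace Groth.Agent.S3244


open CategoryTheory.Limits in
theorem H_map_nsmul {X : Scheme.{u}} {F : EtCoh.Ab X} (i n : ℕ) (ξ : EtCoh.H X F i) :
    Sheaf.H.map (n • 𝟙 F) i ξ = n • ξ := by
  induction n with
  | zero =>
    rw [zero_nsmul, zero_nsmul, Sheaf.H.map_apply, Abelian.Ext.mk₀_zero, Abelian.Ext.comp_zero]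
  | succ n ih =>
    rw [succ_nsmul, succ_nsmul, Sheaf.H.map_add_apply, ih, Sheaf.H.map_id_apply]

/-- Kummer theory at finite level: let n > 0 be an integer invertible on the scheme X (nonzero in every
residue field). Then for every i ≥ 1 the image of H^i(X_ét, μ_n) → H^i(X_ét, G_m), induced by the
inclusion μ_n → G_m, is exactly the subgroup of elements of H^i(X_ét, G_m) killed by n; in
particular H²(X_ét, μ_n) maps onto the n-torsion of the cohomological Brauer group H²(X_ét, G_m).
(The published statement gives exact sequences obtained as the colimit of these over the powers n =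
ℓ^m of a prime ℓ.) -/
theorem result (X : Scheme.{u}) (n : ℕ) (hn : 0 < n) (hX : Dix.InvertibleOn X n) (i : ℕ) (hi : 1 ≤ i) : Set.range ⇑((EtCoh.HF X i).map (EtCoh.muι X n)) = {ξ : (EtCoh.HF X i).obj (EtCoh.Gm X) | n • ξ = 0} := by
  classical
  have hu : IsUnit (n : Γ(X, ⊤)) := by
    apply Groth.Agent.Helper8.ArtSch.isUnit_of_basicOpen_eq_top
    rw [eq_top_iff]
    intro x _
    refine (X.evaluation_ne_zero_iff_mem_basicOpen (U := ⊤) x trivial _).mp ?_
    rw [map_natCast]
    exact hX x
  haveI : Epi (EtCoh.powMap X n) := Groth.Agent.S0108.result X n hu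
  let S : ShortComplex (EtCoh.Ab X) :=
    ShortComplex.mk (EtCoh.muι X n) (EtCoh.powMap X n) (Limits.kernel.condition _)
  have hS : S.ShortExact :=
    { exact := ShortComplex.exact_of_f_is_kernel _ (Limits.kernelIsKernel _)
      mono_f := by show Mono (Limits.kernel.ι _); infer_instance
      epi_g := by show Epi (EtCoh.powMap X n); infer_instance }
  ext ξ
  constructor
  · rintro ⟨y, rfl⟩
    show n • Sheaf.H.map (EtCoh.muι X n) i y = 0
    rw [← H_map_nsmul, ← Sheaf.H.map_comp_apply]
    have h0 : EtCoh.muι X n ≫ (n • 𝟙 (EtCoh.Gm X)) = 0 := Limits.kernel.condition (EtCoh.powMap X n)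
    rw [h0, Sheaf.H.map_apply, Abelian.Ext.mk₀_zero, Abelian.Ext.comp_zero]
  · intro h
    have h1 : n • ξ = 0 := h
    have h2 : Sheaf.H.map (EtCoh.powMap X n) i ξ = 0 := by
      show Sheaf.H.map (n • 𝟙 (EtCoh.Gm X)) i ξ = 0
      rw [H_map_nsmul]
      exact h1
    obtain ⟨x₁, hx₁⟩ := Abelian.Ext.covariant_sequence_exact₂ _ hS (n := i) ξ h2
    exact ⟨x₁, hx₁⟩

end Groth.Agent.S3244
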