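import Groth.Statements.S3246
import Mathlib
import Groth.Agent.S3244
import Groth.Agent.Helper8.EtLES

set_option autoImplicit false
universe u
open CategoryTheory AlgebraicGeometry
open Dix

namespace Groth.Agent.S3246

/-- Let X be a scheme, ℓ a prime and n an integer with cd_ℓ(X) ≤ n (étale cohomology of ℓ-primary
torsion sheaves vanishes above degree n). Then the ℓ-primary torsion of H^i(X_ét, G_m) is zero for i
> n + 1; if moreover ℓ is invertible on X, it is zero for i > n. -/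
theorem result (X : Scheme.{u}) (ℓ : ℕ) (hℓ : ℓ.Prime) (n : ℕ) (hcd : Dix.CohDimLEAt X ℓ n) : (∀ i : ℕ, n + 1 < i → ∀ ξ : EtCoh.H X (EtCoh.Gm X) i, (∃ k : ℕ, ℓ ^ k • ξ = 0) → ξ = 0) ∧ (Dix.InvertibleOn X ℓ → ∀ i : ℕ, n < i → ∀ ξ : EtCoh.H X (EtCoh.Gm X) i, (∃ k : ℕ, ℓ ^ k • ξ = 0) → ξ = 0) := by
  classical
  have hvan : ∀ k : ℕ, ∀ G : EtCoh.Ab X, (ℓ ^ k) • 𝟙 G = 0 → ∀ q : ℕ, n < q →
      Subsingleton (EtCoh.H X G q) := fun k G hG q hq =>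
    hcd G (Groth.Agent.Helper8.EtLES.isPrimaryTorsion_of_nsmul_eq_zero G ℓ k hG) q hq
  refine ⟨?_, ?_⟩
  · rintro i hi ξ ⟨k, hk⟩
    exact Groth.Agent.Helper8.EtLES.eq_zero_of_nsmul_eq_zero (EtCoh.Gm X) (ℓ ^ k) n (hvan k) i hi ξ hk
  · rintro hinv i hi ξ ⟨k, hk⟩
    have hinv' : Dix.InvertibleOn X (ℓ ^ k) := by
      intro x
      rw [Nat.cast_pow]
      exact pow_ne_zero k (hinv x)
    have h1 := Groth.Agent.S3244.result X (ℓ ^ k) (pow_pos hℓ.pos k) hinv' i (by omega)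
    have h2 : ξ ∈ {ξ : (EtCoh.HF X i).obj (EtCoh.Gm X) | (ℓ ^ k) • ξ = 0} := hk
    rw [← h1] at h2
    obtain ⟨y, rfl⟩ := h2
    haveI : Mono (EtCoh.muι X (ℓ ^ k)) := by
      show Mono (Limits.kernel.ι (EtCoh.powMap X (ℓ ^ k)))
      infer_instance
    have hmu : (ℓ ^ k) • 𝟙 (EtCoh.mu X (ℓ ^ k)) = 0 := by
      rw [← cancel_mono (EtCoh.muι X (ℓ ^ k)), Limits.zero_comp, Preadditive.nsmul_comp,
        Category.id_comp]
      have h3 : EtCoh.muι X (ℓ ^ k) ≫ ((ℓ ^ k) • 𝟙 (EtCoh.Gm X)) = 0 :=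
        Limits.kernel.condition (EtCoh.powMap X (ℓ ^ k))
      rw [Preadditive.comp_nsmul, Category.comp_id] at h3
      exact h3
    haveI : Subsingleton (EtCoh.H X (EtCoh.mu X (ℓ ^ k)) i) := hvan k _ hmu i hi
    have h4 : y = 0 := Subsingleton.elim (α := EtCoh.H X (EtCoh.mu X (ℓ ^ k)) i) _ _
    rw [h4]
    exact map_zero _

end Groth.Agent.S3246
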