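import Groth.Statements.S3248
import Groth.Agent.Helper5.CSA2

set_option autoImplicit false
universe u
open TensorProduct
open Dix

namespace Groth.Agent.S3248

/-- Stated for a commutative subalgebra: let A be a central simple algebra of dimension r² over a field
k and L a commutative k-algebra embedded in A by an injective k-algebra homomorphism ι, such that A
is free of rank r for the right L-module structure a · l = a ι(l) (given here as a module structure
together with that compatibility). Then L ⊗_k A is isomorphic as an L-algebra to the matrix algebra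
M_r(L). (Only the existence of an isomorphism is stated; the text names the map a ⊗ l ↦ (y ↦ a y
l).) -/
theorem result (k : Type u) [Field k] (A : Type u) [Ring A] [Algebra k A] [Algebra.IsCentral k A] [IsSimpleRing A] [FiniteDimensional k A] (L : Type u) [CommRing L] [Algebra k L] (ι : L →ₐ[k] A) (hι : Function.Injective ι) [Module L A] (hmod : ∀ (l : L) (a : A), l • a = a * ι l) [Module.Free L A] (r : ℕ) (hr : 0 < r) (hA : Module.finrank k A = r ^ 2) (hrank : Module.finrank L A = r) : Nonempty ((L ⊗[k] A) ≃ₐ[L] Matrix (Fin r) (Fin r) L) := by
  classical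
  have tower : IsScalarTower k L A :=
    ⟨fun c l a => by rw [hmod, hmod, map_smul, mul_smul_comm]⟩
  have comm1 : SMulCommClass L k A :=
    ⟨fun l c a => by rw [hmod, hmod, smul_mul_assoc]⟩
  have comm2 : SMulCommClass k L A := comm1.symm
  haveI : Nontrivial A := inferInstance
  haveI : Nontrivial L := by
    by_contra h
    rw [not_nontrivial_iff_subsingleton] at h
    exact not_subsingleton A (Module.subsingleton L A)
  have finLA : Module.Finite L A := Module.finite_of_finrank_pos (by rw [hrank]; exact hr)
  have finkL : Module.Finite k L := Module.Finite.of_injective ι.toLinearMap hι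
  -- left multiplication as an algebra hom into End_L(A)
  let g : A →ₐ[k] Module.End L A :=
    { toFun := fun a =>
        { toFun := fun y => a * y
          map_add' := fun y z => mul_add a y z
          map_smul' := fun l y => by
            simp only [RingHom.id_apply]
            rw [hmod, hmod, mul_assoc] }
      map_one' := by ext y; simp
      map_mul' := fun a b => by ext y; simp [mul_assoc]
      map_zero' := by ext y; simp
      map_add' := fun a b => by ext y; simp [add_mul]
      commutes' := fun c => by
        ext y
        simp [Algebra.algebraMap_eq_smul_one] }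
  have hg : ∀ a y, g a y = a * y := fun a y => rfl
  let φ : L ⊗[k] A →ₐ[L] Module.End L A := AlgHom.liftEquiv k L A (Module.End L A) g
  have hφ : ∀ l a y, φ (l ⊗ₜ[k] a) y = a * y * ι l := by
    intro l a y
    show (AlgHom.liftEquiv k L A (Module.End L A) g (l ⊗ₜ[k] a)) y = _
    rw [AlgHom.liftEquiv_tmul, LinearMap.smul_apply, hg, hmod]
  -- comparison with mulLeftRight
  let ψ₀ : L →ₗ[k] Aᵐᵒᵖ := (MulOpposite.opLinearEquiv k (M := A)).toLinearMap ∘ₗ ι.toLinearMap
  have hψ₀ : Function.Injective ψ₀ := (MulOpposite.opLinearEquiv k (M := A)).injective.comp hι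
  let ψ : L ⊗[k] A →ₗ[k] A ⊗[k] Aᵐᵒᵖ :=
    (LinearMap.lTensor A ψ₀) ∘ₗ (TensorProduct.comm k L A).toLinearMap
  have hψinj : Function.Injective ψ := by
    have h1 : Function.Injective (LinearMap.lTensor A ψ₀) :=
      Module.Flat.lTensor_preserves_injective_linearMap ψ₀ hψ₀
    exact h1.comp (TensorProduct.comm k L A).injective
  have hcomp : ∀ x : L ⊗[k] A, ∀ y : A,
      AlgHom.mulLeftRight k A (ψ x) y = φ x y := by
    intro x y
    induction x using TensorProduct.induction_on with
    | zero => simp
    | tmul l a =>
      rw [hφ]
      simp [ψ, ψ₀, AlgHom.mulLeftRight_apply]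
    | add x₁ x₂ h₁ h₂ =>
      rw [map_add, map_add, map_add, LinearMap.add_apply, LinearMap.add_apply, h₁, h₂]
  have hinj : Function.Injective φ := by
    rw [injective_iff_map_eq_zero]
    intro x hx
    apply hψinj
    rw [map_zero]
    apply (Groth.Agent.Helper5.CSA.mulLeftRight_bijective k A).1
    rw [map_zero]
    ext y
    rw [hcomp, hx]
    simp
  -- dimension count
  haveI : Module.Finite k (Module.End L A) := Module.Finite.trans L _
  have hdim : Module.finrank k (L ⊗[k] A) = Module.finrank k (Module.End L A) := by
    rw [Module.finrank_tensorProduct, ← Module.finrank_mul_finrank k L (Module.End L A),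
      Module.finrank_linearMap, hrank, hA, pow_two]
  have hsurj : Function.Surjective φ :=
    (LinearMap.injective_iff_surjective_of_finrank_eq_finrank
      (f := φ.toLinearMap.restrictScalars k) hdim).1 hinj
  let b : Module.Basis (Fin r) L A := Module.finBasisOfFinrankEq L A hrank
  exact ⟨(AlgEquiv.ofBijective φ ⟨hinj, hsurj⟩).trans (algEquivMatrix b)⟩

end Groth.Agent.S3248
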