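import Groth.Statements.S3291
import Mathlib

set_option autoImplicit false
universe u
open Finset
open LambdaRing

namespace Groth.Agent.S3291

section aux
open LambdaRing
variable {K : Type u} [CommRing K] [LambdaRing.LambdaOps K] (P : LambdaRing.PosStructure K)

/-- the generating set of the `n`-th step of the filtration -/
def gens (n : ℕ) : Set K :=
  {y | ∃ (l : List (ℕ × K)), (∀ p ∈ l, P.aug p.2 = 0) ∧ n ≤ (l.map Prod.fst).sum ∧
        y = (l.map fun p => gamma p.1 p.2).prod}

lemma filt_succ (n : ℕ) (hn : n ≠ 0) : gammaFiltration P n = AddSubgroup.closure (gens P n) := by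
  unfold gammaFiltration gens
  rw [if_neg hn]

lemma gamma_one (x : K) : gamma 1 x = x := by
  unfold gamma
  rw [if_neg one_ne_zero]
  rw [Finset.sum_range_succ, Finset.sum_range_one]
  simp [LambdaOps.lam_one]

lemma mul_gens (n : ℕ) (a : K) (ha : P.aug a = 0) (y : K) (hy : y ∈ gens P n) :
    a * y ∈ gens P n := by
  obtain ⟨l, hl1, hl2, rfl⟩ := hy
  refine ⟨(1, a) :: l, ?_, ?_, ?_⟩
  · intro p hp
    rcases List.mem_cons.1 hp with rfl | hp
    · exact ha
    · exact hl1 p hp
  · simp only [List.map_cons, List.sum_cons]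
    omega
  · simp only [List.map_cons, List.prod_cons, gamma_one]

lemma gens_mul_gens (m n : ℕ) (x y : K) (hx : x ∈ gens P m) (hy : y ∈ gens P n) :
    x * y ∈ gens P (m + n) := by
  obtain ⟨l, hl1, hl2, rfl⟩ := hx
  obtain ⟨l', hl1', hl2', rfl⟩ := hy
  refine ⟨l ++ l', ?_, ?_, ?_⟩
  · intro p hp
    rcases List.mem_append.1 hp with hp | hp
    · exact hl1 p hp
    · exact hl1' p hp
  · simp only [List.map_append, List.sum_append]
    omega
  · simp only [List.map_append, List.prod_append]

lemma ideal_prop (n : ℕ) (a x : K) (hx : x ∈ gammaFiltration P n) :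
    a * x ∈ gammaFiltration P n := by
  by_cases hn : n = 0
  · subst hn
    unfold gammaFiltration
    rw [if_pos rfl]
    trivial
  · rw [filt_succ P n hn] at hx ⊢
    -- decompose a = (a - ε a) + ε a
    have ha : a = (a - ((P.aug a : ℤ) : K)) + ((P.aug a : ℤ) : K) := by ring
    have haug : P.aug (a - ((P.aug a : ℤ) : K)) = 0 := by
      rw [map_sub, map_intCast]; simp
    induction hx using AddSubgroup.closure_induction with
    | mem y hy =>
      rw [ha, add_mul]
      apply AddSubgroup.add_mem
      · exact AddSubgroup.subset_closure (mul_gens P n _ haug y hy)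
      · rw [← zsmul_eq_mul]
        exact AddSubgroup.zsmul_mem _ (AddSubgroup.subset_closure hy) _
    | zero => rw [mul_zero]; exact AddSubgroup.zero_mem _
    | add y z _ _ hy hz => rw [mul_add]; exact AddSubgroup.add_mem _ hy hz
    | neg y _ hy => rw [mul_neg]; exact AddSubgroup.neg_mem _ hy

end aux

/-- The γ-filtration F^n K of a λ-ring with positive structure (F^0 = K, F^n for n ≥ 1 generated
additively by products γ^(r₁)(x₁)⋯γ^(r_k)(x_k) with ε(x_i) = 0 and Σ r_i ≥ n) consists of ideals,
and F^m · F^n ⊆ F^(m+n). -/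
theorem result (K : Type u) [CommRing K] [LambdaRing.LambdaOps K] (P : LambdaRing.PosStructure K) :
    (∀ (n : ℕ) (a x : K), x ∈ LambdaRing.gammaFiltration P n → a * x ∈ LambdaRing.gammaFiltration P n) ∧
    ∀ (m n : ℕ) (x y : K), x ∈ LambdaRing.gammaFiltration P m → y ∈ LambdaRing.gammaFiltration P n →
      x * y ∈ LambdaRing.gammaFiltration P (m + n) := by
  refine ⟨fun n a x hx => ideal_prop P n a x hx, ?_⟩
  intro m n x y hx hy
  by_cases hm : m = 0
  · subst hm
    rw [zero_add]
    exact ideal_prop P n x y hy
  by_cases hn : n = 0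
  · subst hn
    rw [add_zero, mul_comm]
    exact ideal_prop P m y x hx
  have hmn : m + n ≠ 0 := by omega
  rw [filt_succ P m hm] at hx
  rw [filt_succ P n hn] at hy
  rw [filt_succ P (m + n) hmn]
  induction hx using AddSubgroup.closure_induction with
  | mem x hx =>
    induction hy using AddSubgroup.closure_induction with
    | mem y hy => exact AddSubgroup.subset_closure (gens_mul_gens P m n x y hx hy)
    | zero => rw [mul_zero]; exact AddSubgroup.zero_mem _
    | add y z _ _ hy hz => rw [mul_add]; exact AddSubgroup.add_mem _ hy hz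
    | neg y _ hy => rw [mul_neg]; exact AddSubgroup.neg_mem _ hy
  | zero => rw [zero_mul]; exact AddSubgroup.zero_mem _
  | add x z _ _ hx hz => rw [add_mul]; exact AddSubgroup.add_mem _ hx hz
  | neg x _ hx => rw [neg_mul]; exact AddSubgroup.neg_mem _ hx

end Groth.Agent.S3291
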