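import Groth.Statements.S3350
import Mathlib
import Groth.Agent.Helper1.Models

set_option autoImplicit false
open Finset
open Models Models.NumericalType

namespace Groth.Agent.S3350

/-- Classification of proper subgraphs with two vertices: Let T be a numerical type on n > 2 indices and
i ≠ j two (-2)-indices (g = 0 and a_ii = -2 w_i, a_jj = -2 w_j) with a_ij > 0. Then, after possibly
exchanging i and j, one of the following holds with w = w_i: (A2) w_j = w, a_ij = w, 2 m_i ≥ m_j and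
2 m_j ≥ m_i; (B2) w_j = 2w, a_ij = 2w, m_i ≥ m_j and 2 m_j ≥ m_i; (G2) w_j = 3w, a_ij = 3w, 2 m_i ≥
3 m_j and 2 m_j ≥ m_i. -/
theorem result {n : ℕ} (T : Models.NumericalType n) (hn : 2 < n) (i j : Fin n)
    (hij : i ≠ j) (hi : T.IsMinusTwo i) (hj : T.IsMinusTwo j) (hpos : 0 < T.a i j) :
    ∃ i' j' : Fin n, ((i' = i ∧ j' = j) ∨ (i' = j ∧ j' = i)) ∧
      ((T.w j' = T.w i' ∧ T.a i' j' = T.w i' ∧ T.m j' ≤ 2 * T.m i' ∧ T.m i' ≤ 2 * T.m j') ∨
        (T.w j' = 2 * T.w i' ∧ T.a i' j' = 2 * T.w i' ∧ T.m j' ≤ T.m i' ∧ T.m i' ≤ 2 * T.m j') ∨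
        (T.w j' = 3 * T.w i' ∧ T.a i' j' = 3 * T.w i' ∧ 3 * T.m j' ≤ 2 * T.m i' ∧ T.m i' ≤ 2 * T.m j')) := by
  classical
  obtain ⟨hgi, hai⟩ := hi
  obtain ⟨hgj, haj⟩ := hj
  have hsymm : T.a j i = T.a i j := Matrix.IsSymm.apply T.symm i j
  have hmi := T.m_pos i
  have hmj := T.m_pos j
  have hwi := T.w_pos i
  have hwj := T.w_pos j
  -- split a row sum
  have hsplit : ∀ (x y : Fin n), x ≠ y →
      T.a x x * T.m x + T.a x y * T.m y + ∑ k ∈ (univ.erase x).erase y, T.a x k * T.m k = 0 := by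
    intro x y hxy
    have h := Groth.Agent.Helper1.Models.row_sum T x
    rw [← Finset.add_sum_erase univ _ (Finset.mem_univ x),
      ← Finset.add_sum_erase (univ.erase x) _ (Finset.mem_erase.2 ⟨hxy.symm, Finset.mem_univ y⟩)] at h
    linarith
  have hrest_nonneg : ∀ (x y : Fin n), 0 ≤ ∑ k ∈ (univ.erase x).erase y, T.a x k * T.m k := by
    intro x y
    apply Finset.sum_nonneg
    intro k hk
    have hkx : k ≠ x := Finset.ne_of_mem_erase (Finset.mem_of_mem_erase hk)
    exact mul_nonneg (T.offDiag_nonneg x k hkx.symm) (T.m_pos k).le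
  have hrest_zero : ∀ (x y : Fin n), ∑ k ∈ (univ.erase x).erase y, T.a x k * T.m k = 0 →
      ∀ k, k ≠ x → k ≠ y → T.a x k = 0 := by
    intro x y h0 k hkx hky
    have hterm := (Finset.sum_eq_zero_iff_of_nonneg (fun k hk => by
      have hkx : k ≠ x := Finset.ne_of_mem_erase (Finset.mem_of_mem_erase hk)
      exact mul_nonneg (T.offDiag_nonneg x k hkx.symm) (T.m_pos k).le)).1 h0 k
      (Finset.mem_erase.2 ⟨hky, Finset.mem_erase.2 ⟨hkx, Finset.mem_univ k⟩⟩)
    rcases mul_eq_zero.1 hterm with h | h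
    · exact h
    · exact absurd h (T.m_pos k).ne'
  have hi_row := hsplit i j hij
  have hj_row := hsplit j i hij.symm
  have hRi := hrest_nonneg i j
  have hRj := hrest_nonneg j i
  obtain ⟨P, hP⟩ := T.w_dvd i j
  obtain ⟨Q, hQ⟩ := T.w_dvd j i
  rw [hsymm] at hQ hj_row
  have hPpos : 0 < P := by
    by_contra hc
    have : T.w i * P ≤ 0 := mul_nonpos_of_nonneg_of_nonpos hwi.le (not_lt.1 hc)
    linarith
  have hQpos : 0 < Q := by
    by_contra hc
    have : T.w j * Q ≤ 0 := mul_nonpos_of_nonneg_of_nonpos hwj.le (not_lt.1 hc)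
    linarith
  -- inequalities
  have h1 : P * T.m j ≤ 2 * T.m i := by
    have : T.w i * (P * T.m j) ≤ T.w i * (2 * T.m i) := by
      have e1 : T.w i * (P * T.m j) = T.a i j * T.m j := by rw [hP]; ring
      rw [e1, hai] at *
      nlinarith
    exact le_of_mul_le_mul_left this hwi
  have h2 : Q * T.m i ≤ 2 * T.m j := by
    have : T.w j * (Q * T.m i) ≤ T.w j * (2 * T.m j) := by
      have e1 : T.w j * (Q * T.m i) = T.a i j * T.m i := by rw [hQ]; ring
      rw [e1, haj] at *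
      nlinarith
    exact le_of_mul_le_mul_left this hwj
  have hmm : 0 < T.m i * T.m j := mul_pos hmi hmj
  have hPQ4 : P * Q ≤ 4 := by
    by_contra hc
    have hc' : 5 ≤ P * Q := by omega
    have h3 : (P * T.m j) * (Q * T.m i) ≤ (2 * T.m i) * (2 * T.m j) :=
      mul_le_mul h1 h2 (mul_nonneg hQpos.le hmi.le) (by positivity)
    nlinarith
  have hPQ3 : P * Q ≤ 3 := by
    by_contra hc
    have hPQ : P * Q = 4 := by omega
    -- equalities hold
    have e1 : P * T.m j = 2 * T.m i := by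
      by_contra hne
      have hlt : P * T.m j < 2 * T.m i := lt_of_le_of_ne h1 hne
      have h3 : (P * T.m j) * (Q * T.m i) < (2 * T.m i) * (2 * T.m j) := by
        calc (P * T.m j) * (Q * T.m i) < (2 * T.m i) * (Q * T.m i) :=
              mul_lt_mul_of_pos_right hlt (mul_pos hQpos hmi)
          _ ≤ (2 * T.m i) * (2 * T.m j) := mul_le_mul_of_nonneg_left h2 (by positivity)
      have : (P * T.m j) * (Q * T.m i) = (P * Q) * (T.m i * T.m j) := by ring
      rw [this, hPQ] at h3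
      nlinarith
    have e2 : Q * T.m i = 2 * T.m j := by
      by_contra hne
      have hlt : Q * T.m i < 2 * T.m j := lt_of_le_of_ne h2 hne
      have h3 : (P * T.m j) * (Q * T.m i) < (2 * T.m i) * (2 * T.m j) := by
        calc (P * T.m j) * (Q * T.m i) < (P * T.m j) * (2 * T.m j) :=
              mul_lt_mul_of_pos_left hlt (mul_pos hPpos hmj)
          _ ≤ (2 * T.m i) * (2 * T.m j) := mul_le_mul_of_nonneg_right h1 (by positivity)
      have : (P * T.m j) * (Q * T.m i) = (P * Q) * (T.m i * T.m j) := by ring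
      rw [this, hPQ] at h3
      nlinarith
    have hRi0 : ∑ k ∈ (univ.erase i).erase j, T.a i k * T.m k = 0 := by
      have e3 : T.a i j * T.m j = T.w i * (P * T.m j) := by rw [hP]; ring
      rw [e3, e1, hai] at hi_row
      linarith
    have hRj0 : ∑ k ∈ (univ.erase j).erase i, T.a j k * T.m k = 0 := by
      have e3 : T.a i j * T.m i = T.w j * (Q * T.m i) := by rw [hQ]; ring
      rw [e3, e2, haj] at hj_row
      linarith
    have hzi := hrest_zero i j hRi0
    have hzj := hrest_zero j i hRj0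
    have hne : ({i, j} : Finset (Fin n)) ≠ univ := by
      intro hu
      have := congrArg Finset.card hu
      rw [Finset.card_pair hij, Finset.card_univ, Fintype.card_fin] at this
      omega
    obtain ⟨i', hi', j', hj', hne'⟩ := T.connected {i, j} ⟨i, by simp⟩ hne
    simp only [Finset.mem_insert, Finset.mem_singleton, not_or] at hi' hj'
    rcases hi' with rfl | rfl
    · exact hne' (hzi j' hj'.1 hj'.2)
    · exact hne' (hzj j' hj'.2 hj'.1)
  have hP3 : P ≤ 3 := by nlinarith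
  have hQ3 : Q ≤ 3 := by nlinarith
  have hP1 : 1 ≤ P := hPpos
  have hQ1 : 1 ≤ Q := hQpos
  have hwPQ : T.w i * P = T.w j * Q := by rw [← hP, ← hQ]
  interval_cases P <;> interval_cases Q
  · -- (1,1)
    refine ⟨i, j, Or.inl ⟨rfl, rfl⟩, Or.inl ⟨?_, ?_, ?_, ?_⟩⟩ <;> linarith
  · -- (1,2)
    refine ⟨j, i, Or.inr ⟨rfl, rfl⟩, Or.inr (Or.inl ⟨?_, ?_, ?_, ?_⟩)⟩ <;> linarith
  · -- (1,3)
    refine ⟨j, i, Or.inr ⟨rfl, rfl⟩, Or.inr (Or.inr ⟨?_, ?_, ?_, ?_⟩)⟩ <;> linarith
  · -- (2,1)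
    refine ⟨i, j, Or.inl ⟨rfl, rfl⟩, Or.inr (Or.inl ⟨?_, ?_, ?_, ?_⟩)⟩ <;> linarith
  · exact absurd hPQ3 (by norm_num)
  · exact absurd hPQ3 (by norm_num)
  · -- (3,1)
    refine ⟨i, j, Or.inl ⟨rfl, rfl⟩, Or.inr (Or.inr ⟨?_, ?_, ?_, ?_⟩)⟩ <;> linarith
  · exact absurd hPQ3 (by norm_num)
  · exact absurd hPQ3 (by norm_num)

end Groth.Agent.S3350
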