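import Groth.Statements.S3351
import Groth.Agent.Helper1.Lattice

set_option autoImplicit false
open Models

namespace Groth.Agent.S3351

/-- Let L be a finite free Z-module with a positive definite symmetric integral bilinear form, A ⊆ L a
submodule with L/A torsion free and B the orthogonal complement of A. Write M^# for the dual lattice
of a sublattice M, identified here with the Z-dual Hom(M, Z) through the form. Then the natural maps
L/(A ⊕ B) → B^#/B and L/(A ⊕ B) → A^#/A are injective: an element x of L whose functional ⟨x, -⟩ on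
B (resp. on A) is represented by an element of B (resp. of A) lies in A ⊕ B. Moreover the
restriction maps L^# → B^# and L^# → A^# are surjective, so that the cokernels of the two injections
are quotients of L^#/L. -/
theorem result {L : Type} [AddCommGroup L] [Module.Finite ℤ L] [Module.Free ℤ L]
    (B : LinearMap.BilinForm ℤ L) (hsymm : B.IsSymm) (hpos : ∀ x, x ≠ 0 → 0 < B x x)
    (A : Submodule ℤ L) (htf : ∀ (c : ℤ) (x : L), c ≠ 0 → c • x ∈ A → x ∈ A) :
    (∀ x : L, (∃ b ∈ B.orthogonal A, ∀ b' ∈ B.orthogonal A, B x b' = B b b') → x ∈ A ⊔ B.orthogonal A) ∧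
      (∀ x : L, (∃ a ∈ A, ∀ a' ∈ A, B x a' = B a a') → x ∈ A ⊔ B.orthogonal A) ∧
      (∀ ψ : Module.Dual ℤ ↥(B.orthogonal A), ∃ φ : Module.Dual ℤ L, φ ∘ₗ (B.orthogonal A).subtype = ψ) ∧
      (∀ ψ : Module.Dual ℤ ↥A, ∃ φ : Module.Dual ℤ L, φ ∘ₗ A.subtype = ψ) := by
  classical
  have hmemO : ∀ m : L, m ∈ B.orthogonal A ↔ ∀ n ∈ A, B n m = 0 := fun m =>
    LinearMap.BilinForm.mem_orthogonal_iff
  -- saturation of the orthogonal complement
  have hsatO : ∀ (c : ℤ) (x : L), c ≠ 0 → c • x ∈ B.orthogonal A → x ∈ B.orthogonal A := by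
    intro c x hc hx
    rw [hmemO] at hx ⊢
    intro n hn
    have := hx n hn
    rw [map_smul, smul_eq_mul] at this
    rcases mul_eq_zero.1 this with h | h
    · exact absurd h hc
    · exact h
  -- double orthogonal
  have hdouble : ∀ y : L, (∀ b' ∈ B.orthogonal A, B y b' = 0) → y ∈ A := by
    intro y hy
    obtain ⟨n, hn, a, ha, hb⟩ := Groth.Agent.Helper1.Lattice.exists_smul_mem_sup_orthogonal B hpos A y
    obtain ⟨b, hbdef⟩ : ∃ b, b = n • y - a := ⟨_, rfl⟩
    rw [← hbdef] at hb
    have h1 : B y b = 0 := hy b hb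
    have h2 : B a b = 0 := (hmemO b).1 hb a ha
    have h3 : B b b = 0 := by
      have : B b b = n * B y b - B a b := by
        conv_lhs => arg 1; rw [hbdef]
        rw [map_sub, map_smul, LinearMap.sub_apply, LinearMap.smul_apply, smul_eq_mul]
      rw [this, h1, h2]; ring
    have h4 : b = 0 := by
      by_contra hne
      exact (hpos _ hne).ne' h3
    have h5 : n • y = a := by
      rw [hbdef] at h4
      exact sub_eq_zero.1 h4
    exact htf n y hn (h5 ▸ ha)
  refine ⟨?_, ?_, ?_, ?_⟩
  · rintro x ⟨b, hb, hxb⟩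
    have hxA : x - b ∈ A := by
      apply hdouble
      intro b' hb'
      rw [map_sub, LinearMap.sub_apply, hxb b' hb', sub_self]
    have : x = (x - b) + b := by abel
    rw [this]
    exact Submodule.add_mem_sup hxA hb
  · rintro x ⟨a, ha, hxa⟩
    have hxO : x - a ∈ B.orthogonal A := by
      rw [hmemO]
      intro n hn
      rw [hsymm.eq, map_sub, LinearMap.sub_apply, hxa n hn, sub_self]
    have : x = a + (x - a) := by abel
    rw [this]
    exact Submodule.add_mem_sup ha hxO
  · intro ψ
    exact Groth.Agent.Helper1.Lattice.extend_of_saturated _ hsatO ψ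
  · intro ψ
    exact Groth.Agent.Helper1.Lattice.extend_of_saturated _ htf ψ

end Groth.Agent.S3351
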