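import Groth.Statements.S3352
import Groth.Agent.Helper1.Lattice

set_option autoImplicit false
open Models

namespace Groth.Agent.S3352

/-- Let L₀, L₁ be finite free ℤ-modules with positive definite symmetric integral bilinear forms, the
form on L₀ unimodular (x ↦ ⟨x, −⟩ is a bijection L₀ → Hom(L₀, ℤ)), and let d : L₀ → L₁ and d* : L₁ →
L₀ be adjoint. Identify Im(d)^# (the dual lattice of Im(d)) with Hom(Im(d), ℤ) through the form on
L₁. Then there is an isomorphism Φ from the torsion subgroup of Coker(d* d) onto Im(d)^#/Im(d),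
determined by: for x ∈ L₀ whose class is torsion, Φ[x] is the class of the functional d(y') ↦ ⟨x,
y'⟩ (equivalently the class of (1/a)·d(y) when a·x = d* d(y)). -/
theorem result {L₀ L₁ : Type} [AddCommGroup L₀] [AddCommGroup L₁]
    [Module.Finite ℤ L₀] [Module.Free ℤ L₀] [Module.Finite ℤ L₁] [Module.Free ℤ L₁]
    (B₀ : LinearMap.BilinForm ℤ L₀) (B₁ : LinearMap.BilinForm ℤ L₁) (h₀s : B₀.IsSymm) (h₁s : B₁.IsSymm)
    (h₀p : ∀ x, x ≠ 0 → 0 < B₀ x x) (h₁p : ∀ x, x ≠ 0 → 0 < B₁ x x) (huni : Function.Bijective B₀)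
    (d : L₀ →ₗ[ℤ] L₁) (ds : L₁ →ₗ[ℤ] L₀) (hadj : ∀ x y, B₁ (d x) y = B₀ x (ds y)) :
    ∃ Φ : ↥(Submodule.torsion ℤ (L₀ ⧸ LinearMap.range (ds ∘ₗ d))) ≃ₗ[ℤ]
        (Module.Dual ℤ ↥(LinearMap.range d) ⧸
          LinearMap.range ((B₁.compl₂ (LinearMap.range d).subtype) ∘ₗ (LinearMap.range d).subtype)),
      ∀ (x : L₀) (hx : Submodule.Quotient.mk x ∈ Submodule.torsion ℤ (L₀ ⧸ LinearMap.range (ds ∘ₗ d)))
        (ψ : Module.Dual ℤ ↥(LinearMap.range d)),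
        (∀ y' : L₀, ψ ⟨d y', LinearMap.mem_range_self d y'⟩ = B₀ x y') →
          Φ ⟨Submodule.Quotient.mk x, hx⟩ = Submodule.Quotient.mk ψ := by
  classical
  obtain ⟨e, he⟩ : ∃ e : L₀ ≃ₗ[ℤ] Module.Dual ℤ L₀, ∀ x, e x = B₀ x :=
    ⟨LinearEquiv.ofBijective B₀ huni, fun x => rfl⟩
  have hβ_apply : ∀ (u v : LinearMap.range d),
      ((B₁.compl₂ (LinearMap.range d).subtype) ∘ₗ (LinearMap.range d).subtype) u v
        = B₁ (u : L₁) (v : L₁) := fun u v => rfl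
  have hkey : ∀ y y' : L₀, B₁ (d y) (d y') = B₀ (ds (d y)) y' := by
    intro y y'
    rw [h₁s.eq, hadj, h₀s.eq]
  obtain ⟨g, hg_def⟩ : ∃ g : Module.Dual ℤ (LinearMap.range d) →ₗ[ℤ]
      (L₀ ⧸ LinearMap.range (ds ∘ₗ d)),
      ∀ ψ, g ψ = Submodule.Quotient.mk (e.symm (d.rangeRestrict.dualMap ψ)) :=
    ⟨(LinearMap.range (ds ∘ₗ d)).mkQ ∘ₗ e.symm.toLinearMap ∘ₗ (d.rangeRestrict).dualMap,
      fun ψ => rfl⟩
  have hg : ∀ (ψ : Module.Dual ℤ (LinearMap.range d)) (x : L₀),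
      (∀ y', ψ ⟨d y', LinearMap.mem_range_self d y'⟩ = B₀ x y') →
      g ψ = Submodule.Quotient.mk x := by
    intro ψ x h
    rw [hg_def]
    have : d.rangeRestrict.dualMap ψ = e x := by
      rw [he]; ext y'; rw [LinearMap.dualMap_apply]; exact h y'
    rw [this, e.symm_apply_apply]
  have hex : ∀ ψ : Module.Dual ℤ (LinearMap.range d),
      ∃ x, ∀ y', ψ ⟨d y', LinearMap.mem_range_self d y'⟩ = B₀ x y' := by
    intro ψ
    refine ⟨e.symm (d.rangeRestrict.dualMap ψ), fun y' => ?_⟩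
    rw [← he, e.apply_symm_apply, LinearMap.dualMap_apply]; rfl
  have htors : ∀ ψ, g ψ ∈ Submodule.torsion ℤ (L₀ ⧸ LinearMap.range (ds ∘ₗ d)) := by
    intro ψ
    obtain ⟨x, hx⟩ := hex ψ
    rw [hg ψ x hx]
    obtain ⟨n, hn, u, hu, hnu⟩ :=
      Groth.Agent.Helper1.Lattice.exists_smul_eq_form B₁ h₁p (LinearMap.range d) ψ
    obtain ⟨y, rfl⟩ := hu
    rw [Submodule.mem_torsion_iff]
    refine ⟨⟨n, mem_nonZeroDivisors_of_ne_zero hn⟩, ?_⟩
    show n • (Submodule.Quotient.mk x : L₀ ⧸ LinearMap.range (ds ∘ₗ d)) = 0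
    rw [← Submodule.Quotient.mk_smul, Submodule.Quotient.mk_eq_zero]
    refine ⟨y, ?_⟩
    apply huni.1
    ext y'
    rw [LinearMap.comp_apply, ← hkey, map_smul, LinearMap.smul_apply, ← hx y', smul_eq_mul,
      hnu ⟨d y', LinearMap.mem_range_self d y'⟩, h₁s.eq]
  obtain ⟨g', hg'⟩ : ∃ g' : Module.Dual ℤ (LinearMap.range d) →ₗ[ℤ]
      Submodule.torsion ℤ (L₀ ⧸ LinearMap.range (ds ∘ₗ d)), ∀ ψ, (g' ψ : L₀ ⧸ _) = g ψ :=
    ⟨LinearMap.codRestrict _ g htors, fun ψ => rfl⟩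
  have hker : LinearMap.range ((B₁.compl₂ (LinearMap.range d).subtype) ∘ₗ
      (LinearMap.range d).subtype) ≤ LinearMap.ker g' := by
    rintro _ ⟨u, rfl⟩
    rw [LinearMap.mem_ker]
    apply Subtype.ext
    rw [hg']
    obtain ⟨u, y, rfl⟩ := u
    rw [hg _ (ds (d y))]
    · show _ = (0 : L₀ ⧸ _)
      rw [Submodule.Quotient.mk_eq_zero]; exact ⟨y, rfl⟩
    · intro y'; rw [hβ_apply, ← hkey]
  have hker' : LinearMap.ker g' ≤ LinearMap.range ((B₁.compl₂ (LinearMap.range d).subtype) ∘ₗ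
      (LinearMap.range d).subtype) := by
    intro ψ hψ
    rw [LinearMap.mem_ker] at hψ
    have h0 : g ψ = 0 := by rw [← hg', hψ]; rfl
    obtain ⟨x, hx⟩ := hex ψ
    rw [hg ψ x hx, Submodule.Quotient.mk_eq_zero] at h0
    obtain ⟨y, hy⟩ := h0
    refine ⟨⟨d y, LinearMap.mem_range_self d y⟩, ?_⟩
    ext ⟨_, y', rfl⟩
    rw [hβ_apply, hx y', ← hy]
    exact hkey y y'
  have hinj : Function.Injective ((LinearMap.range ((B₁.compl₂ (LinearMap.range d).subtype) ∘ₗ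
      (LinearMap.range d).subtype)).liftQ g' hker) := by
    rw [← LinearMap.ker_eq_bot]
    exact Submodule.ker_liftQ_eq_bot _ _ _ hker'
  have hsurj : Function.Surjective ((LinearMap.range ((B₁.compl₂ (LinearMap.range d).subtype) ∘ₗ
      (LinearMap.range d).subtype)).liftQ g' hker) := by
    rintro ⟨q, hq⟩
    obtain ⟨x, rfl⟩ := Submodule.Quotient.mk_surjective _ q
    have hq' := hq
    rw [Submodule.mem_torsion_iff] at hq'
    obtain ⟨⟨n, hn⟩, hnx⟩ := hq'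
    have hn0 : n ≠ 0 := nonZeroDivisors.ne_zero hn
    change n • (Submodule.Quotient.mk x : L₀ ⧸ LinearMap.range (ds ∘ₗ d)) = 0 at hnx
    rw [← Submodule.Quotient.mk_smul, Submodule.Quotient.mk_eq_zero] at hnx
    obtain ⟨y, hy⟩ := hnx
    have hvan : LinearMap.ker d ≤ LinearMap.ker (B₀ x) := by
      intro y' hy'
      rw [LinearMap.mem_ker] at hy' ⊢
      have h1 : n * B₀ x y' = 0 := by
        have h2 := hkey y y'
        rw [hy', map_zero] at h2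
        rw [← smul_eq_mul, ← LinearMap.smul_apply, ← map_smul, ← hy]
        exact h2.symm
      exact (mul_eq_zero.1 h1).resolve_left hn0
    obtain ⟨ψ, hψ⟩ : ∃ ψ : Module.Dual ℤ (LinearMap.range d),
        ∀ y', ψ ⟨d y', LinearMap.mem_range_self d y'⟩ = B₀ x y' := by
      refine ⟨(LinearMap.ker d).liftQ (B₀ x) hvan ∘ₗ d.quotKerEquivRange.symm.toLinearMap, ?_⟩
      intro y'
      rw [LinearMap.comp_apply, LinearEquiv.coe_coe,
        LinearMap.quotKerEquivRange_symm_apply_image]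
      rfl
    refine ⟨Submodule.Quotient.mk ψ, ?_⟩
    apply Subtype.ext
    show ((g' ψ : Submodule.torsion ℤ (L₀ ⧸ LinearMap.range (ds ∘ₗ d))) :
      L₀ ⧸ LinearMap.range (ds ∘ₗ d)) = _
    rw [hg']
    exact hg ψ x hψ
  refine ⟨(LinearEquiv.ofBijective _ ⟨hinj, hsurj⟩).symm, ?_⟩
  intro x hx ψ hψ
  rw [LinearEquiv.symm_apply_eq]
  apply Subtype.ext
  show _ = ((g' ψ : Submodule.torsion ℤ (L₀ ⧸ LinearMap.range (ds ∘ₗ d))) :
    L₀ ⧸ LinearMap.range (ds ∘ₗ d))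
  rw [hg']
  exact (hg ψ x hψ).symm

end Groth.Agent.S3352
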