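import Groth.Statements.S3388
import Groth.Agent.Helper5.VarDim2

set_option autoImplicit false
open CategoryTheory AlgebraicGeometry
universe u
open EGA43

namespace Groth.Agent.S3388

/-- Let X and Y be irreducible schemes and f : X ⟶ Y a dominant morphism locally of finite type; let e
be the dimension of the fibre over the generic point of Y. Then for every point x of X the local
dimension at x of the fibre through x is at least e. -/
theorem result {X Y : Scheme.{u}} [IrreducibleSpace X] [IrreducibleSpace Y]
    (f : X ⟶ Y) [LocallyOfFiniteType f] [IsDominant f] (x : X) :
    topologicalKrullDim ↥(f.fiber (genericPoint Y)) ≤ FlatMor.fibreDimAt f x := by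
  have h1 : IsGenericPoint (f (genericPoint X)) (closure (f '' (Set.univ : Set X))) :=
    (genericPoint_spec X).image f.continuous
  rw [Set.image_univ, f.denseRange.closure_range] at h1
  have h2 : f (genericPoint X) = genericPoint Y := h1.eq (genericPoint_spec Y)
  rw [← h2]
  exact Groth.Agent.Helper5.VarDim.generic_fibre_dim_le_fibreDimAt f x

end Groth.Agent.S3388
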