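import Groth.Statements.S3394
import Groth.Agent.Helper4.FibFinC
import Groth.Agent.Helper4.FibFinD
import Mathlib

set_option autoImplicit false
open CategoryTheory AlgebraicGeometry
universe u
open EGA43

namespace Groth.Agent.S3394


open CategoryTheory.Limits in
/-- Let X and Y be affine schemes, f : X ⟶ Y a morphism of finite type, y a point of f(X) and e the
dimension of the fibre of f over y. Then there is a Y-morphism g from X to the affine space of
dimension e over Y such that the morphism induced by g on the fibres over y is finite (here written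
as the base change of g along the inclusion of the fibre of the affine space over y). -/
theorem result {X Y : Scheme.{u}} [IsAffine X] [IsAffine Y] (f : X ⟶ Y)
    [LocallyOfFiniteType f] (y : Y) (hy : y ∈ Set.range f.base) (e : ℕ)
    (he : topologicalKrullDim ↥(f.fiber y) = e) :
    ∃ g : X ⟶ 𝔸(ULift.{u} (Fin e); Y), g ≫ (𝔸(ULift.{u} (Fin e); Y) ↘ Y) = f ∧
      IsFinite (pullback.snd g ((𝔸(ULift.{u} (Fin e); Y) ↘ Y).fiberι y)) := by

  letI := f.appTop.hom.toAlgebra
  letI := (Y.Γevaluation y).hom.toAlgebra
  haveI : Algebra.FiniteType Γ(Y, ⊤) Γ(X, ⊤) :=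
    (HasRingHomProperty.iff_of_isAffine (P := @LocallyOfFiniteType)).1 inferInstance
  have hd : ringKrullDim (TensorProduct Γ(Y, ⊤) (Y.residueField y) Γ(X, ⊤)) = e := by
    rw [Groth.Agent.Helper4.FibFinC.dim_fiber_eq f y, he]
  obtain ⟨π, hπ⟩ := Groth.Agent.Helper4.NNFibreGen.main Γ(Y, ⊤) Γ(X, ⊤) (Y.residueField y)
    (fun k => by
      obtain ⟨a, s, h1, h2⟩ := Groth.Agent.Helper4.FibFinB.exists_evaluation_mul_eq y k
      exact ⟨a, s, h1, h2⟩) e hd
  refine ⟨AffineSpace.homOfVector f (fun i : ULift.{u} (Fin e) => π (MvPolynomial.X i.down)),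
    AffineSpace.homOfVector_over _ _, ?_⟩
  exact Groth.Agent.Helper4.FibFinD.isFinite_snd f y e rfl rfl π hπ

end Groth.Agent.S3394
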