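import Groth.Statements.S3401
import Groth.Agent.Lead.ProConsLib7

set_option autoImplicit false
open CategoryTheory AlgebraicGeometry
universe u
open EGA41

namespace Groth.Agent.S3401

theorem aux (X : Scheme.{u}) [IsLocallyNoetherian X]
    (E : Set X) :
    ProCons.IsIndConstructible E ↔
      ∀ x ∈ E, (Subtype.val ⁻¹' E : Set ↥(closure ({x} : Set X))) ∈ nhds (⟨x, subset_closure rfl⟩ : ↥(closure ({x} : Set X))) := by
  constructor
  · intro hE x hx
    obtain ⟨V₁, V₂, h1, h2, h3, h4, h5, h6, h7⟩ := Groth.Agent.Lead.ProConsLib.ind_pieces hE x hx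
    have hopen : IsOpen (Subtype.val ⁻¹' (V₁ : Set X) : Set ↥(closure ({x} : Set X))) :=
      V₁.2.preimage continuous_subtype_val
    refine Filter.mem_of_superset (hopen.mem_nhds h5) ?_
    intro y hy
    apply h7
    refine ⟨hy, fun hy2 => h6 ?_⟩
    have : x ⤳ y.1 := specializes_iff_mem_closure.mpr y.2
    exact this.mem_open h2 hy2
  · intro h
    apply Groth.Agent.Lead.ProConsLib.ind_of_pieces
    intro x hx
    obtain ⟨u, hu, hsub⟩ := mem_nhds_subtype _ _ _ |>.mp (h x hx)
    obtain ⟨U, hUu, hUo, hxU⟩ := mem_nhds_iff.mp hu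
    obtain ⟨V₁, hV₁, hxV₁, hV₁U⟩ := exists_isAffineOpen_mem_and_subset (x := x)
      (U := (⟨U, hUo⟩ : X.Opens)) hxU
    haveI : IsNoetherianRing Γ(X, V₁) := IsLocallyNoetherian.component_noetherian ⟨V₁, hV₁⟩
    haveI : TopologicalSpace.NoetherianSpace V₁ := noetherianSpace_of_isAffineOpen V₁ hV₁
    refine ⟨V₁, (V₁ : Set X) ∩ (closure ({x} : Set X))ᶜ, hV₁,
      V₁.2.inter isClosed_closure.isOpen_compl, ?_, Set.inter_subset_left, hxV₁,
      fun hh => hh.2 (subset_closure rfl), ?_⟩
    · have hc : IsCompact (Subtype.val ⁻¹' ((V₁ : Set X) ∩ (closure ({x} : Set X))ᶜ) : Set V₁) :=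
        TopologicalSpace.NoetherianSpace.isCompact _
      have := hc.image continuous_subtype_val
      have heq : (Subtype.val '' (Subtype.val ⁻¹' ((V₁ : Set X) ∩ (closure ({x} : Set X))ᶜ) :
          Set V₁)) = (V₁ : Set X) ∩ (closure ({x} : Set X))ᶜ := by
        apply Set.Subset.antisymm
        · rintro _ ⟨z, hz, rfl⟩
          exact hz
        · intro y hy
          exact ⟨⟨y, hy.1⟩, hy, rfl⟩
      rw [← heq]
      exact this
    · rintro y ⟨hy1, hy2⟩
      have hyc : y ∈ closure ({x} : Set X) := by
        by_contra hyc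
        exact hy2 ⟨hy1, hyc⟩
      exact hsub (a := ⟨y, hyc⟩) (hUu (hV₁U hy1))

/-- Let X be a scheme and E a subset of X. If E is ind-constructible then for every point x of E the set
E ∩ cl{x} is a neighbourhood of x in cl{x}; when X is locally Noetherian the converse holds. (As
published, the necessity clause quantifies over all points x of X; for x outside E the condition
cannot hold, and the argument uses x ∈ E, so it is stated here for x ∈ E.) Stated as an equivalence
for X locally Noetherian. -/
theorem result (X : Scheme.{u}) [IsLocallyNoetherian X]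
    (E : Set X) :
    ProCons.IsIndConstructible E ↔
      ∀ x ∈ E, (Subtype.val ⁻¹' E : Set ↥(closure ({x} : Set X))) ∈ nhds (⟨x, subset_closure rfl⟩ : ↥(closure ({x} : Set X))) := by
  exact aux X E

end Groth.Agent.S3401
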