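import Groth.Statements.S3404
import Groth.Agent.Lead.ProConsLib7

set_option autoImplicit false
open CategoryTheory AlgebraicGeometry
universe u
open EGA41

namespace Groth.Agent.S3404

theorem ind_of_isOpen {X : Scheme.{u}} {U : Set X} (hU : IsOpen U) :
    ProCons.IsIndConstructible U := by
  apply Groth.Agent.Lead.ProConsLib.ind_of_pieces
  intro z hz
  obtain ⟨V₁, hV₁, hzV₁, hV₁U⟩ := exists_isAffineOpen_mem_and_subset (x := z)
    (U := (⟨U, hU⟩ : X.Opens)) hz
  exact ⟨V₁, ∅, hV₁, isOpen_empty, isCompact_empty, Set.empty_subset _, hzV₁, fun h => h,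
    fun y hy => hV₁U hy.1⟩

theorem lift_of_isOpenAt {X Y : Scheme.{u}} (f : X ⟶ Y) (x : X)
    (hopen : EGA43.IsOpenAt f.base x) (y' : Y) (hy' : y' ⤳ f.base x) :
    ∃ x' : X, x' ⤳ x ∧ f.base x' = y' := by
  have hF : ProCons.IsProConstructible (f.base ⁻¹' {y'}) :=
    Groth.Agent.Helper7.PC.pro_preimage f {y'} (Groth.Agent.Lead.ProConsLib.pro_singleton y')
  have hx : x ∈ closure (f.base ⁻¹' {y'}) := by
    rw [mem_closure_iff_nhds]
    intro U hU
    have h1 := hopen U hU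
    obtain ⟨V, hVsub, hVo, hfxV⟩ := mem_nhds_iff.mp h1
    obtain ⟨u, huU, hu⟩ := hVsub (hy'.mem_open hVo hfxV)
    exact ⟨u, huU, hu⟩
  obtain ⟨z, hz, hzx⟩ := Groth.Agent.Lead.ProConsLib.exists_specializes_of_mem_closure hF hx
  exact ⟨z, hzx, hz⟩

theorem aux {X Y : Scheme.{u}} (f : X ⟶ Y) (x : X) :
    (EGA43.IsOpenAt f.base x → ∀ y' : Y, y' ⤳ f.base x → ∃ x' : X, x' ⤳ x ∧ f.base x' = y') ∧
    (LocallyOfFinitePresentation f →
      ((EGA43.IsOpenAt f.base x) ↔ ∀ y' : Y, y' ⤳ f.base x → ∃ x' : X, x' ⤳ x ∧ f.base x' = y')) := by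
  refine ⟨lift_of_isOpenAt f x, fun hf => ⟨lift_of_isOpenAt f x, fun hlift => ?_⟩⟩
  intro U hU
  obtain ⟨U', hU'U, hU'o, hxU'⟩ := mem_nhds_iff.mp hU
  have hind : ProCons.IsIndConstructible (f.base '' U') :=
    Groth.Agent.Lead.ProConsLib.ind_image f (ind_of_isOpen hU'o)
  have hmem : f.base x ∈ interior (f.base '' U') := by
    rw [Groth.Agent.Lead.ProConsLib.mem_interior_iff_of_ind hind]
    intro y' hy'
    obtain ⟨x', hx'x, hx'⟩ := hlift y' hy'
    exact ⟨x', hx'x.mem_open hU'o hxU', hx'⟩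
  exact Filter.mem_of_superset (mem_interior_iff_mem_nhds.mp hmem) (Set.image_mono hU'U)

/-- Let f : X ⟶ Y be a morphism of schemes, x a point of X and y = f x. If f is open at x then every
generization of y is the image of a generization of x; when f is locally of finite presentation the
converse holds. -/
theorem result {X Y : Scheme.{u}} (f : X ⟶ Y) (x : X) :
    (EGA43.IsOpenAt f.base x → ∀ y' : Y, y' ⤳ f.base x → ∃ x' : X, x' ⤳ x ∧ f.base x' = y') ∧
    (LocallyOfFinitePresentation f →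
      ((EGA43.IsOpenAt f.base x) ↔ ∀ y' : Y, y' ⤳ f.base x → ∃ x' : X, x' ⤳ x ∧ f.base x' = y')) := by
  exact aux f x

end Groth.Agent.S3404
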