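import Groth.Statements.S3406
import Groth.Agent.Helper1.SupportDim

set_option autoImplicit false
universe u
open EGA41

namespace Groth.Agent.S3406

/-- The equality s(M) = dim(M): let A be a Noetherian ring with finitely many maximal ideals, r its
Jacobson radical and M a nonzero finitely generated A-module. Then the dimension of M (the Krull
dimension of its support) is the least n for which there are elements x_1, …, x_n of r such that
M/(x_1 M + ⋯ + x_n M) has finite length. -/
theorem result (A : Type u) [CommRing A] [IsNoetherianRing A]
    [Finite (MaximalSpectrum A)] (M : Type u) [AddCommGroup M] [Module A M] [Module.Finite A M] [Nontrivial M] :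
    Module.supportDim A M =
      sInf {k : WithBot ℕ∞ | ∃ (n : ℕ) (x : Fin n → A), k = n ∧ (∀ i, x i ∈ Ring.jacobson A) ∧
        IsFiniteLength A (M ⧸ (Ideal.span (Set.range x) • (⊤ : Submodule A M)))} := by
  open Groth.Agent.Helper1.SupportDim in
  apply le_antisymm
  · refine le_sInf ?_
    rintro k ⟨n, x, rfl, hx, hfl⟩
    have hof : Ideal.ofList (List.ofFn x) = Ideal.span (Set.range x) := by
      unfold Ideal.ofList
      congr 1
      ext r
      simp [List.mem_ofFn]
    have h := supportDim_le_length_of_isFiniteLength (List.ofFn x) M
      (by
        intro r hr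
        rw [List.mem_ofFn] at hr
        obtain ⟨i, rfl⟩ := hr
        exact hx i)
      (by rw [hof]; exact hfl)
    simpa using h
  · by_cases htop : Module.supportDim A M = ⊤
    · rw [htop]; exact le_top
    · have hbot : Module.supportDim A M ≠ ⊥ := Module.supportDim_ne_bot_of_nontrivial A M
      obtain ⟨e, he⟩ := WithBot.ne_bot_iff_exists.mp hbot
      have he_top : e ≠ ⊤ := by
        rintro rfl
        exact htop he.symm
      obtain ⟨d, rfl⟩ := ENat.ne_top_iff_exists.mp he_top
      obtain ⟨rs, hlen, hrs, hfl⟩ := exists_list_of_supportDim_le d M (by rw [← he]; rfl)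
      rw [← he]
      refine sInf_le ⟨rs.length, rs.get, by rw [hlen]; rfl, fun i => hrs _ (List.get_mem rs i), ?_⟩
      have hof : Ideal.span (Set.range rs.get) = Ideal.ofList rs := by
        unfold Ideal.ofList
        congr 1
        ext r
        simp [List.mem_iff_get]
      rw [hof]
      exact hfl

end Groth.Agent.S3406
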