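import Groth.Statements.S3418
import Groth.Agent.Helper4.GeomPtsD
import Mathlib

set_option autoImplicit false
open CategoryTheory AlgebraicGeometry
universe u
open EGA43

namespace Groth.Agent.S3418


/-- Let f : X ⟶ Y be flat, locally of finite presentation, separated and quasi-finite, and let n(y) be
the geometric number of points of the fibre over y. Then n is lower semicontinuous on Y, and if n is
constant on a neighbourhood of a point y₀ then f is proper over some open neighbourhood of y₀. -/
theorem result {X Y : Scheme.{u}} (f : X ⟶ Y) [Flat f]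
    [LocallyOfFinitePresentation f] [IsSeparated f] [LocallyQuasiFinite f] [QuasiCompact f] :
    LowerSemicontinuous (fun z : Y => MoreMor.nGeomConnComp f z) ∧
      ∀ y₀ : Y, (∃ V ∈ nhds y₀, ∀ z ∈ V, MoreMor.nGeomConnComp f z = MoreMor.nGeomConnComp f y₀) →
        ∃ U : Y.Opens, y₀ ∈ U ∧ IsProper (f ∣_ U) := by

  haveI : UniversallyOpen f := UniversallyOpen.of_flat f
  refine ⟨?_, ?_⟩
  · intro y a ha
    obtain ⟨V, hV, hVc⟩ := Groth.Agent.Helper4.GeomPtsD.lsc_at f y
      (Groth.Agent.Helper4.GeomPtsD.hopen_of_universallyOpen f y)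
    exact Filter.mem_of_superset hV (fun z hz => lt_of_lt_of_le ha (hVc z hz))
  · intro y₀ hc
    obtain ⟨O, hyO, hO⟩ := Groth.Agent.Helper4.GeomPtsD.finite_nhd f y₀
      (Groth.Agent.Helper4.GeomPtsD.hopen_of_universallyOpen f y₀) hc
    exact ⟨O, hyO, inferInstance⟩

end Groth.Agent.S3418
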