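import Groth.Statements.S4690
import Groth.Agent.Helper5.UCat7
import Groth.Agent.S9686

set_option autoImplicit false
universe u
open EGA4

namespace Groth.Agent.S4690

open AlgebraicGeometry CategoryTheory in
/-- Let Y be an irreducible locally Noetherian scheme, X an irreducible scheme and f : X → Y a dominant
morphism locally of finite type; let e be the dimension of the generic fibre of f. Then dim X ≤ dim
Y + e. If moreover every local ring of Y is universally catenary, the two sides are equal if and
only if dim Y equals the supremum of the dimensions of the local rings of Y at the points of f(X). -/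
theorem result {X Y : Scheme.{u}} (f : X ⟶ Y) [IsLocallyNoetherian Y]
    [LocallyOfFiniteType f] [IrreducibleSpace X] [IrreducibleSpace Y] (hf : DenseRange f.base) :
    topologicalKrullDim X ≤ topologicalKrullDim Y + topologicalKrullDim (f.fiber (genericPoint Y)) ∧
      ((∀ y : Y, CAlg.IsUniversallyCatenary (Y.presheaf.stalk y)) →
        (topologicalKrullDim X = topologicalKrullDim Y + topologicalKrullDim (f.fiber (genericPoint Y)) ↔
          topologicalKrullDim Y = ⨆ y ∈ Set.range f.base, ringKrullDim (Y.presheaf.stalk y))) := by
  let ξ := genericPoint ↥X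
  have hξ : closure ({ξ} : Set X) = Set.univ := genericPoint_closure X
  have hξ' : ∀ x : X, ξ ⤳ x := by
    intro x
    rw [specializes_iff_mem_closure, hξ]; trivial
  have hηcl : closure ({f ξ} : Set Y) = Set.univ := by
    have h1 : Set.range f ⊆ closure ({f ξ} : Set Y) := by
      rintro _ ⟨x, rfl⟩
      exact specializes_iff_mem_closure.1 ((hξ' x).map f.continuous)
    have h2 := closure_minimal h1 isClosed_closure
    rw [hf.closure_range] at h2
    exact Set.eq_univ_of_univ_subset h2
  have hfξ : f ξ = genericPoint ↥Y := by
    have hgen : IsGenericPoint (f ξ) (Set.univ : Set Y) := hηcl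
    exact hgen.eq (genericPoint_spec ↥Y)
  have hη : ∀ y : Y, f ξ ⤳ y := by
    intro y
    rw [specializes_iff_mem_closure, hηcl]; trivial
  obtain ⟨m, hm1, hm2⟩ := Groth.Agent.Helper5.UCat.generic_fibre_dim_eq_trdeg f ξ hξ
  have hm1' : topologicalKrullDim ↥(f.fiber (genericPoint ↥Y)) = m := by
    rw [← hfξ]; exact hm1
  rw [hm1']
  constructor
  · refine Groth.Agent.S9686.result f m ?_
    intro ξ' hξ'c
    have huniv : closure ({ξ'} : Set X) = Set.univ := by
      have := irreducibleComponents_eq_singleton (X := ↥X)
      rw [this] at hξ'c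
      exact hξ'c
    have hgen : IsGenericPoint ξ' (Set.univ : Set X) := huniv
    have heq : ξ' = ξ := hgen.eq (genericPoint_spec ↥X)
    subst heq
    exact hm2.le
  · intro hY
    obtain ⟨m', hm1'', hK⟩ := Groth.Agent.Helper5.UCat.dim_eq_iSup_add f hY ξ hξ hη
    have hmm : m' = m := by
      have : (m' : WithBot ℕ∞) = (m : WithBot ℕ∞) := hm1''.symm.trans hm1
      exact_mod_cast this
    subst hmm
    have hD : (⨆ y ∈ Set.range f.base, ringKrullDim (Y.presheaf.stalk y)) =
        ((⨆ x : X, Order.coheight (f x) : ℕ∞) : WithBot ℕ∞) := by
      have hne : Nonempty X := ⟨ξ⟩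
      rw [iSup_range, WithBot.coe_iSup (OrderTop.bddAbove _)]
      refine iSup_congr fun x => ?_
      exact AlgebraicGeometry.ringKrullDim_stalk_eq_coheight (f x)
    rw [hD, hK]
    constructor
    · intro h
      rw [add_comm, add_comm (topologicalKrullDim ↥Y)] at h
      exact (Groth.Agent.Helper5.VarDim.withBot_enat_add_left_cancel m' _ _ h).symm
    · intro h
      rw [h]

end Groth.Agent.S4690
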