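import Groth.Statements.S3529
import Mathlib
import Groth.Agent.Helper9.KunSec7
-- import your own Groth.Agent.* helpers here

set_option autoImplicit false
universe u
attribute [local instance] HasDerivedCategory.standard
open HTor

namespace Groth.Agent.S3529

open CategoryTheory CategoryTheory.Limits AlgebraicGeometry in
/-- Let A be a ring, X₁, X₂ quasi-compact separated schemes over Spec A and P₁, P₂ complexes of
quasi-coherent modules on them vanishing in large degrees, every term of P₁ being flat over Spec A.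
If L₁, L₂ are complexes of projective A-modules vanishing in large degrees that compute RΓ(X₁, P₁)
and RΓ(X₂, P₂) in D(A), then L₁ ⊗_A L₂ computes RΓ(X₁ ×_A X₂, pr₁^*P₁ ⊗ pr₂^*P₂): the global
hypertor of P₁ and P₂ over Spec A is the hypercohomology of their external tensor product. (The
published statement, over a general base and pair of base schemes, gives a canonical isomorphism;
here the base is affine and equal to both, and only the existence of an isomorphism in D(A) is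
asserted.) -/
theorem result (A : Type u) [CommRing A] (X₁ X₂ : Scheme.{u})
    (f₁ : X₁ ⟶ Spec (CommRingCat.of A)) (f₂ : X₂ ⟶ Spec (CommRingCat.of A))
    [QuasiCompact f₁] [IsSeparated f₁] [QuasiCompact f₂] [IsSeparated f₂]
    [HTor.HasRΓA f₁] [HTor.HasRΓA f₂] [HTor.HasRΓA (pullback.fst f₁ f₂ ≫ f₁)]
    (P₁ : CochainComplex X₁.Modules ℤ) (P₂ : CochainComplex X₂.Modules ℤ)
    (hq₁ : ∀ i : ℤ, Coh.IsQCoh (P₁.X i)) (hq₂ : ∀ i : ℤ, Coh.IsQCoh (P₂.X i))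
    (b₁ : ∃ b : ℤ, ∀ i : ℤ, b < i → IsZero (P₁.X i)) (b₂ : ∃ b : ℤ, ∀ i : ℤ, b < i → IsZero (P₂.X i))
    (hfl : ∀ i : ℤ, FlatMod.IsFlatOver f₁ (P₁.X i))
    (L₁ L₂ : DRing.Cx A) (hL₁ : ∀ i : ℤ, Projective (L₁.X i)) (hL₂ : ∀ i : ℤ, Projective (L₂.X i))
    (c₁ : ∃ c : ℤ, DRing.VanishesAbove L₁ c) (c₂ : ∃ c : ℤ, DRing.VanishesAbove L₂ c)
    (e₁ : HTor.Computes f₁ L₁ (DCoh.toD X₁ P₁)) (e₂ : HTor.Computes f₂ L₂ (DCoh.toD X₂ P₂)) :
    HTor.Computes (pullback.fst f₁ f₂ ≫ f₁) (HTor.tensorCx L₁ L₂)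
      (DCoh.toD (pullback f₁ f₂) (HTor.extTensorCx f₁ f₂ P₁ P₂)) := by
  let _ : X₁.Over (Spec (CommRingCat.of A)) := ⟨f₁⟩
  let _ : X₂.Over (Spec (CommRingCat.of A)) := ⟨f₂⟩
  have h1 : QuasiCompact (X₁ ↘ Spec (CommRingCat.of A)) := ‹QuasiCompact f₁›
  have h2 : IsSeparated (X₁ ↘ Spec (CommRingCat.of A)) := ‹IsSeparated f₁›
  have h3 : QuasiCompact (X₂ ↘ Spec (CommRingCat.of A)) := ‹QuasiCompact f₂›
  have h4 : IsSeparated (X₂ ↘ Spec (CommRingCat.of A)) := ‹IsSeparated f₂›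
  have h5 : HTor.HasRΓA (X₁ ↘ Spec (CommRingCat.of A)) := ‹HTor.HasRΓA f₁›
  have h6 : HTor.HasRΓA (X₂ ↘ Spec (CommRingCat.of A)) := ‹HTor.HasRΓA f₂›
  have h7 : HTor.HasRΓA (Groth.Agent.Helper9.KunSec.XX A X₁ X₂ ↘ Spec (CommRingCat.of A)) :=
    ‹HTor.HasRΓA (pullback.fst f₁ f₂ ≫ f₁)›
  exact Groth.Agent.Helper9.KunSec.computes_extTensor A P₁ P₂ hq₁ hq₂ b₁ b₂ hfl L₁ L₂ hL₁ hL₂
    c₁ c₂ e₁ e₂

end Groth.Agent.S3529
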