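import Groth.Statements.S3532
import Mathlib

set_option autoImplicit false
universe u
open HomAlg3

namespace Groth.Agent.S3532


open CategoryTheory in
private abbrev T (F : ℕᵒᵖ ⥤ AddCommGrpCat.{u}) {p k : ℕ} (h : p ≤ k) :
    F.obj (Opposite.op k) →+ F.obj (Opposite.op p) := (F.map (homOfLE h).op).hom

open CategoryTheory in
private lemma T_trans (F : ℕᵒᵖ ⥤ AddCommGrpCat.{u}) {p k m : ℕ} (h : p ≤ k) (h2 : k ≤ m)
    (x : F.obj (Opposite.op m)) : T F (h.trans h2) x = T F h (T F h2 x) := by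
  have e : (homOfLE (h.trans h2)).op = (homOfLE h2).op ≫ (homOfLE h).op := Subsingleton.elim _ _
  show (F.map (homOfLE (h.trans h2)).op).hom x = _
  rw [e, F.map_comp]; rfl

open CategoryTheory in
private lemma range_anti (F : ℕᵒᵖ ⥤ AddCommGrpCat.{u}) {p k m : ℕ} (h : p ≤ k) (h2 : k ≤ m) :
    (T F (h.trans h2)).range ≤ (T F h).range := by
  rintro _ ⟨x, rfl⟩
  exact ⟨T F h2 x, (T_trans F h h2 x).symm⟩

open CategoryTheory in
/-- `Stable F p`: the images of `A_k → A_p` are eventually constant. -/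
private def Stable (F : ℕᵒᵖ ⥤ AddCommGrpCat.{u}) (p : ℕ) : Prop :=
  ∃ k₀ : ℕ, ∃ h₀ : p ≤ k₀, ∀ (k : ℕ) (hk : k₀ ≤ k), (T F (h₀.trans hk)).range = (T F h₀).range

open CategoryTheory in
private lemma ml_iff_stable (F : ℕᵒᵖ ⥤ AddCommGrpCat.{u}) :
    (F ⋙ forget AddCommGrpCat).IsMittagLeffler ↔ ∀ p, Stable F p := by
  constructor
  · intro h p
    obtain ⟨i, f, hf⟩ := h (Opposite.op p)
    have hpi : p ≤ i.unop := leOfHom f.unop
    refine ⟨i.unop, hpi, fun k hk => le_antisymm (range_anti F hpi hk) ?_⟩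
    rintro _ ⟨x, rfl⟩
    have hfe : f = (homOfLE hpi).op := Subsingleton.elim _ _
    have := hf (homOfLE (hpi.trans hk)).op ⟨x, rfl⟩
    obtain ⟨y, hy⟩ := this
    refine ⟨y, ?_⟩
    rw [hfe] at hy
    exact hy
  · intro h j
    obtain ⟨k₀, h₀, hk₀⟩ := h j.unop
    refine ⟨Opposite.op k₀, (homOfLE h₀).op, fun k g => ?_⟩
    have hpk : j.unop ≤ k.unop := leOfHom g.unop
    have hge : g = (homOfLE hpk).op := Subsingleton.elim _ _
    rintro _ ⟨x, rfl⟩
    have h1 : T F h₀ x ∈ (T F (h₀.trans (le_max_left k₀ k.unop))).range := by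
      rw [hk₀ _ (le_max_left _ _)]; exact ⟨x, rfl⟩
    have h2 : T F h₀ x ∈ (T F hpk).range :=
      range_anti F hpk (le_max_right k₀ k.unop) h1
    obtain ⟨y, hy⟩ := h2
    refine ⟨y, ?_⟩
    rw [hge]
    exact hy

open CategoryTheory in
/-- Category of abelian groups, system indexed by the natural numbers: Let (A_k)_{k ≥ 0} be an inverse
system of abelian groups. For p ≤ k write Im_k(A_p) for the image of A_k → A_p, and K_p for the
kernel of A_p → A_{p-1} (K_0 = A_0). Then (A_k) satisfies the Mittag-Leffler condition (for each p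
the subgroups Im_k(A_p) are eventually constant in k) if and only if for each p the subgroups
Im_k(A_p) ∩ K_p are eventually constant in k. -/
theorem result (F : ℕᵒᵖ ⥤ AddCommGrpCat.{u}) :
    (F ⋙ forget AddCommGrpCat).IsMittagLeffler ↔
      ((∃ k₀ : ℕ, ∀ (k : ℕ) (hk : k₀ ≤ k),
          (F.map (homOfLE (Nat.zero_le k)).op).hom.range = (F.map (homOfLE (Nat.zero_le k₀)).op).hom.range) ∧
        ∀ p : ℕ, ∃ k₀ : ℕ, ∃ h₀ : p + 1 ≤ k₀, ∀ (k : ℕ) (hk : k₀ ≤ k),
          (F.map (homOfLE (h₀.trans hk)).op).hom.range ⊓ (F.map (homOfLE (Nat.le_succ p)).op).hom.ker =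
            (F.map (homOfLE h₀).op).hom.range ⊓ (F.map (homOfLE (Nat.le_succ p)).op).hom.ker) := by
  rw [ml_iff_stable]
  constructor
  · intro h
    refine ⟨?_, fun p => ?_⟩
    · obtain ⟨k₀, h₀, hk₀⟩ := h 0
      exact ⟨k₀, fun k hk => hk₀ k hk⟩
    · obtain ⟨k₀, h₀, hk₀⟩ := h (p + 1)
      refine ⟨k₀, h₀, fun k hk => ?_⟩
      have := hk₀ k hk
      exact congrArg (· ⊓ _) this
  · rintro ⟨h0, hK⟩ p
    induction p with
    | zero =>
      obtain ⟨k₀, hk₀⟩ := h0
      exact ⟨k₀, Nat.zero_le _, fun k hk => hk₀ k hk⟩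
    | succ p ih =>
      obtain ⟨k₁, h₁, hk₁⟩ := ih
      obtain ⟨k₂, h₂, hk₂⟩ := hK p
      have hm1 : k₁ ≤ max k₁ k₂ := le_max_left _ _
      have hm2 : k₂ ≤ max k₁ k₂ := le_max_right _ _
      refine ⟨max k₁ k₂, h₂.trans hm2, fun k hk => le_antisymm (range_anti F _ hk) ?_⟩
      rintro _ ⟨z, rfl⟩
      -- x = T z, with z in A_{k₀}
      set x := T F (h₂.trans hm2) z with hx
      have hps : p ≤ p + 1 := Nat.le_succ p
      -- π x lies in I_k p
      have hpx : T F hps x ∈ (T F (h₁.trans (hm1.trans hk))).range := by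
        rw [hk₁ _ (hm1.trans hk), ← hk₁ _ hm1]
        exact ⟨z, T_trans F hps (h₂.trans hm2) z⟩
      obtain ⟨w, hw⟩ := hpx
      have hkk : p + 1 ≤ k := (h₂.trans hm2).trans hk
      set y := T F hkk w with hy
      have hπy : T F hps y = T F hps x := by
        rw [← hw, hy, ← T_trans]
      have hyk0 : y ∈ (T F (h₂.trans hm2)).range := range_anti F (h₂.trans hm2) hk ⟨w, rfl⟩
      have hxy : x - y ∈ (T F (h₂.trans hm2)).range ⊓ (T F hps).ker := by
        refine ⟨AddSubgroup.sub_mem _ ⟨z, rfl⟩ hyk0, ?_⟩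
        show x - y ∈ (T F hps).ker
        rw [AddMonoidHom.mem_ker, map_sub, hπy, sub_self]
      have e1 := hk₂ _ hm2
      have e2 := hk₂ _ (hm2.trans hk)
      change (T F (h₂.trans hm2)).range ⊓ (T F hps).ker = (T F h₂).range ⊓ (T F hps).ker at e1
      change (T F (h₂.trans (hm2.trans hk))).range ⊓ (T F hps).ker = (T F h₂).range ⊓ (T F hps).ker at e2
      rw [e1, ← e2] at hxy
      have : x = (x - y) + y := by abel
      rw [this]
      exact AddSubgroup.add_mem _ hxy.1 ⟨w, rfl⟩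

end Groth.Agent.S3532
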