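import Groth.Statements.S3555
import Groth.Agent.Helper1.TwistGen
import Groth.Agent.Helper1.GrT4

set_option autoImplicit false
universe u
open CategoryTheory CategoryTheory.Limits AlgebraicGeometry
open EGA2

namespace Groth.Agent.S3555

/-- Let S be a graded ring whose irrelevant ideal S_+ is generated by the degree-one elements, X = Proj
S, and f homogeneous of degree d > 0. Then D_+(f) is the set of points p of X at which the global
section f/1 of O_X(d) does not vanish, i.e. at which its value generates the module of degree-d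
fractions at p. -/
theorem result {R A : Type u} [CommRing R] [CommRing A] [Algebra R A] (𝒜 : ℕ → Submodule R A) [GradedAlgebra 𝒜]
    (hgen : (HomogeneousIdeal.irrelevant 𝒜).toIdeal = Ideal.span (𝒜 1 : Set A))
    {d : ℕ} (hd : 0 < d) (f : 𝒜 d) (p : ProjectiveSpectrum 𝒜) :
    p ∈ ProjectiveSpectrum.basicOpen 𝒜 (f : A) ↔
      Submodule.span (Twist.A0 𝒜 p) {(Twist.globalOf 𝒜 f).1 ⟨p, trivial⟩} = ⊤ := by
  apply Groth.Agent.Helper1.TwistGen.mem_basicOpen_iff_span_eq_top
  -- a degree one element outside `p`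
  have hex : ∃ g : A, g ∈ 𝒜 1 ∧ g ∉ p.asHomogeneousIdeal := by
    by_contra hcon
    push Not at hcon
    apply p.not_irrelevant_le
    intro a ha
    have ha' : a ∈ (HomogeneousIdeal.irrelevant 𝒜).toIdeal := ha
    rw [hgen] at ha'
    have hle : Ideal.span (𝒜 1 : Set A) ≤ p.asHomogeneousIdeal.toIdeal := by
      rw [Ideal.span_le]
      intro g hg
      exact hcon g hg
    exact hle ha'
  obtain ⟨g, hg, hgp⟩ := hex
  have hgd : g ^ d ∈ 𝒜 d := by
    have := SetLike.pow_mem_graded d hg
    simpa using this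
  refine ⟨d, 0, ⟨g ^ d, hgd⟩, ⟨1, SetLike.GradedOne.one_mem⟩, ?_, by simp, ?_⟩
  · exact fun h => p.isPrime.ne_top ((Ideal.eq_top_iff_one _).mpr h)
  · exact fun h => hgp (p.isPrime.mem_of_pow_mem d h)

end Groth.Agent.S3555
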