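import Groth.Statements.S3558
-- import your own Groth.Agent.* helpers here

set_option autoImplicit false
universe u
open CategoryTheory CategoryTheory.Limits AlgebraicGeometry
open EGA2

namespace Groth.Agent.S3558

/-- For a graded ring S, Proj S is empty if and only if every element of the irrelevant ideal S_+ is
nilpotent. -/
theorem result {R A : Type u} [CommRing R] [CommRing A] [Algebra R A] (𝒜 : ℕ → Submodule R A) [GradedAlgebra 𝒜] :
    IsEmpty (Proj 𝒜) ↔ ∀ f ∈ (HomogeneousIdeal.irrelevant 𝒜).toIdeal, IsNilpotent f := by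
  constructor
  · intro hE f hf
    rw [nilpotent_iff_mem_prime]
    intro J hJ
    by_contra hfJ
    have hprime : (J.homogeneousCore 𝒜).toIdeal.IsPrime := hJ.homogeneousCore
    have hnot : ¬ HomogeneousIdeal.irrelevant 𝒜 ≤ J.homogeneousCore 𝒜 := by
      intro hle
      exact hfJ (Ideal.toIdeal_homogeneousCore_le 𝒜 J (hle hf))
    let x : ProjectiveSpectrum 𝒜 := ⟨J.homogeneousCore 𝒜, hprime, hnot⟩
    exact hE.false (x : (Proj 𝒜))
  · intro h
    constructor
    intro x
    let y : ProjectiveSpectrum 𝒜 := x
    apply y.not_irrelevant_le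
    intro f hf
    obtain ⟨n, hn⟩ := h f hf
    have : f ^ n ∈ y.asHomogeneousIdeal.toIdeal := by rw [hn]; exact Ideal.zero_mem _
    exact y.isPrime.mem_of_pow_mem n this

end Groth.Agent.S3558
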