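import Groth.Statements.S3560
import Groth.Agent.Helper2.ProjEmpty
import Groth.Agent.S3558
open Groth.Agent.Helper2.ProjEmpty
-- import your own Groth.Agent.* helpers here

set_option autoImplicit false
universe u
open CategoryTheory CategoryTheory.Limits AlgebraicGeometry
open EGA2

namespace Groth.Agent.S3560

/-- Let S be a graded ring whose irrelevant ideal S_+ is finitely generated. Then Proj S is empty if and
only if there is n such that S_k = 0 for all k ≥ n. -/
theorem result {R A : Type u} [CommRing R] [CommRing A] [Algebra R A] (𝒜 : ℕ → Submodule R A) [GradedAlgebra 𝒜]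
    (hfg : (HomogeneousIdeal.irrelevant 𝒜).toIdeal.FG) :
    IsEmpty (Proj 𝒜) ↔ ∃ n : ℕ, ∀ k : ℕ, n ≤ k → 𝒜 k = ⊥ := by
  classical
  rw [Groth.Agent.S3558.result]
  constructor
  · intro h
    obtain ⟨G, D, hG, hdeg⟩ := exists_homogeneous_generators 𝒜 hfg
    have hnil : IsNilpotent (HomogeneousIdeal.irrelevant 𝒜).toIdeal := by
      rw [hfg.isNilpotent_iff_le_nilradical]
      intro f hf
      exact mem_nilradical.mpr (h f hf)
    obtain ⟨N, hN⟩ := hnil
    refine ⟨N * D + 1, fun k hk => ?_⟩
    rw [Submodule.eq_bot_iff]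
    intro x hx
    have h1 := mem_pow_of_degree_ge 𝒜 G D hG hdeg N k hk x hx
    have h2 : (HomogeneousIdeal.irrelevant 𝒜).toIdeal ^ (N + 1) ≤
        (HomogeneousIdeal.irrelevant 𝒜).toIdeal ^ N := Ideal.pow_le_pow_right (Nat.le_succ N)
    have h3 := h2 h1
    rw [hN] at h3
    exact h3
  · rintro ⟨n, hn⟩ f hf
    rw [← DirectSum.sum_support_decompose 𝒜 f]
    refine isNilpotent_sum fun i _ => ?_
    by_cases hi : i = 0
    · subst hi
      have := (HomogeneousIdeal.mem_irrelevant_iff 𝒜 f).mp hf
      rw [GradedRing.proj_apply] at this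
      rw [this]
      exact IsNilpotent.zero
    · refine ⟨n + 1, ?_⟩
      have hmem : ((DirectSum.decompose 𝒜 f i : A)) ^ (n + 1) ∈ 𝒜 ((n + 1) • i) :=
        SetLike.pow_mem_graded (n + 1) (SetLike.coe_mem _)
      have hk : n ≤ (n + 1) • i := by
        rw [smul_eq_mul]
        have : 1 ≤ i := Nat.one_le_iff_ne_zero.mpr hi
        nlinarith
      rw [hn _ hk] at hmem
      exact hmem

end Groth.Agent.S3560
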