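import Groth.Statements.S3562
import Groth.Agent.Helper1.GrT11

set_option autoImplicit false
universe u
open CategoryTheory CategoryTheory.Limits AlgebraicGeometry
open EGA2

namespace Groth.Agent.S3562

/-- Let S be a graded ring whose irrelevant ideal S_+ is finitely generated and generated by the
degree-one elements, and M a graded S-module satisfying (TF) (some tail of M generates a finitely
generated submodule). Then M~ = 0 on Proj S if and only if M satisfies (TN): M_k = 0 for all
sufficiently large k. (The published statement assumes only that S_+ is finitely generated; the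
statement then fails when S_+ has no system of degree-one generators, e.g. S = k[t] with t of degree
2 and M = S shifted into odd degrees, whose M~ vanishes although no M_k does. Stated here with S_+
generated by degree-one elements, where the published proof applies.) -/
theorem result {R A : Type u} [CommRing R] [CommRing A] [Algebra R A] (𝒜 : ℕ → Submodule R A) [GradedAlgebra 𝒜]
    (hfg : (HomogeneousIdeal.irrelevant 𝒜).toIdeal.FG)
    (hgen : (HomogeneousIdeal.irrelevant 𝒜).toIdeal = Ideal.span (𝒜 1 : Set A))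
    {M : Type u} [AddCommGroup M] [Module R M] [Module A M] [IsScalarTower R A M] (ℳ : ℕ → Submodule R M) [DirectSum.Decomposition ℳ] [SetLike.GradedSMul 𝒜 ℳ]
    (hTF : ∃ n : ℕ, (Submodule.span A (⋃ k ∈ Set.Ici n, (ℳ k : Set M))).FG) :
    IsZero (GrTilde.tilde 𝒜 ℳ 0) ↔ ∃ n : ℕ, ∀ k : ℕ, n ≤ k → ℳ k = ⊥ := by
  classical
  open Groth.Agent.Helper1.GrT in
  constructor
  · intro hZ
    obtain ⟨n0, hN⟩ := hTF
    obtain ⟨G, hGsub, hGspan⟩ := (Submodule.fg_span_iff_fg_span_finset_subset _).1 hN
    -- degrees of the generators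
    have hdeg : ∀ m : M, m ∈ G → ∃ i : ℕ, n0 ≤ i ∧ m ∈ ℳ i := by
      intro m hm
      have := hGsub hm
      simp only [Set.mem_iUnion, Set.mem_Ici, SetLike.mem_coe] at this
      obtain ⟨i, hi, hmi⟩ := this
      exact ⟨i, hi, hmi⟩
    choose! deg hdeg0 hdeg using hdeg
    -- exponents
    have hexp : ∀ m : M, m ∈ G → ∃ E : ℕ, (HomogeneousIdeal.irrelevant 𝒜).toIdeal ^ E ≤
        LinearMap.ker (LinearMap.toSpanSingleton A M m) := by
      intro m hm
      apply Ideal.exists_pow_le_of_le_radical_of_fg _ hfg
      rw [hgen, Ideal.span_le]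
      intro a ha
      obtain ⟨N, hN⟩ := exists_pow_smul_eq_zero_of_isZero 𝒜 ℳ hZ m (hdeg m hm) a ha
      refine ⟨N, ?_⟩
      rw [LinearMap.mem_ker, LinearMap.toSpanSingleton_apply]
      exact hN
    choose! E hE using hexp
    refine ⟨n0 + G.sup (fun m => deg m + E m), ?_⟩
    intro k hk
    rw [eq_bot_iff]
    intro z hz
    rw [Submodule.mem_bot]
    have hzN : z ∈ Submodule.span A (⋃ k ∈ Set.Ici n0, (ℳ k : Set M)) := by
      apply Submodule.subset_span
      simp only [Set.mem_iUnion, Set.mem_Ici, SetLike.mem_coe]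
      exact ⟨k, by omega, hz⟩
    rw [hGspan] at hzN
    obtain ⟨f, -, hf⟩ := Submodule.mem_span_finset.1 hzN
    have h1 : z = ((DirectSum.decompose ℳ z k : ℳ k) : M) :=
      (DirectSum.decompose_of_mem_same ℳ hz).symm
    rw [h1, ← hf, DirectSum.decompose_sum, DFinsupp.finsetSum_apply,
      AddSubmonoidClass.coe_finsetSum]
    apply Finset.sum_eq_zero
    intro m hm
    have hle : deg m + E m ≤ G.sup (fun m => deg m + E m) :=
      Finset.le_sup (f := fun m => deg m + E m) hm
    rw [decompose_smul_of_mem' 𝒜 ℳ (f m) m (hdeg m hm) k (by omega)]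
    have h2 : ((DirectSum.decompose 𝒜 (f m) (k - deg m) : 𝒜 (k - deg m)) : A) ∈
        (HomogeneousIdeal.irrelevant 𝒜).toIdeal ^ (k - deg m) :=
      mem_irrelevant_pow 𝒜 hgen _ _ (SetLike.coe_mem _)
    have h3 := hE m hm (Ideal.pow_le_pow_right (show E m ≤ k - deg m by omega) h2)
    rwa [LinearMap.mem_ker, LinearMap.toSpanSingleton_apply] at h3
  · rintro ⟨n, hn⟩
    apply isZero_tilde_of_torsion
    intro z d f hd hf
    refine ⟨n, ?_⟩
    conv_lhs => rw [← DirectSum.sum_support_decompose ℳ z]
    rw [Finset.smul_sum]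
    apply Finset.sum_eq_zero
    intro i _
    have h0 : f ^ n ∈ 𝒜 (n * d) := by
      have := SetLike.pow_mem_graded n hf
      simpa [smul_eq_mul] using this
    have h1 : f ^ n • ((DirectSum.decompose ℳ z i : ℳ i) : M) ∈ ℳ (n * d + i) :=
      SetLike.GradedSMul.smul_mem (A := 𝒜) (B := ℳ) (i := n * d) (j := i) h0
        (SetLike.coe_mem (DirectSum.decompose ℳ z i))
    have h2 : ℳ (n * d + i) = ⊥ := hn _ (by nlinarith)
    rw [h2, Submodule.mem_bot] at h1
    exact h1

end Groth.Agent.S3562
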