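import Groth.Statements.S3570
import Groth.Agent.S3583

set_option autoImplicit false
universe u
open CategoryTheory CategoryTheory.Limits AlgebraicGeometry
open EGA2

namespace Groth.Agent.S3570

set_option backward.isDefEq.respectTransparency false in
theorem aux {X Y S : Scheme.{u}} (f : X ⟶ S) [IsAffineHom f] (g : Y ⟶ S)
    [IsAffineHom g] (h : Y ⟶ X) (w : h ≫ f = g) :
    IsIso h ↔ IsIso (AffAlg.algHom f g h w) := by
  subst w
  constructor
  · intro hh
    rw [NatTrans.isIso_iff_isIso_app]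
    intro U
    induction U using Opposite.rec with
    | op U =>
      rw [Groth.Agent.S3583.algHom_app]
      infer_instance
  · intro hh
    rw [NatTrans.isIso_iff_isIso_app] at hh
    rw [← MorphismProperty.isomorphisms.iff]
    refine HasAffineProperty.of_iSup_eq_top (P := MorphismProperty.isomorphisms Scheme)
      (fun U : S.affineOpens ↦ ⟨f ⁻¹ᵁ U.1,
        IsAffineHom.isAffine_preimage _ (U.2 : IsAffineOpen U.1)⟩) ?_ (fun U ↦ ⟨?_, ?_⟩)
    · rw [eq_top_iff]
      intro x _
      obtain ⟨V, hV, hxV, -⟩ := exists_isAffineOpen_mem_and_subset (X := S) (x := f x)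
        (U := ⊤) trivial
      exact TopologicalSpace.Opens.mem_iSup.mpr ⟨⟨V, hV⟩, hxV⟩
    · exact (IsAffineHom.isAffine_preimage (f := h ≫ f) _ (U.2 : IsAffineOpen U.1) :
        IsAffineOpen ((h ≫ f) ⁻¹ᵁ U.1))
    · rw [morphismRestrict_appTop]
      have hV : ((f ⁻¹ᵁ U.1).ι ''ᵁ ⊤) = f ⁻¹ᵁ U.1 := by simp
      have h1 := hh (Opposite.op U.1)
      rw [Groth.Agent.S3583.algHom_app] at h1
      have h2 : IsIso (h.app ((f ⁻¹ᵁ U.1).ι ''ᵁ ⊤)) := by rw [hV]; exact h1
      exact IsIso.comp_isIso' h2 inferInstance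

/-- Let f : X → S and g : Y → S be affine morphisms and h : Y → X an S-morphism. Then h is an
isomorphism if and only if A(h) : f_*O_X → g_*O_Y is an isomorphism (of presheaves of rings on S). -/
theorem result {X Y S : Scheme.{u}} (f : X ⟶ S) [IsAffineHom f] (g : Y ⟶ S)
    [IsAffineHom g] (h : Y ⟶ X) (w : h ≫ f = g) :
    IsIso h ↔ IsIso (AffAlg.algHom f g h w) := by
  exact aux f g h w

end Groth.Agent.S3570
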