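import Groth.Statements.S3579
import Groth.Agent.S3551
import Groth.Agent.Helper1.TwistMul5
import Groth.Agent.Helper1.TwistEpi2

set_option autoImplicit false
universe u
open CategoryTheory CategoryTheory.Limits AlgebraicGeometry
open EGA2

namespace Groth.Agent.S3579

/-- Let S be a graded ring whose irrelevant ideal S_+ is generated by finitely many elements of degree
one, X = Proj S, and let F be an O_X-module that is quasi-coherent and of finite type. Then for some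
n₀ and all n ≥ n₀, the twist F(n) = F ⊗ O_X(n) is a quotient of a finite free module O_X^k (k
depending on n); in particular F(n) is generated by finitely many global sections. -/
theorem result {R A : Type u} [CommRing R] [CommRing A] [Algebra R A] (𝒜 : ℕ → Submodule R A) [GradedAlgebra 𝒜]
    (s : Finset A) (hs1 : ∀ f ∈ s, f ∈ 𝒜 1)
    (hs : (HomogeneousIdeal.irrelevant 𝒜).toIdeal = Ideal.span (s : Set A))
    (F : (Proj 𝒜).Modules) (hF : Coh.IsQCoh F) (hFT : CohB1.IsFT F) :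
    ∃ n₀ : ℕ, ∀ n : ℕ, n₀ ≤ n →
      ∃ (k : ℕ) (p : FlatMod.freeMod (Proj 𝒜) k ⟶ Twist.twistBy 𝒜 F (n : ℤ)), Epi p := by
  obtain ⟨N, _, _, _, _, 𝒩, _, _, hfin, ⟨e⟩⟩ := Groth.Agent.S3551.result 𝒜 s hs1 hs F hF hFT
  obtain ⟨n₀, h⟩ := Groth.Agent.Helper1.TwistEpi.exists_epi_free_to_tildeN 𝒜 s hs1 hs 𝒩
  refine ⟨n₀, fun n hn => ?_⟩
  obtain ⟨k, p, hp⟩ := h n hn
  have hcov : (⨆ f : 𝒜 1, Proj.basicOpen 𝒜 (f : A)) = ⊤ := by
    apply Proj.iSup_basicOpen_eq_top 𝒜 (fun f : 𝒜 1 => (f : A))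
    rw [hs]
    apply Ideal.span_mono
    intro x hx
    exact ⟨⟨x, hs1 x hx⟩, rfl⟩
  obtain ⟨ι⟩ := Groth.Agent.Helper1.TwistMul.nonempty_tensor_twist_iso 𝒜 𝒩 hcov 0 (n : ℤ) (n : ℤ)
    (by omega)
  let ε : GrTilde.tilde 𝒜 𝒩 (n : ℤ) ≅ Twist.twistBy 𝒜 F (n : ℤ) :=
    ι.symm ≪≫ PicGrp.tensorModIso e (Iso.refl _)
  exact ⟨k, p ≫ ε.hom, epi_comp _ _⟩

end Groth.Agent.S3579
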