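import Groth.Statements.S3585
import Groth.Agent.Helper1.PPA1
import Groth.Agent.Helper1.VA12
import Groth.Agent.Helper1.Fin11
import Groth.Agent.Helper1.KzPn
import Groth.Agent.Helper4.AmpleRestrict
import Groth.Agent.Helper6.HProj

set_option autoImplicit false
universe u
open CategoryTheory CategoryTheory.Limits AlgebraicGeometry
open EGA2

namespace Groth.Agent.S3585

/-- Let A be a ring and f : X → Spec A a proper morphism, and suppose X carries an invertible O_X-module
which is ample relative to f (so f is quasi-projective). Then f is projective: X is isomorphic over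
Spec A to Proj S for some graded A-algebra S whose degree-zero part is the image of A and whose
irrelevant ideal is generated by finitely many elements of degree one. -/
theorem result {A : Type u} [CommRing A] {X : Scheme.{u}}
    (f : X ⟶ Spec (CommRingCat.of A)) [IsProper f]
    (L : X.Modules) (hL : PicF.IsInvertible L) (hamp : RelAmple.IsRelAmple f L) :
    ∃ (S : Type u) (_ : CommRing S) (_ : Algebra A S) (𝒮 : ℕ → Submodule A S) (_ : GradedAlgebra 𝒮) (s : Finset S),
      Function.Surjective (algebraMap A (𝒮 0)) ∧ (∀ g ∈ s, g ∈ 𝒮 1) ∧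
      (HomogeneousIdeal.irrelevant 𝒮).toIdeal = Ideal.span (s : Set S) ∧
      ∃ e : X ≅ Proj 𝒮, e.hom ≫ Proj.toSpecZero 𝒮 ≫ Spec.map (CommRingCat.ofHom (algebraMap A (𝒮 0))) = f := by
  classical
  have hamp' : CohB1.IsAmple L :=
    (Groth.Agent.Helper4.AmpleRestrict.isRelAmple_iff_isAmple_of_isAffine f L).1 hamp
  obtain ⟨d₀, hd₀, hva⟩ := Groth.Agent.Helper1.VA.exists_forall_veryAmple_pow' f hamp'
  obtain ⟨n, i, hi, hif, -⟩ := hva d₀ le_rfl
  haveI := hi
  let κ : CohB1.ProjSpaceOver n (Spec (CommRingCat.of A)) ⟶ Proj (CohB1.polyGrading n A) :=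
    Groth.Agent.Helper1.Fin.κκ A n
  haveI : IsClosedImmersion κ := Groth.Agent.Helper1.Fin.isClosedImmersion_κκ A n
  let p : Proj (CohB1.polyGrading n A) ⟶ Spec (CommRingCat.of A) :=
    Proj.toSpecZero (CohB1.polyGrading n A) ≫
      Spec.map (CommRingCat.ofHom (algebraMap A (CohB1.polyGrading n A 0)))
  have hκp : κ ≫ p = pullback.snd (CohB1.ProjSpace.toSpec n (ULift.{u, 0} ℤ))
      (specULiftZIsTerminal.from (Spec (CommRingCat.of A))) :=
    Groth.Agent.Helper1.Fin.κκ_toSpec A n
  let i' : X ⟶ Proj (CohB1.polyGrading n A) := i ≫ κ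
  have hi'f : i' ≫ p = f := by
    rw [Category.assoc, hκp]
    exact hif
  haveI : IsProper p := Groth.Agent.Helper6.HProj.isProper_toSpec n A
  haveI hprop : IsProper (i' ≫ p) := by rw [hi'f]; infer_instance
  haveI : IsProper i' := IsProper.of_comp i' p
  haveI : IsImmersion i' := inferInstanceAs (IsImmersion (i ≫ κ))
  haveI : IsClosedImmersion i' :=
    IsClosedImmersion.of_isPreimmersion i' (i'.isClosedMap.isClosed_range)
  let s : Finset (MvPolynomial (Fin (n + 1)) A) :=
    Finset.univ.image (fun j : Fin (n + 1) => (MvPolynomial.X j : MvPolynomial (Fin (n + 1)) A))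
  have hs1 : ∀ g ∈ s, g ∈ CohB1.polyGrading n A 1 := by
    intro g hg
    obtain ⟨j, -, rfl⟩ := Finset.mem_image.1 hg
    exact Groth.Agent.Helper1.ProjTop.X_mem n A j
  have hs : (HomogeneousIdeal.irrelevant (CohB1.polyGrading n A)).toIdeal =
      Ideal.span (s : Set (MvPolynomial (Fin (n + 1)) A)) := by
    have := Groth.Agent.Helper1.ProjVanish.irrelevant_eq_span_of_adjoin (CohB1.polyGrading n A)
      (fun j : Fin (n + 1) => (MvPolynomial.X j : MvPolynomial (Fin (n + 1)) A))
      (Groth.Agent.Helper1.ProjTop.X_mem n A) (MvPolynomial.adjoin_range_X)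
    rw [this]
    congr 1
    ext g
    simp [s]
  obtain ⟨S, i1, i2, 𝒮, i3, t, h0, ht1, ht, e, he⟩ :=
    Groth.Agent.Helper1.PPA.main (CohB1.polyGrading n A) s hs1 hs i'
      (Groth.Agent.Helper6.HProj.surj_gradeZero n A)
  exact ⟨S, i1, i2, 𝒮, i3, t, h0, ht1, ht, e, he.trans hi'f⟩

end Groth.Agent.S3585
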