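import Groth.Statements.S3589
import Groth.Agent.Helper1.PS4

set_option autoImplicit false
universe u
open CategoryTheory CategoryTheory.Limits AlgebraicGeometry
open EGA2

namespace Groth.Agent.S3589

/-- For E = O_Y^{n+1} over an affine base Y = Spec R (injectivity of the correspondence): a section s of
projective n-space over R is determined by the submodule F(s) of R^{n+1} formed by the R-linear
relations among the pulled-back coordinates s^*T_0, …, s^*T_n in the global sections of s^*O(1). -/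
theorem result {R : Type u} [CommRing R] (n : ℕ)
    (s₁ s₂ : Spec (CommRingCat.of R) ⟶ CohB1.ProjSpace n R)
    (h₁ : s₁ ≫ CohB1.ProjSpace.toSpec n R = 𝟙 _) (h₂ : s₂ ≫ CohB1.ProjSpace.toSpec n R = 𝟙 _)
    (h : ProjUP.secKernel n R s₁ = ProjUP.secKernel n R s₂) :
    s₁ = s₂ := by
  have hrr' : s₁ ≫ CohB1.ProjSpace.toSpec n R = s₂ ≫ CohB1.ProjSpace.toSpec n R := h₁.trans h₂.symm
  haveI := Groth.Agent.Helper1.PS.qc_pull n s₁
  haveI := Groth.Agent.Helper1.PS.qc_pull n s₂
  have hK : Groth.Agent.Helper1.PS.gker (R := CommRingCat.of R) (Groth.Agent.Helper1.PUP.σr n s₁) =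
      Groth.Agent.Helper1.PS.gker (R := CommRingCat.of R) (Groth.Agent.Helper1.PUP.σr n s₂) := by
    ext c
    rw [← Groth.Agent.Helper1.PS.mem_secKernel_iff, ← Groth.Agent.Helper1.PS.mem_secKernel_iff, h]
  obtain ⟨τ, hτ⟩ := Groth.Agent.Helper1.PS.exists_iso_of_gker_eq (R := CommRingCat.of R)
    (Groth.Agent.Helper1.PUP.σr n s₁) (Groth.Agent.Helper1.PUP.σr n s₂)
    (Groth.Agent.Helper1.PS.hcov_σr n s₁) (Groth.Agent.Helper1.PS.hcov_σr n s₂) hK
  exact Groth.Agent.Helper1.PUP.eq_of_hτ n s₁ s₂ hrr' τ hτ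

end Groth.Agent.S3589
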