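import Groth.Statements.S3595
import Groth.Agent.Helper1.RP20

set_option autoImplicit false
universe u
open CategoryTheory CategoryTheory.Limits AlgebraicGeometry
open EGA2

namespace Groth.Agent.S3595

/-- Let φ : S′ → S be a homomorphism of graded rings and G(φ) ⊆ Proj S the open union of the basic opens
D_+(φ(f′)) for f′ ∈ S′ homogeneous of positive degree. There is exactly one morphism p : G(φ) → Proj
S′ whose restriction to each chart Spec S_(φ(f′)) of G(φ) is Spec of the induced map S′_(f′) →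
S_(φ(f′)) followed by Spec S′_(f′) ≅ D_+(f′) ⊆ Proj S′. -/
theorem result {R A : Type u} [CommRing R] [CommRing A] [Algebra R A] (𝒜 : ℕ → Submodule R A) [GradedAlgebra 𝒜]
    {B : Type u} [CommRing B] [Algebra R B] (ℬ : ℕ → Submodule R B) [GradedAlgebra ℬ] (φ : 𝒜 →+*ᵍ ℬ) :
    ∃! p : (PCone.dom φ : Scheme.{u}) ⟶ Proj 𝒜,
      ∀ (d : ℕ) (f : A) (hd : 0 < d) (hf : f ∈ 𝒜 d),
        PCone.chart φ hf hd ≫ p =
          Spec.map (CommRingCat.ofHom (HomogeneousLocalization.Away.map φ f)) ≫ Proj.awayι 𝒜 f hf hd := by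
  open Groth.Agent.Helper1.RP in
  have hD : ∀ x : Proj ℬ, x ∈ PCone.dom φ ↔
      ∃ (d : ℕ) (_ : 0 < d) (f : A) (_ : f ∈ 𝒜 d), x ∈ Proj.basicOpen ℬ (φ f) := by
    intro x
    unfold PCone.dom
    constructor
    · intro hx
      obtain ⟨⟨f, d, hd, hf⟩, hxf⟩ := TopologicalSpace.Opens.mem_iSup.mp hx
      exact ⟨d, hd, f, hf, hxf⟩
    · rintro ⟨d, hd, f, hf, hxf⟩
      exact TopologicalSpace.Opens.mem_iSup.mpr ⟨⟨f, d, hd, hf⟩, hxf⟩
  obtain ⟨p, hp, hu⟩ := existsUnique_projOn φ (PCone.dom φ) hD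
  refine ⟨p, fun d f hd hf => hp d hd f hf, ?_⟩
  intro p' hp'
  exact hu p' (fun d hd f hf => hp' d f hd hf)

end Groth.Agent.S3595
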