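import Groth.Statements.S3597
import Groth.Agent.Helper1.RP21

set_option autoImplicit false
universe u
open CategoryTheory CategoryTheory.Limits AlgebraicGeometry
open EGA2

namespace Groth.Agent.S3597

open CategoryTheory AlgebraicGeometry HomogeneousLocalization in
theorem aux_id {A σ : Type u} [CommRing A] [SetLike σ A] [AddSubgroupClass σ A]
    {𝒜 : ℕ → σ} [GradedRing 𝒜] (χ : 𝒜 →+*ᵍ 𝒜) (hχ : ∀ a, χ a = a) {d : ℕ} (hd : 0 < d)
    {f : A} (hf : f ∈ 𝒜 d) :
    Spec.map (CommRingCat.ofHom (Away.map χ f)) ≫ Proj.awayι 𝒜 f hf hd =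
      Proj.awayι 𝒜 (χ f) (χ.map_mem hf) hd := by
  have h : χ = GradedRingHom.id 𝒜 := GradedRingHom.ext hχ
  subst h
  have h2 : Spec.map (CommRingCat.ofHom (Away.map (GradedRingHom.id 𝒜) f)) =
      𝟙 (Spec (CommRingCat.of (Away 𝒜 f))) := by
    rw [Away.map_id]
    exact Spec.map_id _
  exact (congrArg (· ≫ Proj.awayι 𝒜 f hf hd) h2).trans (Category.id_comp _)

/-- Let S be a graded algebra over a ring and Ŝ = S[z] the graded S-algebra obtained by adjoining a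
variable z in degree 1 (an S-algebra with an element z of degree 1 such that S[T] → Ŝ, T ↦ z, is
bijective), with φ : S → Ŝ the graded structure map and ψ : Ŝ → S the graded retraction with ψ ∘ φ =
id and ψ(z) = 0 (the irrelevant-ideal containment needed to define Proj(ψ) on all of X = Proj S
carried as a hypothesis). Let Ê ⊆ Ĉ = Proj Ŝ be the pointed projective cone, the open union of the
D_+(φ f) for f ∈ S homogeneous of positive degree, and p : Ê → X a morphism which on each chart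
D_+(φ f) = Spec Ŝ_{(φ f)} is induced by S_{(f)} → Ŝ_{(φ f)} (the canonical retraction). Then p is
surjective, and the closed immersion j = Proj(ψ) : X → Ĉ factors through Ê with p ∘ j = id_X. -/
theorem result {R A : Type u} [CommRing R] [CommRing A] [Algebra R A] (𝒜 : ℕ → Submodule R A) [GradedAlgebra 𝒜]
    {B : Type u} [CommRing B] [Algebra R B] (ℬ : ℕ → Submodule R B) [GradedAlgebra ℬ]
    [Algebra A B] [IsScalarTower R A B] (φ : 𝒜 →+*ᵍ ℬ) (hφ : ∀ a : A, φ a = algebraMap A B a)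
    (z : B) (hz : z ∈ ℬ 1) (hhat : Function.Bijective (Polynomial.aeval (R := A) z))
    (ψ : ℬ →+*ᵍ 𝒜) (hψφ : ∀ a : A, ψ (φ a) = a) (hψz : ψ z = 0)
    (hψ : HomogeneousIdeal.irrelevant 𝒜 ≤ (HomogeneousIdeal.irrelevant ℬ).map ψ)
    (p : (PCone.dom φ : Scheme.{u}) ⟶ Proj 𝒜) (hp : ∀ (d : ℕ) (f : A) (hd : 0 < d) (hf : f ∈ 𝒜 d),
        PCone.chart φ hf hd ≫ p =
          Spec.map (CommRingCat.ofHom (HomogeneousLocalization.Away.map φ f)) ≫ Proj.awayι 𝒜 f hf hd) :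
    Surjective p ∧ ∃ j : Proj 𝒜 ⟶ (PCone.dom φ : Scheme.{u}), j ≫ (PCone.dom φ).ι = Proj.map ψ hψ ∧ j ≫ p = 𝟙 (Proj 𝒜) := by
  open Groth.Agent.Helper1.RP in
  -- `Proj ψ` lands in `G(φ)`
  have hrange : Set.range (Proj.map ψ hψ) ⊆ Set.range (PCone.dom φ).ι := by
    rw [Scheme.Opens.range_ι]
    rintro _ ⟨x, rfl⟩
    obtain ⟨d, hd, f, hf, hxf⟩ := exists_homog_notMem x
    unfold PCone.dom
    refine TopologicalSpace.Opens.mem_iSup.mpr ⟨⟨f, d, hd, hf⟩, ?_⟩
    show ψ (φ f) ∉ x.asHomogeneousIdeal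
    rw [hψφ]
    exact hxf
  let j : Proj 𝒜 ⟶ (PCone.dom φ : Scheme.{u}) :=
    IsOpenImmersion.lift (PCone.dom φ).ι (Proj.map ψ hψ) hrange
  have hj : j ≫ (PCone.dom φ).ι = Proj.map ψ hψ := IsOpenImmersion.lift_fac _ _ _
  have hjp : j ≫ p = 𝟙 (Proj 𝒜) := by
    apply hom_ext_of_charts
    intro x
    obtain ⟨d, hd, f, hf, hxf⟩ := exists_homog_notMem x
    have hxf' : x ∈ Proj.basicOpen 𝒜 (ψ (φ f)) := by rw [hψφ]; exact hxf
    rw [← Proj.opensRange_awayι 𝒜 (ψ (φ f)) (ψ.map_mem (φ.map_mem hf)) hd] at hxf'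
    refine ⟨_, Proj.awayι 𝒜 (ψ (φ f)) (ψ.map_mem (φ.map_mem hf)) hd, inferInstance, hxf', ?_⟩
    have h1 : Proj.awayι 𝒜 (ψ (φ f)) (ψ.map_mem (φ.map_mem hf)) hd ≫ j =
        Spec.map (CommRingCat.ofHom (HomogeneousLocalization.Away.map ψ (φ f))) ≫
          PCone.chart φ hf hd := by
      rw [← cancel_mono (PCone.dom φ).ι, Category.assoc, hj, Category.assoc]
      unfold PCone.chart
      rw [IsOpenImmersion.lift_fac]
      exact Proj.awayι_comp_map ψ hψ hd (φ f) (φ.map_mem hf)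
    rw [reassoc_of% h1, hp d f hd hf, Category.comp_id, ← Spec.map_comp_assoc,
      ← CommRingCat.ofHom_comp, ← HomogeneousLocalization.Away.map_comp]
    exact aux_id (ψ.comp φ) hψφ hd hf
  refine ⟨?_, j, hj, hjp⟩
  constructor
  intro x
  exact ⟨j x, congrArg (fun t : Proj 𝒜 ⟶ Proj 𝒜 => t x) hjp⟩

end Groth.Agent.S3597
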