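import Groth.Statements.S3669
import Groth.Agent.Helper1.HomOSec2

set_option autoImplicit false
universe u
open CategoryTheory CategoryTheory.Limits AlgebraicGeometry
attribute [local instance] HasDerivedCategory.standard
open Dual3

namespace Groth.Agent.S3669

/-- Let i : Z → X be a closed immersion of schemes with ideal sheaf I, Hom(O_Z, -) a right adjoint of
i_* on modules (it exists; here the chosen one) with counit i_* Hom(O_Z, F) → F. Then for every
O_X-module F and every affine open U ⊆ X, the counit on sections over U, Γ(i⁻¹U, Hom(O_Z, F)) → Γ(U,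
F), is injective with image exactly the sections s of F over U with I(U) · s = 0. -/
theorem result (Z X : Scheme.{u}) (i : Z ⟶ X) [IsClosedImmersion i] [Dual3.HasHomO i] (F : X.Modules) (U : X.affineOpens) : Function.Injective ⇑(ConcreteCategory.hom (((Dual3.homOAdj i).counit.app F).val.app (Opposite.op U.1))) ∧ Set.range ⇑(ConcreteCategory.hom (((Dual3.homOAdj i).counit.app F).val.app (Opposite.op U.1))) = ((LocCoh.torsionBy (i.ker.ideal U) (F.val.obj (Opposite.op U.1)) : Submodule Γ(X, U.1) (F.val.obj (Opposite.op U.1))) : Set (F.val.obj (Opposite.op U.1))) := by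
  classical
  have hU : IsAffineOpen U.1 := U.2
  have hc := Groth.Agent.Helper1.HomOSec.counit_eq i F
  let ρ := (Groth.Agent.Helper1.HomOQC.rightIso i).app F
  have hfun : ∀ w, (ConcreteCategory.hom (((Dual3.homOAdj i).counit.app F).val.app (Opposite.op U.1))) w =
      (Groth.Agent.Helper1.HomOSec.ev1 i F).app U.1 ((ConcreteCategory.hom (ρ.inv.val.app (Opposite.op U.1))) w) := by
    intro w
    rw [hc]
    rfl
  have hbij : Function.Bijective (ConcreteCategory.hom (ρ.inv.val.app (Opposite.op U.1))) := by
    have h1 : ∀ w, (ConcreteCategory.hom (ρ.hom.val.app (Opposite.op U.1)))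
        ((ConcreteCategory.hom (ρ.inv.val.app (Opposite.op U.1))) w) = w := by
      intro w
      have := congrArg (fun φ => (ConcreteCategory.hom (φ.val.app (Opposite.op U.1))) w) ρ.inv_hom_id
      exact this
    have h2 : ∀ w, (ConcreteCategory.hom (ρ.inv.val.app (Opposite.op U.1)))
        ((ConcreteCategory.hom (ρ.hom.val.app (Opposite.op U.1))) w) = w := by
      intro w
      have := congrArg (fun φ => (ConcreteCategory.hom (φ.val.app (Opposite.op U.1))) w) ρ.hom_inv_id
      exact this
    exact ⟨Function.LeftInverse.injective h1, Function.RightInverse.surjective h2⟩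
  constructor
  · intro w w' hww
    rw [hfun, hfun] at hww
    exact hbij.1 (Groth.Agent.Helper1.HomOSec.ev1_injective i hU F _ _ hww)
  · ext s
    constructor
    · rintro ⟨w, rfl⟩
      rw [hfun]
      refine (Submodule.mem_torsionBySet_iff _ _).mpr ?_
      rintro ⟨a, ha⟩
      exact Groth.Agent.Helper1.HomOSec.smul_ev1_eq_zero i hU F _ a ha
    · intro hs
      replace hs := (Submodule.mem_torsionBySet_iff _ _).mp hs
      obtain ⟨t, ht⟩ := Groth.Agent.Helper1.HomOSec.exists_ev1_eq i hU F s (fun a ha => hs ⟨a, ha⟩)
      obtain ⟨w, rfl⟩ := hbij.2 t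
      exact ⟨w, (hfun w).trans ht⟩

end Groth.Agent.S3669
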