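import Groth.Statements.S3707
import Mathlib
import Groth.Agent.Helper3.UnramEq

set_option autoImplicit false
universe u
open scoped TensorProduct
open SGA1

namespace Groth.Agent.S3707

open AlgebraicGeometry CategoryTheory CategoryTheory.Limits in
/-- Let g : S' -> S be a surjective morphism of schemes, X and Y schemes over S with Y unramified over S
(formally unramified and locally of finite type), and X', Y' their base changes to S'. Then the map
sending an S-morphism X -> Y to the induced S'-morphism X' -> Y' is injective. -/
theorem result {S S' X Y : Scheme.{u}} (g : S' ⟶ S) [Surjective g]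
    (p : X ⟶ S) (q : Y ⟶ S) [FormallyUnramified q] [LocallyOfFiniteType q]
    (u v : X ⟶ Y) (hu : p ≫ 𝟙 S = u ≫ q) (hv : p ≫ 𝟙 S = v ≫ q)
    (h : pullback.map p g q g u (𝟙 S') (𝟙 S) hu ((Category.comp_id _).trans (Category.id_comp _).symm) =
      pullback.map p g q g v (𝟙 S') (𝟙 S) hv ((Category.comp_id _).trans (Category.id_comp _).symm)) :
    u = v := by
  have hu' : u ≫ q = p := by rw [← hu, Category.comp_id]
  have hv' : v ≫ q = p := by rw [← hv, Category.comp_id]
  obtain ⟨E, hE, hfac, -⟩ := Groth.Agent.Helper3.UnramEq.exists_open_equalizer p q u v hu' hv'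
  have hfst : pullback.fst p g ≫ u = pullback.fst p g ≫ v := by
    have h1 := congrArg (fun m => m ≫ pullback.fst q g) h
    simp only [pullback.map, pullback.lift_fst] at h1
    exact h1
  have hrange := hfac (pullback.fst p g) hfst
  have hsurj : Function.Surjective (pullback.fst p g) := (inferInstance : Surjective (pullback.fst p g)).surj
  have hE' : E = ⊤ := by
    rw [eq_top_iff]
    intro x _
    obtain ⟨z, rfl⟩ := hsurj x
    exact hrange ⟨z, rfl⟩
  subst hE'
  have h2 := congrArg (fun m => X.topIso.inv ≫ m) hE
  simpa using h2

end Groth.Agent.S3707
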