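import Groth.Statements.S3779
import Groth.Agent.Helper4.ElemExt
import Mathlib

set_option autoImplicit false
universe v u
open CategoryTheory CategoryTheory.Limits AlgebraicGeometry
attribute [local instance] HasDerivedCategory.standard
open KRR

namespace Groth.Agent.S3779


/-- Let K be a λ-ring with positive structure having the splitting property, e positive with ε(e) = r +
1, K_e = K[T]/(p_e) with canonical generator ℓ (a unit), σ^i(e) the coefficients of σ_t(e) =
λ_{-t}(e)⁻¹, and f : K_e ⟶ K a K-linear map with f(ℓ^i) = σ^i(e) for 0 ≤ i ≤ r. Then f(ℓ^i) = σ^i(e)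
for all i ≥ 0, and f(ℓ^{-n}) = 0 for 1 ≤ n ≤ r (stated with any inverse linv of ℓ). -/
theorem result (K : Type v) [CommRing K] [LambdaRing.LambdaOps K] (P : LambdaRing.PosStructure K) (hK : LambdaRing.HasSplitting K P) (e : K) (he : e ∈ P.pos) (r : ℕ) (hr : P.aug e = r + 1)
    (f : AdjoinRoot (KRR.extPoly P e) →ₗ[K] K)
    (hf : ∀ i : ℕ, i ≤ r → f (AdjoinRoot.root (KRR.extPoly P e) ^ i) = KRR.sigma i e)
    (linv : AdjoinRoot (KRR.extPoly P e)) (hlinv : linv * AdjoinRoot.root (KRR.extPoly P e) = 1) :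
    (∀ i : ℕ, f (AdjoinRoot.root (KRR.extPoly P e) ^ i) = KRR.sigma i e) ∧
    ∀ n : ℕ, 1 ≤ n → n ≤ r → f (linv ^ n) = 0 := by

  have hm : (P.aug e).toNat = r + 1 := by
    rw [hr]
    exact Int.toNat_natCast (r + 1)
  have hvan : ∀ i, r + 1 < i → LambdaRing.LambdaOps.lam i e = 0 := by
    intro i hi
    apply P.lam_eq_zero e he i
    rw [hr]
    exact_mod_cast hi
  have hunit : IsUnit (LambdaRing.LambdaOps.lam (r + 1) e) := by
    have := P.isUnit_lam e he
    rwa [hm] at this
  have hf' : ∀ i, i < r + 1 → f (AdjoinRoot.root (KRR.extPoly P e) ^ i) = KRR.sigma i e :=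
    fun i hi => hf i (by omega)
  refine ⟨Groth.Agent.Helper4.ElemExt.f_pow P e (r + 1) hm (by omega) hvan f hf', ?_⟩
  intro n hn1 hn
  exact Groth.Agent.Helper4.ElemExt.f_inv_pow P e (r + 1) hm (by omega) hvan f hf' linv hlinv hunit n hn1
    (by omega)

end Groth.Agent.S3779
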