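import Groth.Statements.S3780
import Groth.Agent.Helper4.ElemExt
import Mathlib

set_option autoImplicit false
universe v u
open CategoryTheory CategoryTheory.Limits AlgebraicGeometry
attribute [local instance] HasDerivedCategory.standard
open KRR

namespace Groth.Agent.S3780


/-- Let K be a λ-ring with positive structure admitting a splitting, e a positive element of
augmentation ε(e) = r + 1, K_e = K[T]/(p_e(T)) the elementary extension of K with ℓ the class of T,
and f : K_e → K a K-linear functional with f(ℓ^i) = σ^i(e) for i ≤ r. For any λ-operations on K_e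
extending those of K with λ^i(ℓ) = 0 for i ≥ 2, and q = e − ℓ ∈ K_e, one has f(λ^0(q)) = 1 and
f(λ^i(q)) = 0 for all i ≥ 1; that is, f(λ_t(q)) = 1. -/
theorem result (K : Type v) [CommRing K] [LambdaRing.LambdaOps K] (P : LambdaRing.PosStructure K) (hK : LambdaRing.HasSplitting K P) (e : K) (he : e ∈ P.pos) (r : ℕ) (hr : P.aug e = r + 1)
    (inst : LambdaRing.LambdaOps (AdjoinRoot (KRR.extPoly P e)))
    (hext : ∀ (i : ℕ) (x : K), @LambdaRing.LambdaOps.lam _ _ inst i (AdjoinRoot.of (KRR.extPoly P e) x) =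
      AdjoinRoot.of (KRR.extPoly P e) (LambdaRing.LambdaOps.lam i x))
    (hroot : ∀ i : ℕ, 2 ≤ i → @LambdaRing.LambdaOps.lam _ _ inst i (AdjoinRoot.root (KRR.extPoly P e)) = 0)
    (f : AdjoinRoot (KRR.extPoly P e) →ₗ[K] K)
    (hf : ∀ i : ℕ, i ≤ r → f (AdjoinRoot.root (KRR.extPoly P e) ^ i) = KRR.sigma i e) (i : ℕ) :
    f (@LambdaRing.LambdaOps.lam _ _ inst i (AdjoinRoot.of (KRR.extPoly P e) e - AdjoinRoot.root (KRR.extPoly P e))) =
      if i = 0 then 1 else 0 := by

  classical
  letI := inst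
  have hm : (P.aug e).toNat = r + 1 := by
    rw [hr]
    exact Int.toNat_natCast (r + 1)
  have hvan : ∀ i, r + 1 < i → LambdaRing.LambdaOps.lam i e = 0 := by
    intro i hi
    apply P.lam_eq_zero e he i
    rw [hr]
    exact_mod_cast hi
  have hf' : ∀ i, i < r + 1 → f (AdjoinRoot.root (KRR.extPoly P e) ^ i) = KRR.sigma i e :=
    fun i hi => hf i (by omega)
  have hfp := Groth.Agent.Helper4.ElemExt.f_pow P e (r + 1) hm (by omega) hvan f hf'
  set ℓ := AdjoinRoot.root (KRR.extPoly P e) with hℓ
  set q := AdjoinRoot.of (KRR.extPoly P e) e - ℓ with hq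
  have hsmul : ∀ (a : K) (z : AdjoinRoot (KRR.extPoly P e)), a • z = AdjoinRoot.of (KRR.extPoly P e) a * z := by
    intro a z
    rw [Algebra.smul_def, AdjoinRoot.algebraMap_eq]
  have hstep : ∀ i : ℕ, AdjoinRoot.of (KRR.extPoly P e) (LambdaRing.LambdaOps.lam (i + 1) e) =
      LambdaRing.LambdaOps.lam (i + 1) q + LambdaRing.LambdaOps.lam i q * ℓ := by
    intro i
    rw [← hext]
    have h1 : AdjoinRoot.of (KRR.extPoly P e) e = q + ℓ := by rw [hq]; ring
    rw [h1, LambdaRing.LambdaOps.lam_add, Finset.sum_range_succ, Finset.sum_range_succ]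
    rw [Finset.sum_eq_zero, zero_add, Nat.sub_self, LambdaRing.LambdaOps.lam_zero, mul_one,
      show i + 1 - i = 1 by omega, LambdaRing.LambdaOps.lam_one, add_comm]
    intro a ha
    rw [Finset.mem_range] at ha
    rw [hroot (i + 1 - a) (by omega), mul_zero]
  have hlam : ∀ i : ℕ, LambdaRing.LambdaOps.lam i q =
      ∑ k ∈ Finset.range (i + 1), ((-1 : K) ^ k * LambdaRing.LambdaOps.lam (i - k) e) • ℓ ^ k := by
    intro i
    induction i with
    | zero =>
      simp [LambdaRing.LambdaOps.lam_zero]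
    | succ i ih =>
      have h2 : LambdaRing.LambdaOps.lam (i + 1) q =
          AdjoinRoot.of (KRR.extPoly P e) (LambdaRing.LambdaOps.lam (i + 1) e) -
            LambdaRing.LambdaOps.lam i q * ℓ := by
        rw [hstep i]; ring
      rw [h2, ih, Finset.sum_range_succ' _ (i + 1)]
      have hA : ((-1 : K) ^ 0 * LambdaRing.LambdaOps.lam (i + 1 - 0) e) • ℓ ^ 0 =
          AdjoinRoot.of (KRR.extPoly P e) (LambdaRing.LambdaOps.lam (i + 1) e) := by
        simp [hsmul]
      have hB : ∑ k ∈ Finset.range (i + 1),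
          ((-1 : K) ^ (k + 1) * LambdaRing.LambdaOps.lam (i + 1 - (k + 1)) e) • ℓ ^ (k + 1) =
          -((∑ k ∈ Finset.range (i + 1), ((-1 : K) ^ k * LambdaRing.LambdaOps.lam (i - k) e) • ℓ ^ k) * ℓ) := by
        rw [Finset.sum_mul, ← Finset.sum_neg_distrib]
        refine Finset.sum_congr rfl fun k _ => ?_
        rw [show i + 1 - (k + 1) = i - k by omega, hsmul, hsmul, map_mul, map_mul, map_pow, map_pow,
          map_neg, map_one]
        ring
      rw [hA, hB]
      ring
  rw [hlam, map_sum]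
  simp only [map_smul, smul_eq_mul, hfp]
  have hrec := Groth.Agent.Helper4.ElemExt.sigma_rec e i
  have hflip := Finset.sum_flip (n := i)
    (fun k => (-1 : K) ^ k * LambdaRing.LambdaOps.lam (i - k) e * KRR.sigma k e)
  rw [← hflip]
  have h3 : ∀ k ∈ Finset.range (i + 1),
      (-1 : K) ^ (i - k) * LambdaRing.LambdaOps.lam (i - (i - k)) e * KRR.sigma (i - k) e =
        (-1 : K) ^ i * (Groth.Agent.Helper4.ElemExt.c e k * KRR.sigma (i - k) e) := by
    intro k hk
    rw [Finset.mem_range] at hk
    rw [show i - (i - k) = k by omega]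
    unfold Groth.Agent.Helper4.ElemExt.c
    have h4 : (-1 : K) ^ (i - k) = (-1) ^ i * (-1) ^ k := by
      have : i = (i - k) + k := by omega
      conv_rhs => rw [this, pow_add]
      rw [mul_assoc, ← mul_pow]
      simp
    rw [h4]
    ring
  rw [Finset.sum_congr rfl h3, ← Finset.mul_sum, hrec]
  split_ifs with h0
  · subst h0; simp
  · simp

end Groth.Agent.S3780
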