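import Groth.Statements.S3791
import Groth.Agent.Helper1.LambdaAdams2
import Mathlib

set_option autoImplicit false
universe v u
open CategoryTheory CategoryTheory.Limits AlgebraicGeometry
attribute [local instance] HasDerivedCategory.standard
open KRR

namespace Groth.Agent.S3791


/-- Let K be a λ-ring with positive structure P and u an ample line element (for every x, u^n x is a
positive element minus a natural number for all large n). Then for every line element v, the element
v - 1 is nilpotent. -/
theorem result (K : Type v) [CommRing K] [LambdaRing.LambdaOps K] (P : LambdaRing.PosStructure K)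
    (u : K) (hu : KRR.IsAmpleElt P u) (w : K) (hw : P.IsLine w) : IsNilpotent (w - 1) := by

  classical
  open Groth.Agent.Helper1.Lambda in
  have nilp : ∀ (b : K) (m : ℕ), P.IsLine b → (m : K) - b ∈ P.pos → (b - 1) ^ m = 0 := by
    intro b m hb he
    set e := (m : K) - b with hedef
    have haug : P.aug e = (m : ℤ) - 1 := by
      rw [hedef, map_sub, map_natCast, hb.2]
    have hpos := P.aug_pos e he
    have hm1 : 1 ≤ m - 1 := by
      rw [haug] at hpos
      omega
    have hvan : ∀ i, m - 1 < i → LambdaRing.LambdaOps.lam i e = 0 := by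
      intro i hi
      apply P.lam_eq_zero e he i
      rw [haug]
      omega
    have hE := lamSeries_eq_poly e (m - 1) hvan
    have hb' := lamSeries_line P b hb
    have hsum : LambdaRing.lamSeries e * LambdaRing.lamSeries b = (1 + PowerSeries.X) ^ m := by
      rw [← lamSeries_add, hedef, sub_add_cancel]
      exact lamSeries_natCast P m
    set E : Polynomial K := ∑ i ∈ Finset.range (m - 1 + 1),
      Polynomial.C (LambdaRing.LambdaOps.lam i e) * Polynomial.X ^ i with hEdef
    have hpoly : E * (1 + Polynomial.C b * Polynomial.X) = (1 + Polynomial.X) ^ m := by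
      apply Polynomial.coe_injective
      rw [Polynomial.coe_mul, ← hE, Polynomial.coe_add, Polynomial.coe_one, Polynomial.coe_mul,
        Polynomial.coe_C, Polynomial.coe_X, ← hb', hsum, Polynomial.coe_pow, Polynomial.coe_add,
        Polynomial.coe_one, Polynomial.coe_X]
    have hunit : IsUnit b := by
      have := P.isUnit_lam b hb.1
      rw [hb.2] at this
      simpa [LambdaRing.LambdaOps.lam_one] using this
    obtain ⟨c, hc⟩ := hunit.exists_right_inv
    have hev := congrArg (Polynomial.eval (-c)) hpoly
    rw [Polynomial.eval_mul, Polynomial.eval_add, Polynomial.eval_one, Polynomial.eval_mul,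
      Polynomial.eval_C, Polynomial.eval_X, Polynomial.eval_pow, Polynomial.eval_add,
      Polynomial.eval_one, Polynomial.eval_X] at hev
    have h0 : 1 + b * (-c) = 0 := by rw [mul_neg, hc]; ring
    rw [h0, mul_zero] at hev
    have : (b - 1) ^ m = b ^ m * (1 + -c) ^ m := by
      rw [← mul_pow]
      congr 1
      rw [mul_add, mul_one, mul_neg, hc]
      ring
    rw [this, ← hev, mul_zero]
  obtain ⟨hul, hamp⟩ := hu
  have hun : ∀ n : ℕ, P.IsLine (u ^ n) := fun n =>
    Groth.Agent.Helper1.Lambda.isLine_pow P u hul n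
  -- u - 1 is nilpotent
  have hu1 : u - 1 ∈ nilradical K := by
    obtain ⟨n₀, hn₀⟩ := hamp (-1)
    have hn : ∀ n, n₀ ≤ n → u ^ n - 1 ∈ nilradical K := by
      intro n hn
      obtain ⟨e, m, he, hem⟩ := hn₀ n hn
      have he' : (m : K) - u ^ n ∈ P.pos := by
        have : (m : K) - u ^ n = e := by
          linear_combination hem
        rw [this]; exact he
      exact mem_nilradical.mpr ⟨m, nilp (u ^ n) m (hun n) he'⟩
    have h1 := hn n₀ le_rfl
    have h2 := hn (n₀ + 1) (Nat.le_succ _)
    have : u - 1 = (u ^ (n₀ + 1) - 1) - u * (u ^ n₀ - 1) := by ring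
    rw [this]
    exact sub_mem h2 (Ideal.mul_mem_left _ _ h1)
  have hupow : ∀ n : ℕ, u ^ n - 1 ∈ nilradical K := by
    intro n
    have hd : u - 1 ∣ u ^ n - 1 := by
      have := sub_dvd_pow_sub_pow u 1 n
      rwa [one_pow] at this
    exact Ideal.mem_of_dvd _ hd hu1
  obtain ⟨n₀, hn₀⟩ := hamp (-w)
  obtain ⟨e, m, he, hem⟩ := hn₀ n₀ le_rfl
  have hline : P.IsLine (u ^ n₀ * w) := Groth.Agent.Helper1.Lambda.isLine_mul P _ _ (hun n₀) hw
  have he' : (m : K) - u ^ n₀ * w ∈ P.pos := by
    have : (m : K) - u ^ n₀ * w = e := by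
      linear_combination hem
    rw [this]; exact he
  have h3 : u ^ n₀ * w - 1 ∈ nilradical K := mem_nilradical.mpr ⟨m, nilp _ m hline he'⟩
  have : w - 1 = (u ^ n₀ * w - 1) - w * (u ^ n₀ - 1) := by ring
  rw [← mem_nilradical, this]
  exact sub_mem h3 (Ideal.mul_mem_left _ _ (hupow n₀))

end Groth.Agent.S3791
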