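import Groth.Statements.S3792
import Groth.Agent.Helper4.AdamsGamma2
import Mathlib

set_option autoImplicit false
universe v u
open CategoryTheory CategoryTheory.Limits AlgebraicGeometry
attribute [local instance] HasDerivedCategory.standard
open KRR

namespace Groth.Agent.S3792


/-- Let K be a λ-ring with positive structure having the splitting property, e a positive element and j
≥ 1. Then ψ^j(λ_{-1}(e)) = λ_{-1}(e) · θ^j(e), where λ_{-1}(e) = Σ_{i ≤ ε(e)} (-1)^i λ^i(e), ψ^j is
the Adams operation and θ^j(e) is Bott's cannibalistic class (the universal polynomial in the λ^i(e)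
which is Π (1 + u_i + ⋯ + u_i^{j-1}) on a splitting e = Σ u_i). -/
theorem result (K : Type v) [CommRing K] [LambdaRing.LambdaOps K] (P : LambdaRing.PosStructure K) (hK : LambdaRing.HasSplitting K P) (e : K) (he : e ∈ P.pos) (j : ℕ) (hj : 1 ≤ j) :
    LambdaRing.adams P j (KRR.lamAlt P e) = KRR.lamAlt P e * KRR.bott P j e := by

  classical
  open Groth.Agent.Helper4 Groth.Agent.Helper1.Lambda in
  obtain ⟨C, hKC, hC⟩ := hK
  obtain ⟨L, hL, f, hext, s, hs, hsum⟩ := hC ⟨K, P⟩ hKC e he
  have hKL : LambdaRing.HasSplitting L.carrier L.posStr := ⟨C, hL, hC⟩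
  apply hext.injective
  have hcard : P.aug e = Multiset.card s := by
    rw [← hext.aug_comp e, ← hsum]
    exact Groth.Agent.Helper1.Lambda.aug_sum_lines L.posStr s hs
  set m := (P.aug e).toNat with hm
  have hmN : m = Multiset.card s := by rw [hm, hcard]; simp
  obtain ⟨v, hv⟩ := Groth.Agent.Helper4.LamED.exists_fn_of_card s m hmN.symm
  have hline : ∀ y ∈ s, ∀ i : ℕ, 2 ≤ i → LambdaRing.LambdaOps.lam i y = 0 :=
    fun y hy i hi => Groth.Agent.Helper1.Lambda.lam_line L.posStr y (hs y hy) i hi
  have hflam : ∀ i : ℕ, f (LambdaRing.LambdaOps.lam i e) = s.esymm i := by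
    intro i
    rw [hext.isLambdaHom, ← hsum, Groth.Agent.Helper4.InvSplit.lam_sum_lines _ hline]
  have hfΛ : f (KRR.lamAlt P e) = (s.map (fun u => 1 - u)).prod := by
    unfold KRR.lamAlt
    rw [map_sum, ← hm, hmN, ← Groth.Agent.Helper4.InvSplit.alt_sum_esymm s]
    refine Finset.sum_congr rfl fun x _ => ?_
    rw [map_mul, map_pow, map_neg, map_one, hflam]
  have hpsi : LambdaRing.adams L.posStr j ((s.map (fun u => 1 - u)).prod) =
      (s.map (fun u => 1 - u ^ j)).prod := by
    have := map_multiset_prod (Groth.Agent.Helper1.Lambda.adamsHom L.posStr hKL j)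
      (s.map (fun u => 1 - u))
    rw [Multiset.map_map] at this
    refine this.trans ?_
    congr 1
    apply Multiset.map_congr rfl
    intro u hu
    show LambdaRing.adams L.posStr j (1 - u) = 1 - u ^ j
    rw [Groth.Agent.Helper1.Lambda.adams_sub, Groth.Agent.Helper1.Lambda.adams_one,
      Groth.Agent.Helper1.Lambda.adams_line _ u (hs u hu)]
  have hfb : f (KRR.bott P j e) = (s.map (fun u => ∑ k ∈ Finset.range j, u ^ k)).prod := by
    show f (MvPolynomial.aeval (fun i : Fin m => LambdaRing.LambdaOps.lam (i.1 + 1) e)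
      (KRR.bottPoly j m)) = _
    set φ : MvPolynomial (Fin m) ℤ →+* L.carrier :=
      MvPolynomial.eval₂Hom (Int.castRingHom _) v with hφ
    have hφX : ∀ i, φ (MvPolynomial.X i) = v i := fun i => by rw [hφ]; simp
    have hφe : ∀ n : ℕ, φ (MvPolynomial.esymm (Fin m) ℤ n) = s.esymm n := by
      intro n
      rw [MvPolynomial.esymm_eq_multiset_esymm, Groth.Agent.Helper4.SymPoly.map_multiset_esymm,
        Multiset.map_map, ← hv]
      congr 1
      apply Multiset.map_congr rfl
      intro i _
      exact hφX i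
    have hB : MvPolynomial.aeval (fun i : Fin m => MvPolynomial.esymm (Fin m) ℤ ((i : ℕ) + 1))
        (KRR.bottPoly j m) = KRR.bottSym j m := by
      have h1 : (MvPolynomial.esymmAlgEquiv (Fin m) (R := ℤ) (Fintype.card_fin m)) (KRR.bottPoly j m) =
          ⟨KRR.bottSym j m, KRR.bottSym_isSymmetric j m⟩ := AlgEquiv.apply_symm_apply _ _
      rw [MvPolynomial.esymmAlgEquiv_apply] at h1
      have h2 := congrArg Subtype.val h1
      rw [MvPolynomial.esymmAlgHom_apply] at h2
      exact h2
    rw [MvPolynomial.aeval_def, MvPolynomial.eval₂_comp_left]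
    have e1 : f.comp (algebraMap ℤ K) = Int.castRingHom L.carrier := RingHom.ext_int _ _
    rw [e1]
    have e2 : (⇑f ∘ fun i : Fin m => LambdaRing.LambdaOps.lam ((i : ℕ) + 1) e) =
        fun i : Fin m => φ (MvPolynomial.esymm (Fin m) ℤ ((i : ℕ) + 1)) := by
      funext i
      rw [hφe]
      exact hflam _
    rw [e2]
    have e3 : φ (MvPolynomial.aeval (fun i : Fin m => MvPolynomial.esymm (Fin m) ℤ ((i : ℕ) + 1))
        (KRR.bottPoly j m)) = MvPolynomial.eval₂ (Int.castRingHom L.carrier)
          (fun i : Fin m => φ (MvPolynomial.esymm (Fin m) ℤ ((i : ℕ) + 1))) (KRR.bottPoly j m) := by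
      rw [MvPolynomial.aeval_def, MvPolynomial.eval₂_comp_left]
      have e4 : φ.comp (algebraMap ℤ (MvPolynomial (Fin m) ℤ)) = Int.castRingHom L.carrier :=
        RingHom.ext_int _ _
      rw [e4]
      rfl
    rw [← e3, hB]
    unfold KRR.bottSym
    rw [map_prod, ← hv, Multiset.map_map, Finset.prod_eq_multiset_prod]
    congr 1
    apply Multiset.map_congr rfl
    intro i _
    simp only [Function.comp_apply, map_sum, map_pow, hφX]
  rw [map_mul, Groth.Agent.Helper1.Lambda.map_adams P L.posStr f hext, hfΛ, hpsi, hfb,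
    ← Multiset.prod_map_mul]
  congr 1
  apply Multiset.map_congr rfl
  intro u _
  exact (mul_neg_geom_sum u j).symm

end Groth.Agent.S3792
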