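import Groth.Statements.S3795
import Groth.Agent.Helper4.AdamsGamma2
import Mathlib

set_option autoImplicit false
universe v u
open CategoryTheory CategoryTheory.Limits AlgebraicGeometry
attribute [local instance] HasDerivedCategory.standard
open KRR

namespace Groth.Agent.S3795


/-- Let K be a λ-ring with positive structure having the splitting property, j ≥ 2, n ≥ 0 and x ∈ K. If
ψ^j(x) - j^n x lies in ℚF^{n+1} (some positive multiple lies in F^{n+1}, γ-filtration), then x lies
in ℚF^n (some positive multiple of x lies in F^n). -/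
theorem result (K : Type v) [CommRing K] [LambdaRing.LambdaOps K] (P : LambdaRing.PosStructure K) (hK : LambdaRing.HasSplitting K P) (j : ℕ) (hj : 2 ≤ j) (n : ℕ) (x : K)
    (hx : ∃ N : ℕ, 1 ≤ N ∧ (N : K) * (LambdaRing.adams P j x - (j : K) ^ n * x) ∈ LambdaRing.gammaFiltration P (n + 1)) :
    ∃ N : ℕ, 1 ≤ N ∧ (N : K) * x ∈ LambdaRing.gammaFiltration P n := by

  open Groth.Agent.Helper4.AdamsGamma Groth.Agent.Helper1.Lambda in
  have key : ∀ m : ℕ, m ≤ n → ∃ N : ℕ, 1 ≤ N ∧ (N : K) * x ∈ LambdaRing.gammaFiltration P m := by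
    intro m
    induction m with
    | zero =>
      intro _
      exact ⟨1, le_refl _, by rw [filt_zero]; trivial⟩
    | succ m ih =>
      intro hm
      obtain ⟨N, hN, hNx⟩ := ih (by omega)
      obtain ⟨N', hN', hN'x⟩ := hx
      have h1 := adams_sub_mem P hK j m _ hNx
      have h2 : (N' : K) * (LambdaRing.adams P j x - (j : K) ^ n * x) ∈
          LambdaRing.gammaFiltration P (m + 1) := filt_anti P (by omega) hN'x
      have hlt : j ^ m < j ^ n := Nat.pow_lt_pow_right (by omega) (by omega)
      refine ⟨(j ^ n - j ^ m) * (N * N'), ?_, ?_⟩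
      · have : 1 ≤ j ^ n - j ^ m := by omega
        exact Nat.one_le_iff_ne_zero.mpr (Nat.mul_ne_zero (by omega) (Nat.mul_ne_zero (by omega) (by omega)))
      · have h3 := sub_mem (ideal_mem P _ (N' : K) _ h1) (ideal_mem P _ (N : K) _ h2)
        have hN1 : LambdaRing.adams P j ((N : K) * x) = (N : K) * LambdaRing.adams P j x := by
          rw [adams_mul P hK]
          congr 1
          exact map_natCast (adamsHom P hK j) N
        rw [hN1] at h3
        convert h3 using 1
        rw [Nat.cast_mul, Nat.cast_sub hlt.le]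
        push_cast
        ring
  exact key n le_rfl

end Groth.Agent.S3795
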