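import Groth.Statements.S3802
import Groth.Agent.Helper4.ElemExt
import Groth.Agent.S3780
import Mathlib

set_option autoImplicit false
universe v u
open CategoryTheory CategoryTheory.Limits AlgebraicGeometry
attribute [local instance] HasDerivedCategory.standard
open KRR

namespace Groth.Agent.S3802


/-- Let K be a λ-ring with positive structure having the splitting property, c positive with ε(c) = r +
1, and K_c = K[T]/(p_c) with generator ℓ, equipped with a λ-structure extending that of K with
λ^i(ℓ) = 0 for i ≥ 2 and a positive structure making K ⟶ K_c an extension with ℓ a line element and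
c - ℓ positive (when r ≥ 1), having the splitting property; let f : K_c ⟶ K be the associated
K-linear functional (f(ℓ^i) = σ^i(c) for i ≤ r). If z ∈ K_c satisfies z (1 - ℓ) = 0, then z = f(z) ·
λ_{-1}(c - ℓ), where λ_{-1}(c - ℓ) = Σ_{i ≤ r} (-1)^i λ^i(c - ℓ). -/
theorem result (K : Type v) [CommRing K] [LambdaRing.LambdaOps K] (P : LambdaRing.PosStructure K) (hK : LambdaRing.HasSplitting K P) (c : K) (hc : c ∈ P.pos) (r : ℕ) (hr : P.aug c = r + 1)
    (inst : LambdaRing.LambdaOps (AdjoinRoot (KRR.extPoly P c))) (Pc : @LambdaRing.PosStructure _ _ inst)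
    (hext : @LambdaRing.IsExtension K _ _ _ _ inst P Pc (AdjoinRoot.of (KRR.extPoly P c)))
    (hroot : ∀ i : ℕ, 2 ≤ i → @LambdaRing.LambdaOps.lam _ _ inst i (AdjoinRoot.root (KRR.extPoly P c)) = 0)
    (hline : @LambdaRing.PosStructure.IsLine _ _ inst Pc (AdjoinRoot.root (KRR.extPoly P c)))
    (hpos : 1 ≤ r → AdjoinRoot.of (KRR.extPoly P c) c - AdjoinRoot.root (KRR.extPoly P c) ∈ (@LambdaRing.PosStructure.pos _ _ inst Pc))
    (hsplit : @LambdaRing.HasSplitting _ _ inst Pc)
    (f : AdjoinRoot (KRR.extPoly P c) →ₗ[K] K)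
    (hf : ∀ i : ℕ, i ≤ r → f (AdjoinRoot.root (KRR.extPoly P c) ^ i) = KRR.sigma i c)
    (z : AdjoinRoot (KRR.extPoly P c)) (hz : z * (1 - AdjoinRoot.root (KRR.extPoly P c)) = 0) :
    z = AdjoinRoot.of (KRR.extPoly P c) (f z) *
      @KRR.lamAlt _ _ inst Pc (AdjoinRoot.of (KRR.extPoly P c) c - AdjoinRoot.root (KRR.extPoly P c)) := by

  classical
  letI := inst
  have hm : (P.aug c).toNat = r + 1 := by
    rw [hr]
    exact Int.toNat_natCast (r + 1)
  have hvan : ∀ i, r + 1 < i → LambdaRing.LambdaOps.lam i c = 0 := by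
    intro i hi
    apply P.lam_eq_zero c hc i
    rw [hr]
    exact_mod_cast hi
  have hunit : IsUnit (LambdaRing.LambdaOps.lam (r + 1) c) := by
    have := P.isUnit_lam c hc
    rwa [hm] at this
  have hf' : ∀ i, i < r + 1 → f (AdjoinRoot.root (KRR.extPoly P c) ^ i) = KRR.sigma i c :=
    fun i hi => hf i (by omega)
  have hext' : ∀ (i : ℕ) (x : K), LambdaRing.LambdaOps.lam i (AdjoinRoot.of (KRR.extPoly P c) x) =
      AdjoinRoot.of (KRR.extPoly P c) (LambdaRing.LambdaOps.lam i x) :=
    fun i x => (hext.isLambdaHom i x).symm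
  set ℓ := AdjoinRoot.root (KRR.extPoly P c) with hℓ
  set q := AdjoinRoot.of (KRR.extPoly P c) c - ℓ with hq
  -- ℓ is a unit
  obtain ⟨linv, hlinv⟩ : ∃ linv, linv * ℓ = 1 := by
    have := Pc.isUnit_lam ℓ hline.1
    rw [hline.2] at this
    have h1 : IsUnit ℓ := by simpa [LambdaRing.LambdaOps.lam_one] using this
    exact h1.exists_left_inv
  have hℓl : ℓ * linv = 1 := by rw [mul_comm]; exact hlinv
  -- the alternating sum
  have haugq : (Pc.aug q).toNat = r := by
    rw [hq, map_sub, hext.aug_comp, hline.2, hr]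
    simp
  set g := @KRR.lamAlt _ _ inst Pc q with hg
  have hgdef : g = ∑ i ∈ Finset.range (r + 1), (-1 : AdjoinRoot (KRR.extPoly P c)) ^ i *
      LambdaRing.LambdaOps.lam i q := by
    rw [hg]
    unfold KRR.lamAlt
    rw [haugq]
  have hstep := Groth.Agent.Helper4.ElemExt.lam_step P c inst hext' hroot
  have htop := Groth.Agent.Helper4.ElemExt.lam_top_eq_zero P c inst hext' hroot (r + 1) hm
  -- g (1 - ℓ) = λ_{-1}(c)
  set Λ : K := ∑ i ∈ Finset.range (r + 2), Groth.Agent.Helper4.ElemExt.c c i with hΛ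
  have hgl : g * (1 - ℓ) = AdjoinRoot.of (KRR.extPoly P c) Λ := by
    have h1 : ∀ i : ℕ, (-1 : AdjoinRoot (KRR.extPoly P c)) ^ i * LambdaRing.LambdaOps.lam i q * (1 - ℓ) =
        ((-1 : AdjoinRoot (KRR.extPoly P c)) ^ i * LambdaRing.LambdaOps.lam i q -
          (-1 : AdjoinRoot (KRR.extPoly P c)) ^ (i + 1) * LambdaRing.LambdaOps.lam (i + 1) q) +
        AdjoinRoot.of (KRR.extPoly P c) (Groth.Agent.Helper4.ElemExt.c c (i + 1)) := by
      intro i
      unfold Groth.Agent.Helper4.ElemExt.c
      rw [map_mul, map_pow, map_neg, map_one, hstep i]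
      ring
    rw [hgdef, Finset.sum_mul, Finset.sum_congr rfl (fun i _ => h1 i), Finset.sum_add_distrib,
      Finset.sum_range_sub', hΛ, Finset.sum_range_succ' _ (r + 1), map_add, map_sum]
    rw [htop, mul_zero, sub_zero, pow_zero, LambdaRing.LambdaOps.lam_zero, mul_one,
      Groth.Agent.Helper4.ElemExt.c_zero, map_one, add_comm]
  -- f g = 1
  have hfg : f g = 1 := by
    rw [hgdef, map_sum]
    have h1 : ∀ i ∈ Finset.range (r + 1),
        f ((-1 : AdjoinRoot (KRR.extPoly P c)) ^ i * LambdaRing.LambdaOps.lam i q) =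
          if i = 0 then 1 else 0 := by
      intro i _
      have e1 : (-1 : AdjoinRoot (KRR.extPoly P c)) ^ i * LambdaRing.LambdaOps.lam i q =
          ((-1 : K) ^ i) • LambdaRing.LambdaOps.lam i q := by
        rw [Groth.Agent.Helper4.ElemExt.smul_eq_of_mul, map_pow, map_neg, map_one]
      rw [e1, map_smul, Groth.Agent.S3780.result K P hK c hc r hr inst hext' hroot f hf i]
      split_ifs with h0
      · subst h0; simp
      · simp
    rw [Finset.sum_congr rfl h1, Finset.sum_ite_eq']
    simp
  -- f (g ℓ^{-n}) = 1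
  have hginv : g * linv = g + AdjoinRoot.of (KRR.extPoly P c) Λ * linv := by
    rw [← hgl]
    have : g * (1 - ℓ) * linv = g * linv - g * (ℓ * linv) := by ring
    rw [this, hℓl]; ring
  have hfgn : ∀ n, n < r + 1 → f (g * linv ^ n) = 1 := by
    intro n
    induction n with
    | zero => intro _; rw [pow_zero, mul_one]; exact hfg
    | succ n ih =>
      intro hn
      have e1 : g * linv ^ (n + 1) = g * linv ^ n + Λ • linv ^ (n + 1) := by
        rw [pow_succ', ← mul_assoc, hginv, Groth.Agent.Helper4.ElemExt.smul_eq_of_mul]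
        ring
      rw [e1, map_add, map_smul, ih (by omega),
        Groth.Agent.Helper4.ElemExt.f_inv_pow P c (r + 1) hm (by omega) hvan f hf' linv hlinv hunit
          (n + 1) (by omega) hn, smul_zero, add_zero]
  -- z ℓ^{-n} = z
  have hzl : z * ℓ = z := by
    have : z * ℓ = z - z * (1 - ℓ) := by ring
    rw [this, hz, sub_zero]
  have hzinv : ∀ n, z * linv ^ n = z := by
    intro n
    induction n with
    | zero => simp
    | succ n ih =>
      rw [pow_succ, ← mul_assoc, ih]
      conv_lhs => rw [← hzl, mul_assoc, hℓl, mul_one]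
  -- expansions
  obtain ⟨x, hx⟩ := Groth.Agent.Helper4.ElemExt.exists_expansion P c (r + 1) hm z
  obtain ⟨y, hy⟩ := Groth.Agent.Helper4.ElemExt.exists_expansion P c (r + 1) hm g
  set t := f z with ht
  have hsys : ∀ n, n < r + 1 → ∑ k ∈ Finset.range (r + 1), (x k - t * y k) *
      (if n ≤ k then KRR.sigma (k - n) c else 0) = 0 := by
    intro n hn
    have h1 := Groth.Agent.Helper4.ElemExt.f_expansion P c (r + 1) hm (by omega) hvan f hf' linv hlinv
      hunit x n hn
    have h2 := Groth.Agent.Helper4.ElemExt.f_expansion P c (r + 1) hm (by omega) hvan f hf' linv hlinv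
      hunit y n hn
    rw [← hx, hzinv n] at h1
    rw [← hy, hfgn n hn] at h2
    unfold Groth.Agent.Helper4.ElemExt.a at h1 h2
    simp only [sub_mul, Finset.sum_sub_distrib, mul_assoc, ← Finset.mul_sum]
    rw [← h1, ← h2, mul_one, sub_self]
  have hw := Groth.Agent.Helper4.ElemExt.triangular (r + 1) (fun j => KRR.sigma j c)
    (Groth.Agent.Helper4.ElemExt.sigma_zero c) (fun k => x k - t * y k) hsys
  have hfinal : z = t • g := by
    rw [hx, hy, Finset.smul_sum]
    refine Finset.sum_congr rfl fun k hk => ?_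
    rw [Finset.mem_range] at hk
    have := hw k hk
    rw [smul_smul, ← sub_eq_zero.mp this]
  rw [hfinal, Groth.Agent.Helper4.ElemExt.smul_eq_of_mul]

end Groth.Agent.S3802
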