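import Groth.Statements.S3809
import Groth.Agent.Helper1.IdealMap

set_option autoImplicit false
universe u
open scoped TensorProduct
open PP16

namespace Groth.Agent.S3809

/-- Let A → B → C be ring maps. Then the canonical map P^n_{C/A} → P^n_{C/B} is surjective, and its
kernel is the ideal generated by the image, under the canonical map P^n_{B/A} → P^n_{C/A}, of the
augmentation ideal of P^n_{B/A}. -/
theorem result (n : ℕ) (A B C : Type u) [CommRing A] [CommRing B] [CommRing C]
    [Algebra A B] [Algebra B C] [Algebra A C] [IsScalarTower A B C] :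
    Function.Surjective (PP16.map n A C B C) ∧
      RingHom.ker (PP16.map n A C B C) = (PP16.augIdeal n A B).map (PP16.map n A B A C) := by
  classical
  have hπtmul : ∀ c c' : C, PP16.tensorMap A C B C (c ⊗ₜ[A] c') = c ⊗ₜ[B] c' := fun c c' =>
    PP16.tensorMap_tmul A C B C c c'
  have hιtmul : ∀ b b' : B, PP16.tensorMap A B A C (b ⊗ₜ[A] b') =
      (algebraMap B C b) ⊗ₜ[A] (algebraMap B C b') := fun b b' =>
    PP16.tensorMap_tmul A B A C b b'
  have hπeq : ∀ t : C ⊗[A] C, PP16.tensorMap A C B C t =
      TensorProduct.mapOfCompatibleSMul B A B C C t := by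
    intro t
    induction t using TensorProduct.induction_on with
    | zero => simp
    | tmul c c' => rw [hπtmul]; rfl
    | add x y hx hy => rw [map_add, map_add, hx, hy]
  have hπsurj : Function.Surjective (PP16.tensorMap A C B C) := by
    intro y
    obtain ⟨t, ht⟩ := TensorProduct.mapOfCompatibleSMul_surjective B A B C C y
    exact ⟨t, (hπeq t).trans ht⟩
  have hsmul : ∀ (b : B) (x : C ⊗[A] C), b • x = ((algebraMap B C b) ⊗ₜ[A] (1 : C)) * x := by
    intro b x
    induction x using TensorProduct.induction_on with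
    | zero => simp
    | tmul c c' =>
      rw [TensorProduct.smul_tmul', Algebra.TensorProduct.tmul_mul_tmul, one_mul,
        Algebra.smul_def]
    | add x y hx' hy' => rw [smul_add, mul_add, hx', hy']
  -- the kernel of π
  have hker : RingHom.ker (PP16.tensorMap A C B C) =
      (KaehlerDifferential.ideal A B).map (PP16.tensorMap A B A C) := by
    apply le_antisymm
    · intro t ht
      rw [RingHom.mem_ker, hπeq] at ht
      have ht' : t ∈ LinearMap.ker (TensorProduct.mapOfCompatibleSMul B A B C C) := ht
      rw [TensorProduct.AlgebraTensorModule.ker_mapOfCompatibleSMul] at ht'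
      clear ht
      induction ht' using Submodule.span_induction with
      | mem x hx =>
        obtain ⟨b, c, c', rfl⟩ := hx
        have e : (b • c) ⊗ₜ[A] c' - c ⊗ₜ[A] (b • c') =
            (c ⊗ₜ[A] c') * -(PP16.tensorMap A B A C ((1 : B) ⊗ₜ[A] b - b ⊗ₜ[A] (1 : B))) := by
          rw [map_sub, hιtmul, hιtmul, map_one, neg_sub, mul_sub,
            Algebra.TensorProduct.tmul_mul_tmul, Algebra.TensorProduct.tmul_mul_tmul, mul_one,
            mul_one, Algebra.smul_def, Algebra.smul_def, mul_comm c, mul_comm c']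
        rw [e]
        exact Ideal.mul_mem_left _ _ (neg_mem (Ideal.mem_map_of_mem _
          (KaehlerDifferential.one_smul_sub_smul_one_mem_ideal A b)))
      | zero => exact zero_mem _
      | add x y _ _ hx hy => exact add_mem hx hy
      | smul b x _ hx =>
        rw [hsmul b x]
        exact Ideal.mul_mem_left _ _ hx
    · rw [Ideal.map_le_iff_le_comap, ← KaehlerDifferential.span_range_eq_ideal, Ideal.span_le]
      rintro _ ⟨b, rfl⟩
      show PP16.tensorMap A C B C (PP16.tensorMap A B A C ((1 : B) ⊗ₜ[A] b - b ⊗ₜ[A] (1 : B))) = 0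
      rw [map_sub, hιtmul, hιtmul, map_one, map_sub, hπtmul, hπtmul, sub_eq_zero]
      have : algebraMap B C b = b • (1 : C) := by rw [Algebra.smul_def, mul_one]
      rw [this, TensorProduct.smul_tmul]
  have hmapI : (KaehlerDifferential.ideal A C).map (PP16.tensorMap A C B C) =
      KaehlerDifferential.ideal B C := by
    apply le_antisymm (PP16.ideal_map_tensorMap_le A C B C)
    rw [← KaehlerDifferential.span_range_eq_ideal, Ideal.span_le]
    rintro _ ⟨c, rfl⟩
    have : (1 : C) ⊗ₜ[B] c - c ⊗ₜ[B] (1 : C) =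
        PP16.tensorMap A C B C ((1 : C) ⊗ₜ[A] c - c ⊗ₜ[A] (1 : C)) := by
      rw [map_sub, hπtmul, hπtmul]
    show (1 : C) ⊗ₜ[B] c - c ⊗ₜ[B] (1 : C) ∈
      (KaehlerDifferential.ideal A C).map (PP16.tensorMap A C B C)
    rw [this]
    exact Ideal.mem_map_of_mem _ (KaehlerDifferential.one_smul_sub_smul_one_mem_ideal A c)
  have hcomap : ((KaehlerDifferential.ideal B C) ^ (n + 1)).comap (PP16.tensorMap A C B C) =
      (KaehlerDifferential.ideal A C) ^ (n + 1) ⊔
        (KaehlerDifferential.ideal A B).map (PP16.tensorMap A B A C) := by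
    rw [← hmapI, ← Ideal.map_pow, Ideal.comap_map_of_surjective _ hπsurj, ← hker]
    rfl
  have haug : (PP16.augIdeal n A B).map (PP16.map n A B A C) =
      ((KaehlerDifferential.ideal A B).map (PP16.tensorMap A B A C)).map
        (Ideal.Quotient.mk ((KaehlerDifferential.ideal A C) ^ (n + 1))) := by
    unfold PP16.augIdeal
    rw [Groth.Agent.Helper1.IdealMap.map_map_gen _ _
      ((Ideal.Quotient.mk ((KaehlerDifferential.ideal A C) ^ (n + 1))).comp
        (PP16.tensorMap A B A C).toRingHom) (fun x => rfl),
      Groth.Agent.Helper1.IdealMap.map_map_gen (PP16.tensorMap A B A C)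
      (Ideal.Quotient.mk ((KaehlerDifferential.ideal A C) ^ (n + 1)))
      ((Ideal.Quotient.mk ((KaehlerDifferential.ideal A C) ^ (n + 1))).comp
        (PP16.tensorMap A B A C).toRingHom) (fun x => rfl)]
  constructor
  · intro y
    obtain ⟨t', rfl⟩ := Ideal.Quotient.mk_surjective y
    obtain ⟨t, rfl⟩ := hπsurj t'
    exact ⟨Ideal.Quotient.mk _ t, rfl⟩
  · rw [haug]
    ext x
    obtain ⟨t, rfl⟩ := Ideal.Quotient.mk_surjective x
    rw [RingHom.mem_ker]
    have h1 : PP16.map n A C B C (Ideal.Quotient.mk _ t) =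
        Ideal.Quotient.mk _ (PP16.tensorMap A C B C t) := rfl
    rw [h1, Ideal.Quotient.eq_zero_iff_mem, ← Ideal.mem_comap, hcomap,
      Groth.Agent.Helper1.IdealMap.mk_mem_map_mk_iff, sup_comm]

end Groth.Agent.S3809
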