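import Groth.Statements.S3808
import Groth.Agent.S3809

set_option autoImplicit false
universe u
open scoped TensorProduct
open PP16

namespace Groth.Agent.S3808

/-- Let A → B be a ring map, R a multiplicative subset of A, S one of B containing the image of R, and
A' = R⁻¹A, B' = S⁻¹B with the induced map A' → B'. Then the canonical map P^n_{B'/A} → P^n_{B'/A'}
is bijective. -/
theorem result (n : ℕ) (A B A' B' : Type u) [CommRing A] [CommRing B] [Algebra A B]
    [CommRing A'] [CommRing B'] [Algebra A A'] [Algebra B B'] [Algebra A' B'] [Algebra A B']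
    [IsScalarTower A A' B'] [IsScalarTower A B B'] (R : Submonoid A) (S : Submonoid B) [IsLocalization R A']
    [IsLocalization S B'] (hRS : ∀ r ∈ R, algebraMap A B r ∈ S) :
    Function.Bijective (PP16.map n A B' A' B') := by
  classical
  obtain ⟨hsurj, hker⟩ := Groth.Agent.S3809.result n A A' B'
  -- the diagonal ideal of a localization vanishes
  have hI : KaehlerDifferential.ideal A A' = ⊥ := by
    rw [← KaehlerDifferential.span_range_eq_ideal, Ideal.span_eq_bot]
    rintro _ ⟨a', rfl⟩
    obtain ⟨⟨a, r⟩, hra⟩ := IsLocalization.surj R a'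
    -- hra : a' * algebraMap r = algebraMap a
    have hunit : IsUnit (algebraMap A A' (r : A)) := IsLocalization.map_units A' r
    have hunitT : IsUnit ((algebraMap A A' (r : A)) ⊗ₜ[A] (1 : A')) :=
      hunit.map (Algebra.TensorProduct.includeLeft : A' →ₐ[A] A' ⊗[A] A')
    have h1 : ((algebraMap A A' (r : A)) ⊗ₜ[A] (1 : A')) * ((1 : A') ⊗ₜ[A] a' - a' ⊗ₜ[A] (1 : A')) =
        0 := by
      rw [mul_sub, Algebra.TensorProduct.tmul_mul_tmul, Algebra.TensorProduct.tmul_mul_tmul,
        mul_one, one_mul, mul_one]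
      have e1 : (algebraMap A A' (r : A)) ⊗ₜ[A] a' = (1 : A') ⊗ₜ[A] (algebraMap A A' a) := by
        rw [Algebra.algebraMap_eq_smul_one, TensorProduct.smul_tmul]
        congr 1
        rw [Algebra.smul_def, mul_comm]
        exact hra
      have e2 : (algebraMap A A' (r : A) * a') ⊗ₜ[A] (1 : A') =
          (algebraMap A A' a) ⊗ₜ[A] (1 : A') := by
        rw [mul_comm]
        exact congrArg (fun z => z ⊗ₜ[A] (1 : A')) hra
      rw [e1, e2, Algebra.algebraMap_eq_smul_one, TensorProduct.smul_tmul, sub_self]
    exact (hunitT.mul_right_eq_zero).1 h1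
  have haug : PP16.augIdeal n A A' = ⊥ := by
    unfold PP16.augIdeal
    apply (Ideal.map_eq_bot_iff_le_ker _).2
    intro x hx
    rw [hI, Ideal.mem_bot] at hx
    rw [hx]; exact zero_mem _
  rw [haug, Ideal.map_bot] at hker
  refine ⟨?_, hsurj⟩
  exact (RingHom.injective_iff_ker_eq_bot (PP16.map n A B' A' B').toRingHom).2 hker

end Groth.Agent.S3808
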