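import Groth.Statements.S3810


set_option autoImplicit false
universe u
open scoped TensorProduct
open PP16

namespace Groth.Agent.S3810

/-- Let B be an A-algebra, K an ideal of B and C = B/K. Then the canonical map P^n_{B/A} → P^n_{C/A} is
surjective and its kernel is the ideal generated by the image of K under the structure map B →
P^n_{B/A} together with the image of K under the principal-part map d^n (the latter is an additive
subgroup, not a B-submodule, in general). -/
theorem result (n : ℕ) (A B : Type u) [CommRing A] [CommRing B] [Algebra A B]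
    (K : Ideal B) :
    Function.Surjective (PP16.map n A B A (B ⧸ K)) ∧
      RingHom.ker (PP16.map n A B A (B ⧸ K)) =
        K.map (algebraMap B (PP16.P n A B)) ⊔ K.map (PP16.dn n A B) := by
  classical
  have hπtmul : ∀ b c : B, PP16.tensorMap A B A (B ⧸ K) (b ⊗ₜ c) =
      (Ideal.Quotient.mk K b) ⊗ₜ (Ideal.Quotient.mk K c) := fun b c =>
    PP16.tensorMap_tmul A B A (B ⧸ K) b c
  have hπeq : PP16.tensorMap A B A (B ⧸ K) =
      Algebra.TensorProduct.map (Ideal.Quotient.mkₐ A K) (Ideal.Quotient.mkₐ A K) := by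
    apply Algebra.TensorProduct.ext'
    intro b c
    rw [hπtmul, Algebra.TensorProduct.map_tmul]
    rfl
  have hmksurj : Function.Surjective (Ideal.Quotient.mkₐ A K) := Ideal.Quotient.mkₐ_surjective A K
  have hπsurj : Function.Surjective (PP16.tensorMap A B A (B ⧸ K)) := by
    rw [hπeq]
    exact Algebra.TensorProduct.map_surjective _ _ hmksurj hmksurj
  have hπker : RingHom.ker (PP16.tensorMap A B A (B ⧸ K)) =
      K.map (Algebra.TensorProduct.includeLeft : B →ₐ[A] B ⊗[A] B) ⊔
        K.map (Algebra.TensorProduct.includeRight : B →ₐ[A] B ⊗[A] B) := by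
    rw [hπeq, Algebra.TensorProduct.map_ker _ _ hmksurj hmksurj]
    have : RingHom.ker (Ideal.Quotient.mkₐ A K) = K := Ideal.Quotient.mkₐ_ker A K
    rw [this]
  have hmapI : (KaehlerDifferential.ideal A B).map (PP16.tensorMap A B A (B ⧸ K)) =
      KaehlerDifferential.ideal A (B ⧸ K) := by
    apply le_antisymm (PP16.ideal_map_tensorMap_le A B A (B ⧸ K))
    rw [← KaehlerDifferential.span_range_eq_ideal, Ideal.span_le]
    rintro _ ⟨c, rfl⟩
    obtain ⟨b, rfl⟩ := Ideal.Quotient.mk_surjective c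
    have : (1 : B ⧸ K) ⊗ₜ[A] (Ideal.Quotient.mk K b) - (Ideal.Quotient.mk K b) ⊗ₜ[A] (1 : B ⧸ K) =
        PP16.tensorMap A B A (B ⧸ K) ((1 : B) ⊗ₜ[A] b - b ⊗ₜ[A] (1 : B)) := by
      rw [map_sub, hπtmul, hπtmul, map_one]
    show (1 : B ⧸ K) ⊗ₜ[A] (Ideal.Quotient.mk K b) - (Ideal.Quotient.mk K b) ⊗ₜ[A] (1 : B ⧸ K) ∈
      (KaehlerDifferential.ideal A B).map (PP16.tensorMap A B A (B ⧸ K))
    rw [this]
    exact Ideal.mem_map_of_mem _ (KaehlerDifferential.one_smul_sub_smul_one_mem_ideal A b)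
  have hcomap : ((KaehlerDifferential.ideal A (B ⧸ K)) ^ (n + 1)).comap
      (PP16.tensorMap A B A (B ⧸ K)) =
      (KaehlerDifferential.ideal A B) ^ (n + 1) ⊔
        (K.map (Algebra.TensorProduct.includeLeft : B →ₐ[A] B ⊗[A] B) ⊔
        K.map (Algebra.TensorProduct.includeRight : B →ₐ[A] B ⊗[A] B)) := by
    rw [← hmapI, ← Ideal.map_pow, Ideal.comap_map_of_surjective _ hπsurj, ← hπker]
    rfl
  have halg : ∀ k : B, algebraMap B (PP16.P n A B) k =
      Ideal.Quotient.mk ((KaehlerDifferential.ideal A B) ^ (n + 1))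
        ((Algebra.TensorProduct.includeLeft : B →ₐ[A] B ⊗[A] B) k) := fun k => rfl
  have hdn : ∀ k : B, PP16.dn n A B k =
      Ideal.Quotient.mk ((KaehlerDifferential.ideal A B) ^ (n + 1))
        ((Algebra.TensorProduct.includeRight : B →ₐ[A] B ⊗[A] B) k) := fun k => rfl
  have hKL : K.map (algebraMap B (PP16.P n A B)) =
      (K.map (Algebra.TensorProduct.includeLeft : B →ₐ[A] B ⊗[A] B)).map
        (Ideal.Quotient.mk ((KaehlerDifferential.ideal A B) ^ (n + 1))) := by
    apply le_antisymm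
    · rw [Ideal.map_le_iff_le_comap]
      intro k hk
      rw [Ideal.mem_comap, halg]
      exact Ideal.mem_map_of_mem _ (Ideal.mem_map_of_mem _ hk)
    · rw [Ideal.map_le_iff_le_comap, Ideal.map_le_iff_le_comap]
      intro k hk
      rw [Ideal.mem_comap, Ideal.mem_comap, ← halg]
      exact Ideal.mem_map_of_mem _ hk
  have hKR : K.map (PP16.dn n A B) =
      (K.map (Algebra.TensorProduct.includeRight : B →ₐ[A] B ⊗[A] B)).map
        (Ideal.Quotient.mk ((KaehlerDifferential.ideal A B) ^ (n + 1))) := by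
    apply le_antisymm
    · rw [Ideal.map_le_iff_le_comap]
      intro k hk
      rw [Ideal.mem_comap, hdn]
      exact Ideal.mem_map_of_mem _ (Ideal.mem_map_of_mem _ hk)
    · rw [Ideal.map_le_iff_le_comap, Ideal.map_le_iff_le_comap]
      intro k hk
      rw [Ideal.mem_comap, Ideal.mem_comap, ← hdn]
      exact Ideal.mem_map_of_mem _ hk
  constructor
  · intro y
    obtain ⟨t', rfl⟩ := Ideal.Quotient.mk_surjective y
    obtain ⟨t, rfl⟩ := hπsurj t'
    exact ⟨Ideal.Quotient.mk _ t, rfl⟩
  · rw [hKL, hKR, ← Ideal.map_sup]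
    ext x
    obtain ⟨t, rfl⟩ := Ideal.Quotient.mk_surjective x
    rw [RingHom.mem_ker]
    have h1 : PP16.map n A B A (B ⧸ K) (Ideal.Quotient.mk _ t) =
        Ideal.Quotient.mk _ (PP16.tensorMap A B A (B ⧸ K) t) := rfl
    rw [h1, Ideal.Quotient.eq_zero_iff_mem, ← Ideal.mem_comap, hcomap,
      Ideal.mem_map_iff_of_surjective _ Ideal.Quotient.mk_surjective]
    constructor
    · intro ht
      obtain ⟨i, hi, j, hj, rfl⟩ := Submodule.mem_sup.1 ht
      refine ⟨j, hj, ?_⟩
      rw [map_add, (Ideal.Quotient.eq_zero_iff_mem).2 hi, zero_add]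
    · rintro ⟨w, hw, hwt⟩
      have h2 : t - w ∈ (KaehlerDifferential.ideal A B) ^ (n + 1) := by
        rw [← Ideal.Quotient.eq]; exact hwt.symm
      have : t = (t - w) + w := by abel
      rw [this]
      exact Submodule.add_mem_sup h2 hw

end Groth.Agent.S3810
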