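import Groth.Statements.S3811


set_option autoImplicit false
universe u
open scoped TensorProduct
open PP16

namespace Groth.Agent.S3811

/-- Let B be an A-algebra with an A-algebra retraction g : B → A, and K the kernel of g. The composite
of d^n : B → P^n_{B/A} with the projection P^n_{B/A} → P^n_{B/A} / K P^n_{B/A} (base change of
P^n_{B/A} along g) is surjective with kernel K^(n+1); thus P^n_{B/A} ⊗_B A is identified with
B/K^(n+1), the class of d^n t corresponding to the class of t. -/
theorem result (n : ℕ) (A B : Type u) [CommRing A] [CommRing B] [Algebra A B]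
    (g : B →ₐ[A] A) :
    Function.Surjective ((Ideal.Quotient.mk ((RingHom.ker g).map (algebraMap B (PP16.P n A B)))).comp
        (PP16.dn n A B).toRingHom) ∧
      RingHom.ker ((Ideal.Quotient.mk ((RingHom.ker g).map (algebraMap B (PP16.P n A B)))).comp
        (PP16.dn n A B).toRingHom) = RingHom.ker g ^ (n + 1) := by
  classical
  -- notation
  obtain ⟨θ, hθ⟩ : ∃ θ : B ⊗[A] B →ₐ[A] B, ∀ x y, θ (x ⊗ₜ y) = algebraMap A B (g x) * y :=
    ⟨Algebra.TensorProduct.lift ((Algebra.ofId A B).comp g) (AlgHom.id A B)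
      (fun _ _ => Commute.all _ _), fun x y => by simp [Algebra.ofId_apply]⟩
  have hg_alg : ∀ a : A, g (algebraMap A B a) = a := fun a => by
    rw [AlgHom.commutes]; rfl
  have hsub_mem : ∀ x : B, x - algebraMap A B (g x) ∈ RingHom.ker g := by
    intro x
    rw [RingHom.mem_ker, map_sub, hg_alg, sub_self]
  -- F1
  have F1 : ∀ z : B ⊗[A] B, z - (1 : B) ⊗ₜ[A] θ z ∈
      (RingHom.ker g).map (Algebra.TensorProduct.includeLeft : B →ₐ[A] B ⊗[A] B) := by
    intro z
    induction z using TensorProduct.induction_on with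
    | zero => simp
    | tmul x y =>
      rw [hθ]
      have e : (1 : B) ⊗ₜ[A] (algebraMap A B (g x) * y) = (algebraMap A B (g x)) ⊗ₜ[A] y := by
        rw [← Algebra.smul_def, TensorProduct.tmul_smul, TensorProduct.smul_tmul',
          Algebra.smul_def, mul_one]
      rw [e, ← TensorProduct.sub_tmul]
      have e2 : (x - algebraMap A B (g x)) ⊗ₜ[A] y =
          (Algebra.TensorProduct.includeLeft : B →ₐ[A] B ⊗[A] B) (x - algebraMap A B (g x)) *
            ((1 : B) ⊗ₜ[A] y) := by
        rw [Algebra.TensorProduct.includeLeft_apply, Algebra.TensorProduct.tmul_mul_tmul,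
          mul_one, one_mul]
      rw [e2]
      exact Ideal.mul_mem_right _ _ (Ideal.mem_map_of_mem _ (hsub_mem x))
    | add z z' hz hz' =>
      have : z + z' - (1 : B) ⊗ₜ[A] θ (z + z') =
          (z - (1 : B) ⊗ₜ[A] θ z) + (z' - (1 : B) ⊗ₜ[A] θ z') := by
        rw [map_add, TensorProduct.tmul_add]; abel
      rw [this]
      exact add_mem hz hz'
  have hθ1 : ∀ b : B, θ ((1 : B) ⊗ₜ[A] b) = b := by
    intro b; rw [hθ, map_one, map_one, one_mul]
  have hθsurj : Function.Surjective θ := fun b => ⟨_, hθ1 b⟩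
  have hJker : (RingHom.ker g).map (Algebra.TensorProduct.includeLeft : B →ₐ[A] B ⊗[A] B) ≤
      RingHom.ker θ := by
    rw [Ideal.map_le_iff_le_comap]
    intro k hk
    rw [Ideal.mem_comap, RingHom.mem_ker, Algebra.TensorProduct.includeLeft_apply, hθ,
      (RingHom.mem_ker).1 hk, map_zero, zero_mul]
  -- F2
  have F2 : (KaehlerDifferential.ideal A B).map θ = RingHom.ker g := by
    apply le_antisymm
    · rw [← KaehlerDifferential.span_range_eq_ideal, Ideal.map_span, Ideal.span_le]
      rintro _ ⟨_, ⟨b, rfl⟩, rfl⟩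
      show θ ((1 : B) ⊗ₜ[A] b - b ⊗ₜ[A] (1 : B)) ∈ RingHom.ker g
      rw [map_sub, hθ1, hθ, mul_one]
      exact hsub_mem b
    · intro k hk
      have : k = θ ((1 : B) ⊗ₜ[A] k - k ⊗ₜ[A] (1 : B)) := by
        rw [map_sub, hθ1, hθ, (RingHom.mem_ker).1 hk, map_zero, zero_mul, sub_zero]
      rw [this]
      exact Ideal.mem_map_of_mem _ (KaehlerDifferential.one_smul_sub_smul_one_mem_ideal A k)
  have F2' : ((KaehlerDifferential.ideal A B) ^ (n + 1)).map θ = RingHom.ker g ^ (n + 1) := by
    rw [Ideal.map_pow, F2]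
  -- key lemma
  have hKe : (RingHom.ker g).map (algebraMap B (PP16.P n A B)) =
      ((RingHom.ker g).map (Algebra.TensorProduct.includeLeft : B →ₐ[A] B ⊗[A] B)).map
        (Ideal.Quotient.mk ((KaehlerDifferential.ideal A B) ^ (n + 1))) := by
    have halg : ∀ k : B, algebraMap B (PP16.P n A B) k =
        Ideal.Quotient.mk ((KaehlerDifferential.ideal A B) ^ (n + 1))
          ((Algebra.TensorProduct.includeLeft : B →ₐ[A] B ⊗[A] B) k) := fun k => rfl
    apply le_antisymm
    · rw [Ideal.map_le_iff_le_comap]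
      intro k hk
      rw [Ideal.mem_comap, halg]
      exact Ideal.mem_map_of_mem _ (Ideal.mem_map_of_mem _ hk)
    · rw [Ideal.map_le_iff_le_comap, Ideal.map_le_iff_le_comap]
      intro k hk
      rw [Ideal.mem_comap, Ideal.mem_comap, ← halg]
      exact Ideal.mem_map_of_mem _ hk
  have hkey : ∀ z : B ⊗[A] B,
      Ideal.Quotient.mk ((KaehlerDifferential.ideal A B) ^ (n + 1)) z ∈
        (RingHom.ker g).map (algebraMap B (PP16.P n A B)) ↔
      z ∈ (RingHom.ker g).map (Algebra.TensorProduct.includeLeft : B →ₐ[A] B ⊗[A] B) ⊔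
        (KaehlerDifferential.ideal A B) ^ (n + 1) := by
    intro z
    rw [hKe, Ideal.mem_map_iff_of_surjective _ Ideal.Quotient.mk_surjective]
    constructor
    · rintro ⟨w, hw, hwz⟩
      have h1 : z - w ∈ (KaehlerDifferential.ideal A B) ^ (n + 1) := by
        rw [← Ideal.Quotient.eq]; exact hwz.symm
      have : z = w + (z - w) := by abel
      rw [this]
      exact Submodule.add_mem_sup hw h1
    · intro hz
      obtain ⟨j, hj, i, hi, rfl⟩ := Submodule.mem_sup.1 hz
      refine ⟨j, hj, ?_⟩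
      rw [map_add, (Ideal.Quotient.eq_zero_iff_mem).2 hi, add_zero]
  have hdn : ∀ b : B, (PP16.dn n A B) b =
      Ideal.Quotient.mk ((KaehlerDifferential.ideal A B) ^ (n + 1)) ((1 : B) ⊗ₜ[A] b) := fun b => rfl
  constructor
  · intro y
    obtain ⟨p, rfl⟩ := Ideal.Quotient.mk_surjective y
    obtain ⟨z, rfl⟩ := Ideal.Quotient.mk_surjective p
    refine ⟨θ z, ?_⟩
    rw [RingHom.comp_apply]
    show Ideal.Quotient.mk _ ((PP16.dn n A B) (θ z)) = _
    rw [hdn, eq_comm, Ideal.Quotient.eq, ← map_sub, hkey]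
    exact Submodule.mem_sup_left (F1 z)
  · ext b
    rw [RingHom.mem_ker, RingHom.comp_apply]
    show Ideal.Quotient.mk _ ((PP16.dn n A B) b) = 0 ↔ _
    rw [Ideal.Quotient.eq_zero_iff_mem, hdn, hkey]
    constructor
    · intro h
      obtain ⟨j, hj, i, hi, hji⟩ := Submodule.mem_sup.1 h
      have : b = θ j + θ i := by rw [← map_add, hji, hθ1]
      rw [this, (RingHom.mem_ker).1 (hJker hj), zero_add, ← F2']
      exact Ideal.mem_map_of_mem _ hi
    · intro hb
      rw [← F2', Ideal.mem_map_iff_of_surjective _ hθsurj] at hb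
      obtain ⟨w, hw, rfl⟩ := hb
      have : (1 : B) ⊗ₜ[A] θ w = -(w - (1 : B) ⊗ₜ[A] θ w) + w := by abel
      rw [this]
      exact Submodule.add_mem_sup (neg_mem (F1 w)) hw

end Groth.Agent.S3811
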