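import Groth.Statements.S3812
import Mathlib

set_option autoImplicit false
universe u
open scoped TensorProduct
open PP16

namespace Groth.Agent.S3812

section aux
open MvPolynomial
variable (A : Type u) [CommRing A] (σ : Type u)

/-- the translation automorphism `U_i ↦ U_i + T_i` of `A[T][U]` -/
noncomputable def sh : MvPolynomial σ (MvPolynomial σ A) ≃ₐ[MvPolynomial σ A]
    MvPolynomial σ (MvPolynomial σ A) :=
  AlgEquiv.ofAlgHom
    (aeval fun i => (X i + C (X i : MvPolynomial σ A)))
    (aeval fun i => (X i - C (X i : MvPolynomial σ A)))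
    (by
      apply MvPolynomial.algHom_ext
      intro i
      simp)
    (by
      apply MvPolynomial.algHom_ext
      intro i
      simp)

lemma sh_X (i : σ) : sh A σ (X i) = X i + C (X i : MvPolynomial σ A) := by
  simp [sh]

noncomputable def e1 : (MvPolynomial σ A) ⊗[A] (MvPolynomial σ A) ≃ₐ[MvPolynomial σ A]
    MvPolynomial σ (MvPolynomial σ A) :=
  (MvPolynomial.algebraTensorAlgEquiv A (MvPolynomial σ A)).trans (sh A σ)

lemma e1_one_tmul_X (i : σ) :
    e1 A σ ((1 : MvPolynomial σ A) ⊗ₜ[A] (X i : MvPolynomial σ A)) =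
      X i + C (X i : MvPolynomial σ A) := by
  rw [e1, AlgEquiv.trans_apply, algebraTensorAlgEquiv_tmul, one_smul, map_X, sh_X]

lemma hmul : (Algebra.TensorProduct.lmul' A :
      (MvPolynomial σ A) ⊗[A] (MvPolynomial σ A) →ₐ[A] MvPolynomial σ A) =
    ((aeval (0 : σ → MvPolynomial σ A) :
        MvPolynomial σ (MvPolynomial σ A) →ₐ[MvPolynomial σ A] MvPolynomial σ A).restrictScalars A).comp
      ((e1 A σ).toAlgHom.restrictScalars A) := by
  apply Algebra.TensorProduct.ext
  · apply AlgHom.ext
    intro b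
    simp only [AlgHom.comp_apply, Algebra.TensorProduct.includeLeft_apply,
      Algebra.TensorProduct.lmul'_apply_tmul, mul_one, AlgHom.restrictScalars_apply]
    have : (b ⊗ₜ[A] (1 : MvPolynomial σ A) : (MvPolynomial σ A) ⊗[A] (MvPolynomial σ A)) =
        algebraMap (MvPolynomial σ A) _ b := rfl
    rw [this]
    show b = aeval (0 : σ → MvPolynomial σ A) ((e1 A σ) (algebraMap (MvPolynomial σ A) _ b))
    rw [AlgEquiv.commutes, AlgHom.commutes]
    rfl
  · apply MvPolynomial.algHom_ext
    intro i
    simp only [AlgHom.comp_apply, Algebra.TensorProduct.includeRight_apply,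
      AlgHom.restrictScalars_apply, Algebra.TensorProduct.lmul'_apply_tmul, one_mul]
    show X i = aeval (0 : σ → MvPolynomial σ A) ((e1 A σ) ((1 : MvPolynomial σ A) ⊗ₜ[A] X i))
    rw [e1_one_tmul_X]
    simp

lemma hker : Ideal.map (e1 A σ) (KaehlerDifferential.ideal A (MvPolynomial σ A)) =
    Ideal.span (Set.range (X : σ → MvPolynomial σ (MvPolynomial σ A))) := by
  have h1 : KaehlerDifferential.ideal A (MvPolynomial σ A) =
      Ideal.comap (e1 A σ) (RingHom.ker (aeval (0 : σ → MvPolynomial σ A) :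
        MvPolynomial σ (MvPolynomial σ A) →ₐ[MvPolynomial σ A] MvPolynomial σ A)) := by
    ext t
    rw [Ideal.mem_comap, RingHom.mem_ker]
    show t ∈ RingHom.ker (Algebra.TensorProduct.lmul' A :
      (MvPolynomial σ A) ⊗[A] (MvPolynomial σ A) →ₐ[A] MvPolynomial σ A) ↔ _
    rw [RingHom.mem_ker, hmul]
    rfl
  rw [h1, Ideal.map_comap_of_surjective _ (e1 A σ).surjective]
  have h2 : Ideal.span (Set.range (X : σ → MvPolynomial σ (MvPolynomial σ A))) =
      idealOfVars σ (MvPolynomial σ A) ^ 1 := by rw [pow_one]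
  rw [h2]
  ext f
  rw [mem_pow_idealOfVars_iff', RingHom.mem_ker]
  have h3 : aeval (0 : σ → MvPolynomial σ A) f = coeff 0 f := by
    rw [aeval_zero, constantCoeff_eq]
    rfl
  constructor
  · intro h x hx
    have hx0 : x = 0 := by
      have h1 : x.degree = 0 := by omega
      exact (Finsupp.degree_eq_zero_iff x).1 h1
    rw [hx0, ← h3]
    exact h
  · intro h
    have := h 0 (by simp)
    rw [← h3] at this
    exact this

end aux

/-- Let B = A[T_i] be a polynomial algebra. There is an isomorphism of B-algebras from P^n_{B/A} onto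
B[U_i]/(U)^(n+1), where (U) is the ideal generated by the new indeterminates, sending the principal
part d^n T_i to the class of T_i + U_i for every i (so d^n F(T) goes to the class of F(T + U)). -/
theorem result (n : ℕ) (A : Type u) [CommRing A] (σ : Type u) :
    ∃ e : PP16.P n A (MvPolynomial σ A) ≃ₐ[MvPolynomial σ A]
        (MvPolynomial σ (MvPolynomial σ A) ⧸
          Ideal.span (Set.range (MvPolynomial.X : σ → MvPolynomial σ (MvPolynomial σ A))) ^ (n + 1)),
      ∀ i : σ, e (PP16.dn n A (MvPolynomial σ A) (MvPolynomial.X i)) =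
        Ideal.Quotient.mk _ (MvPolynomial.C (MvPolynomial.X i : MvPolynomial σ A) +
          (MvPolynomial.X i : MvPolynomial σ (MvPolynomial σ A))) := by
  classical
  have hJ : Ideal.span (Set.range (MvPolynomial.X : σ → MvPolynomial σ (MvPolynomial σ A))) ^ (n + 1) =
      Ideal.map (e1 A σ) (KaehlerDifferential.ideal A (MvPolynomial σ A) ^ (n + 1)) := by
    rw [Ideal.map_pow, hker]
  let e : PP16.P n A (MvPolynomial σ A) ≃ₐ[MvPolynomial σ A] (MvPolynomial σ (MvPolynomial σ A) ⧸
      Ideal.span (Set.range (MvPolynomial.X : σ → MvPolynomial σ (MvPolynomial σ A))) ^ (n + 1)) :=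
    Ideal.quotientEquivAlg _ _ (e1 A σ) hJ
  refine ⟨e, ?_⟩
  intro i
  show e (Ideal.Quotient.mk _ ((1 : MvPolynomial σ A) ⊗ₜ[A] (MvPolynomial.X i : MvPolynomial σ A))) = _
  rw [Ideal.quotientEquivAlg_mk]
  have := e1_one_tmul_X A σ i
  rw [add_comm] at this
  rw [← this]

end Groth.Agent.S3812
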