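import Groth.Statements.S3813
import Mathlib

set_option autoImplicit false
universe u
open scoped TensorProduct
open PP16

namespace Groth.Agent.S3813

section aux
open Algebra.TensorProduct
variable (A : Type u) [CommRing A] (E : Type u) [AddCommGroup E] [Module A E]

local notation "SA" => SymmetricAlgebra A E

/-- `t ↦ t ⊗ 1 + 1 ⊗ t` -/
noncomputable def phiP : E →ₗ[A] SA ⊗[A] SA :=
  (includeLeft (R := A) (S := A) (A := SA) (B := SA)).toLinearMap ∘ₗ SymmetricAlgebra.ι A E +
    (includeRight (R := A) (A := SA) (B := SA)).toLinearMap ∘ₗ SymmetricAlgebra.ι A E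

/-- `t ↦ 1 ⊗ t - t ⊗ 1` -/
noncomputable def phiM : E →ₗ[A] SA ⊗[A] SA :=
  (includeRight (R := A) (A := SA) (B := SA)).toLinearMap ∘ₗ SymmetricAlgebra.ι A E -
    (includeLeft (R := A) (S := A) (A := SA) (B := SA)).toLinearMap ∘ₗ SymmetricAlgebra.ι A E

lemma phiP_apply (t : E) : phiP A E t =
    SymmetricAlgebra.ι A E t ⊗ₜ[A] (1 : SA) + (1 : SA) ⊗ₜ[A] SymmetricAlgebra.ι A E t := rfl

lemma phiM_apply (t : E) : phiM A E t =
    (1 : SA) ⊗ₜ[A] SymmetricAlgebra.ι A E t - SymmetricAlgebra.ι A E t ⊗ₜ[A] (1 : SA) := rfl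

noncomputable def alphaHom : SA ⊗[A] SA →ₐ[SA] SA ⊗[A] SA :=
  Algebra.TensorProduct.lift (includeLeft (R := A) (S := SA) (A := SA) (B := SA))
    (SymmetricAlgebra.lift (phiP A E)) (fun _ _ => Commute.all _ _)

noncomputable def betaHom : SA ⊗[A] SA →ₐ[SA] SA ⊗[A] SA :=
  Algebra.TensorProduct.lift (includeLeft (R := A) (S := SA) (A := SA) (B := SA))
    (SymmetricAlgebra.lift (phiM A E)) (fun _ _ => Commute.all _ _)

lemma alphaHom_left (s : SA) : alphaHom A E (s ⊗ₜ[A] (1 : SA)) = s ⊗ₜ[A] (1 : SA) := by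
  simp [alphaHom]

lemma alphaHom_right (t : E) : alphaHom A E ((1 : SA) ⊗ₜ[A] SymmetricAlgebra.ι A E t) =
    SymmetricAlgebra.ι A E t ⊗ₜ[A] (1 : SA) + (1 : SA) ⊗ₜ[A] SymmetricAlgebra.ι A E t := by
  simp only [alphaHom, Algebra.TensorProduct.lift_tmul, map_one, SymmetricAlgebra.lift_ι_apply,
    phiP_apply, one_mul]

lemma betaHom_left (s : SA) : betaHom A E (s ⊗ₜ[A] (1 : SA)) = s ⊗ₜ[A] (1 : SA) := by
  simp [betaHom]

lemma betaHom_right (t : E) : betaHom A E ((1 : SA) ⊗ₜ[A] SymmetricAlgebra.ι A E t) =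
    (1 : SA) ⊗ₜ[A] SymmetricAlgebra.ι A E t - SymmetricAlgebra.ι A E t ⊗ₜ[A] (1 : SA) := by
  simp only [betaHom, Algebra.TensorProduct.lift_tmul, map_one, SymmetricAlgebra.lift_ι_apply,
    phiM_apply, one_mul]

lemma alpha_beta : (alphaHom A E).comp (betaHom A E) = AlgHom.id SA (SA ⊗[A] SA) := by
  apply Algebra.TensorProduct.ext
  · apply AlgHom.ext
    intro s
    simp only [AlgHom.comp_apply, includeLeft_apply, betaHom_left, alphaHom_left, AlgHom.id_apply]
  · apply SymmetricAlgebra.algHom_ext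
    apply LinearMap.ext
    intro t
    show (alphaHom A E) ((betaHom A E) ((1 : SA) ⊗ₜ[A] SymmetricAlgebra.ι A E t)) =
      (1 : SA) ⊗ₜ[A] SymmetricAlgebra.ι A E t
    rw [betaHom_right, map_sub, alphaHom_right, alphaHom_left]
    abel

lemma beta_alpha : (betaHom A E).comp (alphaHom A E) = AlgHom.id SA (SA ⊗[A] SA) := by
  apply Algebra.TensorProduct.ext
  · apply AlgHom.ext
    intro s
    simp only [AlgHom.comp_apply, includeLeft_apply, betaHom_left, alphaHom_left, AlgHom.id_apply]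
  · apply SymmetricAlgebra.algHom_ext
    apply LinearMap.ext
    intro t
    show (betaHom A E) ((alphaHom A E) ((1 : SA) ⊗ₜ[A] SymmetricAlgebra.ι A E t)) =
      (1 : SA) ⊗ₜ[A] SymmetricAlgebra.ι A E t
    rw [alphaHom_right, map_add, betaHom_right, betaHom_left]
    abel

noncomputable def alpha : SA ⊗[A] SA ≃ₐ[SA] SA ⊗[A] SA :=
  AlgEquiv.ofAlgHom (alphaHom A E) (betaHom A E) (alpha_beta A E) (beta_alpha A E)

lemma alpha_apply (x : SA ⊗[A] SA) : alpha A E x = alphaHom A E x := rfl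

/-- the augmentation -/
noncomputable abbrev eps : SA →ₐ[A] A := SymmetricAlgebra.lift (0 : E →ₗ[A] A)

/-- `s ⊗ s' ↦ s * ε(s')` -/
noncomputable def mu' : SA ⊗[A] SA →ₐ[SA] SA :=
  Algebra.TensorProduct.lift (AlgHom.id SA SA) ((Algebra.ofId A SA).comp (eps A E))
    (fun _ _ => Commute.all _ _)

lemma mu'_tmul (s s' : SA) : mu' A E (s ⊗ₜ[A] s') = s * algebraMap A SA (eps A E s') := by
  simp [mu', Algebra.ofId_apply]

lemma lmul_eq : (Algebra.TensorProduct.lmul' A : SA ⊗[A] SA →ₐ[A] SA) =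
    ((mu' A E).restrictScalars A).comp ((alphaHom A E).restrictScalars A) := by
  apply Algebra.TensorProduct.ext
  · apply AlgHom.ext
    intro s
    simp only [AlgHom.comp_apply, includeLeft_apply, lmul'_apply_tmul, mul_one,
      AlgHom.restrictScalars_apply, alphaHom_left, mu'_tmul, map_one]
  · apply SymmetricAlgebra.algHom_ext
    apply LinearMap.ext
    intro t
    show (Algebra.TensorProduct.lmul' A : SA ⊗[A] SA →ₐ[A] SA)
        ((1 : SA) ⊗ₜ[A] SymmetricAlgebra.ι A E t) =
      (mu' A E) ((alphaHom A E) ((1 : SA) ⊗ₜ[A] SymmetricAlgebra.ι A E t))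
    rw [alphaHom_right, map_add, mu'_tmul, mu'_tmul, lmul'_apply_tmul, one_mul, map_one, map_one,
      mul_one, SymmetricAlgebra.lift_ι_apply, LinearMap.zero_apply, map_zero, mul_zero, add_zero]

lemma ker_mu' : RingHom.ker (mu' A E) =
    Ideal.map (includeRight (R := A) (A := SA) (B := SA)) (RingHom.ker (eps A E)) := by
  apply le_antisymm
  · intro x hx
    rw [RingHom.mem_ker] at hx
    have key : ∀ x : SA ⊗[A] SA, x - (mu' A E x) ⊗ₜ[A] (1 : SA) ∈
        Ideal.map (includeRight (R := A) (A := SA) (B := SA)) (RingHom.ker (eps A E)) := by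
      intro x
      induction x using TensorProduct.induction_on with
      | zero => simp
      | add x y hx hy =>
        rw [map_add, TensorProduct.add_tmul]
        have : x + y - ((mu' A E x) ⊗ₜ[A] (1 : SA) + (mu' A E y) ⊗ₜ[A] (1 : SA)) =
          (x - (mu' A E x) ⊗ₜ[A] (1 : SA)) + (y - (mu' A E y) ⊗ₜ[A] (1 : SA)) := by abel
        rw [this]
        exact Ideal.add_mem _ hx hy
      | tmul s s' =>
        rw [mu'_tmul]
        have : s ⊗ₜ[A] s' - (s * algebraMap A SA (eps A E s')) ⊗ₜ[A] (1 : SA) =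
            (s ⊗ₜ[A] (1 : SA)) * ((1 : SA) ⊗ₜ[A] (s' - algebraMap A SA (eps A E s'))) := by
          rw [Algebra.TensorProduct.tmul_mul_tmul, mul_one, one_mul, TensorProduct.tmul_sub]
          congr 1
          rw [Algebra.algebraMap_eq_smul_one, mul_smul_comm, mul_one, TensorProduct.smul_tmul,
            ]
        rw [this]
        apply Ideal.mul_mem_left
        apply Ideal.mem_map_of_mem
        rw [RingHom.mem_ker, map_sub, AlgHom.commutes]
        simp
    have := key x
    rw [hx, TensorProduct.zero_tmul, sub_zero] at this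
    exact this
  · rw [Ideal.map_le_iff_le_comap]
    intro k hk
    rw [RingHom.mem_ker] at hk
    rw [Ideal.mem_comap, RingHom.mem_ker]
    show mu' A E ((1 : SA) ⊗ₜ[A] k) = 0
    rw [mu'_tmul, hk, map_zero, mul_zero]

lemma map_alpha_ideal : Ideal.map (alpha A E) (KaehlerDifferential.ideal A SA) =
    Ideal.map (includeRight (R := A) (A := SA) (B := SA)) (RingHom.ker (eps A E)) := by
  have h1 : KaehlerDifferential.ideal A SA = Ideal.comap (alpha A E) (RingHom.ker (mu' A E)) := by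
    ext t
    rw [Ideal.mem_comap, RingHom.mem_ker]
    show t ∈ RingHom.ker (Algebra.TensorProduct.lmul' A : SA ⊗[A] SA →ₐ[A] SA) ↔ _
    rw [RingHom.mem_ker, lmul_eq]
    rfl
  rw [h1, Ideal.map_comap_of_surjective _ (alpha A E).surjective, ker_mu']

end aux

/-- Let E be an A-module, B = Sym_A(E) its symmetric algebra and K the augmentation ideal of B (the
kernel of the A-algebra map B → A killing E). For every n there is an isomorphism of B-algebras from
P^n_{B/A} onto B ⊗_A (B/K^(n+1)) sending the principal part d^n t of an element t of E to t ⊗ 1 + 1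
⊗ (class of t). -/
theorem result (n : ℕ) (A : Type u) [CommRing A] (E : Type u) [AddCommGroup E]
    [Module A E] :
    ∃ e : PP16.P n A (SymmetricAlgebra A E) ≃ₐ[SymmetricAlgebra A E]
        (SymmetricAlgebra A E ⊗[A] (SymmetricAlgebra A E ⧸
          RingHom.ker (SymmetricAlgebra.lift (0 : E →ₗ[A] A)) ^ (n + 1))),
      ∀ t : E, e (PP16.dn n A (SymmetricAlgebra A E) (SymmetricAlgebra.ι A E t)) =
        SymmetricAlgebra.ι A E t ⊗ₜ 1 + 1 ⊗ₜ Ideal.Quotient.mk _ (SymmetricAlgebra.ι A E t) := by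
  classical
  have hJ : Ideal.map (Algebra.TensorProduct.includeRight (R := A) (A := SymmetricAlgebra A E)
        (B := SymmetricAlgebra A E)) (RingHom.ker (eps A E) ^ (n + 1)) =
      Ideal.map (alpha A E) (KaehlerDifferential.ideal A (SymmetricAlgebra A E) ^ (n + 1)) := by
    rw [Ideal.map_pow, Ideal.map_pow, map_alpha_ideal]
  let e1 : PP16.P n A (SymmetricAlgebra A E) ≃ₐ[SymmetricAlgebra A E]
      ((SymmetricAlgebra A E ⊗[A] SymmetricAlgebra A E) ⧸
        Ideal.map (Algebra.TensorProduct.includeRight (R := A) (A := SymmetricAlgebra A E)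
        (B := SymmetricAlgebra A E)) (RingHom.ker (eps A E) ^ (n + 1))) :=
    Ideal.quotientEquivAlg _ _ (alpha A E) hJ
  let e2 := (Algebra.TensorProduct.tensorQuotientEquiv (R := A) (SymmetricAlgebra A E)
    (SymmetricAlgebra A E) (SymmetricAlgebra A E) (RingHom.ker (eps A E) ^ (n + 1))).symm
  refine ⟨e1.trans e2, ?_⟩
  intro t
  show e2 (e1 (Ideal.Quotient.mk _ ((1 : SymmetricAlgebra A E) ⊗ₜ[A] SymmetricAlgebra.ι A E t))) = _
  rw [Ideal.quotientEquivAlg_mk]
  show e2 (Ideal.Quotient.mk _ (alphaHom A E ((1 : SymmetricAlgebra A E) ⊗ₜ[A] SymmetricAlgebra.ι A E t))) = _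
  rw [alphaHom_right, map_add, map_add]
  rfl

end Groth.Agent.S3813
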