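import Groth.Statements.S3816
import Mathlib
import Groth.Agent.Helper7.SymT14

set_option autoImplicit false
universe u
open scoped TensorProduct
open scoped BigOperators
open PP16

namespace Groth.Agent.S3816

/-- a) iff b) (affine form, finite family): let B be an A-algebra and z_1, …, z_r elements of B whose
differentials generate the module of differentials of B over A. The following are equivalent: (a) B
is differentially smooth over A and (dz_i) is a basis of the module of differentials; (b) there is a
family (D_p), indexed by multi-indices p, of differential operators B → B (each of some finite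
order) with D_p(z^q) = (∏ binom(q_i, p_i)) z^(q-p) for all p, q. -/
theorem result (A B : Type u) [CommRing A] [CommRing B]
    [Algebra A B] (ι : Type) [Fintype ι] [DecidableEq ι] (z : ι → B)
    (hz : Submodule.span B (Set.range fun i => KaehlerDifferential.D A B (z i)) = ⊤) :
    (PP16.IsDiffSmooth A B ∧
        ∃ b : Module.Basis ι B (KaehlerDifferential A B), ∀ i, b i = KaehlerDifferential.D A B (z i)) ↔
      ∃ Dp : (ι → ℕ) → (B →ₗ[A] B),
        (∀ p, ∃ k : ℕ, Diff16.IsDiffOpLE A B B B k (Dp p)) ∧
        ∀ p q : ι → ℕ, Dp p (∏ i, z i ^ q i) =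
          ((∏ i, Nat.choose (q i) (p i) : ℕ) : B) * ∏ i, z i ^ (q i - p i) := by
    constructor
    · rintro ⟨hB, ω, hω⟩
      have hinj := ((Groth.Agent.Helper7.SymT.isDiffSmooth_iff A B).1 hB).2
      have hex := fun m : ℕ => Groth.Agent.Helper7.SymT.exists_basis_P A B z ω hω hinj m
      choose bb hbb using hex
      refine ⟨fun p => Groth.Agent.Helper7.SymT.Dcoord A B (∑ i, p i) (bb (∑ i, p i)) ⟨p, le_rfl⟩,
        fun p => ⟨∑ i, p i, Groth.Agent.Helper7.SymT.isDiffOpLE_Dcoord A B _ _ _⟩, fun p q => ?_⟩
      exact Groth.Agent.Helper7.SymT.Dcoord_monomial A B z (∑ i, p i) (bb (∑ i, p i))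
        (hbb (∑ i, p i)) ⟨p, le_rfl⟩ q
    · rintro ⟨Dp, hD, hDz⟩
      exact Groth.Agent.Helper7.SymT.isDiffSmooth_of_Dp A B z Dp hz hD hDz

end Groth.Agent.S3816
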