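import Groth.Statements.S3825
import Mathlib
import Groth.Agent.S3824

set_option autoImplicit false
universe u
open QReg16

namespace Groth.Agent.S3825

section aux
variable {A : Type u} [CommRing A] (I : Ideal A)

lemma mk_smul_toCotangent (a : A) (x : I) :
    (Ideal.Quotient.mk I a) • I.toCotangent x = I.toCotangent (a • x) := by
  rw [map_smul]
  rfl

lemma sum_mk_smul_toCotangent {m : ℕ} (a : Fin m → A) (f : Fin m → I) :
    ∑ i, (Ideal.Quotient.mk I (a i)) • I.toCotangent (f i) = I.toCotangent (∑ i, a i • f i) := by
  rw [map_sum]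
  apply Finset.sum_congr rfl
  intro i _
  exact mk_smul_toCotangent I (a i) (f i)

/-- the forward direction: a quasi-regular generating family gives a basis of the conormal module -/
theorem basis_of_qreg {m : ℕ} (f : Fin m → I)
    (hq : CAlgX.IsQuasiRegular (fun i => (f i : A)))
    (hs : Ideal.span (Set.range fun i => (f i : A)) = I) :
    LinearIndependent (A ⧸ I) (fun i => I.toCotangent (f i)) ∧
      Submodule.span (A ⧸ I) (Set.range fun i => I.toCotangent (f i)) = ⊤ := by
  classical
  constructor
  · rw [Fintype.linearIndependent_iff]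
    intro c hc i
    have hsurj : ∀ j, ∃ a : A, Ideal.Quotient.mk I a = c j := fun j => Ideal.Quotient.mk_surjective _
    choose a ha using hsurj
    have hc' : ∑ j, (Ideal.Quotient.mk I (a j)) • I.toCotangent (f j) = 0 := by
      simp_rw [ha]; exact hc
    rw [sum_mk_smul_toCotangent, Ideal.toCotangent_eq_zero] at hc'
    let P : MvPolynomial (Fin m) A := ∑ j, MvPolynomial.C (a j) * MvPolynomial.X j
    have hP : P.IsHomogeneous 1 :=
      MvPolynomial.IsHomogeneous.sum _ _ _ (fun k _ => MvPolynomial.isHomogeneous_C_mul_X _ _)
    have hev : MvPolynomial.eval (fun i => (f i : A)) P = ((∑ j, a j • f j : I) : A) := by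
      simp only [P, map_sum, map_mul, MvPolynomial.eval_C, MvPolynomial.eval_X]
      rw [Submodule.coe_sum]
      apply Finset.sum_congr rfl
      intro j _
      rfl
    have := hq 1 P hP (by rw [hev, hs]; exact hc') (Finsupp.single i 1)
    have hcf : MvPolynomial.coeff (Finsupp.single i 1) P = a i := by
      simp only [P, MvPolynomial.coeff_sum, MvPolynomial.coeff_C_mul, MvPolynomial.coeff_X']
      rw [Finset.sum_eq_single i]
      · simp
      · intro b _ hb
        have : Finsupp.single b 1 ≠ Finsupp.single i 1 := by
          intro e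
          exact hb (Finsupp.single_left_injective (one_ne_zero) e)
        rw [if_neg this, mul_zero]
      · intro hh; exact absurd (Finset.mem_univ i) hh
    rw [hcf, hs] at this
    rw [← ha i]
    exact Ideal.Quotient.eq_zero_iff_mem.2 this
  · rw [eq_top_iff]
    intro y _
    obtain ⟨x, rfl⟩ := I.toCotangent_surjective y
    have hx : (x : A) ∈ Ideal.span (Set.range fun i => (f i : A)) := by rw [hs]; exact x.2
    obtain ⟨a, ha⟩ := (Ideal.mem_span_range_iff_exists_fun).1 hx
    have hx' : x = ∑ i, a i • f i := by
      apply Subtype.ext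
      rw [Submodule.coe_sum, ← ha]
      apply Finset.sum_congr rfl
      intro j _
      rfl
    rw [hx', ← sum_mk_smul_toCotangent]
    apply Submodule.sum_mem
    intro i _
    exact Submodule.smul_mem _ _ (Submodule.subset_span ⟨i, rfl⟩)

end aux

/-- a) iff c) (affine local form): let A be a local ring and I a proper ideal generated by some
quasi-regular sequence. For a finite family (f_i) of elements of I, the following are equivalent:
(a) (f_i) is a quasi-regular sequence generating I; (c) the classes of the f_i form a basis of the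
A/I-module I/I² (equivalently, b): (f_i) is a minimal system of generators of I). -/
theorem result {A : Type u} [CommRing A] [IsLocalRing A]
    (I : Ideal A) (hI : I ≤ IsLocalRing.maximalIdeal A)
    (hq : ∃ (r : ℕ) (g : Fin r → A), CAlgX.IsQuasiRegular g ∧ Ideal.span (Set.range g) = I)
    {m : ℕ} (f : Fin m → I) :
    (CAlgX.IsQuasiRegular (fun i => (f i : A)) ∧ Ideal.span (Set.range fun i => (f i : A)) = I) ↔
      (LinearIndependent (A ⧸ I) (fun i => I.toCotangent (f i)) ∧
        Submodule.span (A ⧸ I) (Set.range fun i => I.toCotangent (f i)) = ⊤) := by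
  classical
  constructor
  · rintro ⟨hq1, hs⟩
    exact basis_of_qreg I f hq1 hs
  · rintro ⟨hli, hsp⟩
    obtain ⟨r, g, hgq, hgs⟩ := hq
    -- g as a family in I
    have hgI : ∀ i, g i ∈ I := fun i => by rw [← hgs]; exact Ideal.subset_span ⟨i, rfl⟩
    let g' : Fin r → I := fun i => ⟨g i, hgI i⟩
    obtain ⟨hgli, hgsp⟩ := basis_of_qreg I g' hgq hgs
    have hnt : Nontrivial (A ⧸ I) := by
      apply Ideal.Quotient.nontrivial_iff.2
      intro htop
      have : (1 : A) ∈ IsLocalRing.maximalIdeal A := hI (htop ▸ Submodule.mem_top)
      exact (IsLocalRing.maximalIdeal A).ne_top_iff_one.1 (IsLocalRing.maximalIdeal.isMaximal A).ne_top this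
    let bf : Module.Basis (Fin m) (A ⧸ I) I.Cotangent := Module.Basis.mk hli hsp.ge
    let bg : Module.Basis (Fin r) (A ⧸ I) I.Cotangent := Module.Basis.mk hgli hgsp.ge
    have hmr : m = r := by
      have e := bf.indexEquiv bg
      have := Fintype.card_congr e
      simpa using this
    subst hmr
    -- span of f equals I by Nakayama
    have hIfg : (I : Submodule A A).FG := by
      rw [← hgs]; exact Submodule.fg_span (Set.finite_range g)
    have hle : Ideal.span (Set.range fun i => (f i : A)) ≤ I := by
      rw [Ideal.span_le]
      rintro _ ⟨i, rfl⟩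
      exact (f i).2
    have hjac : I ≤ Ideal.jacobson (⊥ : Ideal A) := by
      rw [IsLocalRing.jacobson_eq_maximalIdeal ⊥ bot_ne_top]
      exact hI
    have hNN : (I : Submodule A A) ≤ Ideal.span (Set.range fun i => (f i : A)) ⊔ I • (I : Submodule A A) := by
      intro x hx
      have hy : I.toCotangent ⟨x, hx⟩ ∈ Submodule.span (A ⧸ I) (Set.range fun i => I.toCotangent (f i)) := by
        rw [hsp]; trivial
      obtain ⟨c, hc⟩ := (Submodule.mem_span_range_iff_exists_fun _).1 hy
      have hsurj : ∀ j, ∃ a : A, Ideal.Quotient.mk I a = c j := fun j => Ideal.Quotient.mk_surjective _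
      choose a ha using hsurj
      simp_rw [← ha] at hc
      rw [sum_mk_smul_toCotangent, Ideal.toCotangent_eq] at hc
      have hx2 : x = ((∑ i, a i • f i : I) : A) + (x - ((∑ i, a i • f i : I) : A)) := by ring
      rw [hx2]
      apply Submodule.add_mem_sup
      · rw [Submodule.coe_sum]
        apply Submodule.sum_mem
        intro i _
        exact Ideal.mul_mem_left _ _ (Ideal.subset_span ⟨i, rfl⟩)
      · have : x - ((∑ i, a i • f i : I) : A) = -(((∑ i, a i • f i : I) : A) - x) := by ring
        rw [this]
        apply Submodule.neg_mem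
        have h2 : I • (I : Submodule A A) = I ^ 2 := by rw [pow_two]; rfl
        rw [h2]
        exact hc
    have hspan : Ideal.span (Set.range fun i => (f i : A)) = I :=
      le_antisymm hle (Submodule.le_of_le_smul_of_le_jacobson_bot hIfg hjac hNN)
    refine ⟨?_, hspan⟩
    exact Groth.Agent.S3824.result g (fun i => (f i : A)) hgq (by rw [hspan, hgs])

end Groth.Agent.S3825
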