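import Groth.Statements.S3828
import Mathlib
import Groth.Agent.Helper1.QuasiReg2
import Groth.Agent.Helper1.SplitPowers

set_option autoImplicit false
universe u
open QReg16

namespace Groth.Agent.S3828

/-- Let A be a Noetherian ring, J an ideal of A, and f_1, …, f_r elements of A forming a weakly regular
sequence on A/J (each f_i a nonzerodivisor on A/(J + (f_1, …, f_{i−1}))) and generating an ideal R
contained in the Jacobson radical of A; put Q = J + R. Then J ∩ Rⁿ = J·Rⁿ for every n > 0, and J ∩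
Q² = J·Q (equivalently, the canonical map J/JQ → Q/Q² is injective). -/
theorem result {A : Type u} [CommRing A] [IsNoetherianRing A] (J : Ideal A)
    {r : ℕ} (f : Fin r → A) (hf : RingTheory.Sequence.IsWeaklyRegular (A ⧸ J) (List.ofFn f))
    (hrad : Ideal.span (Set.range f) ≤ (⊥ : Ideal A).jacobson) :
    (∀ n : ℕ, 0 < n → J ⊓ Ideal.span (Set.range f) ^ n = J * Ideal.span (Set.range f) ^ n) ∧
      J ⊓ (J ⊔ Ideal.span (Set.range f)) ^ 2 = J * (J ⊔ Ideal.span (Set.range f)) := by
  have hmain : ∀ n : ℕ, J ⊓ Ideal.span (Set.range f) ^ n = J * Ideal.span (Set.range f) ^ n := by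
    intro n
    apply le_antisymm
    · intro x hx
      refine Groth.Agent.Helper1.SplitPowers.mem_of_forall_mem_sup (P := A)
        (Ideal.span (Set.range f)) hrad (J * Ideal.span (Set.range f) ^ n) x ?_
      intro N
      have h1 : x ∈ J * Ideal.span (Set.range f) ^ n ⊔ J ⊓ Ideal.span (Set.range f) ^ (n + N) := by
        rw [← Groth.Agent.Helper1.QuasiReg.inf_pow_eq J f hf n (n + N) (Nat.le_add_right n N)]
        exact hx
      have hle : J ⊓ Ideal.span (Set.range f) ^ (n + N) ≤
          (Ideal.span (Set.range f) ^ N • ⊤ : Submodule A A) := by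
        intro y hy
        have h2 : y ∈ Ideal.span (Set.range f) ^ N :=
          Ideal.pow_le_pow_right (Nat.le_add_left N n) hy.2
        rw [smul_eq_mul, Ideal.mul_top]
        exact h2
      exact (sup_le_sup_left hle _ : _ ≤ _) h1
    · exact le_inf Ideal.mul_le_left Ideal.mul_le_right
  refine ⟨fun n _ => hmain n, ?_⟩
  apply le_antisymm
  · intro x hx
    have hxJ : x ∈ J := hx.1
    have hxQ : x ∈ (J ⊔ Ideal.span (Set.range f)) ^ 2 := hx.2
    rw [pow_two, Ideal.sup_mul, Ideal.mul_sup, Ideal.mul_sup] at hxQ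
    obtain ⟨a, ha, b, hb, hab⟩ := Submodule.mem_sup.mp hxQ
    obtain ⟨a1, ha1, a2, ha2, rfl⟩ := Submodule.mem_sup.mp ha
    obtain ⟨b1, hb1, b2, hb2, rfl⟩ := Submodule.mem_sup.mp hb
    have hb1' : b1 ∈ J * Ideal.span (Set.range f) := by rwa [mul_comm] at hb1
    have hb2J : b2 ∈ J := by
      have : b2 = x - a1 - a2 - b1 := by rw [← hab]; ring
      rw [this]
      exact Ideal.sub_mem _ (Ideal.sub_mem _ (Ideal.sub_mem _ hxJ (Ideal.mul_le_left ha1))
        (Ideal.mul_le_left ha2)) (Ideal.mul_le_left hb1')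
    have hb2' : b2 ∈ J * Ideal.span (Set.range f) ^ 2 := by
      rw [← hmain 2, pow_two]
      exact ⟨hb2J, hb2⟩
    rw [← hab, Ideal.mul_sup]
    refine Ideal.add_mem _ (Ideal.add_mem _ (Ideal.mem_sup_left ha1) (Ideal.mem_sup_right ha2))
      (Ideal.add_mem _ (Ideal.mem_sup_right hb1') (Ideal.mem_sup_right ?_))
    exact Ideal.mul_mono_right (Ideal.pow_le_self (by norm_num)) hb2'
  · refine le_inf Ideal.mul_le_left ?_
    rw [pow_two]
    exact Ideal.mul_mono_left le_sup_left

end Groth.Agent.S3828
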