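import Groth.Statements.S3835
import Groth.Agent.S3843
import Groth.Agent.S2879
import Mathlib

set_option autoImplicit false
universe u
open CategoryTheory CategoryTheory.Limits AlgebraicGeometry TopologicalSpace
open Rat20

namespace Groth.Agent.S3835

/-- Let Y be separated over S, X an S-scheme with a schematically dense open subscheme U, h : U → Y an
S-morphism (a representative of a pseudo-morphism from X to Y over S), and f : X' → X a flat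
morphism locally of finite presentation, X' being regarded as an S-scheme through f. Let x' be a
point of X' with image x = f(x'). If there is an S-morphism from an open neighbourhood V' of x' to Y
agreeing with h ∘ f on f⁻¹(U) ∩ V' (the pulled-back pseudo-morphism is defined at x'), then there is
an S-morphism from an open neighbourhood V of x to Y agreeing with h on U ∩ V (the pseudo-morphism
is defined at x). -/
theorem result {X X' Y S : Scheme.{u}} (pX : X ⟶ S) (pY : Y ⟶ S)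
    [IsSeparated pY] (U : X.Opens) (hU : CInt.IsSchematicallyDense U) (h : (U : Scheme.{u}) ⟶ Y)
    (hh : h ≫ pY = U.ι ≫ pX) (f : X' ⟶ X) [Flat f] [LocallyOfFinitePresentation f] (x' : ↥X')
    (V' : X'.Opens) (hx' : x' ∈ V') (v' : (V' : Scheme.{u}) ⟶ Y) (hv'S : v' ≫ pY = V'.ι ≫ f ≫ pX)
    (hv' : X'.homOfLE (inf_le_right : f ⁻¹ᵁ U ⊓ V' ≤ V') ≫ v' =
      X'.homOfLE (inf_le_left : f ⁻¹ᵁ U ⊓ V' ≤ f ⁻¹ᵁ U) ≫ (f ∣_ U) ≫ h) :
    ∃ (V : X.Opens) (v : (V : Scheme.{u}) ⟶ Y), f x' ∈ V ∧ v ≫ pY = V.ι ≫ pX ∧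
      X.homOfLE (inf_le_right : U ⊓ V ≤ V) ≫ v = X.homOfLE (inf_le_left : U ⊓ V ≤ U) ≫ h := by
  -- affine neighbourhood W of f x'
  obtain ⟨W, hW, hxW⟩ : ∃ W : X.Opens, IsAffineOpen W ∧ f x' ∈ W := by
    obtain ⟨_, ⟨W, hW, rfl⟩, hxW, -⟩ :=
      (X.isBasis_affineOpens).exists_subset_of_mem_open (Set.mem_univ (f x')) isOpen_univ
    exact ⟨W, hW, hxW⟩
  -- affine neighbourhood V'' of x' inside V' ⊓ f⁻¹ W
  obtain ⟨V'', hV''aff, hxV'', hV''le⟩ : ∃ V'' : X'.Opens, IsAffineOpen V'' ∧ x' ∈ V'' ∧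
      V'' ≤ V' ⊓ f ⁻¹ᵁ W := by
    obtain ⟨_, ⟨V'', hV'', rfl⟩, hx, hle⟩ :=
      (X'.isBasis_affineOpens).exists_subset_of_mem_open
        (show x' ∈ ((V' ⊓ f ⁻¹ᵁ W : X'.Opens) : Set ↥X') from ⟨hx', hxW⟩) (V' ⊓ f ⁻¹ᵁ W).2
    exact ⟨V'', hV'', hx, hle⟩
  have hV''V' : V'' ≤ V' := hV''le.trans inf_le_left
  have hV''W : V'' ≤ f ⁻¹ᵁ W := hV''le.trans inf_le_right
  -- the open image
  have hopen : IsOpenMap f := f.isOpenMap
  let V : X.Opens := ⟨f '' (V'' : Set ↥X'), hopen _ V''.2⟩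
  have hVW : V ≤ W := by
    rintro _ ⟨y, hy, rfl⟩
    exact hV''W hy
  have hxV : f x' ∈ V := ⟨x', hxV'', rfl⟩
  -- the restricted morphism
  have hrange : Set.range (V''.ι ≫ f) ⊆ Set.range V.ι := by
    rintro _ ⟨y, rfl⟩
    rw [Scheme.Opens.range_ι]
    exact ⟨V''.ι y, by simpa using y.2, by simp⟩
  let fV : (V'' : Scheme.{u}) ⟶ (V : Scheme.{u}) := IsOpenImmersion.lift V.ι (V''.ι ≫ f) hrange
  have hfV : fV ≫ V.ι = V''.ι ≫ f := IsOpenImmersion.lift_fac _ _ _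
  haveI : Flat fV := by
    have : Flat (fV ≫ V.ι) := by rw [hfV]; infer_instance
    exact MorphismProperty.of_postcomp (W := @Flat) (W' := @IsOpenImmersion) fV V.ι inferInstance this
  haveI : LocallyOfFinitePresentation fV := by
    have : LocallyOfFinitePresentation (fV ≫ V.ι) := by rw [hfV]; infer_instance
    exact MorphismProperty.of_postcomp (W := @LocallyOfFinitePresentation)
      (W' := @IsOpenImmersion) fV V.ι inferInstance this
  haveI : Surjective fV := by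
    refine ⟨fun y => ?_⟩
    obtain ⟨z, hz, hzy⟩ := y.2
    refine ⟨⟨z, hz⟩, ?_⟩
    apply V.ι.isOpenEmbedding.injective
    rw [← Scheme.Hom.comp_apply, hfV]
    simpa using hzy
  haveI : CompactSpace ↥(V'' : Scheme.{u}) := by
    haveI : IsAffine (V'' : Scheme.{u}) := hV''aff
    infer_instance
  haveI : QuasiSeparatedSpace ↥(V : Scheme.{u}) := by
    haveI : IsAffine (W : Scheme.{u}) := hW
    exact quasiSeparatedSpace_of_quasiSeparated (X.homOfLE hVW)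
  haveI : QuasiCompact fV := inferInstance
  -- schematic density upstairs
  let UV : (V : Scheme.{u}).Opens := V.ι ⁻¹ᵁ U
  have hUV : CInt.IsSchematicallyDense UV := Groth.Agent.S3843.result V.ι U hU
  have hUV' : CInt.IsSchematicallyDense (fV ⁻¹ᵁ UV) := Groth.Agent.S3843.result fV UV hUV
  have hUV'' : CInt.IsSchematicallyDense ((pullback.fst fV fV) ⁻¹ᵁ (fV ⁻¹ᵁ UV)) :=
    Groth.Agent.S3843.result (pullback.fst fV fV) _ hUV'
  -- the data for descent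
  let g : (UV : Scheme.{u}) ⟶ Y := (V.ι ∣_ U) ≫ h
  have hg : g ≫ pY = UV.ι ≫ V.ι ≫ pX := by
    simp only [g, Category.assoc, hh]
    rw [← Category.assoc, morphismRestrict_ι, Category.assoc]
  let g' : (V'' : Scheme.{u}) ⟶ Y := X'.homOfLE hV''V' ≫ v'
  have hg'S : g' ≫ pY = fV ≫ V.ι ≫ pX := by
    simp only [g', Category.assoc, hv'S]
    rw [← Category.assoc, Scheme.homOfLE_ι, ← Category.assoc fV, hfV, Category.assoc]
  have hg' : (fV ⁻¹ᵁ UV).ι ≫ g' = (fV ∣_ UV) ≫ g := by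
    have hr : Set.range ((fV ⁻¹ᵁ UV).ι ≫ V''.ι) ⊆ Set.range (f ⁻¹ᵁ U ⊓ V').ι := by
      rintro _ ⟨y, rfl⟩
      rw [Scheme.Opens.range_ι]
      have hy : fV ((fV ⁻¹ᵁ UV).ι y) ∈ UV := y.2
      have hy2 : V.ι (fV ((fV ⁻¹ᵁ UV).ι y)) ∈ U := hy
      rw [← Scheme.Hom.comp_apply, hfV] at hy2
      refine ⟨by simpa using hy2, ?_⟩
      exact hV''V' (by simp)
    let j : ((fV ⁻¹ᵁ UV : (V'' : Scheme.{u}).Opens) : Scheme.{u}) ⟶
        ((f ⁻¹ᵁ U ⊓ V' : X'.Opens) : Scheme.{u}) :=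
      IsOpenImmersion.lift (f ⁻¹ᵁ U ⊓ V').ι ((fV ⁻¹ᵁ UV).ι ≫ V''.ι) hr
    have hj : j ≫ (f ⁻¹ᵁ U ⊓ V').ι = (fV ⁻¹ᵁ UV).ι ≫ V''.ι := IsOpenImmersion.lift_fac _ _ _
    have h1 : (fV ⁻¹ᵁ UV).ι ≫ X'.homOfLE hV''V' =
        j ≫ X'.homOfLE (inf_le_right : f ⁻¹ᵁ U ⊓ V' ≤ V') := by
      rw [← cancel_mono V'.ι]
      simp only [Category.assoc, Scheme.homOfLE_ι, hj]
    have h2 : (fV ∣_ UV) ≫ (V.ι ∣_ U) =
        j ≫ X'.homOfLE (inf_le_left : f ⁻¹ᵁ U ⊓ V' ≤ f ⁻¹ᵁ U) ≫ (f ∣_ U) := by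
      rw [← cancel_mono U.ι]
      simp only [Category.assoc, morphismRestrict_ι]
      rw [← Category.assoc (fV ∣_ UV), morphismRestrict_ι, Category.assoc, hfV,
        ← Category.assoc (X'.homOfLE _), Scheme.homOfLE_ι, ← Category.assoc j, hj,
        Category.assoc]
    calc (fV ⁻¹ᵁ UV).ι ≫ g' = ((fV ⁻¹ᵁ UV).ι ≫ X'.homOfLE hV''V') ≫ v' := by
          simp only [g', Category.assoc]
      _ = j ≫ X'.homOfLE (inf_le_right : f ⁻¹ᵁ U ⊓ V' ≤ V') ≫ v' := by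
          rw [h1, Category.assoc]
      _ = j ≫ X'.homOfLE (inf_le_left : f ⁻¹ᵁ U ⊓ V' ≤ f ⁻¹ᵁ U) ≫ (f ∣_ U) ≫ h := by rw [hv']
      _ = ((fV ∣_ UV) ≫ (V.ι ∣_ U)) ≫ h := by rw [h2]; simp only [Category.assoc]
      _ = (fV ∣_ UV) ≫ g := by simp only [g, Category.assoc]
  obtain ⟨v, hv1, hv2⟩ := Groth.Agent.S2879.result (V.ι ≫ pX) pY fV UV hUV'' g hg g' hg'S hg'
  refine ⟨V, v, hxV, hv2, ?_⟩
  have hr2 : Set.range (U ⊓ V).ι ⊆ Set.range (UV.ι ≫ V.ι) := by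
    rintro _ ⟨y, rfl⟩
    have hyU : (U ⊓ V).ι y ∈ U := (by simpa using y.2 : _ ∈ U ⊓ V).1
    have hyV : (U ⊓ V).ι y ∈ V := (by simpa using y.2 : _ ∈ U ⊓ V).2
    refine ⟨⟨⟨(U ⊓ V).ι y, hyV⟩, ?_⟩, ?_⟩
    · show V.ι ⟨(U ⊓ V).ι y, hyV⟩ ∈ U
      simpa using hyU
    · simp
  let k : ((U ⊓ V : X.Opens) : Scheme.{u}) ⟶ (UV : Scheme.{u}) :=
    IsOpenImmersion.lift (UV.ι ≫ V.ι) (U ⊓ V).ι hr2
  have hk : k ≫ UV.ι ≫ V.ι = (U ⊓ V).ι := IsOpenImmersion.lift_fac _ _ _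
  have hk1 : X.homOfLE (inf_le_right : U ⊓ V ≤ V) = k ≫ UV.ι := by
    rw [← cancel_mono V.ι]
    simp only [Category.assoc, Scheme.homOfLE_ι]
    exact hk.symm
  have hk2 : X.homOfLE (inf_le_left : U ⊓ V ≤ U) = k ≫ (V.ι ∣_ U) := by
    rw [← cancel_mono U.ι]
    simp only [Category.assoc, Scheme.homOfLE_ι, morphismRestrict_ι]
    exact hk.symm
  rw [hk1, hk2, Category.assoc, hv1, Category.assoc]

end Groth.Agent.S3835
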