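import Groth.Statements.S3845
import Mathlib

set_option autoImplicit false
universe u
open scoped TensorProduct
open CategoryTheory CategoryTheory.Limits AlgebraicGeometry TopologicalSpace
open Unram17

namespace Groth.Agent.S3845

/-- a) iff b): let f : X → Y be locally of finite presentation and x a point of X. Then f is unramified
on some open neighbourhood of x if and only if the diagonal X → X ×_Y X is a local isomorphism at x
(its restriction to some open neighbourhood of x is an open immersion). -/
theorem result {X Y : Scheme.{u}} (f : X ⟶ Y)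
    [LocallyOfFinitePresentation f] (x : ↥X) :
    (∃ U : X.Opens, x ∈ U ∧ FormallyUnramified (U.ι ≫ f)) ↔
      SchLoc.IsLocalIsoAt (pullback.diagonal f) x := by
  have e1 : ∀ U : X.Opens, (U.ι ≫ f) ≫ 𝟙 Y = U.ι ≫ f := fun U => Category.comp_id _
  have key : ∀ U : X.Opens, pullback.diagonal (U.ι ≫ f) ≫
      pullback.map (U.ι ≫ f) (U.ι ≫ f) f f U.ι U.ι (𝟙 Y) (e1 U) (e1 U) =
        U.ι ≫ pullback.diagonal f := by
    intro U
    apply pullback.hom_ext
    · rw [Category.assoc, Category.assoc, pullback.diagonal_fst, Category.comp_id]
      unfold pullback.map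
      rw [pullback.lift_fst, ← Category.assoc, pullback.diagonal_fst, Category.id_comp]
    · rw [Category.assoc, Category.assoc, pullback.diagonal_snd, Category.comp_id]
      unfold pullback.map
      rw [pullback.lift_snd, ← Category.assoc, pullback.diagonal_snd, Category.id_comp]
  constructor
  · rintro ⟨U, hxU, hU⟩
    refine ⟨U, hxU, ?_⟩
    haveI : LocallyOfFiniteType (U.ι ≫ f) := inferInstance
    rw [← key U]
    infer_instance
  · rintro ⟨U, hxU, hU⟩
    refine ⟨U, hxU, ?_⟩
    rw [← key U] at hU
    haveI : IsOpenImmersion (pullback.diagonal (U.ι ≫ f)) :=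
      IsOpenImmersion.of_comp _ (pullback.map (U.ι ≫ f) (U.ι ≫ f) f f U.ι U.ι (𝟙 Y)
        (e1 U) (e1 U))
    infer_instance

end Groth.Agent.S3845
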