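import Groth.Statements.S3846
import Mathlib
import Groth.Agent.Helper3.UnramEq
import Groth.Agent.S3845

set_option autoImplicit false
universe u
open scoped TensorProduct
open CategoryTheory CategoryTheory.Limits AlgebraicGeometry TopologicalSpace
open Unram17

namespace Groth.Agent.S3846

/-- a) iff b''): let f : X → Y be locally of finite presentation and x a point of X. Then f is
unramified on some open neighbourhood of x if and only if, for every base change g : Y' → Y and
every section s' of X ×_Y Y' → Y', s' is a local isomorphism at every point y' of Y' such that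
s'(y') lies over x. -/
theorem result {X Y : Scheme.{u}} (f : X ⟶ Y) [LocallyOfFinitePresentation f]
    (x : ↥X) :
    (∃ U : X.Opens, x ∈ U ∧ FormallyUnramified (U.ι ≫ f)) ↔
      ∀ (Y' : Scheme.{u}) (g : Y' ⟶ Y) (s' : Y' ⟶ pullback f g), s' ≫ pullback.snd f g = 𝟙 Y' →
        ∀ y' : ↥Y', pullback.fst f g (s' y') = x → SchLoc.IsLocalIsoAt s' y' := by
  constructor
  · rintro ⟨U, hxU, hU⟩ Y' g s' hs' y' hy'
    haveI : LocallyOfFiniteType (U.ι ≫ f) := inferInstance
    have hpb : IsPullback ((pullback.fst f g) ∣_ U)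
        (((pullback.fst f g) ⁻¹ᵁ U).ι ≫ pullback.snd f g) (U.ι ≫ f) g :=
      (isPullback_morphismRestrict (pullback.fst f g) U).paste_vert (IsPullback.of_hasPullback f g)
    haveI : FormallyUnramified (((pullback.fst f g) ⁻¹ᵁ U).ι ≫ pullback.snd f g) :=
      MorphismProperty.of_isPullback (P := @FormallyUnramified) hpb hU
    haveI : LocallyOfFiniteType (((pullback.fst f g) ⁻¹ᵁ U).ι ≫ pullback.snd f g) :=
      MorphismProperty.of_isPullback (P := @LocallyOfFiniteType) hpb inferInstance
    have hy'V : y' ∈ s' ⁻¹ᵁ ((pullback.fst f g) ⁻¹ᵁ U) := by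
      show pullback.fst f g (s' y') ∈ U
      rw [hy']
      exact hxU
    refine ⟨s' ⁻¹ᵁ ((pullback.fst f g) ⁻¹ᵁ U), hy'V, ?_⟩
    have ht : s'.resLE ((pullback.fst f g) ⁻¹ᵁ U) (s' ⁻¹ᵁ ((pullback.fst f g) ⁻¹ᵁ U)) le_rfl ≫
        (((pullback.fst f g) ⁻¹ᵁ U).ι ≫ pullback.snd f g) =
          (s' ⁻¹ᵁ ((pullback.fst f g) ⁻¹ᵁ U)).ι := by
      rw [← Category.assoc, Scheme.Hom.resLE_comp_ι, Category.assoc, hs', Category.comp_id]
    haveI := Groth.Agent.Helper3.UnramEq.isOpenImmersion_of_local_section _ _ _ ht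
    rw [← Scheme.Hom.resLE_comp_ι s' (le_refl _)]
    infer_instance
  · intro H
    have h1 := H X f (pullback.diagonal f) (pullback.diagonal_snd f) x (by
      rw [← Scheme.Hom.comp_apply, pullback.diagonal_fst]
      rfl)
    exact (Groth.Agent.S3845.result f x).mpr h1

end Groth.Agent.S3846
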