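import Groth.Statements.S3855
import Mathlib
import Groth.Agent.S3873

set_option autoImplicit false
universe u
open FCompl

namespace Groth.Agent.S3855

open AlgebraicGeometry CategoryTheory in
/-- the kernel ideal of `Spec.map ψ` on global sections -/
theorem ker_SpecMap_ideal_top {R S : Type u} [CommRing R] [CommRing S] (ψ : R →+* S) :
    (Spec.map (CommRingCat.ofHom ψ)).ker.ideal ⟨⊤, isAffineOpen_top _⟩ =
      (RingHom.ker ψ).comap (Scheme.ΓSpecIso (CommRingCat.of R)).hom.hom := by
  rw [Scheme.Hom.ker_apply]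
  have h1 := Scheme.ΓSpecIso_naturality (CommRingCat.ofHom ψ)
  have hinj : Function.Injective (Scheme.ΓSpecIso (CommRingCat.of S)).hom.hom :=
    (ConcreteCategory.bijective_of_isIso (Scheme.ΓSpecIso (CommRingCat.of S)).hom).1
  ext a
  rw [RingHom.mem_ker, Ideal.mem_comap, RingHom.mem_ker]
  have h2 : (Scheme.ΓSpecIso (CommRingCat.of S)).hom.hom
      ((Spec.map (CommRingCat.ofHom ψ)).appTop.hom a) =
      ψ ((Scheme.ΓSpecIso (CommRingCat.of R)).hom.hom a) :=
    congrArg (fun χ => χ.hom a) h1
  constructor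
  · intro ha
    have ha' : (Spec.map (CommRingCat.ofHom ψ)).appTop.hom a = 0 := ha
    rw [ha', map_zero] at h2
    exact h2.symm
  · intro ha
    apply hinj
    exact Eq.trans (h2.trans ha) (map_zero _).symm


theorem pow_succ_le_pow_one {A : Type u} [CommRing A] (J : Ideal A) (n : ℕ) :
    J ^ (n + 1) ≤ J ^ (0 + 1) := Ideal.pow_le_pow_right (by omega)

open AlgebraicGeometry CategoryTheory in
theorem toX_eq (A : Type u) [CommRing A] (J : Ideal A) (n : ℕ) :
    (FSch.spf A J).toX n =
      Spec.map (CommRingCat.ofHom (Ideal.Quotient.factor (pow_succ_le_pow_one J n))) := by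
  induction n with
  | zero =>
    change 𝟙 _ = _
    rw [Ideal.Quotient.factor_eq]
    exact (Spec.map_id _).symm
  | succ n ih =>
    change (FSch.spf A J).toX n ≫ CohB1.specQuotTrans J n = _
    rw [ih]
    unfold CohB1.specQuotTrans
    refine (Spec.map_comp _ _).symm.trans ?_
    rw [← CommRingCat.ofHom_comp, Ideal.Quotient.factor_comp]

/-- elements of the kernel of the transition map are nilpotent -/
theorem ker_factor_le_prime {A : Type u} [CommRing A] (J : Ideal A) (n : ℕ)
    (q : Ideal (A ⧸ J ^ (n + 2))) [q.IsPrime] :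
    RingHom.ker (Ideal.Quotient.factor
      (Ideal.pow_le_pow_right (Nat.le_succ (n + 1)) : J ^ (n + 2) ≤ J ^ (n + 1))) ≤ q := by
  intro x hx
  obtain ⟨a, rfl⟩ := Ideal.Quotient.mk_surjective x
  rw [RingHom.mem_ker, Ideal.Quotient.factor_mk, Ideal.Quotient.eq_zero_iff_mem] at hx
  have h2 : (Ideal.Quotient.mk (J ^ (n + 2)) a) ^ 2 = 0 := by
    rw [← map_pow, Ideal.Quotient.eq_zero_iff_mem]
    have : a ^ 2 ∈ (J ^ (n + 1)) ^ 2 := Ideal.pow_mem_pow hx 2
    rw [← pow_mul] at this
    exact Ideal.pow_le_pow_right (by omega) this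
  exact Ideal.IsPrime.mem_of_pow_mem inferInstance 2 (h2 ▸ q.zero_mem)


theorem ker_factor_eq_pow {A : Type u} [CommRing A] (J : Ideal A) (n : ℕ) :
    RingHom.ker (Ideal.Quotient.factor
      (Ideal.pow_le_pow_right (Nat.le_succ (n + 1)) : J ^ (n + 2) ≤ J ^ (n + 1))) =
    (RingHom.ker (Ideal.Quotient.factor (pow_succ_le_pow_one J (n + 1)))) ^ (n + 1) := by
  rw [Ideal.Quotient.factor_ker, Ideal.Quotient.factor_ker, ← Ideal.map_pow, ← pow_mul]
  congr 2
  omega

open AlgebraicGeometry CategoryTheory in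
theorem comap_iso_pow {R S : CommRingCat.{u}} (e : R ≅ S) (K : Ideal S) (m : ℕ) :
    (K ^ m).comap e.hom.hom = (K.comap e.hom.hom) ^ m := by
  rw [Groth.Agent.S3873.comap_iso_hom_eq_map_inv, Groth.Agent.S3873.comap_iso_hom_eq_map_inv,
    Ideal.map_pow]

open AlgebraicGeometry CategoryTheory in
theorem aux (A : Type u) [CommRing A] [IsNoetherianRing A] (J : Ideal A) :
    (FSch.spf A J).IsLocNoethFormal := by
  have hle : ∀ n : ℕ, J ^ (n + 2) ≤ J ^ (n + 1) := fun n =>
    Ideal.pow_le_pow_right (Nat.le_succ (n + 1))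
  have hsurj : ∀ n : ℕ, Function.Surjective (Ideal.Quotient.factor (hle n)) := fun n =>
    Ideal.Quotient.factor_surjective _
  refine ⟨fun n => ⟨?_, ?_⟩, fun n => ?_, fun n => ?_⟩
  · exact IsClosedImmersion.spec_of_surjective _ (hsurj n)
  · intro q
    change PrimeSpectrum (A ⧸ J ^ (n + 2)) at q
    haveI : (Ideal.map (Ideal.Quotient.factor (hle n)) q.asIdeal).IsPrime :=
      Ideal.map_isPrime_of_surjective (hsurj n) (ker_factor_le_prime J n q.asIdeal)
    refine ⟨(⟨Ideal.map (Ideal.Quotient.factor (hle n)) q.asIdeal, inferInstance⟩ :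
      PrimeSpectrum (A ⧸ J ^ (n + 1))), ?_⟩
    apply PrimeSpectrum.ext
    change Ideal.comap (Ideal.Quotient.factor (hle n))
      (Ideal.map (Ideal.Quotient.factor (hle n)) q.asIdeal) = q.asIdeal
    rw [Ideal.comap_map_of_surjective _ (hsurj n), ← RingHom.ker_eq_comap_bot]
    exact sup_eq_left.mpr (ker_factor_le_prime J n q.asIdeal)
  · haveI : IsAffine ((FSch.spf A J).X (n + 1)) :=
      inferInstanceAs (IsAffine (Spec (CommRingCat.of (A ⧸ J ^ (n + 1 + 1)))))
    apply Scheme.IdealSheafData.ext_of_isAffine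
    rw [Scheme.IdealSheafData.ideal_pow, Pi.pow_apply, toX_eq]
    have hL := ker_SpecMap_ideal_top (Ideal.Quotient.factor (hle n))
    have hR := ker_SpecMap_ideal_top (Ideal.Quotient.factor (pow_succ_le_pow_one J (n + 1)))
    refine hL.trans (Eq.trans ?_ (congrArg (· ^ (n + 1)) hR.symm))
    exact (congrArg (Ideal.comap (Scheme.ΓSpecIso (CommRingCat.of (A ⧸ J ^ (n + 2)))).hom.hom)
      (ker_factor_eq_pow J n)).trans (comap_iso_pow _ _ _)
  · exact inferInstanceAs (IsLocallyNoetherian (Spec (CommRingCat.of (A ⧸ J ^ (n + 1)))))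

open AlgebraicGeometry in
/-- Sufficiency (the formal spectrum presented as the system Spec(A/J) -> Spec(A/J^2) -> ...). For a
Noetherian ring A and an ideal J this system is a locally Noetherian adic formal system: the
transition maps are surjective closed immersions, the kernel ideal of Spec(A/J^(n+1)) ->
Spec(A/J^(n+2)) is the (n+1)-st power of that of Spec(A/J) -> Spec(A/J^(n+2)), and every level is
locally Noetherian. -/
theorem result (A : Type u) [CommRing A] [IsNoetherianRing A] (J : Ideal A) :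
    (FSch.spf A J).IsLocNoethFormal := by
  exact aux A J

end Groth.Agent.S3855
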