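import Groth.Statements.S3856
import Groth.Agent.Helper1.CompleteNoeth

set_option autoImplicit false
universe u
open AdicRing

namespace Groth.Agent.S3856

/-- Let A be a ring that is complete and separated for the J-adic topology of an ideal J. If A/J² is
Noetherian (equivalently, A/J is Noetherian and J/J² is a finitely generated A/J-module), then A is
Noetherian. The published statement is phrased for a formal spectrum Spf(A) all of whose levels
Spec(A/J^(n+1)) are Noetherian; it is stated here with the weaker hypothesis that A/J² is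
Noetherian. -/
theorem result (A : Type u) [CommRing A]
    (J : Ideal A) [IsAdicComplete J A] [IsNoetherianRing (A ⧸ J ^ 2)] : IsNoetherianRing A := by
  classical
  have hle : J ^ 2 ≤ J := Ideal.pow_le_self two_ne_zero
  haveI : IsNoetherianRing (A ⧸ J) :=
    isNoetherianRing_of_surjective _ _ (Ideal.Quotient.factor hle) (Ideal.Quotient.factor_surjective hle)
  -- J is finitely generated
  have hfg : (J.map (Ideal.Quotient.mk (J ^ 2))).FG := IsNoetherian.noetherian _
  obtain ⟨s, hs⟩ := hfg
  have hlift : ∀ g : s, ∃ f ∈ J, Ideal.Quotient.mk (J ^ 2) f = g := by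
    intro g
    have hg : (g : A ⧸ J ^ 2) ∈ J.map (Ideal.Quotient.mk (J ^ 2)) := by
      rw [← hs]; exact Ideal.subset_span g.2
    exact (Ideal.mem_map_iff_of_surjective _ Ideal.Quotient.mk_surjective).1 hg
  choose f hfJ hfg using hlift
  have hFJ : Ideal.span (Set.range f) ≤ J := Ideal.span_le.2 (by rintro _ ⟨i, rfl⟩; exact hfJ i)
  have hJle : J ≤ Ideal.span (Set.range f) ⊔ J ^ 2 := by
    intro x hx
    have h1 : Ideal.Quotient.mk (J ^ 2) x ∈ (Ideal.span (Set.range f)).map (Ideal.Quotient.mk (J ^ 2)) := by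
      have h2 : Ideal.Quotient.mk (J ^ 2) x ∈ J.map (Ideal.Quotient.mk (J ^ 2)) :=
        Ideal.mem_map_of_mem _ hx
      rw [← hs] at h2
      rw [Ideal.map_span]
      refine (Ideal.span_mono ?_) h2
      intro g hg
      exact ⟨f ⟨g, hg⟩, ⟨⟨g, hg⟩, rfl⟩, hfg ⟨g, hg⟩⟩
    obtain ⟨y, hy, hyx⟩ := (Ideal.mem_map_iff_of_surjective _ Ideal.Quotient.mk_surjective).1 h1
    have h3 : x - y ∈ J ^ 2 := by
      rw [← Ideal.Quotient.eq_zero_iff_mem, map_sub, hyx, sub_self]
    have : x = y + (x - y) := by ring
    rw [this]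
    exact Submodule.add_mem_sup hy h3
  have hJF : J = Ideal.span (Set.range f) := by
    refine le_antisymm (fun x hx => ?_) hFJ
    refine Helper1.CompleteNoeth.mem_span_of_approx J f Set.univ 1 (fun k z _ hz => ?_) x trivial
      (by simpa using hx)
    have h1 : J ^ (1 + k) ≤ J ^ k • Ideal.span (Set.range f) ⊔ J ^ (1 + k + 1) := by
      calc J ^ (1 + k) = J ^ k * J := by rw [add_comm, pow_succ]
        _ ≤ J ^ k * (Ideal.span (Set.range f) ⊔ J ^ 2) := Ideal.mul_mono_right hJle
        _ = J ^ k * Ideal.span (Set.range f) ⊔ J ^ k * J ^ 2 := Ideal.mul_sup _ _ _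
        _ = J ^ k • Ideal.span (Set.range f) ⊔ J ^ (1 + k + 1) := by
          rw [← pow_add, smul_eq_mul]; congr 2; omega
    obtain ⟨w, hw, v, hv, hwv⟩ := Submodule.mem_sup.1 (h1 hz)
    rw [Ideal.span, Submodule.mem_ideal_smul_span_iff_exists_sum] at hw
    obtain ⟨c, hc, hcw⟩ := hw
    refine ⟨fun i => c i, hc, trivial, ?_⟩
    have : ∑ i, c i * f i = w := by
      rw [← hcw, Finsupp.sum_fintype]
      · rfl
      · intro i; simp
    rw [this, ← hwv, add_sub_cancel_left]
    exact hv
  have hJfg : J.FG := by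
    rw [hJF]
    exact Submodule.fg_span (Set.finite_range f)
  exact Helper1.CompleteNoeth.isNoetherianRing_of_isAdicComplete J hJfg

end Groth.Agent.S3856
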