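import Groth.Statements.S3859
import Mathlib

set_option autoImplicit false
universe u
open FCompl

namespace Groth.Agent.S3859

open AlgebraicGeometry in
open CategoryTheory in
open CategoryTheory.Limits in
theorem aux {𝔛 𝔜 𝔖 : FSch.Sys.{u}} (f : 𝔛 ⟶ 𝔖) (g : 𝔜 ⟶ 𝔖) :
    IsPullback (FSch.pullbackFst f g) (FSch.pullbackSnd f g) f g := by
  have w : FSch.pullbackFst f g ≫ f = FSch.pullbackSnd f g ≫ g := by
    apply FSch.Hom.ext
    funext n
    exact pullback.condition
  have happ : ∀ (s : PullbackCone f g) (n : ℕ),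
      (s.fst : FSch.Hom _ _).app n ≫ (f : FSch.Hom _ _).app n =
        (s.snd : FSch.Hom _ _).app n ≫ (g : FSch.Hom _ _).app n := fun s n =>
    congrArg (fun φ : FSch.Hom s.pt 𝔖 => φ.app n) s.condition
  refine ⟨⟨w⟩, ⟨PullbackCone.IsLimit.mk w
    (fun s => (⟨fun n => pullback.lift ((s.fst : FSch.Hom _ _).app n) ((s.snd : FSch.Hom _ _).app n)
      (happ s n), fun n => ?_⟩ : FSch.Hom s.pt (FSch.pullbackSys f g))) ?_ ?_ ?_⟩⟩
  · have hι : (FSch.pullbackSys f g).ι n = pullback.map _ _ _ _ (𝔛.ι n) (𝔜.ι n) (𝔖.ι n)
        ((f : FSch.Hom 𝔛 𝔖).comm n) ((g : FSch.Hom 𝔜 𝔖).comm n) := rfl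
    rw [hι]
    apply pullback.hom_ext
    · erw [Category.assoc, Category.assoc, pullback.lift_fst, pullback.lift_fst,
        ← Category.assoc, pullback.lift_fst]
      exact (s.fst : FSch.Hom _ _).comm n
    · erw [Category.assoc, Category.assoc, pullback.lift_snd, pullback.lift_snd,
        ← Category.assoc, pullback.lift_snd]
      exact (s.snd : FSch.Hom _ _).comm n
  · intro s
    apply FSch.Hom.ext
    funext n
    exact pullback.lift_fst _ _ _
  · intro s
    apply FSch.Hom.ext
    funext n
    exact pullback.lift_snd _ _ _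
  · intro s m h1 h2
    apply FSch.Hom.ext
    funext n
    apply pullback.hom_ext
    · rw [pullback.lift_fst]
      exact congrArg (fun φ : FSch.Hom s.pt 𝔛 => φ.app n) h1
    · rw [pullback.lift_snd]
      exact congrArg (fun φ : FSch.Hom s.pt 𝔜 => φ.app n) h2

open AlgebraicGeometry in
open CategoryTheory in
/-- In the presentation by systems of thickenings: For morphisms of systems X -> S and Y -> S, the
levelwise fibre product with its two projections is a fibre product in the category of systems; it
presents the fibre product of formal schemes when one factor is adic over the base, and otherwise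
only up to cofinality of the levels. -/
theorem result {𝔛 𝔜 𝔖 : FSch.Sys.{u}} (f : 𝔛 ⟶ 𝔖) (g : 𝔜 ⟶ 𝔖) :
    IsPullback (FSch.pullbackFst f g) (FSch.pullbackSnd f g) f g := by
  exact aux f g

end Groth.Agent.S3859
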