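import Groth.Statements.S3876
import Groth.Agent.Helper6.CF4

set_option autoImplicit false
open CategoryTheory CategoryTheory.Limits Opposite
universe u
open ToposFin

namespace Groth.Agent.S3876

/-- Let E be the topos of sheaves on a small site, assumed algebraic (E admits a generating set of
quasi-compact objects stable under fibre products and equalizers), and let K be a coherent object of
E. Then for every q the functor F ↦ H^q(K, F) on abelian sheaves (Ext groups out of the free abelian
sheaf on K) preserves colimits indexed by any small filtered category. -/
theorem result {C : Type u} [SmallCategory C]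
    {J : GrothendieckTopology C} (hE : ToposFin.IsAlgebraic J) (K : ToposFin.Sh J) (hK : ToposFin.IsCoherent K)
    (Λ : Type u) [SmallCategory Λ] [IsFiltered Λ] (q : ℕ) :
    PreservesColimitsOfShape Λ (ToposFin.HKFunctor K q) := by
  obtain ⟨S, hqc, hgen, hpb, heq⟩ := hE
  exact Groth.Agent.Helper6.CF.preserves_HK
    (Groth.Agent.Helper6.CF.adm_algebraic hqc hgen hpb heq)
    (fun X hX => Groth.Agent.Helper6.CF.fh_of_coherent
      (Groth.Agent.Helper2.TF15.hasQCGenerators_of_generating hqc hgen) X hX) K hK Λ q

end Groth.Agent.S3876
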