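import Groth.Statements.S3877
import Groth.Agent.Helper6.CF5

set_option autoImplicit false
open CategoryTheory CategoryTheory.Limits Opposite
universe u
open ToposFin

namespace Groth.Agent.S3877

/-- Let E be the topos of sheaves on a small site and assume E is coherent, i.e. an algebraic topos
whose final object is coherent. Then for every q the functor F ↦ H^q(E, F) on abelian sheaves (Ext
groups out of the constant sheaf Z) preserves colimits indexed by any small filtered category. -/
theorem result {C : Type u} [SmallCategory C]
    {J : GrothendieckTopology C} (hE : ToposFin.IsAlgebraic J) (hT : ToposFin.IsCoherent (⊤_ (ToposFin.Sh J)))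
    (Λ : Type u) [SmallCategory Λ] [IsFiltered Λ] (q : ℕ) :
    PreservesColimitsOfShape Λ (Sheaf.functorH J q : Sheaf J AddCommGrpCat.{u} ⥤ AddCommGrpCat.{u}) := by
  obtain ⟨S, hqc, hgen, hpb, heq⟩ := hE
  exact Groth.Agent.Helper6.CF.preserves_functorH
    (Groth.Agent.Helper6.CF.adm_algebraic hqc hgen hpb heq)
    (fun X hX => Groth.Agent.Helper6.CF.fh_of_coherent
      (Groth.Agent.Helper2.TF15.hasQCGenerators_of_generating hqc hgen) X hX) hT Λ q

end Groth.Agent.S3877
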