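import Groth.Statements.S3878
import Groth.Agent.Helper6.CF4
import Groth.Agent.S0882
import Groth.Agent.Helper1.SiteAcyc

set_option autoImplicit false
open CategoryTheory CategoryTheory.Limits Opposite
universe u
open ToposFin

namespace Groth.Agent.S3878

/-- Let (C, J) and (D, K) be small sites and u : D ⥤ C a continuous functor, giving a morphism of topoi
whose direct image on sheaves is F ↦ F ∘ u, with right derived functors R^q on abelian sheaves.
Assume that the topos of sheaves on (C, J) is algebraic and that for every object V of D the sheaf
on C attached to u(V), which is the inverse image of the sheaf attached to V, is coherent. Then for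
every q the higher direct image functor R^q on abelian sheaves preserves colimits indexed by any
small filtered category. The published hypotheses (a coherent morphism from an algebraic topos to a
locally coherent topos) give this situation with D the site of coherent algebraic objects of the
target. -/
theorem result {C D : Type u} [SmallCategory C]
    [SmallCategory D] (J : GrothendieckTopology C) (K : GrothendieckTopology D) (hE : ToposFin.IsAlgebraic J)
    (u : D ⥤ C) [u.IsContinuous K J] (hu : ∀ V : D, ToposFin.IsCoherent (ToposFin.eps J (u.obj V)))
    (Λ : Type u) [SmallCategory Λ] [IsFiltered Λ] (q : ℕ) :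
    PreservesColimitsOfShape Λ (CohSite.Rpush J K u q) := by
  obtain ⟨S, hqc, hgen, hpb, heq⟩ := hE
  constructor
  intro F
  refine Groth.Agent.S0882.result J K u F q (fun V => ?_)
  refine ⟨PUnit.{u + 1}, fun _ => V, fun _ => 𝟙 V, ?_, fun _ => ?_⟩
  · have h1 : Sieve.ofArrows (fun _ : PUnit.{u + 1} => V) (fun _ => 𝟙 V) = ⊤ :=
      (Sieve.id_mem_iff_eq_top).1 (Sieve.ofArrows_mk _ _ PUnit.unit)
    rw [h1]
    exact K.top_mem V
  · have hP : PreservesColimitsOfShape Λ ((Abelian.extFunctor.{u} q).obj
        (op ((presheafToSheaf J AddCommGrpCat.{u}).obj
          (((presheafToSheaf J (Type u)).obj (yoneda.obj (u.obj V))).obj ⋙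
            AddCommGrpCat.free.{u})))) := Groth.Agent.Helper6.CF.preserves_HK
      (Groth.Agent.Helper6.CF.adm_algebraic hqc hgen hpb heq)
      (fun X hX => Groth.Agent.Helper6.CF.fh_of_coherent
        (Groth.Agent.Helper2.TF15.hasQCGenerators_of_generating hqc hgen) X hX)
      (ToposFin.eps J (u.obj V)) (hu V) Λ q
    haveI := hP
    have hQ : PreservesColimitsOfShape Λ ((Abelian.extFunctor.{u} q).obj
        (op (Groth.Agent.Helper1.SiteCoh.freeY J (u.obj V)))) :=
      preservesColimitsOfShape_of_natIso ((Abelian.extFunctor.{u} q).mapIso
        (Groth.Agent.Helper1.SiteCoh.freeSheafifyIso J (u.obj V)).op).symm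
    have hQ' : PreservesColimitsOfShape Λ
        ((Sheaf.cohomologyPresheafFunctor J q).flip.obj (op (u.obj V))) := hQ
    infer_instance

end Groth.Agent.S3878
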