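import Groth.Statements.S4064
import Mathlib
import Groth.Agent.Helper9.ExtOne
import Groth.Agent.Helper9.FM3
-- import your own Groth.Agent.* helpers here

set_option autoImplicit false
universe w v v'
open CategoryTheory CategoryTheory.Abelian
open SGA7

namespace Groth.Agent.S4064

/-- Let P -> F -> R and R -> E -> Q be short exact sequences in an abelian category (F an extension of R
by P, E an extension of Q by R). A blended extension of E by F is an object X with a monomorphism i
: F -> X and an epimorphism p : X -> E such that P -> X -> E (via i) and F -> X -> Q (via p) are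
short exact and F -> X -> E is the composite F -> R -> E. Such an X exists if and only if the
composite of the two extension classes, an element of Ext^2(Q, P), is zero. -/
theorem result {C : Type w} [Category.{v} C] [Abelian C]
    [HasExt.{v'} C] {P F R E Q : C} (a : P ⟶ F) (b : F ⟶ R) (wF : a ≫ b = 0)
    (hF : (ShortComplex.mk a b wF).ShortExact) (c : R ⟶ E) (d : E ⟶ Q) (wE : c ≫ d = 0)
    (hE : (ShortComplex.mk c d wE).ShortExact) :
    (∃ (X : C) (i : F ⟶ X) (p : X ⟶ E), i ≫ p = b ≫ c ∧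
        (∃ w : (a ≫ i) ≫ p = 0, (ShortComplex.mk (a ≫ i) p w).ShortExact) ∧
        (∃ w : i ≫ (p ≫ d) = 0, (ShortComplex.mk i (p ≫ d) w).ShortExact)) ↔
      hE.extClass.comp hF.extClass (rfl : 1 + 1 = 2) = 0 := by
  constructor
  · rintro ⟨X, i, p, hip, ⟨w1, h1⟩, -⟩
    let ψ : ShortComplex.mk a b wF ⟶ ShortComplex.mk (a ≫ i) p w1 :=
      { τ₁ := 𝟙 P, τ₂ := i, τ₃ := c, comm₁₂ := Category.id_comp _, comm₂₃ := hip }
    have hn := ShortComplex.ShortExact.extClass_naturality hF h1 ψ
    have hn' : hF.extClass.comp (Ext.mk₀ (𝟙 P)) (add_zero 1) =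
        (Ext.mk₀ c).comp h1.extClass (zero_add 1) := hn
    rw [Ext.comp_mk₀_id] at hn'
    rw [hn']
    exact hE.extClass_comp_assoc h1.extClass
  · intro h0
    obtain ⟨ξ, hξ⟩ := Abelian.Ext.contravariant_sequence_exact₁ hE P hF.extClass rfl h0
    obtain ⟨X, j, p, w, hX, hXξ⟩ := Groth.Agent.Helper9.ExtOne.exists_extClass_eq ξ
    obtain ⟨i, hi1, hi2⟩ : ∃ i : F ⟶ X, a ≫ i = 𝟙 P ≫ j ∧ b ≫ c = i ≫ p :=
      Groth.Agent.Helper9.ExtOne.exists_hom_of_extClass_eq hF hX (𝟙 P) c
      (by rw [Ext.comp_mk₀_id, hXξ]; exact hξ.symm)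
    have hi1' : a ≫ i = j := by
      have : a ≫ i = 𝟙 P ≫ j := hi1
      rw [this, Category.id_comp]
    have hip : i ≫ p = b ≫ c := hi2.symm
    subst hi1'
    refine ⟨X, i, p, hip, ⟨w, hX⟩, ?_⟩
    have w2 : i ≫ (p ≫ d) = 0 := by
      rw [← Category.assoc, hip, Category.assoc, wE, Limits.comp_zero]
    refine ⟨w2, ?_⟩
    haveI : Epi p := hX.epi_g
    haveI : Epi d := hE.epi_g
    have hFex := (Groth.Agent.Helper9.FM.exact_iff _).1 hF.exact
    have hEex := (Groth.Agent.Helper9.FM.exact_iff _).1 hE.exact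
    have hXex := (Groth.Agent.Helper9.FM.exact_iff _).1 hX.exact
    have hcinj := (Groth.Agent.Helper9.FM.mono_iff c).1 hE.mono_f
    have hjinj := (Groth.Agent.Helper9.FM.mono_iff (a ≫ i)).1 hX.mono_f
    have hbsurj := (Groth.Agent.Helper9.FM.epi_iff b).1 hF.epi_g
    have hipe : ∀ x, Groth.Agent.Helper9.FM.m p (Groth.Agent.Helper9.FM.m i x) =
        Groth.Agent.Helper9.FM.m c (Groth.Agent.Helper9.FM.m b x) := by
      intro x
      rw [← Groth.Agent.Helper9.FM.m_comp_apply, ← Groth.Agent.Helper9.FM.m_comp_apply, hip]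
    refine { exact := ?_, mono_f := ?_, epi_g := inferInstanceAs (Epi (p ≫ d)) }
    · rw [Groth.Agent.Helper9.FM.exact_iff]
      intro x hx
      have hx' : Groth.Agent.Helper9.FM.m d (Groth.Agent.Helper9.FM.m p x) = 0 := by
        rw [← Groth.Agent.Helper9.FM.m_comp_apply]; exact hx
      obtain ⟨r, hr⟩ := hEex _ hx'
      obtain ⟨f', rfl⟩ := hbsurj r
      have h1 : Groth.Agent.Helper9.FM.m p (x - Groth.Agent.Helper9.FM.m i f') = 0 := by
        rw [map_sub, hipe, sub_eq_zero]; exact hr.symm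
      obtain ⟨y, hy⟩ := hXex _ h1
      refine ⟨f' + Groth.Agent.Helper9.FM.m a y, ?_⟩
      show Groth.Agent.Helper9.FM.m i _ = x
      have hy' : Groth.Agent.Helper9.FM.m i (Groth.Agent.Helper9.FM.m a y) =
          x - Groth.Agent.Helper9.FM.m i f' := by
        rw [← Groth.Agent.Helper9.FM.m_comp_apply]; exact hy
      rw [map_add, hy']
      abel
    · show Mono i
      rw [Groth.Agent.Helper9.FM.mono_iff]
      rw [injective_iff_map_eq_zero]
      intro x hx
      have h1 : Groth.Agent.Helper9.FM.m c (Groth.Agent.Helper9.FM.m b x) = 0 := by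
        rw [← hipe, hx, map_zero]
      have h2 : Groth.Agent.Helper9.FM.m b x = 0 := hcinj (by rw [h1, map_zero])
      obtain ⟨y, rfl⟩ := hFex _ h2
      have h3 : Groth.Agent.Helper9.FM.m (a ≫ i) y = 0 := by
        rw [Groth.Agent.Helper9.FM.m_comp_apply]; exact hx
      have h4 : y = 0 := hjinj (by rw [h3, map_zero])
      rw [h4, map_zero]

end Groth.Agent.S4064
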