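import Groth.Statements.S4114
import Mathlib
import Groth.Agent.Helper7.FGK10

set_option autoImplicit false
universe u
open CategoryTheory MonoidalCategory CartesianMonoidalCategory MonObj GrpObj AlgebraicGeometry CategoryTheory.Limits
open SGA3

namespace Groth.Agent.S4114

/-- Let S be a reduced scheme and G an S-group scheme which is finite locally free of constant rank n
over S. Then the n-th power morphism of G is the trivial endomorphism (g ↦ gⁿ factors through the
unit section). -/
theorem result (S : Scheme.{u}) [IsReduced S] (G : Over S) [GrpObj G] (n : ℕ)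
    (hG : Mor2.IsFinLocFreeOfDeg n G.hom) : (𝟙 G : G ⟶ G) ^ n = 1 := by
    obtain ⟨⟨h1, h2, h3⟩, hr⟩ := hG
    haveI := h1
    haveI := h2
    haveI := h3
    exact Groth.Agent.Helper7.FGK.pow_eq_one_reduced G n hr G (𝟙 G)

end Groth.Agent.S4114
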