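import Groth.Statements.S4197
import Groth.Agent.Helper4.AnIFTC
import Groth.Agent.Helper4.AnOpenImm
import Groth.Agent.Helper4.AnImmersion
import Mathlib

set_option autoImplicit false
open CategoryTheory AlgebraicGeometry Topology TopologicalSpace
open An

namespace Groth.Agent.S4197


/-- An etale morphism f : X → Y of schemes over ℂ, with Y (hence X) locally of finite type over ℂ,
induces a local homeomorphism X(ℂ) → Y(ℂ) for the complex topologies. Stated as the proposition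
An.EtaleLH of the prelude verbatim (it quantifies over all such X, Y, f), which the comparison
functor carries as a hypothesis. -/
theorem result : An.EtaleLH := by

  intro X Y _ _ _ g _ _
  rw [isLocalHomeomorph_iff_isLocalHomeomorphOn_univ]
  intro x _
  -- affine opens around the point and its image
  obtain ⟨V, hV, hxV⟩ : ∃ V : Y.Opens, IsAffineOpen V ∧ g x.pt ∈ V := by
    obtain ⟨_, ⟨V, hV, rfl⟩, hxV, -⟩ := Y.isBasis_affineOpens.exists_subset_of_mem_open
      (Set.mem_univ (g x.pt)) isOpen_univ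
    exact ⟨V, hV, hxV⟩
  obtain ⟨U, hU, hxU, hUV⟩ : ∃ U : X.Opens, IsAffineOpen U ∧ x.pt ∈ U ∧ U ≤ g ⁻¹ᵁ V := by
    obtain ⟨_, ⟨U, hU, rfl⟩, hxU, hUV⟩ := X.isBasis_affineOpens.exists_subset_of_mem_open
      (show x.pt ∈ ((g ⁻¹ᵁ V : X.Opens) : Set X) from hxV) (g ⁻¹ᵁ V).isOpen
    exact ⟨U, hU, hxU, hUV⟩
  letI : (V : Scheme).Over SC := ⟨V.ι ≫ Y ↘ SC⟩
  haveI : V.ι.IsOver SC := ⟨rfl⟩
  letI : (U : Scheme).Over SC := ⟨U.ι ≫ X ↘ SC⟩
  haveI : U.ι.IsOver SC := ⟨rfl⟩
  haveI : (g.resLE V U hUV).IsOver SC := ⟨by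
    change g.resLE V U hUV ≫ V.ι ≫ Y ↘ SC = U.ι ≫ X ↘ SC
    rw [← Category.assoc, Scheme.Hom.resLE_comp_ι, Category.assoc, comp_over]⟩
  haveI : LocallyOfFiniteType ((V : Scheme) ↘ SC) := by
    change LocallyOfFiniteType (V.ι ≫ Y ↘ SC)
    infer_instance
  haveI : IsAffine (U : Scheme) := hU
  haveI : IsAffine (V : Scheme) := hV
  have hloc := Groth.Agent.Helper4.AnIFTC.isLocalHomeomorph_of_isAffine (g.resLE V U hUV)
  have hcomp : Pts.map g ∘ Pts.map U.ι = Pts.map V.ι ∘ Pts.map (g.resLE V U hUV) := by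
    funext z
    simp only [Function.comp_apply]
    rw [← Pts.map_comp, ← Pts.map_comp]
    exact congrFun (Groth.Agent.Helper4.AnImmersion.map_congr (Scheme.Hom.resLE_comp_ι g hUV).symm) z
  have h1 : IsLocalHomeomorphOn (Pts.map g ∘ Pts.map U.ι) Set.univ := by
    rw [hcomp, ← isLocalHomeomorph_iff_isLocalHomeomorphOn_univ]
    exact (Groth.Agent.Helper4.AnOpenImm.isOpenEmbedding_map V.ι).isLocalHomeomorph.comp hloc
  have h2 : IsLocalHomeomorphOn (Pts.map U.ι) Set.univ :=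
    (Groth.Agent.Helper4.AnOpenImm.isOpenEmbedding_map U.ι).isLocalHomeomorph.isLocalHomeomorphOn
  have h3 := h1.of_comp_right h2
  apply h3
  rw [Set.image_univ, Groth.Agent.Helper4.AnOpenImm.range_map_openImmersion]
  change x.pt ∈ U.ι.opensRange
  rw [Scheme.Opens.opensRange_ι]
  exact hxU

end Groth.Agent.S4197
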