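import Groth.Statements.S4206
import Groth.Agent.Helper4.AnIFTC
import Groth.Agent.Helper4.AnFinC
import Groth.Agent.Helper4.AnCovA
import Groth.Agent.Helper4.AnOpenImm
import Groth.Agent.Helper4.AnImmersion
import Mathlib

set_option autoImplicit false
open CategoryTheory AlgebraicGeometry Topology TopologicalSpace
open An

namespace Groth.Agent.S4206


/-- A finite etale morphism f : X → Y of schemes locally of finite type over ℂ (f a ℂ-morphism) induces
a covering map X(ℂ) → Y(ℂ) with finite fibres for the complex topologies. -/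
theorem result (X Y : Scheme.{0}) [X.Over An.SC] [LocallyOfFiniteType (X ↘ An.SC)]
    [Y.Over An.SC] [LocallyOfFiniteType (Y ↘ An.SC)] (f : X ⟶ Y) [f.IsOver An.SC] [IsFinite f] [Etale f] :
    IsCoveringMap (An.Pts.map f) ∧ ∀ y : An.Pts Y, (An.Pts.map f ⁻¹' {y}).Finite := by

  have key : ∀ y : An.Pts Y, IsEvenlyCovered (An.Pts.map f) y (An.Pts.map f ⁻¹' {y}) ∧
      (An.Pts.map f ⁻¹' {y}).Finite := by
    intro y
    obtain ⟨V, hV, hyV⟩ : ∃ V : Y.Opens, IsAffineOpen V ∧ y.pt ∈ V := by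
      obtain ⟨_, ⟨V, hV, rfl⟩, hyV, -⟩ := Y.isBasis_affineOpens.exists_subset_of_mem_open
        (Set.mem_univ y.pt) isOpen_univ
      exact ⟨V, hV, hyV⟩
    have hU : IsAffineOpen (f ⁻¹ᵁ V) := hV.preimage f
    letI : (V : Scheme).Over SC := ⟨V.ι ≫ Y ↘ SC⟩
    haveI : V.ι.IsOver SC := ⟨rfl⟩
    letI : ((f ⁻¹ᵁ V : X.Opens) : Scheme).Over SC := ⟨(f ⁻¹ᵁ V).ι ≫ X ↘ SC⟩
    haveI : (f ⁻¹ᵁ V).ι.IsOver SC := ⟨rfl⟩
    haveI : (f ∣_ V).IsOver SC := ⟨by
      change (f ∣_ V) ≫ V.ι ≫ Y ↘ SC = (f ⁻¹ᵁ V).ι ≫ X ↘ SC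
      rw [← Category.assoc, morphismRestrict_ι, Category.assoc, comp_over]⟩
    haveI : LocallyOfFiniteType ((V : Scheme) ↘ SC) := by
      change LocallyOfFiniteType (V.ι ≫ Y ↘ SC)
      infer_instance
    haveI : LocallyOfFiniteType (((f ⁻¹ᵁ V : X.Opens) : Scheme) ↘ SC) := by
      change LocallyOfFiniteType ((f ⁻¹ᵁ V).ι ≫ X ↘ SC)
      infer_instance
    haveI : IsAffine ((f ⁻¹ᵁ V : X.Opens) : Scheme) := hU
    haveI : IsAffine (V : Scheme) := hV
    obtain ⟨y', rfl⟩ : y ∈ Set.range (An.Pts.map V.ι) := by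
      rw [Groth.Agent.Helper4.AnOpenImm.range_map_openImmersion]
      change y.pt ∈ V.ι.opensRange
      rw [Scheme.Opens.opensRange_ι]
      exact hyV
    have hproper := Groth.Agent.Helper4.AnFinC.isProperMap_of_isAffine (f ∣_ V)
    have hfin := Groth.Agent.Helper4.AnFinC.finite_fibre_of_isAffine (f ∣_ V) y'
    haveI : T2Space (An.Pts ((f ⁻¹ᵁ V : X.Opens) : Scheme)) :=
      Groth.Agent.Helper4.AnFinC.t2Space_of_isAffine
    have hlh := Groth.Agent.Helper4.AnIFTC.isLocalHomeomorph_of_isAffine (f ∣_ V)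
    have hev : IsEvenlyCovered (An.Pts.map (f ∣_ V)) y' (An.Pts.map (f ∣_ V) ⁻¹' {y'}) :=
      hproper.isClosedMap.isEvenlyCovered_of_openPartialHomeomorph hfin (fun e _ => by
        obtain ⟨φ, h1, h2⟩ := hlh e
        exact ⟨φ, h1, h2.symm⟩)
    have hcomm : ∀ e, An.Pts.map f (An.Pts.map (f ⁻¹ᵁ V).ι e) =
        An.Pts.map V.ι (An.Pts.map (f ∣_ V) e) := by
      intro e
      rw [← An.Pts.map_comp, ← An.Pts.map_comp]
      exact congrFun (Groth.Agent.Helper4.AnImmersion.map_congr (morphismRestrict_ι f V).symm) e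
    have hcart : An.Pts.map f ⁻¹' Set.range (An.Pts.map V.ι) ⊆
        Set.range (An.Pts.map (f ⁻¹ᵁ V).ι) := by
      intro x hx
      rw [Groth.Agent.Helper4.AnOpenImm.range_map_openImmersion] at hx ⊢
      rw [Set.mem_preimage, Set.mem_preimage, An.Pts.pt_map] at hx
      change x.pt ∈ (f ⁻¹ᵁ V).ι.opensRange
      rw [Scheme.Opens.opensRange_ι]
      change f x.pt ∈ V.ι.opensRange at hx
      rw [Scheme.Opens.opensRange_ι] at hx
      exact hx
    have hsq := Groth.Agent.Helper4.AnCovA.isEvenlyCovered_of_square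
      (Groth.Agent.Helper4.AnOpenImm.isOpenEmbedding_map (f ⁻¹ᵁ V).ι)
      (Groth.Agent.Helper4.AnOpenImm.isOpenEmbedding_map V.ι) hcomm hcart hev
    refine ⟨hsq.to_isEvenlyCovered_preimage, ?_⟩
    refine (hfin.image (An.Pts.map (f ⁻¹ᵁ V).ι)).subset ?_
    intro x hx
    obtain ⟨e, rfl⟩ := hcart (show x ∈ An.Pts.map f ⁻¹' Set.range (An.Pts.map V.ι) from ⟨y', hx.symm⟩)
    refine ⟨e, ?_, rfl⟩
    rw [Set.mem_preimage, Set.mem_singleton_iff] at hx ⊢
    rw [hcomm] at hx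
    exact (Groth.Agent.Helper4.AnOpenImm.isOpenEmbedding_map V.ι).injective hx
  exact ⟨fun y => (key y).1, fun y => (key y).2⟩

end Groth.Agent.S4206
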