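import Groth.Statements.S4243
import Groth.Agent.Helper2.FiniteFieldHomog
open Groth.Agent.Helper2.FiniteFieldHomog
-- import your own Groth.Agent.* helpers here

set_option autoImplicit false
open SGA4h

namespace Groth.Agent.S4243

/-- Let k be a finite field with q elements and P a nonzero homogeneous polynomial of degree d in r+1
variables over k. If P vanishes at every point of k^{r+1} (that is, the hypersurface P = 0 in
projective r-space passes through every rational point), then d ≥ q + 1. -/
theorem result (k : Type) [Field k] [Fintype k] (r d : ℕ)
    (P : MvPolynomial (Fin (r + 1)) k) (hP : P.IsHomogeneous d) (hP0 : P ≠ 0)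
    (hvan : ∀ x : Fin (r + 1) → k, MvPolynomial.eval x P = 0) :
    Fintype.card k + 1 ≤ d := by
  by_contra hlt
  exact hP0 (eq_zero_of_homogeneous (r + 1) d P hP (by omega) hvan)

end Groth.Agent.S4243
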