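import Groth.Statements.S4285
import Groth.Agent.Helper1.BD10

set_option autoImplicit false
universe u
open CategoryTheory CategoryTheory.Limits AlgebraicGeometry
open Pic13

namespace Groth.Agent.S4285

/-- (iii) implies (i), over the base S = Spec k with k algebraically closed: let X ⊆ P^n_k be a closed
subscheme, m an integer and φ a polynomial. The family of coherent O_X-modules F which are m-regular
(H^q(X, F(m - q)) = 0 for q ≥ 1) and have Hilbert polynomial φ (χ(F(d)) = φ(d) for all integers d)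
is bounded. (The source allows a finite set of Hilbert polynomials and a projective X over a
Noetherian base with O_X(1) generated by global sections on the fibres.) -/
theorem result (k : Type u) [Field k] [IsAlgClosed k] (n : ℕ) (X : Scheme.{u}) [X.Over (Spec (CommRingCat.of k))]
    (i : X ⟶ CohB1.ProjSpace n k) [IsClosedImmersion i] (hi : i ≫ CohB1.ProjSpace.toSpec n k = X ↘ Spec (CommRingCat.of k))
    (m : ℤ) (φ : Polynomial ℚ) :
    Pic13.IsBounded k X (fun F : X.Modules => Coh.IsCoh F ∧ Pic13.IsMRegular k i F m ∧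
      ∀ d : ℤ, (FGA.eulerCharLE k X (Pic13.twistOn k i F d) n : ℚ) = φ.eval (d : ℚ)) := by
  classical
  haveI := Groth.Agent.Helper4.SN.isProper_of_closedImmersion k i hi
  haveI := Groth.Agent.Helper4.NApx82.isNoetherian_of_proper k X
  obtain ⟨N, hN⟩ : ∃ N : ℕ, N = ⌈φ.eval (m : ℚ)⌉₊ := ⟨_, rfl⟩
  have hEcoh : Coh.IsCoh ((DCoh.tensorRightMod (Groth.Agent.Helper4.SN.OX k i (-m))).obj
      (FlatMod.freeMod X N)) :=
    Groth.Agent.Lead.Ref1B.isCoh_tensorMod _ _ (Groth.Agent.Helper1.Dev.isCoh_freeMod X N)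
      (Groth.Agent.Helper1.SerreFin.isCoh_of_isInvertible _
        (Groth.Agent.Helper4.SN.isInvertible_OX k i (-m)))
  have hΦ : ({ψ : ℤ → ℤ | ∀ d : ℤ, (ψ d : ℚ) = φ.eval (d : ℚ)} : Set (ℤ → ℤ)).Finite := by
    apply Set.Subsingleton.finite
    intro ψ hψ ψ' hψ'
    funext d
    have h1 := hψ d
    have h2 := hψ' d
    have : (ψ d : ℚ) = (ψ' d : ℚ) := h1.trans h2.symm
    exact_mod_cast this
  obtain ⟨T, q, hq1, hq2, 𝔽, h𝔽, hfam⟩ :=
    Groth.Agent.Helper1.BD.isBounded_quotients k i hi _ hEcoh _ hΦ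
  refine ⟨T, q, hq1, hq2, 𝔽, h𝔽, fun F hF => hfam F ⟨hF.1, ?_, hF.2.2⟩⟩
  obtain ⟨hFc, hreg, hχ⟩ := hF
  have hgg := (Groth.Agent.S12111.result k n i F hFc m hreg m le_rfl).2
  have hvan : ∀ j : ℕ, 0 < j → Subsingleton (Coh.HH X (Pic13.twistOn k i F m) j) := by
    intro j hj
    have h1 := (Groth.Agent.S12111.result k n i F hFc m hreg (m + j) (by omega)).1 j hj
    have e : m + (j : ℤ) - (j : ℤ) = m := by ring
    rw [e] at h1
    exact h1
  refine Groth.Agent.Helper1.BD.exists_epi_of_gg k i hi F hFc m hgg hvan N ?_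
  have h1 := hχ m
  have h2 : φ.eval (m : ℚ) ≤ (N : ℚ) := by
    rw [hN]
    exact Nat.le_ceil _
  have h3 : (FGA.eulerCharLE k X (Pic13.twistOn k i F m) n : ℚ) ≤ ((N : ℤ) : ℚ) := by
    rw [h1]
    exact_mod_cast h2
  exact_mod_cast h3

end Groth.Agent.S4285
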