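import Groth.Statements.S4286
import Groth.Agent.Helper1.BD3

set_option autoImplicit false
universe u
open CategoryTheory CategoryTheory.Limits AlgebraicGeometry
open Pic13

namespace Groth.Agent.S4286

/-- (i) implies (iii), over the base S = Spec k with k algebraically closed: let X ⊆ P^n_k be a closed
subscheme and P a bounded family of coherent O_X-modules. Then there is an integer m such that every
member of P is m-regular, and the Hilbert polynomials d ↦ χ(F(d)) of the members of P form a finite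
set. -/
theorem result (k : Type u) [Field k] [IsAlgClosed k] (n : ℕ) (X : Scheme.{u}) [X.Over (Spec (CommRingCat.of k))]
    (i : X ⟶ CohB1.ProjSpace n k) [IsClosedImmersion i] (hi : i ≫ CohB1.ProjSpace.toSpec n k = X ↘ Spec (CommRingCat.of k))
    (P : X.Modules → Prop) (hP : ∀ F, P F → Coh.IsCoh F) (hb : Pic13.IsBounded k X P) :
    (∃ m : ℤ, ∀ F, P F → Pic13.IsMRegular k i F m) ∧
      ∃ s : Finset (Polynomial ℚ), ∀ F, P F → ∃ φ ∈ s, ∀ d : ℤ, (FGA.eulerCharLE k X (Pic13.twistOn k i F d) n : ℚ) = φ.eval (d : ℚ) := by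
  classical
  obtain ⟨T, q, hq1, hq2, 𝔽, h𝔽, hfam⟩ := hb
  haveI := hq1
  haveI := hq2
  obtain ⟨N₀, hN₀⟩ := Groth.Agent.Helper1.BD.exists_uniform_vanishing k i hi q 𝔽 h𝔽
  have hfin := Groth.Agent.Helper1.BD.finite_hilbert_functions k i hi q 𝔽 h𝔽
  constructor
  · refine ⟨(N₀ : ℤ) + n, fun F hF => ?_⟩
    obtain ⟨t, ht, ⟨e⟩⟩ := hfam F hF
    intro p hp
    by_cases hpn : p ≤ n
    · have h1 := hN₀ (N₀ + n - p) (by omega) t ht p (by omega)
      have hcast : ((N₀ + n - p : ℕ) : ℤ) = (N₀ : ℤ) + n - p := by omega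
      rw [hcast] at h1
      exact ((Groth.Agent.Lead.BCField.HHlinEquiv k
        (PicGrp.tensorModIso e (Iso.refl _)) p).toEquiv.subsingleton_congr).1 h1
    · exact Groth.Agent.Helper1.BD.subsingleton_HH_gt k i hi _ p (by omega)
  · let pick : (ℤ → ℤ) → Polynomial ℚ := fun φ =>
      if h : ∃ P : Polynomial ℚ, ∀ d : ℤ, (φ d : ℚ) = P.eval (d : ℚ) then h.choose else 0
    refine ⟨hfin.toFinset.image pick, fun F hF => ?_⟩
    obtain ⟨t, ht, ⟨e⟩⟩ := hfam F hF
    set φ : ℤ → ℤ := fun d => FGA.eulerCharLE k X (Pic13.twistOn k i F d) n with hφ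
    have hφmem : φ ∈ Set.range (fun p : {t : Spec (CommRingCat.of k) ⟶ T // t ≫ q = 𝟙 _} =>
        fun d : ℤ => FGA.eulerCharLE k X
          (Pic13.twistOn k i (Pic13.fibreMod k X q p.1 p.2 𝔽) d) n) :=
      ⟨⟨t, ht⟩, funext fun d => Groth.Agent.Lead.IntNumBC.eulerCharLE_congr k X
        (PicGrp.tensorModIso e (Iso.refl _)) n⟩
    have hex : ∃ P : Polynomial ℚ, ∀ d : ℤ, (φ d : ℚ) = P.eval (d : ℚ) := by
      haveI := Groth.Agent.Helper4.SN.isProper_of_closedImmersion k i hi
      haveI := Groth.Agent.Helper4.NApx82.isNoetherian_of_proper k X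
      obtain ⟨P, hP⟩ := Groth.Agent.Helper5.PnBridge.exists_poly_int k i hi F (hP F hF)
      refine ⟨P, fun d => ?_⟩
      rw [← hP d]
      have h := Groth.Agent.Helper4.SN.eulerCharLE_eq_chi k n
        (Groth.Agent.Helper5.PnBridge.dim_le k i) (Pic13.twistOn k i F d)
      have h2 : Curv2.euler k X (Pic13.twistOn k i F d) =
          FGA.eulerCharLE k X (Pic13.twistOn k i F d) n := h.symm
      rw [h2]
    refine ⟨pick φ, Finset.mem_image.2 ⟨φ, hfin.mem_toFinset.2 hφmem, rfl⟩, fun d => ?_⟩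
    have : pick φ = hex.choose := dif_pos hex
    rw [this]
    exact hex.choose_spec d

end Groth.Agent.S4286
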