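import Groth.Statements.S4307
import Groth.Agent.Helper4.AnHolA
import Groth.Agent.Helper4.AnAffineSpace
import Mathlib

set_option autoImplicit false
open CategoryTheory AlgebraicGeometry Topology TopologicalSpace
open An

namespace Groth.Agent.S4307


/-- A sanity check of the definition of holomorphic functions: for an open set U of complex points of
affine n-space over ℂ and g : U → ℂ, g is holomorphic (satisfies the local predicate An.holPred of
the prelude) if and only if g = G ∘ (coordinates) for some G : ℂ^n → ℂ complex-differentiable on the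
image of U in ℂ^n. -/
theorem result (n : ℕ) (U : TopologicalSpace.Opens (An.Pts (𝔸(Fin n; An.SC))))
    (g : U → ℂ) :
    (An.holPred (𝔸(Fin n; An.SC))).pred g ↔
      ∃ G : (Fin n → ℂ) → ℂ,
        DifferentiableOn ℂ G ((fun (x : An.Pts (𝔸(Fin n; An.SC))) (i : Fin n) =>
          x.evTop (AffineSpace.coord An.SC i)) '' (U : Set (An.Pts (𝔸(Fin n; An.SC))))) ∧
        ∀ x : U, g x = G (fun i => (x : An.Pts (𝔸(Fin n; An.SC))).evTop (AffineSpace.coord An.SC i)) := by

  classical
  have hs := (Groth.Agent.Helper4.AnAffineSpace.eval₂Hom_coord_bijective n).2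
  have hc := Groth.Agent.Helper4.AnAffineSpace.isHomeomorph_coordMap n
  set c := Groth.Agent.Helper4.AnTop.coordMap (X := 𝔸(Fin n; An.SC)) (AffineSpace.coord An.SC)
    with hcdef
  have hinj : Function.Injective c := hc.injective
  have himg : (fun (x : An.Pts (𝔸(Fin n; An.SC))) (i : Fin n) =>
      x.evTop (AffineSpace.coord An.SC i)) = c := rfl
  rw [himg]
  constructor
  · intro hg
    -- local data
    have hloc : ∀ x : U, ∃ (V : TopologicalSpace.Opens (An.Pts (𝔸(Fin n; An.SC)))) (_ : x.1 ∈ V)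
        (hVU : V ≤ U), Groth.Agent.Helper4.AnHolA.LocHol (AffineSpace.coord An.SC) V
          (fun y => g ⟨y.1, hVU y.2⟩) := by
      intro x
      obtain ⟨V, hxV, i, hV⟩ := hg x
      exact ⟨V, hxV, i.le, Groth.Agent.Helper4.AnHolA.locHol_of_mem_chartAlg
        (AffineSpace.coord An.SC) hs V _ hV⟩
    let G : (Fin n → ℂ) → ℂ := fun z =>
      if hz : ∃ x : U, c x.1 = z then g hz.choose else 0
    have hG : ∀ x : U, g x = G (c x.1) := by
      intro x
      have hz : ∃ x' : U, c x'.1 = c x.1 := ⟨x, rfl⟩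
      simp only [G, dif_pos hz]
      congr 1
      exact (Subtype.ext (hinj hz.choose_spec)).symm
    refine ⟨G, ?_, hG⟩
    rintro z ⟨x₀, hx₀U, rfl⟩
    obtain ⟨V, hxV, hVU, hV⟩ := hloc ⟨x₀, hx₀U⟩
    obtain ⟨F, N, hN, hx₀N, hF, hFg⟩ := hV ⟨x₀, hxV⟩
    have hopen : IsOpen (N ∩ c '' (V : Set (An.Pts (𝔸(Fin n; An.SC))))) :=
      hN.inter (hc.isOpenMap _ V.isOpen)
    have hmem : c x₀ ∈ N ∩ c '' (V : Set (An.Pts (𝔸(Fin n; An.SC)))) :=
      ⟨hx₀N, ⟨x₀, hxV, rfl⟩⟩
    have heq : G =ᶠ[nhds (c x₀)] F := by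
      filter_upwards [hopen.mem_nhds hmem] with z hz
      obtain ⟨hzN, x', hx'V, rfl⟩ := hz
      have h1 := hFg ⟨x', hx'V⟩ hzN
      have h2 : g ⟨x', hVU hx'V⟩ = G (c x') := hG ⟨x', hVU hx'V⟩
      rw [← h2]
      exact h1
    have hFd : DifferentiableAt ℂ F (c x₀) := hF.differentiableAt (hN.mem_nhds hx₀N)
    exact (hFd.congr_of_eventuallyEq heq).differentiableWithinAt
  · rintro ⟨G, hGd, hG⟩
    refine An.holPred_of_chartAlg (Algebra.subset_adjoin ?_)
    refine ⟨⊤, fun _ => TopologicalSpace.Opens.mem_top _, n, AffineSpace.coord An.SC,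
      c '' (U : Set (An.Pts (𝔸(Fin n; An.SC)))), G, hc.isOpenMap _ U.isOpen, hGd, ?_⟩
    intro x
    exact ⟨⟨x.1, x.2, rfl⟩, hG x⟩

end Groth.Agent.S4307
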