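import Groth.Statements.S4336
import Mathlib
-- import your own Groth.Agent.* helpers here

set_option autoImplicit false
universe u
open LinTop

namespace Groth.Agent.S4336

/-- Let A be an admissible ring and J an ideal of definition of A. An element of A is invertible if and
only if its image in A/J is invertible. -/
theorem result
    (A : Type u) [CommRing A] [UniformSpace A] [IsUniformAddGroup A] [IsTopologicalRing A]
    (hA : LinTop.IsAdmissible A) (J : Ideal A) (hJ : LinTop.IsIdealOfDefinition A J) (f : A) :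
    IsUnit f ↔ IsUnit (Ideal.Quotient.mk J f) := by
  constructor
  · intro h
    exact h.map _
  intro h
  obtain ⟨⟨hlin, -⟩, hT2, hcomp⟩ := hA
  have hna : NonarchimedeanAddGroup A := by
    refine { is_nonarchimedean := fun U hU => ?_ }
    obtain ⟨K, hKopen, hKU⟩ := (IsLinearTopology.hasBasis_open_ideal (R := A)).mem_iff.mp hU
    exact ⟨⟨K.toAddSubgroup, hKopen⟩, hKU⟩
  have hsummable : ∀ c : ℕ → A, (∀ m, c m ∈ J ^ m) → Summable c := by
    intro c hc
    apply NonarchimedeanAddGroup.summable_of_tendsto_cofinite_zero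
    rw [Nat.cofinite_eq_atTop, Filter.tendsto_def]
    intro U hU
    obtain ⟨n, -, hn⟩ := hJ.2 U hU
    exact Filter.mem_atTop_sets.mpr ⟨n, fun m hm => hn (Ideal.pow_le_pow_right hm (hc m))⟩
  obtain ⟨g', hg'⟩ := h.exists_right_inv
  obtain ⟨g, rfl⟩ := Ideal.Quotient.mk_surjective g'
  set j : A := 1 - f * g with hj
  have hjJ : j ∈ J := by
    rw [← Ideal.Quotient.eq_zero_iff_mem, hj, map_sub, map_mul, hg', map_one, sub_self]
  have hs : Summable (fun n => j ^ n) := hsummable _ (fun n => Ideal.pow_mem_pow hjJ n)
  set s : A := ∑' n, j ^ n with hs'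
  have h1 : HasSum (fun n => j ^ n) s := hs.hasSum
  have h2 : HasSum (fun n => j ^ (n + 1)) (s - 1) := by
    rw [hasSum_nat_add_iff 1]
    simpa using h1
  have h3 : HasSum (fun n => j ^ (n + 1)) (j * s) := by
    have := h1.mul_left j
    simpa [pow_succ'] using this
  have h4 : j * s = s - 1 := h3.unique h2
  have h5 : (1 - j) * s = 1 := by
    rw [sub_mul, one_mul, h4]; ring
  have h6 : f * (g * s) = 1 := by
    rw [← mul_assoc]
    have : f * g = 1 - j := by rw [hj]; ring
    rw [this, h5]
  exact IsUnit.of_mul_eq_one _ h6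

end Groth.Agent.S4336
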