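import Groth.Statements.S4337
import Mathlib
import Groth.Agent.S4336
-- import your own Groth.Agent.* helpers here

set_option autoImplicit false
universe u
open LinTop

namespace Groth.Agent.S4337

/-- Let A be an admissible ring, J an ideal of definition, and u : M -> N a homomorphism of A-modules
with N of finite type. Then u is surjective if and only if u tensored with A/J is surjective. -/
theorem result
    (A : Type u) [CommRing A] [UniformSpace A] [IsUniformAddGroup A] [IsTopologicalRing A]
    (hA : LinTop.IsAdmissible A) (J : Ideal A) (hJ : LinTop.IsIdealOfDefinition A J)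
    (M N : Type u) [AddCommGroup M] [Module A M] [AddCommGroup N] [Module A N] [Module.Finite A N]
    (u : M →ₗ[A] N) :
    Function.Surjective u ↔ Function.Surjective (u.rTensor (A ⧸ J)) := by
  constructor
  · intro h
    exact LinearMap.rTensor_surjective _ h
  intro h
  have hjac : J ≤ Ideal.jacobson ⊥ := by
    intro x hx
    rw [Ideal.mem_jacobson_bot]
    intro y
    rw [Groth.Agent.S4336.result A hA J hJ]
    have : Ideal.Quotient.mk J (x * y + 1) = 1 := by
      rw [map_add, map_mul, Ideal.Quotient.eq_zero_iff_mem.mpr hx, zero_mul, zero_add, map_one]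
    rw [this]
    exact isUnit_one
  have hl : Function.Surjective (u.lTensor (A ⧸ J)) :=
    (LinearMap.lTensor_surj_iff_rTensor_surj (A ⧸ J) u).mpr h
  have key : (⊤ : Submodule A N) ≤ LinearMap.range u ⊔ J • (⊤ : Submodule A N) := by
    intro n _
    obtain ⟨y, hy⟩ := hl ((1 : A ⧸ J) ⊗ₜ[A] n)
    obtain ⟨m, rfl⟩ := TensorProduct.mk_surjective A M (A ⧸ J) Ideal.Quotient.mk_surjective y
    have h1 : TensorProduct.mk A (A ⧸ J) N 1 (n - u m) = 0 := by
      rw [map_sub]
      simp only [TensorProduct.mk_apply]
      rw [← hy]
      simp
    have h2 : n - u m ∈ J • (⊤ : Submodule A N) := by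
      rw [← LinearMap.ker_tensorProductMk]
      exact h1
    have : n = u m + (n - u m) := by abel
    rw [this]
    exact Submodule.add_mem_sup (LinearMap.mem_range_self u m) h2
  have := Submodule.le_of_le_smul_of_le_jacobson_bot (Module.Finite.fg_top) hjac key
  rw [← LinearMap.range_eq_top]
  exact top_le_iff.mp this

end Groth.Agent.S4337
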