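import Groth.Statements.S4338
import Mathlib
-- import your own Groth.Agent.* helpers here

set_option autoImplicit false
universe u
open LinTop

namespace Groth.Agent.S4338

/-- For a finitely generated ideal. Let A be an admissible ring and I a finitely generated ideal
contained in an ideal of definition of A. Then A is separated and complete for the I-adic topology.
(The published statement has no finiteness hypothesis on I and is then not correct: the completion
of a polynomial ring in countably many variables over a field along the ideal generated by the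
variables, with its inverse-limit topology, is admissible, the kernel of its projection onto the
field is an ideal of definition, and the ring is not adically complete for that kernel.) -/
theorem result
    (A : Type u) [CommRing A] [UniformSpace A] [IsUniformAddGroup A] [IsTopologicalRing A]
    (hA : LinTop.IsAdmissible A) (J : Ideal A) (hJ : LinTop.IsIdealOfDefinition A J)
    (I : Ideal A) (hI : I.FG) (hIJ : I ≤ J) :
    IsAdicComplete I A := by
  obtain ⟨⟨hlin, -⟩, hT2, hcomp⟩ := hA
  have hna : NonarchimedeanAddGroup A := by
    refine { is_nonarchimedean := fun U hU => ?_ }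
    obtain ⟨K, hKopen, hKU⟩ := (IsLinearTopology.hasBasis_open_ideal (R := A)).mem_iff.mp hU
    exact ⟨⟨K.toAddSubgroup, hKopen⟩, hKU⟩
  have hpow : ∀ U ∈ nhds (0 : A), ∃ n, ∀ m ≥ n, ((I ^ m : Ideal A) : Set A) ⊆ U := by
    intro U hU
    obtain ⟨n, -, hn⟩ := hJ.2 U hU
    exact ⟨n, fun m hm x hx => hn (Ideal.pow_le_pow_right hm (Ideal.pow_right_mono hIJ m hx))⟩
  have hsummable : ∀ c : ℕ → A, (∀ m, c m ∈ I ^ m) → Summable c := by
    intro c hc
    apply NonarchimedeanAddGroup.summable_of_tendsto_cofinite_zero
    rw [Nat.cofinite_eq_atTop, Filter.tendsto_def]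
    intro U hU
    obtain ⟨n, hn⟩ := hpow U hU
    exact Filter.mem_atTop_sets.mpr ⟨n, fun m hm => hn m hm (hc m)⟩
  have hmem : ∀ (n : ℕ) (x : A), x ∈ (I ^ n • ⊤ : Submodule A A) ↔ x ∈ I ^ n := by
    intro n x
    rw [smul_eq_mul, Ideal.mul_top]
  have hH : IsHausdorff I A := by
    refine ⟨fun x hx => ?_⟩
    by_contra hx0
    have hU : ({x}ᶜ : Set A) ∈ nhds (0 : A) :=
      isOpen_compl_singleton.mem_nhds (by simpa using Ne.symm hx0)
    obtain ⟨n, hn⟩ := hpow _ hU
    have := hx n
    rw [SModEq.zero, hmem] at this
    exact hn n le_rfl this rfl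
  have hP : IsPrecomplete I A := by
    refine ⟨fun f hf => ?_⟩
    let d : ℕ → A := fun m => f (m + 1) - f m
    have hd : ∀ m, d m ∈ I ^ m := by
      intro m
      have := hf (Nat.le_succ m)
      rw [SModEq.sub_mem, hmem] at this
      have h2 := (I ^ m).neg_mem this
      simpa [d] using h2
    have hds : Summable d := hsummable d hd
    refine ⟨f 0 + ∑' m, d m, fun n => ?_⟩
    set L := f 0 + ∑' m, d m with hL
    have h1 : HasSum d (L - f 0) := by
      have := hds.hasSum
      rw [hL, add_sub_cancel_left]
      exact this
    have h2 : HasSum (fun m => d (m + n)) (L - f n) := by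
      rw [hasSum_nat_add_iff n]
      have htel : ∑ i ∈ Finset.range n, d i = f n - f 0 := Finset.sum_range_sub f n
      rw [htel]
      have : L - f n + (f n - f 0) = L - f 0 := by abel
      rw [this]
      exact h1
    -- generators of `I ^ n`
    obtain ⟨G, hG⟩ : (I ^ n).FG := Ideal.FG.pow hI
    have hdec : ∀ m, ∃ (a : (G : Set A) →₀ A) (_ : ∀ i, a i ∈ I ^ m),
        (a.sum fun i c => c • (i : A)) = d (m + n) := by
      intro m
      have h5 := (Submodule.mem_ideal_smul_span_iff_exists_sum' (I := I ^ m) (G : Set A) id
        (d (m + n))).mp ?_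
      · exact h5
      · have : d (m + n) ∈ I ^ (m + n) := hd (m + n)
        rw [pow_add] at this
        rw [Set.image_id, smul_eq_mul]
        convert this using 2
    choose a ha hsum using hdec
    have hsum' : ∀ m, d (m + n) = ∑ j : (G : Set A), a m j * (j : A) := by
      intro m
      rw [← hsum m]
      exact Finsupp.sum_fintype (a m) (fun i c => c • (i : A)) (fun i => zero_smul _ _)
    have hCs : ∀ j : (G : Set A), Summable (fun m => a m j) := fun j =>
      hsummable _ (fun m => ha m j)
    have h3 : HasSum (fun m => ∑ j : (G : Set A), a m j * (j : A))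
        (∑ j : (G : Set A), (∑' m, a m j) * (j : A)) := by
      apply hasSum_sum
      intro j _
      exact (hCs j).hasSum.mul_right _
    have h4 : L - f n = ∑ j : (G : Set A), (∑' m, a m j) * (j : A) := by
      apply HasSum.unique h2
      convert h3 using 1
      funext m
      exact hsum' m
    rw [SModEq.comm, SModEq.sub_mem, hmem, h4]
    refine Ideal.sum_mem _ fun j _ => ?_
    apply Ideal.mul_mem_left
    rw [← hG]
    exact Ideal.subset_span j.2
  exact { toIsHausdorff := hH, toIsPrecomplete := hP }

end Groth.Agent.S4338
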