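import Groth.Statements.S4345
import Groth.Agent.Helper2.LocSubring
open Groth.Agent.Helper2.LocSubring
-- import your own Groth.Agent.* helpers here

set_option autoImplicit false
universe u
open SchLoc

namespace Groth.Agent.S4345

/-- Let A and B be subrings of a field R, C the subring generated by A and B, and for a subring E let
L(E) be the set of local subrings E_p of R, p a prime ideal of E. The following are equivalent: (i)
for every local subring Q of R containing A and B, the localizations of A and of B at the traces of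
the maximal ideal of Q coincide; (ii) for every prime ideal r of C the localizations of A and B at
the traces of r coincide; (iii) two members of L(A) and L(B) dominated by a common local subring of
R are equal; (iv) the intersection of L(A) and L(B) is L(C). -/
theorem result
    (R : Type u) [Field R] (A B : Subring R) :
    [ ∀ (Q : LocalSubring R) (hA : A ≤ Q.toSubring) (hB : B ≤ Q.toSubring),
        LocalSubring.ofPrime A ((IsLocalRing.maximalIdeal Q.toSubring).comap (Subring.inclusion hA)) =
          LocalSubring.ofPrime B ((IsLocalRing.maximalIdeal Q.toSubring).comap (Subring.inclusion hB)),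
      ∀ r : PrimeSpectrum ↥(A ⊔ B),
        LocalSubring.ofPrime A (r.asIdeal.comap (Subring.inclusion (le_sup_left : A ≤ A ⊔ B))) =
          LocalSubring.ofPrime B (r.asIdeal.comap (Subring.inclusion (le_sup_right : B ≤ A ⊔ B))),
      ∀ (p : PrimeSpectrum A) (q : PrimeSpectrum B),
        (∃ Q : LocalSubring R, LocalSubring.ofPrime A p.asIdeal ≤ Q ∧ LocalSubring.ofPrime B q.asIdeal ≤ Q) →
          LocalSubring.ofPrime A p.asIdeal = LocalSubring.ofPrime B q.asIdeal,
      Set.range (fun p : PrimeSpectrum A ↦ LocalSubring.ofPrime A p.asIdeal) ∩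
          Set.range (fun q : PrimeSpectrum B ↦ LocalSubring.ofPrime B q.asIdeal) =
        Set.range (fun r : PrimeSpectrum ↥(A ⊔ B) ↦ LocalSubring.ofPrime (A ⊔ B) r.asIdeal) ].TFAE := by
  tfae_have 1 → 2 := by
    intro h r
    have hC : A ⊔ B ≤ (LocalSubring.ofPrime (A ⊔ B) r.asIdeal).toSubring :=
      LocalSubring.le_ofPrime _ _
    have h1 := h (LocalSubring.ofPrime (A ⊔ B) r.asIdeal) (le_sup_left.trans hC)
      (le_sup_right.trans hC)
    have eA : (IsLocalRing.maximalIdeal (LocalSubring.ofPrime (A ⊔ B) r.asIdeal).toSubring).comap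
        (Subring.inclusion (le_sup_left.trans hC)) =
        r.asIdeal.comap (Subring.inclusion (le_sup_left : A ≤ A ⊔ B)) := by
      rw [comap_incl_trans _ le_sup_left hC, comap_maximalIdeal_ofPrime]
    have eB : (IsLocalRing.maximalIdeal (LocalSubring.ofPrime (A ⊔ B) r.asIdeal).toSubring).comap
        (Subring.inclusion (le_sup_right.trans hC)) =
        r.asIdeal.comap (Subring.inclusion (le_sup_right : B ≤ A ⊔ B)) := by
      rw [comap_incl_trans _ le_sup_right hC, comap_maximalIdeal_ofPrime]
    exact (ofPrime_congr A eA).symm.trans (h1.trans (ofPrime_congr B eB))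
  tfae_have 2 → 1 := by
    intro h Q hA hB
    have hC : A ⊔ B ≤ Q.toSubring := sup_le hA hB
    have h1 := h ⟨(IsLocalRing.maximalIdeal Q.toSubring).comap (Subring.inclusion hC), inferInstance⟩
    have eA : (IsLocalRing.maximalIdeal Q.toSubring).comap (Subring.inclusion hA) =
        ((IsLocalRing.maximalIdeal Q.toSubring).comap (Subring.inclusion hC)).comap
          (Subring.inclusion (le_sup_left : A ≤ A ⊔ B)) :=
      comap_incl_trans _ le_sup_left hC _
    have eB : (IsLocalRing.maximalIdeal Q.toSubring).comap (Subring.inclusion hB) =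
        ((IsLocalRing.maximalIdeal Q.toSubring).comap (Subring.inclusion hC)).comap
          (Subring.inclusion (le_sup_right : B ≤ A ⊔ B)) :=
      comap_incl_trans _ le_sup_right hC _
    exact (ofPrime_congr A eA).trans (h1.trans (ofPrime_congr B eB).symm)
  tfae_have 1 → 3 := by
    rintro h p q ⟨Q, hp, hq⟩
    have hA : A ≤ Q.toSubring := (LocalSubring.le_ofPrime A p.asIdeal).trans hp.1
    have hB : B ≤ Q.toSubring := (LocalSubring.le_ofPrime B q.asIdeal).trans hq.1
    have h1 := h Q hA hB
    exact (ofPrime_congr A (comap_eq_of_le A p.asIdeal Q hp hA)).symm.trans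
      (h1.trans (ofPrime_congr B (comap_eq_of_le B q.asIdeal Q hq hB)))
  tfae_have 3 → 1 := by
    intro h Q hA hB
    exact h ⟨(IsLocalRing.maximalIdeal Q.toSubring).comap (Subring.inclusion hA), inferInstance⟩
      ⟨(IsLocalRing.maximalIdeal Q.toSubring).comap (Subring.inclusion hB), inferInstance⟩
      ⟨Q, ofPrime_le A Q hA, ofPrime_le B Q hB⟩
  tfae_have 2 → 4 := by
    intro h
    apply Set.Subset.antisymm
    · rintro Q ⟨⟨p, hp⟩, ⟨q, hq⟩⟩
      simp only at hp hq
      have hA : A ≤ Q.toSubring := hp ▸ LocalSubring.le_ofPrime A p.asIdeal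
      have hB : B ≤ Q.toSubring := hq ▸ LocalSubring.le_ofPrime B q.asIdeal
      have hC : A ⊔ B ≤ Q.toSubring := sup_le hA hB
      refine ⟨⟨(IsLocalRing.maximalIdeal Q.toSubring).comap (Subring.inclusion hC), inferInstance⟩, ?_⟩
      simp only
      apply le_antisymm (ofPrime_le (A ⊔ B) Q hC)
      have e1 : (IsLocalRing.maximalIdeal Q.toSubring).comap (Subring.inclusion hA) = p.asIdeal :=
        comap_eq_of_le A p.asIdeal Q hp.le hA
      have e2 := comap_incl_trans Q.toSubring (le_sup_left : A ≤ A ⊔ B) hC
        (IsLocalRing.maximalIdeal Q.toSubring)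
      have h3 := ofPrime_comap_le (le_sup_left : A ≤ A ⊔ B)
        ((IsLocalRing.maximalIdeal Q.toSubring).comap (Subring.inclusion hC))
      rw [← ofPrime_congr A e2, ofPrime_congr A e1, hp] at h3
      exact h3
    · rintro Q ⟨r, rfl⟩
      simp only
      have hk : LocalSubring.ofPrime A
          (r.asIdeal.comap (Subring.inclusion (le_sup_left : A ≤ A ⊔ B))) =
          LocalSubring.ofPrime (A ⊔ B) r.asIdeal := by
        apply le_antisymm (ofPrime_comap_le _ _)
        set Q' := LocalSubring.ofPrime A
          (r.asIdeal.comap (Subring.inclusion (le_sup_left : A ≤ A ⊔ B))) with hQ'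
        have hle : Q' ≤ LocalSubring.ofPrime (A ⊔ B) r.asIdeal := ofPrime_comap_le _ _
        have hA : A ≤ Q'.toSubring := LocalSubring.le_ofPrime _ _
        have hB : B ≤ Q'.toSubring := by
          rw [hQ', h r]; exact LocalSubring.le_ofPrime _ _
        have hC : A ⊔ B ≤ Q'.toSubring := sup_le hA hB
        have h1 := ofPrime_le (A ⊔ B) Q' hC
        have e : (IsLocalRing.maximalIdeal Q'.toSubring).comap (Subring.inclusion hC) =
            r.asIdeal := by
          obtain ⟨hle', hloc⟩ := hle
          have h2 : (IsLocalRing.maximalIdeal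
              (LocalSubring.ofPrime (A ⊔ B) r.asIdeal).toSubring).comap (Subring.inclusion hle') =
              IsLocalRing.maximalIdeal Q'.toSubring :=
            (IsLocalRing.local_hom_TFAE (Subring.inclusion hle')).out 0 4 |>.1 hloc
          rw [← h2, ← comap_incl_trans _ hC hle']
          exact comap_maximalIdeal_ofPrime _ _
        rw [ofPrime_congr (A ⊔ B) e] at h1
        exact h1
      exact ⟨⟨⟨r.asIdeal.comap (Subring.inclusion (le_sup_left : A ≤ A ⊔ B)), inferInstance⟩, hk⟩,
        ⟨⟨r.asIdeal.comap (Subring.inclusion (le_sup_right : B ≤ A ⊔ B)), inferInstance⟩,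
          (h r).symm.trans hk⟩⟩
  tfae_have 4 → 2 := by
    intro h r
    have hr : LocalSubring.ofPrime (A ⊔ B) r.asIdeal ∈
        Set.range (fun r : PrimeSpectrum ↥(A ⊔ B) ↦ LocalSubring.ofPrime (A ⊔ B) r.asIdeal) :=
      ⟨r, rfl⟩
    rw [← h] at hr
    obtain ⟨⟨p, hp⟩, ⟨q, hq⟩⟩ := hr
    simp only at hp hq
    have hC : A ⊔ B ≤ (LocalSubring.ofPrime (A ⊔ B) r.asIdeal).toSubring :=
      LocalSubring.le_ofPrime _ _
    have eA : r.asIdeal.comap (Subring.inclusion (le_sup_left : A ≤ A ⊔ B)) = p.asIdeal := by
      rw [← comap_eq_of_le A p.asIdeal _ hp.le (le_sup_left.trans hC),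
        comap_incl_trans _ le_sup_left hC, comap_maximalIdeal_ofPrime]
    have eB : r.asIdeal.comap (Subring.inclusion (le_sup_right : B ≤ A ⊔ B)) = q.asIdeal := by
      rw [← comap_eq_of_le B q.asIdeal _ hq.le (le_sup_right.trans hC),
        comap_incl_trans _ le_sup_right hC, comap_maximalIdeal_ofPrime]
    exact (ofPrime_congr A eA).trans (hp.trans (hq.symm.trans (ofPrime_congr B eB).symm))
  tfae_finish

end Groth.Agent.S4345
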