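import Groth.Statements.S4351
import Groth.Agent.Helper1.FT5
import Groth.Agent.Helper4.SubInf6

set_option autoImplicit false
universe u
open QCohSup

namespace Groth.Agent.S4351

open AlgebraicGeometry in
open CategoryTheory in
open Opposite in
/-- Case a), in the sectionwise form its proof gives. Let X be a scheme whose underlying space is
locally Noetherian and B a quasi-coherent O_X-algebra. Every section of B over an affine open U lies
in a quasi-coherent sub-O_X-algebra of B whose sections over every affine open form an algebra of
finite type over the functions (a condition equivalent to being of finite type near every point);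
hence B is the inductive limit of its quasi-coherent sub-O_X-algebras of finite type. -/
theorem result
    {X : Scheme.{u}}
    (hX : ∀ x : X, ∃ U : X.Opens, x ∈ U ∧ TopologicalSpace.NoetherianSpace (U : Set X))
    (B : RelSpec.QCAlg X)
    (U : X.affineOpens) (b : B.presheaf.obj (op (U : X.Opens))) :
    ∃ (B' : RelSpec.QCAlg X) (φ : B' ⟶ B),
      (∀ V : X.Opens, Function.Injective (φ.hom.app (op V)).hom) ∧
      (∀ V : X.affineOpens, (B'.str.app (op (V : X.Opens))).hom.FiniteType) ∧
      b ∈ Set.range (φ.hom.app (op (U : X.Opens))).hom := by
  open Groth.Agent.Helper4 Groth.Agent.Helper4.QCAlgGen Groth.Agent.Helper1.FT in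
  haveI : B.toModule.IsQuasicoherent := inferInstance
  have hext : SubInf.ExtProp B.toModule U.1 := by
    intro F' hq hft i' hi'
    haveI := hq
    haveI := hi'
    exact SubInf.exists_extension_locallyNoetherian hX U.1 B.toModule F' hft i'
  obtain ⟨E, j, hmono, hq, hft, ⟨g, hg⟩⟩ :=
    SubInf.exists_submodule_through_section_of_extProp B.toModule U.1 hext b
  haveI := hq
  refine ⟨subAlg B j, subHom B j, subHom_injective B j, fun V => finiteType_sub B j hft V.2, ?_⟩
  rw [← hg]
  exact mem_range_subHom B j U.1 g

end Groth.Agent.S4351
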