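import Groth.Statements.S4361
import Mathlib

set_option autoImplicit false
universe u
open FinCond

namespace Groth.Agent.S4361

open TopologicalSpace in
theorem isCompact_of_subset_of_locallyNoetherian {T : Type*} [TopologicalSpace T]
    (hT : ∀ x : T, ∃ U : Opens T, x ∈ U ∧ NoetherianSpace U) (K : Set T) (hK : IsCompact K)
    (s : Set T) (hs : s ⊆ K) : IsCompact s := by
  choose U hxU hN using hT
  obtain ⟨F, -, hF⟩ := hK.elim_nhds_subcover (fun x => (U x : Set T))
    (fun x _ => (U x).2.mem_nhds (hxU x))
  have hN' : ∀ i : F, NoetherianSpace ((U i.1 : Opens T) : Set T) := fun i => hN i.1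
  have hNoeth : NoetherianSpace (⋃ i : F, ((U i.1 : Opens T) : Set T)) :=
    NoetherianSpace.iUnion (fun i : F => ((U i.1 : Opens T) : Set T))
  rw [noetherianSpace_set_iff] at hNoeth
  apply hNoeth
  intro x hx
  have := hF (hs hx)
  simp only [Set.mem_iUnion] at this ⊢
  obtain ⟨i, hi, hxi⟩ := this
  exact ⟨⟨i, hi⟩, hxi⟩

open AlgebraicGeometry in
open CategoryTheory in
/-- Let f : X -> Y and g : Y -> Z be morphisms whose composite is quasi-compact, and suppose the
underlying space of X is locally Noetherian (every point has an open neighbourhood which is a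
Noetherian topological space). Then f is quasi-compact. (The published statement also covers the
case g separated, which is the standard cancellation property; this row states only the case of a
locally Noetherian source.) -/
theorem result
    {X Y Z : Scheme.{u}} (f : X ⟶ Y) (g : Y ⟶ Z) [QuasiCompact (f ≫ g)]
    (hX : ∀ x : X, ∃ U : X.Opens, x ∈ U ∧ TopologicalSpace.NoetherianSpace U) :
    QuasiCompact f := by
  constructor
  intro V hVo hVc
  -- cover g '' V by affine opens
  have hcov : ∀ v : Y, ∃ W : Z.Opens, g v ∈ W ∧ IsCompact (W : Set Z) := by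
    intro v
    obtain ⟨_, ⟨W, hW, rfl⟩, hvW, -⟩ :=
      Z.isBasis_affineOpens.exists_subset_of_mem_open (Set.mem_univ (g v)) isOpen_univ
    exact ⟨W, hvW, hW.isCompact⟩
  choose W hW hWc using hcov
  obtain ⟨F, -, hF⟩ := hVc.elim_nhds_subcover (fun v => g ⁻¹' (W v : Set Z))
    (fun v _ => ((W v).2.preimage g.continuous).mem_nhds (hW v))
  set WW : Set Z := ⋃ v ∈ F, (W v : Set Z) with hWW
  have hWWo : IsOpen WW := isOpen_biUnion (fun v _ => (W v).2)
  have hWWc : IsCompact WW := F.isCompact_biUnion (fun v _ => hWc v)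
  have hK : IsCompact ((f ≫ g) ⁻¹' WW) := QuasiCompact.isCompact_preimage WW hWWo hWWc
  apply isCompact_of_subset_of_locallyNoetherian hX _ hK
  intro x hx
  have h1 := hF hx
  simp only [Set.mem_iUnion, Set.mem_preimage] at h1
  obtain ⟨v, hvF, hxv⟩ := h1
  simp only [Set.mem_preimage, hWW, Set.mem_iUnion]
  exact ⟨v, hvF, by rw [Scheme.Hom.comp_apply]; exact hxv⟩

end Groth.Agent.S4361
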