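import Groth.Statements.S4362
import Mathlib

set_option autoImplicit false
universe u
open FinCond

namespace Groth.Agent.S4362

open AlgebraicGeometry in
open CategoryTheory in
/-- If X is a Noetherian scheme, every increasing sequence of quasi-coherent sheaves of ideals of the
structure sheaf is eventually constant; equivalently the ordered set of quasi-coherent ideal sheaves
of X is well-founded for the reverse order. (On a locally Noetherian scheme quasi-coherent and
coherent ideal sheaves coincide.) -/
theorem result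
    (X : Scheme.{u}) [IsNoetherian X] : WellFoundedGT X.IdealSheafData := by
  -- a finite affine cover
  have hcov : ∀ x : X, ∃ U : X.affineOpens, x ∈ U.1 := by
    intro x
    obtain ⟨_, ⟨U, hU, rfl⟩, hxU, -⟩ :=
      X.isBasis_affineOpens.exists_subset_of_mem_open (Set.mem_univ x) isOpen_univ
    exact ⟨⟨U, hU⟩, hxU⟩
  choose U hxU using hcov
  obtain ⟨F, hF⟩ := CompactSpace.elim_nhds_subcover (fun x => ((U x).1 : Set X))
    (fun x => (U x).1.2.mem_nhds (hxU x))
  have hsup : ⨆ i : F, (U i.1).1 = ⊤ := by
    rw [eq_top_iff]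
    intro x _
    have hx : x ∈ ⋃ y ∈ F, ((U y).1 : Set X) := by rw [hF]; trivial
    simp only [Set.mem_iUnion] at hx
    obtain ⟨y, hyF, hxy⟩ := hx
    exact TopologicalSpace.Opens.mem_iSup.mpr ⟨⟨y, hyF⟩, hxy⟩
  have hN : ∀ i : F, IsNoetherianRing Γ(X, (U i.1).1) :=
    fun i => IsLocallyNoetherian.component_noetherian (U i.1)
  let Φ : X.IdealSheafData → (∀ i : F, (Ideal Γ(X, (U i.1).1))ᵒᵈ) :=
    fun I i => OrderDual.toDual (I.ideal (U i.1))
  have hΦ : StrictAnti Φ := by
    intro I J hIJ
    have hle : Φ J ≤ Φ I := fun i => OrderDual.toDual_le_toDual.mpr (hIJ.le (U i.1))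
    refine lt_of_le_of_ne hle ?_
    intro heq
    apply hIJ.ne
    apply Scheme.IdealSheafData.ext_of_iSup_eq_top (fun i : F => U i.1) hsup
    intro i
    have := congrFun heq i
    exact (OrderDual.toDual.injective this).symm
  exact hΦ.wellFoundedGT

end Groth.Agent.S4362
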