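import Groth.Statements.S4364
import Mathlib

set_option autoImplicit false
universe u
open FinCond

namespace Groth.Agent.S4364

open AlgebraicGeometry in
open CategoryTheory in
theorem appLE_congr' {X S : Scheme.{u}} (k k' : X ⟶ S) (hk : k = k') (W : S.Opens) (U : X.Opens)
    (e : U ≤ k ⁻¹ᵁ W) (e' : U ≤ k' ⁻¹ᵁ W) : k.appLE W U e = k'.appLE W U e' := by
  subst hk; rfl

open AlgebraicGeometry in
open CategoryTheory in
/-- Let X and Y be S-schemes with Y locally of finite type over S, and let f, g : X -> Y be S-morphisms.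
If f x = g x for some point x and the two induced homomorphisms of local rings O_{Y, f x} -> O_{X,
x} coincide, then f and g coincide on an open neighbourhood of x. No condition is imposed on X. (The
published statement assumes Y of finite type over S; this row assumes Y only locally of finite type
over S, which is all the published proof uses.) -/
theorem result
    {X Y S : Scheme.{u}} (sX : X ⟶ S) (sY : Y ⟶ S) [LocallyOfFiniteType sY]
    (f g : X ⟶ Y) (hf : f ≫ sY = sX) (hg : g ≫ sY = sX) {x : X} (e : f x = g x)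
    (H : f.stalkMap x =
      Y.presheaf.stalkSpecializes (Inseparable.of_eq e.symm).specializes ≫ g.stalkMap x) :
    ∃ U : X.Opens, x ∈ U ∧ U.ι ≫ f = U.ι ≫ g := by
  classical
  obtain ⟨_, ⟨W : S.Opens, hW, rfl⟩, hxW, -⟩ := S.isBasis_affineOpens.exists_subset_of_mem_open
    (Set.mem_univ (sY (f x))) isOpen_univ
  obtain ⟨_, ⟨V : Y.Opens, hV, rfl⟩, hxV, hVW⟩ := Y.isBasis_affineOpens.exists_subset_of_mem_open
    (show f x ∈ sY ⁻¹ᵁ W from hxW) (sY ⁻¹ᵁ W).2
  have hxV' : g x ∈ V := e ▸ hxV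
  have hft : (sY.appLE W V hVW).hom.FiniteType := sY.finiteType_appLE hW hV hVW
  let _ := (sY.appLE W V hVW).hom.toAlgebra
  obtain ⟨s, hs⟩ := hft
  set U₀ : X.Opens := f ⁻¹ᵁ V ⊓ g ⁻¹ᵁ V with hU₀
  have hxU₀ : x ∈ U₀ := ⟨hxV, hxV'⟩
  have key : ∀ b : Γ(Y, V), ∃ (T : X.Opens) (_ : x ∈ T) (hT : T ≤ U₀),
      (f.appLE V T (hT.trans inf_le_left)).hom b = (g.appLE V T (hT.trans inf_le_right)).hom b := by
    intro b
    have hgerm : X.presheaf.germ U₀ x hxU₀ ((f.appLE V U₀ inf_le_left).hom b) =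
        X.presheaf.germ U₀ x hxU₀ ((g.appLE V U₀ inf_le_right).hom b) := by
      have h1 : X.presheaf.germ U₀ x hxU₀ ((f.appLE V U₀ inf_le_left).hom b) =
          (f.stalkMap x).hom (Y.presheaf.germ V (f x) hxV b) := by
        rw [Scheme.Hom.germ_stalkMap_apply]
        simp only [Scheme.Hom.appLE, CommRingCat.hom_comp, RingHom.coe_comp, Function.comp_apply]
        exact TopCat.Presheaf.germ_res_apply X.presheaf _ x hxU₀ _
      have h2 : X.presheaf.germ U₀ x hxU₀ ((g.appLE V U₀ inf_le_right).hom b) =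
          (g.stalkMap x).hom (Y.presheaf.germ V (g x) hxV' b) := by
        rw [Scheme.Hom.germ_stalkMap_apply]
        simp only [Scheme.Hom.appLE, CommRingCat.hom_comp, RingHom.coe_comp, Function.comp_apply]
        exact TopCat.Presheaf.germ_res_apply X.presheaf _ x hxU₀ _
      rw [h1, h2, H]
      simp only [CommRingCat.hom_comp, RingHom.coe_comp, Function.comp_apply]
      congr 1
      have hsp := TopCat.Presheaf.germ_stalkSpecializes Y.presheaf hxV
        (Inseparable.of_eq e.symm).specializes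
      exact (congrArg (fun φ => φ.hom b) hsp)
    obtain ⟨T, hxT, iU, iV, hT⟩ := TopCat.Presheaf.germ_eq X.presheaf x hxU₀ hxU₀ _ _ hgerm
    refine ⟨T, hxT, iU.le, ?_⟩
    have e1 := Scheme.Hom.appLE_map f (inf_le_left : U₀ ≤ f ⁻¹ᵁ V) iU.op
    have e2 := Scheme.Hom.appLE_map g (inf_le_right : U₀ ≤ g ⁻¹ᵁ V) iV.op
    have e1' := congrArg (fun φ => φ.hom b) e1
    have e2' := congrArg (fun φ => φ.hom b) e2
    simp only [CommRingCat.hom_comp, RingHom.coe_comp, Function.comp_apply] at e1' e2'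
    rw [← e1', ← e2']
    exact hT
  choose T hxT hT hTeq using key
  set U : X.Opens := s.inf T ⊓ U₀ with hU
  have hxU : x ∈ U := by
    rw [← SetLike.mem_coe, TopologicalSpace.Opens.coe_inf, TopologicalSpace.Opens.coe_finset_inf]
    exact ⟨by simpa using fun b _ ↦ hxT b, hxU₀⟩
  have hUf : U ≤ f ⁻¹ᵁ V := inf_le_right.trans inf_le_left
  have hUg : U ≤ g ⁻¹ᵁ V := inf_le_right.trans inf_le_right
  refine ⟨U, hxU, ?_⟩
  rw [← Scheme.Hom.resLE_comp_ι _ hUf, ← Scheme.Hom.resLE_comp_ι _ hUg]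
  congr 1
  have : IsAffine V := hV
  suffices hsuff : ∀ (U₁ V₁) (eU : U = U₁) (eV : V = V₁),
      f.appLE V₁ U₁ (eU ▸ eV ▸ hUf) = g.appLE V₁ U₁ (eU ▸ eV ▸ hUg) by
    rw [← cancel_mono V.toScheme.isoSpec.hom]
    simp only [Scheme.isoSpec, asIso_hom, Scheme.toSpecΓ_naturality,
      Scheme.Hom.app_eq_appLE, Scheme.Hom.resLE_appLE]
    congr 2
    apply hsuff <;> simp
  rintro U₁ V₁ rfl rfl
  -- the algebra structures
  have hUW : U ≤ (f ≫ sY) ⁻¹ᵁ W := fun y hy => hVW (hUf hy)
  let _ := ((f ≫ sY).appLE W U hUW).hom.toAlgebra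
  let φ' : Γ(Y, V) →ₐ[Γ(S, W)] Γ(X, U) :=
    { (f.appLE V U hUf).hom with
      commutes' := fun a => by
        have := Scheme.Hom.appLE_comp_appLE f sY W V U hVW hUf
        exact congrArg (fun φ => φ.hom a) this }
  let ψ' : Γ(Y, V) →ₐ[Γ(S, W)] Γ(X, U) :=
    { (g.appLE V U hUg).hom with
      commutes' := fun a => by
        have h1 := Scheme.Hom.appLE_comp_appLE g sY W V U hVW hUg
        have h2 := appLE_congr' (g ≫ sY) (f ≫ sY) (hg.trans hf.symm) W U
          (hUg.trans ((TopologicalSpace.Opens.map g.base).map (homOfLE hVW)).le) hUW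
        exact congrArg (fun φ => φ.hom a) (h1.trans h2) }
  have heq : φ' = ψ' := by
    apply AlgHom.ext_of_adjoin_eq_top hs
    intro b hb
    have hUT : U ≤ T b := inf_le_left.trans (Finset.inf_le hb)
    have e1 := Scheme.Hom.appLE_map f ((hT b).trans inf_le_left) (homOfLE hUT).op
    have e2 := Scheme.Hom.appLE_map g ((hT b).trans inf_le_right) (homOfLE hUT).op
    have e1' := congrArg (fun φ => φ.hom b) e1
    have e2' := congrArg (fun φ => φ.hom b) e2
    simp only [CommRingCat.hom_comp, RingHom.coe_comp, Function.comp_apply] at e1' e2'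
    change (f.appLE V U hUf).hom b = (g.appLE V U hUg).hom b
    rw [← e1', ← e2', hTeq b]
  apply CommRingCat.hom_ext
  exact congrArg (fun θ : Γ(Y, V) →ₐ[Γ(S, W)] Γ(X, U) => (θ : Γ(Y, V) →+* Γ(X, U))) heq

end Groth.Agent.S4364
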