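import Groth.Statements.S4385
import Groth.Agent.Helper4.AmpleCoprod
import Mathlib

set_option autoImplicit false
universe u
open CategoryTheory CategoryTheory.Limits AlgebraicGeometry
open EGA2

namespace Groth.Agent.S4385


/-- Let f : X → Y and f' : X' → Y be quasi-compact morphisms, X'' = X ⨿ X' their disjoint union with f''
: X'' → Y the morphism restricting to f and f', and L'' an O_{X''}-module whose inverse images L on
X and L' on X' (along the two coprojections) are invertible. Then L'' is ample relative to f'' if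
and only if L is ample relative to f and L' is ample relative to f'. -/
theorem result {X X' Y : Scheme.{u}} (f : X ⟶ Y) (f' : X' ⟶ Y) [QuasiCompact f] [QuasiCompact f']
    (L'' : (X ⨿ X').Modules)
    (hL : PicF.IsInvertible ((Scheme.Modules.pullback (coprod.inl : X ⟶ X ⨿ X')).obj L''))
    (hL' : PicF.IsInvertible ((Scheme.Modules.pullback (coprod.inr : X' ⟶ X ⨿ X')).obj L'')) :
    RelAmple.IsRelAmple (coprod.desc f f') L'' ↔
      RelAmple.IsRelAmple f ((Scheme.Modules.pullback (coprod.inl : X ⟶ X ⨿ X')).obj L'') ∧
        RelAmple.IsRelAmple f' ((Scheme.Modules.pullback (coprod.inr : X' ⟶ X ⨿ X')).obj L'') := by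

  haveI hq : QuasiCompact (coprod.desc f f') :=
    Groth.Agent.Helper4.AmpleCoprod.quasiCompact_coprod_desc f f'
  constructor
  · intro h
    constructor
    · haveI : QuasiCompact ((coprod.inl : X ⟶ X ⨿ X') ≫ coprod.desc f f') := by
        rw [coprod.inl_desc]; infer_instance
      have := Groth.Agent.Helper4.AmpleCoprod.isRelAmple_pullback_of_isOpenImmersion
        (coprod.inl : X ⟶ X ⨿ X') (coprod.desc f f') L'' h
      rwa [coprod.inl_desc] at this
    · haveI : QuasiCompact ((coprod.inr : X' ⟶ X ⨿ X') ≫ coprod.desc f f') := by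
        rw [coprod.inr_desc]; infer_instance
      have := Groth.Agent.Helper4.AmpleCoprod.isRelAmple_pullback_of_isOpenImmersion
        (coprod.inr : X' ⟶ X ⨿ X') (coprod.desc f f') L'' h
      rwa [coprod.inr_desc] at this
  · rintro ⟨h1, h2⟩
    have hc := isCompl_opensRange_inl_inr X X'
    refine Groth.Agent.Helper4.AmpleCoprod.isRelAmple_of_isCompl
      (coprod.inl : X ⟶ X ⨿ X') (coprod.inr : X' ⟶ X ⨿ X') hc.sup_eq_top hc.inf_eq_bot
      (coprod.desc f f') L'' ?_ ?_
    · rw [coprod.inl_desc]; exact h1
    · rw [coprod.inr_desc]; exact h2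

end Groth.Agent.S4385
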