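import Groth.Statements.S4394
import Mathlib
import Groth.Agent.Helper2.Graded
open DirectSum
open Groth.Agent.Helper2
-- import your own Groth.Agent.* helpers here

set_option autoImplicit false
universe u
open EGA2

namespace Groth.Agent.S4394

/-- Let S be a ring graded in nonnegative degrees which is an S_0-algebra of finite type. Then for every
integer n > 0 there is m₀ such that S_m ⊆ (S_+)^n for all m ≥ m₀. -/
theorem result {R A : Type u} [CommRing R] [CommRing A] [Algebra R A] (𝒜 : ℕ → Submodule R A) [GradedAlgebra 𝒜] [Algebra.FiniteType (𝒜 0) A]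
    (n : ℕ) (hn : 0 < n) :
    ∃ m₀ : ℕ, ∀ m : ℕ, m₀ ≤ m → (𝒜 m : Set A) ⊆ ((HomogeneousIdeal.irrelevant 𝒜).toIdeal ^ n : Ideal A) := by
  classical
  obtain ⟨s, hs, hs'⟩ := GradedAlgebra.exists_finset_adjoin_eq_top_and_homogeneous_ne_zero 𝒜
  have hE : ∀ e ∈ (s : Set A), ∃ d : ℕ, 0 < d ∧ e ∈ 𝒜 d := by
    intro e he
    obtain ⟨k, hk, hek⟩ := hs' e he
    exact ⟨k, Nat.pos_of_ne_zero hk, hek⟩
  have hspan : (HomogeneousIdeal.irrelevant 𝒜).toIdeal = Ideal.span (s : Set A) :=
    (irrelevant_eq_span_iff_adjoin_eq_top 𝒜 s hE).mpr hs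
  choose! deg hdeg using hE
  -- D bounds all degrees
  obtain ⟨D, hD⟩ : ∃ D : ℕ, ∀ e ∈ s, deg e ≤ D := ⟨s.sup deg, fun e he => Finset.le_sup he⟩
  -- stronger statement by induction
  have key : ∀ n : ℕ, ∀ m : ℕ, n * (D + 1) ≤ m → (𝒜 m : Set A) ⊆ ((HomogeneousIdeal.irrelevant 𝒜).toIdeal ^ n : Ideal A) := by
    intro n
    induction n with
    | zero => intro m _ x _; simp
    | succ n ih =>
      intro m hm x hx
      have hmpos : 0 < m := by
        have : (n + 1) * (D + 1) ≥ 1 := Nat.succ_le_of_lt (Nat.mul_pos (Nat.succ_pos n) (Nat.succ_pos D))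
        omega
      have hx' : x ∈ Ideal.span (s : Set A) := by
        rw [← hspan]; exact HomogeneousIdeal.mem_irrelevant_of_mem 𝒜 hmpos hx
      rw [Ideal.span, Finsupp.mem_span_iff_linearCombination] at hx'
      obtain ⟨l, hl⟩ := hx'
      have hx2 : x = ((decompose 𝒜 x m : 𝒜 m) : A) := by
        rw [DirectSum.decompose_of_mem_same 𝒜 hx]
      show x ∈ _
      rw [hx2, ← hl, Finsupp.linearCombination_apply, Finsupp.sum, decompose_sum]
      rw [DFinsupp.finsetSum_apply, AddSubmonoidClass.coe_finsetSum]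
      refine Ideal.sum_mem _ fun e _ => ?_
      obtain ⟨hd, hed⟩ := hdeg e.1 e.2
      rw [smul_eq_mul]
      rw [DirectSum.coe_decompose_mul_of_right_mem 𝒜 m hed]
      split_ifs with hdn
      · rw [pow_succ]
        refine Ideal.mul_mem_mul ?_ ?_
        · apply ih (m - deg e.1) ?_ (SetLike.coe_mem _)
          have := hD e.1 e.2
          have h1 : (n + 1) * (D + 1) = n * (D + 1) + (D + 1) := by ring
          omega
        · rw [hspan]; exact Ideal.subset_span e.2
      · exact Ideal.zero_mem _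
  exact ⟨n * (D + 1), key n⟩

end Groth.Agent.S4394
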