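import Groth.Statements.S4402
import Groth.Agent.Helper1.TwistEpi
import Groth.Agent.S3551

set_option autoImplicit false
universe u
open CategoryTheory CategoryTheory.Limits AlgebraicGeometry
open EGA2

namespace Groth.Agent.S4402

/-- Consider a ring S graded in nonnegative degrees, and assume its irrelevant ideal S_+ is generated by
a finite set of degree-one elements; put X = Proj S. Given any O_X-module F that is quasi-coherent
and of finite type, one can find n₀ so that whenever n ≥ n₀, some k admits an epimorphism onto F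
from the direct sum of k copies of O_X(-n). -/
theorem result {R A : Type u} [CommRing R] [CommRing A] [Algebra R A] (𝒜 : ℕ → Submodule R A) [GradedAlgebra 𝒜]
    (s : Finset A) (hs1 : ∀ f ∈ s, f ∈ 𝒜 1)
    (hs : (HomogeneousIdeal.irrelevant 𝒜).toIdeal = Ideal.span (s : Set A))
    (F : (Proj 𝒜).Modules) (hF : Coh.IsQCoh F) (hFT : CohB1.IsFT F) :
    ∃ n₀ : ℕ, ∀ n : ℕ, n₀ ≤ n →
      ∃ (k : ℕ) (p : (∐ fun _ : Fin k => Twist.twist 𝒜 (-(n : ℤ))) ⟶ F), Epi p := by
  obtain ⟨N, _, _, _, _, 𝒩, _, _, hfin, ⟨e⟩⟩ := Groth.Agent.S3551.result 𝒜 s hs1 hs F hF hFT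
  obtain ⟨n₀, h⟩ := Groth.Agent.Helper1.TwistEpi.exists_epi_twists_to_tilde 𝒜 s hs1 hs 𝒩
  refine ⟨n₀, fun n hn => ?_⟩
  obtain ⟨k, p, hp⟩ := h n hn
  exact ⟨k, p ≫ e.hom, CategoryTheory.epi_comp _ _⟩

end Groth.Agent.S4402
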