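import Groth.Statements.S4405
import Mathlib
-- import your own Groth.Agent.* helpers here

set_option autoImplicit false
universe u
open EGA2

namespace Groth.Agent.S4405

/-- Let S be a ring graded in nonnegative degrees and E any subset of the irrelevant ideal S_+. Then the
intersection of S_+ with the vanishing ideal of the closed subset V_+(E) of Proj S equals the
intersection of S_+ with the radical of the graded ideal generated by E (the smallest homogeneous
ideal containing E). -/
theorem result {R A : Type u} [CommRing R] [CommRing A] [Algebra R A] (𝒜 : ℕ → Submodule R A) [GradedAlgebra 𝒜]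
    (E : Set A) (hE : E ⊆ (HomogeneousIdeal.irrelevant 𝒜).toIdeal) :
    (HomogeneousIdeal.irrelevant 𝒜).toIdeal ⊓
        (ProjectiveSpectrum.vanishingIdeal (ProjectiveSpectrum.zeroLocus 𝒜 E)).toIdeal =
      (HomogeneousIdeal.irrelevant 𝒜).toIdeal ⊓ (Ideal.homogeneousHull 𝒜 (Ideal.span E)).toIdeal.radical := by
  set J := Ideal.homogeneousHull 𝒜 (Ideal.span E) with hJ
  ext f
  simp only [Ideal.mem_inf]
  constructor
  · rintro ⟨hf, hv⟩
    refine ⟨hf, ?_⟩
    rw [J.isHomogeneous.radical_eq, Ideal.mem_sInf]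
    rintro p ⟨hph, hJp, hpp⟩
    by_cases hirr : HomogeneousIdeal.irrelevant 𝒜 ≤ (⟨p, hph⟩ : HomogeneousIdeal 𝒜)
    · exact hirr hf
    · let x : ProjectiveSpectrum 𝒜 := ⟨⟨p, hph⟩, hpp, hirr⟩
      have hx : x ∈ ProjectiveSpectrum.zeroLocus 𝒜 E := by
        rw [ProjectiveSpectrum.mem_zeroLocus]
        intro e he
        exact hJp (Ideal.le_toIdeal_homogeneousHull 𝒜 _ (Ideal.subset_span he))
      exact (ProjectiveSpectrum.mem_vanishingIdeal _ f).mp hv x hx
  · rintro ⟨hf, hr⟩
    refine ⟨hf, ?_⟩
    change f ∈ ProjectiveSpectrum.vanishingIdeal (ProjectiveSpectrum.zeroLocus 𝒜 E)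
    rw [ProjectiveSpectrum.mem_vanishingIdeal]
    intro x hx
    rw [ProjectiveSpectrum.mem_zeroLocus] at hx
    have hle : J ≤ x.asHomogeneousIdeal := by
      rw [hJ]
      apply (Ideal.homogeneousHull.gc 𝒜 _ _).mpr
      rw [Ideal.span_le]
      exact hx
    obtain ⟨n, hn⟩ := hr
    exact x.isPrime.mem_of_pow_mem n (hle hn)

end Groth.Agent.S4405
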