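import Groth.Statements.S4410
import Groth.Agent.Helper4.SN411
import Groth.Agent.Helper4.QAffSpec
import Mathlib

set_option autoImplicit false
universe u
open CategoryTheory CategoryTheory.Limits AlgebraicGeometry
open EGA2

namespace Groth.Agent.S4410


set_option backward.isDefEq.respectTransparency.types false in
/-- Let Y be a quasi-compact separated scheme and f : X → Y a quasi-affine morphism of finite type. Then
there are a scheme X'', an affine morphism of finite type g : X'' → Y and an immersion j : X → X''
with j ≫ g = f. (The published statement also allows Y to be a scheme whose underlying space is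
Noetherian; this row assumes it quasi-compact and separated. The published statement realises X'' as
the relative spectrum of a quasi-coherent sub-algebra of finite type of f_*O_X, and says every
larger such sub-algebra also works; only the resulting factorisation is stated here.) -/
theorem result {X Y : Scheme.{u}} [CompactSpace Y] [Y.IsSeparated]
    (f : X ⟶ Y) (hf : Mor2.IsQuasiAffine f) [LocallyOfFiniteType f] :
    ∃ (X'' : Scheme.{u}) (g : X'' ⟶ Y) (j : X ⟶ X''), IsAffineHom g ∧ LocallyOfFiniteType g ∧ IsImmersion j ∧ j ≫ g = f := by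

  haveI : QuasiCompact f := hf.1
  haveI : QuasiSeparated f := by
    refine HasAffineProperty.of_iSup_eq_top (P := @QuasiSeparated)
      (Q := fun X _ _ _ ↦ QuasiSeparatedSpace X) (fun U : Y.affineOpens => U)
      (iSup_affineOpens_eq_top Y) ?_
    intro U
    haveI : Scheme.IsQuasiAffine (f ⁻¹ᵁ U.1 : Scheme.{u}) := hf.2 U.1 U.2
    change QuasiSeparatedSpace (f ⁻¹ᵁ U.1 : Scheme.{u})
    infer_instance
  haveI : QuasiSeparatedSpace Y := inferInstance
  obtain ⟨c, e, -, hqc, hoi⟩ := Groth.Agent.Helper4.QAffSpec.mp f ⟨hf.1, hf.2⟩
  haveI := hoi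
  haveI : LocallyOfFiniteType (c ≫ (RelSpec.QCAlg.directImage f).π) := by rw [e]; infer_instance
  haveI : QuasiCompact (c ≫ (RelSpec.QCAlg.directImage f).π) := by rw [e]; infer_instance
  obtain ⟨C', φ, hinj, hft, h3⟩ :=
    Groth.Agent.Helper4.SN411.exists_finiteType_subalgebra_isImmersion
      (RelSpec.QCAlg.directImage f) c
  refine ⟨C'.spec, C'.π, c ≫ RelSpec.QCAlg.specMap φ, inferInstance,
    Groth.Agent.Helper4.SN411.locallyOfFiniteType_π C' hft, h3, ?_⟩
  rw [Category.assoc, RelSpec.QCAlg.specMap_π, e]

end Groth.Agent.S4410
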