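import Groth.Statements.S4413
import Groth.Agent.Helper4.PullUnit
import Mathlib

set_option autoImplicit false
universe u
open CategoryTheory CategoryTheory.Limits AlgebraicGeometry
open EGA2

namespace Groth.Agent.S4413


/-- Let u : Z → S be a morphism of schemes, L an invertible O_S-module, s : O_S → L a global section of
L and s' the section of u^*(L) corresponding to s, i.e. u^*(s) composed with an isomorphism O_Z ≅
u^*(O_S) (the locus in question does not depend on that choice). Then the open Z_{s'} of Z where s'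
generates u^*(L) is the preimage u⁻¹(S_s) of the open where s generates L. -/
theorem result {Z S : Scheme.{u}} (u : Z ⟶ S) (L : S.Modules) (hL : PicF.IsInvertible L)
    (s : Coh.structureModule S ⟶ L)
    (e : Coh.structureModule Z ≅ (Scheme.Modules.pullback u).obj (Coh.structureModule S)) :
    CohB1.genLocus ((Scheme.Modules.pullback u).obj L) (e.hom ≫ (Scheme.Modules.pullback u).map s) = u ⁻¹ᵁ CohB1.genLocus L s := by

  apply le_antisymm
  · intro z hz
    obtain ⟨W', hW', hzW'⟩ : ∃ W' : Z.Opens,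
        W' ∈ {U : Z.Opens | IsIso ((Scheme.Modules.restrictFunctor U.ι).map
          (e.hom ≫ (Scheme.Modules.pullback u).map s))} ∧ z ∈ W' :=
      TopologicalSpace.Opens.mem_sSup.mp hz
    have hW'' : IsIso ((Scheme.Modules.restrictFunctor (Scheme.Opens.ι W')).map
          (e.hom ≫ (Scheme.Modules.pullback u).map s)) := hW'
    have h1 : IsIso ((Scheme.Modules.restrictFunctor (Scheme.Opens.ι W')).map
        ((Scheme.Modules.pullback u).map s)) := by
      rw [Functor.map_comp] at hW''
      exact IsIso.of_isIso_comp_left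
        ((Scheme.Modules.restrictFunctor (Scheme.Opens.ι W')).map e.hom) _
    obtain ⟨U, hzU, ⟨ε⟩⟩ := hL (u z)
    have hzW : z ∈ W' ⊓ u ⁻¹ᵁ U := ⟨hzW', hzU⟩
    generalize hW : W' ⊓ u ⁻¹ᵁ U = W at hzW
    have hWW' : W ≤ W' := hW ▸ inf_le_left
    have hWU : W ≤ u ⁻¹ᵁ U := hW ▸ inf_le_right
    have h2 : IsIso ((Scheme.Modules.restrictFunctor W.ι).map
        ((Scheme.Modules.pullback u).map s)) :=
      (Groth.Agent.Helper4.GenLoc.isIso_restrict_iff _ W).mpr (fun V hV =>
        (Groth.Agent.Helper4.GenLoc.isIso_restrict_iff _ W').mp h1 V (hV.trans hWW'))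
    have hsq : W.ι ≫ u = u.resLE U W hWU ≫ U.ι := (Scheme.Hom.resLE_comp_ι u hWU).symm
    have h3 : IsIso ((Scheme.Modules.pullback (u.resLE U W hWU)).map
        ((Scheme.Modules.restrictFunctor U.ι).map s)) :=
      (Groth.Agent.Helper4.PullUnit.isIso_restrict_pullback_iff W.ι U.ι u _ hsq s).mp h2
    have h4 : IsIso ((Scheme.Modules.pullback (u.resLE U W hWU)).map
        (Groth.Agent.Helper4.GenLoc.endo L s U ε)) := by
      unfold Groth.Agent.Helper4.GenLoc.endo
      rw [Functor.map_comp, Functor.map_comp]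
      infer_instance
    have h5 := Groth.Agent.Helper4.PullUnit.isUnit_of_isIso_pullback _ _ h4
    have h6 : (⟨z, hzW⟩ : W) ∈ (u.resLE U W hWU) ⁻¹ᵁ
        ((U : Scheme.{u}).basicOpen (Groth.Agent.Helper4.GenLoc.fn
          (Groth.Agent.Helper4.GenLoc.endo L s U ε))) := by
      rw [Scheme.preimage_basicOpen]
      have : (W : Scheme.{u}).basicOpen ((u.resLE U W hWU).appTop (Groth.Agent.Helper4.GenLoc.fn
          (Groth.Agent.Helper4.GenLoc.endo L s U ε))) = ⊤ := Scheme.basicOpen_of_isUnit _ h5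
      have h' : (⟨z, hzW⟩ : (W : Scheme.{u})) ∈ (W : Scheme.{u}).basicOpen
          ((u.resLE U W hWU).appTop (Groth.Agent.Helper4.GenLoc.fn
          (Groth.Agent.Helper4.GenLoc.endo L s U ε))) := by
        rw [this]
        trivial
      exact h'
    have h7 := Groth.Agent.Helper4.GenLoc.genLocus_inf_eq L s U ε
    have h8 : u z ∈ CohB1.genLocus L s ⊓ U := by
      rw [h7]
      refine ⟨(u.resLE U W hWU) ⟨z, hzW⟩, h6, ?_⟩
      have h9 : (W.ι ≫ u) (⟨z, hzW⟩ : (W : Scheme.{u})) =
          (u.resLE U W hWU ≫ U.ι) (⟨z, hzW⟩ : (W : Scheme.{u})) := by rw [hsq]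
      exact h9.symm
    exact h8.1
  · intro z hz
    obtain ⟨V, hV, hzV⟩ : ∃ V : S.Opens,
        V ∈ {U : S.Opens | IsIso ((Scheme.Modules.restrictFunctor U.ι).map s)} ∧ u z ∈ V :=
      TopologicalSpace.Opens.mem_sSup.mp hz
    have hV' : IsIso ((Scheme.Modules.restrictFunctor (Scheme.Opens.ι V)).map s) := hV
    refine TopologicalSpace.Opens.mem_sSup.mpr ⟨u ⁻¹ᵁ V, ?_, hzV⟩
    change IsIso ((Scheme.Modules.restrictFunctor (Scheme.Opens.ι (u ⁻¹ᵁ V))).map
      (e.hom ≫ (Scheme.Modules.pullback u).map s))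
    rw [Functor.map_comp]
    have : IsIso ((Scheme.Modules.restrictFunctor (Scheme.Opens.ι (u ⁻¹ᵁ V))).map
        ((Scheme.Modules.pullback u).map s)) :=
      (Groth.Agent.Helper4.PullUnit.isIso_restrict_pullback_iff (u ⁻¹ᵁ V).ι V.ι u (u ∣_ V)
        (morphismRestrict_ι u V).symm s).mpr inferInstance
    infer_instance

end Groth.Agent.S4413
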