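import Groth.Statements.S4427
import Groth.Agent.Helper4.QAffSec
import Mathlib

set_option autoImplicit false
universe u
open CategoryTheory CategoryTheory.Limits AlgebraicGeometry
open EGA2

namespace Groth.Agent.S4427


/-- Let Y be a scheme and L an invertible O_Y-module. Then L is ample relative to the identity morphism
of Y. -/
theorem result (Y : Scheme.{u}) (L : Y.Modules) (hL : PicF.IsInvertible L) :
    RelAmple.IsRelAmple (𝟙 Y) L := by

  exact Groth.Agent.Helper4.QAffSec.isRelAmple_id Y L hL

end Groth.Agent.S4427
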