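import Groth.Statements.S4429
import Mathlib
open TensorProduct
-- import your own Groth.Agent.* helpers here

set_option autoImplicit false
universe u
open EGA2

namespace Groth.Agent.S4429

/-- For an integral domain A with fraction field K, a finitely generated A-module E and an endomorphism
u of E, the coefficients of the characteristic polynomial of u ⊗ 1 acting on the K-vector space K
⊗_A E (the elementary symmetric functions of u, among them its trace and determinant) are integral
over A. -/
theorem result (A : Type u) [CommRing A] [IsDomain A] (K : Type u) [Field K]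
    [Algebra A K] [IsFractionRing A K] (E : Type u) [AddCommGroup E] [Module A E] [Module.Finite A E]
    (u : E →ₗ[A] E) (i : ℕ) :
    IsIntegral A (((u.baseChange K).charpoly).coeff i) := by
  set f : Module.End K (K ⊗[A] E) := u.baseChange K with hf
  let L := AlgebraicClosure K
  obtain ⟨P, hPm, hP⟩ := Algebra.IsIntegral.isIntegral (R := A) (u : Module.End A E)
  have hPu : Polynomial.aeval (u : Module.End A E) P = 0 := hP
  have hPf : Polynomial.aeval f P = 0 := by
    have h1 := congrArg (Module.End.baseChangeHom A K E) hPu
    rw [← Polynomial.aeval_algHom_apply, map_zero] at h1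
    exact h1
  have hPf' : Polynomial.aeval f (P.map (algebraMap A K)) = 0 := by
    rw [Polynomial.aeval_map_algebraMap]; exact hPf
  set fL : Module.End L (L ⊗[K] (K ⊗[A] E)) := f.baseChange L with hfL
  have hPfL : Polynomial.aeval fL (P.map (algebraMap A K)) = 0 := by
    have h1 := congrArg (Module.End.baseChangeHom K L (K ⊗[A] E)) hPf'
    rw [← Polynomial.aeval_algHom_apply, map_zero] at h1
    exact h1
  have hPfL' : Polynomial.aeval fL ((P.map (algebraMap A K)).map (algebraMap K L)) = 0 := by
    rw [Polynomial.aeval_map_algebraMap]; exact hPfL
  have key : ∀ μ : L, ((f.charpoly).map (algebraMap K L)).IsRoot μ → IsIntegral A μ := by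
    intro μ hμ
    rw [← LinearMap.charpoly_baseChange] at hμ
    have h1 : Module.End.HasEigenvalue fL μ := (Module.End.hasEigenvalue_iff_isRoot_charpoly fL μ).mpr hμ
    have h2 : (minpoly L fL).IsRoot μ := Module.End.isRoot_of_hasEigenvalue h1
    have h3 : minpoly L fL ∣ (P.map (algebraMap A K)).map (algebraMap K L) := minpoly.dvd _ _ hPfL'
    have h4 : ((P.map (algebraMap A K)).map (algebraMap K L)).IsRoot μ := h2.dvd h3
    refine ⟨P, hPm, ?_⟩
    rw [Polynomial.map_map, Polynomial.IsRoot.def, Polynomial.eval_map] at h4
    rw [← h4, IsScalarTower.algebraMap_eq A K L]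
  have h4 := Polynomial.isIntegral_coeff_of_factors (R := A) ((f.charpoly).map (algebraMap K L))
    (by rw [((LinearMap.charpoly_monic f).map _).leadingCoeff]; exact isIntegral_one)
    (IsAlgClosed.splits _) key i
  rw [Polynomial.coeff_map] at h4
  exact (isIntegral_algebraMap_iff (algebraMap K L).injective).mp h4

end Groth.Agent.S4429
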