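import Groth.Statements.S4430
import Mathlib
import Groth.Agent.S4429
open TensorProduct
-- import your own Groth.Agent.* helpers here

set_option autoImplicit false
universe u
open EGA2

namespace Groth.Agent.S4430

/-- Let A be an integral domain with fraction field K, E a finitely generated A-module and u an
endomorphism of E whose characteristic-polynomial coefficients (those of u ⊗ 1 on K ⊗_A E) all lie
in A. If u is an automorphism of E, then its determinant, as an element of A, is invertible in A. -/
theorem result (A : Type u) [CommRing A] [IsDomain A] (K : Type u) [Field K]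
    [Algebra A K] [IsFractionRing A K] (E : Type u) [AddCommGroup E] [Module A E] [Module.Finite A E]
    (u : E →ₗ[A] E) (hcoeff : ∀ i : ℕ, ((u.baseChange K).charpoly).coeff i ∈ (algebraMap A K).range)
    (a : A) (ha : algebraMap A K a = LinearMap.det (u.baseChange K)) (hu : Function.Bijective u) :
    IsUnit a := by
  set e := LinearEquiv.ofBijective u hu with he
  set v : E →ₗ[A] E := e.symm.toLinearMap with hv
  have hvu : v ∘ₗ u = LinearMap.id := by
    ext x; simp [hv, he]
  have huv : u ∘ₗ v = LinearMap.id := by
    ext x; simp [hv, he]
  set α := algebraMap A K a with hα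
  set y := LinearMap.det (v.baseChange K) with hy
  have h1 : y * α = 1 := by
    rw [ha, hy, ← LinearMap.det_comp, ← LinearMap.baseChange_comp, hvu, LinearMap.baseChange_id,
      LinearMap.det_id]
  have h2 : α * y = 1 := by rw [mul_comm]; exact h1
  have hint : IsIntegral A y := by
    rw [hy, LinearMap.det_eq_sign_charpoly_coeff]
    exact ((isIntegral_one.neg).pow _).mul (Groth.Agent.S4429.result A K E v 0)
  obtain ⟨P, hPm, hP⟩ := hint
  let _ : Invertible y := ⟨α, h2, h1⟩
  have h3 := Polynomial.eval₂_reverse_mul_pow (algebraMap A K) y P
  rw [hP] at h3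
  have h4 : Polynomial.eval₂ (algebraMap A K) α P.reverse = 0 := by
    have hy0 : y ^ P.natDegree ≠ 0 := pow_ne_zero _ (fun h0 => by rw [h0, zero_mul] at h1; exact zero_ne_one h1)
    exact (mul_eq_zero.mp h3).resolve_right hy0
  rw [hα, Polynomial.eval₂_at_apply] at h4
  have h5 : Polynomial.eval a P.reverse = 0 :=
    (IsFractionRing.injective A K) (by rw [h4, map_zero])
  have h6 := congrArg (Polynomial.eval a) (Polynomial.divX_mul_X_add P.reverse)
  rw [Polynomial.eval_add, Polynomial.eval_mul, Polynomial.eval_X, Polynomial.eval_C,
    Polynomial.coeff_zero_reverse, hPm.leadingCoeff, h5] at h6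
  exact IsUnit.of_mul_eq_one (-(Polynomial.eval a P.reverse.divX)) (by linear_combination -h6)

end Groth.Agent.S4430
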