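import Groth.Statements.S4431
import Mathlib
open TensorProduct
-- import your own Groth.Agent.* helpers here

set_option autoImplicit false
universe u
open EGA2

namespace Groth.Agent.S4431

/-- Let A be an integral domain with fraction field K, E a finitely generated torsion-free A-module and
u an endomorphism of E whose characteristic-polynomial coefficients (those of u ⊗ 1 on K ⊗_A E) all
lie in A. If the determinant of u is the image of a unit of A, then u is an automorphism of E. -/
theorem result (A : Type u) [CommRing A] [IsDomain A] (K : Type u) [Field K]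
    [Algebra A K] [IsFractionRing A K] (E : Type u) [AddCommGroup E] [Module A E] [Module.Finite A E]
    [Module.IsTorsionFree A E]
    (u : E →ₗ[A] E) (hcoeff : ∀ i : ℕ, ((u.baseChange K).charpoly).coeff i ∈ (algebraMap A K).range)
    (a : A) (ha : algebraMap A K a = LinearMap.det (u.baseChange K)) (hunit : IsUnit a) :
    Function.Bijective u := by
  set f : Module.End K (K ⊗[A] E) := u.baseChange K with hf
  -- lift the charpoly
  have hlift : f.charpoly ∈ Polynomial.lifts (algebraMap A K) := by
    rw [Polynomial.lifts_iff_coeff_lifts]
    intro n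
    exact hcoeff n
  obtain ⟨Q, hQ⟩ := hlift
  -- injectivity of E → K ⊗ E
  have hinj : Function.Injective (TensorProduct.mk A K E 1) := by
    rw [← LinearMap.ker_eq_bot, LinearMap.ker_eq_bot']
    intro m hm
    obtain ⟨s, hs⟩ := (IsLocalizedModule.eq_zero_iff (nonZeroDivisors A) (TensorProduct.mk A K E 1)).mp hm
    exact (smul_eq_zero_iff_right (nonZeroDivisors.ne_zero s.2)).mp hs
  have hQu : Polynomial.aeval (u : Module.End A E) Q = 0 := by
    have h1 : Polynomial.aeval f Q = 0 := by
      rw [← Polynomial.aeval_map_algebraMap K, Polynomial.coe_mapRingHom] at *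
      rw [hQ]; exact LinearMap.aeval_self_charpoly f
    have h2 : (Polynomial.aeval (u : Module.End A E) Q).baseChange K = 0 := by
      have := Polynomial.aeval_algHom_apply (Module.End.baseChangeHom A K E) (u : Module.End A E) Q
      exact this.symm.trans h1
    ext x
    apply hinj
    have := LinearMap.congr_fun h2 ((1 : K) ⊗ₜ[A] x)
    simpa using this
  -- constant coefficient
  have hc : algebraMap A K (Q.coeff 0) = (-1) ^ Module.finrank K (K ⊗[A] E) * algebraMap A K a := by
    rw [ha, LinearMap.det_eq_sign_charpoly_coeff, ← mul_assoc, ← mul_pow]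
    simp only [neg_mul, one_mul, neg_neg, one_pow]
    rw [← hQ, Polynomial.coe_mapRingHom, Polynomial.coeff_map]
  have hc' : Q.coeff 0 = (-1) ^ Module.finrank K (K ⊗[A] E) * a := by
    apply IsFractionRing.injective A K
    rw [hc]; simp
  have hcu : IsUnit (Q.coeff 0) := by
    rw [hc']; exact (IsUnit.pow _ isUnit_one.neg).mul hunit
  obtain ⟨c, hcc⟩ := hcu
  set w : Module.End A E := Polynomial.aeval (u : Module.End A E) Q.divX with hw
  have hwu : w * u + (c : A) • (1 : Module.End A E) = 0 := by
    have h6 := congrArg (Polynomial.aeval (u : Module.End A E)) (Polynomial.divX_mul_X_add Q)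
    rw [hQu, map_add, map_mul, Polynomial.aeval_X, Polynomial.aeval_C, ← hcc,
      Algebra.algebraMap_eq_smul_one] at h6
    exact h6
  have huw : u * w = w * u := by
    have e1 : u * w = Polynomial.aeval (u : Module.End A E) (Polynomial.X * Q.divX) := by
      rw [map_mul, Polynomial.aeval_X]
    have e2 : w * u = Polynomial.aeval (u : Module.End A E) (Q.divX * Polynomial.X) := by
      rw [map_mul, Polynomial.aeval_X]
    rw [e1, e2, mul_comm]
  constructor
  · rw [← LinearMap.ker_eq_bot, LinearMap.ker_eq_bot']
    intro x hx
    have := LinearMap.congr_fun hwu x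
    simp only [LinearMap.add_apply, Module.End.mul_apply, hx, map_zero, zero_add, LinearMap.smul_apply,
      Module.End.one_apply, LinearMap.zero_apply] at this
    have h7 : (↑c⁻¹ : A) • ((c : A) • x) = 0 := by rw [this, smul_zero]
    rwa [smul_smul, Units.inv_mul, one_smul] at h7
  · intro x
    refine ⟨-(w ((↑c⁻¹ : A) • x)), ?_⟩
    have := LinearMap.congr_fun hwu ((↑c⁻¹ : A) • x)
    rw [← huw] at this
    simp only [LinearMap.add_apply, Module.End.mul_apply, LinearMap.smul_apply,
      Module.End.one_apply, LinearMap.zero_apply] at this
    rw [smul_smul, Units.mul_inv, one_smul] at this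
    rw [map_neg]
    exact neg_eq_of_add_eq_zero_right this

end Groth.Agent.S4431
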