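import Groth.Statements.S4435


set_option autoImplicit false
universe u
open CategoryTheory CategoryTheory.Limits AlgebraicGeometry
open EGA2

namespace Groth.Agent.S4435

/-- the image of the generic point under a dominant morphism of integral schemes -/
theorem map_genericPoint {X S : Scheme.{u}} [IsIntegral X] [IsIntegral S]
    (f : X ⟶ S) [IsDominant f] : f (genericPoint X) = genericPoint S := by
  apply (IsGenericPoint.eq (genericPoint_spec S) ?_).symm
  rw [IsGenericPoint, ← Set.image_singleton, ← Set.univ_subset_iff]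
  have h1 : closure (f '' (closure {genericPoint X})) ⊆ closure (f '' {genericPoint X}) :=
    closure_minimal (image_closure_subset_closure_image f.continuous) isClosed_closure
  refine subset_trans ?_ h1
  rw [(genericPoint_spec X).def, Set.image_univ]
  exact f.denseRange.closure_range.ge

open Polynomial in
theorem core {X S : Scheme.{u}} [IsIntegral X] [IsIntegral S]
    (f : X ⟶ S) [IsDominant f] [IsIntegralHom f] :
    (f.stalkMap (genericPoint X)).hom.IsIntegral ∧
      (IsFinite f → (f.stalkMap (genericPoint X)).hom.Finite) := by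
  obtain ⟨V, hV, hξV, -⟩ := exists_isAffineOpen_mem_and_subset (x := f (genericPoint X))
    (U := ⊤) trivial
  have hU : IsAffineOpen (f ⁻¹ᵁ V) := hV.preimage f
  have hηU : genericPoint X ∈ f ⁻¹ᵁ V := hξV
  haveI : Nonempty (f ⁻¹ᵁ V) := ⟨⟨genericPoint X, hηU⟩⟩
  have hK₀ : IsField (S.presheaf.stalk (f (genericPoint X))) := by
    rw [map_genericPoint f]; exact Field.toIsField S.functionField
  letI : Field (S.presheaf.stalk (f (genericPoint X))) := hK₀.toField
  letI : Algebra (S.presheaf.stalk (f (genericPoint X))) X.functionField :=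
    (f.stalkMap (genericPoint X)).hom.toAlgebra
  haveI : IsFractionRing Γ(X, f ⁻¹ᵁ V) X.functionField :=
    functionField_isFractionRing_of_isAffineOpen X (f ⁻¹ᵁ V) hU
  let gX : Γ(X, f ⁻¹ᵁ V) →+* X.functionField := algebraMap Γ(X, f ⁻¹ᵁ V) X.functionField
  let gS : Γ(S, V) →+* S.presheaf.stalk (f (genericPoint X)) :=
    (S.presheaf.germ V (f (genericPoint X)) hξV).hom
  have hcomm : ∀ a, (f.stalkMap (genericPoint X)).hom (gS a) = gX ((f.app V).hom a) := by
    intro a
    convert Scheme.Hom.germ_stalkMap_apply f V (genericPoint X) hξV a using 1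
    rfl
  have hcomm' : (f.stalkMap (genericPoint X)).hom.comp gS = gX.comp (f.app V).hom :=
    RingHom.ext hcomm
  have hb : ∀ b : Γ(X, f ⁻¹ᵁ V), IsIntegral (S.presheaf.stalk (f (genericPoint X))) (gX b) := by
    intro b
    obtain ⟨p, hp, hpb⟩ := f.isIntegral_app V hV b
    refine ⟨p.map gS, hp.map _, ?_⟩
    rw [Polynomial.eval₂_map]
    change eval₂ ((f.stalkMap (genericPoint X)).hom.comp gS) (gX b) p = 0
    rw [hcomm', ← Polynomial.hom_eval₂, hpb, map_zero]
  have hint : ∀ x : X.functionField,
      IsIntegral (S.presheaf.stalk (f (genericPoint X))) x := by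
    intro x
    obtain ⟨b, s, hs, rfl⟩ := IsFractionRing.div_surjective (A := Γ(X, f ⁻¹ᵁ V)) x
    rw [div_eq_mul_inv]
    exact (hb b).mul (hb s).inv
  refine ⟨hint, fun hfin => ?_⟩
  haveI : Algebra.IsIntegral (S.presheaf.stalk (f (genericPoint X))) X.functionField := ⟨hint⟩
  classical
  have hfinapp := f.finite_app V hV
  letI : Algebra Γ(S, V) Γ(X, f ⁻¹ᵁ V) := (f.app V).hom.toAlgebra
  obtain ⟨⟨t, ht⟩⟩ : Module.Finite Γ(S, V) Γ(X, f ⁻¹ᵁ V) := hfinapp
  have hgen : ∀ b : Γ(X, f ⁻¹ᵁ V),
      gX b ∈ Algebra.adjoin (S.presheaf.stalk (f (genericPoint X))) (gX '' (t : Set _)) := by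
    intro b
    have hbt : b ∈ Submodule.span Γ(S, V) (t : Set Γ(X, f ⁻¹ᵁ V)) := by rw [ht]; trivial
    induction hbt using Submodule.span_induction with
    | mem y hy => exact Algebra.subset_adjoin ⟨y, hy, rfl⟩
    | zero => rw [map_zero]; exact Subalgebra.zero_mem _
    | add y z _ _ hy hz => rw [map_add]; exact Subalgebra.add_mem _ hy hz
    | smul a y _ hy =>
      have : gX (a • y) = gS a • gX y := by
        rw [Algebra.smul_def, Algebra.smul_def, map_mul]
        congr 1
        exact (hcomm a).symm
      rw [this]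
      exact Subalgebra.smul_mem _ hy _
  haveI : Algebra.FiniteType (S.presheaf.stalk (f (genericPoint X))) X.functionField := by
    refine ⟨⟨t.image gX, ?_⟩⟩
    rw [Finset.coe_image, eq_top_iff]
    intro x _
    obtain ⟨b, s, hs, rfl⟩ := IsFractionRing.div_surjective (A := Γ(X, f ⁻¹ᵁ V)) x
    rw [div_eq_mul_inv]
    exact Subalgebra.mul_mem _ (hgen b) ((hb s).inv_mem (hgen s))
  exact Algebra.IsIntegral.finite

theorem aux {X S : Scheme.{u}} [IsIntegral X] [IsIntegral S]
    (f : X ⟶ S) [IsDominant f] :
    (IsIntegralHom f → (f.stalkMap (genericPoint X)).hom.IsIntegral) ∧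
      (IsFinite f → (f.stalkMap (genericPoint X)).hom.Finite) := by
  refine ⟨fun h => (core f).1, fun h => ?_⟩
  haveI : IsIntegralHom f := inferInstance
  exact (core f).2 h

/-- Let X, S be integral schemes and f : X ⟶ S a dominant morphism. If f is integral, the field of
rational functions of X is algebraic over that of S; if f is finite, it is a finite extension. Here
the extension is given by the stalk map of f at the generic point of X, whose source is the local
ring of S at the generic point of S (f being dominant), i.e. the function field of S. -/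
theorem result {X S : Scheme.{u}} [IsIntegral X] [IsIntegral S]
    (f : X ⟶ S) [IsDominant f] :
    (IsIntegralHom f → (f.stalkMap (genericPoint X)).hom.IsIntegral) ∧
      (IsFinite f → (f.stalkMap (genericPoint X)).hom.Finite) := by
  exact aux f

end Groth.Agent.S4435
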