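import Groth.Statements.S4436
import Groth.Agent.Helper4.QAffSec
import Mathlib

set_option autoImplicit false
universe u
open CategoryTheory CategoryTheory.Limits AlgebraicGeometry
open EGA2

namespace Groth.Agent.S4436


/-- Let f : X' ⟶ X be a finite morphism and F' a locally free O_{X'}-module of rank r. Then every point
of X has an open neighbourhood U over whose inverse image F' is free of rank r; this is the content
of the statement that the direct image of F' is a locally free module of rank r over the direct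
image of O_{X'} (the converse implication being immediate). -/
theorem result {X' X : Scheme.{u}} (f : X' ⟶ X) [IsFinite f] (r : ℕ)
    (F : X'.Modules) (hF : FlatMod.IsFinLocFreeOfRank r F) (x : X) :
    ∃ U : X.Opens, x ∈ U ∧ Nonempty (F.restrict (f ⁻¹ᵁ U).ι ≅ FlatMod.freeMod (↑(f ⁻¹ᵁ U)) r) := by

  classical
  obtain ⟨V₀, hV₀, hyV₀, -⟩ := exists_isAffineOpen_mem_and_subset (X := X) (x := x) (U := ⊤) trivial
  have hU₀ : IsAffineOpen (f ⁻¹ᵁ V₀) := hV₀.preimage f
  have hZ : (f ⁻¹' {x}).Finite := f.finite_preimage_singleton x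
  have hZU : f ⁻¹' {x} ⊆ (f ⁻¹ᵁ V₀ : X'.Opens) := by
    intro z hz
    have : f z = x := hz
    change f z ∈ V₀
    rw [this]; exact hyV₀
  obtain ⟨g, hg, hfree⟩ := Groth.Agent.Helper4.FinLocFree7.exists_basicOpen_free_of_finite hU₀ r F
    hF _ hZ hZU
  have hC : IsClosed (f '' ((X'.basicOpen g : Set X')ᶜ)) :=
    f.isClosedMap _ (X'.basicOpen g).isOpen.isClosed_compl
  refine ⟨⟨(f '' ((X'.basicOpen g : Set X')ᶜ))ᶜ, hC.isOpen_compl⟩, ?_, ?_⟩
  · rintro ⟨z, hz, hzx⟩
    exact hz (hg hzx)
  · have hle : f ⁻¹ᵁ ⟨(f '' ((X'.basicOpen g : Set X')ᶜ))ᶜ, hC.isOpen_compl⟩ ≤ X'.basicOpen g := by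
      intro z hz
      by_contra hzg
      exact hz ⟨z, hzg, rfl⟩
    exact hfree.of_le hle

end Groth.Agent.S4436
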