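import Groth.Statements.S4441


set_option autoImplicit false
universe u
open CategoryTheory CategoryTheory.Limits AlgebraicGeometry
open EGA2

namespace Groth.Agent.S4441

theorem aux {X Y : Scheme.{u}} [IsIntegral X] [IsIntegral Y]
    (f : X ⟶ Y) [UniversallyClosed f]
    (R : ValuationSubring X.functionField) (y : Y) (hy : f.base (genericPoint X) ⤳ y)
    (hdom : (∀ a : Y.presheaf.stalk y, (Y.presheaf.stalkSpecializes hy ≫ f.stalkMap (genericPoint X)).hom a ∈ R) ∧
      ∀ a ∈ IsLocalRing.maximalIdeal (Y.presheaf.stalk y),
        R.valuation ((Y.presheaf.stalkSpecializes hy ≫ f.stalkMap (genericPoint X)).hom a) < 1) :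
    ∃ x : X, (∀ a : X.presheaf.stalk x, algebraMap (X.presheaf.stalk x) X.functionField a ∈ R) ∧
      ∀ a ∈ IsLocalRing.maximalIdeal (X.presheaf.stalk x), R.valuation (algebraMap (X.presheaf.stalk x) X.functionField a) < 1 := by
  have hE : ValuativeCriterion.Existence f := by
    have : @UniversallyClosed X Y f := ‹_›
    rw [UniversallyClosed.eq_valuativeCriterion] at this
    exact this.1
  let ψ₀ : Y.presheaf.stalk y →+* R :=
    (Y.presheaf.stalkSpecializes hy ≫ f.stalkMap (genericPoint X)).hom.codRestrict R.toSubring hdom.1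
  have hψ₀ : CommRingCat.ofHom ψ₀ ≫ CommRingCat.ofHom (algebraMap R X.functionField) =
      Y.presheaf.stalkSpecializes hy ≫ f.stalkMap (genericPoint X) := by
    ext a
    rfl
  let S : ValuativeCommSq f :=
    { R := R
      K := X.functionField
      i₁ := X.fromSpecStalk (genericPoint X)
      i₂ := Spec.map (CommRingCat.ofHom ψ₀) ≫ Y.fromSpecStalk y
      commSq := ⟨by
        rw [← Spec.map_comp_assoc, hψ₀, Spec.map_comp_assoc,
          Scheme.SpecMap_stalkSpecializes_fromSpecStalk, Scheme.SpecMap_stalkMap_fromSpecStalk]⟩ }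
  obtain ⟨⟨l, hl₁, hl₂⟩⟩ := (hE S).exists_lift
  change Spec (.of R) ⟶ X at l
  change Spec.map (CommRingCat.ofHom (algebraMap R X.functionField)) ≫ l =
    X.fromSpecStalk (genericPoint X) at hl₁
  refine ⟨l (IsLocalRing.closedPoint R), ?_⟩
  have hspec : genericPoint X ⤳ l (IsLocalRing.closedPoint R) :=
    (genericPoint_spec X).specializes trivial
  have key : Scheme.stalkClosedPointTo l ≫ CommRingCat.ofHom (algebraMap R X.functionField) =
      X.presheaf.stalkSpecializes hspec := by
    apply Spec.map_injective
    rw [← cancel_mono (X.fromSpecStalk (l (IsLocalRing.closedPoint R))),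
      Scheme.SpecMap_stalkSpecializes_fromSpecStalk, Spec.map_comp_assoc,
      Scheme.Spec_stalkClosedPointTo_fromSpecStalk, hl₁]
  have key' : ∀ a : X.presheaf.stalk (l (IsLocalRing.closedPoint R)),
      algebraMap (X.presheaf.stalk (l (IsLocalRing.closedPoint R))) X.functionField a =
        (((Scheme.stalkClosedPointTo l).hom a : R) : X.functionField) := fun a => by
    have := congrArg (fun g => g.hom a) key
    exact this.symm
  refine ⟨fun a => ?_, fun a ha => ?_⟩
  · rw [key']
    exact Subtype.prop _
  · rw [key', ← ValuationSubring.valuation_lt_one_iff]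
    exact map_nonunit (Scheme.stalkClosedPointTo l).hom a ha

/-- Let X and Y be integral separated schemes and f : X ⟶ Y a dominant, quasi-compact, universally
closed morphism, ξ the generic point of X. Every valuation subring R of the function field K(X) of X
which dominates the local ring of Y at a point y (via O_{Y,y} → O_{Y,f(ξ)} → K(X): image inside R,
maximal ideal into the maximal ideal of R) also dominates the local ring of X at some point x (via
O_{X,x} → K(X)). -/
theorem result {X Y : Scheme.{u}} [IsIntegral X] [IsIntegral Y]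
    [X.IsSeparated] [Y.IsSeparated] (f : X ⟶ Y) [IsDominant f] [QuasiCompact f] [UniversallyClosed f]
    (R : ValuationSubring X.functionField) (y : Y) (hy : f.base (genericPoint X) ⤳ y)
    (hdom : (∀ a : Y.presheaf.stalk y, (Y.presheaf.stalkSpecializes hy ≫ f.stalkMap (genericPoint X)).hom a ∈ R) ∧
      ∀ a ∈ IsLocalRing.maximalIdeal (Y.presheaf.stalk y),
        R.valuation ((Y.presheaf.stalkSpecializes hy ≫ f.stalkMap (genericPoint X)).hom a) < 1) :
    ∃ x : X, (∀ a : X.presheaf.stalk x, algebraMap (X.presheaf.stalk x) X.functionField a ∈ R) ∧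
      ∀ a ∈ IsLocalRing.maximalIdeal (X.presheaf.stalk x), R.valuation (algebraMap (X.presheaf.stalk x) X.functionField a) < 1 := by
  exact aux f R y hy hdom

end Groth.Agent.S4441
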