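import Groth.Statements.S4442
import Groth.Agent.Helper5.VarDim13

set_option autoImplicit false
universe u
open CategoryTheory CategoryTheory.Limits AlgebraicGeometry
attribute [local instance] Curv2.resAlgebra
open EGA2

namespace Groth.Agent.S4442

/-- (a) ⇔ (b): let X be a scheme of finite type over a field k. The residue fields of the generic points
of the irreducible components of X all have transcendence degree one over k if and only if the local
ring of X at every closed point has dimension one. (The published statement has a third equivalent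
condition: the irreducible closed subsets of X other than the irreducible components are exactly the
closed points of X. This row states only the equivalence of the first two.) -/
theorem result (k : Type u) [Field k] (X : Scheme.{u})
    [X.Over (Spec (CommRingCat.of k))] [LocallyOfFiniteType (X ↘ (Spec (CommRingCat.of k)))]
    [QuasiCompact (X ↘ (Spec (CommRingCat.of k)))] :
    (∀ x : X, closure ({x} : Set X) ∈ irreducibleComponents (X : Type u) → Algebra.trdeg k (X.residueField x) = 1) ↔
      ∀ x : X, IsClosed ({x} : Set X) → ringKrullDim (X.presheaf.stalk x) = 1 := by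
  let g := X ↘ (Spec (CommRingCat.of k))
  constructor
  · intro H x hx
    have hcomp : ∀ Z ∈ irreducibleComponents X, topologicalKrullDim ↥Z = ((1 : ℕ) : WithBot ℕ∞) := by
      intro Z hZ
      obtain ⟨ζ, hζ⟩ := QuasiSober.sober hZ.1 (isClosed_of_mem_irreducibleComponents Z hZ)
      have hζ' : closure {ζ} = Z := hζ.def
      obtain ⟨n, h1, h2, -, -⟩ := Groth.Agent.Helper5.VarDim.generic_point_data k g ζ (hζ' ▸ hZ)
      have h3 : @Algebra.trdeg k (X.residueField ζ) _ _
          (Groth.Agent.Helper5.VarDim.resHom k g ζ).toAlgebra = 1 := H ζ (hζ' ▸ hZ)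
      rw [h1] at h3
      have hn : n = 1 := by exact_mod_cast h3
      rw [← hζ', h2, hn]
    have h4 := Groth.Agent.Helper5.VarDim.localDim_eq_of_components k g _ hcomp x
    obtain ⟨n, -, hn2, hn3⟩ := Groth.Agent.Helper5.VarDim.localDim_formula k g x
    rw [hn2, hn3 hx] at h4
    simpa using h4
  · intro H ξ hξ
    obtain ⟨n, h1, h2, h3, h4⟩ := Groth.Agent.Helper5.VarDim.generic_point_data k g ξ hξ
    show @Algebra.trdeg k (X.residueField ξ) _ _
      (Groth.Agent.Helper5.VarDim.resHom k g ξ).toAlgebra = 1
    rw [h1]
    have hJ : JacobsonSpace X := LocallyOfFiniteType.jacobsonSpace g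
    obtain ⟨x, hxZ, hxcl⟩ := nonempty_inter_closedPoints
      (Z := closure ({ξ} : Set X)) ⟨ξ, subset_closure rfl⟩ isClosed_closure.isLocallyClosed
    have hsp : ξ ⤳ x := specializes_iff_mem_closure.2 hxZ
    have hx1 := H x hxcl
    obtain ⟨m, -, hm2, hm3⟩ := Groth.Agent.Helper5.VarDim.localDim_formula k g x
    rw [hm3 hxcl, hx1] at hm2
    have hle := Groth.Agent.Helper5.VarDim.localDim_mono_of_specializes hsp
    rw [h3, hm2] at hle
    have hn1 : n ≤ 1 := by
      have : ((n : ℕ) : WithBot ℕ∞) ≤ ((1 : ℕ) : WithBot ℕ∞) := by simpa using hle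
      exact_mod_cast this
    have hne : ξ ≠ x := by
      intro h
      rw [h, hx1] at h4
      exact one_ne_zero h4
    have hpos := Groth.Agent.Helper5.VarDim.one_le_dim_closure ξ x hsp hne
    rw [h2] at hpos
    have hn2 : 1 ≤ n := by
      have : ((1 : ℕ) : WithBot ℕ∞) ≤ ((n : ℕ) : WithBot ℕ∞) := by simpa using hpos
      exact_mod_cast this
    have : n = 1 := le_antisymm hn1 hn2
    rw [this]
    simp

end Groth.Agent.S4442
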