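import Groth.Statements.S4447
import Mathlib.AlgebraicGeometry.ValuativeCriterion

set_option autoImplicit false
universe u
open CategoryTheory CategoryTheory.Limits AlgebraicGeometry
open EGA2

namespace Groth.Agent.S4447

open IsLocalRing in
theorem aux {X Y : Scheme.{u}} (p : X ⟶ Y) (x : X) (y' : Y)
    (hsp : p.base x ⤳ y') (hne : y' ≠ p.base x) :
    ∃ (A : ValuationSubring (X.residueField x)) (h : Spec (CommRingCat.of A) ⟶ Y), A ≠ ⊤ ∧
      h.base (IsLocalRing.closedPoint A) = y' ∧
      Spec.map (CommRingCat.ofHom A.subtype) ≫ h = X.fromSpecResidueField x ≫ p := by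
  let ψ : Y.presheaf.stalk y' ⟶ X.residueField x :=
    Y.presheaf.stalkSpecializes hsp ≫ p.stalkMap x ≫ X.residue x
  obtain ⟨A, hA, hA_local⟩ := exists_factor_valuationRing ψ.hom
  let stalk_to_A : Y.presheaf.stalk y' ⟶ .of A :=
    CommRingCat.ofHom (ψ.hom.codRestrict _ hA)
  have w : X.fromSpecResidueField x ≫ p =
      Spec.map (CommRingCat.ofHom (algebraMap A (X.residueField x))) ≫
        Spec.map stalk_to_A ≫ Y.fromSpecStalk y' := by
    rw [Scheme.fromSpecResidueField, Category.assoc, ← Scheme.SpecMap_stalkMap_fromSpecStalk,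
      ← Scheme.SpecMap_stalkSpecializes_fromSpecStalk hsp]
    simp_rw [← Spec.map_comp_assoc]
    rfl
  have hcl : (Spec.map stalk_to_A ≫ Y.fromSpecStalk y') (closedPoint A) = y' := by
    rw [Scheme.Hom.comp_apply]
    have : Spec.map stalk_to_A (closedPoint A) = closedPoint (Y.presheaf.stalk y') :=
      comap_closedPoint (S := A) (ψ.hom.codRestrict A.toSubring hA)
    rw [this, Y.fromSpecStalk_closedPoint]
  refine ⟨A, Spec.map stalk_to_A ≫ Y.fromSpecStalk y', ?_, hcl, w.symm⟩
  intro htop
  apply hne
  -- A.subtype is a local hom when A = ⊤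
  haveI : IsLocalHom A.subtype := by
    constructor
    intro a ha
    have ha0 : (a : X.residueField x) ≠ 0 := ha.ne_zero
    have hall : ∀ b : X.residueField x, b ∈ A := fun b => by
      have : b ∈ (⊤ : ValuationSubring (X.residueField x)) := trivial
      exact htop ▸ this
    have hinv : (a : X.residueField x)⁻¹ ∈ A := hall _
    refine ⟨⟨a, ⟨_, hinv⟩, ?_, ?_⟩, rfl⟩
    · apply Subtype.ext; simp [mul_inv_cancel₀ ha0]
    · apply Subtype.ext; simp [inv_mul_cancel₀ ha0]
  have h1 : Spec.map (CommRingCat.ofHom A.subtype) (closedPoint (X.residueField x)) =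
      closedPoint A := comap_closedPoint A.subtype
  have h2 := congrArg (fun g => g.base (closedPoint (X.residueField x))) w
  simp only [Scheme.Hom.comp_apply] at h2
  have h3 : (X.fromSpecResidueField x) (closedPoint (X.residueField x)) = x :=
    Scheme.fromSpecResidueField_apply _ _
  rw [h3] at h2
  rw [h2]
  have h1' : Spec.map (CommRingCat.ofHom (algebraMap A (X.residueField x)))
      (closedPoint (X.residueField x)) = closedPoint A := h1
  rw [h1']
  rw [Scheme.Hom.comp_apply] at hcl
  exact hcl.symm

/-- Let p : X ⟶ Y be a morphism, x a point of X, y = p(x) and y' a specialization of y distinct from y.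
Then there are a valuation ring A which is not a field, with field of fractions the residue field
k(x), and a morphism Spec A ⟶ Y mapping the closed point to y' and restricting on Spec k(x) to the
canonical morphism Spec k(x) ⟶ X ⟶ Y (in particular the generic point of Spec A goes to y). -/
theorem result {X Y : Scheme.{u}} (p : X ⟶ Y) (x : X) (y' : Y)
    (hsp : p.base x ⤳ y') (hne : y' ≠ p.base x) :
    ∃ (A : ValuationSubring (X.residueField x)) (h : Spec (CommRingCat.of A) ⟶ Y), A ≠ ⊤ ∧
      h.base (IsLocalRing.closedPoint A) = y' ∧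
      Spec.map (CommRingCat.ofHom A.subtype) ≫ h = X.fromSpecResidueField x ≫ p := by
  exact aux p x y' hsp hne

end Groth.Agent.S4447
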