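import Groth.Statements.S4459
import Mathlib

set_option autoImplicit false
universe u
open Coherent

namespace Groth.Agent.S4459


open AlgebraicGeometry CategoryTheory in
/-- Let A be a Noetherian ring which is separated and complete for the J-adic topology, and let f : X →
Spec A be a morphism of schemes which is a closed map on underlying spaces. Then every open subset
of X containing the inverse image of V(J) is all of X. (The published statement also assumes X of
finite type over A; that hypothesis is not used.) -/
theorem result (A : Type u) [CommRing A] [IsNoetherianRing A]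
    (J : Ideal A) [IsAdicComplete J A] {X : Scheme.{u}} (f : X ⟶ Spec (CommRingCat.of A))
    (hf : IsClosedMap f.base) (U : X.Opens)
    (hU : f.base ⁻¹' (PrimeSpectrum.zeroLocus (J : Set A)) ⊆ (U : Set X)) : U = ⊤ := by

  -- the complement of U is closed, with closed image disjoint from V(J)
  have hZc : IsClosed ((U : Set X)ᶜ) := U.isOpen.isClosed_compl
  have hfZ : IsClosed (f.base '' ((U : Set X)ᶜ)) := hf _ hZc
  obtain ⟨s, hs⟩ := (PrimeSpectrum.isClosed_iff_zeroLocus _).mp hfZ
  -- V(span s) ∩ V(J) = ∅
  have hdisj : PrimeSpectrum.zeroLocus ((Ideal.span s ⊔ J : Ideal A) : Set A) = ∅ := by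
    rw [PrimeSpectrum.zeroLocus_sup, PrimeSpectrum.zeroLocus_span, ← hs]
    rw [Set.eq_empty_iff_forall_notMem]
    rintro p ⟨⟨x, hxU, rfl⟩, hxJ⟩
    exact hxU (hU hxJ)
  rw [PrimeSpectrum.zeroLocus_empty_iff_eq_top, Ideal.eq_top_iff_one, Submodule.mem_sup] at hdisj
  obtain ⟨i, hi, j, hj, hij⟩ := hdisj
  have hjac : J ≤ Ideal.jacobson (⊥ : Ideal A) := IsAdicComplete.le_jacobson_bot J
  have hunit : IsUnit i := by
    have : i = 1 - j := by rw [← hij]; ring
    rw [this]
    have := (Ideal.mem_jacobson_bot.mp (hjac hj)) (-1)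
    simpa [sub_eq_add_neg, add_comm, mul_comm] using this
  have htop : Ideal.span s = ⊤ := Ideal.eq_top_of_isUnit_mem _ hi hunit
  have hempty : f.base '' ((U : Set X)ᶜ) = ∅ := by
    rw [hs, ← PrimeSpectrum.zeroLocus_span, htop]
    exact PrimeSpectrum.zeroLocus_empty_iff_eq_top.mpr rfl
  rw [Set.image_eq_empty, Set.compl_empty_iff] at hempty
  exact SetLike.coe_injective (by simpa using hempty)

end Groth.Agent.S4459
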