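import Groth.Statements.S4465
import Groth.Agent.Helper1.BT9

set_option autoImplicit false
universe u
open Coherent

namespace Groth.Agent.S4465

open AlgebraicGeometry CategoryTheory CategoryTheory.Limits in
/-- Let Y be a Noetherian scheme, f : X → Y a morphism of finite type, L an invertible O_X-module ample
relative to f and F → G → H a sequence of coherent O_X-modules which is exact at G, such that the
supports of F and of H are proper over Y. Then there is N such that for every n ≥ N the induced
sequence f_*(F(n)) → f_*(G(n)) → f_*(H(n)) of O_Y-modules is exact, where M(n) = M ⊗ L^{⊗ n}. -/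
theorem result {X Y : Scheme.{u}} (f : X ⟶ Y)
    [IsNoetherian Y] [LocallyOfFiniteType f] [QuasiCompact f] (L : X.Modules) (hL : PicF.IsInvertible L)
    (hamp : RelAmple.IsRelAmple f L) (C : ShortComplex X.Modules) (hC : C.Exact)
    (h1 : Coh.IsCoh C.X₁) (h2 : Coh.IsCoh C.X₂) (h3 : Coh.IsCoh C.X₃)
    (hs1 : ClSub.IsProperOver f (CohB1.support C.X₁)) (hs3 : ClSub.IsProperOver f (CohB1.support C.X₃)) :
    ∃ N : ℕ, ∀ n : ℕ, N ≤ n →
      (C.map (DCoh.tensorRightMod (CohB1.tensorPow L n) ⋙ Coh.push f)).Exact := by
  haveI : HasInjectiveResolutions X.Modules := by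
    haveI := Groth.Agent.Helper4.SchAdj.isGrothendieckAbelian_modules X
    infer_instance
  haveI : IsLocallyNoetherian X := LocallyOfFiniteType.isLocallyNoetherian f
  have hKg : Coh.IsCoh (kernel C.g) := Groth.Agent.Helper1.BT.isCoh_kernel C.g h2 h3
  have hKe : Coh.IsCoh (kernel (kernel.lift C.g C.f C.zero)) :=
    Groth.Agent.Helper1.BT.isCoh_kernel _ h1 hKg
  haveI : Epi (kernel.lift C.g C.f C.zero) := hC.epi_kernelLift
  have hE : (ShortComplex.mk (kernel.ι (kernel.lift C.g C.f C.zero))
      (kernel.lift C.g C.f C.zero) (kernel.condition _)).ShortExact :=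
    ShortComplex.ShortExact.mk' (ShortComplex.exact_kernel _) inferInstance inferInstance
  have hsK : ClSub.IsProperOver f (CohB1.support (kernel (kernel.lift C.g C.f C.zero))) :=
    ((Groth.Agent.S0796.result f _ hE hKe h1 hKg).1 hs1).1
  obtain ⟨N, hN⟩ := Groth.Agent.Helper1.BT.exists_isZero_Rpush_one_of_properSupport f L hL hamp
    _ hKe hsK
  refine ⟨N, fun n hn => ?_⟩
  have hinv := Groth.Agent.Helper4.TensorInv.isInvertible_tensorPow hL n
  haveI := Groth.Agent.Helper1.TwistExact.preservesFiniteLimits_tensorRightMod _ hinv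
  exact Groth.Agent.Helper1.BT.exact_map_push_of_isZero f _
    (fun S hS => Groth.Agent.Helper1.TwistExact.shortExact_map_tensorRightMod hS _ hinv)
    C hC (hN n hn)

end Groth.Agent.S4465
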