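import Groth.Statements.S4469
import Mathlib
import Groth.Agent.Helper3.IsoPt

set_option autoImplicit false
universe u
open scoped TensorProduct
open CAlg

namespace Groth.Agent.S4469

/-- Let A be an integrally closed Noetherian local domain with field of fractions K, B an A-algebra of
finite type which is a domain with the same field of fractions (A → B → K compatible with A → K),
and 𝔫 a maximal ideal of B lying over the maximal ideal 𝔪 of A and minimal among the prime ideals of
B lying over 𝔪. Then B = A: the structure map A → B is bijective. -/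
theorem result (A B K : Type u) [CommRing A]
    [IsDomain A] [IsNoetherianRing A] [IsLocalRing A] [IsIntegrallyClosed A] [CommRing B] [IsDomain B]
    [Field K] [Algebra A B] [Algebra B K] [Algebra A K] [IsScalarTower A B K] [IsFractionRing A K]
    [IsFractionRing B K] [Algebra.FiniteType A B] (n : Ideal B) [n.IsMaximal]
    (hn : n.comap (algebraMap A B) = IsLocalRing.maximalIdeal A)
    (hmin : ∀ q : Ideal B, q.IsPrime → q.comap (algebraMap A B) = IsLocalRing.maximalIdeal A → q ≤ n → q = n) :
    Function.Bijective (algebraMap A B) := by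
  classical
  have hQF : Algebra.QuasiFiniteAt A n :=
    Groth.Agent.Helper3.IsoPt.quasiFiniteAt_of_isMaximal_of_minimal n
      (fun q hq hqc hle => hmin q hq (hqc.trans hn) hle)
  have hZ := Algebra.ZariskisMainProperty.of_finiteType (R := A) n
  rw [Algebra.zariskisMainProperty_iff] at hZ
  obtain ⟨r, hrn, hrint, hr⟩ := hZ
  have hBK : Function.Injective (algebraMap B K) := IsFractionRing.injective B K
  have hAK : Function.Injective (algebraMap A K) := IsFractionRing.injective A K
  have hint : ∀ b : B, IsIntegral A b → ∃ a : A, algebraMap A B a = b := by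
    intro b hb
    have h1 : IsIntegral A (algebraMap B K b) := hb.map (IsScalarTower.toAlgHom A B K)
    obtain ⟨a, ha⟩ := IsIntegrallyClosed.isIntegral_iff.mp h1
    refine ⟨a, hBK ?_⟩
    rw [← IsScalarTower.algebraMap_apply, ha]
  obtain ⟨a, rfl⟩ := hint r hrint
  have ha : IsUnit a := by
    by_contra h
    have h2 : a ∈ IsLocalRing.maximalIdeal A := (IsLocalRing.mem_maximalIdeal a).mpr h
    rw [← hn] at h2
    exact hrn h2
  constructor
  · intro x y hxy
    apply hAK
    rw [IsScalarTower.algebraMap_apply A B K, hxy, ← IsScalarTower.algebraMap_apply A B K]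
  · intro x
    obtain ⟨m, hm⟩ := hr x
    obtain ⟨c, hc⟩ := hint _ hm
    obtain ⟨u, rfl⟩ := ha
    refine ⟨↑(u⁻¹ ^ m) * c, ?_⟩
    rw [map_mul, hc, ← mul_assoc, ← map_pow, ← map_mul, ← Units.val_pow_eq_pow_val, ← Units.val_mul,
      ← mul_pow, inv_mul_cancel, one_pow, Units.val_one, map_one, one_mul]

end Groth.Agent.S4469
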