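import Groth.Statements.S4484
import Groth.Agent.S2421
import Groth.Agent.Helper1.SepCount2

set_option autoImplicit false
universe u
open Coherent

namespace Groth.Agent.S4484

open AlgebraicGeometry CategoryTheory in
/-- Let X and Y be locally Noetherian integral schemes and f : X → Y a proper dominant morphism; regard
the function field R(X) as an extension of R(Y) through f. Suppose that the algebraic closure of
R(Y) in R(X) has finite separable degree n over R(Y). Then for every point y of Y whose local ring
is unibranch, the fibre X_y has finitely many, and at most n, connected components. -/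
theorem result {X Y : Scheme.{u}} [IsIntegral X]
    [IsIntegral Y] [IsLocallyNoetherian X] [IsLocallyNoetherian Y] (f : X ⟶ Y) [IsProper f]
    (hdom : f.base (genericPoint X) ⤳ genericPoint Y) [Algebra Y.functionField X.functionField]
    (halg : algebraMap Y.functionField X.functionField = CohIII.stalkToFunctionField f (genericPoint Y) hdom)
    (n : ℕ) (hn0 : 0 < n)
    (hn : Field.finSepDegree Y.functionField ↥(algebraicClosure Y.functionField X.functionField) = n)
    (y : Y) (hy : CAlg2.IsUnibranch (Y.presheaf.stalk y)) :
    Finite (_root_.ConnectedComponents ↥(f.fiber y)) ∧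
      Nat.card (_root_.ConnectedComponents ↥(f.fiber y)) ≤ n := by
  classical
  have hgen : genericPoint Y ⤳ y := (genericPoint_spec Y).specializes (Set.mem_univ y)
  have hy' : f.base (genericPoint X) ⤳ y := hdom.trans hgen
  have hdomeq : f.base (genericPoint X) = genericPoint Y :=
    (hdom.antisymm ((genericPoint_spec Y).specializes (Set.mem_univ _))).eq
  have hcard := Groth.Agent.S2421.result f hdomeq y hy'
  letI : Algebra (Y.presheaf.stalk y) X.functionField :=
    (CohIII.stalkToFunctionField f y hy').toAlgebra
  haveI : IsScalarTower (Y.presheaf.stalk y) Y.functionField X.functionField := by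
    apply IsScalarTower.of_algebraMap_eq'
    rw [halg]
    simp only [RingHom.algebraMap_toAlgebra]
    unfold CohIII.stalkToFunctionField
    rw [RingHom.comp_assoc]
    congr 1
    rw [← CommRingCat.hom_comp, TopCat.Presheaf.stalkSpecializes_comp]
  obtain ⟨hfin, hle⟩ :=
    Groth.Agent.Helper1.SepCount.card_maximalSpectrum_le_finSepDegree hy
      (K := Y.functionField) (L := X.functionField) n hn0 hn
  obtain ⟨e⟩ := (Cardinal.le_def _ _).mp hcard
  let e' : _root_.ConnectedComponents ↥(f.fiber y) →
      MaximalSpectrum (integralClosure (Y.presheaf.stalk y) X.functionField) := e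
  have he' : Function.Injective e' := e.injective
  exact ⟨Finite.of_injective e' he', (Nat.card_le_card_of_injective e' he').trans hle⟩

end Groth.Agent.S4484
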