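import Groth.Statements.S4488
import Groth.Agent.Helper1.FlatCxBC2

set_option autoImplicit false
universe u
open FlatCx

namespace Groth.Agent.S4488

open CategoryTheory CategoryTheory.Limits in
/-- For the homological functor T_q(M) = H_q(P ⊗_A M) of a chain complex P of flat modules over a
commutative local ring A with residue field k. Suppose P_i = 0 for i < i₀ and that every T_n(A) is a
finitely presented A-module, and let p be an integer. If T_q takes injections to injections and
surjections to surjections for every q ≤ p, then dim_{k(x)} T_q(k(x)) = dim_k T_q(k) for every point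
x of Spec A and every q ≤ p. Conversely, if A is reduced and this equality holds at the generic
point of every irreducible component of Spec A (every minimal prime) for every q ≤ p, then T_q takes
injections to injections and surjections to surjections for every q ≤ p. No Noetherian hypothesis on
A. -/
theorem result {A : Type u} [CommRing A] [IsLocalRing A]
    (P : ChainComplex (ModuleCat.{u} A) ℤ) (hP : ∀ i, Module.Flat A (P.X i)) (i₀ : ℤ)
    (hb : ∀ i < i₀, IsZero (P.X i))
    (hfp : ∀ n : ℤ, Module.FinitePresentation A (CohIII.T P n (ModuleCat.of A A))) (p : ℤ) :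
    ((∀ q ≤ p, (CohIII.TFun P q).PreservesMonomorphisms ∧ (CohIII.TFun P q).PreservesEpimorphisms) →
        ∀ (x : PrimeSpectrum A), ∀ q ≤ p, CohIII.dRank P q x = CohIII.dRank P q (IsLocalRing.closedPoint A)) ∧
      (IsReduced A →
        (∀ x : PrimeSpectrum A, x.asIdeal ∈ minimalPrimes A →
          ∀ q ≤ p, CohIII.dRank P q x = CohIII.dRank P q (IsLocalRing.closedPoint A)) →
        ∀ q ≤ p, (CohIII.TFun P q).PreservesMonomorphisms ∧ (CohIII.TFun P q).PreservesEpimorphisms) := by
  classical
  have hfpH : ∀ n, Module.FinitePresentation A (P.homology n) := fun n =>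
    haveI : Module.FinitePresentation A ((CohIII.TFun P n).obj (ModuleCat.of A A)) := hfp n
    Module.FinitePresentation.of_equiv (Groth.Agent.Helper1.FlatCx.TAIso' P n).toLinearEquiv
  have hall : ∀ (Q : PrimeSpectrum A → Prop), (∀ᶠ y in nhds (IsLocalRing.closedPoint A), Q y) →
      ∀ q, Q q := by
    intro Q hQ q
    have h1 : {y | Q y} ∈ nhds q := (IsLocalRing.specializes_closedPoint q) hQ
    exact mem_of_mem_nhds h1
  constructor
  · intro h x q hq
    have h1 := Groth.Agent.Helper1.FlatCx.isLocallyConstant_dRank_of_exact_of_fp P hP q (h q hq)
      (hfpH q)
    rw [IsLocallyConstant.iff_eventually_eq] at h1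
    exact hall _ (h1 _) x
  · intro hred h
    have key : ∀ n : ℕ, ∀ q ≤ p, q < i₀ + n →
        (CohIII.TFun P q).PreservesMonomorphisms ∧ (CohIII.TFun P q).PreservesEpimorphisms := by
      intro n
      induction n with
      | zero =>
        intro q _ hq
        exact Groth.Agent.Helper1.FlatCx.exact_of_isZero P hP q (hb q (by simpa using hq))
          (hb (q - 1) (by simp at hq; omega))
      | succ n ih =>
        intro q hqp hq
        by_cases hq' : q < i₀ + n
        · exact ih q hqp hq'
        · have hqeq : q = i₀ + n := by push_cast at hq; omega
          have hprev := ih (q - 1) (by omega) (by omega)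
          have hepi : (CohIII.TFun P q).PreservesEpimorphisms :=
            (Groth.Agent.Helper1.FlatCx.chain_preservesEpi_iff_preservesMono P hP q (q - 1)
              (by ring)).mpr hprev.1
          haveI : Module.Finite A (P.homology q) := by
            haveI := hfpH q
            infer_instance
          have hfree : Module.Free A (P.homology q) := by
            apply Groth.Agent.Helper1.FibreDim.free_of_fibreDim_minimalPrimes
            intro x hx
            rw [← Groth.Agent.Helper1.FlatCx.dRank_eq_fibreDim_homology P hP q hepi,
              ← Groth.Agent.Helper1.FlatCx.dRank_eq_fibreDim_homology P hP q hepi]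
            exact h x hx q hqp
          have hflat : Module.Flat A ((CohIII.TFun P q).obj (ModuleCat.of A A)) :=
            Module.Flat.of_linearEquiv (Groth.Agent.Helper1.FlatCx.TAIso' P q).toLinearEquiv
          exact Groth.Agent.Helper1.FlatCx.exact_succ_of_flat P hP (q - 1) q (by ring) hprev.1 hflat
    intro q hq
    by_cases hq0 : q < i₀
    · exact key 0 q hq (by simpa using hq0)
    · exact key (q - i₀ + 1).toNat q hq (by
        have : ((q - i₀ + 1).toNat : ℤ) = q - i₀ + 1 := Int.toNat_of_nonneg (by omega)
        omega)

end Groth.Agent.S4488
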