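import Groth.Statements.S4492
import Groth.Agent.Helper1.HalfExactLength

set_option autoImplicit false
universe u
open FlatCx

namespace Groth.Agent.S4492

open CategoryTheory CategoryTheory.Limits in
/-- (The published statement is for arbitrary abelian categories; this row is for functors between
module categories.) Let F be an additive functor from A-modules to B-modules which is half exact
(every short exact sequence 0 → E' → E → E'' → 0 goes to a sequence F(E') → F(E) → F(E'') exact at
the middle) and such that F(S) has finite length for every simple A-module S. Then F(E) has finite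
length for every A-module E of finite length; and for every short exact sequence 0 → E' → E → E'' →
0 of A-modules with E of finite length one has length F(E) ≤ length F(E') + length F(E''), with
equality if and only if 0 → F(E') → F(E) → F(E'') → 0 is (short) exact. Lengths are Mathlib's,
valued in ℕ∞. -/
theorem result {A B : Type u} [Ring A] [Ring B]
    (F : ModuleCat.{u} A ⥤ ModuleCat.{u} B) [F.Additive]
    (hF : ∀ S : ShortComplex (ModuleCat.{u} A), S.ShortExact → (S.map F).Exact)
    (hS : ∀ M : ModuleCat.{u} A, IsSimpleModule A M → Module.length B (F.obj M) ≠ ⊤) :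
    (∀ E : ModuleCat.{u} A, Module.length A E ≠ ⊤ → Module.length B (F.obj E) ≠ ⊤) ∧
      ∀ S : ShortComplex (ModuleCat.{u} A), S.ShortExact → Module.length A S.X₂ ≠ ⊤ →
        Module.length B (F.obj S.X₂) ≤ Module.length B (F.obj S.X₁) + Module.length B (F.obj S.X₃) ∧
          (Module.length B (F.obj S.X₂) = Module.length B (F.obj S.X₁) + Module.length B (F.obj S.X₃) ↔
            (S.map F).ShortExact) := by
  refine ⟨fun E hE => Groth.Agent.Helper1.HalfExact.length_ne_top F hF hS E hE, ?_⟩
  intro S hSe hfin
  have hfl : IsFiniteLength A S.X₂ := Module.length_ne_top_iff.mp hfin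
  have hinj : Function.Injective S.f.hom := (ModuleCat.mono_iff_injective _).mp hSe.mono_f
  have hsurj : Function.Surjective S.g.hom := (ModuleCat.epi_iff_surjective _).mp hSe.epi_g
  have h1 : Module.length A S.X₁ ≠ ⊤ :=
    Module.length_ne_top_iff.mpr (IsFiniteLength.of_injective hfl hinj)
  have h3 : Module.length A S.X₃ ≠ ⊤ :=
    Module.length_ne_top_iff.mpr (IsFiniteLength.of_surjective hfl hsurj)
  exact ⟨Groth.Agent.Helper1.HalfExact.length_le F hF S hSe,
    Groth.Agent.Helper1.HalfExact.length_eq_iff F hF S hSe
      (Groth.Agent.Helper1.HalfExact.length_ne_top F hF hS _ h1)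
      (Groth.Agent.Helper1.HalfExact.length_ne_top F hF hS _ h3)⟩

end Groth.Agent.S4492
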