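import Groth.Statements.S4501
import Groth.Agent.Helper1.FlatCxLocus

set_option autoImplicit false
universe u
open FlatCx

namespace Groth.Agent.S4501

open CategoryTheory CategoryTheory.Limits in
/-- The case of finitely generated flat terms. Let A be a Noetherian domain, P a chain complex of
finitely generated flat A-modules, and for a prime y of A let P_y be the base change of P to the
local ring A_y. Then the set U of points y of Spec A such that the functor N ↦ H_p(P_y ⊗_{A_y} N) on
A_y-modules takes injections to injections and surjections to surjections is open and nonempty (it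
contains the generic point). -/
theorem result {A : Type u} [CommRing A] [IsNoetherianRing A] [IsDomain A]
    (P : ChainComplex (ModuleCat.{u} A) ℤ) (hP : ∀ i, Module.Finite A (P.X i) ∧ Module.Flat A (P.X i))
    (p : ℤ) :
    IsOpen {y : PrimeSpectrum A |
        (CohIII.TFun (CohIII.bcCx (algebraMap A (Localization.AtPrime y.asIdeal)) P) p).PreservesMonomorphisms ∧
          (CohIII.TFun (CohIII.bcCx (algebraMap A (Localization.AtPrime y.asIdeal)) P) p).PreservesEpimorphisms} ∧
      {y : PrimeSpectrum A |
        (CohIII.TFun (CohIII.bcCx (algebraMap A (Localization.AtPrime y.asIdeal)) P) p).PreservesMonomorphisms ∧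
          (CohIII.TFun (CohIII.bcCx (algebraMap A (Localization.AtPrime y.asIdeal)) P) p).PreservesEpimorphisms}.Nonempty := by
  constructor
  · exact (Groth.Agent.Helper1.FlatCx.isOpen_leftExact_locus P hP p).inter
      (Groth.Agent.Helper1.FlatCx.isOpen_rightExact_locus P hP p)
  · refine ⟨⟨⊥, Ideal.isPrime_bot⟩, ?_⟩
    have hfr : IsFractionRing A (Localization.AtPrime (⊥ : Ideal A)) := by
      simpa [Ideal.primeCompl_bot] using
        Localization.isLocalization (M := (⊥ : Ideal A).primeCompl)
    letI : Field (Localization.AtPrime (⊥ : Ideal A)) := IsFractionRing.toField A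
    have hfree : ∀ (C : Type u) [AddCommGroup C] [Module A C],
        (⟨⊥, Ideal.isPrime_bot⟩ : PrimeSpectrum A) ∈ Module.freeLocus A C := by
      intro C _ _
      rw [Module.mem_freeLocus_iff_tensor _ (Localization.AtPrime (⊥ : Ideal A))]
      infer_instance
    exact ⟨(Groth.Agent.Helper1.FlatCx.preservesMono_localization_iff P hP p _).mpr (hfree _),
      (Groth.Agent.Helper1.FlatCx.preservesEpi_localization_iff P hP p _).mpr (hfree _)⟩

end Groth.Agent.S4501
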