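import Groth.Statements.S4505
import Groth.Agent.Helper1.Bridge9
import Groth.Agent.Helper1.LenCrit1
import Groth.Agent.Helper1.LenCrit2
import Groth.Agent.Helper1.FlatCxLinear

set_option autoImplicit false
universe u
attribute [local instance] HasDerivedCategory.standard
open Coherent

namespace Groth.Agent.S4505

open AlgebraicGeometry CategoryTheory in
/-- (b) ⇔ (c), for a complex reduced to one sheaf and a local base (so that the point y is the closed
point and O_y = A). Let A be a Noetherian local ring with maximal ideal m and residue field k, X a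
proper A-scheme with structure morphism f, F a coherent O_X-module flat over Spec A, and write
T^p(M) = H^p(X, f^*(M~) ⊗ F) for an A-module M. Then the functor T^p takes injections to injections
and surjections to surjections (F is cohomologically flat in degree p) if and only if there is n₀
such that for every n ≥ n₀ one has length_A T^p(A/m^(n+1)) = length_A T^p(k) · length_A (A/m^(n+1))
(lengths of A-modules, valued in ℕ∞; all are finite here). -/
theorem result (A : Type u) [CommRing A]
    [IsNoetherianRing A] [IsLocalRing A] (X : Scheme.{u}) [X.Over (Spec (CommRingCat.of A))]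
    [IsProper (X ↘ Spec (CommRingCat.of A))] (F : X.Modules) (hF : Coh.IsCoh F)
    (hfl : FlatMod.IsFlatOver (X ↘ Spec (CommRingCat.of A)) F) (p : ℕ) :
    ((CohIII.tensorAFunctor A F ⋙ CohIII.HAb X p).PreservesMonomorphisms ∧
        (CohIII.tensorAFunctor A F ⋙ CohIII.HAb X p).PreservesEpimorphisms) ↔
      ∃ n₀ : ℕ, ∀ n : ℕ, n₀ ≤ n →
        Module.length A (Coh.HH X ((CohIII.tensorAFunctor A F).obj
            (ModuleCat.of A (A ⧸ IsLocalRing.maximalIdeal A ^ (n + 1)))) p) =
          Module.length A (Coh.HH X ((CohIII.tensorAFunctor A F).obj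
              (ModuleCat.of A (IsLocalRing.ResidueField A))) p) *
            Module.length A (A ⧸ IsLocalRing.maximalIdeal A ^ (n + 1)) := by
  haveI : F.IsQuasicoherent := hF.1
  obtain ⟨L, hLff, -, -, hbr, -, -, -⟩ :=
    Groth.Agent.Helper1.Bridge.exists_complex'' A X F hF hfl
  obtain ⟨e⟩ := hbr p
  have hQ : ∀ i, Module.Finite A (L.X i) ∧ Module.Flat A (L.X i) := fun i =>
    ⟨(hLff i).1, by haveI := (hLff i).2; infer_instance⟩
  have hG : ∀ (N : ModuleCat.{u} A) (a : A),
      (CohIII.TFun L (-(p : ℤ))).map (a • 𝟙 N) = a • 𝟙 _ := fun N a => by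
    rw [Functor.map_smul, CategoryTheory.Functor.map_id]
  have hlen : ∀ N : ModuleCat.{u} A,
      Module.length A (Coh.HH X ((CohIII.tensorAFunctor A F).obj N) p) =
        Module.length A ((CohIII.TFun L (-(p : ℤ))).obj N) := fun N => by
    obtain ⟨φ⟩ := Groth.Agent.Helper1.LenCrit.nonempty_linearEquiv_of_bridge A F _ hG p e N
    exact φ.length_eq.symm
  rw [Groth.Agent.Helper1.Bridge.preservesMono_iff e,
    Groth.Agent.Helper1.Bridge.preservesEpi_iff e,
    Groth.Agent.Helper1.LenCrit.exact_iff_length L hQ]
  simp only [hlen]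

end Groth.Agent.S4505
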