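import Groth.Statements.S4515
import Mathlib
-- import your own Groth.Agent.* helpers here

set_option autoImplicit false
universe u
open EGA41

namespace Groth.Agent.S4515

/-- Let A be a ring, J an ideal of A, and M, N two A-modules which are Hausdorff for the J-adic
topology; suppose moreover that N is J-adically complete and M is flat. Let u : N → M be A-linear.
If the induced map N/JN → M/JM is bijective (surjectivity and injectivity written out below), then u
is bijective. -/
theorem result {A : Type u} [CommRing A] (J : Ideal A)
    {M N : Type u} [AddCommGroup M] [Module A M] [AddCommGroup N] [Module A N]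
    [IsHausdorff J M] [IsAdicComplete J N] [Module.Flat A M] (u : N →ₗ[A] M)
    (hsurj : ∀ m : M, ∃ n : N, m - u n ∈ (J • ⊤ : Submodule A M))
    (hinj : ∀ n : N, u n ∈ (J • ⊤ : Submodule A M) → n ∈ (J • ⊤ : Submodule A N)) :
    Function.Bijective u := by
  have hs : Function.Surjective u := by
    apply surjective_of_mkQ_comp_surjective (I := J)
    intro y
    obtain ⟨m, rfl⟩ := Submodule.mkQ_surjective _ y
    obtain ⟨n, hn⟩ := hsurj m
    refine ⟨n, ?_⟩
    simp only [LinearMap.coe_comp, Function.comp_apply, Submodule.mkQ_apply]
    rw [eq_comm, Submodule.Quotient.eq]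
    exact hn
  refine ⟨?_, hs⟩
  rw [injective_iff_map_eq_zero]
  intro n hn
  have key : ∀ k : ℕ, n ∈ (J ^ k • ⊤ : Submodule A N) := by
    intro k
    induction k with
    | zero => simp
    | succ k ih =>
      have h1 : n ∈ (J ^ k) • Submodule.span A (Set.range (id : N → N)) := by
        simpa using ih
      rw [Submodule.mem_ideal_smul_span_iff_exists_sum] at h1
      obtain ⟨a, ha, hsum⟩ := h1
      classical
      let ι := {i // i ∈ a.support}
      have hsum' : ∑ i : ι, a i.1 • i.1 = n := by
        rw [← hsum, Finsupp.sum]
        exact Finset.sum_coe_sort a.support (fun i => a i • i)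
      have hrel : ∑ i : ι, a i.1 • u i.1 = 0 := by
        have : ∑ i : ι, a i.1 • u i.1 = u n := by
          rw [← hsum', map_sum]
          simp
        rw [this, hn]
      obtain ⟨k', b, y, hy, hb⟩ := Module.Flat.isTrivialRelation_of_sum_smul_eq_zero hrel
      choose z hz using fun l => hsurj (y l)
      have hmem : ∀ i : ι, (i.1 - ∑ l, b i l • z l) ∈ (J • ⊤ : Submodule A N) := by
        intro i
        apply hinj
        have hyi : u i.1 = ∑ j, b i j • y j := hy i
        rw [map_sub, hyi, map_sum, ← Finset.sum_sub_distrib]
        refine Submodule.sum_mem _ fun l _ => ?_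
        rw [map_smul, ← smul_sub]
        exact Submodule.smul_mem _ _ (hz l)
      have hn' : n = ∑ i : ι, a i.1 • (i.1 - ∑ l, b i l • z l) := by
        have h2 : ∑ i : ι, a i.1 • ∑ l, b i l • z l = 0 := by
          simp_rw [Finset.smul_sum, smul_smul]
          rw [Finset.sum_comm]
          refine Finset.sum_eq_zero fun l _ => ?_
          rw [← Finset.sum_smul]
          have hbl : ∑ i : ι, a i.1 * b i l = 0 := hb l
          rw [hbl, zero_smul]
        simp_rw [smul_sub]
        rw [Finset.sum_sub_distrib, h2, sub_zero, hsum']
      rw [hn', pow_succ, Submodule.mul_smul]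
      refine Submodule.sum_mem _ fun i _ => ?_
      exact Submodule.smul_mem_smul (ha i.1) (hmem i)
  exact IsHausdorff.haus (inferInstance : IsHausdorff J N) n fun k => by
    rw [SModEq.zero]; exact key k

end Groth.Agent.S4515
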