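import Groth.Statements.S4516
import Mathlib
-- import your own Groth.Agent.* helpers here

set_option autoImplicit false
universe u
open EGA41

namespace Groth.Agent.S4516

/-- Let p be a prime, B an A-algebra of characteristic p and A' an A-subalgebra of B contained in
A[B^p]. Then the canonical map between Ω_{B/A} and Ω_{B/A'} is bijective (every A-derivation of B
vanishes on A[B^p]). -/
theorem result (p : ℕ) [Fact p.Prime] {A B : Type u}
    [CommRing A] [CommRing B] [Algebra A B] [CharP B p] (A' : Subalgebra A B)
    (hA' : A' ≤ EGA41.pPowerSubalgebra p A B) :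
    Function.Bijective (KaehlerDifferential.map A A' B B) := by
  have hD0 : ∀ x ∈ Algebra.adjoin A (Set.range fun b : B => b ^ p), KaehlerDifferential.D A B x = 0 := by
    intro x hx
    induction hx using Algebra.adjoin_induction with
    | mem x hx =>
      obtain ⟨b, rfl⟩ := hx
      rw [Derivation.leibniz_pow, ← Nat.cast_smul_eq_nsmul B, CharP.cast_eq_zero, zero_smul]
    | algebraMap r => exact Derivation.map_algebraMap _ r
    | add x y _ _ hx hy => rw [map_add, hx, hy, add_zero]
    | mul x y _ _ hx hy => rw [Derivation.leibniz, hx, hy, smul_zero, smul_zero, add_zero]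
  have hD : ∀ a' : A', KaehlerDifferential.D A B (a' : B) = 0 := fun a' => hD0 _ (hA' a'.2)
  have hmap : ∀ ω : Ω[A'⁄A], KaehlerDifferential.map A A A' B ω = 0 := by
    intro ω
    have hspan := KaehlerDifferential.span_range_derivation A A'
    have hω : ω ∈ (⊤ : Submodule A' _) := trivial
    rw [← hspan] at hω
    induction hω using Submodule.span_induction with
    | mem x hx => obtain ⟨a', rfl⟩ := hx; rw [KaehlerDifferential.map_D]; exact hD a'
    | zero => simp
    | add x y _ _ hx hy => rw [map_add, hx, hy, add_zero]
    | smul a x _ hx => rw [map_smul, hx, smul_zero]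
  have hbc : ∀ y, KaehlerDifferential.mapBaseChange A A' B y = 0 := by
    intro y
    induction y using TensorProduct.induction_on with
    | zero => simp
    | tmul b ω => rw [KaehlerDifferential.mapBaseChange_tmul, hmap, smul_zero]
    | add x y hx hy => rw [map_add, hx, hy, add_zero]
  constructor
  · rw [injective_iff_map_eq_zero]
    intro x hx
    have hex := KaehlerDifferential.exact_mapBaseChange_map A A' B
    obtain ⟨y, rfl⟩ := (hex x).mp hx
    exact hbc y
  · exact KaehlerDifferential.map_surjective A A' B

end Groth.Agent.S4516
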