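import Groth.Statements.S4524
import Groth.Agent.Helper2.KaehlerAlg
open TensorProduct Groth.Agent.Helper2.KaehlerAlg
-- import your own Groth.Agent.* helpers here

set_option autoImplicit false
universe u
open EGA41

namespace Groth.Agent.S4524

/-- Let k be a field of characteristic 0 and K an extension of k. Then Ω_{K/k} = 0 if and only if K is
an algebraic extension of k. -/
theorem result {k K : Type u} [Field k] [CharZero k] [Field K] [Algebra k K] :
    Subsingleton (Ω[K⁄k]) ↔ Algebra.IsAlgebraic k K := by
  constructor
  · intro h
    obtain ⟨ι, x, hx⟩ := exists_isTranscendenceBasis' k K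
    set F := IntermediateField.adjoin k (Set.range x) with hF
    haveI : Algebra.IsAlgebraic F K := hx.isAlgebraic_field
    haveI : CharZero F := charZero_of_injective_algebraMap (algebraMap k F).injective
    haveI : Algebra.IsSeparable F K := Algebra.IsAlgebraic.isSeparable_of_perfectField
    haveI : Algebra.FormallyEtale F K := Algebra.FormallyEtale.of_isSeparable F K
    have e : K ⊗[F] Ω[F⁄k] ≃ₗ[K] Ω[K⁄k] := KaehlerDifferential.tensorKaehlerEquivOfFormallyEtale k F K
    haveI : Subsingleton (K ⊗[F] Ω[F⁄k]) := e.toEquiv.subsingleton
    haveI : Subsingleton (Ω[F⁄k]) := Module.FaithfullyFlat.lTensor_reflects_triviality F K _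
    haveI : Algebra.FormallyUnramified k F := ⟨inferInstance⟩
    haveI : Algebra.FormallyUnramified k (FractionRing (MvPolynomial ι k)) :=
      Algebra.FormallyUnramified.of_equiv hx.1.aevalEquivField.symm
    haveI : IsEmpty ι := isEmpty_of_subsingleton_kaehler_fractionRing k ι
    exact hx.isEmpty_iff_isAlgebraic.mp inferInstance
  · intro h
    haveI : Algebra.IsSeparable k K := Algebra.IsAlgebraic.isSeparable_of_perfectField
    haveI : Algebra.FormallyEtale k K := Algebra.FormallyEtale.of_isSeparable k K
    infer_instance

end Groth.Agent.S4524
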