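import Groth.Statements.S4529
import Mathlib
-- import your own Groth.Agent.* helpers here

set_option autoImplicit false
universe u
open EGA41

namespace Groth.Agent.S4529

/-- Let A be a ring, M, N two A-modules with N projective, u : M → N a homomorphism and J an ideal of A;
suppose either (i) J is nilpotent, or (ii) J is contained in the Jacobson radical of A and M is of
finite type. Then u is left invertible if and only if the induced map u₀ : M/JM → N/JN is left
invertible. (A left inverse of u₀ composed with N → N/JN is an A-linear map v : N → M/JM with v ∘ u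
the projection, and conversely; the right-hand side is written in that form.) -/
theorem result {A : Type u} [CommRing A] {M N : Type u} [AddCommGroup M] [Module A M]
    [AddCommGroup N] [Module A N] [Module.Projective A N] (u : M →ₗ[A] N) (J : Ideal A)
    (hJ : IsNilpotent J ∨ (J ≤ (⊥ : Ideal A).jacobson ∧ Module.Finite A M)) :
    (∃ w : N →ₗ[A] M, w ∘ₗ u = LinearMap.id) ↔
      ∃ v : N →ₗ[A] M ⧸ (J • ⊤ : Submodule A M), v ∘ₗ u = (J • ⊤ : Submodule A M).mkQ := by
  constructor
  · rintro ⟨w, hw⟩
    refine ⟨(J • ⊤ : Submodule A M).mkQ ∘ₗ w, ?_⟩
    rw [LinearMap.comp_assoc, hw, LinearMap.comp_id]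
  · rintro ⟨v, hv⟩
    obtain ⟨w₀, hw₀⟩ := Module.projective_lifting_property (J • ⊤ : Submodule A M).mkQ v
      (Submodule.mkQ_surjective _)
    let φ : M →ₗ[A] M := w₀ ∘ₗ u
    have hφ : ∀ m, φ m - m ∈ (J • ⊤ : Submodule A M) := fun m => by
      rw [← Submodule.Quotient.eq]
      have h1 := LinearMap.congr_fun hw₀ (u m)
      have h2 := LinearMap.congr_fun hv m
      exact h1.trans h2
    have hbij : Function.Bijective φ := by
      rcases hJ with hnil | ⟨hjac, hfin⟩
      · -- nilpotent case
        obtain ⟨n, hn⟩ := hnil
        let ψ : Module.End A M := φ - LinearMap.id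
        have hψ : ∀ k : ℕ, LinearMap.range (ψ ^ k) ≤ (J ^ k • ⊤ : Submodule A M) := by
          intro k
          induction k with
          | zero => simp
          | succ k ih =>
            rw [pow_succ', Module.End.mul_eq_comp, LinearMap.range_comp]
            refine (Submodule.map_mono ih).trans ?_
            rw [Submodule.map_smul'', pow_succ, mul_smul]
            refine Submodule.smul_mono le_rfl ?_
            rintro _ ⟨m, -, rfl⟩
            exact hφ m
        have hψnil : IsNilpotent ψ := by
          refine ⟨n, ?_⟩
          ext m
          have := hψ n ⟨m, rfl⟩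
          rw [hn, Ideal.zero_eq_bot, Submodule.bot_smul] at this
          exact this
        have hunit : IsUnit (ψ + 1) := hψnil.isUnit_add_one
        have : ψ + 1 = φ := by
          change φ - LinearMap.id + LinearMap.id = φ
          abel
        rw [this] at hunit
        exact (Module.End.isUnit_iff φ).1 hunit
      · have hsurj : Function.Surjective φ := by
          rw [← LinearMap.range_eq_top, eq_top_iff]
          apply Submodule.le_of_le_smul_of_le_jacobson_bot (Module.finite_def.1 hfin) hjac
          intro m _
          have : m = φ m - (φ m - m) := by abel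
          rw [this]
          exact Submodule.sub_mem _ (Submodule.mem_sup_left ⟨m, rfl⟩) (Submodule.mem_sup_right (hφ m))
        exact ⟨OrzechProperty.injective_of_surjective_endomorphism φ hsurj, hsurj⟩
    let e := LinearEquiv.ofBijective φ hbij
    refine ⟨e.symm.toLinearMap ∘ₗ w₀, ?_⟩
    ext m
    change e.symm (φ m) = m
    exact e.symm_apply_apply m

end Groth.Agent.S4529
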