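import Groth.Statements.S4534
import Mathlib
import Groth.Agent.Helper2.AdicFS
open Groth.Agent.Helper2
-- import your own Groth.Agent.* helpers here

set_option autoImplicit false
universe u
open EGA41

namespace Groth.Agent.S4534

/-- Let A → B → C be continuous homomorphisms of adic rings (A with the 𝔞-adic, B the 𝔟-adic, C the
𝔠-adic topology; continuity: a power of 𝔞 maps into 𝔟 and a power of 𝔟 into 𝔠). If B is formally
smooth over A and C formally smooth over B, then C is formally smooth over A. -/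
theorem result {A B C : Type u} [CommRing A] [CommRing B] [CommRing C] [Algebra A B] [Algebra B C]
    [Algebra A C] [IsScalarTower A B C] (𝔞 : Ideal A) (𝔟 : Ideal B) (𝔠 : Ideal C)
    (hAB : ∃ k : ℕ, (𝔞 ^ k).map (algebraMap A B) ≤ 𝔟) (hBC : ∃ k : ℕ, (𝔟 ^ k).map (algebraMap B C) ≤ 𝔠)
    (hB : EGA41.IsFormallySmoothAdic A 𝔞 B 𝔟) (hC : EGA41.IsFormallySmoothAdic B 𝔟 C 𝔠) :
    EGA41.IsFormallySmoothAdic A 𝔞 C 𝔠 := by
  intro D _ _ J hJ hD u hu
  obtain ⟨k, hk⟩ := hu
  obtain ⟨k', hk'⟩ := hBC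
  let ι : B →ₐ[A] C := IsScalarTower.toAlgHom A B C
  -- step 1
  have hcont1 : ∃ m : ℕ, ∀ x ∈ 𝔟 ^ m, (u.comp ι) x = 0 := by
    refine ⟨k' * k, fun x hx => ?_⟩
    apply hk
    have h1 : (𝔟 ^ (k' * k)).map (algebraMap B C) ≤ 𝔠 ^ k := by
      rw [pow_mul, Ideal.map_pow]
      exact Ideal.pow_right_mono hk' k
    exact h1 (Ideal.mem_map_of_mem _ hx)
  obtain ⟨w, hw⟩ := hB D J hJ hD (u.comp ι) hcont1
  have hwcont : ∃ m : ℕ, ∀ x ∈ 𝔟 ^ m, w x = 0 := by
    apply AdicFS.cont_of_cont_mk 𝔟 J hJ w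
    rw [hw]
    exact hcont1
  -- step 2
  let algBD : Algebra B D := w.toRingHom.toAlgebra
  have hBD : ∃ m : ℕ, (𝔟 ^ m).map (algebraMap B D) = ⊥ := by
    obtain ⟨m, hm⟩ := hwcont
    refine ⟨m, ?_⟩
    rw [eq_bot_iff, Ideal.map_le_iff_le_comap]
    intro x hx
    rw [Ideal.mem_comap]
    exact hm x hx
  let u' : C →ₐ[B] D ⧸ J :=
    { toFun := u
      map_one' := map_one u
      map_mul' := map_mul u
      map_zero' := map_zero u
      map_add' := map_add u
      commutes' := fun b => by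
        have := congrArg (fun f => f b) hw
        exact this.symm }
  obtain ⟨v', hv'⟩ := hC D J hJ hBD u' ⟨k, hk⟩
  refine ⟨
    { toFun := v'
      map_one' := map_one v'
      map_mul' := map_mul v'
      map_zero' := map_zero v'
      map_add' := map_add v'
      commutes' := fun a => by
        rw [IsScalarTower.algebraMap_apply A B C, AlgHom.commutes]
        exact w.commutes a }, ?_⟩
  ext c
  have := congrArg (fun f => f c) hv'
  exact this

end Groth.Agent.S4534
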