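import Groth.Statements.S4535
import Mathlib
import Groth.Agent.Helper2.AdicFS
open Groth.Agent.Helper2
open TensorProduct
-- import your own Groth.Agent.* helpers here

set_option autoImplicit false
universe u
open EGA41

namespace Groth.Agent.S4535

open TensorProduct in
/-- Let B (𝔟-adic) be formally smooth over A (𝔞-adic) and let A' (𝔞'-adic) be a topological A-algebra (a
power of 𝔞 maps into 𝔞'). Then the A'-algebra A' ⊗_A B, with the tensor product topology, i.e. the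
adic topology of the ideal generated by the images of 𝔞' and 𝔟, is formally smooth over A'. -/
theorem result {A B A' : Type u} [CommRing A] [CommRing B] [CommRing A'] [Algebra A B] [Algebra A A']
    (𝔞 : Ideal A) (𝔟 : Ideal B) (𝔞' : Ideal A') (hAA' : ∃ k : ℕ, (𝔞 ^ k).map (algebraMap A A') ≤ 𝔞')
    (hB : EGA41.IsFormallySmoothAdic A 𝔞 B 𝔟) :
    EGA41.IsFormallySmoothAdic A' 𝔞' (A' ⊗[A] B)
      (𝔞'.map (algebraMap A' (A' ⊗[A] B)) ⊔
        𝔟.map (Algebra.TensorProduct.includeRight : B →ₐ[A] A' ⊗[A] B).toRingHom) := by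
  intro D _ _ J hJ hD u hu
  obtain ⟨k, hk⟩ := hu
  obtain ⟨k₀, hk₀⟩ := hAA'
  obtain ⟨k₁, hk₁⟩ := hD
  let algAD : Algebra A D := Algebra.compHom D (algebraMap A A')
  have tower : IsScalarTower A A' D := IsScalarTower.of_algebraMap_eq (fun _ => rfl)
  have hAD : ∃ m : ℕ, (𝔞 ^ m).map (algebraMap A D) = ⊥ := by
    refine ⟨k₀ * k₁, ?_⟩
    have h0 : algebraMap A D = (algebraMap A' D).comp (algebraMap A A') := rfl
    rw [h0, ← Ideal.map_map, eq_bot_iff, ← hk₁, pow_mul, Ideal.map_pow]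
    exact Ideal.map_mono (Ideal.pow_right_mono hk₀ k₁)
  let inR : B →ₐ[A] A' ⊗[A] B := Algebra.TensorProduct.includeRight
  let u₁ : B →ₐ[A] D ⧸ J := (u.restrictScalars A).comp inR
  have hu₁ : ∃ m : ℕ, ∀ x ∈ 𝔟 ^ m, u₁ x = 0 := by
    refine ⟨k, fun x hx => ?_⟩
    apply hk
    have h1 : (𝔟 ^ k).map inR.toRingHom ≤
        (𝔞'.map (algebraMap A' (A' ⊗[A] B)) ⊔ 𝔟.map inR.toRingHom) ^ k := by
      rw [Ideal.map_pow]
      exact Ideal.pow_right_mono le_sup_right k
    exact h1 (Ideal.mem_map_of_mem _ hx)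
  obtain ⟨w, hw⟩ := hB D J hJ hAD u₁ hu₁
  let v : A' ⊗[A] B →ₐ[A'] D :=
    Algebra.TensorProduct.lift (Algebra.ofId A' D) w (fun _ _ => Commute.all _ _)
  refine ⟨v, ?_⟩
  apply Algebra.TensorProduct.ext
  · ext
  · ext b
    have h2 := congrArg (fun f => f b) hw
    change Ideal.Quotient.mk J (v ((1 : A') ⊗ₜ[A] b)) = u ((1 : A') ⊗ₜ[A] b)
    rw [Algebra.TensorProduct.lift_tmul, map_one, one_mul]
    exact h2

end Groth.Agent.S4535
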