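import Groth.Statements.S4536
import Mathlib
import Groth.Agent.Helper2.AdicFS
open Groth.Agent.Helper2
-- import your own Groth.Agent.* helpers here

set_option autoImplicit false
universe u
open EGA41

namespace Groth.Agent.S4536

/-- Let A carry the 𝔞-adic and B the 𝔟-adic topology, A → B being continuous (a power of 𝔞 maps into 𝔟).
Then B is formally smooth over A if and only if for every n the (A/𝔞ⁿ)-algebra B/𝔞ⁿB, with the adic
topology of the image of 𝔟, is formally smooth over the discrete ring A/𝔞ⁿ. -/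
theorem result {A B : Type u} [CommRing A] [CommRing B] [Algebra A B]
    (𝔞 : Ideal A) (𝔟 : Ideal B) (hAB : ∃ k : ℕ, (𝔞 ^ k).map (algebraMap A B) ≤ 𝔟) :
    EGA41.IsFormallySmoothAdic A 𝔞 B 𝔟 ↔
      ∀ n : ℕ, EGA41.IsFormallySmoothAdic (A ⧸ 𝔞 ^ n) ⊥ (B ⧸ (𝔞 ^ n).map (algebraMap A B))
        (𝔟.map (Ideal.Quotient.mk ((𝔞 ^ n).map (algebraMap A B)))) := by
  constructor
  · intro h n D _ _ J hJ _ u hu
    obtain ⟨k, hk⟩ := hu
    let algAD : Algebra A D := Algebra.compHom D (Ideal.Quotient.mk (𝔞 ^ n))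
    have tower : IsScalarTower A (A ⧸ 𝔞 ^ n) D := IsScalarTower.of_algebraMap_eq (fun _ => rfl)
    have hAD : ∃ m : ℕ, (𝔞 ^ m).map (algebraMap A D) = ⊥ := by
      refine ⟨n, ?_⟩
      rw [eq_bot_iff, Ideal.map_le_iff_le_comap]
      intro a ha
      rw [Ideal.mem_comap]
      change algebraMap (A ⧸ 𝔞 ^ n) D (Ideal.Quotient.mk (𝔞 ^ n) a) ∈ (⊥ : Ideal D)
      rw [Ideal.Quotient.eq_zero_iff_mem.2 ha, map_zero]
      exact Ideal.zero_mem _
    let mkB : B →ₐ[A] B ⧸ (𝔞 ^ n).map (algebraMap A B) := Ideal.Quotient.mkₐ A _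
    let u₁ : B →ₐ[A] D ⧸ J := (u.restrictScalars A).comp mkB
    have hu₁ : ∃ m : ℕ, ∀ x ∈ 𝔟 ^ m, u₁ x = 0 := by
      refine ⟨k, fun x hx => ?_⟩
      apply hk
      rw [← Ideal.map_pow]
      exact Ideal.mem_map_of_mem _ hx
    obtain ⟨w, hw⟩ := h D J hJ hAD u₁ hu₁
    have hwker : ∀ x ∈ (𝔞 ^ n).map (algebraMap A B), w x = 0 := by
      intro x hx
      have h1 : (𝔞 ^ n).map (algebraMap A B) ≤ RingHom.ker w.toRingHom := by
        rw [Ideal.map_le_iff_le_comap]
        intro a ha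
        rw [Ideal.mem_comap, RingHom.mem_ker]
        change w (algebraMap A B a) = 0
        rw [AlgHom.commutes]
        change algebraMap (A ⧸ 𝔞 ^ n) D (Ideal.Quotient.mk (𝔞 ^ n) a) = 0
        rw [Ideal.Quotient.eq_zero_iff_mem.2 ha, map_zero]
      exact h1 hx
    let v₀ : (B ⧸ (𝔞 ^ n).map (algebraMap A B)) →+* D := Ideal.Quotient.lift _ w.toRingHom hwker
    have hv₀ : ∀ b, v₀ (Ideal.Quotient.mk _ b) = w b := fun b => rfl
    refine ⟨
      { v₀ with
        commutes' := fun r => by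
          obtain ⟨a, rfl⟩ := Ideal.Quotient.mk_surjective r
          change v₀ (Ideal.Quotient.mk _ (algebraMap A B a)) = _
          rw [hv₀, AlgHom.commutes]
          rfl }, ?_⟩
    ext x
    obtain ⟨b, rfl⟩ := Ideal.Quotient.mk_surjective x
    have := congrArg (fun f => f b) hw
    exact this
  · intro h D _ _ J hJ hD u hu
    obtain ⟨n, hn⟩ := hD
    obtain ⟨k, hk⟩ := hu
    have hker : ∀ a ∈ 𝔞 ^ n, algebraMap A D a = 0 := fun a ha => by
      have : algebraMap A D a ∈ (𝔞 ^ n).map (algebraMap A D) := Ideal.mem_map_of_mem _ ha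
      rw [hn] at this
      exact this
    let ρ : (A ⧸ 𝔞 ^ n) →+* D := Ideal.Quotient.lift (𝔞 ^ n) (algebraMap A D) hker
    let algD : Algebra (A ⧸ 𝔞 ^ n) D := ρ.toAlgebra
    have hρ : ∀ a, algebraMap (A ⧸ 𝔞 ^ n) D (Ideal.Quotient.mk _ a) = algebraMap A D a := fun a => rfl
    have huker : ∀ x ∈ (𝔞 ^ n).map (algebraMap A B), u.toRingHom x = 0 := by
      intro x hx
      have h1 : (𝔞 ^ n).map (algebraMap A B) ≤ RingHom.ker u.toRingHom := by
        rw [Ideal.map_le_iff_le_comap]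
        intro a ha
        rw [Ideal.mem_comap, RingHom.mem_ker]
        change u (algebraMap A B a) = 0
        rw [AlgHom.commutes]
        change Ideal.Quotient.mk J (algebraMap A D a) = 0
        rw [hker a ha, map_zero]
      exact h1 hx
    let u₀ : (B ⧸ (𝔞 ^ n).map (algebraMap A B)) →+* D ⧸ J := Ideal.Quotient.lift _ u.toRingHom huker
    have hu₀ : ∀ b, u₀ (Ideal.Quotient.mk _ b) = u b := fun b => rfl
    let u' : (B ⧸ (𝔞 ^ n).map (algebraMap A B)) →ₐ[A ⧸ 𝔞 ^ n] D ⧸ J :=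
      { u₀ with
        commutes' := fun r => by
          obtain ⟨a, rfl⟩ := Ideal.Quotient.mk_surjective r
          change u₀ (Ideal.Quotient.mk _ (algebraMap A B a)) = _
          rw [hu₀, AlgHom.commutes]
          rfl }
    have hu' : ∃ m : ℕ, ∀ x ∈ (𝔟.map (Ideal.Quotient.mk ((𝔞 ^ n).map (algebraMap A B)))) ^ m, u' x = 0 := by
      refine ⟨k, fun x hx => ?_⟩
      rw [← Ideal.map_pow] at hx
      have h2 : (𝔟 ^ k).map (Ideal.Quotient.mk ((𝔞 ^ n).map (algebraMap A B))) ≤ RingHom.ker u₀ := by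
        rw [Ideal.map_le_iff_le_comap]
        intro b hb
        rw [Ideal.mem_comap, RingHom.mem_ker, hu₀]
        exact hk b hb
      exact h2 hx
    obtain ⟨v', hv'⟩ := h n D J hJ ⟨1, by rw [pow_one, Ideal.map_bot]⟩ u' hu'
    refine ⟨
      { toFun := fun b => v' (Ideal.Quotient.mk _ b)
        map_one' := by rw [map_one, map_one]
        map_mul' := fun x y => by rw [map_mul, map_mul]
        map_zero' := by rw [map_zero, map_zero]
        map_add' := fun x y => by rw [map_add, map_add]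
        commutes' := fun a => by
          have : Ideal.Quotient.mk ((𝔞 ^ n).map (algebraMap A B)) (algebraMap A B a) =
            algebraMap (A ⧸ 𝔞 ^ n) (B ⧸ (𝔞 ^ n).map (algebraMap A B)) (Ideal.Quotient.mk _ a) := rfl
          rw [this, AlgHom.commutes, hρ] }, ?_⟩
    ext b
    have := congrArg (fun f => f (Ideal.Quotient.mk _ b)) hv'
    exact this

end Groth.Agent.S4536
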