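import Groth.Statements.S4543
import Mathlib
import Groth.Agent.S4542
import Groth.Agent.S4515
-- import your own Groth.Agent.* helpers here

set_option autoImplicit false
universe u
open EGA41

namespace Groth.Agent.S4543

open IsLocalRing in
/-- Let A be a Noetherian ring, J an ideal of A, B and B' two A-algebras which are Noetherian local
rings, the structure maps being continuous for the J-adic topology on A (JB and JB' lie in the
maximal ideals); suppose B and B' are complete for the J-adic topologies, B is a formally smooth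
A-algebra for the J-adic topology on A and the JB-adic topology on B (nilpotent test ideals, test
algebras killed by a power of J, test maps killing a power of JB), and B' is a flat A-module. Then
every (A/J)-algebra isomorphism u₀ : B/JB ≅ B'/JB' comes from an A-algebra isomorphism u : B ≅ B' by
passing to quotients. (B is taken formally smooth for the JB-adic topology, the topology along which
the argument lifts B → B'/JB' to B'; read with the convention that a local ring carries the adic
topology of its maximal ideal, the published hypothesis would be formal smoothness for the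
maximal-ideal topology on B, a weaker condition when JB is strictly smaller than the maximal ideal,
and that reading is not what the argument establishes.) -/
theorem result {A B B' : Type u} [CommRing A] [IsNoetherianRing A] (J : Ideal A)
    [CommRing B] [IsLocalRing B] [IsNoetherianRing B] [Algebra A B]
    [CommRing B'] [IsLocalRing B'] [IsNoetherianRing B'] [Algebra A B']
    (hB : J.map (algebraMap A B) ≤ maximalIdeal B) (hB' : J.map (algebraMap A B') ≤ maximalIdeal B')
    [IsAdicComplete (J.map (algebraMap A B)) B] [IsAdicComplete (J.map (algebraMap A B')) B']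
    (hfs : EGA41.IsFormallySmoothAdic A J B (J.map (algebraMap A B))) [Module.Flat A B']
    (u₀ : (B ⧸ J.map (algebraMap A B)) ≃ₐ[A ⧸ J] (B' ⧸ J.map (algebraMap A B'))) :
    ∃ u : B ≃ₐ[A] B', ∀ b : B,
      Ideal.Quotient.mk (J.map (algebraMap A B')) (u b) = u₀ (Ideal.Quotient.mk (J.map (algebraMap A B)) b) := by
  set 𝔠 : Ideal B' := J.map (algebraMap A B') with h𝔠
  set 𝔟 : Ideal B := J.map (algebraMap A B) with h𝔟
  have hbot : 𝔠.map (Ideal.Quotient.mk 𝔠) = ⊥ := Ideal.map_quotient_self 𝔠
  have : IsHausdorff (𝔠.map (Ideal.Quotient.mk 𝔠)) (B' ⧸ 𝔠) := by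
    rw [hbot]
    refine ⟨fun x hx => ?_⟩
    have := hx 1
    rw [SModEq.zero] at this
    simpa using this
  let w : B →ₐ[A] B' ⧸ 𝔠 :=
    ((u₀ : (B ⧸ 𝔟) →ₐ[A ⧸ J] (B' ⧸ 𝔠)).restrictScalars A).comp (Ideal.Quotient.mkₐ A 𝔟)
  have hw : ∀ b, w b = u₀ (Ideal.Quotient.mk 𝔟 b) := fun b => rfl
  obtain ⟨v, -, hv⟩ := Groth.Agent.S4542.result J 𝔟 𝔠 hfs ⟨1, by rw [pow_one]⟩ 𝔠
    ⟨1, by rw [pow_one]⟩ w ⟨1, by
      rw [pow_one, Ideal.map_le_iff_le_comap]
      intro x hx
      rw [Ideal.mem_comap]
      have : w x = 0 := by
        rw [hw, Ideal.Quotient.eq_zero_iff_mem.mpr hx, map_zero]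
      show w x ∈ _
      rw [this]; exact Ideal.zero_mem _⟩
  have hv' : ∀ b, Ideal.Quotient.mk 𝔠 (v b) = u₀ (Ideal.Quotient.mk 𝔟 b) := fun b => by
    rw [← hw, ← hv]; rfl
  have hHaus : IsHausdorff J B' := by
    have : IsHausdorff 𝔠 B' := inferInstance
    exact IsHausdorff.map_algebraMap_iff.mp this
  have hComp : IsAdicComplete J B := by
    have : IsAdicComplete 𝔟 B := inferInstance
    exact (IsAdicComplete.map_algebraMap_iff (S := B) J B).mp this
  have hJB' : (J • ⊤ : Submodule A B') = 𝔠.restrictScalars A := by
    rw [Ideal.smul_top_eq_map]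
  have hJB : (J • ⊤ : Submodule A B) = 𝔟.restrictScalars A := by
    rw [Ideal.smul_top_eq_map]
  have hbij : Function.Bijective v.toLinearMap := by
    apply Groth.Agent.S4515.result J v.toLinearMap
    · intro m
      obtain ⟨b, hb⟩ := Ideal.Quotient.mk_surjective (u₀.symm (Ideal.Quotient.mk 𝔠 m))
      refine ⟨b, ?_⟩
      rw [hJB']
      show m - v b ∈ 𝔠
      rw [← Ideal.Quotient.eq, hv', hb, AlgEquiv.apply_symm_apply]
    · intro n hn
      rw [hJB'] at hn
      rw [hJB]
      show n ∈ 𝔟
      have h1 : v n ∈ 𝔠 := hn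
      rw [← Ideal.Quotient.eq_zero_iff_mem, hv'] at h1
      rw [← Ideal.Quotient.eq_zero_iff_mem]
      exact (map_eq_zero_iff u₀ u₀.injective).mp h1
  exact ⟨AlgEquiv.ofBijective v hbij, fun b => hv' b⟩

end Groth.Agent.S4543
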