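import Groth.Statements.S4552
import Mathlib
-- import your own Groth.Agent.* helpers here

set_option autoImplicit false
universe u
open EGA41

namespace Groth.Agent.S4552

/-- For the 𝔞-adic topology on A and the deduced topology on M: the topological A-module M is formally
projective (for every open ideal 𝔞ⁿ, every pair of (A/𝔞ⁿ)-modules P, Q, every surjection P → Q and
every continuous A-linear map M → Q — here automatically continuous — there is a continuous A-linear
lift M → P) if and only if it is strictly formally projective, i.e. M/𝔞ⁿM is a projective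
(A/𝔞ⁿ)-module for every n. -/
theorem result {A : Type u} [CommRing A] (𝔞 : Ideal A) (M : Type u)
    [AddCommGroup M] [Module A M] :
    (∀ (n : ℕ) (P Q : Type u) [AddCommGroup P] [Module A P] [AddCommGroup Q] [Module A Q],
      (∀ a ∈ 𝔞 ^ n, ∀ y : P, a • y = 0) → (∀ a ∈ 𝔞 ^ n, ∀ y : Q, a • y = 0) →
      ∀ f : P →ₗ[A] Q, Function.Surjective f → ∀ v : M →ₗ[A] Q, ∃ w : M →ₗ[A] P, f ∘ₗ w = v) ↔
    ∀ n : ℕ, Module.Projective (A ⧸ 𝔞 ^ n) (M ⧸ (𝔞 ^ n • ⊤ : Submodule A M)) := by
  constructor
  · intro H n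
    apply Module.Projective.of_lifting_property''
    intro f hf
    have hkill : ∀ (X : Type u) [AddCommGroup X] [Module A X] [Module (A ⧸ 𝔞 ^ n) X]
        [IsScalarTower A (A ⧸ 𝔞 ^ n) X], ∀ a ∈ 𝔞 ^ n, ∀ y : X, a • y = 0 := by
      intro X _ _ _ _ a ha y
      rw [← one_smul (A ⧸ 𝔞 ^ n) y, ← smul_assoc]
      have : a • (1 : A ⧸ 𝔞 ^ n) = 0 := by
        rw [Algebra.smul_def, mul_one]
        exact Ideal.Quotient.eq_zero_iff_mem.mpr ha
      rw [this, zero_smul]
    obtain ⟨w, hw⟩ := H n ((M ⧸ (𝔞 ^ n • ⊤ : Submodule A M)) →₀ (A ⧸ 𝔞 ^ n))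
      (M ⧸ (𝔞 ^ n • ⊤ : Submodule A M)) (hkill _) (hkill _) (f.restrictScalars A) hf
      (Submodule.mkQ _)
    have hle : (𝔞 ^ n • ⊤ : Submodule A M) ≤ LinearMap.ker w := by
      rw [Submodule.smul_le]
      intro a ha m _
      rw [LinearMap.mem_ker, map_smul]
      exact hkill _ a ha _
    let wbar := (𝔞 ^ n • ⊤ : Submodule A M).liftQ w hle
    refine ⟨{ toFun := wbar, map_add' := wbar.map_add, map_smul' := ?_ }, ?_⟩
    · intro r x
      obtain ⟨a, rfl⟩ := Ideal.Quotient.mk_surjective r
      have h1 : (Ideal.Quotient.mk (𝔞 ^ n) a) • x = a • x := by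
        rw [← algebraMap_smul (A ⧸ 𝔞 ^ n) a x]; rfl
      have h2 : (Ideal.Quotient.mk (𝔞 ^ n) a) • wbar x = a • wbar x := by
        rw [← algebraMap_smul (A ⧸ 𝔞 ^ n) a (wbar x)]; rfl
      simp only [RingHom.id_apply]
      rw [h1, h2, map_smul]
    · ext x
      obtain ⟨m, rfl⟩ := Submodule.mkQ_surjective _ x
      have := LinearMap.congr_fun hw m
      simpa [wbar] using this
  · intro H n P Q _ _ _ _ hP hQ f hf v
    have hP' : Module.IsTorsionBySet A P (𝔞 ^ n : Ideal A) := fun x a => hP a.1 a.2 x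
    have hQ' : Module.IsTorsionBySet A Q (𝔞 ^ n : Ideal A) := fun x a => hQ a.1 a.2 x
    let _ := hP'.module
    let _ := hQ'.module
    let f' : P →ₗ[A ⧸ 𝔞 ^ n] Q :=
      { toFun := f, map_add' := f.map_add, map_smul' := by
          intro r x
          obtain ⟨a, rfl⟩ := Ideal.Quotient.mk_surjective r
          exact f.map_smul a x }
    have hle : (𝔞 ^ n • ⊤ : Submodule A M) ≤ LinearMap.ker v := by
      rw [Submodule.smul_le]
      intro a ha m _
      rw [LinearMap.mem_ker, map_smul]
      exact hQ a ha _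
    let vbar := (𝔞 ^ n • ⊤ : Submodule A M).liftQ v hle
    let v' : (M ⧸ (𝔞 ^ n • ⊤ : Submodule A M)) →ₗ[A ⧸ 𝔞 ^ n] Q :=
      { toFun := vbar, map_add' := vbar.map_add, map_smul' := by
          intro r x
          obtain ⟨a, rfl⟩ := Ideal.Quotient.mk_surjective r
          obtain ⟨m, rfl⟩ := Submodule.mkQ_surjective _ x
          exact vbar.map_smul a (Submodule.mkQ _ m) }
    obtain ⟨w', hw'⟩ := Module.projective_lifting_property f' v' hf
    refine ⟨{ toFun := fun m => w' (Submodule.Quotient.mk m),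
              map_add' := fun x y => by rw [Submodule.Quotient.mk_add, map_add],
              map_smul' := fun a m => ?_ }, ?_⟩
    · have : (Submodule.Quotient.mk (a • m) : M ⧸ (𝔞 ^ n • ⊤ : Submodule A M)) =
          Ideal.Quotient.mk (𝔞 ^ n) a • Submodule.Quotient.mk m := rfl
      rw [this, map_smul]
      rfl
    · ext m
      have := LinearMap.congr_fun hw' (Submodule.Quotient.mk m)
      simpa [f', v', vbar] using this

end Groth.Agent.S4552
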