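import Groth.Statements.S4556
import Mathlib
-- import your own Groth.Agent.* helpers here

set_option autoImplicit false
universe u
open EGA41

namespace Groth.Agent.S4556

/-- Let B be a formally smooth A-algebra, E and E' two A-algebras, R (resp. R') a nilpotent ideal of E
(resp. E'), f : E → E' a surjective A-algebra homomorphism with f(R) = R', and f' : E/R → E'/R' the
induced homomorphism. Let u : B → E/R be an A-algebra homomorphism and v' : B → E' an A-algebra
homomorphism through which f' ∘ u factors (v' followed by E' → E'/R' equals f' ∘ u). Then there is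
an A-algebra homomorphism v : B → E with f ∘ v = v'. (The published statement assumes only f(R) ⊆
R'; in that form it fails for B = ℚ[x, x⁻¹], E = ℚ[t], E' = ℚ[t]/(t²), R = 0, R' = (t), u : x ↦ 1
and v' : x ↦ 1 + t, since any v sends x to a unit of ℚ[t], a constant; the argument identifies R'
with the image of R, and that equality is assumed here.) -/
theorem result {A B E E' : Type u} [CommRing A] [CommRing B] [Algebra A B]
    [Algebra.FormallySmooth A B] [CommRing E] [CommRing E'] [Algebra A E] [Algebra A E']
    (R : Ideal E) (R' : Ideal E') (hR : IsNilpotent R) (hR' : IsNilpotent R')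
    (f : E →ₐ[A] E') (hf : Function.Surjective f) (hfR : R.map f.toRingHom = R')
    (u : B →ₐ[A] E ⧸ R) (v' : B →ₐ[A] E')
    (huv : (Ideal.Quotient.mkₐ A R').comp v' =
      (Ideal.quotientMapₐ R' f (fun x hx => hfR.le (Ideal.mem_map_of_mem f.toRingHom hx))).comp u) :
    ∃ v : B →ₐ[A] E, f.comp v = v' := by
  set f' : E ⧸ R →ₐ[A] E' ⧸ R' :=
    Ideal.quotientMapₐ R' f (fun x hx => hfR.le (Ideal.mem_map_of_mem f.toRingHom hx)) with hf'
  have hf'mk : ∀ e : E, f' (Ideal.Quotient.mk R e) = Ideal.Quotient.mk R' (f e) := fun e => rfl
  let F : Subalgebra A (E' × (E ⧸ R)) :=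
    AlgHom.equalizer ((Ideal.Quotient.mkₐ A R').comp (AlgHom.fst A E' (E ⧸ R)))
      (f'.comp (AlgHom.snd A E' (E ⧸ R)))
  have hF : ∀ x : F, Ideal.Quotient.mk R' x.1.1 = f' x.1.2 := fun x => x.2
  let π : E →ₐ[A] F :=
    { toFun := fun e => ⟨(f e, Ideal.Quotient.mk R e), (hf'mk e).symm⟩
      map_one' := by
        apply Subtype.ext
        apply Prod.ext
        · exact map_one f
        · rfl
      map_mul' := fun x y => by
        apply Subtype.ext
        apply Prod.ext
        · exact map_mul f x y
        · rfl
      map_zero' := by
        apply Subtype.ext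
        apply Prod.ext
        · exact map_zero f
        · rfl
      map_add' := fun x y => by
        apply Subtype.ext
        apply Prod.ext
        · exact map_add f x y
        · rfl
      commutes' := fun a => by
        apply Subtype.ext
        apply Prod.ext
        · exact f.commutes a
        · rfl }
  have hπ1 : ∀ e, (π e).1.1 = f e := fun e => rfl
  have hπ2 : ∀ e, (π e).1.2 = Ideal.Quotient.mk R e := fun e => rfl
  have hπsurj : Function.Surjective π := by
    intro x
    obtain ⟨e, he⟩ := Ideal.Quotient.mk_surjective x.1.2
    have h1 := hF x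
    rw [← he, hf'mk, Ideal.Quotient.eq, ← hfR] at h1
    obtain ⟨r, hr, hr'⟩ := (Ideal.mem_map_iff_of_surjective f.toRingHom hf).1 h1
    have hr'' : f r = x.1.1 - f e := hr'
    refine ⟨e + r, ?_⟩
    apply Subtype.ext
    apply Prod.ext
    · rw [hπ1, map_add, hr'']
      abel
    · rw [hπ2, map_add, Ideal.Quotient.eq_zero_iff_mem.2 hr, add_zero, he]
  have hπnil : IsNilpotent (RingHom.ker (π : E →+* F)) := by
    obtain ⟨n, hn⟩ := hR
    refine ⟨n, ?_⟩
    have hle : RingHom.ker (π : E →+* F) ≤ R := by
      intro e he
      have h0 : π e = 0 := he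
      have : (π e).1.2 = 0 := by rw [h0]; rfl
      rw [hπ2] at this
      exact Ideal.Quotient.eq_zero_iff_mem.1 this
    rw [Ideal.zero_eq_bot, eq_bot_iff]
    exact (Ideal.pow_right_mono hle n).trans (le_of_eq hn)
  let g₀ : B →ₐ[A] F :=
    { toFun := fun b => ⟨(v' b, u b), by
        have := congrArg (fun φ => φ b) huv
        exact this⟩
      map_one' := by
        apply Subtype.ext
        apply Prod.ext
        · exact map_one v'
        · exact map_one u
      map_mul' := fun x y => by
        apply Subtype.ext
        apply Prod.ext
        · exact map_mul v' x y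
        · exact map_mul u x y
      map_zero' := by
        apply Subtype.ext
        apply Prod.ext
        · exact map_zero v'
        · exact map_zero u
      map_add' := fun x y => by
        apply Subtype.ext
        apply Prod.ext
        · exact map_add v' x y
        · exact map_add u x y
      commutes' := fun a => by
        apply Subtype.ext
        apply Prod.ext
        · exact v'.commutes a
        · exact u.commutes a }
  refine ⟨Algebra.FormallySmooth.liftOfSurjective g₀ π hπsurj hπnil, ?_⟩
  ext b
  have h1 := Algebra.FormallySmooth.liftOfSurjective_apply g₀ π hπsurj hπnil b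
  have h2 := congrArg (fun x : F => x.1.1) h1
  exact h2

end Groth.Agent.S4556
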