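import Groth.Statements.S4559
import Mathlib
import Groth.Agent.Helper2.UnramAdic
import Groth.Agent.Helper2.ExalHoch
open Groth.Agent.Helper2
-- import your own Groth.Agent.* helpers here

set_option autoImplicit false
universe u
open EGA41

namespace Groth.Agent.S4559

/-- Let A be 𝔞-adic and B a topological A-algebra for the 𝔟-adic topology (a power of 𝔞 maps into 𝔟).
Then B is a formally unramified A-algebra (for every homomorphism E → C of discrete A-algebras with
nilpotent kernel and every continuous u : B → C there is at most one continuous lift B → E; here E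
discrete means killed by a power of 𝔞, and one may take C = E/J) if and only if the separated
completion of Ω_{B/A}, i.e. its 𝔟-adic completion, is zero. -/
theorem result {A B : Type u} [CommRing A] [CommRing B] [Algebra A B]
    (𝔞 : Ideal A) (𝔟 : Ideal B) (hAB : ∃ k : ℕ, (𝔞 ^ k).map (algebraMap A B) ≤ 𝔟) :
    (∀ (E : Type u) [CommRing E] [Algebra A E], (∃ k : ℕ, (𝔞 ^ k).map (algebraMap A E) = ⊥) →
      ∀ J : Ideal E, IsNilpotent J → ∀ v₁ v₂ : B →ₐ[A] E,
        (∃ m : ℕ, ∀ x ∈ 𝔟 ^ m, v₁ x = 0) → (∃ m : ℕ, ∀ x ∈ 𝔟 ^ m, v₂ x = 0) →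
        (∀ b : B, Ideal.Quotient.mk J (v₁ b) = Ideal.Quotient.mk J (v₂ b)) → v₁ = v₂) ↔
    Subsingleton (AdicCompletion 𝔟 (Ω[B⁄A])) := by
  constructor
  · intro H
    -- first show `Ω = 𝔟 Ω`
    have hΩ : (⊤ : Submodule B (Ω[B⁄A])) ≤ 𝔟 • ⊤ := by
      let L := Ω[B⁄A] ⧸ (𝔟 • ⊤ : Submodule B (Ω[B⁄A]))
      let f0 : (B ⧸ 𝔟) →ₗ[A] (B ⧸ 𝔟) →ₗ[A] L := 0
      have hsymm : ∀ x y : B ⧸ 𝔟, f0 x y = f0 y x := fun _ _ => rfl
      have hcoc : ∀ x y z : B ⧸ 𝔟, f0 (x * y) z + z • f0 x y = x • f0 y z + f0 x (y * z) := by
        intro x y z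
        simp [f0]
      let X := ExalHoch.ext f0 hsymm hcoc
      let E := ExalHoch.HE f0 hsymm hcoc
      have hf11 : f0 1 1 = 0 := rfl
      let q : Ω[B⁄A] →ₗ[B] L := Submodule.mkQ _
      let v₁ : B →ₐ[A] E :=
        { toFun := fun b => ((Ideal.Quotient.mk 𝔟 b, (0 : L)) : (B ⧸ 𝔟) × L)
          map_one' := by
            apply ExalHoch.HE.ext
            · rfl
            · show (0 : L) = -f0 1 1
              rw [hf11, neg_zero]
          map_mul' := fun b b' => by
            apply ExalHoch.HE.ext
            · exact map_mul _ _ _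
            · rw [ExalHoch.snd_mul]
              show (0 : L) = _ • (0 : L) + _ • (0 : L) + f0 _ _
              simp [f0]
          map_zero' := by
            apply ExalHoch.HE.ext
            · exact map_zero _
            · rfl
          map_add' := fun b b' => by
            apply ExalHoch.HE.ext
            · exact map_add _ _ _
            · show (0 : L) = 0 + 0
              rw [add_zero]
          commutes' := fun a => by
            apply ExalHoch.HE.ext
            · rfl
            · rw [ExalHoch.algebraMap_snd, hf11, smul_zero, neg_zero] }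
      let v₂ : B →ₐ[A] E :=
        { toFun := fun b => ((Ideal.Quotient.mk 𝔟 b, q (KaehlerDifferential.D A B b)) : (B ⧸ 𝔟) × L)
          map_one' := by
            apply ExalHoch.HE.ext
            · rfl
            · show q (KaehlerDifferential.D A B 1) = -f0 1 1
              rw [hf11, neg_zero, Derivation.map_one_eq_zero, map_zero]
          map_mul' := fun b b' => by
            apply ExalHoch.HE.ext
            · exact map_mul _ _ _
            · rw [ExalHoch.snd_mul]
              show q (KaehlerDifferential.D A B (b * b')) =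
                Ideal.Quotient.mk 𝔟 b • q (KaehlerDifferential.D A B b') +
                  Ideal.Quotient.mk 𝔟 b' • q (KaehlerDifferential.D A B b) + f0 _ _
              rw [Derivation.leibniz, map_add, map_smul, map_smul]
              simp [f0]
          map_zero' := by
            apply ExalHoch.HE.ext
            · exact map_zero _
            · show q (KaehlerDifferential.D A B 0) = 0
              rw [map_zero, map_zero]
          map_add' := fun b b' => by
            apply ExalHoch.HE.ext
            · exact map_add _ _ _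
            · show q (KaehlerDifferential.D A B (b + b')) = q _ + q _
              rw [map_add, map_add]
          commutes' := fun a => by
            apply ExalHoch.HE.ext
            · rfl
            · rw [ExalHoch.algebraMap_snd, hf11, smul_zero, neg_zero]
              show q (KaehlerDifferential.D A B (algebraMap A B a)) = 0
              rw [Derivation.map_algebraMap, map_zero] }
      have hv₁ : ∀ b, v₁ b = ((Ideal.Quotient.mk 𝔟 b, (0 : L)) : (B ⧸ 𝔟) × L) := fun b => rfl
      have hv₂ : ∀ b, v₂ b =
          ((Ideal.Quotient.mk 𝔟 b, q (KaehlerDifferential.D A B b)) : (B ⧸ 𝔟) × L) := fun b => rfl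
      let J : Ideal E := RingHom.ker X.proj
      have hJ : IsNilpotent J := ExalFib.isNilpotent_ker X
      have hE : ∃ k : ℕ, (𝔞 ^ k).map (algebraMap A E) = ⊥ := by
        obtain ⟨k, hk⟩ := hAB
        refine ⟨k, ?_⟩
        rw [eq_bot_iff, Ideal.map_le_iff_le_comap]
        intro a ha
        rw [Ideal.mem_comap, Ideal.mem_bot]
        apply ExalHoch.HE.ext
        · rw [ExalHoch.algebraMap_fst]
          show Ideal.Quotient.mk 𝔟 (algebraMap A B a) = 0
          exact Ideal.Quotient.eq_zero_iff_mem.mpr (hk (Ideal.mem_map_of_mem _ ha))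
        · rw [ExalHoch.algebraMap_snd, hf11, smul_zero, neg_zero]
          rfl
      have hc₁ : ∃ m : ℕ, ∀ x ∈ 𝔟 ^ m, v₁ x = 0 := by
        refine ⟨1, fun x hx => ?_⟩
        rw [pow_one] at hx
        rw [hv₁, Ideal.Quotient.eq_zero_iff_mem.mpr hx]
        rfl
      have hD2 : ∀ x ∈ 𝔟 ^ 2, KaehlerDifferential.D A B x ∈ (𝔟 • ⊤ : Submodule B (Ω[B⁄A])) := by
        intro x hx
        rw [pow_two] at hx
        refine Submodule.mul_induction_on hx ?_ ?_
        · intro y hy z hz
          rw [Derivation.leibniz]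
          exact Submodule.add_mem _ (Submodule.smul_mem_smul hy trivial)
            (Submodule.smul_mem_smul hz trivial)
        · intro y z hy hz
          rw [map_add]
          exact Submodule.add_mem _ hy hz
      have hc₂ : ∃ m : ℕ, ∀ x ∈ 𝔟 ^ m, v₂ x = 0 := by
        refine ⟨2, fun x hx => ?_⟩
        have h1 : Ideal.Quotient.mk 𝔟 x = 0 :=
          Ideal.Quotient.eq_zero_iff_mem.mpr (Ideal.pow_le_self two_ne_zero hx)
        have h2 : q (KaehlerDifferential.D A B x) = 0 :=
          (Submodule.Quotient.mk_eq_zero _).mpr (hD2 x hx)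
        rw [hv₂, h1, h2]
        rfl
      have hv : ∀ b : B, Ideal.Quotient.mk J (v₁ b) = Ideal.Quotient.mk J (v₂ b) := by
        intro b
        rw [Ideal.Quotient.eq, RingHom.mem_ker, map_sub, sub_eq_zero]
        rfl
      have heq := H E hE J hJ v₁ v₂ hc₁ hc₂ hv
      have hDb : ∀ b, KaehlerDifferential.D A B b ∈ (𝔟 • ⊤ : Submodule B (Ω[B⁄A])) := by
        intro b
        have h1 := congrArg Prod.snd ((hv₁ b).symm.trans ((AlgHom.congr_fun heq b).trans (hv₂ b)))
        exact (Submodule.Quotient.mk_eq_zero _).mp h1.symm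
      have hspan : Submodule.span B (Set.range (KaehlerDifferential.D A B)) ≤
          (𝔟 • ⊤ : Submodule B (Ω[B⁄A])) := by
        rw [Submodule.span_le]
        rintro _ ⟨b, rfl⟩
        exact hDb b
      rwa [KaehlerDifferential.span_range_derivation] at hspan
    -- now the completion vanishes
    refine ⟨fun x y => ?_⟩
    apply AdicCompletion.ext
    intro n
    have hn : (⊤ : Submodule B (Ω[B⁄A])) ≤ 𝔟 ^ n • ⊤ := UnramAdic.top_le_pow_smul 𝔟 hΩ n
    have hsub : Subsingleton (Ω[B⁄A] ⧸ (𝔟 ^ n • ⊤ : Submodule B (Ω[B⁄A]))) := by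
      rw [top_le_iff.mp hn]
      infer_instance
    exact Subsingleton.elim _ _
  · intro h E _ _ hE J hJ v₁ v₂ hc₁ hc₂ hv
    have hΩ : (⊤ : Submodule B (Ω[B⁄A])) ≤ 𝔟 • ⊤ := by
      intro ω _
      have hs := AdicCompletion.eval_surjective 𝔟 (Ω[B⁄A]) 1
      have hsub : Subsingleton (Ω[B⁄A] ⧸ (𝔟 ^ 1 • ⊤ : Submodule B (Ω[B⁄A]))) :=
        hs.subsingleton
      have : (Submodule.Quotient.mk ω : Ω[B⁄A] ⧸ (𝔟 ^ 1 • ⊤ : Submodule B (Ω[B⁄A]))) = 0 :=
        Subsingleton.elim _ _
      rw [Submodule.Quotient.mk_eq_zero, pow_one] at this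
      exact this
    exact UnramAdic.eq_of_kaehler_eq_smul 𝔟 hΩ J hJ v₁ v₂ hv hc₁

end Groth.Agent.S4559
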