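import Groth.Statements.S4560
import Mathlib
import Groth.Agent.Helper2.UnramAdic
open Groth.Agent.Helper2
-- import your own Groth.Agent.* helpers here

set_option autoImplicit false
universe u
open EGA41

namespace Groth.Agent.S4560

/-- Let A be a ring, 𝔪 an ideal of A, B an A-algebra; give A the 𝔪-adic topology and B the topology
deduced from it (the 𝔪B-adic topology), and put A₀ = A/𝔪, B₀ = B/𝔪B. Then B is a formally unramified
A-algebra (for these topologies: E discrete means killed by a power of 𝔪, and continuity of maps B →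
E is then automatic) if and only if Ω_{B₀/A₀} = 0, i.e. B₀ is a formally unramified A₀-algebra. -/
theorem result {A B : Type u} [CommRing A] [CommRing B] [Algebra A B] (𝔪 : Ideal A) :
    (∀ (E : Type u) [CommRing E] [Algebra A E], (∃ k : ℕ, (𝔪 ^ k).map (algebraMap A E) = ⊥) →
      ∀ J : Ideal E, IsNilpotent J → ∀ v₁ v₂ : B →ₐ[A] E,
        (∀ b : B, Ideal.Quotient.mk J (v₁ b) = Ideal.Quotient.mk J (v₂ b)) → v₁ = v₂) ↔
    Subsingleton (Ω[B ⧸ 𝔪.map (algebraMap A B)⁄A ⧸ 𝔪]) := by
  constructor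
  · intro H
    have : Algebra.FormallyUnramified (A ⧸ 𝔪) (B ⧸ 𝔪.map (algebraMap A B)) := by
      rw [Algebra.FormallyUnramified.iff_comp_injective]
      intro C _ _ I hI g₁ g₂ e
      let algAC : Algebra A C := ((algebraMap (A ⧸ 𝔪) C).comp (Ideal.Quotient.mk 𝔪)).toAlgebra
      have tower : IsScalarTower A (A ⧸ 𝔪) C := IsScalarTower.of_algebraMap_eq (fun a => rfl)
      let π : B →ₐ[A] B ⧸ 𝔪.map (algebraMap A B) := Ideal.Quotient.mkₐ A _
      let v₁ : B →ₐ[A] C := (g₁.restrictScalars A).comp π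
      let v₂ : B →ₐ[A] C := (g₂.restrictScalars A).comp π
      have hC : ∃ k : ℕ, (𝔪 ^ k).map (algebraMap A C) = ⊥ := by
        refine ⟨1, ?_⟩
        rw [pow_one, eq_bot_iff, Ideal.map_le_iff_le_comap]
        intro a ha
        rw [Ideal.mem_comap, Ideal.mem_bot]
        show algebraMap (A ⧸ 𝔪) C (Ideal.Quotient.mk 𝔪 a) = 0
        rw [Ideal.Quotient.eq_zero_iff_mem.mpr ha, map_zero]
      have hv := H C hC I ⟨2, hI⟩ v₁ v₂ (fun b => AlgHom.congr_fun e (π b))
      ext x
      obtain ⟨b, rfl⟩ := Ideal.Quotient.mk_surjective x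
      exact AlgHom.congr_fun hv b
    exact this.1
  · intro h E _ _ hE J hJ v₁ v₂ hv
    obtain ⟨k, hk⟩ := hE
    apply UnramAdic.eq_of_kaehler_eq_smul (𝔪.map (algebraMap A B))
      (UnramAdic.top_le_smul_of_subsingleton 𝔪 h) J hJ v₁ v₂ hv
    refine ⟨k, fun x hx => ?_⟩
    rw [← Ideal.map_pow] at hx
    have hle : (𝔪 ^ k).map (algebraMap A B) ≤ RingHom.ker v₁.toRingHom := by
      rw [Ideal.map_le_iff_le_comap]
      intro a ha
      rw [Ideal.mem_comap, RingHom.mem_ker]
      show v₁ (algebraMap A B a) = 0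
      rw [AlgHom.commutes]
      have := Ideal.mem_map_of_mem (algebraMap A E) ha
      rwa [hk] at this
    exact hle hx

end Groth.Agent.S4560
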