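import Groth.Statements.S4569
import Mathlib
-- import your own Groth.Agent.* helpers here

set_option autoImplicit false
universe u
open CAlg

namespace Groth.Agent.S4569

/-- Let A be a ring, x a non-zero-divisor of A with p = xA prime. For every n > 0 the inverse image in A
of x^n A_p is x^n A. -/
theorem result {A : Type u} [CommRing A] (x : A)
    (hx : x ∈ nonZeroDivisors A) [(Ideal.span ({x} : Set A)).IsPrime] (n : ℕ) (hn : 0 < n) :
    Ideal.comap (algebraMap A (Localization.AtPrime (Ideal.span ({x} : Set A))))
      (Ideal.map (algebraMap A (Localization.AtPrime (Ideal.span ({x} : Set A)))) (Ideal.span ({x ^ n} : Set A))) =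
      Ideal.span ({x ^ n} : Set A) := by
  set p := Ideal.span ({x} : Set A) with hp
  -- key: if s ∉ p and s * a ∈ (x^n) then a ∈ (x^n)
  have key : ∀ (n : ℕ) (a s : A), s ∉ p → s * a ∈ Ideal.span ({x ^ n} : Set A) →
      a ∈ Ideal.span ({x ^ n} : Set A) := by
    intro n
    induction n with
    | zero => intro a s _ _; simp
    | succ n ih =>
      intro a s hs hsa
      rw [Ideal.mem_span_singleton'] at hsa
      obtain ⟨b, hb⟩ := hsa
      have h1 : s * a ∈ p := by
        rw [hp, Ideal.mem_span_singleton', ← hb]
        exact ⟨b * x ^ n, by ring⟩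
      have h2 : a ∈ p := (Ideal.IsPrime.mem_or_mem inferInstance h1).resolve_left hs
      rw [hp, Ideal.mem_span_singleton'] at h2
      obtain ⟨a', ha'⟩ := h2
      have h3 : s * a' = b * x ^ n := by
        have : (s * a' - b * x ^ n) * x = 0 := by
          rw [sub_mul, mul_assoc, ha', mul_assoc, ← pow_succ, hb, sub_self]
        have := (mem_nonZeroDivisors_iff_right.mp hx) _ this
        exact sub_eq_zero.mp this
      have h4 : a' ∈ Ideal.span ({x ^ n} : Set A) := by
        apply ih a' s hs
        rw [Ideal.mem_span_singleton', h3]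
        exact ⟨b, rfl⟩
      rw [Ideal.mem_span_singleton'] at h4 ⊢
      obtain ⟨c, hc⟩ := h4
      exact ⟨c, by rw [← ha', ← hc, pow_succ]; ring⟩
  apply le_antisymm
  · intro a ha
    rw [Ideal.mem_comap, IsLocalization.mem_map_algebraMap_iff p.primeCompl] at ha
    obtain ⟨⟨i, s⟩, his⟩ := ha
    rw [← map_mul, IsLocalization.eq_iff_exists p.primeCompl] at his
    obtain ⟨t, ht⟩ := his
    have hts : (t : A) * s ∉ p := fun h =>
      ((Ideal.IsPrime.mem_or_mem inferInstance h).elim t.2 s.2)
    apply key n a (t * s) hts
    have : (t : A) * s * a = t * i := by rw [← ht]; ring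
    rw [this]
    exact Ideal.mul_mem_left _ _ i.2
  · exact Ideal.le_comap_map

end Groth.Agent.S4569
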