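import Groth.Statements.S4575
import Groth.Agent.Helper2.RegSeq2
open Groth.Agent.Helper2
-- import your own Groth.Agent.* helpers here

set_option autoImplicit false
universe u
open IsLocalRing
open EGA41

namespace Groth.Agent.S4575

/-- Let R be a regular local ring with maximal ideal m and n a proper ideal with R/n regular. Then
(n/n²) ⊗_R K → (m/m²) ⊗_R K is injective, K the residue field; stated in the equivalent form n ∩ m²
= m·n (the kernel of n/mn → m/m² is (n ∩ m²)/mn). -/
theorem result {R : Type u} [CommRing R] [IsRegularLocalRing R]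
    (n : Ideal R) (hn : n ≠ ⊤) (hreg : IsRegularRing (R ⧸ n)) :
    n ⊓ maximalIdeal R ^ 2 = maximalIdeal R * n := by
  classical
  have hnm : n ≤ maximalIdeal R := IsLocalRing.le_maximalIdeal hn
  obtain ⟨hl, -⟩ := Groth.Agent.Lead.RegLocal.quotient_local hn
  have hregq : IsRegularLocalRing (R ⧸ n) := IsRegularLocalRing.of_isRegularRing_of_isLocalRing (R ⧸ n)
  obtain ⟨c, x, hxn, hli, hle⟩ := RegSeq2.exists_indep_in_ideal n hnm
  set J := Ideal.span (Set.range fun i => (x i : R)) with hJdef
  have hJn : J ≤ n := by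
    rw [hJdef, Ideal.span_le]
    rintro _ ⟨i, rfl⟩
    exact hxn i
  have hJtop : J ≠ ⊤ := fun h => hn (top_le_iff.1 (h ▸ hJn))
  obtain ⟨-, hregJ⟩ := RegSeq.quotient_regular_of_indep c x hli
  obtain ⟨hlJ, hmaxJ⟩ := Groth.Agent.Lead.RegLocal.quotient_local hJtop
  have hn' : n.map (Ideal.Quotient.mk J) ≤ maximalIdeal (R ⧸ J) ^ 2 := by
    calc n.map (Ideal.Quotient.mk J) ≤ (J ⊔ maximalIdeal R ^ 2).map (Ideal.Quotient.mk J) :=
          Ideal.map_mono hle
      _ = maximalIdeal (R ⧸ J) ^ 2 := by
          rw [Ideal.map_sup, Ideal.map_quotient_self, bot_sup_eq, Ideal.map_pow, hmaxJ]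
  have hregq' : IsRegularLocalRing ((R ⧸ J) ⧸ n.map (Ideal.Quotient.mk J)) :=
    IsRegularLocalRing.of_ringEquiv (DoubleQuot.quotQuotEquivQuotOfLE hJn).symm
  have hbot := RegSeq2.eq_bot_of_le_sq (n.map (Ideal.Quotient.mk J)) hn' hregq'
  have hnJ : n ≤ J := by
    rw [Ideal.map_eq_bot_iff_le_ker, Ideal.mk_ker] at hbot
    exact hbot
  have hnJeq : n = J := le_antisymm hnJ hJn
  apply le_antisymm
  · rintro y ⟨hyn, hym2⟩
    rw [SetLike.mem_coe, hnJeq, hJdef, Ideal.mem_span_range_iff_exists_fun] at hyn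
    obtain ⟨a, ha⟩ := hyn
    have hym : y ∈ maximalIdeal R := Ideal.pow_le_self (by norm_num) hym2
    have hsum : (∑ i, a i • x i : maximalIdeal R) = ⟨y, hym⟩ := by
      apply Subtype.ext
      show ((∑ i, a i • x i : maximalIdeal R) : R) = y
      rw [← ha]
      simp
    have h0 : (maximalIdeal R).toCotangent (∑ i, a i • x i) = 0 := by
      rw [hsum, Ideal.toCotangent_eq_zero]
      exact hym2
    rw [map_sum] at h0
    have h1 : ∑ i, (residue R (a i)) • (maximalIdeal R).toCotangent (x i) = 0 := by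
      rw [← h0]
      refine Finset.sum_congr rfl (fun i _ => ?_)
      rw [map_smul]
      rfl
    have h2 := fun i => linearIndependent_iff'.1 hli Finset.univ (fun i => residue R (a i)) h1 i
      (Finset.mem_univ i)
    rw [← ha]
    refine Ideal.sum_mem _ (fun i _ => ?_)
    exact Ideal.mul_mem_mul ((IsLocalRing.residue_eq_zero_iff _).1 (h2 i)) (hxn i)
  · apply le_inf
    · exact Ideal.mul_le_left (I := n) (J := maximalIdeal R) |> fun h => by rw [mul_comm]; exact h
    · rw [pow_two]
      exact Ideal.mul_mono_right hnm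

end Groth.Agent.S4575
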