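import Groth.Statements.S4584
import Groth.Agent.Lead.ProConsLib8

set_option autoImplicit false
universe u
open AlgebraicGeometry CategoryTheory Topology
open EGA41

namespace Groth.Agent.S4584

theorem piece_image {X : Scheme.{u}} (V₁ : X.Opens) (hV₁ : IsAffineOpen V₁) (V₂ : Set X)
    (hV₂o : IsOpen V₂) (hV₂c : IsCompact V₂) (hsub : V₂ ⊆ V₁) :
    ∃ (P : Scheme.{u}) (g : P ⟶ X), IsAffine P ∧ LocallyOfFinitePresentation g ∧
      Set.range g.base = (V₁ : Set X) \ V₂ := by
  let R := Γ(X, V₁)
  let j : Spec R ⟶ X := hV₁.fromSpec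
  have hrange : Set.range j.base = (V₁ : Set X) := hV₁.range_fromSpec
  let T : Set (PrimeSpectrum R) := j.base ⁻¹' V₂
  have hTo : IsOpen T := hV₂o.preimage j.continuous
  have hTc : IsCompact T := by
    have := j.isOpenEmbedding.isInducing.isCompact_preimage_iff (K := V₂)
      (by rw [hrange]; exact hsub)
    exact this.mpr hV₂c
  obtain ⟨t, ht⟩ := PrimeSpectrum.isCompact_isOpen_iff.mp ⟨hTc, hTo⟩
  let I : Ideal R := Ideal.span (t : Set R)
  have hfp : (Ideal.Quotient.mk I).FinitePresentation := by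
    apply RingHom.FinitePresentation.of_surjective _ Ideal.Quotient.mk_surjective
    rw [Ideal.mk_ker]
    exact ⟨t, rfl⟩
  refine ⟨Spec (CommRingCat.of (R ⧸ I)),
    Spec.map (CommRingCat.ofHom (Ideal.Quotient.mk I)) ≫ j, inferInstance, ?_, ?_⟩
  · haveI : LocallyOfFinitePresentation (Spec.map (CommRingCat.ofHom (Ideal.Quotient.mk I))) := by
      rw [HasRingHomProperty.Spec_iff (P := @LocallyOfFinitePresentation)]
      exact hfp
    infer_instance
  · have h1 : Set.range (Spec.map (CommRingCat.ofHom (Ideal.Quotient.mk I))).base = Tᶜ := by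
      have := _root_.range_comap_of_surjective _ (Ideal.Quotient.mk I)
        Ideal.Quotient.mk_surjective
      rw [Ideal.mk_ker, PrimeSpectrum.zeroLocus_span] at this
      rw [← ht, compl_compl]
      exact this
    rw [Scheme.Hom.comp_base, TopCat.coe_comp, Set.range_comp, h1]
    ext y
    constructor
    · rintro ⟨a, ha, rfl⟩
      exact ⟨hrange ▸ Set.mem_range_self a, ha⟩
    · rintro ⟨hy1, hy2⟩
      rw [← hrange] at hy1
      obtain ⟨a, rfl⟩ := hy1
      exact ⟨a, hy2, rfl⟩

theorem aux (X : Scheme.{u}) [CompactSpace X]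
    [QuasiSeparatedSpace X] (Z : Set X) (hZ : IsConstructible Z) :
    ∃ (X' : Scheme.{u}) (f : X' ⟶ X), IsAffine X' ∧ LocallyOfFinitePresentation f ∧ QuasiCompact f ∧
      QuasiSeparated f ∧ Set.range f.base = Z := by
  classical
  have hind : ProCons.IsIndConstructible Z :=
    Groth.Agent.Lead.ProConsLib.ind_of_isLocallyConstructible hZ.isLocallyConstructible
  have hpro : ProCons.IsProConstructible Z :=
    Groth.Agent.Lead.ProConsLib.pro_of_isLocallyConstructible hZ.isLocallyConstructible
  have key : ∀ z : Z, ∃ (P : Scheme.{u}) (g : P ⟶ X), IsAffine P ∧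
      LocallyOfFinitePresentation g ∧ (z : X) ∈ Set.range g.base ∧ Set.range g.base ⊆ Z := by
    intro z
    obtain ⟨V₁, V₂, h1, h2, h3, h4, h5, h6, h7⟩ :=
      Groth.Agent.Lead.ProConsLib.ind_pieces hind z.1 z.2
    obtain ⟨P, g, hP, hg, hr⟩ := piece_image V₁ h1 V₂ h2 h3 h4
    exact ⟨P, g, hP, hg, hr ▸ ⟨h5, h6⟩, hr ▸ h7⟩
  choose P g hP hg hz hsub using key
  have hEind : ∀ z : Z, ProCons.IsIndConstructible (Set.range (g z).base) := by
    intro z
    have := Groth.Agent.Lead.ProConsLib.ind_image (g z)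
      (Groth.Agent.Lead.ProConsLib.ind_of_isLocallyConstructible IsLocallyConstructible.univ)
    rwa [Set.image_univ] at this
  obtain ⟨J, hJ⟩ := Groth.Agent.Lead.ProConsLib.exists_finite_subcover hpro
    (fun z : Z => Set.range (g z).base) hEind
    (fun z hz' => Set.mem_iUnion.mpr ⟨⟨z, hz'⟩, hz ⟨z, hz'⟩⟩)
  haveI : ∀ i : J, IsAffine (P i.1) := fun i => hP i.1
  refine ⟨∐ (fun i : J => P i.1), Limits.Sigma.desc (fun i : J => g i.1), inferInstance,
    IsZariskiLocalAtSource.sigmaDesc (fun i => hg i.1), inferInstance, inferInstance, ?_⟩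
  apply Set.Subset.antisymm
  · rintro _ ⟨w, rfl⟩
    obtain ⟨i, b, rfl⟩ := (sigmaOpenCover (fun i : J => P i.1)).exists_eq w
    have h1 : (Limits.Sigma.desc (fun i : J => g i.1)).base
        ((Limits.Sigma.ι (fun i : J => P i.1) i).base b) = (g i.1).base b := by
      rw [← Scheme.Hom.comp_apply, Limits.Sigma.ι_desc]
    change (Limits.Sigma.desc (fun i : J => g i.1)).base
        ((Limits.Sigma.ι (fun i : J => P i.1) i).base b) ∈ Z
    rw [h1]
    exact hsub i.1 ⟨b, rfl⟩
  · intro y hy
    have := hJ hy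
    simp only [Set.mem_iUnion, exists_prop] at this
    obtain ⟨z, hzJ, b, hb⟩ := this
    refine ⟨(Limits.Sigma.ι (fun i : J => P i.1) ⟨z, hzJ⟩).base b, ?_⟩
    rw [← Scheme.Hom.comp_apply, Limits.Sigma.ι_desc]
    exact hb

/-- Given a scheme X that is quasi-compact and quasi-separated, together with a constructible subset Z
of X, one can find an affine scheme X' with a morphism X' → X of finite presentation whose image
equals Z. -/
theorem result (X : Scheme.{u}) [CompactSpace X]
    [QuasiSeparatedSpace X] (Z : Set X) (hZ : IsConstructible Z) :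
    ∃ (X' : Scheme.{u}) (f : X' ⟶ X), IsAffine X' ∧ LocallyOfFinitePresentation f ∧ QuasiCompact f ∧
      QuasiSeparated f ∧ Set.range f.base = Z := by
  exact aux X Z hZ

end Groth.Agent.S4584
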