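import Groth.Statements.S4585
import Groth.Agent.Lead.GoodImage2
import Mathlib

set_option autoImplicit false
universe u
open AlgebraicGeometry CategoryTheory
open EGA41

namespace Groth.Agent.S4585

theorem aux {X Y : Scheme.{u}} (f : X ⟶ Y)
    [LocallyOfFiniteType f] [IrreducibleSpace Y] (h : genericPoint Y ∈ Set.range f.base) :
    genericPoint Y ∈ interior (Set.range f.base) := by
  obtain ⟨x, hx⟩ := h
  -- affine opens
  obtain ⟨_, ⟨V, hV, rfl⟩, hηV, -⟩ :=
    Y.isBasis_affineOpens.exists_subset_of_mem_open (Set.mem_univ (f x)) isOpen_univ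
  obtain ⟨_, ⟨U, hU, rfl⟩, hxU, hUV⟩ :=
    X.isBasis_affineOpens.exists_subset_of_mem_open (show x ∈ (f ⁻¹ᵁ V : Set X) from hηV)
      (f ⁻¹ᵁ V).2
  have e : U ≤ f ⁻¹ᵁ V := hUV
  let φ := f.appLE V U e
  have hft : φ.hom.FiniteType := f.finiteType_appLE hV hU e
  letI : Algebra Γ(Y, V) Γ(X, U) := φ.hom.toAlgebra
  haveI : Algebra.FiniteType Γ(Y, V) Γ(X, U) := hft
  have hsq : Spec.map φ ≫ hV.fromSpec = hU.fromSpec ≫ f := IsAffineOpen.SpecMap_appLE_fromSpec f hV hU e
  have hsq' : ∀ P : PrimeSpectrum Γ(X, U),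
      f (hU.fromSpec P) = hV.fromSpec (PrimeSpectrum.comap φ.hom P) := by
    intro P
    have := congrArg (fun k => k P) hsq
    exact this.symm
  let y : PrimeSpectrum Γ(X, U) := hU.primeIdealOf ⟨x, hxU⟩
  have hy : hU.fromSpec y = x := hU.fromSpec_primeIdealOf ⟨x, hxU⟩
  obtain ⟨u, hu, Hu⟩ := Groth.Agent.Lead.GoodImage.exists_basicOpen_subset_image
    (R := Γ(Y, V)) (S := Γ(X, U)) y 1 (fun h1 => y.2.ne_top ((Ideal.eq_top_iff_one _).mpr h1))
  let ξ : PrimeSpectrum Γ(Y, V) := PrimeSpectrum.comap φ.hom y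
  have hξ : hV.fromSpec ξ = genericPoint Y := by
    rw [← hx, ← hy]; exact (hsq' y).symm
  have hgen : ∀ z : PrimeSpectrum Γ(Y, V), ξ ⤳ z := by
    intro z
    have hemb : Topology.IsInducing hV.fromSpec := hV.fromSpec.isOpenEmbedding.isInducing
    have h1 : hV.fromSpec ξ ⤳ hV.fromSpec z := by
      rw [hξ]
      exact genericPoint_specializes _
    exact hemb.specializes_iff.mp h1
  let W : Set Y := hV.fromSpec '' (PrimeSpectrum.basicOpen u : Set (PrimeSpectrum Γ(Y, V)))
  have hWo : IsOpen W := hV.fromSpec.isOpenEmbedding.isOpenMap _ (PrimeSpectrum.basicOpen u).2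
  rw [mem_interior]
  refine ⟨W, ?_, hWo, ?_⟩
  · rintro _ ⟨z, hz, rfl⟩
    obtain ⟨y', -, -, hy'⟩ := Hu z (hgen z) hz
    refine ⟨hU.fromSpec y', ?_⟩
    rw [← hy']
    exact hsq' y'
  · exact ⟨ξ, hu, hξ⟩

/-- Let Y be an irreducible scheme with generic point η and f : X → Y locally of finite type with
nonempty fibre over η. Then some open neighbourhood of η is contained in f(X). (The second
assertion, on fibres of a quasi-coherent module of finite type, is not stated.) -/
theorem result {X Y : Scheme.{u}} (f : X ⟶ Y)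
    [LocallyOfFiniteType f] [IrreducibleSpace Y] (h : genericPoint Y ∈ Set.range f.base) :
    genericPoint Y ∈ interior (Set.range f.base) := by
  exact aux f h

end Groth.Agent.S4585
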