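import Groth.Statements.S4586
import Groth.Agent.Lead.ProConsLib6

set_option autoImplicit false
universe u
open AlgebraicGeometry CategoryTheory Topology
open EGA41

namespace Groth.Agent.S4586

theorem aux {X Y : Scheme.{u}} (f : X ⟶ Y) [Surjective f]
    (hf : QuasiCompact f ∨ LocallyOfFinitePresentation f) (E : Set Y) :
    (IsLocallyConstructible E ↔ IsLocallyConstructible (f.base ⁻¹' E)) ∧
    (ProCons.IsProConstructible E ↔ ProCons.IsProConstructible (f.base ⁻¹' E)) ∧
    (ProCons.IsIndConstructible E ↔ ProCons.IsIndConstructible (f.base ⁻¹' E)) := by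
  have hsurj : Function.Surjective f.base := f.surjective
  have himg : ∀ T : Set Y, f.base '' (f.base ⁻¹' T) = T :=
    fun T => Set.image_preimage_eq T hsurj
  have hpro : ProCons.IsProConstructible E ↔ ProCons.IsProConstructible (f.base ⁻¹' E) := by
    refine ⟨Groth.Agent.Helper7.PC.pro_preimage f E, fun h => ?_⟩
    rcases hf with hf | hf
    · rw [← himg E]
      exact Groth.Agent.Lead.ProConsLib.pro_image f h
    · rw [Groth.Agent.Lead.ProConsLib.pro_iff_ind_compl] at h ⊢
      rw [← himg Eᶜ]
      exact Groth.Agent.Lead.ProConsLib.ind_image f h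
  have hind : ProCons.IsIndConstructible E ↔ ProCons.IsIndConstructible (f.base ⁻¹' E) := by
    refine ⟨Groth.Agent.Helper7.PC.ind_preimage f E, fun h => ?_⟩
    rcases hf with hf | hf
    · rw [Groth.Agent.Lead.ProConsLib.ind_iff_pro_compl] at h ⊢
      rw [← himg Eᶜ]
      exact Groth.Agent.Lead.ProConsLib.pro_image f h
    · rw [← himg E]
      exact Groth.Agent.Lead.ProConsLib.ind_image f h
  refine ⟨?_, hpro, hind⟩
  rw [Groth.Agent.Lead.ProConsLib.isLocallyConstructible_iff_ind_and_pro,
    Groth.Agent.Lead.ProConsLib.isLocallyConstructible_iff_ind_and_pro, hpro, hind]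

/-- Let f : X → Y be surjective and either quasi-compact or locally of finite presentation, E ⊆ Y. Then
E is locally constructible (resp. pro-constructible, resp. ind-constructible) if and only if f⁻¹(E)
is. -/
theorem result {X Y : Scheme.{u}} (f : X ⟶ Y) [Surjective f]
    (hf : QuasiCompact f ∨ LocallyOfFinitePresentation f) (E : Set Y) :
    (IsLocallyConstructible E ↔ IsLocallyConstructible (f.base ⁻¹' E)) ∧
    (ProCons.IsProConstructible E ↔ ProCons.IsProConstructible (f.base ⁻¹' E)) ∧
    (ProCons.IsIndConstructible E ↔ ProCons.IsIndConstructible (f.base ⁻¹' E)) := by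
  exact aux f hf E

end Groth.Agent.S4586
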