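import Groth.Statements.S4587
import Mathlib.AlgebraicGeometry.Properties

set_option autoImplicit false
universe u
open AlgebraicGeometry CategoryTheory
open EGA41

namespace Groth.Agent.S4587

theorem top_aux {A B : Type*} [TopologicalSpace A] [TopologicalSpace B] [QuasiSober A] [T0Space A]
    [QuasiSober B] [T0Space B] (g : A → B) (hg : Continuous g) :
    GeneralizingMap g ↔
      ∀ Y' : Set B, IsClosed Y' → IsIrreducible Y' →
        ∀ Z ∈ irreducibleComponents ↥(g ⁻¹' Y'), closure (g '' (Subtype.val '' Z)) = Y' := by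
  constructor
  · intro hgen Y' hY'c hY'i Z hZ
    have hW : IsClosed (g ⁻¹' Y') := hY'c.preimage hg
    have hZc : IsClosed Z := isClosed_of_mem_irreducibleComponents Z hZ
    have hZ'c : IsClosed (Subtype.val '' Z : Set A) :=
      hW.isClosedEmbedding_subtypeVal.isClosedMap Z hZc
    have hZ'i : IsIrreducible (Subtype.val '' Z : Set A) :=
      hZ.1.image Subtype.val continuous_subtype_val.continuousOn
    obtain ⟨ξ, hξ⟩ := QuasiSober.sober hZ'i hZ'c
    obtain ⟨η', hη'⟩ := QuasiSober.sober hY'i hY'c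
    have hξZ' : ξ ∈ (Subtype.val '' Z : Set A) := by rw [← hξ.def]; exact subset_closure rfl
    have hsub : g '' (Subtype.val '' Z) ⊆ Y' := by
      rintro _ ⟨_, ⟨z, _, rfl⟩, rfl⟩
      exact z.2
    have hgξ : g ξ ∈ Y' := hsub ⟨ξ, hξZ', rfl⟩
    have hsp : η' ⤳ g ξ := by
      rw [specializes_iff_mem_closure, hη'.def]; exact hgξ
    obtain ⟨ξ', hξ'sp, hξ'⟩ := hgen hsp
    have hξ'W : ξ' ∈ g ⁻¹' Y' := by
      rw [Set.mem_preimage, hξ', ← hη'.def]; exact subset_closure rfl
    -- the irreducible set T = closure {ξ'} in W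
    let T : Set ↥(g ⁻¹' Y') := closure {⟨ξ', hξ'W⟩}
    have hTi : IsIrreducible T := isIrreducible_singleton.closure
    have hZT : Z ≤ T := by
      intro z hz
      have h1 : (z : A) ∈ closure {ξ} := by rw [hξ.def]; exact ⟨z, hz, rfl⟩
      have h2 : ξ' ⤳ (z : A) := hξ'sp.trans (specializes_iff_mem_closure.mpr h1)
      have h3 : (⟨ξ', hξ'W⟩ : ↥(g ⁻¹' Y')) ⤳ z :=
        (Topology.IsInducing.subtypeVal.specializes_iff).mp h2
      exact specializes_iff_mem_closure.mp h3
    have hTZ : T ≤ Z := hZ.2 hTi hZT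
    have hξ'Z : (⟨ξ', hξ'W⟩ : ↥(g ⁻¹' Y')) ∈ Z := hTZ (subset_closure rfl)
    have hη'mem : η' ∈ g '' (Subtype.val '' Z) := ⟨ξ', ⟨_, hξ'Z, rfl⟩, hξ'⟩
    apply le_antisymm
    · exact hY'c.closure_subset_iff.mpr hsub
    · calc Y' = closure {η'} := hη'.def.symm
        _ ⊆ closure (g '' (Subtype.val '' Z)) :=
          closure_mono (Set.singleton_subset_iff.mpr hη'mem)
  · intro H a b hb
    let Y' : Set B := closure {b}
    have hY'c : IsClosed Y' := isClosed_closure
    have hY'i : IsIrreducible Y' := isIrreducible_singleton.closure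
    have haW : a ∈ g ⁻¹' Y' := specializes_iff_mem_closure.mp hb
    have hW : IsClosed (g ⁻¹' Y') := hY'c.preimage hg
    let Z : Set ↥(g ⁻¹' Y') := irreducibleComponent (⟨a, haW⟩ : ↥(g ⁻¹' Y'))
    have hZ : Z ∈ irreducibleComponents ↥(g ⁻¹' Y') := irreducibleComponent_mem_irreducibleComponents _
    have hcl := H Y' hY'c hY'i Z hZ
    have hZc : IsClosed Z := isClosed_of_mem_irreducibleComponents Z hZ
    have hZ'c : IsClosed (Subtype.val '' Z : Set A) :=
      hW.isClosedEmbedding_subtypeVal.isClosedMap Z hZc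
    have hZ'i : IsIrreducible (Subtype.val '' Z : Set A) :=
      hZ.1.image Subtype.val continuous_subtype_val.continuousOn
    obtain ⟨ξ, hξ⟩ := QuasiSober.sober hZ'i hZ'c
    have haZ' : a ∈ (Subtype.val '' Z : Set A) := ⟨⟨a, haW⟩, mem_irreducibleComponent, rfl⟩
    have hξa : ξ ⤳ a := by rw [specializes_iff_mem_closure, hξ.def]; exact haZ'
    refine ⟨ξ, hξa, ?_⟩
    have h1 : closure (g '' (Subtype.val '' Z)) = closure {g ξ} := by
      apply le_antisymm
      · apply closure_minimal _ isClosed_closure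
        rw [← hξ.def]
        calc g '' closure {ξ} ⊆ closure (g '' {ξ}) := image_closure_subset_closure_image hg
          _ = closure {g ξ} := by rw [Set.image_singleton]
      · apply closure_mono
        rw [Set.singleton_subset_iff]
        refine ⟨ξ, ?_, rfl⟩
        rw [← hξ.def]; exact subset_closure rfl
    have h2 : closure {g ξ} = closure {b} := h1.symm.trans hcl
    exact ((inseparable_iff_closure_eq).mpr h2).eq

theorem aux {X Y : Scheme.{u}} (f : X ⟶ Y) :
    GeneralizingMap f.base ↔
      ∀ Y' : Set Y, IsClosed Y' → IsIrreducible Y' →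
        ∀ Z ∈ irreducibleComponents ↥(f.base ⁻¹' Y'), closure (f.base '' (Subtype.val '' Z)) = Y' := by
  exact top_aux f.base f.continuous

/-- A morphism of schemes f : X → Y is generizing if and only if, for every irreducible closed subset Y'
of Y, each irreducible component of f⁻¹(Y') has dense image in Y'. -/
theorem result {X Y : Scheme.{u}} (f : X ⟶ Y) :
    GeneralizingMap f.base ↔
      ∀ Y' : Set Y, IsClosed Y' → IsIrreducible Y' →
        ∀ Z ∈ irreducibleComponents ↥(f.base ⁻¹' Y'), closure (f.base '' (Subtype.val '' Z)) = Y' := by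
  exact aux f

end Groth.Agent.S4587
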