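import Groth.Statements.S4590
import Mathlib
import Groth.Agent.Helper2.FFInt
open Groth.Agent.Helper2
-- import your own Groth.Agent.* helpers here

set_option autoImplicit false
universe u
open CAlg

namespace Groth.Agent.S4590

/-- Let A be a domain with fraction field K, B a faithfully flat A-algebra, C = B_red and R the total
ring of fractions of C. Then A → C is injective with nonzero elements going to non-zero-divisors, so
that K embeds in R, and an element of K is integral over C in R if and only if it is integral over
A. -/
theorem result {A B : Type u} [CommRing A] [IsDomain A]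
    [CommRing B] [Algebra A B] [Module.FaithfullyFlat A B] :
    Function.Injective (algebraMap A (B ⧸ nilradical B)) ∧
    (∀ a : A, a ≠ 0 → algebraMap A (B ⧸ nilradical B) a ∈ nonZeroDivisors (B ⧸ nilradical B)) ∧
    ∀ (R : Type u) [CommRing R] [Algebra (B ⧸ nilradical B) R] [IsFractionRing (B ⧸ nilradical B) R]
      [Algebra A R] [IsScalarTower A (B ⧸ nilradical B) R] [Algebra (FractionRing A) R]
      [IsScalarTower A (FractionRing A) R] (x : FractionRing A),
      IsIntegral (B ⧸ nilradical B) (algebraMap (FractionRing A) R x) ↔ IsIntegral A x := by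
  have hAB : Function.Injective (algebraMap A B) := FaithfulSMul.algebraMap_injective A B
  have hmk : ∀ a : A, algebraMap A (B ⧸ nilradical B) a = Ideal.Quotient.mk _ (algebraMap A B a) :=
    fun a => rfl
  have hreg : ∀ a : A, a ≠ 0 → ∀ b : B, algebraMap A B a * b = 0 → b = 0 := by
    intro a ha b hb
    have h1 : IsSMulRegular A a := (IsRegular.of_ne_zero ha).left.isSMulRegular
    have h2 : IsSMulRegular B (algebraMap A B a) := h1.of_flat
    apply h2
    simpa using hb
  refine ⟨?_, ?_, ?_⟩
  · rw [injective_iff_map_eq_zero]
    intro a ha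
    rw [hmk, Ideal.Quotient.eq_zero_iff_mem, mem_nilradical] at ha
    obtain ⟨k, hk⟩ := ha
    rw [← map_pow] at hk
    have : a ^ k = 0 := hAB (by rw [hk, map_zero])
    exact pow_eq_zero_iff (n := k) (by rintro rfl; simp at this) |>.mp this
  · intro a ha
    rw [mem_nonZeroDivisors_iff_right]
    intro c hc
    obtain ⟨b, rfl⟩ := Ideal.Quotient.mk_surjective c
    rw [hmk, ← map_mul, Ideal.Quotient.eq_zero_iff_mem, mem_nilradical] at hc
    obtain ⟨k, hk⟩ := hc
    rw [mul_pow, mul_comm, ← map_pow] at hk
    have := hreg (a ^ k) (pow_ne_zero _ ha) _ hk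
    rw [Ideal.Quotient.eq_zero_iff_mem, mem_nilradical]
    exact ⟨k, this⟩
  · intro R _ _ _ _ _ _ _ x
    constructor
    · intro hx
      obtain ⟨a, s, hs, rfl⟩ := IsFractionRing.div_surjective (A := A) x
      have hs0 : s ≠ 0 := nonZeroDivisors.ne_zero hs
      have hsK : algebraMap A (FractionRing A) s ≠ 0 := by
        simpa using hs0
      have hinj : Function.Injective (algebraMap (B ⧸ nilradical B) R) :=
        IsFractionRing.injective _ _
      have hy : algebraMap (B ⧸ nilradical B) R (Ideal.Quotient.mk _ (algebraMap A B s)) *
          algebraMap (FractionRing A) R (algebraMap A (FractionRing A) a / algebraMap A (FractionRing A) s)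
          = algebraMap (B ⧸ nilradical B) R (Ideal.Quotient.mk _ (algebraMap A B a)) := by
        rw [← hmk, ← hmk, ← IsScalarTower.algebraMap_apply, ← IsScalarTower.algebraMap_apply,
          IsScalarTower.algebraMap_apply A (FractionRing A) R s,
          IsScalarTower.algebraMap_apply A (FractionRing A) R a, ← map_mul]
        congr 1
        field_simp
      obtain ⟨u, hun, hPu⟩ := FFInt.exists_nilpotent_P hinj _ _ _ hy hx
      obtain ⟨m, hm⟩ := FFInt.pow_mem_of_nilpotent hPu hun
      have hm' : a ^ (m + 1) ∈ Ideal.span {s} * (Ideal.span {a, s}) ^ m := by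
        rw [← Ideal.comap_map_eq_self_of_faithfullyFlat (B := B) (Ideal.span {s} * (Ideal.span {a, s}) ^ m)]
        rw [Ideal.mem_comap, Ideal.map_mul, Ideal.map_pow, Ideal.map_span, Ideal.map_span, map_pow]
        simpa [Set.image_pair] using hm
      exact FFInt.isIntegral_div_of_pow_mem a s hsK m hm'
    · intro hx
      have h1 : IsIntegral A (algebraMap (FractionRing A) R x) :=
        hx.map (IsScalarTower.toAlgHom A (FractionRing A) R)
      exact h1.tower_top

end Groth.Agent.S4590
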