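import Groth.Statements.S4593
-- import your own Groth.Agent.* helpers here

set_option autoImplicit false
universe u
open CategoryTheory CategoryTheory.Limits AlgebraicGeometry
open EGA41

namespace Groth.Agent.S4593

/-- Let B be a ring, (A_i) a filtered system of B-algebras with colimit A. The image of Spec A in Spec B
is the intersection of the images of the Spec A_i. -/
theorem result {I : Type u} [SmallCategory I] [IsFiltered I]
    (B : CommRingCat.{u}) (D : I ⥤ CommRingCat.{u}) (s : (Functor.const I).obj B ⟶ D) (c : Cocone D)
    (hc : IsColimit c) (i₀ : I) :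
    Set.range (Spec.map (s.app i₀ ≫ c.ι.app i₀)).base = ⋂ i : I, Set.range (Spec.map (s.app i)).base := by
  -- the structure map B → colimit does not depend on the index
  have hmor : ∀ {i k : I} (f : i ⟶ k), s.app i ≫ D.map f = s.app k := by
    intro i k f
    have := s.naturality f
    simp only [Functor.const_obj_obj, Functor.const_obj_map, Category.id_comp] at this
    exact this.symm
  have hindep : ∀ i : I, s.app i ≫ c.ι.app i = s.app i₀ ≫ c.ι.app i₀ := by
    intro i
    let k := IsFiltered.max i i₀
    have h1 : s.app i ≫ c.ι.app i = s.app k ≫ c.ι.app k := by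
      rw [← c.w (IsFiltered.leftToMax i i₀), ← Category.assoc, hmor]
    have h2 : s.app i₀ ≫ c.ι.app i₀ = s.app k ≫ c.ι.app k := by
      rw [← c.w (IsFiltered.rightToMax i i₀), ← Category.assoc, hmor]
    rw [h1, h2]
  have hrange : ∀ (R S : CommRingCat.{u}) (f : R ⟶ S),
      Set.range (Spec.map f).base = Set.range (PrimeSpectrum.comap f.hom) := by
    intro R S f
    rfl
  apply Set.Subset.antisymm
  · rintro _ ⟨x, rfl⟩
    rw [Set.mem_iInter]
    intro i
    rw [← hindep i, Spec.map_comp]
    exact ⟨(Spec.map (c.ι.app i)).base x, rfl⟩
  · intro p hp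
    rw [Set.mem_iInter] at hp
    rw [hrange]
    let p' : PrimeSpectrum B := p
    let φ : B →+* c.pt := (s.app i₀ ≫ c.ι.app i₀).hom
    have hp' : ∀ i : I, p' ∈ Set.range (PrimeSpectrum.comap (s.app i).hom) := by
      intro i
      have := hp i
      rw [hrange] at this
      exact this
    change p' ∈ Set.range (PrimeSpectrum.comap φ)
    rw [PrimeSpectrum.mem_range_comap_iff]
    apply le_antisymm _ Ideal.le_comap_map
    intro b hb
    rw [Ideal.mem_comap] at hb
    -- φ b is a finite combination Σ a_k φ(p_k)
    have hφi : ∀ i : I, ∀ x : B, φ x = (c.ι.app i).hom ((s.app i).hom x) := by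
      intro i x
      have := hindep i
      have h2 := congrArg (fun f => f.hom x) this
      simp only [CommRingCat.hom_comp, RingHom.coe_comp, Function.comp_apply] at h2
      exact h2.symm
    -- key: elements of the extended ideal come from a finite stage
    have key : ∀ y ∈ p'.asIdeal.map φ, ∃ (i : I) (z : D.obj i), z ∈ p'.asIdeal.map (s.app i).hom ∧
        (c.ι.app i).hom z = y := by
      intro y hy
      induction hy using Submodule.span_induction with
      | mem y hy =>
        obtain ⟨x, hx, rfl⟩ := hy
        exact ⟨i₀, (s.app i₀).hom x, Ideal.mem_map_of_mem _ hx, (hφi i₀ x).symm⟩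
      | zero => exact ⟨i₀, 0, zero_mem _, map_zero _⟩
      | add y y' _ _ hy hy' =>
        obtain ⟨i, z, hz, rfl⟩ := hy
        obtain ⟨i', z', hz', rfl⟩ := hy'
        let k := IsFiltered.max i i'
        refine ⟨k, (D.map (IsFiltered.leftToMax i i')).hom z + (D.map (IsFiltered.rightToMax i i')).hom z', ?_, ?_⟩
        · refine add_mem ?_ ?_
          · have : p'.asIdeal.map (s.app k).hom = (p'.asIdeal.map (s.app i).hom).map (D.map (IsFiltered.leftToMax i i')).hom := by
              rw [Ideal.map_map, ← CommRingCat.hom_comp, hmor]
            rw [this]; exact Ideal.mem_map_of_mem _ hz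
          · have : p'.asIdeal.map (s.app k).hom = (p'.asIdeal.map (s.app i').hom).map (D.map (IsFiltered.rightToMax i i')).hom := by
              rw [Ideal.map_map, ← CommRingCat.hom_comp, hmor]
            rw [this]; exact Ideal.mem_map_of_mem _ hz'
        · rw [map_add]
          congr 1
          · have := c.w (IsFiltered.leftToMax i i')
            exact congrArg (fun f => f.hom z) this
          · have := c.w (IsFiltered.rightToMax i i')
            exact congrArg (fun f => f.hom z') this
      | smul a y _ hy =>
        obtain ⟨i, z, hz, rfl⟩ := hy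
        obtain ⟨i', a', rfl⟩ := Concrete.isColimit_exists_rep D hc a
        let k := IsFiltered.max i i'
        refine ⟨k, (D.map (IsFiltered.rightToMax i i')).hom a' * (D.map (IsFiltered.leftToMax i i')).hom z, ?_, ?_⟩
        · apply Ideal.mul_mem_left
          have : p'.asIdeal.map (s.app k).hom = (p'.asIdeal.map (s.app i).hom).map (D.map (IsFiltered.leftToMax i i')).hom := by
            rw [Ideal.map_map, ← CommRingCat.hom_comp, hmor]
          rw [this]; exact Ideal.mem_map_of_mem _ hz
        · rw [map_mul, smul_eq_mul]
          congr 1
          · have := c.w (IsFiltered.rightToMax i i')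
            exact congrArg (fun f => f.hom a') this
          · have := c.w (IsFiltered.leftToMax i i')
            exact congrArg (fun f => f.hom z) this
    obtain ⟨i, z, hz, hzb⟩ := key _ hb
    -- equality in the colimit gives equality at a later stage
    rw [hφi i b] at hzb
    obtain ⟨k, f, g, hfg⟩ := Concrete.isColimit_exists_of_rep_eq D hc z ((s.app i).hom b) hzb
    have hmem : (s.app k).hom b ∈ p'.asIdeal.map (s.app k).hom := by
      have e1 : (s.app k).hom b = (D.map g).hom ((s.app i).hom b) := by
        have := hmor g
        exact (congrArg (fun f => f.hom b) this).symm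
      rw [e1]
      have e2 : (D.map g).hom ((s.app i).hom b) = (D.map f).hom z := hfg.symm
      rw [e2]
      have : p'.asIdeal.map (s.app k).hom = (p'.asIdeal.map (s.app i).hom).map (D.map f).hom := by
        rw [Ideal.map_map, ← CommRingCat.hom_comp, hmor]
      rw [this]; exact Ideal.mem_map_of_mem _ hz
    have := (PrimeSpectrum.mem_range_comap_iff (s.app k).hom).mp (hp' k)
    rw [← this]
    exact hmem

end Groth.Agent.S4593
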