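import Groth.Statements.S4596
import Mathlib
-- import your own Groth.Agent.* helpers here

set_option autoImplicit false
universe u
open AlgebraicGeometry CategoryTheory
open EGA41

namespace Groth.Agent.S4596

/-- If g ∘ f is quasi-compact and f is surjective then g is quasi-compact. -/
theorem result {X Y Z : Scheme.{u}} (f : X ⟶ Y) (g : Y ⟶ Z)
    [QuasiCompact (f ≫ g)] [Surjective f] : QuasiCompact g := by
  rw [quasiCompact_iff_forall_isAffineOpen]
  intro U hU
  have h1 : IsCompact ((f ≫ g) ⁻¹ᵁ U : Set X) :=
    (quasiCompact_iff_forall_isAffineOpen.mp inferInstance) U hU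
  have h2 : (g ⁻¹ᵁ U : Set Y) = f.base '' ((f ≫ g) ⁻¹ᵁ U : Set X) := by
    ext y
    constructor
    · intro hy
      obtain ⟨x, rfl⟩ := f.surjective y
      exact ⟨x, by simpa using hy, rfl⟩
    · rintro ⟨x, hx, rfl⟩
      simpa using hx
  rw [h2]
  exact h1.image f.continuous

end Groth.Agent.S4596
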