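import Groth.Statements.S4597
import Mathlib
open CategoryTheory.Limits
-- import your own Groth.Agent.* helpers here

set_option autoImplicit false
universe u
open AlgebraicGeometry CategoryTheory CategoryTheory.Limits
open EGA41

namespace Groth.Agent.S4597

/-- Let f : X → Y, g : Y' → Y and f' : X ×_Y Y' → Y' the base change. If g is quasi-compact surjective
and f' quasi-compact, f is quasi-compact; if g is surjective and f' dominant, f is dominant. -/
theorem result {X Y Y' : Scheme.{u}} (f : X ⟶ Y)
    (g : Y' ⟶ Y) [Surjective g] :
    (QuasiCompact g → QuasiCompact (pullback.snd f g) → QuasiCompact f) ∧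
    (IsDominant (pullback.snd f g) → IsDominant f) := by
  constructor
  · intro hg hf'
    rw [quasiCompact_iff]
    intro U hU hUc
    have h1 : IsCompact (g ⁻¹' U) := hg.isCompact_preimage U hU hUc
    have h2 : IsCompact ((pullback.snd f g) ⁻¹' (g ⁻¹' U)) :=
      hf'.isCompact_preimage _ (hU.preimage g.continuous) h1
    have h3 : (pullback.snd f g) ⁻¹' (g ⁻¹' U) = (pullback.fst f g) ⁻¹' (f ⁻¹' U) := by
      ext z
      simp only [Set.mem_preimage]
      rw [← Scheme.Hom.comp_apply, ← Scheme.Hom.comp_apply, pullback.condition]
    have h4 : Function.Surjective (pullback.fst f g) := (pullback.fst f g).surjective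
    rw [← Set.image_preimage_eq (f ⁻¹' U) h4, ← h3]
    exact h2.image (pullback.fst f g).continuous
  · intro hf'
    constructor
    have h1 : DenseRange (pullback.snd f g) := (pullback.snd f g).denseRange
    have h2 : DenseRange (g ∘ pullback.snd f g) := g.surjective.denseRange.comp h1 g.continuous
    refine Dense.mono ?_ h2
    rintro _ ⟨z, rfl⟩
    refine ⟨pullback.fst f g z, ?_⟩
    simp only [Function.comp_apply]
    rw [← Scheme.Hom.comp_apply, ← Scheme.Hom.comp_apply, pullback.condition]

end Groth.Agent.S4597
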