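import Groth.Statements.S4600
import Groth.Agent.Helper4.FPAlgDescent
import Mathlib

set_option autoImplicit false
universe u
open CategoryTheory CategoryTheory.Limits TensorProduct
open EGA41

namespace Groth.Agent.S4600


/-- Let (A_i) be a filtered system of rings with colimit A and B a finitely presented A-algebra. Then
some stage A_i carries a finitely presented algebra B_i with B isomorphic to A ⊗_{A_i} B_i as
A-algebras (existence of an isomorphism; the base change is along the colimit map A_i → A). -/
theorem result {I : Type u} [SmallCategory I] [IsFiltered I]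
    (D : I ⥤ CommRingCat.{u}) (c : Cocone D) (hc : IsColimit c) (B : Type u) [CommRing B] [Algebra c.pt B]
    [Algebra.FinitePresentation c.pt B] :
    ∃ (i : I) (Bi : Type u) (_ : CommRing Bi) (_ : Algebra (D.obj i) Bi),
      Algebra.FinitePresentation (D.obj i) Bi ∧
      (letI : Algebra (D.obj i) c.pt := (c.ι.app i).hom.toAlgebra
       Nonempty (B ≃ₐ[c.pt] (c.pt ⊗[D.obj i] Bi))) := by

  classical
  obtain ⟨n, φ, hφ, s, hs⟩ := Algebra.FinitePresentation.out (R := c.pt) (A := B)
  obtain ⟨i, hi⟩ := Groth.Agent.Helper4.FPAlgDescent.exists_common hc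
    (s.biUnion (fun p => p.coeffs))
  letI : Algebra (D.obj i) c.pt := (c.ι.app i).hom.toAlgebra
  have hlift : ∀ p : s, ∃ w : MvPolynomial (Fin n) (D.obj i),
      MvPolynomial.map (algebraMap (D.obj i) c.pt) w = p.1 := by
    intro p
    have : p.1 ∈ Set.range (MvPolynomial.map (c.ι.app i).hom) := by
      rw [MvPolynomial.mem_range_map_iff_coeffs_subset]
      intro a ha
      exact hi (Finset.mem_coe.mpr (Finset.mem_biUnion.mpr ⟨p.1, p.2, ha⟩))
    exact this
  choose w hw using hlift
  refine ⟨i, MvPolynomial (Fin n) (D.obj i) ⧸ Ideal.span (Set.range w), inferInstance,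
    inferInstance, Groth.Agent.Helper4.FPAlgDescent.finitePresentation_quot w, ?_⟩
  obtain ⟨e⟩ := Groth.Agent.Helper4.FPAlgDescent.nonempty_algEquiv
    (fun p : s => (p.1 : MvPolynomial (Fin n) c.pt)) w hw
  have hspan : Ideal.span (Set.range (fun p : s => (p.1 : MvPolynomial (Fin n) c.pt)))
      = RingHom.ker φ := by
    rw [Subtype.range_coe_subtype]
    exact hs
  exact ⟨((Ideal.quotientKerAlgEquivOfSurjective hφ).symm.trans
    (Ideal.quotientEquivAlgOfEq _ hspan.symm)).trans e⟩

end Groth.Agent.S4600
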