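import Groth.Statements.S4608
import Mathlib
-- import your own Groth.Agent.* helpers here

set_option autoImplicit false
universe u
open AlgebraicGeometry CategoryTheory CategoryTheory.Limits
open EGA41

namespace Groth.Agent.S4608

/-- A morphism from a disjoint union X' ⨿ X'' → Y is quasi-compact if and only if its two components
are. -/
theorem result {X' X'' Y : Scheme.{u}} (f' : X' ⟶ Y) (f'' : X'' ⟶ Y) :
    QuasiCompact (coprod.desc f' f'') ↔ QuasiCompact f' ∧ QuasiCompact f'' := by
  have hinl : Topology.IsClosedEmbedding (coprod.inl : X' ⟶ X' ⨿ X'').base := by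
    refine ⟨(coprod.inl : X' ⟶ X' ⨿ X'').isOpenEmbedding.isEmbedding, ?_⟩
    have := (isCompl_range_inl_inr X' X'').compl_eq
    rw [← compl_compl (Set.range _), this, isClosed_compl_iff]
    exact (coprod.inr : X'' ⟶ X' ⨿ X'').isOpenEmbedding.isOpen_range
  have hinr : Topology.IsClosedEmbedding (coprod.inr : X'' ⟶ X' ⨿ X'').base := by
    refine ⟨(coprod.inr : X'' ⟶ X' ⨿ X'').isOpenEmbedding.isEmbedding, ?_⟩
    have := (isCompl_range_inl_inr X' X'').symm.compl_eq
    rw [← compl_compl (Set.range _), this, isClosed_compl_iff]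
    exact (coprod.inl : X' ⟶ X' ⨿ X'').isOpenEmbedding.isOpen_range
  constructor
  · intro h
    constructor
    · rw [quasiCompact_iff_forall_isAffineOpen]
      intro U hU
      have h1 : IsCompact ((coprod.desc f' f'') ⁻¹ᵁ U : Set ↥(X' ⨿ X'')) :=
        (quasiCompact_iff_forall_isAffineOpen.mp h) U hU
      have h2 : (f' ⁻¹ᵁ U : Set X') = (coprod.inl : X' ⟶ X' ⨿ X'').base ⁻¹' ((coprod.desc f' f'') ⁻¹ᵁ U : Set ↥(X' ⨿ X'')) := by
        ext x
        simp only [TopologicalSpace.Opens.map_coe, Set.mem_preimage, SetLike.mem_coe]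
        rw [← Scheme.Hom.comp_apply, coprod.inl_desc]
      rw [h2]
      exact hinl.isCompact_preimage h1
    · rw [quasiCompact_iff_forall_isAffineOpen]
      intro U hU
      have h1 : IsCompact ((coprod.desc f' f'') ⁻¹ᵁ U : Set ↥(X' ⨿ X'')) :=
        (quasiCompact_iff_forall_isAffineOpen.mp h) U hU
      have h2 : (f'' ⁻¹ᵁ U : Set X'') = (coprod.inr : X'' ⟶ X' ⨿ X'').base ⁻¹' ((coprod.desc f' f'') ⁻¹ᵁ U : Set ↥(X' ⨿ X'')) := by
        ext x
        simp only [TopologicalSpace.Opens.map_coe, Set.mem_preimage, SetLike.mem_coe]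
        rw [← Scheme.Hom.comp_apply, coprod.inr_desc]
      rw [h2]
      exact hinr.isCompact_preimage h1
  · rintro ⟨h1, h2⟩
    rw [quasiCompact_iff_forall_isAffineOpen]
    intro U hU
    have c1 : IsCompact (f' ⁻¹ᵁ U : Set X') := (quasiCompact_iff_forall_isAffineOpen.mp h1) U hU
    have c2 : IsCompact (f'' ⁻¹ᵁ U : Set X'') := (quasiCompact_iff_forall_isAffineOpen.mp h2) U hU
    have : ((coprod.desc f' f'') ⁻¹ᵁ U : Set ↥(X' ⨿ X'')) =
        (coprod.inl : X' ⟶ X' ⨿ X'').base '' (f' ⁻¹ᵁ U : Set X') ∪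
          (coprod.inr : X'' ⟶ X' ⨿ X'').base '' (f'' ⁻¹ᵁ U : Set X'') := by
      ext z
      simp only [TopologicalSpace.Opens.map_coe, Set.mem_preimage, SetLike.mem_coe, Set.mem_union,
        Set.mem_image]
      constructor
      · intro hz
        have hz' : z ∈ Set.range (coprod.inl : X' ⟶ X' ⨿ X'').base ∪ Set.range (coprod.inr : X'' ⟶ X' ⨿ X'').base := by
          have := (isCompl_range_inl_inr X' X'').sup_eq_top
          change _ ∪ _ = Set.univ at this
          rw [this]; trivial
        rcases hz' with ⟨x, rfl⟩ | ⟨x, rfl⟩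
        · left
          refine ⟨x, ?_, rfl⟩
          rwa [← Scheme.Hom.comp_apply, coprod.inl_desc] at hz
        · right
          refine ⟨x, ?_, rfl⟩
          rwa [← Scheme.Hom.comp_apply, coprod.inr_desc] at hz
      · rintro (⟨x, hx, rfl⟩ | ⟨x, hx, rfl⟩)
        · rwa [← Scheme.Hom.comp_apply, coprod.inl_desc]
        · rwa [← Scheme.Hom.comp_apply, coprod.inr_desc]
    rw [this]
    exact (c1.image (coprod.inl : X' ⟶ X' ⨿ X'').continuous).union (c2.image (coprod.inr : X'' ⟶ X' ⨿ X'').continuous)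

end Groth.Agent.S4608
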