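import Groth.Statements.S4609
import Mathlib
-- import your own Groth.Agent.* helpers here

set_option autoImplicit false
universe u
open AlgebraicGeometry CategoryTheory CategoryTheory.Limits
open EGA41

namespace Groth.Agent.S4609

/-- A morphism from a disjoint union X' ⨿ X'' → Y is quasi-separated if and only if its two components
are. -/
theorem result {X' X'' Y : Scheme.{u}} (f' : X' ⟶ Y) (f'' : X'' ⟶ Y) :
    QuasiSeparated (coprod.desc f' f'') ↔ QuasiSeparated f' ∧ QuasiSeparated f'' := by
  have hinl : Topology.IsClosedEmbedding (coprod.inl : X' ⟶ X' ⨿ X'').base := by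
    refine ⟨(coprod.inl : X' ⟶ X' ⨿ X'').isOpenEmbedding.isEmbedding, ?_⟩
    have := (isCompl_range_inl_inr X' X'').compl_eq
    rw [← compl_compl (Set.range _), this, isClosed_compl_iff]
    exact (coprod.inr : X'' ⟶ X' ⨿ X'').isOpenEmbedding.isOpen_range
  have hinr : Topology.IsClosedEmbedding (coprod.inr : X'' ⟶ X' ⨿ X'').base := by
    refine ⟨(coprod.inr : X'' ⟶ X' ⨿ X'').isOpenEmbedding.isEmbedding, ?_⟩
    have := (isCompl_range_inl_inr X' X'').symm.compl_eq
    rw [← compl_compl (Set.range _), this, isClosed_compl_iff]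
    exact (coprod.inl : X' ⟶ X' ⨿ X'').isOpenEmbedding.isOpen_range
  constructor
  · intro h
    constructor
    · have : QuasiSeparated ((coprod.inl : X' ⟶ X' ⨿ X'') ≫ coprod.desc f' f'') := inferInstance
      rwa [coprod.inl_desc] at this
    · have : QuasiSeparated ((coprod.inr : X'' ⟶ X' ⨿ X'') ≫ coprod.desc f' f'') := inferInstance
      rwa [coprod.inr_desc] at this
  · rintro ⟨h1, h2⟩
    rw [HasAffineProperty.iff_of_iSup_eq_top (P := @QuasiSeparated)
      (Q := fun X _ _ _ ↦ QuasiSeparatedSpace X) (fun U : Y.affineOpens => U)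
      (iSup_affineOpens_eq_top Y)]
    intro U
    change QuasiSeparatedSpace ↥((coprod.desc f' f'') ⁻¹ᵁ U.1)
    refine (isQuasiSeparated_iff_quasiSeparatedSpace _ ((coprod.desc f' f'') ⁻¹ᵁ U.1).2).mp ?_
    have q1 : IsQuasiSeparated (f' ⁻¹ᵁ U.1 : Set X') := f'.isQuasiSeparated_preimage U.2.isQuasiSeparated
    have q2 : IsQuasiSeparated (f'' ⁻¹ᵁ U.1 : Set X'') := f''.isQuasiSeparated_preimage U.2.isQuasiSeparated
    intro K K' hK hKo hKc hK' hKo' hKc'
    have key : K ∩ K' =
        (coprod.inl : X' ⟶ X' ⨿ X'').base '' ((coprod.inl : X' ⟶ X' ⨿ X'').base ⁻¹' K ∩ (coprod.inl : X' ⟶ X' ⨿ X'').base ⁻¹' K') ∪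
          (coprod.inr : X'' ⟶ X' ⨿ X'').base '' ((coprod.inr : X'' ⟶ X' ⨿ X'').base ⁻¹' K ∩ (coprod.inr : X'' ⟶ X' ⨿ X'').base ⁻¹' K') := by
      ext z
      simp only [Set.mem_inter_iff, Set.mem_union, Set.mem_image, Set.mem_preimage]
      constructor
      · intro hz
        have hz' : z ∈ Set.range (coprod.inl : X' ⟶ X' ⨿ X'').base ∪ Set.range (coprod.inr : X'' ⟶ X' ⨿ X'').base := by
          have := (isCompl_range_inl_inr X' X'').sup_eq_top
          change _ ∪ _ = Set.univ at this
          rw [this]; trivial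
        rcases hz' with ⟨x, rfl⟩ | ⟨x, rfl⟩
        · left; exact ⟨x, hz, rfl⟩
        · right; exact ⟨x, hz, rfl⟩
      · rintro (⟨x, hx, rfl⟩ | ⟨x, hx, rfl⟩) <;> exact hx
    rw [key]
    refine IsCompact.union (IsCompact.image ?_ (coprod.inl : X' ⟶ X' ⨿ X'').continuous)
      (IsCompact.image ?_ (coprod.inr : X'' ⟶ X' ⨿ X'').continuous)
    · refine q1 _ _ ?_ (hKo.preimage (coprod.inl : X' ⟶ X' ⨿ X'').continuous) (hinl.isCompact_preimage hKc)
        ?_ (hKo'.preimage (coprod.inl : X' ⟶ X' ⨿ X'').continuous) (hinl.isCompact_preimage hKc')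
      · intro x hx
        have := hK hx
        change (coprod.desc f' f'') _ ∈ U.1 at this
        rwa [← Scheme.Hom.comp_apply, coprod.inl_desc] at this
      · intro x hx
        have := hK' hx
        change (coprod.desc f' f'') _ ∈ U.1 at this
        rwa [← Scheme.Hom.comp_apply, coprod.inl_desc] at this
    · refine q2 _ _ ?_ (hKo.preimage (coprod.inr : X'' ⟶ X' ⨿ X'').continuous) (hinr.isCompact_preimage hKc)
        ?_ (hKo'.preimage (coprod.inr : X'' ⟶ X' ⨿ X'').continuous) (hinr.isCompact_preimage hKc')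
      · intro x hx
        have := hK hx
        change (coprod.desc f' f'') _ ∈ U.1 at this
        rwa [← Scheme.Hom.comp_apply, coprod.inr_desc] at this
      · intro x hx
        have := hK' hx
        change (coprod.desc f' f'') _ ∈ U.1 at this
        rwa [← Scheme.Hom.comp_apply, coprod.inr_desc] at this

end Groth.Agent.S4609
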