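import Groth.Statements.S4613


set_option autoImplicit false
universe u
open AlgebraicGeometry CategoryTheory
open EGA41

namespace Groth.Agent.S4613

theorem ker_fg_of_fp {A B : Type u} [CommRing A] [CommRing B] (φ : A →+* B)
    (hs : Function.Surjective φ) (hfp : φ.FinitePresentation) : (RingHom.ker φ).FG := by
  letI := φ.toAlgebra
  haveI : Algebra.FinitePresentation A B := hfp
  exact Algebra.FinitePresentation.ker_fG_of_surjective (Algebra.ofId A B) hs

set_option backward.isDefEq.respectTransparency false in
theorem aux {X Y : Scheme.{u}} (j : X ⟶ Y)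
    [IsClosedImmersion j] :
    LocallyOfFinitePresentation j ↔ ∀ U : Y.affineOpens, (RingHom.ker (j.app U).hom).FG := by
  constructor
  · intro hj U
    apply ker_fg_of_fp _ (j.app_surjective U.1 U.2)
    rw [Scheme.Hom.app_eq_appLE]
    exact j.finitePresentation_appLE U.2 (IsAffineHom.isAffine_preimage _ U.2) _
  · intro h
    refine (IsZariskiLocalAtTarget.iff_of_iSup_eq_top (P := @LocallyOfFinitePresentation)
      (U := fun U : Y.affineOpens => U.1) (iSup_affineOpens_eq_top Y)).mpr fun U => ?_
    haveI : IsAffine U.1 := U.2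
    haveI : IsAffine (j ⁻¹ᵁ U.1) := (IsAffineHom.isAffine_preimage _ U.2 : IsAffineOpen (j ⁻¹ᵁ U.1))
    rw [HasRingHomProperty.iff_of_isAffine (P := @LocallyOfFinitePresentation)]
    rw [morphismRestrict_appTop]
    have hV : (U.1.ι ''ᵁ ⊤) = U.1 := by simp
    have hVa : IsAffineOpen (U.1.ι ''ᵁ ⊤) := by rw [hV]; exact U.2
    have hs : Function.Surjective (j.app (U.1.ι ''ᵁ ⊤)).hom := j.app_surjective _ hVa
    have hk := h ⟨_, hVa⟩
    have h1 : (j.app (U.1.ι ''ᵁ ⊤)).hom.FinitePresentation :=
      RingHom.FinitePresentation.of_surjective _ hs hk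
    rw [CommRingCat.hom_comp]
    refine RingHom.FinitePresentation.comp ?_ h1
    exact RingHom.FinitePresentation.of_bijective (ConcreteCategory.bijective_of_isIso _)

/-- For a closed immersion j : X → Y: j is locally of finite presentation if and only if its ideal sheaf
is of finite type, i.e. for every affine open U of Y the kernel of Γ(U, O_Y) → Γ(j⁻¹U, O_X) is
finitely generated. (An immersion with image closed in an open U reduces to this case.) -/
theorem result {X Y : Scheme.{u}} (j : X ⟶ Y)
    [IsClosedImmersion j] :
    LocallyOfFinitePresentation j ↔ ∀ U : Y.affineOpens, (RingHom.ker (j.app U).hom).FG := by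
  exact aux j

end Groth.Agent.S4613
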