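import Groth.Statements.S4617
import Mathlib
import Groth.Agent.Lead.BcCompare

set_option autoImplicit false
open CategoryTheory AlgebraicGeometry
universe u
open FBase

namespace Groth.Agent.S4617

/-- a surjective continuous map onto a quasi-sober space: the irreducible components of the target
inject into those of the source -/
theorem mk_irreducibleComponents_le {A B : Type u} [TopologicalSpace A] [TopologicalSpace B]
    [QuasiSober B] (p : A → B) (hp : Continuous p) (hs : Function.Surjective p) :
    Cardinal.mk ↥(irreducibleComponents B) ≤ Cardinal.mk ↥(irreducibleComponents A) := by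
  have key : ∀ C : irreducibleComponents B, ∃ D : irreducibleComponents A,
      closure (p '' D.1) = C.1 := by
    rintro ⟨C, hC⟩
    have hCirr : IsIrreducible C := hC.1
    have hCcl : IsClosed C := isClosed_of_mem_irreducibleComponents C hC
    obtain ⟨η, hη⟩ := QuasiSober.sober hCirr hCcl
    obtain ⟨z, rfl⟩ := hs η
    refine ⟨⟨irreducibleComponent z, irreducibleComponent_mem_irreducibleComponents z⟩, ?_⟩
    have hirr : IsIrreducible (closure (p '' irreducibleComponent z)) :=
      (isIrreducible_irreducibleComponent.image p hp.continuousOn).closure
    have hle : C ⊆ closure (p '' irreducibleComponent z) := by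
      rw [← hη.def]
      exact closure_minimal (Set.singleton_subset_iff.mpr
        (subset_closure ⟨z, mem_irreducibleComponent, rfl⟩)) isClosed_closure
    exact (hC.2 hirr hle).antisymm hle |>.symm ▸ rfl
  choose F hF using key
  refine Cardinal.mk_le_of_injective (f := F) ?_
  intro C C' h
  apply Subtype.ext
  rw [← hF C, ← hF C', h]

/-- Let X be a scheme over a field k, K any extension field of k and Ω an algebraically closed extension
field of k. Then the set of irreducible components of X ⊗_k K has cardinality at most that of the
set of irreducible components of X ⊗_k Ω. In particular the cardinality of the set of irreducible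
components of X ⊗_k Ω does not depend on the algebraically closed extension Ω. -/
theorem result {k K Ω : Type u} [Field k] [Field K] [Algebra k K]
    [Field Ω] [Algebra k Ω] [IsAlgClosed Ω] {X : Scheme.{u}} (f : X ⟶ Spec (CommRingCat.of k)) :
    Cardinal.mk ↥(irreducibleComponents ↥(FBase.bc f K)) ≤ Cardinal.mk ↥(irreducibleComponents ↥(FBase.bc f Ω)) := by
  have hg : Surjective (Spec.map (CommRingCat.ofHom (algebraMap k Ω))) :=
    Groth.Agent.Lead.GeomDescent.surjective_of_fields _
  obtain ⟨Z, p, q, hp, hq1, -, hq3⟩ := Groth.Agent.Lead.BcCompare.exists_compare f
    (Spec.map (CommRingCat.ofHom (algebraMap k K))) (Spec.map (CommRingCat.ofHom (algebraMap k Ω)))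
  unfold FBase.bc
  have h1 := mk_irreducibleComponents_le p p.continuous p.surjective
  have h2 := Cardinal.mk_congr (q.irreducibleComponentsEquiv q.isOpenMap)
  exact h1.trans h2.le

end Groth.Agent.S4617
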