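import Groth.Statements.S4618
import Mathlib
import Groth.Agent.Lead.BcCompare

set_option autoImplicit false
open CategoryTheory AlgebraicGeometry
universe u
open FBase

namespace Groth.Agent.S4618

/-- Let X be a scheme over a field k, K any extension field of k and Ω an algebraically closed extension
field of k. Then the set of connected components of X ⊗_k K has cardinality at most that of the set
of connected components of X ⊗_k Ω. In particular the cardinality of the set of connected components
of X ⊗_k Ω does not depend on the algebraically closed extension Ω. -/
theorem result {k K Ω : Type u} [Field k] [Field K] [Algebra k K]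
    [Field Ω] [Algebra k Ω] [IsAlgClosed Ω] {X : Scheme.{u}} (f : X ⟶ Spec (CommRingCat.of k)) :
    Cardinal.mk (_root_.ConnectedComponents ↥(FBase.bc f K)) ≤ Cardinal.mk (_root_.ConnectedComponents ↥(FBase.bc f Ω)) := by
  have hg : Surjective (Spec.map (CommRingCat.ofHom (algebraMap k Ω))) :=
    Groth.Agent.Lead.GeomDescent.surjective_of_fields _
  obtain ⟨Z, p, q, hp, -, hq2, hq3⟩ := Groth.Agent.Lead.BcCompare.exists_compare f
    (Spec.map (CommRingCat.ofHom (algebraMap k K))) (Spec.map (CommRingCat.ofHom (algebraMap k Ω)))
  unfold FBase.bc
  have h1 := Cardinal.mk_le_of_surjective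
    (p.continuous.connectedComponentsMap_surjective p.surjective)
  have h2 := Cardinal.mk_congr (q.connectedComponentsHomeomorph q.isOpenMap).toEquiv
  exact h1.trans h2.le

end Groth.Agent.S4618
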