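import Groth.Statements.S4619
import Groth.Agent.Helper4.GeomConnSch
import Mathlib

set_option autoImplicit false
open CategoryTheory AlgebraicGeometry
universe u
open FBase

namespace Groth.Agent.S4619


/-- For a connected scheme: let X be a connected scheme over a field k and x a point of X whose residue
field κ(x) is a primary extension of k, i.e. the separable algebraic closure of k in κ(x) is k
itself (this holds in particular when x is a k-rational point). Then X is geometrically connected
over k. (The published statement concerns the connected component of x in an arbitrary scheme over
k; this row takes X connected.) -/
theorem result {k : Type u} [Field k] {X : Scheme.{u}}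
    [ConnectedSpace X] (f : X ⟶ Spec (CommRingCat.of k)) (x : X)
    (hx : FBase.ResidueFieldProp f x (fun K _ _ => separableClosure k K = ⊥)) :
    GeometricallyConnected f := by

  obtain ⟨φ, hφ, hsep⟩ := hx
  refine Groth.Agent.Helper4.GeomConnSch.geometricallyConnected_of_field_point f x φ hφ ?_
  letI := φ.toAlgebra
  intro α hα
  have h1 : α ∈ separableClosure k (X.residueField x) := mem_separableClosure_iff.mpr hα
  rw [hsep, IntermediateField.mem_bot] at h1
  exact h1

end Groth.Agent.S4619
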