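import Groth.Statements.S4620
import Groth.Agent.Helper4.GeomConnSub
import Mathlib

set_option autoImplicit false
open CategoryTheory AlgebraicGeometry
universe u
open FBase

namespace Groth.Agent.S4620


/-- Let X be a scheme over a field k and Y an irreducible component of X which is geometrically
irreducible, i.e. the inverse image of Y in X ⊗_k L is irreducible for every extension field L of k.
Then the connected component of X containing Y is geometrically connected: for every extension field
K of k, the inverse image in X ⊗_k K of the connected component of a point y of Y is connected.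
(Geometric irreducibility and connectedness of a locally closed subset do not depend on the
subscheme structure chosen, and are expressed here through inverse images under the projection.) -/
theorem result {k K : Type u} [Field k] [Field K] [Algebra k K]
    {X : Scheme.{u}} (f : X ⟶ Spec (CommRingCat.of k)) (Y : Set ↥X) (hY : Y ∈ irreducibleComponents ↥X)
    (hgi : ∀ (L : Type u) [Field L] [Algebra k L], IsIrreducible (⇑(FBase.bcπ f L) ⁻¹' Y))
    (y : X) (hy : y ∈ Y) :
    _root_.IsConnected (⇑(FBase.bcπ f K) ⁻¹' connectedComponent y) := by

  have hYcl : IsClosed Y := isClosed_of_mem_irreducibleComponents Y hY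
  obtain ⟨Z, j, hj, hr⟩ := Groth.Agent.Helper4.GeomConnSub.exists_closedImmersion_range X Y hYcl
  haveI : Nonempty Z := by
    rw [← hr] at hy
    obtain ⟨z, -⟩ := hy
    exact ⟨z⟩
  haveI : GeometricallyConnected (j ≫ f) := by
    rw [Groth.Agent.Helper4.GeomConnSch.geometricallyConnected_iff]
    intro L _ _
    have h1 : IsIrreducible (Set.range (Groth.Agent.Helper4.GeomConnSub.bcHom j f L)) := by
      rw [Groth.Agent.Helper4.GeomConnSub.range_bcHom, hr]
      exact hgi L
    rw [connectedSpace_iff_univ]
    have hpre : _root_.IsPreconnected
        ((Groth.Agent.Helper4.GeomConnSub.bcHom j f L) '' Set.univ) := by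
      rw [Set.image_univ]
      exact h1.isPreirreducible.isPreconnected
    refine ⟨?_, (Groth.Agent.Helper4.GeomConnSub.bcHom j f
      L).isEmbedding.isInducing.isPreconnected_image.mp hpre⟩
    obtain ⟨r, t, -⟩ := h1.nonempty
    exact ⟨t, trivial⟩
  have hYirr : IsIrreducible Y := hY.1
  have hsub : Set.range j ⊆ connectedComponent y := by
    rw [hr]
    exact hYirr.isPreirreducible.isPreconnected.subset_connectedComponent hy
  exact Groth.Agent.Helper4.GeomConnSub.isConnected_preimage_of_source j f
    (connectedComponent y) isClosed_connectedComponent isConnected_connectedComponent hsub K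

end Groth.Agent.S4620
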