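import Groth.Statements.S4621
import Groth.Agent.Helper4.GeomConnSub
import Mathlib

set_option autoImplicit false
open CategoryTheory AlgebraicGeometry
universe u
open FBase

namespace Groth.Agent.S4621


/-- Let h : Y → X be a morphism of schemes over a field k, with Y nonempty and geometrically connected
over k. Then the connected component of X containing the (connected) image h(Y) is geometrically
connected: for every extension field K of k, the inverse image in X ⊗_k K of the connected component
of h(y), for a point y of Y, is connected. -/
theorem result {k K : Type u} [Field k] [Field K] [Algebra k K]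
    {X Y : Scheme.{u}} (f : X ⟶ Spec (CommRingCat.of k)) (g : Y ⟶ Spec (CommRingCat.of k)) (h : Y ⟶ X) (w : h ≫ f = g)
    [GeometricallyConnected g] (y : Y) :
    _root_.IsConnected (⇑(FBase.bcπ f K) ⁻¹' connectedComponent (h y)) := by

  subst w
  haveI : Subsingleton ↥(Spec (CommRingCat.of k)) :=
    inferInstanceAs (Subsingleton (PrimeSpectrum k))
  haveI : Nonempty ↥(Spec (CommRingCat.of k)) := inferInstanceAs (Nonempty (PrimeSpectrum k))
  haveI : ConnectedSpace Y := GeometricallyConnected.connectedSpace_of_subsingleton (h ≫ f)
  haveI : Nonempty Y := ⟨y⟩
  have hsub : Set.range h ⊆ connectedComponent (h y) :=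
    (isPreconnected_range h.continuous).subset_connectedComponent ⟨y, rfl⟩
  exact Groth.Agent.Helper4.GeomConnSub.isConnected_preimage_of_source h f
    (connectedComponent (h y)) isClosed_connectedComponent isConnected_connectedComponent hsub K

end Groth.Agent.S4621
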