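import Groth.Statements.S4622
import Mathlib
import Groth.Agent.Lead.UnivHomeo

set_option autoImplicit false
open CategoryTheory AlgebraicGeometry
universe u
open FBase

namespace Groth.Agent.S4622

open CategoryTheory.Limits in
theorem isUnivHomeo_of {X Y : Scheme.{u}} (f : X ⟶ Y) [h1 : UniversallyClosed f]
    [h2 : UniversallyInjective f] [h3 : Surjective f] : FlatMor.IsUnivHomeo f := by
  intro X' Y' i₁ i₂ f' H
  have hf1 : UniversallyClosed f' := MorphismProperty.of_isPullback H.flip h1
  have hf2 : UniversallyInjective f' := MorphismProperty.of_isPullback H.flip h2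
  have hf3 : Surjective f' := MorphismProperty.of_isPullback H.flip h3
  exact isHomeomorph_iff_continuous_isClosedMap_bijective.mpr
    ⟨f'.continuous, f'.isClosedMap, f'.injective, hf3.1⟩

theorem isUnivHomeo_SpecMap_of_isPurelyInseparable (k k' : Type u) [Field k] [Field k']
    [Algebra k k'] [IsPurelyInseparable k k'] :
    FlatMor.IsUnivHomeo (Spec.map (CommRingCat.ofHom (algebraMap k k'))) := by
  have halg : Algebra.IsIntegral k k' := inferInstance
  have h1 : IsIntegralHom (Spec.map (CommRingCat.ofHom (algebraMap k k'))) :=
    IsIntegralHom.SpecMap_iff.mpr (algebraMap_isIntegral_iff.mpr halg)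
  have h2 : UniversallyInjective (Spec.map (CommRingCat.ofHom (algebraMap k k'))) := by
    apply ((tfae_universallyInjective (Spec.map (CommRingCat.ofHom (algebraMap k k')))).out 0 1).mpr
    intro K _ g1 g2 h
    dsimp only at h
    rw [← Spec.map_preimage g1, ← Spec.map_preimage g2, ← Spec.map_comp, ← Spec.map_comp] at h
    have h' := Spec.map_injective h
    have h'' : (Spec.preimage g1).hom.comp (algebraMap k k') =
        (Spec.preimage g2).hom.comp (algebraMap k k') := congrArg CommRingCat.Hom.hom h'
    have := IsPurelyInseparable.injective_comp_algebraMap k k' K h''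
    rw [← Spec.map_preimage g1, ← Spec.map_preimage g2]
    congr 1
    exact CommRingCat.hom_ext this
  have h3 : Surjective (Spec.map (CommRingCat.ofHom (algebraMap k k'))) := by
    constructor
    intro z
    have : Nonempty ↥(Spec (CommRingCat.of k')) := inferInstance
    obtain ⟨w⟩ := this
    exact ⟨w, Subsingleton.elim _ _⟩
  exact isUnivHomeo_of _

/-- Let k be a separably closed field, k' an algebraic closure of k and X a scheme over k. Then the
projection X ⊗_k k' → X is a universal homeomorphism. -/
theorem result {k k' : Type u} [Field k] [IsSepClosed k] [Field k'] [Algebra k k']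
    [IsAlgClosure k k'] {X : Scheme.{u}} (f : X ⟶ Spec (CommRingCat.of k)) :
    FlatMor.IsUnivHomeo (FBase.bcπ f k') := by
  have : Algebra.IsAlgebraic k k' := IsAlgClosure.isAlgebraic
  have hpi : IsPurelyInseparable k k' := inferInstance
  unfold FBase.bcπ
  exact MorphismProperty.pullback_fst _ _ (isUnivHomeo_SpecMap_of_isPurelyInseparable k k')

end Groth.Agent.S4622
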