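import Groth.Statements.S4623
import Mathlib

set_option autoImplicit false
open CategoryTheory AlgebraicGeometry
universe u
open FBase

namespace Groth.Agent.S4623

/-- Let h : X → Y be a surjective morphism of schemes over a field k. If X is geometrically irreducible
over k, then Y is geometrically irreducible over k. -/
theorem result {k : Type u} [Field k] {X Y : Scheme.{u}}
    (f : X ⟶ Spec (CommRingCat.of k)) (g : Y ⟶ Spec (CommRingCat.of k)) (h : X ⟶ Y) (w : h ≫ g = f)
    [Surjective h] [GeometricallyIrreducible f] : GeometricallyIrreducible g := by
  subst w
  refine ⟨geometrically_iff_of_isClosedUnderIsomorphisms.mpr fun K _ y ↦ ?_⟩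
  have h1 : IrreducibleSpace ↥(Limits.pullback (h ≫ g) y) :=
    pullback_of_geometrically
      (GeometricallyIrreducible.geometrically_irreducibleSpace (f := h ≫ g)) K y
  have h2 : IrreducibleSpace ↥(Limits.pullback h (Limits.pullback.fst g y)) :=
    (Limits.pullbackRightPullbackFstIso g y h).hom.homeomorph.irreducibleSpace_iff.mpr h1
  have h3 : Surjective (Limits.pullback.snd h (Limits.pullback.fst g y)) := inferInstance
  have h4 : IsIrreducible (Set.range (Limits.pullback.snd h (Limits.pullback.fst g y))) := by
    rw [← Set.image_univ]
    exact (IrreducibleSpace.isIrreducible_univ _).image _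
      (Limits.pullback.snd h (Limits.pullback.fst g y)).continuous.continuousOn
  rw [(Limits.pullback.snd h (Limits.pullback.fst g y)).surjective.range_eq] at h4
  exact (irreducibleSpace_def _).mpr h4

end Groth.Agent.S4623
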