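import Groth.Statements.S4624
import Mathlib

set_option autoImplicit false
open CategoryTheory AlgebraicGeometry
universe u
open FBase

namespace Groth.Agent.S4624

/-- Let h : X → Y be a surjective morphism of schemes over a field k. If X is geometrically connected
over k, then Y is geometrically connected over k. -/
theorem result {k : Type u} [Field k] {X Y : Scheme.{u}}
    (f : X ⟶ Spec (CommRingCat.of k)) (g : Y ⟶ Spec (CommRingCat.of k)) (h : X ⟶ Y) (w : h ≫ g = f)
    [Surjective h] [GeometricallyConnected f] : GeometricallyConnected g := by
  subst w
  refine ⟨geometrically_iff_of_isClosedUnderIsomorphisms.mpr fun K _ y ↦ ?_⟩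
  have h1 : ConnectedSpace ↥(Limits.pullback (h ≫ g) y) :=
    pullback_of_geometrically
      (GeometricallyConnected.geometrically_connectedSpace (f := h ≫ g)) K y
  have h2 : ConnectedSpace ↥(Limits.pullback h (Limits.pullback.fst g y)) :=
    (Limits.pullbackRightPullbackFstIso g y h).hom.homeomorph.connectedSpace_iff.mpr h1
  have h3 : Surjective (Limits.pullback.snd h (Limits.pullback.fst g y)) := inferInstance
  exact (Limits.pullback.snd h (Limits.pullback.fst g y)).surjective.connectedSpace
    (Limits.pullback.snd h (Limits.pullback.fst g y)).continuous

end Groth.Agent.S4624
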