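import Groth.Statements.S4639
import Groth.Agent.S2488

set_option autoImplicit false
open CategoryTheory AlgebraicGeometry
universe u
open FDesc

namespace Groth.Agent.S4639

open CategoryTheory.Limits in
theorem aux :
    MorphismProperty.DescendsAlong
      (MorphismProperty.universally (topologically (fun f => Topology.IsEmbedding f)) ⊓ @QuasiCompact : MorphismProperty Scheme.{u})
      (@Surjective ⊓ @Flat ⊓ @QuasiCompact : MorphismProperty Scheme.{u}) := by
  constructor
  rintro A X Y Z fst snd f g hsq ⟨⟨hf1, hf2⟩, hf3⟩ ⟨hemb, hqc⟩
  haveI : Surjective f := hf1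
  haveI : Flat f := hf2
  haveI : QuasiCompact f := hf3
  haveI : QuasiCompact fst := hqc
  haveI : QuasiCompact g := Groth.Agent.S2488.quasiCompact_of_isPullback hsq
  refine ⟨?_, inferInstance⟩
  intro YT T i₁ i₂ g' hg'
  -- base change of the cover
  let p : pullback f i₂ ⟶ X := pullback.fst f i₂
  let fT : pullback f i₂ ⟶ T := pullback.snd f i₂
  haveI : Surjective fT := MorphismProperty.pullback_snd _ _ inferInstance
  haveI : Flat fT := MorphismProperty.pullback_snd _ _ inferInstance
  haveI : QuasiCompact g' := MorphismProperty.of_isPullback hg'.flip ‹QuasiCompact g›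
  let a₁ : pullback fT g' ⟶ pullback f i₂ := pullback.fst fT g'
  let a₂ : pullback fT g' ⟶ YT := pullback.snd fT g'
  have hleft : IsPullback a₂ a₁ g' fT := (IsPullback.of_hasPullback fT g').flip
  have hbig : IsPullback (a₂ ≫ i₁) a₁ g (fT ≫ i₂) := hleft.paste_horiz hg'.flip
  have hcond : fT ≫ i₂ = p ≫ f := pullback.condition.symm
  rw [hcond] at hbig
  have hpb := IsPullback.of_right' hbig hsq.flip
  have hemb' := hemb _ _ _ hpb.flip
  exact Groth.Agent.S2488.isEmbedding_of_isPullback (IsPullback.of_hasPullback fT g') hemb'

/-- The property of being quasi-compact and universally bicontinuous (every base change is a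
homeomorphism onto its image) descends along a surjective, flat and quasi-compact base change. -/
theorem result :
    MorphismProperty.DescendsAlong
      (MorphismProperty.universally (topologically (fun f => Topology.IsEmbedding f)) ⊓ @QuasiCompact : MorphismProperty Scheme.{u})
      (@Surjective ⊓ @Flat ⊓ @QuasiCompact : MorphismProperty Scheme.{u}) := by
  exact aux

end Groth.Agent.S4639
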