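import Groth.Statements.S4645
import Groth.Agent.Helper4.ConnCompFin
import Mathlib

set_option autoImplicit false
open CategoryTheory AlgebraicGeometry
universe u
open FBase

namespace Groth.Agent.S4645


/-- Let X be a scheme over a field k with finitely many connected components, each of which contains a
point x such that the separable algebraic closure of k in κ(x) has finite degree over k. Then there
is a finite separable extension k'' of k such that all connected components of X ⊗_k k'' are
geometrically connected over k'': for every extension field K of k'' and every point x' of X ⊗_k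
k'', the inverse image in (X ⊗_k k'') ⊗_{k''} K of the connected component of x' is connected. -/
theorem result {k : Type u} [Field k] {X : Scheme.{u}}
    (f : X ⟶ Spec (CommRingCat.of k)) [Finite (_root_.ConnectedComponents ↥X)]
    (hx : ∀ c : _root_.ConnectedComponents ↥X, ∃ x : X, _root_.ConnectedComponents.mk x = c ∧
      FBase.ResidueFieldProp f x (fun K _ _ => FiniteDimensional k (separableClosure k K))) :
    ∃ (k'' : Type u) (_ : Field k'') (_ : Algebra k k''), FiniteDimensional k k'' ∧ Algebra.IsSeparable k k'' ∧
      ∀ (K : Type u) [Field K] [Algebra k'' K] (x' : ↥(FBase.bc f k'')),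
        _root_.IsConnected (⇑(FBase.bcπ (FBase.bcStr f k'') K) ⁻¹' connectedComponent x') := by

  classical
  letI : X.Over (Spec (CommRingCat.of k)) := ⟨f⟩
  haveI : Normal k (SeparableClosure k) := IsGalois.to_normal
  choose pts hpts hres using hx
  haveI hfinK : Finite (_root_.ConnectedComponents ↥(Curv2.bc k X (SeparableClosure k))) := by
    refine Groth.Agent.Helper4.ConnCompFin.finite_cc_bc f (SeparableClosure k) pts hpts ?_
    intro c
    obtain ⟨φ, hφ, hfd⟩ := hres c
    exact (Groth.Agent.Helper4.SepDegFib.fibre_finite f (pts c) φ hφ hfd
      (SeparableClosure k)).1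
  obtain ⟨E, hE, h⟩ := Groth.Agent.Helper4.GalGeomConn.exists_level_geomConn k X
    (SeparableClosure k)
  refine ⟨↥E, inferInstance, inferInstance, hE,
    Algebra.isSeparable_tower_bot_of_isSeparable k E (SeparableClosure k), ?_⟩
  intro K' _ _ x'
  have key : ∀ (y' : ↥(Curv2.bc k X E)),
      _root_.IsConnected ((Limits.pullback.fst (Curv2.bcSnd k X E)
        (Spec.map (CommRingCat.ofHom (algebraMap E K')))) ⁻¹' connectedComponent y') := by
    intro y'
    obtain ⟨Zs, ι, hι, hr⟩ := Groth.Agent.Helper4.GeomConnSub.exists_closedImmersion_range
      (Curv2.bc k X E) (connectedComponent y') isClosed_connectedComponent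
    haveI := hι
    have hgc := h y' ι hr
    have hconn := (Groth.Agent.Helper4.GeomConnSch.geometricallyConnected_iff
      (ι ≫ Curv2.bcSnd k X E)).mp hgc K'
    have hrange := Groth.Agent.Helper4.GeomConnSub.range_bcHom ι (Curv2.bcSnd k X E) K'
    rw [hr] at hrange
    rw [← hrange]
    exact isConnected_range
      (Groth.Agent.Helper4.GeomConnSub.bcHom ι (Curv2.bcSnd k X E) K').continuous
  exact key x'

end Groth.Agent.S4645
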