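import Groth.Statements.S4646
import Groth.Agent.Helper4.FinCompFib
import Mathlib

set_option autoImplicit false
open CategoryTheory AlgebraicGeometry
universe u
open FBase

namespace Groth.Agent.S4646


/-- Let X be a scheme over a field k having finitely many irreducible components, such that for the
generic point x of each irreducible component the separable algebraic closure of k in κ(x) has
finite degree over k. Then there is a finite separable extension L of k such that all irreducible
components of X ⊗_k L are geometrically irreducible over L: for every extension field K of L and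
every irreducible component Z' of X ⊗_k L, the inverse image of Z' in (X ⊗_k L) ⊗_L K is
irreducible. (No finite-type hypothesis on X.) -/
theorem result {k : Type u} [Field k] {X : Scheme.{u}}
    (f : X ⟶ Spec (CommRingCat.of k)) [Finite ↥(irreducibleComponents ↥X)]
    (hx : ∀ (Z : Set ↥X) (hZ : Z ∈ irreducibleComponents ↥X),
      FBase.ResidueFieldProp f hZ.1.genericPoint (fun K _ _ => FiniteDimensional k (separableClosure k K))) :
    ∃ (L : Type u) (_ : Field L) (_ : Algebra k L), FiniteDimensional k L ∧ Algebra.IsSeparable k L ∧
      ∀ (K : Type u) [Field K] [Algebra L K] (Z' : Set ↥(FBase.bc f L)), Z' ∈ irreducibleComponents ↥(FBase.bc f L) →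
        IsIrreducible (⇑(FBase.bcπ (FBase.bcStr f L) K) ⁻¹' Z') := by

  classical
  letI : X.Over (Spec (CommRingCat.of k)) := ⟨f⟩
  haveI : Normal k (SeparableClosure k) := IsGalois.to_normal
  have hfinK : (irreducibleComponents ↥(Curv2.bc k X (SeparableClosure k))).Finite := by
    refine Groth.Agent.Helper4.FinCompFib.finite_components k X (SeparableClosure k)
      (Set.toFinite _) ?_
    intro T hT
    obtain ⟨φ, hφ, hfd⟩ := hx T hT
    exact (Groth.Agent.Helper4.SepDegFib.fibre_finite f hT.1.genericPoint φ hφ hfd
      (SeparableClosure k)).1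
  obtain ⟨E, hE, h⟩ := Groth.Agent.Helper4.GalGeomIrr.exists_level_geomIrr k X
    (SeparableClosure k) hfinK
  refine ⟨↥E, inferInstance, inferInstance, hE,
    Algebra.isSeparable_tower_bot_of_isSeparable k E (SeparableClosure k), ?_⟩
  intro K' _ _ Z' hZ'
  have key : ∀ (W : Set ↥(Curv2.bc k X E)), W ∈ irreducibleComponents ↥(Curv2.bc k X E) →
      IsIrreducible ((Limits.pullback.fst (Curv2.bcSnd k X E)
        (Spec.map (CommRingCat.ofHom (algebraMap E K')))) ⁻¹' W) := by
    intro W hW
    obtain ⟨Zs, ι, hι, hr⟩ := Groth.Agent.Helper4.GeomConnSub.exists_closedImmersion_range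
      (Curv2.bc k X E) W (isClosed_of_mem_irreducibleComponents W hW)
    haveI := hι
    have hgi := h W hW ι hr
    have hirr := (Groth.Agent.Helper4.GeomIrrSch.geometricallyIrreducible_iff
      (ι ≫ Curv2.bcSnd k X E)).mp hgi K'
    have hrange := Groth.Agent.Helper4.GeomConnSub.range_bcHom ι (Curv2.bcSnd k X E) K'
    rw [hr] at hrange
    rw [← hrange, ← Set.image_univ]
    exact (IrreducibleSpace.isIrreducible_univ _).image _
      (Groth.Agent.Helper4.GeomConnSub.bcHom ι (Curv2.bcSnd k X E) K').continuous.continuousOn
  exact key Z' hZ'

end Groth.Agent.S4646
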