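import Groth.Statements.S4651
import Mathlib
import Groth.Agent.S4650

set_option autoImplicit false
open CategoryTheory AlgebraicGeometry
universe u
open FDesc

namespace Groth.Agent.S4651

/-- Let Y be a scheme whose family of irreducible components is locally finite (every point has an open
neighbourhood meeting only finitely many irreducible components), and let f : X → Y be a morphism
along which generizations lift (e.g. flat, quasi-flat or open) such that every fibre f⁻¹(y) is a
finite set (e.g. f quasi-finite or radicial). Then the family of irreducible components of X is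
locally finite. -/
theorem result {X Y : Scheme.{u}} (f : X ⟶ Y)
    (hY : ∀ y : Y, ∃ U : Set ↥Y, IsOpen U ∧ y ∈ U ∧ {Z ∈ irreducibleComponents ↥Y | (Z ∩ U).Nonempty}.Finite)
    (hf : GeneralizingMap ⇑f) (hfin : ∀ y : Y, (⇑f ⁻¹' {y}).Finite) (x : X) :
    ∃ U : Set ↥X, IsOpen U ∧ x ∈ U ∧ {T ∈ irreducibleComponents ↥X | (T ∩ U).Nonempty}.Finite := by
  obtain ⟨U, hU, hxU, hfinU⟩ := hY (f x)
  refine ⟨f ⁻¹' U, hU.preimage f.continuous, hxU, ?_⟩
  -- generic points of the finitely many components
  set SY := {Z ∈ irreducibleComponents ↥Y | (Z ∩ U).Nonempty} with hSY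
  set G : Set Y := {η | closure {η} ∈ SY} with hG
  have hGfin : G.Finite := by
    apply Set.Finite.of_injOn (f := fun η : Y => closure ({η} : Set Y)) (t := SY) _ _ hfinU
    · intro η hη
      exact hη
    · intro η _ η' _ h
      exact ((specializes_iff_closure_subset.mpr h.ge).antisymm
        (specializes_iff_closure_subset.mpr h.le)).eq
  have hFfin : (f ⁻¹' G).Finite := hGfin.preimage' fun b _ => hfin b
  apply Set.Finite.subset (hFfin.image (fun ξ : X => closure ({ξ} : Set X)))
  rintro T ⟨hT, t, htT, htU⟩
  obtain ⟨ξ, hξ, hC, hmem⟩ :=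
    Groth.Agent.S4650.closure_image_mem_irreducibleComponents f f.continuous hf T hT
  refine ⟨ξ, ?_, hξ.def⟩
  show closure {f ξ} ∈ SY
  rw [← hC]
  refine ⟨hmem, f ξ, subset_closure ⟨ξ, hξ.mem, rfl⟩, ?_⟩
  -- ξ ∈ f⁻¹ U since t ∈ closure {ξ}
  have : ξ ⤳ t := by
    rw [specializes_iff_mem_closure, hξ.def]; exact htT
  exact this.mem_open (hU.preimage f.continuous) htU

end Groth.Agent.S4651
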