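import Groth.Statements.S4652
import Groth.Agent.Helper4.FinLocFree2
import Mathlib

set_option autoImplicit false
open CategoryTheory AlgebraicGeometry
universe u
open FDesc

namespace Groth.Agent.S4652


/-- Let X be a scheme, F a finitely presented O_X-module and x a point of X. Then F_x is a flat module
over the local ring O_{X,x} if and only if x has an open neighbourhood U such that the restriction
of F to U is finite locally free. -/
theorem result {X : Scheme.{u}} (F : X.Modules) (hF : CohB1.IsFP F) (x : X) :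
    FlatMod.IsFlatAt F x ↔ ∃ U : X.Opens, x ∈ U ∧ FlatMod.IsFinLocFree ((Scheme.Modules.pullback U.ι).obj F) := by

  haveI := Groth.Agent.Helper4.FinLocFree2.isQuasicoherent_of_isFinitePresentation F hF
  constructor
  · intro hflat
    obtain ⟨V, n, hxV, hV⟩ :=
      Groth.Agent.Helper4.FinLocFree2.exists_isFreeAlong_of_fp_of_flat_stalk F hF x hflat
    obtain ⟨i⟩ := hV
    refine ⟨V, hxV, ?_⟩
    exact Groth.Agent.Helper4.FinLocFree2.isFinLocFree_of_iso
      (i.symm ≪≫ (Scheme.Modules.restrictFunctorIsoPullback V.ι).app F)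
      (Groth.Agent.Helper4.FinLocFree2.isFinLocFree_freeMod n)
  · rintro ⟨U, hxU, hU⟩
    obtain ⟨W, n, hxW, hW⟩ := hU ⟨x, hxU⟩
    have h1 : Groth.Agent.Helper4.FinLocFree.IsFreeAlong (F.restrict U.ι) W.ι n :=
      Groth.Agent.Helper4.FinLocFree.IsFreeAlong.of_iso
        ((Scheme.Modules.restrictFunctorIsoPullback U.ι).app F).symm W.ι hW
    have h2 := (Groth.Agent.Helper4.FinLocFree.IsFreeAlong.restrict_iff U.ι W.ι).mp h1
    have h3 := h2.opensRange
    have hx3 : x ∈ (W.ι ≫ U.ι).opensRange := ⟨⟨⟨x, hxU⟩, hxW⟩, rfl⟩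
    obtain ⟨b⟩ := Groth.Agent.Helper4.FinLocFree2.nonempty_basis_stalk_of_isFreeAlong F h3 x hx3
    haveI : Module.Free (X.presheaf.stalk x) (F.presheaf.stalk x) := Module.Free.of_basis b
    exact (inferInstance : Module.Flat (X.presheaf.stalk x) (F.presheaf.stalk x))

end Groth.Agent.S4652
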