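import Groth.Statements.S4654
import Groth.Agent.Helper4.FlatExact
import Groth.Agent.Helper4.EpiStalk
import Groth.Agent.Helper4.StalkExact
import Mathlib

set_option autoImplicit false
open CategoryTheory AlgebraicGeometry
universe u
open FDesc

namespace Groth.Agent.S4654


/-- Let f : X → Y be a morphism of schemes and 0 → F' → F → F'' → 0 a short exact sequence of
quasi-coherent O_X-modules such that F'' is flat over Y. Then F is flat over Y if and only if F' is
flat over Y. -/
theorem result {X Y : Scheme.{u}} (f : X ⟶ Y) (S : ShortComplex X.Modules)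
    (hS : S.ShortExact) (h₁ : Coh.IsQCoh S.X₁) (h₂ : Coh.IsQCoh S.X₂) (h₃ : Coh.IsQCoh S.X₃)
    (hflat : FlatMod.IsFlatOver f S.X₃) :
    FlatMod.IsFlatOver f S.X₂ ↔ FlatMod.IsFlatOver f S.X₁ := by

  haveI := hS.mono_f
  haveI := hS.epi_g
  have key : ∀ x : X, FlatMod.IsFlatOverAt f S.X₂ x ↔ FlatMod.IsFlatOverAt f S.X₁ x := by
    intro x
    letI := FlatMod.moduleStalkOver f S.X₁ x
    letI := FlatMod.moduleStalkOver f S.X₂ x
    letI := FlatMod.moduleStalkOver f S.X₃ x
    let g' : (S.X₁.presheaf.stalk x) →ₗ[Y.presheaf.stalk (f.base x)] (S.X₂.presheaf.stalk x) :=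
      { toFun := Groth.Agent.Helper4.StalkDict.stalkLin S.f x
        map_add' := map_add _
        map_smul' := fun r m =>
          (Groth.Agent.Helper4.StalkDict.stalkLin S.f x).map_smul ((f.stalkMap x).hom r) m }
    let f' : (S.X₂.presheaf.stalk x) →ₗ[Y.presheaf.stalk (f.base x)] (S.X₃.presheaf.stalk x) :=
      { toFun := Groth.Agent.Helper4.StalkDict.stalkLin S.g x
        map_add' := map_add _
        map_smul' := fun r m =>
          (Groth.Agent.Helper4.StalkDict.stalkLin S.g x).map_smul ((f.stalkMap x).hom r) m }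
    haveI : Module.Flat (Y.presheaf.stalk (f.base x)) (S.X₃.presheaf.stalk x) := hflat x
    exact Groth.Agent.Helper4.FlatExact.flat_iff_of_exact_of_flat g' f'
      (Groth.Agent.Helper4.StalkExact.stalkLin_injective S.f x)
      (Groth.Agent.Helper4.EpiStalk.stalkLin_surjective_of_epi S.g x)
      (Groth.Agent.Helper4.StalkExact.stalkLin_exact S hS.exact x)
  exact ⟨fun h x => (key x).mp (h x), fun h x => (key x).mpr (h x)⟩

end Groth.Agent.S4654
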