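import Groth.Statements.S4665
import Mathlib
import Groth.Agent.S4664

set_option autoImplicit false
open CategoryTheory AlgebraicGeometry
universe u
open FBase

namespace Groth.Agent.S4665

theorem transfer {A B : Type*} [TopologicalSpace A] [TopologicalSpace B] (q : A → B)
    (hq : Continuous q) (hs : Function.Surjective q) :
    (IsEmpty A ∨ ConnectedSpace A) → (IsEmpty B ∨ ConnectedSpace B) := by
  rintro (hE | hC)
  · left
    exact ⟨fun b => by obtain ⟨a, _⟩ := hs b; exact hE.elim a⟩
  · right
    exact hs.connectedSpace hq

open CategoryTheory.Limits in
/-- Let f : X → Y and g : Y' → Y be morphisms of schemes with g surjective, and let f' : X ×_Y Y' → Y'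
be the base change of f. Say that a morphism has geometrically connected fibres when, for every
field K and every morphism from Spec K to its target, the base change to Spec K is empty or
connected (so an empty fibre counts as geometrically connected). If f' has geometrically connected
fibres in this sense, then so has f. -/
theorem result {X Y Y' : Scheme.{u}} (f : X ⟶ Y)
    (g : Y' ⟶ Y) [Surjective g]
    (h : geometrically (fun Z : Scheme.{u} => IsEmpty ↥Z ∨ ConnectedSpace ↥Z) (pullback.snd f g)) :
    geometrically (fun Z : Scheme.{u} => IsEmpty ↥Z ∨ ConnectedSpace ↥Z) f := by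
  intro K _ y Z fst snd hpb
  obtain ⟨L, _, a, b, hab⟩ := Groth.Agent.S4664.exists_common_field g K y
  have h1 : IsEmpty ↥(pullback (pullback.snd f g) b) ∨
      ConnectedSpace ↥(pullback (pullback.snd f g) b) :=
    pullback_of_geometrically h L b
  have h2 : IsEmpty ↥(pullback f (b ≫ g)) ∨ ConnectedSpace ↥(pullback f (b ≫ g)) :=
    transfer _ (pullbackLeftPullbackSndIso f g b).hom.homeomorph.continuous
      (pullbackLeftPullbackSndIso f g b).hom.homeomorph.surjective h1
  rw [← hab] at h2
  have h3 : IsEmpty ↥(pullback (pullback.snd f y) a) ∨
      ConnectedSpace ↥(pullback (pullback.snd f y) a) :=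
    transfer _ (pullbackLeftPullbackSndIso f y a).inv.homeomorph.continuous
      (pullbackLeftPullbackSndIso f y a).inv.homeomorph.surjective h2
  have hsa : Surjective a := by
    constructor
    intro z
    have : Nonempty ↥(Spec (CommRingCat.of L)) := inferInstance
    obtain ⟨w⟩ := this
    exact ⟨w, Subsingleton.elim _ _⟩
  have h4 : Surjective (pullback.fst (pullback.snd f y) a) := inferInstance
  have h5 : IsEmpty ↥(pullback f y) ∨ ConnectedSpace ↥(pullback f y) :=
    transfer _ (pullback.fst (pullback.snd f y) a).continuous
      (pullback.fst (pullback.snd f y) a).surjective h3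
  exact transfer _ hpb.isoPullback.inv.homeomorph.continuous
    hpb.isoPullback.inv.homeomorph.surjective h5

end Groth.Agent.S4665
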