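import Groth.Statements.S4667
import Mathlib

set_option autoImplicit false
open CategoryTheory AlgebraicGeometry
universe u
open FDesc

namespace Groth.Agent.S4667

theorem toImage_ker {X Y : Scheme.{u}} (f : X ⟶ Y) [QuasiCompact f] : f.toImage.ker = ⊥ := by
  refine Scheme.IdealSheafData.ext_of_iSup_eq_top
    (fun U : Y.affineOpens => (⟨f.imageι ⁻¹ᵁ U.1, U.2.preimage f.imageι⟩ : f.image.affineOpens))
    ?_ ?_
  · have h1 := AlgebraicGeometry.iSup_affineOpens_eq_top Y
    have h2 : f.imageι ⁻¹ᵁ (⨆ i : Y.affineOpens, (i : Y.Opens)) = ⊤ := by rw [h1]; rfl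
    rw [← h2, Scheme.Hom.preimage_iSup]
  · intro U
    rw [Scheme.Hom.ker_apply, Scheme.IdealSheafData.ideal_bot, Pi.bot_apply]
    exact (RingHom.injective_iff_ker_eq_bot _).mp (f.toImage_app_injective U)

open CategoryTheory.Limits in
theorem aux {X Y Y' : Scheme.{u}} (f : X ⟶ Y) (g : Y' ⟶ Y)
    [QuasiCompact f] [Flat g] :
    (pullback.snd f g).ker = f.ker.comap g := by
  let ι := f.imageι
  let t := f.toImage
  have hf : t ≫ ι = f := f.toImage_imageι
  let s : pullback f g ⟶ pullback g ι :=
    pullback.lift (pullback.snd f g) (pullback.fst f g ≫ t)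
      (by rw [Category.assoc, hf, pullback.condition])
  have hs1 : s ≫ pullback.fst g ι = pullback.snd f g := pullback.lift_fst _ _ _
  have hs2 : s ≫ pullback.snd g ι = pullback.fst f g ≫ t := pullback.lift_snd _ _ _
  have hbot : IsPullback (pullback.snd g ι) (pullback.fst g ι) ι g :=
    (IsPullback.of_hasPullback g ι).flip
  have hbig : IsPullback (pullback.fst f g) (s ≫ pullback.fst g ι) (t ≫ ι) g := by
    rw [hs1, hf]
    exact IsPullback.of_hasPullback f g
  have htop : IsPullback (pullback.fst f g) s t (pullback.snd g ι) :=
    IsPullback.of_bot hbig hs2.symm hbot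
  haveI : IsSchemeTheoreticallyDominant t := ⟨toImage_ker f⟩
  haveI : IsSchemeTheoreticallyDominant s := IsSchemeTheoreticallyDominant.of_isPullback htop
  rw [← hs1, Scheme.Hom.ker_comp, s.ker_eq_bot, Scheme.IdealSheafData.map_bot,
    Scheme.IdealSheafData.ker_fst_of_isClosedImmersion]
  congr 1
  exact Scheme.IdealSheafData.ker_subschemeι _

open CategoryTheory.Limits in
/-- Let f : X → Y be a quasi-compact morphism of schemes and g : Y' → Y a flat morphism, and let f' : X
×_Y Y' → Y' be the base change of f. Then the scheme-theoretic image of f' is the inverse image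
under g of the scheme-theoretic image of f: the quasi-coherent ideal sheaf cutting out the former is
the pull-back along g of the one cutting out the latter. (One published statement is phrased for a
quasi-compact and quasi-separated S-morphism f and a flat base change S′ → S, which reduces to this
case; quasi-compactness of f suffices.) -/
theorem result {X Y Y' : Scheme.{u}} (f : X ⟶ Y) (g : Y' ⟶ Y)
    [QuasiCompact f] [Flat g] :
    (pullback.snd f g).ker = f.ker.comap g := by
  exact aux f g

end Groth.Agent.S4667
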