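import Groth.Statements.S4674
import Mathlib
-- import your own Groth.Agent.* helpers here

set_option autoImplicit false
open scoped TensorProduct
universe u v w
open FDesc

namespace Groth.Agent.S4674

/-- Let B be a flat A-algebra and M a finitely presented A-module. Then the annihilator of the B-module
B ⊗_A M is the ideal of B generated by the image of the annihilator of M. -/
theorem result {A : Type u} {B : Type v} [CommRing A] [CommRing B] [Algebra A B]
    [Module.Flat A B] (M : Type w) [AddCommGroup M] [Module A M] [Module.FinitePresentation A M] :
    Module.annihilator B (B ⊗[A] M) = (Module.annihilator A M).map (algebraMap A B) := by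
  apply le_antisymm
  · intro b hb
    obtain ⟨n, s, hs⟩ := Module.Finite.exists_fin (R := A) (M := M)
    let φ : A →ₗ[A] (Fin n → M) := LinearMap.pi (fun i => LinearMap.toSpanSingleton A M (s i))
    have hker : LinearMap.ker φ = Module.annihilator A M := by
      ext a
      simp only [LinearMap.mem_ker, Module.mem_annihilator]
      constructor
      · intro ha m
        have hm : m ∈ Submodule.span A (Set.range s) := hs ▸ Submodule.mem_top
        induction hm using Submodule.span_induction with
        | mem x hx =>
          obtain ⟨i, rfl⟩ := hx
          have := congrFun ha i
          simpa [φ] using this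
        | zero => simp
        | add x y _ _ hx hy => rw [smul_add, hx, hy, add_zero]
        | smul c x _ hx => rw [smul_comm, hx, smul_zero]
      · intro ha
        ext i
        simpa [φ] using ha (s i)
    have hex : Function.Exact ((LinearMap.ker φ).subtype.lTensor B) (φ.lTensor B) :=
      Module.Flat.lTensor_exact B (LinearMap.exact_subtype_ker_map φ)
    have h0 : (φ.lTensor B) (b ⊗ₜ[A] (1 : A)) = 0 := by
      apply (TensorProduct.piRight A A B (fun _ : Fin n => M)).injective
      ext i
      simp only [LinearMap.lTensor_tmul, map_zero, Pi.zero_apply, TensorProduct.piRight_apply,
        TensorProduct.piRightHom_tmul]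
      have h1 : φ 1 i = s i := by simp [φ]
      rw [h1]
      have h2 := Module.mem_annihilator.mp hb ((1 : B) ⊗ₜ[A] s i)
      rwa [TensorProduct.smul_tmul', smul_eq_mul, mul_one] at h2
    obtain ⟨x, hx⟩ := (hex _).mp h0
    have key : ∀ x : B ⊗[A] (LinearMap.ker φ),
        TensorProduct.rid A B ((LinearMap.ker φ).subtype.lTensor B x) ∈
          (Module.annihilator A M).map (algebraMap A B) := by
      intro x
      induction x using TensorProduct.induction_on with
      | zero => simp
      | tmul b' a =>
        simp only [LinearMap.lTensor_tmul, Submodule.subtype_apply, TensorProduct.rid_tmul]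
        rw [Algebra.smul_def]
        apply Ideal.mul_mem_right
        apply Ideal.mem_map_of_mem
        rw [← hker]
        exact a.2
      | add x y hx hy =>
        rw [map_add, map_add]
        exact Ideal.add_mem _ hx hy
    have := key x
    rw [hx, TensorProduct.rid_tmul, one_smul] at this
    exact this
  · rw [Ideal.map_le_iff_le_comap]
    intro a ha
    rw [Ideal.mem_comap, Module.mem_annihilator]
    intro x
    induction x using TensorProduct.induction_on with
    | zero => simp
    | tmul b m =>
      rw [TensorProduct.smul_tmul', smul_eq_mul, ← Algebra.smul_def, TensorProduct.smul_tmul,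
        Module.mem_annihilator.mp ha m, TensorProduct.tmul_zero]
    | add x y hx hy => rw [smul_add, hx, hy, add_zero]

end Groth.Agent.S4674
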