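import Groth.Statements.S4682
import Groth.Agent.Helper5.GVanA

set_option autoImplicit false
open CategoryTheory AlgebraicGeometry
universe u
open FBase

namespace Groth.Agent.S4682

/-- Let Y be a scheme over a field K', let K be an extension field of K' which is separable over K'
(Spec K → Spec K' is geometrically reduced), let g : Y ⊗_{K'} K → Y be the projection and T a closed
subset of Y ⊗_{K'} K. Then T is defined over K' as a closed subset, that is T = g⁻¹(T') for some
closed subset T' of Y, if and only if the reduced closed subscheme of Y ⊗_{K'} K with support T is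
defined over K', that is, there is a quasi-coherent ideal sheaf of O_Y whose inverse image in Y
⊗_{K'} K is the vanishing ideal sheaf of T. -/
theorem result {K' K : Type u} [Field K'] [Field K] [Algebra K' K]
    {Y : Scheme.{u}} (fY : Y ⟶ Spec (CommRingCat.of K'))
    [GeometricallyReduced (Spec.map (CommRingCat.ofHom (algebraMap K' K)))]
    (T : TopologicalSpace.Closeds ↥(FBase.bc fY K)) :
    (∃ T' : TopologicalSpace.Closeds ↥Y, (T : Set ↥(FBase.bc fY K)) = ⇑(FBase.bcπ fY K) ⁻¹' (T' : Set ↥Y)) ↔
      ∃ J : Y.IdealSheafData, J.comap (FBase.bcπ fY K) = Scheme.IdealSheafData.vanishingIdeal T := by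
  set s := Spec.map (CommRingCat.ofHom (algebraMap K' K)) with hs
  have hπ : FBase.bcπ fY K = Limits.pullback.fst fY s := rfl
  constructor
  · rintro ⟨T', hT'⟩
    refine ⟨Scheme.IdealSheafData.vanishingIdeal T', ?_⟩
    set J := Scheme.IdealSheafData.vanishingIdeal T' with hJ
    have hJsupp : J.support = T' :=
      TopologicalSpace.Closeds.ext (Scheme.IdealSheafData.coe_support_vanishingIdeal T')
    have hsupp : (J.comap (FBase.bcπ fY K)).support = T := by
      apply TopologicalSpace.Closeds.ext
      rw [Scheme.IdealSheafData.support_comap, hJsupp, hT']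
      rfl
    have hJred : IsReduced J.subscheme := by
      rw [Groth.Agent.S4368.isReduced_subscheme_iff,
        ← Scheme.IdealSheafData.vanishingIdeal_support, hJsupp]
    have hred : IsReduced (J.comap (FBase.bcπ fY K)).subscheme := by
      haveI : IsReduced (Limits.pullback (J.subschemeι ≫ fY) s) :=
        Groth.Agent.Helper5.GVan.isReduced_pullback_field
          (fun L _ _ => Groth.Agent.Helper5.GVan.forall_field_of_geometricallyReduced L)
          (J.subschemeι ≫ fY)
      haveI : IsReduced (Limits.pullback J.subschemeι (Limits.pullback.fst fY s)) :=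
        isReduced_of_isOpenImmersion (Limits.pullbackRightPullbackFstIso fY s J.subschemeι).hom
      haveI : IsReduced (Limits.pullback (Limits.pullback.fst fY s) J.subschemeι) :=
        isReduced_of_isOpenImmersion
          (Limits.pullbackSymmetry (Limits.pullback.fst fY s) J.subschemeι).hom
      exact isReduced_of_isOpenImmersion (J.comapIso (Limits.pullback.fst fY s)).hom
    rw [Groth.Agent.S4368.isReduced_subscheme_iff,
      ← Scheme.IdealSheafData.vanishingIdeal_support, hsupp] at hred
    exact hred.symm
  · rintro ⟨J, hJ⟩
    refine ⟨J.support, ?_⟩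
    have h1 : ((J.comap (FBase.bcπ fY K)).support : Set ↥(FBase.bc fY K)) = (T : Set _) := by
      rw [hJ, Scheme.IdealSheafData.coe_support_vanishingIdeal]
    rw [← h1, Scheme.IdealSheafData.support_comap]
    rfl

end Groth.Agent.S4682
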