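import Groth.Statements.S4692
import Groth.Agent.Helper5.UCat7

set_option autoImplicit false
universe u
open EGA4

namespace Groth.Agent.S4692

open AlgebraicGeometry CategoryTheory in
/-- Let Y be a locally Noetherian scheme all of whose local rings are universally catenary, X an
irreducible scheme, f : X → Y a morphism locally of finite type and n a natural number. If every
fibre of f has dimension at least n then dim X ≥ dim Y + n; if every fibre has dimension exactly n
then dim X = dim Y + n. (The empty scheme has dimension ⊥, so either hypothesis forces f to be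
surjective.) -/
theorem result {X Y : Scheme.{u}} (f : X ⟶ Y) [IsLocallyNoetherian Y]
    [LocallyOfFiniteType f] [IrreducibleSpace X] (hY : ∀ y : Y, CAlg.IsUniversallyCatenary (Y.presheaf.stalk y))
    (n : ℕ) :
    ((∀ y : Y, (n : WithBot ℕ∞) ≤ topologicalKrullDim (f.fiber y)) →
        topologicalKrullDim Y + n ≤ topologicalKrullDim X) ∧
      ((∀ y : Y, topologicalKrullDim (f.fiber y) = n) →
        topologicalKrullDim X = topologicalKrullDim Y + n) := by
  let ξ := genericPoint ↥X
  have hξ : closure ({ξ} : Set X) = Set.univ := genericPoint_closure X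
  have hξ' : ∀ x : X, ξ ⤳ x := by
    intro x
    rw [specializes_iff_mem_closure, hξ]; trivial
  have main : (∀ y : Y, (n : WithBot ℕ∞) ≤ topologicalKrullDim (f.fiber y)) →
      ∃ m : ℕ, topologicalKrullDim ↥(f.fiber (f ξ)) = m ∧
        topologicalKrullDim X = topologicalKrullDim Y + m := by
    intro h
    have hsurj : Function.Surjective f := by
      intro y
      have hne : Nonempty ↥(f.fiber y) := by
        by_contra hemp
        rw [not_nonempty_iff] at hemp
        have h1 := h y
        rw [Groth.Agent.Helper5.EtDim.topologicalKrullDim_eq_iSup_coheight, iSup_of_empty] at h1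
        exact absurd h1 (by simp)
      obtain ⟨z⟩ := hne
      exact ⟨f.fiberι y z, Groth.Agent.Helper5.VarDim.apply_fiberι f y z⟩
    have hη : ∀ y : Y, f ξ ⤳ y := by
      intro y
      obtain ⟨x, rfl⟩ := hsurj y
      exact (hξ' x).map f.continuous
    obtain ⟨m, hm1, hK⟩ := Groth.Agent.Helper5.UCat.dim_eq_iSup_add f hY ξ hξ hη
    refine ⟨m, hm1, ?_⟩
    have hneY : Nonempty Y := ⟨f ξ⟩
    rw [hK, Groth.Agent.Helper5.UCat.topologicalKrullDim_eq_coe_iSup Y,
      hsurj.iSup_comp (fun y : Y => Order.coheight y)]
  constructor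
  · intro h
    obtain ⟨m, hm1, hK⟩ := main h
    have hnm : (n : WithBot ℕ∞) ≤ (m : WithBot ℕ∞) := hm1 ▸ h (f ξ)
    rw [hK]
    gcongr
  · intro h
    obtain ⟨m, hm1, hK⟩ := main (fun y => (h y).ge)
    have hnm : (m : WithBot ℕ∞) = (n : WithBot ℕ∞) := hm1.symm.trans (h (f ξ))
    rw [hK, hnm]

end Groth.Agent.S4692
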