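import Groth.Statements.S4693
import Mathlib
import Groth.Agent.Helper6.FlatGD

set_option autoImplicit false
universe u
open EGA4

namespace Groth.Agent.S4693

/-- Let A → B be a local homomorphism of Noetherian local rings such that the closed fibre ring B/m_A B
has Krull dimension 0 (that is, m_A B is an ideal of definition of B). Then dim B ≤ dim A. If
moreover some finite B-module which is flat over A has support equal to all of Spec B (for instance
if B is flat over A), then dim B = dim A. -/
theorem result (A B : Type u) [CommRing A] [CommRing B] [IsNoetherianRing A]
    [IsNoetherianRing B] [IsLocalRing A] [IsLocalRing B] [Algebra A B] [IsLocalHom (algebraMap A B)]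
    (h0 : ringKrullDim (EGA4.FibRing A B) = 0) :
    ringKrullDim B ≤ ringKrullDim A ∧
      (∀ (N : Type u) [AddCommGroup N] [Module B N] [Module A N] [IsScalarTower A B N] [Module.Finite B N]
          [Module.Flat A N], Module.support B N = Set.univ → ringKrullDim B = ringKrullDim A) := by
  open Groth.Agent.Helper6 in
  have hmB : (EGA4.mB A B • (⊤ : Submodule B B)) = EGA4.mB A B := by
    rw [smul_eq_mul, Ideal.mul_top]
  constructor
  · have h1 := FlatDim.supportDim_tensor_le (A := A) (B := B) A B
    rw [Module.supportDim_eq_of_equiv (TensorProduct.AlgebraTensorModule.rid A B B),
      Module.supportDim_self_eq_ringKrullDim, Module.supportDim_self_eq_ringKrullDim] at h1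
    have h2 : Module.supportDim B (B ⧸ ((IsLocalRing.maximalIdeal A).map (algebraMap A B) •
        (⊤ : Submodule B B))) = 0 := by
      have hself : Module.support B B = Set.univ := by
        refine Set.eq_univ_iff_forall.mpr fun p => ?_
        rw [Module.mem_support_iff_of_finite]
        intro x hx
        have h3 := Module.mem_annihilator.mp hx 1
        rw [smul_eq_mul, mul_one] at h3
        rw [h3]
        exact p.asIdeal.zero_mem
      rw [Module.supportDim, Module.support_quotient, hself, Set.univ_inter,
        ← ringKrullDim_quotient]
      exact h0
    rw [h2, add_zero] at h1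
    exact h1
  · intro N _ _ _ _ _ _ hsupp
    haveI : Nontrivial N := by
      by_contra hcon
      rw [not_nontrivial_iff_subsingleton] at hcon
      have : Module.support B N = ∅ := Module.support_eq_empty
      rw [hsupp] at this
      exact Set.univ_nonempty.ne_empty this
    have h1 := FlatGD.supportDim_tensor_eq (A := A) (B := B) A N
    rw [Module.supportDim_eq_of_equiv (TensorProduct.AlgebraTensorModule.rid A B N),
      Module.supportDim_self_eq_ringKrullDim] at h1
    have h2 : Module.supportDim B (N ⧸ ((IsLocalRing.maximalIdeal A).map (algebraMap A B) •
        (⊤ : Submodule B N))) = 0 := by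
      rw [Module.supportDim, Module.support_quotient, hsupp, Set.univ_inter,
        ← ringKrullDim_quotient]
      exact h0
    have h3 : Module.supportDim B N = ringKrullDim B := by
      rw [Module.supportDim, hsupp]
      exact Order.krullDim_eq_of_orderIso (OrderIso.Set.univ)
    rw [h2, add_zero, h3] at h1
    exact h1

end Groth.Agent.S4693
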