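import Groth.Statements.S4711
import Groth.Agent.Lead.ProConsLib2

set_option autoImplicit false
universe u
open EGA4

namespace Groth.Agent.S4711

open AlgebraicGeometry Topology in
theorem aux (X : Scheme.{u}) (E : Set X)
    (hE : Topology.IsLocallyConstructible E) (hne : E.Nonempty) :
    ∃ x ∈ E, IsLocallyClosed ({x} : Set X) := by
  obtain ⟨x₀, hx₀⟩ := hne
  obtain ⟨V₁, V₂, h1, h2, h3, h4, h5, h6, h7⟩ := Groth.Agent.Lead.ProConsLib.ind_pieces
    (Groth.Agent.Lead.ProConsLib.ind_of_isLocallyConstructible hE) x₀ hx₀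
  haveI : CompactSpace (V₁ : Set X) := isCompact_iff_compactSpace.mp h1.isCompact
  let S : Set (V₁ : Set X) := Subtype.val ⁻¹' V₂ᶜ
  have hS : IsClosed S := h2.isClosed_compl.preimage continuous_subtype_val
  have hSne : S.Nonempty := ⟨⟨x₀, h5⟩, h6⟩
  obtain ⟨x, hxS, hxc⟩ := hS.exists_closed_singleton hSne
  refine ⟨x.1, h7 ⟨x.2, hxS⟩, ?_⟩
  have hcl : IsClosed (Subtype.val ⁻¹' ({x.1} : Set X) : Set (V₁ : Set X)) := by
    convert hxc using 1
    ext y
    simp only [Set.mem_preimage, Set.mem_singleton_iff]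
    exact Subtype.ext_iff.symm
  obtain ⟨Z, hZ, hZeq⟩ := isClosed_induced_iff.mp hcl
  refine ⟨(V₁ : Set X), Z, V₁.2, hZ, ?_⟩
  ext y
  constructor
  · intro hy
    rw [Set.mem_singleton_iff] at hy
    subst hy
    refine ⟨x.2, ?_⟩
    have : x ∈ (Subtype.val ⁻¹' Z : Set (V₁ : Set X)) := by
      rw [hZeq]; rfl
    exact this
  · rintro ⟨hy1, hy2⟩
    have : (⟨y, hy1⟩ : (V₁ : Set X)) ∈ (Subtype.val ⁻¹' Z : Set (V₁ : Set X)) := hy2
    rw [hZeq] at this
    exact this

open AlgebraicGeometry Topology in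
/-- In any scheme X, every nonempty locally constructible subset E contains a point x such that the
one-point set {x} is locally closed in X (equivalently x is isolated in its closure). -/
theorem result (X : Scheme.{u}) (E : Set X)
    (hE : Topology.IsLocallyConstructible E) (hne : E.Nonempty) :
    ∃ x ∈ E, IsLocallyClosed ({x} : Set X) := by
  exact aux X E hE hne

end Groth.Agent.S4711
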