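import Groth.Statements.S4713
import Groth.Agent.Helper5.JacSch

set_option autoImplicit false
universe u
open EGA4

namespace Groth.Agent.S4713

open AlgebraicGeometry in
/-- In a locally Noetherian scheme X, every nonempty closed subset contains a closed point of X. -/
theorem result (X : Scheme.{u}) [IsLocallyNoetherian X]
    (Z : Set X) (hZ : IsClosed Z) (hne : Z.Nonempty) : ∃ x ∈ Z, IsClosed ({x} : Set X) := by
  exact Groth.Agent.Helper5.Jac.exists_closedPoint_of_isClosed Z hZ hne

end Groth.Agent.S4713
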