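import Groth.Statements.S4716
import Groth.Agent.Helper1.SchemeTop

set_option autoImplicit false
universe u
open EGA4

namespace Groth.Agent.S4716

open Topology in
/-- an open continuous map from a locally Noetherian quasi-sober space to a T0 space is
generalizing -/
theorem generalizingMap_of_isOpenMap {A B : Type*} [TopologicalSpace A] [TopologicalSpace B]
    [QuasiSober A] [T0Space B] (hA : ∀ x : A, ∃ U ∈ nhds x, TopologicalSpace.NoetherianSpace U)
    (g : A → B) (hc : Continuous g) (ho : IsOpenMap g) : GeneralizingMap g := by
  intro a b hb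
  obtain ⟨V, hVo, haV, -, hVn⟩ :=
    Groth.Agent.Helper1.FinCondTop.exists_open_noetherian_nhd hA a Filter.univ_mem
  set F : Set A := g ⁻¹' closure {b} with hF
  have hFc : IsClosed F := isClosed_closure.preimage hc
  have haF : a ∈ F := specializes_iff_mem_closure.mp hb
  haveI : TopologicalSpace.NoetherianSpace ↥(V ∩ F) := TopologicalSpace.NoetherianSpace.of_subset (W := V) Set.inter_subset_left
  let a' : ↥(V ∩ F) := ⟨a, haV, haF⟩
  have hfin : (irreducibleComponents ↥(V ∩ F)).Finite := TopologicalSpace.NoetherianSpace.finite_irreducibleComponents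
  let 𝒮 : Set (Set ↥(V ∩ F)) := {Z | Z ∈ irreducibleComponents ↥(V ∩ F) ∧ a' ∉ Z}
  have h𝒮fin : 𝒮.Finite := hfin.subset (fun Z hZ => hZ.1)
  have hCc : IsClosed (⋃₀ 𝒮) := by
    rw [Set.sUnion_eq_biUnion]
    exact Set.Finite.isClosed_biUnion h𝒮fin
      (fun Z hZ => isClosed_of_mem_irreducibleComponents Z hZ.1)
  have haC : a' ∉ ⋃₀ 𝒮 := by
    rintro ⟨Z, hZ, haZ⟩
    exact hZ.2 haZ
  obtain ⟨O', hO'o, hO'⟩ := isOpen_induced_iff.mp hCc.isOpen_compl
  have haO' : a ∈ O' := by
    have : a' ∈ (Subtype.val ⁻¹' O' : Set ↥(V ∩ F)) := by rw [hO']; exact haC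
    exact this
  have hNo : IsOpen (g '' (O' ∩ V)) := ho _ (hO'o.inter hVo)
  have hbN : b ∈ g '' (O' ∩ V) := hb.mem_open hNo ⟨a, ⟨haO', haV⟩, rfl⟩
  obtain ⟨x, ⟨hxO', hxV⟩, hgx⟩ := hbN
  have hxF : x ∈ F := by
    change g x ∈ closure {b}
    rw [hgx]
    exact subset_closure rfl
  let t : ↥(V ∩ F) := ⟨x, hxV, hxF⟩
  have htC : t ∉ ⋃₀ 𝒮 := by
    have : t ∈ (Subtype.val ⁻¹' O' : Set ↥(V ∩ F)) := hxO'
    rw [hO'] at this
    exact this
  have hZmem : irreducibleComponent t ∈ irreducibleComponents ↥(V ∩ F) :=
    irreducibleComponent_mem_irreducibleComponents t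
  have haZ : a' ∈ irreducibleComponent t := by
    by_contra hcon
    exact htC ⟨_, ⟨hZmem, hcon⟩, mem_irreducibleComponent⟩
  have hZ'i : IsIrreducible (closure (Subtype.val '' irreducibleComponent t : Set A)) :=
    (isIrreducible_irreducibleComponent.image Subtype.val
      continuous_subtype_val.continuousOn).closure
  obtain ⟨ζ, hζ⟩ := QuasiSober.sober hZ'i isClosed_closure
  have hζa : ζ ⤳ a := by
    rw [specializes_iff_mem_closure, hζ.def]
    exact subset_closure ⟨a', haZ, rfl⟩
  have hζx : ζ ⤳ x := by
    rw [specializes_iff_mem_closure, hζ.def]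
    exact subset_closure ⟨t, mem_irreducibleComponent, rfl⟩
  have hζF : ζ ∈ F := by
    have hsub : closure (Subtype.val '' irreducibleComponent t : Set A) ⊆ F := by
      apply hFc.closure_subset_iff.mpr
      rintro _ ⟨z, -, rfl⟩
      exact z.2.2
    apply hsub
    rw [← hζ.def]
    exact subset_closure rfl
  refine ⟨ζ, hζa, ?_⟩
  have h1 : g ζ ⤳ b := hgx ▸ hζx.map hc
  have h2 : b ⤳ g ζ := specializes_iff_mem_closure.mpr hζF
  exact (h1.antisymm h2).eq

/-- lifting chains along a specializing map (from the top) -/
theorem chain_specializing {A B : Type*} [TopologicalSpace A] [TopologicalSpace B]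
    [QuasiSober B] (g : A → B) (hc : Continuous g) (hsp : SpecializingMap g)
    (p : LTSeries (TopologicalSpace.IrreducibleCloseds B)) :
    ∀ x : A, closure {g x} = (p.last : Set B) →
      ∃ q : LTSeries (TopologicalSpace.IrreducibleCloseds A),
        q.length = p.length ∧ (q.last : Set A) = closure {x} := by
  induction p using RelSeries.inductionOn' with
  | singleton Z =>
    intro x _
    exact ⟨RelSeries.singleton _ ⟨closure {x}, isIrreducible_singleton.closure, isClosed_closure⟩,
      rfl, rfl⟩
  | snoc p Z hZ ih =>
    intro x hx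
    rw [RelSeries.last_snoc] at hx
    obtain ⟨y', hy'⟩ := QuasiSober.sober p.last.isIrreducible' p.last.isClosed'
    have hZ' : p.last < Z := hZ
    have hy'mem : y' ∈ (p.last : Set B) := by
      have : y' ∈ closure {y'} := subset_closure rfl
      rw [hy'.def] at this
      exact this
    have h1 : g x ⤳ y' := by
      rw [specializes_iff_mem_closure, hx]
      exact (le_of_lt hZ') hy'mem
    obtain ⟨x', hx', hgx'⟩ := hsp h1
    have hx'' : x ⤳ x' := hx'
    obtain ⟨q', hq'l, hq'last⟩ := ih x' (by rw [hgx']; exact hy'.def)
    have hlt : q'.last <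
        (⟨closure {x}, isIrreducible_singleton.closure, isClosed_closure⟩ :
          TopologicalSpace.IrreducibleCloseds A) := by
      rw [lt_iff_le_and_ne]
      constructor
      · change (q'.last : Set A) ⊆ closure {x}
        rw [hq'last]
        exact closure_minimal (Set.singleton_subset_iff.mpr
          (specializes_iff_mem_closure.mp hx'')) isClosed_closure
      · intro heq
        have heq' : (q'.last : Set A) = closure {x} := congrArg (fun W : TopologicalSpace.IrreducibleCloseds A => (W : Set A)) heq
        rw [hq'last] at heq'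
        have hx'x : x' ⤳ x := by
          rw [specializes_iff_mem_closure, heq']
          exact subset_closure rfl
        have h2 : g x' ⤳ g x := hx'x.map hc
        rw [hgx'] at h2
        have h3 : (Z : Set B) ⊆ (p.last : Set B) := by
          rw [← hx]
          change closure {g x} ⊆ p.last.carrier
          rw [← hy'.def]
          exact closure_minimal (Set.singleton_subset_iff.mpr
            (specializes_iff_mem_closure.mp h2)) isClosed_closure
        exact absurd (lt_of_lt_of_le hZ' (show Z ≤ p.last from h3)) (lt_irrefl _)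
    refine ⟨q'.snoc _ hlt, ?_, ?_⟩
    · simp [hq'l]
    · rw [RelSeries.last_snoc]
      rfl

/-- lifting chains along a generalizing map (from the bottom) -/
theorem chain_generalizing {A B : Type*} [TopologicalSpace A] [TopologicalSpace B]
    [QuasiSober B] (g : A → B) (hc : Continuous g) (hgen : GeneralizingMap g)
    (p : LTSeries (TopologicalSpace.IrreducibleCloseds B)) :
    ∀ x : A, closure {g x} = (p.head : Set B) →
      ∃ q : LTSeries (TopologicalSpace.IrreducibleCloseds A),
        q.length = p.length ∧ (q.head : Set A) = closure {x} := by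
  induction p using RelSeries.inductionOn with
  | singleton Z =>
    intro x _
    exact ⟨RelSeries.singleton _ ⟨closure {x}, isIrreducible_singleton.closure, isClosed_closure⟩,
      rfl, rfl⟩
  | cons p Z hZ ih =>
    intro x hx
    rw [RelSeries.head_cons] at hx
    obtain ⟨y', hy'⟩ := QuasiSober.sober p.head.isIrreducible' p.head.isClosed'
    have hZ' : Z < p.head := hZ
    have h1 : y' ⤳ g x := by
      rw [specializes_iff_mem_closure, hy'.def]
      apply (le_of_lt hZ')
      change g x ∈ (Z : Set B)
      rw [← hx]
      exact subset_closure rfl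
    obtain ⟨x', hx', hgx'⟩ := hgen h1
    have hx'' : x' ⤳ x := hx'
    obtain ⟨q', hq'l, hq'head⟩ := ih x' (by rw [hgx']; exact hy'.def)
    have hlt : (⟨closure {x}, isIrreducible_singleton.closure, isClosed_closure⟩ :
          TopologicalSpace.IrreducibleCloseds A) < q'.head := by
      rw [lt_iff_le_and_ne]
      constructor
      · change closure {x} ⊆ (q'.head : Set A)
        rw [hq'head]
        exact closure_minimal (Set.singleton_subset_iff.mpr
          (specializes_iff_mem_closure.mp hx'')) isClosed_closure
      · intro heq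
        have heq' : closure {x} = (q'.head : Set A) := congrArg (fun W : TopologicalSpace.IrreducibleCloseds A => (W : Set A)) heq
        rw [hq'head] at heq'
        have hxx' : x ⤳ x' := by
          rw [specializes_iff_mem_closure, heq']
          exact subset_closure rfl
        have h2 : g x ⤳ g x' := hxx'.map hc
        rw [hgx'] at h2
        have h3 : (p.head : Set B) ⊆ (Z : Set B) := by
          rw [← hx]
          change p.head.carrier ⊆ closure {g x}
          rw [← hy'.def]
          exact closure_minimal (Set.singleton_subset_iff.mpr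
            (specializes_iff_mem_closure.mp h2)) isClosed_closure
        exact absurd (lt_of_lt_of_le hZ' (show p.head ≤ Z from h3)) (lt_irrefl _)
    refine ⟨q'.cons _ hlt, ?_, ?_⟩
    · simp [hq'l]
    · rw [RelSeries.head_cons]
      rfl

open AlgebraicGeometry CategoryTheory in
theorem aux {X Y : Scheme.{u}} (f : X ⟶ Y) [IsLocallyNoetherian X]
    [IsLocallyNoetherian Y] (hs : Function.Surjective f.base) (h : IsOpenMap f.base ∨ IsClosedMap f.base) :
    topologicalKrullDim Y ≤ topologicalKrullDim X := by
  unfold topologicalKrullDim Order.krullDim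
  apply iSup_le
  intro p
  rcases h with ho | hcl
  · have hgen : GeneralizingMap f.base :=
      generalizingMap_of_isOpenMap (Groth.Agent.Helper1.SchemeTop.nhds_noetherian X) f.base
        f.continuous ho
    obtain ⟨y, hy⟩ := QuasiSober.sober p.head.isIrreducible' p.head.isClosed'
    obtain ⟨x, rfl⟩ := hs y
    obtain ⟨q, hql, -⟩ := chain_generalizing f.base f.continuous hgen p x hy.def
    rw [← hql]
    exact le_iSup (fun q : LTSeries (TopologicalSpace.IrreducibleCloseds X) =>
      (q.length : WithBot ℕ∞)) q
  · obtain ⟨y, hy⟩ := QuasiSober.sober p.last.isIrreducible' p.last.isClosed'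
    obtain ⟨x, rfl⟩ := hs y
    obtain ⟨q, hql, -⟩ := chain_specializing f.base f.continuous hcl.specializingMap p x hy.def
    rw [← hql]
    exact le_iSup (fun q : LTSeries (TopologicalSpace.IrreducibleCloseds X) =>
      (q.length : WithBot ℕ∞)) q

open AlgebraicGeometry CategoryTheory in
/-- Consider locally Noetherian schemes X and Y and a morphism f : X → Y that is surjective and whose
underlying map is either open or closed. Then dim X ≥ dim Y. -/
theorem result {X Y : Scheme.{u}} (f : X ⟶ Y) [IsLocallyNoetherian X]
    [IsLocallyNoetherian Y] (hs : Function.Surjective f.base) (h : IsOpenMap f.base ∨ IsClosedMap f.base) :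
    topologicalKrullDim Y ≤ topologicalKrullDim X := by
  exact aux f hs h

end Groth.Agent.S4716
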