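import Groth.Statements.S4726
import Groth.Agent.Helper4.FPDescent
import Mathlib

set_option autoImplicit false
universe u
open EGA4

namespace Groth.Agent.S4726


open TensorProduct in
/-- Let (A_i) be a directed system of commutative rings with direct limit A and M a finitely presented
A-module. Then there exist an index i and a finitely presented A_i-module M_i such that M is
isomorphic, as an A-module, to A ⊗_{A_i} M_i (A being an A_i-algebra through the canonical map). -/
theorem result (ι : Type u) [Preorder ι] [Nonempty ι] [IsDirectedOrder ι]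
    (G : ι → Type u) [∀ i, CommRing (G i)] (f : ∀ i j, i ≤ j → G i →+* G j)
    [DirectedSystem G (fun i j h ↦ f i j h)] (M : Type u) [AddCommGroup M]
    [Module (Ring.DirectLimit G (fun i j h ↦ f i j h)) M]
    [Module.FinitePresentation (Ring.DirectLimit G (fun i j h ↦ f i j h)) M] :
    ∃ (i : ι) (Mi : Type u) (_ : AddCommGroup Mi) (_ : Module (G i) Mi), Module.FinitePresentation (G i) Mi ∧
      letI : Algebra (G i) (Ring.DirectLimit G (fun i j h ↦ f i j h)) :=
        (Ring.DirectLimit.of G (fun i j h ↦ f i j h) i).toAlgebra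
      Nonempty (M ≃ₗ[Ring.DirectLimit G (fun i j h ↦ f i j h)] (Ring.DirectLimit G (fun i j h ↦ f i j h)) ⊗[G i] Mi) := by

  classical
  obtain ⟨n, m, p, g, hp, hpg⟩ := Module.FinitePresentation.exists_fin'
    (Ring.DirectLimit G (fun i j h ↦ f i j h)) M
  -- lift the matrix entries to a common stage
  have hlift : ∃ i, ∀ kj : Fin m × Fin n, ∃ x : G i,
      Ring.DirectLimit.of G (fun i j h ↦ f i j h) i x = g (Pi.single kj.1 1) kj.2 := by
    choose ii xx hxx using fun kj : Fin m × Fin n =>
      Ring.DirectLimit.exists_of (g (Pi.single kj.1 1) kj.2)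
    obtain ⟨i, hi⟩ := Finite.exists_le ii
    refine ⟨i, fun kj => ⟨f (ii kj) i (hi kj) (xx kj), ?_⟩⟩
    rw [Ring.DirectLimit.of_f, hxx]
  obtain ⟨i, hi⟩ := hlift
  choose x hx using hi
  letI : Algebra (G i) (Ring.DirectLimit G (fun i j h ↦ f i j h)) :=
    (Ring.DirectLimit.of G (fun i j h ↦ f i j h) i).toAlgebra
  let w : Fin m → Fin n → G i := fun k j => x (k, j)
  refine ⟨i, (Fin n → G i) ⧸ LinearMap.range (Groth.Agent.Helper4.FPDescent.gR w),
    inferInstance, inferInstance, Groth.Agent.Helper4.FPDescent.finitePresentation_coker w, ?_⟩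
  obtain ⟨e⟩ := Groth.Agent.Helper4.FPDescent.nonempty_equiv g w (fun k j => hx (k, j))
  have hker : LinearMap.ker p = LinearMap.range g := (LinearMap.exact_iff.mp hpg)
  exact ⟨(LinearMap.quotKerEquivOfSurjective p hp).symm ≪≫ₗ
    (Submodule.quotEquivOfEq _ _ hker) ≪≫ₗ e⟩

end Groth.Agent.S4726
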