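import Groth.Statements.S4729
import Groth.Agent.Helper2.DepthCM4
import Groth.Agent.Helper2.LocSupp
open Groth.Agent.Helper2 Groth.Agent.Helper2.LocSupp
-- import your own Groth.Agent.* helpers here

set_option autoImplicit false
universe u
open EGA4

namespace Groth.Agent.S4729

/-- Let A be a commutative ring, M a finite A-module and p ⊆ q prime ideals of A (so that p is a
generization of q). Then the dimension of the A_p-module M_p is at most the dimension of the
A_q-module M_q. -/
theorem result (A : Type u) [CommRing A] (M : Type u) [AddCommGroup M] [Module A M]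
    [Module.Finite A M] (p q : Ideal A) [p.IsPrime] [q.IsPrime] (hpq : p ≤ q) :
    Module.supportDim (Localization.AtPrime p) (LocalizedModule p.primeCompl M) ≤
      Module.supportDim (Localization.AtPrime q) (LocalizedModule q.primeCompl M) := by
  unfold Module.supportDim
  set cp := PrimeSpectrum.comap (algebraMap A (Localization.AtPrime p)) with hcp
  have hcp_le : ∀ x : PrimeSpectrum (Localization.AtPrime p), (cp x).asIdeal ≤ p := by
    intro x
    have e1 : (IsLocalRing.maximalIdeal (Localization.AtPrime p)).comap
        (algebraMap A (Localization.AtPrime p)) = p :=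
      IsLocalization.AtPrime.under_maximalIdeal (Localization.AtPrime p) p
    exact (Ideal.comap_mono (IsLocalRing.le_maximalIdeal x.2.ne_top)).trans (le_of_eq e1)
  have hdisj : ∀ x : PrimeSpectrum (Localization.AtPrime p),
      Disjoint (q.primeCompl : Set A) ((cp x).asIdeal : Set A) := by
    intro x
    rw [Set.disjoint_left]
    intro a ha ha0
    exact ha (hpq (hcp_le x ha0))
  have hprime : ∀ x : PrimeSpectrum (Localization.AtPrime p),
      ((cp x).asIdeal.map (algebraMap A (Localization.AtPrime q))).IsPrime := fun x =>
    IsLocalization.isPrime_of_isPrime_disjoint q.primeCompl _ _ (cp x).2 (hdisj x)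
  have hcomap : ∀ x : PrimeSpectrum (Localization.AtPrime p),
      ((cp x).asIdeal.map (algebraMap A (Localization.AtPrime q))).comap
        (algebraMap A (Localization.AtPrime q)) = (cp x).asIdeal := fun x =>
    IsLocalization.under_map_of_isPrime_disjoint q.primeCompl _ (cp x).2 (hdisj x)
  let f : Module.support (Localization.AtPrime p) (LocalizedModule p.primeCompl M) →
      Module.support (Localization.AtPrime q) (LocalizedModule q.primeCompl M) := fun x =>
    ⟨⟨(cp x.1).asIdeal.map (algebraMap A (Localization.AtPrime q)), hprime x.1⟩,
      mem_support_localized q M (cp x.1) ((hcp_le x.1).trans hpq)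
        (DepthCM4.comap_mem_support p M x.1 x.2) _ (hcomap x.1)⟩
  refine Order.krullDim_le_of_strictMono f ?_
  intro x y hxy
  have hinj : Function.Injective cp :=
    PrimeSpectrum.localization_comap_injective (Localization.AtPrime p) p.primeCompl
  have hle : (cp x.1).asIdeal ≤ (cp y.1).asIdeal := Ideal.comap_mono hxy.le
  refine lt_of_le_of_ne ?_ ?_
  · change (cp x.1).asIdeal.map _ ≤ (cp y.1).asIdeal.map _
    exact Ideal.map_mono hle
  · intro heq
    have h1 : (cp x.1).asIdeal.map (algebraMap A (Localization.AtPrime q)) =
        (cp y.1).asIdeal.map (algebraMap A (Localization.AtPrime q)) :=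
      congrArg (fun z => z.1.asIdeal) heq
    have h2 : (cp x.1).asIdeal = (cp y.1).asIdeal := by
      rw [← hcomap x.1, ← hcomap y.1, h1]
    have h3 : x.1 = y.1 := hinj (PrimeSpectrum.ext h2)
    exact hxy.ne (Subtype.ext h3)

end Groth.Agent.S4729
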