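import Groth.Statements.S4730
import Mathlib
import Groth.Agent.Helper2.PolyTrdeg
open Groth.Agent.Helper2.PolyTrdeg Groth.Agent.Helper2.PolyHeight
-- import your own Groth.Agent.* helpers here

set_option autoImplicit false
universe u
open EGA4

namespace Groth.Agent.S4730

open Polynomial in
/-- Let A be a Noetherian ring, p a prime ideal of A and q a prime ideal of the polynomial ring A[T]
lying over p. Then ht(p) + 1 = ht(q) + deg.tr_{κ(p)} κ(q), the transcendence degree being that of
the domain A[T]/q over the domain A/p. -/
theorem result (A : Type u) [CommRing A] [IsNoetherianRing A]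
    (p : Ideal A) [p.IsPrime] (q : Ideal A[X]) [q.IsPrime] [q.LiesOver p] :
    (p.height : Cardinal.{u}) + 1 = (q.height : Cardinal.{u}) + Algebra.trdeg (A ⧸ p) (A[X] ⧸ q) := by
  by_cases h : q = p.map (C : A →+* A[X])
  · subst h
    rw [trdeg_eq_one, height_map_C']
  · rw [trdeg_eq_zero p q h, height_eq_height_add_one' p q h]
    simp

end Groth.Agent.S4730
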