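import Groth.Statements.S4742
import Groth.Agent.Helper2.Caten
import Groth.Agent.Helper2.Caten2
open IsLocalRing Groth.Agent.Helper2 Groth.Agent.Helper2.Caten Groth.Agent.Helper2.Caten2
-- import your own Groth.Agent.* helpers here

set_option autoImplicit false
universe u
open EGA4

namespace Groth.Agent.S4742

/-- Let A be a Noetherian local ring which is equidimensional and catenary, t an element of A belonging
to a system of parameters (dim A/tA + 1 = dim A), and Z a set of prime ideals of A stable under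
specialization. Write X = Spec A, X₀ = V(t), X₁ = X ∖ X₀ and Z₀ = Z ∩ X₀, Z₁ = Z ∩ X₁. Then
codim(Z₀, X₀) ≤ codim(Z, X) ≤ codim(Z₁, X₁), where each codimension is the infimum of the heights of
the primes concerned, heights for Z₀ being taken in A/tA. -/
theorem result (A : Type u) [CommRing A] [IsNoetherianRing A] [IsLocalRing A]
    (hA : EGA4.IsEquidim A) (hA' : CAlg.IsCatenary A) (t : A)
    (ht : ringKrullDim (A ⧸ Ideal.span {t}) + 1 = ringKrullDim A) (Z : Set (PrimeSpectrum A))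
    (hZ : StableUnderSpecialization Z) :
    (⨅ p ∈ {p ∈ Z | t ∈ p.asIdeal}, (p.asIdeal.map (Ideal.Quotient.mk (Ideal.span {t}))).height) ≤
        ⨅ p ∈ Z, p.asIdeal.height ∧
      (⨅ p ∈ Z, p.asIdeal.height) ≤ ⨅ p ∈ {p ∈ Z | t ∉ p.asIdeal}, p.asIdeal.height := by
  refine ⟨?_, le_iInf₂ (fun p hp => iInf₂_le p hp.1)⟩
  -- t is in the maximal ideal
  have htm : t ∈ maximalIdeal A := by
    by_contra hcon
    have hu : IsUnit t := by
      rw [IsLocalRing.mem_maximalIdeal, mem_nonunits_iff, not_not] at hcon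
      exact hcon
    have htop : Ideal.span {t} = ⊤ := Ideal.span_singleton_eq_top.2 hu
    have : Subsingleton (A ⧸ Ideal.span {t}) := Ideal.Quotient.subsingleton_iff.2 htop
    rw [ringKrullDim_eq_bot_of_subsingleton, WithBot.bot_add] at ht
    exact absurd ht.symm (ne_of_gt (lt_of_lt_of_le (WithBot.bot_lt_coe 0) ringKrullDim_nonneg_of_nontrivial))
  -- (F2)
  have hF2 : ∀ x : PrimeSpectrum A, t ∈ x.asIdeal →
      ((((x.asIdeal.map (Ideal.Quotient.mk (Ideal.span {t}))).height + Order.coheight x : ℕ∞)) :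
        WithBot ℕ∞) + 1 ≤ ringKrullDim A := by
    intro x hx
    have hle : Ideal.span {t} ≤ x.asIdeal := (Ideal.span_singleton_le_iff_mem _).2 hx
    have hprime : (x.asIdeal.map (Ideal.Quotient.mk (Ideal.span {t}))).IsPrime :=
      Ideal.isPrime_map_quotientMk_of_isPrime hle
    set X' : PrimeSpectrum (A ⧸ Ideal.span {t}) := ⟨_, hprime⟩ with hX'
    have h1 := height_add_coheight_le X'
    have h2 := dimQuot_eq_coheight X'
    have h3 : ringKrullDim ((A ⧸ Ideal.span {t}) ⧸ X'.asIdeal) = ringKrullDim (A ⧸ x.asIdeal) :=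
      ringKrullDim_eq_of_ringEquiv (DoubleQuot.quotQuotEquivQuotOfLE hle)
    have h4 := dimQuot_eq_coheight x
    have h5 : Order.coheight X' = Order.coheight x := by
      have : ((Order.coheight X' : ℕ∞) : WithBot ℕ∞) = ((Order.coheight x : ℕ∞) : WithBot ℕ∞) := by
        rw [← h2, h3, h4]
      exact_mod_cast this
    rw [← PrimeSpectrum.height_eq_orderHeight, h5] at h1
    rw [← ht]
    gcongr
  refine le_iInf₂ (fun p hp => ?_)
  have hF1p := height_add_coheight_eq hA' hA p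
  rw [← PrimeSpectrum.height_eq_orderHeight] at hF1p
  obtain ⟨c, hc⟩ := ENat.ne_top_iff_exists.1 (coheight_lt_top p).ne
  obtain ⟨a, ha⟩ := ENat.ne_top_iff_exists.1 (Ideal.height_ne_top p.2.ne_top)
  by_cases htp : t ∈ p.asIdeal
  · refine iInf₂_le_of_le p ⟨hp, htp⟩ ?_
    have h2 := hF2 p htp
    rw [← hF1p] at h2
    by_contra hcon
    push Not at hcon
    have h3 : ((((p.asIdeal.height + Order.coheight p : ℕ∞)) : WithBot ℕ∞)) + 1 ≤
        (((p.asIdeal.map (Ideal.Quotient.mk (Ideal.span {t}))).height + Order.coheight p : ℕ∞) :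
          WithBot ℕ∞) + 1 := by
      gcongr
      exact WithBot.coe_le_coe.2 (add_le_add_left hcon.le _)
    have h4 := h3.trans h2
    rw [← hc, ← ha] at h4
    have h5 : ((a + c + 1 : ℕ) : WithBot ℕ∞) ≤ ((a + c : ℕ) : WithBot ℕ∞) := by
      push_cast
      exact h4
    have h6 : a + c + 1 ≤ a + c := by exact_mod_cast h5
    omega
  · -- a minimal prime over p + (t)
    have hle : p.asIdeal ⊔ Ideal.span {t} ≤ maximalIdeal A :=
      sup_le (IsLocalRing.le_maximalIdeal p.2.ne_top) ((Ideal.span_singleton_le_iff_mem _).2 htm)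
    obtain ⟨p₀, hp₀min, -⟩ := Ideal.exists_minimalPrimes_le hle
    have hcov := covBy_of_mem_minimalPrimes p t htp p₀ hp₀min
    have htp₀ : t ∈ p₀ := hp₀min.1.2 (Ideal.mem_sup_right (Ideal.mem_span_singleton_self t))
    have hp₀Z : (⟨p₀, hp₀min.1.1⟩ : PrimeSpectrum A) ∈ Z :=
      hZ ((PrimeSpectrum.le_iff_specializes _ _).1 hcov.lt.le) hp
    refine iInf₂_le_of_le ⟨p₀, hp₀min.1.1⟩ ⟨hp₀Z, htp₀⟩ ?_
    have h2 := hF2 ⟨p₀, hp₀min.1.1⟩ htp₀
    have hcat := coheight_of_covBy hA' hcov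
    rw [← hF1p, hcat] at h2
    obtain ⟨c₀, hc₀⟩ := ENat.ne_top_iff_exists.1 (coheight_lt_top (⟨p₀, hp₀min.1.1⟩ : PrimeSpectrum A)).ne
    by_contra hcon
    push Not at hcon
    change p.asIdeal.height < (p₀.map (Ideal.Quotient.mk (Ideal.span {t}))).height at hcon
    change ((((p₀.map (Ideal.Quotient.mk (Ideal.span {t}))).height +
      Order.coheight (⟨p₀, hp₀min.1.1⟩ : PrimeSpectrum A) : ℕ∞) : WithBot ℕ∞)) + 1 ≤ _ at h2
    rw [← hc₀, ← ha] at h2
    have h3 : ((a : ℕ∞) + 1) ≤ (p₀.map (Ideal.Quotient.mk (Ideal.span {t}))).height :=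
      Order.add_one_le_of_lt (ha ▸ hcon)
    have h4 : ((((a : ℕ∞) + 1 + c₀ : ℕ∞)) : WithBot ℕ∞) + 1 ≤
        ((((p₀.map (Ideal.Quotient.mk (Ideal.span {t}))).height + (c₀ : ℕ∞) : ℕ∞)) : WithBot ℕ∞) + 1 := by
      gcongr
      exact WithBot.coe_le_coe.2 (add_le_add_left h3 _)
    have h5 := h4.trans h2
    have h6 : ((a + 1 + c₀ + 1 : ℕ) : WithBot ℕ∞) ≤ ((a + (c₀ + 1) : ℕ) : WithBot ℕ∞) := by
      push_cast
      exact h5
    have h7 : a + 1 + c₀ + 1 ≤ a + (c₀ + 1) := by exact_mod_cast h6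
    omega

end Groth.Agent.S4742
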