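import Groth.Statements.S4784
import Mathlib
import Groth.Agent.Lead.LimPullback

set_option autoImplicit false
universe u
open CategoryTheory AlgebraicGeometry
open Lim8

namespace Groth.Agent.S4784

/-- Let S = lim S_i be a cofiltered limit of schemes with affine transition maps and let i be an index.
Then the image of the projection S ⟶ S_i equals the intersection, over all indices j over i, of the
images of the transition maps S_j ⟶ S_i. -/
theorem result {I : Type u} [SmallCategory I] [IsCofiltered I]
    (D : I ⥤ Scheme.{u}) (c : Limits.Cone D) (hc : Limits.IsLimit c)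
    [∀ (i j : I) (f : i ⟶ j), IsAffineHom (D.map f)] (i : I) :
    Set.range ⇑(c.π.app i) = ⋂ (j : I) (φ : j ⟶ i), Set.range ⇑(D.map φ) := by
  have hA : ∀ {i j : I} (f : i ⟶ j), IsAffineHom (D.map f) := fun f ↦ inferInstance
  apply subset_antisymm
  · rintro _ ⟨z, rfl⟩
    simp only [Set.mem_iInter, Set.mem_range]
    intro j φ
    refine ⟨c.π.app j z, ?_⟩
    rw [← Scheme.Hom.comp_apply, c.w φ]
  · intro s hs
    simp only [Set.mem_iInter, Set.mem_range] at hs
    let g := (D.obj i).fromSpecResidueField s
    have h : ∀ (j : I) (φ : j ⟶ i), Nonempty ↑(Limits.pullback (D.map φ) g) := by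
      intro j φ
      obtain ⟨y, hy⟩ := hs j φ
      obtain ⟨t⟩ : Nonempty (Spec ((D.obj i).residueField s)) := inferInstance
      obtain ⟨z, -, -⟩ := Scheme.Pullback.exists_preimage_pullback (f := D.map φ) (g := g) y t
        (by rw [hy, Scheme.fromSpecResidueField_apply])
      exact ⟨z⟩
    obtain ⟨z⟩ := Groth.Agent.Lead.LimPullback.nonempty_pullback hc i g h
    refine ⟨(Limits.pullback.fst (c.π.app i) g) z, ?_⟩
    rw [← Scheme.Hom.comp_apply, Limits.pullback.condition, Scheme.Hom.comp_apply,
      Scheme.fromSpecResidueField_apply]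

end Groth.Agent.S4784
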