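import Groth.Statements.S4762
import Mathlib
import Groth.Agent.Lead.LimConstr

set_option autoImplicit false
universe u
open CategoryTheory AlgebraicGeometry
open Lim8

namespace Groth.Agent.S4762

/-- The intersection of a constructible set with a compact open is compact. -/
lemma isCompact_inter_of_isConstructible {X : Type*} [TopologicalSpace X]
    {s : Set X} (hs : Topology.IsConstructible s) {U : Set X} (hU : IsCompact U)
    (hUo : IsOpen U) : IsCompact (s ∩ U) := by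
  induction s, hs using BooleanSubalgebra.closure_sdiff_sup_induction with
  | isSublattice =>
    exact ⟨fun s hs t ht ↦ ⟨hs.1.union ht.1, hs.2.union ht.2⟩,
      fun s hs t ht ↦ ⟨hs.1.inter ht.1, hs.2.inter_isOpen ht.2 ht.1⟩⟩
  | bot_mem => exact ⟨isOpen_empty, .empty⟩
  | top_mem => exact ⟨isOpen_univ, .univ⟩
  | sdiff A hA B hB =>
    have : (A \ B) ∩ U = (A ∩ U) \ B := by
      ext x; simp only [Set.mem_inter_iff, Set.mem_sdiff]; tauto
    rw [this]
    exact (hA.2 hU hUo).diff hB.1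
  | sup s _ t _ hs' ht' =>
    have : (s ⊔ t) ∩ U = (s ∩ U) ∪ (t ∩ U) := by
      ext x; simp only [Set.sup_eq_union, Set.mem_inter_iff, Set.mem_union]; tauto
    rw [this]
    exact hs'.union ht'

open Groth.Agent.Lead.LimConstr in
theorem aux {I : Type u} [SmallCategory I] [IsCofiltered I]
    (D : I ⥤ Scheme.{u}) (c : Limits.Cone D) (hc : Limits.IsLimit c)
    [∀ (i j : I) (f : i ⟶ j), IsAffineHom (D.map f)] (i₁ : I)
    [CompactSpace (D.obj i₁)] (Z₁ : Set (D.obj i₁)) (hZ : Topology.IsConstructible Z₁) :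
    IsLocallyClosed (⇑(c.π.app i₁) ⁻¹' Z₁ : Set c.pt) ↔
      ∃ (j : I) (φ : j ⟶ i₁), IsLocallyClosed (⇑(D.map φ) ⁻¹' Z₁) := by
  have hA : ∀ {i j : I} (f : i ⟶ j), IsAffineHom (D.map f) := fun f ↦ inferInstance
  have hcpt : CompactSpace c.pt := by
    have := isAffineHom_π_app D c hc i₁
    exact QuasiCompact.compactSpace_of_compactSpace (c.π.app i₁)
  have hws : ∀ {j k : I} (a : j ⟶ k) (W : Set (D.obj k)),
      (⇑(c.π.app j) ⁻¹' (⇑(D.map a) ⁻¹' W) : Set c.pt) = ⇑(c.π.app k) ⁻¹' W := by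
    intro j k a W
    ext x
    simp only [Set.mem_preimage]
    rw [← Scheme.Hom.comp_apply, c.w a]
  constructor
  · intro hE
    set E : Set c.pt := ⇑(c.π.app i₁) ⁻¹' Z₁ with hEdef
    have hEcons : Topology.IsConstructible E := Scheme.Hom.isConstructible_preimage _ hZ
    have hEc : IsCompact E := isCompact_of_isConstructible hEcons
    obtain ⟨O, F, hO, hF, hEOF⟩ := hE
    obtain ⟨U, hUc, hUo, hEU, hUO⟩ := PrespectralSpace.exists_isCompact_and_isOpen_between hEc hO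
      (by rw [hEOF]; exact Set.inter_subset_left)
    -- U \ E is a compact open
    have hUE : U \ E = U ∩ Fᶜ := by
      ext x
      simp only [Set.mem_sdiff, Set.mem_inter_iff, Set.mem_compl_iff]
      constructor
      · rintro ⟨hxU, hxE⟩
        refine ⟨hxU, fun hxF ↦ hxE ?_⟩
        rw [hEOF]; exact ⟨hUO hxU, hxF⟩
      · rintro ⟨hxU, hxF⟩
        refine ⟨hxU, fun hxE ↦ hxF ?_⟩
        rw [hEOF] at hxE; exact hxE.2
    have hUEo : IsOpen (U \ E) := by rw [hUE]; exact hUo.inter hF.isOpen_compl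
    have hUEc : IsCompact (U \ E) := by
      have : U \ E = Eᶜ ∩ U := by rw [Set.sdiff_eq, Set.inter_comm]
      rw [this]
      exact isCompact_inter_of_isConstructible hEcons.compl hUc hUo
    obtain ⟨i, U', hU'c, hU'⟩ := exists_preimage_eq D c hc ⟨U, hUo⟩ hUc
    obtain ⟨i', O', hO'c, hO'⟩ := exists_preimage_eq D c hc ⟨U \ E, hUEo⟩ hUEc
    let k0 := IsCofiltered.min i i'
    let k := IsCofiltered.min k0 i₁
    let a : k ⟶ i := IsCofiltered.minToLeft k0 i₁ ≫ IsCofiltered.minToLeft i i'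
    let a' : k ⟶ i' := IsCofiltered.minToLeft k0 i₁ ≫ IsCofiltered.minToRight i i'
    let b : k ⟶ i₁ := IsCofiltered.minToRight k0 i₁
    have hkc : CompactSpace (D.obj k) := QuasiCompact.compactSpace_of_compactSpace (D.map b)
    let Uk : (D.obj k).Opens := D.map a ⁻¹ᵁ U'
    let Ok : (D.obj k).Opens := D.map a' ⁻¹ᵁ O'
    let Zk : Set (D.obj k) := ⇑(D.map b) ⁻¹' Z₁
    have hZk : Topology.IsConstructible Zk := Scheme.Hom.isConstructible_preimage _ hZ
    have hUkc : IsCompact (Uk : Set (D.obj k)) := QuasiCompact.isCompact_preimage _ U'.2 hU'c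
    have hOkc : IsCompact (Ok : Set (D.obj k)) := QuasiCompact.isCompact_preimage _ O'.2 hO'c
    have hUk : (⇑(c.π.app k) ⁻¹' (Uk : Set (D.obj k)) : Set c.pt) = U := by
      have h0 : (⇑(c.π.app i) ⁻¹' (U' : Set (D.obj i)) : Set c.pt) = U :=
        congrArg (fun W : c.pt.Opens ↦ (W : Set c.pt)) hU'
      exact (hws a _).trans h0
    have hOk : (⇑(c.π.app k) ⁻¹' (Ok : Set (D.obj k)) : Set c.pt) = U \ E := by
      have h0 : (⇑(c.π.app i') ⁻¹' (O' : Set (D.obj i')) : Set c.pt) = U \ E :=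
        congrArg (fun W : c.pt.Opens ↦ (W : Set c.pt)) hO'
      exact (hws a' _).trans h0
    have hZk' : (⇑(c.π.app k) ⁻¹' Zk : Set c.pt) = E := hws b _
    have e1 := exists_map_preimage_inter_subset D c hc Zk hZk ⊤ Uk CompactSpace.isCompact_univ
      (by
        intro x hx
        have : x ∈ (⇑(c.π.app k) ⁻¹' Zk : Set c.pt) := hx.1
        rw [hZk'] at this
        have := hEU this
        rw [← hUk] at this
        exact this)
    have e2 := exists_map_preimage_inter_subset D c hc Zkᶜ hZk.compl Uk Ok hUkc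
      (by
        intro x hx
        have h1 : x ∈ (⇑(c.π.app k) ⁻¹' (Uk : Set (D.obj k)) : Set c.pt) := hx.2
        rw [hUk] at h1
        have h2 : x ∉ (⇑(c.π.app k) ⁻¹' Zk : Set c.pt) := hx.1
        rw [hZk'] at h2
        have : x ∈ U \ E := ⟨h1, h2⟩
        rw [← hOk] at this
        exact this)
    have e3 := exists_map_preimage_inter_subset D c hc Zk hZk Ok ⊥ hOkc
      (by
        intro x hx
        have h1 : x ∈ (⇑(c.π.app k) ⁻¹' (Ok : Set (D.obj k)) : Set c.pt) := hx.2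
        rw [hOk] at h1
        have h2 : x ∈ (⇑(c.π.app k) ⁻¹' Zk : Set c.pt) := hx.1
        rw [hZk'] at h2
        exact (h1.2 h2).elim)
    obtain ⟨l0, f0, h1, h2⟩ := exists_and_of_stable
      (P := fun j f ↦ ⇑(D.map f) ⁻¹' (Zk ∩ (⊤ : (D.obj k).Opens)) ⊆ ⇑(D.map f) ⁻¹' Uk)
      (Q := fun j f ↦ ⇑(D.map f) ⁻¹' (Zkᶜ ∩ Uk) ⊆ ⇑(D.map f) ⁻¹' Ok)
      (fun j l f g h ↦ preimage_subset_comp D f g h)
      (fun j l f g h ↦ preimage_subset_comp D f g h) e1 e2
    obtain ⟨l, f, ⟨h1, h2⟩, h3⟩ := exists_and_of_stable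
      (P := fun j f ↦ ⇑(D.map f) ⁻¹' (Zk ∩ (⊤ : (D.obj k).Opens)) ⊆ ⇑(D.map f) ⁻¹' Uk ∧
        ⇑(D.map f) ⁻¹' (Zkᶜ ∩ Uk) ⊆ ⇑(D.map f) ⁻¹' Ok)
      (Q := fun j f ↦ ⇑(D.map f) ⁻¹' (Zk ∩ Ok) ⊆ ⇑(D.map f) ⁻¹' (⊥ : (D.obj k).Opens))
      (fun j l f g h ↦ ⟨preimage_subset_comp D f g h.1, preimage_subset_comp D f g h.2⟩)
      (fun j l f g h ↦ preimage_subset_comp D f g h) ⟨l0, f0, h1, h2⟩ e3
    refine ⟨l, f ≫ b, ?_⟩
    have : ⇑(D.map (f ≫ b)) ⁻¹' Z₁ =
        ⇑(D.map f) ⁻¹' (Uk : Set (D.obj k)) ∩ (⇑(D.map f) ⁻¹' (Ok : Set (D.obj k)))ᶜ := by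
      have e : ⇑(D.map (f ≫ b)) ⁻¹' Z₁ = ⇑(D.map f) ⁻¹' Zk := by
        ext y
        simp only [Set.mem_preimage, Zk]
        rw [D.map_comp, Scheme.Hom.comp_apply]
      rw [e]
      apply subset_antisymm
      · intro y hy
        exact ⟨h1 ⟨hy, trivial⟩, fun hy' ↦ h3 ⟨hy, hy'⟩⟩
      · rintro y ⟨hy1, hy2⟩
        by_contra hy'
        exact hy2 (h2 ⟨hy', hy1⟩)
    rw [this]
    exact ⟨_, _, Uk.2.preimage (D.map f).continuous,
      (Ok.2.preimage (D.map f).continuous).isClosed_compl, rfl⟩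
  · rintro ⟨j, φ, h⟩
    rw [← hws φ]
    exact h.preimage (c.π.app j).continuous

/-- Let S = lim S_i be a cofiltered limit of schemes with affine transition maps, let S_{i₁} be a
quasi-compact stage and Z₁ a constructible subset of S_{i₁}. Then the preimage of Z₁ in S is locally
closed if and only if, for some index j over i₁, the preimage of Z₁ in S_j is locally closed. -/
theorem result {I : Type u} [SmallCategory I] [IsCofiltered I]
    (D : I ⥤ Scheme.{u}) (c : Limits.Cone D) (hc : Limits.IsLimit c)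
    [∀ (i j : I) (f : i ⟶ j), IsAffineHom (D.map f)] (i₁ : I)
    [CompactSpace (D.obj i₁)] (Z₁ : Set (D.obj i₁)) (hZ : Topology.IsConstructible Z₁) :
    IsLocallyClosed (⇑(c.π.app i₁) ⁻¹' Z₁ : Set c.pt) ↔
      ∃ (j : I) (φ : j ⟶ i₁), IsLocallyClosed (⇑(D.map φ) ⁻¹' Z₁) := by
  exact aux D c hc i₁ Z₁ hZ

end Groth.Agent.S4762
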