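import Groth.Statements.S4761
import Mathlib
import Groth.Agent.Lead.LimConstr

set_option autoImplicit false
universe u
open CategoryTheory AlgebraicGeometry
open Lim8

namespace Groth.Agent.S4761

open Groth.Agent.Lead.LimConstr in
theorem aux {I : Type u} [SmallCategory I] [IsCofiltered I]
    (D : I ⥤ Scheme.{u}) (c : Limits.Cone D) (hc : Limits.IsLimit c)
    [∀ (i j : I) (f : i ⟶ j), IsAffineHom (D.map f)] (i₁ : I)
    [CompactSpace (D.obj i₁)] (Z₁ : Set (D.obj i₁)) (hZ : Topology.IsConstructible Z₁) :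
    IsOpen (⇑(c.π.app i₁) ⁻¹' Z₁ : Set c.pt) ↔ ∃ (j : I) (φ : j ⟶ i₁), IsOpen (⇑(D.map φ) ⁻¹' Z₁) := by
  have hA : ∀ {i j : I} (f : i ⟶ j), IsAffineHom (D.map f) := fun f ↦ inferInstance
  have hcpt : CompactSpace c.pt := by
    have := isAffineHom_π_app D c hc i₁
    exact QuasiCompact.compactSpace_of_compactSpace (c.π.app i₁)
  have hws : ∀ {j k : I} (a : j ⟶ k) (W : Set (D.obj k)),
      (⇑(c.π.app j) ⁻¹' (⇑(D.map a) ⁻¹' W) : Set c.pt) = ⇑(c.π.app k) ⁻¹' W := by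
    intro j k a W
    ext x
    simp only [Set.mem_preimage]
    rw [← Scheme.Hom.comp_apply, c.w a]
  constructor
  · intro hE
    have hEc : IsCompact (⇑(c.π.app i₁) ⁻¹' Z₁ : Set c.pt) :=
      isCompact_of_isConstructible (Scheme.Hom.isConstructible_preimage _ hZ)
    obtain ⟨i, W, hWc, hW⟩ := exists_preimage_eq D c hc ⟨_, hE⟩ hEc
    let k := IsCofiltered.min i i₁
    let a : k ⟶ i := IsCofiltered.minToLeft i i₁
    let b : k ⟶ i₁ := IsCofiltered.minToRight i i₁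
    have hkc : CompactSpace (D.obj k) := QuasiCompact.compactSpace_of_compactSpace (D.map b)
    let Wk : (D.obj k).Opens := D.map a ⁻¹ᵁ W
    let Zk : Set (D.obj k) := ⇑(D.map b) ⁻¹' Z₁
    have hZk : Topology.IsConstructible Zk := Scheme.Hom.isConstructible_preimage _ hZ
    have hWkc : IsCompact (Wk : Set (D.obj k)) := QuasiCompact.isCompact_preimage _ W.2 hWc
    have hWk : (⇑(c.π.app k) ⁻¹' (Wk : Set (D.obj k)) : Set c.pt) = ⇑(c.π.app i₁) ⁻¹' Z₁ := by
      have h0 : (⇑(c.π.app i) ⁻¹' (W : Set (D.obj i)) : Set c.pt) = ⇑(c.π.app i₁) ⁻¹' Z₁ :=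
        congrArg (fun W : c.pt.Opens ↦ (W : Set c.pt)) hW
      exact (hws a _).trans h0
    have hZk' : (⇑(c.π.app k) ⁻¹' Zk : Set c.pt) = ⇑(c.π.app i₁) ⁻¹' Z₁ := hws b _
    have e1 := exists_map_preimage_inter_subset D c hc Zk hZk ⊤ Wk CompactSpace.isCompact_univ
      (by
        intro x hx
        have : x ∈ (⇑(c.π.app k) ⁻¹' Zk : Set c.pt) := hx.1
        rw [hZk', ← hWk] at this
        exact this)
    have e2 := exists_map_preimage_inter_subset D c hc Zkᶜ hZk.compl Wk ⊥ hWkc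
      (by
        intro x hx
        have h1 : x ∈ (⇑(c.π.app k) ⁻¹' (Wk : Set (D.obj k)) : Set c.pt) := hx.2
        rw [hWk, ← hZk'] at h1
        exact (hx.1 h1).elim)
    obtain ⟨l, f, h1, h2⟩ := exists_and_of_stable
      (P := fun j f ↦ ⇑(D.map f) ⁻¹' (Zk ∩ (⊤ : (D.obj k).Opens)) ⊆ ⇑(D.map f) ⁻¹' Wk)
      (Q := fun j f ↦ ⇑(D.map f) ⁻¹' (Zkᶜ ∩ Wk) ⊆ ⇑(D.map f) ⁻¹' (⊥ : (D.obj k).Opens))
      (fun j l f g h ↦ preimage_subset_comp D f g h)
      (fun j l f g h ↦ preimage_subset_comp D f g h) e1 e2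
    refine ⟨l, f ≫ b, ?_⟩
    have : ⇑(D.map (f ≫ b)) ⁻¹' Z₁ = ⇑(D.map f) ⁻¹' (Wk : Set (D.obj k)) := by
      have e : ⇑(D.map (f ≫ b)) ⁻¹' Z₁ = ⇑(D.map f) ⁻¹' Zk := by
        ext y
        simp only [Set.mem_preimage, Zk]
        rw [D.map_comp, Scheme.Hom.comp_apply]
      rw [e]
      apply subset_antisymm
      · intro y hy
        exact h1 ⟨hy, trivial⟩
      · intro y hy
        by_contra hy'
        exact h2 ⟨hy', hy⟩
    rw [this]
    exact Wk.2.preimage (D.map f).continuous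
  · rintro ⟨j, φ, h⟩
    rw [← hws φ]
    exact h.preimage (c.π.app j).continuous

/-- Let S = lim S_i be a cofiltered limit of schemes with affine transition maps, let S_{i₁} be a
quasi-compact stage and Z₁ a constructible subset of S_{i₁}. Then the preimage of Z₁ in S is open if
and only if, for some index j over i₁, the preimage of Z₁ in S_j is open. -/
theorem result {I : Type u} [SmallCategory I] [IsCofiltered I]
    (D : I ⥤ Scheme.{u}) (c : Limits.Cone D) (hc : Limits.IsLimit c)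
    [∀ (i j : I) (f : i ⟶ j), IsAffineHom (D.map f)] (i₁ : I)
    [CompactSpace (D.obj i₁)] (Z₁ : Set (D.obj i₁)) (hZ : Topology.IsConstructible Z₁) :
    IsOpen (⇑(c.π.app i₁) ⁻¹' Z₁ : Set c.pt) ↔ ∃ (j : I) (φ : j ⟶ i₁), IsOpen (⇑(D.map φ) ⁻¹' Z₁) := by
  exact aux D c hc i₁ Z₁ hZ

end Groth.Agent.S4761
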