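import Groth.Statements.S4763
import Mathlib
import Groth.Agent.Lead.LimPullback

set_option autoImplicit false
universe u
open CategoryTheory AlgebraicGeometry
open Lim8

namespace Groth.Agent.S4763

/-- Let S = lim S_i be a cofiltered limit of schemes with affine transition maps and let i be an index.
The canonical projection S ⟶ S_i is dominant if and only if every transition map S_j ⟶ S_i is
dominant. -/
theorem result {I : Type u} [SmallCategory I] [IsCofiltered I]
    (D : I ⥤ Scheme.{u}) (c : Limits.Cone D) (hc : Limits.IsLimit c)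
    [∀ (i j : I) (f : i ⟶ j), IsAffineHom (D.map f)] (i : I) :
    IsDominant (c.π.app i) ↔ ∀ (j : I) (φ : j ⟶ i), IsDominant (D.map φ) := by
  have hA : ∀ {i j : I} (f : i ⟶ j), IsAffineHom (D.map f) := fun f ↦ inferInstance
  constructor
  · intro h j φ
    refine ⟨h.denseRange.mono ?_⟩
    rintro _ ⟨z, rfl⟩
    refine ⟨c.π.app j z, ?_⟩
    rw [← Scheme.Hom.comp_apply, c.w φ]
  · intro h
    refine ⟨?_⟩
    rw [DenseRange, dense_iff_inter_open]
    rintro U hU ⟨x, hx⟩
    obtain ⟨_, ⟨V, hV : IsAffineOpen V, rfl⟩, hxV, hVU⟩ :=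
      (D.obj i).isBasis_affineOpens.exists_subset_of_mem_open hx hU
    have : IsAffine ↑V := hV
    have hne : ∀ (j : I) (φ : j ⟶ i), Nonempty ↑(Limits.pullback (D.map φ) (Scheme.Opens.ι V)) := by
      intro j φ
      obtain ⟨_, hy1, ⟨y, rfl⟩⟩ := (dense_iff_inter_open.mp (h j φ).denseRange) V V.2 ⟨x, hxV⟩
      obtain ⟨z, -, -⟩ := Scheme.Pullback.exists_preimage_pullback (f := D.map φ) (g := (Scheme.Opens.ι V)) y
        ⟨D.map φ y, hy1⟩ (by simp)
      exact ⟨z⟩
    obtain ⟨z⟩ := Groth.Agent.Lead.LimPullback.nonempty_pullback hc i (Scheme.Opens.ι V) hne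
    refine ⟨c.π.app i ((Limits.pullback.fst (c.π.app i) (Scheme.Opens.ι V)) z), hVU ?_, ⟨_, rfl⟩⟩
    rw [← Scheme.Hom.comp_apply, Limits.pullback.condition, Scheme.Hom.comp_apply]
    exact ((Limits.pullback.snd (c.π.app i) (Scheme.Opens.ι V)) z).2

end Groth.Agent.S4763
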