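import Groth.Statements.S4765
import Mathlib

set_option autoImplicit false
universe u
open CategoryTheory AlgebraicGeometry
open Lim8

namespace Groth.Agent.S4765

/-- Let S = lim S_i be a cofiltered limit of schemes with affine transition maps and let i be an index
such that the projection S ⟶ S_j is surjective for every j over i. Then the projection S ⟶ S_i is an
open map if and only if every transition map S_j ⟶ S_i is an open map. This is the case of open
morphisms. -/
theorem result {I : Type u} [SmallCategory I] [IsCofiltered I]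
    (D : I ⥤ Scheme.{u}) (c : Limits.Cone D) (hc : Limits.IsLimit c)
    [∀ (i j : I) (f : i ⟶ j), IsAffineHom (D.map f)] (i : I)
    (hs : ∀ (j : I) (φ : j ⟶ i), Surjective (c.π.app j)) :
    IsOpenMap ⇑(c.π.app i) ↔ ∀ (j : I) (φ : j ⟶ i), IsOpenMap ⇑(D.map φ) := by
  have hA : ∀ {i j : I} (f : i ⟶ j), IsAffineHom (D.map f) := fun f ↦ inferInstance
  have hw : ∀ (j : I) (φ : j ⟶ i) (x : c.pt), D.map φ (c.π.app j x) = c.π.app i x := by
    intro j φ x
    rw [← Scheme.Hom.comp_apply, c.w φ]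
  constructor
  · intro h j φ W hW
    have : ⇑(D.map φ) '' W = ⇑(c.π.app i) '' (⇑(c.π.app j) ⁻¹' W) := by
      ext y
      constructor
      · rintro ⟨w, hw1, rfl⟩
        obtain ⟨x, rfl⟩ := (hs j φ).surj w
        exact ⟨x, hw1, (hw j φ x).symm⟩
      · rintro ⟨x, hx, rfl⟩
        exact ⟨c.π.app j x, hx, hw j φ x⟩
    rw [this]
    exact h _ (hW.preimage (c.π.app j).continuous)
  · intro h U hU
    rw [isOpen_iff_forall_mem_open]
    rintro _ ⟨x, hxU, rfl⟩
    obtain ⟨_, ⟨j, V, hV, rfl⟩, hxV, hVU⟩ :=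
      TopologicalSpace.Opens.isBasis_iff_nbhd.mp (isBasis_preimage_isAffineOpen D c hc)
        (U := ⟨U, hU⟩) hxU
    let k := IsCofiltered.min i j
    let φ : k ⟶ i := IsCofiltered.minToLeft i j
    let ψ : k ⟶ j := IsCofiltered.minToRight i j
    refine ⟨⇑(D.map φ) '' (⇑(D.map ψ) ⁻¹' V), ?_, h k φ _ (V.2.preimage (D.map ψ).continuous), ?_⟩
    · rintro _ ⟨w, hw1, rfl⟩
      obtain ⟨z, rfl⟩ := (hs k φ).surj w
      refine ⟨z, hVU ?_, (hw k φ z).symm⟩
      change c.π.app j z ∈ V
      rw [← c.w ψ, Scheme.Hom.comp_apply]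
      exact hw1
    · refine ⟨c.π.app k x, ?_, hw k φ x⟩
      change D.map ψ (c.π.app k x) ∈ V
      rw [← Scheme.Hom.comp_apply, c.w ψ]
      exact hxV

end Groth.Agent.S4765
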