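import Groth.Statements.S4766
import Mathlib
import Groth.Agent.Lead.LimPullback
import Groth.Agent.S4765

set_option autoImplicit false
universe u
open CategoryTheory AlgebraicGeometry
open Lim8

namespace Groth.Agent.S4766

open Limits MorphismProperty in
lemma universallyOpen_of_comp_surjective {X Y Z : Scheme.{u}} (f : X ⟶ Y) (g : Y ⟶ Z)
    [Surjective f] [UniversallyOpen (f ≫ g)] : UniversallyOpen g := by
  refine ⟨universally_mk' _ g fun {T} t _ ↦ ?_⟩
  let p : pullback (pullback.snd t g) f ⟶ pullback t g := pullback.fst _ _
  have hp : Surjective p := inferInstance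
  have sq : IsPullback (p ≫ pullback.fst t g) (pullback.snd (pullback.snd t g) f) t (f ≫ g) :=
    (IsPullback.of_hasPullback (pullback.snd t g) f).paste_horiz (IsPullback.of_hasPullback t g)
  have h1 : IsOpenMap ⇑(p ≫ pullback.fst t g) :=
    UniversallyOpen.universally_isOpenMap (f := f ≫ g) _ _ _ sq
  show IsOpenMap ⇑(pullback.fst t g)
  intro W hW
  have : ⇑(pullback.fst t g) '' W = ⇑(p ≫ pullback.fst t g) '' (⇑p ⁻¹' W) := by
    rw [Scheme.Hom.comp_base, TopCat.coe_comp, Set.image_comp, Set.image_preimage_eq W hp.surj]
  rw [this]
  exact h1 _ (hW.preimage p.continuous)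

open Limits MorphismProperty in
open Groth.Agent.Lead.LimPullback in
set_option backward.isDefEq.respectTransparency false in
theorem aux {I : Type u} [SmallCategory I] [IsCofiltered I]
    (D : I ⥤ Scheme.{u}) (c : Limits.Cone D) (hc : Limits.IsLimit c)
    [∀ (i j : I) (f : i ⟶ j), IsAffineHom (D.map f)] (i : I)
    (hs : ∀ (j : I) (φ : j ⟶ i), Surjective (c.π.app j)) :
    UniversallyOpen (c.π.app i) ↔ ∀ (j : I) (φ : j ⟶ i), UniversallyOpen (D.map φ) := by
  have hA : ∀ {i j : I} (f : i ⟶ j), IsAffineHom (D.map f) := fun f ↦ inferInstance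
  constructor
  · intro h j φ
    have := hs j φ
    have : UniversallyOpen (c.π.app j ≫ D.map φ) := by rw [c.w φ]; exact h
    exact universallyOpen_of_comp_surjective (c.π.app j) (D.map φ)
  · intro h
    refine ⟨universally_mk' _ _ fun {T} t _ ↦ ?_⟩
    show IsOpenMap ⇑(pullback.fst t (c.π.app i))
    have hiso : ∀ {X Y : Scheme.{u}} (f : X ⟶ Y) [IsIso f], IsOpenMap ⇑f :=
      fun f _ ↦ f.isOpenEmbedding.isOpenMap
    have e : pullback.fst t (c.π.app i) =
        (pullbackSymmetry t (c.π.app i)).hom ≫ pullback.snd (c.π.app i) t := by simp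
    rw [e, Scheme.Hom.comp_base, TopCat.coe_comp]
    refine IsOpenMap.comp ?_ (hiso _)
    -- the base-changed system
    have hAD : ∀ j : Over i, IsAffineHom (D.map j.hom) := fun j ↦ hA j.hom
    have hAff : ∀ (j k : Over i) (f : j ⟶ k), IsAffineHom ((pbDiag D i t).map f) := by
      intro j k f
      have : IsAffineHom (pullback.snd (D.map j.hom) t) :=
        MorphismProperty.pullback_snd _ _ (hAD j)
      have : IsAffineHom (pullback.snd (D.map k.hom) t) :=
        MorphismProperty.pullback_snd _ _ (hAD k)
      have : IsAffineHom ((pbDiag D i t).map f ≫ pullback.snd (D.map k.hom) t) := by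
        have e : (pbDiag D i t).map f ≫ pullback.snd (D.map k.hom) t =
            pullback.snd (D.map j.hom) t := by simp [pbDiag]
        rw [e]; infer_instance
      exact .of_comp _ (pullback.snd (D.map k.hom) t)
    let i' : Over i := Over.mk (𝟙 i)
    have hUO : ∀ j : Over i, IsOpenMap ⇑(pullback.snd (D.map j.hom) t) := by
      intro j
      have := h j.left j.hom
      exact (pullback.snd (D.map j.hom) t).isOpenMap
    have hI : IsIso (pullback.snd (D.map i'.hom) t) := by
      have : IsIso (D.map i'.hom) := by
        change IsIso (D.map (𝟙 i)); infer_instance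
      infer_instance
    have e2 : (pbCone D c i t).π.app i' ≫ pullback.snd (D.map i'.hom) t =
        pullback.snd (c.π.app i) t := by simp [pbCone]
    rw [← e2, Scheme.Hom.comp_base, TopCat.coe_comp]
    refine IsOpenMap.comp (hiso _) ?_
    refine (Groth.Agent.S4765.result (pbDiag D i t) (pbCone D c i t) (pbConeIsLimit i t hc) i'
      ?_).mpr ?_
    · -- surjectivity
      intro j φ'
      have hsj := hs j.left j.hom
      have big : IsPullback (pullback.snd (c.π.app i) t) (pullback.fst (c.π.app i) t) t
          (c.π.app i) := (IsPullback.of_hasPullback (c.π.app i) t).flip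
      have right : IsPullback (pullback.snd (D.map j.hom) t) (pullback.fst (D.map j.hom) t) t
          (D.map j.hom) := (IsPullback.of_hasPullback (D.map j.hom) t).flip
      have e3 : (pbCone D c i t).π.app j ≫ pullback.snd (D.map j.hom) t =
          pullback.snd (c.π.app i) t := by simp [pbCone]
      have e4 : c.π.app j.left ≫ D.map j.hom = c.π.app i := c.w j.hom
      have big' : IsPullback ((pbCone D c i t).π.app j ≫ pullback.snd (D.map j.hom) t)
          (pullback.fst (c.π.app i) t) t (c.π.app j.left ≫ D.map j.hom) := by
        rw [e3, e4]; exact big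
      have left := IsPullback.of_right big' (by simp [pbCone]) right
      exact MorphismProperty.of_isPullback (P := @Surjective) left.flip hsj
    · intro j φ'
      have e5 : (pbDiag D i t).map φ' =
          pullback.snd (D.map j.hom) t ≫ inv (pullback.snd (D.map i'.hom) t) := by
        rw [IsIso.eq_comp_inv]
        simp [pbDiag]
      rw [e5, Scheme.Hom.comp_base, TopCat.coe_comp]
      exact IsOpenMap.comp (hiso _) (hUO j)

/-- Let S = lim S_i be a cofiltered limit of schemes with affine transition maps and let i be an index
such that the projection S ⟶ S_j is surjective for every j over i. Then the projection S ⟶ S_i is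
universally open if and only if every transition map S_j ⟶ S_i is universally open. This is the case
of universally open morphisms. -/
theorem result {I : Type u} [SmallCategory I] [IsCofiltered I]
    (D : I ⥤ Scheme.{u}) (c : Limits.Cone D) (hc : Limits.IsLimit c)
    [∀ (i j : I) (f : i ⟶ j), IsAffineHom (D.map f)] (i : I)
    (hs : ∀ (j : I) (φ : j ⟶ i), Surjective (c.π.app j)) :
    UniversallyOpen (c.π.app i) ↔ ∀ (j : I) (φ : j ⟶ i), UniversallyOpen (D.map φ) := by
  exact aux D c hc i hs

end Groth.Agent.S4766
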