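import Groth.Statements.S4767
import Mathlib

set_option autoImplicit false
universe u
open CategoryTheory AlgebraicGeometry
open Lim8

namespace Groth.Agent.S4767

theorem aux {I : Type u} [SmallCategory I] [IsCofiltered I]
    (D : I ⥤ Scheme.{u}) (c : Limits.Cone D) (hc : Limits.IsLimit c)
    [∀ (i j : I) (f : i ⟶ j), IsAffineHom (D.map f)] (i₀ : I)
    [CompactSpace (D.obj i₀)] [QuasiSeparatedSpace (D.obj i₀)]
    [TopologicalSpace.NoetherianSpace c.pt] (h : ¬ IrreducibleSpace c.pt) :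
    ∃ (i : I) (_ : i ⟶ i₀), ∀ (j : I) (_ : j ⟶ i), ¬ IrreducibleSpace (D.obj j) := by
  have hA : ∀ {i j : I} (f : i ⟶ j), IsAffineHom (D.map f) := fun f ↦ inferInstance
  have hw : ∀ {j k : I} (a : j ⟶ k) (W : (D.obj k).Opens),
      c.π.app j ⁻¹ᵁ (D.map a ⁻¹ᵁ W) = c.π.app k ⁻¹ᵁ W := by
    intro j k a W
    rw [← Scheme.Hom.comp_preimage, c.w a]
  have hw2 : ∀ {j k l : I} (a : j ⟶ k) (b : k ⟶ l) (W : (D.obj l).Opens),
      D.map a ⁻¹ᵁ (D.map b ⁻¹ᵁ W) = D.map (a ≫ b) ⁻¹ᵁ W := by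
    intro j k l a b W
    rw [← Scheme.Hom.comp_preimage, D.map_comp]
  by_cases hne : Nonempty c.pt
  · have h1 : ¬ IsPreirreducible (Set.univ : Set c.pt) :=
      fun h' ↦ h { isPreirreducible_univ := h', toNonempty := hne }
    simp only [IsPreirreducible, not_forall] at h1
    obtain ⟨U, V, hUo, hVo, ⟨x, -, hxU⟩, ⟨y, -, hyV⟩, hdisj⟩ := h1
    simp only [Set.univ_inter, Set.not_nonempty_iff_eq_empty] at hdisj
    have hUc : IsCompact U := TopologicalSpace.NoetherianSpace.isCompact U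
    have hVc : IsCompact V := TopologicalSpace.NoetherianSpace.isCompact V
    obtain ⟨i1, U1, hU1c, hU1⟩ := exists_preimage_eq D c hc ⟨U, hUo⟩ hUc
    obtain ⟨i2, V2, hV2c, hV2⟩ := exists_preimage_eq D c hc ⟨V, hVo⟩ hVc
    let k0 := IsCofiltered.min i1 i2
    let k := IsCofiltered.min k0 i₀
    let a : k ⟶ i1 := IsCofiltered.minToLeft k0 i₀ ≫ IsCofiltered.minToLeft i1 i2
    let b : k ⟶ i2 := IsCofiltered.minToLeft k0 i₀ ≫ IsCofiltered.minToRight i1 i2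
    let e : k ⟶ i₀ := IsCofiltered.minToRight k0 i₀
    have hkq : QuasiSeparatedSpace (D.obj k) := quasiSeparatedSpace_of_quasiSeparated (D.map e)
    let Uk : (D.obj k).Opens := D.map a ⁻¹ᵁ U1
    let Vk : (D.obj k).Opens := D.map b ⁻¹ᵁ V2
    have hUk : c.π.app k ⁻¹ᵁ Uk = ⟨U, hUo⟩ := by rw [hw, hU1]
    have hVk : c.π.app k ⁻¹ᵁ Vk = ⟨V, hVo⟩ := by rw [hw, hV2]
    have hUkc : IsCompact (Uk : Set (D.obj k)) := QuasiCompact.isCompact_preimage _ U1.2 hU1c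
    have hVkc : IsCompact (Vk : Set (D.obj k)) := QuasiCompact.isCompact_preimage _ V2.2 hV2c
    have hUVc : IsCompact ((Uk ⊓ Vk : (D.obj k).Opens) : Set (D.obj k)) :=
      hUkc.inter_of_isOpen hVkc Uk.2 Vk.2
    obtain ⟨j1, f1, hj1⟩ := exists_map_preimage_le_map_preimage D c hc (U := Uk ⊓ Vk) (V := ⊥)
      hUVc
      (by
        rw [Scheme.Hom.preimage_inf, hUk, hVk]
        intro z hz
        exact (hdisj ▸ (hz : z ∈ U ∩ V) : z ∈ (∅ : Set c.pt)).elim)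
    refine ⟨j1, f1 ≫ e, fun m ψ hm ↦ ?_⟩
    let ρ : m ⟶ k := ψ ≫ f1
    have hdis : (D.map ρ ⁻¹ᵁ Uk) ⊓ (D.map ρ ⁻¹ᵁ Vk) ≤ ⊥ := by
      rw [← Scheme.Hom.preimage_inf]
      have : D.map ρ ⁻¹ᵁ (Uk ⊓ Vk) = D.map ψ ⁻¹ᵁ (D.map f1 ⁻¹ᵁ (Uk ⊓ Vk)) := by
        rw [hw2]
      rw [this]
      exact (Scheme.Hom.preimage_mono _ hj1).trans (by simp)
    have hxm : c.π.app m x ∈ D.map ρ ⁻¹ᵁ Uk := by
      have : x ∈ c.π.app m ⁻¹ᵁ (D.map ρ ⁻¹ᵁ Uk) := by rw [hw, hUk]; exact hxU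
      exact this
    have hym : c.π.app m y ∈ D.map ρ ⁻¹ᵁ Vk := by
      have : y ∈ c.π.app m ⁻¹ᵁ (D.map ρ ⁻¹ᵁ Vk) := by rw [hw, hVk]; exact hyV
      exact this
    obtain ⟨z, hz1, hz2⟩ := nonempty_preirreducible_inter (D.map ρ ⁻¹ᵁ Uk).2 (D.map ρ ⁻¹ᵁ Vk).2
      ⟨_, hxm⟩ ⟨_, hym⟩
    exact hdis ⟨hz1, hz2⟩
  · obtain ⟨j, f, hj⟩ := exists_map_preimage_le_map_preimage D c hc (i := i₀) (U := ⊤) (V := ⊥)
      CompactSpace.isCompact_univ (fun z _ ↦ (hne ⟨z⟩).elim)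
    refine ⟨j, f, fun m ψ hm ↦ ?_⟩
    obtain ⟨z⟩ := hm.toNonempty
    exact hj (Set.mem_univ (D.map ψ z))

/-- Let S = lim S_i be a cofiltered limit of schemes with affine transition maps, some stage S_{i₀}
being quasi-compact and quasi-separated, and assume that the underlying topological space of S is
Noetherian. If S is not irreducible, then there is an index i over i₀ such that S_j is not
irreducible for every index j over i. -/
theorem result {I : Type u} [SmallCategory I] [IsCofiltered I]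
    (D : I ⥤ Scheme.{u}) (c : Limits.Cone D) (hc : Limits.IsLimit c)
    [∀ (i j : I) (f : i ⟶ j), IsAffineHom (D.map f)] (i₀ : I)
    [CompactSpace (D.obj i₀)] [QuasiSeparatedSpace (D.obj i₀)]
    [TopologicalSpace.NoetherianSpace c.pt] (h : ¬ IrreducibleSpace c.pt) :
    ∃ (i : I) (_ : i ⟶ i₀), ∀ (j : I) (_ : j ⟶ i), ¬ IrreducibleSpace (D.obj j) := by
  exact aux D c hc i₀ h

end Groth.Agent.S4767
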