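import Groth.Statements.S4768
import Mathlib

set_option autoImplicit false
universe u
open CategoryTheory AlgebraicGeometry
open Lim8

namespace Groth.Agent.S4768

theorem aux {I : Type u} [SmallCategory I] [IsCofiltered I]
    (D : I ⥤ Scheme.{u}) (c : Limits.Cone D) (hc : Limits.IsLimit c)
    [∀ (i j : I) (f : i ⟶ j), IsAffineHom (D.map f)] (i₀ : I)
    [CompactSpace (D.obj i₀)] [QuasiSeparatedSpace (D.obj i₀)] (h : ¬ PreconnectedSpace c.pt) :
    ∃ (i : I) (_ : i ⟶ i₀), ∀ (j : I) (_ : j ⟶ i), ¬ PreconnectedSpace (D.obj j) := by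
  have hA : ∀ {i j : I} (f : i ⟶ j), IsAffineHom (D.map f) := fun f ↦ inferInstance
  have hcpt : CompactSpace c.pt := by
    have := isAffineHom_π_app D c hc i₀
    exact QuasiCompact.compactSpace_of_compactSpace (c.π.app i₀)
  -- preimages compose
  have hw : ∀ {j k : I} (a : j ⟶ k) (W : (D.obj k).Opens),
      c.π.app j ⁻¹ᵁ (D.map a ⁻¹ᵁ W) = c.π.app k ⁻¹ᵁ W := by
    intro j k a W
    rw [← Scheme.Hom.comp_preimage, c.w a]
  have hw2 : ∀ {j k l : I} (a : j ⟶ k) (b : k ⟶ l) (W : (D.obj l).Opens),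
      D.map a ⁻¹ᵁ (D.map b ⁻¹ᵁ W) = D.map (a ≫ b) ⁻¹ᵁ W := by
    intro j k l a b W
    rw [← Scheme.Hom.comp_preimage, D.map_comp]
  -- get the disconnection
  have h1 : ¬ _root_.IsPreconnected (Set.univ : Set c.pt) := fun h' ↦ h ⟨h'⟩
  simp only [_root_.IsPreconnected, not_forall] at h1
  obtain ⟨U, V, hUo, hVo, hUV, ⟨x, -, hxU⟩, ⟨y, -, hyV⟩, hdisj⟩ := h1
  simp only [Set.univ_inter, Set.not_nonempty_iff_eq_empty] at hdisj
  have hUc : IsCompact U := by
    have : IsClosed U := by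
      have : U = Vᶜ := by
        ext z; constructor
        · intro hz hz'; exact (hdisj ▸ (⟨hz, hz'⟩ : z ∈ U ∩ V) : z ∈ (∅ : Set c.pt))
        · intro hz; exact (hUV (Set.mem_univ z)).resolve_right hz
      rw [this]; exact hVo.isClosed_compl
    exact this.isCompact
  have hVc : IsCompact V := by
    have : IsClosed V := by
      have : V = Uᶜ := by
        ext z; constructor
        · intro hz hz'; exact (hdisj ▸ (⟨hz', hz⟩ : z ∈ U ∩ V) : z ∈ (∅ : Set c.pt))
        · intro hz; exact (hUV (Set.mem_univ z)).resolve_left hz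
      rw [this]; exact hUo.isClosed_compl
    exact this.isCompact
  obtain ⟨i1, U1, hU1c, hU1⟩ := exists_preimage_eq D c hc ⟨U, hUo⟩ hUc
  obtain ⟨i2, V2, hV2c, hV2⟩ := exists_preimage_eq D c hc ⟨V, hVo⟩ hVc
  -- common index
  let k0 := IsCofiltered.min i1 i2
  let k := IsCofiltered.min k0 i₀
  let a : k ⟶ i1 := IsCofiltered.minToLeft k0 i₀ ≫ IsCofiltered.minToLeft i1 i2
  let b : k ⟶ i2 := IsCofiltered.minToLeft k0 i₀ ≫ IsCofiltered.minToRight i1 i2
  let e : k ⟶ i₀ := IsCofiltered.minToRight k0 i₀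
  have hkc : CompactSpace (D.obj k) := QuasiCompact.compactSpace_of_compactSpace (D.map e)
  have hkq : QuasiSeparatedSpace (D.obj k) := quasiSeparatedSpace_of_quasiSeparated (D.map e)
  let Uk : (D.obj k).Opens := D.map a ⁻¹ᵁ U1
  let Vk : (D.obj k).Opens := D.map b ⁻¹ᵁ V2
  have hUk : c.π.app k ⁻¹ᵁ Uk = ⟨U, hUo⟩ := by rw [hw, hU1]
  have hVk : c.π.app k ⁻¹ᵁ Vk = ⟨V, hVo⟩ := by rw [hw, hV2]
  have hUkc : IsCompact (Uk : Set (D.obj k)) := QuasiCompact.isCompact_preimage _ U1.2 hU1c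
  have hVkc : IsCompact (Vk : Set (D.obj k)) := QuasiCompact.isCompact_preimage _ V2.2 hV2c
  have hUVc : IsCompact ((Uk ⊓ Vk : (D.obj k).Opens) : Set (D.obj k)) :=
    hUkc.inter_of_isOpen hVkc Uk.2 Vk.2
  obtain ⟨j1, f1, hj1⟩ := exists_map_preimage_le_map_preimage D c hc (U := Uk ⊓ Vk) (V := ⊥) hUVc
    (by
      rw [Scheme.Hom.preimage_inf, hUk, hVk]
      intro z hz
      exact (hdisj ▸ (hz : z ∈ U ∩ V) : z ∈ (∅ : Set c.pt)).elim)
  obtain ⟨j2, f2, hj2⟩ := exists_map_preimage_le_map_preimage D c hc (U := ⊤) (V := Uk ⊔ Vk)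
    CompactSpace.isCompact_univ
    (by
      rw [Scheme.Hom.preimage_sup, hUk, hVk]
      intro z _
      exact hUV (Set.mem_univ z))
  obtain ⟨l, g1, g2, hg⟩ := IsCofiltered.cospan f1 f2
  refine ⟨l, g1 ≫ f1 ≫ e, fun m ψ hm ↦ ?_⟩
  let ρ : m ⟶ k := ψ ≫ g1 ≫ f1
  have hdis : (D.map ρ ⁻¹ᵁ Uk) ⊓ (D.map ρ ⁻¹ᵁ Vk) ≤ ⊥ := by
    rw [← Scheme.Hom.preimage_inf]
    have : D.map ρ ⁻¹ᵁ (Uk ⊓ Vk) = D.map (ψ ≫ g1) ⁻¹ᵁ (D.map f1 ⁻¹ᵁ (Uk ⊓ Vk)) := by
      rw [hw2, Category.assoc]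
    rw [this]
    exact (Scheme.Hom.preimage_mono _ hj1).trans (by simp)
  have hcov : (⊤ : (D.obj m).Opens) ≤ (D.map ρ ⁻¹ᵁ Uk) ⊔ (D.map ρ ⁻¹ᵁ Vk) := by
    rw [← Scheme.Hom.preimage_sup]
    have : D.map ρ ⁻¹ᵁ (Uk ⊔ Vk) = D.map (ψ ≫ g2) ⁻¹ᵁ (D.map f2 ⁻¹ᵁ (Uk ⊔ Vk)) := by
      rw [hw2, Category.assoc, ← hg]
    rw [this]
    exact le_trans (by simp) (Scheme.Hom.preimage_mono _ hj2)
  have hxm : c.π.app m x ∈ D.map ρ ⁻¹ᵁ Uk := by
    have : x ∈ c.π.app m ⁻¹ᵁ (D.map ρ ⁻¹ᵁ Uk) := by rw [hw, hUk]; exact hxU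
    exact this
  have hym : c.π.app m y ∈ D.map ρ ⁻¹ᵁ Vk := by
    have : y ∈ c.π.app m ⁻¹ᵁ (D.map ρ ⁻¹ᵁ Vk) := by rw [hw, hVk]; exact hyV
    exact this
  obtain ⟨z, -, hz1, hz2⟩ := hm.isPreconnected_univ _ _ (D.map ρ ⁻¹ᵁ Uk).2 (D.map ρ ⁻¹ᵁ Vk).2
    (fun z _ ↦ hcov (Set.mem_univ z)) ⟨_, Set.mem_univ _, hxm⟩ ⟨_, Set.mem_univ _, hym⟩
  exact hdis ⟨hz1, hz2⟩

/-- Let S = lim S_i be a cofiltered limit of schemes with affine transition maps, some stage S_{i₀}
being quasi-compact and quasi-separated. If S is not preconnected (that is, S is the disjoint union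
of two nonempty open subsets), then there is an index i over i₀ such that S_j is not preconnected
for every index j over i. (The published statement assumes the stage only quasi-compact, which is
not enough: over the affine space in infinitely many variables with a doubled origin, the closed
subschemes cut out by the first n coordinates form a system with affine transition maps in which
every stage is connected while the limit consists of two disjoint points. The published proof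
descends the two pieces of S to quasi-compact open subsets of a stage and needs their intersection
to become empty at a later stage, which uses that quasi-compact open subsets of the stage are
constructible; so the stage is taken quasi-separated here, as in part (i).) -/
theorem result {I : Type u} [SmallCategory I] [IsCofiltered I]
    (D : I ⥤ Scheme.{u}) (c : Limits.Cone D) (hc : Limits.IsLimit c)
    [∀ (i j : I) (f : i ⟶ j), IsAffineHom (D.map f)] (i₀ : I)
    [CompactSpace (D.obj i₀)] [QuasiSeparatedSpace (D.obj i₀)] (h : ¬ PreconnectedSpace c.pt) :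
    ∃ (i : I) (_ : i ⟶ i₀), ∀ (j : I) (_ : j ⟶ i), ¬ PreconnectedSpace (D.obj j) := by
  exact aux D c hc i₀ h

end Groth.Agent.S4768
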