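import Groth.Statements.S4769
import Groth.Agent.S4763
import Mathlib

set_option autoImplicit false
universe u
open CategoryTheory AlgebraicGeometry
open Lim8

namespace Groth.Agent.S4769

/-- The open part of an irreducible component not meeting the other components. -/
def openPart {S : Type*} [TopologicalSpace S] (r : irreducibleComponents S) : Set S :=
  (⋃ (r' : irreducibleComponents S) (_ : r' ≠ r), r'.1)ᶜ

lemma openPart_subset {S : Type*} [TopologicalSpace S] (r : irreducibleComponents S) :
    openPart r ⊆ r.1 := by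
  intro s hs
  by_contra hsr
  apply hs
  refine Set.mem_iUnion₂.mpr ⟨⟨irreducibleComponent s,
    irreducibleComponent_mem_irreducibleComponents s⟩, ?_, mem_irreducibleComponent⟩
  rintro rfl
  exact hsr mem_irreducibleComponent

lemma isOpen_openPart {S : Type*} [TopologicalSpace S] [Finite (irreducibleComponents S)]
    (r : irreducibleComponents S) : IsOpen (openPart r) := by
  rw [openPart, isOpen_compl_iff]
  refine isClosed_iUnion_of_finite fun r' ↦ ?_
  exact isClosed_iUnion_of_finite fun _ ↦ isClosed_of_mem_irreducibleComponents _ r'.2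

lemma openPart_nonempty {S : Type*} [TopologicalSpace S] [Finite (irreducibleComponents S)]
    (r : irreducibleComponents S) : (openPart r).Nonempty := by
  classical
  by_contra hne
  rw [Set.not_nonempty_iff_eq_empty, openPart, Set.compl_empty_iff] at hne
  cases nonempty_fintype (irreducibleComponents S)
  have hirr : IsIrreducible r.1 := r.2.1
  obtain ⟨z, hz, hrz⟩ := (isIrreducible_iff_sUnion_isClosed.mp hirr)
    ((Finset.univ.filter (fun r' : irreducibleComponents S ↦ r' ≠ r)).image (fun r' ↦ r'.1))
    (by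
      intro z hz
      obtain ⟨r', -, rfl⟩ := Finset.mem_image.mp hz
      exact isClosed_of_mem_irreducibleComponents _ r'.2)
    (by
      intro s _
      have : s ∈ ⋃ (r' : irreducibleComponents S) (_ : r' ≠ r), r'.1 := hne ▸ Set.mem_univ s
      obtain ⟨r', hr', hs⟩ := Set.mem_iUnion₂.mp this
      refine Set.mem_sUnion.mpr ⟨r'.1, ?_, hs⟩
      simp only [Finset.coe_image, Set.mem_image, Finset.mem_coe, Finset.mem_filter,
        Finset.mem_univ, true_and]
      exact ⟨r', hr', rfl⟩)
  obtain ⟨r', hr', rfl⟩ := Finset.mem_image.mp hz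
  simp only [Finset.mem_filter, Finset.mem_univ, true_and] at hr'
  apply hr'
  apply Subtype.ext
  exact le_antisymm (r.2.2 r'.2.1 hrz) hrz

lemma openPart_disjoint {S : Type*} [TopologicalSpace S] (r r' : irreducibleComponents S)
    (h : r ≠ r') (s : S) (hs : s ∈ openPart r) : s ∉ openPart r' := by
  intro hs'
  apply hs'
  exact Set.mem_iUnion₂.mpr ⟨r, h, openPart_subset r hs⟩

/-- Pure topology: descent of irreducible components along a dominant map. -/
lemma bijOn_closure_image {S X : Type*} [TopologicalSpace S] [TopologicalSpace X]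
    [Finite (irreducibleComponents S)] {p : S → X}
    (hp : Continuous p) (hd : DenseRange p)
    (W : irreducibleComponents S → Set X) (hWo : ∀ r, IsOpen (W r))
    (hpre : ∀ r, p ⁻¹' W r = openPart r) :
    Set.BijOn (fun Y : Set S ↦ closure (p '' Y)) (irreducibleComponents S)
      (irreducibleComponents X) := by
  classical
  cases nonempty_fintype (irreducibleComponents S)
  -- (b) nonempty, disjoint
  have hWne : ∀ r, (W r).Nonempty := by
    intro r
    obtain ⟨s, hs⟩ := openPart_nonempty r
    rw [← hpre r] at hs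
    exact ⟨p s, hs⟩
  have hdisj : ∀ r r', r ≠ r' → ∀ y, y ∈ W r → y ∉ W r' := by
    intro r r' hne y hy hy'
    obtain ⟨s, hs⟩ := hd.exists_mem_open ((hWo r).inter (hWo r')) ⟨y, hy, hy'⟩
    have hs1 : s ∈ openPart r := by rw [← hpre r]; exact hs.1
    have hs2 : s ∈ openPart r' := by rw [← hpre r']; exact hs.2
    exact openPart_disjoint r r' hne s hs1 hs2
  -- (c) irreducibility
  have hirr : ∀ r : irreducibleComponents S, IsIrreducible r.1 := fun r ↦ r.2.1
  have hUirr : ∀ r, IsPreirreducible (openPart r) := fun r ↦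
    (hirr r).2.open_subset (isOpen_openPart r) (openPart_subset r)
  have hWirr : ∀ r, IsIrreducible (W r) := by
    intro r
    refine ⟨hWne r, ?_⟩
    intro A B hA hB ⟨y1, hy1, hy1A⟩ ⟨y2, hy2, hy2B⟩
    obtain ⟨s1, hs1⟩ := hd.exists_mem_open ((hWo r).inter hA) ⟨y1, hy1, hy1A⟩
    obtain ⟨s2, hs2⟩ := hd.exists_mem_open ((hWo r).inter hB) ⟨y2, hy2, hy2B⟩
    obtain ⟨s, hs, hsA, hsB⟩ := hUirr r (p ⁻¹' A) (p ⁻¹' B) (hA.preimage hp) (hB.preimage hp)
      ⟨s1, by rw [← hpre r]; exact hs1.1, hs1.2⟩ ⟨s2, by rw [← hpre r]; exact hs2.1, hs2.2⟩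
    refine ⟨p s, ?_, hsA, hsB⟩
    rw [← hpre r] at hs
    exact hs
  have hZirr : ∀ r, IsIrreducible (closure (W r)) := fun r ↦ (hWirr r).closure
  -- (d)
  have hcl : ∀ r : irreducibleComponents S, closure (p '' r.1) = closure (W r) := by
    intro r
    apply Set.Subset.antisymm
    · refine closure_minimal ?_ isClosed_closure
      have h1 : r.1 ⊆ closure (openPart r) := by
        have := subset_closure_inter_of_isPreirreducible_of_isOpen (hirr r).2 (isOpen_openPart r)
          (by
            obtain ⟨s, hs⟩ := openPart_nonempty r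
            exact ⟨s, openPart_subset r hs, hs⟩)
        exact this.trans (closure_mono Set.inter_subset_right)
      refine (Set.image_mono h1).trans ((image_closure_subset_closure_image hp).trans ?_)
      refine closure_mono ?_
      rintro _ ⟨s, hs, rfl⟩
      rw [← hpre r] at hs
      exact hs
    · refine closure_minimal ?_ isClosed_closure
      intro y hy
      rw [mem_closure_iff]
      intro A hA hyA
      obtain ⟨s, hs⟩ := hd.exists_mem_open (hA.inter (hWo r)) ⟨y, hyA, hy⟩
      refine ⟨p s, hs.1, s, openPart_subset r ?_, rfl⟩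
      rw [← hpre r]
      exact hs.2
  -- (e)
  have hcov : ∀ y : X, ∃ r, y ∈ closure (W r) := by
    intro y
    have h1 : y ∈ closure (Set.range p) := hd y
    have h2 : Set.range p = ⋃ r : irreducibleComponents S, p '' r.1 := by
      ext z
      constructor
      · rintro ⟨s, rfl⟩
        exact Set.mem_iUnion.mpr ⟨⟨irreducibleComponent s,
          irreducibleComponent_mem_irreducibleComponents s⟩, s, mem_irreducibleComponent, rfl⟩
      · intro hz
        obtain ⟨r, s, -, rfl⟩ := Set.mem_iUnion.mp hz
        exact ⟨s, rfl⟩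
    rw [h2, closure_iUnion_of_finite] at h1
    obtain ⟨r, hr⟩ := Set.mem_iUnion.mp h1
    exact ⟨r, hcl r ▸ hr⟩
  -- (f)
  have hinj : ∀ r r', closure (W r) ⊆ closure (W r') → r = r' := by
    intro r r' h
    by_contra hne
    obtain ⟨y, hy⟩ := hWne r
    have hy' : y ∈ closure (W r') := h (subset_closure hy)
    rw [mem_closure_iff] at hy'
    obtain ⟨z, hz, hz'⟩ := hy' (W r) (hWo r) hy
    exact hdisj r r' hne z hz hz'
  -- (g)
  have hsub : ∀ T : Set X, IsIrreducible T → ∃ r, T ⊆ closure (W r) := by
    intro T hT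
    obtain ⟨z, hz, hTz⟩ := (isIrreducible_iff_sUnion_isClosed.mp hT)
      (Finset.univ.image (fun r : irreducibleComponents S ↦ closure (W r)))
      (by
        intro z hz
        obtain ⟨r, -, rfl⟩ := Finset.mem_image.mp hz
        exact isClosed_closure)
      (by
        intro y _
        obtain ⟨r, hr⟩ := hcov y
        refine Set.mem_sUnion.mpr ⟨closure (W r), ?_, hr⟩
        simp only [Finset.coe_image, Set.mem_image, Finset.mem_coe, Finset.mem_univ, true_and]
        exact ⟨r, rfl⟩)
    obtain ⟨r, -, rfl⟩ := Finset.mem_image.mp hz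
    exact ⟨r, hTz⟩
  -- (h)
  have hcomp : ∀ r, closure (W r) ∈ irreducibleComponents X := by
    intro r
    refine ⟨hZirr r, fun T hT hle ↦ ?_⟩
    obtain ⟨r', hr'⟩ := hsub T hT
    have : r = r' := hinj r r' (hle.trans hr')
    subst this
    exact hr'
  refine ⟨?_, ?_, ?_⟩
  · intro Y hY
    change closure (p '' Y) ∈ irreducibleComponents X
    rw [hcl ⟨Y, hY⟩]
    exact hcomp _
  · intro Y hY Y' hY' h
    change closure (p '' Y) = closure (p '' Y') at h
    rw [hcl ⟨Y, hY⟩, hcl ⟨Y', hY'⟩] at h
    have := hinj _ _ h.le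
    exact congrArg Subtype.val this
  · intro T hT
    obtain ⟨r, hr⟩ := hsub T hT.1
    refine ⟨r.1, r.2, ?_⟩
    change closure (p '' r.1) = T
    rw [hcl r]
    exact le_antisymm (hT.2 (hZirr r) hr) hr

open Limits in
set_option backward.isDefEq.respectTransparency false in
theorem aux {I : Type u} [SmallCategory I] [IsCofiltered I]
    (D : I ⥤ Scheme.{u}) (c : Limits.Cone D) (hc : Limits.IsLimit c)
    [∀ (i j : I) (f : i ⟶ j), IsAffineHom (D.map f)] (i₀ : I)
    [CompactSpace (D.obj i₀)] [TopologicalSpace.NoetherianSpace c.pt]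
    (hd : ∀ (i j : I) (φ : i ⟶ j), IsDominant (D.map φ)) :
    ∃ (i : I) (_ : i ⟶ i₀), ∀ (j : I) (_ : j ⟶ i),
      Set.BijOn (fun Y : Set c.pt => closure (⇑(c.π.app j) '' (Y : Set c.pt) : Set (D.obj j)))
        (irreducibleComponents c.pt) (irreducibleComponents (D.obj j)) := by
  classical
  have hA : ∀ {i j : I} (f : i ⟶ j), IsAffineHom (D.map f) := fun f ↦ inferInstance
  have hdom : ∀ k : I, IsDominant (c.π.app k) := fun k ↦
    (Groth.Agent.S4763.result D c hc k).mpr (fun j φ ↦ hd j k φ)
  have hw : ∀ {j k : I} (a : j ⟶ k) (W : (D.obj k).Opens),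
      c.π.app j ⁻¹ᵁ (D.map a ⁻¹ᵁ W) = c.π.app k ⁻¹ᵁ W := by
    intro j k a W
    rw [← Scheme.Hom.comp_preimage, c.w a]
  have hfin := TopologicalSpace.NoetherianSpace.finite_irreducibleComponents (α := c.pt)
  have : Finite (irreducibleComponents c.pt) := hfin.to_subtype
  have h1 : ∀ r : irreducibleComponents c.pt,
      ∃ (i : I) (V : (D.obj i).Opens),
        ((c.π.app i ⁻¹ᵁ V : c.pt.Opens) : Set c.pt) = openPart r := by
    intro r
    obtain ⟨i, V, -, hV⟩ := exists_preimage_eq D c hc
      ⟨openPart r, isOpen_openPart r⟩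
      (TopologicalSpace.NoetherianSpace.isCompact _)
    exact ⟨i, V, congrArg (fun U : c.pt.Opens ↦ (U : Set c.pt)) hV⟩
  choose i V hV using h1
  cases nonempty_fintype ↥(irreducibleComponents c.pt)
  obtain ⟨k, fk⟩ := IsCofiltered.inf_objs_exists (insert i₀ (Finset.univ.image i))
  have e : k ⟶ i₀ := (fk (Finset.mem_insert_self _ _)).some
  have f : ∀ r, k ⟶ i r := fun r ↦
    (fk (Finset.mem_insert_of_mem (Finset.mem_image_of_mem i (Finset.mem_univ r)))).some
  let W : irreducibleComponents c.pt → (D.obj k).Opens :=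
    fun r ↦ D.map (f r) ⁻¹ᵁ V r
  have hW : ∀ r, ((c.π.app k ⁻¹ᵁ W r : c.pt.Opens) : Set c.pt) = openPart r := by
    intro r
    rw [hw]
    exact hV r
  refine ⟨k, e, fun j ψ ↦ ?_⟩
  refine bijOn_closure_image (c.π.app j).continuous (hdom j).denseRange
    (fun r ↦ ((D.map ψ ⁻¹ᵁ W r : (D.obj j).Opens) : Set (D.obj j)))
    (fun r ↦ (D.map ψ ⁻¹ᵁ W r).2) ?_
  intro r
  have := hw ψ (W r)
  rw [← hW r, ← this]
  rfl

/-- Let S = lim S_i be a cofiltered limit of schemes whose transition maps are affine and dominant, some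
stage S_{i₀} being quasi-compact, and assume that the underlying topological space of S is
Noetherian. Then there is an index i over i₀ such that, for every j over i, the map sending an
irreducible component Y of S to the closure of its image under S ⟶ S_j is a bijection from the set
of irreducible components of S onto the set of irreducible components of S_j. -/
theorem result {I : Type u} [SmallCategory I] [IsCofiltered I]
    (D : I ⥤ Scheme.{u}) (c : Limits.Cone D) (hc : Limits.IsLimit c)
    [∀ (i j : I) (f : i ⟶ j), IsAffineHom (D.map f)] (i₀ : I)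
    [CompactSpace (D.obj i₀)] [TopologicalSpace.NoetherianSpace c.pt]
    (hd : ∀ (i j : I) (φ : i ⟶ j), IsDominant (D.map φ)) :
    ∃ (i : I) (_ : i ⟶ i₀), ∀ (j : I) (_ : j ⟶ i),
      Set.BijOn (fun Y : Set c.pt => closure (⇑(c.π.app j) '' (Y : Set c.pt) : Set (D.obj j)))
        (irreducibleComponents c.pt) (irreducibleComponents (D.obj j)) := by
  exact aux D c hc i₀ hd

end Groth.Agent.S4769
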