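import Groth.Statements.S4770
import Groth.Agent.S4763
import Mathlib

set_option autoImplicit false
universe u
open CategoryTheory AlgebraicGeometry
open Lim8

namespace Groth.Agent.S4770

/-- A Noetherian space has finitely many connected components. -/
lemma finite_range_connectedComponent (X : Type*) [TopologicalSpace X]
    [TopologicalSpace.NoetherianSpace X] :
    (Set.range (connectedComponent : X → Set X)).Finite := by
  have hfin := TopologicalSpace.NoetherianSpace.finite_irreducibleComponents (α := X)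
  refine (hfin.image (fun Z : Set X ↦ ⋃ z ∈ Z, connectedComponent z)).subset ?_
  rintro _ ⟨x, rfl⟩
  refine ⟨irreducibleComponent x, irreducibleComponent_mem_irreducibleComponents x, ?_⟩
  apply Set.Subset.antisymm
  · intro y hy
    obtain ⟨z, hz, hyz⟩ := Set.mem_iUnion₂.mp hy
    have hz' : z ∈ connectedComponent x := irreducibleComponent_subset_connectedComponent hz
    rwa [connectedComponent_eq hz']
  · intro y hy
    exact Set.mem_iUnion₂.mpr ⟨x, mem_irreducibleComponent, hy⟩

/-- In a Noetherian space connected components are open. -/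
lemma isOpen_connectedComponent_of_noetherian {X : Type*} [TopologicalSpace X]
    [TopologicalSpace.NoetherianSpace X] (x : X) : IsOpen (connectedComponent x) := by
  have hfin := finite_range_connectedComponent X
  have h : (connectedComponent x)ᶜ =
      ⋃ C ∈ (Set.range (connectedComponent : X → Set X)) \ {connectedComponent x}, C := by
    ext y
    constructor
    · intro hy
      refine Set.mem_iUnion₂.mpr ⟨connectedComponent y, ⟨⟨y, rfl⟩, ?_⟩, mem_connectedComponent⟩
      intro h
      rw [Set.mem_singleton_iff] at h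
      exact hy (h ▸ mem_connectedComponent)
    · intro hy
      obtain ⟨C, ⟨⟨z, rfl⟩, hne⟩, hyC⟩ := Set.mem_iUnion₂.mp hy
      intro hyx
      apply hne
      rw [Set.mem_singleton_iff, connectedComponent_eq hyC, connectedComponent_eq hyx]
  rw [← isClosed_compl_iff, h]
  refine (hfin.subset Set.sdiff_subset).isClosed_biUnion ?_
  rintro C ⟨⟨z, rfl⟩, -⟩
  exact isClosed_connectedComponent

/-- Pure topology: descent of connected components along a dominant map. -/
lemma bijOn_closure_image {S X : Type*} [TopologicalSpace S] [TopologicalSpace X] {p : S → X}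
    (hp : Continuous p) (hd : DenseRange p)
    (W : Set.range (connectedComponent : S → Set S) → Set X) (hWo : ∀ r, IsOpen (W r))
    (hcov : ∀ y : X, ∃ r, y ∈ W r) (hpre : ∀ r, p ⁻¹' W r = r.1) :
    Set.BijOn (fun C : Set S ↦ closure (p '' C)) (Set.range (connectedComponent : S → Set S))
      (Set.range (connectedComponent : X → Set X)) := by
  have hdisj : ∀ r r', r ≠ r' → ∀ y, y ∈ W r → y ∉ W r' := by
    intro r r' hne y hy hy'
    obtain ⟨s, hs⟩ := hd.exists_mem_open ((hWo r).inter (hWo r')) ⟨y, hy, hy'⟩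
    have hs1 : s ∈ r.1 := by rw [← hpre r]; exact hs.1
    have hs2 : s ∈ r'.1 := by rw [← hpre r']; exact hs.2
    apply hne
    obtain ⟨C, a, rfl⟩ := r
    obtain ⟨C', b, rfl⟩ := r'
    apply Subtype.ext
    change connectedComponent a = connectedComponent b
    rw [connectedComponent_eq hs1, connectedComponent_eq hs2]
  have hclosed : ∀ r, IsClosed (W r) := by
    intro r
    have h : (W r)ᶜ = ⋃ (r') (_ : r' ≠ r), W r' := by
      ext y
      constructor
      · intro hy
        obtain ⟨r', hr'⟩ := hcov y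
        refine Set.mem_iUnion₂.mpr ⟨r', ?_, hr'⟩
        rintro rfl
        exact hy hr'
      · intro hy
        obtain ⟨r', hne, hr'⟩ := Set.mem_iUnion₂.mp hy
        exact hdisj r' r hne y hr'
    rw [← isOpen_compl_iff, h]
    exact isOpen_iUnion fun r' ↦ isOpen_iUnion fun _ ↦ hWo r'
  have hpreconn : ∀ r, IsPreconnected (W r) := by
    intro r A B hA hB hAB ⟨y1, hy1, hy1A⟩ ⟨y2, hy2, hy2B⟩
    obtain ⟨s1, hs1⟩ := hd.exists_mem_open ((hWo r).inter hA) ⟨y1, hy1, hy1A⟩
    obtain ⟨s2, hs2⟩ := hd.exists_mem_open ((hWo r).inter hB) ⟨y2, hy2, hy2B⟩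
    have hr : IsPreconnected r.1 := by
      obtain ⟨C, a, rfl⟩ := r
      exact isPreconnected_connectedComponent
    obtain ⟨s, hs, hsA, hsB⟩ := hr (p ⁻¹' A) (p ⁻¹' B) (hA.preimage hp) (hB.preimage hp)
      (by
        intro s hs
        rw [← hpre r] at hs
        exact hAB hs)
      ⟨s1, by rw [← hpre r]; exact hs1.1, hs1.2⟩ ⟨s2, by rw [← hpre r]; exact hs2.1, hs2.2⟩
    refine ⟨p s, ?_, hsA, hsB⟩
    rw [← hpre r] at hs
    exact hs
  have hcc : ∀ r, ∀ y ∈ W r, connectedComponent y = W r := by
    intro r y hy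
    apply Set.Subset.antisymm
    · exact (IsClopen.connectedComponent_subset ⟨hclosed r, hWo r⟩ hy)
    · exact (hpreconn r).subset_connectedComponent hy
  have hcl : ∀ r, closure (p '' r.1) = W r := by
    intro r
    apply Set.Subset.antisymm
    · refine closure_minimal ?_ (hclosed r)
      rintro _ ⟨s, hs, rfl⟩
      rw [← hpre r] at hs
      exact hs
    · intro y hy
      rw [mem_closure_iff]
      intro A hA hyA
      obtain ⟨s, hs⟩ := hd.exists_mem_open (hA.inter (hWo r)) ⟨y, hyA, hy⟩
      refine ⟨p s, hs.1, s, ?_, rfl⟩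
      rw [← hpre r]
      exact hs.2
  refine ⟨?_, ?_, ?_⟩
  · rintro C hC
    obtain ⟨s, rfl⟩ := id hC
    refine ⟨p s, ?_⟩
    have h1 := hcl ⟨_, hC⟩
    have h2 : p s ∈ W ⟨_, hC⟩ := by
      have : s ∈ p ⁻¹' W ⟨_, hC⟩ := by rw [hpre]; exact mem_connectedComponent
      exact this
    rw [hcc _ _ h2]
    exact h1.symm
  · intro C hC C' hC' h
    have h1 := hcl ⟨C, hC⟩
    have h2 := hcl ⟨C', hC'⟩
    have h3 : W ⟨C, hC⟩ = W ⟨C', hC'⟩ := by rw [← h1, ← h2]; exact h
    have := hpre ⟨C, hC⟩
    rw [h3, hpre] at this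
    exact this.symm
  · rintro Y ⟨y, rfl⟩
    obtain ⟨r, hr⟩ := hcov y
    refine ⟨r.1, r.2, ?_⟩
    change closure (p '' r.1) = connectedComponent y
    rw [hcl r, hcc r y hr]

open Limits in
set_option backward.isDefEq.respectTransparency false in
theorem aux {I : Type u} [SmallCategory I] [IsCofiltered I]
    (D : I ⥤ Scheme.{u}) (c : Limits.Cone D) (hc : Limits.IsLimit c)
    [∀ (i j : I) (f : i ⟶ j), IsAffineHom (D.map f)] (i₀ : I)
    [CompactSpace (D.obj i₀)] [TopologicalSpace.NoetherianSpace c.pt]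
    (hd : ∀ (i j : I) (φ : i ⟶ j), IsDominant (D.map φ)) :
    ∃ (i : I) (_ : i ⟶ i₀), ∀ (j : I) (_ : j ⟶ i),
      Set.BijOn (fun C : Set c.pt => closure (⇑(c.π.app j) '' (C : Set c.pt) : Set (D.obj j)))
        (Set.range (connectedComponent : c.pt → Set c.pt))
        (Set.range (connectedComponent : D.obj j → Set (D.obj j))) := by
  classical
  have hA : ∀ {i j : I} (f : i ⟶ j), IsAffineHom (D.map f) := fun f ↦ inferInstance
  have hdom : ∀ k : I, IsDominant (c.π.app k) := fun k ↦
    (Groth.Agent.S4763.result D c hc k).mpr (fun j φ ↦ hd j k φ)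
  have hw : ∀ {j k : I} (a : j ⟶ k) (W : (D.obj k).Opens),
      c.π.app j ⁻¹ᵁ (D.map a ⁻¹ᵁ W) = c.π.app k ⁻¹ᵁ W := by
    intro j k a W
    rw [← Scheme.Hom.comp_preimage, c.w a]
  have hfin := finite_range_connectedComponent c.pt
  have : Finite (Set.range (connectedComponent : c.pt → Set c.pt)) := hfin.to_subtype
  have h1 : ∀ r : Set.range (connectedComponent : c.pt → Set c.pt),
      ∃ (i : I) (V : (D.obj i).Opens), ((c.π.app i ⁻¹ᵁ V : c.pt.Opens) : Set c.pt) = r.1 := by
    rintro ⟨C, s, rfl⟩
    obtain ⟨i, V, -, hV⟩ := exists_preimage_eq D c hc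
      ⟨connectedComponent s, isOpen_connectedComponent_of_noetherian s⟩
      (TopologicalSpace.NoetherianSpace.isCompact _)
    exact ⟨i, V, congrArg (fun U : c.pt.Opens ↦ (U : Set c.pt)) hV⟩
  choose i V hV using h1
  cases nonempty_fintype ↥(Set.range (connectedComponent : c.pt → Set c.pt))
  obtain ⟨k, fk⟩ := IsCofiltered.inf_objs_exists (insert i₀ (Finset.univ.image i))
  have e : k ⟶ i₀ := (fk (Finset.mem_insert_self _ _)).some
  have f : ∀ r, k ⟶ i r := fun r ↦
    (fk (Finset.mem_insert_of_mem (Finset.mem_image_of_mem i (Finset.mem_univ r)))).some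
  have hkc : CompactSpace (D.obj k) := QuasiCompact.compactSpace_of_compactSpace (D.map e)
  let W : Set.range (connectedComponent : c.pt → Set c.pt) → (D.obj k).Opens :=
    fun r ↦ D.map (f r) ⁻¹ᵁ V r
  have hW : ∀ r, ((c.π.app k ⁻¹ᵁ W r : c.pt.Opens) : Set c.pt) = r.1 := by
    intro r
    rw [hw]
    exact hV r
  obtain ⟨k', f', hk'⟩ := exists_map_preimage_le_map_preimage D c hc (U := ⊤) (V := ⨆ r, W r)
    CompactSpace.isCompact_univ
    (by
      intro s _
      rw [Scheme.Hom.preimage_iSup]
      refine TopologicalSpace.Opens.mem_iSup.mpr ⟨⟨connectedComponent s, s, rfl⟩, ?_⟩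
      have : s ∈ ((c.π.app k ⁻¹ᵁ W ⟨connectedComponent s, s, rfl⟩ : c.pt.Opens) : Set c.pt) := by
        rw [hW]
        exact mem_connectedComponent
      exact this)
  refine ⟨k', f' ≫ e, fun j ψ ↦ ?_⟩
  refine bijOn_closure_image (c.π.app j).continuous (hdom j).denseRange
    (fun r ↦ ((D.map (ψ ≫ f') ⁻¹ᵁ W r : (D.obj j).Opens) : Set (D.obj j)))
    (fun r ↦ (D.map (ψ ≫ f') ⁻¹ᵁ W r).2) ?_ ?_
  · intro y
    have h2 : D.map ψ y ∈ D.map f' ⁻¹ᵁ (⨆ r, W r) := hk' (Set.mem_univ _)
    rw [Scheme.Hom.preimage_iSup] at h2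
    obtain ⟨r, hr⟩ := TopologicalSpace.Opens.mem_iSup.mp h2
    refine ⟨r, ?_⟩
    change D.map (ψ ≫ f') y ∈ W r
    rw [D.map_comp, Scheme.Hom.comp_apply]
    exact hr
  · intro r
    have := hw (ψ ≫ f') (W r)
    rw [← hW r, ← this]
    rfl

/-- Let S = lim S_i be a cofiltered limit of schemes whose transition maps are affine and dominant, some
stage S_{i₀} being quasi-compact, and assume that the underlying topological space of S is
Noetherian. Then there is an index i over i₀ such that, for every j over i, the map sending a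
connected component C of S to the closure of its image under S ⟶ S_j is a bijection from the set of
connected components of S onto the set of connected components of S_j. -/
theorem result {I : Type u} [SmallCategory I] [IsCofiltered I]
    (D : I ⥤ Scheme.{u}) (c : Limits.Cone D) (hc : Limits.IsLimit c)
    [∀ (i j : I) (f : i ⟶ j), IsAffineHom (D.map f)] (i₀ : I)
    [CompactSpace (D.obj i₀)] [TopologicalSpace.NoetherianSpace c.pt]
    (hd : ∀ (i j : I) (φ : i ⟶ j), IsDominant (D.map φ)) :
    ∃ (i : I) (_ : i ⟶ i₀), ∀ (j : I) (_ : j ⟶ i),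
      Set.BijOn (fun C : Set c.pt => closure (⇑(c.π.app j) '' (C : Set c.pt) : Set (D.obj j)))
        (Set.range (connectedComponent : c.pt → Set c.pt))
        (Set.range (connectedComponent : D.obj j → Set (D.obj j))) := by
  exact aux D c hc i₀ hd

end Groth.Agent.S4770
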