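import Groth.Statements.S4771
import Mathlib
import Groth.Agent.S4763

set_option autoImplicit false
universe u
open CategoryTheory AlgebraicGeometry
open Lim8

namespace Groth.Agent.S4771

theorem aux {I : Type u} [SmallCategory I] [IsCofiltered I]
    (D : I ⥤ Scheme.{u}) (c : Limits.Cone D) (hc : Limits.IsLimit c)
    [∀ (i j : I) (f : i ⟶ j), IsAffineHom (D.map f)] (i₀ : I)
    [CompactSpace (D.obj i₀)] [TopologicalSpace.NoetherianSpace c.pt]
    (hd : ∀ (i j : I) (φ : i ⟶ j), IsDominant (D.map φ)) :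
    IrreducibleSpace c.pt ↔ ∃ (i : I) (_ : i ⟶ i₀), ∀ (j : I) (_ : j ⟶ i), IrreducibleSpace (D.obj j) := by
  have hA : ∀ {i j : I} (f : i ⟶ j), IsAffineHom (D.map f) := fun f ↦ inferInstance
  have hdom : ∀ k : I, IsDominant (c.π.app k) := fun k ↦
    (Groth.Agent.S4763.result D c hc k).mpr (fun j φ ↦ hd j k φ)
  have hw : ∀ {j k : I} (a : j ⟶ k) (W : (D.obj k).Opens),
      c.π.app j ⁻¹ᵁ (D.map a ⁻¹ᵁ W) = c.π.app k ⁻¹ᵁ W := by
    intro j k a W
    rw [← Scheme.Hom.comp_preimage, c.w a]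
  constructor
  · intro hirr
    refine ⟨i₀, 𝟙 i₀, fun j _ ↦ ?_⟩
    have hirr' : IrreducibleSpace ↥(((Functor.const I).obj c.pt).obj j) := hirr
    have h1 : IsIrreducible (Set.range ⇑(c.π.app j)) := by
      rw [← Set.image_univ]
      exact (IrreducibleSpace.isIrreducible_univ _).image _ (c.π.app j).continuous.continuousOn
    have h2 := h1.closure
    rw [(hdom j).denseRange.closure_eq] at h2
    exact irreducibleSpace_def _ |>.mpr h2
  · rintro ⟨i, φ, hi⟩
    have hne : Nonempty c.pt := by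
      have : Nonempty (D.obj i) := (hi i (𝟙 i)).toNonempty
      exact (hdom i).denseRange.nonempty
    suffices IsPreirreducible (Set.univ : Set c.pt) from
      { isPreirreducible_univ := this, toNonempty := hne }
    by_contra h1
    simp only [IsPreirreducible, not_forall] at h1
    obtain ⟨U, V, hUo, hVo, ⟨x, -, hxU⟩, ⟨y, -, hyV⟩, hdisj⟩ := h1
    simp only [Set.univ_inter, Set.not_nonempty_iff_eq_empty] at hdisj
    have hUc : IsCompact U := TopologicalSpace.NoetherianSpace.isCompact U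
    have hVc : IsCompact V := TopologicalSpace.NoetherianSpace.isCompact V
    obtain ⟨i1, U1, hU1c, hU1⟩ := exists_preimage_eq D c hc ⟨U, hUo⟩ hUc
    obtain ⟨i2, V2, hV2c, hV2⟩ := exists_preimage_eq D c hc ⟨V, hVo⟩ hVc
    let k0 := IsCofiltered.min i1 i2
    let k := IsCofiltered.min k0 i
    let a : k ⟶ i1 := IsCofiltered.minToLeft k0 i ≫ IsCofiltered.minToLeft i1 i2
    let b : k ⟶ i2 := IsCofiltered.minToLeft k0 i ≫ IsCofiltered.minToRight i1 i2
    let e : k ⟶ i := IsCofiltered.minToRight k0 i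
    let Uk : (D.obj k).Opens := D.map a ⁻¹ᵁ U1
    let Vk : (D.obj k).Opens := D.map b ⁻¹ᵁ V2
    have hUk : c.π.app k ⁻¹ᵁ Uk = ⟨U, hUo⟩ := by rw [hw, hU1]
    have hVk : c.π.app k ⁻¹ᵁ Vk = ⟨V, hVo⟩ := by rw [hw, hV2]
    have hdisk : ∀ z : D.obj k, z ∈ Uk → z ∈ Vk → False := by
      intro z hz1 hz2
      obtain ⟨_, hw1, ⟨s, rfl⟩⟩ := (dense_iff_inter_open.mp (hdom k).denseRange)
        ((Uk ⊓ Vk : (D.obj k).Opens) : Set (D.obj k)) (Uk ⊓ Vk).2 ⟨z, hz1, hz2⟩
      have hs1 : s ∈ c.π.app k ⁻¹ᵁ Uk := hw1.1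
      have hs2 : s ∈ c.π.app k ⁻¹ᵁ Vk := hw1.2
      rw [hUk] at hs1
      rw [hVk] at hs2
      exact (hdisj ▸ (⟨hs1, hs2⟩ : s ∈ U ∩ V) : s ∈ (∅ : Set c.pt))
    have hm := hi k e
    have hxm : c.π.app k x ∈ Uk := by
      have : x ∈ c.π.app k ⁻¹ᵁ Uk := by rw [hUk]; exact hxU
      exact this
    have hym : c.π.app k y ∈ Vk := by
      have : y ∈ c.π.app k ⁻¹ᵁ Vk := by rw [hVk]; exact hyV
      exact this
    obtain ⟨z, hz1, hz2⟩ := nonempty_preirreducible_inter Uk.2 Vk.2 ⟨_, hxm⟩ ⟨_, hym⟩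
    exact hdisk z hz1 hz2

/-- Let S = lim S_i be a cofiltered limit of schemes whose transition maps are affine and dominant, some
stage S_{i₀} being quasi-compact, and assume that the underlying topological space of S is
Noetherian. Then S is irreducible if and only if there is an index i over i₀ such that S_j is
irreducible for every j over i. -/
theorem result {I : Type u} [SmallCategory I] [IsCofiltered I]
    (D : I ⥤ Scheme.{u}) (c : Limits.Cone D) (hc : Limits.IsLimit c)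
    [∀ (i j : I) (f : i ⟶ j), IsAffineHom (D.map f)] (i₀ : I)
    [CompactSpace (D.obj i₀)] [TopologicalSpace.NoetherianSpace c.pt]
    (hd : ∀ (i j : I) (φ : i ⟶ j), IsDominant (D.map φ)) :
    IrreducibleSpace c.pt ↔ ∃ (i : I) (_ : i ⟶ i₀), ∀ (j : I) (_ : j ⟶ i), IrreducibleSpace (D.obj j) := by
  exact aux D c hc i₀ hd

end Groth.Agent.S4771
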