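import Groth.Statements.S4774
import Mathlib

set_option autoImplicit false
universe u
open CategoryTheory AlgebraicGeometry
open Lim8

namespace Groth.Agent.S4774

set_option backward.isDefEq.respectTransparency false in
theorem aux {I : Type u} [SmallCategory I] [IsCofiltered I]
    (D : I ⥤ Scheme.{u}) (c : Limits.Cone D) (hc : Limits.IsLimit c)
    [∀ (i j : I) (f : i ⟶ j), IsAffineHom (D.map f)] (h : ¬ IsReduced c.pt) :
    ∃ (i : I), ∀ (j : I) (_ : j ⟶ i), ¬ IsReduced (D.obj j) := by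
  have hA : ∀ {i j : I} (f : i ⟶ j), IsAffineHom (D.map f) := fun f ↦ inferInstance
  obtain ⟨i⟩ := IsCofiltered.nonempty (C := I)
  -- Step 1
  obtain ⟨V, hVred⟩ : ∃ V : (D.obj i).affineOpens, ¬ IsReduced ↑(c.π.app i ⁻¹ᵁ V.1) := by
    by_contra hcon
    push Not at hcon
    have hcov : TopologicalSpace.IsOpenCover
        (fun V : (D.obj i).affineOpens ↦ c.π.app i ⁻¹ᵁ V.1) := by
      rw [TopologicalSpace.IsOpenCover, ← Scheme.Hom.preimage_iSup, iSup_affineOpens_eq_top]
      rfl
    have : ∀ r, IsReduced ((c.pt.openCoverOfIsOpenCover _ hcov).X r) := fun r ↦ hcon r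
    exact h (IsReduced.of_openCover c.pt (c.pt.openCoverOfIsOpenCover _ hcov))
  have hV : IsAffineOpen V.1 := V.2
  let D' := opensDiagram D i V.1
  let c' := opensCone D c i V.1
  have hc' : Limits.IsLimit c' := isLimitOpensCone D c hc i V.1
  have hD'aff : ∀ j, IsAffine (D'.obj j) := fun j ↦ hV.preimage (D.map _)
  have hPaff : IsAffine c'.pt := by
    have := isAffineHom_π_app D c hc i
    exact hV.preimage (c.π.app i)
  -- Step 2
  have hΓ : ¬ _root_.IsReduced Γ(c'.pt, ⊤) := by
    intro hr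
    exact hVred (isReduced_of_isAffine_isReduced (X := c'.pt))
  obtain ⟨s, hsnil, hs0⟩ : ∃ s : Γ(c'.pt, ⊤), IsNilpotent s ∧ s ≠ 0 := by
    by_contra hcon
    push Not at hcon
    exact hΓ ⟨fun x hx ↦ hcon x hx⟩
  obtain ⟨n, hn⟩ := hsnil
  -- Step 3
  obtain ⟨j, t, ht⟩ := exists_appTop_π_eq_of_isAffine_of_isLimit D' c' hc' s
  -- Step 4
  obtain ⟨k, f, hk⟩ := exists_appTop_map_eq_zero_of_isAffine_of_isLimit D' c' hc' j (t ^ n)
    (by rw [map_pow, ht, hn])
  refine ⟨k.left, fun l ψ hred ↦ ?_⟩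
  let l' : Over i := Over.mk (ψ ≫ k.hom)
  let g : l' ⟶ k := Over.homMk ψ
  let u : Γ(D'.obj l', ⊤) := (D'.map (g ≫ f)).appTop t
  have hu1 : u ^ n = 0 := by
    change ((D'.map (g ≫ f)).appTop t) ^ n = 0
    rw [← map_pow, D'.map_comp, Scheme.Hom.comp_appTop, CommRingCat.comp_apply, hk, map_zero]
  have hu2 : u ≠ 0 := by
    intro hu
    apply hs0
    have e : (c'.π.app l').appTop u = s := by
      change (c'.π.app l').appTop ((D'.map (g ≫ f)).appTop t) = s
      rw [← CommRingCat.comp_apply, ← Scheme.Hom.comp_appTop, c'.w (g ≫ f)]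
      exact ht
    rw [← e, hu, map_zero]
  have hred' : IsReduced (D.obj l'.left) := hred
  have : IsReduced (D'.obj l') := by
    change IsReduced ↑(D.map l'.hom ⁻¹ᵁ V.1)
    infer_instance
  exact hu2 (IsNilpotent.eq_zero ⟨n, hu1⟩)

/-- Let S = lim S_i be a cofiltered limit of schemes with affine transition maps. If S is not reduced,
then there is an index i such that S_j is not reduced for every index j over i. -/
theorem result {I : Type u} [SmallCategory I] [IsCofiltered I]
    (D : I ⥤ Scheme.{u}) (c : Limits.Cone D) (hc : Limits.IsLimit c)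
    [∀ (i j : I) (f : i ⟶ j), IsAffineHom (D.map f)] (h : ¬ IsReduced c.pt) :
    ∃ (i : I), ∀ (j : I) (_ : j ⟶ i), ¬ IsReduced (D.obj j) := by
  exact aux D c hc h

end Groth.Agent.S4774
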