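import Groth.Statements.S4775
import Mathlib
import Groth.Agent.S4774

set_option autoImplicit false
universe u
open CategoryTheory AlgebraicGeometry
open Lim8

namespace Groth.Agent.S4775

set_option backward.isDefEq.respectTransparency false in
theorem aux {I : Type u} [SmallCategory I] [IsCofiltered I]
    (D : I ⥤ Scheme.{u}) (c : Limits.Cone D) (hc : Limits.IsLimit c)
    [∀ (i j : I) (f : i ⟶ j), IsAffineHom (D.map f)]
    (hf : ∀ (i j : I) (φ : i ⟶ j), Flat (D.map φ) ∧ Surjective (D.map φ)) :
    IsReduced c.pt ↔ ∀ (i : I), IsReduced (D.obj i) := by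
  have hA : ∀ {i j : I} (f : i ⟶ j), IsAffineHom (D.map f) := fun f ↦ inferInstance
  constructor
  · intro hS i
    by_contra h
    obtain ⟨V, hVred⟩ : ∃ V : (D.obj i).affineOpens, ¬ IsReduced ↑(D.map (𝟙 i) ⁻¹ᵁ V.1) := by
      by_contra hcon
      push Not at hcon
      have hcov : TopologicalSpace.IsOpenCover
          (fun V : (D.obj i).affineOpens ↦ D.map (𝟙 i) ⁻¹ᵁ V.1) := by
        rw [TopologicalSpace.IsOpenCover, ← Scheme.Hom.preimage_iSup, iSup_affineOpens_eq_top]
        rfl
      have : ∀ r, IsReduced (((D.obj i).openCoverOfIsOpenCover _ hcov).X r) := fun r ↦ hcon r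
      exact h (IsReduced.of_openCover (D.obj i) ((D.obj i).openCoverOfIsOpenCover _ hcov))
    have hV : IsAffineOpen V.1 := V.2
    let D' := opensDiagram D i V.1
    let c' := opensCone D c i V.1
    have hc' : Limits.IsLimit c' := isLimitOpensCone D c hc i V.1
    have hD'aff : ∀ j, IsAffine (D'.obj j) := fun j ↦ hV.preimage (D.map _)
    let i' : Over i := Over.mk (𝟙 i)
    have hΓ : ¬ _root_.IsReduced Γ(D'.obj i', ⊤) := by
      intro hr
      exact hVred (isReduced_of_isAffine_isReduced (X := D'.obj i'))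
    obtain ⟨t, htnil, ht0⟩ : ∃ t : Γ(D'.obj i', ⊤), IsNilpotent t ∧ t ≠ 0 := by
      by_contra hcon
      push Not at hcon
      exact hΓ ⟨fun x hx ↦ hcon x hx⟩
    have hs : (c'.π.app i').appTop t = 0 := by
      have hS' : IsReduced (((Functor.const I).obj c.pt).obj i) := hS
      have hred : IsReduced c'.pt := by
        change IsReduced ↑(c.π.app i ⁻¹ᵁ V.1)
        infer_instance
      have hred' : _root_.IsReduced Γ(c'.pt, ⊤) := inferInstance
      exact IsNilpotent.eq_zero (R := Γ(c'.pt, ⊤)) (htnil.map _)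
    obtain ⟨k, f, hk⟩ := exists_appTop_map_eq_zero_of_isAffine_of_isLimit D' c' hc' i' t hs
    have hflat : Flat (D'.map f) := by
      have := (hf _ _ f.left).1
      change Flat ((D.map f.left).resLE _ _ _)
      infer_instance
    have hsurj : Surjective (D'.map f) := by
      refine ⟨fun y ↦ ?_⟩
      obtain ⟨x, hx⟩ := (hf _ _ f.left).2.surj y.1
      have hxV : x ∈ D.map k.hom ⁻¹ᵁ V.1 := by
        have hy : D.map (𝟙 i) y.1 ∈ V.1 := y.2
        have e : k.hom = f.left ≫ 𝟙 i := (Over.w f).symm
        show D.map k.hom x ∈ V.1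
        rw [e, D.map_comp, Scheme.Hom.comp_apply, hx]
        exact hy
      refine ⟨⟨x, hxV⟩, ?_⟩
      apply Subtype.ext
      change ((D.map f.left).resLE _ _ _ ⟨x, hxV⟩).1 = y.1
      rw [Scheme.Hom.coe_resLE_apply]
      exact hx
    have hinj := ((Flat.flat_and_surjective_iff_faithfullyFlat_of_isAffine (D'.map f)).mp
      ⟨hflat, hsurj⟩).injective
    exact ht0 (hinj (by rw [hk, map_zero]))
  · intro h
    by_contra hS
    obtain ⟨i, hi⟩ := Groth.Agent.S4774.result D c hc hS
    exact hi i (𝟙 i) (h i)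

/-- Let S = lim S_i be a cofiltered limit of schemes whose transition maps are affine, flat and
surjective. Then S is reduced if and only if every S_i is reduced. -/
theorem result {I : Type u} [SmallCategory I] [IsCofiltered I]
    (D : I ⥤ Scheme.{u}) (c : Limits.Cone D) (hc : Limits.IsLimit c)
    [∀ (i j : I) (f : i ⟶ j), IsAffineHom (D.map f)]
    (hf : ∀ (i j : I) (φ : i ⟶ j), Flat (D.map φ) ∧ Surjective (D.map φ)) :
    IsReduced c.pt ↔ ∀ (i : I), IsReduced (D.obj i) := by
  exact aux D c hc hf

end Groth.Agent.S4775
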