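import Groth.Statements.S4776
import Mathlib
import Groth.Agent.S4771
import Groth.Agent.S4774
import Groth.Agent.S4775

set_option autoImplicit false
universe u
open CategoryTheory AlgebraicGeometry
open Lim8

namespace Groth.Agent.S4776

/-- Let S = lim S_i be a cofiltered limit of schemes whose transition maps are affine, flat and
surjective, some stage S_{i₀} being quasi-compact, and assume that the underlying topological space
of S is Noetherian. Then S is integral if and only if there is an index i over i₀ such that S_j is
integral for every j over i. (The published statement carries neither the quasi-compactness nor the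
Noetherian hypothesis; its proof combines the reducedness criterion with the irreducibility
criterion for limits, and the latter is proved only under these two hypotheses, so they are assumed
here.) -/
theorem result {I : Type u} [SmallCategory I] [IsCofiltered I]
    (D : I ⥤ Scheme.{u}) (c : Limits.Cone D) (hc : Limits.IsLimit c)
    [∀ (i j : I) (f : i ⟶ j), IsAffineHom (D.map f)] (i₀ : I)
    [CompactSpace (D.obj i₀)] [TopologicalSpace.NoetherianSpace c.pt]
    (hf : ∀ (i j : I) (φ : i ⟶ j), Flat (D.map φ) ∧ Surjective (D.map φ)) :
    IsIntegral c.pt ↔ ∃ (i : I) (_ : i ⟶ i₀), ∀ (j : I) (_ : j ⟶ i), IsIntegral (D.obj j) := by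
  have hd : ∀ (i j : I) (φ : i ⟶ j), IsDominant (D.map φ) := by
    intro i j φ
    have := (hf i j φ).2
    infer_instance
  have hirr := Groth.Agent.S4771.result D c hc i₀ hd
  constructor
  · intro hint
    have h1 : IrreducibleSpace c.pt := inferInstance
    have h2 : AlgebraicGeometry.IsReduced c.pt := inferInstance
    obtain ⟨i, φ, hi⟩ := hirr.mp h1
    have hred := (Groth.Agent.S4775.result D c hc hf).mp h2
    refine ⟨i, φ, fun j ψ ↦ ?_⟩
    have := hi j ψ
    have := hred j
    exact (AlgebraicGeometry.isIntegral_iff_irreducibleSpace_and_isReduced _).mpr ⟨inferInstance, inferInstance⟩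
  · rintro ⟨i, φ, hi⟩
    have h1 : IrreducibleSpace c.pt := hirr.mpr ⟨i, φ, fun j ψ ↦ by
      have := hi j ψ; infer_instance⟩
    have h2 : AlgebraicGeometry.IsReduced c.pt := by
      by_contra hS
      obtain ⟨i', hi'⟩ := Groth.Agent.S4774.result D c hc hS
      have := hi (IsCofiltered.min i i') (IsCofiltered.minToLeft i i')
      exact hi' (IsCofiltered.min i i') (IsCofiltered.minToRight i i') inferInstance
    exact (AlgebraicGeometry.isIntegral_iff_irreducibleSpace_and_isReduced _).mpr ⟨h1, h2⟩

end Groth.Agent.S4776
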