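import Groth.Statements.S4779
import Groth.Agent.Lead.LimPullback
import Mathlib

set_option autoImplicit false
universe u
open CategoryTheory AlgebraicGeometry
open Lim8

namespace Groth.Agent.S4779

open Limits Groth.Agent.Lead.LimPullback in
set_option backward.isDefEq.respectTransparency false in
theorem aux {I : Type u} [SmallCategory I] [IsCofiltered I]
    (D : I ⥤ Scheme.{u}) (c : Limits.Cone D) (hc : Limits.IsLimit c)
    [∀ (i j : I) (f : i ⟶ j), IsAffineHom (D.map f)] (i₀ : I)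
    {X₀ Y₀ : Scheme.{u}} (f₀ : X₀ ⟶ Y₀) (g₀ : Y₀ ⟶ D.obj i₀)
    {X Y : Scheme.{u}} (f : X ⟶ Y) (g : Y ⟶ c.pt) (qY : Y ⟶ Y₀) (qX : X ⟶ X₀)
    (hY : IsPullback qY g g₀ (c.π.app i₀)) (hX : IsPullback qX f f₀ qY)
    (h : ∃ (i : I) (φ : i ⟶ i₀), ∀ (j : I) (ψ : j ⟶ i) (Xj Yj : Scheme.{u}) (fj : Xj ⟶ Yj)
      (gj : Yj ⟶ D.obj j) (pY : Yj ⟶ Y₀) (pX : Xj ⟶ X₀),
      IsPullback pY gj g₀ (D.map (ψ ≫ φ)) → IsPullback pX fj f₀ pY → IsOpenMap ⇑fj) :
    IsOpenMap ⇑f := by
  have hA : ∀ {i j : I} (f : i ⟶ j), IsAffineHom (D.map f) := fun f ↦ inferInstance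
  obtain ⟨i, φ, h⟩ := h
  let a₀ : X₀ ⟶ D.obj i₀ := f₀ ≫ g₀
  let E := pbDiag D i₀ a₀
  let cE := pbCone D c i₀ a₀
  have hcE : IsLimit cE := pbConeIsLimit i₀ a₀ hc
  have hEA : ∀ {j k : Over i₀} (t : j ⟶ k), IsAffineHom (E.map t) :=
    fun t ↦ isAffineHom_pbDiag_map i₀ a₀ t
  -- iso X ≅ cE.pt
  have hP : IsPullback (f ≫ g) qX (c.π.app i₀) a₀ := (hX.paste_vert hY).flip
  let e : X ≅ cE.pt := hP.isoPullback
  have he1 : e.hom ≫ pullback.fst (c.π.app i₀) a₀ = f ≫ g := hP.isoPullback_hom_fst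
  have he2 : e.hom ≫ pullback.snd (c.π.app i₀) a₀ = qX := hP.isoPullback_hom_snd
  -- key claim
  have key : ∀ (l : Over i₀) (ψ : l.left ⟶ i) (hψ : l.hom = ψ ≫ φ) (V : (E.obj l).Opens),
      IsOpen (⇑f '' (⇑(e.hom ≫ cE.π.app l) ⁻¹' (V : Set (E.obj l)))) := by
    intro l ψ hψ V
    let Yl := pullback (D.map l.hom) g₀
    let fl : E.obj l ⟶ Yl := pullback.map (D.map l.hom) a₀ (D.map l.hom) g₀ (𝟙 _) f₀ (𝟙 _)
      (by simp) (by simp [a₀])
    let ql : Y ⟶ Yl := pullback.lift (g ≫ c.π.app l.left) qY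
      (by rw [Category.assoc, c.w, hY.w])
    have sqY : IsPullback (pullback.snd (D.map l.hom) g₀) (pullback.fst _ _) g₀
        (D.map (ψ ≫ φ)) := by
      rw [← hψ]; exact (IsPullback.of_hasPullback _ _).flip
    have sqX : IsPullback (pullback.snd (D.map l.hom) a₀) fl f₀
        (pullback.snd (D.map l.hom) g₀) := by
      refine IsPullback.of_bot ?_ ?_ (IsPullback.of_hasPullback (D.map l.hom) g₀).flip
      · have : fl ≫ pullback.fst (D.map l.hom) g₀ = pullback.fst (D.map l.hom) a₀ := by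
          simp [fl]
        rw [this]
        exact (IsPullback.of_hasPullback (D.map l.hom) a₀).flip
      · simp [fl]
    have hopen : IsOpenMap ⇑fl :=
      h l.left ψ (E.obj l) Yl fl (pullback.fst _ _) (pullback.snd _ _) (pullback.snd _ _) sqY sqX
    have hp2 : (e.hom ≫ cE.π.app l) ≫ pullback.snd (D.map l.hom) a₀ = qX := by
      rw [Category.assoc]
      have : cE.π.app l ≫ pullback.snd (D.map l.hom) a₀ = pullback.snd (c.π.app i₀) a₀ := by
        simp [cE, pbCone]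
      rw [this, he2]
    have hp1 : (e.hom ≫ cE.π.app l) ≫ pullback.fst (D.map l.hom) a₀ =
        (f ≫ g) ≫ c.π.app l.left := by
      rw [Category.assoc]
      have : cE.π.app l ≫ pullback.fst (D.map l.hom) a₀ =
          pullback.fst (c.π.app i₀) a₀ ≫ c.π.app l.left := by
        simp [cE, pbCone]
      rw [this, ← Category.assoc, he1]
    have sqL : IsPullback (e.hom ≫ cE.π.app l) f fl ql := by
      refine IsPullback.of_right ?_ ?_ sqX
      · rw [hp2]
        have : ql ≫ pullback.snd (D.map l.hom) g₀ = qY := by simp [ql]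
        rw [this]
        exact hX
      · apply pullback.hom_ext
        · have h1 : fl ≫ pullback.fst (D.map l.hom) g₀ = pullback.fst (D.map l.hom) a₀ := by
            simp [fl]
          have h2 : ql ≫ pullback.fst (D.map l.hom) g₀ = g ≫ c.π.app l.left := by simp [ql]
          calc ((e.hom ≫ cE.π.app l) ≫ fl) ≫ pullback.fst (D.map l.hom) g₀
              = (e.hom ≫ cE.π.app l) ≫ (fl ≫ pullback.fst (D.map l.hom) g₀) := by
                simp only [Category.assoc]
            _ = (e.hom ≫ cE.π.app l) ≫ pullback.fst (D.map l.hom) a₀ := by rw [h1]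
            _ = (f ≫ g) ≫ c.π.app l.left := hp1
            _ = f ≫ (ql ≫ pullback.fst (D.map l.hom) g₀) := by rw [h2, Category.assoc]
            _ = (f ≫ ql) ≫ pullback.fst (D.map l.hom) g₀ := by simp only [Category.assoc]
        · have h1 : fl ≫ pullback.snd (D.map l.hom) g₀ = pullback.snd (D.map l.hom) a₀ ≫ f₀ := by
            simp [fl]
          have h2 : ql ≫ pullback.snd (D.map l.hom) g₀ = qY := by simp [ql]
          calc ((e.hom ≫ cE.π.app l) ≫ fl) ≫ pullback.snd (D.map l.hom) g₀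
              = (e.hom ≫ cE.π.app l) ≫ (fl ≫ pullback.snd (D.map l.hom) g₀) := by
                simp only [Category.assoc]
            _ = ((e.hom ≫ cE.π.app l) ≫ pullback.snd (D.map l.hom) a₀) ≫ f₀ := by
                rw [h1]; simp only [Category.assoc]
            _ = qX ≫ f₀ := by rw [hp2]
            _ = f ≫ qY := hX.w
            _ = f ≫ (ql ≫ pullback.snd (D.map l.hom) g₀) := by rw [h2]
            _ = (f ≫ ql) ≫ pullback.snd (D.map l.hom) g₀ := by simp only [Category.assoc]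
    have himg := Scheme.image_preimage_eq_of_isPullback sqL (V : Set (E.obj l))
    rw [himg]
    exact (hopen _ V.2).preimage ql.continuous
  -- openness
  intro U hU
  rw [isOpen_iff_forall_mem_open]
  rintro _ ⟨x, hxU, rfl⟩
  have hB := isBasis_preimage_isAffineOpen E cE hcE
  rw [TopologicalSpace.Opens.IsBasis] at hB
  have heU : IsOpen (⇑e.inv ⁻¹' U) := hU.preimage e.inv.continuous
  have hinv : ∀ x' : X, e.inv (e.hom x') = x' := fun x' ↦ by
    rw [← Scheme.Hom.comp_apply, e.hom_inv_id]; rfl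
  have hex : e.hom x ∈ ⇑e.inv ⁻¹' U := by
    change e.inv (e.hom x) ∈ U
    rw [hinv]; exact hxU
  obtain ⟨_, ⟨_, ⟨l, V, hV, rfl⟩, rfl⟩, hxV, hVU⟩ := hB.exists_subset_of_mem_open hex heU
  -- find l' over i with t : l' ⟶ l
  let m := IsCofiltered.min l.left i
  let a : m ⟶ l.left := IsCofiltered.minToLeft l.left i
  let b : m ⟶ i := IsCofiltered.minToRight l.left i
  obtain ⟨m', r, hr⟩ := IsCofilteredOrEmpty.cone_maps (a ≫ l.hom) (b ≫ φ)
  let l' : Over i₀ := Over.mk ((r ≫ b) ≫ φ)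
  let t : l' ⟶ l := Over.homMk (r ≫ a) (by
    change (r ≫ a) ≫ l.hom = (r ≫ b) ≫ φ
    rw [Category.assoc, Category.assoc, hr])
  have hkey := key l' (r ≫ b) rfl (E.map t ⁻¹ᵁ V)
  have hpre : ∀ x' : X, x' ∈ ⇑(e.hom ≫ cE.π.app l') ⁻¹' ((E.map t ⁻¹ᵁ V : (E.obj l').Opens) :
      Set (E.obj l')) ↔ cE.π.app l (e.hom x') ∈ V := by
    intro x'
    have hw : (E.map t) ((cE.π.app l') (e.hom x')) = (cE.π.app l) (e.hom x') := by
      have := cE.w t
      rw [← this]
      rfl
    change (E.map t) ((cE.π.app l') (e.hom x')) ∈ V ↔ _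
    rw [hw]
  refine ⟨_, ?_, hkey, ?_⟩
  · apply Set.image_mono
    intro x' hx'
    rw [hpre] at hx'
    have : e.hom x' ∈ ⇑e.inv ⁻¹' U := hVU hx'
    change e.inv (e.hom x') ∈ U at this
    rwa [hinv] at this
  · exact ⟨x, (hpre x).mpr hxV, rfl⟩

/-- Let S = lim S_i be a cofiltered limit of schemes with affine transition maps, let f₀ : X₀ ⟶ Y₀ be a
morphism of schemes over a stage S_{i₀}, and let f : X ⟶ Y be its base change along S ⟶ S_{i₀} (all
base changes are expressed by pullback squares). If there is an index i over i₀ such that, for every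
j over i, the base change f_j : X_j ⟶ Y_j of f₀ along S_j ⟶ S_{i₀} is an open map, then f is an open
map. (The corresponding statement for universally open morphisms follows from this one by base
change.) -/
theorem result {I : Type u} [SmallCategory I] [IsCofiltered I]
    (D : I ⥤ Scheme.{u}) (c : Limits.Cone D) (hc : Limits.IsLimit c)
    [∀ (i j : I) (f : i ⟶ j), IsAffineHom (D.map f)] (i₀ : I)
    {X₀ Y₀ : Scheme.{u}} (f₀ : X₀ ⟶ Y₀) (g₀ : Y₀ ⟶ D.obj i₀)
    {X Y : Scheme.{u}} (f : X ⟶ Y) (g : Y ⟶ c.pt) (qY : Y ⟶ Y₀) (qX : X ⟶ X₀)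
    (hY : IsPullback qY g g₀ (c.π.app i₀)) (hX : IsPullback qX f f₀ qY)
    (h : ∃ (i : I) (φ : i ⟶ i₀), ∀ (j : I) (ψ : j ⟶ i) (Xj Yj : Scheme.{u}) (fj : Xj ⟶ Yj)
      (gj : Yj ⟶ D.obj j) (pY : Yj ⟶ Y₀) (pX : Xj ⟶ X₀),
      IsPullback pY gj g₀ (D.map (ψ ≫ φ)) → IsPullback pX fj f₀ pY → IsOpenMap ⇑fj) :
    IsOpenMap ⇑f := by
  exact aux D c hc i₀ f₀ g₀ f g qY qX hY hX h

end Groth.Agent.S4779
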