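import Groth.Statements.S4782
import Groth.Agent.S4774
import Groth.Agent.S9207
import Mathlib

set_option autoImplicit false
universe u
open CategoryTheory AlgebraicGeometry
open Lim8

namespace Groth.Agent.S4782

/-- A localization in which the nilradical of the base dies is reduced. -/
lemma isReduced_of_isLocalization {A B : Type*} [CommRing A] [CommRing B] [Algebra A B]
    (M : Submonoid A) [IsLocalization M B]
    (h : ∀ a ∈ nilradical A, algebraMap A B a = 0) : _root_.IsReduced B := by
  refine ⟨fun b hb ↦ ?_⟩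
  obtain ⟨n, hn⟩ := hb
  obtain ⟨a, s, rfl⟩ := IsLocalization.exists_mk'_eq M b
  rw [← IsLocalization.mk'_pow, IsLocalization.mk'_eq_zero_iff] at hn
  obtain ⟨m, hm⟩ := hn
  have h1 : ((m : A) * a) ^ (n + 1) = 0 := by
    rw [mul_pow, pow_succ' a n, ← mul_assoc, mul_comm _ a, pow_succ (m : A) n, mul_assoc,
      mul_assoc, hm, mul_zero, mul_zero]
  have h2 : algebraMap A B ((m : A) * a) = 0 := h _ (mem_nilradical.mpr ⟨_, h1⟩)
  rw [map_mul] at h2
  have h3 : algebraMap A B a = 0 :=
    ((IsLocalization.map_units B m).mul_right_eq_zero).mp h2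
  rw [IsLocalization.mk'_eq_iff_eq_mul, h3, zero_mul]

open Limits in
set_option backward.isDefEq.respectTransparency false in
theorem aux {I : Type u} [SmallCategory I] [IsCofiltered I]
    (D : I ⥤ Scheme.{u}) (c : Limits.Cone D) (hc : Limits.IsLimit c)
    [∀ (i j : I) (f : i ⟶ j), IsAffineHom (D.map f)] (i₀ : I)
    [CompactSpace (D.obj i₀)] (hoi : ∀ (i j : I) (φ : i ⟶ j), IsOpenImmersion (D.map φ))
    (hN : ∀ U : (D.obj i₀).affineOpens, (nilradical Γ(D.obj i₀, U)).FG) :
    IsReduced c.pt ↔ ∃ (i : I) (_ : i ⟶ i₀), ∀ (j : I) (_ : j ⟶ i), IsReduced (D.obj j) := by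
  have hA : ∀ {i j : I} (f : i ⟶ j), IsAffineHom (D.map f) := fun f ↦ inferInstance
  constructor
  · intro hred
    -- finite affine cover
    obtain ⟨t, ht⟩ := isCompact_univ.elim_finite_subcover
      (fun U : (D.obj i₀).affineOpens ↦ (U.1 : Set (D.obj i₀))) (fun U ↦ U.1.isOpen) (by
        intro x _
        have h1 : x ∈ (⨆ U : (D.obj i₀).affineOpens, (U : (D.obj i₀).Opens)) := by
          rw [iSup_affineOpens_eq_top]; trivial
        obtain ⟨U, hU⟩ := TopologicalSpace.Opens.mem_iSup.mp h1
        exact Set.mem_iUnion.mpr ⟨U, hU⟩)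
    choose G hG using hN
    -- each generator eventually dies
    have key : ∀ (U : (D.obj i₀).affineOpens) (n : Γ(D.obj i₀, U.1)), n ∈ nilradical _ →
        ∃ (j : I) (f : j ⟶ i₀), (D.map f).app U.1 n = 0 := by
      intro U n hn
      apply exists_app_map_eq_zero_of_isLimit D c hc U.2.isCompact n
      have : IsNilpotent ((c.π.app i₀).app U.1 n) := (mem_nilradical.mp hn).map _
      have hr : _root_.IsReduced Γ(c.pt, c.π.app i₀ ⁻¹ᵁ U.1) := inferInstance
      exact hr.eq_zero _ this
    have hstab : ∀ (U : (D.obj i₀).affineOpens) (n : Γ(D.obj i₀, U.1)) ⦃j l : I⦄ (f : j ⟶ i₀)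
        (g : l ⟶ j), (D.map f).app U.1 n = 0 → (D.map (g ≫ f)).app U.1 n = 0 := by
      intro U n j l f g h
      rw [D.map_comp, Scheme.Hom.comp_app, CommRingCat.comp_apply, h, map_zero]
    have h1 : ∀ U : (D.obj i₀).affineOpens, ∃ (j : I) (f : j ⟶ i₀),
        ∀ n : (G U : Set _), (D.map f).app U.1 n.1 = 0 := by
      intro U
      refine S9207.exists_forall_of_stable (ι := (G U : Set _))
        (P := fun n j f ↦ (D.map f).app U.1 n.1 = 0) (fun n ↦ hstab U n.1) (fun n ↦ ?_)
      refine key U n.1 ?_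
      rw [← hG U]
      exact Ideal.subset_span n.2
    obtain ⟨j₁, f₁, hj₁⟩ := S9207.exists_forall_of_stable (ι := (t : Set _))
      (P := fun U j f ↦ ∀ n : (G U.1 : Set _), (D.map f).app U.1.1 n.1 = 0)
      (fun U j l f g h n ↦ hstab U.1 n.1 f g (h n)) (fun U ↦ h1 U.1)
    refine ⟨j₁, f₁, fun j φ ↦ ?_⟩
    have hoi' := hoi _ _ (φ ≫ f₁)
    have hker : ∀ U ∈ t, ∀ n ∈ nilradical Γ(D.obj i₀, U.1), (D.map (φ ≫ f₁)).app U.1 n = 0 := by
      intro U hU n hn
      have hle : nilradical Γ(D.obj i₀, U.1) ≤ RingHom.ker ((D.map (φ ≫ f₁)).app U.1).hom := by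
        rw [← hG U, Ideal.span_le]
        intro n hn
        exact hstab U n f₁ φ (hj₁ ⟨U, hU⟩ ⟨n, hn⟩)
      exact hle hn
    generalize D.map (φ ≫ f₁) = f at hoi' hker
    have : ∀ x : D.obj j, _root_.IsReduced ((D.obj j).presheaf.stalk x) := by
      intro x
      obtain ⟨U, hUt, hxU⟩ := Set.mem_iUnion₂.mp (ht (Set.mem_univ (f x)))
      let := (D.obj i₀).presheaf.algebra_section_stalk ⟨f x, hxU⟩
      have hloc := U.2.isLocalization_stalk ⟨f x, hxU⟩
      have hred0 : _root_.IsReduced ((D.obj i₀).presheaf.stalk (f x)) := by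
        refine isReduced_of_isLocalization (U.2.primeIdealOf ⟨f x, hxU⟩).asIdeal.primeCompl ?_
        intro n hn
        change ((D.obj i₀).presheaf.germ U.1 (f x) hxU) n = 0
        have hinj : Function.Injective (f.stalkMap x) :=
          ((ConcreteCategory.isIso_iff_bijective (f.stalkMap x)).mp inferInstance).1
        apply hinj
        rw [map_zero, ← CommRingCat.comp_apply, Scheme.Hom.germ_stalkMap, CommRingCat.comp_apply,
          hker U hUt n hn, map_zero]
      exact isReduced_of_injective (inv (f.stalkMap x)).hom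
        ((ConcreteCategory.isIso_iff_bijective (inv (f.stalkMap x))).mp inferInstance).1
    exact isReduced_of_isReduced_stalk _
  · rintro ⟨i, -, hi⟩
    by_contra hnot
    obtain ⟨i', hi'⟩ := S4774.result D c hc hnot
    exact hi' (IsCofiltered.min i i') (IsCofiltered.minToRight i i')
      (hi _ (IsCofiltered.minToLeft i i'))

/-- Let S = lim S_i be a cofiltered limit of schemes whose transition maps are open immersions (in
particular affine), and let S_{i₀} be a quasi-compact stage whose nilradical is an ideal of finite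
type, i.e. for every affine open U of S_{i₀} the nilradical of Γ(S_{i₀}, U) is finitely generated
(automatic when S_{i₀} is Noetherian). Then S is reduced if and only if there is an index i over i₀
such that S_j is reduced for every j over i. -/
theorem result {I : Type u} [SmallCategory I] [IsCofiltered I]
    (D : I ⥤ Scheme.{u}) (c : Limits.Cone D) (hc : Limits.IsLimit c)
    [∀ (i j : I) (f : i ⟶ j), IsAffineHom (D.map f)] (i₀ : I)
    [CompactSpace (D.obj i₀)] (hoi : ∀ (i j : I) (φ : i ⟶ j), IsOpenImmersion (D.map φ))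
    (hN : ∀ U : (D.obj i₀).affineOpens, (nilradical Γ(D.obj i₀, U)).FG) :
    IsReduced c.pt ↔ ∃ (i : I) (_ : i ⟶ i₀), ∀ (j : I) (_ : j ⟶ i), IsReduced (D.obj j) := by
  exact aux D c hc i₀ hoi hN

end Groth.Agent.S4782
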