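import Groth.Statements.S4841
import Groth.Agent.S4769
import Groth.Agent.Lead.LimEmb
import Mathlib

set_option autoImplicit false
universe u
open CategoryTheory AlgebraicGeometry
open Lim8

namespace Groth.Agent.S4841

open Limits Groth.Agent.Lead.LimEmb in
theorem aux {I : Type u} [SmallCategory I] [IsCofiltered I]
    (D : I ⥤ Scheme.{u}) (c : Limits.Cone D) (hc : Limits.IsLimit c)
    [∀ (i j : I) (f : i ⟶ j), IsAffineHom (D.map f)] (i₀ : I)
    [TopologicalSpace.NoetherianSpace (D.obj i₀)] [TopologicalSpace.NoetherianSpace c.pt]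
    (he : ∀ (i j : I) (φ : i ⟶ j), Topology.IsEmbedding ⇑(D.map φ)) :
    ∃ (i : I) (_ : i ⟶ i₀), ∀ (j : I) (_ : j ⟶ i),
      Set.BijOn (fun Y : Set c.pt => closure (⇑(c.π.app j) '' (Y : Set c.pt) : Set (D.obj j)))
        (irreducibleComponents c.pt) (irreducibleComponents (D.obj j)) := by
  have hA : ∀ {i j : I} (f : i ⟶ j), IsAffineHom (D.map f) := fun f ↦ inferInstance
  have he' : ∀ (i j : I) (φ : i ⟶ j), Topology.IsInducing ⇑(D.map φ) :=
    fun i j φ ↦ (he i j φ).isInducing
  have hfin := TopologicalSpace.NoetherianSpace.finite_irreducibleComponents (α := c.pt)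
  have : Finite (irreducibleComponents c.pt) := hfin.to_subtype
  obtain ⟨j₀, f₀, h0⟩ := exists_denseRange_π D c hc he' i₀
  refine ⟨j₀, f₀, fun j ψ ↦ ?_⟩
  have hind := isInducing_π D c hc he' j
  have h1 : ∀ r : irreducibleComponents c.pt, ∃ W : Set (D.obj j), IsOpen W ∧
      ⇑(c.π.app j) ⁻¹' W = S4769.openPart r := fun r ↦
    hind.isOpen_iff.mp (S4769.isOpen_openPart r)
  choose W hWo hW using h1
  exact S4769.bijOn_closure_image (c.π.app j).continuous (h0 j ψ) W hWo hW

/-- Let S = lim S_i be a cofiltered limit of schemes whose transition maps are affine and topological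
embeddings (homeomorphisms onto subspaces), some stage S_{i₀} having Noetherian underlying space,
and assume that the underlying space of S is Noetherian. Then there is an index i over i₀ such that,
for every j over i, the map sending an irreducible component Y of S to the closure of its image
under S ⟶ S_j is a bijection from the set of irreducible components of S onto the set of irreducible
components of S_j. -/
theorem result {I : Type u} [SmallCategory I] [IsCofiltered I]
    (D : I ⥤ Scheme.{u}) (c : Limits.Cone D) (hc : Limits.IsLimit c)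
    [∀ (i j : I) (f : i ⟶ j), IsAffineHom (D.map f)] (i₀ : I)
    [TopologicalSpace.NoetherianSpace (D.obj i₀)] [TopologicalSpace.NoetherianSpace c.pt]
    (he : ∀ (i j : I) (φ : i ⟶ j), Topology.IsEmbedding ⇑(D.map φ)) :
    ∃ (i : I) (_ : i ⟶ i₀), ∀ (j : I) (_ : j ⟶ i),
      Set.BijOn (fun Y : Set c.pt => closure (⇑(c.π.app j) '' (Y : Set c.pt) : Set (D.obj j)))
        (irreducibleComponents c.pt) (irreducibleComponents (D.obj j)) := by
  exact aux D c hc i₀ he

end Groth.Agent.S4841
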