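import Groth.Statements.S4783
import Groth.Agent.S4841
import Groth.Agent.S4782
import Groth.Agent.S4774
import Groth.Agent.Lead.LimEmb
import Mathlib

set_option autoImplicit false
universe u
open CategoryTheory AlgebraicGeometry
open Lim8

namespace Groth.Agent.S4783

/-- transfer of irreducibility along a bijection of irreducible components -/
lemma irreducibleSpace_of_bijOn {S X : Type*} [TopologicalSpace S] [TopologicalSpace X]
    (g : Set S → Set X) (h : Set.BijOn g (irreducibleComponents S) (irreducibleComponents X))
    [IrreducibleSpace S] : IrreducibleSpace X := by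
  have h1 : irreducibleComponents X = {g Set.univ} := by
    rw [← h.image_eq, irreducibleComponents_eq_singleton, Set.image_singleton]
  have h2 : g Set.univ = Set.univ := by
    ext x
    simp only [Set.mem_univ, iff_true]
    have := irreducibleComponent_mem_irreducibleComponents x
    rw [h1, Set.mem_singleton_iff] at this
    rw [← this]
    exact mem_irreducibleComponent
  have h3 : Set.univ ∈ irreducibleComponents X := by rw [h1, h2]; rfl
  exact (irreducibleSpace_def X).mpr h3.1

lemma irreducibleSpace_of_bijOn' {S X : Type*} [TopologicalSpace S] [TopologicalSpace X]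
    (g : Set S → Set X) (h : Set.BijOn g (irreducibleComponents S) (irreducibleComponents X))
    [IrreducibleSpace X] : IrreducibleSpace S := by
  have hX : irreducibleComponents X = {Set.univ} := irreducibleComponents_eq_singleton
  -- every component of S maps to univ, so by injectivity there is exactly one
  obtain ⟨Y, hY, hgY⟩ : ∃ Y ∈ irreducibleComponents S, g Y = Set.univ := by
    have : (Set.univ : Set X) ∈ irreducibleComponents X := by rw [hX]; rfl
    exact h.surjOn this
  have h2 : Y = Set.univ := by
    ext s
    simp only [Set.mem_univ, iff_true]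
    have hs := irreducibleComponent_mem_irreducibleComponents s
    have : g (irreducibleComponent s) = Set.univ := by
      have := h.mapsTo hs
      rw [hX, Set.mem_singleton_iff] at this
      exact this
    have := h.injOn hs hY (this.trans hgY.symm)
    rw [← this]
    exact mem_irreducibleComponent
  subst h2
  exact (irreducibleSpace_def S).mpr hY.1

open Limits Groth.Agent.Lead.LimEmb in
theorem aux {I : Type u} [SmallCategory I] [IsCofiltered I]
    (D : I ⥤ Scheme.{u}) (c : Limits.Cone D) (hc : Limits.IsLimit c)
    [∀ (i j : I) (f : i ⟶ j), IsAffineHom (D.map f)] (i₀ : I)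
    [IsNoetherian (D.obj i₀)] (hoi : ∀ (i j : I) (φ : i ⟶ j), IsOpenImmersion (D.map φ)) :
    IsIntegral c.pt ↔ ∃ (i : I) (_ : i ⟶ i₀), ∀ (j : I) (_ : j ⟶ i), IsIntegral (D.obj j) := by
  have hA : ∀ {i j : I} (f : i ⟶ j), IsAffineHom (D.map f) := fun f ↦ inferInstance
  have he : ∀ (i j : I) (φ : i ⟶ j), Topology.IsEmbedding ⇑(D.map φ) := fun i j φ ↦
    have := hoi i j φ
    (D.map φ).isOpenEmbedding.isEmbedding
  have he' : ∀ (i j : I) (φ : i ⟶ j), Topology.IsInducing ⇑(D.map φ) :=
    fun i j φ ↦ (he i j φ).isInducing
  have hNS : TopologicalSpace.NoetherianSpace c.pt :=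
    (isInducing_π D c hc he' i₀).noetherianSpace
  obtain ⟨i₂, f₂, h2⟩ := S4841.result D c hc i₀ he
  have hN : ∀ U : (D.obj i₀).affineOpens, (nilradical Γ(D.obj i₀, U)).FG := by
    intro U
    have : IsNoetherianRing Γ(D.obj i₀, U) := IsLocallyNoetherian.component_noetherian U
    exact (isNoetherianRing_iff_ideal_fg _).mp this _
  have hred := S4782.result D c hc i₀ hoi hN
  constructor
  · intro hint
    obtain ⟨i₁, f₁, h1⟩ := hred.mp inferInstance
    refine ⟨IsCofiltered.min i₁ i₂, IsCofiltered.minToLeft i₁ i₂ ≫ f₁, fun j ψ ↦ ?_⟩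
    have hr : IsReduced (D.obj j) := h1 j (ψ ≫ IsCofiltered.minToLeft i₁ i₂)
    have hi : IrreducibleSpace (D.obj j) :=
      irreducibleSpace_of_bijOn _ (h2 j (ψ ≫ IsCofiltered.minToRight i₁ i₂))
    exact isIntegral_of_irreducibleSpace_of_isReduced _
  · rintro ⟨i, f, hi⟩
    have hr : IsReduced c.pt :=
      hred.mpr ⟨i, f, fun j ψ ↦ have := hi j ψ; inferInstance⟩
    have hirr : IrreducibleSpace c.pt := by
      have := hi (IsCofiltered.min i i₂) (IsCofiltered.minToLeft i i₂)
      exact irreducibleSpace_of_bijOn' _ (h2 _ (IsCofiltered.minToRight i i₂))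
    exact isIntegral_of_irreducibleSpace_of_isReduced _

/-- Let S = lim S_i be a cofiltered limit of schemes whose transition maps are open immersions (in
particular affine), and let S_{i₀} be a Noetherian stage. Then S is integral if and only if there is
an index i over i₀ such that S_j is integral for every j over i. -/
theorem result {I : Type u} [SmallCategory I] [IsCofiltered I]
    (D : I ⥤ Scheme.{u}) (c : Limits.Cone D) (hc : Limits.IsLimit c)
    [∀ (i j : I) (f : i ⟶ j), IsAffineHom (D.map f)] (i₀ : I)
    [IsNoetherian (D.obj i₀)] (hoi : ∀ (i j : I) (φ : i ⟶ j), IsOpenImmersion (D.map φ)) :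
    IsIntegral c.pt ↔ ∃ (i : I) (_ : i ⟶ i₀), ∀ (j : I) (_ : j ⟶ i), IsIntegral (D.obj j) := by
  exact aux D c hc i₀ hoi

end Groth.Agent.S4783
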