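import Groth.Statements.S4795
import Groth.Agent.Lead.LimIsoDesc
import Mathlib

set_option autoImplicit false
universe u
open CategoryTheory AlgebraicGeometry
open Lim8

namespace Groth.Agent.S4795

/-- Let S = lim S_i be a cofiltered limit of schemes with affine transition maps and S_{i₀} a
quasi-compact quasi-separated stage; let X₀ and Y₀ be schemes of finite presentation over S_{i₀},
and let X, Y be their base changes along S ⟶ S_{i₀} (base changes are expressed by pullback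
squares). Then X and Y are isomorphic over S if and only if, for some index j over i₀, the base
changes X_j and Y_j of X₀ and Y₀ along S_j ⟶ S_{i₀} are isomorphic over S_j. -/
theorem result {I : Type u} [SmallCategory I] [IsCofiltered I]
    (D : I ⥤ Scheme.{u}) (c : Limits.Cone D) (hc : Limits.IsLimit c)
    [∀ (i j : I) (f : i ⟶ j), IsAffineHom (D.map f)] (i₀ : I)
    [CompactSpace (D.obj i₀)] [QuasiSeparatedSpace (D.obj i₀)]
    {X₀ Y₀ : Scheme.{u}} (a₀ : X₀ ⟶ D.obj i₀) (b₀ : Y₀ ⟶ D.obj i₀)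
    [LocallyOfFinitePresentation a₀] [QuasiCompact a₀] [QuasiSeparated a₀]
    [LocallyOfFinitePresentation b₀] [QuasiCompact b₀] [QuasiSeparated b₀]
    {X Y : Scheme.{u}} (a : X ⟶ c.pt) (b : Y ⟶ c.pt) (qX : X ⟶ X₀) (qY : Y ⟶ Y₀)
    (hX : IsPullback qX a a₀ (c.π.app i₀)) (hY : IsPullback qY b b₀ (c.π.app i₀)) :
    (∃ e : X ≅ Y, e.hom ≫ b = a) ↔
      ∃ (j : I) (φ : j ⟶ i₀) (Xj Yj : Scheme.{u}) (aj : Xj ⟶ D.obj j) (bj : Yj ⟶ D.obj j)
        (pX : Xj ⟶ X₀) (pY : Yj ⟶ Y₀), IsPullback pX aj a₀ (D.map φ) ∧ IsPullback pY bj b₀ (D.map φ) ∧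
        ∃ e : Xj ≅ Yj, e.hom ≫ bj = aj := by
  have hA : ∀ {i j : I} (f : i ⟶ j), IsAffineHom (D.map f) := fun f ↦ inferInstance
  have hXc : CompactSpace X₀ := QuasiCompact.compactSpace_of_compactSpace a₀
  have hXq : QuasiSeparatedSpace X₀ := quasiSeparatedSpace_of_quasiSeparated a₀
  have hYc : CompactSpace Y₀ := QuasiCompact.compactSpace_of_compactSpace b₀
  have hYq : QuasiSeparatedSpace Y₀ := quasiSeparatedSpace_of_quasiSeparated b₀
  constructor
  · rintro ⟨e, he⟩
    let eX := hX.flip.isoPullback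
    let eY := hY.flip.isoPullback
    have hX1 : eX.hom ≫ Limits.pullback.fst (c.π.app i₀) a₀ = a := hX.flip.isoPullback_hom_fst
    have hY1 : eY.hom ≫ Limits.pullback.fst (c.π.app i₀) b₀ = b := hY.flip.isoPullback_hom_fst
    obtain ⟨j, ej, hej, -⟩ := Groth.Agent.Lead.LimIsoDesc.exists_iso_descend hc i₀ a₀ b₀
      (eX.symm ≪≫ e ≪≫ eY) (by
        simp only [Iso.trans_hom, Iso.symm_hom, Category.assoc]
        rw [hY1, he, ← hX1, Iso.inv_hom_id_assoc])
    exact ⟨j.left, j.hom, _, _, Limits.pullback.fst (D.map j.hom) a₀,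
      Limits.pullback.fst (D.map j.hom) b₀, Limits.pullback.snd (D.map j.hom) a₀,
      Limits.pullback.snd (D.map j.hom) b₀, (IsPullback.of_hasPullback _ _).flip,
      (IsPullback.of_hasPullback _ _).flip, ej, hej⟩
  · rintro ⟨j, φ, Xj, Yj, aj, bj, pX, pY, hXj, hYj, ej, hej⟩
    have hw : c.π.app j ≫ D.map φ = c.π.app i₀ := c.w φ
    let rX : X ⟶ Xj := hXj.lift qX (a ≫ c.π.app j) (by rw [hX.w, Category.assoc, hw])
    let rY : Y ⟶ Yj := hYj.lift qY (b ≫ c.π.app j) (by rw [hY.w, Category.assoc, hw])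
    have hX' : IsPullback rX a aj (c.π.app j) := by
      refine IsPullback.of_right ?_ (hXj.lift_snd _ _ _) hXj
      rw [hXj.lift_fst, hw]
      exact hX
    have hY' : IsPullback rY b bj (c.π.app j) := by
      refine IsPullback.of_right ?_ (hYj.lift_snd _ _ _) hYj
      rw [hYj.lift_fst, hw]
      exact hY
    have hX'' : IsPullback (rX ≫ ej.hom) a bj (c.π.app j) :=
      IsPullback.of_iso hX' (Iso.refl _) ej (Iso.refl _) (Iso.refl _) (by simp) (by simp)
        (by simp [hej]) (by simp)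
    exact ⟨hX''.isoIsPullback _ _ hY', hX''.isoIsPullback_hom_snd _ _ hY'⟩

end Groth.Agent.S4795
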