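import Groth.Statements.S4806
import Groth.Agent.Lead.FibreCI

set_option autoImplicit false
universe u
open CategoryTheory AlgebraicGeometry
open Lim8

namespace Groth.Agent.S4806

/-- a closed subscheme of the spectrum of a field is empty or everything -/
theorem isEmpty_or_isIso_of_isClosedImmersion {Z : Scheme.{u}} {K : Type u} [Field K]
    (g : Z ⟶ Spec (CommRingCat.of K)) [IsClosedImmersion g] : IsEmpty Z ∨ IsIso g := by
  obtain ⟨hZ, hsurj⟩ := IsClosedImmersion.isAffine_surjective_of_isAffine g
  by_cases hnt : Nontrivial Γ(Z, ⊤)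
  · right
    apply IsClosedImmersion.isIso_of_injective_of_isAffine
    let ψ : K →+* Γ(Z, ⊤) := ((Scheme.ΓSpecIso (CommRingCat.of K)).inv ≫ g.appTop).hom
    have h1 : Function.Injective ((Scheme.ΓSpecIso (CommRingCat.of K)).inv ≫ g.appTop).hom :=
      RingHom.injective ψ
    have h2 : g.appTop = (Scheme.ΓSpecIso (CommRingCat.of K)).hom ≫
        ((Scheme.ΓSpecIso (CommRingCat.of K)).inv ≫ g.appTop) := by simp
    rw [h2]
    exact h1.comp (ConcreteCategory.bijective_of_isIso
      (Scheme.ΓSpecIso (CommRingCat.of K)).hom).1
  · left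
    rw [not_nontrivial_iff_subsingleton] at hnt
    haveI : IsEmpty (Spec Γ(Z, ⊤)) := inferInstanceAs (IsEmpty (PrimeSpectrum Γ(Z, ⊤)))
    exact Function.isEmpty Z.isoSpec.hom.base

theorem aux {X Y : Scheme.{u}} (f : X ⟶ Y) [IsProper f]
    [LocallyOfFinitePresentation f] :
    IsClosedImmersion f ↔ ∀ y : Y, IsEmpty (f.fiber y) ∨ IsIso (f.fiberToSpecResidueField y) := by
  constructor
  · intro hf y
    haveI := hf
    have hci : IsClosedImmersion (f.fiberToSpecResidueField y) :=
      MorphismProperty.pullback_snd (P := @IsClosedImmersion) f (Y.fromSpecResidueField y) hf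
    exact @isEmpty_or_isIso_of_isClosedImmersion _ (Y.residueField y) _
      (f.fiberToSpecResidueField y) hci
  · intro h
    have hci : ∀ y, IsClosedImmersion (f.fiberToSpecResidueField y) := by
      intro y
      rcases h y with h1 | h1
      · haveI := h1; infer_instance
      · haveI := h1; infer_instance
    have hinj : Function.Injective f := by
      intro x₁ x₂ hx
      have hsub : Subsingleton (f.fiber (f x₂)) := by
        rcases h (f x₂) with h1 | h1
        · haveI := h1; infer_instance
        · haveI := h1
          exact (f.fiberToSpecResidueField (f x₂)).isOpenEmbedding.injective.subsingleton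
      have h1 := f.fiberι_fiberHomeo_symm (f x₂) ⟨x₁, hx⟩
      have h2 := f.fiberι_fiberHomeo_symm (f x₂) ⟨x₂, rfl⟩
      rw [Subsingleton.elim ((f.fiberHomeo (f x₂)).symm ⟨x₁, hx⟩)
        ((f.fiberHomeo (f x₂)).symm ⟨x₂, rfl⟩), h2] at h1
      exact h1.symm
    haveI : LocallyQuasiFinite f := LocallyQuasiFinite.of_injective hinj
    haveI : IsFinite f := IsFinite.of_isProper_of_locallyQuasiFinite f
    exact Groth.Agent.Lead.FibreCI.isClosedImmersion_of_isFinite_of_fiber f hci

/-- Let f : X ⟶ Y be a proper morphism of finite presentation. Then f is a closed immersion if and only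
if, for every point y of Y, the scheme-theoretic fibre of f at y is empty or its structure morphism
to Spec κ(y) is an isomorphism. -/
theorem result {X Y : Scheme.{u}} (f : X ⟶ Y) [IsProper f]
    [LocallyOfFinitePresentation f] :
    IsClosedImmersion f ↔ ∀ y : Y, IsEmpty (f.fiber y) ∨ IsIso (f.fiberToSpecResidueField y) := by
  exact aux f

end Groth.Agent.S4806
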