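import Groth.Statements.S4807
import Groth.Agent.Helper4.NApx9
import Groth.Agent.Helper4.NApx7
import Mathlib

set_option autoImplicit false
universe u
open CategoryTheory AlgebraicGeometry
open Lim8

namespace Groth.Agent.S4807


/-- Let Y be a quasi-compact quasi-separated scheme and f : X ⟶ Y a separated morphism of finite type.
Let X' be the relative normalization of Y in X, the spectrum of the integral closure of O_Y in
f_*O_X, with its canonical morphism g : X ⟶ X'. Then f admits a factorization X ⟶ Y' ⟶ Y into an
immersion followed by a finite morphism if and only if g is an immersion. -/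
theorem result {X Y : Scheme.{u}} (f : X ⟶ Y)
    [CompactSpace Y] [QuasiSeparatedSpace Y] [IsSeparated f] [LocallyOfFiniteType f] [QuasiCompact f] :
    (∃ (Y' : Scheme.{u}) (f' : X ⟶ Y') (u : Y' ⟶ Y), IsImmersion f' ∧ IsFinite u ∧ f' ≫ u = f) ↔
      IsImmersion f.toNormalization := by

  constructor
  · rintro ⟨Y', f', u, h1, h2, h3⟩
    haveI := h1
    haveI := h2
    haveI : IsImmersion (f.toNormalization ≫ f.normalizationDesc f' u h3.symm) := by
      rw [Scheme.Hom.toNormalization_normalizationDesc]; exact h1
    exact IsImmersion.of_comp f.toNormalization (f.normalizationDesc f' u h3.symm)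
  · intro hI
    obtain ⟨I, hP, hD, hN, D, c, hc, e, h1⟩ :=
      Groth.Agent.Helper4.NApx9.integral_limit_finite f.fromNormalization
    haveI : IsCofiltered Iᵒᵖ := Groth.Agent.Helper4.NApx0.isCofiltered_op_of_directed I
    haveI : IsConnected Iᵒᵖ := IsCofiltered.isConnected _
    haveI : IsIso e.inv.left := (Over.forget Y).map_isIso e.inv
    haveI : CompactSpace X := QuasiCompact.compactSpace_of_compactSpace f
    let E := D ⋙ Over.forget Y
    let tE := Groth.Agent.Helper4.NApx1.strNat D
    let cE := (Over.forget Y).mapCone c
    have hcE : Limits.IsLimit cE := Limits.isLimitOfPreserves (Over.forget Y) hc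
    haveI : ∀ {i j : Iᵒᵖ} (a : i ⟶ j), IsAffineHom (E.map a) := by
      intro i j a
      show IsAffineHom (D.map a).left
      haveI := h1 j
      haveI : IsAffineHom ((D.map a).left ≫ (D.obj j).hom) := by
        rw [Over.w]; haveI := h1 i; infer_instance
      exact IsAffineHom.of_comp (D.map a).left (D.obj j).hom
    have hs : ∀ k, cE.π.app k ≫ tE.app k = c.pt.hom := fun k => Over.w (c.π.app k)
    let γ : X ⟶ cE.pt := f.toNormalization ≫ e.inv.left
    haveI : IsImmersion γ := by
      show IsImmersion (f.toNormalization ≫ e.inv.left)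
      infer_instance
    have hγ : γ ≫ c.pt.hom = f := by
      show (f.toNormalization ≫ e.inv.left) ≫ c.pt.hom = f
      rw [Category.assoc, Over.w e.inv]; exact f.toNormalization_fromNormalization
    haveI : LocallyOfFiniteType (γ ≫ c.pt.hom) := by rw [hγ]; infer_instance
    obtain ⟨k, hk⟩ := Groth.Agent.Helper4.NApx7.exists_immersion_stage E tE cE hcE c.pt.hom hs γ
    refine ⟨(D.obj k).left, γ ≫ (c.π.app k).left, (D.obj k).hom, hk, h1 k, ?_⟩
    exact (Category.assoc _ _ _).trans
      ((congrArg (fun m => γ ≫ m) (Over.w (c.π.app k))).trans hγ)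

end Groth.Agent.S4807
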