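import Groth.Statements.S4809
import Mathlib
import Groth.Agent.Helper3.BirLocalIso

set_option autoImplicit false
universe u
open scoped TensorProduct
open CategoryTheory AlgebraicGeometry
open Lim8

namespace Groth.Agent.S4809

/-- Let Y be an integral normal scheme (every local ring integrally closed), X an integral scheme, and f
: X ⟶ Y a locally quasi-finite morphism (locally of finite type with discrete fibres) which is
birational: f maps the generic point of X to that of Y and its stalk map at the generic point of X,
the induced homomorphism of function fields, is an isomorphism. Then f is a local isomorphism, and f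
is an open immersion as soon as it is separated. -/
theorem result {X Y : Scheme.{u}} [IsIntegral X] [IsIntegral Y]
    (hN : ∀ y : Y, IsIntegrallyClosed (Y.presheaf.stalk y)) (f : X ⟶ Y) [LocallyQuasiFinite f]
    [LocallyOfFiniteType f] (hgen : f (genericPoint X) = genericPoint Y)
    (hbir : IsIso (f.stalkMap (genericPoint X))) :
    IsLocalIso f ∧ (IsSeparated f → IsOpenImmersion f) := by
  have hloc : IsLocalIso f := ⟨fun x => Groth.Agent.Helper3.BirLocalIso.exists_isOpenImmersion_nbhd
    f hgen hbir x (f.quasiFiniteAt x) (hN (f x))⟩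
  refine ⟨hloc, fun hsep => ?_⟩
  have hbij := fun x => Groth.Agent.Helper3.BirLocalIso.stalkMap_bijective
    f hgen hbir x (f.quasiFiniteAt x) (hN (f x))
  have hiso : ∀ x, IsIso (f.stalkMap x) := fun x =>
    (ConcreteCategory.isIso_iff_bijective (f.stalkMap x)).mpr (hbij x)
  have hinj : Function.Injective f := by
    intro x₁ x₂ h
    obtain ⟨V, hV, hVi⟩ := Groth.Agent.Helper3.BirLocalIso.exists_isIso_nbhd
      f hgen hbir x₁ (f.quasiFiniteAt x₁) (hN _)
    have h1 : x₁ ∈ f ⁻¹ᵁ V := hV
    have h2 : x₂ ∈ f ⁻¹ᵁ V := by
      show f x₂ ∈ V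
      rw [← h]; exact hV
    have h3 : (f ∣_ V) ⟨x₁, h1⟩ = (f ∣_ V) ⟨x₂, h2⟩ := by
      apply Subtype.ext
      rw [morphismRestrict_base_coe, morphismRestrict_base_coe]
      exact h
    have h4 : Function.Injective (f ∣_ V) := (f ∣_ V).homeomorph.injective
    exact congrArg Subtype.val (h4 h3)
  have huo : UniversallyOpen f :=
    IsLocalIso.le_of_isZariskiLocalAtSource @UniversallyOpen _ _ f hloc
  have hoe : Topology.IsOpenEmbedding f :=
    Topology.IsOpenEmbedding.of_continuous_injective_isOpenMap f.continuous hinj f.isOpenMap
  exact IsOpenImmersion.of_isIso_stalkMap f hoe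

end Groth.Agent.S4809
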