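import Groth.Statements.S4815
import Groth.Agent.Lead.LimExistOver
import Groth.Agent.Lead.LimCompact
import Mathlib

set_option autoImplicit false
universe u
open CategoryTheory AlgebraicGeometry
open Lim8

namespace Groth.Agent.S4815

/-- Let S = lim S_i be a cofiltered limit of schemes with affine transition maps and S_{i₀} a
quasi-compact quasi-separated stage. Then every subscheme of finite presentation of S, that is every
immersion ι : Z ⟶ S which is locally of finite presentation and quasi-compact, is the base change
along S ⟶ S_j of an immersion of finite presentation Z_j ⟶ S_j, for some index j over i₀ (the base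
change is expressed by a pullback square). -/
theorem result {I : Type u} [SmallCategory I] [IsCofiltered I]
    (D : I ⥤ Scheme.{u}) (c : Limits.Cone D) (hc : Limits.IsLimit c)
    [∀ (i j : I) (f : i ⟶ j), IsAffineHom (D.map f)] (i₀ : I)
    [CompactSpace (D.obj i₀)] [QuasiSeparatedSpace (D.obj i₀)]
    {Z : Scheme.{u}} (ι : Z ⟶ c.pt) [IsImmersion ι] [LocallyOfFinitePresentation ι] [QuasiCompact ι] :
    ∃ (j : I) (_ : j ⟶ i₀) (Zj : Scheme.{u}) (ιj : Zj ⟶ D.obj j) (q : Z ⟶ Zj),
      IsImmersion ιj ∧ LocallyOfFinitePresentation ιj ∧ QuasiCompact ιj ∧ IsPullback q ι ιj (c.π.app j) := by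
  have hA : ∀ {i j : I} (f : i ⟶ j), IsAffineHom (D.map f) := fun f ↦ inferInstance
  have hπ : IsAffineHom (c.π.app i₀) := isAffineHom_π_app D c hc i₀
  have hcpt : CompactSpace c.pt := QuasiCompact.compactSpace_of_compactSpace (c.π.app i₀)
  have hqs : QuasiSeparatedSpace c.pt := quasiSeparatedSpace_of_quasiSeparated (c.π.app i₀)
  have : CompactSpace Z := QuasiCompact.compactSpace_of_compactSpace ι
  have : QuasiSeparatedSpace Z := quasiSeparatedSpace_of_quasiSeparated ι
  obtain ⟨j, t, M, hM⟩ := Groth.Agent.Lead.LimExist.exists_model_prop_over hc @IsImmersion i₀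
    (fun k s X₀ f₀ _ _ _ h ↦ by
      have : CompactSpace (D.obj k) := QuasiCompact.compactSpace_of_compactSpace (D.map s)
      have : QuasiSeparatedSpace (D.obj k) := quasiSeparatedSpace_of_quasiSeparated (D.map s)
      exact Groth.Agent.Lead.LimCompact.isImmersion_descends_of_compact hc k (𝟙 _) f₀ h)
    ι inferInstance
  have : QuasiSeparatedSpace (D.obj j) := quasiSeparatedSpace_of_quasiSeparated (D.map t)
  have := M.cpt
  exact ⟨j, t, M.Xi, M.fi, M.g, hM, M.lfp, inferInstance, M.sq⟩

end Groth.Agent.S4815
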