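import Groth.Statements.S4816
import Groth.Agent.Lead.LimIso2
import Mathlib

set_option autoImplicit false
universe u
open CategoryTheory AlgebraicGeometry
open Lim8

namespace Groth.Agent.S4816

open CategoryTheory.Limits in
set_option backward.isDefEq.respectTransparency false in
/-- `Z₁ ×_B T` factors through `Z₂ ×_B T` iff the base change of `Z₁ ×_B Z₂ ⟶ Z₁` to `Z₁ ×_B T` is an
isomorphism (`ι₂` a monomorphism). -/
theorem factors_iff_isIso {C : Type*} [Category C] [HasPullbacks C] {Z₁ Z₂ B T : C}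
    (ι₁ : Z₁ ⟶ B) (ι₂ : Z₂ ⟶ B) [Mono ι₂] (p : T ⟶ B) :
    (∃ k : pullback ι₁ p ⟶ pullback ι₂ p, k ≫ pullback.snd ι₂ p = pullback.snd ι₁ p) ↔
      IsIso (pullback.snd (pullback.fst ι₁ ι₂) (pullback.fst ι₁ p)) := by
  constructor
  · rintro ⟨k, hk⟩
    have hmono : Mono (pullback.snd (pullback.fst ι₁ ι₂) (pullback.fst ι₁ p)) := inferInstance
    have hsplit : IsSplitEpi (pullback.snd (pullback.fst ι₁ ι₂) (pullback.fst ι₁ p)) := by
      refine ⟨⟨pullback.lift (pullback.lift (pullback.fst ι₁ p) (k ≫ pullback.fst ι₂ p) ?_) (𝟙 _) ?_, ?_⟩⟩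
      · rw [pullback.condition, ← hk, Category.assoc, Category.assoc, pullback.condition]
      · rw [pullback.lift_fst, Category.id_comp]
      · rw [pullback.lift_snd]
    exact isIso_of_mono_of_isSplitEpi _
  · intro h
    refine ⟨inv (pullback.snd (pullback.fst ι₁ ι₂) (pullback.fst ι₁ p)) ≫
      pullback.lift (pullback.fst (pullback.fst ι₁ ι₂) (pullback.fst ι₁ p) ≫ pullback.snd ι₁ ι₂)
        (pullback.snd (pullback.fst ι₁ ι₂) (pullback.fst ι₁ p) ≫ pullback.snd ι₁ p) ?_, ?_⟩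
    · rw [Category.assoc, ← pullback.condition, pullback.condition_assoc, Category.assoc,
        pullback.condition]
    · rw [Category.assoc, pullback.lift_snd, IsIso.inv_hom_id_assoc]

open CategoryTheory.Limits in
/-- Let S = lim S_i be a cofiltered limit of schemes with affine transition maps and S_{i₀} a
quasi-compact stage; let ι₁ : Z₁ ⟶ S_{i₀} and ι₂ : Z₂ ⟶ S_{i₀} be two subschemes of finite
presentation of S_{i₀} (immersions which are locally of finite presentation and quasi-compact), with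
base changes Z₁ ×_{S_{i₀}} T ⟶ T to T = S and to T = S_j. Then Z₁ ×_{S_{i₀}} S is a subscheme of Z₂
×_{S_{i₀}} S (its immersion into S factors through that of Z₂ ×_{S_{i₀}} S) if and only if, for some
index j over i₀, Z₁ ×_{S_{i₀}} S_j is a subscheme of Z₂ ×_{S_{i₀}} S_j. -/
theorem result {I : Type u} [SmallCategory I] [IsCofiltered I]
    (D : I ⥤ Scheme.{u}) (c : Limits.Cone D) (hc : Limits.IsLimit c)
    [∀ (i j : I) (f : i ⟶ j), IsAffineHom (D.map f)] (i₀ : I) [CompactSpace (D.obj i₀)]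
    {Z₁ Z₂ : Scheme.{u}} (ι₁ : Z₁ ⟶ D.obj i₀) (ι₂ : Z₂ ⟶ D.obj i₀)
    [IsImmersion ι₁] [LocallyOfFinitePresentation ι₁] [QuasiCompact ι₁]
    [IsImmersion ι₂] [LocallyOfFinitePresentation ι₂] [QuasiCompact ι₂] :
    (∃ k : pullback ι₁ (c.π.app i₀) ⟶ pullback ι₂ (c.π.app i₀),
        k ≫ pullback.snd ι₂ (c.π.app i₀) = pullback.snd ι₁ (c.π.app i₀)) ↔
      ∃ (j : I) (φ : j ⟶ i₀) (k : pullback ι₁ (D.map φ) ⟶ pullback ι₂ (D.map φ)),
        k ≫ pullback.snd ι₂ (D.map φ) = pullback.snd ι₁ (D.map φ) := by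
  have hA : ∀ {i j : I} (f : i ⟶ j), IsAffineHom (D.map f) := fun f ↦ inferInstance
  have hm2 : Mono ι₂ := inferInstance
  have hZc : CompactSpace Z₁ := QuasiCompact.compactSpace_of_compactSpace ι₁
  have hqs : QuasiSeparated ι₁ := inferInstance
  let f₀ := pullback.fst ι₁ ι₂
  have h1 : LocallyOfFinitePresentation (f₀ ≫ ι₁) := by dsimp only [f₀]; infer_instance
  have h2 : QuasiCompact (f₀ ≫ ι₁) := by dsimp only [f₀]; infer_instance
  -- translation between the two models of the base change of `f₀`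
  have key : ∀ {T : Scheme.{u}} (p : T ⟶ D.obj i₀),
      IsIso (pullback.snd f₀ (pullback.fst ι₁ p)) ↔ IsIso (pullback.snd f₀ (pullback.snd p ι₁)) := by
    intro T p
    constructor
    · intro h
      exact Groth.Agent.Lead.LimBC.prop_snd_of_fac (MorphismProperty.isomorphisms Scheme.{u}) f₀ _ _
        (pullbackSymmetry p ι₁).hom (by simp) h
    · intro h
      exact Groth.Agent.Lead.LimBC.prop_snd_of_fac (MorphismProperty.isomorphisms Scheme.{u}) f₀ _ _
        (pullbackSymmetry ι₁ p).hom (by simp) h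
  rw [factors_iff_isIso ι₁ ι₂ (c.π.app i₀)]
  constructor
  · intro h
    have h3 := (key (c.π.app i₀)).mp h
    obtain ⟨j, hj⟩ := Groth.Agent.Lead.LimIso2.isIso_descends_of_compact hc i₀ ι₁ f₀ h3
    refine ⟨j.left, j.hom, ?_⟩
    exact (factors_iff_isIso ι₁ ι₂ (D.map j.hom)).mpr ((key (D.map j.hom)).mpr hj)
  · rintro ⟨j, φ, hk⟩
    have h3 := (factors_iff_isIso ι₁ ι₂ (D.map φ)).mp hk
    refine Groth.Agent.Lead.LimBC.prop_snd_of_fac (MorphismProperty.isomorphisms Scheme.{u}) f₀ _ _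
      (pullback.lift (pullback.fst ι₁ (c.π.app i₀)) (pullback.snd ι₁ (c.π.app i₀) ≫ c.π.app j)
        (by rw [Category.assoc, c.w, pullback.condition]))
      (pullback.lift_fst _ _ _) h3

end Groth.Agent.S4816
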