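import Groth.Statements.S4817
import Groth.Agent.Lead.LimCompact
import Mathlib

set_option autoImplicit false
universe u
open CategoryTheory AlgebraicGeometry
open Lim8

namespace Groth.Agent.S4817

open CategoryTheory.Limits in
/-- Let S = lim S_i be a cofiltered limit of schemes with affine transition maps and S_{i₀} a
quasi-compact stage; let ι₀ : Z₀ ⟶ S_{i₀} be a subscheme of finite presentation (an immersion which
is locally of finite presentation and quasi-compact). Then the base change Z₀ ×_{S_{i₀}} S ⟶ S of ι₀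
is an open immersion if and only if, for some index j over i₀, the base change Z₀ ×_{S_{i₀}} S_j ⟶
S_j is an open immersion. This is the case of open subschemes. -/
theorem result {I : Type u} [SmallCategory I] [IsCofiltered I]
    (D : I ⥤ Scheme.{u}) (c : Limits.Cone D) (hc : Limits.IsLimit c)
    [∀ (i j : I) (f : i ⟶ j), IsAffineHom (D.map f)] (i₀ : I) [CompactSpace (D.obj i₀)]
    {Z₀ : Scheme.{u}} (ι₀ : Z₀ ⟶ D.obj i₀) [IsImmersion ι₀] [LocallyOfFinitePresentation ι₀] [QuasiCompact ι₀] :
    IsOpenImmersion (pullback.snd ι₀ (c.π.app i₀)) ↔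
      ∃ (j : I) (φ : j ⟶ i₀), IsOpenImmersion (pullback.snd ι₀ (D.map φ)) := by
  have hA : ∀ {i j : I} (f : i ⟶ j), IsAffineHom (D.map f) := fun f ↦ inferInstance
  have hqs : QuasiSeparated ι₀ := inferInstance
  constructor
  · intro h
    have h1 := (Groth.Agent.Lead.LimCompact.prop_snd_id_iff i₀ (@IsOpenImmersion) ι₀ (c.π.app i₀)).mp h
    obtain ⟨j, hj⟩ := Groth.Agent.Lead.LimCompact.isOpenImmersion_descends_of_compact hc i₀ (𝟙 _) ι₀ h1
    exact ⟨j.left, j.hom, (Groth.Agent.Lead.LimCompact.prop_snd_id_iff i₀ (@IsOpenImmersion) ι₀ (D.map j.hom)).mpr hj⟩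
  · rintro ⟨j, φ, h⟩
    exact Groth.Agent.Lead.LimBC.prop_snd_of_fac (@IsOpenImmersion) ι₀ (D.map φ) (c.π.app i₀) (c.π.app j)
      (c.w φ) h

end Groth.Agent.S4817
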