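import Groth.Statements.S4824
import Groth.Agent.Helper2.GeoIrr3

set_option autoImplicit false
open CategoryTheory AlgebraicGeometry
universe u
open Cons9

namespace Groth.Agent.S4824

/-- Let k be a field, Ω an algebraically closed extension of k and F a non-constant polynomial in k[T_1,
…, T_n]. The following are equivalent: (a) the k-scheme Spec(k[T_1, …, T_n]/(F)) is geometrically
integral; (b) for every extension field K of k the image of F in K[T_1, …, T_n] is irreducible; (c)
the image of F in Ω[T_1, …, T_n] is irreducible. (Such an F is called geometrically irreducible.) -/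
theorem result {k : Type u} [Field k] (Ω : Type u) [Field Ω] [Algebra k Ω]
    [IsAlgClosed Ω] {n : ℕ} (F : MvPolynomial (Fin n) k) (hF : 0 < F.totalDegree) :
    List.TFAE [
      GeometricallyIntegral (Spec.map (CommRingCat.ofHom
        (algebraMap k (MvPolynomial (Fin n) k ⧸ Ideal.span ({F} : Set (MvPolynomial (Fin n) k)))))),
      ∀ (K : Type u) [Field K] [Algebra k K], Irreducible (MvPolynomial.map (algebraMap k K) F),
      Irreducible (MvPolynomial.map (algebraMap k Ω) F)] := by
  have hF0 : F ≠ 0 := by
    rintro rfl
    simp at hF
  tfae_have 1 ↔ 2 := by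
    rw [Groth.Agent.Helper2.GeoIrr.geomIntegral_iff_forall_isDomain]
    exact forall_congr' fun K => forall_congr' fun _ => forall_congr' fun _ =>
      Groth.Agent.Helper2.GeoIrr.isDomain_tensor_quot_iff K F hF0
  tfae_have 2 → 3 := fun h => h Ω
  tfae_have 3 → 2 := fun h K _ _ =>
    Groth.Agent.Helper2.GeoIrr.irreducible_map_of_irreducible_algClosed Ω K F h
  tfae_finish

end Groth.Agent.S4824
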