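import Groth.Statements.S4837
import Groth.Agent.Helper4.RelSpecIso
import Groth.Agent.S3583
import Mathlib

set_option autoImplicit false
open CategoryTheory AlgebraicGeometry
universe u
open Lim8

namespace Groth.Agent.S4837


/-- Let f : X ⟶ Y be a quasi-compact quasi-separated morphism, C a quasi-coherent O_Y-algebra with
relative spectrum Z = Spec(C) over Y, g : X ⟶ Z a Y-morphism which is an immersion, and φ : C ⟶
f_*O_X the homomorphism of O_Y-algebras corresponding to g (the canonical identification of C with
the direct image of O_Z followed by the map induced by g). Then the scheme-theoretic image of g is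
the whole of Z, i.e. the kernel ideal of g vanishes, if and only if φ is injective; and when this
holds g is an open immersion. -/
theorem result {X Y : Scheme.{u}} (f : X ⟶ Y)
    [QuasiCompact f] [QuasiSeparated f] (C : RelSpec.QCAlg Y) (g : X ⟶ C.spec) (w : g ≫ C.π = f)
    [IsImmersion g] (φ : C ⟶ RelSpec.QCAlg.directImage f)
    (hφ : C.gammaMap ≫ φ.hom = AffAlg.algHom C.π f g w) :
    (g.ker = ⊥ ↔ ∀ U : Y.Opens, Function.Injective (φ.hom.app (Opposite.op U)).hom) ∧
      (g.ker = ⊥ → IsOpenImmersion g) := by

  subst w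
  haveI : QuasiCompact g := QuasiCompact.of_comp g C.π
  haveI := Groth.Agent.Helper4.RelSpecIso.isIso_gammaMap C
  have key : ∀ U : Y.Opens, Function.Injective (φ.hom.app (Opposite.op U)).hom ↔
      Function.Injective (g.app (C.π ⁻¹ᵁ U)).hom := by
    intro U
    have h1 : C.gammaMap.app (Opposite.op U) ≫ φ.hom.app (Opposite.op U) =
        g.app (C.π ⁻¹ᵁ U) := by
      rw [← NatTrans.comp_app, hφ, Groth.Agent.S3583.algHom_app]
    have hbij : Function.Bijective (C.gammaMap.app (Opposite.op U)).hom :=
      (ConcreteCategory.isIso_iff_bijective (C.gammaMap.app (Opposite.op U))).mp inferInstance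
    have h2 : ∀ a, (g.app (C.π ⁻¹ᵁ U)).hom a =
        (φ.hom.app (Opposite.op U)).hom ((C.gammaMap.app (Opposite.op U)).hom a) := by
      intro a
      have := congrArg (fun m => m.hom a) h1
      exact this.symm
    constructor
    · intro h a b hab
      apply hbij.1
      apply h
      rw [← h2, ← h2]
      exact hab
    · intro h a b hab
      obtain ⟨a', rfl⟩ := hbij.2 a
      obtain ⟨b', rfl⟩ := hbij.2 b
      rw [← h2, ← h2] at hab
      rw [h hab]
  refine ⟨⟨?_, ?_⟩, ?_⟩
  · intro hk U
    haveI : IsSchemeTheoreticallyDominant g := ⟨hk⟩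
    rw [key]
    exact g.app_injective _
  · intro h
    refine Scheme.IdealSheafData.ext_of_iSup_eq_top
      (fun V : Y.affineOpens => (⟨C.π ⁻¹ᵁ V.1, V.2.preimage C.π⟩ : C.spec.affineOpens)) ?_ ?_
    · rw [eq_top_iff]
      intro z _
      have hz : C.π z ∈ (⊤ : Y.Opens) := trivial
      rw [← iSup_affineOpens_eq_top Y] at hz
      obtain ⟨V, hV⟩ := TopologicalSpace.Opens.mem_iSup.mp hz
      exact TopologicalSpace.Opens.mem_iSup.mpr ⟨V, hV⟩
    · intro V
      rw [g.ker_apply, Scheme.IdealSheafData.ideal_bot]
      exact (RingHom.injective_iff_ker_eq_bot _).mp ((key V.1).mp (h V.1))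
  · intro hk
    have : IsIso g.imageι := by
      delta Scheme.Hom.imageι Scheme.Hom.image; rw [hk]; infer_instance
    rw [← g.toImage_imageι]
    infer_instance

end Groth.Agent.S4837
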