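import Groth.Statements.S4842
import Groth.Agent.S4770
import Groth.Agent.Lead.LimEmb
import Mathlib

set_option autoImplicit false
universe u
open CategoryTheory AlgebraicGeometry
open Lim8

namespace Groth.Agent.S4842

open Limits Groth.Agent.Lead.LimEmb in
theorem aux {I : Type u} [SmallCategory I] [IsCofiltered I]
    (D : I ⥤ Scheme.{u}) (c : Limits.Cone D) (hc : Limits.IsLimit c)
    [∀ (i j : I) (f : i ⟶ j), IsAffineHom (D.map f)] (i₀ : I)
    [TopologicalSpace.NoetherianSpace (D.obj i₀)] [TopologicalSpace.NoetherianSpace c.pt]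
    (he : ∀ (i j : I) (φ : i ⟶ j), Topology.IsEmbedding ⇑(D.map φ)) :
    ∃ (i : I) (_ : i ⟶ i₀), ∀ (j : I) (_ : j ⟶ i),
      Set.BijOn (fun C : Set c.pt => closure (⇑(c.π.app j) '' (C : Set c.pt) : Set (D.obj j)))
        (Set.range (connectedComponent : c.pt → Set c.pt))
        (Set.range (connectedComponent : D.obj j → Set (D.obj j))) := by
  have hA : ∀ {i j : I} (f : i ⟶ j), IsAffineHom (D.map f) := fun f ↦ inferInstance
  have he' : ∀ (i j : I) (φ : i ⟶ j), Topology.IsInducing ⇑(D.map φ) :=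
    fun i j φ ↦ (he i j φ).isInducing
  obtain ⟨j₀, f₀, h0⟩ := exists_denseRange_π D c hc he' i₀
  have hN : TopologicalSpace.NoetherianSpace (D.obj j₀) := (he' j₀ i₀ f₀).noetherianSpace
  have hind := isInducing_π D c hc he' j₀
  have h1 : ∀ r : Set.range (connectedComponent : c.pt → Set c.pt),
      ∃ W : (D.obj j₀).Opens, ⇑(c.π.app j₀) ⁻¹' (W : Set (D.obj j₀)) = r.1 := by
    rintro ⟨C, s, rfl⟩
    obtain ⟨W, hWo, hW⟩ := hind.isOpen_iff.mp (S4770.isOpen_connectedComponent_of_noetherian s)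
    exact ⟨⟨W, hWo⟩, hW⟩
  choose W hW using h1
  obtain ⟨j₁, f₁, h1⟩ := exists_map_preimage_le_map_preimage D c hc (U := ⊤) (V := ⨆ r, W r)
    CompactSpace.isCompact_univ
    (by
      intro s _
      rw [Scheme.Hom.preimage_iSup]
      refine TopologicalSpace.Opens.mem_iSup.mpr ⟨⟨connectedComponent s, s, rfl⟩, ?_⟩
      have : s ∈ ⇑(c.π.app j₀) ⁻¹' (W ⟨connectedComponent s, s, rfl⟩ : Set (D.obj j₀)) := by
        rw [hW]
        exact mem_connectedComponent
      exact this)
  refine ⟨j₁, f₁ ≫ f₀, fun j ψ ↦ ?_⟩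
  refine S4770.bijOn_closure_image (c.π.app j).continuous (h0 j (ψ ≫ f₁))
    (fun r ↦ ((D.map (ψ ≫ f₁) ⁻¹ᵁ W r : (D.obj j).Opens) : Set (D.obj j)))
    (fun r ↦ (D.map (ψ ≫ f₁) ⁻¹ᵁ W r).2) ?_ ?_
  · intro y
    have h2 : D.map ψ y ∈ D.map f₁ ⁻¹ᵁ (⨆ r, W r) := h1 (Set.mem_univ _)
    rw [Scheme.Hom.preimage_iSup] at h2
    obtain ⟨r, hr⟩ := TopologicalSpace.Opens.mem_iSup.mp h2
    refine ⟨r, ?_⟩
    change D.map (ψ ≫ f₁) y ∈ W r
    rw [D.map_comp, Scheme.Hom.comp_apply]
    exact hr
  · intro r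
    rw [← hW r]
    ext s
    change (D.map (ψ ≫ f₁)) ((c.π.app j) s) ∈ W r ↔ (c.π.app j₀) s ∈ W r
    rw [← Scheme.Hom.comp_apply, c.w]

/-- Let S = lim S_i be a cofiltered limit of schemes whose transition maps are affine and topological
embeddings (homeomorphisms onto subspaces), some stage S_{i₀} having Noetherian underlying space,
and assume that the underlying space of S is Noetherian. Then there is an index i over i₀ such that,
for every j over i, the map sending a connected component C of S to the closure of its image under S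
⟶ S_j is a bijection from the set of connected components of S onto the set of connected components
of S_j. -/
theorem result {I : Type u} [SmallCategory I] [IsCofiltered I]
    (D : I ⥤ Scheme.{u}) (c : Limits.Cone D) (hc : Limits.IsLimit c)
    [∀ (i j : I) (f : i ⟶ j), IsAffineHom (D.map f)] (i₀ : I)
    [TopologicalSpace.NoetherianSpace (D.obj i₀)] [TopologicalSpace.NoetherianSpace c.pt]
    (he : ∀ (i j : I) (φ : i ⟶ j), Topology.IsEmbedding ⇑(D.map φ)) :
    ∃ (i : I) (_ : i ⟶ i₀), ∀ (j : I) (_ : j ⟶ i),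
      Set.BijOn (fun C : Set c.pt => closure (⇑(c.π.app j) '' (C : Set c.pt) : Set (D.obj j)))
        (Set.range (connectedComponent : c.pt → Set c.pt)) (Set.range (connectedComponent : D.obj j → Set (D.obj j))) := by
  exact aux D c hc i₀ he

end Groth.Agent.S4842
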