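import Groth.Statements.S4852
import Groth.Agent.Helper2.SemilocalNilp
import Groth.Agent.S4853
open TensorProduct Groth.Agent.Helper2.SemilocalNilp
-- import your own Groth.Agent.* helpers here

set_option autoImplicit false
universe u
open TensorProduct
open EGA43

namespace Groth.Agent.S4852

/-- Let A be a semi-local ring (finitely many maximal ideals) whose Jacobson radical is nilpotent, for
instance an Artinian ring, and let (u_i : A → B_i) be a family of ring homomorphisms whose kernels
have zero intersection. Then an A-module M is flat if and only if, for every i, the B_i-module B_i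
⊗_A M is flat. -/
theorem result {A : Type u} [CommRing A]
    [Finite (MaximalSpectrum A)] (hnil : IsNilpotent (Ring.jacobson A))
    {ι : Type u} (B : ι → Type u) [∀ i, CommRing (B i)] [∀ i, Algebra A (B i)]
    (hB : ∀ a : A, (∀ i, algebraMap A (B i) a = 0) → a = 0)
    (M : Type u) [AddCommGroup M] [Module A M] :
    Module.Flat A M ↔ ∀ i, Module.Flat (B i) (B i ⊗[A] M) := by
  constructor
  · intro h i
    infer_instance
  intro hflat
  obtain ⟨n, hn⟩ := hnil
  apply Module.flat_of_localized_maximal
  intro P hP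
  have hPp : P.IsPrime := hP.isPrime
  let R_P := Localization.AtPrime P
  let M_P := LocalizedModule P.primeCompl M
  have hJ : IsNilpotent (IsLocalRing.maximalIdeal R_P) := ⟨n, maximalIdeal_pow_eq_bot n hn P⟩
  have hfree : Module.Free (R_P ⧸ IsLocalRing.maximalIdeal R_P)
      ((R_P ⧸ IsLocalRing.maximalIdeal R_P) ⊗[R_P] M_P) := by
    let _ : Field (R_P ⧸ IsLocalRing.maximalIdeal R_P) := Ideal.Quotient.field _
    exact Module.Free.of_divisionRing _ _
  obtain ⟨R₀, -, -, hR₀⟩ := Groth.Agent.S4853.result (A := R_P) M_P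
    (IsLocalRing.maximalIdeal R_P) hJ hfree
  have e1 : R_P ⊗[A] M ≃ₗ[R_P] M_P :=
    (IsLocalizedModule.isBaseChange P.primeCompl R_P
      (LocalizedModule.mkLinearMap P.primeCompl M)).equiv
  have hmap : ∀ i, Ideal.map (algebraMap R_P
      (Localization (Algebra.algebraMapSubmonoid (B i) P.primeCompl))) R₀ = ⊥ := by
    intro i
    let S := B i
    let S_P := Localization (Algebra.algebraMapSubmonoid S P.primeCompl)
    have := hflat i
    have e2 : S_P ⊗[R_P] M_P ≃ₗ[S_P] S_P ⊗[R_P] (R_P ⊗[A] M) :=
      TensorProduct.AlgebraTensorModule.congr (LinearEquiv.refl S_P S_P) e1.symm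
    have e3 : S_P ⊗[R_P] (R_P ⊗[A] M) ≃ₗ[S_P] S_P ⊗[A] M :=
      TensorProduct.AlgebraTensorModule.cancelBaseChange A R_P S_P S_P M
    have e4 : S_P ⊗[S] (S ⊗[A] M) ≃ₗ[S_P] S_P ⊗[A] M :=
      TensorProduct.AlgebraTensorModule.cancelBaseChange A S S_P S_P M
    have hflatSP : Module.Flat S_P (S_P ⊗[R_P] M_P) :=
      Module.Flat.of_linearEquiv (e2.trans (e3.trans e4.symm))
    exact (hR₀ S_P).2.1 hflatSP
  have h2 : R₀ = ⊥ := by
    rw [eq_bot_iff]
    intro a' ha'
    rw [Submodule.mem_bot]
    apply eq_zero_of_forall_map_eq_zero n hn P B hB a'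
    intro i
    have : algebraMap R_P (Localization (Algebra.algebraMapSubmonoid (B i) P.primeCompl)) a' ∈
        Ideal.map (algebraMap R_P
          (Localization (Algebra.algebraMapSubmonoid (B i) P.primeCompl))) R₀ :=
      Ideal.mem_map_of_mem _ ha'
    rw [hmap i] at this
    exact this
  have h3 : Module.Free R_P (R_P ⊗[R_P] M_P) := (hR₀ R_P).1.2 (by rw [h2]; simp)
  have h4 : Module.Flat R_P M_P :=
    Module.Flat.of_linearEquiv (TensorProduct.lid R_P M_P).symm
  exact (Module.flat_iff_of_isLocalization R_P P.primeCompl M_P).1 h4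

end Groth.Agent.S4852
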