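import Groth.Statements.S4859
import Mathlib
-- import your own Groth.Agent.* helpers here

set_option autoImplicit false
universe u
open EGA43

namespace Groth.Agent.S4859

/-- Conditions a), a′), b) (quasi-homeomorphisms): for a continuous map f : X₀ → X the following are
equivalent: taking preimages is a bijection from the open subsets of X onto the open subsets of X₀;
taking preimages is a bijection from the closed subsets of X onto the closed subsets of X₀; the
topology of X₀ is induced from X through f and the image f(X₀) is very dense in X, in the sense that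
two open subsets of X with the same trace on f(X₀) coincide. -/
theorem result {X₀ X : Type u} [TopologicalSpace X₀] [TopologicalSpace X]
    (f : X₀ → X) (hf : Continuous f) :
    [Function.Bijective (fun U : TopologicalSpace.Opens X =>
        (⟨f ⁻¹' (U : Set X), U.isOpen.preimage hf⟩ : TopologicalSpace.Opens X₀)),
      Function.Bijective (fun F : TopologicalSpace.Closeds X =>
        (⟨f ⁻¹' (F : Set X), F.isClosed.preimage hf⟩ : TopologicalSpace.Closeds X₀)),
      Topology.IsInducing f ∧
        ∀ U V : Set X, IsOpen U → IsOpen V → U ∩ Set.range f = V ∩ Set.range f → U = V].TFAE := by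
  have key : ∀ U V : Set X, f ⁻¹' U = f ⁻¹' V ↔ U ∩ Set.range f = V ∩ Set.range f := by
    intro U V
    constructor
    · intro e
      ext x
      constructor
      · rintro ⟨hx, a, rfl⟩
        refine ⟨?_, a, rfl⟩
        have : a ∈ f ⁻¹' U := hx
        rw [e] at this
        exact this
      · rintro ⟨hx, a, rfl⟩
        refine ⟨?_, a, rfl⟩
        have : a ∈ f ⁻¹' V := hx
        rw [← e] at this
        exact this
    · intro e
      ext a
      constructor
      · intro ha
        have : f a ∈ U ∩ Set.range f := ⟨ha, a, rfl⟩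
        rw [e] at this
        exact this.1
      · intro ha
        have : f a ∈ V ∩ Set.range f := ⟨ha, a, rfl⟩
        rw [← e] at this
        exact this.1
  tfae_have 1 → 3 := by
    rintro ⟨hinj, hsurj⟩
    refine ⟨⟨?_⟩, ?_⟩
    · apply le_antisymm
      · exact hf.le_induced
      · intro V hV
        obtain ⟨U, hU⟩ := hsurj ⟨V, hV⟩
        rw [isOpen_induced_iff]
        exact ⟨U, U.isOpen, congrArg (fun W : TopologicalSpace.Opens X₀ => (W : Set X₀)) hU⟩
    · intro U V hU hV e
      have := @hinj ⟨U, hU⟩ ⟨V, hV⟩ (TopologicalSpace.Opens.ext ((key U V).mpr e))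
      exact congrArg (fun W : TopologicalSpace.Opens X => (W : Set X)) this
  tfae_have 3 → 2 := by
    rintro ⟨hind, hinj⟩
    constructor
    · intro F F' e
      have e' : f ⁻¹' (F : Set X) = f ⁻¹' (F' : Set X) :=
        congrArg (fun W : TopologicalSpace.Closeds X₀ => (W : Set X₀)) e
      have e'' : f ⁻¹' (F : Set X)ᶜ = f ⁻¹' (F' : Set X)ᶜ := by
        rw [Set.preimage_compl, Set.preimage_compl, e']
      have := hinj _ _ F.isClosed.isOpen_compl F'.isClosed.isOpen_compl ((key _ _).mp e'')
      exact TopologicalSpace.Closeds.ext (compl_injective this)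
    · intro G
      obtain ⟨t, ht, hte⟩ := hind.isClosed_iff.mp G.isClosed
      exact ⟨⟨t, ht⟩, TopologicalSpace.Closeds.ext hte⟩
  tfae_have 2 → 1 := by
    rintro ⟨hinj, hsurj⟩
    constructor
    · intro U V e
      have e' : f ⁻¹' (U : Set X) = f ⁻¹' (V : Set X) :=
        congrArg (fun W : TopologicalSpace.Opens X₀ => (W : Set X₀)) e
      have := @hinj ⟨(U : Set X)ᶜ, U.isOpen.isClosed_compl⟩ ⟨(V : Set X)ᶜ, V.isOpen.isClosed_compl⟩
        (TopologicalSpace.Closeds.ext (by
          change f ⁻¹' (U : Set X)ᶜ = f ⁻¹' (V : Set X)ᶜ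
          rw [Set.preimage_compl, Set.preimage_compl, e']))
      have h2 : (U : Set X)ᶜ = (V : Set X)ᶜ :=
        congrArg (fun W : TopologicalSpace.Closeds X => (W : Set X)) this
      exact TopologicalSpace.Opens.ext (compl_injective h2)
    · intro V
      obtain ⟨F, hF⟩ := hsurj ⟨(V : Set X₀)ᶜ, V.isOpen.isClosed_compl⟩
      refine ⟨⟨(F : Set X)ᶜ, F.isClosed.isOpen_compl⟩, TopologicalSpace.Opens.ext ?_⟩
      have h2 : f ⁻¹' (F : Set X) = (V : Set X₀)ᶜ :=
        congrArg (fun W : TopologicalSpace.Closeds X₀ => (W : Set X₀)) hF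
      change f ⁻¹' (F : Set X)ᶜ = (V : Set X₀)
      rw [Set.preimage_compl, h2, compl_compl]
  tfae_finish

end Groth.Agent.S4859
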