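import Groth.Statements.S4878
-- import your own Groth.Agent.* helpers here

set_option autoImplicit false
universe u
open TensorProduct
open EGA43

namespace Groth.Agent.S4878

/-- Let A be a commutative ring, (u_i : M → M_i) a family of A-linear maps whose kernels have zero
intersection, and N a projective A-module. Then the kernels of the maps u_i ⊗ 1 : M ⊗_A N → M_i ⊗_A
N have zero intersection. -/
theorem result {A : Type u} [CommRing A]
    {M : Type u} [AddCommGroup M] [Module A M] {ι : Type u} (M' : ι → Type u)
    [∀ i, AddCommGroup (M' i)] [∀ i, Module A (M' i)] (u : ∀ i, M →ₗ[A] M' i)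
    (hu : ⨅ i, LinearMap.ker (u i) = ⊥)
    (N : Type u) [AddCommGroup N] [Module A N] [Module.Projective A N] :
    ⨅ i, LinearMap.ker ((u i).rTensor N) = ⊥ := by
  classical
  obtain ⟨s, hs⟩ := Module.projective_def'.mp ‹Module.Projective A N›
  set π : (N →₀ A) →ₗ[A] N := Finsupp.linearCombination A id with hπ
  -- key naturality: finsuppScalarRight ∘ (u ⊗ 1) = mapRange u ∘ finsuppScalarRight
  have nat : ∀ (i : ι) (y : M ⊗[A] (N →₀ A)),
      TensorProduct.finsuppScalarRight A A (M' i) N ((u i).rTensor (N →₀ A) y) =
        Finsupp.mapRange.linearMap (u i) (TensorProduct.finsuppScalarRight A A M N y) := by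
    intro i y
    induction y using TensorProduct.induction_on with
    | zero => simp
    | add a b ha hb => simp only [map_add, ha, hb]
    | tmul m p =>
      ext j
      simp [TensorProduct.finsuppScalarRight_apply_tmul_apply]
  rw [eq_bot_iff]
  intro x hx
  rw [Submodule.mem_iInf] at hx
  rw [Submodule.mem_bot]
  set y : M ⊗[A] (N →₀ A) := s.lTensor M x with hy
  have hy0 : y = 0 := by
    apply (TensorProduct.finsuppScalarRight A A M N).injective
    rw [map_zero]
    ext j
    have : (TensorProduct.finsuppScalarRight A A M N y) j ∈ ⨅ i, LinearMap.ker (u i) := by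
      rw [Submodule.mem_iInf]
      intro i
      rw [LinearMap.mem_ker]
      have h1 : (u i).rTensor (N →₀ A) y = 0 := by
        rw [hy, ← LinearMap.comp_apply, LinearMap.rTensor_comp_lTensor, ← LinearMap.lTensor_comp_rTensor,
          LinearMap.comp_apply]
        have := hx i
        rw [LinearMap.mem_ker] at this
        rw [this, map_zero]
      have h2 := nat i y
      rw [h1, map_zero] at h2
      have h3 := DFunLike.congr_fun h2 j
      simpa using h3.symm
    rw [hu, Submodule.mem_bot] at this
    simpa using this
  have : x = π.lTensor M y := by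
    rw [hy, ← LinearMap.comp_apply, ← LinearMap.lTensor_comp, hs]
    simp
  rw [this, hy0, map_zero]

end Groth.Agent.S4878
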