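import Groth.Statements.S4882
import Mathlib
-- import your own Groth.Agent.* helpers here

set_option autoImplicit false
universe u
open EGA43

namespace Groth.Agent.S4882

/-- Let X be a Jacobson space and Z a locally quasi-constructible subset of X, i.e. every point of X has
an open neighbourhood U such that U ∩ Z is a finite union of locally closed subsets of X. Then the
subspace Z is a Jacobson space, and a point of Z is closed in Z if and only if it is closed in X. -/
theorem result {X : Type u} [TopologicalSpace X] [JacobsonSpace X]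
    (Z : Set X)
    (hZ : ∀ x : X, ∃ U : Set X, IsOpen U ∧ x ∈ U ∧
      ∃ T : Set (Set X), T.Finite ∧ (∀ t ∈ T, IsLocallyClosed t) ∧ U ∩ Z = ⋃₀ T) :
    JacobsonSpace ↥Z ∧ ∀ z : ↥Z, IsClosed ({z} : Set ↥Z) ↔ IsClosed ({(z : X)} : Set X) := by
  have hb1 : ∀ z : ↥Z, IsClosed ({(z : X)} : Set X) → IsClosed ({z} : Set ↥Z) := by
    intro z hz
    have : ({z} : Set ↥Z) = Subtype.val ⁻¹' ({(z : X)} : Set X) := by
      ext w
      simp only [Set.mem_singleton_iff, Set.mem_preimage]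
      exact ⟨fun h => congrArg Subtype.val h, fun h => Subtype.ext h⟩
    rw [this]
    exact hz.preimage continuous_subtype_val
  have hb2 : ∀ z : ↥Z, IsClosed ({z} : Set ↥Z) → IsClosed ({(z : X)} : Set X) := by
    intro z hz
    apply isClosed_singleton_of_isLocallyClosed_singleton
    rw [isClosed_induced_iff] at hz
    obtain ⟨C, hC, hCe⟩ := hz
    obtain ⟨U, hU, hzU, T, hT, hTl, hUT⟩ := hZ z.1
    have hz1 : z.1 ∈ ⋃₀ T := by rw [← hUT]; exact ⟨hzU, z.2⟩
    obtain ⟨t, ht, hzt⟩ := hz1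
    have htZ : t ⊆ Z := fun w hw => by
      have : w ∈ ⋃₀ T := ⟨t, ht, hw⟩
      rw [← hUT] at this
      exact this.2
    have : ({(z : X)} : Set X) = t ∩ C := by
      ext w
      simp only [Set.mem_singleton_iff, Set.mem_inter_iff]
      constructor
      · rintro rfl
        refine ⟨hzt, ?_⟩
        have : z ∈ Subtype.val ⁻¹' C := by rw [hCe]; rfl
        exact this
      · rintro ⟨hwt, hwC⟩
        have : (⟨w, htZ hwt⟩ : ↥Z) ∈ Subtype.val ⁻¹' C := hwC
        rw [hCe] at this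
        exact congrArg Subtype.val this
    rw [this]
    exact (hTl t ht).inter hC.isLocallyClosed
  refine ⟨?_, fun z => ⟨hb2 z, hb1 z⟩⟩
  rw [jacobsonSpace_iff_locallyClosed]
  intro W hW hWl
  rw [Topology.IsInducing.subtypeVal.isLocallyClosed_iff] at hWl
  obtain ⟨L, hL, rfl⟩ := hWl
  obtain ⟨w, hw⟩ := hW
  obtain ⟨U, hU, hzU, T, hT, hTl, hUT⟩ := hZ w.1
  have hz1 : w.1 ∈ ⋃₀ T := by rw [← hUT]; exact ⟨hzU, w.2⟩
  obtain ⟨t, ht, hzt⟩ := hz1
  have htZ : t ⊆ Z := fun w hw => by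
    have : w ∈ ⋃₀ T := ⟨t, ht, hw⟩
    rw [← hUT] at this
    exact this.2
  obtain ⟨p, ⟨hpL, hpt⟩, hpc⟩ := nonempty_inter_closedPoints (Z := L ∩ t) ⟨w.1, hw, hzt⟩
    (hL.inter (hTl t ht))
  exact ⟨⟨p, htZ hpt⟩, hpL, hb1 ⟨p, htZ hpt⟩ hpc⟩

end Groth.Agent.S4882
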