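import Groth.Statements.S4885
import Groth.Agent.Helper4.FiniteColim
import Mathlib

set_option autoImplicit false
universe u
open EGA43

namespace Groth.Agent.S4885


/-- Every finite algebra A' over a commutative ring A is a directed colimit (filtered inductive limit)
of A-algebras which are finite and of finite presentation over A. -/
theorem result (A A' : Type u) [CommRing A] [CommRing A']
    [Algebra A A'] [Module.Finite A A'] :
    ∃ (ι : Type u) (_ : Preorder ι) (G : ι → Type u) (_ : ∀ i, CommRing (G i)) (_ : ∀ i, Algebra A (G i))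
      (g : ∀ i j, i ≤ j → G i →ₐ[A] G j) (_ : ∀ i, Algebra (G i) A') (_ : ∀ i, IsScalarTower A (G i) A'),
      FlatCA.IsDirectedColimitRing G (fun i j h => (g i j h).toRingHom) A' ∧
        ∀ i, Module.Finite A (G i) ∧ Algebra.FinitePresentation A (G i) := by

  classical
  obtain ⟨n, f, hf⟩ := Algebra.FiniteType.iff_quotient_mvPolynomial''.mp
    (inferInstance : Algebra.FiniteType A A')
  have hint : ∀ k : Fin n, ∃ p : Polynomial A, p.Monic ∧
      Polynomial.aeval (f (MvPolynomial.X k)) p = 0 := fun k =>
    Algebra.IsIntegral.isIntegral (R := A) (f (MvPolynomial.X k))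
  choose p hpm hp0 using hint
  have hI₀ : (Ideal.span (Set.range
      (fun k : Fin n => Polynomial.aeval (MvPolynomial.X k : MvPolynomial (Fin n) A) (p k)))).FG :=
    Submodule.fg_span (Set.finite_range _)
  have hI₀K : Ideal.span (Set.range
      (fun k : Fin n => Polynomial.aeval (MvPolynomial.X k : MvPolynomial (Fin n) A) (p k)))
      ≤ RingHom.ker f := by
    rw [Ideal.span_le]
    rintro _ ⟨k, rfl⟩
    show f (Polynomial.aeval (MvPolynomial.X k : MvPolynomial (Fin n) A) (p k)) = 0
    rw [← Polynomial.aeval_algHom_apply]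
    exact hp0 k
  refine ⟨Groth.Agent.Helper4.FiniteColim.Idx f (Ideal.span (Set.range
      (fun k : Fin n => Polynomial.aeval (MvPolynomial.X k : MvPolynomial (Fin n) A) (p k)))),
    inferInstance, fun J => MvPolynomial (Fin n) A ⧸ J.1, fun _ => inferInstance,
    fun _ => inferInstance, fun i j h => Ideal.Quotient.factorₐ A (show i.1 ≤ j.1 from h),
    fun J => Groth.Agent.Helper4.FiniteColim.algA' f _ J,
    fun J => Groth.Agent.Helper4.FiniteColim.tower f _ J,
    Groth.Agent.Helper4.FiniteColim.isDirectedColimitRing f _ hf hI₀ hI₀K, fun J => ⟨?_, ?_⟩⟩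
  · exact Groth.Agent.Helper4.FiniteColim.finite_quot J.1 p hpm
      (fun k => J.2.2.1 (Ideal.subset_span ⟨k, rfl⟩))
  · exact Algebra.FinitePresentation.quotient J.2.1

end Groth.Agent.S4885
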