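import Groth.Statements.S4891
import Mathlib
import Groth.Agent.S0400
import Groth.Agent.Helper2.FibreCrit
-- import your own Groth.Agent.* helpers here

set_option autoImplicit false
universe u
open TensorProduct
open EGA43

namespace Groth.Agent.S4891

/-- Let A be a commutative ring, J a nilpotent ideal of A, B a commutative A-algebra and M a B-module.
If M is flat over A, M/JM is flat over B/JB, B/JB is flat over A/J and mM ≠ M for every maximal
ideal m of B containing JB, then B is flat over A. (Under the first two hypotheses M is also flat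
over B; that implication is stated elsewhere and not repeated here.) -/
theorem result {A B : Type u} [CommRing A] [CommRing B] [Algebra A B]
    (J : Ideal A) (hJ : IsNilpotent J) (M : Type u) [AddCommGroup M] [Module B M] [Module A M] [IsScalarTower A B M]
    (hc1 : Module.Flat A M)
    (hc2 : Module.Flat (B ⧸ J.map (algebraMap A B)) ((B ⧸ J.map (algebraMap A B)) ⊗[B] M))
    (hd1 : Module.Flat (A ⧸ J) ((A ⧸ J) ⊗[A] B))
    (hd2 : ∀ m : Ideal B, m.IsMaximal → J.map (algebraMap A B) ≤ m → (m • (⊤ : Submodule B M)) ≠ ⊤) :
    Module.Flat A B := by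
  have hflat : Module.Flat B M := Groth.Agent.S0400.result (R := A) (S := B) J hJ hc2
  have hnil : IsNilpotent (J.map (algebraMap A B)) := by
    obtain ⟨n, hn⟩ := hJ
    exact ⟨n, by rw [← Ideal.map_pow, hn]; simp⟩
  have hff : Module.FaithfullyFlat B M := by
    refine ⟨?_⟩
    intro m hm
    apply hd2 m hm
    obtain ⟨n, hn⟩ := hnil
    have : (J.map (algebraMap A B)) ^ n ≤ m := by rw [hn]; exact bot_le
    exact hm.isPrime.le_of_pow_le this
  exact Groth.Agent.Helper2.FibreCrit.flat_of_faithfullyFlat_module (R := A) (S := B) (M := M)

end Groth.Agent.S4891
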