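import Groth.Statements.S4893
import Groth.Agent.Helper2.VeryDense
-- import your own Groth.Agent.* helpers here

set_option autoImplicit false
universe u
open EGA43

namespace Groth.Agent.S4893

/-- Let f : X → Y be a quasi-homeomorphism (continuous, with U ↦ f⁻¹(U) a bijection from the open
subsets of Y onto the open subsets of X) and Y' a locally quasi-constructible subset of Y. Then the
restriction f⁻¹(Y') → Y' of f is a quasi-homeomorphism. -/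
theorem result {X Y : Type u} [TopologicalSpace X]
    [TopologicalSpace Y] (f : X → Y) (hf : Continuous f)
    (hq : ((∀ U₁ U₂ : Set Y, IsOpen U₁ → IsOpen U₂ → (f) ⁻¹' U₁ = (f) ⁻¹' U₂ → U₁ = U₂) ∧ (∀ V : Set X, IsOpen V → ∃ U : Set Y, IsOpen U ∧ (f) ⁻¹' U = V)))
    (Y' : Set Y) (hY' : (∀ y : Y, ∃ U : Set Y, IsOpen U ∧ y ∈ U ∧ ∃ T : Set (Set Y), T.Finite ∧ (∀ t ∈ T, IsLocallyClosed t) ∧ U ∩ Y' = ⋃₀ T)) :
    ((∀ U₁ U₂ : Set ↥Y', IsOpen U₁ → IsOpen U₂ → (Y'.restrictPreimage f) ⁻¹' U₁ = (Y'.restrictPreimage f) ⁻¹' U₂ → U₁ = U₂) ∧ (∀ V : Set ↥(f ⁻¹' Y'), IsOpen V → ∃ U : Set ↥Y', IsOpen U ∧ (Y'.restrictPreimage f) ⁻¹' U = V)) := by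
  obtain ⟨hinj, hsurj⟩ := hq
  have hLQC : Groth.Agent.Helper2.LQC Y' := hY'
  constructor
  · intro U₁ U₂ hU₁ hU₂ e
    rw [isOpen_induced_iff] at hU₁ hU₂
    obtain ⟨O₁, hO₁, rfl⟩ := hU₁
    obtain ⟨O₂, hO₂, rfl⟩ := hU₂
    have e' : f ⁻¹' (O₁ ∩ Y') = f ⁻¹' (O₂ ∩ Y') := by
      ext a
      constructor
      · rintro ⟨h1, h2⟩
        have : (⟨a, h2⟩ : ↥(f ⁻¹' Y')) ∈ (Y'.restrictPreimage f) ⁻¹' (Subtype.val ⁻¹' O₁) := h1
        rw [e] at this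
        exact ⟨this, h2⟩
      · rintro ⟨h1, h2⟩
        have : (⟨a, h2⟩ : ↥(f ⁻¹' Y')) ∈ (Y'.restrictPreimage f) ⁻¹' (Subtype.val ⁻¹' O₂) := h1
        rw [← e] at this
        exact ⟨this, h2⟩
    have key := Groth.Agent.Helper2.LQC.eq_of_preimage_eq f hinj (hLQC.open_inter hO₁) (hLQC.open_inter hO₂) e'
    ext ⟨y, hy⟩
    constructor
    · intro h1
      have : y ∈ O₁ ∩ Y' := ⟨h1, hy⟩
      rw [key] at this
      exact this.1
    · intro h1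
      have : y ∈ O₂ ∩ Y' := ⟨h1, hy⟩
      rw [← key] at this
      exact this.1
  · intro V hV
    rw [isOpen_induced_iff] at hV
    obtain ⟨V₀, hV₀, rfl⟩ := hV
    obtain ⟨O, hO, rfl⟩ := hsurj V₀ hV₀
    exact ⟨Subtype.val ⁻¹' O, hO.preimage continuous_subtype_val, rfl⟩

end Groth.Agent.S4893
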