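import Groth.Statements.S4904
import Groth.Agent.Helper2.QuasiHomeo
-- import your own Groth.Agent.* helpers here

set_option autoImplicit false
universe u
open EGA43

namespace Groth.Agent.S4904

/-- Let f : X → Y be a quasi-homeomorphism (U ↦ f⁻¹(U) is a bijection on open subsets) and Y' a locally
quasi-constructible subset of Y, X' = f⁻¹(Y'). Then Y' is retrocompact in Y, i.e. Y' ∩ U is
quasi-compact for every quasi-compact open subset U of Y, if and only if X' is retrocompact in X. -/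
theorem result {X Y : Type u} [TopologicalSpace X]
    [TopologicalSpace Y] (f : X → Y) (hf : Continuous f)
    (hq : Function.Bijective (fun U : TopologicalSpace.Opens Y =>
      (⟨f ⁻¹' (U : Set Y), U.isOpen.preimage hf⟩ : TopologicalSpace.Opens X)))
    (Y' : Set Y)
    (hY' : ∀ y : Y, ∃ U : Set Y, IsOpen U ∧ y ∈ U ∧
      ∃ T : Set (Set Y), T.Finite ∧ (∀ t ∈ T, IsLocallyClosed t) ∧ U ∩ Y' = ⋃₀ T) :
    (∀ U : Set Y, IsOpen U → IsCompact U → IsCompact (U ∩ Y')) ↔
      (∀ V : Set X, IsOpen V → IsCompact V → IsCompact (V ∩ f ⁻¹' Y')) := by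
  have hQ : Groth.Agent.Helper2.QH f := Groth.Agent.Helper2.QH.of_bijective hf hq
  have hLQC : Groth.Agent.Helper2.LQC Y' := hY'
  have hg : Groth.Agent.Helper2.QH (Y'.restrictPreimage f) := hQ.restrictPreimage hLQC
  have hgc : Continuous (Y'.restrictPreimage f) := hf.restrictPreimage
  -- key: for open U ⊆ Y, compactness of U ∩ Y' and of f⁻¹U ∩ f⁻¹Y' agree
  have key : ∀ U : Set Y, IsOpen U → (IsCompact (U ∩ Y') ↔ IsCompact (f ⁻¹' U ∩ f ⁻¹' Y')) := by
    intro U hU
    have e1 : U ∩ Y' = Subtype.val '' (Subtype.val ⁻¹' U : Set ↥Y') := by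
      rw [Subtype.image_preimage_coe, Set.inter_comm]
    have e2 : f ⁻¹' U ∩ f ⁻¹' Y' = Subtype.val '' (Subtype.val ⁻¹' (f ⁻¹' U) : Set ↥(f ⁻¹' Y')) := by
      rw [Subtype.image_preimage_coe, Set.inter_comm]
    rw [e1, e2, ← Topology.IsEmbedding.subtypeVal.isCompact_iff,
      ← Topology.IsEmbedding.subtypeVal.isCompact_iff,
      hg.isCompact_preimage_iff hgc (hU.preimage continuous_subtype_val)]
    rfl
  constructor
  · intro h V hV hVc
    obtain ⟨U, hU, rfl⟩ := hQ.2 V hV
    rw [← key U hU]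
    exact h U hU ((hQ.isCompact_preimage_iff hf hU).mpr hVc)
  · intro h U hU hUc
    rw [key U hU]
    exact h (f ⁻¹' U) (hU.preimage hf) ((hQ.isCompact_preimage_iff hf hU).mp hUc)

end Groth.Agent.S4904
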