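import Groth.Statements.S4914
import Mathlib
-- import your own Groth.Agent.* helpers here

set_option autoImplicit false
open CategoryTheory AlgebraicGeometry
universe u v w
open EGA43

namespace Groth.Agent.S4914

/-- Let ψ : X → Y be a continuous map, x a point of X, and (Y_i) a locally finite covering of Y by
closed subsets. If for every index i with ψ x ∈ Y_i the restriction ψ⁻¹(Y_i) → Y_i of ψ is open at
x, then ψ is open at x. -/
theorem result {α : Type u} {β : Type v} {ι : Type w} [TopologicalSpace α]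
    [TopologicalSpace β] (ψ : α → β) (hψ : Continuous ψ) (x : α) (Y : ι → Set β) (hY : LocallyFinite Y)
    (hcl : ∀ i, IsClosed (Y i)) (hcov : ⋃ i, Y i = Set.univ)
    (h : ∀ i, ∀ hi : ψ x ∈ Y i, EGA43.IsOpenAt ((Y i).restrictPreimage ψ) ⟨x, hi⟩) :
    EGA43.IsOpenAt ψ x := by
  intro U hU
  classical
  obtain ⟨W, hW, hfin⟩ := hY (ψ x)
  -- the finite set of indices meeting W
  set J := hfin.toFinset with hJ
  -- for i with ψ x ∈ Y i, get a nhd V i of ψ x with V i ∩ Y i ⊆ ψ '' U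
  have hV : ∀ i, ∃ V ∈ nhds (ψ x), (ψ x ∈ Y i → V ∩ Y i ⊆ ψ '' U) ∧ (ψ x ∉ Y i → V ∩ Y i = ∅) := by
    intro i
    by_cases hi : ψ x ∈ Y i
    · have h1 := h i hi (Subtype.val ⁻¹' U) (continuous_subtype_val.continuousAt hU)
      rw [mem_nhds_subtype] at h1
      obtain ⟨V, hV, hVsub⟩ := h1
      refine ⟨V, hV, fun _ => ?_, fun hn => absurd hi hn⟩
      rintro z ⟨hzV, hzY⟩
      obtain ⟨⟨a, ha⟩, haU, hae⟩ := hVsub (show (⟨z, hzY⟩ : ↥(Y i)) ∈ Subtype.val ⁻¹' V from hzV)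
      refine ⟨a, haU, ?_⟩
      exact congrArg Subtype.val hae
    · refine ⟨(Y i)ᶜ, (hcl i).isOpen_compl.mem_nhds hi, fun hn => absurd hn hi, fun _ => ?_⟩
      exact Set.compl_inter_self (Y i)
  choose V hVn hV1 hV2 using hV
  have hN : W ∩ ⋂ i ∈ J, V i ∈ nhds (ψ x) :=
    Filter.inter_mem hW ((Filter.biInter_finset_mem J).mpr fun i _ => hVn i)
  refine Filter.mem_of_superset hN ?_
  rintro z ⟨hzW, hzV⟩
  have hz : z ∈ ⋃ i, Y i := by rw [hcov]; trivial
  obtain ⟨i, hzi⟩ := Set.mem_iUnion.mp hz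
  have hiJ : i ∈ J := by
    rw [hJ, Set.Finite.mem_toFinset]
    exact ⟨z, hzi, hzW⟩
  have hzVi : z ∈ V i := by
    rw [Set.mem_iInter₂] at hzV
    exact hzV i hiJ
  by_cases hi : ψ x ∈ Y i
  · exact hV1 i hi ⟨hzVi, hzi⟩
  · have := hV2 i hi
    have hmem : z ∈ V i ∩ Y i := ⟨hzVi, hzi⟩
    rw [this] at hmem
    exact absurd hmem (Set.notMem_empty z)

end Groth.Agent.S4914
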