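import Groth.Statements.S4916
import Mathlib
-- import your own Groth.Agent.* helpers here

set_option autoImplicit false
open CategoryTheory AlgebraicGeometry
universe u v w
open EGA43

namespace Groth.Agent.S4916

/-- Let ψ : X → Y be a continuous map of topological spaces and y a point of Y. The set of points x of
the fibre ψ⁻¹(y) at which ψ is open is a closed subset of ψ⁻¹(y). -/
theorem result {α : Type u} {β : Type v} [TopologicalSpace α] [TopologicalSpace β]
    (ψ : α → β) (hψ : Continuous ψ) (y : β) :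
    IsClosed {x : ↥(ψ ⁻¹' {y}) | EGA43.IsOpenAt ψ x.1} := by
  rw [← closure_subset_iff_isClosed]
  intro x hx U hU
  obtain ⟨U₀, hU₀U, hU₀o, hxU₀⟩ := mem_nhds_iff.mp hU
  rw [mem_closure_iff] at hx
  obtain ⟨x₁, hx₁U, hx₁⟩ := hx (Subtype.val ⁻¹' U₀) (hU₀o.preimage continuous_subtype_val) hxU₀
  have h1 : ψ '' U₀ ∈ nhds (ψ x₁.1) := hx₁ U₀ (hU₀o.mem_nhds hx₁U)
  have e1 : ψ x₁.1 = y := x₁.2
  have e2 : ψ x.1 = y := x.2
  rw [e2, ← e1]
  exact Filter.mem_of_superset h1 (Set.image_mono hU₀U)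

end Groth.Agent.S4916
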