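import Groth.Statements.S4925
import Mathlib
import Groth.Agent.Helper2.OpenAt
open Groth.Agent.Helper2
open CategoryTheory.Limits
-- import your own Groth.Agent.* helpers here

set_option autoImplicit false
open CategoryTheory AlgebraicGeometry
universe u v w
open EGA43

namespace Groth.Agent.S4925

/-- Let f : X ⟶ Y and g : Y ⟶ Z be morphisms of schemes and x a point of X. If f is universally open at
x and g is universally open at f x, then f ≫ g is universally open at x. -/
theorem result {X Y Z : Scheme.{u}} (f : X ⟶ Y) (g : Y ⟶ Z) (x : X)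
    (hf : EGA43.IsUnivOpenAt f x) (hg : EGA43.IsUnivOpenAt g (f.base x)) :
    EGA43.IsUnivOpenAt (f ≫ g) x := by
  intro Z' h x' hx'
  let k : pullback (f ≫ g) h ⟶ pullback g h :=
    pullback.lift (pullback.fst _ _ ≫ f) (pullback.snd _ _)
      (by rw [Category.assoc]; exact pullback.condition)
  have hk1 : k ≫ pullback.fst g h = pullback.fst (f ≫ g) h ≫ f := pullback.lift_fst _ _ _
  have hk2 : k ≫ pullback.snd g h = pullback.snd (f ≫ g) h := pullback.lift_snd _ _ _
  have hbig : IsPullback (pullback.fst (f ≫ g) h) (k ≫ pullback.snd g h) (f ≫ g) h := by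
    rw [hk2]; exact IsPullback.of_hasPullback _ _
  have htop : IsPullback (pullback.fst (f ≫ g) h) k f (pullback.fst g h) :=
    IsPullback.of_bot hbig hk1.symm (IsPullback.of_hasPullback g h)
  have o1 := OpenAt.isOpenAt_of_isPullback hf htop x' hx'
  have o2 := hg Z' h (k.base x') (by
    rw [← Scheme.Hom.comp_apply, hk1, Scheme.Hom.comp_apply, hx'])
  rw [← hk2]
  exact OpenAt.comp_sch o1 o2

end Groth.Agent.S4925
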