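import Groth.Statements.S4926
import Mathlib
import Groth.Agent.Helper2.OpenAt
open Groth.Agent.Helper2
open CategoryTheory.Limits
-- import your own Groth.Agent.* helpers here

set_option autoImplicit false
open CategoryTheory AlgebraicGeometry
universe u v w
open EGA43

namespace Groth.Agent.S4926

/-- Let f : X ⟶ Y and g : Y ⟶ Z be morphisms of schemes and x a point of X. If f ≫ g is universally open
at x, then g is universally open at the point f x. -/
theorem result {X Y Z : Scheme.{u}} (f : X ⟶ Y) (g : Y ⟶ Z) (x : X)
    (h : EGA43.IsUnivOpenAt (f ≫ g) x) : EGA43.IsUnivOpenAt g (f.base x) := by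
  intro Z' h' y' hy'
  let k : pullback (f ≫ g) h' ⟶ pullback g h' :=
    pullback.lift (pullback.fst _ _ ≫ f) (pullback.snd _ _)
      (by rw [Category.assoc]; exact pullback.condition)
  have hk1 : k ≫ pullback.fst g h' = pullback.fst (f ≫ g) h' ≫ f := pullback.lift_fst _ _ _
  have hk2 : k ≫ pullback.snd g h' = pullback.snd (f ≫ g) h' := pullback.lift_snd _ _ _
  have hbig : IsPullback (pullback.fst (f ≫ g) h') (k ≫ pullback.snd g h') (f ≫ g) h' := by
    rw [hk2]; exact IsPullback.of_hasPullback _ _
  have htop : IsPullback (pullback.fst (f ≫ g) h') k f (pullback.fst g h') :=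
    IsPullback.of_bot hbig hk1.symm (IsPullback.of_hasPullback g h')
  obtain ⟨p, hp1, hp2⟩ := Scheme.exists_preimage_of_isPullback htop x y' hy'.symm
  have o := h Z' h' p hp1
  rw [← hk2] at o
  have := OpenAt.of_comp_sch o
  rwa [hp2] at this

end Groth.Agent.S4926
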