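import Groth.Statements.S4959


set_option autoImplicit false
open CategoryTheory AlgebraicGeometry
universe u v w
open EGA43

namespace Groth.Agent.S4959

open CategoryTheory.Limits in
theorem aux {X Y Y' : Scheme.{u}} (f : X ⟶ Y) (g : Y' ⟶ Y) [Surjective g]
    (hg : IsProper g ∨ (Flat g ∧ QuasiCompact g))
    (h : MorphismProperty.universally (topologically @Topology.IsQuotientMap) (pullback.snd f g)) :
    MorphismProperty.universally (topologically @Topology.IsQuotientMap) f := by
  intro X₁ Y₁ i₁ i₂ f₁ hpb
  let p := pullback.fst i₂ g
  let r := pullback.snd i₂ g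
  let q := pullback.fst f₁ p
  let f₁' := pullback.snd f₁ p
  have hA : IsPullback f₁' q p f₁ := (IsPullback.of_hasPullback f₁ p).flip
  have hAB : IsPullback f₁' (q ≫ i₁) (p ≫ i₂) f := hA.paste_vert hpb
  have hpr : p ≫ i₂ = r ≫ g := pullback.condition
  rw [hpr] at hAB
  have hB : IsPullback (pullback.snd f g) (pullback.fst f g) g f :=
    (IsPullback.of_hasPullback f g).flip
  have hC := IsPullback.of_bot' hAB hB
  have hf₁' : Topology.IsQuotientMap f₁' := h _ _ _ hC
  have hp : Topology.IsQuotientMap p := by
    rcases hg with hg | ⟨hg1, hg2⟩
    · haveI : IsProper p := inferInstance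
      exact IsClosedMap.isQuotientMap p.isClosedMap p.continuous p.surjective
    · haveI : Flat p := inferInstance
      haveI : QuasiCompact p := inferInstance
      exact Flat.isQuotientMap_of_surjective p
  have hcomp : Topology.IsQuotientMap (p ∘ f₁') := hp.comp hf₁'
  have heq : (p : _ → _) ∘ f₁' = f₁ ∘ q := by
    ext x
    simp only [Function.comp_apply]
    rw [← Scheme.Hom.comp_apply, ← Scheme.Hom.comp_apply]
    have hc : f₁' ≫ p = q ≫ f₁ := (pullback.condition (f := f₁) (g := p)).symm
    rw [hc]
  rw [heq] at hcomp
  exact Topology.IsQuotientMap.of_comp q.continuous f₁.continuous hcomp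

open CategoryTheory.Limits in
/-- Let f : X ⟶ Y be a morphism of schemes and g : Y' ⟶ Y a surjective morphism which is either proper,
or flat and quasi-compact. If the base change f' : X ×_Y Y' ⟶ Y' is universally submersive (all of
its base changes are topological quotient maps), then f is universally submersive. -/
theorem result {X Y Y' : Scheme.{u}} (f : X ⟶ Y) (g : Y' ⟶ Y) [Surjective g]
    (hg : IsProper g ∨ (Flat g ∧ QuasiCompact g))
    (h : MorphismProperty.universally (topologically @Topology.IsQuotientMap) (pullback.snd f g)) :
    MorphismProperty.universally (topologically @Topology.IsQuotientMap) f := by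
  exact aux f g hg h

end Groth.Agent.S4959
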