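import Groth.Statements.S4986
import Groth.Agent.Helper5.SubDim5

set_option autoImplicit false
open CategoryTheory AlgebraicGeometry
universe u v w
open EGA43

namespace Groth.Agent.S4986

/-- Let Y be locally Noetherian, f : X ⟶ Y of finite type, x ∈ X, y = f x, X' an irreducible closed
subset containing x with its reduced structure, Y' the closure of f(X') with its reduced structure
and generic point η', and A, B, A', B' the local rings of Y at y, of X at x, of Y' at y and of X' at
x. Suppose dim B = dim A + dim(B ⊗ κ(y)). Then X' satisfies the four conditions (i) dim A' = dim A,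
(ii) dim_x(X' ∩ X_y) = dim_x(X_y), (iii) X' equidimensional over Y' at x, (iv) dim B' = dim A' +
dim(B' ⊗ κ(y)), if and only if dim B' = dim B. -/
theorem result {X Y : Scheme.{u}} [IsLocallyNoetherian Y] (f : X ⟶ Y)
    [LocallyOfFiniteType f] [QuasiCompact f] (x : X) (X' : TopologicalSpace.Closeds X) (hirr : IsIrreducible (X' : Set X))
    (hx : x ∈ X') (w : ↥(Scheme.IdealSheafData.vanishingIdeal X').subscheme)
    (hw : (Scheme.IdealSheafData.vanishingIdeal X').subschemeι.base w = x)
    (v : ↥(Scheme.IdealSheafData.vanishingIdeal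
      (⟨closure (f.base '' (X' : Set X)), isClosed_closure⟩ : TopologicalSpace.Closeds Y)).subscheme)
    (hv : (Scheme.IdealSheafData.vanishingIdeal
      (⟨closure (f.base '' (X' : Set X)), isClosed_closure⟩ : TopologicalSpace.Closeds Y)).subschemeι.base v = f.base x)
    (η' : Y) (hη' : closure ({η'} : Set Y) = closure (f.base '' (X' : Set X))) :
    letI ιX := (Scheme.IdealSheafData.vanishingIdeal X').subschemeι
    letI dA := ringKrullDim (Y.presheaf.stalk (f.base x))
    letI dB := ringKrullDim (X.presheaf.stalk x)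
    letI dA' := ringKrullDim ((Scheme.IdealSheafData.vanishingIdeal
      (⟨closure (f.base '' (X' : Set X)), isClosed_closure⟩ : TopologicalSpace.Closeds Y)).subscheme.presheaf.stalk v)
    letI dB' := ringKrullDim ((Scheme.IdealSheafData.vanishingIdeal X').subscheme.presheaf.stalk w)
    letI dBk := ringKrullDim ((f.fiber (f.base x)).presheaf.stalk (f.asFiber x))
    letI dB'k := ringKrullDim (((ιX ≫ f).fiber ((ιX ≫ f).base w)).presheaf.stalk ((ιX ≫ f).asFiber w))
    letI e' := topologicalKrullDim ↥((X' : Set X) ∩ f.base ⁻¹' {η'})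
    dB = dA + dBk →
      ((dA' = dA ∧ FlatMor.localDim ↥((X' : Set X) ∩ f.base ⁻¹' {f.base x}) ⟨x, ⟨hx, rfl⟩⟩ = FlatMor.fibreDimAt f x ∧
        FlatMor.fibreDimAt (ιX ≫ f) w = e' ∧ dB' = dA' + dB'k) ↔ dB' = dB) := by
  subst hw
  obtain ⟨D, k, a, c, t, e, k', hD, hk, ha, hc, hk', hfd, he, h1, h2, h3, h4⟩ :=
    Groth.Agent.Helper5.SubDim.dim_subscheme_iff f X' hirr w v hv η' hη'
  obtain ⟨t', ht'1, ht'2⟩ := Groth.Agent.Helper5.SubDim.fibreDimAt_sub_pair f
    (Scheme.IdealSheafData.vanishingIdeal X').subschemeι w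
  have htt : t' = t := by
    rw [hfd, hk'] at ht'1
    exact Groth.Agent.Helper5.SubDim.nat_of_add_eq k' t t' ht'1
  subst htt
  rw [hk] at ht'2
  have hrX : Set.range (Scheme.IdealSheafData.vanishingIdeal X').subschemeι = (X' : Set X) := by
    rw [Scheme.IdealSheafData.range_subschemeι]
    rfl
  have hloc : FlatMor.localDim ↥((X' : Set X) ∩ f.base ⁻¹' {f.base
        ((Scheme.IdealSheafData.vanishingIdeal X').subschemeι.base w)})
      ⟨(Scheme.IdealSheafData.vanishingIdeal X').subschemeι.base w, ⟨hx, rfl⟩⟩ =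
      ((k' + t' : ℕ) : WithBot ℕ∞) := by
    rw [← hfd, ← Groth.Agent.Helper5.SubDim.localDim_inter_fibre f
      (Scheme.IdealSheafData.vanishingIdeal X').subschemeι w ⟨⟨w, rfl⟩, rfl⟩]
    exact Groth.Agent.Helper5.SubDim.localDim_congr_set _ _ (by rw [hrX]) _ _ _
  intro hdB
  rw [hdB, hloc, ht'2, ha, hD, hk, hc, hk', hfd, he]
  exact Groth.Agent.Helper5.SubDim.arith_iff2 D k a c t' e k' h1 h2 h3 h4

end Groth.Agent.S4986
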