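import Groth.Statements.S4996
import Groth.Agent.Helper2.GeomRegSmooth

set_option autoImplicit false
universe u
open Unram17

namespace Groth.Agent.S4996

open TensorProduct in
/-- Let B be a finitely presented algebra over a commutative ring A. Then B is smooth over A if and only
if B is flat over A and every fibre ring κ(p) ⊗_A B, p a prime of A, is geometrically regular over
the residue field κ(p), i.e. stays a regular ring after base change to any finite extension of κ(p). -/
theorem result (A B : Type u) [CommRing A] [CommRing B]
    [Algebra A B] [Algebra.FinitePresentation A B] :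
    Algebra.Smooth A B ↔
      Module.Flat A B ∧ ∀ (p : Ideal A) [p.IsPrime], CAlg.IsGeometricallyRegular p.ResidueField (p.Fiber B) := by
  constructor
  · intro hs
    obtain ⟨hflat, hfib⟩ := Groth.Agent.Helper2.RegHom2.isRegularHom_of_smooth A B
    exact ⟨hflat, fun p hp => (hfib p).2⟩
  · rintro ⟨hflat, hfib⟩
    refine Algebra.Smooth.of_formallySmooth_fiber (fun p hp => ?_)
    haveI := Groth.Agent.Helper2.GeomRegSmooth.smooth_of_isGeometricallyRegular
      p.ResidueField (p.Fiber B) (hfib p)
    infer_instance

end Groth.Agent.S4996
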