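import Groth.Statements.S5031
import Groth.Agent.Lead.LimExistProp
import Groth.Agent.Lead.SubalgSys
import Mathlib

set_option autoImplicit false
universe u
open CategoryTheory CategoryTheory.Limits AlgebraicGeometry TopologicalSpace
open Unram17

namespace Groth.Agent.S5031

/-- Let A be a commutative ring and f : X ⟶ Spec A an etale morphism that is quasi-compact and
quasi-separated (hence of finite presentation). Then there exist a finitely generated ℤ-subalgebra
A₀ of A, a scheme X₀ with an etale morphism of finite type f₀ : X₀ ⟶ Spec A₀, and a morphism X ⟶ X₀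
making X the base change of X₀ along Spec A ⟶ Spec A₀. This is the case of etale morphisms (the
converse is stability under base change). -/
theorem result (A : Type u) [CommRing A] {X : Scheme.{u}}
    (f : X ⟶ Spec (CommRingCat.of A)) [Etale f] [QuasiCompact f] [QuasiSeparated f] :
    ∃ A₀ : Subalgebra ℤ A, A₀.FG ∧
      ∃ (X₀ : Scheme.{u}) (f₀ : X₀ ⟶ Spec (CommRingCat.of ↥A₀)) (g : X ⟶ X₀),
        Etale f₀ ∧ QuasiCompact f₀ ∧
          IsPullback g f f₀ (Spec.map (CommRingCat.ofHom (algebraMap (↥A₀) A))) := by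
  classical
  have hbot : (⊥ : Subalgebra ℤ A).FG := Subalgebra.fg_bot
  haveI := Groth.Agent.Lead.SubalgSys.isCofiltered (A := A) hbot
  have hc : IsLimit (Groth.Agent.Lead.SubalgSys.cone A ⊥) :=
    Groth.Agent.Lead.SubalgSys.coneIsLimit hbot
  have : CompactSpace X := QuasiCompact.compactSpace_of_compactSpace f
  have : QuasiSeparatedSpace X := quasiSeparatedSpace_of_quasiSeparated f
  let f' : X ⟶ (Groth.Agent.Lead.SubalgSys.cone A ⊥).pt := f
  have h1 : Etale f' := ‹Etale f›
  have h2 : LocallyOfFinitePresentation f' := inferInstance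
  obtain ⟨j, M, hM⟩ := Groth.Agent.Lead.LimExist.exists_model_prop hc @Etale
    (fun i₀ X₀ f₀ _ _ _ h ↦ Groth.Agent.Lead.LimSmooth.etale_descends hc i₀ (𝟙 _) f₀ h) f' h1
  have := M.cpt
  exact ⟨j.unop.1, j.unop.2.1, M.Xi, M.fi, M.g, hM, inferInstance, M.sq⟩

end Groth.Agent.S5031
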