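import Groth.Statements.S5033
import Groth.Agent.Helper2.RegSeq3
open IsLocalRing Groth.Agent.Helper2 RingTheory.Sequence
-- import your own Groth.Agent.* helpers here

set_option autoImplicit false
universe u
open CInt

namespace Groth.Agent.S5033

/-- Let A be a Noetherian local ring and J an ideal such that A/J is a regular local ring. Then A is a
regular local ring if and only if J is generated by a regular sequence of A. -/
theorem result (A : Type u) [CommRing A] [IsNoetherianRing A]
    [IsLocalRing A] (J : Ideal A) [IsRegularLocalRing (A ⧸ J)] :
    IsRegularLocalRing A ↔ CInt.IsRegularIdeal J := by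
  have hJtop : J ≠ ⊤ := by
    intro h
    have h1 : Nontrivial (A ⧸ J) := inferInstance
    have h2 : Subsingleton (A ⧸ J) := Ideal.Quotient.subsingleton_iff.2 h
    exact not_subsingleton (A ⧸ J) h2
  constructor
  · intro hreg
    obtain ⟨c, x, hli, hJ⟩ := RegSeq3.exists_indep_generators J hJtop inferInstance
    obtain ⟨h1, h2⟩ := RegSeq3.isRegular_ofFn c x hli
    exact ⟨_, h1, h2.trans hJ.symm⟩
  · rintro ⟨rs, hrs, hJ⟩
    have hmem : ∀ a ∈ rs, a ∈ maximalIdeal A := by
      intro a ha
      have : a ∈ J := by
        rw [← hJ]
        exact Ideal.subset_span ha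
      exact IsLocalRing.le_maximalIdeal hJtop this
    have hdim := ringKrullDim_add_length_eq_ringKrullDim_of_isRegular rs hrs
    set x : Fin rs.length → maximalIdeal A := fun i => ⟨rs.get i, hmem _ (List.get_mem rs i)⟩ with hx
    have hspan : Ideal.span (Set.range fun i => (x i : A)) = J := by
      rw [← hJ]
      unfold Ideal.ofList
      congr 1
      ext a
      simp only [hx, Set.mem_range, Set.mem_ofPred_eq]
      constructor
      · rintro ⟨i, rfl⟩
        exact List.get_mem rs i
      · intro ha
        obtain ⟨i, hi⟩ := List.get_of_mem ha
        exact ⟨i, hi⟩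
    have hreg : IsRegularLocalRing (A ⧸ Ideal.span (Set.range fun i => (x i : A))) := by
      rw [hspan]; infer_instance
    have hdim' : ringKrullDim (A ⧸ Ideal.span (Set.range fun i => (x i : A))) + rs.length
        = ringKrullDim A := by
      rw [hspan, ← hJ]; exact hdim
    exact (RegSeq.regular_of_quotient_regular rs.length x hdim' hreg).1

end Groth.Agent.S5033
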