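import Groth.Statements.S5042
import Mathlib
import Groth.Agent.Helper7.CKC11

set_option autoImplicit false
universe u
open Hensel

namespace Groth.Agent.S5042

/-- The henselization S of an excellent local ring R is excellent. -/
theorem result (R S : Type u) [CommRing R] [IsLocalRing R]
    [CommRing S] [IsLocalRing S] [Algebra R S] [IsLocalHom (algebraMap R S)] [Hensel.IsHenselization R S]
    (h : EGA4.IsExcellent R) : EGA4.IsExcellent S := by
    exact Groth.Agent.Helper7.CKd.s5042 R S h

end Groth.Agent.S5042
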