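import Groth.Statements.S5047
import Groth.Agent.Helper2.UnrFD3

set_option autoImplicit false
open CategoryTheory AlgebraicGeometry
universe u
open Unram

namespace Groth.Agent.S5047

/-- Consider morphisms g : Y ⟶ S and h : X ⟶ S, both locally of finite presentation, where h is flat and
every local ring of every fibre of g is a normal domain (this holds, e.g., when g is smooth). Given
an S-morphism f : X ⟶ Y, the morphism f is an open immersion exactly when it is a monomorphism and,
at each point x of X, the local dimension at x of the h-fibre containing x coincides with the local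
dimension at f x of the g-fibre containing f x. -/
theorem result {X Y S : Scheme.{u}} (g : Y ⟶ S) (h : X ⟶ S)
    [LocallyOfFinitePresentation g] [LocallyOfFinitePresentation h] [Flat h]
    (hnorm : ∀ y : Y, IsDomain ((g.fiber (g.base y)).presheaf.stalk (g.asFiber y)) ∧
      IsIntegrallyClosed ((g.fiber (g.base y)).presheaf.stalk (g.asFiber y)))
    (f : X ⟶ Y) (w : f ≫ g = h) :
    IsOpenImmersion f ↔ (Mono f ∧ ∀ x : X, FlatMor.fibreDimAt h x = FlatMor.fibreDimAt g (f.base x)) := by
  subst w
  haveI : LocallyOfFinitePresentation f :=
    Groth.Agent.Helper2.LfpComp.locallyOfFinitePresentation_of_comp f g inferInstance inferInstance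
  constructor
  · intro hf
    haveI := hf
    refine ⟨inferInstance, fun x => ?_⟩
    refine Groth.Agent.Helper2.UnrFD.main_fwd f g x ⟨⊤, trivial, ?_⟩
    infer_instance
  · rintro ⟨hmono, hdim⟩
    haveI := hmono
    haveI : IsOpenImmersion (Limits.pullback.diagonal f) := inferInstance
    haveI : FormallyUnramified f := inferInstance
    haveI : Flat f := by
      rw [Flat.iff_flat_stalkMap]
      intro x
      have h1 := Groth.Agent.Helper2.UnrFD.main_bwd f g x (Flat.stalkMap (f ≫ g) x) (hnorm (f x))
        ⟨⊤, trivial, inferInstance⟩ (hdim x)
      exact ((Groth.Agent.Helper3.StalkNbhd.etale_nbhd_iff f x).mp h1).1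
    exact IsOpenImmersion.of_flat_of_mono f

end Groth.Agent.S5047
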