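import Groth.Statements.S5048
import Mathlib

set_option autoImplicit false
open CategoryTheory AlgebraicGeometry
universe u
open scoped TensorProduct
open Unram

namespace Groth.Agent.S5048

/-- Let Y be an irreducible scheme with generic point η and f : X ⟶ Y flat, locally of finite type and
locally quasi-finite. Then a point x of X maps to η if and only if its closure is an irreducible
component of X; thus the irreducible components of X are in canonical bijection with the fibre over
η. -/
theorem result {X Y : Scheme.{u}} [IrreducibleSpace ↥Y] (f : X ⟶ Y)
    [Flat f] [LocallyOfFiniteType f] [LocallyQuasiFinite f] (x : X) :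
    f.base x = genericPoint Y ↔ closure ({x} : Set ↥X) ∈ irreducibleComponents ↥X := by
  constructor
  · intro hx
    refine ⟨isIrreducible_singleton.closure, fun t ht hxt => ?_⟩
    have htc : IsIrreducible (closure t) := ht.closure
    obtain ⟨z, hz⟩ := QuasiSober.sober htc isClosed_closure
    have hzx : z ⤳ x := by
      rw [specializes_iff_mem_closure, hz]
      exact subset_closure (hxt (subset_closure rfl))
    have h1 : f.base z ⤳ f.base x := hzx.map f.continuous
    have h2 : f.base z = genericPoint Y := by
      rw [hx] at h1
      exact (h1.antisymm (genericPoint_specializes _)).eq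
    have hdisc : _root_.IsDiscrete (f.base ⁻¹' {genericPoint Y}) := f.isDiscrete_preimage_singleton _
    haveI : DiscreteTopology ↥(f.base ⁻¹' {genericPoint Y}) := hdisc.to_subtype
    have h3 : (⟨z, h2⟩ : ↥(f.base ⁻¹' {genericPoint Y})) ⤳ ⟨x, hx⟩ :=
      Topology.IsInducing.subtypeVal.specializes_iff.mp hzx
    have h4 : z = x := congrArg Subtype.val h3.eq
    calc t ⊆ closure t := subset_closure
      _ = closure {z} := hz.symm
      _ = closure {x} := by rw [h4]
  · intro hx
    have h1 : genericPoint Y ⤳ f.base x := genericPoint_specializes _
    obtain ⟨x', hx'x, hx'⟩ := (Flat.generalizingMap f) h1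
    have h2 : closure {x} ⊆ closure {x'} := by
      rw [← specializes_iff_closure_subset]; exact hx'x
    have h3 : closure {x'} ⊆ closure {x} := hx.2 isIrreducible_singleton.closure h2
    have h4 : x ⤳ x' := by
      rw [specializes_iff_closure_subset]; exact h3
    have h5 : x = x' := (h4.antisymm hx'x).eq
    rw [h5]; exact hx'

end Groth.Agent.S5048
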