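import Groth.Statements.S5049
import Mathlib

set_option autoImplicit false
open CategoryTheory AlgebraicGeometry
universe u
open scoped TensorProduct
open Unram

namespace Groth.Agent.S5049

/-- Let f : X ⟶ Y be flat, locally of finite type and locally quasi-finite. If the irreducible
components of Y form a locally finite family of subsets, then so do the irreducible components of X. -/
theorem result {X Y : Scheme.{u}} (f : X ⟶ Y)
    [Flat f] [LocallyOfFiniteType f] [LocallyQuasiFinite f]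
    (hY : LocallyFinite (fun Z : ↥(irreducibleComponents ↥Y) => (Z : Set ↥Y))) :
    LocallyFinite (fun Z : ↥(irreducibleComponents ↥X) => (Z : Set ↥X)) := by
  classical
  have lemA : ∀ ξ : X, closure ({ξ} : Set X) ∈ irreducibleComponents X →
      closure ({f.base ξ} : Set Y) ∈ irreducibleComponents Y := by
    intro ξ hξ
    refine ⟨isIrreducible_singleton.closure, fun t' ht' hsub => ?_⟩
    obtain ⟨y', hy'⟩ := QuasiSober.sober ht'.closure isClosed_closure
    have h1 : y' ⤳ f.base ξ := by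
      rw [specializes_iff_mem_closure, hy']
      exact subset_closure (hsub (subset_closure rfl))
    obtain ⟨ξ', hξ'ξ, hξ'⟩ := (Flat.generalizingMap f) h1
    have h2 : closure {ξ} ⊆ closure {ξ'} := by
      rw [← specializes_iff_closure_subset]; exact hξ'ξ
    have h3 := hξ.2 isIrreducible_singleton.closure h2
    have h4 : ξ ⤳ ξ' := by rw [specializes_iff_closure_subset]; exact h3
    have h5 : ξ' = ξ := (hξ'ξ.antisymm h4).eq
    rw [h5] at hξ'
    calc t' ⊆ closure t' := subset_closure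
      _ = closure {y'} := hy'.symm
      _ = closure {f.base ξ} := by rw [hξ']
  intro x
  obtain ⟨t, ht, hfin⟩ := hY (f.base x)
  obtain ⟨_, ⟨V, hV, rfl⟩, hxV, hVt⟩ := Y.isBasis_affineOpens.exists_subset_of_mem_open
    (mem_interior_iff_mem_nhds.mpr ht) isOpen_interior
  obtain ⟨_, ⟨U, hU, rfl⟩, hxU, hUV : U ≤ f ⁻¹ᵁ V⟩ :=
    X.isBasis_affineOpens.exists_subset_of_mem_open hxV (f ⁻¹ᵁ V).2
  refine ⟨U, U.2.mem_nhds hxU, ?_⟩
  have hgen : ∀ Z : ↥(irreducibleComponents ↥X), ∃ ξ : X, closure ({ξ} : Set X) = (Z : Set X) :=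
    fun Z => QuasiSober.sober Z.2.1 (isClosed_of_mem_irreducibleComponents _ Z.2)
  choose ξ hξ using hgen
  have hξinj : Function.Injective ξ := fun Z Z' h => Subtype.ext (by rw [← hξ Z, ← hξ Z', h])
  let G : ↥(irreducibleComponents ↥X) → ↥(irreducibleComponents ↥Y) := fun Z =>
    ⟨closure {f.base (ξ Z)}, lemA _ (by rw [hξ]; exact Z.2)⟩
  have hξU : ∀ Z : ↥(irreducibleComponents ↥X), ((Z : Set X) ∩ U).Nonempty → ξ Z ∈ U := by
    rintro Z ⟨a, haZ, haU⟩
    rw [← hξ Z] at haZ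
    obtain ⟨b, hbU, hb⟩ := mem_closure_iff.mp haZ U U.2 haU
    rw [Set.mem_singleton_iff] at hb
    exact hb ▸ hbU
  haveI : IsAffine (Scheme.Opens.toScheme U) := hU
  haveI : IsAffine (Scheme.Opens.toScheme V) := hV
  have hfib : ∀ y₀ : Y, ∀ hy₀ : y₀ ∈ V, ((U : Set X) ∩ f.base ⁻¹' {y₀}).Finite := by
    intro y₀ hy₀
    have h1 : ((f.resLE V U hUV).base ⁻¹' {⟨y₀, hy₀⟩}).Finite :=
      (f.resLE V U hUV).finite_preimage_singleton _
    refine (h1.image (fun u : ↥(Scheme.Opens.toScheme U) => (u.1 : X))).subset ?_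
    rintro a ⟨haU, ha⟩
    refine ⟨⟨a, haU⟩, ?_, rfl⟩
    have h2 : ((Scheme.Opens.ι V) ((f.resLE V U hUV) ⟨a, haU⟩) : Y) = f.base a := by
      rw [← Scheme.Hom.comp_apply, Scheme.Hom.resLE_comp_ι]
      rfl
    apply Subtype.ext
    rw [Set.mem_preimage, Set.mem_singleton_iff] at ha
    exact h2.trans ha
  refine Set.Finite.of_finite_fibers G ?_ ?_
  · refine hfin.subset ?_
    rintro W ⟨Z, hZ, rfl⟩
    refine ⟨f.base (ξ Z), subset_closure rfl, ?_⟩
    exact interior_subset (hVt (hUV (hξU Z hZ)))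
  · rintro W ⟨Z₀, hZ₀, rfl⟩
    refine Set.Finite.of_finite_image ((hfib (f.base (ξ Z₀)) (hUV (hξU Z₀ hZ₀))).subset ?_)
      hξinj.injOn
    rintro _ ⟨Z, ⟨hZ, hGZ⟩, rfl⟩
    refine ⟨hξU Z hZ, ?_⟩
    have h1 : closure ({f.base (ξ Z)} : Set Y) = closure {f.base (ξ Z₀)} :=
      congrArg Subtype.val hGZ
    exact ((inseparable_iff_closure_eq.mpr h1).eq : f.base (ξ Z) = f.base (ξ Z₀))

end Groth.Agent.S5049
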