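import Groth.Statements.S5050
import Mathlib
-- import your own Groth.Agent.* helpers here

set_option autoImplicit false
universe u v
open CInt

namespace Groth.Agent.S5050

/-- Let A be a Noetherian ring, N a finitely generated A-module, E and F submodules of N and Q an ideal
of A. For every natural number k there is h > 0 with E ⊓ (F ⊔ Q^h N) ≤ (E ⊓ F) ⊔ Q^k N. -/
theorem result {A : Type u} [CommRing A] [IsNoetherianRing A] {N : Type v} [AddCommGroup N]
    [Module A N] [Module.Finite A N] (E F : Submodule A N) (Q : Ideal A) (k : ℕ) :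
    ∃ h : ℕ, 0 < h ∧ E ⊓ (F ⊔ Q ^ h • (⊤ : Submodule A N)) ≤ (E ⊓ F) ⊔ Q ^ k • (⊤ : Submodule A N) := by
  obtain ⟨c, hc⟩ := Ideal.exists_pow_inf_eq_pow_smul Q (E.map F.mkQ)
  refine ⟨k + c + 1, Nat.succ_pos _, ?_⟩
  intro e he
  obtain ⟨heE, heF⟩ := he
  have h1 : F.mkQ e ∈ Q ^ (k + c + 1) • (⊤ : Submodule A (N ⧸ F)) := by
    have := Submodule.mem_map_of_mem (f := F.mkQ) heF
    rw [Submodule.map_sup, Submodule.mkQ_map_self, bot_sup_eq, Submodule.map_smul'',
      Submodule.map_top, Submodule.range_mkQ] at this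
    exact this
  have h2 : F.mkQ e ∈ E.map F.mkQ := Submodule.mem_map_of_mem heE
  have h3 : F.mkQ e ∈ Q ^ (k + c + 1) • (⊤ : Submodule A (N ⧸ F)) ⊓ E.map F.mkQ := ⟨h1, h2⟩
  rw [hc (k + c + 1) (by omega)] at h3
  have h4 : Q ^ (k + c + 1 - c) • (Q ^ c • (⊤ : Submodule A (N ⧸ F)) ⊓ E.map F.mkQ) ≤
      (Q ^ k • E).map F.mkQ := by
    rw [Submodule.map_smul'']
    refine Submodule.smul_mono (Ideal.pow_le_pow_right (by omega)) inf_le_right
  obtain ⟨e', he', hee'⟩ := h4 h3
  have h5 : e - e' ∈ F := by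
    rw [← Submodule.Quotient.mk_eq_zero, Submodule.Quotient.mk_sub]
    have : F.mkQ e' = F.mkQ e := hee'
    simp only [Submodule.mkQ_apply] at this
    rw [this, sub_self]
  have h6 : e' ∈ E := Submodule.smul_le_right he'
  have h7 : e' ∈ Q ^ k • (⊤ : Submodule A N) := Submodule.smul_mono le_rfl le_top he'
  have : e = (e - e') + e' := by abel
  rw [this]
  exact Submodule.add_mem_sup ⟨E.sub_mem heE h6, h5⟩ h7

end Groth.Agent.S5050
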