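import Groth.Statements.S5051
import Groth.Agent.Helper4.GeomPtsD
import Groth.Agent.Helper4.SchLQF
import Mathlib

set_option autoImplicit false
open CategoryTheory AlgebraicGeometry
universe u
open Unram

namespace Groth.Agent.S5051


/-- Let f : X ⟶ Y be étale, separated and of finite type. Then y ↦ (number of points of the geometric
fibre of f at y) is lower semicontinuous on Y. -/
theorem result {X Y : Scheme.{u}} (f : X ⟶ Y) [Etale f] [IsSeparated f]
    [LocallyOfFiniteType f] [QuasiCompact f] :
    LowerSemicontinuous (fun y : Y => ENat.card ↥(MoreMor.geomFiber f y)) := by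

  haveI : LocallyQuasiFinite f := Groth.Agent.Helper4.SchLQF.locallyQuasiFinite_of_etale f
  haveI : UniversallyOpen f := UniversallyOpen.of_flat f
  have hcard : ∀ y : Y, ENat.card ↥(MoreMor.geomFiber f y) = MoreMor.nGeomConnComp f y := by
    intro y
    haveI := Groth.Agent.Helper4.GeomFibQF.discreteTopology_geomFiber f y
    unfold MoreMor.nGeomConnComp
    rw [Groth.Agent.Helper4.GeomFibQF.card_connectedComponents_of_discrete]
  intro y a ha
  obtain ⟨V, hV, hVc⟩ := Groth.Agent.Helper4.GeomPtsD.lsc_at f y
    (Groth.Agent.Helper4.GeomPtsD.hopen_of_universallyOpen f y)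
  refine Filter.mem_of_superset hV (fun z hz => ?_)
  show a < ENat.card ↥(MoreMor.geomFiber f z)
  rw [hcard z]
  replace ha : a < ENat.card ↥(MoreMor.geomFiber f y) := ha
  rw [hcard y] at ha
  exact lt_of_lt_of_le ha (hVc z hz)

end Groth.Agent.S5051
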