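import Groth.Statements.S5052
import Groth.Agent.Helper4.FinEtCountB
import Mathlib

set_option autoImplicit false
open CategoryTheory AlgebraicGeometry
universe u
open Unram

namespace Groth.Agent.S5052


/-- Let f : X ⟶ Y be étale, separated and of finite type, and y a point of Y. The number of points of
the geometric fibre is constant on a neighbourhood of y if and only if the restriction of f over
some open neighbourhood of y is a finite morphism. -/
theorem result {X Y : Scheme.{u}} (f : X ⟶ Y) [Etale f] [IsSeparated f]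
    [LocallyOfFiniteType f] [QuasiCompact f] (y : Y) :
    (∃ U : Y.Opens, y ∈ U ∧ ∀ y' : Y, y' ∈ U → ENat.card ↥(MoreMor.geomFiber f y') = ENat.card ↥(MoreMor.geomFiber f y)) ↔
      ∃ U : Y.Opens, y ∈ U ∧ IsFinite (f ∣_ U) := by

  haveI : LocallyQuasiFinite f := Groth.Agent.Helper4.SchLQF.locallyQuasiFinite_of_etale f
  haveI : UniversallyOpen f := UniversallyOpen.of_flat f
  have hfin : ∀ y : Y, (f ⁻¹' {y}).Finite := fun y => f.finite_preimage_singleton y
  have hcard : ∀ y : Y, ENat.card ↥(MoreMor.geomFiber f y) = MoreMor.nGeomConnComp f y := by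
    intro y
    haveI := Groth.Agent.Helper4.GeomFibQF.discreteTopology_geomFiber f y
    unfold MoreMor.nGeomConnComp
    rw [Groth.Agent.Helper4.GeomFibQF.card_connectedComponents_of_discrete]
  constructor
  · rintro ⟨U, hyU, hU⟩
    exact Groth.Agent.Helper4.GeomPtsD.finite_nhd f y
      (Groth.Agent.Helper4.GeomPtsD.hopen_of_universallyOpen f y)
      ⟨U, U.2.mem_nhds hyU, fun z hz => by rw [← hcard z, ← hcard y]; exact hU z hz⟩
  · rintro ⟨U, hyU, hU⟩
    obtain ⟨U', hyU', hU'⟩ := Groth.Agent.Helper4.FinEtCountB.N_const_nhd_of_finite f U y hyU hU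
    refine ⟨U', hyU', fun y' hy' => ?_⟩
    rw [Groth.Agent.Helper4.FinEtCountB.card_geomFiber_eq f y' (hfin y'),
      Groth.Agent.Helper4.FinEtCountB.card_geomFiber_eq f y (hfin y), hU' y' hy']

end Groth.Agent.S5052
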