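import Groth.Statements.S5053
import Groth.Agent.Helper4.FinEtCountB
import Mathlib

set_option autoImplicit false
open CategoryTheory AlgebraicGeometry
universe u
open Unram

namespace Groth.Agent.S5053


/-- Let Y be a connected scheme and f : X ⟶ Y étale, separated and of finite type. Then f is finite if
and only if all geometric fibres of f have the same number of points. -/
theorem result {X Y : Scheme.{u}} [ConnectedSpace ↥Y] (f : X ⟶ Y)
    [Etale f] [IsSeparated f] [LocallyOfFiniteType f] [QuasiCompact f] :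
    IsFinite f ↔ ∃ n : ℕ∞, ∀ y : Y, ENat.card ↥(MoreMor.geomFiber f y) = n := by

  haveI : LocallyQuasiFinite f := Groth.Agent.Helper4.SchLQF.locallyQuasiFinite_of_etale f
  haveI : UniversallyOpen f := UniversallyOpen.of_flat f
  have hfin : ∀ y : Y, (f ⁻¹' {y}).Finite := fun y => f.finite_preimage_singleton y
  have hcard : ∀ y : Y, ENat.card ↥(MoreMor.geomFiber f y) = MoreMor.nGeomConnComp f y := by
    intro y
    haveI := Groth.Agent.Helper4.GeomFibQF.discreteTopology_geomFiber f y
    unfold MoreMor.nGeomConnComp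
    rw [Groth.Agent.Helper4.GeomFibQF.card_connectedComponents_of_discrete]
  constructor
  · intro hf
    have hlc : IsLocallyConstant (fun y : Y => Groth.Agent.Helper4.GeomPtsB.N f y) := by
      rw [IsLocallyConstant.iff_exists_open]
      intro y
      obtain ⟨O, hO, hyO, hOc⟩ := Groth.Agent.Helper4.FinEtCountB.N_locConst f y
      exact ⟨O, hO, hyO, hOc⟩
    obtain ⟨y₀⟩ : Nonempty ↥Y := inferInstance
    refine ⟨ENat.card ↥(MoreMor.geomFiber f y₀), fun y => ?_⟩
    rw [Groth.Agent.Helper4.FinEtCountB.card_geomFiber_eq f y (hfin y),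
      Groth.Agent.Helper4.FinEtCountB.card_geomFiber_eq f y₀ (hfin y₀),
      hlc.apply_eq_of_preconnectedSpace y y₀]
  · rintro ⟨n, hn⟩
    have h : ∀ y : Y, ∃ U : Y.Opens, y ∈ U ∧ IsFinite (f ∣_ U) := by
      intro y
      exact Groth.Agent.Helper4.GeomPtsD.finite_nhd f y
        (Groth.Agent.Helper4.GeomPtsD.hopen_of_universallyOpen f y)
        ⟨Set.univ, Filter.univ_mem, fun z _ => by rw [← hcard z, ← hcard y, hn z, hn y]⟩
    choose U hyU hU using h
    refine IsZariskiLocalAtTarget.of_iSup_eq_top (P := @IsFinite) U ?_ hU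
    rw [eq_top_iff]
    intro y _
    exact TopologicalSpace.Opens.mem_iSup.mpr ⟨y, hyU y⟩

end Groth.Agent.S5053
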