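import Groth.Statements.S5062
import Mathlib
import Groth.Agent.Helper3.StrictHensSec

set_option autoImplicit false
open CategoryTheory AlgebraicGeometry
universe u
open scoped TensorProduct
open Hensel

namespace Groth.Agent.S5062

/-- a) iff c): a local ring A is henselian with separably closed residue field if and only if, for every
étale morphism f : X ⟶ Spec A and every point x of X lying over the closed point s, there is a
section u of f with u s = x. -/
theorem result (A : Type u) [CommRing A] [IsLocalRing A] :
    (HenselianLocalRing A ∧ IsSepClosed (IsLocalRing.ResidueField A)) ↔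
      ∀ (X : Scheme.{u}) (f : X ⟶ Spec (CommRingCat.of A)), Etale f →
        ∀ x : X, f.base x = IsLocalRing.closedPoint A →
          ∃ u : Spec (CommRingCat.of A) ⟶ X, u ≫ f = 𝟙 _ ∧ u.base (IsLocalRing.closedPoint A) = x := by
  constructor
  · rintro ⟨h1, h2⟩ X f hf x hx
    exact Groth.Agent.Helper3.StrictHensSec.exists_section_through A X f x hx
  · intro H
    have H' := Groth.Agent.Helper3.StrictHensSec.ring_sections A H
    exact ⟨Groth.Agent.Helper3.StrictHensSec.hens_of_ring_sections A H',
      Groth.Agent.Helper3.StrictHensSec.sepClosed_of_ring_sections A H'⟩

end Groth.Agent.S5062
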