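import Groth.Statements.S5067
import Groth.Agent.Helper5.EtOI2

set_option autoImplicit false
open CategoryTheory AlgebraicGeometry
universe u
open Unram

namespace Groth.Agent.S5067

/-- Let f : X ⟶ Y be an étale separated morphism of integral schemes which maps the generic point of X
to the generic point of Y and induces a bijection between the residue fields of the generic points
(f is birational). Then f is an open immersion. -/
theorem result {X Y : Scheme.{u}} [IsIntegral X] [IsIntegral Y]
    (f : X ⟶ Y) [Etale f] [IsSeparated f] (hgen : f.base (genericPoint X) = genericPoint Y)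
    (hbir : Function.Bijective (f.residueFieldMap (genericPoint X)).hom) : IsOpenImmersion f := by
  have hmax : ∀ ξ : X, closure ({ξ} : Set X) ∈ irreducibleComponents (X : Type u) →
      ξ = genericPoint X := by
    intro ξ hξ
    have huniv : closure ({ξ} : Set X) = Set.univ := by
      have hirr : IsIrreducible (Set.univ : Set X) := IrreducibleSpace.isIrreducible_univ X
      exact (Set.eq_univ_of_univ_subset (hξ.2 hirr (Set.subset_univ _)))
    have h1 : IsGenericPoint ξ (Set.univ : Set X) := huniv
    exact h1.eq (genericPoint_spec X)
  apply Groth.Agent.Helper5.EtOI.isOpenImmersion_of_etale f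
  · intro ξ ξ' hξ hξ' _
    rw [hmax ξ hξ, hmax ξ' hξ']
  · intro ξ hξ
    rw [hmax ξ hξ]
    exact (ConcreteCategory.isIso_iff_bijective _).2 hbir

end Groth.Agent.S5067
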