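import Groth.Statements.S5069
import Mathlib
-- import your own Groth.Agent.* helpers here

set_option autoImplicit false
universe u v
open Hensel

namespace Groth.Agent.S5069

/-- First assertion, phrased for the images of the inductive system: let B be a Noetherian commutative
ring and (C_i) a family of Artinian subrings of B, directed under inclusion, whose union is B. Then
B is an Artinian ring. -/
theorem result (B : Type u) [CommRing B] [IsNoetherianRing B]
    {ι : Type v} [Nonempty ι] (C : ι → Subring B) (hdir : Directed (fun a b => a ≤ b) C)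
    (hart : ∀ i, IsArtinianRing ↥(C i)) (hcov : ∀ b : B, ∃ i, b ∈ C i) : IsArtinianRing B := by
  rw [isArtinianRing_iff_krullDimLE_zero]
  apply Ring.KrullDimLE.mk₀
  intro P hP
  rw [Ideal.isMaximal_iff]
  refine ⟨fun h1 => hP.ne_top ((Ideal.eq_top_iff_one P).mpr h1), ?_⟩
  intro J x hPJ hxP hxJ
  obtain ⟨i, hi⟩ := hcov x
  haveI := hart i
  let Pi : Ideal ↥(C i) := P.comap (C i).subtype
  haveI : Pi.IsPrime := Ideal.comap_isPrime _ P
  have hmax : Pi.IsMaximal := inferInstance
  have hx' : (⟨x, hi⟩ : ↥(C i)) ∉ Pi := fun h => hxP h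
  obtain ⟨c, t, ht, hc⟩ := hmax.exists_inv hx'
  have h1 : x * (c : B) - 1 ∈ P := by
    have e : (⟨x, hi⟩ : ↥(C i)) * c - 1 = -t := by
      rw [← hc]; ring
    have : (⟨x, hi⟩ : ↥(C i)) * c - 1 ∈ Pi := by rw [e]; exact Pi.neg_mem ht
    exact this
  have h2 : x * (c : B) - 1 ∈ J := hPJ h1
  have h3 : x * (c : B) ∈ J := J.mul_mem_right _ hxJ
  have : (1 : B) = x * (c : B) - (x * (c : B) - 1) := by ring
  rw [this]
  exact J.sub_mem h3 h2

end Groth.Agent.S5069
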