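import Groth.Statements.S5073
import Mathlib
-- import your own Groth.Agent.* helpers here

set_option autoImplicit false
universe u
open EGA418

namespace Groth.Agent.S5073

/-- Let A be a Noetherian local ring, p a prime ideal and x an element of A. Then there is an element x'
of A whose image in A_p equals that of x and which belongs to no minimal prime ideal of A not
contained in p. -/
theorem result (A : Type u) [CommRing A] [IsNoetherianRing A] [IsLocalRing A]
    (p : Ideal A) [p.IsPrime] (x : A) :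
    ∃ x' : A, algebraMap A (Localization.AtPrime p) x' = algebraMap A (Localization.AtPrime p) x ∧
      ∀ q ∈ minimalPrimes A, ¬ q ≤ p → x' ∉ q := by
  classical
  let K : Ideal A := RingHom.ker (algebraMap A (Localization.AtPrime p))
  have hfin := minimalPrimes.finite_of_isNoetherianRing A
  let S : Finset (Ideal A) := hfin.toFinset.filter (fun q => ¬ q ≤ p)
  let S₁ := S.filter (fun q => x ∈ q)
  let S₂ := S.filter (fun q => x ∉ q)
  have hSmem : ∀ q, q ∈ S ↔ q ∈ minimalPrimes A ∧ ¬ q ≤ p := by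
    intro q; simp [S]
  have hprime : ∀ q ∈ S, q.IsPrime := fun q hq => ((hSmem q).mp hq).1.1.1
  have hK : ∀ q ∈ S, ¬ K ≤ q := by
    intro q hq hKq
    obtain ⟨hqmin, hqp⟩ := (hSmem q).mp hq
    have hqprime : q.IsPrime := hqmin.1.1
    have hq_mem : q ∈ (Ideal.comap (algebraMap A (Localization.AtPrime p)) ⊥).minimalPrimes :=
      ⟨⟨hqprime, hKq⟩, fun r hr hrq => hqmin.2 ⟨hr.1, bot_le⟩ hrq⟩
    obtain ⟨p', hp', -, hcomap⟩ := Ideal.exists_comap_eq_of_mem_minimalPrimes _ q hq_mem
    have hle : p' ≤ IsLocalRing.maximalIdeal (Localization.AtPrime p) :=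
      IsLocalRing.le_maximalIdeal hp'.ne_top
    apply hqp
    rw [← hcomap]
    exact (Ideal.comap_mono hle).trans (le_of_eq (Localization.AtPrime.under_maximalIdeal (I := p)))
  let I : Ideal A := K ⊓ S₂.inf id
  have hI : ∀ q ∈ S₁, ¬ I ≤ q := by
    intro q hq hIq
    have hqS : q ∈ S := (Finset.mem_filter.mp hq).1
    have hqprime := hprime q hqS
    rcases hqprime.inf_le.mp hIq with h | h
    · exact hK q hqS h
    · obtain ⟨q', hq', hq'q⟩ := hqprime.inf_le'.mp h
      have hq'S : q' ∈ S := (Finset.mem_filter.mp hq').1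
      have hq'min := ((hSmem q').mp hq'S).1
      have hqmin := ((hSmem q).mp hqS).1
      have : q ≤ q' := hqmin.2 hq'min.1 hq'q
      have heq : q = q' := le_antisymm this hq'q
      have h1 : x ∈ q := (Finset.mem_filter.mp hq).2
      have h2 : x ∉ q' := (Finset.mem_filter.mp hq').2
      exact h2 (heq ▸ h1)
  have hnot : ¬ ((I : Set A) ⊆ ⋃ q ∈ (S₁ : Set (Ideal A)), (id q : Ideal A)) := by
    rw [Ideal.subset_union_prime (f := id) ⊥ ⊥ (fun q hq _ _ => hprime q (Finset.mem_filter.mp hq).1)]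
    rintro ⟨q, hq, hle⟩
    exact hI q hq hle
  obtain ⟨y, hyI, hy⟩ := Set.not_subset.mp hnot
  have hyK : y ∈ K := (Ideal.mem_inf.mp hyI).1
  have hyS₂ : ∀ q ∈ S₂, y ∈ q := by
    intro q hq
    have := (Ideal.mem_inf.mp hyI).2
    exact (Finset.inf_le hq : S₂.inf id ≤ id q) this
  have hyS₁ : ∀ q ∈ S₁, y ∉ q := by
    intro q hq hyq
    apply hy
    simp only [Set.mem_iUnion]
    exact ⟨q, hq, hyq⟩
  refine ⟨x + y, ?_, ?_⟩
  · rw [map_add, (RingHom.mem_ker).mp hyK, add_zero]
  · intro q hqmin hqp hxy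
    have hqS : q ∈ S := (hSmem q).mpr ⟨hqmin, hqp⟩
    by_cases hx : x ∈ q
    · have hq1 : q ∈ S₁ := Finset.mem_filter.mpr ⟨hqS, hx⟩
      apply hyS₁ q hq1
      have := q.sub_mem hxy hx
      simpa using this
    · have hq2 : q ∈ S₂ := Finset.mem_filter.mpr ⟨hqS, hx⟩
      apply hx
      have := q.sub_mem hxy (hyS₂ q hq2)
      simpa using this

end Groth.Agent.S5073
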