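import Groth.Statements.S5075
import Mathlib
import Groth.Agent.Lead.EtThick

set_option autoImplicit false
open CategoryTheory AlgebraicGeometry
universe u
open Unram

namespace Groth.Agent.S5075

open Limits Groth.Agent.Lead

theorem aux {X S S' S'₀ : Scheme.{u}} (p : X ⟶ S) [Etale p]
    (g : S' ⟶ S) (i : S'₀ ⟶ S') [IsClosedImmersion i] [Surjective i]
    (f₀ : S'₀ ⟶ X) (h₀ : f₀ ≫ p = i ≫ g) :
    ∃! f : S' ⟶ X, f ≫ p = g ∧ i ≫ f = f₀ := by
  let a₀ : pullback (𝟙 S') i ⟶ pullback p g :=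
    pullback.snd (𝟙 S') i ≫ pullback.lift f₀ i h₀
  have ha₀ : a₀ ≫ pullback.snd p g = pullback.snd (𝟙 S') i ≫ i := by
    simp only [a₀, Category.assoc, pullback.lift_snd]
  obtain ⟨a, ha1, ha2⟩ := EtThick.exists_lift i (pullback.snd p g) (𝟙 S') a₀ ha₀
  refine ⟨a ≫ pullback.fst p g, ⟨?_, ?_⟩, ?_⟩
  · rw [Category.assoc, pullback.condition, ← Category.assoc, ha1, Category.id_comp]
  · have hcond : pullback.fst (𝟙 S') i = pullback.snd (𝟙 S') i ≫ i := by
      have := pullback.condition (f := 𝟙 S') (g := i)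
      rwa [Category.comp_id] at this
    have h1 : pullback.snd (𝟙 S') i ≫ (i ≫ a ≫ pullback.fst p g) =
        pullback.snd (𝟙 S') i ≫ f₀ := by
      rw [← Category.assoc, ← hcond, ← Category.assoc, ha2]
      simp only [a₀, Category.assoc, pullback.lift_fst]
    exact (cancel_epi _).mp h1
  · rintro f' ⟨hf'1, hf'2⟩
    have hf1 : (a ≫ pullback.fst p g) ≫ p = g := by
      rw [Category.assoc, pullback.condition, ← Category.assoc, ha1, Category.id_comp]
    have hcond : pullback.fst (𝟙 S') i = pullback.snd (𝟙 S') i ≫ i := by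
      have := pullback.condition (f := 𝟙 S') (g := i)
      rwa [Category.comp_id] at this
    have hf2 : i ≫ (a ≫ pullback.fst p g) = f₀ := by
      have h1 : pullback.snd (𝟙 S') i ≫ (i ≫ a ≫ pullback.fst p g) =
          pullback.snd (𝟙 S') i ≫ f₀ := by
        rw [← Category.assoc, ← hcond, ← Category.assoc, ha2]
        simp only [a₀, Category.assoc, pullback.lift_fst]
      exact (cancel_epi _).mp h1
    exact EtThick.hom_ext_of_surjective i p f' (a ≫ pullback.fst p g) (hf'2.trans hf2.symm)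
      (hf'1.trans hf1.symm)

/-- Let p : X ⟶ S be étale, g : S' ⟶ S a morphism and i : S'₀ ⟶ S' a surjective closed immersion (a
closed subscheme with the same underlying space). Then for every f₀ : S'₀ ⟶ X over S there is
exactly one f : S' ⟶ X over S with i ≫ f = f₀. -/
theorem result {X S S' S'₀ : Scheme.{u}} (p : X ⟶ S) [Etale p]
    (g : S' ⟶ S) (i : S'₀ ⟶ S') [IsClosedImmersion i] [Surjective i]
    (f₀ : S'₀ ⟶ X) (h₀ : f₀ ≫ p = i ≫ g) :
    ∃! f : S' ⟶ X, f ≫ p = g ∧ i ≫ f = f₀ := by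
  exact aux p g i f₀ h₀

end Groth.Agent.S5075
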