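import Groth.Statements.S5078
import Mathlib
-- import your own Groth.Agent.* helpers here

set_option autoImplicit false
universe u v
open Hensel

namespace Groth.Agent.S5078

/-- Let A be a ring, I an ideal such that A is I-adically separated and complete, and M a finitely
generated projective A-module. Then M is I-adically separated and complete. -/
theorem result {A : Type u} [CommRing A] (I : Ideal A) [IsAdicComplete I A]
    (M : Type v) [AddCommGroup M] [Module A M] [Module.Finite A M] [Module.Projective A M] :
    IsAdicComplete I M := by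
  classical
  obtain ⟨n, π, hπ⟩ := Module.Finite.exists_fin' A M
  obtain ⟨s, hs⟩ := Module.projective_lifting_property π LinearMap.id hπ
  have hπs : ∀ y, π (s y) = y := fun y => LinearMap.congr_fun hs y
  -- coordinates
  let φ : Fin n → (M →ₗ[A] A) := fun i => (LinearMap.proj i).comp s
  let x : Fin n → M := fun i => π (Pi.single i 1)
  have hrep : ∀ y : M, y = ∑ i, φ i y • x i := by
    intro y
    conv_lhs => rw [← hπs y, ← Finset.univ_sum_single (s y), map_sum]
    refine Finset.sum_congr rfl fun i _ => ?_
    show π (Pi.single i ((s y) i)) = (s y) i • π (Pi.single i 1)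
    rw [← map_smul]
    congr 1
    rw [← Pi.single_smul', smul_eq_mul, mul_one]
  have hφ : ∀ (i : Fin n) (k : ℕ) (y : M), y ∈ (I ^ k • ⊤ : Submodule A M) → φ i y ∈ I ^ k := by
    intro i k y hy
    have := Submodule.mem_map_of_mem (f := φ i) hy
    rw [Submodule.map_smul''] at this
    have h2 : (I ^ k • Submodule.map (φ i) ⊤ : Submodule A A) ≤ I ^ k • ⊤ := Submodule.smul_mono le_rfl le_top
    have := h2 this
    rwa [smul_eq_mul, Ideal.mul_top] at this
  refine { haus' := ?_, prec' := ?_ }
  · intro y hy
    rw [hrep y]
    refine Finset.sum_eq_zero fun i _ => ?_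
    have : φ i y = 0 := by
      apply IsHausdorff.haus (inferInstance : IsHausdorff I A)
      intro k
      rw [SModEq.zero, smul_eq_mul, Ideal.mul_top]
      apply hφ i k y
      have := hy k
      rwa [SModEq.zero] at this
    rw [this, zero_smul]
  · intro f hf
    have hc : ∀ i, ∃ a : A, ∀ k, φ i (f k) ≡ a [SMOD (I ^ k • ⊤ : Ideal A)] := by
      intro i
      apply IsPrecomplete.prec (inferInstance : IsPrecomplete I A)
      intro m k hmk
      rw [SModEq.sub_mem, smul_eq_mul, Ideal.mul_top, ← map_sub]
      apply hφ i m
      exact (SModEq.sub_mem).mp (hf hmk)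
    choose a ha using hc
    refine ⟨∑ i, a i • x i, fun k => ?_⟩
    rw [SModEq.sub_mem]
    have e : f k - ∑ i, a i • x i = ∑ i, (φ i (f k) • x i - a i • x i) := by
      rw [Finset.sum_sub_distrib, ← hrep (f k)]
    rw [e]
    refine Submodule.sum_mem _ fun i _ => ?_
    rw [← sub_smul]
    apply Submodule.smul_mem_smul _ Submodule.mem_top
    have := (SModEq.sub_mem).mp (ha i k)
    rwa [smul_eq_mul, Ideal.mul_top] at this

end Groth.Agent.S5078
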