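import Groth.Statements.S5081
import Mathlib
import Groth.Agent.Helper2.MonogenicKaehler
open Polynomial Groth.Agent.Helper2.MonogenicKaehler
-- import your own Groth.Agent.* helpers here

set_option autoImplicit false
universe u
open Unram

namespace Groth.Agent.S5081

/-- Let B be a finite A-algebra generated by a single element u and F a polynomial with coefficients in
A such that F(u) = 0. Then the ideal generated by F'(u) is contained in the annihilator of the
module of differentials of B over A, and equals it when the kernel of the surjection A[T] → B
sending T to u is generated by F. -/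
theorem result (A B : Type u) [CommRing A] [CommRing B] [Algebra A B]
    [Module.Finite A B] (u : B) (hu : Algebra.adjoin A ({u} : Set B) = ⊤) (F : Polynomial A) (hF : Polynomial.aeval u F = 0) :
    Ideal.span {Polynomial.aeval u (Polynomial.derivative F)} ≤ Module.annihilator B (KaehlerDifferential A B) ∧
      (RingHom.ker (Polynomial.aeval u : Polynomial A →ₐ[A] B) = Ideal.span {F} →
        Module.annihilator B (KaehlerDifferential A B) = Ideal.span {Polynomial.aeval u (Polynomial.derivative F)}) := by
  have hsurj : Function.Surjective (aeval u : A[X] →ₐ[A] B) := by
    rw [← AlgHom.range_eq_top, ← Algebra.adjoin_singleton_eq_range_aeval, hu]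
  have h1 : Ideal.span {Polynomial.aeval u (Polynomial.derivative F)} ≤
      Module.annihilator B (KaehlerDifferential A B) := by
    rw [Ideal.span_le, Set.singleton_subset_iff, SetLike.mem_coe, Module.mem_annihilator]
    intro ω
    have hω : ω ∈ Submodule.span B (Set.range (KaehlerDifferential.D A B)) := by
      rw [KaehlerDifferential.span_range_derivation]; trivial
    induction hω using Submodule.span_induction with
    | mem x hx =>
      obtain ⟨b, rfl⟩ := hx
      obtain ⟨g, rfl⟩ := hsurj b
      rw [Derivation.map_aeval, smul_smul, mul_comm, ← smul_smul, ← Derivation.map_aeval, hF, map_zero,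
        smul_zero]
    | zero => simp
    | add x y _ _ hx hy => rw [smul_add, hx, hy, add_zero]
    | smul c x _ hx => rw [smul_comm, hx, smul_zero]
  refine ⟨h1, fun hker => le_antisymm ?_ h1⟩
  intro x hx
  rw [Module.mem_annihilator] at hx
  obtain ⟨d, hd⟩ := exists_derivation u hsurj F hker
  have h2 := hx (KaehlerDifferential.D A B u)
  have h3 := congrArg d.liftKaehlerDifferential h2
  rw [map_smul, Derivation.liftKaehlerDifferential_comp_D, map_zero] at h3
  have h4 : d u = 1 := by
    have := hd X
    simpa using this
  rw [h4] at h3
  have h5 : Ideal.Quotient.mk (Ideal.span {aeval u (derivative F)}) x = 0 := by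
    rw [← h3]
    rw [Algebra.smul_def, mul_one]
    rfl
  exact Ideal.Quotient.eq_zero_iff_mem.1 h5

end Groth.Agent.S5081
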