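import Groth.Statements.S5085
import Mathlib
import Groth.Agent.Lead.EffCartier

set_option autoImplicit false
universe u
open CategoryTheory CategoryTheory.Limits AlgebraicGeometry TopologicalSpace
open Mero

namespace Groth.Agent.S5085

/-- Let X be a scheme, U an open subset and V an open subset of U which is schematically dense in U (for
every open W ⊆ U, restriction of functions from W to W ∩ V is injective). Then restriction of
sections of the sheaf of meromorphic functions K_X from U to V is injective: the canonical map from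
meromorphic functions to pseudo-functions is injective. -/
theorem result (X : Scheme.{u}) (U V : X.Opens) (hVU : V ≤ U)
    (hV : ∀ W : X.Opens, W ≤ U →
      Function.Injective ⇑(X.presheaf.map (homOfLE (inf_le_left : W ⊓ V ≤ W)).op)) :
    Function.Injective ⇑((Mero.kmod X).presheaf.map (homOfLE hVU).op) := by
  intro f1 f2 h
  have hpt : ∀ (y : X) (hy : y ∈ V), f1.1 ⟨y, hVU hy⟩ = f2.1 ⟨y, hVU hy⟩ := by
    intro y hy
    have := congrArg (fun g : Γ(Mero.kmod X, V) => g.1 ⟨y, hy⟩) h
    exact this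
  apply Subtype.ext
  funext x
  obtain ⟨W1, hxW1, i1, a1, b1, hab1⟩ := f1.2 x
  obtain ⟨W2, hxW2, i2, a2, b2, hab2⟩ := f2.2 x
  set W : X.Opens := W1 ⊓ W2 with hW
  have hWU : W ≤ U := inf_le_left.trans i1.le
  have hxW : x.1 ∈ W := ⟨hxW1, hxW2⟩
  set c : Γ(X, W) := X.presheaf.map (homOfLE (inf_le_right : W ≤ W2)).op b2.1 *
      X.presheaf.map (homOfLE (inf_le_left : W ≤ W1)).op a1 -
    X.presheaf.map (homOfLE (inf_le_left : W ≤ W1)).op b1.1 *
      X.presheaf.map (homOfLE (inf_le_right : W ≤ W2)).op a2 with hc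
  have hgermc : ∀ (y : X) (hy : y ∈ W), X.presheaf.germ W y hy c =
      X.presheaf.germ W2 y hy.2 b2.1 * X.presheaf.germ W1 y hy.1 a1 -
        X.presheaf.germ W1 y hy.1 b1.1 * X.presheaf.germ W2 y hy.2 a2 := by
    intro y hy
    rw [hc, map_sub, map_mul, map_mul, TopCat.Presheaf.germ_res_apply,
      TopCat.Presheaf.germ_res_apply, TopCat.Presheaf.germ_res_apply,
      TopCat.Presheaf.germ_res_apply]
  have hc0 : c = 0 := by
    apply hV W hWU
    rw [map_zero]
    apply Groth.Agent.Lead.EffCartier.section_eq_zero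
    intro y hy
    rw [TopCat.Presheaf.germ_res_apply X.presheaf (homOfLE (inf_le_left : W ⊓ V ≤ W)) y hy c,
      hgermc y hy.1]
    have e1 := hab1 ⟨y, hy.1.1⟩
    have e2 := hab2 ⟨y, hy.1.2⟩
    have e := hpt y hy.2
    dsimp only at e1 e2
    have e1' : f1.1 ⟨y, hVU hy.2⟩ = _ := e1
    have e2' : f2.1 ⟨y, hVU hy.2⟩ = _ := e2
    rw [e1', e2', LocalizedModule.mk_eq] at e
    obtain ⟨u, hu⟩ := e
    simp only [Submonoid.smul_def, smul_eq_mul] at hu
    have hu' : (u : X.presheaf.stalk y) * (X.presheaf.germ W2 y hy.1.2 b2.1 * X.presheaf.germ W1 y hy.1.1 a1 -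
        X.presheaf.germ W1 y hy.1.1 b1.1 * X.presheaf.germ W2 y hy.1.2 a2) = 0 := by
      rw [mul_sub, hu, sub_self]
    have hunzd : (u : X.presheaf.stalk y) ∈ nonZeroDivisors (X.presheaf.stalk y) :=
      Mero.regStalk_le_nonZeroDivisors y u.2
    exact (mem_nonZeroDivisors_iff.mp hunzd).1 _ hu'
  have hx0 := hgermc x.1 hxW
  rw [hc0, map_zero] at hx0
  have e1 := hab1 ⟨x.1, hxW1⟩
  have e2 := hab2 ⟨x.1, hxW2⟩
  dsimp only at e1 e2
  have e1' : f1.1 x = _ := e1
  have e2' : f2.1 x = _ := e2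
  rw [e1', e2', LocalizedModule.mk_eq]
  refine ⟨1, ?_⟩
  simp only [Submonoid.smul_def, smul_eq_mul, Submonoid.coe_one, one_mul]
  exact (sub_eq_zero.mp hx0.symm)

end Groth.Agent.S5085
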