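import Groth.Statements.S5092
import Mathlib
import Groth.Agent.Lead.WeakAss

set_option autoImplicit false
universe u
open CategoryTheory CategoryTheory.Limits AlgebraicGeometry TopologicalSpace
open Mero

namespace Groth.Agent.S5092

theorem colon_bot_singleton {R : Type*} [CommRing R] (m : R) :
    (Submodule.colon (⊥ : Submodule R R) {m} : Ideal R) =
      LinearMap.ker (LinearMap.toSpanSingleton R R m) := by
  ext a
  rw [Submodule.mem_colon_singleton, Submodule.mem_bot, LinearMap.mem_ker,
    LinearMap.toSpanSingleton_apply]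

/-- In a local ring whose maximal ideal is an associated prime, nonzerodivisors are units. -/
theorem isUnit_of_nzd_of_isAssociatedPrime {R : Type*} [CommRing R] [IsLocalRing R]
    (h : IsAssociatedPrime (IsLocalRing.maximalIdeal R) R) (s : R)
    (hs : s ∈ nonZeroDivisors R) : IsUnit s := by
  by_contra hu
  have hmem : s ∈ IsLocalRing.maximalIdeal R := (IsLocalRing.mem_maximalIdeal s).mpr hu
  obtain ⟨m, hm⟩ := h.2
  rw [hm] at hmem
  obtain ⟨n, hn⟩ := hmem
  rw [Submodule.mem_colon_singleton, Submodule.mem_bot, smul_eq_mul] at hn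
  have hm0 : m = 0 := (mem_nonZeroDivisors_iff.mp (pow_mem hs n)).1 m hn
  have htop : (Submodule.colon (⊥ : Submodule R R) {m} : Ideal R) = ⊤ := by
    rw [hm0]
    ext a
    simp [Submodule.mem_colon_singleton]
  rw [htop, Ideal.radical_top] at hm
  exact (IsLocalRing.maximalIdeal.isMaximal R).ne_top hm

/-- Suppose X and Y are schemes, both locally Noetherian, and f : X → Y is a morphism carrying each
associated point of O_X (that is, a point whose local ring has its maximal ideal among its
associated primes) to an associated point of O_Y. Then, given any open subset U of Y and any regular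
function s on U (one whose germ at each point of U is a non-zero-divisor), the function on f⁻¹(U)
obtained by pulling s back along f is again regular; as a result, every meromorphic function and
every divisor on Y admits a well-defined pullback along f. -/
theorem result {X Y : Scheme.{u}} [IsLocallyNoetherian X] [IsLocallyNoetherian Y]
    (f : X ⟶ Y)
    (hf : ∀ x : ↥X, IsAssociatedPrime (IsLocalRing.maximalIdeal ↑(X.presheaf.stalk x)) ↑(X.presheaf.stalk x) →
      IsAssociatedPrime (IsLocalRing.maximalIdeal ↑(Y.presheaf.stalk (f x))) ↑(Y.presheaf.stalk (f x))) :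
    ∀ (U : Y.Opens) (s : Γ(Y, U)), s ∈ Mero.regSub Y U → f.app U s ∈ Mero.regSub X (f ⁻¹ᵁ U) := by
  intro U s hs
  rintro ⟨x, hx⟩
  change X.presheaf.germ (f ⁻¹ᵁ U) x hx (f.app U s) ∈ nonZeroDivisors (X.presheaf.stalk x)
  obtain ⟨_, ⟨V, hV, rfl⟩, hxV, hVU⟩ := X.isBasis_affineOpens.exists_subset_of_mem_open
    hx (f ⁻¹ᵁ U).2
  set g : Γ(X, V) := X.presheaf.map (homOfLE hVU).op (f.app U s) with hg
  have hgerm : X.presheaf.germ (f ⁻¹ᵁ U) x hx (f.app U s) = X.presheaf.germ V x hxV g :=
    (TopCat.Presheaf.germ_res_apply X.presheaf (homOfLE hVU) x hxV (f.app U s)).symm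
  rw [hgerm]
  have hgnzd : g ∈ nonZeroDivisors Γ(X, V) := by
    apply Groth.Agent.Lead.WeakAss.nzd_of_forall_weakAss hV g
    intro ξ hξV hw
    have hξU : f ξ ∈ U := hVU hξV
    rw [Groth.Agent.Lead.WeakAss.isWeakAssPoint_iff] at hw
    obtain ⟨m, hm⟩ := hw
    have hass : IsAssociatedPrime (IsLocalRing.maximalIdeal ↑(X.presheaf.stalk ξ))
        ↑(X.presheaf.stalk ξ) := by
      refine ⟨(IsLocalRing.maximalIdeal.isMaximal _).isPrime, m, ?_⟩
      rw [colon_bot_singleton, hm]
    have hassY := hf ξ hass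
    have hnz : Y.presheaf.germ U (f ξ) hξU s ∈ nonZeroDivisors (Y.presheaf.stalk (f ξ)) :=
      hs ⟨f ξ, hξU⟩
    have hunit := isUnit_of_nzd_of_isAssociatedPrime hassY _ hnz
    have hunit2 : IsUnit (X.presheaf.germ (f ⁻¹ᵁ U) ξ hξU (f.app U s)) := by
      rw [← Scheme.Hom.germ_stalkMap_apply]
      exact hunit.map _
    have h1 : ξ ∈ X.basicOpen (f.app U s) := (X.mem_basicOpen _ ξ hξU).mpr hunit2
    rw [hg, Scheme.basicOpen_res]
    exact ⟨hξV, h1⟩
  let _ := X.presheaf.algebra_section_stalk ⟨x, hxV⟩
  have := hV.isLocalization_stalk ⟨x, hxV⟩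
  exact IsLocalization.map_nonZeroDivisors_le (hV.primeIdealOf ⟨x, hxV⟩).asIdeal.primeCompl
    (X.presheaf.stalk x) (Submonoid.mem_map_of_mem _ hgnzd)

end Groth.Agent.S5092
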