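import Groth.Statements.S8901
import Mathlib
import Groth.Agent.Lead.WeakAss
import Groth.Agent.S8869

set_option autoImplicit false
universe u
open CategoryTheory CategoryTheory.Limits AlgebraicGeometry TopologicalSpace
open SDiv

namespace Groth.Agent.S8901

/-- In a local ring with a single prime, a nonzerodivisor is a unit. -/
theorem isUnit_of_nzd_of_forall_prime {R : Type*} [CommRing R] [IsLocalRing R]
    (h : ∀ q : PrimeSpectrum R, q = IsLocalRing.closedPoint R) (s : R)
    (hs : s ∈ nonZeroDivisors R) : IsUnit s := by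
  by_contra hu
  have hmem : s ∈ IsLocalRing.maximalIdeal R := (IsLocalRing.mem_maximalIdeal s).mpr hu
  have hnil : s ∈ nilradical R := by
    rw [nilradical_eq_sInf, Ideal.mem_sInf]
    intro J hJ
    have := h ⟨J, hJ⟩
    have h2 : J = IsLocalRing.maximalIdeal R := congrArg PrimeSpectrum.asIdeal this
    rw [h2]; exact hmem
  obtain ⟨n, hn⟩ := hnil
  have : (s ^ n) ∈ nonZeroDivisors R := pow_mem hs n
  rw [hn] at this
  exact zero_notMem_nonZeroDivisors this

/-- Let f : X ⟶ Y be a morphism of schemes under which each weakly associated point of X (of O_X) goes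
to a point of Y with no proper generization (the generic point of some irreducible component of Y).
Then pullbacks of meromorphic functions are defined for f: for every open U ⊆ Y and every regular
section s of O_Y over U, the pulled-back section of O_X over f⁻¹U is regular. -/
theorem result {X Y : Scheme.{u}} (f : X ⟶ Y)
    (h : ∀ x : ↥X, Curv2.IsWeakAssPoint (Coh.structureModule X) x → ∀ y : ↥Y, y ⤳ f x → y = f x)
    (U : Y.Opens) (s : Γ(Y, U)) (hs : s ∈ Mero.regSub Y U) : f.app U s ∈ Mero.regSub X (f ⁻¹ᵁ U) := by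
  rintro ⟨x, hx⟩
  change X.presheaf.germ (f ⁻¹ᵁ U) x hx (f.app U s) ∈ nonZeroDivisors (X.presheaf.stalk x)
  obtain ⟨_, ⟨V, hV, rfl⟩, hxV, hVU⟩ := X.isBasis_affineOpens.exists_subset_of_mem_open
    hx (f ⁻¹ᵁ U).2
  set g : Γ(X, V) := X.presheaf.map (homOfLE hVU).op (f.app U s) with hg
  have hgerm : X.presheaf.germ (f ⁻¹ᵁ U) x hx (f.app U s) = X.presheaf.germ V x hxV g :=
    (TopCat.Presheaf.germ_res_apply X.presheaf (homOfLE hVU) x hxV (f.app U s)).symm
  rw [hgerm]
  have hgnzd : g ∈ nonZeroDivisors Γ(X, V) := by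
    apply Groth.Agent.Lead.WeakAss.nzd_of_forall_weakAss hV g
    intro ξ hξV hw
    have hξU : f ξ ∈ U := hVU hξV
    have hgen := h ξ hw
    rw [Groth.Agent.S8869.forall_generization_iff] at hgen
    have hnz : Y.presheaf.germ U (f ξ) hξU s ∈ nonZeroDivisors (Y.presheaf.stalk (f ξ)) :=
      hs ⟨f ξ, hξU⟩
    have hunit := isUnit_of_nzd_of_forall_prime hgen _ hnz
    have hunit2 : IsUnit (X.presheaf.germ (f ⁻¹ᵁ U) ξ hξU (f.app U s)) := by
      rw [← Scheme.Hom.germ_stalkMap_apply]
      exact hunit.map _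
    have h1 : ξ ∈ X.basicOpen (f.app U s) := (X.mem_basicOpen _ ξ hξU).mpr hunit2
    rw [hg, Scheme.basicOpen_res]
    exact ⟨hξV, h1⟩
  let _ := X.presheaf.algebra_section_stalk ⟨x, hxV⟩
  have := hV.isLocalization_stalk ⟨x, hxV⟩
  exact IsLocalization.map_nonZeroDivisors_le (hV.primeIdealOf ⟨x, hxV⟩).asIdeal.primeCompl
    (X.presheaf.stalk x) (Submonoid.mem_map_of_mem _ hgnzd)

end Groth.Agent.S8901
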