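import Groth.Statements.S5093
import Mathlib
import Groth.Agent.S8862
import Groth.Agent.S8869
import Groth.Agent.S8901

set_option autoImplicit false
universe u
open CategoryTheory CategoryTheory.Limits AlgebraicGeometry TopologicalSpace
open Mero

namespace Groth.Agent.S5093

/-- Let f : X → Y be a morphism of schemes such that the set of irreducible components of Y is locally
finite, X is reduced, and every irreducible component of X dominates an irreducible component of Y
(f sends every maximal point of X, i.e. every point with no proper generization, to a maximal point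
of Y). Then for every open subset U of Y and every regular function s on U (germ a non-zero-divisor
at every point of U), the pulled-back function on f⁻¹(U) is regular; consequently the pullback along
f of every meromorphic function and of every divisor on Y is defined. -/
theorem result {X Y : Scheme.{u}} [IsReduced X] (f : X ⟶ Y)
    (hY : ∀ y : ↥Y, ∃ W : Y.Opens, y ∈ W ∧
      {Z : Set ↥Y | Z ∈ irreducibleComponents ↥Y ∧ (Z ∩ (W : Set ↥Y)).Nonempty}.Finite)
    (hf : ∀ ξ : ↥X, (∀ z : ↥X, z ⤳ ξ → z = ξ) → ∀ z : ↥Y, z ⤳ f ξ → z = f ξ) :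
    ∀ (U : Y.Opens) (s : Γ(Y, U)), s ∈ Mero.regSub Y U → f.app U s ∈ Mero.regSub X (f ⁻¹ᵁ U) := by
  intro U s hs
  rintro ⟨x, hx⟩
  change X.presheaf.germ (f ⁻¹ᵁ U) x hx (f.app U s) ∈ nonZeroDivisors (X.presheaf.stalk x)
  obtain ⟨_, ⟨V, hV, rfl⟩, hxV, hVU⟩ := X.isBasis_affineOpens.exists_subset_of_mem_open
    hx (f ⁻¹ᵁ U).2
  set g : Γ(X, V) := X.presheaf.map (homOfLE hVU).op (f.app U s) with hg
  have hgerm : X.presheaf.germ (f ⁻¹ᵁ U) x hx (f.app U s) = X.presheaf.germ V x hxV g :=
    (TopCat.Presheaf.germ_res_apply X.presheaf (homOfLE hVU) x hxV (f.app U s)).symm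
  rw [hgerm]
  have hgnzd : g ∈ nonZeroDivisors Γ(X, V) := by
    rw [mem_nonZeroDivisors_iff_right]
    intro z hz
    by_contra hne
    have hne' : X.basicOpen z ≠ ⊥ := by
      rw [Ne, AlgebraicGeometry.basicOpen_eq_bot_iff]; exact hne
    obtain ⟨y, hy⟩ : ∃ y, y ∈ X.basicOpen z := by
      by_contra hcon
      push Not at hcon
      apply hne'
      ext y
      simp only [SetLike.mem_coe]
      constructor
      · intro hy; exact (hcon y hy).elim
      · intro hy; exact hy.elim
    obtain ⟨ξ, hξy, hξ⟩ := Groth.Agent.S8862.exists_generic_specializes y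
    have hξz : ξ ∈ X.basicOpen z := hξy.mem_open (X.basicOpen z).2 hy
    have hξV : ξ ∈ V := X.basicOpen_le z hξz
    have hξU : f ξ ∈ U := hVU hξV
    have hgen := hf ξ hξ
    rw [Groth.Agent.S8869.forall_generization_iff] at hgen
    have hnz : Y.presheaf.germ U (f ξ) hξU s ∈ nonZeroDivisors (Y.presheaf.stalk (f ξ)) :=
      hs ⟨f ξ, hξU⟩
    have hunit := Groth.Agent.S8901.isUnit_of_nzd_of_forall_prime hgen _ hnz
    have hunit2 : IsUnit (X.presheaf.germ (f ⁻¹ᵁ U) ξ hξU (f.app U s)) := by
      rw [← Scheme.Hom.germ_stalkMap_apply]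
      exact hunit.map _
    have h1 : ξ ∈ X.basicOpen (f.app U s) := (X.mem_basicOpen _ ξ hξU).mpr hunit2
    have hξg : ξ ∈ X.basicOpen g := by
      rw [hg, Scheme.basicOpen_res]
      exact ⟨hξV, h1⟩
    have : ξ ∈ X.basicOpen (z * g) := by
      rw [Scheme.basicOpen_mul]; exact ⟨hξz, hξg⟩
    rw [hz, Scheme.basicOpen_zero] at this
    exact this
  let _ := X.presheaf.algebra_section_stalk ⟨x, hxV⟩
  have := hV.isLocalization_stalk ⟨x, hxV⟩
  exact IsLocalization.map_nonZeroDivisors_le (hV.primeIdealOf ⟨x, hxV⟩).asIdeal.primeCompl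
    (X.presheaf.stalk x) (Submonoid.mem_map_of_mem _ hgnzd)

end Groth.Agent.S5093
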