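import Groth.Statements.S5106
import Groth.Agent.Lead.LimTop
import Mathlib

set_option autoImplicit false
universe u
open CategoryTheory CategoryTheory.Limits AlgebraicGeometry TopologicalSpace
open Lim8

namespace Groth.Agent.S5106

/-- every point of a quasi-sober T0 space has a maximal generization -/
lemma exists_maximal_generization {X : Type*} [TopologicalSpace X] [QuasiSober X] [T0Space X]
    (x : X) : ∃ m : X, m ⤳ x ∧ ∀ z : X, z ⤳ m → z = m := by
  have hirr : IsIrreducible (irreducibleComponent x) := isIrreducible_irreducibleComponent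
  have hcl : IsClosed (irreducibleComponent x) := isClosed_irreducibleComponent
  have hgen := hirr.isGenericPoint_genericPoint hcl
  refine ⟨hirr.genericPoint, hgen.specializes mem_irreducibleComponent, fun z hz ↦ ?_⟩
  -- closure {z} ⊇ irreducibleComponent x, equality by maximality
  have h1 : irreducibleComponent x ⊆ closure {z} := by
    rw [← hgen.def]
    exact closure_minimal (Set.singleton_subset_iff.mpr hz.mem_closure) isClosed_closure
  have h2 : IsIrreducible (closure ({z} : Set X)) := isIrreducible_singleton.closure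
  have hmem := irreducibleComponent_mem_irreducibleComponents x
  have h3 : closure ({z} : Set X) ⊆ irreducibleComponent x := hmem.2 h2 h1
  have h4 : IsGenericPoint z (irreducibleComponent x) := Set.Subset.antisymm h3 h1
  exact h4.eq hgen

open Limits Groth.Agent.Lead.LimTop in
theorem aux {I : Type u} [SmallCategory I] [IsCofiltered I]
    (D : I ⥤ Scheme.{u}) (c : Limits.Cone D) (hc : Limits.IsLimit c)
    [∀ (i j : I) (g : i ⟶ j), IsAffineHom (D.map g)]
    (hfin : ∀ i : I, {s : ↥(D.obj i) | ∀ z : ↥(D.obj i), z ⤳ s → z = s}.Finite)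
    (hsys : ∀ (i j : I) (g : i ⟶ j) (s : ↥(D.obj i)), (∀ z : ↥(D.obj i), z ⤳ s → z = s) →
      ∀ z : ↥(D.obj j), z ⤳ D.map g s → z = D.map g s)
    (s : ↥c.pt) :
    (∀ z : ↥c.pt, z ⤳ s → z = s) ↔ ∀ (i : I) (z : ↥(D.obj i)), z ⤳ c.π.app i s → z = c.π.app i s := by
  have hA : ∀ {i j : I} (f : i ⟶ j), IsAffineHom (D.map f) := fun f ↦ inferInstance
  constructor
  · intro hs
    -- the functor of maximal generizations of the images of s
    let G : I ⥤ Type u :=
      { obj := fun i ↦ {m : D.obj i // (∀ z : D.obj i, z ⤳ m → z = m) ∧ m ⤳ c.π.app i s}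
        map := fun {i j} g ↦ ↾(fun m ↦ ⟨D.map g m.1, hsys i j g m.1 m.2.1, by
          have := m.2.2.map (D.map g).continuous
          rwa [← Scheme.Hom.comp_apply, c.w g] at this⟩)
        map_id := fun i ↦ by
          ext m
          change D.map (𝟙 i) m.1 = m.1
          rw [D.map_id]; rfl
        map_comp := fun f g ↦ by
          ext m
          change D.map (f ≫ g) m.1 = D.map g (D.map f m.1)
          rw [D.map_comp]; rfl }
    have hGfin : ∀ i, Finite (G.obj i) := fun i ↦ by
      have := (hfin i).to_subtype
      exact Finite.of_injective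
        (fun m : G.obj i ↦
          (⟨m.1, m.2.1⟩ : {s : ↥(D.obj i) | ∀ z : ↥(D.obj i), z ⤳ s → z = s}))
        (fun a b h ↦ Subtype.ext (Subtype.mk.inj h))
    have hGne : ∀ i, Nonempty (G.obj i) := fun i ↦ by
      obtain ⟨m, hm1, hm2⟩ := exists_maximal_generization (c.π.app i s)
      exact ⟨⟨m, hm2, hm1⟩⟩
    obtain ⟨m, hm⟩ := nonempty_sections_of_finite_cofiltered_system G
    obtain ⟨z, hz⟩ := exists_point D c hc (fun l ↦ (m l).1)
      (fun {l l'} f ↦ congrArg Subtype.val (hm f))
    -- z specializes to s
    have hzs : z ⤳ s := by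
      rw [specializes_iff_forall_open]
      intro U hU hsU
      have hB := isBasis_preimage_isAffineOpen D c hc
      rw [TopologicalSpace.Opens.IsBasis] at hB
      obtain ⟨_, ⟨_, ⟨l, V, hV, rfl⟩, rfl⟩, hsV, hVU⟩ := hB.exists_subset_of_mem_open hsU hU
      apply hVU
      change c.π.app l z ∈ V
      rw [hz l]
      exact (m l).2.2.mem_open V.2 hsV
    have hzs' := hs z hzs
    subst hzs'
    intro i
    rw [hz i]
    exact (m i).2.1
  · intro h z hz
    apply eq_of_forall_π_eq D c hc
    intro l
    exact h l _ (hz.map (c.π.app l).continuous)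

/-- Let (S_i) be a cofiltered system of schemes with affine transition morphisms and S its limit.
Suppose that every S_i has only finitely many maximal points (points with no proper generization,
i.e. generic points of irreducible components) and that the transition morphisms send maximal points
to maximal points. Then the set of maximal points of S is the limit of the sets of maximal points of
the S_i: a point of S is maximal if and only if its image in every S_i is a maximal point of S_i. -/
theorem result {I : Type u} [SmallCategory I] [IsCofiltered I]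
    (D : I ⥤ Scheme.{u}) (c : Limits.Cone D) (hc : Limits.IsLimit c)
    [∀ (i j : I) (g : i ⟶ j), IsAffineHom (D.map g)]
    (hfin : ∀ i : I, {s : ↥(D.obj i) | ∀ z : ↥(D.obj i), z ⤳ s → z = s}.Finite)
    (hsys : ∀ (i j : I) (g : i ⟶ j) (s : ↥(D.obj i)), (∀ z : ↥(D.obj i), z ⤳ s → z = s) →
      ∀ z : ↥(D.obj j), z ⤳ D.map g s → z = D.map g s)
    (s : ↥c.pt) :
    (∀ z : ↥c.pt, z ⤳ s → z = s) ↔ ∀ (i : I) (z : ↥(D.obj i)), z ⤳ c.π.app i s → z = c.π.app i s := by
  exact aux D c hc hfin hsys s

end Groth.Agent.S5106
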