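import Groth.Statements.S5110
import Groth.Agent.S5106
import Groth.Agent.Lead.LimTop
import Mathlib

set_option autoImplicit false
universe u
open CategoryTheory CategoryTheory.Limits AlgebraicGeometry TopologicalSpace
open Lim8

namespace Groth.Agent.S5110

/-- an open set containing all maximal points is dense -/
lemma dense_of_forall_maximal_mem {X : Type*} [TopologicalSpace X] [QuasiSober X] [T0Space X]
    {V : Set X} (h : ∀ x : X, (∀ z : X, z ⤳ x → z = x) → x ∈ V) : Dense V := by
  rw [dense_iff_inter_open]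
  rintro U hU ⟨w, hw⟩
  obtain ⟨m, hmw, hm⟩ := S5106.exists_maximal_generization w
  exact ⟨m, hmw.mem_open hU hw, h m hm⟩

/-- a dense open set contains all maximal points when there are finitely many of them -/
lemma forall_maximal_mem_of_dense {X : Type*} [TopologicalSpace X] [QuasiSober X] [T0Space X]
    (hfin : {s : X | ∀ z : X, z ⤳ s → z = s}.Finite)
    {V : Set X} (hVo : IsOpen V) (hV : Dense V) (m : X) (hm : ∀ z : X, z ⤳ m → z = m) : m ∈ V := by
  let U : Set X := (⋃ m' ∈ {s : X | ∀ z : X, z ⤳ s → z = s} \ {m}, closure {m'})ᶜ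
  have hUo : IsOpen U := by
    rw [isOpen_compl_iff]
    exact (hfin.subset Set.sdiff_subset).isClosed_biUnion fun _ _ ↦ isClosed_closure
  have hmU : m ∈ U := by
    intro hmem
    obtain ⟨m', ⟨hm'max, hm'ne⟩, hm'⟩ := Set.mem_iUnion₂.mp hmem
    have : m' ⤳ m := specializes_iff_mem_closure.mpr hm'
    exact hm'ne (hm m' this)
  obtain ⟨y, hyU, hyV⟩ := (dense_iff_inter_open.mp hV) U hUo ⟨m, hmU⟩
  obtain ⟨m'', hm''y, hm''⟩ := S5106.exists_maximal_generization y
  have : m'' = m := by
    by_contra hne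
    apply hyU
    exact Set.mem_iUnion₂.mpr ⟨m'', ⟨hm'', hne⟩, specializes_iff_mem_closure.mp hm''y⟩
  subst this
  exact hm''y.mem_open hVo hyV

open Limits Groth.Agent.Lead.LimTop in
set_option backward.isDefEq.respectTransparency false in
theorem aux {I : Type u} [SmallCategory I] [IsCofiltered I]
    (D : I ⥤ Scheme.{u}) (c : Limits.Cone D) (hc : Limits.IsLimit c)
    [∀ (i j : I) (g : i ⟶ j), IsAffineHom (D.map g)]
    (hfin : ∀ i : I, {s : ↥(D.obj i) | ∀ z : ↥(D.obj i), z ⤳ s → z = s}.Finite)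
    (hsys : ∀ (i j : I) (g : i ⟶ j) (s : ↥(D.obj i)), (∀ z : ↥(D.obj i), z ⤳ s → z = s) →
      ∀ z : ↥(D.obj j), z ⤳ D.map g s → z = D.map g s)
    (i₀ : I) [CompactSpace ↥(D.obj i₀)] (V₀ : (D.obj i₀).Opens) :
    (Dense (V₀ : Set ↥(D.obj i₀)) →
        (∀ (i : I) (g : i ⟶ i₀), Dense (((D.map g) ⁻¹ᵁ V₀ : (D.obj i).Opens) : Set ↥(D.obj i))) ∧
          Dense (((c.π.app i₀) ⁻¹ᵁ V₀ : c.pt.Opens) : Set ↥c.pt)) ∧
      (Dense (((c.π.app i₀) ⁻¹ᵁ V₀ : c.pt.Opens) : Set ↥c.pt) →
        {s : ↥c.pt | ∀ z : ↥c.pt, z ⤳ s → z = s}.Finite →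
          ∃ (i : I) (g : i ⟶ i₀), Dense (((D.map g) ⁻¹ᵁ V₀ : (D.obj i).Opens) : Set ↥(D.obj i))) := by
  have hA : ∀ {i j : I} (f : i ⟶ j), IsAffineHom (D.map f) := fun f ↦ inferInstance
  constructor
  · intro hV
    have h0 := forall_maximal_mem_of_dense (hfin i₀) V₀.2 hV
    refine ⟨fun i g ↦ ?_, ?_⟩
    · apply dense_of_forall_maximal_mem
      intro m hm
      exact h0 _ (hsys i i₀ g m hm)
    · apply dense_of_forall_maximal_mem
      intro s hs
      exact h0 _ ((S5106.result D c hc hfin hsys s).mp hs i₀)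
  · intro hV hSfin
    have h0 := forall_maximal_mem_of_dense hSfin (c.π.app i₀ ⁻¹ᵁ V₀).2 hV
    by_contra hcon
    push Not at hcon
    -- bad maximal points at every stage
    let B : Over i₀ ⥤ Type u :=
      { obj := fun l ↦ {m : D.obj l.left // (∀ z : D.obj l.left, z ⤳ m → z = m) ∧
          D.map l.hom m ∉ V₀}
        map := fun {l l'} f ↦ ↾(fun m ↦ ⟨D.map f.left m.1, hsys _ _ f.left m.1 m.2.1, by
          have h := m.2.2
          have e : D.map l'.hom (D.map f.left m.1) = D.map l.hom m.1 := by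
            rw [← Scheme.Hom.comp_apply, ← D.map_comp, Over.w f]
          rw [e]; exact h⟩)
        map_id := fun l ↦ by
          ext m
          change D.map (𝟙 l.left) m.1 = m.1
          rw [D.map_id]; rfl
        map_comp := fun f g ↦ by
          ext m
          change D.map (f.left ≫ g.left) m.1 = D.map g.left (D.map f.left m.1)
          rw [D.map_comp]; rfl }
    have hBfin : ∀ l, Finite (B.obj l) := fun l ↦ by
      have := (hfin l.left).to_subtype
      exact Finite.of_injective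
        (fun m : B.obj l ↦
          (⟨m.1, m.2.1⟩ : {s : ↥(D.obj l.left) | ∀ z : ↥(D.obj l.left), z ⤳ s → z = s}))
        (fun a b h ↦ Subtype.ext (Subtype.mk.inj h))
    have hBne : ∀ l, Nonempty (B.obj l) := fun l ↦ by
      by_contra hne
      apply hcon l.left l.hom
      apply dense_of_forall_maximal_mem
      intro m hm
      by_contra hmV
      exact hne ⟨⟨m, hm, hmV⟩⟩
    obtain ⟨m, hm⟩ := nonempty_sections_of_finite_cofiltered_system B
    -- the restricted system
    let D' : Over i₀ ⥤ Scheme.{u} := Over.forget i₀ ⋙ D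
    let c' : Cone D' := c.whisker (Over.forget i₀)
    have hc' : IsLimit c' := (Functor.Initial.isLimitWhiskerEquiv (Over.forget i₀) c).symm hc
    obtain ⟨z, hz⟩ := exists_point D' c' hc' (fun l ↦ (m l).1)
      (fun {l l'} f ↦ congrArg Subtype.val (hm f))
    have hz' : ∀ l : Over i₀, c.π.app l.left z = (m l).1 := hz
    -- z is maximal
    have hzmax : ∀ w : c.pt, w ⤳ z → w = z := by
      rw [S5106.result D c hc hfin hsys z]
      intro i
      let j := IsCofiltered.min i i₀
      let a : j ⟶ i := IsCofiltered.minToLeft i i₀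
      let b : j ⟶ i₀ := IsCofiltered.minToRight i i₀
      have h1 : c.π.app i z = D.map a (m (Over.mk b)).1 := by
        have key : D.map a (c.π.app j z) = c.π.app i z := by
          rw [← Scheme.Hom.comp_apply, c.w a]
          rfl
        rw [← hz' (Over.mk b)]
        exact key.symm
      rw [h1]
      exact hsys _ _ a _ (m (Over.mk b)).2.1
    have h2 : c.π.app i₀ z ∈ V₀ := h0 z hzmax
    have h3 := (m (Over.mk (𝟙 i₀))).2.2
    rw [← hz' (Over.mk (𝟙 i₀))] at h3
    apply h3
    change D.map (𝟙 i₀) (c.π.app i₀ z) ∈ V₀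
    rw [D.map_id]
    exact h2

/-- Let (S_i) be a cofiltered system of schemes with affine transition morphisms and S its limit, such
that every S_i has finitely many maximal points and the transition morphisms send maximal points to
maximal points; let S_{i₀} be quasi-compact and V₀ an open subset of S_{i₀}, with inverse images V_i
in the S_i over i₀ and V in S. If V₀ is dense in S_{i₀} then every V_i and V are dense. Conversely,
if V is dense in S and S has only finitely many maximal points, then V_i is dense in S_i for some i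
over i₀. -/
theorem result {I : Type u} [SmallCategory I] [IsCofiltered I]
    (D : I ⥤ Scheme.{u}) (c : Limits.Cone D) (hc : Limits.IsLimit c)
    [∀ (i j : I) (g : i ⟶ j), IsAffineHom (D.map g)]
    (hfin : ∀ i : I, {s : ↥(D.obj i) | ∀ z : ↥(D.obj i), z ⤳ s → z = s}.Finite)
    (hsys : ∀ (i j : I) (g : i ⟶ j) (s : ↥(D.obj i)), (∀ z : ↥(D.obj i), z ⤳ s → z = s) →
      ∀ z : ↥(D.obj j), z ⤳ D.map g s → z = D.map g s)
    (i₀ : I) [CompactSpace ↥(D.obj i₀)] (V₀ : (D.obj i₀).Opens) :
    (Dense (V₀ : Set ↥(D.obj i₀)) →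
        (∀ (i : I) (g : i ⟶ i₀), Dense (((D.map g) ⁻¹ᵁ V₀ : (D.obj i).Opens) : Set ↥(D.obj i))) ∧
          Dense (((c.π.app i₀) ⁻¹ᵁ V₀ : c.pt.Opens) : Set ↥c.pt)) ∧
      (Dense (((c.π.app i₀) ⁻¹ᵁ V₀ : c.pt.Opens) : Set ↥c.pt) →
        {s : ↥c.pt | ∀ z : ↥c.pt, z ⤳ s → z = s}.Finite →
          ∃ (i : I) (g : i ⟶ i₀), Dense (((D.map g) ⁻¹ᵁ V₀ : (D.obj i).Opens) : Set ↥(D.obj i))) := by
  exact aux D c hc hfin hsys i₀ V₀

end Groth.Agent.S5110
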