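import Groth.Statements.S5119
import Groth.Agent.Helper2.LaurentPow
open Groth.Agent.Helper2.LaurentPow
-- import your own Groth.Agent.* helpers here

set_option autoImplicit false
universe u
open scoped LaurentPolynomial
open SGA1t

namespace Groth.Agent.S5119

/-- The computation behind the exactness of the Kummer sequence 0 → μ_n → G_m → G_m → 0, i.e. faithful
flatness of the n-th power map u_n of G_m: Let A be a commutative ring and n ≥ 1, and let u_n be the
ring endomorphism of A[t, t⁻¹] with u_n(t) = t^n (on monomials, t^k ↦ t^{nk}). Then A[t, t⁻¹] is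
free of rank n over itself via u_n, with basis 1, t, …, t^{n−1}: every Laurent polynomial q can be
written in exactly one way as Σ_{i<n} u_n(c_i) t^i. -/
theorem result (A : Type u) [CommRing A] (n : ℕ) (hn : 1 ≤ n) (q : A[T;T⁻¹]) :
    ∃! c : Fin n → A[T;T⁻¹],
      q = ∑ i : Fin n, (AddMonoidAlgebra.mapDomainRingHom A (AddMonoidHom.mulLeft (n : ℤ)) : A[T;T⁻¹] →+* A[T;T⁻¹]) (c i) *
        LaurentPolynomial.T (i : ℤ) := by
  have hn0 : (n : ℤ) ≠ 0 := by positivity
  refine ⟨fun i => AddMonoidAlgebra.ofCoeff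
    (Finsupp.comapDomain (fun m : ℤ => (n : ℤ) * m + (i : ℤ)) q.coeff
      ((affine_inj n hn _).injOn)), ?_, ?_⟩
  · apply AddMonoidAlgebra.ext
    apply Finsupp.ext
    intro k
    obtain ⟨i, hi⟩ := emod_fin n hn k
    have := key n hn (fun i => AddMonoidAlgebra.ofCoeff
      (Finsupp.comapDomain (fun m : ℤ => (n : ℤ) * m + (i : ℤ)) q.coeff
        ((affine_inj n hn _).injOn))) k i hi
    refine Eq.trans ?_ this.symm
    simp only [AddMonoidAlgebra.coeff_ofCoeff, Finsupp.comapDomain_apply]
    congr 1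
    have := Int.mul_ediv_add_emod k (n : ℤ)
    rw [hi] at this
    exact this.symm
  · intro c hc
    funext i
    apply AddMonoidAlgebra.ext
    apply Finsupp.ext
    intro m
    simp only [AddMonoidAlgebra.coeff_ofCoeff, Finsupp.comapDomain_apply]
    have hi : ((i : ℕ) : ℤ) < n := by exact_mod_cast i.2
    have hi0 : (0 : ℤ) ≤ ((i : ℕ) : ℤ) := by positivity
    have h1 : ((n : ℤ) * m + (i : ℤ)) % (n : ℤ) = (i : ℤ) := by
      rw [Int.add_comm, Int.add_mul_emod_self_left, Int.emod_eq_of_lt hi0 hi]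
    have h2 : ((n : ℤ) * m + (i : ℤ)) / (n : ℤ) = m := by
      rw [Int.add_comm, Int.add_mul_ediv_left _ _ hn0, Int.ediv_eq_zero_of_lt hi0 hi, zero_add]
    have := key n hn c _ i h1
    rw [h2] at this
    rw [← this, ← hc]

end Groth.Agent.S5119
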