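import Groth.Statements.S5120
import Groth.Agent.Helper2.MonicAdicBasis
open Groth.Agent.Helper2.MonicAdicBasis
-- import your own Groth.Agent.* helpers here

set_option autoImplicit false
universe u
open SGA1t

namespace Groth.Agent.S5120

open Polynomial in
/-- The computation behind the exactness of the Artin-Schreier sequence 0 → Z/p → G_a → G_a → 0 in
characteristic p, i.e. faithful flatness of ℘ = id − F: Let p be a prime and A a ring of
characteristic p. Then A[t] is free of rank p over itself via the endomorphism t ↦ t − t^p, with
basis 1, t, …, t^{p−1}: every polynomial q can be written in exactly one way as Σ_{i<p} c_i(t − t^p)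
t^i. -/
theorem result (p : ℕ) [Fact p.Prime] (A : Type u) [CommRing A] [CharP A p]
    (q : A[X]) :
    ∃! c : Fin p → A[X], q = ∑ i : Fin p, aeval (X - X ^ p : A[X]) (c i) * X ^ (i : ℕ) := by
  have hp : 1 < p := (Fact.out : p.Prime).one_lt
  haveI : Nontrivial A := CharP.nontrivial_of_char_ne_one (R := A) (v := p) (Nat.ne_of_gt hp)
  have hmonic : (X ^ p - X : A[X]).Monic := by
    apply monic_X_pow_sub
    rw [degree_X]
    exact_mod_cast hp
  have hdeg : (X ^ p - X : A[X]).natDegree = p := by
    rw [natDegree_sub_eq_left_of_natDegree_lt]
    · exact natDegree_X_pow p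
    · rw [natDegree_X, natDegree_X_pow]
      exact hp
  have := existsUnique_rep (X ^ p - X : A[X]) hmonic p hdeg (by omega) q
  have hneg : -(X ^ p - X : A[X]) = X - X ^ p := by ring
  rw [hneg] at this
  exact this

end Groth.Agent.S5120
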