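import Groth.Statements.S5132


set_option autoImplicit false
open CategoryTheory AlgebraicGeometry
universe u
open SGA1

namespace Groth.Agent.S5132

theorem aux :
    MorphismProperty.DescendsAlong @QuasiCompact (@Surjective ⊓ @QuasiCompact : MorphismProperty Scheme.{u}) := by
  constructor
  intro A X Y Z fst snd f g h hf hfst
  obtain ⟨hf1, hf2⟩ := hf
  have hf1 : Surjective f := hf1
  have hf2 : QuasiCompact f := hf2
  have hfst : QuasiCompact fst := hfst
  refine ⟨fun V hV hVc => ?_⟩
  have h1 : IsCompact (f ⁻¹' V) := hf2.isCompact_preimage V hV hVc
  have h2 : IsCompact (fst ⁻¹' (f ⁻¹' V)) :=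
    hfst.isCompact_preimage _ (hV.preimage f.continuous) h1
  have h3 := Scheme.image_preimage_eq_of_isPullback h (f ⁻¹' V)
  rw [Set.image_preimage_eq _ hf1.surj] at h3
  rw [← h3]
  exact h2.image snd.continuous

/-- Quasi-compactness of a morphism descends along a surjective and quasi-compact base change; flatness
of the base change is not needed for this property. -/
theorem result :
    MorphismProperty.DescendsAlong @QuasiCompact (@Surjective ⊓ @QuasiCompact : MorphismProperty Scheme.{u}) := by
  exact aux

end Groth.Agent.S5132
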