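import Groth.Statements.S5133
import Groth.Agent.Lead.QcClosure
import Mathlib.AlgebraicGeometry.IdealSheaf.Subscheme
import Mathlib.AlgebraicGeometry.Morphisms.UniversallyOpen

set_option autoImplicit false
open CategoryTheory CategoryTheory.Limits AlgebraicGeometry
universe u
open SGA1

namespace Groth.Agent.S5133

theorem aux {X Y Y' : Scheme.{u}} (f : X ⟶ Y)
    (g : Y' ⟶ Y) [QuasiCompact f] [Flat g] [Surjective g]
    (h : Topology.IsEmbedding (pullback.snd f g).base) : Topology.IsEmbedding f.base := by
  have hlift : ∀ (x : X) (y' : Y'), f x = g y' →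
      ∃ x' : ↑(pullback f g), (pullback.fst f g) x' = x ∧ (pullback.snd f g) x' = y' :=
    fun x y' hxy => Scheme.Pullback.exists_preimage_pullback x y' hxy
  have key : ∀ x z : X, f z ⤳ f x → z ⤳ x := by
    intro x z hsp
    obtain ⟨y', hy'⟩ := g.surjective (f x)
    have hsp' : f z ⤳ g y' := by rw [hy']; exact hsp
    obtain ⟨y'', hy''sp, hy''⟩ := Flat.generalizingMap g hsp'
    obtain ⟨x'', hx''1, hx''2⟩ := hlift x y' hy'.symm
    obtain ⟨z'', hz''1, hz''2⟩ := hlift z y'' hy''.symm
    have h1 : (pullback.snd f g) z'' ⤳ (pullback.snd f g) x'' := by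
      rw [hz''2, hx''2]; exact hy''sp
    have h2 : z'' ⤳ x'' := h.toIsInducing.specializes_iff.mp h1
    have h3 := h2.map (pullback.fst f g).continuous
    rwa [hz''1, hx''1] at h3
  have hinj : Function.Injective f.base := by
    intro x₁ x₂ hx
    have h1 : x₁ ⤳ x₂ := key x₂ x₁ (by rw [hx])
    have h2 : x₂ ⤳ x₁ := key x₁ x₂ (by rw [hx])
    exact (h1.antisymm h2).eq
  refine ⟨⟨le_antisymm (continuous_iff_le_induced.mp f.continuous) ?_⟩, hinj⟩
  intro U hU
  rw [isOpen_induced_iff]
  have hZ : IsClosed (Uᶜ : Set X) := hU.isClosed_compl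
  refine ⟨(closure (f.base '' Uᶜ))ᶜ, isClosed_closure.isOpen_compl, ?_⟩
  ext x
  simp only [Set.mem_preimage, Set.mem_compl_iff]
  constructor
  · intro hx
    by_contra hxU
    exact hx (subset_closure ⟨x, hxU, rfl⟩)
  · intro hxU hx
    -- closed subscheme on Uᶜ
    let C : TopologicalSpace.Closeds X := ⟨Uᶜ, hZ⟩
    let I := Scheme.IdealSheafData.vanishingIdeal C
    have hrange : Set.range I.subschemeι.base = Uᶜ := by
      rw [Scheme.IdealSheafData.range_subschemeι, Scheme.IdealSheafData.coe_support_vanishingIdeal]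
      rfl
    have hrange' : Set.range (I.subschemeι ≫ f).base = f.base '' Uᶜ := by
      rw [← hrange, ← Set.range_comp]; rfl
    have hx' : f x ∈ closure (Set.range (I.subschemeι ≫ f).base) := by rw [hrange']; exact hx
    obtain ⟨w, hw⟩ :=
      Groth.Agent.Lead.QcClosure.exists_specializes_of_mem_closure_range (I.subschemeι ≫ f) (f x) hx'
    have hz : I.subschemeι w ∈ (Uᶜ : Set X) := by rw [← hrange]; exact ⟨w, rfl⟩
    have hsp : I.subschemeι w ⤳ x := key x _ hw
    have := hsp.mem_closed hZ hz
    exact this hxU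

/-- For a quasi-compact morphism f : X ⟶ Y and a flat surjective base change g : Y' ⟶ Y, with no
quasi-compactness asked of g, if the base change of f along g is a homeomorphism onto its image then
f is a homeomorphism onto its image. -/
theorem result {X Y Y' : Scheme.{u}} (f : X ⟶ Y)
    (g : Y' ⟶ Y) [QuasiCompact f] [Flat g] [Surjective g]
    (h : Topology.IsEmbedding (pullback.snd f g).base) : Topology.IsEmbedding f.base := by
  exact aux f g h

end Groth.Agent.S5133
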