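import Groth.Statements.S5135
import Mathlib
-- import your own Groth.Agent.* helpers here

set_option autoImplicit false
universe u
open scoped TensorProduct
open SGA1

namespace Groth.Agent.S5135

/-- The affine case, in submodule form (descent of submodules, equivalently of quotient modules): for A
⟶ A' faithfully flat, M an A-module and N' an A'-submodule of A' ⊗ M whose two extensions to (A' ⊗
A') ⊗ M, along a ↦ a ⊗ 1 and a ↦ 1 ⊗ a, generate the same submodule, N' is the base change of the
submodule of M formed by the elements m with 1 ⊗ m in N'. -/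
theorem result (A A' : Type u) [CommRing A] [CommRing A'] [Algebra A A']
    [Module.FaithfullyFlat A A'] (M : Type u) [AddCommGroup M] [Module A M] (N' : Submodule A' (A' ⊗[A] M))
    (h : Submodule.span (A' ⊗[A] A')
          ((N'.restrictScalars A).map
            ((Algebra.TensorProduct.includeLeft : A' →ₐ[A] A' ⊗[A] A').toLinearMap.rTensor M) : Set ((A' ⊗[A] A') ⊗[A] M)) =
        Submodule.span (A' ⊗[A] A')
          ((N'.restrictScalars A).map
            ((Algebra.TensorProduct.includeRight : A' →ₐ[A] A' ⊗[A] A').toLinearMap.rTensor M) : Set ((A' ⊗[A] A') ⊗[A] M))) :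
    ((N'.restrictScalars A).comap (TensorProduct.mk A A' M 1)).baseChange A' = N' := by
  classical
  apply le_antisymm
  · rw [Submodule.baseChange_eq_span, Submodule.span_le]
    rintro _ ⟨m, hm, rfl⟩
    exact hm
  · intro x hx
    let φ : M →ₗ[A] (A' ⊗[A] M) ⧸ N' :=
      (N'.mkQ.restrictScalars A).comp (TensorProduct.mk A A' M 1)
    have hex : Function.Exact
        ((N'.restrictScalars A).comap (TensorProduct.mk A A' M 1)).subtype φ := by
      intro m
      constructor
      · intro h
        have hm : (TensorProduct.mk A A' M 1) m ∈ N' :=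
          (Submodule.Quotient.mk_eq_zero N').mp h
        exact ⟨⟨m, hm⟩, rfl⟩
      · rintro ⟨⟨m', hm'⟩, rfl⟩
        exact (Submodule.Quotient.mk_eq_zero N').mpr hm'
    have hex' := Module.Flat.lTensor_exact A' hex
    let Θ : (A' ⊗[A] A') ⊗[A] M →ₗ[A] A' ⊗[A] ((A' ⊗[A] M) ⧸ N') :=
      ((N'.mkQ.restrictScalars A).lTensor A').comp (TensorProduct.assoc A A' A' M).toLinearMap
    have fact1 : ∀ y : A' ⊗[A] M, φ.lTensor A' y =
        Θ ((Algebra.TensorProduct.includeLeft : A' →ₐ[A] A' ⊗[A] A').toLinearMap.rTensor M y) := by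
      intro y
      induction y using TensorProduct.induction_on with
      | zero => simp
      | tmul a m => rfl
      | add y₁ y₂ h₁ h₂ => rw [map_add, map_add, map_add, h₁, h₂]
    have fact2 : ∀ (c d : A') (y : A' ⊗[A] M),
        Θ ((c ⊗ₜ[A] d) • ((Algebra.TensorProduct.includeRight : A' →ₐ[A] A' ⊗[A] A').toLinearMap.rTensor M y))
          = c ⊗ₜ[A] (N'.mkQ (d • y)) := by
      intro c d y
      induction y using TensorProduct.induction_on with
      | zero => simp
      | tmul b m =>
        have e1 : (Algebra.TensorProduct.includeRight : A' →ₐ[A] A' ⊗[A] A').toLinearMap.rTensor M (b ⊗ₜ[A] m)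
            = ((1 : A') ⊗ₜ[A] b) ⊗ₜ[A] m := rfl
        rw [e1, TensorProduct.smul_tmul', smul_eq_mul, Algebra.TensorProduct.tmul_mul_tmul, mul_one,
          TensorProduct.smul_tmul', smul_eq_mul]
        rfl
      | add y₁ y₂ h₁ h₂ =>
        rw [map_add, smul_add, map_add, h₁, h₂, smul_add, map_add, TensorProduct.tmul_add]
    have fact3 : ∀ z ∈ Submodule.span (A' ⊗[A] A')
          ((N'.restrictScalars A).map
            ((Algebra.TensorProduct.includeRight : A' →ₐ[A] A' ⊗[A] A').toLinearMap.rTensor M) :
              Set ((A' ⊗[A] A') ⊗[A] M)), ∀ r : A' ⊗[A] A', Θ (r • z) = 0 := by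
      intro z hz
      induction hz using Submodule.span_induction with
      | mem z hz =>
        obtain ⟨y, hy, rfl⟩ := hz
        intro r
        induction r using TensorProduct.induction_on with
        | zero => rw [zero_smul, map_zero]
        | tmul c d =>
          rw [fact2]
          have : N'.mkQ (d • y) = 0 := (Submodule.Quotient.mk_eq_zero N').mpr (N'.smul_mem d hy)
          rw [this, TensorProduct.tmul_zero]
        | add r₁ r₂ h₁ h₂ => rw [add_smul, map_add, h₁, h₂, add_zero]
      | zero => intro r; rw [smul_zero, map_zero]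
      | add z₁ z₂ _ _ h₁ h₂ => intro r; rw [smul_add, map_add, h₁, h₂, add_zero]
      | smul s z _ hz => intro r; rw [smul_smul]; exact hz _
    have hx0 : φ.lTensor A' x = 0 := by
      rw [fact1]
      have hmem : (Algebra.TensorProduct.includeLeft : A' →ₐ[A] A' ⊗[A] A').toLinearMap.rTensor M x
          ∈ Submodule.span (A' ⊗[A] A')
          ((N'.restrictScalars A).map
            ((Algebra.TensorProduct.includeLeft : A' →ₐ[A] A' ⊗[A] A').toLinearMap.rTensor M) :
              Set ((A' ⊗[A] A') ⊗[A] M)) :=
        Submodule.subset_span ⟨x, hx, rfl⟩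
      rw [h] at hmem
      have := fact3 _ hmem 1
      rwa [one_smul] at this
    obtain ⟨y, hy⟩ := (hex' x).mp hx0
    exact ⟨y, hy⟩

end Groth.Agent.S5135
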