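import Groth.Statements.S5138
import Mathlib
import Groth.Agent.Helper2.EtLocus
open CategoryTheory CategoryTheory.Limits Groth.Agent.Helper2 Groth.Agent.Helper2.EtLocus
-- import your own Groth.Agent.* helpers here

set_option autoImplicit false
open CategoryTheory AlgebraicGeometry
universe u
open SGA1

namespace Groth.Agent.S5138

/-- For X ⟶ X' ⟶ Y locally of finite type over a locally Noetherian Y and a point x of X, if X ⟶ X' and
the composite X ⟶ Y are both etale near x then X' ⟶ Y is etale near the image of x; 'etale near a
point' is membership in the etale locus, the union of the opens on which the morphism is etale. (The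
published statement takes the morphisms of finite type; quasi-compactness plays no role in this
assertion about single points, so only local finiteness is assumed.) -/
theorem result {X X' Y : Scheme.{u}} (f : X ⟶ X') (g : X' ⟶ Y)
    [IsLocallyNoetherian Y] [LocallyOfFiniteType f] [LocallyOfFiniteType g] (x : X)
    (hf : x ∈ Pi1X.etaleLocus f) (hfg : x ∈ Pi1X.etaleLocus (f ≫ g)) : f.base x ∈ Pi1X.etaleLocus g := by
  rw [mem_etaleLocus_iff] at hf hfg ⊢
  have hg : LocallyOfFinitePresentation g :=
    LocallyOfFinitePresentation.iff_locallyOfFiniteType.mpr inferInstance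
  obtain ⟨hf1, hf2⟩ := stalk_of_etale_nbhd f x hf
  obtain ⟨h1, h2⟩ := stalk_of_etale_nbhd (f ≫ g) x hfg
  rw [Groth.Agent.Helper3.StalkNbhd.etale_nbhd_iff]
  exact ⟨Groth.Agent.Helper3.StalkTower.flat_stalk_of_comp f g x hf1 h1,
    Groth.Agent.Helper3.StalkTower.formallyUnramified_stalk_of_comp f g x hf1 h2⟩

end Groth.Agent.S5138
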