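import Groth.Statements.S5140
import Mathlib
import Groth.Agent.Helper3.EquivOver
open CategoryTheory
-- import your own Groth.Agent.* helpers here

set_option autoImplicit false
open CategoryTheory
universe u v u₂ v₂
open FibCat

namespace Groth.Agent.S5140

/-- If the structure functor of 𝒳 is transportable (isomorphisms of C lift to isomorphisms of 𝒳 with any
prescribed source over their source), then a functor 𝒳 ⟶ 𝒴 over C whose underlying functor is an
equivalence of categories is an equivalence over C. -/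
theorem result {C : Type u} [Category.{v} C]
    {𝒳 𝒴 : BasedCategory.{v₂, u₂} C}
    (h𝒳 : ∀ ⦃T S : C⦄ (α : T ≅ S) (ξ : 𝒳.obj), 𝒳.p.obj ξ = T →
      ∃ (ξ' : 𝒳.obj) (e : ξ ≅ ξ'), 𝒳.p.IsHomLift α.hom e.hom)
    (F : 𝒳 ⥤ᵇ 𝒴) [F.toFunctor.IsEquivalence] : FibCat.IsEquivOver F := by
  have hF : F.toFunctor.IsEquivalence := inferInstance
  haveI := hF.full
  haveI := hF.faithful
  apply Groth.Agent.Helper3.EquivOver.isEquivOver_of F
  intro y
  obtain ⟨x, ⟨θ⟩⟩ := hF.essSurj.mem_essImage y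
  have hx : 𝒴.p.obj (F.obj x) = 𝒳.p.obj x := F.w_obj x
  let g : 𝒳.p.obj x ⟶ 𝒴.p.obj y := eqToHom hx.symm ≫ 𝒴.p.map θ.hom
  haveI hθ : 𝒴.p.IsHomLift g θ.hom := by unfold g; infer_instance
  haveI : IsIso g := IsHomLift.isIso_of_lift_isIso 𝒴.p g θ.hom
  obtain ⟨x', e, he⟩ := h𝒳 (asIso g) x rfl
  -- e : x ≅ x' over g
  have hh : 𝒴.p.IsHomLift (𝟙 (𝒴.p.obj y)) (F.map e.inv ≫ θ.hom) := by
    haveI : 𝒳.p.IsHomLift g e.hom := he
    haveI : 𝒳.p.IsHomLift (inv g) e.inv := by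
      have := IsHomLift.inv_lift_inv 𝒳.p (asIso g) e
      simpa using this
    have : 𝒴.p.IsHomLift (inv g ≫ g) (F.map e.inv ≫ θ.hom) := inferInstance
    rwa [IsIso.inv_hom_id] at this
  exact ⟨x', (F.toFunctor.mapIso e).symm ≪≫ θ, hh⟩

end Groth.Agent.S5140
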