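import Groth.Statements.S5144
import Mathlib
import Groth.Agent.Helper2.FC3
open CategoryTheory Groth.Agent.Helper2.FC3
-- import your own Groth.Agent.* helpers here

set_option autoImplicit false
open CategoryTheory
universe u v u₂ v₂
open FibCat

namespace Groth.Agent.S5144

/-- If p : 𝒳 ⥤ C is both prefibred and co-prefibred (its opposite functor is prefibred), then p is
fibred if and only if it is co-fibred (its opposite functor is fibred). Prefibred and fibred are
Mathlib's notions, which are the source's. -/
theorem result {C : Type u} [Category.{v} C] {𝒳 : Type u₂} [Category.{v₂} 𝒳]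
    (p : 𝒳 ⥤ C) [p.IsPreFibered] [p.op.IsPreFibered] : p.IsFibered ↔ p.op.IsFibered := by
  constructor
  · intro h
    constructor
    intro R S T f g a b c φ ψ hφ hψ
    rw [op_isCartesian_iff] at hφ hψ ⊢
    exact comp_isCocartesian p g.unop f.unop ψ.unop φ.unop
  · intro h
    constructor
    intro R S T f g a b c φ ψ hφ hψ
    have hφ' : p.op.IsCocartesian f.op φ.op := (op_isCocartesian_iff p f.op φ.op).2 hφ
    have hψ' : p.op.IsCocartesian g.op ψ.op := (op_isCocartesian_iff p g.op ψ.op).2 hψ
    have := comp_isCocartesian p.op g.op f.op ψ.op φ.op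
    exact (op_isCocartesian_iff p (g.op ≫ f.op) (ψ.op ≫ φ.op)).1 this

end Groth.Agent.S5144
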