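import Groth.Statements.S5147
import Mathlib
import Groth.Agent.Helper2.Gal2
open CategoryTheory PreGaloisCategory Groth.Agent.Helper2.Gal1 Groth.Agent.Helper2.Gal2
-- import your own Groth.Agent.* helpers here

set_option autoImplicit false
universe u v w
open CategoryTheory PreGaloisCategory
open Pi1

namespace Groth.Agent.S5147

open CategoryTheory.Limits in
/-- In the situation of the first assertion, the stabilizer U of a contains the normal subgroup
generated by the image of u (hence also its closure, U being open) if and only if H(X) is isomorphic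
to a finite coproduct of copies of the final object of C'. -/
theorem result {C C' : Type u} [Category.{v} C] [Category.{v} C']
    [GaloisCategory C] [GaloisCategory C'] (H : C ⥤ C') [PreservesFiniteLimits H] [PreservesFiniteColimits H]
    (F' : C' ⥤ FintypeCat.{w}) [FiberFunctor F'] [FiberFunctor (H ⋙ F')] (X : C) [IsConnected X]
    (a : (H ⋙ F').obj X) :
    Subgroup.normalClosure ((Pi1X.autWhisker H F').range : Set (Aut (H ⋙ F'))) ≤ MulAction.stabilizer (Aut (H ⋙ F')) a ↔
      ∃ n : ℕ, Nonempty (H.obj X ≅ ∐ fun _ : Fin n => ⊤_ C') := by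
  rw [← trivial_iff_iso_coprod_terminal F' (Y := H.obj X), subgroup_normalClosure_le_iff]
  constructor
  · intro h σ b
    obtain ⟨g, hg⟩ := MulAction.exists_smul_eq (Aut (H ⋙ F')) a (b : (H ⋙ F').obj X)
    have h1 := h _ ⟨σ, rfl⟩ g⁻¹
    rw [MulAction.mem_stabilizer_iff, inv_inv, mul_smul, mul_smul, hg] at h1
    have h2 := congrArg (fun z => g • z) h1
    simp only [smul_inv_smul] at h2
    rw [hg] at h2
    exact h2
  · rintro h _ ⟨σ, rfl⟩ g
    rw [MulAction.mem_stabilizer_iff, mul_smul, mul_smul]
    have := h σ (g⁻¹ • a : (H ⋙ F').obj X)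
    change (Pi1X.autWhisker H F' σ) • (g⁻¹ • a) = g⁻¹ • a at this
    rw [this, smul_inv_smul]

end Groth.Agent.S5147
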