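import Groth.Statements.S5148
import Mathlib
import Groth.Agent.Helper2.Gal4
open CategoryTheory PreGaloisCategory Limits Groth.Agent.Helper2.Gal1 Groth.Agent.Helper2.Gal2 Groth.Agent.Helper2.Gal3 Groth.Agent.Helper2.Gal4
-- import your own Groth.Agent.* helpers here

set_option autoImplicit false
universe u v w
open CategoryTheory PreGaloisCategory
open Pi1

namespace Groth.Agent.S5148

open CategoryTheory.Limits in
/-- For an exact functor H : C ⥤ C' of Galois categories with compatible fibre functors, the induced
homomorphism u of fundamental groups and a connected object X' of C' with a point a' of its fibre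
and stabilizer U': the kernel of u lies in U' if and only if some connected subobject of some H(X)
maps to X'. -/
theorem result {C C' : Type u} [Category.{v} C] [Category.{v} C']
    [GaloisCategory C] [GaloisCategory C'] (H : C ⥤ C') [PreservesFiniteLimits H] [PreservesFiniteColimits H]
    (F' : C' ⥤ FintypeCat.{w}) [FiberFunctor F'] [FiberFunctor (H ⋙ F')] (X' : C') [IsConnected X']
    (a' : F'.obj X') :
    (Pi1X.autWhisker H F').ker ≤ MulAction.stabilizer (Aut F') a' ↔
      ∃ (X : C) (Y' : C') (i : Y' ⟶ H.obj X) (q : Y' ⟶ X'), Mono i ∧ IsConnected Y' := by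
  constructor
  · intro h
    obtain ⟨A, hA, a, ha⟩ := exists_galois_of_ker_le H F' (MulAction.stabilizer (Aut F') a')
      (stabilizer_isOpen (Aut F') a') h
    obtain ⟨Y, i, y, hy, hYc, hi⟩ := fiber_in_connected_component F' (H.obj A) a
    have hstab : MulAction.stabilizer (Aut F') y ≤ MulAction.stabilizer (Aut F') a' := by
      intro σ hσ
      apply ha
      rw [MulAction.mem_stabilizer_iff] at hσ ⊢
      rw [← hy, mulAction_naturality, hσ]
    obtain ⟨q, -⟩ := exists_hom_of_stabilizer_le F' y a' hstab
    exact ⟨A, Y, i, q, hi, hYc⟩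
  · rintro ⟨X, Y', i, q, hi, hY'⟩
    obtain ⟨b⟩ := nonempty_fiber_of_isConnected F' Y'
    have h1 := ker_le_stabilizer_of_mono H F' i q b
    obtain ⟨g, hg⟩ := MulAction.exists_smul_eq (Aut F') (F'.map q b) a'
    intro σ hσ
    have hn : g⁻¹ * σ * g ∈ (Pi1X.autWhisker H F').ker := by
      have : (Pi1X.autWhisker H F').ker.Normal := inferInstance
      have := this.conj_mem σ hσ g⁻¹
      simpa using this
    have h2 := h1 hn
    rw [MulAction.mem_stabilizer_iff] at h2 ⊢
    rw [← hg]
    have := congrArg (fun t => g • t) h2
    simp only [mul_smul, smul_inv_smul] at this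
    exact this

end Groth.Agent.S5148
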