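import Groth.Statements.S5149
import Mathlib
import Groth.Agent.Helper2.Gal6
open CategoryTheory PreGaloisCategory Limits Groth.Agent.Helper2.Gal1 Groth.Agent.Helper2.Gal2 Groth.Agent.Helper2.Gal3 Groth.Agent.Helper2.Gal4 Groth.Agent.Helper2.Gal5 Groth.Agent.Helper2.Gal6
-- import your own Groth.Agent.* helpers here

set_option autoImplicit false
universe u v w
open CategoryTheory PreGaloisCategory
open Pi1

namespace Groth.Agent.S5149

open CategoryTheory.Limits in
/-- For exact functors H : C ⥤ C', H' : C' ⥤ C'' of Galois categories with compatible fibre functors and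
induced homomorphisms u' and u of fundamental groups, the kernel of u is contained in the image of
u' if and only if every pointed connected object (X', a') of C' for which H'(X') has a section from
the final object through a' admits a morphism from a connected subobject of some H(X). (The
published statement writes this inclusion as Ker u ⊇ Im u', which is the condition that u ∘ u' be
trivial; this row states Ker u ⊆ Im u', which is what the published argument establishes.) -/
theorem result {C C' C'' : Type u} [Category.{v} C] [Category.{v} C'] [Category.{v} C'']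
    [GaloisCategory C] [GaloisCategory C'] [GaloisCategory C'']
    (H : C ⥤ C') [PreservesFiniteLimits H] [PreservesFiniteColimits H]
    (H' : C' ⥤ C'') [PreservesFiniteLimits H'] [PreservesFiniteColimits H']
    (F'' : C'' ⥤ FintypeCat.{w}) [FiberFunctor F''] [FiberFunctor (H' ⋙ F'')] [FiberFunctor (H ⋙ (H' ⋙ F''))] :
    (Pi1X.autWhisker H (H' ⋙ F'')).ker ≤ (Pi1X.autWhisker H' F'').range ↔
      ∀ (X' : C') (a' : (H' ⋙ F'').obj X'), IsConnected X' →
        (∃ s : ⊤_ C'' ⟶ H'.obj X', ∀ t : F''.obj (⊤_ C''), F''.map s t = a') →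
          ∃ (X : C) (Y' : C') (i : Y' ⟶ H.obj X) (q : Y' ⟶ X'), Mono i ∧ IsConnected Y' := by
  have hsec : ∀ (X' : C') (a' : (H' ⋙ F'').obj X'),
      (∃ s : ⊤_ C'' ⟶ H'.obj X', ∀ t : F''.obj (⊤_ C''), F''.map s t = a') ↔
        (Pi1X.autWhisker H' F'').range ≤ MulAction.stabilizer (Aut (H' ⋙ F'')) a' := by
    intro X' a'
    rw [exists_section_iff_fixed F'' (Y := H'.obj X') a']
    constructor
    · rintro h _ ⟨σ, rfl⟩
      exact h σ
    · intro h σ
      exact h ⟨σ, rfl⟩
  have hsub : ∀ (X' : C') (a' : (H' ⋙ F'').obj X'), IsConnected X' →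
      ((∃ (X : C) (Y' : C') (i : Y' ⟶ H.obj X) (q : Y' ⟶ X'), Mono i ∧ IsConnected Y') ↔
        (Pi1X.autWhisker H (H' ⋙ F'')).ker ≤ MulAction.stabilizer (Aut (H' ⋙ F'')) a') := by
    intro X' a' hX'
    constructor
    · rintro ⟨X, Y', i, q, hi, hY'⟩
      obtain ⟨b⟩ := nonempty_fiber_of_isConnected (H' ⋙ F'') Y'
      have h1 := ker_le_stabilizer_of_mono H (H' ⋙ F'') i q b
      obtain ⟨g, hg⟩ := MulAction.exists_smul_eq (Aut (H' ⋙ F'')) ((H' ⋙ F'').map q b) a'
      intro σ hσ
      have hn : g⁻¹ * σ * g ∈ (Pi1X.autWhisker H (H' ⋙ F'')).ker := by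
        have : (Pi1X.autWhisker H (H' ⋙ F'')).ker.Normal := inferInstance
        have := this.conj_mem σ hσ g⁻¹
        simpa using this
      have h2 := h1 hn
      rw [MulAction.mem_stabilizer_iff] at h2 ⊢
      rw [← hg]
      have := congrArg (fun t => g • t) h2
      simp only [mul_smul, smul_inv_smul] at this
      exact this
    · intro h
      obtain ⟨A, hA, a, ha⟩ := exists_galois_of_ker_le H (H' ⋙ F'')
        (MulAction.stabilizer (Aut (H' ⋙ F'')) a') (stabilizer_isOpen (Aut (H' ⋙ F'')) a') h
      obtain ⟨Y, i, y, hy, hYc, hi⟩ := fiber_in_connected_component (H' ⋙ F'') (H.obj A) a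
      have hstab : MulAction.stabilizer (Aut (H' ⋙ F'')) y ≤
          MulAction.stabilizer (Aut (H' ⋙ F'')) a' := by
        intro σ hσ
        apply ha
        rw [MulAction.mem_stabilizer_iff] at hσ ⊢
        rw [← hy, mulAction_naturality, hσ]
      obtain ⟨q, -⟩ := exists_hom_of_stabilizer_le (H' ⋙ F'') y a' hstab
      exact ⟨A, Y, i, q, hi, hYc⟩
  constructor
  · intro h X' a' hX' hs
    rw [hsub X' a' hX']
    exact h.trans ((hsec X' a').1 hs)
  · intro h σ hσ
    by_contra hσR
    have hRc : IsClosed (((Pi1X.autWhisker H' F'').range : Subgroup (Aut (H' ⋙ F''))) : Set (Aut (H' ⋙ F''))) := by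
      have : (((Pi1X.autWhisker H' F'').range : Subgroup (Aut (H' ⋙ F''))) : Set (Aut (H' ⋙ F''))) =
          Set.range (Pi1X.autWhisker H' F'') := rfl
      rw [this]
      exact (isCompact_range (continuous_autWhisker H' F'')).isClosed
    obtain ⟨X', hX', a', hR, hσa⟩ := exists_pointed_of_not_mem_closed (H' ⋙ F'') _ hRc σ hσR
    have h1 := h X' a' hX' ((hsec X' a').2 hR)
    rw [hsub X' a' hX'] at h1
    exact hσa (h1 hσ)

end Groth.Agent.S5149
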