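import Groth.Statements.S5154
import Groth.Agent.S4721
import Groth.Agent.Helper2.Caten
open IsLocalRing Groth.Agent.Helper2 Groth.Agent.Helper2.Caten
-- import your own Groth.Agent.* helpers here

set_option autoImplicit false
universe u
open LocCoh

namespace Groth.Agent.S5154

/-- Let A be a Noetherian local ring which is catenary and such that depth A_p ≥ 2 for every prime p
with dim A_p ≥ 2. Then all irreducible components of Spec A have dimension dim A: for every minimal
prime p, dim A/p = dim A. -/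
theorem result (A : Type u) [CommRing A] [IsLocalRing A] [IsNoetherianRing A] (hc : CAlg.IsCatenary A) (h : ∀ p : PrimeSpectrum A, (2 : ℕ∞) ≤ p.asIdeal.height → (2 : ℕ∞) ≤ LocCoh.depth (Localization.AtPrime p.asIdeal) (Localization.AtPrime p.asIdeal)) (p : Ideal A) (hp : p ∈ minimalPrimes A) : ringKrullDim (A ⧸ p) = ringKrullDim A := by
  have conn : ConnectedSpace (PrimeSpectrum A) := connectedSpace_of_isLocalRing
  have hminprime : ∀ p ∈ minimalPrimes A, p.IsPrime := fun p hp => hp.1.1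
  -- one step
  have hstep : ∀ p1 ∈ minimalPrimes A, ∀ p2 ∈ minimalPrimes A, ∀ q : Ideal A, q.IsPrime →
      p1 ≤ q → p2 ≤ q → q.height + 1 ≤ ((2 : ℕ) : ℕ∞) →
      ringKrullDim (A ⧸ p1) = ringKrullDim (A ⧸ p2) := by
    intro p1 hp1 p2 hp2 q hq h1 h2 hht
    by_cases he : p1 = p2
    · rw [he]
    have hcov : ∀ p0 ∈ minimalPrimes A, ∀ p3 ∈ minimalPrimes A, p0 ≠ p3 → p0 ≤ q → p3 ≤ q →
        ∀ hp0 : p0.IsPrime, (⟨p0, hp0⟩ : PrimeSpectrum A) ⋖ ⟨q, hq⟩ := by
      intro p0 hp0 p3 hp3 hne h0 h3 hp0'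
      have hlt : (⟨p0, hp0'⟩ : PrimeSpectrum A) < ⟨q, hq⟩ := by
        rw [← PrimeSpectrum.asIdeal_lt_asIdeal]
        refine lt_of_le_of_ne h0 ?_
        intro heq
        apply hne
        have heq' : p0 = q := heq
        have h3' : p3 ≤ p0 := heq' ▸ h3
        exact le_antisymm (hp0.2 ⟨hminprime p3 hp3, bot_le⟩ h3') h3'
      refine ⟨hlt, ?_⟩
      intro z hz1 hz2
      have h1lt : 1 < Order.height (⟨q, hq⟩ : PrimeSpectrum A) :=
        Order.one_lt_height_iff.2 ⟨z, ⟨p0, hp0'⟩, hz1, hz2⟩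
      have hhe : q.height = Order.height (⟨q, hq⟩ : PrimeSpectrum A) :=
        PrimeSpectrum.height_eq_orderHeight ⟨q, hq⟩
      rw [← hhe] at h1lt
      have hfin : q.height ≠ ⊤ := Ideal.height_ne_top hq.ne_top
      have h2lt : q.height < ((2 : ℕ) : ℕ∞) := (ENat.add_one_le_iff hfin).1 hht
      have h3le : q.height ≤ 1 := by
        have : ((2 : ℕ) : ℕ∞) = 2 := by norm_num
        rw [this] at h2lt
        exact ENat.lt_two_iff.1 h2lt
      exact absurd h1lt (not_lt.2 h3le)
    have c1 := coheight_of_covBy hc (hcov p1 hp1 p2 hp2 he h1 h2 (hminprime p1 hp1))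
    have c2 := coheight_of_covBy hc (hcov p2 hp2 p1 hp1 (Ne.symm he) h2 h1 (hminprime p2 hp2))
    have e1 := dimQuot_eq_coheight (⟨p1, hminprime p1 hp1⟩ : PrimeSpectrum A)
    have e2 := dimQuot_eq_coheight (⟨p2, hminprime p2 hp2⟩ : PrimeSpectrum A)
    rw [e1, e2, c1, c2]
  -- all minimal primes have the same coheight
  have hall : ∀ p1 ∈ minimalPrimes A, ∀ p2 ∈ minimalPrimes A,
      ringKrullDim (A ⧸ p1) = ringKrullDim (A ⧸ p2) := by
    intro p1 hp1 p2 hp2
    by_cases he : p1 = p2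
    · rw [he]
    obtain ⟨n, c, h0, hl, hmin, hst⟩ := Groth.Agent.S4721.result A 2
      (fun q _ hq => h ⟨q, inferInstance⟩ (by simpa using hq)) p1 p2 hp1 hp2 he
    have hind : ∀ i : Fin (n + 1), ringKrullDim (A ⧸ c i) = ringKrullDim (A ⧸ c 0) := by
      intro i
      induction i using Fin.induction with
      | zero => rfl
      | succ i ih =>
        obtain ⟨q, hq, hq1, hq2, hq3⟩ := hst i
        rw [← ih]
        exact (hstep _ (hmin _) _ (hmin _) q hq hq1 hq2 hq3).symm
    have := hind (Fin.last n)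
    rw [hl, h0] at this
    exact this.symm
  apply le_antisymm (ringKrullDim_quotient_le p)
  rw [ringKrullDim, Order.krullDim_eq_iSup_coheight]
  refine iSup_le (fun x => ?_)
  obtain ⟨p0, hp0, hle⟩ := Ideal.exists_minimalPrimes_le (I := ⊥) (J := x.asIdeal) bot_le
  have h1 : Order.coheight x ≤ Order.coheight (⟨p0, hminprime p0 hp0⟩ : PrimeSpectrum A) :=
    Order.coheight_anti (by rw [← PrimeSpectrum.asIdeal_le_asIdeal]; exact hle)
  have e1 := dimQuot_eq_coheight (⟨p0, hminprime p0 hp0⟩ : PrimeSpectrum A)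
  rw [hall p hp p0 hp0]
  change ((Order.coheight x : ℕ∞) : WithBot ℕ∞) ≤ ringKrullDim (A ⧸ p0)
  rw [e1]
  exact_mod_cast h1

end Groth.Agent.S5154
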