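import Groth.Statements.S5157
import Groth.Agent.S11662
open IsLocalRing
-- import your own Groth.Agent.* helpers here

set_option autoImplicit false
universe u
open Matlis

namespace Groth.Agent.S5157

/-- Let A be a Noetherian local ring, a an ideal with A/a local (i.e. a ≠ A) and E an injective hull of
the residue field of A. Then the annihilator of a in E, E[a] = {e | a e = 0}, is an injective hull
of the residue field of A/a over A/a. -/
theorem result (A : Type u) [CommRing A] [IsLocalRing A] [IsNoetherianRing A] (a : Ideal A) [IsLocalRing (A ⧸ a)] (E : Type u) [AddCommGroup E] [Module A E] (f : IsLocalRing.ResidueField A →ₗ[A] E) (hf : InjHull.IsInjectiveHull f) : ∃ g : IsLocalRing.ResidueField (A ⧸ a) →ₗ[A ⧸ a] (LocCoh.torsionBy a E), InjHull.IsInjectiveHull g := by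
  have hloc : IsLocalHom (Ideal.Quotient.mk a) :=
    IsLocalHom.of_surjective (Ideal.Quotient.mk a) Ideal.Quotient.mk_surjective
  set φ := ResidueField.map (Ideal.Quotient.mk a) with hφ
  have hφres : ∀ r : A, φ (residue A r) = residue (A ⧸ a) (Ideal.Quotient.mk a r) := fun r => rfl
  have hinj : Function.Injective φ := φ.injective
  have hsurj : Function.Surjective φ := by
    intro y
    obtain ⟨y', rfl⟩ := residue_surjective y
    obtain ⟨r, rfl⟩ := Ideal.Quotient.mk_surjective y'
    exact ⟨residue A r, hφres r⟩
  let ψl : ResidueField A →ₗ[A] ResidueField (A ⧸ a) :=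
    { toFun := φ
      map_add' := map_add φ
      map_smul' := by
        intro r x
        simp only [RingHom.id_apply]
        rw [Algebra.smul_def, Algebra.smul_def, map_mul]
        rfl }
  let ψ : ResidueField A ≃ₗ[A] ResidueField (A ⧸ a) := LinearEquiv.ofBijective ψl ⟨hinj, hsurj⟩
  have hf' : InjHull.IsInjectiveHull (f ∘ₗ ψ.symm.toLinearMap) := by
    refine { injective := ?_, essential := ?_, isInjective := hf.isInjective }
    · exact hf.injective.comp ψ.symm.injective
    · intro N hN
      have hr : LinearMap.range (f ∘ₗ ψ.symm.toLinearMap) = LinearMap.range f := by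
        rw [LinearMap.range_comp, LinearEquiv.range, Submodule.map_top]
      rw [hr]
      exact hf.essential N hN
  obtain ⟨g, hg, -⟩ := Groth.Agent.S11662.result A a (ResidueField (A ⧸ a)) E _ hf'
  exact ⟨g, hg⟩

end Groth.Agent.S5157
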