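import Groth.Statements.S5158
import Groth.Agent.Helper2.AdicTors
open IsLocalRing Groth.Agent.Helper2.AdicTors TensorProduct
-- import your own Groth.Agent.* helpers here

set_option autoImplicit false
universe u
open scoped TensorProduct
open Matlis

namespace Groth.Agent.S5158

/-- Let A be a Noetherian local ring, Â its m-adic completion and I an m-power torsion A-module (a union
of submodules of finite length). Then x ↦ 1 ⊗ x is a bijection I → Â ⊗_A I. -/
theorem result (A : Type u) [CommRing A] [IsLocalRing A] [IsNoetherianRing A] (I : Type u) [AddCommGroup I] [Module A I] (hI : LocCoh.IsPowerTorsion (IsLocalRing.maximalIdeal A) I) : Function.Bijective (TensorProduct.mk A (AdicCompletion (IsLocalRing.maximalIdeal A) A) I 1) := by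
  have hm : (maximalIdeal A).FG := IsNoetherian.noetherian _
  constructor
  · rw [injective_iff_map_eq_zero]
    intro x hx
    obtain ⟨n, hn⟩ := hI x
    let T : Submodule A I := Submodule.torsionBySet A I ((maximalIdeal A ^ n : Ideal A) : Set A)
    have hT : Module.IsTorsionBySet A T ((maximalIdeal A ^ n : Ideal A) : Set A) :=
      Submodule.torsionBySet_isTorsionBySet _
    have hxT : x ∈ T := by
      rw [Submodule.mem_torsionBySet_iff]
      intro a
      exact hn a.1 a.2
    have hinj : Function.Injective (LinearMap.lTensor (AdicCompletion (maximalIdeal A) A) T.subtype) :=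
      Module.Flat.lTensor_preserves_injective_linearMap _ T.injective_subtype
    have h0 : (1 : AdicCompletion (maximalIdeal A) A) ⊗ₜ[A] (⟨x, hxT⟩ : T) = 0 := by
      apply hinj
      rw [LinearMap.lTensor_tmul, map_zero]
      exact hx
    have := rho_one_tmul (maximalIdeal A) n T hT ⟨x, hxT⟩
    rw [h0, map_zero] at this
    exact (congrArg Subtype.val this).symm
  · intro z
    induction z using TensorProduct.induction_on with
    | zero => exact ⟨0, map_zero _⟩
    | add y z hy hz =>
      obtain ⟨y', rfl⟩ := hy
      obtain ⟨z', rfl⟩ := hz
      exact ⟨y' + z', map_add _ _ _⟩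
    | tmul a x =>
      obtain ⟨n, hn⟩ := hI x
      obtain ⟨a', ha'⟩ := Ideal.Quotient.mk_surjective (AdicCompletion.evalₐ (maximalIdeal A) n a)
      have hd : AdicCompletion.evalₐ (maximalIdeal A) n
          (a - algebraMap A (AdicCompletion (maximalIdeal A) A) a') = 0 := by
        rw [map_sub, AdicCompletion.algebraMap_apply, AdicCompletion.evalₐ_of, ← ha']
        simp
      have h := tmul_eq_zero_of_mem (maximalIdeal A) hm n _ hd x hn
      rw [TensorProduct.sub_tmul, sub_eq_zero] at h
      refine ⟨a' • x, ?_⟩
      rw [h, TensorProduct.mk_apply, TensorProduct.tmul_smul, Algebra.algebraMap_eq_smul_one,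
        TensorProduct.smul_tmul']

end Groth.Agent.S5158
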