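import Groth.Statements.S5163
import Groth.Agent.Helper2.HomSupp
open Groth.Agent.Helper2.HomSupp
-- import your own Groth.Agent.* helpers here

set_option autoImplicit false
universe u
open LocCoh

namespace Groth.Agent.S5163

/-- For modules over a Noetherian ring. Let P be a finite A-module and H any A-module with Supp H ⊆ Supp
P. If Hom_A(P, H) = 0 then H = 0. (The published lemma is stated over an arbitrary prescheme; its
proof uses that a nonzero module has an associated prime, so the ring is taken Noetherian here.) -/
theorem result (A : Type u) [CommRing A] [IsNoetherianRing A] (P H : Type u) [AddCommGroup P] [Module A P] [Module.Finite A P] [AddCommGroup H] [Module A H] (hsupp : Module.support A H ⊆ Module.support A P) (hhom : Subsingleton (P →ₗ[A] H)) : Subsingleton H := by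
  by_contra hH
  rw [not_subsingleton_iff_nontrivial] at hH
  obtain ⟨p, hp⟩ := associatedPrimes.nonempty A H
  rw [AssociatedPrimes.mem_iff, isAssociatedPrime_iff_exists_injective_linearMap] at hp
  obtain ⟨hprime, f, hf⟩ := hp
  let pp : PrimeSpectrum A := ⟨p, hprime⟩
  have hpH : pp ∈ Module.support A H := by
    rw [Module.mem_support_iff_exists_annihilator]
    refine ⟨f 1, ?_⟩
    intro a ha
    rw [Submodule.mem_annihilator_span_singleton, ← map_smul] at ha
    have := hf (ha.trans (map_zero f).symm)
    rw [← Algebra.algebraMap_eq_smul_one, Ideal.Quotient.algebraMap_eq,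
      Ideal.Quotient.eq_zero_iff_mem] at this
    exact this
  have hpP := hsupp hpH
  obtain ⟨n, x, hx⟩ := Module.Finite.exists_fin (R := A) (M := P)
  obtain ⟨φ, hφ⟩ := exists_hom_ne_zero pp n P x hx hpP
  apply hφ
  have h0 : f ∘ₗ φ = 0 := Subsingleton.elim _ _
  ext y
  apply hf
  rw [LinearMap.zero_apply, map_zero]
  exact LinearMap.congr_fun h0 y

end Groth.Agent.S5163
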