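import Groth.Statements.S5166
import Groth.Agent.Helper2.CohtOne
open IsLocalRing Groth.Agent.Helper2.Caten Groth.Agent.Helper2.CohtOne
-- import your own Groth.Agent.* helpers here

set_option autoImplicit false
universe u
open LocCoh

namespace Groth.Agent.S5166

/-- In its local form at a point y ∈ Y (A = O_{X,y}). Let A be a Noetherian local ring and I ≠ A an
ideal contained in no minimal prime of A. Then some prime p ⊉ I has dim A/p = 1. -/
theorem result (A : Type u) [CommRing A] [IsLocalRing A] [IsNoetherianRing A] (I : Ideal A) (hI : I ≠ ⊤) (hdense : ∀ q ∈ minimalPrimes A, ¬ I ≤ q) : ∃ p : PrimeSpectrum A, ¬ I ≤ p.asIdeal ∧ ringKrullDim (A ⧸ p.asIdeal) = 1 := by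
  have hIm : I ≤ maximalIdeal A := IsLocalRing.le_maximalIdeal hI
  obtain ⟨q0, hq0, -⟩ := Ideal.exists_minimalPrimes_le (bot_le : (⊥ : Ideal A) ≤ maximalIdeal A)
  have hq0' : q0 ∈ minimalPrimes A := hq0
  have hprime : q0.IsPrime := hq0.1.1
  let q : PrimeSpectrum A := ⟨q0, hprime⟩
  have hIq : ¬ I ≤ q.asIdeal := hdense q0 hq0'
  obtain ⟨n, hn⟩ := ENat.ne_top_iff_exists.1 (coheight_lt_top q).ne
  have hn1 : 1 ≤ n := by
    rw [Nat.one_le_iff_ne_zero]
    intro h0
    apply hIq
    have hmax : IsMax q := by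
      rw [← Order.coheight_eq_zero, ← hn, h0]
      rfl
    have hle : q ≤ closedPoint A := le_top
    exact hIm.trans (hmax hle)
  obtain ⟨p, hpI, hp⟩ := aux I hIm n q hn.symm hn1 hIq
  refine ⟨p, hpI, ?_⟩
  rw [dimQuot_eq_coheight, hp]
  rfl

end Groth.Agent.S5166
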