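import Groth.Statements.S5172
import Groth.Agent.Helper2.Isch
open Groth.Agent.Helper2
-- import your own Groth.Agent.* helpers here

set_option autoImplicit false
universe u
open LocCoh

namespace Groth.Agent.S5172

/-- Let A be a Noetherian ring which is a quotient of a regular ring, I an ideal, M a finite A-module
and n ≥ 0; c(p) = codim(V(p) ∩ V(I), V(p)). Then depth M_p > n − c(p) for all primes p ⊉ I if and
only if depth M_p ≥ n for all primes p ⊉ I with c(p) = 1. -/
theorem result (R : Type u) [CommRing R] [IsRegularRing R] (A : Type u) [CommRing A] [IsNoetherianRing A] (π : R →+* A) (hπ : Function.Surjective π) (I : Ideal A) (M : Type u) [AddCommGroup M] [Module A M] [Module.Finite A M] (n : ℕ) : (∀ p : PrimeSpectrum A, ¬ I ≤ p.asIdeal → (n : ℕ∞) < LocCoh.depth (Localization.AtPrime p.asIdeal) (LocalizedModule p.asIdeal.primeCompl M) + SGA2.relCodim I p) ↔ (∀ p : PrimeSpectrum A, ¬ I ≤ p.asIdeal → SGA2.relCodim I p = 1 → (n : ℕ∞) ≤ LocCoh.depth (Localization.AtPrime p.asIdeal) (LocalizedModule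 p.asIdeal.primeCompl M)) := by
  constructor
  · intro h p hp hc
    have := h p hp
    rw [hc] at this
    exact ENat.natCast_lt_add_one_iff.1 this
  · intro h p hp
    by_cases hc : SGA2.relCodim I p = ⊤
    · rw [hc, add_top]
      exact ENat.natCast_lt_top n
    -- the index set is nonempty
    have hne : Nonempty {q : PrimeSpectrum A // p ≤ q ∧ I ≤ q.asIdeal} := by
      by_contra hcon
      rw [not_nonempty_iff] at hcon
      apply hc
      unfold SGA2.relCodim
      exact iInf_of_empty _
    obtain ⟨⟨q, hpq, hIq⟩, hq⟩ := ENat.exists_eq_iInf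
      (fun q : {q : PrimeSpectrum A // p ≤ q ∧ I ≤ q.asIdeal} =>
        Order.height (⟨q.1, q.2.1⟩ : Set.Ici p))
    change Order.height (⟨q, hpq⟩ : Set.Ici p) = SGA2.relCodim I p at hq
    obtain ⟨k, hk⟩ := ENat.ne_top_iff_exists.1 hc
    have hplt : (⟨p, le_refl p⟩ : Set.Ici p) < ⟨q, hpq⟩ := by
      refine lt_of_le_of_ne hpq ?_
      intro heq
      have : p = q := congrArg Subtype.val heq
      exact hp (this ▸ hIq)
    have hpos : 0 < Order.height (⟨q, hpq⟩ : Set.Ici p) := by
      rw [Order.height_pos]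
      intro hmin
      exact hplt.not_ge (hmin hplt.le)
    have hk0 : k ≠ 0 := by
      rintro rfl
      rw [hq, ← hk] at hpos
      simp at hpos
    obtain ⟨m, rfl⟩ := Nat.exists_eq_succ_of_ne_zero hk0
    have hq' : Order.height (⟨q, hpq⟩ : Set.Ici p) = (m : ℕ∞) + 1 := by
      rw [hq, ← hk]; push_cast; rfl
    obtain ⟨-, ⟨⟨p', hpp'⟩, hp'q, hhp'⟩, hall⟩ := Order.height_eq_coe_add_one_iff.1 hq'
    have hp'q' : p' < q := hp'q
    -- (a)
    have hIp' : ¬ I ≤ p'.asIdeal := by
      intro hI'
      have h1 : SGA2.relCodim I p ≤ Order.height (⟨p', hpp'⟩ : Set.Ici p) :=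
        iInf_le (fun q : {q : PrimeSpectrum A // p ≤ q ∧ I ≤ q.asIdeal} =>
          Order.height (⟨q.1, q.2.1⟩ : Set.Ici p)) ⟨p', hpp', hI'⟩
      rw [hhp', ← hq, hq'] at h1
      have : (m : ℕ∞) + 1 ≤ m := h1
      have h2 : (m + 1 : ℕ) ≤ m := by exact_mod_cast this
      omega
    -- (b)
    have hcod : SGA2.relCodim I p' = 1 := by
      apply le_antisymm
      · have h1 : SGA2.relCodim I p' ≤ Order.height (⟨q, hp'q'.le⟩ : Set.Ici p') :=
          iInf_le (fun q : {q : PrimeSpectrum A // p' ≤ q ∧ I ≤ q.asIdeal} =>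
            Order.height (⟨q.1, q.2.1⟩ : Set.Ici p')) ⟨q, hp'q'.le, hIq⟩
        refine h1.trans ?_
        by_contra hgt
        push Not at hgt
        obtain ⟨⟨y, hy⟩, ⟨z, hz⟩, hzy, hyq⟩ := Order.one_lt_height_iff.1 hgt
        have hy' : p' ≤ y := hy
        have hz' : p' ≤ z := hz
        have hzy' : z < y := hzy
        have hyq' : y < q := hyq
        have hpy : p ≤ y := hpp'.trans hy'
        have h2 : (⟨p', hpp'⟩ : Set.Ici p) < ⟨y, hpy⟩ :=
          show p' < y from lt_of_le_of_lt hz' hzy'
        have h3 := Order.height_add_one_le h2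
        have h4 := hall ⟨y, hpy⟩ hyq'
        rw [hhp'] at h3
        have : (m : ℕ∞) + 1 ≤ m := h3.trans h4
        have h5 : (m + 1 : ℕ) ≤ m := by exact_mod_cast this
        omega
      · unfold SGA2.relCodim
        refine le_iInf (fun q' => ?_)
        obtain ⟨q', hq'1, hq'2⟩ := q'
        rw [Order.one_le_iff_pos, Order.height_pos]
        intro hmin
        have hlt : (⟨p', le_refl p'⟩ : Set.Ici p') < ⟨q', hq'1⟩ := by
          refine lt_of_le_of_ne hq'1 ?_
          intro heq
          have : p' = q' := congrArg Subtype.val heq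
          exact hIp' (this ▸ hq'2)
        exact hlt.not_ge (hmin hlt.le)
    have hdep := h p' hIp' hcod
    have hisch := Isch.depth_le_depth_add_height A M p p' hpp'
    rw [hhp'] at hisch
    rw [← hq, hq']
    set dp := LocCoh.depth (Localization.AtPrime p.asIdeal) (LocalizedModule p.asIdeal.primeCompl M)
      with hdp
    by_cases htop : dp = ⊤
    · rw [htop, top_add]
      exact ENat.natCast_lt_top n
    · have h6 : (n : ℕ∞) ≤ dp + m := hdep.trans hisch
      refine lt_of_le_of_lt h6 ?_
      rw [← add_assoc]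
      exact ENat.lt_add_one_iff (by
        obtain ⟨d, hd⟩ := ENat.ne_top_iff_exists.1 htop
        rw [← hd]
        exact_mod_cast ENat.natCast_ne_top (d + m)) |>.2 le_rfl

end Groth.Agent.S5172
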