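import Groth.Statements.S5175
import Groth.Agent.S5155
import Groth.Agent.S0301
import Groth.Agent.Helper2.Coext2
open IsLocalRing Groth.Agent.Helper2.Socle Groth.Agent.Helper2.Coext Groth.Agent.Helper2.Coext2
-- import your own Groth.Agent.* helpers here

set_option autoImplicit false
universe u
open Matlis

namespace Groth.Agent.S5175

/-- Let k₀ be a field and A a Noetherian local k₀-algebra with [k : k₀] finite, k the residue field.
Then the topological dual A' = colim_n Hom_{k₀}(A/m^n, k₀), i.e. the submodule of Hom_{k₀}(A, k₀) of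
forms killing some power of m (A acting through the source), is an injective hull of k (it is the
dualizing module of A). -/
theorem result (k₀ : Type u) [Field k₀] (A : Type u) [CommRing A] [IsLocalRing A] [IsNoetherianRing A] [Algebra k₀ A] [Module.Finite k₀ (A ⧸ IsLocalRing.maximalIdeal A)] : ∃ f : IsLocalRing.ResidueField A →ₗ[A] ↥(⨆ n : ℕ, Submodule.torsionBySet A ((ModuleCat.coextendScalars (algebraMap k₀ A)).obj (ModuleCat.of k₀ k₀)) ((IsLocalRing.maximalIdeal A ^ n : Ideal A) : Set A)), InjHull.IsInjectiveHull f := by
  have hinj0 : Module.Injective k₀ k₀ := Module.injective_of_isSemisimpleRing k₀ k₀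
  have hinjH : Module.Injective A
      ((ModuleCat.coextendScalars (algebraMap k₀ A)).obj (ModuleCat.of k₀ k₀)) :=
    injective_coext' hinj0
  have hfin : Module.length k₀ (ResidueField A) ≠ ⊤ :=
    Module.length_ne_top (R := k₀) (M := A ⧸ IsLocalRing.maximalIdeal A)
  have hsimpleH := isSimpleModule_hom_coext (A := k₀) (B := A) (E := k₀)
    (isSimpleModule_field k₀) hinj0 hfin
  apply (Groth.Agent.S5155.result A _).2
  exact ⟨Groth.Agent.S0301.result A _ hinjH (maximalIdeal A), isPowerTorsion_iSup,
    isSimpleModule_hom_iSup hsimpleH⟩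

end Groth.Agent.S5175
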