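import Groth.Statements.S5189
import Mathlib
import Groth.Agent.Helper6.EdgeOutIso2
import Groth.Agent.Helper9.EtLocCohSeq

set_option autoImplicit false
universe u
open CategoryTheory CategoryTheory.Limits AlgebraicGeometry Opposite
open EtDepth

namespace Groth.Agent.S5189

/-- For an abelian sheaf. Let X be a scheme, j : U → X an open immersion with closed complement Y, F an
abelian sheaf on the small étale site of X and n ≥ 0, and suppose the Y-étale depth of F is ≥ n (the
local cohomology sheaves H^p_Y(F) vanish for p < n). Then the edge homomorphism H^n_Y(X, F) → H^0(X,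
H^n_Y(F)) of the spectral sequence of the composite functor Γ(X, −) ∘ Γ_Y, from the n-th local
cohomology group to the group of global sections of the n-th local cohomology sheaf, is an
isomorphism. -/
theorem result {X U : Scheme.{u}} (j : U ⟶ X) [IsOpenImmersion j] [EtCoh.BCCont j] (F : EtCoh.Ab X) (n : ℕ) (h : EtDepth.DepthGE j F n) : IsIso (RDer.edgeOut (EtDual.secSupp j) (sheafToPresheaf X.smallEtaleTopology AddCommGrpCat.{u+1} ⋙ (evaluation X.Etaleᵒᵖ AddCommGrpCat.{u+1}).obj (op (EtCoh.top X))) n F) := by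
  have hinj : ∀ (I : EtCoh.Ab X) [Injective I], Injective ((EtDual.secSupp j).obj I) := by
    intro I _
    obtain ⟨s, hs⟩ := Groth.Agent.Helper9.EtCounitMono.exists_section_unit
      (Groth.Agent.Helper9.EtShriekExact.jadj j) (Groth.Agent.Helper9.EtShriekOpen.sheafAdj j) I
      (Groth.Agent.Helper9.EtCounitMono.mono_jadj_counit j _)
    have h0 := Adjunction.unit_leftAdjointUniq_hom_app (EtCoh.pullPushAdj j)
      (Groth.Agent.Helper9.EtShriekOpen.sheafAdj j) I
    obtain ⟨θ, hθ⟩ : ∃ θ, θ = (EtCoh.push j).map (((EtCoh.pullPushAdj j).leftAdjointUniq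
      (Groth.Agent.Helper9.EtShriekOpen.sheafAdj j)).hom.app I) := ⟨_, rfl⟩
    have : IsIso θ := by rw [hθ]; infer_instance
    have h2 : EtDual.unitApp j I =
        (Groth.Agent.Helper9.EtShriekOpen.sheafAdj j).unit.app I ≫ inv θ := by
      rw [← h0, ← hθ, Category.assoc, IsIso.hom_inv_id, Category.comp_id]
    have hs' : (θ ≫ s) ≫ EtDual.unitApp j I = 𝟙 _ := by
      rw [h2, Category.assoc, reassoc_of% hs, IsIso.hom_inv_id]
    obtain ⟨s', hs''⟩ : ∃ s' : (EtCoh.push j).obj ((EtCoh.pull j).obj I) ⟶ I,
        s' ≫ EtDual.unitApp j I = 𝟙 _ := ⟨θ ≫ s, hs'⟩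
    have hw : (𝟙 I - EtDual.unitApp j I ≫ s') ≫ EtDual.unitApp j I = 0 := by
      rw [Preadditive.sub_comp, Category.id_comp, Category.assoc, hs'', Category.comp_id, sub_self]
    refine Groth.Agent.Helper6.EdgeOutIso2.injective_of_retract
      (kernel.ι (EtDual.unitApp j I)) (kernel.lift _ _ hw) ?_
    rw [← cancel_mono (kernel.ι (EtDual.unitApp j I)), Category.assoc, kernel.lift_ι,
      Preadditive.comp_sub, Category.comp_id, kernel.condition_assoc, zero_comp, sub_zero,
      Category.id_comp]
  have hX : ∀ m, Groth.Agent.Helper6.EdgeOutIso.Acy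
      (sheafToPresheaf X.smallEtaleTopology AddCommGrpCat.{u+1} ⋙
        (evaluation X.Etaleᵒᵖ AddCommGrpCat.{u+1}).obj (op (EtCoh.top X)))
      ((EtDual.secSupp j).obj ((injectiveResolution F).cocomplex.X m)) := by
    intro m q
    have := hinj ((injectiveResolution F).cocomplex.X m)
    exact Functor.isZero_rightDerived_obj_injective_succ _ _ _
  exact Groth.Agent.Helper6.EdgeOutIso2.isIso_edgeOut_of_vanishing _ (EtDual.secSupp j) F n hX
    (fun m hm => h m hm)

end Groth.Agent.S5189
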