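import Groth.Statements.S5204
import Mathlib
-- import your own Groth.Agent.* helpers here

set_option autoImplicit false
open CategoryTheory CategoryTheory.Limits
universe w v₁ u₁
open DescCat

namespace Groth.Agent.S5204

/-- In a category with pullbacks: if `u` and `v` are effective epimorphisms and `v` is a universal
epimorphism (all its base changes are epimorphisms), then the composite `v ≫ u` is an effective
epimorphism. -/
theorem result {C : Type u₁} [Category.{v₁} C] [HasPullbacks C]
    {U T S : C} (v : U ⟶ T) (u : T ⟶ S) [EffectiveEpi u] [EffectiveEpi v]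
    (hv : MorphismProperty.universally (MorphismProperty.epimorphisms C) v) :
    EffectiveEpi (v ≫ u) := by
  have hepi : ∀ {Z : C} (a : Z ⟶ T), Epi (pullback.fst a v) := fun a =>
    hv (pullback.snd a v) a (pullback.fst a v) (IsPullback.of_hasPullback a v)
  have key : ∀ {W : C} (e : U ⟶ W),
      (∀ {Z : C} (g₁ g₂ : Z ⟶ U), g₁ ≫ v ≫ u = g₂ ≫ v ≫ u → g₁ ≫ e = g₂ ≫ e) →
      ∃ k : S ⟶ W, (v ≫ u) ≫ k = e := by
    intro W e h
    have h1 : ∀ {Z : C} (g₁ g₂ : Z ⟶ U), g₁ ≫ v = g₂ ≫ v → g₁ ≫ e = g₂ ≫ e := by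
      intro Z g₁ g₂ hg
      exact h g₁ g₂ (by rw [← Category.assoc, hg, Category.assoc])
    set e' := EffectiveEpi.desc v e h1 with he'
    have hve' : v ≫ e' = e := EffectiveEpi.fac v e h1
    have h2 : ∀ {Z : C} (a₁ a₂ : Z ⟶ T), a₁ ≫ u = a₂ ≫ u → a₁ ≫ e' = a₂ ≫ e' := by
      intro Z a₁ a₂ ha
      have := hepi a₁
      have := hepi (pullback.fst a₁ v ≫ a₂)
      have c1 : pullback.fst a₁ v ≫ a₁ = pullback.snd a₁ v ≫ v := pullback.condition
      have c2 : pullback.fst (pullback.fst a₁ v ≫ a₂) v ≫ pullback.fst a₁ v ≫ a₂ =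
          pullback.snd (pullback.fst a₁ v ≫ a₂) v ≫ v := pullback.condition
      have h3 := h (pullback.fst (pullback.fst a₁ v ≫ a₂) v ≫ pullback.snd a₁ v)
        (pullback.snd (pullback.fst a₁ v ≫ a₂) v) (by
          rw [Category.assoc, ← Category.assoc (pullback.snd a₁ v), ← c1, ← Category.assoc _ v u, ← c2]
          simp only [Category.assoc, ha])
      rw [← hve', Category.assoc, ← Category.assoc (pullback.snd a₁ v), ← c1, ← Category.assoc _ v e', ← c2] at h3
      simp only [Category.assoc] at h3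
      exact (cancel_epi _).mp ((cancel_epi _).mp h3)
    refine ⟨EffectiveEpi.desc u e' h2, ?_⟩
    rw [Category.assoc, EffectiveEpi.fac u e' h2, hve']
  have : Epi (v ≫ u) := epi_comp v u
  refine ⟨⟨{ desc := fun e h => (key e (fun g₁ g₂ hg => h g₁ g₂ (by simpa using hg))).choose
             fac := fun e h => (key e (fun g₁ g₂ hg => h g₁ g₂ (by simpa using hg))).choose_spec
             uniq := fun e h m hm => ?_ }⟩⟩
  rw [← cancel_epi (v ≫ u), hm]
  exact ((key e (fun g₁ g₂ hg => h g₁ g₂ (by simpa using hg))).choose_spec).symm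

end Groth.Agent.S5204
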