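import Groth.Statements.S5205
import Mathlib
import Groth.Agent.S5204
-- import your own Groth.Agent.* helpers here

set_option autoImplicit false
open CategoryTheory CategoryTheory.Limits
universe w v₁ u₁
open DescCat

namespace Groth.Agent.S5205

/-- First assertion: in a category with pullbacks: universal effective epimorphisms (morphisms all of
whose base changes are effective epimorphisms) are stable under composition. -/
theorem result {C : Type u₁} [Category.{v₁} C] [HasPullbacks C]
    {U T S : C} (v : U ⟶ T) (u : T ⟶ S)
    (hu : (MorphismProperty.universally (fun (A B : C) (p : A ⟶ B) => EffectiveEpi p)) u) (hv : (MorphismProperty.universally (fun (A B : C) (p : A ⟶ B) => EffectiveEpi p)) v) :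
    (MorphismProperty.universally (fun (A B : C) (p : A ⟶ B) => EffectiveEpi p)) (v ≫ u) := by
  intro X' Y' i₁ i₂ f' hpb
  have hu' : EffectiveEpi (pullback.fst i₂ u) :=
    hu (pullback.snd i₂ u) i₂ (pullback.fst i₂ u) (IsPullback.of_hasPullback i₂ u)
  set v' : X' ⟶ pullback i₂ u := pullback.lift f' (i₁ ≫ v) (by rw [hpb.w, Category.assoc]) with hv'def
  have hf' : v' ≫ pullback.fst i₂ u = f' := pullback.lift_fst _ _ _
  have hleft : IsPullback v' i₁ (pullback.snd i₂ u) v := by
    refine IsPullback.of_right ?_ (pullback.lift_snd _ _ _) (IsPullback.of_hasPullback i₂ u)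
    rw [hf']; exact hpb
  have hv'eff : EffectiveEpi v' := hv _ _ _ hleft
  have hv'univ : MorphismProperty.universally (MorphismProperty.epimorphisms C) v' := by
    intro X'' Y'' k₁ k₂ f'' hpb2
    have : EffectiveEpi f'' := hv _ _ _ (hpb2.paste_vert hleft)
    show Epi f''
    infer_instance
  rw [← hf']
  exact Groth.Agent.S5204.result v' (pullback.fst i₂ u) hv'univ

end Groth.Agent.S5205
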