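import Groth.Statements.S5206
import Mathlib
-- import your own Groth.Agent.* helpers here

set_option autoImplicit false
open CategoryTheory CategoryTheory.Limits
universe w v₁ u₁
open DescCat

namespace Groth.Agent.S5206

/-- Second assertion: in a category with pullbacks: if `v ≫ u` is a universal effective epimorphism (all
base changes are effective epimorphisms), then so is `u`; nothing is assumed about `v`. -/
theorem result {C : Type u₁} [Category.{v₁} C] [HasPullbacks C]
    {U T S : C} (v : U ⟶ T) (u : T ⟶ S)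
    (h : (MorphismProperty.universally (fun (A B : C) (p : A ⟶ B) => EffectiveEpi p)) (v ≫ u)) :
    (MorphismProperty.universally (fun (A B : C) (p : A ⟶ B) => EffectiveEpi p)) u := by
  -- core claim
  have core : ∀ {U T S : C} (v : U ⟶ T) (u : T ⟶ S),
      (MorphismProperty.universally (fun (A B : C) (p : A ⟶ B) => EffectiveEpi p)) (v ≫ u) →
      EffectiveEpi u := by
    intro U T S v u h
    have hvu : EffectiveEpi (v ≫ u) := h (𝟙 U) (𝟙 S) (v ≫ u) IsPullback.of_id_snd
    have hepi : Epi u := epi_of_epi v u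
    have hpr : EffectiveEpi (pullback.snd (v ≫ u) u) :=
      h (pullback.fst (v ≫ u) u) u (pullback.snd (v ≫ u) u) (IsPullback.of_hasPullback (v ≫ u) u).flip
    have key : ∀ {W : C} (e : T ⟶ W),
        (∀ {Z : C} (a₁ a₂ : Z ⟶ T), a₁ ≫ u = a₂ ≫ u → a₁ ≫ e = a₂ ≫ e) →
        ∃ k : S ⟶ W, u ≫ k = e := by
      intro W e he
      have h1 : ∀ {Z : C} (g₁ g₂ : Z ⟶ U), g₁ ≫ v ≫ u = g₂ ≫ v ≫ u → g₁ ≫ v ≫ e = g₂ ≫ v ≫ e := by
        intro Z g₁ g₂ hg
        have := he (g₁ ≫ v) (g₂ ≫ v) (by simpa using hg)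
        simpa using this
      refine ⟨EffectiveEpi.desc (v ≫ u) (v ≫ e) h1, ?_⟩
      have hfac := EffectiveEpi.fac (v ≫ u) (v ≫ e) h1
      rw [← cancel_epi (pullback.snd (v ≫ u) u)]
      have c : pullback.fst (v ≫ u) u ≫ v ≫ u = pullback.snd (v ≫ u) u ≫ u := pullback.condition
      have h2 := he (pullback.fst (v ≫ u) u ≫ v) (pullback.snd (v ≫ u) u) (by simpa using c)
      rw [← h2, ← Category.assoc, ← c]
      simp only [Category.assoc] at hfac ⊢
      rw [hfac]
    refine ⟨⟨{ desc := fun e he => (key e he).choose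
               fac := fun e he => (key e he).choose_spec
               uniq := fun e he m hm => ?_ }⟩⟩
    rw [← cancel_epi u, hm]
    exact ((key e he).choose_spec).symm
  intro X' Y' i₁ i₂ f' hpb
  apply core (pullback.fst i₁ v) f'
  intro X'' Y'' k₁ k₂ f'' hpb2
  exact h _ _ _ (hpb2.paste_vert ((IsPullback.of_hasPullback i₁ v).paste_horiz hpb))

end Groth.Agent.S5206
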