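import Groth.Statements.S5209
import Mathlib
import Groth.Agent.Helper2.Desc
open Groth.Agent.Helper2
-- import your own Groth.Agent.* helpers here

set_option autoImplicit false
open CategoryTheory CategoryTheory.Limits
universe w v₁ u₁
open DescCat

namespace Groth.Agent.S5209

/-- In a category with pullbacks, let `f : S' ⟶ S` be a universal effective epimorphism, that is, a
morphism all of whose base changes are effective epimorphisms. Then a morphism `g` over `S` is an
isomorphism (resp. a monomorphism) if and only if its base change along `f` is. -/
theorem result {C : Type u₁} [Category.{v₁} C] [HasPullbacks C]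
    {S' S : C} (f : S' ⟶ S) (hf : (MorphismProperty.universally (fun (A B : C) (p : A ⟶ B) => EffectiveEpi p)) f) {X Y : Over S} (g : X ⟶ Y) :
    (IsIso g ↔ IsIso ((Over.pullback f).map g)) ∧ (Mono g ↔ Mono ((Over.pullback f).map g)) := by
  -- the pullback square
  have hsq : IsPullback ((Over.pullback f).map g).left (pullback.fst X.hom f) (pullback.fst Y.hom f) g.left := by
    refine IsPullback.of_right (h₁₂ := pullback.snd Y.hom f) (h₂₂ := Y.hom) (v₁₃ := f) ?_ ?_
      (IsPullback.of_hasPullback Y.hom f).flip
    · have e1 : ((Over.pullback f).map g).left ≫ pullback.snd Y.hom f = pullback.snd X.hom f := by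
        simp only [Over.pullback_map_left]; exact pullback.lift_snd _ _ _
      have e2 : g.left ≫ Y.hom = X.hom := Over.w g
      rw [e1, e2]
      exact (IsPullback.of_hasPullback X.hom f).flip
    · simp only [Over.pullback_map_left]; exact pullback.lift_fst _ _ _
  have hp : Desc.UEE C (pullback.fst Y.hom f) := Desc.UEE.fst hf Y.hom
  constructor
  · constructor
    · intro h; infer_instance
    · intro h
      have : IsIso ((Over.pullback f).map g).left :=
        inferInstanceAs (IsIso ((Over.forget S').map ((Over.pullback f).map g)))
      have : IsIso g.left := Desc.isIso_of_isPullback hsq hp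
      have : IsIso ((Over.forget S).map g) := this
      exact isIso_of_reflects_iso g (Over.forget S)
  · constructor
    · intro h; infer_instance
    · intro h
      have : Mono ((Over.pullback f).map g).left := inferInstance
      have : Mono g.left := Desc.mono_of_isPullback hsq hp
      exact Over.mono_of_mono_left g

end Groth.Agent.S5209
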