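import Groth.Statements.S5210
import Mathlib
import Groth.Agent.Helper2.Desc
open Groth.Agent.Helper2
-- import your own Groth.Agent.* helpers here

set_option autoImplicit false
open CategoryTheory CategoryTheory.Limits
universe w v₁ u₁
open DescCat

namespace Groth.Agent.S5210

/-- In a category with pullbacks, let `f : S' ⟶ S` be a universal effective epimorphism (all of its base
changes are effective epimorphisms) and `Y ⟶ S` a monomorphism. Then an object `X` over `S` admits a
morphism to `Y` over `S` if and only if it does so after base change along `f`. -/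
theorem result {C : Type u₁} [Category.{v₁} C] [HasPullbacks C]
    {S' S : C} (f : S' ⟶ S) (hf : (MorphismProperty.universally (fun (A B : C) (p : A ⟶ B) => EffectiveEpi p)) f) (X Y : Over S) [Mono Y.hom] :
    Nonempty (X ⟶ Y) ↔ Nonempty ((Over.pullback f).obj X ⟶ (Over.pullback f).obj Y) := by
  constructor
  · rintro ⟨g⟩
    exact ⟨(Over.pullback f).map g⟩
  · rintro ⟨h⟩
    have hp : Desc.UEE C (pullback.fst X.hom f) := Desc.UEE.fst hf X.hom
    have hw : h.left ≫ pullback.snd Y.hom f = pullback.snd X.hom f := by
      have := Over.w h
      simpa using this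
    obtain ⟨k, hk1, hk2⟩ := Desc.exists_desc_of_mono hp Y.hom X.hom (h.left ≫ pullback.fst Y.hom f) (by
      rw [Category.assoc, pullback.condition, ← Category.assoc, hw, pullback.condition])
    exact ⟨Over.homMk k hk1⟩

end Groth.Agent.S5210
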