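import Groth.Statements.S5211
import Mathlib
import Groth.Agent.Helper2.Desc
open Groth.Agent.Helper2
-- import your own Groth.Agent.* helpers here

set_option autoImplicit false
open CategoryTheory CategoryTheory.Limits
universe w v₁ u₁
open DescCat

namespace Groth.Agent.S5211

/-- In a category with pullbacks: if `f : S' ⟶ S` is a universal effective epimorphism and the canonical
map `S' ×_S S' ⟶ S' ×_T S'` induced by `g : S ⟶ T` is an isomorphism, then `g` is a monomorphism. -/
theorem result {C : Type u₁} [Category.{v₁} C] [HasPullbacks C]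
    {S' S T : C} (f : S' ⟶ S) (hf : (MorphismProperty.universally (fun (A B : C) (p : A ⟶ B) => EffectiveEpi p)) f) (g : S ⟶ T)
    [IsIso (pullback.mapDesc f f g)] : Mono g := by
  constructor
  intro Z a b hab
  have hq1 := (Desc.UEE.fst hf a).epi
  have hq2 := (Desc.UEE.fst hf (pullback.fst a f ≫ b)).epi
  have c1 : pullback.fst a f ≫ a = pullback.snd a f ≫ f := pullback.condition
  have c2 : pullback.fst (pullback.fst a f ≫ b) f ≫ pullback.fst a f ≫ b =
      pullback.snd (pullback.fst a f ≫ b) f ≫ f := pullback.condition
  -- the map to S' ×_T S'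
  let m : pullback (pullback.fst a f ≫ b) f ⟶ pullback (f ≫ g) (f ≫ g) :=
    pullback.lift (pullback.fst (pullback.fst a f ≫ b) f ≫ pullback.snd a f)
      (pullback.snd (pullback.fst a f ≫ b) f) (by
        rw [Category.assoc, ← Category.assoc (pullback.snd a f), ← c1, ← Category.assoc _ f g, ← c2]
        simp only [Category.assoc, hab])
  have h1 : (m ≫ inv (pullback.mapDesc f f g)) ≫ pullback.fst f f =
      pullback.fst (pullback.fst a f ≫ b) f ≫ pullback.snd a f := by
    have : pullback.mapDesc f f g ≫ pullback.fst (f ≫ g) (f ≫ g) = pullback.fst f f := by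
      rw [pullback.mapDesc, pullback.lift_fst, Category.comp_id]
    rw [← this, Category.assoc, IsIso.inv_hom_id_assoc]
    exact pullback.lift_fst _ _ _
  have h2 : (m ≫ inv (pullback.mapDesc f f g)) ≫ pullback.snd f f =
      pullback.snd (pullback.fst a f ≫ b) f := by
    have : pullback.mapDesc f f g ≫ pullback.snd (f ≫ g) (f ≫ g) = pullback.snd f f := by
      rw [pullback.mapDesc, pullback.lift_snd, Category.comp_id]
    rw [← this, Category.assoc, IsIso.inv_hom_id_assoc]
    exact pullback.lift_snd _ _ _
  have h3 : (pullback.fst (pullback.fst a f ≫ b) f ≫ pullback.snd a f) ≫ f =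
      pullback.snd (pullback.fst a f ≫ b) f ≫ f := by
    rw [← h1, ← h2]
    simp only [Category.assoc, pullback.condition]
  rw [Category.assoc, ← c1, ← c2] at h3
  exact (cancel_epi _).mp ((cancel_epi _).mp h3)

end Groth.Agent.S5211
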