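import Groth.Statements.S5214
import Mathlib
import Groth.Agent.Helper2.Desc
import Groth.Agent.S5205
open Groth.Agent.Helper2
-- import your own Groth.Agent.* helpers here

set_option autoImplicit false
open CategoryTheory CategoryTheory.Limits
universe w v₁ u₁
open DescCat

namespace Groth.Agent.S5214

/-- In a category with pullbacks and binary products: the product `u × u'` of two universal effective
epimorphisms (morphisms all of whose base changes are effective epimorphisms) is a universal
effective epimorphism. -/
theorem result {C : Type u₁} [Category.{v₁} C] [HasPullbacks C] [HasBinaryProducts C]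
    {X Y X' Y' : C} (u : X ⟶ Y) (u' : X' ⟶ Y')
    (hu : (MorphismProperty.universally (fun (A B : C) (p : A ⟶ B) => EffectiveEpi p)) u) (hu' : (MorphismProperty.universally (fun (A B : C) (p : A ⟶ B) => EffectiveEpi p)) u') :
    (MorphismProperty.universally (fun (A B : C) (p : A ⟶ B) => EffectiveEpi p)) (prod.map u u') := by
  have sq1 : ∀ {X Y X' : C} (u : X ⟶ Y),
      IsPullback (prod.map u (𝟙 X')) prod.fst prod.fst u := by
    intro X Y X' u
    refine ⟨⟨prod.map_fst _ _⟩, ⟨PullbackCone.IsLimit.mk _ (fun s => prod.lift s.snd (s.fst ≫ prod.snd)) ?_ ?_ ?_⟩⟩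
    · intro s
      apply Limits.prod.hom_ext
      · rw [Category.assoc, prod.map_fst, prod.lift_fst_assoc, s.condition]
      · rw [Category.assoc, prod.map_snd, Category.comp_id, prod.lift_snd]
    · intro s; exact prod.lift_fst _ _
    · intro s m h1 h2
      apply Limits.prod.hom_ext
      · rw [prod.lift_fst]; exact h2
      · rw [prod.lift_snd, ← h1, Category.assoc, prod.map_snd, Category.comp_id]
  have sq2 : ∀ {Y X' Y' : C} (u' : X' ⟶ Y'),
      IsPullback (prod.map (𝟙 Y) u') prod.snd prod.snd u' := by
    intro Y X' Y' u'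
    refine ⟨⟨prod.map_snd _ _⟩, ⟨PullbackCone.IsLimit.mk _ (fun s => prod.lift (s.fst ≫ prod.fst) s.snd) ?_ ?_ ?_⟩⟩
    · intro s
      apply Limits.prod.hom_ext
      · rw [Category.assoc, prod.map_fst, Category.comp_id, prod.lift_fst]
      · rw [Category.assoc, prod.map_snd, prod.lift_snd_assoc, s.condition]
    · intro s; exact prod.lift_snd _ _
    · intro s m h1 h2
      apply Limits.prod.hom_ext
      · rw [prod.lift_fst, ← h1, Category.assoc, prod.map_fst, Category.comp_id]
      · rw [prod.lift_snd]; exact h2
  have e : prod.map u u' = prod.map u (𝟙 X') ≫ prod.map (𝟙 Y) u' := by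
    rw [prod.map_map, Category.comp_id, Category.id_comp]
  rw [e]
  exact Groth.Agent.S5205.result _ _ (Desc.UEE.of_isPullback hu' (sq2 u')) (Desc.UEE.of_isPullback hu (sq1 u))

end Groth.Agent.S5214
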