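import Groth.Statements.S5215
import Mathlib
import Groth.Agent.S5211
-- import your own Groth.Agent.* helpers here

set_option autoImplicit false
open CategoryTheory CategoryTheory.Limits
universe w v₁ u₁
open DescCat

namespace Groth.Agent.S5215

/-- In a category with pullbacks: for a universally effective equivalence relation `p₁, p₂ : R ⇉ X` with
quotient map `π : X ⟶ X/R` and a morphism `g` out of the quotient, `g` is a monomorphism if and only
if `R` is the kernel pair of `π ≫ g`. -/
theorem result {C : Type u₁} [Category.{v₁} C] [HasPullbacks C]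
    {R X Z : C} {p₁ p₂ : R ⟶ X} (e : UniversallyEffectiveEquivalenceRelation p₁ p₂)
    (f : X ⟶ Z) (g : e.B ⟶ Z) (hg : e.π ≫ g = f) :
    Mono g ↔ IsKernelPair f p₁ p₂ := by
  subst hg
  constructor
  · intro h
    exact e.isKernelPair.comp_of_mono
  · intro h
    have h1 : IsPullback p₁ p₂ e.π e.π := e.isKernelPair
    have h2 : IsPullback p₁ p₂ (e.π ≫ g) (e.π ≫ g) := h
    have hmd : pullback.mapDesc e.π e.π g = h1.isoPullback.inv ≫ h2.isoPullback.hom := by
      apply pullback.hom_ext
      · rw [pullback.mapDesc, pullback.lift_fst, Category.comp_id, Category.assoc,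
          IsPullback.isoPullback_hom_fst, IsPullback.isoPullback_inv_fst]
      · rw [pullback.mapDesc, pullback.lift_snd, Category.comp_id, Category.assoc,
          IsPullback.isoPullback_hom_snd, IsPullback.isoPullback_inv_snd]
    have : IsIso (pullback.mapDesc e.π e.π g) := by rw [hmd]; infer_instance
    exact Groth.Agent.S5211.result e.π e.universally_effectiveEpi_π g

end Groth.Agent.S5215
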