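import Groth.Statements.S5216
import Mathlib
import Groth.Agent.Helper2.EqRel
open CategoryTheory Limits Opposite
open Groth.Agent.Helper2
-- import your own Groth.Agent.* helpers here

set_option autoImplicit false
open CategoryTheory CategoryTheory.Limits
universe w v₁ u₁
open ShfCat

namespace Groth.Agent.S5216

/-- The case of the chaotic topology, i.e. for presheaves of sets on an arbitrary category: every
equivalence relation is universally effective (its quotient exists, the relation is the kernel pair
of the quotient map, and that map is a universal effective epimorphism). -/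
theorem result (C : Type u₁) [Category.{v₁} C]
    {R X : Cᵒᵖ ⥤ Type w} (p₁ p₂ : R ⟶ X) [IsEquivalenceRelation p₁ p₂] :
    IsUniversallyEffectiveEquivalenceRelation p₁ p₂ := by
  obtain ⟨e⟩ := (inferInstance : IsEquivalenceRelation p₁ p₂).nonempty_equivalenceRelation
  have hcoeq := coequalizerIsCoequalizer p₁ p₂
  have hkp : IsKernelPair (coequalizer.π p₁ p₂) p₁ p₂ := by
    apply EqRel.isPullback_of_app (coequalizer.condition p₁ p₂)
    intro U
    have hU := isColimitCoforkMapOfIsColimit ((evaluation Cᵒᵖ (Type w)).obj U)
      (coequalizer.condition p₁ p₂) hcoeq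
    exact EqRel.isPullback_type (p₁.app U) (p₂.app U) (EqRel.equivalence_app e U)
      (EqRel.app_injective_of_jointlyMono e.toJointlyMono₂ U) _ _ hU
  have hpo : IsPushout p₁ p₂ (coequalizer.π p₁ p₂) (coequalizer.π p₁ p₂) :=
    EqRel.isPushout_of_isColimit e.r e.reflexivity₁ e.reflexivity₂ (coequalizer.condition p₁ p₂) hcoeq
  have huee : MorphismProperty.universally (fun _ _ f => EffectiveEpi f) (coequalizer.π p₁ p₂) := by
    intro X' Y' i₁ i₂ f' hpb
    have hepi : Epi (coequalizer.π p₁ p₂) := inferInstance
    have : Epi f' := by
      rw [NatTrans.epi_iff_epi_app] at hepi ⊢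
      intro U
      have hU := EqRel.isPullback_app' hpb U
      rw [epi_iff_surjective]
      intro t
      obtain ⟨x, hx⟩ := (epi_iff_surjective _).mp (hepi U) (i₂.app U t)
      obtain ⟨x', hx'1, -⟩ := Types.exists_of_isPullback hU t x hx.symm
      exact ⟨x', hx'1⟩
    have : IsRegularEpi f' := IsRegularEpiCategory.regularEpiOfEpi f'
    show EffectiveEpi f'
    infer_instance
  exact ⟨⟨{ toEquivalenceRelation := e
            B := coequalizer p₁ p₂
            π := coequalizer.π p₁ p₂
            isKernelPair := hkp
            isPushout := hpo
            universally_effectiveEpi_π := huee }⟩⟩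

end Groth.Agent.S5216
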