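import Groth.Statements.S5221
import Mathlib
import Groth.Agent.S5220
-- import your own Groth.Agent.* helpers here

set_option autoImplicit false
open CategoryTheory CategoryTheory.Limits
universe w v₁ u₁
open GrpQ

namespace Groth.Agent.S5221

/-- Existence part: in a category with pullbacks: with `d₀ d₁ : X₁ ⇉ X₀` admitting a common section and
`f₀ : Y₀ ⟶ X₀` an effective and universal epimorphism, the pair `(d₀, d₁)` has a coequalizer if and
only if its inverse-image pair on `Y₀` has one. -/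
theorem result {C : Type u₁} [Category.{v₁} C] [HasPullbacks C]
    {X₁ X₀ Y₀ : C} (d₀ d₁ : X₁ ⟶ X₀) (s : X₀ ⟶ X₁) (hs₀ : s ≫ d₀ = 𝟙 X₀) (hs₁ : s ≫ d₁ = 𝟙 X₀)
    (f₀ : Y₀ ⟶ X₀) [EffectiveEpi f₀]
    (hf : MorphismProperty.universally (MorphismProperty.epimorphisms C) f₀) :
    HasCoequalizer d₁ d₀ ↔
      HasCoequalizer (pullback.fst (pullback.snd f₀ d₁ ≫ d₀) f₀ ≫ pullback.fst f₀ d₁)
        (pullback.snd (pullback.snd f₀ d₁ ≫ d₀) f₀) := by
  have c1 : pullback.fst f₀ d₁ ≫ f₀ = pullback.snd f₀ d₁ ≫ d₁ := pullback.condition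
  have c2 : pullback.fst (pullback.snd f₀ d₁ ≫ d₀) f₀ ≫ pullback.snd f₀ d₁ ≫ d₀ =
      pullback.snd (pullback.snd f₀ d₁ ≫ d₀) f₀ ≫ f₀ := pullback.condition
  have key : ∀ {T : C} (t : X₀ ⟶ T), d₁ ≫ t = d₀ ≫ t →
      (pullback.fst (pullback.snd f₀ d₁ ≫ d₀) f₀ ≫ pullback.fst f₀ d₁) ≫ f₀ ≫ t =
        pullback.snd (pullback.snd f₀ d₁ ≫ d₀) f₀ ≫ f₀ ≫ t := by
    intro T t ht
    calc (pullback.fst (pullback.snd f₀ d₁ ≫ d₀) f₀ ≫ pullback.fst f₀ d₁) ≫ f₀ ≫ t
        = pullback.fst (pullback.snd f₀ d₁ ≫ d₀) f₀ ≫ pullback.snd f₀ d₁ ≫ d₁ ≫ t := by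
          simp only [Category.assoc]; rw [← Category.assoc (pullback.fst f₀ d₁), c1, Category.assoc]
      _ = pullback.fst (pullback.snd f₀ d₁ ≫ d₀) f₀ ≫ pullback.snd f₀ d₁ ≫ d₀ ≫ t := by rw [ht]
      _ = pullback.snd (pullback.snd f₀ d₁ ≫ d₀) f₀ ≫ f₀ ≫ t := by
          rw [← Category.assoc (pullback.snd f₀ d₁), ← Category.assoc, c2, Category.assoc]
  have hepi : Epi f₀ := inferInstance
  constructor
  · intro hco
    have S := fun {T : C} (g : Y₀ ⟶ T) hg => Groth.Agent.S5220.result d₀ d₁ s hs₀ hs₁ f₀ hf g hg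
    have w0 := key (coequalizer.π d₁ d₀) (coequalizer.condition d₁ d₀)
    refine HasColimit.mk ⟨Cofork.ofπ (f₀ ≫ coequalizer.π d₁ d₀) w0, Cofork.IsColimit.mk _
      (fun t => coequalizer.desc (S t.π t.condition).choose (S t.π t.condition).choose_spec.1.1) ?_ ?_⟩
    · intro t
      rw [Cofork.π_ofπ, Category.assoc, coequalizer.π_desc]
      exact (S t.π t.condition).choose_spec.1.2
    · intro t m hm
      rw [Cofork.π_ofπ, Category.assoc] at hm
      refine @coequalizer.hom_ext _ _ _ _ d₁ d₀ _ _ m _ ?_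
      rw [coequalizer.π_desc]
      apply (S t.π t.condition).choose_spec.2
      refine ⟨?_, hm⟩
      rw [← Category.assoc, coequalizer.condition, Category.assoc]
  · intro hco
    obtain ⟨h, ⟨hh1, hh2⟩, -⟩ := Groth.Agent.S5220.result d₀ d₁ s hs₀ hs₁ f₀ hf
      (coequalizer.π (pullback.fst (pullback.snd f₀ d₁ ≫ d₀) f₀ ≫ pullback.fst f₀ d₁)
        (pullback.snd (pullback.snd f₀ d₁ ≫ d₀) f₀)) (coequalizer.condition _ _)
    refine HasColimit.mk ⟨Cofork.ofπ h hh1, Cofork.IsColimit.mk _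
      (fun t => coequalizer.desc (f₀ ≫ t.π) (key t.π t.condition)) ?_ ?_⟩
    · intro t
      rw [Cofork.π_ofπ, ← cancel_epi f₀, ← Category.assoc, hh2, coequalizer.π_desc]
    · intro t m hm
      rw [Cofork.π_ofπ] at hm
      refine @coequalizer.hom_ext _ _ _ _ (pullback.fst (pullback.snd f₀ d₁ ≫ d₀) f₀ ≫ pullback.fst f₀ d₁)
        (pullback.snd (pullback.snd f₀ d₁ ≫ d₀) f₀) _ _ m _ ?_
      rw [coequalizer.π_desc, ← hh2, Category.assoc, hm]

end Groth.Agent.S5221
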