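import Groth.Statements.S5222
import Mathlib
open CategoryTheory Limits MonoidalCategory CartesianMonoidalCategory MonObj
-- import your own Groth.Agent.* helpers here

set_option autoImplicit false
open CategoryTheory CategoryTheory.Limits MonoidalCategory
universe v₁ u₁
open DescCat

namespace Groth.Agent.S5222

open MonObj CartesianMonoidalCategory SemiCartesianMonoidalCategory in
/-- In a cartesian monoidal category with pullbacks: for a homomorphism `f : G ⟶ G'` of group objects
with kernel `K = G ×_{G'} e`, the pair `G × K ⇉ G` given by the projection and by multiplication is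
the kernel pair of `f`. -/
theorem result {C : Type u₁} [Category.{v₁} C]
    [CartesianMonoidalCategory C] [HasPullbacks C]
    {G G' : C} [GrpObj G] [GrpObj G'] (f : G ⟶ G') [IsMonHom f] :
    IsKernelPair f (fst G (pullback f η[G']))
      ((G ◁ pullback.fst f η[G']) ≫ μ[G]) := by
  set K := pullback f η[G'] with hK
  set k : K ⟶ G := pullback.fst f η[G'] with hk
  have ck : k ≫ f = 1 := by
    rw [hk, pullback.condition, Hom.one_def, toUnit_unique (pullback.snd f η[G']) (toUnit _)]
  have hp2 : (G ◁ k) ≫ μ[G] = fst G K * (snd G K ≫ k) := by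
    rw [Hom.mul_def]
    congr 1
    apply CartesianMonoidalCategory.hom_ext <;> simp
  rw [hp2]
  have w0 : fst G K ≫ f = (fst G K * (snd G K ≫ k)) ≫ f := by
    rw [MonObj.mul_comp, Category.assoc, ck, MonObj.comp_one, _root_.mul_one]
  refine ⟨⟨w0⟩, ⟨PullbackCone.IsLimit.mk _
    (fun s => lift s.fst (pullback.lift (s.fst⁻¹ * s.snd) (toUnit _) (by
      rw [MonObj.mul_comp, GrpObj.inv_comp, s.condition, _root_.inv_mul_cancel, Hom.one_def]))) ?_ ?_ ?_⟩⟩
  · intro s
    exact lift_fst _ _
  · intro s
    rw [MonObj.comp_mul, lift_fst, ← Category.assoc, lift_snd, pullback.lift_fst, _root_.mul_inv_cancel_left]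
  · intro s m h1 h2
    apply CartesianMonoidalCategory.hom_ext
    · rw [lift_fst]; exact h1
    · rw [lift_snd]
      apply pullback.hom_ext
      · rw [pullback.lift_fst, ← h1, ← h2, MonObj.comp_mul, _root_.inv_mul_cancel_left, Category.assoc]
      · exact toUnit_unique _ _

end Groth.Agent.S5222
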