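import Groth.Statements.S5224
import Mathlib
import Groth.Agent.Helper2.QuotIff
open Groth.Agent.Helper2 Groth.Agent.Helper2.QuotIff Groth.Agent.Helper2.QuotIffEt
-- import your own Groth.Agent.* helpers here

set_option autoImplicit false
open CategoryTheory CategoryTheory.Limits AlgebraicGeometry
universe u
open GrpQ

namespace Groth.Agent.S5224

/-- For the fppf topology: let `s, t : R ⇉ U` be an equivalence relation of schemes over `S` with `s`
faithfully flat and locally of finite presentation. A morphism `q : U ⟶ Y` over `S` is a faithfully
flat, locally finitely presented quotient with kernel pair `R` if and only if `q` identifies `h_Y`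
with the fppf quotient sheaf `U/R`. -/
theorem result {S : Scheme.{u}} {R U Y : Over S} (s t : R ⟶ U)
    [IsEquivalenceRelation s t]
    [Flat s.left] [Surjective s.left] [LocallyOfFinitePresentation s.left]
    (q : U ⟶ Y) :
    (IsKernelPair q s t ∧ Flat q.left ∧ Surjective q.left ∧ LocallyOfFinitePresentation q.left) ↔
      QuotSh.IsQuotient Scheme.fppfPrecoverage s t q := by
  constructor
  · rintro ⟨hkp, h1, h2, h3⟩
    apply isQuotient_of_kernelPair hkp
    apply epi_of_singleton_mem
    intro T w
    exact (pullback.fst w.left q.left).singleton_mem_fppfPrecoverage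
  · intro h
    obtain ⟨hkp, hepi⟩ := kernelPair_of_isQuotient h
    exact ⟨hkp, prop_of_epi le_rfl @Flat hkp hepi inferInstance,
      prop_of_epi le_rfl @Surjective hkp hepi inferInstance,
      prop_of_epi le_rfl @LocallyOfFinitePresentation hkp hepi inferInstance⟩

end Groth.Agent.S5224
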