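import Groth.Statements.S5225
import Mathlib
import Groth.Agent.Helper2.QuotIff
open Groth.Agent.Helper2 Groth.Agent.Helper2.QuotIff Groth.Agent.Helper2.QuotIffEt
-- import your own Groth.Agent.* helpers here

set_option autoImplicit false
open CategoryTheory CategoryTheory.Limits AlgebraicGeometry
universe u
open GrpQ

namespace Groth.Agent.S5225

/-- For the étale topology: let `s, t : R ⇉ U` be an equivalence relation of schemes over `S` with `s`
étale and surjective. A morphism `q : U ⟶ Y` over `S` is an étale surjective quotient with kernel
pair `R` if and only if `q` identifies `h_Y` with the étale quotient sheaf `U/R`. -/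
theorem result {S : Scheme.{u}} {R U Y : Over S} (s t : R ⟶ U)
    [IsEquivalenceRelation s t] [Etale s.left] [Surjective s.left]
    (q : U ⟶ Y) :
    (IsKernelPair q s t ∧ Etale q.left ∧ Surjective q.left) ↔
      QuotSh.IsQuotient Scheme.etalePrecoverage s t q := by
  constructor
  · rintro ⟨hkp, h1, h2⟩
    apply isQuotient_of_kernelPair hkp
    apply epi_of_singleton_mem
    intro T w
    unfold Scheme.etalePrecoverage
    rw [Scheme.singleton_mem_precoverage_iff]
    exact ⟨(pullback.fst w.left q.left).surjective, inferInstance⟩
  · intro h
    obtain ⟨hkp, hepi⟩ := kernelPair_of_isQuotient h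
    exact ⟨hkp, prop_of_epi etale_le_fppf @Etale hkp hepi inferInstance,
      prop_of_epi etale_le_fppf @Surjective hkp hepi inferInstance⟩

end Groth.Agent.S5225
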