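import Groth.Statements.S5226
import Mathlib
import Groth.Agent.Helper2.ShfEpi
open Groth.Agent.Helper2
-- import your own Groth.Agent.* helpers here

set_option autoImplicit false
open CategoryTheory CategoryTheory.Limits
universe w v₁ u₁
open ShfCat

namespace Groth.Agent.S5226

/-- For sheaves of sets on a site with sheafification: if `R ⇉ X` is an equivalence relation with
(universally effective) quotient `X/R` and `Y ⊆ X` is a subsheaf with induced relation `R_Y`, then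
the canonical map `Y/R_Y ⟶ X/R` is a monomorphism. Here `R_Y` is built as the iterated pullback of
`R` along `Y ⟶ X` on both sides. -/
theorem result {C : Type u₁} [Category.{v₁} C]
    (J : GrothendieckTopology C) [HasSheafify J (Type w)]
    {R X Y : Sheaf J (Type w)} {p₁ p₂ : R ⟶ X} (e : UniversallyEffectiveEquivalenceRelation p₁ p₂)
    (ι : Y ⟶ X) [Mono ι]
    [HasCoequalizer (pullback.fst (pullback.fst p₁ ι ≫ p₂) ι ≫ pullback.snd p₁ ι)
      (pullback.snd (pullback.fst p₁ ι ≫ p₂) ι)]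
    (g : coequalizer (pullback.fst (pullback.fst p₁ ι ≫ p₂) ι ≫ pullback.snd p₁ ι)
      (pullback.snd (pullback.fst p₁ ι ≫ p₂) ι) ⟶ e.B)
    (hg : coequalizer.π _ _ ≫ g = ι ≫ e.π) :
    Mono g := by
  set q₁ := pullback.fst (pullback.fst p₁ ι ≫ p₂) ι ≫ pullback.snd p₁ ι with hq₁
  set q₂ := pullback.snd (pullback.fst p₁ ι ≫ p₂) ι with hq₂
  set πY := coequalizer.π q₁ q₂ with hπY
  have hcond : q₁ ≫ πY = q₂ ≫ πY := coequalizer.condition q₁ q₂
  constructor
  intro Z a b hab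
  have hr1 : Epi (pullback.fst a πY) := ShfEpi.epi_of_isPullback J (IsPullback.of_hasPullback a πY)
  have hr2 : Epi (pullback.fst (pullback.fst a πY ≫ b) πY) :=
    ShfEpi.epi_of_isPullback J (IsPullback.of_hasPullback _ πY)
  set r₁ := pullback.fst a πY with hr₁
  set a' := pullback.snd a πY with ha'
  set r₂ := pullback.fst (r₁ ≫ b) πY with hr₂
  set b' := pullback.snd (r₁ ≫ b) πY with hb'
  have c1 : r₁ ≫ a = a' ≫ πY := pullback.condition
  have c2 : r₂ ≫ r₁ ≫ b = b' ≫ πY := pullback.condition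
  have hk : (r₂ ≫ a' ≫ ι) ≫ e.π = (b' ≫ ι) ≫ e.π := by
    simp only [Category.assoc]
    rw [← hg, ← Category.assoc a', ← c1, ← Category.assoc b', ← c2]
    simp only [Category.assoc, hab]
  have hkp : IsPullback p₁ p₂ e.π e.π := e.isKernelPair
  set ρ := hkp.lift (r₂ ≫ a' ≫ ι) (b' ≫ ι) hk with hρ
  have hρ1 : ρ ≫ p₁ = r₂ ≫ a' ≫ ι := hkp.lift_fst _ _ _
  have hρ2 : ρ ≫ p₂ = b' ≫ ι := hkp.lift_snd _ _ _
  let σ₀ : pullback (r₁ ≫ b) πY ⟶ pullback p₁ ι := pullback.lift ρ (r₂ ≫ a') (by rw [hρ1, Category.assoc])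
  let σ : pullback (r₁ ≫ b) πY ⟶ pullback (pullback.fst p₁ ι ≫ p₂) ι := pullback.lift σ₀ b' (by
    rw [← Category.assoc, pullback.lift_fst, hρ2])
  have hσ1 : σ ≫ q₁ = r₂ ≫ a' := by
    rw [hq₁, ← Category.assoc, pullback.lift_fst, pullback.lift_snd]
  have hσ2 : σ ≫ q₂ = b' := pullback.lift_snd _ _ _
  have h3 : r₂ ≫ r₁ ≫ a = r₂ ≫ r₁ ≫ b :=
    calc r₂ ≫ r₁ ≫ a = r₂ ≫ a' ≫ πY := by rw [c1]
      _ = (σ ≫ q₁) ≫ πY := by rw [hσ1, Category.assoc]
      _ = σ ≫ (q₁ ≫ πY) := Category.assoc _ _ _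
      _ = σ ≫ (q₂ ≫ πY) := by rw [hcond]
      _ = (σ ≫ q₂) ≫ πY := (Category.assoc _ _ _).symm
      _ = b' ≫ πY := by rw [hσ2]
      _ = r₂ ≫ r₁ ≫ b := c2.symm
  exact (cancel_epi _).mp ((cancel_epi _).mp h3)

end Groth.Agent.S5226
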