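import Groth.Statements.S5227
import Mathlib
import Groth.Agent.Helper2.ShfReg
import Groth.Agent.Helper2.Desc
import Groth.Agent.S5218
open CategoryTheory Limits Opposite
open Groth.Agent.Helper2
-- import your own Groth.Agent.* helpers here

set_option autoImplicit false
open CategoryTheory CategoryTheory.Limits
universe w v₁ u₁
open ShfCat

namespace Groth.Agent.S5227

/-- For sheaves of sets on a site with sheafification: for an equivalence relation `R ⇉ X` with
(universally effective) quotient `π : X ⟶ X/R`, inverse image along `π` is a bijection from the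
subsheaves of `X/R` onto the subsheaves of `X` stable under `R` (those whose two inverse images in
`R` agree). -/
theorem result {C : Type u₁} [Category.{v₁} C]
    (J : GrothendieckTopology C) [HasSheafify J (Type w)]
    {R X : Sheaf J (Type w)} {p₁ p₂ : R ⟶ X} (e : UniversallyEffectiveEquivalenceRelation p₁ p₂) :
    Function.Injective (Subobject.pullback e.π).obj ∧
      Set.range (Subobject.pullback e.π).obj =
        {Y : Subobject X | (Subobject.pullback p₁).obj Y = (Subobject.pullback p₂).obj Y} := by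
  have hπ : Desc.UEE (Sheaf J (Type w)) e.π := e.universally_effectiveEpi_π
  have key : ∀ Y₁ Y₂ : Subobject e.B,
      (Subobject.pullback e.π).obj Y₁ = (Subobject.pullback e.π).obj Y₂ → Y₁ ≤ Y₂ := by
    intro Y₁ Y₂ h12
    have hq : Desc.UEE (Sheaf J (Type w)) (Subobject.pullbackπ e.π Y₁) :=
      hπ.of_isPullback (Subobject.isPullback e.π Y₁)
    obtain ⟨k, hk, -⟩ := Desc.exists_desc_of_mono hq Y₂.arrow Y₁.arrow
      (Subobject.ofLE _ _ (le_of_eq h12) ≫ Subobject.pullbackπ e.π Y₂) (by
        rw [Category.assoc, (Subobject.isPullback e.π Y₂).w, Subobject.ofLE_arrow_assoc,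
          (Subobject.isPullback e.π Y₁).w])
    exact Subobject.le_of_comm k hk
  refine ⟨fun Y₁ Y₂ h12 => le_antisymm (key _ _ h12) (key _ _ h12.symm), ?_⟩
  ext Y
  simp only [Set.mem_range, Set.mem_ofPred_eq]
  constructor
  · rintro ⟨Y', rfl⟩
    rw [← Subobject.pullback_comp, ← Subobject.pullback_comp, e.isKernelPair.w]
  · intro hY
    have := ShfReg.regular J
    let f := Y.arrow ≫ e.π
    let F := Regular.strongEpiMonoFactorisation f
    let Y' : Subobject e.B := Subobject.mk F.m
    let ε : (Y : Sheaf J (Type w)) ⟶ (Y' : Sheaf J (Type w)) := F.e ≫ (Subobject.underlyingIso F.m).inv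
    have hε : ε ≫ Y'.arrow = Y.arrow ≫ e.π := by
      simp [ε, Y', f]
    have hεepi : Epi ε := by
      have : Epi F.e := inferInstance
      exact epi_comp _ _
    refine ⟨Y', le_antisymm ?_ ?_⟩
    · -- π^* Y' ≤ Y
      let a := ((Subobject.pullback e.π).obj Y').arrow
      let q := Subobject.pullbackπ e.π Y'
      have hqa : q ≫ Y'.arrow = a ≫ e.π := (Subobject.isPullback e.π Y').w
      let z₁ := pullback.fst ε q
      let z₂ := pullback.snd ε q
      have hz : z₁ ≫ ε = z₂ ≫ q := pullback.condition
      have hz₂ : Epi z₂ := ShfEpi.epi_of_isPullback J (IsPullback.of_hasPullback ε q).flip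
      have hz₂' : Desc.UEE (Sheaf J (Type w)) z₂ := Groth.Agent.S5218.result J z₂
      have cond : (z₁ ≫ Y.arrow) ≫ e.π = (z₂ ≫ a) ≫ e.π := by
        rw [Category.assoc, ← hε, ← Category.assoc, hz, Category.assoc, hqa, Category.assoc]
      let t := e.isKernelPair.lift (z₁ ≫ Y.arrow) (z₂ ≫ a) cond
      have ht1 : t ≫ p₁ = z₁ ≫ Y.arrow := e.isKernelPair.lift_fst _ _ _
      have ht2 : t ≫ p₂ = z₂ ≫ a := e.isKernelPair.lift_snd _ _ _
      let t₁ := (Subobject.isPullback p₁ Y).lift z₁ t ht1.symm
      have ht₁ : t₁ ≫ ((Subobject.pullback p₁).obj Y).arrow = t := (Subobject.isPullback p₁ Y).lift_snd _ _ _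
      let h := t₁ ≫ Subobject.ofLE _ _ (le_of_eq hY) ≫ Subobject.pullbackπ p₂ Y
      have hh : h ≫ Y.arrow = z₂ ≫ a := by
        simp only [h, Category.assoc]
        rw [(Subobject.isPullback p₂ Y).w, Subobject.ofLE_arrow_assoc, ← Category.assoc, ht₁, ht2]
      obtain ⟨k, hk, -⟩ := Desc.exists_desc_of_mono hz₂' Y.arrow a h hh
      exact Subobject.le_of_comm k hk
    · -- Y ≤ π^* Y'
      exact Subobject.le_of_comm ((Subobject.isPullback e.π Y').lift ε Y.arrow hε)
        ((Subobject.isPullback e.π Y').lift_snd _ _ _)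

end Groth.Agent.S5227
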