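import Groth.Statements.S5229
import Mathlib
-- import your own Groth.Agent.* helpers here

set_option autoImplicit false
open CategoryTheory CategoryTheory.Limits
universe v₁ u₁
open DescCat

namespace Groth.Agent.S5229

/-- For universal effective epimorphisms, in a category with pullbacks and binary products: for two
universally effective equivalence relations `R ⇉ X` and `R' ⇉ X'` with quotient maps `π` and `π'`,
the product relation `R × R' ⇉ X × X'` is the kernel pair of `π × π'`. (Together with the fact that
a product of two universal effective epimorphisms is again one, this says that `(X × X')/(R × R')`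
is `(X/R) × (X'/R')`; only the kernel-pair assertion is stated here.) -/
theorem result {C : Type u₁} [Category.{v₁} C]
    [HasPullbacks C] [HasBinaryProducts C]
    {R X R' X' : C} {p₁ p₂ : R ⟶ X} {p₁' p₂' : R' ⟶ X'}
    (e : UniversallyEffectiveEquivalenceRelation p₁ p₂)
    (e' : UniversallyEffectiveEquivalenceRelation p₁' p₂') :
    IsKernelPair (prod.map e.π e'.π) (prod.map p₁ p₁') (prod.map p₂ p₂') := by
  have gen : ∀ {P A B D P' A' B' D' : C} {a : P ⟶ A} {b : P ⟶ B} {c : A ⟶ D} {d : B ⟶ D}
      {a' : P' ⟶ A'} {b' : P' ⟶ B'} {c' : A' ⟶ D'} {d' : B' ⟶ D'},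
      IsPullback a b c d → IsPullback a' b' c' d' →
      IsPullback (prod.map a a') (prod.map b b') (prod.map c c') (prod.map d d') := by
    intro P A B D P' A' B' D' a b c d a' b' c' d' h h'
    have w0 : prod.map a a' ≫ prod.map c c' = prod.map b b' ≫ prod.map d d' := by
      rw [prod.map_map, prod.map_map, h.w, h'.w]
    have c1 : ∀ s : PullbackCone (prod.map c c') (prod.map d d'),
        (s.fst ≫ prod.fst) ≫ c = (s.snd ≫ prod.fst) ≫ d := by
      intro s
      have := congrArg (fun z => z ≫ prod.fst) s.condition
      simpa only [Category.assoc, prod.map_fst] using this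
    have c2 : ∀ s : PullbackCone (prod.map c c') (prod.map d d'),
        (s.fst ≫ prod.snd) ≫ c' = (s.snd ≫ prod.snd) ≫ d' := by
      intro s
      have := congrArg (fun z => z ≫ prod.snd) s.condition
      simpa only [Category.assoc, prod.map_snd] using this
    refine ⟨⟨w0⟩, ⟨PullbackCone.IsLimit.mk _ (fun s => prod.lift
      (h.lift (s.fst ≫ prod.fst) (s.snd ≫ prod.fst) (c1 s))
      (h'.lift (s.fst ≫ prod.snd) (s.snd ≫ prod.snd) (c2 s))) ?_ ?_ ?_⟩⟩
    · intro s
      apply Limits.prod.hom_ext
      · rw [Category.assoc, prod.map_fst, prod.lift_fst_assoc, h.lift_fst]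
      · rw [Category.assoc, prod.map_snd, prod.lift_snd_assoc, h'.lift_fst]
    · intro s
      apply Limits.prod.hom_ext
      · rw [Category.assoc, prod.map_fst, prod.lift_fst_assoc, h.lift_snd]
      · rw [Category.assoc, prod.map_snd, prod.lift_snd_assoc, h'.lift_snd]
    · intro s m h1 h2
      apply Limits.prod.hom_ext
      · rw [prod.lift_fst]
        apply h.hom_ext
        · rw [h.lift_fst, ← h1, Category.assoc, Category.assoc, prod.map_fst]
        · rw [h.lift_snd, ← h2, Category.assoc, Category.assoc, prod.map_fst]
      · rw [prod.lift_snd]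
        apply h'.hom_ext
        · rw [h'.lift_fst, ← h1, Category.assoc, Category.assoc, prod.map_snd]
        · rw [h'.lift_snd, ← h2, Category.assoc, Category.assoc, prod.map_snd]
  exact gen e.isKernelPair e'.isKernelPair

end Groth.Agent.S5229
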