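import Groth.Statements.S5231
import Mathlib
open CategoryTheory Limits Opposite
-- import your own Groth.Agent.* helpers here

set_option autoImplicit false
open CategoryTheory
universe w v₁ u₁
open ShfCat

namespace Groth.Agent.S5231

/-- (iii) ⇒ (i): a morphism `f` of sheaves of sets on a site is a monomorphism (resp. an epimorphism) as
soon as, for every object `S`, the morphisms `T ⟶ S` over which the restriction of `f` to the
induced site `C/T` is a monomorphism (resp. an epimorphism) form a covering sieve. No sheafification
is assumed. (The published statement also treats isomorphisms in the same way; that case is left out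
here.) -/
theorem result {C : Type u₁} [Category.{v₁} C]
    (J : GrothendieckTopology C) {F G : Sheaf J (Type w)} (f : F ⟶ G) :
    ((∀ S : C, ∃ R : Sieve S, R ∈ J S ∧ ∀ ⦃T : C⦄ (g : T ⟶ S), R g →
        Mono ((J.overPullback (Type w) T).map f)) → Mono f) ∧
    ((∀ S : C, ∃ R : Sieve S, R ∈ J S ∧ ∀ ⦃T : C⦄ (g : T ⟶ S), R g →
        Epi ((J.overPullback (Type w) T).map f)) → Epi f) := by
  have ev : ∀ {A B : Sheaf J (Type w)} (h : A ⟶ B) (T : C),
      ((J.overPullback (Type w) T).map h).hom.app (op (Over.mk (𝟙 T))) = h.hom.app (op T) :=
    fun h T => rfl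
  have sep : ∀ (A : Sheaf J (Type w)) {S : C} (R : Sieve S), R ∈ J S → ∀ (t₁ t₂ : A.obj.obj (op S)),
      (∀ ⦃T : C⦄ (g : T ⟶ S), R g → A.obj.map g.op t₁ = A.obj.map g.op t₂) → t₁ = t₂ := by
    intro A S R hR t₁ t₂ h
    have hA : Presieve.IsSheaf J A.obj := (isSheaf_iff_isSheaf_of_type J A.obj).mp A.property
    exact (hA.isSeparated R hR).ext (fun T g hg => h g hg)
  constructor
  · intro H
    constructor
    intro Z a b hab
    apply Sheaf.hom_ext
    ext ⟨S⟩ x
    obtain ⟨R, hR, hmono⟩ := H S
    apply sep F R hR
    intro T g hg
    have := hmono g hg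
    have h1 : (J.overPullback (Type w) T).map a = (J.overPullback (Type w) T).map b := by
      rw [← cancel_mono ((J.overPullback (Type w) T).map f), ← Functor.map_comp, ← Functor.map_comp, hab]
    have h2 : a.hom.app (op T) = b.hom.app (op T) := by
      rw [← ev a T, ← ev b T, h1]
    have na := NatTrans.naturality_apply a.hom g.op x
    have nb := NatTrans.naturality_apply b.hom g.op x
    rw [h2] at na
    exact na.symm.trans nb
  · intro H
    constructor
    intro Z a b hab
    apply Sheaf.hom_ext
    ext ⟨S⟩ x
    obtain ⟨R, hR, hepi⟩ := H S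
    apply sep Z R hR
    intro T g hg
    have := hepi g hg
    have h1 : (J.overPullback (Type w) T).map a = (J.overPullback (Type w) T).map b := by
      rw [← cancel_epi ((J.overPullback (Type w) T).map f), ← Functor.map_comp, ← Functor.map_comp, hab]
    have h2 : a.hom.app (op T) = b.hom.app (op T) := by
      rw [← ev a T, ← ev b T, h1]
    have na := NatTrans.naturality_apply a.hom g.op x
    have nb := NatTrans.naturality_apply b.hom g.op x
    rw [h2] at na
    exact na.symm.trans nb

end Groth.Agent.S5231
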