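import Groth.Statements.S5235
import Mathlib
import Groth.Agent.Helper2.SubDesc
open Groth.Agent.Helper2 Groth.Agent.Helper2.SubDesc
-- import your own Groth.Agent.* helpers here

set_option autoImplicit false
open CategoryTheory CategoryTheory.Limits AlgebraicGeometry
universe u
open GrpQ

namespace Groth.Agent.S5235

/-- For schemes, with (M) the faithfully flat quasi-compact morphisms and (N) the open immersions: if `π
: X ⟶ X'` is flat, surjective and quasi-compact, then `Y' ↦ π⁻¹(Y')` is a bijection from open
subschemes of `X'` onto the open subschemes of `X` stable under the kernel pair of `π`. -/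
theorem result {X X' : Scheme.{u}} (π : X ⟶ X')
    [Flat π] [Surjective π] [QuasiCompact π] :
    Set.BijOn (Subobject.pullback π).obj
      {Y' : Subobject X' | IsOpenImmersion Y'.arrow}
      {Y : Subobject X | IsOpenImmersion Y.arrow ∧
        (Subobject.pullback (pullback.fst π π)).obj Y = (Subobject.pullback (pullback.snd π π)).obj Y} := by
  refine ⟨?_, ?_, ?_⟩
  · intro Y' hY'
    haveI : IsOpenImmersion Y'.arrow := hY'
    refine ⟨MorphismProperty.of_isPullback (P := @IsOpenImmersion) (Subobject.isPullback π Y') hY', ?_⟩
    rw [← Subobject.pullback_comp, ← Subobject.pullback_comp, pullback.condition]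
  · intro Y₁ h₁ Y₂ h₂ h
    haveI : IsOpenImmersion Y₁.arrow := h₁
    haveI : IsOpenImmersion Y₂.arrow := h₂
    apply eq_of_range_eq
    have h' := congrArg (fun Y : Subobject X => Set.range Y.arrow) h
    simp only [range_pullback] at h'
    exact (Set.preimage_injective.mpr π.surjective) h'
  · rintro Y ⟨hY, hst⟩
    haveI : IsOpenImmersion Y.arrow := hY
    let U : Set X := Set.range Y.arrow
    have hUo : IsOpen U := Y.arrow.isOpenEmbedding.isOpen_range
    have hsat : π ⁻¹' (π '' U) = U := by
      apply Set.Subset.antisymm
      · rintro x ⟨u, hu, hux⟩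
        obtain ⟨z, hz1, hz2⟩ := Scheme.Pullback.exists_preimage_pullback (f := π) (g := π) u x hux
        have h1 : z ∈ (pullback.fst π π) ⁻¹' U := by
          change pullback.fst π π z ∈ U
          rw [hz1]; exact hu
        have e1 := range_pullback (pullback.fst π π) Y
        have e2 := range_pullback (pullback.snd π π) Y
        rw [hst] at e1
        have h2 : z ∈ (pullback.snd π π) ⁻¹' U := by
          rw [← e2, e1]; exact h1
        change pullback.snd π π z ∈ U at h2
        rwa [hz2] at h2
      · exact Set.subset_preimage_image _ _
    have hVo : IsOpen (π '' U) := by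
      rw [← (Flat.isQuotientMap_of_surjective π).isOpen_preimage, hsat]
      exact hUo
    let V : X'.Opens := ⟨π '' U, hVo⟩
    refine ⟨Subobject.mk V.ι, ?_, ?_⟩
    · exact isOpenImmersion_mk_arrow V.ι
    · haveI : IsOpenImmersion ((Subobject.pullback π).obj (Subobject.mk V.ι)).arrow :=
        MorphismProperty.of_isPullback (P := @IsOpenImmersion)
          (Subobject.isPullback π (Subobject.mk V.ι)) (isOpenImmersion_mk_arrow V.ι)
      apply eq_of_range_eq
      rw [range_pullback]
      have : Set.range (Subobject.mk V.ι).arrow = π '' U := by
        rw [range_mk_arrow, Scheme.Opens.range_ι]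
        rfl
      rw [this, hsat]

end Groth.Agent.S5235
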