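import Groth.Statements.S5236
import Mathlib
import Groth.Agent.Helper9.QuotGrp
-- import your own Groth.Agent.* helpers here

set_option autoImplicit false
open CategoryTheory CategoryTheory.Limits AlgebraicGeometry MonoidalCategory
universe u
open RedSub

namespace Groth.Agent.S5236

/-- For group schemes and the fppf topology: if `i : H ⟶ G` is a normal monomorphism of `S`-group
schemes and `q : G ⟶ Q` exhibits `Q` as the fppf quotient `G/H`, then there is exactly one
group-scheme structure on `Q` over `S` making `q` a homomorphism. -/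
theorem result {S : Scheme.{u}} {H G Q : Over S} [GrpObj H] [hG : GrpObj G]
    (i : H ⟶ G) [IsMonHom i] [Mono i] (hn : AlgGrp.IsNormalHom i)
    (q : G ⟶ Q) (hq : RedSub.IsQuotient i q) :
    ∃! s : GrpObj Q, @IsMonHom (Over S) _ _ G Q hG.toMonObj s.toMonObj q := by
  obtain ⟨hs, hf, hfp, hpb⟩ := hq
  have hloc : Groth.Agent.Helper9.DescTools.Loc Scheme.fpqcPrecoverage q := by
    refine ⟨Presieve.singleton q.left,
      Scheme.fppfPrecoverage_le_fpqcPrecoverage _ ?_, ?_⟩
    · haveI := hf
      haveI := hfp
      haveI := hs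
      exact Scheme.Hom.singleton_mem_fppfPrecoverage q.left
    · rintro U t ⟨⟩
      exact ⟨𝟙 _, Category.id_comp _⟩
  exact Groth.Agent.Helper9.QuotGrp.main_unique i q hloc
    (Groth.Agent.Helper9.QuotGrp.fib_of_isPullback i q hpb) hn

end Groth.Agent.S5236
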