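import Groth.Statements.S5237
import Mathlib
import Groth.Agent.Helper9.KerSq
import Groth.Agent.Helper9.QuotGrp
-- import your own Groth.Agent.* helpers here

set_option autoImplicit false
open CategoryTheory CategoryTheory.Limits AlgebraicGeometry MonoidalCategory
universe u
open RedSub

namespace Groth.Agent.S5237

open MonObj GrpObj CartesianMonoidalCategory in
/-- For group schemes and the fppf topology: if `q : G ⟶ Q = G/H` is the fppf quotient of `G` by a
normal subgroup `H`, with its group structure, then a homomorphism `G ⟶ K` that kills `H` factors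
uniquely through `q`, and the factorisation is a homomorphism. -/
theorem result {S : Scheme.{u}} {H G Q K : Over S}
    [GrpObj H] [GrpObj G] [GrpObj Q] [GrpObj K]
    (i : H ⟶ G) [IsMonHom i] [Mono i] (hn : AlgGrp.IsNormalHom i)
    (q : G ⟶ Q) [IsMonHom q] (hq : RedSub.IsQuotient i q)
    (f : G ⟶ K) [IsMonHom f] (hf : i ≫ f = 1) :
    ∃! g : Q ⟶ K, q ≫ g = f ∧ IsMonHom g := by
  obtain ⟨hs, hfl, hlfp, hpb⟩ := hq
  have hloc : Groth.Agent.Helper9.DescTools.Loc Scheme.fpqcPrecoverage q :=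
    Groth.Agent.Helper9.KerSq.loc_of_epi q (Groth.Agent.Helper9.KerSq.epi_of_fppf q)
  have hfib := Groth.Agent.Helper9.QuotGrp.fib_of_isPullback (p := q) (u := i) hpb
  obtain ⟨g, hg⟩ := Groth.Agent.Helper9.ExactH1.over_desc_q q hloc f (by
    intro T e₁ e₂ h12
    obtain ⟨h, rfl⟩ := (hfib e₁ e₂).mp h12
    rw [MonObj.mul_comp, Category.assoc, hf, MonObj.comp_one, _root_.mul_one])
  have huniq : ∀ g' : Q ⟶ K, q ≫ g' = f → g' = g := by
    intro g' hg'
    apply Groth.Agent.Helper9.ExactH1.over_epi_q q hloc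
    rw [hg', hg]
  refine ⟨g, ⟨hg, ⟨?_, ?_⟩⟩, fun g' hg' => huniq g' hg'.1⟩
  · have h1 : (η[G] ≫ q) ≫ g = η[K] := by
      rw [Category.assoc, hg, IsMonHom.one_hom]
    rw [IsMonHom.one_hom] at h1
    exact h1
  · apply Groth.Agent.Helper9.ExactH1.over_epi_q (q ⊗ₘ q)
      (Groth.Agent.Helper9.DescTools.tensor_loc _ q q hloc hloc)
    rw [← Category.assoc, ← IsMonHom.mul_hom, Category.assoc, hg, IsMonHom.mul_hom,
      tensorHom_comp_tensorHom_assoc, hg]

end Groth.Agent.S5237
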