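import Groth.Statements.S5240
import Mathlib
import Groth.Agent.Helper2.MultTypeSemi
open TensorProduct SGA3b Groth.Agent.Helper2.MultTypeSemi
-- import your own Groth.Agent.* helpers here

set_option autoImplicit false
universe u
open TensorProduct SGA3b
open SGA3b

namespace Groth.Agent.S5240

/-- Case of an affine target group: Let R be a ring, I a nilpotent ideal of R, H = Spec A an R-group of
multiplicative type, G = Spec C an affine R-group and u : H ⟶ G a homomorphism, given by the
bialgebra map φ : C → A. If the reduction of u modulo I is the unit homomorphism (φ c and ε(c)·1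
have the same image in (R/I) ⊗ A for every c), then u is the unit homomorphism: φ c = ε(c)·1 for
every c. (The published statement allows any S-group G; this row takes G affine.) (Affine group
schemes over an affine base are taken in Hopf-algebra form; base change is the tensor product; a
homomorphism of groups Spec A ⟶ Spec C is a bialgebra map C → A.) -/
theorem result (R : Type u) [CommRing R] (I : Ideal R) (hI : IsNilpotent I)
    (A : Type u) [CommRing A] [HopfAlgebra R A] (hH : IsMultType R A)
    (C : Type u) [CommRing C] [HopfAlgebra R C] (φ : C →ₐc[R] A)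
    (h0 : ∀ c : C, (1 : R ⧸ I) ⊗ₜ[R] (φ c) = (1 : R ⧸ I) ⊗ₜ[R] (algebraMap R A (Coalgebra.counit c))) :
    ∀ c : C, φ c = algebraMap R A (Coalgebra.counit c) := by
  classical
  intro c
  apply eq_of_forall_diag R A hH
  intro R' _ _ M _ θ hθ
  have hφ := isSemiCoalg_bialgHom R φ
  have hψ : IsSemiCoalg R R' (θ.comp (φ : C →ₐ[R] A)) := hφ.comp R R R' hθ
  have hJ : IsNilpotent (I.map (algebraMap R R')) := by
    obtain ⟨n, hn⟩ := hI
    refine ⟨n, ?_⟩
    rw [← Ideal.map_pow, hn]
    simp
  have hv : ∀ m : M, m ≠ 1 → WithConv.toConv (cmp (θ.comp (φ : C →ₐ[R] A)) m) = 0 := by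
    intro m hm
    apply eq_zero_of_idem hJ (by simpa using cmp_mul hψ m m)
    intro c'
    have := map_sub_mem_of_tmul_eq I ((cf m).restrictScalars R ∘ₗ θ.toLinearMap) _ _ (h0 c')
    simp only [LinearMap.coe_comp, LinearMap.coe_restrictScalars, Function.comp_apply,
      AlgHom.toLinearMap_apply, cf_apply, AlgHom.commutes, MonoidAlgebra.coe_algebraMap,
      MonoidAlgebra.coeff_single] at this
    rw [Finsupp.single_apply, if_neg (Ne.symm hm), sub_zero] at this
    exact this
  set x := θ (φ c) with hx
  have hc : ∀ m : M, m ≠ 1 → x.coeff m = 0 := by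
    intro m hm
    have := congrArg (fun f => f.ofConv c) (hv m hm)
    simpa using this
  have hx1 : x = MonoidAlgebra.single 1 (x.coeff 1) := by
    ext m
    by_cases hm : m = 1
    · subst hm; simp
    · rw [hc m hm]; simp [Finsupp.single_apply, Ne.symm hm]
  have hcu : Coalgebra.counit (R := R') x = algebraMap R R' (Coalgebra.counit (R := R) c) := by
    rw [hx, hθ.counit]
    simp
  rw [hx1, MonoidAlgebra.counit_single] at hcu
  rw [hx1, AlgHom.commutes, MonoidAlgebra.coe_algebraMap, Function.comp_apply]
  congr 1

end Groth.Agent.S5240
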