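import Groth.Statements.S5241
import Mathlib
import Groth.Agent.Helper2.MultTypeSemi
open TensorProduct SGA3b Groth.Agent.Helper2.MultTypeSemi
-- import your own Groth.Agent.* helpers here

set_option autoImplicit false
universe u
open TensorProduct SGA3b
open SGA3b

namespace Groth.Agent.S5241

/-- Let R be a ring, I a nilpotent ideal of R, H = Spec A an R-group of multiplicative type, G = Spec C
a commutative affine R-group (C cocommutative) and u, v : H ⟶ G homomorphisms given by bialgebra
maps φ, ψ : C → A. If u and v have the same reduction modulo I (φ c and ψ c have the same image in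
(R/I) ⊗ A for every c), then u = v. (The published statement assumes only that u is central and
allows any S-group G; this row takes G commutative and affine, i.e. C cocommutative.) (Affine group
schemes over an affine base are taken in Hopf-algebra form; base change is the tensor product; a
homomorphism of groups Spec A ⟶ Spec C is a bialgebra map C → A.) -/
theorem result (R : Type u) [CommRing R] (I : Ideal R) (hI : IsNilpotent I)
    (A : Type u) [CommRing A] [HopfAlgebra R A] (hH : IsMultType R A)
    (C : Type u) [CommRing C] [HopfAlgebra R C] [Coalgebra.IsCocomm R C] (φ ψ : C →ₐc[R] A)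
    (h0 : ∀ c : C, (1 : R ⧸ I) ⊗ₜ[R] (φ c) = (1 : R ⧸ I) ⊗ₜ[R] (ψ c)) :
    φ = ψ := by
  classical
  ext c
  apply eq_of_forall_diag R A hH
  intro R' _ _ M _ θ hθ
  have hφ : IsSemiCoalg R R' (θ.comp (φ : C →ₐ[R] A)) := (isSemiCoalg_bialgHom R φ).comp R R R' hθ
  have hψ : IsSemiCoalg R R' (θ.comp (ψ : C →ₐ[R] A)) := (isSemiCoalg_bialgHom R ψ).comp R R R' hθ
  have hJ : IsNilpotent (I.map (algebraMap R R')) := by
    obtain ⟨n, hn⟩ := hI
    refine ⟨n, ?_⟩
    rw [← Ideal.map_pow, hn]
    simp
  ext m
  have key := eq_of_idem_of_valIn hJ (by simpa using cmp_mul hφ m m) (by simpa using cmp_mul hψ m m)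
    (valIn_sub_toConv (fun c' => by
      have := map_sub_mem_of_tmul_eq I ((cf m).restrictScalars R ∘ₗ θ.toLinearMap) _ _ (h0 c')
      simpa using this))
  have := congrArg (fun f => f.ofConv c) key
  simpa using this

end Groth.Agent.S5241
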