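import Groth.Statements.S5243
import Mathlib
import Groth.Agent.Helper2.MultTypeSemi
import Groth.Agent.Helper2.MultTypeChart
import Groth.Agent.Helper2.MultTypeMono
open TensorProduct SGA3b Groth.Agent.Helper2.MultTypeSemi Groth.Agent.Helper2.MultTypeChart Groth.Agent.Helper2.MultTypeMono
-- import your own Groth.Agent.* helpers here

set_option autoImplicit false
universe u
open TensorProduct SGA3b
open SGA3b

namespace Groth.Agent.S5243

/-- Let G = Spec A be an R-group of multiplicative type, H = Spec C an affine R-group and u : G ⟶ H a
homomorphism of R-groups, given by the bialgebra map φ : C → A, which is a monomorphism: for every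
R-algebra T the induced map on T-valued points G(T) → H(T) is injective. Then u is a closed
immersion, i.e. φ is surjective. (The published statement also asserts that the quotient of H by G
exists and is affine over the base, and that H is a torsor over it; this row states only that u is a
closed immersion.) (Affine group schemes over an affine base are taken in Hopf-algebra form; base
change is the tensor product; a homomorphism of groups Spec A ⟶ Spec C is a bialgebra map C → A.) -/
theorem result (R : Type u) [CommRing R] (A : Type u) [CommRing A] [HopfAlgebra R A]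
    (h : IsMultType R A) (C : Type u) [CommRing C] [HopfAlgebra R C] (φ : C →ₐc[R] A)
    (hmono : ∀ (T : Type u) [CommRing T] [Algebra R T],
      Function.Injective (fun x : A →ₐ[R] T => x.comp (φ : C →ₐ[R] A))) :
    Function.Surjective φ := by
  classical
  obtain ⟨s, hs, hf⟩ := h
  set φl : C →ₗ[R] A := (φ : C →ₐ[R] A).toLinearMap with hφl
  have hsurj : Function.Surjective φl := by
    apply surjective_of_isLocalized_span s hs
      (Mₚ := fun g : s => Localization.Away g.1 ⊗[R] C)
      (f := fun g : s => TensorProduct.mk R (Localization.Away g.1) C 1)
      (Nₚ := fun g : s => Localization.Away g.1 ⊗[R] A)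
      (g := fun g : s => TensorProduct.mk R (Localization.Away g.1) A 1)
    intro g
    have hmap : IsLocalizedModule.map (.powers g.1) (TensorProduct.mk R (Localization.Away g.1) C 1)
        (TensorProduct.mk R (Localization.Away g.1) A 1) φl = φl.lTensor (Localization.Away g.1) := by
      apply IsLocalizedModule.linearMap_ext (.powers g.1)
        (TensorProduct.mk R (Localization.Away g.1) C 1) (TensorProduct.mk R (Localization.Away g.1) A 1)
      rw [IsLocalizedModule.map_comp]
      ext c
      simp
    rw [hmap]
    obtain ⟨R', _, _, hff, M, _, ⟨e⟩⟩ := hf g.1 g.2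
    letI : Algebra R R' := ((algebraMap (Localization.Away g.1) R').comp
      (algebraMap R (Localization.Away g.1))).toAlgebra
    haveI : IsScalarTower R (Localization.Away g.1) R' := IsScalarTower.of_algebraMap_eq (fun _ => rfl)
    have hθ := chart_isSemiCoalg R A (Localization.Away g.1) R' M e
    have hsp := chart_span R A (Localization.Away g.1) R' M e
    set θ := chart R A (Localization.Away g.1) R' M e with hθdef
    have hψ : IsSemiCoalg R R' (θ.comp (φ : C →ₐ[R] A)) := (isSemiCoalg_bialgHom R φ).comp R R R' hθ
    have hN := Nspan_eq_top hψ (by
      intro T _ _ y₁ y₂ hy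
      letI : Algebra R T := ((algebraMap R' T).comp (algebraMap R R')).toAlgebra
      haveI : IsScalarTower R R' T := IsScalarTower.of_algebraMap_eq (fun _ => rfl)
      have hx := @hmono T _ _ ((y₁.restrictScalars R).comp θ) ((y₂.restrictScalars R).comp θ)
        (by ext c; exact hy c)
      apply AlgHom.toLinearMap_injective
      apply LinearMap.ext_on hsp
      rintro _ ⟨a, rfl⟩
      exact congrArg (fun x => x a) hx)
    have hb : Function.Surjective (φl.baseChange (Localization.Away g.1)) := by
      rw [← Module.FaithfullyFlat.lTensor_surjective_iff_surjective (Localization.Away g.1) R']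
      intro y
      let Φ := (φl.baseChange (Localization.Away g.1)).baseChange R'
      let Ψ : R' ⊗[Localization.Away g.1] (Localization.Away g.1 ⊗[R] C) →ₗ[R'] MonoidAlgebra R' M :=
        e.toLinearEquiv.toLinearMap ∘ₗ Φ
      have hr : LinearMap.range Ψ = ⊤ := by
        rw [eq_top_iff, ← hN]
        apply Submodule.span_le.mpr
        rintro _ ⟨c, rfl⟩
        refine ⟨(1 : R') ⊗ₜ[Localization.Away g.1] ((1 : Localization.Away g.1) ⊗ₜ[R] c), ?_⟩
        simp [Ψ, Φ, hθdef, chart_apply, hφl]
        rfl
      obtain ⟨x, hx⟩ := LinearMap.range_eq_top.mp hr (e y)
      exact ⟨x, e.injective hx⟩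
    exact hb
  exact hsurj

end Groth.Agent.S5243
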