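import Groth.Statements.S5255
import Mathlib
import Groth.Agent.Helper3.RigMain

set_option autoImplicit false
open CategoryTheory MonoidalCategory CartesianMonoidalCategory MonObj GrpObj AlgebraicGeometry
universe u
open scoped TensorProduct
open SGA3x

namespace Groth.Agent.S5255

/-- Let K be an S-group locally of finite type over S whose fibres are connected, and i : H ⟶ K a
subgroup scheme of multiplicative type and of finite type which is normal in K. Then H is central in
K: for every S-scheme X, every X-point of K commutes with (the image of) every X-point of H. -/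
theorem result {S : Scheme.{u}} (K H : Over S) [GrpObj K] [GrpObj H]
    [LocallyOfFiniteType K.hom] (hconn : ∀ s : S, ConnectedSpace ↥(Limits.pullback K.hom (S.fromSpecResidueField s)))
    (i : H ⟶ K) [IsMonHom i] [Mono i] (hH : SGA3x.IsMultTypeFT H) (hn : AlgGrp.IsNormalHom i) :
    ∀ (X : Over S) (k : X ⟶ K) (h : X ⟶ H), k * (h ≫ i) = (h ≫ i) * k := by
  classical
  intro X k h
  let Φ : ∀ T : Over S, (T ⟶ K) → (T ⟶ H) → (T ⟶ H) := fun T k h => Classical.choose (hn T k h)
  have hΦ : ∀ (T : Over S) (k : T ⟶ K) (h : T ⟶ H), k * (h ≫ i) * k⁻¹ = Φ T k h ≫ i :=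
    fun T k h => Classical.choose_spec (hn T k h)
  have huniq : ∀ (T : Over S) (k : T ⟶ K) (h h' : T ⟶ H), k * (h ≫ i) * k⁻¹ = h' ≫ i →
      Φ T k h = h' := by
    intro T k h h' e
    rw [← cancel_mono i, ← hΦ, e]
  have key := Groth.Agent.Helper3.RigMain.rigid K H hH hconn Φ ?_ ?_ ?_ X k h
  · have h1 := hΦ X k h
    rw [key] at h1
    calc k * (h ≫ i) = k * (h ≫ i) * k⁻¹ * k := by group
      _ = (h ≫ i) * k := by rw [h1]
  · intro T T' p k h
    apply huniq
    rw [Category.assoc p (Φ T k h) i, ← hΦ, MonObj.comp_mul, MonObj.comp_mul, GrpObj.comp_inv,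
      Category.assoc]
  · intro T k h h'
    apply huniq
    rw [MonObj.mul_comp, MonObj.mul_comp, ← hΦ, ← hΦ]
    group
  · intro T h
    apply huniq
    group

end Groth.Agent.S5255
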