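import Groth.Statements.S5311
import Mathlib
import Groth.Agent.Helper2.MaxOpenUO
open Groth.Agent.Helper2 Groth.Agent.Helper2.MaxOpenUO
-- import your own Groth.Agent.* helpers here

set_option autoImplicit false
universe u
open CategoryTheory CategoryTheory.Limits MonoidalCategory CartesianMonoidalCategory MonObj GrpObj AlgebraicGeometry
open SGA3

namespace Groth.Agent.S5311

/-- Let u : G → H be a homomorphism of S-group schemes with G or H universally open over S, and let V be
the largest open subscheme of G on which the restriction of u is universally open. Then the image U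
of V in S is open and V is an open subgroup scheme of G over U: V contains the unit point of every
fibre of G that it meets, V is stable under the inversion of G, and the product of a point of G ×_S
G whose two projections lie in V lies in V. -/
theorem result (S : Scheme.{u}) (G H : Over S) [GrpObj G] [GrpObj H]
    (u : G ⟶ H) [IsMonHom u] (hG : UniversallyOpen G.hom ∨ UniversallyOpen H.hom)
    (V : G.left.Opens) (hV : UniversallyOpen (V.ι ≫ u.left))
    (hmax : ∀ W : G.left.Opens, UniversallyOpen (W.ι ≫ u.left) → W ≤ V) :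
    IsOpen (G.hom.base '' (V : Set G.left)) ∧
    (∀ g ∈ V, ∀ p : ↥(𝟙_ (Over S)).left, (𝟙_ (Over S)).hom.base p = G.hom.base g → η[G].left.base p ∈ V) ∧
    (∀ g ∈ V, ι[G].left.base g ∈ V) ∧
    (∀ z : ↥(G ⊗ G).left, (fst G G).left.base z ∈ V → (snd G G).left.base z ∈ V → μ[G].left.base z ∈ V) := by
  have hVS : UniversallyOpen (V.ι ≫ G.hom) := by
    rcases hG with hG | hH
    · infer_instance
    · have : V.ι ≫ G.hom = (V.ι ≫ u.left) ≫ H.hom := by
        rw [Category.assoc, Over.w]
      rw [this]; infer_instance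
  -- (d)
  have hd : ∀ z : ↥(G ⊗ G).left, (fst G G).left.base z ∈ V → (snd G G).left.base z ∈ V →
      μ[G].left.base z ∈ V := by
    intro z hz1 hz2
    have sq : IsPullback (jV G V ▷ G).left (fst (VT G V) G).left (fst G G).left (jV G V).left :=
      (isPullback_whiskerRight (jV G V) G).map (Over.forget S)
    obtain ⟨w, hw1, hw2⟩ := Scheme.exists_preimage_of_isPullback sq z ⟨_, hz1⟩ rfl
    have hwVV : w ∈ VV G V := by
      change (snd (VT G V) G).left w ∈ V
      have : (snd (VT G V) G).left w = (snd G G).left ((jV G V ▷ G).left w) := by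
        rw [← Scheme.Hom.comp_apply, ← Over.comp_left, whiskerRight_snd]
      rw [this]
      change (snd G G).left ((jV G V ▷ G).left.base w) ∈ V
      rw [hw1]
      exact hz2
    apply range_m_le G H u V hV hVS hmax
    refine ⟨⟨w, hwVV⟩, ?_⟩
    change ((VV G V).ι ≫ ((jV G V ▷ G) ≫ μ[G]).left) ⟨w, hwVV⟩ = μ[G].left z
    rw [Scheme.Hom.comp_apply, Over.comp_left, Scheme.Hom.comp_apply]
    change μ[G].left ((jV G V ▷ G).left.base w) = _
    rw [hw1]
  -- (c)
  have hc : ∀ g ∈ V, ι[G].left.base g ∈ V := by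
    intro g hg
    have hιι : ι[G] ≫ ι[G] = 𝟙 G := GrpObj.inv_comp_inv G
    haveI : IsIso ι[G] := ⟨ι[G], hιι, hιι⟩
    haveI : IsIso ι[G].left := (Over.forget S).map_isIso ι[G]
    have hιι' : ι[H] ≫ ι[H] = 𝟙 H := GrpObj.inv_comp_inv H
    haveI : IsIso ι[H] := ⟨ι[H], hιι', hιι'⟩
    haveI : IsIso ι[H].left := (Over.forget S).map_isIso ι[H]
    have hu : u = ι[G] ≫ u ≫ ι[H] := by
      rw [← Category.assoc, GrpObj.inv_hom, Category.assoc, hιι', Category.comp_id]
    have h1 : (ι[G].left ⁻¹ᵁ V).ι ≫ u.left =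
        (ι[G].left ∣_ V) ≫ (V.ι ≫ u.left) ≫ ι[H].left := by
      conv_lhs => rw [hu]
      rw [Over.comp_left, Over.comp_left, ← Category.assoc, ← morphismRestrict_ι]
      simp only [Category.assoc]
    have : UniversallyOpen ((ι[G].left ⁻¹ᵁ V).ι ≫ u.left) := by
      rw [h1]; infer_instance
    have hle := hmax _ this
    have hg' : ι[G].left g ∈ ι[G].left ⁻¹ᵁ V := by
      change ι[G].left (ι[G].left g) ∈ V
      rw [← Scheme.Hom.comp_apply, ← Over.comp_left, hιι]
      exact hg
    exact hle hg'
  refine ⟨?_, ?_, hc, hd⟩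
  · have : G.hom.base '' (V : Set G.left) = Set.range (V.ι ≫ G.hom) := by
      ext s
      constructor
      · rintro ⟨g, hg, rfl⟩
        exact ⟨⟨g, hg⟩, rfl⟩
      · rintro ⟨⟨g, hg⟩, rfl⟩
        exact ⟨g, hg, rfl⟩
    rw [this]
    exact (V.ι ≫ G.hom).isOpenMap.isOpen_range
  · intro g hg p hp
    have hp' : p = (toUnit G).left g := by
      have h1 : (𝟙_ (Over S)).hom ((toUnit G).left g) = G.hom g := by
        rw [← Scheme.Hom.comp_apply, Over.w]
      have h2 : (𝟙_ (Over S)).hom = 𝟙 S := rfl
      have hp2 : (𝟙_ (Over S)).hom p = (𝟙_ (Over S)).hom ((toUnit G).left g) := hp.trans h1.symm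
      rw [h2] at hp2
      exact hp2
    have h3 := hd ((lift (𝟙 G) ι[G]).left g) (by
      change (fst G G).left ((lift (𝟙 G) ι[G]).left g) ∈ V
      rw [← Scheme.Hom.comp_apply, ← Over.comp_left, lift_fst]
      exact hg) (by
      change (snd G G).left ((lift (𝟙 G) ι[G]).left g) ∈ V
      rw [← Scheme.Hom.comp_apply, ← Over.comp_left, lift_snd]
      exact hc g hg)
    change μ[G].left ((lift (𝟙 G) ι[G]).left g) ∈ V at h3
    rw [← Scheme.Hom.comp_apply, ← Over.comp_left, GrpObj.right_inv, Over.comp_left,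
      Scheme.Hom.comp_apply, ← hp'] at h3
    exact h3

end Groth.Agent.S5311
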