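import Groth.Statements.S5333
import Groth.Agent.Lead.LocalAllied
import Groth.Agent.S4372
import Groth.Agent.S4370

set_option autoImplicit false
universe u
open CategoryTheory CategoryTheory.Limits MonoidalCategory CartesianMonoidalCategory MonObj GrpObj AlgebraicGeometry
open SGA3

namespace Groth.Agent.S5333

open AlgebraicGeometry CategoryTheory CategoryTheory.Limits in
theorem isSeparated_of_common_rel_separated_open {X S : Scheme.{u}} (f : X ⟶ S)
    (h : ∀ x y : X, f x = f y → ∃ U : X.Opens, IsSeparated (U.ι ≫ f) ∧ x ∈ U ∧ y ∈ U) :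
    IsSeparated f := by
  apply Groth.Agent.Lead.LocalAllied.isSeparated_of_fst_eq_snd
  intro z hz
  set p₁ := pullback.fst f f
  set p₂ := pullback.snd f f
  set Δ := pullback.diagonal f
  have hfib : f (p₁ z) = f (p₂ z) := by
    rw [← Scheme.Hom.comp_apply, ← Scheme.Hom.comp_apply, pullback.condition]
  obtain ⟨U, hU, hxU, hyU⟩ := h _ _ hfib
  haveI : IsSeparated (U.ι ≫ f) := hU
  let W : (pullback f f).Opens := p₁ ⁻¹ᵁ U ⊓ p₂ ⁻¹ᵁ U
  have hzW : z ∈ W := ⟨hxU, hyU⟩
  -- the two projections W → U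
  have hr₁ : Set.range (W.ι ≫ p₁) ⊆ Set.range U.ι := by
    rintro _ ⟨w, rfl⟩
    rw [Scheme.Opens.range_ι]
    exact w.2.1
  have hr₂ : Set.range (W.ι ≫ p₂) ⊆ Set.range U.ι := by
    rintro _ ⟨w, rfl⟩
    rw [Scheme.Opens.range_ι]
    exact w.2.2
  let a₁ : (W : Scheme.{u}) ⟶ U := IsOpenImmersion.lift U.ι (W.ι ≫ p₁) hr₁
  let a₂ : (W : Scheme.{u}) ⟶ U := IsOpenImmersion.lift U.ι (W.ι ≫ p₂) hr₂
  have ha₁ : a₁ ≫ U.ι = W.ι ≫ p₁ := IsOpenImmersion.lift_fac _ _ _
  have ha₂ : a₂ ≫ U.ι = W.ι ≫ p₂ := IsOpenImmersion.lift_fac _ _ _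
  -- the restricted diagonal U → W
  have hrδ : Set.range (U.ι ≫ Δ) ⊆ Set.range W.ι := by
    rintro _ ⟨u, rfl⟩
    rw [Scheme.Opens.range_ι]
    refine ⟨?_, ?_⟩
    · show p₁ ((U.ι ≫ Δ) u) ∈ U
      rw [← Scheme.Hom.comp_apply, Category.assoc, pullback.diagonal_fst, Category.comp_id]
      exact u.2
    · show p₂ ((U.ι ≫ Δ) u) ∈ U
      rw [← Scheme.Hom.comp_apply, Category.assoc, pullback.diagonal_snd, Category.comp_id]
      exact u.2
  let δ : (U : Scheme.{u}) ⟶ W := IsOpenImmersion.lift W.ι (U.ι ≫ Δ) hrδ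
  have hδ : δ ≫ W.ι = U.ι ≫ Δ := IsOpenImmersion.lift_fac _ _ _
  have hδ₁ : δ ≫ a₁ = 𝟙 _ := by
    rw [← cancel_mono U.ι, Category.assoc, ha₁, ← Category.assoc, hδ, Category.assoc,
      pullback.diagonal_fst, Category.comp_id, Category.id_comp]
  have hδ₂ : δ ≫ a₂ = 𝟙 _ := by
    rw [← cancel_mono U.ι, Category.assoc, ha₂, ← Category.assoc, hδ, Category.assoc,
      pullback.diagonal_snd, Category.comp_id, Category.id_comp]
  -- the equalizer
  have hw₁ : a₁ ≫ (U.ι ≫ f) = W.ι ≫ p₁ ≫ f := by rw [← Category.assoc, ha₁, Category.assoc]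
  have hw₂ : a₂ ≫ (U.ι ≫ f) = W.ι ≫ p₁ ≫ f := by
    rw [← Category.assoc, ha₂, Category.assoc, ← pullback.condition]
  let OW : Over S := Over.mk (W.ι ≫ p₁ ≫ f)
  let OU : Over S := Over.mk (U.ι ≫ f)
  haveI : IsSeparated OU.hom := hU
  let A₁ : OW ⟶ OU := Over.homMk a₁ hw₁
  let A₂ : OW ⟶ OU := Over.homMk a₂ hw₂
  have hwδ : δ ≫ (W.ι ≫ p₁ ≫ f) = U.ι ≫ f := by
    rw [← Category.assoc, hδ, Category.assoc, ← Category.assoc Δ, pullback.diagonal_fst,
      Category.id_comp]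
  let D : OU ⟶ OW := Over.homMk δ hwδ
  have hD : D ≫ A₁ = D ≫ A₂ := by
    ext
    change δ ≫ a₁ = δ ≫ a₂
    rw [hδ₁, hδ₂]
  let ιE := (equalizer.ι A₁ A₂).left
  haveI : IsClosedImmersion ιE := isClosedImmersion_equalizer_ι_left A₁ A₂
  have hclosed : IsClosed (Set.range ιE) := ιE.isClosedEmbedding.isClosed_range
  let lE : (U : Scheme.{u}) ⟶ (equalizer A₁ A₂).left := (equalizer.lift D hD).left
  have hlE : lE ≫ ιE = δ := congrArg CommaMorphism.left (equalizer.lift_ι D hD)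
  have hcondE : ιE ≫ a₁ = ιE ≫ a₂ := congrArg CommaMorphism.left (equalizer.condition A₁ A₂)
  -- z' ∈ W over z
  let z' : (W : Scheme.{u}) := ⟨z, hzW⟩
  have hz' : W.ι z' = z := rfl
  have hmem : z' ∈ Set.range ιE := by
    rw [← hclosed.closure_eq, mem_closure_iff]
    intro N hN hzN
    have hopen : IsOpen (W.ι '' N) := W.ι.isOpenEmbedding.isOpenMap _ hN
    obtain ⟨_, hmemN, ⟨x', rfl⟩⟩ := mem_closure_iff.mp hz _ hopen ⟨z', hzN, hz'⟩
    obtain ⟨n', hn'N, hn'⟩ := hmemN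
    have hx'U : x' ∈ U := by
      have : W.ι n' ∈ W := by
        have := Set.mem_range_self (f := W.ι) n'
        rwa [Scheme.Opens.range_ι] at this
      rw [hn'] at this
      have h1 : p₁ (Δ x') ∈ U := this.1
      rwa [← Scheme.Hom.comp_apply, pullback.diagonal_fst] at h1
    let u' : (U : Scheme.{u}) := ⟨x', hx'U⟩
    have hn'eq : n' = δ u' := by
      apply W.ι.injective
      rw [hn', ← Scheme.Hom.comp_apply, hδ, Scheme.Hom.comp_apply]
      rfl
    refine ⟨n', hn'N, lE u', ?_⟩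
    rw [← Scheme.Hom.comp_apply, hlE, hn'eq]
  obtain ⟨e, he⟩ := hmem
  have hcond : a₁ z' = a₂ z' := by
    rw [← he, ← Scheme.Hom.comp_apply, ← Scheme.Hom.comp_apply, hcondE]
  have h1 : p₁ z = U.ι (a₁ z') := by
    rw [← Scheme.Hom.comp_apply, ha₁, Scheme.Hom.comp_apply, hz']
  have h2 : p₂ z = U.ι (a₂ z') := by
    rw [← Scheme.Hom.comp_apply, ha₂, Scheme.Hom.comp_apply, hz']
  rw [h1, h2, hcond]



theorem part1_mpr {X S : Scheme.{u}} (f : X ⟶ S)
    (H : ∀ (T : Scheme.{u}) [IsReduced T] (g₁ g₂ : T ⟶ X) (U : T.Opens), g₁ ≫ f = g₂ ≫ f →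
      Dense (U : Set T) → U.ι ≫ g₁ = U.ι ≫ g₂ → g₁ = g₂) : IsSeparated f := by
  apply Groth.Agent.Lead.LocalAllied.isSeparated_of_fst_eq_snd
  intro z hz
  -- the reduction of X
  haveI : IsReduced X.nilradical.subscheme := Groth.Agent.S4370.isReduced_nilradical_subscheme X
  haveI : Surjective X.nilradical.subschemeι :=
    Groth.Agent.S4370.surjective_nilradical_subschemeι X
  let r := X.nilradical.subschemeι
  let h := r ≫ pullback.diagonal f
  obtain ⟨W, j, i, hj, hi, hW, hrange, hji⟩ := Groth.Agent.S4372.result h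
  have hrh : Set.range h = Set.range (pullback.diagonal f) := by
    change Set.range (r ≫ pullback.diagonal f) = _
    rw [Scheme.Hom.comp_base, TopCat.coe_comp, Set.range_comp,
      Set.range_eq_univ.mpr r.surjective, Set.image_univ]
  rw [← hrh, ← hrange] at hz
  obtain ⟨w, rfl⟩ := hz
  -- dense open
  have hdense : Dense (j.opensRange : Set W) := by
    rw [Scheme.Hom.coe_opensRange, dense_iff_closure_eq]
    have h1 : Set.range h = i '' Set.range j := by
      rw [← hji, Scheme.Hom.comp_base, TopCat.coe_comp, Set.range_comp]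
    have h2 : i '' Set.univ = i '' closure (Set.range j) := by
      rw [Set.image_univ, hrange, h1, i.isClosedEmbedding.closure_image_eq]
    exact ((Set.image_injective.mpr i.isClosedEmbedding.injective) h2).symm
  have hagree : j.opensRange.ι ≫ (i ≫ pullback.fst f f) =
      j.opensRange.ι ≫ (i ≫ pullback.snd f f) := by
    have e1 : j ≫ (i ≫ pullback.fst f f) = j ≫ (i ≫ pullback.snd f f) := by
      rw [← Category.assoc, ← Category.assoc, hji]
      change (r ≫ pullback.diagonal f) ≫ _ = (r ≫ pullback.diagonal f) ≫ _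
      rw [Category.assoc, Category.assoc, pullback.diagonal_fst, pullback.diagonal_snd]
    rw [← j.isoOpensRange_inv_comp, Category.assoc, Category.assoc, e1]
  have key := H W (i ≫ pullback.fst f f) (i ≫ pullback.snd f f) j.opensRange
    (by rw [Category.assoc, Category.assoc, pullback.condition]) hdense hagree
  have := congrArg (fun φ : W ⟶ X => φ w) key
  simpa using this


theorem aux (X S : Scheme.{u}) (f : X ⟶ S) :
    (IsSeparated f ↔ ∀ (T : Scheme.{u}) [IsReduced T] (g₁ g₂ : T ⟶ X) (U : T.Opens), g₁ ≫ f = g₂ ≫ f →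
      Dense (U : Set T) → U.ι ≫ g₁ = U.ι ≫ g₂ → g₁ = g₂) ∧
    (IsSeparated f ↔ ∀ x₁ x₂ : X, f.base x₁ = f.base x₂ →
      ∃ V : X.Opens, x₁ ∈ V ∧ x₂ ∈ V ∧ IsSeparated (V.ι ≫ f)) := by
  refine ⟨⟨?_, part1_mpr f⟩, ⟨?_, ?_⟩⟩
  · intro hf T _ g₁ g₂ U hfg hU hagree
    haveI : IsDominant U.ι := ⟨by
      rw [DenseRange, Scheme.Opens.range_ι]; exact hU⟩
    exact ext_of_isDominant_of_isSeparated f hfg U.ι hagree
  · intro hf x₁ x₂ _
    exact ⟨⊤, trivial, trivial, inferInstance⟩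
  · intro H
    apply isSeparated_of_common_rel_separated_open
    intro x y hxy
    obtain ⟨V, hx, hy, hV⟩ := H x y hxy
    exact ⟨V, hV, hx, hy⟩

/-- (i) ⟺ (iii) ⟺ (iv'): let f : X → S be a morphism of schemes. Then X is separated over S if and only
if for every reduced scheme T and every two morphisms T → X with the same composite to S which agree
on a dense open subscheme of T are equal; and X is separated over S if and only if every two points
of X in the same fibre over S lie in a common open subscheme of X which is separated over S. -/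
theorem result (X S : Scheme.{u}) (f : X ⟶ S) :
    (IsSeparated f ↔ ∀ (T : Scheme.{u}) [IsReduced T] (g₁ g₂ : T ⟶ X) (U : T.Opens), g₁ ≫ f = g₂ ≫ f →
      Dense (U : Set T) → U.ι ≫ g₁ = U.ι ≫ g₂ → g₁ = g₂) ∧
    (IsSeparated f ↔ ∀ x₁ x₂ : X, f.base x₁ = f.base x₂ →
      ∃ V : X.Opens, x₁ ∈ V ∧ x₂ ∈ V ∧ IsSeparated (V.ι ≫ f)) := by
  exact aux X S f

end Groth.Agent.S5333
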