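import Groth.Statements.S5338
import Mathlib
import Groth.Agent.Helper3.NilFP

set_option autoImplicit false
universe u
open scoped TensorProduct
open CategoryTheory CategoryTheory.Limits MonoidalCategory CartesianMonoidalCategory MonObj GrpObj AlgebraicGeometry
open SGA3

namespace Groth.Agent.S5338

/-- Let A → B → C be homomorphisms of commutative rings and n a nilpotent ideal of A; write nB and nC
for the extended ideals. (i) If C/nC is a (B/nB)-algebra of finite type, then C is a B-algebra of
finite type. (ii) If moreover C is flat over A and C/nC is a (B/nB)-algebra of finite presentation,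
then C is a B-algebra of finite presentation. -/
theorem result (A B C : Type u) [CommRing A] [CommRing B] [CommRing C]
    [Algebra A B] [Algebra B C] [Algebra A C] [IsScalarTower A B C] (n : Ideal A) (hn : IsNilpotent n) :
    (Algebra.FiniteType (B ⧸ n.map (algebraMap A B)) (C ⧸ (n.map (algebraMap A B)).map (algebraMap B C)) →
      Algebra.FiniteType B C) ∧
    (Module.Flat A C →
      Algebra.FinitePresentation (B ⧸ n.map (algebraMap A B)) (C ⧸ (n.map (algebraMap A B)).map (algebraMap B C)) →
      Algebra.FinitePresentation B C) := by
  refine ⟨fun h => ?_, fun hflat h => ?_⟩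
  · have hInil : IsNilpotent (n.map (algebraMap A B)) := by
      obtain ⟨k, hk⟩ := hn
      refine ⟨k, ?_⟩
      rw [← Ideal.map_pow, hk, Ideal.zero_eq_bot, Ideal.map_bot]
      exact Ideal.zero_eq_bot.symm
    refine Groth.Agent.Helper3.NilFP.finiteType_of_quotient _ hInil ?_
    exact Algebra.FiniteType.trans
      (inferInstance : Algebra.FiniteType B (B ⧸ n.map (algebraMap A B))) h
  · exact Groth.Agent.Helper3.NilFP.finitePresentation_of_quotient A B C n hn h

end Groth.Agent.S5338
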