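import Groth.Statements.S5343
import Mathlib
-- import your own Groth.Agent.* helpers here

set_option autoImplicit false
universe u
open CategoryTheory CategoryTheory.Limits MonoidalCategory CartesianMonoidalCategory MonObj GrpObj AlgebraicGeometry
open SGA3

namespace Groth.Agent.S5343

/-- Let R be a commutative ring and B a commutative R-algebra which is projective as an R-module. Then
the image of Spec B → Spec R is an open and closed subset of Spec R. (The published statement
concerns a quasi-coherent algebra on any scheme which is a direct summand of a free module; this row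
is the affine case.) -/
theorem result (R B : Type u) [CommRing R] [CommRing B] [Algebra R B] [Module.Projective R B] :
    IsClopen (Set.range (PrimeSpectrum.comap (algebraMap R B))) := by
  classical
  obtain ⟨s, hs⟩ := (Module.projective_def' (R := R) (P := B)).mp inferInstance
  have hs' : ∀ b : B, Finsupp.linearCombination R id (s b) = b := fun b => by
    have := LinearMap.congr_fun hs b
    simpa using this
  set c := s 1 with hc
  set J : Ideal R := Ideal.span ((c.support.image c : Finset R) : Set R) with hJ
  have hcJ : ∀ i, c i ∈ J := by
    intro i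
    by_cases hi : i ∈ c.support
    · exact Ideal.subset_span (Finset.mem_coe.mpr (Finset.mem_image_of_mem c hi))
    · rw [Finsupp.notMem_support_iff.mp hi]; exact J.zero_mem
  have h1 : (1 : B) = ∑ i ∈ c.support, c i • i := by
    have := hs' 1
    rw [Finsupp.linearCombination_apply, Finsupp.sum] at this
    simpa using this.symm
  -- (a) all coordinates lie in J
  have ha : ∀ (b : B) (j : B), (s b) j ∈ J := by
    intro b j
    have hb : b = ∑ i ∈ c.support, c i • (b * i) := by
      conv_lhs => rw [← _root_.mul_one b, h1, Finset.mul_sum]
      apply Finset.sum_congr rfl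
      intro i _
      rw [mul_smul_comm]
    rw [hb, map_sum, Finsupp.finsetSum_apply]
    apply Ideal.sum_mem
    intro i _
    rw [map_smul, Finsupp.smul_apply, smul_eq_mul]
    exact Ideal.mul_mem_right _ _ (hcJ i)
  -- (b) J idempotent
  have hb : IsIdempotentElem J := by
    apply le_antisymm Ideal.mul_le_right
    rw [hJ, Ideal.span_le]
    intro x hx
    obtain ⟨j, _, rfl⟩ := Finset.mem_image.mp (Finset.mem_coe.mp hx)
    have : c j = ∑ i ∈ c.support, c i * (s i) j := by
      have h2 : c = ∑ i ∈ c.support, c i • s i := by
        conv_lhs => rw [hc, h1, map_sum]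
        apply Finset.sum_congr rfl
        intro i _
        rw [map_smul]
      conv_lhs => rw [h2, Finsupp.finsetSum_apply]
      apply Finset.sum_congr rfl
      intro i _
      rw [Finsupp.smul_apply, smul_eq_mul]
    rw [this]
    apply Ideal.sum_mem
    intro i _
    exact Ideal.mul_mem_mul (hcJ i) (ha i j)
  have hfg : J.FG := ⟨c.support.image c, rfl⟩
  obtain ⟨e, he, hJe⟩ := (Ideal.isIdempotentElem_iff_of_fg J hfg).mp hb
  have hrange : Set.range (PrimeSpectrum.comap (algebraMap R B)) = (PrimeSpectrum.zeroLocus (J : Set R))ᶜ := by
    ext p
    simp only [Set.mem_compl_iff, PrimeSpectrum.mem_zeroLocus, SetLike.coe_subset_coe]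
    constructor
    · rintro ⟨q, rfl⟩ hJp
      apply q.isPrime.ne_top
      rw [Ideal.eq_top_iff_one, h1]
      apply Ideal.sum_mem
      intro i _
      rw [Algebra.smul_def]
      apply Ideal.mul_mem_right
      exact hJp (hcJ i)
    · intro hJp
      rw [PrimeSpectrum.mem_range_comap_iff]
      apply le_antisymm _ Ideal.le_comap_map
      intro r hr
      rw [Ideal.mem_comap] at hr
      obtain ⟨j, hj⟩ : ∃ j, c j ∉ p.asIdeal := by
        by_contra hcon
        push Not at hcon
        apply hJp
        rw [hJ, Ideal.span_le]
        intro x hx
        obtain ⟨j, _, rfl⟩ := Finset.mem_image.mp (Finset.mem_coe.mp hx)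
        exact hcon j
      have key : ∀ x ∈ (p.asIdeal • ⊤ : Submodule R B), (s x) j ∈ p.asIdeal := by
        intro x hx
        refine Submodule.smul_induction_on hx ?_ ?_
        · intro a ha b _
          rw [map_smul, Finsupp.smul_apply, smul_eq_mul]
          exact Ideal.mul_mem_right _ _ ha
        · intro x y hx hy
          rw [map_add, Finsupp.add_apply]
          exact Ideal.add_mem _ hx hy
      have hr' : algebraMap R B r ∈ (p.asIdeal • ⊤ : Submodule R B) := by
        rw [Ideal.smul_top_eq_map]
        exact hr
      have := key _ hr'
      rw [Algebra.algebraMap_eq_smul_one, map_smul, Finsupp.smul_apply, smul_eq_mul] at this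
      exact (p.isPrime.mem_or_mem this).resolve_right hj
  rw [hrange, hJe, PrimeSpectrum.zeroLocus_span]
  exact (PrimeSpectrum.isClopen_iff_zeroLocus.mpr ⟨e, he, rfl⟩).compl

end Groth.Agent.S5343
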