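import Groth.Statements.S5348
import Mathlib
import Groth.Agent.Helper2.HS8
import Groth.Agent.Helper2.HS9
open Groth.Agent.Helper2
-- import your own Groth.Agent.* helpers here

set_option autoImplicit false
universe u
open CategoryTheory CategoryTheory.Limits MonoidalCategory CartesianMonoidalCategory MonObj GrpObj AlgebraicGeometry
open SGA3

namespace Groth.Agent.S5348

/-- Let G be a group scheme over a field k (not assumed of finite type) acting on a k-scheme X so that
the morphism G ×_k X → X ×_k X, (g, x) ↦ (gx, x), is surjective. (i) For every field extension K of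
k, every point of X ⊗_k K lies in exactly one irreducible component of X ⊗_k K. (iv) If x is a
k-rational point of X and C the irreducible component of X containing x, then for every field
extension K of k the inverse image of C in X ⊗_k K is irreducible. -/
theorem result (k : Type u) [Field k] (G X : Over (Spec (CommRingCat.of k))) [GrpObj G] (a : AlgGrp.Action G X) (hΦ : Surjective (lift a.act (snd G X)).left) :
    (∀ (K : Type u) [Field K] [Algebra k K] (z : ↥(pullback X.hom (Spec.map (CommRingCat.ofHom (algebraMap k K))))),
      ∃! C, C ∈ irreducibleComponents ↥(pullback X.hom (Spec.map (CommRingCat.ofHom (algebraMap k K)))) ∧ z ∈ C) ∧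
    (∀ (x : 𝟙_ (Over (Spec (CommRingCat.of k))) ⟶ X) (pt : ↥(𝟙_ (Over (Spec (CommRingCat.of k)))).left) (C : Set X.left),
      C ∈ irreducibleComponents ↥X.left → x.left.base pt ∈ C →
      ∀ (K : Type u) [Field K] [Algebra k K],
        IsIrreducible ((pullback.fst X.hom (Spec.map (CommRingCat.ofHom (algebraMap k K)))).base ⁻¹' C)) := by
  constructor
  · intro K _ _ z
    let t := Spec.map (CommRingCat.ofHom (algebraMap k K))
    let G' := Red.bc t G
    let X' := Red.bc t X
    let a' : AlgGrp.Action G' X' := HS9.bcAction t a
    have hΦ' := HS9.surjective_bc t a hΦ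
    let pt' : ↥(𝟙_ (Over (Spec (CommRingCat.of K)))).left := IsLocalRing.closedPoint K
    let C0' := irreducibleComponent (η[G'].left pt')
    have hC0' : C0' ∈ irreducibleComponents G'.left :=
      irreducibleComponent_mem_irreducibleComponents _
    have he' : η[G'].left pt' ∈ C0' := mem_irreducibleComponent
    let z' : X'.left := z
    refine ⟨irreducibleComponent z', ⟨irreducibleComponent_mem_irreducibleComponents z',
      mem_irreducibleComponent⟩, ?_⟩
    rintro C' ⟨h1, h2⟩
    exact HS8.unique_comp a' C0' hC0' pt' he' hΦ' z' C' (irreducibleComponent z') h1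
      (irreducibleComponent_mem_irreducibleComponents z') h2 mem_irreducibleComponent
  · intro x pt C hC hxC K _ _
    let C0 := irreducibleComponent (η[G].left pt)
    exact HS8.geomIrr_X a C0 (irreducibleComponent_mem_irreducibleComponents _) pt
      mem_irreducibleComponent hΦ x C hC hxC _

end Groth.Agent.S5348
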