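import Groth.Statements.S5349
import Mathlib
import Groth.Agent.Helper2.HS7
open Groth.Agent.Helper2 Groth.Agent.Helper2.HS7
-- import your own Groth.Agent.* helpers here

set_option autoImplicit false
universe u
open CategoryTheory CategoryTheory.Limits MonoidalCategory CartesianMonoidalCategory MonObj GrpObj AlgebraicGeometry
open SGA3

namespace Groth.Agent.S5349

/-- Let G be a group scheme over a field k (not assumed of finite type) acting on an irreducible
k-scheme X so that the morphism G ×_k X → X ×_k X, (g, x) ↦ (gx, x), is surjective. Then X is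
quasi-compact. -/
theorem result (k : Type u) [Field k] (G X : Over (Spec (CommRingCat.of k))) [GrpObj G] (a : AlgGrp.Action G X) (hΦ : Surjective (lift a.act (snd G X)).left)
    [IrreducibleSpace X.left] : CompactSpace X.left := by
  let pt : ↥(𝟙_ (Over (Spec (CommRingCat.of k)))).left := IsLocalRing.closedPoint k
  let C0 := irreducibleComponent (η[G].left pt)
  have hC0 : C0 ∈ irreducibleComponents G.left := irreducibleComponent_mem_irreducibleComponents _
  have he : η[G].left pt ∈ C0 := mem_irreducibleComponent
  obtain ⟨U, hU, hne⟩ : ∃ U : X.left.Opens, IsAffineOpen U ∧ (U : Set X.left).Nonempty := by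
    obtain ⟨x⟩ : Nonempty X.left := inferInstance
    obtain ⟨_, ⟨U, hU, rfl⟩, hx, -⟩ := X.left.isBasis_affineOpens.exists_subset_of_mem_open
      (Set.mem_univ x) isOpen_univ
    exact ⟨U, hU, ⟨x, hx⟩⟩
  have hV := HS5.mul_eq_sUnion a C0 hC0 pt he hΦ U
  have huniv : a.act.left '' ((fst G X).left ⁻¹' C0 ∩ (snd G X).left ⁻¹' (U : Set X.left)) =
      Set.univ := by
    rw [hV, Set.eq_univ_iff_forall]
    intro x
    refine ⟨Set.univ, ⟨?_, genericPoint X.left, ?_, ?_⟩, Set.mem_univ x⟩
    · rw [irreducibleComponents_eq_singleton]; rfl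
    · have := ((genericPoint_spec X.left).mem_open_set_iff U.2).mpr (by simpa using hne)
      exact this
    · exact (genericPoint_spec X.left).def
  have hc := isCompact_prod (X := X) C0 (isClosed_of_mem_irreducibleComponents C0 hC0)
    (HS6.isCompact_C0 G C0 hC0 pt he) U hU
  have := hc.image a.act.left.continuous
  rw [huniv] at this
  exact ⟨this⟩

end Groth.Agent.S5349
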