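import Groth.Statements.S5373
import Mathlib
import Groth.Agent.Helper9.LocDesc
import Groth.Agent.Helper9.QuotGrp
-- import your own Groth.Agent.* helpers here

set_option autoImplicit false
universe u
open CategoryTheory CategoryTheory.Limits MonoidalCategory CartesianMonoidalCategory MonObj GrpObj AlgebraicGeometry
open SGA3

namespace Groth.Agent.S5373

/-- Let p : X → Y be a morphism of S-schemes and v : X ×_Y X → X ×_S X the canonical monomorphism (the
graph of the effective equivalence relation defined by p). Then (i) v is an immersion, and a closed
immersion if Y is separated over S; (ii) if p is covering for the fpqc topology (some Z → Y which is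
flat, surjective, with every affine open of Y the image of a quasi-compact open of Z, factors
through p), so that Y represents the quotient sheaf of X by this equivalence relation, and v is a
closed immersion, then Y is separated over S. -/
theorem result (S : Scheme.{u}) (X Y : Over S) (p : X ⟶ Y) :
    letI v : (pullback p p) ⟶ X ⊗ X := lift (pullback.fst p p) (pullback.snd p p)
    IsImmersion v.left ∧ (IsSeparated Y.hom → IsClosedImmersion v.left) ∧
    ((∃ (Z : Scheme.{u}) (q : Z ⟶ Y.left) (r : Z ⟶ X.left), r ≫ p.left = q ∧ Surjective q ∧ Flat q ∧
        ∀ V : Y.left.Opens, IsAffineOpen V → ∃ W : Z.Opens, IsCompact (W : Set Z) ∧ q.base '' (W : Set Z) = (V : Set Y.left)) →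
      IsClosedImmersion v.left → IsSeparated Y.hom) := by
  have sq : IsPullback (pullback.fst p p) (pullback.snd p p) p p := IsPullback.of_hasPullback p p
  refine ⟨Groth.Agent.Helper9.LocDesc.immersion_graph p sq, ?_, ?_⟩
  · intro hsep
    exact Groth.Agent.Helper9.LocDesc.closedImmersion_graph p sq
  · intro hcov hcl
    exact Groth.Agent.Helper9.LocDesc.separated_of_graph p
      (Groth.Agent.Helper9.QuotGrp.loc_of_cov p hcov) sq hcl

end Groth.Agent.S5373
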