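import Groth.Statements.S5375
import Mathlib
import Groth.Agent.Helper2.HopfFG
open Groth.Agent.Helper2.HopfFG TensorProduct WithConv
-- import your own Groth.Agent.* helpers here

set_option autoImplicit false
universe u
open CategoryTheory CategoryTheory.Limits MonoidalCategory CartesianMonoidalCategory MonObj GrpObj AlgebraicGeometry
open SGA3

namespace Groth.Agent.S5375

/-- Let A be a commutative Hopf algebra over a field k (an affine k-group, not necessarily of finite
type) and x an element of A. Then there is a subalgebra B of A of finite type over k containing x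
which is a sub-Hopf-algebra: the comultiplication sends B into B ⊗ B and the antipode preserves B. -/
theorem result (k : Type u) [Field k] (A : Type u) [CommRing A] [HopfAlgebra k A] (x : A) :
    ∃ B : Subalgebra k A, x ∈ B ∧ B.FG ∧ SGA3.IsHopfSubalgebra k A B := by
  classical
  obtain ⟨s, hs⟩ := subco_fg (k := k) x
  set W := subco (k := k) x with hW
  let S := HopfAlgebra.antipodeAlgHom k A
  let gens : Finset A := s ∪ s.image S
  let B := Algebra.adjoin k (gens : Set A)
  have hsW : ∀ a ∈ s, a ∈ W := fun a ha => hs ▸ Submodule.subset_span ha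
  have hWB : W ≤ Subalgebra.toSubmodule B := by
    rw [← hs]
    exact Submodule.span_le.2 (fun a ha => Algebra.subset_adjoin (by simp [gens]; left; exact ha))
  have hSWB : ∀ w ∈ W, S w ∈ B := by
    have : W ≤ (Subalgebra.toSubmodule B).comap S.toLinearMap := by
      rw [← hs]
      refine Submodule.span_le.2 (fun a ha => ?_)
      exact Algebra.subset_adjoin (by simp [gens]; right; exact ⟨a, ha, rfl⟩)
    exact this
  refine ⟨B, hWB (mem_subco x), ⟨gens, rfl⟩, ?_, ?_⟩
  · let P : Subalgebra k (A ⊗[k] A) := (Algebra.TensorProduct.map B.val B.val).range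
    have hP : ∀ t, t ∈ P → t ∈ LinearMap.range
        (TensorProduct.map B.val.toLinearMap B.val.toLinearMap) := by
      rintro _ ⟨t, rfl⟩
      exact ⟨t, rfl⟩
    have hWP : ∀ t : W ⊗[k] W, TensorProduct.map W.subtype W.subtype t ∈ P := by
      intro t
      induction t using TensorProduct.induction_on with
      | zero => simp
      | tmul p q =>
        exact ⟨(⟨p.1, hWB p.2⟩ : B) ⊗ₜ (⟨q.1, hWB q.2⟩ : B), rfl⟩
      | add t1 t2 h1 h2 => rw [map_add]; exact P.add_mem h1 h2
    have hSP : ∀ t : W ⊗[k] W, Algebra.TensorProduct.lift
        ((Algebra.TensorProduct.includeRight (R := k) (A := A) (B := A)).comp S)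
        ((Algebra.TensorProduct.includeLeft (R := k) (S := k) (A := A) (B := A)).comp S)
        (fun _ _ => .all ..) (TensorProduct.map W.subtype W.subtype t) ∈ P := by
      intro t
      induction t using TensorProduct.induction_on with
      | zero => simp
      | tmul p q =>
        refine ⟨(⟨S q.1, hSWB _ q.2⟩ : B) ⊗ₜ (⟨S p.1, hSWB _ p.2⟩ : B), ?_⟩
        simp [Algebra.TensorProduct.tmul_mul_tmul]
      | add t1 t2 h1 h2 => rw [map_add, map_add]; exact P.add_mem h1 h2
    have hle : B ≤ P.comap (Bialgebra.comulAlgHom k A) := by
      refine Algebra.adjoin_le ?_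
      intro a ha
      simp only [gens, Finset.coe_union, Finset.coe_image, Set.mem_union, Finset.mem_coe,
        Set.mem_image] at ha
      rcases ha with ha | ⟨w, hw, rfl⟩
      · obtain ⟨t, ht⟩ := comul_mem_subco x (hsW a ha)
        show Coalgebra.comul (R := k) a ∈ P
        rw [← ht]
        exact hWP t
      · obtain ⟨t, ht⟩ := comul_mem_subco x (hsW w hw)
        show Coalgebra.comul (R := k) (HopfAlgebra.antipode k w) ∈ P
        rw [comul_antipode, ← ht]
        exact hSP t
    intro b hb
    exact hP _ (hle hb)
  · have hle : B ≤ B.comap S := by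
      refine Algebra.adjoin_le ?_
      intro a ha
      simp only [gens, Finset.coe_union, Finset.coe_image, Set.mem_union, Finset.mem_coe,
        Set.mem_image] at ha
      rcases ha with ha | ⟨w, hw, rfl⟩
      · exact hSWB a (hsW a ha)
      · show S (S w) ∈ B
        have : S (S w) = w := antipode_antipode w
        rw [this]
        exact hWB (hsW w hw)
    intro b hb
    exact hle hb

end Groth.Agent.S5375
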