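import Groth.Statements.S5376
import Mathlib
import Groth.Agent.Helper2.OrbitSpan
import Groth.Agent.Helper2.ComodGen
open TensorProduct Groth.Agent.Helper2.ComodGen Groth.Agent.Helper2.OrbitSpan
-- import your own Groth.Agent.* helpers here

set_option autoImplicit false
universe u
open CategoryTheory CategoryTheory.Limits MonoidalCategory CartesianMonoidalCategory MonObj GrpObj AlgebraicGeometry
open SGA3

namespace Groth.Agent.S5376

/-- Let k be an algebraically closed field, A a finitely generated commutative Hopf algebra over k which
is reduced (a reduced affine algebraic k-group G), V a finite-dimensional A-comodule and v a vector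
of V. Let E be the k-subspace of V spanned by the vectors g·v for g running over the k-points of G
(algebra maps A → k). Then E is a subcomodule of V containing v, and it is the smallest one. -/
theorem result (k : Type u) [Field k] [IsAlgClosed k] (A : Type u) [CommRing A] [HopfAlgebra k A]
    [Algebra.FiniteType k A] [IsReduced A] (V : Type u) [AddCommGroup V] [Module k V] [HopfRep.Comod k A V]
    [Module.Finite k V] (v : V) :
    letI E : Submodule k V := Submodule.span k (Set.range fun g : A →ₐ[k] k => HopfRep.Comod.act k A V g v)
    HopfRep.IsSubcomod (k := k) (A := A) E ∧ v ∈ E ∧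
      ∀ W : Submodule k V, HopfRep.IsSubcomod (k := k) (A := A) W → v ∈ W → E ≤ W := by
  set E : Submodule k V := Submodule.span k (Set.range fun g : A →ₐ[k] k => HopfRep.Comod.act k A V g v) with hEdef
  have hact : ∀ g : A →ₐ[k] k, HopfRep.Comod.act k A V g v = RopV g.toLinearMap v := fun g => rfl
  have key : ∀ (lam : V →ₗ[k] k) (ψ : A →ₗ[k] k) (t : V ⊗[k] A),
      ψ ((TensorProduct.lid k A) (lam.rTensor A t)) = lam ((TensorProduct.rid k V) (ψ.lTensor V t)) := by
    intro lam ψ t
    have : ψ ∘ₗ (TensorProduct.lid k A).toLinearMap ∘ₗ lam.rTensor A =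
        lam ∘ₗ (TensorProduct.rid k V).toLinearMap ∘ₗ ψ.lTensor V := by
      ext u b
      simp [mul_comm]
    exact LinearMap.congr_fun this t
  have hRE : ∀ θ : A →ₗ[k] k, RopV θ v ∈ E := by
    intro θ
    by_contra hnot
    obtain ⟨lam, hlam, hmap⟩ := Submodule.exists_dual_map_eq_bot_of_notMem hnot inferInstance
    let a : A := (TensorProduct.lid k A) (lam.rTensor A (HopfRep.Comod.coact (k := k) (A := A) v))
    have ha : a = 0 := by
      apply eq_zero_of_forall_algHom (k := k)
      intro g
      have h1 : g a = lam (RopV g.toLinearMap v) := key lam g.toLinearMap _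
      rw [h1]
      have : lam (RopV g.toLinearMap v) ∈ E.map lam :=
        Submodule.mem_map_of_mem (Submodule.subset_span ⟨g, hact g⟩)
      rw [hmap] at this
      simpa using this
    apply hlam
    have h2 : θ a = lam (RopV θ v) := key lam θ _
    rw [← h2, ha, map_zero]
  have hE : E = gen (C := A) (Submodule.span k {v}) := by
    apply le_antisymm
    · refine Submodule.span_le.2 ?_
      rintro _ ⟨g, rfl⟩
      show HopfRep.Comod.act k A V g v ∈ _
      rw [hact]
      exact Submodule.subset_span ⟨_, v, Submodule.mem_span_singleton_self v, rfl⟩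
    · refine Submodule.span_le.2 ?_
      rintro _ ⟨θ, m, hm, rfl⟩
      obtain ⟨c, rfl⟩ := Submodule.mem_span_singleton.1 hm
      rw [map_smul]
      exact E.smul_mem c (hRE θ)
  refine ⟨?_, ?_, ?_⟩
  · rw [hE]; exact isSubcomod_gen _
  · rw [hE]; exact le_gen _ (Submodule.mem_span_singleton_self v)
  · intro W hW hvW
    rw [hE]
    exact gen_le hW (by rw [Submodule.span_singleton_le_iff_mem]; exact hvW)

end Groth.Agent.S5376
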