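import Groth.Statements.S5380
import Groth.Agent.S0399
open TensorProduct Function LinearMap
-- import your own Groth.Agent.* helpers here

set_option autoImplicit false
universe u
open CategoryTheory CategoryTheory.Limits MonoidalCategory CartesianMonoidalCategory MonObj GrpObj AlgebraicGeometry
open SGA3

namespace Groth.Agent.S5380

/-- Let R be a discrete valuation ring with uniformizer π, A a flat commutative R-algebra and M an
A-module which is flat over R. Suppose that M/πM is a flat module over A/πA and that M ⊗_R K is a
flat module over A ⊗_R K, K the fraction field of R (equivalently, M[1/π] is flat over A[1/π], the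
form used here). Then M is a flat A-module. -/
theorem result (R : Type u) [CommRing R] [IsDomain R] [IsDiscreteValuationRing R]
    (π : R) (hπ : Irreducible π) (A : Type u) [CommRing A] [Algebra R A] [Module.Flat R A]
    (M : Type u) [AddCommGroup M] [Module A M] [Module R M] [IsScalarTower R A M] [Module.Flat R M]
    (h1 : Module.Flat (A ⧸ Ideal.span {algebraMap R A π}) (M ⧸ (Ideal.span {algebraMap R A π} • (⊤ : Submodule A M))))
    (h2 : Module.Flat (Localization.Away (algebraMap R A π)) (LocalizedModule (Submonoid.powers (algebraMap R A π)) M)) :
    Module.Flat A M := by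
  have hπ0 : π ∈ nonZeroDivisors R := mem_nonZeroDivisors_of_ne_zero hπ.ne_zero
  have hA : algebraMap R A π ∈ nonZeroDivisors A := by
    have := Module.Flat.isSMulRegular_of_nonZeroDivisors (M := A) hπ0
    rw [mem_nonZeroDivisors_iff_right]
    intro x hx
    apply this
    show π • x = π • 0
    rw [smul_zero, Algebra.smul_def, mul_comm]
    exact hx
  have hM : IsSMulRegular M (algebraMap R A π) := by
    have := Module.Flat.isSMulRegular_of_nonZeroDivisors (M := M) hπ0
    intro a b hab
    apply this
    simpa [algebraMap_smul] using hab
  have : Module.Flat (A ⧸ Ideal.span {algebraMap R A π}) ((A ⧸ Ideal.span {algebraMap R A π}) ⊗[A] M) := by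
    have hsurjQ : Surjective (algebraMap A (A ⧸ Ideal.span {algebraMap R A π})) :=
      Ideal.Quotient.mk_surjective
    exact Module.Flat.of_linearEquiv
      ((TensorProduct.quotTensorEquivQuotSMul M (Ideal.span {algebraMap R A π})).extendScalarsOfSurjective hsurjQ)
  exact Groth.Agent.S0399.result (algebraMap R A π) hA hM

end Groth.Agent.S5380
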