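import Groth.Statements.S5381


set_option autoImplicit false
universe u
open CategoryTheory CategoryTheory.Limits MonoidalCategory CartesianMonoidalCategory MonObj GrpObj AlgebraicGeometry
open SGA3

namespace Groth.Agent.S5381

open nonZeroDivisors in
theorem aux (R : Type u) [CommRing R] [IsDedekindDomain R]
    (X : Scheme.{u}) (f : X ⟶ Spec (CommRingCat.of R)) [Flat f] [QuasiCompact f] [QuasiSeparated f] :
    letI := ((Scheme.ΓSpecIso (CommRingCat.of R)).inv ≫ f.appTop).hom.toAlgebra
    Module.Flat R Γ(X, ⊤) := by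
  letI alg : Algebra R Γ(X, ⊤) := ((Scheme.ΓSpecIso (CommRingCat.of R)).inv ≫ f.appTop).hom.toAlgebra
  show Module.Flat R Γ(X, ⊤)
  rw [IsDedekindDomain.flat_iff_torsion_eq_bot, eq_bot_iff]
  rintro s ⟨⟨r, hr⟩, h⟩
  rw [Submodule.mem_bot]
  have h' : (f.appTop ((Scheme.ΓSpecIso (CommRingCat.of R)).inv r)) * s = 0 := h
  -- r' is a nonzerodivisor of Γ(Spec R, ⊤)
  set r' : Γ(Spec (CommRingCat.of R), ⊤) := (Scheme.ΓSpecIso (CommRingCat.of R)).inv r with hr'
  have hr'nz : r' ∈ (Γ(Spec (CommRingCat.of R), ⊤))⁰ := by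
    let e : R ≃+* Γ(Spec (CommRingCat.of R), ⊤) :=
      (Scheme.ΓSpecIso (CommRingCat.of R)).symm.commRingCatIsoToRingEquiv
    have : r' = e r := rfl
    rw [this]
    exact map_mem_nonZeroDivisors e e.injective hr
  refine TopCat.Sheaf.eq_of_locally_eq' X.sheaf (fun U : X.affineOpens => (U : X.Opens)) ⊤
    (fun U => homOfLE le_top) ?_ s 0 (fun U => ?_)
  · intro x _
    obtain ⟨W, hW, hxW, -⟩ := TopologicalSpace.Opens.isBasis_iff_nbhd.mp X.isBasis_affineOpens
      (show x ∈ (⊤ : X.Opens) from trivial)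
    exact TopologicalSpace.Opens.mem_iSup.mpr ⟨⟨W, hW⟩, hxW⟩
  · rw [map_zero]
    have hflat : (f.appLE ⊤ U le_top).hom.Flat :=
      f.flat_appLE (isAffineOpen_top _) U.2 le_top
    letI : Algebra Γ(Spec (CommRingCat.of R), ⊤) Γ(X, U) := (f.appLE ⊤ U le_top).hom.toAlgebra
    haveI : Module.Flat Γ(Spec (CommRingCat.of R), ⊤) Γ(X, U) := hflat
    have hreg := Module.Flat.isSMulRegular_of_nonZeroDivisors (M := Γ(X, U)) hr'nz
    apply hreg
    show (f.appLE ⊤ U le_top) r' * _ = r' • 0
    rw [smul_zero]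
    have := congrArg (X.presheaf.map (homOfLE (le_top : (U : X.Opens) ≤ ⊤)).op) h'
    rw [map_mul, map_zero] at this
    rw [← this]
    congr 1

/-- For S the spectrum of a Dedekind domain R: let X be a scheme which is flat, quasi-compact and
quasi-separated over R. Then the ring of global sections Γ(X, O_X) is a flat R-module. (The
published remark takes S locally noetherian and regular of dimension 1 and also observes, when S is
local with closed point s and uniformizer π, that Γ(X, O_X)/πΓ(X, O_X) → Γ(X_s, O_{X_s}) is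
injective; this row takes S the spectrum of a Dedekind domain and omits the injectivity.) -/
theorem result (R : Type u) [CommRing R] [IsDedekindDomain R]
    (X : Scheme.{u}) (f : X ⟶ Spec (CommRingCat.of R)) [Flat f] [QuasiCompact f] [QuasiSeparated f] :
    letI := ((Scheme.ΓSpecIso (CommRingCat.of R)).inv ≫ f.appTop).hom.toAlgebra
    Module.Flat R Γ(X, ⊤) := by
  exact aux R X f

end Groth.Agent.S5381
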