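import Groth.Statements.S5423
import Mathlib
import Groth.Agent.Helper2.PtsRep
import Groth.Agent.S7975
open TensorProduct Groth.Agent.Helper2.ComodGen Groth.Agent.Helper2.UnipPoints Groth.Agent.Helper2.OrbitSpan Groth.Agent.Helper2.Kolchin Groth.Agent.Helper2.FixedRopV Groth.Agent.Helper2.PtsRep
-- import your own Groth.Agent.* helpers here

set_option autoImplicit false
universe u
open TensorProduct
open SGA3t2b

namespace Groth.Agent.S5423

/-- Let k be an algebraically closed field and A a reduced finitely generated commutative Hopf algebra
over k (a smooth affine algebraic k-group G). Then G is unipotent (every non-zero finite-dimensional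
representation has a non-zero fixed vector) if and only if every element of G(k) is unipotent, i.e.
every k-point g : A → k acts on every finite-dimensional comodule V by an endomorphism g_V with g_V
− 1 nilpotent. -/
theorem result (k : Type u) [Field k] [IsAlgClosed k] (A : Type u) [CommRing A] [HopfAlgebra k A] [Algebra.FiniteType k A]
    [IsReduced A] :
    HopfRep.IsUnipotent k A ↔
      ∀ (g : A →ₐ[k] k) (V : Type u) [AddCommGroup V] [Module k V] [HopfRep.Comod k A V],
        Module.Finite k V → IsNilpotent (HopfRep.Comod.act k A V g - LinearMap.id) := by
  constructor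
  · intro hU g V _ _ _ hfin
    exact nilp_aux hU g _ V rfl
  · intro h V _ _ _ hfin hnt
    obtain ⟨v, hv0, hv⟩ := Groth.Agent.S7975.result k (WithConv (A →ₐ[k] k)) V (ptsRep (V := V))
      (fun g => h g.ofConv V hfin)
    intro hbot
    apply hv0
    have hmem : v ∈ HopfRep.fixedPts k A V := by
      show HopfRep.Comod.coact (k := k) (A := A) v = v ⊗ₜ[k] (1 : A)
      rw [← sub_eq_zero]
      apply eq_zero_of_points
      intro g
      rw [map_sub, map_sub]
      have h1 : (TensorProduct.rid k V) (g.toLinearMap.lTensor V (HopfRep.Comod.coact (k := k) (A := A) v)) = v :=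
        hv (WithConv.toConv g)
      rw [h1]
      simp
    rw [hbot] at hmem
    exact hmem

end Groth.Agent.S5423
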