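import Groth.Statements.S5430
import Mathlib
import Groth.Agent.Helper3.RigExtB

set_option autoImplicit false
universe u
open scoped TensorProduct
open CategoryTheory MonoidalCategory CartesianMonoidalCategory MonObj GrpObj AlgebraicGeometry CategoryTheory.Limits
open SGA3x

namespace Groth.Agent.S5430

/-- Let S be a scheme and E an S-group scheme which is an extension of an S-group scheme U with
connected fibres by an S-group H of multiplicative type and of finite type: p : E → U is a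
homomorphism which is surjective, flat and quasi-compact (U is the fpqc quotient E/H) and i : H → E
is its kernel. Then the extension is central: every point of H commutes with every point of E. -/
theorem result (S : Scheme.{u}) (E H U : Over S) [GrpObj E] [GrpObj H] [GrpObj U]
    (p : E ⟶ U) [IsMonHom p] [Surjective p.left] [Flat p.left] [QuasiCompact p.left]
    (i : H ⟶ E) [IsMonHom i] (hker : AlgGrp.IsKernel i p) (hH : SGA3x.IsMultTypeFT H)
    (hU : ∀ s : S, _root_.IsConnected (U.hom.base ⁻¹' {s})) :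
    ∀ (X : Over S) (h : X ⟶ H) (e : X ⟶ E), (h ≫ i) * e = e * (h ≫ i) := by
  classical
  intro X h0 e0
  haveI : Mono η[U] := mono_of_mono_fac (show η[U] ≫ toUnit U = 𝟙 _ from toUnit_unique _ _)
  haveI : Mono i := hker.mono_fst_of_mono
  have hip : ∀ (T : Over S) (h : T ⟶ H), (h ≫ i) ≫ p = 1 := by
    intro T h
    rw [Category.assoc, hker.w, ← Category.assoc]
    congr 1
    exact toUnit_unique _ _
  -- points of `E` mapping to `1` come from `H`
  have hlift : ∀ (T : Over S) (w : T ⟶ E), w ≫ p = 1 → ∃ h' : T ⟶ H, w = h' ≫ i := by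
    intro T w hw
    exact ⟨hker.lift w (toUnit T) hw, (hker.lift_fst _ _ _).symm⟩
  have hex : ∀ (T : Over S) (e : T ⟶ E) (h : T ⟶ H), ∃ h' : T ⟶ H, e * (h ≫ i) * e⁻¹ = h' ≫ i := by
    intro T e h
    apply hlift
    rw [MonObj.mul_comp, MonObj.mul_comp, GrpObj.inv_comp, hip]
    group
  let Φ : ∀ T : Over S, (T ⟶ E) → (T ⟶ H) → (T ⟶ H) := fun T e h => Classical.choose (hex T e h)
  have hΦ : ∀ (T : Over S) (e : T ⟶ E) (h : T ⟶ H), e * (h ≫ i) * e⁻¹ = Φ T e h ≫ i :=
    fun T e h => Classical.choose_spec (hex T e h)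
  have huniq : ∀ (T : Over S) (e : T ⟶ E) (h h' : T ⟶ H), e * (h ≫ i) * e⁻¹ = h' ≫ i →
      Φ T e h = h' := by
    intro T e h h' e1
    rw [← cancel_mono i, ← hΦ, e1]
  let A : Groth.Agent.Helper3.RigMain.PAct E H :=
    { Φ := Φ
      nat := by
        intro T T' q k h
        apply huniq
        rw [Category.assoc q (Φ T k h) i, ← hΦ, MonObj.comp_mul, MonObj.comp_mul, GrpObj.comp_inv,
          Category.assoc]
      mul := by
        intro T k h h'
        apply huniq
        rw [MonObj.mul_comp, MonObj.mul_comp, ← hΦ, ← hΦ]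
        group
      unit := by
        intro T h
        apply huniq
        group }
  have hfac : ∀ (T : Over S) (k₁ k₂ : T ⟶ E) (h : T ⟶ H), k₁ ≫ p = k₂ ≫ p →
      A.Φ T k₁ h = A.Φ T k₂ h := by
    intro T k₁ k₂ h hk
    obtain ⟨n, hn⟩ := hlift T (k₁⁻¹ * k₂) (by
      rw [MonObj.mul_comp, GrpObj.inv_comp, hk]; group)
    have hk₂ : k₂ = k₁ * (n ≫ i) := by rw [← hn]; group
    symm
    apply huniq
    have hc : n * h * n⁻¹ = h := by
      rw [Groth.Agent.Helper3.RigExt.multType_comm hH T n h]; group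
    have hc' : (n ≫ i) * (h ≫ i) * (n ≫ i)⁻¹ = h ≫ i := by
      rw [← GrpObj.inv_comp, ← MonObj.mul_comp, ← MonObj.mul_comp, hc]
    change _ = Φ T k₁ h ≫ i
    rw [← hΦ, hk₂]
    calc k₁ * (n ≫ i) * (h ≫ i) * (k₁ * (n ≫ i))⁻¹
        = k₁ * ((n ≫ i) * (h ≫ i) * (n ≫ i)⁻¹) * k₁⁻¹ := by group
      _ = k₁ * (h ≫ i) * k₁⁻¹ := by rw [hc']
  have hU' : ∀ s : S, ConnectedSpace ↥(Limits.pullback U.hom (S.fromSpecResidueField s)) := by
    intro s
    have h1 : ConnectedSpace ↥(U.hom ⁻¹' {s}) := isConnected_iff_connectedSpace.mp (hU s)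
    exact (U.hom.fiberHomeo s).symm.connectedSpace_iff.mp h1 |> fun h => h
  have key := Groth.Agent.Helper3.RigExt.rigid_ext p A hfac hH hU' X e0 h0
  have h1 := hΦ X e0 h0
  change A.Φ X e0 h0 = h0 at key
  change _ = A.Φ X e0 h0 ≫ i at h1
  rw [key] at h1
  calc (h0 ≫ i) * e0 = e0 * (h0 ≫ i) * e0⁻¹ * e0 := by rw [h1]
    _ = e0 * (h0 ≫ i) := by group

end Groth.Agent.S5430
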