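import Groth.Statements.S5445
import Groth.Agent.Helper2.RootD3
open Set RootPairing Module
open scoped Pointwise
open Groth.Agent.Helper2
-- import your own Groth.Agent.* helpers here

set_option autoImplicit false
open RootD

namespace Groth.Agent.S5445

/-- A system of positive roots of a root datum contains exactly one system of simple roots (simple
systems in the sense of conditions on roots only: linearly independent, every root a non-negative or
non-positive integer combination). -/
theorem result {ι M N : Type*} [AddCommGroup M] [AddCommGroup N]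
    (P : RootPairing ι ℤ M N) [Finite ι] (S : Set ι) (hS : RootD.IsPosSys P S) :
    ∃! Δ : Set ι, RootD.IsSimpleSys P Δ ∧ Δ ⊆ S := by
  obtain ⟨Δ, hΔ, hsub, hSΔ⟩ := RD3.exists_simpleSys_subset P hS
  refine ⟨Δ, ⟨hΔ, hsub⟩, ?_⟩
  rintro Δ' ⟨hΔ', hsub'⟩
  apply RD3.simpleSys_eq_of_posOf_eq P hΔ' hΔ
  have h1 : S = posOf P Δ' := by
    symm
    apply RD2.posSys_eq_of_subset (RD2.posOf_isPosSys hΔ') hS
    intro k hk
    apply hS.sat 1 one_pos
    rw [one_smul]
    exact RD1.natSpan_mono P hsub' hk
  rw [← h1, hSΔ]

end Groth.Agent.S5445
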