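import Groth.Statements.S5446
import Groth.Agent.Helper2.RootD11
open Set RootPairing Module
open scoped Pointwise
open Groth.Agent.Helper2
-- import your own Groth.Agent.* helpers here

set_option autoImplicit false
open RootD

namespace Groth.Agent.S5446

/-- If the roots indexed by Δ are indivisible and linearly independent and every root is, up to sign, a
non-negative rational combination of them (some positive multiple is a non-negative integer
combination), then Δ is a system of simple roots: every root is, up to sign, a non-negative integer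
combination of Δ. -/
theorem result {ι M N : Type*} [AddCommGroup M] [AddCommGroup N]
    (P : RootPairing ι ℤ M N) [Finite ι] (Δ : Set ι)
    (hind : ∀ i ∈ Δ, RootD.IsIndiv P i) (hli : LinearIndepOn ℤ P.root Δ)
    (hcone : ∀ k : ι, ∃ n : ℕ, 0 < n ∧
      (n • P.root k ∈ RootD.natSpan P Δ ∨ n • (-P.root k) ∈ RootD.natSpan P Δ)) :
    RootD.IsSimpleSys P Δ := by
  have hM := RD.torsionFreeM P
  have hN : ∀ d : ι →₀ ℤ, ↑d.support ⊆ Δ → (∀ a, 0 ≤ d a) → RD2.LC P d = 0 → d = 0 := by
    intro d hd _ h0
    exact RD2.lc_unique P hli hd (by simp) (by rw [h0, map_zero])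
  set S : Set ι := {k | P.root k ∈ RD11.coneSet P Δ} with hSdef
  have hS : IsPosSys P S := by
    refine ⟨?_, ?_, ?_⟩
    · rintro k ⟨n, hn, hk⟩ ⟨n', hn', hk'⟩
      rw [RD.root_neg] at hk'
      have h1 : (n * n') • P.root k ∈ natSpan P Δ := by
        rw [mul_comm, mul_smul]; exact nsmul_mem hk _
      have h2 : -((n * n') • P.root k) ∈ natSpan P Δ := by
        rw [← smul_neg, mul_smul]; exact nsmul_mem hk' _
      have h3 := RD11.eq_zero_of_mem_of_neg_mem P hN h1 h2
      have h4 : (n * n') • P.root k = (n * n') • (0 : M) := by rw [h3, smul_zero]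
      exact P.ne_zero k (nsmul_right_injective (Nat.mul_pos hn hn').ne' h4)
    · intro k
      obtain ⟨n, hn, h | h⟩ := hcone k
      · exact Or.inl ⟨n, hn, h⟩
      · right
        refine ⟨n, hn, ?_⟩
        rw [RD.root_neg]; exact h
    · intro k m hm hmem
      have h1 : m • P.root k ∈ RD11.coneSet P Δ := RD11.natSpan_le_coneSet P (fun k hk => hk) hmem
      obtain ⟨n, hn, h2⟩ := h1
      refine ⟨n * m, Nat.mul_pos hn hm, ?_⟩
      rw [mul_smul]; exact h2
  obtain ⟨ΔS, hΔS, hsubS, hSeq⟩ := RD3.exists_simpleSys_subset P hS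
  have hΔinS : ∀ a ∈ Δ, a ∈ posOf P ΔS := by
    intro a ha
    rw [← hSeq]
    exact ⟨1, one_pos, by rw [one_smul]; exact RD1.root_mem_natSpan P ha⟩
  have hkey : ΔS ⊆ Δ := by
    intro β hβ
    obtain ⟨n, hn, hnβ⟩ := hsubS hβ
    obtain ⟨c, hc1, hc2, hc3⟩ := RD2.exists_lc_of_mem_natSpan P hnβ
    set d : ι →₀ ℤ := c.sum (fun a z => z • RD2.coef hΔS a) with hd
    have hdsupp : ↑d.support ⊆ ΔS := by
      classical
      intro b hb
      rw [hd] at hb
      have := Finsupp.support_sum hb
      simp only [Finset.mem_biUnion] at this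
      obtain ⟨i, -, hi⟩ := this
      exact RD2.coef_supp hΔS i (Finsupp.support_smul hi)
    have hdlc : RD2.LC P d = n • P.root β := by
      rw [hd, map_finsuppSum]
      simp only [map_smul, RD2.coef_lc]
      rw [← hc3, RD2.LC, Finsupp.linearCombination_apply]
    have hdeq : d = (n : ℤ) • Finsupp.single β 1 := by
      classical
      apply RD2.lc_unique P hΔS.linInd hdsupp
      · intro b hb
        have := Finsupp.support_smul hb
        have := Finsupp.support_single_subset this
        simp only [Finset.mem_singleton] at this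
        rw [this]; exact hβ
      · rw [hdlc, map_smul]; simp [RD2.LC]
    have hc0 : c ≠ 0 := by
      rintro rfl
      rw [map_zero] at hc3
      have h4 : n • P.root β = n • (0 : M) := by rw [← hc3, smul_zero]
      exact P.ne_zero β (nsmul_right_injective hn.ne' h4)
    obtain ⟨a₀, ha₀⟩ := Finsupp.ne_iff.mp hc0
    simp only [Finsupp.coe_zero, Pi.zero_apply] at ha₀
    have ha₀pos : 0 < c a₀ := lt_of_le_of_ne (hc2 a₀) (Ne.symm ha₀)
    have ha₀Δ : a₀ ∈ Δ := hc1 (Finsupp.mem_support_iff.mpr ha₀)
    have hcoef_nonneg : ∀ a ∈ Δ, ∀ b, 0 ≤ RD2.coef hΔS a b := fun a ha =>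
      (RD2.mem_posOf_iff hΔS a).mp (hΔinS a ha)
    have hzero : ∀ b, b ≠ β → RD2.coef hΔS a₀ b = 0 := by
      intro b hb
      have h1 : d b = 0 := by
        rw [hdeq]; simp [Finsupp.single_eq_of_ne hb]
      rw [hd, Finsupp.sum_apply] at h1
      have h2 := (Finset.sum_eq_zero_iff_of_nonneg (fun a ha => by
        show 0 ≤ (c a • RD2.coef hΔS a) b
        rw [Finsupp.smul_apply, smul_eq_mul]
        exact mul_nonneg (hc2 a) (hcoef_nonneg a (hc1 ha) b))).mp h1 a₀ (Finsupp.mem_support_iff.mpr ha₀)
      simp only [Finsupp.smul_apply, smul_eq_mul] at h2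
      rcases mul_eq_zero.mp h2 with h | h
      · exact absurd h ha₀
      · exact h
    have hroot := RD2.root_eq_smul_of_forall hΔS hzero
    set t := RD2.coef hΔS a₀ β with ht
    have ht0 : 0 ≤ t := hcoef_nonneg a₀ ha₀Δ β
    have h2 : (2 : ℤ) = t * P.pairing β a₀ := by
      have := congrArg (P.coroot' a₀) hroot
      simpa [root_coroot'_eq_pairing] using this
    have ht2 : t = 1 ∨ t = 2 := by
      have hdvd : t ∣ 2 := ⟨_, h2⟩
      have hle : t ≤ 2 := Int.le_of_dvd (by norm_num) hdvd
      have hne : t ≠ 0 := by rintro h; rw [h] at h2; simp at h2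
      omega
    rcases ht2 with h3 | h3
    · rw [h3, one_smul] at hroot
      rw [← P.root.injective hroot]; exact ha₀Δ
    · rw [h3] at hroot
      exact absurd hroot.symm (hind a₀ ha₀Δ β)
  refine ⟨hli, fun k => ?_⟩
  rcases hΔS.mem_or_neg_mem k with h | h
  · exact Or.inl (RD1.natSpan_mono P hkey h)
  · exact Or.inr (RD1.natSpan_mono P hkey h)

end Groth.Agent.S5446
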