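import Groth.Statements.S5447
import Groth.Agent.Helper2.RootD11
open Set RootPairing Module
open scoped Pointwise
open Groth.Agent.Helper2
-- import your own Groth.Agent.* helpers here

set_option autoImplicit false
open RootD

namespace Groth.Agent.S5447

/-- If every root can be written in exactly one way as an integer combination of the roots indexed by Δ
with coefficients all of the same sign, then these roots are linearly independent (so Δ is a system
of simple roots) and indivisible. -/
theorem result {ι M N : Type*} [AddCommGroup M] [AddCommGroup N]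
    (P : RootPairing ι ℤ M N) [Finite ι] (Δ : Set ι)
    (h : ∀ k : ι, ∃! c : ι →₀ ℤ, (↑c.support ⊆ Δ ∧ ((∀ j, 0 ≤ c j) ∨ (∀ j, c j ≤ 0)) ∧
      Finsupp.linearCombination ℤ P.root c = P.root k)) :
    RootD.IsSimpleSys P Δ ∧ ∀ i ∈ Δ, RootD.IsIndiv P i := by
  classical
  have hM := RD.torsionFreeM P
  -- uniqueness
  have hU : ∀ (k : ι) (c c' : ι →₀ ℤ), ↑c.support ⊆ Δ → ((∀ j, 0 ≤ c j) ∨ (∀ j, c j ≤ 0)) → RD2.LC P c = P.root k →
      ↑c'.support ⊆ Δ → ((∀ j, 0 ≤ c' j) ∨ (∀ j, c' j ≤ 0)) → RD2.LC P c' = P.root k → c = c' := by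
    intro k c c' h1 h2 h3 h1' h2' h3'
    exact (h k).unique ⟨h1, h2, h3⟩ ⟨h1', h2', h3'⟩
  have hsingle_supp : ∀ a ∈ Δ, ∀ z : ℤ, ↑(Finsupp.single a z).support ⊆ Δ := by
    intro a ha z b hb
    have := Finsupp.support_single_subset hb
    simp only [Finset.mem_singleton] at this
    rw [this]; exact ha
  -- no nontrivial nonnegative relation
  have hN : ∀ d : ι →₀ ℤ, ↑d.support ⊆ Δ → (∀ a, 0 ≤ d a) → RD2.LC P d = 0 → d = 0 := by
    intro d hd hd0 hlc
    by_contra hne
    obtain ⟨a₀, ha₀⟩ := Finsupp.ne_iff.mp hne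
    simp only [Finsupp.coe_zero, Pi.zero_apply] at ha₀
    have ha₀Δ : a₀ ∈ Δ := hd (Finsupp.mem_support_iff.mpr ha₀)
    have := hU a₀ (Finsupp.single a₀ 1) (Finsupp.single a₀ 1 + d) (hsingle_supp a₀ ha₀Δ 1)
      (Or.inl (fun j => by rw [Finsupp.single_apply]; split_ifs <;> norm_num)) (by simp [RD2.LC])
      (by
        intro b hb
        rcases Finset.mem_union.mp (Finsupp.support_add hb) with h | h
        · exact hsingle_supp a₀ ha₀Δ 1 h
        · exact hd h)
      (Or.inl (fun j => by
        rw [Finsupp.add_apply, Finsupp.single_apply]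
        have := hd0 j
        split_ifs <;> omega))
      (by rw [map_add, hlc, add_zero]; simp [RD2.LC])
    have h2 := DFunLike.congr_fun this a₀
    simp only [Finsupp.coe_add, Pi.add_apply, Finsupp.single_eq_same] at h2
    omega
  -- every root or its negative is in natSpan Δ
  have hmem : ∀ k, P.root k ∈ natSpan P Δ ∨ -P.root k ∈ natSpan P Δ := by
    intro k
    obtain ⟨c, ⟨h1, h2, h3⟩, -⟩ := h k
    rcases h2 with h2 | h2
    · left
      rw [← h3]; exact RD2.lc_mem_natSpan P c h1 h2
    · right
      have : -P.root k = RD2.LC P (-c) := by rw [map_neg]; exact congrArg Neg.neg h3.symm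
      rw [this]
      exact RD2.lc_mem_natSpan P (-c) (by simpa using h1) (by intro a; simpa using h2 a)
  set S : Set ι := posOf P Δ with hSdef
  have hS : IsPosSys P S := by
    refine ⟨?_, ?_, ?_⟩
    · intro k hk hk'
      have hk'' : P.root (P.reflectionPerm k k) ∈ natSpan P Δ := hk'
      rw [RD.root_neg] at hk''
      exact P.ne_zero k (RD11.eq_zero_of_mem_of_neg_mem P hN hk hk'')
    · intro k
      rcases hmem k with h1 | h1
      · exact Or.inl h1
      · right
        show P.root (P.reflectionPerm k k) ∈ natSpan P Δ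
        rw [RD.root_neg]; exact h1
    · intro k m hm hmem'
      have h1 : m • P.root k ∈ natSpan P Δ := RD2.natSpan_posOf_le P Δ hmem'
      rcases hmem k with h2 | h2
      · exact h2
      · exfalso
        have h3 : -(m • P.root k) ∈ natSpan P Δ := by
          rw [← smul_neg]; exact nsmul_mem h2 _
        have h4 := RD11.eq_zero_of_mem_of_neg_mem P hN h1 h3
        have h5 : m • P.root k = m • (0 : M) := by rw [h4, smul_zero]
        exact P.ne_zero k (nsmul_right_injective hm.ne' h5)
  obtain ⟨ΔS, hΔS, hsubS, hSeq⟩ := RD3.exists_simpleSys_subset P hS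
  -- nonneg expressions of elements of ΔS along Δ
  have hexpr : ∀ b ∈ ΔS, ∃ e : ι →₀ ℤ, ↑e.support ⊆ Δ ∧ (∀ a, 0 ≤ e a) ∧ RD2.LC P e = P.root b := by
    intro b hb
    exact RD2.exists_lc_of_mem_natSpan P (hsubS hb)
  have hkey : Δ ⊆ ΔS := by
    intro α hα
    have hαS : α ∈ posOf P ΔS := by rw [← hSeq]; exact RD1.root_mem_natSpan P hα
    set d := RD2.coef hΔS α with hd
    have hd0 : ∀ b, 0 ≤ d b := (RD2.mem_posOf_iff hΔS α).mp hαS
    have hdsupp : ↑d.support ⊆ ΔS := RD2.coef_supp hΔS α
    -- choose expressions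
    let e : ι → (ι →₀ ℤ) := fun b => if hb : b ∈ ΔS then Classical.choose (hexpr b hb) else 0
    have he : ∀ b ∈ ΔS, ↑(e b).support ⊆ Δ ∧ (∀ a, 0 ≤ e b a) ∧ RD2.LC P (e b) = P.root b := by
      intro b hb
      simp only [e, dif_pos hb]
      exact Classical.choose_spec (hexpr b hb)
    set E : ι →₀ ℤ := d.sum (fun b z => z • e b) with hE
    have hEsupp : ↑E.support ⊆ Δ := by
      intro a ha
      rw [hE] at ha
      have := Finsupp.support_sum ha
      simp only [Finset.mem_biUnion] at this
      obtain ⟨b, hb, hi⟩ := this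
      exact (he b (hdsupp hb)).1 (Finsupp.support_smul hi)
    have hEnonneg : ∀ a, 0 ≤ E a := by
      intro a
      rw [hE, Finsupp.sum_apply]
      apply Finset.sum_nonneg
      intro b hb
      show 0 ≤ (d b • e b) a
      rw [Finsupp.smul_apply, smul_eq_mul]
      exact mul_nonneg (hd0 b) ((he b (hdsupp hb)).2.1 a)
    have hElc : RD2.LC P E = P.root α := by
      rw [hE, map_finsuppSum]
      have : ∀ b ∈ d.support, RD2.LC P (d b • e b) = d b • P.root b := by
        intro b hb
        rw [map_smul, (he b (hdsupp hb)).2.2]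
      rw [Finsupp.sum, Finset.sum_congr rfl this, ← RD2.coef_lc hΔS α, RD2.LC, Finsupp.linearCombination_apply,
        Finsupp.sum]
    have hEeq : E = Finsupp.single α 1 :=
      hU α E (Finsupp.single α 1) hEsupp (Or.inl hEnonneg) hElc (hsingle_supp α hα 1)
        (Or.inl (fun j => by rw [Finsupp.single_apply]; split_ifs <;> norm_num)) (by simp [RD2.LC])
    -- pick b₀ in the support of d
    obtain ⟨b₀, hb₀⟩ := Finsupp.ne_iff.mp (RD2.coef_ne_zero hΔS α)
    simp only [Finsupp.coe_zero, Pi.zero_apply] at hb₀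
    have hb₀supp : b₀ ∈ d.support := Finsupp.mem_support_iff.mpr hb₀
    have hb₀S : b₀ ∈ ΔS := hdsupp hb₀supp
    change d b₀ ≠ 0 at hb₀
    have hb₀pos : 1 ≤ d b₀ := by have := hd0 b₀; omega
    have hterm : ∀ a, d b₀ * e b₀ a ≤ E a := by
      intro a
      rw [hE, Finsupp.sum_apply, Finsupp.sum]
      have := Finset.single_le_sum (f := fun b => (d b • e b) a) (fun b hb => by
        show 0 ≤ (d b • e b) a
        rw [Finsupp.smul_apply, smul_eq_mul]
        exact mul_nonneg (hd0 b) ((he b (hdsupp hb)).2.1 a)) hb₀supp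
      simp only [Finsupp.smul_apply, smul_eq_mul] at this ⊢
      exact this
    have hez : ∀ a, a ≠ α → e b₀ a = 0 := by
      intro a ha
      have h1 := hterm a
      rw [hEeq, Finsupp.single_eq_of_ne ha] at h1
      have h2 := (he b₀ hb₀S).2.1 a
      nlinarith
    have heα : e b₀ α = 1 ∧ d b₀ = 1 := by
      have h1 := hterm α
      rw [hEeq, Finsupp.single_eq_same] at h1
      have h2 := (he b₀ hb₀S).2.1 α
      have h3 : e b₀ α ≠ 0 := by
        intro h0
        have : e b₀ = 0 := by
          ext a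
          by_cases ha : a = α
          · rw [ha, h0]; rfl
          · rw [hez a ha]; rfl
        have h4 := (he b₀ hb₀S).2.2
        rw [this, map_zero] at h4
        exact P.ne_zero b₀ h4.symm
      have h5 : 1 ≤ e b₀ α := by omega
      constructor <;> nlinarith
    have hroot : P.root b₀ = P.root α := by
      rw [← (he b₀ hb₀S).2.2]
      have : e b₀ = Finsupp.single α 1 := by
        ext a
        by_cases ha : a = α
        · rw [ha, heα.1, Finsupp.single_eq_same]
        · rw [hez a ha, Finsupp.single_eq_of_ne ha]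
      rw [this]; simp [RD2.LC]
    rw [← P.root.injective hroot]; exact hb₀S
  have hsimple : IsSimpleSys P Δ := ⟨hΔS.linInd.mono hkey, hmem⟩
  refine ⟨hsimple, ?_⟩
  intro i hi j hj
  have h1 : (2 : ℤ) • RD2.coef hsimple j = RD2.coef hsimple i := by
    apply RD2.coef_unique
    · intro a ha
      exact RD2.coef_supp hsimple j (Finsupp.support_smul ha)
    · rw [map_smul, RD2.coef_lc, hj]
  rw [RD2.coef_simple hsimple hi] at h1
  have := DFunLike.congr_fun h1 i
  simp only [Finsupp.coe_smul, Pi.smul_apply, smul_eq_mul, Finsupp.single_eq_same] at this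
  omega

end Groth.Agent.S5447
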