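import Groth.Statements.S5448
import Groth.Agent.Helper2.RootD2
open Set RootPairing Module
open Groth.Agent.Helper2
-- import your own Groth.Agent.* helpers here

set_option autoImplicit false
open RootD

namespace Groth.Agent.S5448

/-- The elements of a system of simple roots (root-only sense) are indivisible, i.e. none of them is
twice a root. -/
theorem result {ι M N : Type*} [AddCommGroup M] [AddCommGroup N]
    (P : RootPairing ι ℤ M N) [Finite ι] (Δ : Set ι) (hΔ : RootD.IsSimpleSys P Δ)
    (i : ι) (hi : i ∈ Δ) : RootD.IsIndiv P i := by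
  intro j hj
  have h1 : (2 : ℤ) • RD2.coef hΔ j = RD2.coef hΔ i := by
    apply RD2.coef_unique
    · intro a ha
      apply RD2.coef_supp hΔ j
      simp only [Finset.mem_coe, Finsupp.mem_support_iff, Finsupp.coe_smul, Pi.smul_apply, smul_eq_mul, ne_eq,
        mul_eq_zero, not_or] at ha ⊢
      exact ha.2
    · rw [map_smul, RD2.coef_lc, hj]
  rw [RD2.coef_simple hΔ hi] at h1
  have := DFunLike.congr_fun h1 i
  simp only [Finsupp.coe_smul, Pi.smul_apply, smul_eq_mul, Finsupp.single_eq_same] at this
  omega

end Groth.Agent.S5448
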