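import Groth.Statements.S5450
import Groth.Agent.Helper2.RootD2
open Set RootPairing Module
open Groth.Agent.Helper2
-- import your own Groth.Agent.* helpers here

set_option autoImplicit false
open RootD

namespace Groth.Agent.S5450

/-- A positive root (relative to a system of simple roots Δ) is simple if and only if it is not the sum
of two positive roots. -/
theorem result {ι M N : Type*} [AddCommGroup M] [AddCommGroup N]
    (P : RootPairing ι ℤ M N) [Finite ι] (Δ : Set ι) (hΔ : RootD.IsSimpleSys P Δ)
    (k : ι) (hk : k ∈ RootD.posOf P Δ) :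
    k ∈ Δ ↔ ¬ ∃ i j : ι, i ∈ RootD.posOf P Δ ∧ j ∈ RootD.posOf P Δ ∧ P.root k = P.root i + P.root j := by
  constructor
  · rintro hkΔ ⟨i, j, hi, hj, hsum⟩
    have h1 := RD2.coef_add hΔ hsum
    rw [RD2.coef_simple hΔ hkΔ] at h1
    obtain ⟨a, -, ha⟩ := RD2.exists_pos_of_mem_posOf hΔ hi
    obtain ⟨b, -, hb⟩ := RD2.exists_pos_of_mem_posOf hΔ hj
    have hi0 := (RD2.mem_posOf_iff hΔ i).mp hi
    have hj0 := (RD2.mem_posOf_iff hΔ j).mp hj
    have ha' := DFunLike.congr_fun h1 a
    have hb' := DFunLike.congr_fun h1 b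
    rw [Finsupp.add_apply] at ha' hb'
    have hak : a = k := by
      by_contra hne
      rw [Finsupp.single_eq_of_ne hne] at ha'
      have := hj0 a; omega
    have hbk : b = k := by
      by_contra hne
      rw [Finsupp.single_eq_of_ne hne] at hb'
      have := hi0 b; omega
    subst hak
    subst hbk
    rw [Finsupp.single_eq_same] at ha'
    omega
  · intro h
    by_contra hkΔ
    obtain ⟨a, haΔ, -, -, j, hj, hsum⟩ := RD2.exists_simple_sub hΔ hk hkΔ
    exact h ⟨j, a, hj, RD2.subset_posOf haΔ, hsum⟩

end Groth.Agent.S5450
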