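import Groth.Statements.S5489
import Groth.Agent.Helper2.RootD1
open Set RootPairing Module
open Groth.Agent.Helper2
-- import your own Groth.Agent.* helpers here

set_option autoImplicit false
open RootD

namespace Groth.Agent.S5489

/-- If a root α, distinct from roots α_1, ..., α_n, is a non-negative rational combination of them, then
some α_l with non-zero coefficient has (α^v, α_l) > 0 and α - α_l a root. -/
theorem result {ι M N : Type*} [AddCommGroup M] [AddCommGroup N]
    (P : RootPairing ι ℤ M N) [Finite ι] {n : ℕ} (a : Fin n → ι) (m : Fin n → ℕ)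
    (k : ι) (hne : ∀ l, a l ≠ k) (c : ℕ) (hc : 0 < c) (hk : c • P.root k = ∑ l, m l • P.root (a l)) :
    ∃ l : Fin n, m l ≠ 0 ∧ 0 < P.pairing (a l) k ∧ P.root k - P.root (a l) ∈ Set.range P.root := by
  have h1 : (c : ℤ) * 2 = ∑ l, (m l : ℤ) * P.pairing (a l) k := by
    have := congrArg (P.coroot' k) hk
    rw [map_nsmul, map_sum] at this
    simp only [map_nsmul, root_coroot'_eq_pairing, pairing_same] at this
    simpa [nsmul_eq_mul] using this
  by_contra hcon
  push Not at hcon
  have h2 : ∀ l ∈ Finset.univ, (m l : ℤ) * P.pairing (a l) k ≤ 0 := by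
    intro l _
    by_cases hml : m l = 0
    · simp [hml]
    by_contra hpos
    push Not at hpos
    have hp : 0 < P.pairing (a l) k := by
      have : (0:ℤ) ≤ (m l : ℤ) := by positivity
      by_contra hh; push Not at hh
      nlinarith [mul_nonpos_of_nonneg_of_nonpos this hh]
    have hpos' : 0 < P.pairing k (a l) := (RD1.pairing_pos_iff P (a l) k).mp hp
    obtain ⟨j, hj⟩ := RD1.root_sub_mem P hpos' (Ne.symm (hne l))
    exact hcon l hml hp ⟨j, hj⟩
  have h3 := Finset.sum_nonpos h2
  have : (0 : ℤ) < (c : ℤ) * 2 := by positivity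
  omega

end Groth.Agent.S5489
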