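import Groth.Statements.S5451
import Groth.Agent.Helper2.RootD11
import Groth.Agent.S5489
open Set RootPairing Module
open scoped Pointwise
open Groth.Agent.Helper2
-- import your own Groth.Agent.* helpers here

set_option autoImplicit false
open RootD

namespace Groth.Agent.S5451

/-- If a root is a positive integer combination of roots α_i, then it can be reached from 0 by
successively adding roots taken among the α_i in such a way that every partial sum is a root. -/
theorem result {ι M N : Type*} [AddCommGroup M] [AddCommGroup N]
    (P : RootPairing ι ℤ M N) [Finite ι] {n : ℕ} (a : Fin n → ι) (m : Fin n → ℕ)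
    (hm : ∀ i, 0 < m i) (k : ι) (hk : P.root k = ∑ i, m i • P.root (a i)) :
    ∃ (l : ℕ) (b : Fin l → Fin n), 0 < l ∧
      (∀ p : Fin l, ∃ j : ι, P.root j = ∑ q ∈ Finset.univ.filter (fun q : Fin l => q.val ≤ p.val), P.root (a (b q))) ∧
      P.root k = ∑ q, P.root (a (b q)) := by
  classical
  clear hm
  suffices H : ∀ (N : ℕ) (m : Fin n → ℕ) (k : ι), ∑ i, m i = N → P.root k = ∑ i, m i • P.root (a i) →
      ∃ (l : ℕ) (b : Fin l → Fin n), 0 < l ∧
      (∀ p : Fin l, ∃ j : ι, P.root j = ∑ q ∈ Finset.univ.filter (fun q : Fin l => q.val ≤ p.val), P.root (a (b q))) ∧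
      P.root k = ∑ q, P.root (a (b q)) from H _ m k rfl hk
  intro N
  induction N with
  | zero =>
    intro m k hN hk
    exfalso
    have hm0 : ∀ i, m i = 0 := by
      intro i
      have := (Finset.sum_eq_zero_iff.mp hN) i (Finset.mem_univ i)
      exact this
    apply P.ne_zero k
    rw [hk]
    apply Finset.sum_eq_zero
    intro i _
    rw [hm0 i, zero_smul]
  | succ N ih =>
    intro m k hN hk
    by_cases hex : ∃ i, a i = k
    · obtain ⟨i, hi⟩ := hex
      refine ⟨1, fun _ => i, one_pos, ?_, ?_⟩
      · intro p
        refine ⟨k, ?_⟩
        have : Finset.univ.filter (fun q : Fin 1 => q.val ≤ p.val) = Finset.univ := by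
          ext q
          simp only [Finset.mem_filter, Finset.mem_univ, true_and, iff_true]
          have h1 := q.2; have h2 := p.2; omega
        rw [this]
        simp [hi]
      · simp [hi]
    · push Not at hex
      obtain ⟨l₀, hml₀, -, ⟨k', hk'⟩⟩ := Groth.Agent.S5489.result P a m k hex 1 one_pos (by rw [one_smul]; exact hk)
      set m' := Function.update m l₀ (m l₀ - 1) with hm'
      have hmm : ∀ i, m i = m' i + (if i = l₀ then 1 else 0) := by
        intro i
        by_cases hi : i = l₀
        · rw [hi, hm', Function.update_self, if_pos rfl]; omega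
        · rw [hm', Function.update_of_ne hi, if_neg hi, add_zero]
      have hsum_m : ∀ (g : Fin n → M), ∑ i, m i • g i = ∑ i, m' i • g i + g l₀ := by
        intro g
        have h1 : ∀ i ∈ Finset.univ, m i • g i = m' i • g i + (if i = l₀ then g i else 0) := by
          intro i _
          rw [hmm i, add_smul]
          congr 1
          split_ifs <;> simp
        rw [Finset.sum_congr rfl h1, Finset.sum_add_distrib, Finset.sum_ite_eq' Finset.univ l₀ g]
        simp
      have hN' : ∑ i, m' i = N := by
        have h1 : ∑ i, m i = ∑ i, m' i + 1 := by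
          rw [Finset.sum_congr rfl (fun i _ => hmm i), Finset.sum_add_distrib,
            Finset.sum_ite_eq' Finset.univ l₀ (fun _ => 1)]
          simp
        omega
      have hk'' : P.root k' = ∑ i, m' i • P.root (a i) := by
        rw [hk', hk, hsum_m]; abel
      obtain ⟨l', b', hl', hpart, htot⟩ := ih m' k' hN' hk''
      refine ⟨l' + 1, Fin.snoc b' l₀, Nat.succ_pos _, ?_, ?_⟩
      · intro p
        rw [Finset.sum_filter, Fin.sum_univ_castSucc]
        simp only [Fin.snoc_castSucc, Fin.snoc_last, Fin.val_castSucc, Fin.val_last]
        refine Fin.lastCases ?_ ?_ p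
        · refine ⟨k, ?_⟩
          simp only [Fin.val_last, le_refl, if_true]
          have : ∀ q : Fin l', (q.val ≤ l') := fun q => q.2.le
          simp only [this, if_true]
          rw [← htot, hk']; abel
        · intro p'
          obtain ⟨j, hj⟩ := hpart p'
          refine ⟨j, ?_⟩
          simp only [Fin.val_castSucc]
          have : ¬ (l' ≤ p'.val) := by have := p'.2; omega
          rw [if_neg this, add_zero, hj, Finset.sum_filter]
      · rw [Fin.sum_univ_castSucc]
        simp only [Fin.snoc_castSucc, Fin.snoc_last]
        rw [← htot, hk']; abel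

end Groth.Agent.S5451
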