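import Groth.Statements.S5455
import Groth.Agent.Helper2.RootD3
open Set RootPairing Module
open scoped Pointwise
open Groth.Agent.Helper2
-- import your own Groth.Agent.* helpers here

set_option autoImplicit false
open RootPairing
open scoped Pointwise
open RootD

namespace Groth.Agent.S5455

/-- The Weyl group acts transitively on the set of systems of simple roots (root-only sense). -/
theorem result {ι M N : Type*} [AddCommGroup M] [AddCommGroup N]
    (P : RootPairing ι ℤ M N) [Finite ι] (Δ Δ' : Set ι) (hΔ : RootD.IsSimpleSys P Δ)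
    (hΔ' : RootD.IsSimpleSys P Δ') :
    ∃ g : P.Aut, g ∈ P.weylGroup ∧ (fun i : ι => g • i) '' Δ = Δ' := by
  obtain ⟨g, hg, heq⟩ := RD3.exists_weyl_posOf_eq P (RD2.posOf_isPosSys hΔ') hΔ
  refine ⟨g, hg, ?_⟩
  rw [Set.image_smul]
  apply RD3.simpleSys_eq_of_posOf_eq P (RD3.simpleSys_smul P g hΔ) hΔ'
  rw [RD3.posOf_smul, heq]

end Groth.Agent.S5455
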