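import Groth.Statements.S5456
import Groth.Agent.Helper2.RootD1
open Set RootPairing Module
open Groth.Agent.Helper2
-- import your own Groth.Agent.* helpers here

set_option autoImplicit false
open RootD

namespace Groth.Agent.S5456

/-- A set of roots is a system of positive roots if and only if it satisfies (P 1), (P 2) and is closed. -/
theorem result {ι M N : Type*} [AddCommGroup M] [AddCommGroup N]
    (P : RootPairing ι ℤ M N) [Finite ι] (S : Set ι) :
    RootD.IsPosSys P S ↔ ((∀ i ∈ S, P.reflectionPerm i i ∉ S) ∧ (∀ i : ι, i ∈ S ∨ P.reflectionPerm i i ∈ S) ∧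
      RootD.IsClosedSub P S) := by
  constructor
  · intro h
    refine ⟨fun i hi => h.disjoint hi, h.cover, ?_⟩
    intro i j k hi hj hk
    apply h.sat 1 one_pos
    rw [one_smul, hk]
    exact add_mem (RD1.root_mem_natSpan P hi) (RD1.root_mem_natSpan P hj)
  · rintro ⟨h1, h2, hcl⟩
    refine ⟨fun i hi => h1 i hi, h2, ?_⟩
    intro k n hn hmem
    by_contra hk
    have hk' : P.reflectionPerm k k ∈ S := (h2 k).resolve_left hk
    obtain ⟨l, hl, hsum⟩ := (RD1.mem_natSpan_iff P).mp hmem
    have := RD1.sum_ne_zero_of_closed P hcl h1 (l + Multiset.replicate n (P.reflectionPerm k k)) ?_ ?_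
    · apply this
      rw [Multiset.map_add, Multiset.sum_add, hsum, Multiset.map_replicate, Multiset.sum_replicate,
        RD.root_neg]
      simp
    · intro a ha
      rcases Multiset.mem_add.mp ha with h | h
      · exact hl a h
      · rw [Multiset.eq_of_mem_replicate h]; exact hk'
    · intro h0
      have := congrArg Multiset.card h0
      simp at this
      omega

end Groth.Agent.S5456
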