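import Groth.Statements.S5457
import Mathlib
open Set
-- import your own Groth.Agent.* helpers here

set_option autoImplicit false
open RootD

namespace Groth.Agent.S5457

/-- Given a translation-invariant partial order (pulled back along an additive map to an ordered abelian
group) for which every root is > 0 or < 0, the roots > 0 form a system of positive roots. -/
theorem result {ι M N : Type*} [AddCommGroup M] [AddCommGroup N]
    (P : RootPairing ι ℤ M N) [Finite ι] {G : Type*} [AddCommGroup G] [PartialOrder G]
    [IsOrderedAddMonoid G] (φ : M →+ G) (hφ : ∀ i : ι, 0 < φ (P.root i) ∨ φ (P.root i) < 0) :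
    RootD.IsPosSys P {i : ι | 0 < φ (P.root i)} := by
  have hneg : ∀ i, P.root (P.reflectionPerm i i) = - P.root i := by
    intro i; rw [P.root_reflectionPerm, P.reflection_apply_self]
  refine ⟨?_, ?_, ?_⟩
  · intro i hi hi'
    simp only [Set.mem_ofPred_eq] at hi hi'
    rw [hneg, map_neg, neg_pos] at hi'
    exact lt_asymm hi hi'
  · intro i
    rcases hφ i with h | h
    · exact Or.inl h
    · right
      simp only [Set.mem_ofPred_eq]
      rw [hneg, map_neg, neg_pos]; exact h
  · intro k n hn hmem
    simp only [Set.mem_ofPred_eq]
    have hnonneg : ∀ x ∈ RootD.natSpan P {i : ι | 0 < φ (P.root i)}, 0 ≤ φ x := by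
      intro x hx
      refine AddSubmonoid.closure_induction ?_ ?_ ?_ hx
      · rintro _ ⟨i, hi, rfl⟩
        exact le_of_lt hi
      · simp
      · intro a b _ _ ha hb
        rw [map_add]; exact add_nonneg ha hb
    have h1 := hnonneg _ hmem
    rw [map_nsmul] at h1
    rcases hφ k with h | h
    · exact h
    · exfalso
      have : n • φ (P.root k) < 0 := by
        obtain ⟨m, rfl⟩ := Nat.exists_eq_succ_of_ne_zero hn.ne'
        rw [succ_nsmul]
        have : m • φ (P.root k) ≤ 0 := nsmul_nonpos h.le m
        exact add_neg_of_nonpos_of_neg this h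
      exact absurd (lt_of_le_of_lt h1 this) (lt_irrefl _)

end Groth.Agent.S5457
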