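import Groth.Statements.S5458
import Groth.Agent.Helper2.RootD9
open Set RootPairing Module
open scoped Pointwise
open Groth.Agent.Helper2
-- import your own Groth.Agent.* helpers here

set_option autoImplicit false
open RootD

namespace Groth.Agent.S5458

/-- Let S be a system of positive roots with simple system Δ ⊆ S and let P' ⊇ S be a closed set of
roots; with Δ' the set of simple roots whose opposite lies in P', the set P' is the union of S and
of the roots that are non-positive integer combinations of Δ'. -/
theorem result {ι M N : Type*} [AddCommGroup M] [AddCommGroup N]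
    (P : RootPairing ι ℤ M N) [Finite ι] (S : Set ι) (hS : RootD.IsPosSys P S) (Δ : Set ι)
    (hΔ : RootD.IsSimpleSys P Δ) (hΔS : Δ ⊆ S) (P' : Set ι) (hcl : RootD.IsClosedSub P P')
    (hSP : S ⊆ P') :
    P' = S ∪ {k : ι | -P.root k ∈ RootD.natSpan P {i : ι | i ∈ Δ ∧ P.reflectionPerm i i ∈ P'}} := by
  have hSeq : S = posOf P Δ := by
    symm
    apply RD2.posSys_eq_of_subset (RD2.posOf_isPosSys hΔ) hS
    intro k hk
    apply hS.sat 1 one_pos
    rw [one_smul]
    exact RD1.natSpan_mono P hΔS hk
  set Δ' : Set ι := {i : ι | i ∈ Δ ∧ P.reflectionPerm i i ∈ P'} with hΔ'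
  have hclaim : ∀ j ∈ posOf P Δ, P.reflectionPerm j j ∈ P' → P.root j ∈ natSpan P Δ' := by
    apply RD8.pos_induction_on hΔ (Q := fun j => P.reflectionPerm j j ∈ P' → P.root j ∈ natSpan P Δ')
    · intro a ha hna
      exact RD1.root_mem_natSpan P ⟨ha, hna⟩
    · intro k j a hk hj ha hsum ih hnk
      have hjP : j ∈ P' := hSP (hSeq ▸ hj)
      have haP : a ∈ P' := hSP (hΔS ha)
      have hna : P.reflectionPerm a a ∈ P' := by
        apply hcl hnk hjP
        rw [RD.root_neg, RD.root_neg, hsum]; abel
      have hnj : P.reflectionPerm j j ∈ P' := by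
        apply hcl hnk haP
        rw [RD.root_neg, RD.root_neg, hsum]; abel
      rw [hsum]
      exact add_mem (ih hnj) (RD1.root_mem_natSpan P ⟨ha, hna⟩)
  have hneg : ∀ x ∈ natSpan P Δ', -x ∈ natSpan P P' := by
    intro x hx
    refine AddSubmonoid.closure_induction ?_ ?_ ?_ hx
    · rintro _ ⟨i, hi, rfl⟩
      rw [← RD.root_neg]
      exact RD1.root_mem_natSpan P hi.2
    · rw [neg_zero]; exact zero_mem _
    · intro a b _ _ ha hb
      rw [neg_add]; exact add_mem ha hb
  ext k
  constructor
  · intro hk
    by_cases hkS : k ∈ S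
    · exact Or.inl hkS
    · right
      have hnk : P.reflectionPerm k k ∈ S := (hS.cover k).resolve_left hkS
      have h1 := hclaim _ (hSeq ▸ hnk) (by rw [RD1.reflectionPerm_self_self]; exact hk)
      rw [RD.root_neg] at h1
      exact h1
  · rintro (hk | hk)
    · exact hSP hk
    · apply RD1.mem_of_closed_of_mem_natSpan P hcl
      have := hneg _ hk
      rwa [neg_neg] at this

end Groth.Agent.S5458
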