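import Groth.Statements.S5459
import Groth.Agent.Helper2.RootD9
import Groth.Agent.S5458
open Set RootPairing Module
open scoped Pointwise
open Groth.Agent.Helper2
-- import your own Groth.Agent.* helpers here

set_option autoImplicit false
open RootD

namespace Groth.Agent.S5459

/-- A closed set of roots containing each root or its opposite is, for a suitable system of simple roots
Δ and a subset Δ' ⊆ Δ, the set of roots lying in ℕΔ ∪ (-ℕΔ'). -/
theorem result {ι M N : Type*} [AddCommGroup M] [AddCommGroup N]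
    (P : RootPairing ι ℤ M N) [Finite ι] (P' : Set ι)
    (hP2 : ∀ i : ι, i ∈ P' ∨ P.reflectionPerm i i ∈ P') (hcl : RootD.IsClosedSub P P') :
    ∃ Δ Δ' : Set ι, RootD.IsSimpleSys P Δ ∧ Δ' ⊆ Δ ∧
      P' = RootD.posOf P Δ ∪ {k : ι | -P.root k ∈ RootD.natSpan P Δ'} := by
  obtain ⟨Δ₀, hΔ₀⟩ := RD3.exists_simpleSys P
  obtain ⟨g, -, hsub⟩ := RD3.exists_weyl_subset P P' hP2 hcl _ Δ₀ hΔ₀ rfl
  have hΔ := RD3.simpleSys_smul P g hΔ₀
  rw [← RD3.posOf_smul] at hsub
  refine ⟨g • Δ₀, {i : ι | i ∈ g • Δ₀ ∧ P.reflectionPerm i i ∈ P'}, hΔ, fun i hi => hi.1, ?_⟩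
  exact Groth.Agent.S5458.result P (posOf P (g • Δ₀)) (RD2.posOf_isPosSys hΔ) (g • Δ₀) hΔ RD2.subset_posOf P' hcl hsub

end Groth.Agent.S5459
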