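import Groth.Statements.S5460
import Groth.Agent.Helper2.RootD24
import Groth.Agent.S5459
open Set RootPairing Module
open scoped Pointwise
open Groth.Agent.Helper2
-- import your own Groth.Agent.* helpers here

set_option autoImplicit false
open RootD

namespace Groth.Agent.S5460

/-- A set of roots R' is the trace on R of a vector subspace (every root with a positive multiple in the
span of R' lies in R') if and only if R' is the set of roots in the span of a subset Δ' of some
system of simple roots Δ. -/
theorem result {ι M N : Type*} [AddCommGroup M] [AddCommGroup N]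
    (P : RootPairing ι ℤ M N) [Finite ι] (R' : Set ι) :
    (∀ k : ι, (∃ n : ℕ, 0 < n ∧ n • P.root k ∈ Submodule.span ℤ (P.root '' R')) → k ∈ R') ↔
      ∃ Δ Δ' : Set ι, RootD.IsSimpleSys P Δ ∧ Δ' ⊆ Δ ∧ R' = RootD.inSpan P Δ' := by
  have hM := RD.torsionFreeM P
  have hnat_le : ∀ (S : Set ι) (x : M), x ∈ natSpan P S → x ∈ RD18.V P S := by
    intro S x hx
    induction hx using AddSubmonoid.closure_induction with
    | mem x hx => exact Submodule.subset_span hx
    | zero => exact zero_mem _
    | add x y _ _ hx hy => exact add_mem hx hy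
  constructor
  · intro hsat
    obtain ⟨y, hy⟩ := RD24.exists_coweight_exact P R' hsat
    have hnegy : ∀ i, P.root' (P.reflectionPerm i i) y = - P.root' i y := by
      intro i
      show P.toLinearMap (P.root (P.reflectionPerm i i)) y = - P.toLinearMap (P.root i) y
      rw [RD.root_neg, map_neg, LinearMap.neg_apply]
    have hP2 : ∀ i : ι, i ∈ {k | 0 ≤ P.root' k y} ∨ P.reflectionPerm i i ∈ {k | 0 ≤ P.root' k y} := by
      intro i
      have := hnegy i
      by_cases h : 0 ≤ P.root' i y
      · exact Or.inl h
      · right
        show 0 ≤ P.root' (P.reflectionPerm i i) y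
        omega
    have hcl : RootD.IsClosedSub P {k | 0 ≤ P.root' k y} := by
      intro i j k hi hj hk
      show 0 ≤ P.toLinearMap (P.root k) y
      rw [hk, map_add, LinearMap.add_apply]
      have a1 : 0 ≤ P.toLinearMap (P.root i) y := hi
      have a2 : 0 ≤ P.toLinearMap (P.root j) y := hj
      omega
    obtain ⟨Δ, Δ0, hΔ, hsub, hP'⟩ := Groth.Agent.S5459.result P {k | 0 ≤ P.root' k y} hP2 hcl
    · refine ⟨Δ, Δ0, hΔ, hsub, ?_⟩
      have hpos := RD2.posOf_isPosSys hΔ
      ext k
      constructor
      · intro hk
        have h0 := (hy k).mpr hk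
        have hkP : k ∈ {k | 0 ≤ P.root' k y} := by show 0 ≤ P.root' k y; omega
        have hnkP : P.reflectionPerm k k ∈ {k | 0 ≤ P.root' k y} := by
          show 0 ≤ P.root' (P.reflectionPerm k k) y
          rw [hnegy]; omega
        rw [hP'] at hkP hnkP
        show P.root k ∈ RD18.V P Δ0
        rcases hkP with h | h
        · rcases hnkP with h' | h'
          · exact absurd h' (hpos.disjoint h)
          · have h'' : -P.root (P.reflectionPerm k k) ∈ natSpan P Δ0 := h'
            rw [RD.root_neg, neg_neg] at h''
            exact hnat_le _ _ h''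
        · have h'' : -P.root k ∈ natSpan P Δ0 := h
          have := hnat_le _ _ h''
          rwa [neg_mem_iff] at this
      · intro hk
        have hk' : P.root k ∈ RD18.V P Δ0 := hk
        have hsupp := RD18.supp_subset_of_lc_mem_V hΔ hsub (RD2.coef hΔ k) (RD2.coef_supp hΔ k)
          (by rw [RD2.coef_lc]; exact hk')
        rw [← hy k]
        have hmonoΔ : natSpan P Δ0 ≤ natSpan P Δ := RD1.natSpan_mono P hsub
        rcases RD2.coef_sign hΔ k with h | h
        · have h1 : P.root k ∈ natSpan P Δ0 := by
            rw [← RD2.coef_lc hΔ k]; exact RD2.lc_mem_natSpan P _ hsupp h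
          have hkP : k ∈ {k | 0 ≤ P.root' k y} := by
            rw [hP']; left; exact hmonoΔ h1
          have hnkP : P.reflectionPerm k k ∈ {k | 0 ≤ P.root' k y} := by
            rw [hP']; right
            show -P.root (P.reflectionPerm k k) ∈ natSpan P Δ0
            rw [RD.root_neg, neg_neg]; exact h1
          have a1 : 0 ≤ P.root' k y := hkP
          have a2 : 0 ≤ P.root' (P.reflectionPerm k k) y := hnkP
          rw [hnegy] at a2
          omega
        · have h1 : -P.root k ∈ natSpan P Δ0 := by
            rw [← RD2.coef_lc hΔ k, ← map_neg]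
            apply RD2.lc_mem_natSpan P
            · intro a ha
              apply hsupp
              rw [Finset.mem_coe, Finsupp.mem_support_iff] at ha ⊢
              intro h0; apply ha; simp [h0]
            · intro a
              have := h a
              simp only [Finsupp.coe_neg, Pi.neg_apply]
              omega
          have hkP : k ∈ {k | 0 ≤ P.root' k y} := by
            rw [hP']; right; exact h1
          have hnkP : P.reflectionPerm k k ∈ {k | 0 ≤ P.root' k y} := by
            rw [hP']; left
            show P.root (P.reflectionPerm k k) ∈ natSpan P Δ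
            rw [RD.root_neg]; exact hmonoΔ h1
          have a1 : 0 ≤ P.root' k y := hkP
          have a2 : 0 ≤ P.root' (P.reflectionPerm k k) y := hnkP
          rw [hnegy] at a2
          omega
  · rintro ⟨Δ, Δ0, hΔ, hsub, rfl⟩
    rintro k ⟨n, hn, hmem⟩
    have hle : Submodule.span ℤ (P.root '' inSpan P Δ0) ≤ RD18.V P Δ0 := by
      rw [Submodule.span_le]
      rintro _ ⟨l, hl, rfl⟩
      exact hl
    have h1 := hle hmem
    have h2 : RD2.LC P ((n : ℤ) • RD2.coef hΔ k) ∈ RD18.V P Δ0 := by
      rw [map_smul, RD2.coef_lc, natCast_zsmul]; exact h1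
    have hsupp := RD18.supp_subset_of_lc_mem_V hΔ hsub ((n : ℤ) • RD2.coef hΔ k) ?_ h2
    · show P.root k ∈ RD18.V P Δ0
      rw [← RD2.coef_lc hΔ k]
      apply RD2.lc_mem_span
      intro a ha
      apply hsupp
      rw [Finset.mem_coe, Finsupp.mem_support_iff] at ha ⊢
      simp only [Finsupp.coe_smul, Pi.smul_apply, smul_eq_mul, ne_eq, mul_eq_zero, not_or]
      exact ⟨by omega, ha⟩
    · intro a ha
      exact RD2.coef_supp hΔ k (Finsupp.support_smul ha)

end Groth.Agent.S5460
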