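import Groth.Statements.S5461
import Groth.Agent.Helper2.RootD26
import Groth.Agent.S5457
import Groth.Agent.S5445
import Groth.Agent.S5449
import Groth.Agent.S5450
open Set RootPairing Module
open scoped Pointwise
open Groth.Agent.Helper2
-- import your own Groth.Agent.* helpers here

set_option autoImplicit false
open RootD

namespace Groth.Agent.S5461

/-- If R' is the trace of a vector subspace on the roots, every system of simple roots Δ' of the root
datum with roots R' is contained in a system of simple roots Δ of the whole datum, and R' is the set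
of roots in the span of Δ'. -/
theorem result {ι M N : Type*} [AddCommGroup M] [AddCommGroup N]
    (P : RootPairing ι ℤ M N) [Finite ι] (R' : Set ι)
    (hsat : ∀ k : ι, (∃ n : ℕ, 0 < n ∧ n • P.root k ∈ Submodule.span ℤ (P.root '' R')) → k ∈ R')
    (Δ' : Set ι) (hΔ'R : Δ' ⊆ R') (hli : LinearIndepOn ℤ P.root Δ')
    (hgen : ∀ k ∈ R', P.root k ∈ RootD.natSpan P Δ' ∨ -P.root k ∈ RootD.natSpan P Δ') :
    ∃ Δ : Set ι, RootD.IsSimpleSys P Δ ∧ Δ' ⊆ Δ ∧ R' = RootD.inSpan P Δ' := by
  classical
  have hM := RD.torsionFreeM P
  obtain ⟨y1, hy1⟩ := RD24.exists_coweight_exact P R' hsat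
  obtain ⟨y2, hy2⟩ := RD25.exists_coweight_pos P Δ' hli
  obtain ⟨T, hT, hlex⟩ := RD24.exists_lex P y1 y2
  set y := T • y1 + y2 with hy
  -- values on R'
  have hR'y : ∀ k ∈ R', P.root' k y = P.root' k y2 := by
    intro k hk
    rw [hy, map_add, map_smul, (hy1 k).mpr hk, smul_zero, zero_add]
  have hR'sign : ∀ k ∈ R', (P.root k ∈ natSpan P Δ' ∧ 0 < P.root' k y2) ∨
      (-P.root k ∈ natSpan P Δ' ∧ P.root' k y2 < 0) := by
    intro k hk
    rcases hgen k hk with h | h
    · left
      refine ⟨h, ?_⟩
      rcases RD26.pos_of_mem_natSpan P y2 Δ' hy2 h with h0 | h0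
      · exact absurd h0 (P.ne_zero k)
      · exact h0
    · right
      refine ⟨h, ?_⟩
      rcases RD26.pos_of_mem_natSpan P y2 Δ' hy2 h with h0 | h0
      · exact absurd (neg_eq_zero.mp h0) (P.ne_zero k)
      · rw [map_neg, LinearMap.neg_apply] at h0
        show P.toLinearMap (P.root k) y2 < 0
        omega
  have hne : ∀ k, 0 < P.root' k y ∨ P.root' k y < 0 := by
    intro k
    by_cases hk : k ∈ R'
    · rw [hR'y k hk]
      rcases hR'sign k hk with h | h
      · exact Or.inl h.2
      · exact Or.inr h.2
    · have h0 : P.root' k y1 ≠ 0 := fun h => hk ((hy1 k).mp h)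
      rcases lt_or_gt_of_ne h0 with h | h
      · exact Or.inr ((hlex k).2 h)
      · exact Or.inl ((hlex k).1 h)
  have hy1nonneg : ∀ k, 0 < P.root' k y → 0 ≤ P.root' k y1 := by
    intro k hk
    by_contra h
    push Not at h
    have := (hlex k).2 h
    omega
  set φ : M →+ ℤ := (P.toLinearMap.flip y).toAddMonoidHom with hφ
  have hS := Groth.Agent.S5457.result P φ hne
  set S : Set ι := {i : ι | 0 < φ (P.root i)} with hSdef
  obtain ⟨Δ, ⟨hΔ, hΔS⟩, -⟩ := Groth.Agent.S5445.result P S hS
  have hSeq : S = posOf P Δ := ((Groth.Agent.S5449.result P Δ hΔ S hS).2).mp hΔS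
  refine ⟨Δ, hΔ, ?_, ?_⟩
  · intro a ha
    have haR : a ∈ R' := hΔ'R ha
    have haS : a ∈ S := by
      show 0 < P.root' a y
      rw [hR'y a haR]; exact hy2 a ha
    have hapos : a ∈ posOf P Δ := hSeq ▸ haS
    rw [Groth.Agent.S5450.result P Δ hΔ a hapos]
    rintro ⟨i, j, hi, hj, hsum⟩
    rw [← hSeq] at hi hj
    have hi' : 0 < P.root' i y := hi
    have hj' : 0 < P.root' j y := hj
    have h1 := hy1nonneg i hi'
    have h2 := hy1nonneg j hj'
    have h3 : P.root' i y1 + P.root' j y1 = 0 := by
      have : P.root' a y1 = 0 := (hy1 a).mpr haR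
      have e : P.toLinearMap (P.root a) y1 = P.toLinearMap (P.root i) y1 + P.toLinearMap (P.root j) y1 := by
        rw [hsum, map_add, LinearMap.add_apply]
      have e' : P.root' a y1 = P.root' i y1 + P.root' j y1 := e
      omega
    have hiR : i ∈ R' := (hy1 i).mp (by omega)
    have hjR : j ∈ R' := (hy1 j).mp (by omega)
    rw [hR'y i hiR] at hi'
    rw [hR'y j hjR] at hj'
    have hin : P.root i ∈ natSpan P Δ' := by
      rcases hR'sign i hiR with h | h
      · exact h.1
      · omega
    have hjn : P.root j ∈ natSpan P Δ' := by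
      rcases hR'sign j hjR with h | h
      · exact h.1
      · omega
    obtain ⟨ci, hci, hci0, hcil⟩ := RD2.exists_lc_of_mem_natSpan P hin
    obtain ⟨cj, hcj, hcj0, hcjl⟩ := RD2.exists_lc_of_mem_natSpan P hjn
    have hsupp : ↑(ci + cj).support ⊆ Δ' := by
      intro b hb
      rcases Finset.mem_union.mp (Finsupp.support_add hb) with h | h
      · exact hci h
      · exact hcj h
    have hsingle : ↑(Finsupp.single a (1 : ℤ)).support ⊆ Δ' := by
      intro b hb
      have := Finsupp.support_single_subset hb
      simp only [Finset.mem_singleton] at this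
      rw [this]; exact ha
    have huniq := RD2.lc_unique P hli hsupp hsingle (by
      rw [map_add, hcil, hcjl, ← hsum, RD2.LC, Finsupp.linearCombination_single, one_smul])
    have hzero : ∀ c : ι →₀ ℤ, (∀ b, 0 ≤ c b) → c a = 0 → (∀ b, b ≠ a → c b = 0) → c = 0 := by
      intro c _ h1 h2
      ext b
      by_cases hb : b = a
      · rw [hb]; exact h1
      · exact h2 b hb
    have hoff : ∀ b, b ≠ a → ci b = 0 ∧ cj b = 0 := by
      intro b hb
      have := DFunLike.congr_fun huniq b
      rw [Finsupp.add_apply, Finsupp.single_apply, if_neg (Ne.symm hb)] at this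
      have := hci0 b; have := hcj0 b
      constructor <;> omega
    have hat := DFunLike.congr_fun huniq a
    rw [Finsupp.add_apply, Finsupp.single_eq_same] at hat
    have := hci0 a; have := hcj0 a
    have hcases : ci a = 0 ∨ cj a = 0 := by omega
    rcases hcases with h | h
    · have : ci = 0 := hzero ci hci0 h (fun b hb => (hoff b hb).1)
      rw [this, map_zero] at hcil
      exact P.ne_zero i hcil.symm
    · have : cj = 0 := hzero cj hcj0 h (fun b hb => (hoff b hb).2)
      rw [this, map_zero] at hcjl
      exact P.ne_zero j hcjl.symm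
  · ext k
    constructor
    · intro hk
      show P.root k ∈ RD18.V P Δ'
      have hnat_le : ∀ (x : M), x ∈ natSpan P Δ' → x ∈ RD18.V P Δ' := by
        intro x hx
        induction hx using AddSubmonoid.closure_induction with
        | mem x hx => exact Submodule.subset_span hx
        | zero => exact zero_mem _
        | add x y _ _ hx hy => exact add_mem hx hy
      rcases hgen k hk with h | h
      · exact hnat_le _ h
      · have := hnat_le _ h
        rwa [neg_mem_iff] at this
    · intro hk
      apply hsat
      refine ⟨1, one_pos, ?_⟩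
      rw [one_smul]
      have hk' : P.root k ∈ RD18.V P Δ' := hk
      exact Submodule.span_mono (Set.image_mono hΔ'R) hk'

end Groth.Agent.S5461
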