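import Groth.Statements.S5462
import Groth.Agent.Helper2.RootD2
open Set RootPairing Module
open Groth.Agent.Helper2
-- import your own Groth.Agent.* helpers here

set_option autoImplicit false
open RootPairing
open scoped Pointwise
open RootD

namespace Groth.Agent.S5462

/-- For Δ' contained in a system of simple roots Δ, the subgroup of the Weyl group generated by the
reflections in Δ' preserves the set of positive roots not lying in the span of Δ'. -/
theorem result {ι M N : Type*} [AddCommGroup M] [AddCommGroup N]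
    (P : RootPairing ι ℤ M N) [Finite ι] (Δ Δ' : Set ι) (hΔ : RootD.IsSimpleSys P Δ) (hsub : Δ' ⊆ Δ)
    (g : P.Aut) (hg : g ∈ Subgroup.closure ((fun i : ι => Equiv.reflection P i) '' Δ'))
    (k : ι) (hk : k ∈ RootD.posOf P Δ) (hk' : k ∉ RootD.inSpan P Δ') :
    g • k ∈ RootD.posOf P Δ ∧ g • k ∉ RootD.inSpan P Δ' := by
  have key : ∀ k : ι, (k ∈ RootD.posOf P Δ ∧ k ∉ RootD.inSpan P Δ') ↔
      (g • k ∈ RootD.posOf P Δ ∧ g • k ∉ RootD.inSpan P Δ') := by
    refine Subgroup.closure_induction (p := fun g _ => ∀ k : ι, (k ∈ RootD.posOf P Δ ∧ k ∉ RootD.inSpan P Δ') ↔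
      (g • k ∈ RootD.posOf P Δ ∧ g • k ∉ RootD.inSpan P Δ')) ?_ ?_ ?_ ?_ hg
    · rintro _ ⟨i, hi, rfl⟩
      have hfwd : ∀ k : ι, (k ∈ RootD.posOf P Δ ∧ k ∉ RootD.inSpan P Δ') →
          (P.reflectionPerm i k ∈ RootD.posOf P Δ ∧ P.reflectionPerm i k ∉ RootD.inSpan P Δ') := by
        rintro k ⟨h1, h2⟩
        obtain ⟨a, ha, hka⟩ := RD2.exists_notMem_of_notMem_inSpan hΔ h2
        have hai : a ≠ i := by rintro rfl; exact ha hi
        refine ⟨RD2.reflection_mem_posOf hΔ (hsub hi) h1 hai hka, ?_⟩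
        rw [RD2.reflection_mem_inSpan_iff hi]; exact h2
      intro k
      show _ ↔ (P.reflectionPerm i k ∈ _ ∧ P.reflectionPerm i k ∉ _)
      refine ⟨hfwd k, fun h => ?_⟩
      have := hfwd _ h
      rwa [P.reflectionPerm_self] at this
    · intro k; rw [one_smul]
    · intro x y _ _ hx hy k
      rw [mul_smul, ← hx, ← hy]
    · intro x _ hx k
      rw [hx (x⁻¹ • k), smul_inv_smul]
  exact (key k).mp ⟨hk, hk'⟩

end Groth.Agent.S5462
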