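import Groth.Statements.S5463
import Groth.Agent.Helper2.RootD18
open Set RootPairing Module
open scoped Pointwise
open Groth.Agent.Helper2
-- import your own Groth.Agent.* helpers here

set_option autoImplicit false
open RootPairing
open scoped Pointwise
open RootD

namespace Groth.Agent.S5463

/-- An element w of the Weyl group belongs to the subgroup generated by the reflections in Δ' ⊆ Δ (Δ a
system of simple roots) if and only if w(α) - α lies in the rational span of Δ' for every root α. -/
theorem result {ι M N : Type*} [AddCommGroup M] [AddCommGroup N]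
    (P : RootPairing ι ℤ M N) [Finite ι] (Δ Δ' : Set ι) (hΔ : RootD.IsSimpleSys P Δ)
    (hsub : Δ' ⊆ Δ) (g : P.Aut) (hg : g ∈ P.weylGroup) :
    g ∈ Subgroup.closure ((fun i : ι => Equiv.reflection P i) '' Δ') ↔
      ∀ k : ι, ∃ n : ℕ, 0 < n ∧ n • (P.root (g • k) - P.root k) ∈ Submodule.span ℤ (P.root '' Δ') := by
  constructor
  · intro h k
    refine ⟨1, one_pos, ?_⟩
    rw [one_smul, RD3.root_smul]
    exact RD18.sub_mem_V_of_mem_WΔ h _
  · -- induction on the number of positive roots made negative
    suffices H : ∀ (n : ℕ) (g : P.Aut), g ∈ P.weylGroup →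
        (∀ k : ι, ∃ m : ℕ, 0 < m ∧ m • (P.root (g • k) - P.root k) ∈ RD18.V P Δ') →
        {k | k ∈ posOf P Δ ∧ g • k ∉ posOf P Δ}.ncard = n → g ∈ RD4.WΔ P Δ' from
      fun h => H _ g hg h rfl
    intro n
    induction n using Nat.strong_induction_on with
    | _ n ih =>
    intro g hg hV hn
    by_cases hall : ∀ a ∈ Δ, g • a ∈ posOf P Δ
    · -- g preserves the positive system, hence g = 1
      have h1 : g • posOf P Δ ⊆ posOf P Δ := by
        rintro _ ⟨k, hk, rfl⟩
        show P.root (g • k) ∈ natSpan P Δ
        rw [RD3.root_smul]
        have h2 : g • P.root k ∈ natSpan P (g • Δ) := RD3.smul_mem_natSpan P g hk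
        refine (AddSubmonoid.closure_le.mpr ?_) h2
        rintro _ ⟨_, ⟨a, ha, rfl⟩, rfl⟩
        exact hall a ha
      have h2 : g • posOf P Δ = posOf P Δ :=
        RD2.posSys_eq_of_subset (RD3.posSys_smul P g (RD2.posOf_isPosSys hΔ)) (RD2.posOf_isPosSys hΔ) h1
      have h3 : g • Δ = Δ := by
        apply RD3.simpleSys_eq_of_posOf_eq P (RD3.simpleSys_smul P g hΔ) hΔ
        rw [RD3.posOf_smul, h2]
      rw [RD13b.eq_one_of_smul_eq hΔ hg h3]
      exact one_mem _
    · push Not at hall
      obtain ⟨α, hαΔ, hgα⟩ := hall
      -- α ∈ Δ'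
      obtain ⟨m, hm, hmV⟩ := hV α
      have hcoefneg : ∀ a, RD2.coef hΔ (g • α) a ≤ 0 := (RD2.notMem_posOf_iff hΔ _).mp hgα
      have hαΔ' : α ∈ Δ' := by
        classical
        set c : ι →₀ ℤ := (m : ℤ) • (RD2.coef hΔ (g • α) - Finsupp.single α 1) with hc
        have hcsupp : ↑c.support ⊆ Δ := by
          intro a ha
          have h1 := Finsupp.support_smul ha
          rcases Finset.mem_union.mp (Finsupp.support_sub h1) with h | h
          · exact RD2.coef_supp hΔ _ h
          · have := Finsupp.support_single_subset h
            simp only [Finset.mem_singleton] at this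
            rw [this]; exact hαΔ
        have hclc : RD2.LC P c = m • (P.root (g • α) - P.root α) := by
          rw [hc, map_smul, map_sub, RD2.coef_lc, natCast_zsmul]
          simp [RD2.LC]
        have h1 := RD18.supp_subset_of_lc_mem_V hΔ hsub c hcsupp (by rw [hclc]; exact hmV)
        apply h1
        rw [Finset.mem_coe, Finsupp.mem_support_iff, hc]
        simp only [Finsupp.coe_smul, Finsupp.coe_sub, Pi.smul_apply, Pi.sub_apply, Finsupp.single_eq_same,
          smul_eq_mul, ne_eq, mul_eq_zero, not_or]
        have := hcoefneg α
        constructor <;> omega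
      set s := Equiv.reflection P α with hs
      have hsmem : s ∈ RD4.WΔ P Δ' := RD4.simple_reflection_mem hαΔ'
      -- the new element
      have hV' : ∀ k : ι, ∃ m : ℕ, 0 < m ∧ m • (P.root ((g * s) • k) - P.root k) ∈ RD18.V P Δ' := by
        intro k
        obtain ⟨m1, hm1, h1⟩ := hV k
        have hrootα : P.root α ∈ RD18.V P Δ' := Submodule.subset_span ⟨α, hαΔ', rfl⟩
        refine ⟨m1 * m, Nat.mul_pos hm1 hm, ?_⟩
        have e : P.root ((g * s) • k) - P.root k =
            (P.root (g • k) - P.root k) - P.pairing k α • (P.root (g • α) - P.root α) - P.pairing k α • P.root α := by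
          rw [mul_smul, RD3.root_smul, RD3.root_smul, hs, Equiv.reflection_smul, P.reflection_apply_root, smul_sub,
            RD3.root_smul, RD3.root_smul, smul_comm g (P.pairing k α) (P.root α)]
          generalize g • P.root k = X; generalize g • P.root α = Y; module
        rw [e, smul_sub, smul_sub]
        refine sub_mem (sub_mem ?_ ?_) ?_
        · rw [mul_comm, mul_smul]; exact nsmul_mem h1 _
        · rw [mul_smul, smul_comm m (P.pairing k α)]
          exact nsmul_mem (Submodule.smul_mem _ _ hmV) _
        · exact nsmul_mem (Submodule.smul_mem _ _ hrootα) _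
      have hlt : {k | k ∈ posOf P Δ ∧ (g * s) • k ∉ posOf P Δ}.ncard < n := by
        rw [← hn]
        have hαN : α ∈ {k | k ∈ posOf P Δ ∧ g • k ∉ posOf P Δ} := ⟨RD2.subset_posOf hαΔ, hgα⟩
        refine lt_of_le_of_lt ?_ (Set.ncard_sdiff_singleton_lt_of_mem hαN (Set.toFinite _))
        apply Set.ncard_le_ncard_of_injOn (fun k => s • k)
        · rintro k ⟨hk1, hk2⟩
          by_cases h : ∀ a, a ≠ α → RD2.coef hΔ k a = 0
          · exfalso
            have h1 := RD2.root_eq_smul_of_forall hΔ h
            have hc0 : 0 ≤ RD2.coef hΔ k α := (RD2.mem_posOf_iff hΔ k).mp hk1 α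
            apply hk2
            show P.root ((g * s) • k) ∈ natSpan P Δ
            have e2 : P.root ((g * s) • k) =
                (RD2.coef hΔ k α).toNat • P.root (P.reflectionPerm (g • α) (g • α)) := by
              rw [mul_smul, RD3.root_smul, RD3.root_smul, hs, Equiv.reflection_smul, h1, map_smul,
                P.reflection_apply_self, RD.root_neg, RD3.root_smul, ← natCast_zsmul, Int.toNat_of_nonneg hc0,
                smul_comm g, smul_neg]
            rw [e2]
            have hneg : P.root (P.reflectionPerm (g • α) (g • α)) ∈ natSpan P Δ := by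
              rcases (RD2.posOf_isPosSys hΔ).cover (g • α) with h' | h'
              · exact absurd h' hgα
              · exact h'
            exact nsmul_mem hneg _
          · push Not at h
            obtain ⟨a, ha, hka⟩ := h
            have hpos : s • k ∈ posOf P Δ := RD2.reflection_mem_posOf hΔ hαΔ hk1 ha hka
            refine ⟨⟨hpos, ?_⟩, ?_⟩
            · rw [← mul_smul]; exact hk2
            · intro hsk
              have hsk' : s • k = α := hsk
              have : k = P.reflectionPerm α α := by
                have h2 : s • (s • k) = k := by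
                  rw [← mul_smul, hs, RD4.reflection_mul_self, one_smul]
                rw [← h2, hsk']; rfl
              rw [this] at hk1
              exact (RD2.posOf_isPosSys hΔ).disjoint (RD2.subset_posOf hαΔ) hk1
        · intro k1 _ k2 _ h12
          have := congrArg (fun k => s⁻¹ • k) h12
          simpa using this
      have hmem := ih _ hlt (g * s) (mul_mem hg (P.reflection_mem_weylGroup α)) hV' rfl
      have : g = (g * s) * s := by rw [mul_assoc, hs, RD4.reflection_mul_self, mul_one]
      rw [this]
      exact mul_mem hmem hsmem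

end Groth.Agent.S5463
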