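import Groth.Statements.S5464
import Groth.Agent.Helper2.RootD27
import Groth.Agent.S5457
import Groth.Agent.S5445
import Groth.Agent.S5449
import Groth.Agent.S5450
open Set RootPairing Module
open scoped Pointwise
open Groth.Agent.Helper2
-- import your own Groth.Agent.* helpers here

set_option autoImplicit false
open RootD

namespace Groth.Agent.S5464

/-- Given an indivisible root α and a root γ not proportional to it, there is a system of simple roots
containing α and a simple root β of it with γ = aα + bβ, a, b ∈ ℕ. -/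
theorem result {ι M N : Type*} [AddCommGroup M] [AddCommGroup N]
    (P : RootPairing ι ℤ M N) [Finite ι] (i k : ι) (hα : RootD.IsIndiv P i)
    (hli : LinearIndependent ℤ ![P.root i, P.root k]) :
    ∃ Δ : Set ι, RootD.IsSimpleSys P Δ ∧ i ∈ Δ ∧
      ∃ j ∈ Δ, ∃ a b : ℕ, P.root k = a • P.root i + b • P.root j := by
  classical
  have : Fintype ι := Fintype.ofFinite ι
  have hM := RD.torsionFreeM P
  have hli' := LinearIndependent.pair_iff.mp hli
  set R' := RD27.Wsat P i k with hR'
  have hiR : i ∈ R' := RD27.mem_Wsat_left P i k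
  have hkR : k ∈ R' := RD27.mem_Wsat_right P i k
  obtain ⟨y1, hy1⟩ := RD24.exists_coweight_exact P R' (RD27.Wsat_sat P i k)
  obtain ⟨y2, hy2i, hy2k⟩ := RD27.exists_coweight_pair P i k hli
  obtain ⟨T1, hT1, hlex1⟩ := RD24.exists_lex P y1 y2
  set y12 := T1 • y1 + y2 with hy12
  obtain ⟨T2, hT2, hlex2⟩ := RD24.exists_lex P y12 (P.coroot i)
  set y := T2 • y12 + P.coroot i with hy
  -- description of the elements of R'
  have hR'desc : ∀ l ∈ R', ∃ m : ℕ, 0 < m ∧ ∃ a b : ℤ, m • P.root l = a • P.root i + b • P.root k := by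
    rintro l ⟨m, hm, hmem⟩
    rw [Submodule.mem_span_pair] at hmem
    obtain ⟨a, b, hab⟩ := hmem
    exact ⟨m, hm, a, b, hab.symm⟩
  have hR'12 : ∀ l ∈ R', P.root' l y12 = P.root' l y2 := by
    intro l hl
    rw [hy12, map_add, map_smul, (hy1 l).mpr hl, smul_zero, zero_add]
  have hy3 : ∀ l, P.root' l (P.coroot i) = P.pairing l i := fun l => rfl
  have hyval : ∀ l, P.root' l y12 = 0 → P.root' l y = P.pairing l i := by
    intro l h0
    rw [hy, map_add, map_smul, h0, smul_zero, zero_add, hy3]
  -- the value of y2 in terms of the b-coefficient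
  have hy2desc : ∀ (l : ι) (m : ℕ) (a b : ℤ), m • P.root l = a • P.root i + b • P.root k →
      (m : ℤ) * P.root' l y2 = b * P.root' k y2 := by
    intro l m a b h
    have := congrArg (fun x => P.toLinearMap x y2) h
    simp only [map_add, map_smul, map_nsmul, LinearMap.add_apply, LinearMap.smul_apply, smul_eq_mul,
      nsmul_eq_mul] at this
    have e1 : P.toLinearMap (P.root i) y2 = 0 := hy2i
    rw [e1, mul_zero, zero_add] at this
    exact this
  have hpairdesc : ∀ (l : ι) (m : ℕ) (a : ℤ), m • P.root l = a • P.root i →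
      (m : ℤ) * P.pairing l i = 2 * a := by
    intro l m a h
    have := congrArg (fun x => P.toLinearMap x (P.coroot i)) h
    simp only [map_smul, map_nsmul, LinearMap.smul_apply, smul_eq_mul, nsmul_eq_mul] at this
    rw [P.root_coroot_two, P.root_coroot_eq_pairing] at this
    rw [this]; ring
  -- nonvanishing
  have hne : ∀ l, 0 < P.root' l y ∨ P.root' l y < 0 := by
    intro l
    by_cases h12 : P.root' l y12 = 0
    · rw [hyval l h12]
      have hlR : l ∈ R' := by
        by_contra hl
        have h0 : P.root' l y1 ≠ 0 := fun h => hl ((hy1 l).mp h)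
        rcases lt_or_gt_of_ne h0 with h | h
        · have := (hlex1 l).2 h; omega
        · have := (hlex1 l).1 h; omega
      obtain ⟨m, hm, a, b, hab⟩ := hR'desc l hlR
      have h2 := hy2desc l m a b hab
      rw [← hR'12 l hlR, h12, mul_zero] at h2
      have hb : b = 0 := by
        rcases mul_eq_zero.mp h2.symm with h | h
        · exact h
        · omega
      rw [hb, zero_smul, add_zero] at hab
      have h3 := hpairdesc l m a hab
      have ha : a ≠ 0 := by
        intro ha
        rw [ha, zero_smul] at hab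
        have := (smul_eq_zero_iff_right (by omega : m ≠ 0)).mp hab
        exact P.ne_zero l this
      have : P.pairing l i ≠ 0 := by
        intro h0
        rw [h0, mul_zero] at h3
        omega
      rcases lt_or_gt_of_ne this with h | h
      · exact Or.inr h
      · exact Or.inl h
    · rcases lt_or_gt_of_ne h12 with h | h
      · exact Or.inr ((hlex2 l).2 h)
      · exact Or.inl ((hlex2 l).1 h)
  have hy12nonneg : ∀ l, 0 < P.root' l y → 0 ≤ P.root' l y12 := by
    intro l hl
    by_contra h
    push Not at h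
    have := (hlex2 l).2 h
    omega
  have hy1nonneg : ∀ l, 0 < P.root' l y → 0 ≤ P.root' l y1 := by
    intro l hl
    by_contra h
    push Not at h
    have h1 := (hlex1 l).2 h
    have h2 := hy12nonneg l hl
    omega
  set φ : M →+ ℤ := (P.toLinearMap.flip y).toAddMonoidHom with hφ
  have hS := Groth.Agent.S5457.result P φ hne
  set S : Set ι := {i : ι | 0 < φ (P.root i)} with hSdef
  obtain ⟨Δ, ⟨hΔ, hΔS⟩, -⟩ := Groth.Agent.S5445.result P S hS
  have hSeq : S = posOf P Δ := ((Groth.Agent.S5449.result P Δ hΔ S hS).2).mp hΔS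
  have hi12 : P.root' i y12 = 0 := by rw [hR'12 i hiR]; exact hy2i
  have hiS : i ∈ S := by
    show 0 < P.root' i y
    rw [hyval i hi12, P.pairing_same]; norm_num
  have hkS : k ∈ S := by
    show 0 < P.root' k y
    apply (hlex2 k).1
    rw [hR'12 k hkR]; exact hy2k
  have hiΔ : i ∈ Δ := by
    have hipos : i ∈ posOf P Δ := hSeq ▸ hiS
    rw [Groth.Agent.S5450.result P Δ hΔ i hipos]
    rintro ⟨l1, l2, h1, h2, hsum⟩
    rw [← hSeq] at h1 h2
    have h1' : 0 < P.root' l1 y := h1
    have h2' : 0 < P.root' l2 y := h2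
    have hadd : ∀ z : N, P.root' i z = P.root' l1 z + P.root' l2 z := by
      intro z
      show P.toLinearMap (P.root i) z = P.toLinearMap (P.root l1) z + P.toLinearMap (P.root l2) z
      rw [hsum, map_add, LinearMap.add_apply]
    have a1 := hy1nonneg l1 h1'
    have a2 := hy1nonneg l2 h2'
    have a3 := hadd y1
    rw [(hy1 i).mpr hiR] at a3
    have hl1R : l1 ∈ R' := (hy1 l1).mp (by omega)
    have hl2R : l2 ∈ R' := (hy1 l2).mp (by omega)
    have b1 := hy12nonneg l1 h1'
    have b2 := hy12nonneg l2 h2'
    have b3 := hadd y12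
    rw [hi12] at b3
    have c1 : P.root' l1 y12 = 0 := by omega
    have c2 : P.root' l2 y12 = 0 := by omega
    rw [hyval l1 c1] at h1'
    rw [hyval l2 c2] at h2'
    have d3 := hadd (P.coroot i)
    rw [hy3, hy3, hy3, P.pairing_same] at d3
    have p1 : P.pairing l1 i = 1 := by omega
    obtain ⟨m, hm, a, b, hab⟩ := hR'desc l1 hl1R
    have e2 := hy2desc l1 m a b hab
    rw [← hR'12 l1 hl1R, c1, mul_zero] at e2
    have hb : b = 0 := by
      rcases mul_eq_zero.mp e2.symm with h | h
      · exact h
      · omega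
    rw [hb, zero_smul, add_zero] at hab
    have e3 := hpairdesc l1 m a hab
    rw [p1, mul_one] at e3
    have ha : a ≠ 0 := by omega
    apply hα l1
    have : a • ((2 : ℤ) • P.root l1 - P.root i) = 0 := by
      rw [smul_sub, ← hab, ← natCast_zsmul, e3]; module
    have := (smul_eq_zero_iff_right ha).mp this
    exact sub_eq_zero.mp this
  refine ⟨Δ, hΔ, hiΔ, ?_⟩
  -- coefficients of γ
  set c := RD2.coef hΔ k with hc
  have hcsupp : ↑c.support ⊆ Δ := RD2.coef_supp hΔ k
  have hclc : RD2.LC P c = P.root k := RD2.coef_lc hΔ k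
  have hc0 : ∀ a, 0 ≤ c a := (RD2.mem_posOf_iff hΔ k).mp (hSeq ▸ hkS)
  have hΔy1 : ∀ a ∈ Δ, 0 ≤ P.root' a y1 := fun a ha => hy1nonneg a (hΔS ha)
  have hsuppR : ∀ a, c a ≠ 0 → a ∈ R' := by
    intro a ha
    have h1 := RD27.lc_pairing P c y1
    rw [hclc] at h1
    have h2 : P.toLinearMap (P.root k) y1 = 0 := (hy1 k).mpr hkR
    rw [h2] at h1
    have h3 := (Finset.sum_eq_zero_iff_of_nonneg (fun b _ => ?_)).mp h1.symm a (Finset.mem_univ a)
    · rcases mul_eq_zero.mp h3 with h | h
      · exact absurd h ha
      · exact (hy1 a).mp h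
    · by_cases hb : b ∈ Δ
      · exact mul_nonneg (hc0 b) (hΔy1 b hb)
      · rw [RD2.coef_eq_zero_of_notMem hΔ k hb, zero_mul]
  -- two elements of (Δ ∩ R') \ {i} coincide
  have huniq : ∀ β δ : ι, β ∈ Δ → δ ∈ Δ → β ∈ R' → δ ∈ R' → β ≠ i → δ ≠ i → β = δ := by
    intro β δ hβ hδ hβR hδR hβi hδi
    by_contra hne'
    obtain ⟨m, hm, a, b, hab⟩ := hR'desc β hβR
    obtain ⟨m', hm', a', b', hab'⟩ := hR'desc δ hδR
    -- the relation b' m β - b m' δ - (b' a - b a') α = 0
    have hrel : RD2.LC P ((b' * m) • Finsupp.single β 1 - (b * m') • Finsupp.single δ 1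
        - (b' * a - b * a') • Finsupp.single i 1) = RD2.LC P 0 := by
      simp only [map_sub, map_smul, RD2.LC, Finsupp.linearCombination_single, one_smul, map_zero]
      have e1 : ((b' * m : ℤ)) • P.root β = b' • (m • P.root β) := by
        rw [mul_smul, natCast_zsmul]
      have e2 : ((b * m' : ℤ)) • P.root δ = b • (m' • P.root δ) := by
        rw [mul_smul, natCast_zsmul]
      rw [e1, e2, hab, hab']
      module
    have hsupp1 : ↑((b' * m) • Finsupp.single β 1 - (b * m') • Finsupp.single δ 1
        - (b' * a - b * a') • Finsupp.single i (1 : ℤ)).support ⊆ Δ := by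
      intro x hx
      rw [Finset.mem_coe, Finsupp.mem_support_iff] at hx
      by_contra hxΔ
      apply hx
      have h1 : x ≠ β := fun h => hxΔ (h ▸ hβ)
      have h2 : x ≠ δ := fun h => hxΔ (h ▸ hδ)
      have h3 : x ≠ i := fun h => hxΔ (h ▸ hiΔ)
      simp [Finsupp.single_apply, h1.symm, h2.symm, h3.symm]
    have h0 := RD2.lc_unique P hΔ.linInd hsupp1 (by simp) hrel
    have hβv := DFunLike.congr_fun h0 β
    have hδv := DFunLike.congr_fun h0 δ
    simp [Finsupp.single_apply, hne', Ne.symm hne', hβi, hδi, Ne.symm hβi, Ne.symm hδi] at hβv hδv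
    -- b' * m = 0 and b * m' = 0
    have hb' : b' = 0 := by
      rcases hβv with h | h
      · exact h
      · omega
    have hb : b = 0 := by
      rcases hδv with h | h
      · exact h
      · omega
    -- then m β = a α, contradiction
    rw [hb, zero_smul, add_zero] at hab
    have hrel2 : RD2.LC P ((m : ℤ) • Finsupp.single β 1 - a • Finsupp.single i 1) = RD2.LC P 0 := by
      simp only [map_sub, map_smul, RD2.LC, Finsupp.linearCombination_single, one_smul, map_zero]
      rw [natCast_zsmul, hab, sub_self]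
    have hsupp2 : ↑((m : ℤ) • Finsupp.single β 1 - a • Finsupp.single i (1 : ℤ)).support ⊆ Δ := by
      intro x hx
      rw [Finset.mem_coe, Finsupp.mem_support_iff] at hx
      by_contra hxΔ
      apply hx
      have h1 : x ≠ β := fun h => hxΔ (h ▸ hβ)
      have h3 : x ≠ i := fun h => hxΔ (h ▸ hiΔ)
      simp [Finsupp.single_apply, h1.symm, h3.symm]
    have h0' := RD2.lc_unique P hΔ.linInd hsupp2 (by simp) hrel2
    have := DFunLike.congr_fun h0' β
    simp [Finsupp.single_apply, hβi, Ne.symm hβi] at this
    omega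
  -- there is an element of the support other than i
  have hex : ∃ j, c j ≠ 0 ∧ j ≠ i := by
    by_contra hno
    push Not at hno
    have hcsingle : c = c i • Finsupp.single i 1 := by
      ext b
      by_cases hb : b = i
      · rw [hb]; simp
      · have : c b = 0 := by
          by_contra h
          exact hb (hno b h)
        rw [this]; simp [Finsupp.single_apply, Ne.symm hb]
    have : P.root k = c i • P.root i := by
      rw [← hclc, hcsingle]
      simp [RD2.LC]
    have := hli' (c i) (-1) (by rw [this]; module)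
    omega
  obtain ⟨j, hcj, hji⟩ := hex
  have hjΔ : j ∈ Δ := hcsupp (Finsupp.mem_support_iff.mpr hcj)
  refine ⟨j, hjΔ, (c i).toNat, (c j).toNat, ?_⟩
  have hcform : c = c i • Finsupp.single i 1 + c j • Finsupp.single j 1 := by
    ext b
    by_cases hb : b = i
    · rw [hb]; simp [Finsupp.single_apply, hji]
    · by_cases hbj : b = j
      · rw [hbj]; simp [Finsupp.single_apply, Ne.symm hji]
      · have : c b = 0 := by
          by_contra h
          have hbΔ : b ∈ Δ := hcsupp (Finsupp.mem_support_iff.mpr h)
          exact hbj (huniq b j hbΔ hjΔ (hsuppR b h) (hsuppR j hcj) hb hji)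
        rw [this]; simp [Finsupp.single_apply, Ne.symm hb, Ne.symm hbj]
  rw [← hclc]
  conv_lhs => rw [hcform]
  simp only [map_add, map_smul, RD2.LC, Finsupp.linearCombination_single, one_smul]
  rw [← natCast_zsmul (P.root i), ← natCast_zsmul (P.root j), Int.toNat_of_nonneg (hc0 i),
    Int.toNat_of_nonneg (hc0 j)]

end Groth.Agent.S5464
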