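import Groth.Statements.S5467
import Groth.Agent.Helper2.RootD2
open Set RootPairing Module
open Groth.Agent.Helper2
-- import your own Groth.Agent.* helpers here

set_option autoImplicit false
open RootD

namespace Groth.Agent.S5467

/-- For an indivisible positive non-simple root α there is a simple root β with (β^v, α) > 0 such that
s_β(α) is positive; its order relative to Δ is then smaller than that of α by (β^v, α). -/
theorem result {ι M N : Type*} [AddCommGroup M] [AddCommGroup N]
    (P : RootPairing ι ℤ M N) [Finite ι] (Δ : Set ι) (hΔ : RootD.IsSimpleSys P Δ)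
    (k : ι) (hk : k ∈ RootD.posOf P Δ) (hkΔ : k ∉ Δ) (hind : RootD.IsIndiv P k) :
    ∃ i ∈ Δ, 0 < P.pairing k i ∧ P.reflectionPerm i k ∈ RootD.posOf P Δ := by
  obtain ⟨a, haΔ, hca, hpa⟩ := RD2.exists_coef_pos_pairing_pos hΔ hk
  have hpa' : 0 < P.pairing k a := (RD1.pairing_pos_iff P a k).mp hpa
  refine ⟨a, haΔ, hpa', ?_⟩
  by_cases h : ∀ b, b ≠ a → RD2.coef hΔ k b = 0
  · exfalso
    have h1 := RD2.root_eq_smul_of_forall hΔ h
    set c := RD2.coef hΔ k a with hc
    -- 2 = c * pairing a k
    have h2 : (2 : ℤ) = c * P.pairing a k := by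
      have := congrArg (P.coroot' k) h1
      simpa [root_coroot'_eq_pairing] using this
    have hc2 : c = 1 ∨ c = 2 := by
      have hdvd : c ∣ 2 := ⟨_, h2⟩
      have hle : c ≤ 2 := Int.le_of_dvd (by norm_num) hdvd
      omega
    rcases hc2 with h3 | h3
    · rw [h3, one_smul] at h1
      exact hkΔ (P.root.injective h1 ▸ haΔ)
    · rw [h3] at h1
      exact hind a h1.symm
  · push Not at h
    obtain ⟨b, hb, hkb⟩ := h
    exact RD2.reflection_mem_posOf hΔ haΔ hk hb hkb

end Groth.Agent.S5467
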