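import Groth.Statements.S5468
import Groth.Agent.Helper2.RootD
open Set RootPairing Module
-- import your own Groth.Agent.* helpers here

set_option autoImplicit false
open RootD

namespace Groth.Agent.S5468

/-- Two roots whose reflections are distinct and commute are orthogonal. -/
theorem result {ι M N : Type*} [AddCommGroup M] [AddCommGroup N]
    (P : RootPairing ι ℤ M N) [Finite ι] (i j : ι)
    (hne : P.reflection i ≠ P.reflection j) (hc : Commute (P.reflection i) (P.reflection j)) :
    P.IsOrthogonal i j := by
  have hM := Groth.Agent.Helper2.RD.torsionFreeM P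
  set a := P.pairing j i with ha
  set b := P.pairing i j with hb
  have h1 : P.reflection i (P.reflection j (P.root j)) = P.reflection j (P.reflection i (P.root j)) := by
    have := congrArg (fun f => f (P.root j)) hc.eq
    simpa using this
  rw [P.reflection_apply_self, map_neg, P.reflection_apply_root, map_sub, map_smul, P.reflection_apply_self,
    P.reflection_apply_root] at h1
  have h2 : (2 * a) • P.root i = (a * b) • P.root j := by
    have : (2 * a) • P.root i - (a * b) • P.root j = 0 := by
      have h3 := sub_eq_zero.mpr h1
      rw [← h3, ← ha, ← hb]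
      module
    exact sub_eq_zero.mp this
  by_cases ha0 : a = 0
  · exact ⟨(P.pairing_eq_zero_iff' (i := j) (j := i)).mp ha0, ha0⟩
  · exfalso
    have h4 : (2 : ℤ) • P.root i = b • P.root j := by
      have : a • ((2 : ℤ) • P.root i) = a • (b • P.root j) := by
        rw [smul_smul, smul_smul, mul_comm a 2]; exact h2
      exact smul_right_injective M ha0 this
    have h5 : (4 : ℤ) = b * a := by
      have := congrArg (P.coroot' i) h4
      simp only [map_smul, root_coroot'_eq_pairing, pairing_same, smul_eq_mul] at this
      rw [← ha] at this
      linarith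
    have hb4 : b ∣ 4 := ⟨a, h5⟩
    have hb_cases : b = 1 ∨ b = 2 ∨ b = 4 ∨ b = -1 ∨ b = -2 ∨ b = -4 := by
      have hle : b ≤ 4 := Int.le_of_dvd (by norm_num) hb4
      have hge : -4 ≤ b := by
        have : -b ∣ 4 := (neg_dvd).mpr hb4
        have := Int.le_of_dvd (by norm_num) this
        linarith
      have hb0 : b ≠ 0 := by rintro h; rw [h] at h5; simp at h5
      interval_cases b
      all_goals omega
    apply hne
    rcases hb_cases with h | h | h | h | h | h
    · rw [h, one_smul] at h4
      exact (Groth.Agent.Helper2.RD.reflection_eq_of_root_eq_smul P j i 2 h4.symm).symm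
    · rw [h] at h4
      have := smul_right_injective M (two_ne_zero (α := ℤ)) h4
      exact Groth.Agent.Helper2.RD.reflection_eq_of_root_eq_smul P i j 1 (by rw [one_smul]; exact this)
    · rw [h, show (4 : ℤ) = 2 * 2 by norm_num, mul_smul] at h4
      have := smul_right_injective M (two_ne_zero (α := ℤ)) h4
      exact Groth.Agent.Helper2.RD.reflection_eq_of_root_eq_smul P i j 2 this
    · rw [h] at h4
      have h6 : P.root j = (-2 : ℤ) • P.root i := by
        rw [neg_smul, h4]; simp
      exact (Groth.Agent.Helper2.RD.reflection_eq_of_root_eq_smul P j i (-2) h6).symm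
    · rw [h, show (-2 : ℤ) = 2 * (-1) by norm_num, mul_smul] at h4
      have := smul_right_injective M (two_ne_zero (α := ℤ)) h4
      exact Groth.Agent.Helper2.RD.reflection_eq_of_root_eq_smul P i j (-1) this
    · rw [h, show (-4 : ℤ) = 2 * (-2) by norm_num, mul_smul] at h4
      have := smul_right_injective M (two_ne_zero (α := ℤ)) h4
      exact Groth.Agent.Helper2.RD.reflection_eq_of_root_eq_smul P i j (-2) this

end Groth.Agent.S5468
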