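import Groth.Statements.S5470
import Groth.Agent.Helper2.RootD14
open Set RootPairing Module
open scoped Pointwise
open Groth.Agent.Helper2
-- import your own Groth.Agent.* helpers here

set_option autoImplicit false
open RootPairing
open scoped Pointwise
open RootD

namespace Groth.Agent.S5470

/-- In an irreducible root datum the Weyl group acts transitively on the roots of any given length. -/
theorem result {ι M N : Type*} [AddCommGroup M] [AddCommGroup N]
    (P : RootPairing ι ℤ M N) [Finite ι] [Fintype ι] [Nonempty ι]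
    (hirr : ∀ R' : Set ι, RootD.IsClosedSub P R' → RootD.IsSymmSub P R' → RootD.IsClosedSub P R'ᶜ →
      RootD.IsSymmSub P R'ᶜ → R' = ∅ ∨ R' = Set.univ)
    (i j : ι) (hl : P.RootForm (P.root i) (P.root i) = P.RootForm (P.root j) (P.root j)) :
    ∃ g : P.Aut, g ∈ P.weylGroup ∧ g • i = j := by
  obtain ⟨g, hg, hp⟩ := RD14.exists_weyl_not_orthogonal P hirr i j
  have hlen : P.RootForm (P.root (g • i)) (P.root (g • i)) = P.RootForm (P.root i) (P.root i) := by
    rw [RD3.root_smul]
    exact InvariantForm.apply_weylGroup_smul P (B := P.toInvariantForm) ⟨g, hg⟩ (P.root i) (P.root i)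
  have hno : ¬ P.IsOrthogonal (g • i) j := by
    rw [RD1.not_isOrthogonal_iff]
    rwa [Ne, RD1.pairing_eq_zero_iff P (g • i) j]
  obtain ⟨g', hg', h⟩ := Groth.Agent.S5469.result P (g • i) j hno (by rw [hlen, hl])
  exact ⟨g' * g, mul_mem hg' hg, by rw [mul_smul, h]⟩

end Groth.Agent.S5470
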