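import Groth.Statements.S5471
import Groth.Agent.Helper2.RootD15
open Set RootPairing Module
open scoped Pointwise
open Groth.Agent.Helper2
-- import your own Groth.Agent.* helpers here

set_option autoImplicit false
open RootPairing
open scoped Pointwise
open RootD

namespace Groth.Agent.S5471

/-- In a reduced irreducible root datum the ratios of squared root lengths to the minimal one form one
of the sets {1}, {1, 2}, {1, 3}. -/
theorem result {ι M N : Type*} [AddCommGroup M] [AddCommGroup N]
    (P : RootPairing ι ℤ M N) [Finite ι] [Fintype ι] [Nonempty ι] [P.IsReduced]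
    (hirr : ∀ R' : Set ι, RootD.IsClosedSub P R' → RootD.IsSymmSub P R' → RootD.IsClosedSub P R'ᶜ →
      RootD.IsSymmSub P R'ᶜ → R' = ∅ ∨ R' = Set.univ)
    (i₀ : ι) (hmin : ∀ i : ι, P.RootForm (P.root i₀) (P.root i₀) ≤ P.RootForm (P.root i) (P.root i)) :
    (∀ i : ι, P.RootForm (P.root i) (P.root i) = P.RootForm (P.root i₀) (P.root i₀) ∨
        P.RootForm (P.root i) (P.root i) = 2 * P.RootForm (P.root i₀) (P.root i₀) ∨
        P.RootForm (P.root i) (P.root i) = 3 * P.RootForm (P.root i₀) (P.root i₀)) ∧
      ¬ ((∃ i : ι, P.RootForm (P.root i) (P.root i) = 2 * P.RootForm (P.root i₀) (P.root i₀)) ∧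
          ∃ j : ι, P.RootForm (P.root j) (P.root j) = 3 * P.RootForm (P.root i₀) (P.root i₀)) := by
  have : Module.IsReflexive ℤ M := .of_isPerfPair P.toLinearMap
  set ℓ₀ := P.RootForm (P.root i₀) (P.root i₀) with hℓ₀
  have hℓ₀pos : 0 < ℓ₀ := RD6.len_pos P i₀
  have hlenW : ∀ (g : P.Aut), g ∈ P.weylGroup → ∀ i, P.RootForm (P.root (g • i)) (P.root (g • i)) =
      P.RootForm (P.root i) (P.root i) := by
    intro g hg i
    rw [RD3.root_smul]
    exact InvariantForm.apply_weylGroup_smul P (B := P.toInvariantForm) ⟨g, hg⟩ (P.root i) (P.root i)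
  -- ratio for non-orthogonal roots in a reduced datum
  have hratio : ∀ i o : ι, P.pairing i o ≠ 0 → P.RootForm (P.root o) (P.root o) ≤ P.RootForm (P.root i) (P.root i) →
      P.RootForm (P.root i) (P.root i) = P.RootForm (P.root o) (P.root o) ∨
      P.RootForm (P.root i) (P.root i) = 2 * P.RootForm (P.root o) (P.root o) ∨
      P.RootForm (P.root i) (P.root i) = 3 * P.RootForm (P.root o) (P.root o) := by
    intro i o hp hle
    obtain ⟨c, hc, hlen⟩ := RD15.len_ratio P i o hp hle
    rcases hc with rfl | rfl | rfl | ⟨rfl, h4⟩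
    · left; rw [hlen, one_mul]
    · right; left; exact hlen
    · right; right; exact hlen
    · exfalso
      have hnli : ¬ LinearIndependent ℤ ![P.root i, P.root o] := by
        rw [P.linearIndependent_iff_coxeterWeightIn_ne_four ℤ, not_not, coxeterWeightIn, RD1.pairingIn_eq,
          RD1.pairingIn_eq]
        exact h4
      have ho := RD6.len_pos P o
      rcases IsReduced.eq_or_eq_neg i o hnli with h | h
      · rw [h] at hlen; omega
      · rw [h] at hlen
        simp only [map_neg, LinearMap.neg_apply, neg_neg] at hlen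
        omega
  refine ⟨?_, ?_⟩
  · intro i
    obtain ⟨g, hg, hp⟩ := RD14.exists_weyl_not_orthogonal P hirr i₀ i
    have := hratio i (g • i₀) hp (by rw [hlenW g hg]; exact hmin i)
    rw [hlenW g hg] at this
    exact this
  · rintro ⟨⟨i, hi⟩, ⟨j, hj⟩⟩
    obtain ⟨g, hg, hp⟩ := RD14.exists_weyl_not_orthogonal P hirr i j
    have := hratio j (g • i) hp (by rw [hlenW g hg, hi, hj]; omega)
    rw [hlenW g hg, hi, hj] at this
    omega

end Groth.Agent.S5471
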