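import Groth.Statements.S5472
import Groth.Agent.Helper2.RootD29
import Groth.Agent.Helper2.RootD13b
open Set RootPairing Module
open scoped Pointwise
open Groth.Agent.Helper2
-- import your own Groth.Agent.* helpers here

set_option autoImplicit false
open RootPairing
open scoped Pointwise
open RootD

namespace Groth.Agent.S5472

/-- Let Δ be a system of simple roots (root-only sense), γ a positive root and α, β simple roots with
(γ, α^v) > 0 and (γ, β^v) ≥ 0 (equivalently: the order of s_α(γ) along Δ is smaller than that of γ,
and the order of s_β(γ) is at most that of γ). Then for every w in the group generated by s_α and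
s_β the order of w(γ) along Δ is at most that of γ, and strictly smaller unless w ∈ {1, s_β}. The
order is the sum of the coefficients along Δ; the conclusion is stated for the coefficient vector c
of γ - w(γ) along Δ: its coefficient sum is ≥ 0, and > 0 unless w = 1 or w = s_β. -/
theorem result {ι M N : Type*} [AddCommGroup M] [AddCommGroup N]
    (P : RootPairing ι ℤ M N) [Finite ι] (Δ : Set ι) (hΔ : RootD.IsSimpleSys P Δ)
    (k i j : ι) (hk : k ∈ RootD.posOf P Δ) (hi : i ∈ Δ) (hj : j ∈ Δ)
    (hα : 0 < P.pairing k i) (hβ : 0 ≤ P.pairing k j)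
    (g : P.Aut) (hg : g ∈ Subgroup.closure {Equiv.reflection P i, Equiv.reflection P j})
    (c : ι →₀ ℤ) (hc : ↑c.support ⊆ Δ)
    (hck : Finsupp.linearCombination ℤ P.root c = P.root k - P.root (g • k)) :
    0 ≤ c.sum (fun _ a => a) ∧ (g ≠ 1 → g ≠ Equiv.reflection P j → 0 < c.sum (fun _ a => a)) := by
  classical
  set A : Set ι := {i, j} with hA
  have hAΔ : A ⊆ Δ := by
    intro a ha
    rcases ha with rfl | rfl
    · exact hi
    · exact hj
  have hgW : g ∈ RD4.WΔ P A := by
    rw [RD4.WΔ, hA, Set.image_pair]; exact hg
  -- a minimal word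
  have hex : ∃ n : ℕ, ∃ l : List ι, (∀ a ∈ l, a ∈ A) ∧ RD13.wprod P l = g ∧ l.length = n := by
    obtain ⟨l, h1, h2⟩ := RD13b.exists_word hgW
    exact ⟨l.length, l, h1, h2, rfl⟩
  obtain ⟨l, hl, hprod, hlen⟩ := Nat.find_spec hex
  have hmin : ∀ l' : List ι, (∀ a ∈ l', a ∈ A) → RD13.wprod P l' = RD13.wprod P l → l.length ≤ l'.length := by
    intro l' hl' hp
    rw [hlen]
    exact Nat.find_min' hex ⟨l', hl', hp.trans hprod, rfl⟩
  -- c in terms of heights
  have hcsum : c.sum (fun _ a => a) = RD4.ht hΔ k - RD4.ht hΔ (g • k) := by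
    rw [← RD4.htL_apply]
    have : c = RD2.coef hΔ k - RD2.coef hΔ (g • k) := by
      apply RD2.lc_unique P hΔ.linInd hc
      · intro a ha
        rcases Finset.mem_union.mp (Finsupp.support_sub ha) with h1 | h1
        · exact RD2.coef_supp hΔ _ h1
        · exact RD2.coef_supp hΔ _ h1
      · rw [map_sub, RD2.coef_lc, RD2.coef_lc]; exact hck
    rw [this, map_sub]; rfl
  -- the main induction over prefixes
  have key : ∀ (pre suf : List ι), l = pre ++ suf →
      0 ≤ RD4.ht hΔ k - RD4.ht hΔ (RD13.wprod P pre • k) ∧
        (i ∈ pre → 0 < RD4.ht hΔ k - RD4.ht hΔ (RD13.wprod P pre • k)) := by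
    intro pre
    induction pre using List.reverseRecOn with
    | nil =>
      intro suf _
      rw [RD13.wprod_nil, one_smul, sub_self]
      exact ⟨le_refl _, fun h => absurd h (by simp)⟩
    | append_singleton pre c ih =>
      intro suf hsplit
      have hsplit' : l = pre ++ c :: suf := by rw [hsplit]; simp
      obtain ⟨ih1, ih2⟩ := ih (c :: suf) hsplit'
      have hpos := RD29.pos_prefix hΔ hAΔ l hl hmin pre c suf hsplit'
      have hhtpos := RD4.ht_pos hΔ hpos
      have hcA : c ∈ A := hl c (by rw [hsplit']; simp)
      have hroot : P.root (RD13.wprod P (pre ++ [c]) • k) =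
          P.root (RD13.wprod P pre • k) - P.pairing k c • P.root (RD13.wprod P pre • c) := by
        rw [RD13.wprod_append, RD13.wprod_cons, RD13.wprod_nil, mul_one, mul_smul, RD3.root_smul, RD3.root_smul,
          RD3.root_smul, RD3.root_smul, Equiv.reflection_smul, P.reflection_apply_root, smul_sub, smul_comm]
      have hht := RD29.ht_of_root_eq_sub hΔ (P.pairing k c) hroot
      have hpc : 0 ≤ P.pairing k c ∧ (c = i → 0 < P.pairing k c) := by
        rcases hcA with rfl | rfl
        · exact ⟨hα.le, fun _ => hα⟩
        · exact ⟨hβ, fun h => h ▸ hα⟩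
      have hterm : 0 ≤ P.pairing k c * RD4.ht hΔ (RD13.wprod P pre • c) := mul_nonneg hpc.1 hhtpos.le
      constructor
      · rw [hht]; linarith
      · intro hmem
        rw [hht]
        rcases List.mem_append.mp hmem with h | h
        · have := ih2 h; linarith
        · have hci : c = i := by simpa using (List.mem_singleton.mp h).symm
          have : 0 < P.pairing k c * RD4.ht hΔ (RD13.wprod P pre • c) := mul_pos (hpc.2 hci) hhtpos
          linarith
  obtain ⟨k1, k2⟩ := key l [] (by simp)
  rw [hprod] at k1 k2
  rw [hcsum]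
  refine ⟨k1, fun hg1 hgj => k2 ?_⟩
  by_contra hil
  -- all letters are j
  have hallj : ∀ l' : List ι, (∀ a ∈ l', a = j) → RD13.wprod P l' = 1 ∨ RD13.wprod P l' = Equiv.reflection P j := by
    intro l'
    induction l' with
    | nil => intro _; left; exact RD13.wprod_nil
    | cons a t ih =>
      intro h
      have ha : a = j := h a List.mem_cons_self
      rw [RD13.wprod_cons, ha]
      rcases ih (fun b hb => h b (List.mem_cons_of_mem _ hb)) with h1 | h1
      · right; rw [h1, mul_one]
      · left; rw [h1]; exact RD4.reflection_mul_self P j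
  have := hallj l (by
    intro a ha
    rcases hl a ha with rfl | rfl
    · exact absurd ha hil
    · rfl)
  rw [hprod] at this
  rcases this with h | h
  · exact hg1 h
  · exact hgj h

end Groth.Agent.S5472
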