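import Groth.Statements.S5473
import Groth.Agent.Helper2.RootD6
open Set RootPairing Module
open scoped Pointwise
open Groth.Agent.Helper2
-- import your own Groth.Agent.* helpers here

set_option autoImplicit false
open RootD

namespace Groth.Agent.S5473

/-- If a linear map f and its transpose g induce bijections from the roots of R' onto the roots of R and
from the coroots of R onto the coroots of R' respectively (a morphism of root data in the
two-bijection sense), then the two bijections correspond: the coroot of α' is g applied to the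
coroot of f(α'). -/
theorem result {ι M N ι' M' N' : Type*} [AddCommGroup M] [AddCommGroup N] [AddCommGroup M'] [AddCommGroup N']
    (P : RootPairing ι ℤ M N) (P' : RootPairing ι' ℤ M' N') [Finite ι] [Finite ι']
    (f : M' →ₗ[ℤ] M) (g : N →ₗ[ℤ] N') (hfg : ∀ (m' : M') (n : N), P.toLinearMap (f m') n = P'.toLinearMap m' (g n))
    (e : ι' ≃ ι) (he : ∀ i' : ι', f (P'.root i') = P.root (e i'))
    (e' : ι ≃ ι') (he' : ∀ i : ι, g (P.coroot i) = P'.coroot (e' i)) :
    ∀ i' : ι', g (P.coroot (e i')) = P'.coroot i' := by
  have : Fintype ι' := Fintype.ofFinite ι'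
  set σ : ι' ≃ ι' := e.trans e' with hσ
  have hpair : ∀ i' : ι', P'.pairing i' (σ i') = 2 := by
    intro i'
    show P'.toLinearMap (P'.root i') (P'.coroot (e' (e i'))) = 2
    rw [← he', ← hfg, he]
    exact P.root_coroot_two (e i')
  have hB : ∀ i' : ι', P'.RootForm (P'.root i') (P'.root (σ i')) = P'.RootForm (P'.root (σ i')) (P'.root (σ i')) := by
    intro i'
    have := RD6.two_mul_rootForm P' i' (σ i')
    rw [hpair] at this
    linarith
  have hdiff : ∀ i' : ι', P'.RootForm (P'.root i' - P'.root (σ i')) (P'.root i' - P'.root (σ i')) =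
      P'.RootForm (P'.root i') (P'.root i') - P'.RootForm (P'.root (σ i')) (P'.root (σ i')) := by
    intro i'
    rw [RD6.rootForm_sub_self, hB]; ring
  have hsum : ∑ i' : ι', (P'.RootForm (P'.root i') (P'.root i') - P'.RootForm (P'.root (σ i')) (P'.root (σ i'))) = 0 := by
    rw [Finset.sum_sub_distrib, sub_eq_zero]
    exact (Equiv.sum_comp σ (fun i' => P'.RootForm (P'.root i') (P'.root i'))).symm
  have hzero := (Finset.sum_eq_zero_iff_of_nonneg (fun i' _ => by
    rw [← hdiff]; exact P'.zero_le_rootForm _)).mp hsum
  intro i'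
  have h0 := hzero i' (Finset.mem_univ _)
  rw [← hdiff] at h0
  have hmem : P'.root i' - P'.root (σ i') ∈ P'.rootSpan ℤ :=
    sub_mem (Submodule.subset_span ⟨i', rfl⟩) (Submodule.subset_span ⟨σ i', rfl⟩)
  have h1 := P'.eq_zero_of_mem_rootSpan_of_rootForm_self_eq_zero hmem h0
  have h2 : σ i' = i' := (P'.root.injective (sub_eq_zero.mp h1)).symm
  rw [he']
  show P'.coroot (σ i') = _
  rw [h2]

end Groth.Agent.S5473
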