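import Groth.Statements.S5474
import Groth.Agent.Helper2.RootD21
open Set RootPairing Module
open scoped Pointwise
open Groth.Agent.Helper2
-- import your own Groth.Agent.* helpers here

set_option autoImplicit false
open RootD

namespace Groth.Agent.S5474

/-- Every morphism between semisimple root data is an isogeny (injective on weight lattices with finite
cokernel). -/
theorem result {ι M N ι' M' N' : Type*} [AddCommGroup M] [AddCommGroup N] [AddCommGroup M'] [AddCommGroup N']
    (P : RootPairing ι ℤ M N) (P' : RootPairing ι' ℤ M' N') [Finite ι] [Finite ι']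
    [Module.Finite ℤ M] [Module.Finite ℤ N] [Module.Finite ℤ M'] [Module.Finite ℤ N']
    (hss : Module.finrank ℤ (Submodule.span ℤ (Set.range P.root)) = Module.finrank ℤ M)
    (hss' : Module.finrank ℤ (Submodule.span ℤ (Set.range P'.root)) = Module.finrank ℤ M')
    (f : RootPairing.Hom P' P) :
    Function.Injective f.weightMap ∧ Finite (M ⧸ LinearMap.range f.weightMap) := by
  have hM := RD.torsionFreeM P
  have hM' := RD.torsionFreeM P'
  constructor
  · rw [injective_iff_map_eq_zero]
    intro x hx
    have hfin : Finite (M' ⧸ RD5.Q P') := (Submodule.finiteQuotient_iff _).mpr hss'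
    have hmem : (RD5.Q P').toAddSubgroup.index • x ∈ (RD5.Q P').toAddSubgroup :=
      AddSubgroup.nsmul_index_mem _ x
    have hne : (RD5.Q P').toAddSubgroup.index ≠ 0 := by
      rw [AddSubgroup.index_ne_zero_iff_finite]
      exact hfin
    have h0 : (RD5.Q P').toAddSubgroup.index • x = 0 := by
      apply RD5.eq_zero_of_forall_coroot P' hmem
      intro i
      have h1 := RD21.hom_pairing P P' f ((RD5.Q P').toAddSubgroup.index • x) i
      rw [map_nsmul, hx, smul_zero, map_zero] at h1
      exact h1.symm
    exact (smul_eq_zero_iff_right hne).mp h0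
  · have hle : RD5.Q P ≤ LinearMap.range f.weightMap := by
      rw [Submodule.span_le]
      rintro _ ⟨i, rfl⟩
      refine ⟨P'.root (f.indexEquiv.symm i), ?_⟩
      rw [Hom.root_weightMap_apply, Equiv.apply_symm_apply]
    rw [Submodule.finiteQuotient_iff]
    have h1 := Submodule.finrank_mono hle
    have h2 := Submodule.finrank_le (LinearMap.range f.weightMap)
    have hss2 : Module.finrank ℤ (RD5.Q P) = Module.finrank ℤ M := hss
    omega

end Groth.Agent.S5474
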