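import Groth.Statements.S5475
import Groth.Agent.Helper2.RootD9
open Set RootPairing Module
open scoped Pointwise
open Groth.Agent.Helper2
-- import your own Groth.Agent.* helpers here

set_option autoImplicit false
open RootD

namespace Groth.Agent.S5475

/-- In an adjoint root datum every indivisible root is an indivisible element of the weight lattice. -/
theorem result {ι M N : Type*} [AddCommGroup M] [AddCommGroup N]
    (P : RootPairing ι ℤ M N) [Finite ι] (had : Submodule.span ℤ (Set.range P.root) = ⊤)
    (i : ι) (hind : RootD.IsIndiv P i) (m : M) (n : ℤ) (h : n • m = P.root i) : n = 1 ∨ n = -1 := by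
  obtain ⟨Δ, hΔ⟩ := RD3.exists_simpleSys P
  obtain ⟨g, -, a, ha, hga⟩ := RD4.exists_conj_simple hΔ hind
  have h1 : n • (g⁻¹ • m) = P.root a := by
    rw [← smul_comm, h, ← hga, RD3.root_smul, inv_smul_smul]
  have hmem : g⁻¹ • m ∈ RD5.Q P := by
    show g⁻¹ • m ∈ Submodule.span ℤ (Set.range P.root)
    rw [had]; trivial
  obtain ⟨c, hc, hlc⟩ := RD9.exists_lc_of_mem_Q hΔ hmem
  have h2 : n • c = RD2.coef hΔ a := by
    apply RD2.coef_unique hΔ
    · intro b hb
      exact hc (Finsupp.support_smul hb)
    · rw [map_smul, hlc, h1]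
  rw [RD2.coef_simple hΔ ha] at h2
  have h3 := DFunLike.congr_fun h2 a
  simp only [Finsupp.coe_smul, Pi.smul_apply, smul_eq_mul, Finsupp.single_eq_same] at h3
  exact Int.eq_one_or_neg_one_of_mul_eq_one h3

end Groth.Agent.S5475
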