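import Groth.Statements.S5478
import Groth.Agent.Helper2.RootD5
open Set RootPairing Module
open scoped Pointwise
open Groth.Agent.Helper2
-- import your own Groth.Agent.* helpers here

set_option autoImplicit false
open RootPairing
open scoped Pointwise
open RootD

namespace Groth.Agent.S5478

/-- The group of automorphisms of a root datum that act trivially on the radical is finite. -/
theorem result {ι M N : Type*} [AddCommGroup M] [AddCommGroup N]
    (P : RootPairing ι ℤ M N) [Finite ι] :
    Set.Finite {u : P.Aut | ∀ m : M, ∃ n : ℕ, 0 < n ∧ n • (u • m - m) ∈ Submodule.span ℤ (Set.range P.root)} := by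
  apply Set.Finite.of_finite_image (f := Equiv.indexHom P) (Set.toFinite _)
  intro u hu v hv huv
  simp only [mem_ofPred_eq] at hu hv
  have hw : v⁻¹ * u = 1 := by
    apply RD5.aut_eq_one P
    · intro m
      obtain ⟨n1, hn1, h1⟩ := hu m
      obtain ⟨n2, hn2, h2⟩ := hv m
      refine ⟨n1 * n2, Nat.mul_pos hn1 hn2, ?_⟩
      have : (v⁻¹ * u) • m - m = v⁻¹ • (u • m - m) - v⁻¹ • (v • m - m) := by
        rw [mul_smul, smul_sub, smul_sub, inv_smul_smul]; abel
      rw [this, smul_sub]
      apply sub_mem
      · have e1 : (n1 * n2) • v⁻¹ • (u • m - m) = n2 • (v⁻¹ • (n1 • (u • m - m))) := by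
          rw [mul_comm, mul_smul, smul_comm n1]
        rw [e1]
        exact nsmul_mem (RD5.smul_mem_Q P _ h1) n2
      · have e2 : (n1 * n2) • v⁻¹ • (v • m - m) = n1 • (v⁻¹ • (n2 • (v • m - m))) := by
          rw [mul_smul, smul_comm n2]
        rw [e2]
        exact nsmul_mem (RD5.smul_mem_Q P _ h2) n1
    · intro i
      have h1 : u • i = v • i := DFunLike.congr_fun huv i
      rw [mul_smul, h1, inv_smul_smul]
  have := mul_eq_one_iff_eq_inv'.mp hw
  rw [inv_mul_eq_one] at hw
  exact hw.symm

end Groth.Agent.S5478
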