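import Groth.Statements.S5479
import Groth.Agent.Helper2.RootD13b
open Set RootPairing Module
open scoped Pointwise
open Groth.Agent.Helper2
-- import your own Groth.Agent.* helpers here

set_option autoImplicit false
open RootPairing
open scoped Pointwise
open RootD

namespace Groth.Agent.S5479

/-- Aut(R) is the semidirect product of the Weyl group by the stabiliser E_Δ of a system of simple
roots: every automorphism is uniquely w · e with w ∈ W and e(Δ) = Δ. -/
theorem result {ι M N : Type*} [AddCommGroup M] [AddCommGroup N]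
    (P : RootPairing ι ℤ M N) [Finite ι] (Δ : Set ι) (hΔ : RootD.IsSimpleSys P Δ) (u : P.Aut) :
    ∃! w : P.weylGroup, (fun i : ι => ((w : P.Aut)⁻¹ * u) • i) '' Δ = Δ := by
  have hexist : ∃ g : P.Aut, g ∈ P.weylGroup ∧ g • posOf P Δ = posOf P (u • Δ) :=
    RD3.exists_weyl_posOf_eq P (RD2.posOf_isPosSys (RD3.simpleSys_smul P u hΔ)) hΔ
  obtain ⟨g, hg, hgeq⟩ := hexist
  have hgΔ : g • Δ = u • Δ := by
    apply RD3.simpleSys_eq_of_posOf_eq P (RD3.simpleSys_smul P g hΔ) (RD3.simpleSys_smul P u hΔ)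
    rw [RD3.posOf_smul, hgeq]
  refine ⟨⟨g, hg⟩, ?_, ?_⟩
  · show (fun i : ι => (g⁻¹ * u) • i) '' Δ = Δ
    rw [Set.image_smul, mul_smul, ← hgΔ, inv_smul_smul]
  · rintro ⟨w, hw⟩ hwΔ
    change (fun i : ι => (w⁻¹ * u) • i) '' Δ = Δ at hwΔ
    rw [Set.image_smul, mul_smul] at hwΔ
    have h1 : u • Δ = w • Δ := by
      have := congrArg (fun T : Set ι => w • T) hwΔ
      simpa only [smul_inv_smul] using this
    have h2 : (g⁻¹ * w) • Δ = Δ := by
      rw [mul_smul, ← h1, ← hgΔ, inv_smul_smul]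
    have h3 := RD13b.eq_one_of_smul_eq hΔ (mul_mem (inv_mem hg) hw) h2
    apply Subtype.ext
    show w = g
    have := inv_mul_eq_one.mp h3
    exact this.symm

end Groth.Agent.S5479
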