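import Groth.Statements.S5480
import Groth.Agent.Helper2.RootD19
import Groth.Agent.S5452
open Set RootPairing Module
open scoped Pointwise
open Groth.Agent.Helper2
-- import your own Groth.Agent.* helpers here

set_option autoImplicit false
open RootD

namespace Groth.Agent.S5480

/-- For a p-morphism of reduced root data with root bijection u and radicial exponents q: (a) for all
roots α, β one has q(s_α(β)) = q(β) and u(s_α(β)) = s_{u(α)}(u(β)); (b) the exponents are invariant
under the Weyl group, q(w(α)) = q(α); (c) there is an isomorphism ū from the Weyl group of the first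
datum to that of the second with ū(s_α) = s_{u(α)} and u(w(α)) = ū(w)(u(α)) for every Weyl group
element w and every root α. -/
theorem result {ι M N ι' M' N' : Type*} [AddCommGroup M] [AddCommGroup N] [AddCommGroup M'] [AddCommGroup N']
    (P : RootPairing ι ℤ M N) (P' : RootPairing ι' ℤ M' N') [Finite ι] [Finite ι'] [P.IsReduced] [P'.IsReduced]
    (p : ℕ) (hp : 0 < p) (f : M' →ₗ[ℤ] M) (g : N →ₗ[ℤ] N')
    (hfg : ∀ (m' : M') (n : N), P.toLinearMap (f m') n = P'.toLinearMap m' (g n))
    (u : ι ≃ ι') (q : ι → ℕ) (hq : ∀ i, ∃ e : ℕ, q i = p ^ e)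
    (hroot : ∀ i : ι, f (P'.root (u i)) = (q i : ℤ) • P.root i)
    (hcoroot : ∀ i : ι, g (P.coroot i) = (q i : ℤ) • P'.coroot (u i)) :
    (∀ i j : ι, q (P.reflectionPerm i j) = q j ∧ u (P.reflectionPerm i j) = P'.reflectionPerm (u i) (u j)) ∧
      (∀ w ∈ P.weylGroup, ∀ i : ι, q (w • i) = q i) ∧
      ∃ ubar : P.weylGroup ≃* P'.weylGroup,
        (∀ i : ι, ubar (RootPairing.weylGroup.ofIdx P i) = RootPairing.weylGroup.ofIdx P' (u i)) ∧
        ∀ (w : P.weylGroup) (i : ι), u ((w : P.Aut) • i) = ((ubar w : P'.weylGroup) : P'.Aut) • u i := by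
  have hq0 : ∀ i, 0 < q i := by
    intro i; obtain ⟨e, he⟩ := hq i; rw [he]; exact Nat.pow_pos hp
  have hrefl := RD19.pm_reflection P P' f g hfg u q hq0 hroot hcoroot
  refine ⟨hrefl, ?_, ?_⟩
  · intro w hw
    induction hw using weylGroup.induction with
    | mem j => intro i; rw [RD2.reflection_smul_idx]; exact (hrefl j i).1
    | one => intro i; rw [one_smul]
    | mul a b _ _ ha hb => intro i; rw [mul_smul, ha, hb]
  · have inj := Groth.Agent.S5452.result P
    have inj' := Groth.Agent.S5452.result P'
    set φ : Equiv.Perm ι ≃* Equiv.Perm ι' := u.permCongrHom with hφ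
    have hφrefl : ∀ i, φ (P.reflectionPerm i) = P'.reflectionPerm (u i) := by
      intro i
      ext j
      rw [hφ, Equiv.permCongrHom_coe, Equiv.permCongr_apply]
      rw [(hrefl i (u.symm j)).2, Equiv.apply_symm_apply]
    set ψ : P.weylGroup →* Equiv.Perm ι' := φ.toMonoidHom.comp P.weylGroupToPerm with hψ
    have hψinj : Function.Injective ψ := φ.injective.comp inj
    have hrange : ψ.range = P'.weylGroupToPerm.range := by
      rw [hψ, MonoidHom.range_comp, range_weylGroupToPerm, range_weylGroupToPerm, MonoidHom.map_closure]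
      congr 1
      ext σ
      constructor
      · rintro ⟨_, ⟨i, rfl⟩, rfl⟩
        exact ⟨u i, (hφrefl i).symm⟩
      · rintro ⟨i', rfl⟩
        obtain ⟨i, rfl⟩ := u.surjective i'
        exact ⟨_, ⟨i, rfl⟩, hφrefl i⟩
    set ubar : P.weylGroup ≃* P'.weylGroup :=
      (MonoidHom.ofInjective hψinj).trans ((MulEquiv.subgroupCongr hrange).trans (MonoidHom.ofInjective inj').symm)
      with hubar
    have key : ∀ w, P'.weylGroupToPerm (ubar w) = ψ w := by
      intro w
      have : (MonoidHom.ofInjective inj') (ubar w) = (MulEquiv.subgroupCongr hrange) (MonoidHom.ofInjective hψinj w) := by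
        rw [hubar]
        simp only [MulEquiv.trans_apply, MulEquiv.apply_symm_apply]
      have := congrArg Subtype.val this
      rw [MonoidHom.ofInjective_apply] at this
      exact this
    refine ⟨ubar, ?_, ?_⟩
    · intro i
      apply inj'
      rw [key]
      show φ (P.reflectionPerm i) = P'.reflectionPerm (u i)
      exact hφrefl i
    · intro w i
      have := congrArg (fun σ => σ (u i)) (key w)
      show u (P.weylGroupToPerm w i) = P'.weylGroupToPerm (ubar w) (u i)
      rw [this, hψ]
      simp [hφ, Equiv.permCongr_apply]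

end Groth.Agent.S5480
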