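import Groth.Statements.S5481
import Groth.Agent.Helper2.RootD19
import Groth.Agent.S5446
open Set RootPairing Module
open scoped Pointwise
open Groth.Agent.Helper2
-- import your own Groth.Agent.* helpers here

set_option autoImplicit false
open RootD

namespace Groth.Agent.S5481

/-- The root bijection u of a p-morphism of reduced root data carries systems of simple roots onto
systems of simple roots and systems of positive roots onto systems of positive roots, bijectively. -/
theorem result {ι M N ι' M' N' : Type*} [AddCommGroup M] [AddCommGroup N] [AddCommGroup M'] [AddCommGroup N']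
    (P : RootPairing ι ℤ M N) (P' : RootPairing ι' ℤ M' N') [Finite ι] [Finite ι'] [P.IsReduced] [P'.IsReduced]
    (p : ℕ) (hp : 0 < p) (f : M' →ₗ[ℤ] M) (g : N →ₗ[ℤ] N')
    (hfg : ∀ (m' : M') (n : N), P.toLinearMap (f m') n = P'.toLinearMap m' (g n))
    (u : ι ≃ ι') (q : ι → ℕ) (hq : ∀ i, ∃ e : ℕ, q i = p ^ e)
    (hroot : ∀ i : ι, f (P'.root (u i)) = (q i : ℤ) • P.root i)
    (hcoroot : ∀ i : ι, g (P.coroot i) = (q i : ℤ) • P'.coroot (u i)) (Δ : Set ι) :
    (RootD.IsSimpleSys P Δ ↔ RootD.IsSimpleSys P' (u '' Δ)) ∧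
      (RootD.IsPosSys P Δ ↔ RootD.IsPosSys P' (u '' Δ)) := by
  have hq0 : ∀ i, 0 < q i := by
    intro i; obtain ⟨e, he⟩ := hq i; rw [he]; exact Nat.pow_pos hp
  have hM := RD.torsionFreeM P
  have hM' := RD.torsionFreeM P'
  have hneg := RD19.pm_neg P P' f g hfg u q hq0 hroot hcoroot
  have hinj := fun {x : M'} => RD19.pm_inj P P' f g hfg u q hq0 hcoroot (x := x)
  have hmap := fun {S : Set ι} {x : M'} => RD19.pm_natSpan_map P P' f u q hroot (S := S) (x := x)
  have hlift := fun {S : Set ι} {x : M} => RD19.pm_natSpan_lift P P' f u q hroot (S := S) (x := x)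
  have : Fintype ι := Fintype.ofFinite ι
  set Q : ℕ := ∏ᶠ i, q i with hQ
  have hQpos : 0 < Q := by
    rw [hQ, finprod_eq_prod_of_fintype]
    exact Finset.prod_pos (fun i _ => hq0 i)
  have hdvd : ∀ i, q i ∣ Q := by
    intro i
    rw [hQ, finprod_eq_prod_of_fintype]
    exact Finset.dvd_prod_of_mem q (Finset.mem_univ i)
  -- key: lifting multiples of roots
  have hkey : ∀ (S : Set ι) (k : ι) (n : ℕ), 0 < n → n • P.root k ∈ natSpan P S →
      ∃ m : ℕ, 0 < m ∧ m • P'.root (u k) ∈ natSpan P' (u '' S) := by
    intro S k n hn hmem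
    obtain ⟨x', hx', hfx⟩ := hlift hmem
    obtain ⟨c, hc⟩ := hdvd k
    have hcpos : 0 < c := by
      rcases Nat.eq_zero_or_pos c with h | h
      · rw [h, mul_zero] at hc; omega
      · exact h
    refine ⟨n * c, Nat.mul_pos hn hcpos, ?_⟩
    have : x' = (n * c) • P'.root (u k) := by
      rw [← sub_eq_zero]
      apply hinj
      · exact sub_mem (RD19.natSpan_le_Q P' _ hx') (nsmul_mem (RD5.root_mem_Q P' _) _)
      · rw [map_sub, hfx, map_nsmul, hroot, sub_eq_zero, natCast_zsmul, smul_smul, smul_smul, hc]
        ring_nf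
    rw [← this]; exact hx'
  have hkey_neg : ∀ (S : Set ι) (k : ι) (n : ℕ), 0 < n → n • (-P.root k) ∈ natSpan P S →
      ∃ m : ℕ, 0 < m ∧ m • (-P'.root (u k)) ∈ natSpan P' (u '' S) := by
    intro S k n hn hmem
    rw [← RD.root_neg] at hmem
    obtain ⟨m, hm, h⟩ := hkey S _ n hn hmem
    rw [hneg, RD.root_neg] at h
    exact ⟨m, hm, h⟩
  have hkey' : ∀ (S : Set ι) (k : ι) (n : ℕ), 0 < n → n • P'.root (u k) ∈ natSpan P' (u '' S) →
      ∃ m : ℕ, 0 < m ∧ m • P.root k ∈ natSpan P S := by
    intro S k n hn hmem
    have := hmap hmem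
    rw [map_nsmul, hroot, natCast_zsmul, smul_smul] at this
    exact ⟨n * q k, Nat.mul_pos hn (hq0 k), this⟩
  have hkey'_neg : ∀ (S : Set ι) (k : ι) (n : ℕ), 0 < n → n • (-P'.root (u k)) ∈ natSpan P' (u '' S) →
      ∃ m : ℕ, 0 < m ∧ m • (-P.root k) ∈ natSpan P S := by
    intro S k n hn hmem
    rw [← RD.root_neg, ← hneg] at hmem
    obtain ⟨m, hm, h⟩ := hkey' S _ n hn hmem
    rw [RD.root_neg] at h
    exact ⟨m, hm, h⟩
  constructor
  · constructor
    · intro hΔ
      apply Groth.Agent.S5446.result P' (u '' Δ) (fun i _ => RD19.indiv P' i)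
      · -- linear independence
        rw [linearIndepOn_iff']
        intro t c ht hsum i' hi'
        have h1 := congrArg f hsum
        rw [map_zero, map_sum] at h1
        have hli := hΔ.linInd
        rw [linearIndepOn_iff'] at hli
        classical
        have h2 := hli (t.image u.symm) (fun i => c (u i) * q i) ?_ ?_ (u.symm i') (Finset.mem_image_of_mem _ hi')
        · simp only [Equiv.apply_symm_apply] at h2
          have := hq0 (u.symm i')
          rcases mul_eq_zero.mp h2 with h | h
          · exact h
          · omega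
        · intro i hi
          rw [Finset.mem_coe, Finset.mem_image] at hi
          obtain ⟨j, hj, rfl⟩ := hi
          obtain ⟨a, ha, rfl⟩ := ht hj
          rw [Equiv.symm_apply_apply]; exact ha
        · rw [Finset.sum_image (fun a _ b _ h => u.symm.injective h)]
          rw [← h1]
          apply Finset.sum_congr rfl
          intro j hj
          simp only [Equiv.apply_symm_apply]
          rw [map_smul]
          conv_rhs => rw [← u.apply_symm_apply j, hroot]
          rw [smul_smul, Equiv.apply_symm_apply]
      · intro k'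
        obtain ⟨k, rfl⟩ := u.surjective k'
        rcases hΔ.mem_or_neg_mem k with h | h
        · obtain ⟨m, hm, h'⟩ := hkey Δ k 1 one_pos (by rw [one_smul]; exact h)
          exact ⟨m, hm, Or.inl h'⟩
        · obtain ⟨m, hm, h'⟩ := hkey_neg Δ k 1 one_pos (by rw [one_smul]; exact h)
          exact ⟨m, hm, Or.inr h'⟩
    · intro hΔ
      apply Groth.Agent.S5446.result P Δ (fun i _ => RD19.indiv P i)
      · rw [linearIndepOn_iff']
        intro t c ht hsum i hi
        have hli := hΔ.linInd
        rw [linearIndepOn_iff'] at hli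
        classical
        -- the coefficients c i * (Q / q i)
        have h2 := hli (t.image u) (fun j => c (u.symm j) * (Q / q (u.symm j) : ℕ)) ?_ ?_ (u i) (Finset.mem_image_of_mem _ hi)
        · simp only [Equiv.symm_apply_apply] at h2
          have h3 : 0 < Q / q i := Nat.div_pos (Nat.le_of_dvd hQpos (hdvd i)) (hq0 i)
          rcases mul_eq_zero.mp h2 with h | h
          · exact h
          · omega
        · intro j hj
          rw [Finset.mem_coe, Finset.mem_image] at hj
          obtain ⟨a, ha, rfl⟩ := hj
          exact ⟨a, ht ha, rfl⟩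
        · rw [Finset.sum_image (fun a _ b _ h => u.injective h)]
          simp only [Equiv.symm_apply_apply]
          apply hinj
          · exact Submodule.sum_mem _ (fun a _ => Submodule.smul_mem _ _ (RD5.root_mem_Q P' _))
          · rw [map_sum]
            have : (Q : ℤ) • ∑ i ∈ t, c i • P.root i = 0 := by rw [hsum, smul_zero]
            rw [← this, Finset.smul_sum]
            apply Finset.sum_congr rfl
            intro a _
            rw [map_smul, hroot, smul_smul, smul_smul]
            congr 1
            obtain ⟨d, hd⟩ := hdvd a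
            rw [hd, Nat.mul_div_cancel_left _ (hq0 a)]
            push_cast; ring
      · intro k
        rcases hΔ.mem_or_neg_mem (u k) with h | h
        · obtain ⟨m, hm, h'⟩ := hkey' Δ k 1 one_pos (by rw [one_smul]; exact h)
          exact ⟨m, hm, Or.inl h'⟩
        · obtain ⟨m, hm, h'⟩ := hkey'_neg Δ k 1 one_pos (by rw [one_smul]; exact h)
          exact ⟨m, hm, Or.inr h'⟩
  · constructor
    · intro hS
      refine ⟨?_, ?_, ?_⟩
      · rintro _ ⟨i, hi, rfl⟩ ⟨j, hj, hji⟩
        rw [← hneg] at hji
        rw [u.injective hji] at hj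
        exact hS.disjoint hi hj
      · intro i'
        obtain ⟨i, rfl⟩ := u.surjective i'
        rcases hS.cover i with h | h
        · exact Or.inl ⟨i, h, rfl⟩
        · exact Or.inr ⟨_, h, hneg i⟩
      · intro k' n hn hmem
        obtain ⟨k, rfl⟩ := u.surjective k'
        obtain ⟨m, hm, h⟩ := hkey' Δ k n hn hmem
        exact ⟨k, hS.sat m hm h, rfl⟩
    · intro hS
      refine ⟨?_, ?_, ?_⟩
      · intro i hi hi'
        have h1 : u i ∈ u '' Δ := ⟨i, hi, rfl⟩
        have h2 : P'.reflectionPerm (u i) (u i) ∈ u '' Δ := ⟨_, hi', hneg i⟩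
        exact hS.disjoint h1 h2
      · intro i
        rcases hS.cover (u i) with h | h
        · obtain ⟨j, hj, hji⟩ := h
          rw [u.injective hji] at hj
          exact Or.inl hj
        · obtain ⟨j, hj, hji⟩ := h
          rw [← hneg] at hji
          rw [u.injective hji] at hj
          exact Or.inr hj
      · intro k n hn hmem
        obtain ⟨m, hm, h⟩ := hkey Δ k n hn hmem
        obtain ⟨j, hj, hjk⟩ := hS.sat m hm h
        rw [u.injective hjk] at hj
        exact hj

end Groth.Agent.S5481
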