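import Groth.Statements.S5482
import Groth.Agent.Helper2.RootD8
open Set RootPairing Module
open scoped Pointwise
open Groth.Agent.Helper2
-- import your own Groth.Agent.* helpers here

set_option autoImplicit false
open RootD

namespace Groth.Agent.S5482

/-- If the roots are partitioned into two closed symmetric subsets R', R'', then with Δ' = Δ ∩ R', Δ'' =
Δ ∩ R'' for a system of simple roots Δ one has R' = R_{Δ'}, R'' = R_{Δ''}, and Δ' is orthogonal to
Δ''. -/
theorem result {ι M N : Type*} [AddCommGroup M] [AddCommGroup N]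
    (P : RootPairing ι ℤ M N) [Finite ι] (Δ : Set ι) (hΔ : RootD.IsSimpleSys P Δ) (R' : Set ι)
    (hc : RootD.IsClosedSub P R') (hs : RootD.IsSymmSub P R') (hc' : RootD.IsClosedSub P R'ᶜ)
    (hs' : RootD.IsSymmSub P R'ᶜ) :
    R' = RootD.inSpan P (Δ ∩ R') ∧ R'ᶜ = RootD.inSpan P (Δ \ R') ∧
      ∀ i ∈ Δ ∩ R', ∀ j ∈ Δ \ R', P.IsOrthogonal i j := by
  -- all simple roots in the support of a root lie in the same part as the root
  have hpos : ∀ k ∈ posOf P Δ, ∀ a, RD2.coef hΔ k a ≠ 0 → (a ∈ R' ↔ k ∈ R') := by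
    apply RD8.pos_induction_on hΔ (Q := fun k => ∀ a, RD2.coef hΔ k a ≠ 0 → (a ∈ R' ↔ k ∈ R'))
    · intro a ha b hb
      rw [RD2.coef_simple hΔ ha] at hb
      have : b = a := by
        by_contra hne
        rw [Finsupp.single_eq_of_ne hne] at hb
        exact hb rfl
      rw [this]
    · intro k j a hk hj ha hsum ih b hb
      have hsp := RD1.same_part P R' hc hs hc' hs' j a k hsum
      rw [RD2.coef_add hΔ hsum, RD2.coef_simple hΔ ha, Finsupp.add_apply] at hb
      by_cases hba : b = a
      · rw [hba, ← hsp.1, hsp.2]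
      · rw [Finsupp.single_eq_of_ne hba, add_zero] at hb
        rw [ih b hb, hsp.2]
  have hneg_mem : ∀ k, P.reflectionPerm k k ∈ R' ↔ k ∈ R' := by
    intro k
    constructor
    · intro h
      have := hs h
      rwa [RD1.reflectionPerm_self_self] at this
    · exact fun h => hs h
  have hall : ∀ k, ∀ a, RD2.coef hΔ k a ≠ 0 → (a ∈ R' ↔ k ∈ R') := by
    intro k a ha
    rcases (RD2.posOf_isPosSys hΔ).cover k with h | h
    · exact hpos k h a ha
    · rw [← hneg_mem k]
      exact hpos _ h a ((RD8.supp_neg hΔ k a).mpr ha)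
  have hsuppΔ : ∀ k a, RD2.coef hΔ k a ≠ 0 → a ∈ Δ := fun k a ha =>
    RD2.coef_supp hΔ k (Finsupp.mem_support_iff.mpr ha)
  have hex : ∀ k, ∃ a, RD2.coef hΔ k a ≠ 0 := fun k => Finsupp.ne_iff.mp (RD2.coef_ne_zero hΔ k)
  refine ⟨?_, ?_, ?_⟩
  · ext k
    rw [RD8.mem_inSpan_iff hΔ Set.inter_subset_left]
    constructor
    · intro hk a ha
      exact ⟨hsuppΔ k a ha, (hall k a ha).mpr hk⟩
    · intro h
      obtain ⟨a, ha⟩ := hex k
      exact (hall k a ha).mp (h a ha).2
  · ext k
    rw [RD8.mem_inSpan_iff hΔ Set.sdiff_subset]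
    constructor
    · intro hk a ha
      exact ⟨hsuppΔ k a ha, fun haR => hk ((hall k a ha).mp haR)⟩
    · intro h hk
      obtain ⟨a, ha⟩ := hex k
      exact (h a ha).2 ((hall k a ha).mpr hk)
  · rintro i ⟨-, hi⟩ j ⟨-, hj⟩
    by_contra hno
    -- S5505
    rw [RD1.not_isOrthogonal_iff] at hno
    apply hj
    rcases lt_or_gt_of_ne hno with h | h
    · by_cases hne : P.root i = - P.root j
      · have : j = P.reflectionPerm i i := by
          apply P.root.injective
          rw [RD.root_neg, hne, neg_neg]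
        rw [this]; exact hs hi
      · obtain ⟨k, hk⟩ := RD1.root_add_mem P h hne
        exact (RD1.same_part P R' hc hs hc' hs' i j k hk).1.mp hi
    · by_cases hne : i = j
      · rw [← hne]; exact hi
      · obtain ⟨k, hk⟩ := RD1.root_sub_mem P h hne
        have hk' : P.root i = P.root k + P.root j := by rw [hk]; abel
        have := RD1.same_part P R' hc hs hc' hs' k j i hk'
        exact this.1.mp (this.2.mpr hi)

end Groth.Agent.S5482
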