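import Groth.Statements.S5483
import Groth.Agent.Helper2.RootD8
open Set RootPairing Module
open scoped Pointwise
open Groth.Agent.Helper2
-- import your own Groth.Agent.* helpers here

set_option autoImplicit false
open RootD

namespace Groth.Agent.S5483

/-- If a system of simple roots Δ is the disjoint union of two mutually orthogonal subsets Δ', Δ'', then
R_{Δ'} and R_{Δ''} partition the set of roots. -/
theorem result {ι M N : Type*} [AddCommGroup M] [AddCommGroup N]
    (P : RootPairing ι ℤ M N) [Finite ι] (Δ Δ' : Set ι) (hΔ : RootD.IsSimpleSys P Δ)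
    (hsub : Δ' ⊆ Δ) (horth : ∀ i ∈ Δ', ∀ j ∈ Δ \ Δ', P.IsOrthogonal i j) (k : ι) :
    (k ∈ RootD.inSpan P Δ' ∨ k ∈ RootD.inSpan P (Δ \ Δ')) ∧
      ¬ (k ∈ RootD.inSpan P Δ' ∧ k ∈ RootD.inSpan P (Δ \ Δ')) := by
  have hsuppΔ : ∀ k a, RD2.coef hΔ k a ≠ 0 → a ∈ Δ := fun k a ha =>
    RD2.coef_supp hΔ k (Finsupp.mem_support_iff.mpr ha)
  -- key step: if supp j ⊆ T and a ∈ Δ is orthogonal to T, a ∉ T, then j + a is not a root
  have key : ∀ (T : Set ι) (j a k : ι), j ∈ posOf P Δ → a ∈ Δ → a ∉ T →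
      (∀ b, RD2.coef hΔ j b ≠ 0 → b ∈ T) → (∀ b ∈ T, P.pairing b a = 0) →
      P.root k = P.root j + P.root a → False := by
    intro T j a k hj ha haT hsupp horthT hsum
    have hja : P.pairing j a = 0 := by
      rw [← RD2.sum_coef_mul_pairing hΔ j a]
      apply Finset.sum_eq_zero
      intro b hb
      show RD2.coef hΔ j b * P.pairing b a = 0
      rw [horthT b (hsupp b (Finsupp.mem_support_iff.mp hb)), mul_zero]
    have hka : P.pairing k a = 2 := by
      have := congrArg (P.coroot' a) hsum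
      simp only [map_add, root_coroot'_eq_pairing, pairing_same] at this
      rw [this, hja, zero_add]
    have hcoef : RD2.coef hΔ (P.reflectionPerm a k) = RD2.coef hΔ j - Finsupp.single a 1 := by
      rw [RD2.coef_reflection hΔ ha, hka, RD2.coef_add hΔ hsum, RD2.coef_simple hΔ ha]
      ext b
      simp only [Finsupp.coe_sub, Finsupp.coe_add, Pi.sub_apply, Pi.add_apply]
      by_cases hb : b = a
      · rw [hb, Finsupp.single_eq_same, Finsupp.single_eq_same]; ring
      · rw [Finsupp.single_eq_of_ne hb, Finsupp.single_eq_of_ne hb]; ring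
    have hja0 : RD2.coef hΔ j a = 0 := by
      by_contra h; exact haT (hsupp a h)
    obtain ⟨b, -, hb⟩ := RD2.exists_pos_of_mem_posOf hΔ hj
    have hba : b ≠ a := by rintro rfl; rw [hja0] at hb; exact lt_irrefl _ hb
    rcases RD2.coef_sign hΔ (P.reflectionPerm a k) with h | h
    · have := h a
      rw [hcoef, Finsupp.sub_apply, hja0, Finsupp.single_eq_same] at this
      omega
    · have := h b
      rw [hcoef, Finsupp.sub_apply, Finsupp.single_eq_of_ne hba] at this
      omega
  have hpos : ∀ k ∈ posOf P Δ, (∀ a, RD2.coef hΔ k a ≠ 0 → a ∈ Δ') ∨ (∀ a, RD2.coef hΔ k a ≠ 0 → a ∈ Δ \ Δ') := by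
    apply RD8.pos_induction_on hΔ (Q := fun k => (∀ a, RD2.coef hΔ k a ≠ 0 → a ∈ Δ') ∨ (∀ a, RD2.coef hΔ k a ≠ 0 → a ∈ Δ \ Δ'))
    · intro a ha
      have hs : ∀ b, RD2.coef hΔ a b ≠ 0 → b = a := by
        intro b hb
        rw [RD2.coef_simple hΔ ha] at hb
        by_contra hne
        rw [Finsupp.single_eq_of_ne hne] at hb
        exact hb rfl
      by_cases haΔ' : a ∈ Δ'
      · left; intro b hb; rw [hs b hb]; exact haΔ'
      · right; intro b hb; rw [hs b hb]; exact ⟨ha, haΔ'⟩
    · intro k j a hk hj ha hsum ih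
      have hcoef : ∀ b, RD2.coef hΔ k b ≠ 0 → RD2.coef hΔ j b ≠ 0 ∨ b = a := by
        intro b hb
        rw [RD2.coef_add hΔ hsum, RD2.coef_simple hΔ ha, Finsupp.add_apply] at hb
        by_cases hba : b = a
        · right; exact hba
        · left; rwa [Finsupp.single_eq_of_ne hba, add_zero] at hb
      rcases ih with ih | ih
      · by_cases haΔ' : a ∈ Δ'
        · left
          intro b hb
          rcases hcoef b hb with h | h
          · exact ih b h
          · rw [h]; exact haΔ'
        · exfalso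
          exact key Δ' j a k hj ha haΔ' ih (fun b hb => (horth b hb a ⟨ha, haΔ'⟩).1) hsum
      · by_cases haΔ' : a ∈ Δ'
        · exfalso
          exact key (Δ \ Δ') j a k hj ha (fun h => h.2 haΔ') ih (fun b hb => (horth a haΔ' b hb).2) hsum
        · right
          intro b hb
          rcases hcoef b hb with h | h
          · exact ih b h
          · rw [h]; exact ⟨ha, haΔ'⟩
  have hall : ∀ k, (∀ a, RD2.coef hΔ k a ≠ 0 → a ∈ Δ') ∨ (∀ a, RD2.coef hΔ k a ≠ 0 → a ∈ Δ \ Δ') := by
    intro k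
    rcases (RD2.posOf_isPosSys hΔ).cover k with h | h
    · exact hpos k h
    · rcases hpos _ h with h' | h'
      · left; intro a ha; exact h' a ((RD8.supp_neg hΔ k a).mpr ha)
      · right; intro a ha; exact h' a ((RD8.supp_neg hΔ k a).mpr ha)
  rw [RD8.mem_inSpan_iff hΔ hsub, RD8.mem_inSpan_iff hΔ Set.sdiff_subset]
  refine ⟨hall k, ?_⟩
  rintro ⟨h1, h2⟩
  obtain ⟨a, ha⟩ := Finsupp.ne_iff.mp (RD2.coef_ne_zero hΔ k)
  exact (h2 a ha).2 (h1 a ha)

end Groth.Agent.S5483
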