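import Groth.Statements.S5484
import Groth.Agent.Helper2.RootD7
open Set RootPairing Module
open scoped Pointwise
open Groth.Agent.Helper2
-- import your own Groth.Agent.* helpers here

set_option autoImplicit false
open RootD

namespace Groth.Agent.S5484

open Classical in
/-- Every principal minor of the Cartan matrix (a_{α,β} = (α^v, β), α, β simple) is strictly positive. -/
theorem result {ι M N : Type*} [AddCommGroup M] [AddCommGroup N]
    (P : RootPairing ι ℤ M N) [Finite ι] (Δ : Finset ι) (hΔ : RootD.IsSimpleSys P (↑Δ : Set ι))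
    (Δ' : Finset ι) (hsub : Δ' ⊆ Δ) :
    0 < Matrix.det (Matrix.of fun (a b : ↥Δ') => P.pairing (b : ι) (a : ι)) := by
  classical
  have : Fintype ι := Fintype.ofFinite ι
  have hli : LinearIndepOn ℤ P.root (↑Δ' : Set ι) := hΔ.linInd.mono (by exact_mod_cast hsub)
  set G : Matrix ↥Δ' ↥Δ' ℤ := Matrix.of fun a b => P.RootForm (P.root a) (P.root b) with hG
  set C : Matrix ι ↥Δ' ℤ := Matrix.of fun k a => P.pairing a k with hC
  have hGC : G = C.transpose * C := by
    ext a b
    simp only [hG, hC, Matrix.of_apply, Matrix.mul_apply, Matrix.transpose_apply]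
    rw [P.rootForm_apply_apply]
    simp only [root_coroot'_eq_pairing]
  -- det G ≥ 0
  have hdet_nonneg : 0 ≤ G.det := by
    have h1 : (G.map (Int.cast : ℤ → ℝ)) = (C.map (Int.cast : ℤ → ℝ)).conjTranspose * (C.map (Int.cast : ℤ → ℝ)) := by
      rw [hGC, Matrix.conjTranspose_eq_transpose_of_trivial]
      ext a b
      simp [Matrix.mul_apply, Matrix.map_apply]
    have h2 : (G.map (Int.cast : ℤ → ℝ)).PosSemidef := by
      rw [h1]; exact Matrix.posSemidef_conjTranspose_mul_self _
    have h3 := h2.det_nonneg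
    have h4 : (G.map (Int.cast : ℤ → ℝ)).det = ((G.det : ℤ) : ℝ) := by
      have := (Int.castRingHom ℝ).map_det G
      simp only [RingHom.mapMatrix_apply, Int.coe_castRingHom] at this
      rw [this]
    rw [h4] at h3
    exact_mod_cast h3
  have hdet_ne : G.det ≠ 0 := by
    intro h0
    obtain ⟨v, hv, hGv⟩ := Matrix.exists_mulVec_eq_zero_iff.mpr h0
    have h1 := RD7.gram_pos P Δ' hli v hv
    have h2 : ∑ a : ↥Δ', ∑ b : ↥Δ', v a * v b * P.RootForm (P.root a) (P.root b) = v ⬝ᵥ G.mulVec v := by
      simp only [dotProduct, Matrix.mulVec, hG, Matrix.of_apply, Finset.mul_sum]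
      apply Finset.sum_congr rfl
      intro a _
      apply Finset.sum_congr rfl
      intro b _
      ring
    rw [h2, hGv] at h1
    simp at h1
  have hdet_pos : 0 < G.det := lt_of_le_of_ne hdet_nonneg (Ne.symm hdet_ne)
  have hentry : ∀ a b : ι, P.RootForm (P.root a) (P.root a) * P.pairing b a = 2 * P.RootForm (P.root a) (P.root b) := by
    intro a b
    have h1 := RD6.two_mul_rootForm P b a
    have h2 := P.rootForm_symmetric.eq (P.root a) (P.root b)
    simp only [RingHom.id_apply] at h2
    rw [h2]; linarith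
  set A : Matrix ↥Δ' ↥Δ' ℤ := Matrix.of fun (a b : ↥Δ') => P.pairing (b : ι) (a : ι) with hA
  have hrel : (Matrix.of fun (a b : ↥Δ') => P.RootForm (P.root a) (P.root a) * A a b) = (2 : ℤ) • G := by
    ext a b
    simp only [hA, hG, Matrix.of_apply, Matrix.smul_apply, smul_eq_mul]
    exact hentry a b
  have hdet : (∏ a : ↥Δ', P.RootForm (P.root a) (P.root a)) * A.det = 2 ^ (Fintype.card ↥Δ') * G.det := by
    rw [← Matrix.det_mul_column, hrel, Matrix.det_smul]
  have hprod : 0 < ∏ a : ↥Δ', P.RootForm (P.root a) (P.root a) :=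
    Finset.prod_pos (fun a _ => RD6.len_pos P a)
  have hpos : 0 < (∏ a : ↥Δ', P.RootForm (P.root a) (P.root a)) * A.det := by
    rw [hdet]; positivity
  exact (pos_iff_pos_of_mul_pos hpos).mp hprod

end Groth.Agent.S5484
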