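import Groth.Statements.S5485
import Groth.Agent.Helper2.RootD23
import Groth.Agent.S5446
open Set RootPairing Module
open scoped Pointwise
open Groth.Agent.Helper2
-- import your own Groth.Agent.* helpers here

set_option autoImplicit false
open RootD

namespace Groth.Agent.S5485

/-- If Δ is a system of simple roots then ind(Δ^v), the set of coroots of Δ with each divisible coroot
replaced by its half, is a system of simple coroots (a system of simple roots of the dual datum). -/
theorem result {ι M N : Type*} [AddCommGroup M] [AddCommGroup N]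
    (P : RootPairing ι ℤ M N) [Finite ι] (Δ : Set ι) (hΔ : RootD.IsSimpleSys P Δ) :
    RootD.IsSimpleSys P.flip {j : ι | ∃ i ∈ Δ, (j = i ∧ RootD.IsIndiv P.flip i) ∨ (2 : ℤ) • P.coroot j = P.coroot i} := by
  classical
  have : Fintype ι := Fintype.ofFinite ι
  have hM := RD.torsionFreeM P
  have hN := RD.torsionFreeN P
  set Δ' : Set ι := {j : ι | ∃ i ∈ Δ, (j = i ∧ RootD.IsIndiv P.flip i) ∨ (2 : ℤ) • P.coroot j = P.coroot i} with hΔ'
  -- each coroot of Δ lies in the cone of Δ'
  have hmem : ∀ i ∈ Δ, P.coroot i ∈ natSpan P.flip Δ' := by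
    intro i hi
    by_cases h : RootD.IsIndiv P.flip i
    · exact RD1.root_mem_natSpan P.flip (show i ∈ Δ' from ⟨i, hi, Or.inl ⟨rfl, h⟩⟩)
    · unfold RootD.IsIndiv at h
      push Not at h
      obtain ⟨j, hj⟩ := h
      have hj' : (2 : ℤ) • P.coroot j = P.coroot i := hj
      rw [← hj', ofNat_zsmul]
      exact nsmul_mem (RD1.root_mem_natSpan P.flip (show j ∈ Δ' from ⟨i, hi, Or.inr hj'⟩)) _
  -- the simple root attached to an element of Δ'
  have hσ : ∀ j ∈ Δ', ∃ i ∈ Δ, ∃ e : ℤ, ((e = 1 ∧ RootD.IsIndiv P.flip i) ∨ e = 2) ∧ e • P.coroot j = P.coroot i := by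
    rintro j ⟨i, hi, h | h⟩
    · exact ⟨i, hi, 1, Or.inl ⟨rfl, h.2⟩, by rw [one_smul, h.1]⟩
    · exact ⟨i, hi, 2, Or.inr rfl, h⟩
  choose! σ hσΔ e he hσe using hσ
  have hepos : ∀ j ∈ Δ', 0 < e j := by
    intro j hj
    rcases he j hj with h | h <;> omega
  have hσinj : Set.InjOn σ Δ' := by
    intro j1 h1 j2 h2 h12
    apply P.coroot.injective
    have e1 := hσe j1 h1
    have e2 := hσe j2 h2
    rw [h12] at e1
    rcases he j1 h1 with ⟨h, hind⟩ | h <;> rcases he j2 h2 with ⟨h', hind'⟩ | h'
    · rw [h, one_smul] at e1; rw [h', one_smul] at e2; rw [e1, e2]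
    · exfalso
      rw [h12] at hind
      rw [h'] at e2
      exact hind j2 e2
    · exfalso
      rw [h] at e1
      exact hind' j1 e1
    · rw [h] at e1; rw [h'] at e2
      have : (2 : ℤ) • P.coroot j1 = (2 : ℤ) • P.coroot j2 := by rw [e1, e2]
      exact (smul_right_injective N (by norm_num : (2 : ℤ) ≠ 0)) this
  apply Groth.Agent.S5446.result P.flip Δ'
  · -- indivisibility
    intro j hj j' hj'
    have hj'' : (2 : ℤ) • P.coroot j' = P.coroot j := hj'
    rcases he j hj with ⟨h, hind⟩ | h
    · have e1 := hσe j hj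
      rw [h, one_smul] at e1
      rw [e1] at hj''
      exact hind j' hj''
    · have e1 := hσe j hj
      rw [h, ← hj'', smul_smul] at e1
      have p1 := congrArg (fun n => P.toLinearMap (P.root (σ j)) n) e1
      simp only [map_smul, smul_eq_mul] at p1
      rw [P.root_coroot_two, P.root_coroot_eq_pairing] at p1
      omega
  · -- linear independence
    rw [linearIndepOn_iff']
    intro t c ht hsum j hj
    have hli := hΔ.linInd
    rw [linearIndepOn_iff'] at hli
    -- the multipliers m j = len (σ j) * e j
    set m : ι → ℤ := fun j => P.RootForm (P.root (σ j)) (P.root (σ j)) * e j with hm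
    have hmpos : ∀ j ∈ t, 0 < m j := fun j hj => mul_pos (RD6.len_pos P _) (hepos j (ht hj))
    have hmne : ∀ j ∈ t, m j ≠ 0 := fun j hj => (hmpos j hj).ne'
    have hmul : ∀ j ∈ t, m j • P.coroot j = (2 : ℤ) • P.Polarization (P.root (σ j)) := by
      intro j hj
      rw [hm]
      simp only
      rw [mul_smul, hσe j (ht hj), P.rootForm_self_smul_coroot, ofNat_zsmul]
    have h2 := hli (t.image σ) (fun i => ∑ j ∈ t with σ j = i, c j * ∏ j' ∈ t.erase j, m j') ?_ ?_ (σ j)
      (Finset.mem_image_of_mem _ hj)
    · have h2' := h2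
      have : (∑ j' ∈ t with σ j' = σ j, c j' * ∏ j'' ∈ t.erase j', m j'') = c j * ∏ j'' ∈ t.erase j, m j'' := by
        have hjmem : j ∈ t.filter (fun j' => σ j' = σ j) := by
          rw [Finset.mem_filter]; exact ⟨hj, rfl⟩
        apply Finset.sum_eq_single_of_mem (f := fun j' => c j' * ∏ j'' ∈ t.erase j', m j'') j hjmem
        intro b hb hbj
        rw [Finset.mem_filter] at hb
        exact absurd (hσinj (ht hb.1) (ht hj) hb.2) hbj
      rw [this] at h2
      rcases mul_eq_zero.mp h2 with h | h
      · exact h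
      · exfalso
        rw [Finset.prod_eq_zero_iff] at h
        obtain ⟨a, ha, ha0⟩ := h
        exact hmne a (Finset.mem_of_mem_erase ha) ha0
    · intro i hi
      rw [Finset.mem_coe, Finset.mem_image] at hi
      obtain ⟨j, hj, rfl⟩ := hi
      exact hσΔ j (ht hj)
    · -- the transported relation
      have hrel : (∑ i ∈ t.image σ, (∑ j ∈ t with σ j = i, c j * ∏ j' ∈ t.erase j, m j') • P.root i)
          = ∑ j ∈ t, (c j * ∏ j' ∈ t.erase j, m j') • P.root (σ j) := by
        rw [Finset.sum_image' (fun j => (c j * ∏ j' ∈ t.erase j, m j') • P.root (σ j))]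
        intro j hj
        rw [Finset.sum_smul]
        apply Finset.sum_congr rfl
        intro b hb
        rw [(Finset.mem_filter.mp hb).2]
      rw [hrel]
      apply RD23.pol_injOn_Q P
      · exact Submodule.sum_mem _ (fun a _ => Submodule.smul_mem _ _ (RD5.root_mem_Q P _))
      · apply (smul_right_injective N (by norm_num : (2 : ℤ) ≠ 0))
        simp only
        rw [smul_zero, map_sum, Finset.smul_sum]
        have : (∏ j' ∈ t, m j') • ∑ j ∈ t, c j • P.flip.root j = 0 := by rw [hsum, smul_zero]
        rw [← this, Finset.smul_sum]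
        apply Finset.sum_congr rfl
        intro j hj
        rw [map_smul, smul_comm, ← hmul j hj, smul_smul, smul_smul]
        congr 1
        rw [← Finset.mul_prod_erase t m hj]
        ring
  · -- cone condition
    intro k
    have hlen := RD6.len_pos P k
    refine ⟨(P.RootForm (P.root k) (P.root k)).toNat, by omega, ?_⟩
    rcases hΔ.mem_or_neg_mem k with h | h
    · left
      have h1 := RD23.two_pol_mem P hmem h
      rw [ofNat_zsmul, ← P.rootForm_self_smul_coroot, ← Int.toNat_of_nonneg hlen.le, natCast_zsmul] at h1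
      simpa using h1
    · right
      have h1 := RD23.two_pol_mem P hmem h
      rw [map_neg, smul_neg, ofNat_zsmul, ← P.rootForm_self_smul_coroot, ← Int.toNat_of_nonneg hlen.le,
        natCast_zsmul, ← smul_neg] at h1
      simpa using h1

end Groth.Agent.S5485
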