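import Groth.Statements.S5488
import Groth.Agent.Helper2.RootD4
open Set RootPairing Module
open scoped Pointwise
open Groth.Agent.Helper2
-- import your own Groth.Agent.* helpers here

set_option autoImplicit false
open RootPairing
open scoped Pointwise
open RootD

namespace Groth.Agent.S5488

/-- The reduced datum of indivisible roots has the same Weyl group: the reflections in indivisible roots
generate W. -/
theorem result {ι M N : Type*} [AddCommGroup M] [AddCommGroup N]
    (P : RootPairing ι ℤ M N) [Finite ι] :
    Subgroup.closure ((fun i : ι => Equiv.reflection P i) '' {i : ι | RootD.IsIndiv P i}) = P.weylGroup := by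
  apply le_antisymm
  · apply Subgroup.closure_mono
    rintro _ ⟨i, -, rfl⟩
    exact ⟨i, rfl⟩
  · apply (Subgroup.closure_le _).mpr
    rintro _ ⟨k, rfl⟩
    by_cases hk : IsIndiv P k
    · exact Subgroup.subset_closure ⟨k, hk, rfl⟩
    · unfold IsIndiv at hk
      push Not at hk
      obtain ⟨j, hj⟩ := hk
      have hjind : IsIndiv P j := by
        intro j' hj'
        -- root k = 4 root j'
        have h4 : P.root k = (4 : ℤ) • P.root j' := by
          rw [← hj, ← hj', smul_smul]; norm_num
        have := congrArg (P.coroot' k) h4
        simp only [map_smul, root_coroot'_eq_pairing, pairing_same, smul_eq_mul] at this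
        omega
      show Equiv.reflection P k ∈ _
      rw [RD4.equiv_reflection_eq_of_root_eq_smul P k j 2 hj.symm]
      exact Subgroup.subset_closure ⟨j, hjind, rfl⟩

end Groth.Agent.S5488
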