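import Groth.Statements.S5491
import Groth.Agent.Helper2.RootD15
open Set RootPairing Module
open scoped Pointwise
open Groth.Agent.Helper2
-- import your own Groth.Agent.* helpers here

set_option autoImplicit false
open RootD

namespace Groth.Agent.S5491

open Classical in
/-- With ρ^v the half-sum of the positive coroots, the order (height) of any root α relative to the
simple system equals (ρ^v, α); equivalently 2·height(α) = Σ_{β > 0} (β^v, α). -/
theorem result {ι M N : Type*} [AddCommGroup M] [AddCommGroup N]
    (P : RootPairing ι ℤ M N) [Finite ι] [Fintype ι] [P.IsReduced] (b : P.Base) (i : ι) :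
    2 * b.height i = ∑ j, if b.IsPos j then P.pairing i j else 0 := by
  have hsimple : ∀ a ∈ b.support, ∑ j, (if b.IsPos j then P.pairing a j else 0) = 2 := by
    intro a ha
    rw [← Finset.sum_filter]
    have hapos : a ∈ Finset.univ.filter (fun j => b.IsPos j) := by
      simp only [Finset.mem_filter, Finset.mem_univ, true_and]
      exact b.isPos_of_mem_support ha
    rw [← Finset.add_sum_erase _ _ hapos, pairing_same]
    have hzero : ∑ j ∈ (Finset.univ.filter (fun j => b.IsPos j)).erase a, P.pairing a j = 0 := by
      apply Finset.sum_involution (fun j _ => P.reflectionPerm a j)
      · intro j _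
        rw [P.pairing_reflectionPerm a a j, pairing_reflectionPerm_self_left]; ring
      · intro j _ hne hfix
        apply hne
        have h1 : P.root (P.reflectionPerm a j) = P.root j := by rw [hfix]
        rw [P.root_reflectionPerm, P.reflection_apply_root] at h1
        have h2 : P.pairing j a • P.root a = 0 := by
          have := sub_eq_self.mp h1
          exact this
        have hM := RD.torsionFreeM P
        have h3 : P.pairing j a = 0 := by
          by_contra hne'
          have : P.pairing j a • P.root a = P.pairing j a • (0 : M) := by rw [h2, smul_zero]
          exact P.ne_zero a (smul_right_injective M hne' this)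
        exact (RD1.pairing_eq_zero_iff P j a).mp h3
      · intro j hj
        simp only [Finset.mem_erase, Finset.mem_filter, Finset.mem_univ, true_and] at hj ⊢
        refine ⟨?_, hj.2.reflectionPerm ha hj.1⟩
        intro h
        have h1 : j = P.reflectionPerm a a := by
          have := P.reflectionPerm_self a j
          rw [h] at this
          exact this.symm
        have h2 := hj.2
        rw [h1] at h2
        have h3 := b.height_reflectionPerm_self a
        have h4 : b.height (P.reflectionPerm a a) = - b.height a := h3
        rw [Base.isPos_iff, h4, Base.height_one_of_mem_support ha] at h2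
        omega
      · intro j _
        exact P.reflectionPerm_self a j
    rw [hzero, add_zero]
  obtain ⟨f, -, -, hf⟩ := b.exists_root_eq_sum_int i
  rw [Base.height_eq_sum hf]
  have hpair : ∀ j, P.pairing i j = ∑ a ∈ b.support, f a * P.pairing a j := by
    intro j
    have := congrArg (P.coroot' j) hf
    rw [map_sum] at this
    simpa [root_coroot'_eq_pairing] using this
  have : ∀ j, (if b.IsPos j then P.pairing i j else 0) =
      ∑ a ∈ b.support, f a * (if b.IsPos j then P.pairing a j else 0) := by
    intro j
    split_ifs
    · exact hpair j
    · simp
  simp_rw [this]
  rw [Finset.sum_comm, Finset.mul_sum]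
  apply Finset.sum_congr rfl
  intro a ha
  rw [← Finset.mul_sum, hsimple a ha]; ring

end Groth.Agent.S5491
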