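import Groth.Statements.S5492
import Groth.Agent.Helper2.RootD2
open Set RootPairing Module
open Groth.Agent.Helper2
-- import your own Groth.Agent.* helpers here

set_option autoImplicit false
open RootD

namespace Groth.Agent.S5492

/-- Off-diagonal entries of the Cartan matrix of a system of simple roots are non-positive: (α^v, β) ≤ 0
for distinct simple roots α, β. -/
theorem result {ι M N : Type*} [AddCommGroup M] [AddCommGroup N]
    (P : RootPairing ι ℤ M N) [Finite ι] (Δ : Set ι) (hΔ : RootD.IsSimpleSys P Δ) (i j : ι)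
    (hi : i ∈ Δ) (hj : j ∈ Δ) (hij : i ≠ j) : P.pairing j i ≤ 0 := by
  by_contra hpos
  push Not at hpos
  obtain ⟨k, hk⟩ := RD1.root_sub_mem P hpos (Ne.symm hij)
  have hk' : P.root j = P.root k + P.root i := by rw [hk]; abel
  have h1 := RD2.coef_add hΔ hk'
  rw [RD2.coef_simple hΔ hi, RD2.coef_simple hΔ hj] at h1
  have hi' := DFunLike.congr_fun h1 i
  have hj' := DFunLike.congr_fun h1 j
  simp only [Finsupp.coe_add, Pi.add_apply, Finsupp.single_eq_same, Finsupp.single_eq_of_ne hij,
    Finsupp.single_eq_of_ne (Ne.symm hij)] at hi' hj'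
  rcases RD2.coef_sign hΔ k with h | h
  · have := h i; omega
  · have := h j; omega

end Groth.Agent.S5492
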