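import Groth.Statements.S5493
import Groth.Agent.Helper2.RootD30
open Set RootPairing Module
open scoped Pointwise
open Groth.Agent.Helper2
-- import your own Groth.Agent.* helpers here

set_option autoImplicit false
open RootD

namespace Groth.Agent.S5493

/-- Adjoint case; the simply connected case is dual: two reduced adjoint root data with systems of
simple roots Δ, Δ' and a bijection u : Δ → Δ' respecting the Cartan matrices are isomorphic through
a unique isomorphism inducing u on Δ. -/
theorem result {ι M N ι' M' N' : Type*} [AddCommGroup M] [AddCommGroup N] [AddCommGroup M'] [AddCommGroup N']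
    (P : RootPairing ι ℤ M N) (P' : RootPairing ι' ℤ M' N') [Finite ι] [Finite ι'] [P.IsReduced] [P'.IsReduced]
    (had : Submodule.span ℤ (Set.range P.root) = ⊤) (had' : Submodule.span ℤ (Set.range P'.root) = ⊤)
    (b : P.Base) (b' : P'.Base) (u : ↥b.support ≃ ↥b'.support)
    (hu : ∀ i j : ↥b.support, P.pairing (i : ι) (j : ι) = P'.pairing (u i : ι') (u j : ι')) :
    ∃! e : RootPairing.Equiv P P', ∀ i : ↥b.support, e.indexEquiv (i : ι) = (u i : ι') := by
  classical
  have hM := RD.torsionFreeM P
  have hM' := RD.torsionFreeM P'
  set B := RD30.adjBasis P had b with hB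
  set B' := RD30.adjBasis P' had' b' with hB'
  set f : M ≃ₗ[ℤ] M' := B.equiv B' u with hfdef
  have hf : ∀ i : b.support, f (P.root i) = P'.root (u i) := by
    intro i
    rw [← RD30.adjBasis_apply P had b i, ← RD30.adjBasis_apply P' had' b' (u i), hfdef, Basis.equiv_apply]
  have hfsymm : ∀ i : b'.support, f.symm (P'.root i) = P.root (u.symm i) := by
    intro i
    rw [LinearEquiv.symm_apply_eq, hf, Equiv.apply_symm_apply]
  have h1 := RD30.apply_mem_range_root P P' had b b' u hu f hf
  have h2 := RD30.apply_mem_range_root P' P had' b' b u.symm (by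
    intro i j
    rw [hu, Equiv.apply_symm_apply, Equiv.apply_symm_apply]) f.symm hfsymm
  choose e1 he1 using h1
  choose e2 he2 using h2
  have he12 : ∀ i, e2 (e1 i) = i := by
    intro i
    apply P.root.injective
    rw [he2, he1, LinearEquiv.symm_apply_apply]
  have he21 : ∀ i, e1 (e2 i) = i := by
    intro i
    apply P'.root.injective
    rw [he1, he2, LinearEquiv.apply_symm_apply]
  set e' : ι ≃ ι' := ⟨e1, e2, he12, he21⟩ with he'
  have hfe : ∀ i, f (P.root i) = P'.root (e' i) := fun i => (he1 i).symm
  have hfe' : ∀ i', f.symm (P'.root i') = P.root (e'.symm i') := fun i' => (he2 i').symm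
  -- coroots correspond
  have hcoroot : ∀ i' : ι', (P'.coroot' i').comp (f : M →ₗ[ℤ] M') = P.coroot' (e'.symm i') := by
    intro i'
    apply Module.Dual.eq_of_preReflection_mapsTo (x := P.root (e'.symm i')) (Set.finite_range P.root) had
    · rw [LinearMap.comp_apply, LinearEquiv.coe_coe, hfe, Equiv.apply_symm_apply]
      exact P'.coroot_root_two i'
    · rintro _ ⟨j, rfl⟩
      rw [Module.preReflection_apply, LinearMap.comp_apply, LinearEquiv.coe_coe]
      refine ⟨e'.symm (P'.reflectionPerm i' (e' j)), ?_⟩
      rw [← hfe', P'.root_reflectionPerm, P'.reflection_apply, map_sub, map_smul, hfe', ← hfe j,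
        Equiv.symm_apply_apply, hfe']
    · exact P.coroot_root_two (e'.symm i')
    · rintro _ ⟨j, rfl⟩
      rw [Module.preReflection_apply]
      exact ⟨P.reflectionPerm (e'.symm i') j, by rw [P.root_reflectionPerm, P.reflection_apply]⟩
  let E : RootPairing.Equiv P P' :=
    { weightMap := f
      coweightMap := (P'.flip.toPerfPair.trans (f.dualMap.trans P.flip.toPerfPair.symm) : N' ≃ₗ[ℤ] N)
      indexEquiv := e'
      weight_coweight_transpose := by ext; simp
      root_weightMap := by ext i; simp [hfe]
      coroot_coweightMap := by
        ext i'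
        simp only [Function.comp_apply, LinearEquiv.coe_coe, LinearEquiv.trans_apply]
        rw [LinearEquiv.symm_apply_eq]
        ext x
        have := LinearMap.congr_fun (hcoroot i') x
        simpa using this
      bijective_weightMap := f.bijective
      bijective_coweightMap := LinearEquiv.bijective _ }
  refine ⟨E, ?_, ?_⟩
  · intro i
    show e' (i : ι) = (u i : ι')
    apply P'.root.injective
    rw [← hfe, hf]
  · intro E2 hE2
    -- weight maps agree on the basis
    have hw : E2.weightMap = E.weightMap := by
      apply B.ext
      intro i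
      show E2.weightMap (B i) = f (B i)
      rw [hB, RD30.adjBasis_apply, Hom.root_weightMap_apply, hE2 i, hf]
    have hidx : E2.indexEquiv = E.indexEquiv := by
      ext i
      apply P'.root.injective
      rw [← Hom.root_weightMap_apply, ← Hom.root_weightMap_apply, hw]
    have hcw : E2.coweightMap = E.coweightMap := by
      apply LinearMap.ext
      intro n'
      apply P.flip.toPerfPair.injective
      rw [← Hom.weight_coweight_transpose_apply, ← Hom.weight_coweight_transpose_apply, hw]
    apply RootPairing.Equiv.ext
    · exact hw
    · exact hcw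
    · exact hidx

end Groth.Agent.S5493
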