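import Groth.Statements.S5494
import Groth.Agent.Helper2.RootD8
import Groth.Agent.S5506
import Groth.Agent.S5482
open Set RootPairing Module
open scoped Pointwise
open Groth.Agent.Helper2
-- import your own Groth.Agent.* helpers here

set_option autoImplicit false
open RootD

namespace Groth.Agent.S5494

/-- If a system of simple roots has no partition into two non-empty orthogonal subsets, then any two
roots are linked by a chain of roots with consecutive members non-orthogonal. -/
theorem result {ι M N : Type*} [AddCommGroup M] [AddCommGroup N]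
    (P : RootPairing ι ℤ M N) [Finite ι] (Δ : Set ι) (hΔ : RootD.IsSimpleSys P Δ)
    (hconn : ∀ Δ' : Set ι, Δ' ⊆ Δ → (∀ i ∈ Δ', ∀ j ∈ Δ \ Δ', P.IsOrthogonal i j) → Δ' = ∅ ∨ Δ' = Δ)
    (i j : ι) : Relation.ReflTransGen (fun a b : ι => ¬ P.IsOrthogonal a b) i j := by
  set C : Set ι := {j : ι | Relation.ReflTransGen (fun a b : ι => ¬ P.IsOrthogonal a b) i j} with hC
  obtain ⟨h1, h2, h3, h4⟩ := Groth.Agent.S5506.result P i
  obtain ⟨hR, hRc, horth⟩ := Groth.Agent.S5482.result P Δ hΔ C h1 h2 h3 h4
  have hiC : i ∈ C := Relation.ReflTransGen.refl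
  have hempty : inSpan P (∅ : Set ι) = ∅ := by
    ext k
    simp only [inSpan, Set.image_empty, Submodule.span_empty, Submodule.mem_bot, mem_ofPred_eq,
      mem_empty_iff_false, iff_false]
    exact P.ne_zero k
  rcases hconn (Δ ∩ C) Set.inter_subset_left (by
    intro a ha b hb
    apply horth a ha b
    refine ⟨hb.1, fun hbC => hb.2 ⟨hb.1, hbC⟩⟩) with h | h
  · exfalso
    rw [h, hempty] at hR
    rw [hR] at hiC
    exact hiC
  · have hΔC : Δ \ C = ∅ := by
      ext a
      simp only [mem_sdiff, mem_empty_iff_false, iff_false, not_and, not_not]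
      intro ha
      have : a ∈ Δ ∩ C := by rw [h]; exact ha
      exact this.2
    rw [hΔC, hempty] at hRc
    have : j ∈ C := by
      by_contra hj
      have : j ∈ Cᶜ := hj
      rw [hRc] at this
      exact this
    exact this

end Groth.Agent.S5494
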