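import Groth.Statements.S5495
import Groth.Agent.Helper2.RootD4
open Set RootPairing Module
open scoped Pointwise
open Groth.Agent.Helper2
-- import your own Groth.Agent.* helpers here

set_option autoImplicit false
open RootD

namespace Groth.Agent.S5495

/-- If α is an indivisible root and kα is a root for a rational k, then k is an integer. -/
theorem result {ι M N : Type*} [AddCommGroup M] [AddCommGroup N]
    (P : RootPairing ι ℤ M N) [Finite ι] (i j : ι) (hind : RootD.IsIndiv P i) (a b : ℤ) (hb : b ≠ 0)
    (h : b • P.root j = a • P.root i) : b ∣ a := by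
  have hM := RD.torsionFreeM P
  by_cases ha : a = 0
  · rw [ha]; exact dvd_zero _
  set p := P.pairing i j with hp
  set q := P.pairing j i with hq
  have h1 : 2 * b = a * p := by
    have := congrArg (P.coroot' j) h
    simp only [map_smul, root_coroot'_eq_pairing, pairing_same, smul_eq_mul] at this
    rw [← hp] at this; linarith
  have h2 : b * q = 2 * a := by
    have := congrArg (P.coroot' i) h
    simp only [map_smul, root_coroot'_eq_pairing, pairing_same, smul_eq_mul] at this
    rw [← hq] at this; linarith
  have h3 : p * q = 4 := by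
    have : (a * b) * (p * q) = (a * b) * 4 := by
      calc (a * b) * (p * q) = (a * p) * (b * q) := by ring
        _ = (2 * b) * (2 * a) := by rw [← h1, h2]
        _ = (a * b) * 4 := by ring
    exact mul_left_cancel₀ (mul_ne_zero ha hb) this
  have hpd : p ∣ 4 := ⟨q, h3.symm⟩
  have hple : p ≤ 4 := Int.le_of_dvd (by norm_num) hpd
  have hpge : -4 ≤ p := by
    have : -p ∣ 4 := (neg_dvd).mpr hpd
    have := Int.le_of_dvd (by norm_num) this
    linarith
  have hp0 : p ≠ 0 := by rintro h0; rw [h0] at h3; simp at h3
  have hcases : p = 1 ∨ p = 2 ∨ p = 4 ∨ p = -1 ∨ p = -2 ∨ p = -4 := by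
    interval_cases p <;> omega
  rcases hcases with hc | hc | hc | hc | hc | hc
  · rw [hc] at h1; exact ⟨2, by linarith⟩
  · rw [hc] at h1; exact ⟨1, by linarith⟩
  · exfalso
    rw [hc] at h1
    have hb2 : b = 2 * a := by linarith
    rw [hb2, mul_comm, mul_smul] at h
    have := smul_right_injective M ha h
    exact hind j this
  · rw [hc] at h1; exact ⟨-2, by linarith⟩
  · rw [hc] at h1; exact ⟨-1, by linarith⟩
  · exfalso
    rw [hc] at h1
    have hb2 : b = a * (-2) := by linarith
    rw [hb2, mul_smul] at h
    have h4 := smul_right_injective M ha h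
    apply hind (P.reflectionPerm j j)
    rw [RD.root_neg, ← h4]
    simp

end Groth.Agent.S5495
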