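import Groth.Statements.S5496
import Groth.Agent.Helper2.RootD27
import Groth.Agent.Helper2.RootD28
open Set RootPairing Module
open scoped Pointwise
open Groth.Agent.Helper2
-- import your own Groth.Agent.* helpers here

set_option autoImplicit false
open RootPairing
open scoped Pointwise
open RootD

namespace Groth.Agent.S5496

/-- For non-proportional roots α, β let n be the least integer n > 0 with (s_α s_β)^n(α) = α and (s_α
s_β)^n(β) = β. Then the subgroup W_{α,β} generated by s_α and s_β is presented by s_α² = s_β² = (s_α
s_β)^n = 1; equivalently it has exactly 2n elements. -/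
theorem result {ι M N : Type*} [AddCommGroup M] [AddCommGroup N]
    (P : RootPairing ι ℤ M N) [Finite ι] (i j : ι) (hli : LinearIndependent ℤ ![P.root i, P.root j])
    (n : ℕ) (hn : IsLeast {m : ℕ | 0 < m ∧ ((Equiv.reflection P i * Equiv.reflection P j) ^ m) • i = i ∧
      ((Equiv.reflection P i * Equiv.reflection P j) ^ m) • j = j} n) :
    Nat.card (Subgroup.closure ({Equiv.reflection P i, Equiv.reflection P j} : Set P.Aut)) = 2 * n := by
  have hM := RD.torsionFreeM P
  set a := Equiv.reflection P i with ha
  set b := Equiv.reflection P j with hb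
  have hne1 : ∀ l : ι, Equiv.reflection P l ≠ 1 := by
    intro l h
    have h1 : (Equiv.reflection P l) • P.root l = P.root l := by rw [h, one_smul]
    rw [Equiv.reflection_smul, P.reflection_apply_self] at h1
    have : (2 : ℤ) • P.root l = 0 := by
      rw [two_smul]; nth_rewrite 1 [← h1]; exact neg_add_cancel _
    exact P.ne_zero l ((smul_eq_zero_iff_right (by norm_num)).mp this)
  rw [RD28.card_closure_pair a b (RD4.reflection_mul_self P i) (RD4.reflection_mul_self P j) (hne1 i) (hne1 j)]
  congr 1
  -- rigidity: an element of the subgroup fixing i and j is trivial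
  have hrigid : ∀ g : P.Aut, g ∈ RD4.WΔ P {i, j} → g • i = i → g • j = j → g = 1 := by
    intro g hg hgi hgj
    apply Equiv.weightHom_injective P
    ext x
    show g • x = x
    have h1 := RD18.sub_mem_V_of_mem_WΔ hg x
    rw [RD18.V, Set.image_pair, Submodule.mem_span_pair] at h1
    obtain ⟨s, t, hst⟩ := h1
    have p1 := RD.aut_pairing P g x i
    have p2 := RD.aut_pairing P g x j
    rw [hgi] at p1
    rw [hgj] at p2
    have e1 : P.toLinearMap (g • x - x) (P.coroot i) = 0 := by
      rw [map_sub, LinearMap.sub_apply, p1, sub_self]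
    have e2 : P.toLinearMap (g • x - x) (P.coroot j) = 0 := by
      rw [map_sub, LinearMap.sub_apply, p2, sub_self]
    rw [← hst] at e1 e2
    simp only [map_add, map_smul, LinearMap.add_apply, LinearMap.smul_apply, smul_eq_mul] at e1 e2
    rw [P.root_coroot_two, P.root_coroot_eq_pairing] at e1 e2
    have hcw := P.coxeterWeight_ne_four_of_linearIndependent hli
    rw [coxeterWeight] at hcw
    have hs : s * (4 - P.pairing i j * P.pairing j i) = 0 := by linear_combination 2 * e1 - P.pairing j i * e2
    have ht : t * (4 - P.pairing i j * P.pairing j i) = 0 := by linear_combination 2 * e2 - P.pairing i j * e1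
    have hne : (4 - P.pairing i j * P.pairing j i) ≠ 0 := by
      intro h; apply hcw; omega
    have hs0 : s = 0 := by
      rcases mul_eq_zero.mp hs with h | h
      · exact h
      · exact absurd h hne
    have ht0 : t = 0 := by
      rcases mul_eq_zero.mp ht with h | h
      · exact h
      · exact absurd h hne
    rw [hs0, ht0, zero_smul, zero_smul, add_zero] at hst
    exact (sub_eq_zero.mp hst.symm)
  have hrmem : ∀ m : ℕ, (a * b) ^ m ∈ RD4.WΔ P {i, j} := by
    intro m
    apply pow_mem
    exact mul_mem (RD4.simple_reflection_mem (by simp)) (RD4.simple_reflection_mem (by simp))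
  have hiff : ∀ m : ℕ, ((a * b) ^ m • i = i ∧ (a * b) ^ m • j = j) ↔ (a * b) ^ m = 1 := by
    intro m
    constructor
    · rintro ⟨h1, h2⟩
      exact hrigid _ (hrmem m) h1 h2
    · intro h
      rw [h]; exact ⟨one_smul _ _, one_smul _ _⟩
  obtain ⟨⟨hn0, hn1⟩, hn2⟩ := hn
  rw [orderOf_eq_iff hn0]
  refine ⟨(hiff n).mp hn1, ?_⟩
  intro m hm hm0 h1
  have := hn2 ⟨hm0, (hiff m).mpr h1⟩
  omega

end Groth.Agent.S5496
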