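import Groth.Statements.S5498
import Groth.Agent.Helper2.RootD14
open Set RootPairing Module
open scoped Pointwise
open Groth.Agent.Helper2
-- import your own Groth.Agent.* helpers here

set_option autoImplicit false
open RootD

namespace Groth.Agent.S5498

/-- If R is irreducible then so is the dual datum R^v, and long(α)·long(α^v) (equivalently ℓ(α) ℓ(α^v))
is constant on the roots. -/
theorem result {ι M N : Type*} [AddCommGroup M] [AddCommGroup N]
    (P : RootPairing ι ℤ M N) [Finite ι] [Fintype ι] [Nonempty ι]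
    (hirr : ∀ R' : Set ι, RootD.IsClosedSub P R' → RootD.IsSymmSub P R' → RootD.IsClosedSub P R'ᶜ →
      RootD.IsSymmSub P R'ᶜ → R' = ∅ ∨ R' = Set.univ) :
    (∀ R' : Set ι, RootD.IsClosedSub P.flip R' → RootD.IsSymmSub P.flip R' → RootD.IsClosedSub P.flip R'ᶜ →
      RootD.IsSymmSub P.flip R'ᶜ → R' = ∅ ∨ R' = Set.univ) ∧
    ∀ i j : ι, P.RootForm (P.root i) (P.root i) * P.CorootForm (P.coroot i) (P.coroot i) =
      P.RootForm (P.root j) (P.root j) * P.CorootForm (P.coroot j) (P.coroot j) := by
  refine ⟨?_, ?_⟩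
  · intro R' h1 h2 h3 h4
    by_cases hne : R' = ∅
    · exact Or.inl hne
    · right
      obtain ⟨i, hi⟩ := Set.nonempty_iff_ne_empty.mpr hne
      ext j
      simp only [mem_univ, iff_true]
      apply RD14.eq_univ_of_stable P hirr R' ?_ hi j
      intro k k' hk hkk'
      apply Groth.Agent.S5505.result P.flip R' h1 h2 h3 h4 k k' hk
      intro hflip
      exact hkk' ⟨hflip.2, hflip.1⟩
  · intro i j
    have := RD14.chain_of_irr P hirr i j
    induction this with
    | refl => rfl
    | tail _ hbc ih => rw [ih]; exact Groth.Agent.S5487.result P _ _ hbc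

end Groth.Agent.S5498
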