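import Groth.Statements.S5499
import Groth.Agent.Helper2.RootD15
open Set RootPairing Module
open scoped Pointwise
open Groth.Agent.Helper2
-- import your own Groth.Agent.* helpers here

set_option autoImplicit false
open RootD

namespace Groth.Agent.S5499

/-- For an irreducible datum, where long(α) = ℓ(α)/ℓ(α₀) with ℓ(α₀) minimal: there is a unique
homomorphism u : Γ_0(R) → M^v with u(α) = long(α) α^v for every root α. -/
theorem result {ι M N : Type*} [AddCommGroup M] [AddCommGroup N]
    (P : RootPairing ι ℤ M N) [Finite ι] [Fintype ι]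
    (hirr : ∀ R' : Set ι, RootD.IsClosedSub P R' → RootD.IsSymmSub P R' → RootD.IsClosedSub P R'ᶜ →
      RootD.IsSymmSub P R'ᶜ → R' = ∅ ∨ R' = Set.univ)
    (i₀ : ι) (hmin : ∀ i : ι, P.RootForm (P.root i₀) (P.root i₀) ≤ P.RootForm (P.root i) (P.root i)) :
    ∃! u : Submodule.span ℤ (Set.range P.root) →+ N, ∀ i : ι,
      u ⟨P.root i, Submodule.subset_span (Set.mem_range_self i)⟩ =
        (P.RootForm (P.root i) (P.root i) / P.RootForm (P.root i₀) (P.root i₀)) • P.coroot i := by
  have hN := RD.torsionFreeN P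
  set ℓ₀ := P.RootForm (P.root i₀) (P.root i₀) with hℓ₀
  have hℓ₀pos : 0 < ℓ₀ := RD6.len_pos P i₀
  have hdvd : ∀ i : ι, ℓ₀ ∣ P.RootForm (P.root i) (P.root i) := by
    intro i
    obtain ⟨g, hg, hp⟩ := RD14.exists_weyl_not_orthogonal P hirr i₀ i
    have hlen : P.RootForm (P.root (g • i₀)) (P.root (g • i₀)) = ℓ₀ := by
      rw [RD3.root_smul]
      exact InvariantForm.apply_weylGroup_smul P (B := P.toInvariantForm) ⟨g, hg⟩ (P.root i₀) (P.root i₀)
    obtain ⟨c, -, hc⟩ := RD15.len_ratio P i (g • i₀) hp (by rw [hlen]; exact hmin i)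
    rw [hlen] at hc
    exact ⟨c, by rw [hc, mul_comm]⟩
  have hmul : ∀ i : ι, ℓ₀ • ((P.RootForm (P.root i) (P.root i) / ℓ₀) • P.coroot i) =
      (2 : ℤ) • P.Polarization (P.root i) := by
    intro i
    rw [smul_smul, Int.mul_ediv_cancel' (hdvd i), P.rootForm_self_smul_coroot i]
    norm_cast
  have hinj : ∀ x y : N, ℓ₀ • x = ℓ₀ • y → x = y := fun x y h => smul_right_injective N hℓ₀pos.ne' h
  apply Groth.Agent.S5465.result P (fun i => (P.RootForm (P.root i) (P.root i) / ℓ₀) • P.coroot i)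
  · intro i
    apply hinj
    rw [hmul, smul_neg, hmul, RD.root_neg, map_neg, smul_neg]
  · intro i j k hk
    apply hinj
    rw [smul_add, hmul, hmul, hmul, hk, map_add, smul_add]

end Groth.Agent.S5499
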