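import Groth.Statements.S5500
import Groth.Agent.Helper2.RootD15
open Set RootPairing Module
open scoped Pointwise
open Groth.Agent.Helper2
-- import your own Groth.Agent.* helpers here

set_option autoImplicit false
open RootD

namespace Groth.Agent.S5500

/-- For a p-morphism between irreducible reduced root data there is a rational constant k with k ·
long(u(α)) = q(α)² · long(α) for every root α; stated as the proportionality q(α)² ℓ(α) ℓ'(u β) =
q(β)² ℓ(β) ℓ'(u α) of the canonical quadratic forms. -/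
theorem result {ι M N ι' M' N' : Type*} [AddCommGroup M] [AddCommGroup N] [AddCommGroup M'] [AddCommGroup N']
    (P : RootPairing ι ℤ M N) (P' : RootPairing ι' ℤ M' N') [Finite ι] [Finite ι'] [Fintype ι] [Fintype ι'] [P.IsReduced] [P'.IsReduced]
    (hirr : ∀ R₁ : Set ι, RootD.IsClosedSub P R₁ → RootD.IsSymmSub P R₁ → RootD.IsClosedSub P R₁ᶜ →
      RootD.IsSymmSub P R₁ᶜ → R₁ = ∅ ∨ R₁ = Set.univ)
    (hirr' : ∀ R₁ : Set ι', RootD.IsClosedSub P' R₁ → RootD.IsSymmSub P' R₁ → RootD.IsClosedSub P' R₁ᶜ →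
      RootD.IsSymmSub P' R₁ᶜ → R₁ = ∅ ∨ R₁ = Set.univ)
    (p : ℕ) (hp : 0 < p) (f : M' →ₗ[ℤ] M) (g : N →ₗ[ℤ] N')
    (hfg : ∀ (m' : M') (n : N), P.toLinearMap (f m') n = P'.toLinearMap m' (g n))
    (u : ι ≃ ι') (q : ι → ℕ) (hq : ∀ i, ∃ e : ℕ, q i = p ^ e)
    (hroot : ∀ i : ι, f (P'.root (u i)) = (q i : ℤ) • P.root i)
    (hcoroot : ∀ i : ι, g (P.coroot i) = (q i : ℤ) • P'.coroot (u i)) (i j : ι) :
    ((q i : ℤ) ^ 2 * P.RootForm (P.root i) (P.root i)) * P'.RootForm (P'.root (u j)) (P'.root (u j)) =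
      ((q j : ℤ) ^ 2 * P.RootForm (P.root j) (P.root j)) * P'.RootForm (P'.root (u i)) (P'.root (u i)) := by
  have hqpos : ∀ i, (0 : ℤ) < q i := by
    intro i
    obtain ⟨e, he⟩ := hq i
    rw [he]; positivity
  -- relation between pairings
  have hpair : ∀ a b : ι, (q b : ℤ) * P'.pairing (u a) (u b) = (q a : ℤ) * P.pairing a b := by
    intro a b
    have h1 := hfg (P'.root (u a)) (P.coroot b)
    rw [hroot, hcoroot, map_smul, map_smul] at h1
    simp only [LinearMap.smul_apply, smul_eq_mul] at h1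
    exact h1.symm
  have hstep : ∀ a b : ι, ¬ P.IsOrthogonal a b →
      ((q a : ℤ) ^ 2 * P.RootForm (P.root a) (P.root a)) * P'.RootForm (P'.root (u b)) (P'.root (u b)) =
      ((q b : ℤ) ^ 2 * P.RootForm (P.root b) (P.root b)) * P'.RootForm (P'.root (u a)) (P'.root (u a)) := by
    intro a b hab
    rw [RD1.not_isOrthogonal_iff] at hab
    have hba : P.pairing b a ≠ 0 := by rwa [Ne, RD1.pairing_eq_zero_iff P b a]
    have h1 := RD6.pairing_mul_swap P a b
    have h2 := RD6.pairing_mul_swap P' (u a) (u b)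
    have h3 := hpair a b
    have h4 := hpair b a
    set x := P.pairing a b
    set y := P.pairing b a
    set x' := P'.pairing (u a) (u b)
    set y' := P'.pairing (u b) (u a)
    set la := P.RootForm (P.root a) (P.root a)
    set lb := P.RootForm (P.root b) (P.root b)
    set la' := P'.RootForm (P'.root (u a)) (P'.root (u a))
    set lb' := P'.RootForm (P'.root (u b)) (P'.root (u b))
    set qa : ℤ := (q a : ℤ)
    set qb : ℤ := (q b : ℤ)
    have hqa : qa ≠ 0 := (hqpos a).ne'
    have hqb : qb ≠ 0 := (hqpos b).ne'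
    -- h1 : y * la = x * lb ; h2 : y' * la' = x' * lb' ; h3 : qb * x' = qa * x ; h4 : qa * y' = qb * y
    have hy' : y' ≠ 0 := by
      intro h0
      rw [h0, mul_zero] at h4
      exact (mul_ne_zero hqb hba) h4.symm
    have key : (y * y' * qa * qb) * (qa ^ 2 * la * lb') = (y * y' * qa * qb) * (qb ^ 2 * lb * la') := by
      linear_combination (qa ^ 3 * qb * y' * lb') * h1 - (qa * qb ^ 3 * y * lb) * h2
        - (qa * qb * lb * lb' * qb * y) * h3 + (qa * qb * lb * lb' * qa * x) * h4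
    exact mul_left_cancel₀ (mul_ne_zero (mul_ne_zero (mul_ne_zero hba hy') hqa) hqb) key
  have hchain := RD14.chain_of_irr P hirr i j
  have hpos : ∀ a : ι, 0 < P.RootForm (P.root a) (P.root a) := RD6.len_pos P
  have hpos' : ∀ a : ι', 0 < P'.RootForm (P'.root a) (P'.root a) := RD6.len_pos P'
  induction hchain with
  | refl => rfl
  | @tail b c _ hbc ih =>
    have h1 := hstep b c hbc
    -- ih : R(i,b), h1 : R(b,c) ⊢ R(i,c)
    have hb1 : (q b : ℤ) ^ 2 * P.RootForm (P.root b) (P.root b) ≠ 0 :=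
      mul_ne_zero (pow_ne_zero 2 (hqpos b).ne') (hpos b).ne'
    have hb2 : P'.RootForm (P'.root (u b)) (P'.root (u b)) ≠ 0 := (hpos' (u b)).ne'
    apply mul_left_cancel₀ (mul_ne_zero hb1 hb2)
    linear_combination (P'.RootForm (P'.root (u c)) (P'.root (u c)) * ((q b : ℤ) ^ 2 * P.RootForm (P.root b) (P.root b))) * ih
      + (P'.RootForm (P'.root (u i)) (P'.root (u i)) * ((q b : ℤ) ^ 2 * P.RootForm (P.root b) (P.root b))) * h1

end Groth.Agent.S5500
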