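import Groth.Statements.S5502
import Groth.Agent.Helper2.RootD23
import Groth.Agent.S5485
import Groth.Agent.S5492
open Set RootPairing Module
open scoped Pointwise
open Groth.Agent.Helper2
-- import your own Groth.Agent.* helpers here

set_option autoImplicit false
open RootD

namespace Groth.Agent.S5502

/-- If β = Σ_{α ∈ Δ} a_α α along a system of simple roots Δ, then ℓ(β) divides 2 a_α ℓ(α), and 2ℓ(β)
divides it when α^v is indivisible (ℓ the canonical quadratic form). -/
theorem result {ι M N : Type*} [AddCommGroup M] [AddCommGroup N]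
    (P : RootPairing ι ℤ M N) [Finite ι] [Fintype ι] (Δ : Set ι) (hΔ : RootD.IsSimpleSys P Δ)
    (k : ι) (c : ι →₀ ℤ) (hc : ↑c.support ⊆ Δ) (hck : Finsupp.linearCombination ℤ P.root c = P.root k)
    (i : ι) (hi : i ∈ Δ) :
    P.RootForm (P.root k) (P.root k) ∣ 2 * c i * P.RootForm (P.root i) (P.root i) ∧
      (RootD.IsIndiv P.flip i → 2 * P.RootForm (P.root k) (P.root k) ∣ 2 * c i * P.RootForm (P.root i) (P.root i)) := by
  classical
  have hM := RD.torsionFreeM P
  have hN := RD.torsionFreeN P
  have hΔ' := Groth.Agent.S5485.result P Δ hΔ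
  set Δ' : Set ι := {j : ι | ∃ i ∈ Δ, (j = i ∧ RootD.IsIndiv P.flip i) ∨ (2 : ℤ) • P.coroot j = P.coroot i} with hΔ'def
  -- the simple coroot attached to a simple root
  have hτ : ∀ a ∈ Δ, ∃ j ∈ Δ', ∃ e : ℤ, ((e = 1 ∧ RootD.IsIndiv P.flip a) ∨ (e = 2 ∧ ¬ RootD.IsIndiv P.flip a)) ∧
      P.coroot a = e • P.coroot j := by
    intro a ha
    by_cases h : RootD.IsIndiv P.flip a
    · exact ⟨a, ⟨a, ha, Or.inl ⟨rfl, h⟩⟩, 1, Or.inl ⟨rfl, h⟩, by rw [one_smul]⟩
    · have h' := h
      unfold RootD.IsIndiv at h'
      push Not at h'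
      obtain ⟨j, hj⟩ := h'
      have hj' : (2 : ℤ) • P.coroot j = P.coroot a := hj
      exact ⟨j, ⟨a, ha, Or.inr hj'⟩, 2, Or.inr ⟨rfl, h⟩, hj'.symm⟩
  choose! τ hτΔ' e he hτe using hτ
  have hτinj : Set.InjOn τ Δ := by
    intro a1 h1 a2 h2 h12
    by_contra hne
    have e1 := hτe a1 h1
    have e2 := hτe a2 h2
    rw [h12] at e1
    rcases he a1 h1 with ⟨h, _⟩ | ⟨h, _⟩ <;> rcases he a2 h2 with ⟨h', _⟩ | ⟨h', _⟩
    · rw [h] at e1; rw [h'] at e2
      exact hne (P.coroot.injective (e1.trans e2.symm))
    · rw [h, one_smul] at e1; rw [h', ← e1] at e2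
      have p := congrArg (fun n => P.toLinearMap (P.root a1) n) e2
      simp only [map_smul, smul_eq_mul] at p
      rw [P.root_coroot_two, P.root_coroot_eq_pairing] at p
      have := Groth.Agent.S5492.result P Δ hΔ a2 a1 h2 h1 (Ne.symm hne)
      omega
    · rw [h', one_smul] at e2; rw [h, ← e2] at e1
      have p := congrArg (fun n => P.toLinearMap (P.root a2) n) e1
      simp only [map_smul, smul_eq_mul] at p
      rw [P.root_coroot_two, P.root_coroot_eq_pairing] at p
      have := Groth.Agent.S5492.result P Δ hΔ a1 a2 h1 h2 hne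
      omega
    · rw [h] at e1; rw [h'] at e2
      exact hne (P.coroot.injective (e1.trans e2.symm))
  -- coefficients of coroot k along Δ'
  set d := RD2.coef hΔ' k with hd
  have hdsupp : ↑d.support ⊆ Δ' := RD2.coef_supp hΔ' k
  have hdlc : RD2.LC P.flip d = P.coroot k := RD2.coef_lc hΔ' k
  -- the scaled coefficients
  set c'' : ι →₀ ℤ := Finsupp.equivFunOnFinite.symm (fun a => c a * P.RootForm (P.root a) (P.root a) * e a) with hc''
  have hc''supp : ↑c''.support ⊆ Δ := by
    intro a ha
    apply hc
    rw [Finset.mem_coe, Finsupp.mem_support_iff] at ha ⊢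
    intro h0
    apply ha
    rw [hc'']
    simp [h0]
  have hkey : P.RootForm (P.root k) (P.root k) • d = Finsupp.mapDomain τ c'' := by
    apply RD2.lc_unique P.flip hΔ'.linInd
    · intro a ha
      exact hdsupp (Finsupp.support_smul ha)
    · intro a ha
      have := Finsupp.mapDomain_support ha
      rw [Finset.mem_image] at this
      obtain ⟨b, hb, rfl⟩ := this
      exact hτΔ' b (hc''supp hb)
    · rw [map_smul, hdlc, RD2.LC, Finsupp.linearCombination_mapDomain, P.rootForm_self_smul_coroot, ← hck]
      rw [Finsupp.linearCombination_apply, Finsupp.linearCombination_apply, Finsupp.sum_fintype _ _ (by simp),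
        Finsupp.sum_fintype _ _ (by simp), map_sum, Finset.smul_sum]
      apply Finset.sum_congr rfl
      intro a _
      rw [map_smul, smul_comm, ← P.rootForm_self_smul_coroot]
      by_cases ha : a ∈ Δ
      · rw [hc'']
        simp only [Finsupp.equivFunOnFinite_symm_apply_apply, Function.comp_apply]
        rw [mul_smul, mul_smul]
        congr 2
        exact hτe a ha
      · have h0 : c a = 0 := by
          by_contra h
          exact ha (hc (Finsupp.mem_support_iff.mpr h))
        rw [hc'']
        simp [h0]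
  have hval := DFunLike.congr_fun hkey (τ i)
  rw [Finsupp.mapDomain_apply' Δ c'' hc''supp hτinj hi] at hval
  have hval' : P.RootForm (P.root k) (P.root k) * d (τ i) = c i * P.RootForm (P.root i) (P.root i) * e i := by
    have h1 : c'' i = c i * P.RootForm (P.root i) (P.root i) * e i := by rw [hc'']; simp
    rw [Finsupp.smul_apply, smul_eq_mul, h1] at hval
    exact hval
  constructor
  · rcases he i hi with ⟨h, _⟩ | ⟨h, _⟩
    · rw [h, mul_one] at hval'
      exact ⟨2 * d (τ i), by linear_combination (-2 : ℤ) * hval'⟩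
    · rw [h] at hval'
      exact ⟨d (τ i), by linear_combination (-1 : ℤ) * hval'⟩
  · intro hind
    rcases he i hi with ⟨h, _⟩ | ⟨_, h⟩
    · rw [h, mul_one] at hval'
      exact ⟨d (τ i), by linear_combination (-2 : ℤ) * hval'⟩
    · exact absurd hind h

end Groth.Agent.S5502
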