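import Groth.Statements.S5507
import Groth.Agent.Helper2.RootD7
open Set RootPairing Module
open scoped Pointwise
open Groth.Agent.Helper2
-- import your own Groth.Agent.* helpers here

set_option autoImplicit false
open RootD

namespace Groth.Agent.S5507

/-- For a system of simple roots Δ there are positive integers m_α (the lengths) such that the matrix
(m_α a_{α,β}) with a_{α,β} = (α^v, β) is symmetric and positive definite. -/
theorem result {ι M N : Type*} [AddCommGroup M] [AddCommGroup N]
    (P : RootPairing ι ℤ M N) [Finite ι] (Δ : Finset ι) (hΔ : RootD.IsSimpleSys P (↑Δ : Set ι)) :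
    ∃ m : ↥Δ → ℤ, (∀ a, 0 < m a) ∧
      (Matrix.of fun (a b : ↥Δ) => m a * P.pairing (b : ι) (a : ι)).IsSymm ∧
      (Matrix.of fun (a b : ↥Δ) => m a * P.pairing (b : ι) (a : ι)).PosDef := by
  have : Fintype ι := Fintype.ofFinite ι
  have hentry : ∀ a b : ι, P.RootForm (P.root a) (P.root a) * P.pairing b a = 2 * P.RootForm (P.root a) (P.root b) := by
    intro a b
    have h1 := RD6.two_mul_rootForm P b a
    have h2 := P.rootForm_symmetric.eq (P.root a) (P.root b)
    simp only [RingHom.id_apply] at h2
    rw [h2]; linarith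
  have hsymm : (Matrix.of fun (a b : ↥Δ) => P.RootForm (P.root a) (P.root a) * P.pairing (b : ι) (a : ι)).IsSymm := by
    ext a b
    simp only [Matrix.transpose_apply, Matrix.of_apply]
    rw [hentry, hentry]
    have h2 := P.rootForm_symmetric.eq (P.root a) (P.root b)
    simp only [RingHom.id_apply] at h2
    rw [h2]
  refine ⟨fun a => P.RootForm (P.root a) (P.root a), fun a => RD6.len_pos P a, hsymm, ?_⟩
  apply Matrix.PosDef.of_dotProduct_mulVec_pos
  · rw [Matrix.IsHermitian, Matrix.conjTranspose_eq_transpose_of_trivial]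
    exact hsymm
  · intro x hx
    have h1 : star x ⬝ᵥ (Matrix.of fun (a b : ↥Δ) => P.RootForm (P.root a) (P.root a) * P.pairing (b : ι) (a : ι)).mulVec x
        = 2 * ∑ a : ↥Δ, ∑ b : ↥Δ, x a * x b * P.RootForm (P.root a) (P.root b) := by
      simp only [dotProduct, Matrix.mulVec, star_trivial, Matrix.of_apply, Finset.mul_sum]
      apply Finset.sum_congr rfl
      intro a _
      apply Finset.sum_congr rfl
      intro b _
      rw [hentry]; ring
    rw [h1]
    have := RD7.gram_pos P Δ hΔ.linInd x hx
    omega

end Groth.Agent.S5507
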