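import Groth.Statements.S5580
import Mathlib
import Groth.Agent.Helper2.TF24
open Groth.Agent.Helper2 Groth.Agent.Helper2.TF1 Groth.Agent.Helper2.TF23 Groth.Agent.Helper2.TF24
-- import your own Groth.Agent.* helpers here

set_option autoImplicit false
open CategoryTheory CategoryTheory.Limits Opposite
universe u
open ToposFin

namespace Groth.Agent.S5580

/-- Quasi-compact and coherent cases: for the topos of sheaves of sets on a small site: let (X_i) be a
finite family of objects with coproduct X (given as a colimit cofan) and f : X -> Y a morphism with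
components f_i : X_i -> Y. Then f is quasi-compact (resp. coherent) if and only if every f_i is. -/
theorem result {C : Type u} [SmallCategory C] {J : GrothendieckTopology C}
    {Y : ToposFin.Sh J} {n : ℕ} (X : Fin n → ToposFin.Sh J) (c : Cofan X) (hc : IsColimit c)
    (f : c.pt ⟶ Y) :
    (ToposFin.IsQCHom f ↔ ∀ i, ToposFin.IsQCHom (c.inj i ≫ f)) ∧
    (ToposFin.IsCohHom f ↔ ∀ i, ToposFin.IsCohHom (c.inj i ≫ f)) := by
  let X' : ULift.{u} (Fin n) → ToposFin.Sh J := fun k => X k.down
  let c' : Cofan X' := Cofan.mk c.pt (fun k => c.inj k.down)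
  have hc' : IsColimit c' := mkCofanColimit c'
    (fun s => Cofan.IsColimit.desc hc (fun k => s.inj (ULift.up k)))
    (fun s k => Cofan.IsColimit.fac hc _ k.down)
    (fun s m hm => Cofan.IsColimit.hom_ext hc _ _ (fun k => by
      rw [Cofan.IsColimit.fac]
      exact hm (ULift.up k)))
  have hm : ∀ i, Mono (c.inj i) := fun i => cofan_mono c' hc' (ULift.up i)
  have hinj : ∀ i, ToposFin.IsQCHom (c.inj i) := fun i => by
    have : Mono (c'.inj (ULift.up i)) := hm i
    exact isQCHom_inj c' hc' (ULift.up i)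
  have hqc : ToposFin.IsQCHom f ↔ ∀ i, ToposFin.IsQCHom (c.inj i ≫ f) :=
    ⟨fun h i => isQCHom_comp _ _ (hinj i) h,
      fun h => isQCHom_of_finite_cover f X c.inj (cofan_ljs c hc) h⟩
  have hqs : ToposFin.IsQSHom f ↔ ∀ i, ToposFin.IsQSHom (c.inj i ≫ f) :=
    ⟨fun h i => by
      have := hm i
      exact isQSHom_comp _ _ (isQSHom_of_mono _) h,
      fun h => isQSHom_cofan_desc X' c' hc' f (fun k => h k.down)⟩
  refine ⟨hqc, ?_⟩
  constructor
  · intro h i
    exact ⟨hqc.1 h.1 i, hqs.1 h.2 i⟩
  · intro h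
    exact ⟨hqc.2 (fun i => (h i).1), hqs.2 (fun i => (h i).2)⟩

end Groth.Agent.S5580
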