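import Groth.Statements.S5585
import Mathlib
import Groth.Agent.Helper2.TF16
open Groth.Agent.Helper2 Groth.Agent.Helper2.TF1 Groth.Agent.Helper2.TF13 Groth.Agent.Helper2.TF12 Groth.Agent.Helper2.TF15 Groth.Agent.Helper2.TF11 Groth.Agent.Helper2.TF16
-- import your own Groth.Agent.* helpers here

set_option autoImplicit false
open CategoryTheory CategoryTheory.Limits Opposite
universe u
open ToposFin

namespace Groth.Agent.S5585

/-- For an algebraic topos of sheaves of sets on a small site and a morphism f : X -> Y: if Y is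
quasi-separated (resp. coherent), then X is quasi-separated (resp. coherent) if and only if f is a
quasi-separated (resp. coherent) morphism. -/
theorem result {C : Type u} [SmallCategory C] {J : GrothendieckTopology C}
    (hE : ToposFin.IsAlgebraic J) {X Y : ToposFin.Sh J} (f : X ⟶ Y) :
    (ToposFin.IsQS Y → (ToposFin.IsQS X ↔ ToposFin.IsQSHom f)) ∧
    (ToposFin.IsCoherent Y → (ToposFin.IsCoherent X ↔ ToposFin.IsCohHom f)) := by
  obtain ⟨S, hqc, hgen, hpb, heq⟩ := hE
  constructor
  · intro hY
    exact ⟨fun hX => isQSHom_of_isQS_source hqc hgen hpb heq f hX, fun hf => isQS_of_isQSHom f hf hY⟩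
  · intro hY
    constructor
    · intro hX
      exact ⟨isQCHom_of_qc_of_qs f hX.1 hY.2, isQSHom_of_isQS_source hqc hgen hpb heq f hX.2⟩
    · intro hf
      exact ⟨isQC_of_isQCHom f hf.1 hY.1, isQS_of_isQSHom f hf.2 hY.2⟩

end Groth.Agent.S5585
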