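import Groth.Statements.S5586
import Mathlib
import Groth.Agent.Helper2.TF16
open Groth.Agent.Helper2 Groth.Agent.Helper2.TF1 Groth.Agent.Helper2.TF13 Groth.Agent.Helper2.TF12 Groth.Agent.Helper2.TF15 Groth.Agent.Helper2.TF11 Groth.Agent.Helper2.TF16
-- import your own Groth.Agent.* helpers here

set_option autoImplicit false
open CategoryTheory CategoryTheory.Limits Opposite
universe u
open ToposFin

namespace Groth.Agent.S5586

/-- Quasi-separated and coherent cases: for an algebraic topos of sheaves of sets on a small site: let f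
: X -> Y be a morphism and (Y_i -> Y) a jointly epimorphic family. If the Y_i are quasi-separated
(resp. coherent), then f is quasi-separated (resp. coherent) if and only if every X x_Y Y_i is a
quasi-separated (resp. coherent) object. -/
theorem result {C : Type u} [SmallCategory C]
    {J : GrothendieckTopology C} (hE : ToposFin.IsAlgebraic J) {X Y : ToposFin.Sh J} (f : X ⟶ Y)
    {ι : Type u} (Yi : ι → ToposFin.Sh J) (g : ∀ i, Yi i ⟶ Y)
    (hg : ∀ (Z : ToposFin.Sh J) (a b : Y ⟶ Z), (∀ i, g i ≫ a = g i ≫ b) → a = b) :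
    ((∀ i, ToposFin.IsQS (Yi i)) → (ToposFin.IsQSHom f ↔ ∀ i, ToposFin.IsQS (pullback f (g i)))) ∧
    ((∀ i, ToposFin.IsCoherent (Yi i)) →
      (ToposFin.IsCohHom f ↔ ∀ i, ToposFin.IsCoherent (pullback f (g i)))) := by
  obtain ⟨S, hqc, hgen, hpb, heq⟩ := hE
  have hE' := hasQCGenerators_of_generating hqc hgen
  have hg' : LJS Yi g := JE.ljs hg
  have h1 : (∀ i, ToposFin.IsQS (pullback f (g i))) → ToposFin.IsQSHom f := by
    intro h
    exact isQSHom_of_cover_target hE' f Yi g hg'
      (fun i => isQSHom_of_isQS_source hqc hgen hpb heq _ (h i))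
  constructor
  · intro hY
    constructor
    · intro h i
      exact isQS_of_isQSHom _ (isQSHom_of_isPullback (IsPullback.of_hasPullback f (g i)) h) (hY i)
    · exact h1
  · intro hY
    constructor
    · intro h i
      have hq := isQCHom_of_isPullback (IsPullback.of_hasPullback f (g i)) h.1
      have hs := isQSHom_of_isPullback (IsPullback.of_hasPullback f (g i)) h.2
      exact ⟨isQC_of_isQCHom _ hq (hY i).1, isQS_of_isQSHom _ hs (hY i).2⟩
    · intro h
      refine ⟨?_, h1 (fun i => (h i).2)⟩
      exact isQCHom_of_cover_target hE' f g hg' _ _ _ (fun i => IsPullback.of_hasPullback f (g i))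
        (fun i => isQCHom_of_qc_of_qs _ (h i).1 (hY i).2)

end Groth.Agent.S5586
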