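import Groth.Statements.S5587
import Mathlib
import Groth.Agent.Helper2.TF16
open Groth.Agent.Helper2 Groth.Agent.Helper2.TF1 Groth.Agent.Helper2.TF13 Groth.Agent.Helper2.TF12 Groth.Agent.Helper2.TF15 Groth.Agent.Helper2.TF11 Groth.Agent.Helper2.TF16
-- import your own Groth.Agent.* helpers here

set_option autoImplicit false
open CategoryTheory CategoryTheory.Limits Opposite
universe u
open ToposFin

namespace Groth.Agent.S5587

/-- For a locally coherent topos of sheaves of sets on a small site (given by a generating set of
quasi-compact objects stable under fibre products): a morphism f : X -> Y is quasi-separated if and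
only if for every quasi-separated object Y' over Y the fibre product X x_Y Y' is quasi-separated. -/
theorem result {C : Type u} [SmallCategory C]
    {J : GrothendieckTopology C} (S : Set (ToposFin.Sh J)) (hqc : ∀ K ∈ S, ToposFin.IsQC K)
    (hgen : ToposFin.IsGenerating S) (hpb : ToposFin.ClosedUnderPullbacks S) {X Y : ToposFin.Sh J} (f : X ⟶ Y) :
    ToposFin.IsQSHom f ↔
      ∀ (Y' : ToposFin.Sh J) (g : Y' ⟶ Y), ToposFin.IsQS Y' → ToposFin.IsQS (pullback f g) := by
  have hE := hasQCGenerators_of_generating hqc hgen
  constructor
  · intro h Y' g hY'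
    exact isQS_of_isQSHom _ (isQSHom_of_isPullback (IsPullback.of_hasPullback f g) h) hY'
  · intro h
    obtain ⟨ι, Yi, π, hYi, hπ⟩ := isGenerating_ljs hgen Y
    refine isQSHom_of_cover_target hE f Yi π hπ (fun i => ?_)
    exact isQSHom_to_mem hqc hgen hpb (hYi i) _ (h _ (π i) (isQS_of_mem hqc hgen hpb (hYi i)))

end Groth.Agent.S5587
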