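import Groth.Statements.S5613
import Mathlib
open ZeroObject
-- import your own Groth.Agent.* helpers here

set_option autoImplicit false
universe v u
open CategoryTheory CategoryTheory.Limits CategoryTheory.Pretriangulated
open KZero

namespace Groth.Agent.S5613

/-- Let C be a pretriangulated category, L an object of C and n an integer such that the coproduct ∐_{i
≥ 0} L⟦2ni⟧ exists in C. Then cl(L) = 0 in K₀(C). -/
theorem result {C : Type u} [Category.{v} C] [Preadditive C] [HasZeroObject C]
    [HasShift C ℤ] [∀ n : ℤ, (shiftFunctor C n).Additive] [Pretriangulated C]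
    (L : C) (n : ℤ) [HasCoproduct (fun i : ℕ => (shiftFunctor C (2 * n * (i : ℤ))).obj L)] :
    KZero.clTri L = 0 := by
  have hrel : ∀ X : Triangle C, X ∈ distinguishedTriangles →
      KZero.clTri X.obj₂ = KZero.clTri X.obj₁ + KZero.clTri X.obj₃ := by
    intro X hX
    have : FreeAbelianGroup.of (⟨X.obj₂, trivial⟩ : Subtype (⊤ : ObjectProperty C)) -
        FreeAbelianGroup.of ⟨X.obj₁, trivial⟩ - FreeAbelianGroup.of ⟨X.obj₃, trivial⟩ ∈
        KZero.relTr (⊤ : ObjectProperty C) :=
      AddSubgroup.subset_closure ⟨X, trivial, trivial, trivial, hX, rfl⟩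
    have h2 := (QuotientAddGroup.eq_zero_iff _).mpr this
    rw [QuotientAddGroup.mk_sub, QuotientAddGroup.mk_sub] at h2
    show (QuotientAddGroup.mk (FreeAbelianGroup.of ⟨X.obj₂, trivial⟩) : KZero.K0tri C) =
      QuotientAddGroup.mk (FreeAbelianGroup.of ⟨X.obj₁, trivial⟩) +
        QuotientAddGroup.mk (FreeAbelianGroup.of ⟨X.obj₃, trivial⟩)
    have h3 := sub_eq_zero.mp h2
    rw [sub_eq_iff_eq_add] at h3
    rw [h3, add_comm]
  have hzero : KZero.clTri (0 : C) = 0 := by
    have h := hrel _ (contractible_distinguished (0 : C))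
    simp only [contractibleTriangle, Triangle.mk_obj₁, Triangle.mk_obj₂, Triangle.mk_obj₃] at h
    exact left_eq_add.mp h
  have hiso : ∀ {X Y : C}, (X ≅ Y) → KZero.clTri X = KZero.clTri Y := by
    intro X Y e
    have hT : Triangle.mk e.hom (0 : Y ⟶ 0) 0 ∈ distTriang C := by
      refine isomorphic_distinguished _ (contractible_distinguished X) _
        (Triangle.isoMk _ _ (Iso.refl X) e.symm (Iso.refl (0 : C)) ?_ ?_ ?_)
      · show e.hom ≫ e.inv = 𝟙 X ≫ 𝟙 X
        simp
      · show (0 : Y ⟶ 0) ≫ 𝟙 0 = e.inv ≫ 0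
        simp
      · show (0 : (0 : C) ⟶ (shiftFunctor C (1 : ℤ)).obj X) ≫ (shiftFunctor C (1 : ℤ)).map (𝟙 X) = 𝟙 0 ≫ 0
        simp
    have h := hrel _ hT
    simp only [Triangle.mk_obj₁, Triangle.mk_obj₂, Triangle.mk_obj₃] at h
    rw [h, hzero, add_zero]
  have hshift1 : ∀ X : C, KZero.clTri ((shiftFunctor C (1 : ℤ)).obj X) = - KZero.clTri X := by
    intro X
    have hT := rot_of_distTriang _ (contractible_distinguished X)
    have h := hrel _ hT
    simp only [contractibleTriangle, Triangle.rotate, Triangle.mk_obj₁, Triangle.mk_obj₂,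
      Triangle.mk_obj₃] at h
    rw [hzero] at h
    exact (neg_eq_of_add_eq_zero_right h.symm).symm
  have hstep : ∀ (X : C) (m : ℤ), KZero.clTri ((shiftFunctor C (m + 1)).obj X) =
      - KZero.clTri ((shiftFunctor C m).obj X) := by
    intro X m
    rw [← hshift1]
    exact hiso ((shiftFunctorAdd' C m 1 (m + 1) rfl).app X)
  have hstep2 : ∀ (X : C) (m : ℤ), KZero.clTri ((shiftFunctor C (m + 2)).obj X) =
      KZero.clTri ((shiftFunctor C m).obj X) := by
    intro X m
    have : m + 2 = (m + 1) + 1 := by ring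
    rw [this, hstep, hstep, neg_neg]
  have heven : ∀ (X : C) (k : ℤ), KZero.clTri ((shiftFunctor C (2 * k)).obj X) = KZero.clTri X := by
    intro X k
    induction k using Int.induction_on with
    | zero => exact hiso ((shiftFunctorZero' C (2 * 0) (by simp)).app X)
    | succ i ih =>
      have : 2 * ((i : ℤ) + 1) = 2 * i + 2 := by ring
      rw [this, hstep2, ih]
    | pred i ih =>
      have : 2 * (-(i : ℤ)) = 2 * (-(i : ℤ) - 1) + 2 := by ring
      rw [this, hstep2] at ih
      exact ih
  have hbiprod : ∀ X Y : C, KZero.clTri (X ⊞ Y) = KZero.clTri X + KZero.clTri Y := by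
    intro X Y
    have h := hrel _ (binaryBiproductTriangle_distinguished X Y)
    simpa [binaryBiproductTriangle] using h
  let f : ℕ → C := fun i : ℕ => (shiftFunctor C (2 * n * (i : ℤ))).obj L
  let s := shiftFunctor C (2 * n)
  let e₀ : f 0 ≅ L := (shiftFunctorZero' C (2 * n * ((0 : ℕ) : ℤ)) (by simp)).app L
  let e : ∀ k : ℕ, s.obj (f k) ≅ f (k + 1) := fun k =>
    ((shiftFunctorAdd' C (2 * n * (k : ℤ)) (2 * n) (2 * n * ((k + 1 : ℕ) : ℤ))
      (by push_cast; ring)).app L).symm
  let inj : ∀ i, f i ⟶ L ⊞ s.obj (∐ f) := fun i => match i with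
    | 0 => e₀.hom ≫ biprod.inl
    | k + 1 => (e k).inv ≫ s.map (Sigma.ι f k) ≫ biprod.inr
  have hS : IsColimit (Cofan.mk (s.obj (∐ f)) fun j => s.map (Sigma.ι f j)) :=
    isColimitOfHasCoproductOfPreservesColimit s f
  have hc : IsColimit (Cofan.mk (L ⊞ s.obj (∐ f)) inj) := by
    have hfac : ∀ (t : Cofan f) (k : ℕ), s.map (Sigma.ι f k) ≫
        Cofan.IsColimit.desc hS (fun k => (e k).hom ≫ t.inj (k + 1)) = (e k).hom ≫ t.inj (k + 1) :=
      fun t k => Cofan.IsColimit.fac hS _ k
    refine Cofan.IsColimit.mk _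
      (fun t => biprod.desc (e₀.inv ≫ t.inj 0)
        (Cofan.IsColimit.desc hS (fun k => (e k).hom ≫ t.inj (k + 1)))) ?_ ?_
    · intro t j
      cases j with
      | zero =>
        show (e₀.hom ≫ biprod.inl) ≫ _ = _
        simp
      | succ k =>
        show ((e k).inv ≫ s.map (Sigma.ι f k) ≫ biprod.inr) ≫ _ = _
        simp only [Category.assoc, biprod.inr_desc]
        rw [hfac]
        simp
    · intro t m hm
      apply biprod.hom_ext'
      · have h0 := hm 0
        change (e₀.hom ≫ biprod.inl) ≫ m = _ at h0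
        rw [biprod.inl_desc, ← h0]
        simp
      · rw [biprod.inr_desc]
        apply Cofan.IsColimit.hom_ext hS
        intro k
        show s.map (Sigma.ι f k) ≫ _ = s.map (Sigma.ι f k) ≫ _
        rw [hfac]
        have hk := hm (k + 1)
        change ((e k).inv ≫ s.map (Sigma.ι f k) ≫ biprod.inr) ≫ m = _ at hk
        rw [← hk]
        simp
  have hM : (∐ f) ≅ L ⊞ s.obj (∐ f) := (coproductIsCoproduct f).coconePointUniqueUpToIso hc
  have h1 := hiso hM
  rw [hbiprod, heven (∐ f) n] at h1
  exact left_eq_add.mp (h1.trans (add_comm _ _))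

end Groth.Agent.S5613
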