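import Groth.Statements.S5614
import Mathlib
-- import your own Groth.Agent.* helpers here

set_option autoImplicit false
universe v u
open CategoryTheory CategoryTheory.Limits CategoryTheory.Pretriangulated
open KZero

namespace Groth.Agent.S5614

/-- Let C be a pretriangulated category and S a dense set of objects, meaning that every set of objects
which contains S and which contains the third vertex of a distinguished triangle as soon as it
contains the other two is all of C. Then K₀(C) is generated by the classes of the objects of S. -/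
theorem result {C : Type u} [Category.{v} C] [Preadditive C] [HasZeroObject C]
    [HasShift C ℤ] [∀ n : ℤ, (shiftFunctor C n).Additive] [Pretriangulated C]
    (S : Set C)
    (hdense : ∀ T : Set C, S ⊆ T →
      (∀ tr : Triangle C, tr ∈ distinguishedTriangles →
        (tr.obj₁ ∈ T → tr.obj₂ ∈ T → tr.obj₃ ∈ T) ∧ (tr.obj₁ ∈ T → tr.obj₃ ∈ T → tr.obj₂ ∈ T) ∧
          (tr.obj₂ ∈ T → tr.obj₃ ∈ T → tr.obj₁ ∈ T)) → T = Set.univ) :
    AddSubgroup.closure (KZero.clTri '' S) = (⊤ : AddSubgroup (KZero.K0tri C)) := by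
  set H := AddSubgroup.closure (KZero.clTri '' S) with hH
  have hrel : ∀ X : Triangle C, X ∈ distinguishedTriangles →
      KZero.clTri X.obj₂ = KZero.clTri X.obj₁ + KZero.clTri X.obj₃ := by
    intro X hX
    have : FreeAbelianGroup.of (⟨X.obj₂, trivial⟩ : Subtype (⊤ : ObjectProperty C)) -
        FreeAbelianGroup.of ⟨X.obj₁, trivial⟩ - FreeAbelianGroup.of ⟨X.obj₃, trivial⟩ ∈
        KZero.relTr (⊤ : ObjectProperty C) :=
      AddSubgroup.subset_closure ⟨X, trivial, trivial, trivial, hX, rfl⟩
    have h2 := (QuotientAddGroup.eq_zero_iff _).mpr this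
    rw [QuotientAddGroup.mk_sub, QuotientAddGroup.mk_sub] at h2
    show (QuotientAddGroup.mk (FreeAbelianGroup.of ⟨X.obj₂, trivial⟩) : KZero.K0tri C) =
      QuotientAddGroup.mk (FreeAbelianGroup.of ⟨X.obj₁, trivial⟩) +
        QuotientAddGroup.mk (FreeAbelianGroup.of ⟨X.obj₃, trivial⟩)
    have h3 := sub_eq_zero.mp h2
    rw [sub_eq_iff_eq_add] at h3
    rw [h3, add_comm]
  have hT := hdense {X | KZero.clTri X ∈ H} (fun X hX => AddSubgroup.subset_closure ⟨X, hX, rfl⟩) (by
    intro X hX
    have e := hrel X hX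
    refine ⟨fun h1 h2 => ?_, fun h1 h3 => ?_, fun h2 h3 => ?_⟩
    · show KZero.clTri X.obj₃ ∈ H
      have : KZero.clTri X.obj₃ = KZero.clTri X.obj₂ - KZero.clTri X.obj₁ := by rw [e]; abel
      rw [this]; exact H.sub_mem h2 h1
    · show KZero.clTri X.obj₂ ∈ H
      rw [e]; exact H.add_mem h1 h3
    · show KZero.clTri X.obj₁ ∈ H
      have : KZero.clTri X.obj₁ = KZero.clTri X.obj₂ - KZero.clTri X.obj₃ := by rw [e]; abel
      rw [this]; exact H.sub_mem h2 h3)
  rw [eq_top_iff]
  intro z _
  obtain ⟨y, rfl⟩ := QuotientAddGroup.mk_surjective z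
  clear * - hT
  induction y using FreeAbelianGroup.induction_on with
  | zero => exact H.zero_mem
  | of X =>
    have : X.1 ∈ {X | KZero.clTri X ∈ H} := by rw [hT]; trivial
    exact this
  | neg X hX =>
    rw [QuotientAddGroup.mk_neg]; exact H.neg_mem hX
  | add a b ha hb =>
    rw [QuotientAddGroup.mk_add]; exact H.add_mem ha hb

end Groth.Agent.S5614
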