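import Groth.Statements.S5615
import Mathlib
-- import your own Groth.Agent.* helpers here

set_option autoImplicit false
universe v u
open CategoryTheory CategoryTheory.Limits
open KZero

namespace Groth.Agent.S5615

/-- Let A be an abelian category and S a dense set of objects, meaning that every set of objects which
contains S and which contains the third term of a short exact sequence as soon as it contains the
other two is all of A. Then K₀(A) is generated by the classes of the objects of S. -/
theorem result {A : Type u} [Category.{v} A] [Abelian A] (S : Set A)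
    (hdense : ∀ T : Set A, S ⊆ T →
      (∀ X : ShortComplex A, X.ShortExact →
        (X.X₁ ∈ T → X.X₂ ∈ T → X.X₃ ∈ T) ∧ (X.X₁ ∈ T → X.X₃ ∈ T → X.X₂ ∈ T) ∧
          (X.X₂ ∈ T → X.X₃ ∈ T → X.X₁ ∈ T)) → T = Set.univ) :
    AddSubgroup.closure (KZero.cl '' S) = (⊤ : AddSubgroup (KZero.K0 A)) := by
  set H := AddSubgroup.closure (KZero.cl '' S) with hH
  have hrel : ∀ X : ShortComplex A, X.ShortExact → KZero.cl X.X₂ = KZero.cl X.X₁ + KZero.cl X.X₃ := by
    intro X hX
    have : FreeAbelianGroup.of X.X₂ - FreeAbelianGroup.of X.X₁ - FreeAbelianGroup.of X.X₃ ∈ KZero.relAb A :=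
      AddSubgroup.subset_closure ⟨X, hX, rfl⟩
    have h2 := (QuotientAddGroup.eq_zero_iff _).mpr this
    rw [QuotientAddGroup.mk_sub, QuotientAddGroup.mk_sub] at h2
    show (QuotientAddGroup.mk (FreeAbelianGroup.of X.X₂) : KZero.K0 A) = QuotientAddGroup.mk (FreeAbelianGroup.of X.X₁) + QuotientAddGroup.mk (FreeAbelianGroup.of X.X₃)
    have h3 := sub_eq_zero.mp h2
    rw [sub_eq_iff_eq_add] at h3
    rw [h3, add_comm]
  have hT := hdense {X | KZero.cl X ∈ H} (fun X hX => AddSubgroup.subset_closure ⟨X, hX, rfl⟩) (by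
    intro X hX
    have e := hrel X hX
    refine ⟨fun h1 h2 => ?_, fun h1 h3 => ?_, fun h2 h3 => ?_⟩
    · show KZero.cl X.X₃ ∈ H
      have : KZero.cl X.X₃ = KZero.cl X.X₂ - KZero.cl X.X₁ := by rw [e]; abel
      rw [this]; exact H.sub_mem h2 h1
    · show KZero.cl X.X₂ ∈ H
      rw [e]; exact H.add_mem h1 h3
    · show KZero.cl X.X₁ ∈ H
      have : KZero.cl X.X₁ = KZero.cl X.X₂ - KZero.cl X.X₃ := by rw [e]; abel
      rw [this]; exact H.sub_mem h2 h3)
  rw [eq_top_iff]
  intro z _
  obtain ⟨y, rfl⟩ := QuotientAddGroup.mk_surjective z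
  clear * - hT
  induction y using FreeAbelianGroup.induction_on with
  | zero => exact H.zero_mem
  | of X =>
    have : X ∈ {X | KZero.cl X ∈ H} := by rw [hT]; trivial
    exact this
  | neg X hX =>
    rw [QuotientAddGroup.mk_neg]; exact H.neg_mem hX
  | add a b ha hb =>
    rw [QuotientAddGroup.mk_add]; exact H.add_mem ha hb

end Groth.Agent.S5615
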