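import Groth.Statements.S5616
import Groth.Agent.Helper1.ExtEfface

set_option autoImplicit false
universe w w' v v' u u'
open CategoryTheory CategoryTheory.Limits
open CohDer

namespace Groth.Agent.S5616

/-- Let φ : A ⥤ B be an exact functor of abelian categories and M an object of A. The following are
equivalent: (i) for every L in A and every n, the map Ext^n_A(L, M) → Ext^n_B(φ L, φ M) induced by φ
is bijective; (ii) for every L the map Hom_A(L, M) → Hom_B(φ L, φ M) is bijective, and for every L,
every n ≥ 1 and every x ∈ Ext^n_B(φ L, φ M) there is an epimorphism L' ⟶ L of A such that x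
precomposed with its image under φ vanishes. -/
theorem result
    {A : Type u} [Category.{v} A] [Abelian A] [HasExt.{w} A]
    {B : Type u'} [Category.{v'} B] [Abelian B] [HasExt.{w'} B]
    (φ : A ⥤ B) [φ.Additive] [PreservesFiniteLimits φ] [PreservesFiniteColimits φ] (M : A) :
    (∀ (L : A) (n : ℕ), Function.Bijective (fun f : Abelian.Ext.{w} L M n => Abelian.Ext.mapExactFunctor φ f)) ↔
      ((∀ L : A, Function.Bijective (fun f : L ⟶ M => φ.map f)) ∧
        ∀ (L : A) (n : ℕ), 1 ≤ n → ∀ x : Abelian.Ext.{w'} (φ.obj L) (φ.obj M) n,
          ∃ (L' : A) (p : L' ⟶ L), Epi p ∧ (Abelian.Ext.mk₀ (φ.map p)).comp x (zero_add n) = 0) := by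
  classical
  constructor
  · intro hbij
    refine ⟨fun L => ?_, fun L n hn x => ?_⟩
    · have h0 := hbij L 0
      have e := Abelian.Ext.mapExactFunctor₀ (F := φ) L M
      have e' : (fun f : L ⟶ M => φ.map f) =
          Abelian.Ext.homEquiv₀ ∘ (fun f : Abelian.Ext.{w} L M 0 => Abelian.Ext.mapExactFunctor φ f)
            ∘ Abelian.Ext.homEquiv₀.symm := by
        funext f
        have := congrFun e (Abelian.Ext.homEquiv₀.symm f)
        simp only [Function.comp_apply, Equiv.apply_symm_apply] at this
        simp only [Function.comp_apply, this, Equiv.apply_symm_apply]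
      rw [e']
      exact Abelian.Ext.homEquiv₀.bijective.comp (h0.comp Abelian.Ext.homEquiv₀.symm.bijective)
    · obtain ⟨y, rfl⟩ := (hbij L n).2 x
      obtain ⟨L', p, hp, hy⟩ := Groth.Agent.Helper1.ExtEfface.exists_epi_comp_eq_zero hn y
      refine ⟨L', p, hp, ?_⟩
      have := congrArg (fun z => Abelian.Ext.mapExactFunctor φ z) hy
      simp only [Abelian.Ext.mapExactFunctor_comp, Abelian.Ext.mapExactFunctor_mk₀,
        Abelian.Ext.mapExactFunctor_zero] at this
      exact this
  · rintro ⟨hhom, heff⟩
    intro L n
    induction n generalizing L with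
    | zero =>
      have e := Abelian.Ext.mapExactFunctor₀ (F := φ) L M
      show Function.Bijective (Abelian.Ext.mapExactFunctor φ (X := L) (Y := M) (n := 0))
      rw [e]
      exact Abelian.Ext.homEquiv₀.symm.bijective.comp ((hhom L).comp Abelian.Ext.homEquiv₀.bijective)
    | succ n ih =>
      constructor
      · -- injectivity
        show Function.Injective (φ.mapExtAddHom L M (n + 1))
        rw [injective_iff_map_eq_zero]
        intro y hy
        rw [Functor.mapExtAddHom_apply] at hy
        obtain ⟨L', p, hp, hpy⟩ := Groth.Agent.Helper1.ExtEfface.exists_epi_comp_eq_zero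
          (n := n + 1) (by omega) y
        have hS : (ShortComplex.mk (kernel.ι p) p (kernel.condition p)).ShortExact :=
          { exact := ShortComplex.exact_kernel p }
        obtain ⟨z, rfl⟩ := Abelian.Ext.contravariant_sequence_exact₃ hS M y hpy (n₀ := n) (by omega)
        rw [Abelian.Ext.mapExactFunctor_comp, Abelian.Ext.mapExactFunctor_extClass] at hy
        obtain ⟨w', hw'⟩ := Abelian.Ext.contravariant_sequence_exact₁ (hS.map_of_exact φ) (φ.obj M)
          (Abelian.Ext.mapExactFunctor φ z) (by omega) hy
        obtain ⟨w0, rfl⟩ := (ih L').2 w'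
        have hz : z = (Abelian.Ext.mk₀ (kernel.ι p)).comp w0 (zero_add n) := by
          apply (ih (kernel p)).1
          show Abelian.Ext.mapExactFunctor φ z = Abelian.Ext.mapExactFunctor φ _
          rw [Abelian.Ext.mapExactFunctor_comp, Abelian.Ext.mapExactFunctor_mk₀]
          exact hw'.symm
        rw [hz]
        exact hS.extClass_comp_assoc w0
      · -- surjectivity
        intro x
        obtain ⟨L', p, hp, hpx⟩ := heff L (n + 1) (by omega) x
        have hS : (ShortComplex.mk (kernel.ι p) p (kernel.condition p)).ShortExact :=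
          { exact := ShortComplex.exact_kernel p }
        obtain ⟨z', hz'⟩ := Abelian.Ext.contravariant_sequence_exact₃ (hS.map_of_exact φ) (φ.obj M)
          x hpx (n₀ := n) (by omega)
        obtain ⟨z, rfl⟩ := (ih (kernel p)).2 z'
        refine ⟨hS.extClass.comp z (by omega), ?_⟩
        show Abelian.Ext.mapExactFunctor φ _ = x
        rw [Abelian.Ext.mapExactFunctor_comp, Abelian.Ext.mapExactFunctor_extClass]
        exact hz'

end Groth.Agent.S5616
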