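import Groth.Statements.S5625
import Groth.Agent.Helper4.QcohGlue
import Groth.Agent.Lead.StalkPull
import Mathlib

set_option autoImplicit false
universe u
open CategoryTheory AlgebraicGeometry
open QCohCat

namespace Groth.Agent.S5625


/-- Let f : X ⟶ Y be a morphism of quasi-compact quasi-separated schemes and Q_X, Q_Y coherators (right
adjoints of the inclusions QCoh ⥤ Mod) on X and Y. Then Q_Y ∘ f_* and f_* ∘ Q_X agree: the two
composite functors Mod(O_X) ⥤ Mod(O_Y) are naturally isomorphic (existence of a natural isomorphism;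
the source's isomorphism is the canonical one between two right adjoints of the same functor). -/
theorem result {X Y : Scheme.{u}} [CompactSpace X] [QuasiSeparatedSpace X]
    [CompactSpace Y] [QuasiSeparatedSpace Y] (f : X ⟶ Y)
    (QX : X.Modules ⥤ QCohCat.QCoh X) (adjX : (QCohCat.isQCoh X).ι ⊣ QX)
    (QY : Y.Modules ⥤ QCohCat.QCoh Y) (adjY : (QCohCat.isQCoh Y).ι ⊣ QY) :
    Nonempty ((QX ⋙ (QCohCat.isQCoh X).ι ⋙ Scheme.Modules.pushforward f) ≅
      (Scheme.Modules.pushforward f ⋙ QY ⋙ (QCohCat.isQCoh Y).ι)) := by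

  haveI : QuasiSeparated (f ≫ Limits.terminal.from Y) := by
    have : f ≫ Limits.terminal.from Y = Limits.terminal.from X := Limits.terminal.hom_ext _ _
    rw [this]
    exact (quasiSeparatedSpace_iff_quasiSeparated X).1 inferInstance
  haveI : QuasiSeparated f := QuasiSeparated.of_comp f (Limits.terminal.from Y)
  haveI : QuasiCompact f := inferInstance
  let P' : QCohCat.QCoh X ⥤ QCohCat.QCoh Y :=
    ObjectProperty.lift (QCohCat.isQCoh Y)
      ((QCohCat.isQCoh X).ι ⋙ Scheme.Modules.pushforward f)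
      (fun M => by
        haveI : M.obj.IsQuasicoherent := M.property
        exact Groth.Agent.Helper4.QcohGlue.isQuasicoherent_pushforward f M.obj)
  let L' : QCohCat.QCoh Y ⥤ QCohCat.QCoh X :=
    ObjectProperty.lift (QCohCat.isQCoh X)
      ((QCohCat.isQCoh Y).ι ⋙ Scheme.Modules.pullback f)
      (fun M => by
        haveI : M.obj.IsQuasicoherent := M.property
        exact Groth.Agent.Lead.StalkPull.isQuasicoherent_pullbackObj f M.obj)
  let adj' : L' ⊣ P' := (Scheme.Modules.pullbackPushforwardAdjunction f).restrictFullyFaithful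
    (ObjectProperty.fullyFaithfulι _) (ObjectProperty.fullyFaithfulι _) (Iso.refl _) (Iso.refl _)
  let adj1 : ((QCohCat.isQCoh Y).ι ⋙ Scheme.Modules.pullback f) ⊣
      (Scheme.Modules.pushforward f ⋙ QY) :=
    adjY.comp (Scheme.Modules.pullbackPushforwardAdjunction f)
  let adj2 : (L' ⋙ (QCohCat.isQCoh X).ι) ⊣ (QX ⋙ P') := adj'.comp adjX
  let eL : L' ⋙ (QCohCat.isQCoh X).ι ≅ (QCohCat.isQCoh Y).ι ⋙ Scheme.Modules.pullback f :=
    ObjectProperty.liftCompιIso _ _ _
  let e : (Scheme.Modules.pushforward f ⋙ QY) ≅ (QX ⋙ P') := conjugateIsoEquiv adj1 adj2 eL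
  exact ⟨(Functor.isoWhiskerLeft QX (ObjectProperty.liftCompιIso _ _ _).symm) ≪≫
    (Functor.associator _ _ _).symm ≪≫ Functor.isoWhiskerRight e.symm (QCohCat.isQCoh Y).ι ≪≫
    Functor.associator _ _ _⟩

end Groth.Agent.S5625
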