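import Groth.Statements.S5656
import Mathlib
import Groth.Agent.Helper2.PolyMapQ
open Groth.Agent.Helper2
-- import your own Groth.Agent.* helpers here

set_option autoImplicit false
universe u
open W4sga6xxiii

namespace Groth.Agent.S5656

/-- Let G be an abelian group and G' ⊆ G a subgroup which is divisible by some prime number p (every
element of G' is p times an element of G') and such that G/G' is a torsion group. Then every
polynomial map f : G → ℚ (admitting binomial expansions f(Σ n_i x_i) = Σ_k Π_i C(n_i, k_i) y_k along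
every finite sequence x) which takes only integer values is constant. -/
theorem result {G : Type u} [AddCommGroup G] (G' : AddSubgroup G)
    (p : ℕ) (hp : p.Prime) (hdiv : ∀ x ∈ G', ∃ y ∈ G', p • y = x) (htor : ∀ x : G, ∃ n : ℤ, n ≠ 0 ∧ n • x ∈ G')
    (f : G → ℚ) (hf : W4sga6xxiii.IsPolyMap f) (hint : ∀ x, ∃ z : ℤ, f x = z) (x : G) : f x = f 0 := by
  classical
  open Polynomial in
  -- divisibility by powers of `p`
  have hdivpow : ∀ e : ℕ, ∀ y ∈ G', ∃ y' ∈ G', (p ^ e) • y' = y := by
    intro e
    induction e with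
    | zero => intro y hy; exact ⟨y, hy, by simp⟩
    | succ e ih =>
      intro y hy
      obtain ⟨y₁, hy₁, h₁⟩ := ih y hy
      obtain ⟨y₂, hy₂, h₂⟩ := hdiv y₁ hy₁
      refine ⟨y₂, hy₂, ?_⟩
      rw [pow_succ, mul_smul, h₂, h₁]
  -- Step 1: `f` is invariant under translation by `G'`
  have step1 : ∀ z : G, ∀ y ∈ G', f (z + y) = f z := by
    intro z y hy
    obtain ⟨P, hP⟩ := PolyMapQ.exists_polynomial f hf z y
    by_cases hd : P.natDegree = 0
    · have h0 := hP 0
      have h1 := hP 1
      rw [Polynomial.eq_C_of_natDegree_eq_zero hd] at h0 h1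
      simp only [Polynomial.eval_C, zero_smul, add_zero, one_smul] at h0 h1
      rw [← h1, h0]
    · exfalso
      set d := P.natDegree with hd'
      have hlc : P.leadingCoeff ≠ 0 := by
        intro h
        rw [Polynomial.leadingCoeff_eq_zero] at h
        rw [h] at hd'
        simp at hd'
        exact hd hd'
      set c : ℚ := P.leadingCoeff * (d.factorial : ℚ) with hc
      have hc0 : c ≠ 0 := mul_ne_zero hlc (by exact_mod_cast Nat.factorial_ne_zero d)
      obtain ⟨e, he⟩ := exists_nat_gt |c|
      obtain ⟨y', hy', hyy'⟩ := hdivpow e y hy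
      obtain ⟨R, hR⟩ := PolyMapQ.exists_polynomial f hf z y'
      have hpe : ((p : ℚ) ^ e) ≠ 0 := pow_ne_zero _ (by exact_mod_cast hp.ne_zero)
      have hcomp : P = R.comp (Polynomial.C ((p : ℚ) ^ e) * Polynomial.X) := by
        apply Polynomial.eq_of_infinite_eval_eq
        apply Set.Infinite.mono (s := Set.range (Int.cast : ℤ → ℚ))
        · rintro _ ⟨n, rfl⟩
          show P.eval (n : ℚ) = (R.comp _).eval (n : ℚ)
          rw [Polynomial.eval_comp, Polynomial.eval_mul, Polynomial.eval_C, Polynomial.eval_X, hP]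
          have : ((p : ℚ) ^ e) * (n : ℚ) = (((p ^ e : ℕ) * n : ℤ) : ℚ) := by push_cast; ring
          rw [this, hR]
          congr 2
          rw [← hyy', mul_smul, smul_comm]
          norm_cast
        · exact Set.infinite_range_of_injective Int.cast_injective
      have hq1 : (Polynomial.C ((p : ℚ) ^ e) * Polynomial.X).natDegree = 1 :=
        Polynomial.natDegree_C_mul_X _ hpe
      have hdR : R.natDegree = d := by
        have := Polynomial.natDegree_comp (p := R) (q := Polynomial.C ((p : ℚ) ^ e) * Polynomial.X)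
        rw [← hcomp, hq1, mul_one] at this
        exact this.symm
      have hlcR : P.leadingCoeff = R.leadingCoeff * ((p : ℚ) ^ e) ^ d := by
        conv_lhs => rw [hcomp]
        rw [Polynomial.leadingCoeff_comp (by rw [hq1]; exact one_ne_zero),
          Polynomial.leadingCoeff_C_mul_X, hdR]
      obtain ⟨t, ht⟩ := PolyMapQ.exists_int_factorial_mul_leadingCoeff R (fun n => by
        obtain ⟨s, hs⟩ := hint (z + n • y')
        exact ⟨s, by rw [hR, hs]⟩)
      rw [hdR] at ht
      have hct : c = t * ((p : ℚ) ^ e) ^ d := by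
        rw [hc, hlcR, ← ht]; ring
      have ht0 : t ≠ 0 := by
        rintro rfl
        apply hc0
        rw [hct]; simp
      have h1 : (1 : ℚ) ≤ |(t : ℚ)| := by
        have : (1 : ℤ) ≤ |t| := Int.one_le_abs ht0
        exact_mod_cast this
      have h2 : (e : ℚ) < ((p : ℚ) ^ e) ^ d := by
        have hp2 : (2 : ℚ) ≤ p := by exact_mod_cast hp.two_le
        have h3 : (e : ℚ) < (2 : ℚ) ^ e := by exact_mod_cast Nat.lt_two_pow_self
        have h4 : (2 : ℚ) ^ e ≤ (p : ℚ) ^ e := pow_le_pow_left₀ (by norm_num) hp2 e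
        have h5 : (1 : ℚ) ≤ (p : ℚ) ^ e := one_le_pow₀ (by linarith)
        have h6 : (p : ℚ) ^ e ≤ ((p : ℚ) ^ e) ^ d :=
          le_self_pow₀ h5 hd
        linarith
      have h3 : |c| = |(t : ℚ)| * ((p : ℚ) ^ e) ^ d := by
        rw [hct, abs_mul, abs_of_nonneg (by positivity : (0 : ℚ) ≤ ((p : ℚ) ^ e) ^ d)]
      have h4 : ((p : ℚ) ^ e) ^ d ≤ |c| := by
        rw [h3]
        have hpos : (0 : ℚ) ≤ ((p : ℚ) ^ e) ^ d := by positivity
        nlinarith
      linarith
  -- Step 2
  obtain ⟨N, hN0, hN⟩ := htor x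
  obtain ⟨P, hP⟩ := PolyMapQ.exists_polynomial f hf 0 x
  have hroots : ∀ k : ℤ, P.eval ((k * N : ℤ) : ℚ) = f 0 := by
    intro k
    rw [hP, zero_add, mul_smul]
    have := step1 0 (k • N • x) (G'.zsmul_mem hN k)
    rwa [zero_add] at this
  have hPC : P = Polynomial.C (f 0) := by
    apply Polynomial.eq_of_infinite_eval_eq
    apply Set.Infinite.mono (s := Set.range (fun k : ℤ => ((k * N : ℤ) : ℚ)))
    · rintro _ ⟨k, rfl⟩
      show P.eval _ = (Polynomial.C (f 0)).eval _
      rw [Polynomial.eval_C]
      exact hroots k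
    · apply Set.infinite_range_of_injective
      intro a b hab
      have hab' : ((a * N : ℤ) : ℚ) = ((b * N : ℤ) : ℚ) := hab
      have : a * N = b * N := by exact_mod_cast hab'
      exact mul_right_cancel₀ hN0 this
  have h1 := hP 1
  rw [hPC, Polynomial.eval_C, zero_add, one_smul] at h1
  exact h1.symm

end Groth.Agent.S5656
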