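import Groth.Statements.S5657
import Groth.Agent.Helper2.BinomSeries
-- import your own Groth.Agent.* helpers here

set_option autoImplicit false
universe u
open TensorProduct
open W4sga6xxiii

namespace Groth.Agent.S5657

/-- Let A be a commutative ring, I an ideal of A with I^{m+1} = 0, and P ⊆ Aˣ the subgroup of units of
the form 1 + y with y ∈ I. Then the map P → A ⊗_ℤ ℚ, x ↦ x ⊗ 1, is a polynomial map of degree ≤ m on
the abelian group P (written additively): along every finite sequence x_1, …, x_r in P one has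
x_1^{n_1}⋯x_r^{n_r} ⊗ 1 = Σ_k Π_i C(n_i, k_i) y_k with y_k = 0 whenever k_1 + ⋯ + k_r > m. -/
theorem result (A : Type u) [CommRing A] (I : Ideal A) (m : ℕ) (hI : I ^ (m + 1) = ⊥)
    (P : Subgroup Aˣ) (hP : ∀ u : Aˣ, u ∈ P ↔ (u : A) - 1 ∈ I) :
    W4sga6xxiii.IsPolyMapLE (fun u : Additive P => (((Additive.toMul u : P) : Aˣ) : A) ⊗ₜ[ℤ] (1 : ℚ)) m := by
  intro r x
  set y : Fin r → A := fun i => (((Additive.toMul (x i) : P) : Aˣ) : A) - 1 with hy
  have hyI : ∀ i, y i ∈ I := fun i => (hP _).1 (Additive.toMul (x i)).2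
  have hpow : ∀ i, y i ^ (m+1) = 0 := by
    intro i
    have : y i ^ (m+1) ∈ I ^ (m+1) := Ideal.pow_mem_pow (hyI i) _
    rw [hI] at this
    exact this
  refine ⟨fun k => (∏ i, y i ^ (k i : ℕ)) ⊗ₜ[ℤ] (1 : ℚ), ?_, ?_⟩
  · intro k hk
    have h1 : (∏ i, y i ^ (k i : ℕ)) ∈ I ^ (∑ i, (k i : ℕ)) := by
      rw [← Finset.prod_pow_eq_pow_sum]
      exact Ideal.prod_mem_prod (fun i _ => Ideal.pow_mem_pow (hyI i) _)
    have h2 : I ^ (∑ i, (k i : ℕ)) ≤ I ^ (m+1) := Ideal.pow_le_pow_right hk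
    have h3 := h2 h1
    rw [hI] at h3
    show (∏ i, y i ^ (k i : ℕ)) ⊗ₜ[ℤ] (1 : ℚ) = 0
    rw [(Submodule.mem_bot A).1 h3, zero_tmul]
  · intro n
    have hval : ((((Additive.toMul (∑ i, n i • x i) : P) : Aˣ) : A))
        = ∏ i, Groth.Agent.Helper2.BinomSeries.E m (y i) (n i) := by
      rw [toMul_sum]
      simp only [toMul_zsmul]
      rw [Subgroup.val_finsetProd, Units.coe_prod]
      refine Finset.prod_congr rfl (fun i _ => ?_)
      rw [Subgroup.coe_zpow]
      exact Groth.Agent.Helper2.BinomSeries.val_zpow m _ (y i) (by simp [hy]) (hpow i) (n i)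
    show ((((Additive.toMul (∑ i, n i • x i) : P) : Aˣ) : A)) ⊗ₜ[ℤ] (1:ℚ) = _
    rw [hval]
    unfold Groth.Agent.Helper2.BinomSeries.E
    simp only [Finset.sum_range (fun k => Ring.choose (n _) k • y _ ^ k)]
    rw [Finset.prod_univ_sum, Fintype.piFinset_univ, sum_tmul]
    refine Finset.sum_congr rfl (fun k _ => ?_)
    have h4 : ∏ i, (Ring.choose (n i) (k i : ℕ) • y i ^ (k i : ℕ))
        = (∏ i, Ring.choose (n i) (k i : ℕ)) • ∏ i, y i ^ (k i : ℕ) := by
      simp only [zsmul_eq_mul, Finset.prod_mul_distrib, Int.cast_prod]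
    rw [h4, smul_tmul']

end Groth.Agent.S5657
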