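import Groth.Statements.S5658
import Groth.Agent.Helper4.SLCommE
import Mathlib

set_option autoImplicit false
universe u
open CAlg

namespace Groth.Agent.S5658


/-- On the big étale site of a scheme the sheaf of commutator subgroups of Gl(n) is Sl(n) = Ker(det).
Concretely: let A be a commutative ring, n ≥ 0, s ∈ SL_n(A) and p a prime ideal of A. Then there are
an étale A-algebra A' with a prime ideal lying over p such that the image of s in GL_n(A') lies in
the commutator subgroup of GL_n(A'). (The inclusion of commutators in SL_n being clear, this is the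
content of the statement.) -/
theorem result (A : Type u) [CommRing A] (n : ℕ)
    (s : Matrix.SpecialLinearGroup (Fin n) A) (p : PrimeSpectrum A) :
    ∃ (A' : Type u) (_ : CommRing A') (_ : Algebra A A'), Algebra.Etale A A' ∧
      (∃ q : PrimeSpectrum A', q.asIdeal.comap (algebraMap A A') = p.asIdeal) ∧
      (Matrix.GeneralLinearGroup.map (algebraMap A A')) (Matrix.SpecialLinearGroup.toGL s) ∈
        commutator (Matrix.GeneralLinearGroup (Fin n) A') := by

  obtain ⟨f₀, hf₀, H⟩ := Groth.Agent.Helper4.SLCommC.main n (Fin n) (by simp) A p.asIdeal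
    s.val s.property
  obtain ⟨A', _, _, het, hq, hunit, u, hu, hu1⟩ :=
    Groth.Agent.Helper4.SLCommE.exists_etale A p.asIdeal f₀ hf₀
  refine ⟨A', inferInstance, inferInstance, het, hq, ?_⟩
  have hmem := H A' (algebraMap A A') hunit
  obtain ⟨g, hg, hgM⟩ := Groth.Agent.Helper4.SLCommD.mem_commutator_of_mem_T u hu hu1 hmem
  have : Matrix.GeneralLinearGroup.map (algebraMap A A') (Matrix.SpecialLinearGroup.toGL s) = g := by
    apply Units.ext
    rw [hgM]
    rfl
  rw [this]; exact hg

end Groth.Agent.S5658
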