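import Groth.Statements.S5659
import Groth.Agent.Helper4.SLCommJ
import Mathlib

set_option autoImplicit false
universe u
open CAlg

namespace Groth.Agent.S5659


/-- Every homomorphism of group sheaves Gl(n_1) × ⋯ × Gl(n_r) → G_m is (s_1, …, s_r) ↦ det(s_1)^{m_1} ⋯
det(s_r)^{m_r} with locally constant integers m_i uniquely determined by it. Concretely, over a
commutative ring R whose prime spectrum is connected and for ranks n_i ≥ 1: every family of group
homomorphisms α_B : GL_{n_1}(B) × ⋯ × GL_{n_r}(B) → Bˣ, one for each commutative R-algebra B and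
natural in B, is given by α_B(s) = Π_i det(s_i)^{m_i} for a unique m ∈ ℤ^r. (The published statement
allows ranks n_i ≥ 0; uniqueness of m_i needs n_i ≥ 1, since Gl(0) is trivial.) -/
theorem result (R : Type u) [CommRing R] [ConnectedSpace (PrimeSpectrum R)]
    (r : ℕ) (n : Fin r → ℕ) (hn : ∀ i, 0 < n i)
    (α : ∀ (B : Type u) [CommRing B] [Algebra R B], (∀ i, Matrix.GeneralLinearGroup (Fin (n i)) B) →* Bˣ)
    (hα : ∀ (B C : Type u) [CommRing B] [Algebra R B] [CommRing C] [Algebra R C] (φ : B →ₐ[R] C)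
      (s : ∀ i, Matrix.GeneralLinearGroup (Fin (n i)) B),
      α C (fun i => Matrix.GeneralLinearGroup.map φ.toRingHom (s i)) = Units.map (φ.toRingHom : B →* C) (α B s)) :
    ∃! m : Fin r → ℤ, ∀ (B : Type u) [CommRing B] [Algebra R B] (s : ∀ i, Matrix.GeneralLinearGroup (Fin (n i)) B),
      α B s = ∏ i, Matrix.GeneralLinearGroup.det (s i) ^ (m i) := by

  classical
  haveI : Nontrivial R := by
    have : Nonempty (PrimeSpectrum R) := inferInstance
    exact (PrimeSpectrum.nonempty_iff_nontrivial).1 this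
  -- the one–factor characters
  have hnat : ∀ i : Fin r, ∀ (B C : Type u) [CommRing B] [Algebra R B] [CommRing C] [Algebra R C]
      (φ : B →ₐ[R] C) (g : Matrix.GeneralLinearGroup (Fin (n i)) B),
      ((α C).comp (MonoidHom.mulSingle (fun i => Matrix.GeneralLinearGroup (Fin (n i)) C) i))
        (Matrix.GeneralLinearGroup.map φ.toRingHom g) =
      Units.map (φ.toRingHom : B →* C)
        (((α B).comp (MonoidHom.mulSingle (fun i => Matrix.GeneralLinearGroup (Fin (n i)) B) i)) g) := by
    intro i B C _ _ _ _ φ g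
    have h1 := hα B C φ (Pi.mulSingle i g)
    have h2 : (fun j => Matrix.GeneralLinearGroup.map φ.toRingHom
        ((Pi.mulSingle i g : ∀ i, Matrix.GeneralLinearGroup (Fin (n i)) B) j)) =
        Pi.mulSingle i (Matrix.GeneralLinearGroup.map φ.toRingHom g) := by
      funext j
      by_cases hj : j = i
      · subst hj; simp
      · simp [Pi.mulSingle_eq_of_ne hj]
    rw [h2] at h1
    exact h1
  have hex : ∀ i : Fin r, ∃ m : ℤ, ∀ (B : Type u) [CommRing B] [Algebra R B]
      (g : Matrix.GeneralLinearGroup (Fin (n i)) B),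
      α B (Pi.mulSingle i g) = (Matrix.GeneralLinearGroup.det g) ^ m := fun i =>
    Groth.Agent.Helper4.SLCommJ.exists_det_zpow R (n i) (hn i)
      (fun B _ _ => (α B).comp (MonoidHom.mulSingle (fun i => Matrix.GeneralLinearGroup (Fin (n i)) B) i))
      (fun B C _ _ _ _ φ g => hnat i B C φ g)
  choose m hm using hex
  -- the product formula on single factors
  have hsingle : ∀ (m' : Fin r → ℤ) (B : Type u) [CommRing B] [Algebra R B] (i : Fin r)
      (g : Matrix.GeneralLinearGroup (Fin (n i)) B),
      ∏ j, Matrix.GeneralLinearGroup.det ((Pi.mulSingle i g :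
        ∀ i, Matrix.GeneralLinearGroup (Fin (n i)) B) j) ^ (m' j) =
        Matrix.GeneralLinearGroup.det g ^ (m' i) := by
    intro m' B _ _ i g
    rw [Finset.prod_eq_single i]
    · simp
    · intro j _ hj
      rw [Pi.mulSingle_eq_of_ne hj, map_one, one_zpow]
    · intro h; exact absurd (Finset.mem_univ i) h
  refine ⟨m, ?_, ?_⟩
  · intro B _ _ s
    let γ : (∀ i, Matrix.GeneralLinearGroup (Fin (n i)) B) →* Bˣ :=
      ∏ i, (zpowGroupHom (m i)).comp
        ((Matrix.GeneralLinearGroup.det).comp
          (Pi.evalMonoidHom (fun i => Matrix.GeneralLinearGroup (Fin (n i)) B) i))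
    have hγ : ∀ s, γ s = ∏ i, Matrix.GeneralLinearGroup.det (s i) ^ (m i) := by
      intro s
      simp [γ]
    have : α B = γ := by
      apply MonoidHom.pi_ext
      intro i g
      rw [hm i B g, hγ, hsingle m B i g]
    rw [this, hγ]
  · intro m' hm'
    funext i
    let i₀ : Fin (n i) := ⟨0, hn i⟩
    let L := AddMonoidAlgebra R ℤ
    let s : ∀ i, Matrix.GeneralLinearGroup (Fin (n i)) L :=
      Pi.mulSingle i (Groth.Agent.Helper4.SLCommD.dg i₀ (Groth.Agent.Helper4.SLCommI.Tu R))
    have h1 := hm' L s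
    have h2 := hm i L (Groth.Agent.Helper4.SLCommD.dg i₀ (Groth.Agent.Helper4.SLCommI.Tu R))
    rw [hsingle m' L i, Groth.Agent.Helper4.SLCommJ.det_dg] at h1
    rw [Groth.Agent.Helper4.SLCommJ.det_dg] at h2
    have h3 : (Groth.Agent.Helper4.SLCommI.Tu R) ^ (m' i) = (Groth.Agent.Helper4.SLCommI.Tu R) ^ (m i) := by
      rw [← h1, ← h2]
    have hpow : ∀ k : ℤ, (((Groth.Agent.Helper4.SLCommI.Tu R) ^ k : Lˣ) : L) =
        AddMonoidAlgebra.single k 1 := by
      intro k
      unfold Groth.Agent.Helper4.SLCommI.Tu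
      rw [← map_zpow, ← ofAdd_zsmul]
      simp [AddMonoidAlgebra.of_apply]
    have h4 := congrArg Units.val h3
    rw [hpow, hpow] at h4
    exact (AddMonoidAlgebra.single_left_inj one_ne_zero).1 h4

end Groth.Agent.S5659
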