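import Groth.Statements.S5665
import Groth.Agent.Helper2.ExtReg
open CategoryTheory Abelian RingTheory.Sequence ModuleCat Groth.Agent.Helper2
-- import your own Groth.Agent.* helpers here

set_option autoImplicit false
universe u
open CategoryTheory
open Dual

namespace Groth.Agent.S5665

/-- Let `A` be a commutative ring, `xs = (x_1, …, x_p)` a sequence in `A` such that each `x_i` is a
non-zero-divisor on `A/(x_1, …, x_{i-1})`, `J` the ideal generated by the `x_i` and `M` any
`A`-module. Then `Ext^p_A(A/J, M)` is isomorphic, as an `A`-module, to `M/JM`. (Existence of an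
`A`-linear isomorphism only; the published isomorphism is the one induced by the Koszul complex of
`xs`.) -/
theorem result (A : Type u) [CommRing A] (xs : List A) (hreg : RingTheory.Sequence.IsWeaklyRegular A xs) (M : Type u) [AddCommGroup M] [Module A M] : Nonempty (Abelian.Ext (ModuleCat.of A (A ⧸ Ideal.ofList xs)) (ModuleCat.of A M) xs.length ≃ₗ[A] (M ⧸ (Ideal.ofList xs • (⊤ : Submodule A M)))) := by
  have hproj : Projective (ModuleCat.of A A) := inferInstance
  have hvan : ∀ (M : ModuleCat.{u} A) (i : ℕ), 0 < i → Subsingleton (Ext (ModuleCat.of A A) M i) := by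
    intro M i hi
    obtain ⟨j, rfl⟩ : ∃ j, i = j + 1 := ⟨i - 1, by omega⟩
    exact Ext.subsingleton_of_projective _ _ j
  obtain ⟨⟨e⟩, -⟩ := ExtReg.ext_quot_regular xs (ModuleCat.of A A) 0 hvan hreg (ModuleCat.of A M)
  rw [zero_add] at e
  -- identify Ext^0(A, M) with M
  let e1 : Ext (ModuleCat.of A A) (ModuleCat.of A M) 0 ≃ₗ[A] M :=
    (Ext.linearEquiv₀ (R := A)).trans (ModuleCat.homLinearEquiv.trans (LinearMap.ringLmapEquivSelf A A M))
  -- identify the source
  have hI : Ideal.ofList xs • (⊤ : Submodule A A) = Ideal.ofList xs := by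
    rw [smul_eq_mul, Ideal.mul_top]
  let e0 : (A ⧸ Ideal.ofList xs • (⊤ : Submodule A A)) ≃ₗ[A] (A ⧸ Ideal.ofList xs) :=
    Submodule.quotEquivOfEq _ _ hI
  exact ⟨(ExtReg.extCongrLeft e0.toModuleIso (ModuleCat.of A M) xs.length).symm.trans
    (e.trans (ExtReg.quotSmulTopCongr (Ideal.ofList xs) e1))⟩

end Groth.Agent.S5665
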