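import Groth.Statements.S5725
import Groth.Agent.Helper1.CF3
import Groth.Agent.Helper1.TR24

set_option autoImplicit false
universe u
open CategoryTheory CategoryTheory.Limits AlgebraicGeometry TopologicalSpace Opposite
open scoped HomogeneousIdeal
open EGA2

namespace Groth.Agent.S5725

/-- Let q : X → Y be a quasi-compact morphism and L an invertible O_X-module. If L is very ample
relative to q (isomorphic to i^*O_{P(E)}(1) for a Y-immersion i : X → P(E) into the projective
bundle of a quasi-coherent O_Y-module E), then the canonical morphism q^*(q_*L) → L, the counit of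
the adjunction between inverse and direct image, is an epimorphism. (The published statement also
records that q_*L is quasi-coherent, which holds because q is then quasi-compact and separated, and
lists a further property, that the morphism into the projective bundle of q_*L attached to this
epimorphism is an immersion; with that property the converse holds. Those parts are not stated
here.) -/
theorem result {X Y : Scheme.{u}} (q : X ⟶ Y) [QuasiCompact q] (L : X.Modules)
    (hL : PicF.IsInvertible L) (h : RelProj.IsRelVeryAmple q L) :
    Epi ((Scheme.Modules.pullbackPushforwardAdjunction q).counit.app L) := by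
  obtain ⟨E, hE, 𝒮, j, hj, P, p, chart, hP, O1, lam, hO1, i, hi, hip, ⟨τ⟩⟩ := h
  haveI : E.IsQuasicoherent := hE
  have hψ : Epi (((Scheme.Modules.pullbackPushforwardAdjunction p).homEquiv E O1).symm
      (Groth.Agent.Helper1.CF.can j hj.2 hP hO1)) :=
    Groth.Agent.Helper1.TRS.epi_adjoint_canonical hj hO1 _
      (Groth.Agent.Helper1.CF.val_can j hj.2 hP hO1)
  haveI := hψ
  haveI : (Scheme.Modules.pullback i).PreservesEpimorphisms :=
    Functor.preservesEpimorphisms_of_adjunction (Scheme.Modules.pullbackPushforwardAdjunction i)
  set ψ := ((Scheme.Modules.pullbackPushforwardAdjunction p).homEquiv E O1).symm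
      (Groth.Agent.Helper1.CF.can j hj.2 hP hO1) with hψdef
  let ε : (Scheme.Modules.pullback q).obj E ⟶ L :=
    (Scheme.Modules.pullbackCongr hip).inv.app E ≫ (Scheme.Modules.pullbackComp i p).inv.app E ≫
      (Scheme.Modules.pullback i).map ψ ≫ τ.inv
  haveI hε : Epi ε := by
    haveI : Epi ((Scheme.Modules.pullback i).map ψ) := Functor.map_epi _ ψ
    infer_instance
  have h2 := (Scheme.Modules.pullbackPushforwardAdjunction q).homEquiv_counit (X := E) (Y := L)
    (g := ((Scheme.Modules.pullbackPushforwardAdjunction q).homEquiv E L) ε)
  rw [Equiv.symm_apply_apply] at h2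
  rw [h2] at hε
  exact @epi_of_epi _ _ _ _ _ ((Scheme.Modules.pullback q).map
    (((Scheme.Modules.pullbackPushforwardAdjunction q).homEquiv E L) ε))
    ((Scheme.Modules.pullbackPushforwardAdjunction q).counit.app L) hε

end Groth.Agent.S5725
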