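import Groth.Statements.S5750
import Groth.Agent.Helper1.ClTr

set_option autoImplicit false
universe u
open Coherent

namespace Groth.Agent.S5750

open AlgebraicGeometry CategoryTheory in
/-- Let A be an Artinian local ring, i : X → P^r_A a closed immersion compatible with the structure
morphisms to Spec A, F a coherent O_X-module and F(n) = F ⊗ i^* O(n). If a polynomial P over ℚ
satisfies P(n) = χ_A(F(n)) = Σ_{j ≤ r} (-1)^j length_A H^j(X, F(n)) for every integer n (the Hilbert
polynomial of F), then the leading coefficient of P is non-negative. -/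
theorem result (A : Type u) [CommRing A]
    [IsArtinianRing A] [IsLocalRing A] (r : ℕ) (X : Scheme.{u}) [X.Over (Spec (CommRingCat.of A))]
    (i : X ⟶ CohB1.ProjSpace r A) [IsClosedImmersion i]
    (hi : i ≫ CohB1.ProjSpace.toSpec r A = X ↘ Spec (CommRingCat.of A)) (F : X.Modules) (hF : Coh.IsCoh F)
    (P : Polynomial ℚ)
    (hP : ∀ n : ℤ, ((Finset.range (r + 1)).sum fun j => (-1 : ℚ) ^ j *
        ((Module.length A (Coh.HH X (CohB1.tensorMod F
          ((Scheme.Modules.pullback i).obj (Twist.twistProjSpace r A n))) j)).toNat : ℚ)) = P.eval (n : ℚ)) :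
    0 ≤ P.leadingCoeff := by
  haveI : IsNoetherianRing A := inferInstance
  obtain ⟨d₀, hd₀⟩ := Groth.Agent.Helper1.ClTr.vanishing r A i F hF
  have hpos : ∀ n : ℤ, d₀ ≤ n → 0 ≤ P.eval (n : ℚ) := by
    intro n hn
    rw [← hP n, Finset.sum_eq_single 0]
    · simp
    · intro j _ hj0
      haveI := hd₀ n hn j (Nat.pos_of_ne_zero hj0)
      have h0 : Module.length A (Coh.HH X (CohB1.tensorMod F
          ((Scheme.Modules.pullback i).obj (Twist.twistProjSpace r A n))) j) = 0 :=
        Module.length_eq_zero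
      rw [h0]
      simp
    · intro h0
      exact absurd (Finset.mem_range.2 (Nat.succ_pos r)) h0
  by_contra hneg
  push_neg at hneg
  by_cases hdeg : 0 < P.degree
  · have ht := Polynomial.tendsto_atBot_of_leadingCoeff_nonpos P hdeg hneg.le
    have he := ht.eventually (Filter.eventually_lt_atBot (0 : ℚ))
    obtain ⟨x₀, hx₀⟩ := Filter.eventually_atTop.1 he
    have h1 := hx₀ ((max d₀ ⌈x₀⌉ : ℤ) : ℚ) (by
      have : x₀ ≤ (⌈x₀⌉ : ℚ) := Int.le_ceil x₀
      have h2 : ((⌈x₀⌉ : ℤ) : ℚ) ≤ ((max d₀ ⌈x₀⌉ : ℤ) : ℚ) := by exact_mod_cast le_max_right _ _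
      linarith)
    have h2 := hpos (max d₀ ⌈x₀⌉) (le_max_left _ _)
    linarith
  · have hd : P.degree ≤ 0 := not_lt.1 hdeg
    have hc := Polynomial.eq_C_of_degree_le_zero hd
    have h2 := hpos d₀ le_rfl
    rw [hc, Polynomial.eval_C] at h2
    have h3 : P.leadingCoeff = P.coeff 0 := by
      rw [hc, Polynomial.leadingCoeff_C, Polynomial.coeff_C_zero]
    rw [h3] at hneg
    linarith

end Groth.Agent.S5750
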