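import Groth.Statements.S5752
import Groth.Agent.Helper2.Depth
open IsLocalRing Groth.Agent.Helper2.Ass RingTheory.Sequence Groth.Agent.Helper2.Depth
-- import your own Groth.Agent.* helpers here

set_option autoImplicit false
universe u
open EGA41

namespace Groth.Agent.S5752

/-- Let A be a Noetherian local ring with maximal ideal m and M a finitely generated A-module. Then M
has depth 0 if and only if m is an associated prime of M, i.e. if and only if M contains a copy of
the residue field. (For M = 0 the depth is ⊤ and there are no associated primes.) -/
theorem result (A : Type u) [CommRing A] [IsLocalRing A]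
    [IsNoetherianRing A] (M : Type u) [AddCommGroup M] [Module A M] [Module.Finite A M] :
    LocCoh.depth A M = 0 ↔ IsLocalRing.maximalIdeal A ∈ associatedPrimes A M := by
  rcases subsingleton_or_nontrivial M with hM | hM
  · have h1 : LocCoh.depth A M = ⊤ := by
      unfold LocCoh.depth LocCoh.idealDepth
      rw [if_pos (Subsingleton.elim _ _)]
    rw [h1, associatedPrimes.eq_empty_of_subsingleton]
    simp
  · rw [depth_eq_zero_iff]
    constructor
    · exact maximalIdeal_mem_ass_of_forall_not_regular A M
    · intro h x hx
      exact not_regular_of_mem_ass A M _ h x hx

end Groth.Agent.S5752
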