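import Groth.Statements.S5753
import Groth.Agent.Helper2.Ass
open IsLocalRing Groth.Agent.Helper2.Ass
-- import your own Groth.Agent.* helpers here

set_option autoImplicit false
universe u
open EGA41

namespace Groth.Agent.S5753

/-- Let A be a Noetherian local ring with maximal ideal m and residue field k, and N a finitely
generated A-module. Then no element of m is N-regular (multiplication by it injective) if and only
if Hom_A(k, N) is nonzero. Applied to N = M/(x_1 M + ... + x_n M) for an M-regular sequence (x_i) in
m, this says that the sequence cannot be extended by an element of m if and only if Hom_A(k, M/(x_1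
M + ... + x_n M)) ≠ 0. (The published statement allows an arbitrary module; for the direct sum N of
the quotients of a two-dimensional regular local ring by all its height-one primes no element of m
is N-regular while Hom_A(k, N) = 0, and the published proof uses finiteness of the set of associated
primes, so N is taken finitely generated here.) -/
theorem result (A : Type u) [CommRing A]
    [IsLocalRing A] [IsNoetherianRing A] (N : Type u) [AddCommGroup N] [Module A N] [Module.Finite A N] :
    (∀ x ∈ IsLocalRing.maximalIdeal A, ¬ IsSMulRegular N x) ↔
      Nontrivial (IsLocalRing.ResidueField A →ₗ[A] N) := by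
  constructor
  · intro h
    have hm := maximalIdeal_mem_ass_of_forall_not_regular A N h
    rw [AssociatedPrimes.mem_iff, isAssociatedPrime_iff] at hm
    obtain ⟨_, y, hy⟩ := hm
    have hy0 : y ≠ 0 := by
      rintro rfl
      have : (1 : A) ∈ maximalIdeal A := by
        rw [hy, Submodule.mem_colon_singleton]; simp
      exact (Ideal.ne_top_iff_one _).mp (Ideal.IsMaximal.ne_top inferInstance) this
    let f : IsLocalRing.ResidueField A →ₗ[A] N :=
      Submodule.liftQ (maximalIdeal A) (LinearMap.toSpanSingleton A N y) (by
        intro x hx
        rw [hy, Submodule.mem_colon_singleton] at hx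
        simpa using hx)
    refine nontrivial_of_ne f 0 ?_
    intro hf
    have : f (IsLocalRing.residue A 1) = y := by
      show f (Submodule.Quotient.mk 1) = y
      simp only [f]
      erw [Submodule.liftQ_apply]
      simp
    rw [hf] at this
    exact hy0 (by simpa using this.symm)
  · intro hnt x hx
    obtain ⟨f, hf⟩ := exists_ne (0 : IsLocalRing.ResidueField A →ₗ[A] N)
    have hy : f 1 ≠ 0 := by
      intro h1
      apply hf
      ext c
      obtain ⟨a, rfl⟩ := IsLocalRing.residue_surjective c
      have : IsLocalRing.residue A a = a • (1 : IsLocalRing.ResidueField A) := by
        rw [Algebra.smul_def, mul_one]; rfl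
      rw [this, map_smul, h1, smul_zero]; rfl
    rw [isSMulRegular_iff_right_eq_zero_of_smul]
    intro hreg
    apply hy
    apply hreg
    rw [← map_smul]
    have : x • (1 : IsLocalRing.ResidueField A) = 0 := by
      rw [Algebra.smul_def, mul_one]
      exact (IsLocalRing.residue_eq_zero_iff x).mpr hx
    rw [this, map_zero]

end Groth.Agent.S5753
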