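import Groth.Statements.S5754
import Mathlib
open Pointwise
-- import your own Groth.Agent.* helpers here

set_option autoImplicit false
universe u
open EGA41

namespace Groth.Agent.S5754

/-- Let A be a Noetherian ring, M a finitely generated A-module and t an element of A which is
M-regular. For every associated prime p of M, every prime ideal minimal among those containing p +
tA is an associated prime of M/tM. -/
theorem result (A : Type u) [CommRing A]
    [IsNoetherianRing A] (M : Type u) [AddCommGroup M] [Module A M] [Module.Finite A M] (t : A)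
    (ht : IsSMulRegular M t) (p : Ideal A) (hp : p ∈ associatedPrimes A M) (q : Ideal A)
    (hq : q ∈ (p ⊔ Ideal.span {t}).minimalPrimes) : q ∈ associatedPrimes A (QuotSMulTop t M) := by
  set N : Submodule A M := Submodule.torsionBySet A M (p : Set A) with hN
  have hmemN : ∀ x : M, x ∈ N ↔ ∀ a ∈ p, a • x = 0 := by
    intro x
    rw [hN, Submodule.mem_torsionBySet_iff]
    exact ⟨fun h a ha => h ⟨a, ha⟩, fun h a => h a a.2⟩
  -- annihilator of N
  have hann : Module.annihilator A N = p := by
    apply le_antisymm
    · obtain ⟨hpp, x, hx⟩ := isAssociatedPrime_iff.1 hp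
      intro a ha
      have hxN : x ∈ N := by
        rw [hmemN]
        intro b hb
        have : b ∈ (⊥ : Submodule A M).colon {x} := by rw [← hx]; exact hb
        rw [Submodule.mem_colon_singleton] at this
        simpa using this
      have h1 : a • (⟨x, hxN⟩ : N) = 0 := Module.mem_annihilator.1 ha _
      have h2 : a • x = 0 := congrArg Subtype.val h1
      rw [hx, Submodule.mem_colon_singleton]
      simpa using h2
    · intro a ha
      rw [Module.mem_annihilator]
      rintro ⟨x, hx⟩
      exact Subtype.ext ((hmemN x).1 hx a ha)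
  -- the injection N/tN → M/tM
  have hinj : Function.Injective (QuotSMulTop.map t N.subtype) := by
    rw [← LinearMap.ker_eq_bot, eq_bot_iff]
    intro x hx
    obtain ⟨x, rfl⟩ := Submodule.Quotient.mk_surjective _ x
    rw [LinearMap.mem_ker, QuotSMulTop.map_apply_mk, Submodule.Quotient.mk_eq_zero,
      Submodule.mem_smul_pointwise_iff_exists] at hx
    obtain ⟨y, -, hy⟩ := hx
    have hyN : y ∈ N := by
      rw [hmemN]
      intro a ha
      apply ht
      have h1 : a • (x : M) = 0 := (hmemN x).1 x.2 a ha
      have : t • a • y = a • t • y := smul_comm t a y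
      simp only [smul_zero]
      rw [this, hy]
      exact h1
    rw [Submodule.mem_bot, Submodule.Quotient.mk_eq_zero, Submodule.mem_smul_pointwise_iff_exists]
    exact ⟨⟨y, hyN⟩, trivial, Subtype.ext hy⟩
  apply associatedPrimes.subset_of_injective hinj
  apply Module.associatedPrimes.minimalPrimes_annihilator_subset_associatedPrimes
  -- minimal primes agree
  have hset : ∀ P : Ideal A, P.IsPrime →
      (Module.annihilator A (QuotSMulTop t N) ≤ P ↔ p ⊔ Ideal.span {t} ≤ P) := by
    intro P hP
    have h1 : (⟨P, hP⟩ : PrimeSpectrum A) ∈ Module.support A (QuotSMulTop t N) ↔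
        Module.annihilator A (QuotSMulTop t N) ≤ P := by
      rw [Module.support_eq_zeroLocus, PrimeSpectrum.mem_zeroLocus]
      rfl
    rw [← h1, Module.support_quotSMulTop, Module.support_eq_zeroLocus, hann]
    simp only [Set.mem_inter_iff, PrimeSpectrum.mem_zeroLocus, SetLike.coe_subset_coe,
      Set.singleton_subset_iff, SetLike.mem_coe]
    rw [sup_le_iff, Ideal.span_singleton_le_iff_mem]
  obtain ⟨⟨hqp, hqle⟩, hqmin⟩ := hq
  refine ⟨⟨hqp, (hset q hqp).2 hqle⟩, ?_⟩
  rintro P ⟨hPp, hPle⟩ hPq
  exact hqmin ⟨hPp, (hset P hPp).1 hPle⟩ hPq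

end Groth.Agent.S5754
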