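import Groth.Statements.S5755
import Groth.Agent.Helper2.Depth
open IsLocalRing Groth.Agent.Helper2.Ass RingTheory.Sequence Groth.Agent.Helper2.Depth
-- import your own Groth.Agent.* helpers here

set_option autoImplicit false
universe u
open EGA41

namespace Groth.Agent.S5755

/-- A reduced Noetherian local ring A has depth 0 if and only if A is a field. -/
theorem result (A : Type u) [CommRing A] [IsLocalRing A]
    [IsNoetherianRing A] [IsReduced A] : LocCoh.depth A A = 0 ↔ IsField A := by
  rw [depth_eq_zero_iff, IsLocalRing.isField_iff_maximalIdeal_eq]
  constructor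
  · intro h
    have hm := maximalIdeal_mem_ass_of_forall_not_regular A A h
    rw [AssociatedPrimes.mem_iff, isAssociatedPrime_iff] at hm
    obtain ⟨_, y, hy⟩ := hm
    by_cases hyu : IsUnit y
    · rw [eq_bot_iff]
      intro x hx
      rw [hy, Submodule.mem_colon_singleton] at hx
      have : x * y = 0 := by simpa using hx
      rw [Submodule.mem_bot]
      exact (hyu.mul_left_eq_zero).mp this
    · exfalso
      have hym : y ∈ maximalIdeal A := (IsLocalRing.mem_maximalIdeal y).mpr hyu
      have hyy : y * y = 0 := by
        have := hym
        rw [hy, Submodule.mem_colon_singleton] at this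
        simpa using this
      have hy0 : y = 0 := by
        have : IsNilpotent y := ⟨2, by rw [pow_two]; exact hyy⟩
        exact this.eq_zero
      have : (1 : A) ∈ maximalIdeal A := by
        rw [hy, Submodule.mem_colon_singleton, hy0]; simp
      exact (Ideal.ne_top_iff_one _).mp (Ideal.IsMaximal.ne_top inferInstance) this
  · intro h x hx
    rw [h, Submodule.mem_bot] at hx
    subst hx
    rw [isSMulRegular_iff_right_eq_zero_of_smul]
    intro h0
    exact one_ne_zero (h0 1 (by simp))

end Groth.Agent.S5755
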