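import Groth.Statements.S5756
import Groth.Agent.Helper2.DepthLocHom
open Groth.Agent.Helper2 IsLocalRing
-- import your own Groth.Agent.* helpers here

set_option autoImplicit false
universe u
open EGA41

namespace Groth.Agent.S5756

/-- Suppose A and B are Noetherian local rings and ρ : A → B is a local homomorphism. Given a B-module M
that, viewed as an A-module through ρ, is finitely generated, the depth of M over A coincides with
the depth of M over B. -/
theorem result (A B : Type u) [CommRing A] [CommRing B] [IsLocalRing A]
    [IsLocalRing B] [IsNoetherianRing A] [IsNoetherianRing B] [Algebra A B] [IsLocalHom (algebraMap A B)]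
    (M : Type u) [AddCommGroup M] [Module B M] [Module A M] [IsScalarTower A B M] [Module.Finite A M] :
    LocCoh.depth A M = LocCoh.depth B M := by
  rcases subsingleton_or_nontrivial M with hs | hnt
  · have h1 : maximalIdeal A • (⊤ : Submodule A M) = ⊤ := Subsingleton.elim _ _
    have h2 : maximalIdeal B • (⊤ : Submodule B M) = ⊤ := Subsingleton.elim _ _
    unfold LocCoh.depth LocCoh.idealDepth
    rw [if_pos h1, if_pos h2]
  · have hIM := Depth.smul_top_ne_top A M
    obtain ⟨rs, -, -, -, h4⟩ := DepthCM.exists_length_eq_idealDepth (maximalIdeal A) M hIM
    have := Groth.Agent.Helper2.DepthLocHom.key A B rs.length M h4.symm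
    rw [this]
    exact h4.symm

end Groth.Agent.S5756
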