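import Groth.Statements.S5759
import Groth.Agent.Helper2.DepthCM2
open Groth.Agent.Helper2 RingTheory.Sequence
-- import your own Groth.Agent.* helpers here

set_option autoImplicit false
universe u
open EGA41

namespace Groth.Agent.S5759

/-- Let A be a Noetherian local ring and M a nonzero finitely generated A-module. Suppose that for every
sequence x_1, ..., x_r of elements of the maximal ideal which is part of a system of parameters for
M (i.e. dim(M/(x_1 M + ... + x_r M)) = dim(M) - r), every associated prime p of N = M/(x_1 M + ... +
x_r M) satisfies dim(A/p) = dim(N). Then M is a Cohen-Macaulay module. (The published convention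
also counts the zero module as Cohen-Macaulay; this row assumes M nonzero.) -/
theorem result (A : Type u) [CommRing A]
    [IsLocalRing A] [IsNoetherianRing A] (M : Type u) [AddCommGroup M] [Module A M] [Module.Finite A M]
    [Nontrivial M]
    (h : ∀ xs : List A, (∀ x ∈ xs, x ∈ IsLocalRing.maximalIdeal A) →
      Module.supportDim A (M ⧸ (Ideal.ofList xs • (⊤ : Submodule A M))) + xs.length = Module.supportDim A M →
        ∀ p ∈ associatedPrimes A (M ⧸ (Ideal.ofList xs • (⊤ : Submodule A M))),
          ringKrullDim (A ⧸ p) = Module.supportDim A (M ⧸ (Ideal.ofList xs • (⊤ : Submodule A M)))) :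
    LocCoh.IsCohenMacaulayModule A M := by
  have hIM := Depth.smul_top_ne_top A M
  obtain ⟨xs, h1, h2, h3, h4⟩ := DepthCM.exists_length_eq_idealDepth (IsLocalRing.maximalIdeal A) M hIM
  have hdim := Module.supportDim_add_length_eq_supportDim_of_isRegular xs
    (RingTheory.Sequence.IsRegular.of_isWeaklyRegular_of_mem_maximalIdeal M h2 h1)
  have hass : IsLocalRing.maximalIdeal A ∈
      associatedPrimes A (M ⧸ (Ideal.ofList xs • (⊤ : Submodule A M))) := by
    apply Ass.maximalIdeal_mem_ass_of_forall_not_regular
    intro x hx hreg
    apply h3 x hx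
    rw [isWeaklyRegular_append_iff]
    exact ⟨h1, (isWeaklyRegular_singleton_iff _ x).2 hreg⟩
  have h5 := h xs h2 hdim _ hass
  have h6 : ringKrullDim (A ⧸ IsLocalRing.maximalIdeal A) = 0 := ringKrullDim_eq_zero_of_isField
    ((Ideal.Quotient.maximal_ideal_iff_isField_quotient _).1 (IsLocalRing.maximalIdeal.isMaximal A))
  rw [h6] at h5
  unfold LocCoh.IsCohenMacaulayModule LocCoh.depth
  rw [← hdim, ← h5, ← h4, zero_add]
  rfl

end Groth.Agent.S5759
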