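import Groth.Statements.S5760
import Groth.Agent.Helper2.DepthCM3
open Groth.Agent.Helper2 RingTheory.Sequence IsLocalRing
-- import your own Groth.Agent.* helpers here

set_option autoImplicit false
universe u
open EGA41

namespace Groth.Agent.S5760

/-- Let A be a Noetherian local ring, M a nonzero finitely generated Cohen-Macaulay A-module, p a prime
ideal in the support of M and r the integer dim(M) - dim(M/pM). Then there exists an M-regular
sequence x_1, ..., x_r of elements of p; for every such sequence, dim(M/(x_1 M + ... + x_r M)) =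
dim(M/pM) = dim(A/p), and p is a minimal element of the set of associated primes of M/(x_1 M + ... +
x_r M). -/
theorem result (A : Type u) [CommRing A]
    [IsLocalRing A] [IsNoetherianRing A] (M : Type u) [AddCommGroup M] [Module A M] [Module.Finite A M]
    (hM : LocCoh.IsCohenMacaulayModule A M) (p : PrimeSpectrum A) (hp : p ∈ Module.support A M) (r : ℕ)
    (hr : Module.supportDim A (M ⧸ (p.asIdeal • (⊤ : Submodule A M))) + r = Module.supportDim A M) :
    (∃ xs : List A, xs.length = r ∧ (∀ x ∈ xs, x ∈ p.asIdeal) ∧ RingTheory.Sequence.IsWeaklyRegular M xs) ∧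
      ∀ xs : List A, xs.length = r → (∀ x ∈ xs, x ∈ p.asIdeal) → RingTheory.Sequence.IsWeaklyRegular M xs →
        Module.supportDim A (M ⧸ (Ideal.ofList xs • (⊤ : Submodule A M))) =
            Module.supportDim A (M ⧸ (p.asIdeal • (⊤ : Submodule A M))) ∧
          Module.supportDim A (M ⧸ (p.asIdeal • (⊤ : Submodule A M))) = ringKrullDim (A ⧸ p.asIdeal) ∧
          p.asIdeal ∈ associatedPrimes A (M ⧸ (Ideal.ofList xs • (⊤ : Submodule A M))) ∧
          ∀ q ∈ associatedPrimes A (M ⧸ (Ideal.ofList xs • (⊤ : Submodule A M))), q ≤ p.asIdeal → q = p.asIdeal := by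
  have hnt := DepthCM2.cm_nontrivial hM
  have hpm : p.asIdeal ≤ maximalIdeal A := IsLocalRing.le_maximalIdeal p.2.ne_top
  have hIM : p.asIdeal • (⊤ : Submodule A M) ≠ ⊤ := by
    intro h
    apply Depth.smul_top_ne_top A M
    exact eq_top_iff.2 (h.symm.le.trans (Submodule.smul_mono_left hpm))
  have hdepth := DepthCM3.cm_idealDepth_prime M hM p hp r hr
  constructor
  · obtain ⟨xs, h1, h2, -, h4⟩ := DepthCM.exists_length_eq_idealDepth p.asIdeal M hIM
    rw [hdepth] at h4
    exact ⟨xs, by exact_mod_cast h4, h2, h1⟩
  · intro xs hlen hxs hreg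
    have hmax : ∀ x ∈ p.asIdeal, ¬ IsWeaklyRegular M (xs ++ [x]) := by
      intro x hx hcon
      have h1 := DepthCM3.length_le_idealDepth (I := p.asIdeal) (xs ++ [x]) hcon (by
        intro y hy
        rcases List.mem_append.1 hy with h | h
        · exact hxs y h
        · rw [List.mem_singleton.1 h]; exact hx)
      rw [hdepth, List.length_append, hlen] at h1
      have h2 : r + 1 ≤ r := by exact_mod_cast h1
      omega
    obtain ⟨k1, k2, k3, k4⟩ := DepthCM3.cm_prime_key M hM p hp xs hxs hreg hmax
    refine ⟨?_, DepthCM3.supportDim_quot_prime p hp, k1, ?_⟩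
    · rw [DepthCM3.supportDim_quot_prime p hp, k3]
    · intro q hq hqp
      have hqprime := hq.isPrime
      refine k2 ⟨q, hqprime⟩ ?_ hqp
      rw [Module.mem_support_iff_of_finite, ← Submodule.annihilator_top]
      exact IsAssociatedPrime.annihilator_le hq

end Groth.Agent.S5760
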