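import Groth.Statements.S5765
import Groth.Agent.Helper2.SuppDim
open Order Groth.Agent.Helper2.SuppDim
-- import your own Groth.Agent.* helpers here

set_option autoImplicit false
universe u
open EGA41

namespace Groth.Agent.S5765

/-- Let A be a ring, M a finitely generated A-module and p a prime ideal of A. Then dim_{A_p}(M_p) +
dim_A(M/pM) ≤ dim_A(M). -/
theorem result (A : Type u) [CommRing A] (M : Type u)
    [AddCommGroup M] [Module A M] [Module.Finite A M] (p : Ideal A) [p.IsPrime] :
    Module.supportDim (Localization.AtPrime p) (LocalizedModule p.primeCompl M) +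
        Module.supportDim A (M ⧸ (p • (⊤ : Submodule A M))) ≤ Module.supportDim A M := by
  by_cases hp : (⟨p, inferInstance⟩ : PrimeSpectrum A) ∈ Module.support A M
  · set P : Module.support A M := ⟨⟨p, inferInstance⟩, hp⟩ with hP
    have h1 : Module.supportDim (Localization.AtPrime p) (LocalizedModule p.primeCompl M) ≤
        (height P : WithBot ℕ∞) := by
      rw [height_eq_krullDim_Iic]
      refine krullDim_le_of_strictMono (fun Q => ⟨⟨PrimeSpectrum.comap (algebraMap A (Localization.AtPrime p)) Q.1, ?_⟩, ?_⟩) ?_
      · exact support_localizedModule_subset A M _ (Module.support_subset_preimage_comap (R := A)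
          (A := Localization.AtPrime p) (M := LocalizedModule p.primeCompl M) Q.2)
      · show PrimeSpectrum.comap (algebraMap A (Localization.AtPrime p)) Q.1 ≤ ⟨p, inferInstance⟩
        show Ideal.comap _ Q.1.asIdeal ≤ p
        have hmax : (IsLocalRing.maximalIdeal (Localization.AtPrime p)).under A = p :=
          IsLocalization.AtPrime.under_maximalIdeal (Localization.AtPrime p) p
        calc Ideal.comap _ Q.1.asIdeal ≤ (IsLocalRing.maximalIdeal (Localization.AtPrime p)).under A :=
              Ideal.comap_mono (IsLocalRing.le_maximalIdeal Q.1.2.ne_top)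
          _ = p := hmax
      · intro Q₁ Q₂ hlt
        have hlt' : Q₁.1.asIdeal < Q₂.1.asIdeal := hlt
        show Ideal.comap _ Q₁.1.asIdeal < Ideal.comap _ Q₂.1.asIdeal
        refine lt_of_le_of_ne (Ideal.comap_mono hlt'.le) (fun heq => hlt'.ne ?_)
        rw [← IsLocalization.map_under p.primeCompl (Localization.AtPrime p) Q₁.1.asIdeal,
          ← IsLocalization.map_under p.primeCompl (Localization.AtPrime p) Q₂.1.asIdeal]
        exact congrArg (Ideal.map (algebraMap A (Localization.AtPrime p))) heq
    have h2 : Module.supportDim A (M ⧸ (p • (⊤ : Submodule A M))) ≤ (coheight P : WithBot ℕ∞) := by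
      rw [coheight_eq_krullDim_Ici]
      have hsub : Module.support A (M ⧸ (p • (⊤ : Submodule A M))) = Module.support A M ∩ PrimeSpectrum.zeroLocus p :=
        Module.support_quotient p
      refine krullDim_le_of_strictMono (fun Q => ⟨⟨Q.1, ?_⟩, ?_⟩) ?_
      · have hQ : Q.1 ∈ Module.support A M ∩ PrimeSpectrum.zeroLocus p := hsub ▸ Q.2
        exact hQ.1
      · have hQ : Q.1 ∈ Module.support A M ∩ PrimeSpectrum.zeroLocus p := hsub ▸ Q.2
        show (⟨p, inferInstance⟩ : PrimeSpectrum A) ≤ Q.1
        exact hQ.2
      · intro Q₁ Q₂ hlt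
        exact hlt
    have h3 : ((height P + coheight P : ℕ∞) : WithBot ℕ∞) ≤ Module.supportDim A M := by
      have : Nonempty (Module.support A M) := ⟨P⟩
      unfold Module.supportDim
      rw [krullDim_eq_iSup_height_add_coheight_of_nonempty, WithBot.coe_le_coe]
      exact le_iSup (fun a : Module.support A M => height a + coheight a) P
    calc _ ≤ (height P : WithBot ℕ∞) + (coheight P : WithBot ℕ∞) := add_le_add h1 h2
      _ = ((height P + coheight P : ℕ∞) : WithBot ℕ∞) := by rw [WithBot.coe_add]
      _ ≤ _ := h3
  · have : Subsingleton (LocalizedModule p.primeCompl M) := Module.notMem_support_iff.mp hp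
    rw [Module.supportDim_eq_bot_of_subsingleton, WithBot.bot_add]
    exact bot_le

end Groth.Agent.S5765
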