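import Groth.Statements.S5766
import Groth.Agent.Helper2.Dim
open Order Groth.Agent.Helper2.Dim
-- import your own Groth.Agent.* helpers here

set_option autoImplicit false
universe u
open EGA41

namespace Groth.Agent.S5766

/-- Let A be a Noetherian ring, ρ : A → B a ring homomorphism and M a B-module which is finitely
generated as an A-module via ρ. Then the dimension of M as an A-module equals its dimension as a
B-module. -/
theorem result (A B : Type u) [CommRing A] [CommRing B] [IsNoetherianRing A]
    [Algebra A B] (M : Type u) [AddCommGroup M] [Module B M] [Module A M] [IsScalarTower A B M]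
    [Module.Finite A M] : Module.supportDim A M = Module.supportDim B M := by
  have : Module.Finite B M := Module.Finite.of_restrictScalars_finite A B M
  rw [Module.supportDim_eq_ringKrullDim_quotient_annihilator, Module.supportDim_eq_ringKrullDim_quotient_annihilator]
  set I := Module.annihilator B M
  set J := Module.annihilator A M
  have hJI : J = I.comap (algebraMap A B) := by
    ext a
    simp only [J, I, Ideal.mem_comap, Module.mem_annihilator, algebraMap_smul]
  symm
  apply dim_eq_of_integral_injective (Ideal.quotientMap I (algebraMap A B) hJI.le)
  · intro b
    obtain ⟨b₀, rfl⟩ := Ideal.Quotient.mk_surjective b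
    have : SMulCommClass B A M := inferInstance
    let φ : B →ₐ[A] Module.End A M := Algebra.lsmul A A M
    obtain ⟨p, hp, hp0⟩ := LinearMap.exists_monic_and_aeval_eq_zero A (φ b₀)
    rw [Polynomial.aeval_algHom_apply] at hp0
    have hI : Polynomial.aeval b₀ p ∈ I := by
      rw [Module.mem_annihilator]
      intro m
      have := LinearMap.congr_fun hp0 m
      simpa [φ] using this
    refine ⟨p.map (Ideal.Quotient.mk J), hp.map _, ?_⟩
    rw [Polynomial.eval₂_map]
    have hcomp : (Ideal.quotientMap I (algebraMap A B) hJI.le).comp (Ideal.Quotient.mk J) =
        (Ideal.Quotient.mk I).comp (algebraMap A B) := by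
      ext a; simp
    rw [hcomp, ← Polynomial.hom_eval₂]
    rw [Ideal.Quotient.eq_zero_iff_mem]
    exact hI
  · exact Ideal.quotientMap_injective' hJI.ge

end Groth.Agent.S5766
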