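import Groth.Statements.S5767
import Groth.Agent.Helper2.SuppDim
open Order Module PrimeSpectrum Pointwise Groth.Agent.Helper2.SuppDim
-- import your own Groth.Agent.* helpers here

set_option autoImplicit false
universe u
open EGA41

namespace Groth.Agent.S5767

/-- Let A be a semi-local Noetherian ring, M a finitely generated A-module and x an element of the
Jacobson radical of A. One always has dim(M/xM) ≥ dim(M) - 1; equality dim(M/xM) = dim(M) - 1 holds
if and only if x belongs to none of the prime ideals p of Supp(M) with dim(A/p) = dim(M). Stated as:
dim(M/xM) + 1 = dim(M) iff x avoids those primes. -/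
theorem result (A : Type u) [CommRing A] [IsNoetherianRing A]
    [Finite (MaximalSpectrum A)] (M : Type u) [AddCommGroup M] [Module A M] [Module.Finite A M] (x : A)
    (hx : x ∈ Ring.jacobson A) :
    Module.supportDim A (QuotSMulTop x M) + 1 = Module.supportDim A M ↔
      ∀ p : PrimeSpectrum A, p ∈ Module.support A M →
        ringKrullDim (A ⧸ p.asIdeal) = Module.supportDim A M → x ∉ p.asIdeal := by
  have hxj : x ∈ (annihilator A M).jacobson := Ideal.ringJacobson_le_jacobson hx
  constructor
  · intro heq p hp hdim hxp
    have hp' : p ∈ Module.support A (QuotSMulTop x M) := by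
      rw [Module.support_quotSMulTop]
      exact ⟨hp, by simpa using hxp⟩
    have h1 := dim_quot_le_supportDim A (QuotSMulTop x M) p hp'
    rw [hdim, ← heq] at h1
    have hlt : Module.supportDim A (QuotSMulTop x M) < ⊤ :=
      lt_of_le_of_lt (Module.supportDim_le_ringKrullDim A _) (semilocal_dim_lt_top A)
    have hnb : Module.supportDim A (QuotSMulTop x M) ≠ ⊥ := by
      rw [Module.supportDim_ne_bot_iff_nontrivial, ← Module.nonempty_support_iff (R := A)]
      exact ⟨p, hp'⟩
    revert h1 hlt hnb
    generalize Module.supportDim A (QuotSMulTop x M) = e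
    intro h1 hlt hnb
    induction e using WithBot.recBotCoe with
    | bot => exact hnb rfl
    | coe e =>
      have h1' : e + 1 ≤ e := by exact_mod_cast h1
      have he : e ≠ ⊤ := by
        intro h; rw [h] at hlt; exact lt_irrefl _ hlt
      exact absurd h1' (not_le.mpr ((ENat.lt_add_one_iff he).mpr le_rfl))
  · intro h
    refine le_antisymm ?_ (supportDim_le_supportDim_quotSMulTop_succ_of_mem_jacobson hxj)
    nontriviality M
    nontriviality (QuotSMulTop x M)
    have : Nonempty (Module.support A M) := nonempty_support_of_nontrivial.to_subtype
    have : Nonempty (Module.support A (QuotSMulTop x M)) := nonempty_support_of_nontrivial.to_subtype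
    have hD : Module.supportDim A M = ((⨆ q : LTSeries (Module.support A M), (q.length : ℕ∞) : ℕ∞) : WithBot ℕ∞) := by
      simp only [supportDim, Order.krullDim_eq_iSup_length]
    simp only [supportDim, Order.krullDim_eq_iSup_length]
    apply WithBot.coe_le_coe.mpr
    simp only [ENat.iSup_add, iSup_le_iff]
    intro p
    by_contra hcon
    rw [not_le] at hcon
    have hDle : (⨆ q : LTSeries (Module.support A M), (q.length : ℕ∞)) ≤ p.length :=
      (ENat.lt_add_one_iff (ENat.natCast_ne_top _)).mp hcon
    have hp := p.head.2
    simp only [support_quotSMulTop, Set.mem_inter_iff, mem_zeroLocus, Set.singleton_subset_iff] at hp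
    refine h p.head.1 hp.1 ?_ hp.2
    apply le_antisymm (dim_quot_le_supportDim A M _ hp.1)
    rw [hD, ringKrullDim_quotient]
    refine le_trans (WithBot.coe_le_coe.mpr hDle) ?_
    let p' : LTSeries (zeroLocus (R := A) p.head.1.asIdeal) :=
      { length := p.length
        toFun := fun i => ⟨(p i).1, by
          show p.head.1.asIdeal ≤ (p i).1.asIdeal
          exact p.head_le i⟩
        step := fun i => p.step i }
    exact p'.length_le_krullDim

end Groth.Agent.S5767
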