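import Groth.Statements.S5777
import Groth.Agent.Helper2.TorReg
open RingTheory.Sequence Pointwise Function TensorProduct IsLocalRing LinearMap Groth.Agent.Helper2.TorReg
-- import your own Groth.Agent.* helpers here

set_option autoImplicit false
universe u
open EGA41

namespace Groth.Agent.S5777

/-- Let φ : A → B be a local homomorphism of Noetherian local rings, M a finitely generated B-module and
(f_i)_{1 ≤ i ≤ n} an A-regular sequence of elements of the maximal ideal of A, generating the ideal
J. Then M is flat over A if and only if M/JM is flat over A/J and (f_i) is an M-regular sequence. -/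
theorem result (A B : Type u) [CommRing A] [CommRing B]
    [IsLocalRing A] [IsLocalRing B] [IsNoetherianRing A] [IsNoetherianRing B] [Algebra A B]
    [IsLocalHom (algebraMap A B)] (M : Type u) [AddCommGroup M] [Module B M] [Module A M]
    [IsScalarTower A B M] [Module.Finite B M] (fs : List A) (hfs : ∀ f ∈ fs, f ∈ IsLocalRing.maximalIdeal A)
    (hA : RingTheory.Sequence.IsWeaklyRegular A fs) :
    Module.Flat A M ↔
      Module.Flat (A ⧸ Ideal.ofList fs) (M ⧸ (Ideal.ofList fs • (⊤ : Submodule A M))) ∧
        RingTheory.Sequence.IsWeaklyRegular M fs := by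
  have e : ((A ⧸ Ideal.ofList fs) ⊗[A] M) ≃ₗ[A ⧸ Ideal.ofList fs]
      (M ⧸ (Ideal.ofList fs • (⊤ : Submodule A M))) :=
    (TensorProduct.quotTensorEquivQuotSMul M (Ideal.ofList fs)).extendScalarsOfSurjective
      Ideal.Quotient.mk_surjective
  constructor
  · intro hflat
    refine ⟨Module.Flat.of_linearEquiv e.symm, ?_⟩
    have := hA.isWeaklyRegular_rTensor (M₂ := M)
    exact ((TensorProduct.lid A M).isWeaklyRegular_congr fs).1 this
  · rintro ⟨h1, h2⟩
    have hJ : Ideal.ofList fs ≠ ⊤ := by
      intro h
      have hle : Ideal.ofList fs ≤ maximalIdeal A := by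
        rw [Ideal.ofList, Ideal.span_le]
        intro x hx
        exact hfs x hx
      rw [h, top_le_iff] at hle
      exact Ideal.IsPrime.ne_top inferInstance hle
    have h3 : Module.Flat (A ⧸ Ideal.ofList fs) ((A ⧸ Ideal.ofList fs) ⊗[A] M) :=
      Module.Flat.of_linearEquiv e
    exact Groth.Agent.Helper2.LocCrit2.flat_of_quotient (S := B) (Ideal.ofList fs) hJ
      (rTensor_injective_of_isWeaklyRegular fs h2) h3

end Groth.Agent.S5777
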