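import Groth.Statements.S5780
import Groth.Agent.Helper2.Ass
open IsLocalRing Groth.Agent.Helper2.Ass
-- import your own Groth.Agent.* helpers here

set_option autoImplicit false
universe u
open EGA41

namespace Groth.Agent.S5780

/-- Let A be a Noetherian local ring with maximal ideal m. If every element of m which is not in m² is a
zero divisor in A, then there is a nonzero c in A with c m = 0, i.e. m is an associated prime of A. -/
theorem result (A : Type u) [CommRing A]
    [IsLocalRing A] [IsNoetherianRing A]
    (h : ∀ a ∈ IsLocalRing.maximalIdeal A, a ∉ IsLocalRing.maximalIdeal A ^ 2 → ¬ IsSMulRegular A a) :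
    IsLocalRing.maximalIdeal A ∈ associatedPrimes A A := by
  rcases exists_le_assPrime_or_le A A (maximalIdeal A) (maximalIdeal A ^ 2) h with h1 | ⟨p, hp, hmp⟩
  · have hbot : maximalIdeal A = ⊥ := by
      apply Submodule.eq_bot_of_le_smul_of_le_jacobson_bot (maximalIdeal A) (maximalIdeal A)
        (IsNoetherian.noetherian _)
      · rw [smul_eq_mul, ← pow_two]; exact h1
      · exact IsLocalRing.maximalIdeal_le_jacobson _
    rw [AssociatedPrimes.mem_iff, isAssociatedPrime_iff]
    refine ⟨inferInstance, 1, ?_⟩
    rw [hbot]
    ext r
    simp [Submodule.mem_colon_singleton]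
  · have : p = maximalIdeal A :=
      ((IsLocalRing.maximalIdeal.isMaximal A).eq_of_le hp.isPrime.ne_top hmp).symm
    rw [← this]; exact hp

end Groth.Agent.S5780
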