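import Groth.Statements.S5781
import Groth.Agent.Helper2.CotSplit
open IsLocalRing Pointwise Groth.Agent.Helper2.CotSplit
-- import your own Groth.Agent.* helpers here

set_option autoImplicit false
universe u
open EGA41

namespace Groth.Agent.S5781

/-- Suppose A is a Noetherian local ring whose maximal ideal is m, and take a ∈ m with a ∉ m². Then the
quotient m/am contains a direct summand isomorphic to m/Aa: concretely, one can find A-linear maps f
: m/Aa → m/am and g : m/am → m/Aa such that g ∘ f is the identity. -/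
theorem result (A : Type u) [CommRing A] [IsLocalRing A]
    [IsNoetherianRing A] (a : A) (ha : a ∈ IsLocalRing.maximalIdeal A) (ha2 : a ∉ IsLocalRing.maximalIdeal A ^ 2) :
    ∃ (f : (↥(IsLocalRing.maximalIdeal A) ⧸ Submodule.span A {(⟨a, ha⟩ : ↥(IsLocalRing.maximalIdeal A))}) →ₗ[A]
          QuotSMulTop a ↥(IsLocalRing.maximalIdeal A))
      (g : QuotSMulTop a ↥(IsLocalRing.maximalIdeal A) →ₗ[A]
          (↥(IsLocalRing.maximalIdeal A) ⧸ Submodule.span A {(⟨a, ha⟩ : ↥(IsLocalRing.maximalIdeal A))})),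
      g.comp f = LinearMap.id := by
  obtain ⟨b, hb1, hb2⟩ := exists_compl a ha ha2
  set N₁ := Submodule.span A {(⟨a, ha⟩ : ↥(IsLocalRing.maximalIdeal A))} with hN₁
  have hle : a • (⊤ : Submodule A ↥(maximalIdeal A)) ≤ N₁ := by
    intro x hx
    rw [Submodule.mem_smul_pointwise_iff_exists] at hx
    obtain ⟨y, -, rfl⟩ := hx
    rw [hN₁, Submodule.mem_span_singleton]
    refine ⟨y.1, ?_⟩
    ext
    simp [mul_comm]
  let g : QuotSMulTop a ↥(maximalIdeal A) →ₗ[A] (↥(maximalIdeal A) ⧸ N₁) := Submodule.factor hle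
  let φ : b →ₗ[A] QuotSMulTop a ↥(maximalIdeal A) := (Submodule.mkQ _).comp b.subtype
  let ψ : b →ₗ[A] (↥(maximalIdeal A) ⧸ N₁) := (Submodule.mkQ _).comp b.subtype
  have hgφ : g.comp φ = ψ := by
    ext x
    rfl
  have hψ : Function.Surjective ψ := by
    intro z
    obtain ⟨z, rfl⟩ := Submodule.Quotient.mk_surjective _ z
    have hz : z ∈ b ⊔ N₁ := by rw [hb1]; trivial
    obtain ⟨y, hy, n, hn, rfl⟩ := Submodule.mem_sup.1 hz
    refine ⟨⟨y, hy⟩, ?_⟩
    change Submodule.Quotient.mk y = Submodule.Quotient.mk (y + n)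
    rw [Submodule.Quotient.eq]
    simpa using hn
  have hker : LinearMap.ker ψ ≤ LinearMap.ker φ := by
    intro x hx
    rw [LinearMap.mem_ker] at hx ⊢
    change Submodule.Quotient.mk (x : ↥(maximalIdeal A)) = 0 at hx
    change Submodule.Quotient.mk (x : ↥(maximalIdeal A)) = 0
    rw [Submodule.Quotient.mk_eq_zero] at hx ⊢
    exact hb2 ⟨x.2, hx⟩
  refine ⟨((LinearMap.ker ψ).liftQ φ hker).comp (ψ.quotKerEquivOfSurjective hψ).symm.toLinearMap,
    g, ?_⟩
  refine LinearMap.ext fun z => ?_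
  obtain ⟨y, rfl⟩ := hψ z
  simp only [LinearMap.coe_comp, Function.comp_apply, LinearEquiv.coe_coe, LinearMap.id_coe, id_eq]
  have : (ψ.quotKerEquivOfSurjective hψ).symm (ψ y) = Submodule.Quotient.mk y := by
    rw [LinearEquiv.symm_apply_eq]
    rfl
  rw [this, Submodule.liftQ_apply]
  exact LinearMap.congr_fun hgφ y

end Groth.Agent.S5781
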