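import Groth.Statements.S5782
import Groth.Agent.Helper2.PdQuot
open CategoryTheory Abelian TensorProduct Groth.Agent.Helper2.PdQuot
-- import your own Groth.Agent.* helpers here

set_option autoImplicit false
universe u
open CategoryTheory
open EGA41

namespace Groth.Agent.S5782

/-- Let A be a Noetherian local ring with maximal ideal m, E a finitely generated A-module of finite
projective dimension, and a ∈ m an element which is A-regular and E-regular. Then E/aE, as a module
over A/aA, has finite projective dimension at most the projective dimension of E over A. -/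
theorem result (A : Type u) [CommRing A] [IsLocalRing A]
    [IsNoetherianRing A] (E : Type u) [AddCommGroup E] [Module A E] [Module.Finite A E]
    (hfin : projectiveDimension (ModuleCat.of A E) ≠ ⊤) (a : A) (ha : a ∈ IsLocalRing.maximalIdeal A)
    (hA : IsSMulRegular A a) (hE : IsSMulRegular E a) :
    projectiveDimension (ModuleCat.of (A ⧸ Ideal.span {a}) (E ⧸ (Ideal.span {a} • (⊤ : Submodule A E)))) ≤
      projectiveDimension (ModuleCat.of A E) := by
  have e : ((A ⧸ Ideal.span {a}) ⊗[A] E) ≃ₗ[A ⧸ Ideal.span {a}]
      (E ⧸ (Ideal.span {a} • (⊤ : Submodule A E))) :=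
    (TensorProduct.quotTensorEquivQuotSMul E (Ideal.span {a})).extendScalarsOfSurjective
      Ideal.Quotient.mk_surjective
  rw [← ModuleCat.projectiveDimension_eq_of_linearEquiv
    (M := ModuleCat.of (A ⧸ Ideal.span {a}) ((A ⧸ Ideal.span {a}) ⊗[A] E))
    (N := ModuleCat.of (A ⧸ Ideal.span {a}) (E ⧸ (Ideal.span {a} • (⊤ : Submodule A E)))) e]
  apply le_of_forall_nat hfin
  intro i hi
  rw [projectiveDimension_lt_iff] at hi ⊢
  cases i with
  | zero => exact key0 a E hi
  | succ n => exact key a hA n E hE hi

end Groth.Agent.S5782
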