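import Groth.Statements.S5783
import Groth.Agent.Helper2.RegFree
open Groth.Agent.Helper2 RingTheory.Sequence IsLocalRing Pointwise Module TensorProduct
-- import your own Groth.Agent.* helpers here

set_option autoImplicit false
universe u
open EGA41

namespace Groth.Agent.S5783

/-- Let A be a regular local ring, B a local ring and ρ : A → B a local homomorphism making B a finitely
generated A-module. Then B is a free A-module if and only if B is a Cohen-Macaulay ring and ρ is
injective (the latter being equivalent to dim(B) = dim(A)). -/
theorem result (A B : Type u) [CommRing A] [CommRing B]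
    [IsRegularLocalRing A] [IsLocalRing B] [Algebra A B] [IsLocalHom (algebraMap A B)] [Module.Finite A B] :
    Module.Free A B ↔ LocCoh.IsCohenMacaulayLocalRing B ∧ Function.Injective (algebraMap A B) := by
  have hdimA := RegFree.ringKrullDim_regular_nat A
  have hint : (algebraMap A B).IsIntegral := by
    have : Algebra.IsIntegral A B := Algebra.IsIntegral.of_finite A B
    exact algebraMap_isIntegral_iff.2 this
  constructor
  · intro hfree
    have hinj : Function.Injective (algebraMap A B) := FaithfulSMul.algebraMap_injective A B
    refine ⟨?_, hinj⟩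
    have hnoeth : IsNoetherianRing B := IsNoetherianRing.of_finite A B
    have hdimB : ringKrullDim B = ringKrullDim A :=
      Dim.dim_eq_of_integral_injective (algebraMap A B) hint hinj
    have hcmA := RegCM.cm_of_isRegularLocalRing A
    -- depth_A B = d
    obtain ⟨xs, h1, h2, -, h4⟩ := DepthCM.exists_length_eq_idealDepth (maximalIdeal A) A
      (Depth.smul_top_ne_top A A)
    have hxsB : IsWeaklyRegular B xs :=
      ((TensorProduct.rid A B).isWeaklyRegular_congr xs).1 (h1.isWeaklyRegular_lTensor (M₂ := B))
    have hge := DepthCM3.length_le_idealDepth (I := maximalIdeal A) (M := B) xs hxsB h2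
    rw [h4] at hge
    have hle := DepthCM4.depth_le_supportDim (A := A) B
    have hle2 : ((LocCoh.depth A B : ℕ∞) : WithBot ℕ∞) ≤ ringKrullDim A :=
      hle.trans (supportDim_le_ringKrullDim A B)
    have hdA : ((LocCoh.depth A A : ℕ∞) : WithBot ℕ∞) = ringKrullDim A := by
      rw [← hcmA, supportDim_self_eq_ringKrullDim]
    have heq : ((LocCoh.depth A B : ℕ∞) : WithBot ℕ∞) = ringKrullDim A := by
      apply le_antisymm hle2
      rw [← hdA]
      exact WithBot.coe_le_coe.2 hge
    have hdepthB := RegCM.depth_eq_of_isLocalHom A B B
    exact { supportDim_eq_depth := by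
              rw [supportDim_self_eq_ringKrullDim, hdimB, ← heq, hdepthB] }
  · rintro ⟨hcm, hinj⟩
    have hdimB : ringKrullDim B = ringKrullDim A :=
      Dim.dim_eq_of_integral_injective (algebraMap A B) hint hinj
    have h1 := hcm.supportDim_eq_depth
    rw [supportDim_self_eq_ringKrullDim, hdimB, ← RegCM.depth_eq_of_isLocalHom A B B, hdimA] at h1
    have h2 : LocCoh.depth A B = ((maximalIdeal A).spanFinrank : ℕ∞) := by
      have h3 : (((maximalIdeal A).spanFinrank : ℕ∞) : WithBot ℕ∞) = ((LocCoh.depth A B : ℕ∞) : WithBot ℕ∞) := h1
      exact (WithBot.coe_injective h3).symm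
    exact RegFree.free_of_depth_eq _ A rfl B h2

end Groth.Agent.S5783
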