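import Groth.Statements.S5793
import Groth.Agent.Helper2.TopDim
open TopologicalSpace Order Topology Groth.Agent.Helper2.TopDim
-- import your own Groth.Agent.* helpers here

set_option autoImplicit false
universe u
open TopDim

namespace Groth.Agent.S5793

/-- Let X be a Noetherian Kolmogoroff space. Then dim(X) = sup dim_x(X), the supremum being over the
closed points x of X only. -/
theorem result (X : Type u) [TopologicalSpace X]
    [TopologicalSpace.NoetherianSpace X] [T0Space X] :
    topologicalKrullDim X = ⨆ x ∈ {x : X | IsClosed ({x} : Set X)}, FlatMor.localDim X x := by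
  apply le_antisymm
  · apply dim_le_of_forall_coheight
    intro Z
    obtain ⟨x, hxZ, hx⟩ := Z.isClosed.exists_closed_singleton Z.isIrreducible.nonempty
    exact le_trans (coheight_le_localDim Z x hxZ)
      (le_iSup₂_of_le (f := fun x (_ : x ∈ {x : X | IsClosed ({x} : Set X)}) => FlatMor.localDim X x) x hx (le_refl _))
  · exact iSup₂_le fun x _ => localDim_le_dim x

end Groth.Agent.S5793
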