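import Groth.Statements.S5794
import Groth.Agent.Helper2.TopDim
open TopologicalSpace Order Topology Groth.Agent.Helper2.TopDim
-- import your own Groth.Agent.* helpers here

set_option autoImplicit false
universe u
open TopDim

namespace Groth.Agent.S5794

/-- Let X be a nonempty Noetherian Kolmogoroff space. Then dim(X) = 0 if and only if X is finite and
discrete. -/
theorem result (X : Type u) [TopologicalSpace X]
    [TopologicalSpace.NoetherianSpace X] [T0Space X] [Nonempty X] :
    topologicalKrullDim X = 0 ↔ Finite X ∧ DiscreteTopology X := by
  constructor
  · intro h
    exact finite_discrete_of_dim_le_zero X h.le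
  · rintro ⟨_, hd⟩
    apply le_antisymm
    · exact topologicalKrullDim_zero_of_discreteTopology X
    · rw [topologicalKrullDim]
      have : Nonempty (IrreducibleCloseds X) := ⟨ptCl (Classical.arbitrary X)⟩
      exact krullDim_nonneg

end Groth.Agent.S5794
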