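import Groth.Statements.S5795
import Groth.Agent.Helper2.TopDim
open TopologicalSpace Order Topology Groth.Agent.Helper2.TopDim
-- import your own Groth.Agent.* helpers here

set_option autoImplicit false
universe u
open TopDim

namespace Groth.Agent.S5795

/-- Let X be a Noetherian Kolmogoroff space and x a point of X. Then x is isolated in X if and only if
dim_x(X) = 0. -/
theorem result (X : Type u) [TopologicalSpace X]
    [TopologicalSpace.NoetherianSpace X] [T0Space X] (x : X) :
    IsOpen ({x} : Set X) ↔ FlatMor.localDim X x = 0 := by
  constructor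
  · intro h
    apply le_antisymm
    · unfold FlatMor.localDim
      refine le_trans (iInf_le _ ⟨⟨{x}, h⟩, rfl⟩) ?_
      have : DiscreteTopology (({x} : Set X)) := inferInstance
      exact topologicalKrullDim_zero_of_discreteTopology _
    · unfold FlatMor.localDim
      refine le_iInf ?_
      rintro ⟨U, hxU⟩
      have : Nonempty ((U : Set X)) := ⟨⟨x, hxU⟩⟩
      exact dim_nonneg_of_nonempty _
  · intro h
    have h1 : FlatMor.localDim X x < 1 := by rw [h]; exact zero_lt_one
    unfold FlatMor.localDim at h1
    rw [iInf_lt_iff] at h1
    obtain ⟨⟨U, hxU⟩, hU⟩ := h1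
    have hU0 := withBotENat_lt_one hU
    have : NoetherianSpace ((U : Set X)) := inferInstance
    obtain ⟨_, hd⟩ := finite_discrete_of_dim_le_zero ((U : Set X)) hU0
    have ho : IsOpen ({⟨x, hxU⟩} : Set (U : Set X)) := isOpen_discrete _
    have := U.isOpen.isOpenMap_subtype_val _ ho
    simpa using this

end Groth.Agent.S5795
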