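import Groth.Statements.S5799
import Groth.Agent.Helper2.TopDim
-- import your own Groth.Agent.* helpers here

set_option autoImplicit false
universe u
open TopDim

namespace Groth.Agent.S5799

/-- If (X_i) is a locally finite covering of a topological space X by closed subsets, then dim(X) =
sup_i dim(X_i). -/
theorem result (X : Type u) [TopologicalSpace X]
    (ι : Type u) (Y : ι → Set X) (hY : ∀ i, IsClosed (Y i)) (hlf : LocallyFinite Y) (hcov : ⋃ i, Y i = Set.univ) :
    topologicalKrullDim X = ⨆ i, topologicalKrullDim (Y i) := by
  apply le_antisymm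
  · apply Groth.Agent.Helper2.TopDim.dim_le_of_forall_height
    intro Z
    obtain ⟨i, hi⟩ : ∃ i, (Z : Set X) ⊆ Y i :=
      Groth.Agent.Helper2.TopDim.exists_subset_of_locallyFinite _ Z.isIrreducible Y hY hlf hcov
    refine le_trans ?_ (le_iSup (fun i => topologicalKrullDim (Y i)) i)
    exact Groth.Agent.Helper2.TopDim.height_le_dim_of_subset Z (Y i) hi
  · exact iSup_le fun i => topologicalKrullDim_subspace_le X _

end Groth.Agent.S5799
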