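import Groth.Statements.S5800
import Groth.Agent.Helper2.TopDim
open TopologicalSpace Order Topology Groth.Agent.Helper2.TopDim
-- import your own Groth.Agent.* helpers here

set_option autoImplicit false
universe u
open TopDim

namespace Groth.Agent.S5800

/-- Let X be a topological space, x a point of X and (Y_i) a finite family of closed subsets each
containing x whose union is X. Then dim_x(X) = sup_i dim_x(Y_i). (The published statement lets the
Y_i be closed subsets of a neighbourhood U of x covering U; this row is the case U = X.) -/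
theorem result (X : Type u) [TopologicalSpace X] (x : X)
    (ι : Type u) [Finite ι] (Y : ι → Set X) (hY : ∀ i, IsClosed (Y i)) (hx : ∀ i, x ∈ Y i)
    (hcov : ⋃ i, Y i = Set.univ) :
    FlatMor.localDim X x = ⨆ i, FlatMor.localDim (Y i) ⟨x, hx i⟩ := by
  have hne : Nonempty ι := by
    have : x ∈ ⋃ i, Y i := by rw [hcov]; trivial
    obtain ⟨i, _⟩ := Set.mem_iUnion.mp this
    exact ⟨i⟩
  apply le_antisymm
  · by_contra hcon
    rw [not_le] at hcon
    set d := FlatMor.localDim X x with hd
    have hi : ∀ i, ∃ U : Opens X, x ∈ U ∧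
        topologicalKrullDim (((Subtype.val : Y i → X) ⁻¹' (U : Set X)) : Set (Y i)) < d := by
      intro i
      have h1 : FlatMor.localDim (Y i) ⟨x, hx i⟩ < d :=
        lt_of_le_of_lt (le_iSup (fun i => FlatMor.localDim (Y i) ⟨x, hx i⟩) i) hcon
      unfold FlatMor.localDim at h1
      rw [iInf_lt_iff] at h1
      obtain ⟨⟨V, hxV⟩, hV⟩ := h1
      obtain ⟨U, hU, hUV⟩ := isOpen_induced_iff.mp V.isOpen
      refine ⟨⟨U, hU⟩, ?_, ?_⟩
      · have : (⟨x, hx i⟩ : Y i) ∈ Subtype.val ⁻¹' U := by rw [hUV]; exact hxV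
        exact this
      · show topologicalKrullDim ((Subtype.val : Y i → X) ⁻¹' U) < d
        rw [hUV]; exact hV
    choose U hxU hU using hi
    let Ws : Set X := ⋂ i, (U i : Set X)
    have hWo : IsOpen Ws := isOpen_iInter_of_finite fun i => (U i).isOpen
    have hxW : x ∈ Ws := Set.mem_iInter.mpr hxU
    have h2 : d ≤ topologicalKrullDim Ws := by
      rw [hd]; unfold FlatMor.localDim
      exact iInf_le (fun U : {U : TopologicalSpace.Opens X // x ∈ U} => topologicalKrullDim (U.1 : Set X))
        ⟨⟨Ws, hWo⟩, hxW⟩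
    have h3 : topologicalKrullDim Ws =
        ⨆ i, topologicalKrullDim (((Subtype.val : Ws → X) ⁻¹' (Y i)) : Set Ws) := by
      apply le_antisymm
      · apply dim_le_of_forall_height
        intro Z
        have hZ : (Z : Set Ws) ⊆ ⋃ i, (Subtype.val : Ws → X) ⁻¹' (Y i) := by
          rw [← Set.preimage_iUnion, hcov]; exact fun _ _ => trivial
        obtain ⟨i, hi⟩ := exists_subset_of_subset_iUnion _ Z.isIrreducible _
          (fun i => (hY i).preimage continuous_subtype_val) hZ
        refine le_trans ?_ (le_iSup (fun i => topologicalKrullDim (((Subtype.val : Ws → X) ⁻¹' (Y i)) : Set Ws)) i)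
        exact height_le_dim_of_subset Z _ hi
      · exact iSup_le fun i => topologicalKrullDim_subspace_le _ _
    obtain ⟨i₀, hi₀⟩ := exists_eq_ciSup_of_finite
      (f := fun i => topologicalKrullDim (((Subtype.val : Ws → X) ⁻¹' (Y i)) : Set Ws))
    have h4 : topologicalKrullDim (((Subtype.val : Ws → X) ⁻¹' (Y i₀)) : Set Ws) ≤
        topologicalKrullDim (((Subtype.val : Y i₀ → X) ⁻¹' (U i₀ : Set X)) : Set (Y i₀)) := by
      apply dim_le_of_val_val
      intro a
      refine ⟨⟨⟨a.1.1, a.2⟩, ?_⟩, rfl⟩
      exact Set.mem_iInter.mp a.1.2 i₀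
    have := calc d ≤ topologicalKrullDim Ws := h2
      _ = _ := h3
      _ = _ := hi₀.symm
      _ ≤ _ := h4
      _ < d := hU i₀
    exact lt_irrefl _ this
  · refine iSup_le fun i => ?_
    unfold FlatMor.localDim
    refine le_iInf ?_
    rintro ⟨U, hxU⟩
    let V : Opens (Y i) := ⟨(Subtype.val : Y i → X) ⁻¹' (U : Set X), U.isOpen.preimage continuous_subtype_val⟩
    refine le_trans (iInf_le (fun V : {V : TopologicalSpace.Opens (Y i) // (⟨x, hx i⟩ : Y i) ∈ V} => topologicalKrullDim (V.1 : Set (Y i))) ⟨V, hxU⟩) ?_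
    apply dim_le_of_val
    intro a
    exact a.2

end Groth.Agent.S5800
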