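import Groth.Statements.S5810
import Groth.Agent.S0543
import Groth.Agent.S4694
import Groth.Agent.Helper2.DepthCM
import Mathlib
open IsLocalRing TensorProduct
-- import your own Groth.Agent.* helpers here

set_option autoImplicit false
universe u
open EGA41

namespace Groth.Agent.S5810

/-- Let A be a Noetherian local ring with maximal ideal m and M a finitely generated A-module; write Â
and M̂ for the m-adic completions. Then prof_A(M) = prof_Â(M̂). -/
theorem result (A : Type u) [CommRing A] [IsLocalRing A] [IsNoetherianRing A] (M : Type u)
    [AddCommGroup M] [Module A M] [Module.Finite A M] :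
    LocCoh.depth (AdicCompletion (IsLocalRing.maximalIdeal A) A) (AdicCompletion (IsLocalRing.maximalIdeal A) M) =
      LocCoh.depth A M := by
  have hNoeth : IsNoetherianRing (AdicCompletion (maximalIdeal A) A) :=
    Groth.Agent.S0543.result A (maximalIdeal A)
  have hfl : IsFiniteLength (AdicCompletion (maximalIdeal A) A)
      (EGA4.FibMod A (AdicCompletion (maximalIdeal A) A) (AdicCompletion (maximalIdeal A) A)) := by
    have heq : EGA4.mB A (AdicCompletion (maximalIdeal A) A) •
        (⊤ : Submodule (AdicCompletion (maximalIdeal A) A) (AdicCompletion (maximalIdeal A) A)) =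
        maximalIdeal (AdicCompletion (maximalIdeal A) A) := by
      rw [AdicCompletion.maximalIdeal_eq_map, smul_eq_mul, Ideal.mul_top]
    have hsimple : IsSimpleModule (AdicCompletion (maximalIdeal A) A)
        (EGA4.FibMod A (AdicCompletion (maximalIdeal A) A) (AdicCompletion (maximalIdeal A) A)) := by
      rw [isSimpleModule_iff_quot_maximal]
      exact ⟨maximalIdeal (AdicCompletion (maximalIdeal A) A), inferInstance,
        ⟨Submodule.quotEquivOfEq _ _ heq⟩⟩
    rw [← Module.length_ne_top_iff, Module.length_eq_one]
    exact ENat.one_ne_top
  have h1 := Groth.Agent.S4694.result (A := A) (B := AdicCompletion (maximalIdeal A) A)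
    (M := M) (N := AdicCompletion (maximalIdeal A) A) hfl
  rw [← h1]
  exact (Groth.Agent.Helper2.DepthCM.idealDepth_congr _
    (AdicCompletion.ofTensorProductEquivOfFiniteNoetherian (maximalIdeal A) M)).symm

end Groth.Agent.S5810
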