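import Groth.Statements.S5813
import Mathlib
import Groth.Agent.Helper2.ExalHom
open Groth.Agent.Helper2.ExalHom
-- import your own Groth.Agent.* helpers here

set_option autoImplicit false
universe u
open EGA41

namespace Groth.Agent.S5813

/-- Injectivity, commutative form. Let J be an ideal of the commutative ring B, C = B ⧸ J, M a C-module.
Two B-extensions of C by M whose induced linear maps J/J² → M (obtained from the restriction to J of
the structure map B → E) coincide are equivalent. -/
theorem result {B : Type u} [CommRing B] (J : Ideal B)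
    {M : Type u} [AddCommGroup M] [Module (B ⧸ J) M] [Module B M] [IsScalarTower B (B ⧸ J) M]
    (X Y : Exal.Ext B (B ⧸ J) M) (h : X.conormalMap J = Y.conormalMap J) :
    Nonempty (X.Equiv Y) := by
  have hk : ∀ j : J, X.idealToKer J j = Y.idealToKer J j := fun j => by
    have := congrArg (fun f => f (J.toCotangent j)) h
    exact this
  obtain ⟨φ, hφ⟩ := exal_exists_hom J X Y hk
  obtain ⟨ψ, hψ⟩ := exal_exists_hom J Y X (fun j => (hk j).symm)
  have hpiX : ∀ z, X.proj (X.incl z) = 0 := fun z => (X.isExtension.exact _).2 ⟨z, rfl⟩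
  have hpiY : ∀ z, Y.proj (Y.incl z) = 0 := fun z => (Y.isExtension.exact _).2 ⟨z, rfl⟩
  have hdecX : ∀ x : X.E, ∃ (b : B) (z : M), x = algebraMap B X.E b + X.incl z := fun x => by
    obtain ⟨b, hb⟩ := Ideal.Quotient.mk_surjective (X.proj x)
    have h0 : X.proj (x - algebraMap B X.E b) = 0 := by
      rw [map_sub, AlgHom.commutes, Ideal.Quotient.algebraMap_eq, hb, sub_self]
    obtain ⟨z, hz⟩ := (X.isExtension.exact _).1 h0
    exact ⟨b, z, by rw [hz]; abel⟩
  have hdecY : ∀ x : Y.E, ∃ (b : B) (z : M), x = algebraMap B Y.E b + Y.incl z := fun x => by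
    obtain ⟨b, hb⟩ := Ideal.Quotient.mk_surjective (Y.proj x)
    have h0 : Y.proj (x - algebraMap B Y.E b) = 0 := by
      rw [map_sub, AlgHom.commutes, Ideal.Quotient.algebraMap_eq, hb, sub_self]
    obtain ⟨z, hz⟩ := (Y.isExtension.exact _).1 h0
    exact ⟨b, z, by rw [hz]; abel⟩
  have h1 : ψ.comp φ = AlgHom.id B X.E := by
    ext x
    obtain ⟨b, z, rfl⟩ := hdecX x
    change ψ (φ _) = _
    rw [hφ, hψ]
    rfl
  have h2 : φ.comp ψ = AlgHom.id B Y.E := by
    ext x
    obtain ⟨b, z, rfl⟩ := hdecY x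
    change φ (ψ _) = _
    rw [hψ, hφ]
    rfl
  refine ⟨⟨AlgEquiv.ofAlgHom φ ψ h2 h1, ?_, ?_⟩⟩
  · intro x
    obtain ⟨b, z, rfl⟩ := hdecX x
    change Y.proj (φ _) = _
    rw [hφ, map_add, map_add, hpiX, hpiY, AlgHom.commutes, AlgHom.commutes]
  · intro z
    change φ (X.incl z) = _
    have := hφ 0 z
    rw [map_zero, map_zero, zero_add, zero_add] at this
    exact this

end Groth.Agent.S5813
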