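import Groth.Statements.S5814
import Mathlib
attribute [local instance] Exal.opModule Exal.isCentralScalar_opModule
-- import your own Groth.Agent.* helpers here

set_option autoImplicit false
universe u
open EGA41

namespace Groth.Agent.S5814

/-- Surjectivity, commutative form. Let J be an ideal of the commutative ring B, C = B ⧸ J, M a
C-module. Every linear map w : J/J² → M arises from a B-extension of C by M: there is an extension
whose induced map J/J² → M is w. Together with the injectivity statement this is the canonical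
bijection between Hom_C(J/J², M) and the classes of B-extensions of C by M. -/
theorem result {B : Type u} [CommRing B] (J : Ideal B)
    {M : Type u} [AddCommGroup M] [Module (B ⧸ J) M] [Module B M] [IsScalarTower B (B ⧸ J) M]
    (w : J.Cotangent →ₗ[B] M) :
    ∃ X : Exal.Ext B (B ⧸ J) M, X.conormalMap J = w := by
  have hJM : ∀ (j : B) (z : M), j ∈ J → j • z = 0 := fun j z hj => by
    rw [← algebraMap_smul (B ⧸ J) j z, Ideal.Quotient.algebraMap_eq,
      Ideal.Quotient.eq_zero_iff_mem.2 hj, zero_smul]
  let K : Ideal (TrivSqZeroExt B M) :=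
    { carrier := {y | ∃ j : J, y = TrivSqZeroExt.inl (j : B) - TrivSqZeroExt.inr (w (J.toCotangent j))}
      add_mem' := by
        rintro _ _ ⟨j, rfl⟩ ⟨j', rfl⟩
        refine ⟨j + j', ?_⟩
        rw [map_add, map_add, TrivSqZeroExt.inr_add, Submodule.coe_add, TrivSqZeroExt.inl_add]
        abel
      zero_mem' := ⟨0, by simp⟩
      smul_mem' := by
        rintro y _ ⟨j, rfl⟩
        refine ⟨y.fst • j, ?_⟩
        apply TrivSqZeroExt.ext
        · simp
        · simp only [smul_eq_mul, TrivSqZeroExt.snd_mul, TrivSqZeroExt.snd_sub, TrivSqZeroExt.snd_inl,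
            TrivSqZeroExt.snd_inr, zero_sub, smul_neg, TrivSqZeroExt.fst_sub, TrivSqZeroExt.fst_inl,
            TrivSqZeroExt.fst_inr, sub_zero, op_smul_eq_smul, map_smul]
          rw [hJM _ _ j.2, add_zero] }
  have hK : ∀ y : (TrivSqZeroExt B M), y ∈ K ↔ ∃ j : J, y = TrivSqZeroExt.inl (j : B) - TrivSqZeroExt.inr (w (J.toCotangent j)) :=
    fun y => Iff.rfl
  let β : B →+* (TrivSqZeroExt B M) ⧸ K := (Ideal.Quotient.mk K).comp (TrivSqZeroExt.inlHom B M)
  let algE : Algebra B ((TrivSqZeroExt B M) ⧸ K) := β.toAlgebra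
  let p₀ : (TrivSqZeroExt B M) →+* B ⧸ J := (Ideal.Quotient.mk J).comp (TrivSqZeroExt.fstHom B B M).toRingHom
  have hp₀ : ∀ y ∈ K, p₀ y = 0 := by
    rintro _ ⟨j, rfl⟩
    change Ideal.Quotient.mk J (TrivSqZeroExt.fst (TrivSqZeroExt.inl (j : B) - TrivSqZeroExt.inr (w (J.toCotangent j)))) = 0
    rw [TrivSqZeroExt.fst_sub, TrivSqZeroExt.fst_inl, TrivSqZeroExt.fst_inr, sub_zero,
      Ideal.Quotient.eq_zero_iff_mem]
    exact j.2
  let p : (TrivSqZeroExt B M) ⧸ K →+* B ⧸ J := Ideal.Quotient.lift K p₀ hp₀
  have hp : ∀ y : (TrivSqZeroExt B M), p (Ideal.Quotient.mk K y) = Ideal.Quotient.mk J y.fst := fun y => rfl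
  let i : M →+ (TrivSqZeroExt B M) ⧸ K := (Ideal.Quotient.mk K : (TrivSqZeroExt B M) →+* (TrivSqZeroExt B M) ⧸ K).toAddMonoidHom.comp
    (TrivSqZeroExt.inrHom B M).toAddMonoidHom
  have hi : ∀ z, i z = Ideal.Quotient.mk K (TrivSqZeroExt.inr z) := fun z => rfl
  let X : Exal.Ext B (B ⧸ J) M :=
    { E := (TrivSqZeroExt B M) ⧸ K
      proj := { p with commutes' := fun b => rfl }
      incl := i
      isExtension :=
        { proj_surjective := fun c => by
            obtain ⟨b, rfl⟩ := Ideal.Quotient.mk_surjective c
            exact ⟨Ideal.Quotient.mk K (TrivSqZeroExt.inl b), rfl⟩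
          incl_injective := by
            rw [injective_iff_map_eq_zero]
            intro z hz
            rw [hi, Ideal.Quotient.eq_zero_iff_mem, hK] at hz
            obtain ⟨j, hj⟩ := hz
            have h1 := congrArg TrivSqZeroExt.fst hj
            have h2 := congrArg TrivSqZeroExt.snd hj
            simp only [TrivSqZeroExt.fst_inr, TrivSqZeroExt.fst_sub, TrivSqZeroExt.fst_inl, sub_zero,
              TrivSqZeroExt.snd_inr, TrivSqZeroExt.snd_sub, TrivSqZeroExt.snd_inl, zero_sub] at h1 h2
            have : j = 0 := Subtype.ext h1.symm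
            rw [h2, this, map_zero, map_zero, neg_zero]
          exact := fun x => by
            obtain ⟨y, rfl⟩ := Ideal.Quotient.mk_surjective x
            constructor
            · intro h0
              have h0' : Ideal.Quotient.mk J y.fst = 0 := h0
              rw [Ideal.Quotient.eq_zero_iff_mem] at h0'
              refine ⟨y.snd + w (J.toCotangent ⟨_, h0'⟩), ?_⟩
              rw [hi, eq_comm, Ideal.Quotient.eq, hK]
              refine ⟨⟨_, h0'⟩, ?_⟩
              apply TrivSqZeroExt.ext <;> simp
            · rintro ⟨z, hz⟩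
              rw [← hz, hi]
              change Ideal.Quotient.mk J (TrivSqZeroExt.fst (TrivSqZeroExt.inr z : (TrivSqZeroExt B M))) = 0
              rw [TrivSqZeroExt.fst_inr, map_zero]
          mul_incl := fun x z => by
            obtain ⟨y, rfl⟩ := Ideal.Quotient.mk_surjective x
            change Ideal.Quotient.mk K y * Ideal.Quotient.mk K (TrivSqZeroExt.inr z) =
              Ideal.Quotient.mk K (TrivSqZeroExt.inr (Ideal.Quotient.mk J y.fst • z))
            rw [← map_mul]
            congr 1
            apply TrivSqZeroExt.ext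
            · simp
            · simp only [TrivSqZeroExt.snd_mul, TrivSqZeroExt.snd_inr, TrivSqZeroExt.fst_inr,
                MulOpposite.op_zero, zero_smul, add_zero]
              rw [← Ideal.Quotient.algebraMap_eq, algebraMap_smul] } }
  refine ⟨X, ?_⟩
  apply LinearMap.ext
  intro c
  obtain ⟨j, rfl⟩ := J.toCotangent_surjective c
  change X.idealToKer J j = w (J.toCotangent j)
  apply X.isExtension.incl_injective
  change X.incl (X.kerLift (algebraMap B X.E j) (Exal.Ext.proj_algebraMap_eq_zero J X j)) = _
  rw [Exal.Ext.incl_kerLift]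
  change Ideal.Quotient.mk K (TrivSqZeroExt.inl (j : B)) = Ideal.Quotient.mk K (TrivSqZeroExt.inr (w (J.toCotangent j)))
  rw [Ideal.Quotient.eq, hK]
  exact ⟨j, rfl⟩

end Groth.Agent.S5814
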