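import Groth.Statements.S5815
import Mathlib
-- import your own Groth.Agent.* helpers here

set_option autoImplicit false
universe u
open EGA41

namespace Groth.Agent.S5815

/-- Discrete case. A commutative A-algebra B is formally smooth if and only if every A-extension of B by
a B-module L is trivial (has an A-algebra section). A and B are taken in one universe and L ranges
over that universe. (The published statement is for topological rings, with direct-limit classes of
extensions; this row is its discrete case.) -/
theorem result (A B : Type u) [CommRing A] [CommRing B] [Algebra A B] :
    Algebra.FormallySmooth A B ↔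
      ∀ (L : Type u) [AddCommGroup L] [Module B L] (X : Exal.Ext A B L), X.IsTrivial := by
  constructor
  · intro h L _ _ X
    have hnil : IsNilpotent (RingHom.ker (X.proj : X.E →+* B)) := by
      refine ⟨2, ?_⟩
      rw [Ideal.zero_eq_bot, eq_bot_iff, pow_two, Ideal.mul_le]
      intro x hx y hy
      rw [RingHom.mem_ker] at hx hy
      obtain ⟨z, rfl⟩ := (X.isExtension.exact y).1 hy
      rw [X.isExtension.mul_incl]
      have : X.proj x = 0 := hx
      rw [this, zero_smul, map_zero]
      exact Ideal.zero_mem _
    refine ⟨Algebra.FormallySmooth.liftOfSurjective (AlgHom.id A B) X.proj
      X.isExtension.proj_surjective hnil, fun b => ?_⟩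
    exact Algebra.FormallySmooth.liftOfSurjective_apply _ _ _ _ b
  · intro H
    apply Algebra.FormallySmooth.of_comp_surjective
    intro C _ _ I hI g
    have hmul : ∀ a b : C, a ∈ I → b ∈ I → a * b = 0 := by
      intro a b ha hb
      have : a * b ∈ I ^ 2 := by rw [pow_two]; exact Ideal.mul_mem_mul ha hb
      rw [hI] at this
      exact this
    have htors : Module.IsTorsionBySet C I I := by
      intro x a
      apply Subtype.ext
      exact hmul _ _ a.2 x.2
    let m1 : Module (C ⧸ I) I := htors.module
    let m2 : Module B I := Module.compHom I (g : B →+* C ⧸ I)
    have hsm : ∀ (b : B) (c : C) (z : I), g b = Ideal.Quotient.mk I c → ((b • z : I) : C) = c * z := by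
      intro b c z h
      change (((g b) • z : I) : C) = c * z
      rw [h]
      rfl
    let E : Subalgebra A (C × B) := AlgHom.equalizer ((Ideal.Quotient.mkₐ A I).comp (AlgHom.fst A C B))
      (g.comp (AlgHom.snd A C B))
    have hE : ∀ x : E, Ideal.Quotient.mk I x.1.1 = g x.1.2 := fun x => x.2
    let X : Exal.Ext A B I :=
      { E := E
        proj := (AlgHom.snd A C B).comp E.val
        incl :=
          { toFun := fun z => ⟨((z : C), 0), by
              change Ideal.Quotient.mk I (z : C) = g 0
              rw [map_zero, Ideal.Quotient.eq_zero_iff_mem]; exact z.2⟩
            map_zero' := rfl
            map_add' := fun z z' => by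
              apply Subtype.ext
              apply Prod.ext <;> simp }
        isExtension :=
          { proj_surjective := fun b => by
              obtain ⟨c, hc⟩ := Ideal.Quotient.mk_surjective (g b)
              exact ⟨⟨(c, b), hc⟩, rfl⟩
            incl_injective := fun z z' h => by
              have := congrArg (fun e : E => e.1.1) h
              exact Subtype.ext this
            exact := fun x => by
              constructor
              · intro hx
                have hx' : x.1.2 = 0 := hx
                have h1 := hE x
                rw [hx', map_zero, Ideal.Quotient.eq_zero_iff_mem] at h1
                refine ⟨⟨x.1.1, h1⟩, ?_⟩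
                apply Subtype.ext
                apply Prod.ext
                · rfl
                · exact hx'.symm
              · rintro ⟨z, rfl⟩
                rfl
            mul_incl := fun x z => by
              apply Subtype.ext
              apply Prod.ext
              · change x.1.1 * (z : C) = (((x.1.2) • z : I) : C)
                rw [hsm _ _ _ (hE x).symm]
              · change x.1.2 * 0 = 0
                exact mul_zero _ } }
    obtain ⟨s, hs⟩ := H I X
    refine ⟨((AlgHom.fst A C B).comp E.val).comp s, ?_⟩
    ext b
    have := hE (s b)
    have h2 : (s b).1.2 = b := hs b
    rw [h2] at this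
    exact this

end Groth.Agent.S5815
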