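import Groth.Statements.S5816
import Mathlib
import Groth.Agent.Helper2.ExalFib
open Groth.Agent.Helper2
-- import your own Groth.Agent.* helpers here

set_option autoImplicit false
universe u
open EGA41

namespace Groth.Agent.S5816

/-- Discrete case. For ring maps Λ → A → B, B is formally smooth over A relative to Λ (square-zero test
ideals) if and only if every A-extension of B by a B-module L which is Λ-trivial is A-trivial. Λ, A,
B are taken in one universe and L ranges over it. (The published statement is for topological rings;
this row is its discrete case.) -/
theorem result (Λ A B : Type u) [CommRing Λ]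
    [CommRing A] [CommRing B] [Algebra Λ A] [Algebra Λ B] [Algebra A B] [IsScalarTower Λ A B] :
    EGA41.IsFormallySmoothRel Λ A B ↔
      ∀ (L : Type u) [AddCommGroup L] [Module B L] (X : Exal.Ext A B L),
        X.IsTrivialOver Λ → X.IsTrivial := by
  constructor
  · intro H L _ _ X hX
    obtain ⟨s, hs⟩ := hX
    let i1 : Algebra Λ X.E := inferInstanceAs (Algebra Λ (X.RestrictCarrier Λ))
    have i2 : IsScalarTower Λ A X.E := IsScalarTower.of_algebraMap_eq (fun _ => rfl)
    let e := Ideal.quotientKerAlgEquivOfSurjective (f := X.proj) X.isExtension.proj_surjective
    have hsq := ExalFib.sq_eq_bot_ker X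
    obtain ⟨v, hv⟩ := @H X.E _ _ i1 i2 (RingHom.ker (X.proj : X.E →+* B)) hsq e.symm.toAlgHom ⟨s, by
      ext b
      apply e.injective
      change e (Ideal.Quotient.mk _ (s b)) = e (e.symm b)
      rw [AlgEquiv.apply_symm_apply]
      exact hs b⟩
    refine ⟨v, fun b => ?_⟩
    have h1 := congrArg (fun f => e (f b)) hv
    simp only [AlgHom.comp_apply] at h1
    have h2 : e (e.symm.toAlgHom b) = b := e.apply_symm_apply b
    exact h1.trans h2
  · intro H C _ _ _ _ J hJ u₀ ⟨u, hu⟩
    apply ExalFib.exists_lift_of_isTrivial J hJ u₀
    let _ := ExalFib.modI J hJ u₀
    apply H J (ExalFib.fibExt J hJ u₀)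
    have hmk : ∀ b, Ideal.Quotient.mk J (u b) = u₀ b := fun b => by
      have := congrArg (fun f => f b) hu
      exact this
    refine ⟨?_, ?_⟩
    · exact
      { toFun := fun b => ExalFib.fibMk J hJ u₀ (u b) b (hmk b)
        map_one' := by
          apply Subtype.ext
          apply Prod.ext
          · exact map_one u
          · rfl
        map_mul' := fun x y => by
          apply Subtype.ext
          apply Prod.ext
          · exact map_mul u x y
          · rfl
        map_zero' := by
          apply Subtype.ext
          apply Prod.ext
          · exact map_zero u
          · rfl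
        map_add' := fun x y => by
          apply Subtype.ext
          apply Prod.ext
          · exact map_add u x y
          · rfl
        commutes' := fun l => by
          apply Subtype.ext
          apply Prod.ext
          · change u (algebraMap Λ B l) = algebraMap A C (algebraMap Λ A l)
            rw [AlgHom.commutes, ← IsScalarTower.algebraMap_apply]
          · change algebraMap Λ B l = algebraMap A B (algebraMap Λ A l)
            rw [← IsScalarTower.algebraMap_apply] }
    · intro b
      rfl

end Groth.Agent.S5816
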