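import Groth.Statements.S5817
import Mathlib
attribute [local instance] Exal.opModule Exal.isCentralScalar_opModule
-- import your own Groth.Agent.* helpers here

set_option autoImplicit false
universe u v
open EGA41

namespace Groth.Agent.S5817

/-- Commutative rings, exactness at Der_A(B, L). For ring maps A → B → C and a C-module L, the
B-extension of C by L attached to an A-derivation D : B → L (middle ring C ⊕ L, made a B-algebra
through x ↦ (x, D x)) is trivial if and only if D is the composite of B → C with an A-derivation C →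
L. -/
theorem result {A : Type u} {B C L : Type v} [CommRing A] [CommRing B] [CommRing C]
    [Algebra A B] [Algebra B C] [Algebra A C] [IsScalarTower A B C]
    [AddCommGroup L] [Module C L] [Module B L] [IsScalarTower B C L] [Module A L] [IsScalarTower A B L]
    [IsScalarTower A C L]
    (D : Derivation A B L) :
    (Exal.Ext.ofDerivation (C := C) D).IsTrivial ↔
      ∃ D' : Derivation A C L, D'.compAlgebraMap B = D := by
  constructor
  · rintro ⟨s, hs⟩
    let s' : C → TrivSqZeroExt C L := fun c => s c
    have hfst : ∀ c, TrivSqZeroExt.fst (s' c) = c := hs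
    have hmul : ∀ x y : C, s' (x * y) = s' x * s' y := fun x y => map_mul s x y
    have hadd : ∀ x y : C, s' (x + y) = s' x + s' y := fun x y => map_add s x y
    have hcomm : ∀ b : B, s' (algebraMap B C b) =
        TrivSqZeroExt.inl (algebraMap B C b) + TrivSqZeroExt.inr (D b) := fun b => s.commutes b
    let D₀ : C →ₗ[A] L :=
      { toFun := fun c => TrivSqZeroExt.snd (s' c)
        map_add' := fun x y => by rw [hadd, TrivSqZeroExt.snd_add]
        map_smul' := fun a c => by
          rw [Algebra.smul_def, hmul, IsScalarTower.algebraMap_apply A B C, hcomm]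
          simp only [Derivation.map_algebraMap, TrivSqZeroExt.inr_zero, add_zero, TrivSqZeroExt.snd_mul,
            TrivSqZeroExt.fst_inl, TrivSqZeroExt.snd_inl, smul_zero, RingHom.id_apply]
          rw [← IsScalarTower.algebraMap_apply, algebraMap_smul] }
    refine ⟨Derivation.mk' D₀ ?_, ?_⟩
    · intro x y
      change TrivSqZeroExt.snd (s' (x * y)) =
        x • TrivSqZeroExt.snd (s' y) + y • TrivSqZeroExt.snd (s' x)
      rw [hmul, TrivSqZeroExt.snd_mul, hfst, hfst, op_smul_eq_smul]
    · ext b
      change TrivSqZeroExt.snd (s' (algebraMap B C b)) = D b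
      rw [hcomm]
      simp
  · rintro ⟨D', rfl⟩
    let t : C → TrivSqZeroExt C L := fun c => TrivSqZeroExt.inl c + TrivSqZeroExt.inr (D' c)
    have t1 : t 1 = 1 := by
      change (TrivSqZeroExt.inl 1 + TrivSqZeroExt.inr (D' 1) : TrivSqZeroExt C L) = 1
      rw [Derivation.map_one_eq_zero, TrivSqZeroExt.inr_zero, add_zero, TrivSqZeroExt.inl_one]
    have tmul : ∀ x y, t (x * y) = t x * t y := fun x y => by
      change (TrivSqZeroExt.inl (x * y) + TrivSqZeroExt.inr (D' (x * y)) : TrivSqZeroExt C L) =
        (TrivSqZeroExt.inl x + TrivSqZeroExt.inr (D' x)) * (TrivSqZeroExt.inl y + TrivSqZeroExt.inr (D' y))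
      apply TrivSqZeroExt.ext
      · simp
      · simp only [TrivSqZeroExt.snd_add, TrivSqZeroExt.snd_inl, TrivSqZeroExt.snd_inr, zero_add,
          TrivSqZeroExt.snd_mul, TrivSqZeroExt.fst_add, TrivSqZeroExt.fst_inl, TrivSqZeroExt.fst_inr,
          add_zero, Derivation.leibniz, op_smul_eq_smul]
    have t0 : t 0 = 0 := by
      change (TrivSqZeroExt.inl 0 + TrivSqZeroExt.inr (D' 0) : TrivSqZeroExt C L) = 0
      rw [map_zero, TrivSqZeroExt.inr_zero, add_zero, TrivSqZeroExt.inl_zero]
    have tadd : ∀ x y, t (x + y) = t x + t y := fun x y => by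
      change (TrivSqZeroExt.inl (x + y) + TrivSqZeroExt.inr (D' (x + y)) : TrivSqZeroExt C L) =
        (TrivSqZeroExt.inl x + TrivSqZeroExt.inr (D' x)) + (TrivSqZeroExt.inl y + TrivSqZeroExt.inr (D' y))
      rw [map_add, TrivSqZeroExt.inl_add, TrivSqZeroExt.inr_add]
      abel
    refine ⟨?_, ?_⟩
    · exact
      { toFun := t
        map_one' := t1
        map_mul' := tmul
        map_zero' := t0
        map_add' := tadd
        commutes' := fun b => rfl }
    · intro c
      change TrivSqZeroExt.fst (TrivSqZeroExt.inl c + TrivSqZeroExt.inr (D' c) : TrivSqZeroExt C L) = c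
      simp

end Groth.Agent.S5817
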