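import Groth.Statements.S5818
import Mathlib
attribute [local instance] Exal.opModule Exal.isCentralScalar_opModule
-- import your own Groth.Agent.* helpers here

set_option autoImplicit false
universe u v
open EGA41

namespace Groth.Agent.S5818

/-- Commutative rings, exactness at Exalcom_B(C, L) on underlying pointed sets. For ring maps A → B → C
and a C-module L, a B-extension of C by L is A-trivial if and only if it is equivalent to the
extension attached to some A-derivation B → L. -/
theorem result {A : Type u} {B C L : Type v} [CommRing A] [CommRing B] [CommRing C]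
    [Algebra A B] [Algebra B C] [Algebra A C] [IsScalarTower A B C]
    [AddCommGroup L] [Module C L] [Module B L] [IsScalarTower B C L] [Module A L] [IsScalarTower A B L]
    [IsScalarTower A C L]
    (X : Exal.Ext B C L) :
    X.IsTrivialOver A ↔
      ∃ D : Derivation A B L, Nonempty (X.Equiv (Exal.Ext.ofDerivation (C := C) D)) := by
  have hpi : ∀ z, X.proj (X.incl z) = 0 := fun z => (X.isExtension.exact _).2 ⟨z, rfl⟩
  have hii : ∀ z z', X.incl z * X.incl z' = 0 := fun z z' => by
    rw [X.isExtension.mul_incl, hpi, zero_smul, map_zero]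
  have hmi : ∀ (x : X.E) z, x * X.incl z = X.incl (X.proj x • z) := X.isExtension.mul_incl
  have hinj := X.isExtension.incl_injective
  constructor
  · rintro ⟨s, hs⟩
    -- view `s` as a ring hom into `X.E`
    let s₀ : C →+* (X.restrictBase A).E := s
    let s' : C →+* X.E := s₀
    have hs' : ∀ c, X.proj (s' c) = c := hs
    have hsA : ∀ a : A, s' (algebraMap A C a) = algebraMap B X.E (algebraMap A B a) :=
      fun a => s.commutes a
    let β : B →+* X.E := algebraMap B X.E
    let τ : B →+* X.E := s'.comp (algebraMap B C)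
    have hpβ : ∀ b, X.proj (β b) = algebraMap B C b := fun b => X.proj.commutes b
    have hpτ : ∀ b, X.proj (τ b) = algebraMap B C b := fun b => hs' _
    have hker : ∀ b, X.proj (β b - τ b) = 0 := fun b => by rw [map_sub, hpβ, hpτ, sub_self]
    let d : B → L := fun b => X.kerLift (β b - τ b) (hker b)
    have hd : ∀ b, X.incl (d b) = β b - τ b := fun b => Exal.Ext.incl_kerLift _ _ _
    have hbs : ∀ (b : B) (z : L), X.incl (b • z) = β b * X.incl z := fun b z => by
      rw [hmi, hpβ, algebraMap_smul]
    let D₀ : B →ₗ[A] L :=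
      { toFun := d
        map_add' := fun b b' => by
          apply hinj
          rw [map_add, hd, hd, hd, map_add, map_add]
          abel
        map_smul' := fun a b => by
          apply hinj
          rw [RingHom.id_apply, ← algebraMap_smul B a (d b), hbs, hd, hd, Algebra.smul_def, map_mul,
            map_mul]
          have : τ (algebraMap A B a) = β (algebraMap A B a) := by
            change s' (algebraMap B C (algebraMap A B a)) = _
            rw [← IsScalarTower.algebraMap_apply, hsA]
          rw [this]
          ring }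
    let D : Derivation A B L := Derivation.mk' D₀ (by
      intro b b'
      apply hinj
      change X.incl (d (b * b')) = X.incl (b • d b' + b' • d b)
      rw [map_add, hbs, hbs, hd, hd, hd, map_mul, map_mul]
      have := hii (d b) (d b')
      rw [hd, hd] at this
      linear_combination -this)
    have hD : ∀ b, X.incl (D b) = β b - τ b := hd
    refine ⟨D, ⟨Exal.Ext.Equiv.symm ?_⟩⟩
    let ψ₀ : TrivSqZeroExt C L → X.E := fun y => s' (TrivSqZeroExt.fst y) + X.incl (TrivSqZeroExt.snd y)
    have ψmul : ∀ y y' : TrivSqZeroExt C L, ψ₀ (y * y') = ψ₀ y * ψ₀ y' := fun y y' => by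
      change s' (TrivSqZeroExt.fst (y * y')) + X.incl (TrivSqZeroExt.snd (y * y')) =
        (s' (TrivSqZeroExt.fst y) + X.incl (TrivSqZeroExt.snd y)) *
          (s' (TrivSqZeroExt.fst y') + X.incl (TrivSqZeroExt.snd y'))
      rw [TrivSqZeroExt.fst_mul, TrivSqZeroExt.snd_mul, op_smul_eq_smul, map_mul, map_add]
      have h1 : X.incl (y.fst • y'.snd) = s' y.fst * X.incl y'.snd := by rw [hmi, hs']
      have h2 : X.incl (y'.fst • y.snd) = s' y'.fst * X.incl y.snd := by rw [hmi, hs']
      rw [h1, h2]
      have := hii y.snd y'.snd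
      linear_combination -this
    have ψadd : ∀ y y' : TrivSqZeroExt C L, ψ₀ (y + y') = ψ₀ y + ψ₀ y' := fun y y' => by
      change s' (TrivSqZeroExt.fst (y + y')) + X.incl (TrivSqZeroExt.snd (y + y')) =
        (s' (TrivSqZeroExt.fst y) + X.incl (TrivSqZeroExt.snd y)) +
          (s' (TrivSqZeroExt.fst y') + X.incl (TrivSqZeroExt.snd y'))
      rw [TrivSqZeroExt.fst_add, TrivSqZeroExt.snd_add, map_add, map_add]
      abel
    have ψone : ψ₀ 1 = 1 := by
      change s' (TrivSqZeroExt.fst (1 : TrivSqZeroExt C L)) + X.incl (TrivSqZeroExt.snd (1 : TrivSqZeroExt C L)) = 1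
      rw [TrivSqZeroExt.fst_one, TrivSqZeroExt.snd_one, map_one, map_zero, add_zero]
    have ψzero : ψ₀ 0 = 0 := by
      change s' (TrivSqZeroExt.fst (0 : TrivSqZeroExt C L)) + X.incl (TrivSqZeroExt.snd (0 : TrivSqZeroExt C L)) = 0
      rw [TrivSqZeroExt.fst_zero, TrivSqZeroExt.snd_zero, map_zero, map_zero, add_zero]
    have ψalg : ∀ b : B, ψ₀ (TrivSqZeroExt.inl (algebraMap B C b) + TrivSqZeroExt.inr (D b)) = β b := fun b => by
      change s' (TrivSqZeroExt.fst (TrivSqZeroExt.inl (algebraMap B C b) + TrivSqZeroExt.inr (D b) : TrivSqZeroExt C L)) +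
        X.incl (TrivSqZeroExt.snd (TrivSqZeroExt.inl (algebraMap B C b) + TrivSqZeroExt.inr (D b) : TrivSqZeroExt C L)) = β b
      simp only [TrivSqZeroExt.fst_add, TrivSqZeroExt.fst_inl, TrivSqZeroExt.fst_inr, add_zero,
        TrivSqZeroExt.snd_add, TrivSqZeroExt.snd_inl, TrivSqZeroExt.snd_inr, zero_add]
      rw [hD]
      change τ b + (β b - τ b) = β b
      abel
    let ψ : (Exal.Ext.ofDerivation (C := C) D).E →ₐ[B] X.E :=
      { toFun := ψ₀
        map_one' := ψone
        map_mul' := ψmul
        map_zero' := ψzero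
        map_add' := ψadd
        commutes' := ψalg }
    have ψproj : ∀ y : TrivSqZeroExt C L, X.proj (ψ₀ y) = TrivSqZeroExt.fst y := fun y => by
      change X.proj (s' (TrivSqZeroExt.fst y) + X.incl (TrivSqZeroExt.snd y)) = _
      rw [map_add, hs', hpi, add_zero]
    have ψbij : Function.Bijective ψ := by
      constructor
      · rw [injective_iff_map_eq_zero]
        intro y hy
        have hy' : ψ₀ y = 0 := hy
        have h1 : TrivSqZeroExt.fst (y : TrivSqZeroExt C L) = 0 := by
          rw [← ψproj, hy', map_zero]
        have h2 : X.incl (TrivSqZeroExt.snd (y : TrivSqZeroExt C L)) = 0 := by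
          have : s' (TrivSqZeroExt.fst (y : TrivSqZeroExt C L)) + X.incl (TrivSqZeroExt.snd (y : TrivSqZeroExt C L)) = 0 := hy'
          rw [h1, map_zero, zero_add] at this
          exact this
        have h3 : TrivSqZeroExt.snd (y : TrivSqZeroExt C L) = 0 := hinj (h2.trans (map_zero _).symm)
        exact TrivSqZeroExt.ext h1 h3
      · intro x
        have h0 : X.proj (x - s' (X.proj x)) = 0 := by rw [map_sub, hs', sub_self]
        obtain ⟨w, hw⟩ := (X.isExtension.exact _).1 h0
        refine ⟨(TrivSqZeroExt.inl (X.proj x) + TrivSqZeroExt.inr w : TrivSqZeroExt C L), ?_⟩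
        change s' (TrivSqZeroExt.fst (TrivSqZeroExt.inl (X.proj x) + TrivSqZeroExt.inr w : TrivSqZeroExt C L)) +
          X.incl (TrivSqZeroExt.snd (TrivSqZeroExt.inl (X.proj x) + TrivSqZeroExt.inr w : TrivSqZeroExt C L)) = x
        simp only [TrivSqZeroExt.fst_add, TrivSqZeroExt.fst_inl, TrivSqZeroExt.fst_inr, add_zero,
          TrivSqZeroExt.snd_add, TrivSqZeroExt.snd_inl, TrivSqZeroExt.snd_inr, zero_add]
        rw [hw]
        abel
    refine ⟨AlgEquiv.ofBijective ψ ψbij, ?_, ?_⟩
    · intro y
      exact ψproj y
    · intro z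
      change s' (TrivSqZeroExt.fst (TrivSqZeroExt.inr z : TrivSqZeroExt C L)) +
        X.incl (TrivSqZeroExt.snd (TrivSqZeroExt.inr z : TrivSqZeroExt C L)) = X.incl z
      rw [TrivSqZeroExt.fst_inr, TrivSqZeroExt.snd_inr, map_zero, zero_add]
  · rintro ⟨D, ⟨e⟩⟩
    let t : C → TrivSqZeroExt C L := fun c => TrivSqZeroExt.inl c
    let σ : C → X.E := fun c => e.toAlgEquiv.symm (t c)
    have hσp : ∀ c, X.proj (σ c) = c := fun c => by
      have := e.proj_apply (σ c)
      rw [← this]
      change (Exal.Ext.ofDerivation (C := C) D).proj (e.toAlgEquiv (e.toAlgEquiv.symm (t c))) = c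
      rw [AlgEquiv.apply_symm_apply]
      rfl
    refine ⟨?_, ?_⟩
    · exact
      { toFun := σ
        map_one' := by
          change e.toAlgEquiv.symm (TrivSqZeroExt.inl 1 : TrivSqZeroExt C L) = 1
          rw [TrivSqZeroExt.inl_one]
          exact map_one e.toAlgEquiv.symm
        map_mul' := fun c c' => by
          change e.toAlgEquiv.symm (TrivSqZeroExt.inl (c * c') : TrivSqZeroExt C L) = _
          rw [TrivSqZeroExt.inl_mul]
          exact map_mul e.toAlgEquiv.symm _ _
        map_zero' := by
          change e.toAlgEquiv.symm (TrivSqZeroExt.inl 0 : TrivSqZeroExt C L) = 0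
          rw [TrivSqZeroExt.inl_zero]
          exact map_zero e.toAlgEquiv.symm
        map_add' := fun c c' => by
          change e.toAlgEquiv.symm (TrivSqZeroExt.inl (c + c') : TrivSqZeroExt C L) = _
          rw [TrivSqZeroExt.inl_add]
          exact map_add e.toAlgEquiv.symm _ _
        commutes' := fun a => by
          change e.toAlgEquiv.symm (TrivSqZeroExt.inl (algebraMap A C a) : TrivSqZeroExt C L) =
            algebraMap B X.E (algebraMap A B a)
          rw [AlgEquiv.symm_apply_eq, AlgEquiv.commutes]
          change _ = (TrivSqZeroExt.inl (algebraMap B C (algebraMap A B a)) +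
            TrivSqZeroExt.inr (D (algebraMap A B a)) : TrivSqZeroExt C L)
          rw [Derivation.map_algebraMap, TrivSqZeroExt.inr_zero, add_zero,
            ← IsScalarTower.algebraMap_apply] }
    · intro c
      exact hσp c

end Groth.Agent.S5818
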