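import Groth.Statements.S5819
import Mathlib
-- import your own Groth.Agent.* helpers here

set_option autoImplicit false
universe u v
open EGA41

namespace Groth.Agent.S5819

/-- Commutative rings, exactness at Exalcom_A(C, L) on underlying pointed sets. For ring maps A → B → C
and a C-module L, an A-extension Y of C by L pulls back to a trivial A-extension of B if and only if
Y is equivalent to some B-extension of C by L viewed as an A-extension. -/
theorem result {A : Type u} {B C L : Type v} [CommRing A]
    [CommRing B] [CommRing C] [Algebra A B] [Algebra B C] [Algebra A C] [IsScalarTower A B C]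
    [AddCommGroup L] [Module C L] [Module B L] [IsScalarTower B C L]
    (Y : Exal.Ext A C L) :
    (Y.pullback B).IsTrivial ↔
      ∃ X : Exal.Ext B C L, Nonempty ((X.restrictBase A).Equiv Y) := by
  constructor
  · rintro ⟨s, hs⟩
    let F : Subalgebra A (Y.E × B) := Y.fiberProd B
    let s₀ : B →ₐ[A] F := s
    have hs₀ : ∀ b, (s₀ b).1.2 = b := hs
    have hF : ∀ x : F, Y.proj x.1.1 = algebraMap B C x.1.2 := fun x => x.2
    let φ : B →ₐ[A] Y.E := ((AlgHom.fst A Y.E B).comp F.val).comp s₀
    have hφ : ∀ b, Y.proj (φ b) = algebraMap B C b := fun b => by
      have := hF (s₀ b)
      rw [hs₀] at this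
      exact this
    let algB : Algebra B Y.E := φ.toRingHom.toAlgebra
    let X : Exal.Ext B C L :=
      { E := Y.E
        commRing := Y.commRing
        algebra := algB
        proj :=
          { toFun := fun x => Y.proj x
            map_one' := map_one Y.proj
            map_mul' := map_mul Y.proj
            map_zero' := map_zero Y.proj
            map_add' := map_add Y.proj
            commutes' := fun b => hφ b }
        incl := Y.incl
        isExtension :=
          { proj_surjective := Y.isExtension.proj_surjective
            incl_injective := Y.isExtension.incl_injective
            exact := Y.isExtension.exact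
            mul_incl := Y.isExtension.mul_incl } }
    refine ⟨X, ⟨?_, ?_, ?_⟩⟩
    · exact
      { toFun := fun x => x
        invFun := fun x => x
        left_inv := fun _ => rfl
        right_inv := fun _ => rfl
        map_mul' := fun _ _ => rfl
        map_add' := fun _ _ => rfl
        commutes' := fun a => by
          change φ (algebraMap A B a) = algebraMap A Y.E a
          exact φ.commutes a }
    · intro x
      rfl
    · intro z
      rfl
  · rintro ⟨X, ⟨e⟩⟩
    let e₀ : X.E →+* Y.E :=
      { toFun := fun x => e.toAlgEquiv x
        map_one' := map_one e.toAlgEquiv
        map_mul' := map_mul e.toAlgEquiv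
        map_zero' := map_zero e.toAlgEquiv
        map_add' := map_add e.toAlgEquiv }
    have he₀p : ∀ x, Y.proj (e₀ x) = X.proj x := e.proj_apply
    have he₀A : ∀ a : A, e₀ (algebraMap B X.E (algebraMap A B a)) = algebraMap A Y.E a :=
      fun a => e.toAlgEquiv.commutes a
    let ψ : B →+* Y.E := e₀.comp (algebraMap B X.E)
    have hψ : ∀ b, Y.proj (ψ b) = algebraMap B C b := fun b => by
      change Y.proj (e₀ (algebraMap B X.E b)) = _
      rw [he₀p, AlgHom.commutes]
    refine ⟨?_, ?_⟩
    · exact
      { toFun := fun b => ⟨(ψ b, b), hψ b⟩
        map_one' := by
          apply Subtype.ext
          apply Prod.ext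
          · exact map_one ψ
          · rfl
        map_mul' := fun x y => by
          apply Subtype.ext
          apply Prod.ext
          · exact map_mul ψ x y
          · rfl
        map_zero' := by
          apply Subtype.ext
          apply Prod.ext
          · exact map_zero ψ
          · rfl
        map_add' := fun x y => by
          apply Subtype.ext
          apply Prod.ext
          · exact map_add ψ x y
          · rfl
        commutes' := fun a => by
          apply Subtype.ext
          apply Prod.ext
          · exact he₀A a
          · rfl }
    · intro b
      rfl

end Groth.Agent.S5819
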