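import Groth.Statements.S5821
import Mathlib
import Groth.Agent.Helper2.ExalChar
open Groth.Agent.Helper2
open TensorProduct KaehlerDifferential
-- import your own Groth.Agent.* helpers here

set_option autoImplicit false
universe u v
open EGA41

namespace Groth.Agent.S5821

/-- For a ring map A → B, an ideal K of B, C = B ⧸ K and the B-extension E = B ⧸ K² of C by K/K², if E
is A-trivial then its characteristic homomorphism Υ_{C/B/A} → K/K² is bijective (stated for every
C-linear χ satisfying the defining square, of which there is exactly one). -/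
theorem result {A : Type u} {B : Type v} [CommRing A] [CommRing B] [Algebra A B]
    (K : Ideal B) (hK : (Exal.Ext.infinitesimal K).IsTrivialOver A)
    (χ : ↥(EGA41.imperfection A B (B ⧸ K)) →ₗ[B ⧸ K] K.Cotangent)
    (hχ : (Exal.Ext.infinitesimal K).IsCharHom A χ) :
    Function.Bijective χ := by
  set X := Exal.Ext.infinitesimal K with hXdef
  have hinj := ExalChar.deltaL_injective A X hK
  have hker : RingHom.ker (algebraMap B (B ⧸ K)) = K := by
    rw [Ideal.Quotient.algebraMap_eq, Ideal.mk_ker]
  -- elements of Υ attached to elements of K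
  have hmem : ∀ k : K, ((1 : B ⧸ K) ⊗ₜ[B] D A B (k : B)) ∈ EGA41.imperfection A B (B ⧸ K) := fun k => by
    change mapBaseChange A B (B ⧸ K) _ = 0
    rw [mapBaseChange_tmul, one_smul, map_D, Ideal.Quotient.algebraMap_eq,
      Ideal.Quotient.eq_zero_iff_mem.2 k.2, map_zero]
  have hkey : ∀ k : K, χ ⟨_, hmem k⟩ = K.toCotangent k := fun k => by
    apply hinj
    rw [hχ]
    change (1 : B ⧸ K) ⊗ₜ[X.CharCarrier A] KaehlerDifferential.map A A B (X.CharCarrier A) (D A B (k : B)) =
      (1 : B ⧸ K) ⊗ₜ[X.CharCarrier A] D A (X.CharCarrier A) (X.inclC A (K.toCotangent k))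
    rw [map_D]
    congr 2
  constructor
  · rw [injective_iff_map_eq_zero]
    intro z hz
    have hz2 : mapBaseChange A B (B ⧸ K) (z : (B ⧸ K) ⊗[B] Ω[B⁄A]) = 0 := z.2
    obtain ⟨y, hy⟩ := (exact_kerCotangentToTensor_mapBaseChange A B (B ⧸ K)
      Ideal.Quotient.mk_surjective _).1 hz2
    obtain ⟨⟨x, hx⟩, rfl⟩ := Ideal.toCotangent_surjective _ y
    have hxK : x ∈ K := by rw [← hker]; exact hx
    have hz3 : z = ⟨_, hmem ⟨x, hxK⟩⟩ := by
      apply Subtype.ext
      rw [← hy, kerCotangentToTensor_toCotangent]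
    rw [hz3, hkey, Ideal.toCotangent_eq_zero] at hz
    have hz' : x ∈ K ^ 2 := hz
    have hx0 : Ideal.toCotangent _ (⟨x, hx⟩ : RingHom.ker (algebraMap B (B ⧸ K))) = 0 := by
      rw [Ideal.toCotangent_eq_zero]
      change x ∈ _
      rw [hker]
      exact hz'
    apply Subtype.ext
    rw [← hy, hx0, map_zero]
    rfl
  · intro c
    obtain ⟨k, rfl⟩ := K.toCotangent_surjective c
    exact ⟨_, hkey k⟩

end Groth.Agent.S5821
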