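import Groth.Statements.S5823
import Mathlib
import Groth.Agent.Helper2.ExalChar3
open Groth.Agent.Helper2
open TensorProduct KaehlerDifferential
-- import your own Groth.Agent.* helpers here

set_option autoImplicit false
universe u v
open scoped TensorProduct
open EGA41

namespace Groth.Agent.S5823

/-- Surjectivity. For ring maps A → B → C and a C-module L, assume (i) L is an injective C-module, or
(ii) Υ_{C/B/A} is a direct summand of C ⊗_B Ω_{B/A} and Ω_{C/A} → Ω_{C/B} has a right inverse. Then
every C-linear map Υ_{C/B/A} → L is the characteristic homomorphism of an A-trivial B-extension of C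
by L. -/
theorem result {A : Type u} {B C L : Type v} [CommRing A] [CommRing B] [CommRing C]
    [Algebra A B] [Algebra B C] [Algebra A C] [IsScalarTower A B C] [AddCommGroup L] [Module C L]
    (h : Module.Injective C L ∨
      ((∃ r : C ⊗[B] Ω[B⁄A] →ₗ[C] ↥(EGA41.imperfection A B C), ∀ z : ↥(EGA41.imperfection A B C), r z = z) ∧
        ∃ s : Ω[C⁄B] →ₗ[C] Ω[C⁄A], ∀ ω : Ω[C⁄B], KaehlerDifferential.map A B C C (s ω) = ω))
    (χ : ↥(EGA41.imperfection A B C) →ₗ[C] L) :
    ∃ X : Exal.Ext B C L, X.IsTrivialOver A ∧ X.IsCharHom A χ := by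
  let mB : Module B L := Module.compHom L (algebraMap B C)
  let mA : Module A L := Module.compHom L (algebraMap A C)
  have tBC : IsScalarTower B C L := IsScalarTower.of_algebraMap_smul (fun _ _ => rfl)
  have tAC : IsScalarTower A C L := IsScalarTower.of_algebraMap_smul (fun _ _ => rfl)
  have tAB : IsScalarTower A B L := IsScalarTower.of_algebraMap_smul (fun a l => by
    change algebraMap B C (algebraMap A B a) • l = algebraMap A C a • l
    rw [← IsScalarTower.algebraMap_apply])
  obtain ⟨χt, hχt⟩ : ∃ χt : C ⊗[B] Ω[B⁄A] →ₗ[C] L,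
      ∀ z : EGA41.imperfection A B C, χt (z : C ⊗[B] Ω[B⁄A]) = χ z := by
    rcases h with hinj | ⟨⟨r, hr⟩, _⟩
    · exact @Module.Injective.out C _ L _ _ hinj (EGA41.imperfection A B C) (C ⊗[B] Ω[B⁄A]) _ _ _ _
        (EGA41.imperfection A B C).subtype Subtype.val_injective χ
    · exact ⟨χ.comp r, fun z => by rw [LinearMap.comp_apply, hr]⟩
  refine ⟨Exal.Ext.ofDerivation (C := C) (ExalChar.derivOf A χt),
    ExalChar.isTrivialOver_ofDerivation A _, fun z => ?_⟩
  have := ExalChar.isCharHom_ofDerivation A (ExalChar.derivOf A χt) z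
  rw [ExalChar.Dtilde_derivOf, hχt] at this
  exact this

end Groth.Agent.S5823
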