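import Groth.Statements.S5824
import Mathlib
import Groth.Agent.Helper2.ExalChar4
import Groth.Agent.S5822
import Groth.Agent.S5823
open Groth.Agent.Helper2
open TensorProduct KaehlerDifferential
-- import your own Groth.Agent.* helpers here

set_option autoImplicit false
universe u v
open EGA41

namespace Groth.Agent.S5824

/-- For ring maps A → B → C with C formally smooth over A (discrete topologies) and Ω_{C/B} a projective
C-module, and a C-module L, the characteristic homomorphism is a bijection from the classes of all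
B-extensions of C by L (each of which is A-trivial) onto Hom_C(Υ_{C/B/A}, L): injectivity on classes
and surjectivity. -/
theorem result {A : Type u} {B C L : Type v} [CommRing A] [CommRing B] [CommRing C]
    [Algebra A B] [Algebra B C] [Algebra A C] [IsScalarTower A B C] [AddCommGroup L] [Module C L]
    [Algebra.FormallySmooth A C] [Module.Projective C Ω[C⁄B]] :
    (∀ (X Y : Exal.Ext B C L) (χ : ↥(EGA41.imperfection A B C) →ₗ[C] L),
        X.IsCharHom A χ → Y.IsCharHom A χ → Nonempty (X.Equiv Y)) ∧
      ∀ χ : ↥(EGA41.imperfection A B C) →ₗ[C] L, ∃ X : Exal.Ext B C L, X.IsCharHom A χ := by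
  -- every extension is `A`-trivial
  have htriv : ∀ X : Exal.Ext B C L, X.IsTrivialOver A := fun X => by
    have hnil := ExalFib.isNilpotent_ker (X.restrictBase A)
    refine ⟨Algebra.FormallySmooth.liftOfSurjective (AlgHom.id A C) (X.restrictBase A).proj
      (X.restrictBase A).isExtension.proj_surjective hnil, fun c => ?_⟩
    exact Algebra.FormallySmooth.liftOfSurjective_apply _ _ _ _ c
  -- section of Ω_{C/A} → Ω_{C/B}
  obtain ⟨s, hs⟩ := Module.projective_lifting_property (KaehlerDifferential.map A B C C)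
    (LinearMap.id : Ω[C⁄B] →ₗ[C] Ω[C⁄B]) (KaehlerDifferential.map_surjective A B C)
  have hs' : ∀ ω : Ω[C⁄B], KaehlerDifferential.map A B C C (s ω) = ω := fun ω =>
    LinearMap.congr_fun hs ω
  -- retraction onto Υ
  set m := mapBaseChange A B C with hm
  have hex := KaehlerDifferential.exact_mapBaseChange_map A B C
  let π : Ω[C⁄A] →ₗ[C] Ω[C⁄A] := LinearMap.id - s.comp (KaehlerDifferential.map A B C C)
  have hπ : ∀ ω, π ω ∈ LinearMap.range m := fun ω => by
    rw [LinearMap.mem_range]
    apply (hex _).1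
    change KaehlerDifferential.map A B C C (ω - s (KaehlerDifferential.map A B C C ω)) = 0
    rw [map_sub, hs', sub_self]
  let ρ : Ω[C⁄A] →ₗ[C] LinearMap.range m := π.codRestrict _ hπ
  have hρ : ρ.comp (LinearMap.range m).subtype = LinearMap.id := by
    ext ⟨ω, hω⟩
    change ω - s (KaehlerDifferential.map A B C C ω) = ω
    obtain ⟨t, rfl⟩ := hω
    have : KaehlerDifferential.map A B C C (m t) = 0 := (hex _).2 ⟨t, rfl⟩
    rw [this, map_zero, sub_zero]
  have hproj : Module.Projective C (LinearMap.range m) :=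
    Module.Projective.of_split (LinearMap.range m).subtype ρ hρ
  obtain ⟨σ, hσ⟩ := Module.projective_lifting_property m.rangeRestrict
    (LinearMap.id : LinearMap.range m →ₗ[C] LinearMap.range m) m.surjective_rangeRestrict
  have hσ' : ∀ t, m (σ (m.rangeRestrict t)) = m t := fun t => by
    have := LinearMap.congr_fun hσ (m.rangeRestrict t)
    exact congrArg Subtype.val this
  let r₀ : C ⊗[B] Ω[B⁄A] →ₗ[C] C ⊗[B] Ω[B⁄A] := LinearMap.id - σ.comp m.rangeRestrict
  have hr₀ : ∀ t, r₀ t ∈ EGA41.imperfection A B C := fun t => by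
    change m (t - σ (m.rangeRestrict t)) = 0
    rw [map_sub, hσ', sub_self]
  let r : C ⊗[B] Ω[B⁄A] →ₗ[C] ↥(EGA41.imperfection A B C) := r₀.codRestrict _ hr₀
  have hr : ∀ z : ↥(EGA41.imperfection A B C), r z = z := fun z => by
    apply Subtype.ext
    change (z : C ⊗[B] Ω[B⁄A]) - σ (m.rangeRestrict z) = z
    have : m.rangeRestrict (z : C ⊗[B] Ω[B⁄A]) = 0 := by
      apply Subtype.ext
      exact z.2
    rw [this, map_zero, sub_zero]
  have h : Module.Injective C L ∨
      ((∃ r : C ⊗[B] Ω[B⁄A] →ₗ[C] ↥(EGA41.imperfection A B C), ∀ z : ↥(EGA41.imperfection A B C), r z = z) ∧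
        ∃ s : Ω[C⁄B] →ₗ[C] Ω[C⁄A], ∀ ω : Ω[C⁄B], KaehlerDifferential.map A B C C (s ω) = ω) :=
    Or.inr ⟨⟨r, hr⟩, ⟨s, hs'⟩⟩
  constructor
  · intro X Y χ hX hY
    exact Groth.Agent.S5822.result h X Y (htriv X) (htriv Y) χ hX hY
  · intro χ
    obtain ⟨X, _, hX⟩ := Groth.Agent.S5823.result h χ
    exact ⟨X, hX⟩

end Groth.Agent.S5824
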