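import Groth.Statements.S5825
import Groth.Agent.Helper2.TopModH
open Topology Groth.Agent.Helper2.TM
-- import your own Groth.Agent.* helpers here

set_option autoImplicit false
universe u v w
open EGA41

namespace Groth.Agent.S5825

/-- Let A be a topological ring, M, N topological A-modules with the topologies deduced from that of A,
and u : M → N a continuous linear map with dense image (a formal epimorphism). Then u is a formal
bimorphism (dense image and inducing) if and only if, for every open ideal J of A, the induced map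
M/JM → N/JN is bijective (injectivity and surjectivity are written out elementwise). -/
theorem result {A : Type u} {M : Type v} {N : Type w} [CommRing A]
    [TopologicalSpace A] [AddCommGroup M] [Module A M] [TopologicalSpace M] [AddCommGroup N] [Module A N]
    [TopologicalSpace N] (hM : TopMod.IsDeduced A M) (hN : TopMod.IsDeduced A N) (u : M →L[A] N)
    (hu : DenseRange u) :
    IsDenseInducing u ↔
      ∀ J : Ideal A, IsOpen (J : Set A) →
        (∀ x : M, u x ∈ (J • ⊤ : Submodule A N) → x ∈ (J • ⊤ : Submodule A M)) ∧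
          ∀ y : N, ∃ x : M, y - u x ∈ (J • ⊤ : Submodule A N) := by
  have hMg := hM.1
  have hNg := hN.1
  constructor
  · intro hdi J hJ
    refine ⟨?_, exists_sub_mem_of_denseRange hN u hu J hJ⟩
    have hind : IsInducing u := hdi.toIsInducing
    rw [IsTopologicalAddGroup.isInducing_iff_nhds_zero] at hind
    have hJM : ((J • ⊤ : Submodule A M) : Set M) ∈ nhds (0 : M) := hM.2.mem_of_mem hJ
    rw [hind, Filter.mem_comap] at hJM
    obtain ⟨t, ht, htJ⟩ := hJM
    obtain ⟨J', hJ', hJ't⟩ := hN.2.mem_iff.mp ht
    have hJ''open : IsOpen ((J' ⊓ J : Ideal A) : Set A) := hJ'.inter hJ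
    have hsub : ∀ x : M, u x ∈ ((J' ⊓ J : Ideal A) • ⊤ : Submodule A N) → x ∈ (J • ⊤ : Submodule A M) := by
      intro x hx
      apply htJ
      apply hJ't
      exact Submodule.smul_mono_left inf_le_left hx
    have hclaim : ∀ z ∈ (J • ⊤ : Submodule A N), ∃ m ∈ (J • ⊤ : Submodule A M),
        z - u m ∈ ((J' ⊓ J : Ideal A) • ⊤ : Submodule A N) := by
      intro z hz
      refine Submodule.smul_induction_on hz ?_ ?_
      · intro j hj n _
        obtain ⟨m₀, hm₀⟩ := exists_sub_mem_of_denseRange hN u hu _ hJ''open n
        refine ⟨j • m₀, Submodule.smul_mem_smul hj trivial, ?_⟩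
        rw [map_smul, ← smul_sub]
        exact Submodule.smul_mem _ _ hm₀
      · intro z₁ z₂ ⟨m₁, hm₁, h₁⟩ ⟨m₂, hm₂, h₂⟩
        refine ⟨m₁ + m₂, Submodule.add_mem _ hm₁ hm₂, ?_⟩
        rw [map_add, add_sub_add_comm]
        exact Submodule.add_mem _ h₁ h₂
    intro x hx
    obtain ⟨m, hm, hzm⟩ := hclaim (u x) hx
    rw [← map_sub] at hzm
    have := hsub _ hzm
    have h2 := Submodule.add_mem _ this hm
    simpa using h2
  · intro h
    refine ⟨?_, hu⟩
    rw [IsTopologicalAddGroup.isInducing_iff_nhds_zero]
    apply le_antisymm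
    · have := u.continuous.tendsto 0
      rw [map_zero] at this
      exact Filter.map_le_iff_le_comap.mp this
    · intro s hs
      obtain ⟨J, hJ, hJs⟩ := hM.2.mem_iff.mp hs
      rw [Filter.mem_comap]
      refine ⟨((J • ⊤ : Submodule A N) : Set N), hN.2.mem_of_mem hJ, ?_⟩
      intro x hx
      exact hJs ((h J hJ).1 x hx)

end Groth.Agent.S5825
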