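import Groth.Statements.S5826
import Groth.Agent.Helper2.TopModH
open Topology Groth.Agent.Helper2.TM
-- import your own Groth.Agent.* helpers here

set_option autoImplicit false
universe u v w
open EGA41

namespace Groth.Agent.S5826

/-- Let A be a topological ring, M, N topological A-modules with the topologies deduced from that of A,
u : M → N a continuous linear map. Then u is formally left invertible if and only if, for every open
ideal J of A, the induced map M/JM → N/JN is left invertible, i.e. some linear map N → M/JM composes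
with u to the projection M → M/JM. -/
theorem result {A : Type u} {M : Type v} {N : Type w}
    [CommRing A] [TopologicalSpace A] [AddCommGroup M] [Module A M] [TopologicalSpace M] [AddCommGroup N]
    [Module A N] [TopologicalSpace N] (hM : TopMod.IsDeduced A M) (hN : TopMod.IsDeduced A N)
    (u : M →L[A] N) :
    TopMod.IsFormallyLeftInvertible u ↔
      ∀ J : Ideal A, IsOpen (J : Set A) →
        ∃ w : N →ₗ[A] M ⧸ (J • ⊤ : Submodule A M), ∀ x : M, w (u x) = Submodule.Quotient.mk x := by
  constructor
  · intro hu J hJ
    letI : TopologicalSpace (M ⧸ (J • ⊤ : Submodule A M)) := ⊥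
    haveI : DiscreteTopology (M ⧸ (J • ⊤ : Submodule A M)) := ⟨rfl⟩
    have hcont : Continuous (Submodule.mkQ (J • ⊤ : Submodule A M)) :=
      continuous_of_le_ker hM J hJ _ (by rw [Submodule.ker_mkQ])
    obtain ⟨w, hw⟩ := hu (M ⧸ (J • ⊤ : Submodule A M)) ⟨Submodule.mkQ _, hcont⟩
    exact ⟨w.toLinearMap, fun x => hw x⟩
  · intro h E _ _ _ _ v
    have hker : ((LinearMap.ker v.toLinearMap : Submodule A M) : Set M) ∈ nhds (0 : M) := by
      have : IsOpen (v ⁻¹' {0}) := (isOpen_discrete _).preimage v.continuous
      exact this.mem_nhds (by simp)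
    obtain ⟨J, hJ, hJker⟩ := hM.2.mem_iff.mp hker
    obtain ⟨wJ, hwJ⟩ := h J hJ
    let vbar : M ⧸ (J • ⊤ : Submodule A M) →ₗ[A] E := Submodule.liftQ _ v.toLinearMap hJker
    have hcont : Continuous (vbar.comp wJ) := by
      apply continuous_of_le_ker hN J hJ
      intro n hn
      have := map_smul_top_quot J wJ hn
      rw [LinearMap.mem_ker] at this ⊢
      rw [LinearMap.comp_apply, this, map_zero]
    refine ⟨⟨vbar.comp wJ, hcont⟩, fun x => ?_⟩
    show vbar (wJ (u x)) = v x
    rw [hwJ]
    simp [vbar]

end Groth.Agent.S5826
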