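import Groth.Statements.S5828
import Mathlib
-- import your own Groth.Agent.* helpers here

set_option autoImplicit false
universe u v
open EGA41

namespace Groth.Agent.S5828

/-- Commutative case. For an A-extension X of C by a C-module L, with middle ring E, projection p and
inclusion i, the A-derivations D : C → L and the self-equivalences of X correspond under D ↦ (x ↦ x
+ i (D (p x))): every derivation defines a self-equivalence with this formula, and every
self-equivalence is of this form for exactly one derivation. (Bijection of sets; the published
statement also records compatibility with the group laws.) -/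
theorem result {A : Type u} {C L : Type v} [CommRing A] [CommRing C] [Algebra A C]
    [AddCommGroup L] [Module C L] [Module A L] [IsScalarTower A C L] (X : Exal.Ext A C L) :
    (∀ D : Derivation A C L, ∃ e : X.Equiv X, ∀ x : X.E, e.toAlgEquiv x = x + X.incl (D (X.proj x))) ∧
      ∀ e : X.Equiv X, ∃! D : Derivation A C L, ∀ x : X.E, e.toAlgEquiv x = x + X.incl (D (X.proj x)) := by
  have hpi : ∀ z, X.proj (X.incl z) = 0 := fun z => (X.isExtension.exact _).2 ⟨z, rfl⟩
  have hii : ∀ z z', X.incl z * X.incl z' = 0 := fun z z' => by
    rw [X.isExtension.mul_incl, hpi, zero_smul, map_zero]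
  have hmi : ∀ (x : X.E) z, x * X.incl z = X.incl (X.proj x • z) := X.isExtension.mul_incl
  have hsm : ∀ (a : A) z, X.incl (a • z) = a • X.incl z := fun a z => by
    rw [Algebra.smul_def, hmi, AlgHom.commutes, algebraMap_smul]
  constructor
  · intro D
    let φ : X.E →ₐ[A] X.E :=
      { toFun := fun x => x + X.incl (D (X.proj x))
        map_one' := by simp
        map_mul' := fun x y => by
          simp only [map_mul, Derivation.leibniz, map_add]
          rw [← hmi, ← hmi]
          have := hii (D (X.proj x)) (D (X.proj y))
          linear_combination -this
        map_zero' := by simp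
        map_add' := fun x y => by
          simp only [map_add]
          abel
        commutes' := fun a => by
          simp }
    let ψ : X.E →ₐ[A] X.E :=
      { toFun := fun x => x - X.incl (D (X.proj x))
        map_one' := by simp
        map_mul' := fun x y => by
          simp only [map_mul, Derivation.leibniz, map_add]
          rw [← hmi, ← hmi]
          have := hii (D (X.proj x)) (D (X.proj y))
          linear_combination -this
        map_zero' := by simp
        map_add' := fun x y => by
          simp only [map_add]
          abel
        commutes' := fun a => by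
          simp }
    have h1 : φ.comp ψ = AlgHom.id A X.E := by
      ext x
      change (x - X.incl (D (X.proj x))) + X.incl (D (X.proj (x - X.incl (D (X.proj x))))) = x
      rw [map_sub, hpi, sub_zero]
      abel
    have h2 : ψ.comp φ = AlgHom.id A X.E := by
      ext x
      change (x + X.incl (D (X.proj x))) - X.incl (D (X.proj (x + X.incl (D (X.proj x))))) = x
      rw [map_add, hpi, add_zero]
      abel
    refine ⟨⟨AlgEquiv.ofAlgHom φ ψ h1 h2, ?_, ?_⟩, ?_⟩
    · intro x
      change X.proj (x + X.incl (D (X.proj x))) = X.proj x
      rw [map_add, hpi, add_zero]
    · intro z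
      change X.incl z + X.incl (D (X.proj (X.incl z))) = X.incl z
      rw [hpi, map_zero, map_zero, add_zero]
    · intro x
      rfl
  · intro e
    have hker : ∀ x, X.proj (e.toAlgEquiv x - x) = 0 := fun x => by
      rw [map_sub, e.proj_apply, sub_self]
    let σ : C → X.E := Function.surjInv X.isExtension.proj_surjective
    have hσ : ∀ c, X.proj (σ c) = c := Function.surjInv_eq _
    let d : C → L := fun c => X.kerLift (e.toAlgEquiv (σ c) - σ c) (hker _)
    have hd : ∀ x, X.incl (d (X.proj x)) = e.toAlgEquiv x - x := fun x => by
      change X.incl (X.kerLift _ _) = _
      rw [Exal.Ext.incl_kerLift]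
      have h0 : X.proj (x - σ (X.proj x)) = 0 := by rw [map_sub, hσ, sub_self]
      obtain ⟨w, hw⟩ := (X.isExtension.exact _).1 h0
      have h3 : e.toAlgEquiv (x - σ (X.proj x)) = x - σ (X.proj x) := by
        rw [← hw, e.apply_incl]
      rw [map_sub] at h3
      linear_combination -h3
    have hinj := X.isExtension.incl_injective
    have hsurj := X.isExtension.proj_surjective
    let D₀ : C →ₗ[A] L :=
      { toFun := d
        map_add' := fun c c' => by
          obtain ⟨x, rfl⟩ := hsurj c
          obtain ⟨y, rfl⟩ := hsurj c'
          apply hinj
          rw [← map_add X.proj, hd, map_add X.incl, hd, hd, map_add]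
          abel
        map_smul' := fun a c => by
          obtain ⟨x, rfl⟩ := hsurj c
          apply hinj
          rw [← map_smul, hd, RingHom.id_apply, hsm, hd, map_smul, smul_sub] }
    refine ⟨Derivation.mk' D₀ ?_, ?_, ?_⟩
    · intro c c'
      obtain ⟨x, rfl⟩ := hsurj c
      obtain ⟨y, rfl⟩ := hsurj c'
      apply hinj
      change X.incl (d (X.proj x * X.proj y)) = X.incl (X.proj x • d (X.proj y) + X.proj y • d (X.proj x))
      rw [← map_mul, hd, map_add, ← hmi, ← hmi, hd, hd, map_mul]
      have := hii (d (X.proj x)) (d (X.proj y))
      rw [hd, hd] at this
      linear_combination this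
    · intro x
      change _ = x + X.incl (d (X.proj x))
      rw [hd]
      abel
    · intro D' hD'
      ext c
      obtain ⟨x, rfl⟩ := hsurj c
      apply hinj
      change X.incl (D' (X.proj x)) = X.incl (d (X.proj x))
      rw [hd, hD' x]
      abel

end Groth.Agent.S5828
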