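import Groth.Statements.S5831
import Mathlib
import Groth.Agent.S5815
-- import your own Groth.Agent.* helpers here

set_option autoImplicit false
universe u
open EGA41

namespace Groth.Agent.S5831

/-- Discrete case. Let B be an A-algebra which is a projective A-module (A and B in one universe). If
for every B-module L in that universe every A-bilinear symmetric Hochschild 2-cocycle B × B → L is a
coboundary, then B is formally smooth over A. (The published statement assumes B formally projective
as a topological A-module; for discrete rings this is projectivity.) -/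
theorem result {A B : Type u} [CommRing A]
    [CommRing B] [Algebra A B] [Module.Projective A B]
    (h : ∀ (L : Type u) [AddCommGroup L] [Module B L] [Module A L] [IsScalarTower A B L]
      (f : B →ₗ[A] B →ₗ[A] L), (∀ x y : B, f x y = f y x) →
        (∀ x y z : B, f (x * y) z + z • f x y = x • f y z + f x (y * z)) →
          ∃ g : B →ₗ[A] L, ∀ x y : B, f x y = x • g y - g (x * y) + y • g x) :
    Algebra.FormallySmooth A B := by
  rw [Groth.Agent.S5815.result]
  intro L _ _ X
  let mA : Module A L := Module.compHom L (algebraMap A B)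
  have tAB : IsScalarTower A B L := IsScalarTower.of_algebraMap_smul (fun _ _ => rfl)
  have hpi : ∀ z, X.proj (X.incl z) = 0 := fun z => (X.isExtension.exact _).2 ⟨z, rfl⟩
  have hii : ∀ z z', X.incl z * X.incl z' = 0 := fun z z' => by
    rw [X.isExtension.mul_incl, hpi, zero_smul, map_zero]
  have hmi : ∀ (x : X.E) z, x * X.incl z = X.incl (X.proj x • z) := X.isExtension.mul_incl
  have hinj := X.isExtension.incl_injective
  have hsm : ∀ (a : A) z, X.incl (a • z) = a • X.incl z := fun a z => by
    rw [Algebra.smul_def, hmi, AlgHom.commutes, algebraMap_smul]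
  obtain ⟨σ, hσ⟩ := Module.projective_lifting_property X.proj.toLinearMap
    (LinearMap.id : B →ₗ[A] B) X.isExtension.proj_surjective
  have hpσ : ∀ b, X.proj (σ b) = b := fun b => LinearMap.congr_fun hσ b
  have hker : ∀ x y, X.proj (σ x * σ y - σ (x * y)) = 0 := fun x y => by
    rw [map_sub, map_mul, hpσ, hpσ, hpσ, sub_self]
  let f₀ : B → B → L := fun x y => X.kerLift (σ x * σ y - σ (x * y)) (hker x y)
  have hf₀ : ∀ x y, X.incl (f₀ x y) = σ x * σ y - σ (x * y) := fun x y =>
    Exal.Ext.incl_kerLift _ _ _
  let f : B →ₗ[A] B →ₗ[A] L := LinearMap.mk₂ A f₀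
    (fun x x' y => by
      apply hinj
      rw [map_add X.incl, hf₀, hf₀, hf₀, add_mul x x' y, map_add σ, map_add σ, add_mul]
      abel)
    (fun a x y => by
      apply hinj
      rw [hsm, hf₀, hf₀, map_smul, smul_mul_assoc, smul_mul_assoc, map_smul, smul_sub])
    (fun x y y' => by
      apply hinj
      rw [map_add X.incl, hf₀, hf₀, hf₀, mul_add x y y', map_add σ, map_add σ, mul_add]
      abel)
    (fun a x y => by
      apply hinj
      rw [hsm, hf₀, hf₀, map_smul, mul_smul_comm, mul_smul_comm, map_smul, smul_sub])
  have hf : ∀ x y, X.incl (f x y) = σ x * σ y - σ (x * y) := hf₀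
  have hbs : ∀ (b : B) (z : L), X.incl (b • z) = σ b * X.incl z := fun b z => by
    rw [hmi, hpσ]
  obtain ⟨g, hg⟩ := h L f
    (fun x y => by
      apply hinj
      rw [hf, hf, mul_comm (σ x), mul_comm x])
    (fun x y z => by
      apply hinj
      rw [map_add, map_add, hbs, hbs, hf, hf, hf, hf, mul_assoc x y z]
      ring)
  let s₀ : B → X.E := fun b => σ b - X.incl (g b)
  have hs₀mul : ∀ x y, s₀ (x * y) = s₀ x * s₀ y := fun x y => by
    change σ (x * y) - X.incl (g (x * y)) = (σ x - X.incl (g x)) * (σ y - X.incl (g y))
    have h1 := hf x y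
    rw [hg, map_add, map_sub, hbs, hbs] at h1
    have h2 := hii (g x) (g y)
    linear_combination h1 - h2
  have hs₀p : ∀ b, X.proj (s₀ b) = b := fun b => by
    change X.proj (σ b - X.incl (g b)) = b
    rw [map_sub, hpσ, hpi, sub_zero]
  have hs₀one : s₀ 1 = 1 := by
    have h0 : X.proj (s₀ 1 - 1) = 0 := by rw [map_sub, hs₀p, map_one, sub_self]
    obtain ⟨z, hz⟩ := (X.isExtension.exact _).1 h0
    have h1 := hs₀mul 1 1
    rw [mul_one] at h1
    have h2 : s₀ 1 = 1 + X.incl z := by rw [hz]; abel
    have h3 := hii z z
    rw [h2] at h1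
    have h4 : X.incl z = 0 := by linear_combination -h1 - h3
    rw [h2, h4, add_zero]
  have hs₀add : ∀ x y, s₀ (x + y) = s₀ x + s₀ y := fun x y => by
    change σ (x + y) - X.incl (g (x + y)) = (σ x - X.incl (g x)) + (σ y - X.incl (g y))
    rw [map_add, map_add, map_add]
    abel
  have hs₀smul : ∀ (a : A) x, s₀ (a • x) = a • s₀ x := fun a x => by
    change σ (a • x) - X.incl (g (a • x)) = a • (σ x - X.incl (g x))
    rw [map_smul, map_smul, hsm, smul_sub]
  refine ⟨
    { toFun := s₀
      map_one' := hs₀one
      map_mul' := hs₀mul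
      map_zero' := by
        have := hs₀smul 0 0
        rw [zero_smul, zero_smul] at this
        exact this
      map_add' := hs₀add
      commutes' := fun a => by
        rw [Algebra.algebraMap_eq_smul_one, hs₀smul, hs₀one, Algebra.algebraMap_eq_smul_one] }, hs₀p⟩

end Groth.Agent.S5831
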