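import Groth.Statements.S5832
import Mathlib
attribute [local instance] Exal.opModule Exal.isCentralScalar_opModule
-- import your own Groth.Agent.* helpers here

set_option autoImplicit false
universe u u' v
open EGA41

namespace Groth.Agent.S5832

/-- Surjectivity at the end of the sequence. For ring maps Λ → A → B → C and a C-module L, every
Λ-trivial A-extension of B by L is equivalent to the inverse image along B → C of a Λ-trivial
A-extension of C by L. (Exactness at the other places is that of the six-term derivation-extension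
sequence restricted to Λ-trivial classes.) -/
theorem result {Λ : Type u} {A : Type u'} {B C L : Type v}
    [CommRing Λ] [CommRing A] [CommRing B] [CommRing C] [Algebra Λ A] [Algebra Λ B] [Algebra Λ C]
    [Algebra A B] [Algebra B C] [Algebra A C] [IsScalarTower Λ A B] [IsScalarTower Λ A C] [IsScalarTower A B C]
    [AddCommGroup L] [Module C L] [Module B L] [IsScalarTower B C L]
    (Y : Exal.Ext A B L) (hY : Y.IsTrivialOver Λ) :
    ∃ X : Exal.Ext A C L, X.IsTrivialOver Λ ∧ Nonempty ((X.pullback B).Equiv Y) := by
  obtain ⟨s, hs⟩ := hY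
  let s₀ : B →+* (Y.restrictBase Λ).E := s
  let s' : B →+* Y.E := s₀
  have hs' : ∀ b, Y.proj (s' b) = b := hs
  have hsΛ : ∀ l : Λ, s' (algebraMap Λ B l) = algebraMap A Y.E (algebraMap Λ A l) :=
    fun l => s.commutes l
  have hpi : ∀ z, Y.proj (Y.incl z) = 0 := fun z => (Y.isExtension.exact _).2 ⟨z, rfl⟩
  have hii : ∀ z z', Y.incl z * Y.incl z' = 0 := fun z z' => by
    rw [Y.isExtension.mul_incl, hpi, zero_smul, map_zero]
  have hmi : ∀ (x : Y.E) z, x * Y.incl z = Y.incl (Y.proj x • z) := Y.isExtension.mul_incl
  have hinj := Y.isExtension.incl_injective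
  let α : A →+* Y.E := algebraMap A Y.E
  let τ : A →+* Y.E := s'.comp (algebraMap A B)
  have hpα : ∀ a, Y.proj (α a) = algebraMap A B a := fun a => Y.proj.commutes a
  have hpτ : ∀ a, Y.proj (τ a) = algebraMap A B a := fun a => hs' _
  have hker : ∀ a, Y.proj (α a - τ a) = 0 := fun a => by rw [map_sub, hpα, hpτ, sub_self]
  let d : A → L := fun a => Y.kerLift (α a - τ a) (hker a)
  have hd : ∀ a, Y.incl (d a) = α a - τ a := fun a => Exal.Ext.incl_kerLift _ _ _
  have hcs : ∀ (a : A) (z : L), Y.incl (algebraMap A C a • z) = α a * Y.incl z := fun a z => by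
    rw [hmi, hpα, IsScalarTower.algebraMap_apply A B C, algebraMap_smul]
  have hcs' : ∀ (a : A) (z : L), Y.incl (algebraMap A C a • z) = τ a * Y.incl z := fun a z => by
    rw [hmi, hpτ, IsScalarTower.algebraMap_apply A B C, algebraMap_smul]
  have hdadd : ∀ a a', d (a + a') = d a + d a' := fun a a' => by
    apply hinj
    rw [map_add, hd, hd, hd, map_add, map_add]
    abel
  have hdmul : ∀ a a', d (a * a') = algebraMap A C a • d a' + algebraMap A C a' • d a := fun a a' => by
    apply hinj
    rw [map_add, hcs, hcs', hd, hd, hd, map_mul, map_mul]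
    ring
  have hd0 : d 0 = 0 := by
    apply hinj; rw [hd, map_zero, map_zero, map_zero, sub_zero]
  have hd1 : d 1 = 0 := by
    apply hinj; rw [hd, map_one, map_one, map_zero, sub_self]
  have hdΛ : ∀ l : Λ, d (algebraMap Λ A l) = 0 := fun l => by
    apply hinj
    rw [hd, map_zero]
    change algebraMap A Y.E (algebraMap Λ A l) - s' (algebraMap A B (algebraMap Λ A l)) = 0
    rw [← IsScalarTower.algebraMap_apply Λ A B, hsΛ, sub_self]
  let ρ : A →+* TrivSqZeroExt C L :=
    { toFun := fun a => TrivSqZeroExt.inl (algebraMap A C a) + TrivSqZeroExt.inr (d a)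
      map_one' := by
        rw [map_one, hd1, TrivSqZeroExt.inr_zero, add_zero, TrivSqZeroExt.inl_one]
      map_mul' := fun a a' => by
        apply TrivSqZeroExt.ext
        · simp
        · simp only [TrivSqZeroExt.snd_add, TrivSqZeroExt.snd_inl, TrivSqZeroExt.snd_inr, zero_add,
            TrivSqZeroExt.snd_mul, TrivSqZeroExt.fst_add, TrivSqZeroExt.fst_inl, TrivSqZeroExt.fst_inr,
            add_zero, op_smul_eq_smul]
          exact hdmul a a'
      map_zero' := by
        rw [map_zero, hd0, TrivSqZeroExt.inr_zero, add_zero, TrivSqZeroExt.inl_zero]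
      map_add' := fun a a' => by
        rw [map_add, hdadd, TrivSqZeroExt.inl_add, TrivSqZeroExt.inr_add]
        abel }
  have hρ : ∀ a, ρ a = TrivSqZeroExt.inl (algebraMap A C a) + TrivSqZeroExt.inr (d a) := fun a => rfl
  let algX : Algebra A (TrivSqZeroExt C L) := ρ.toAlgebra
  let X : Exal.Ext A C L :=
    { E := TrivSqZeroExt C L
      commRing := inferInstance
      algebra := algX
      proj :=
        { toFun := fun x => TrivSqZeroExt.fst x
          map_one' := TrivSqZeroExt.fst_one
          map_mul' := TrivSqZeroExt.fst_mul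
          map_zero' := TrivSqZeroExt.fst_zero
          map_add' := TrivSqZeroExt.fst_add
          commutes' := fun a => by
            change TrivSqZeroExt.fst (ρ a) = _
            rw [hρ, TrivSqZeroExt.fst_add, TrivSqZeroExt.fst_inl, TrivSqZeroExt.fst_inr, add_zero] }
      incl := (TrivSqZeroExt.inrHom C L).toAddMonoidHom
      isExtension :=
        { proj_surjective := fun c => ⟨TrivSqZeroExt.inl c, rfl⟩
          incl_injective := TrivSqZeroExt.inr_injective
          exact := fun x => by
            constructor
            · intro hx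
              exact ⟨TrivSqZeroExt.snd x, TrivSqZeroExt.ext hx.symm rfl⟩
            · rintro ⟨z, rfl⟩
              rfl
          mul_incl := fun x z => by
            refine TrivSqZeroExt.ext ?_ ?_
            · change TrivSqZeroExt.fst x * 0 = 0
              exact mul_zero _
            · change TrivSqZeroExt.fst x • z + MulOpposite.op (0 : C) • TrivSqZeroExt.snd x = TrivSqZeroExt.fst x • z
              rw [MulOpposite.op_zero, zero_smul, add_zero] } }
  refine ⟨X, ⟨?_, ?_⟩, ⟨?_⟩⟩
  · exact
    { toFun := fun c => (TrivSqZeroExt.inl c : TrivSqZeroExt C L)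
      map_one' := TrivSqZeroExt.inl_one _
      map_mul' := fun c c' => TrivSqZeroExt.inl_mul _ c c'
      map_zero' := TrivSqZeroExt.inl_zero _
      map_add' := fun c c' => TrivSqZeroExt.inl_add _ c c'
      commutes' := fun l => by
        change (TrivSqZeroExt.inl (algebraMap Λ C l) : TrivSqZeroExt C L) = ρ (algebraMap Λ A l)
        rw [hρ, hdΛ, TrivSqZeroExt.inr_zero, add_zero, ← IsScalarTower.algebraMap_apply] }
  · intro c
    rfl
  · -- the equivalence
    let F : Subalgebra A (TrivSqZeroExt C L × B) := X.fiberProd B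
    have hF : ∀ x : F, TrivSqZeroExt.fst x.1.1 = algebraMap B C x.1.2 := fun x => x.2
    let ψ₀ : F → Y.E := fun x => s' x.1.2 + Y.incl (TrivSqZeroExt.snd x.1.1)
    let ψ : F →ₐ[A] Y.E :=
      { toFun := ψ₀
        map_one' := by
          change s' 1 + Y.incl (TrivSqZeroExt.snd (1 : TrivSqZeroExt C L)) = 1
          rw [map_one, TrivSqZeroExt.snd_one, map_zero, add_zero]
        map_mul' := fun x y => by
          change s' (x.1.2 * y.1.2) + Y.incl (TrivSqZeroExt.snd (x.1.1 * y.1.1)) =
            (s' x.1.2 + Y.incl (TrivSqZeroExt.snd x.1.1)) * (s' y.1.2 + Y.incl (TrivSqZeroExt.snd y.1.1))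
          rw [TrivSqZeroExt.snd_mul, op_smul_eq_smul, hF x, hF y, algebraMap_smul, algebraMap_smul,
            map_add, map_mul]
          have h1 : Y.incl (x.1.2 • TrivSqZeroExt.snd y.1.1) = s' x.1.2 * Y.incl (TrivSqZeroExt.snd y.1.1) := by
            rw [hmi, hs']
          have h2 : Y.incl (y.1.2 • TrivSqZeroExt.snd x.1.1) = s' y.1.2 * Y.incl (TrivSqZeroExt.snd x.1.1) := by
            rw [hmi, hs']
          rw [h1, h2]
          have := hii (TrivSqZeroExt.snd x.1.1) (TrivSqZeroExt.snd y.1.1)
          linear_combination -this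
        map_zero' := by
          change s' 0 + Y.incl (TrivSqZeroExt.snd (0 : TrivSqZeroExt C L)) = 0
          rw [map_zero, TrivSqZeroExt.snd_zero, map_zero, add_zero]
        map_add' := fun x y => by
          change s' (x.1.2 + y.1.2) + Y.incl (TrivSqZeroExt.snd (x.1.1 + y.1.1)) =
            (s' x.1.2 + Y.incl (TrivSqZeroExt.snd x.1.1)) + (s' y.1.2 + Y.incl (TrivSqZeroExt.snd y.1.1))
          rw [TrivSqZeroExt.snd_add, map_add, map_add]
          abel
        commutes' := fun a => by
          change s' (algebraMap A B a) + Y.incl (TrivSqZeroExt.snd (ρ a)) = algebraMap A Y.E a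
          rw [hρ, TrivSqZeroExt.snd_add, TrivSqZeroExt.snd_inl, TrivSqZeroExt.snd_inr, zero_add, hd]
          change τ a + (α a - τ a) = α a
          abel }
    have ψproj : ∀ x : F, Y.proj (ψ x) = x.1.2 := fun x => by
      change Y.proj (s' x.1.2 + Y.incl (TrivSqZeroExt.snd x.1.1)) = _
      rw [map_add, hs', hpi, add_zero]
    have ψbij : Function.Bijective ψ := by
      constructor
      · rw [injective_iff_map_eq_zero]
        intro x hx
        have h1 : x.1.2 = 0 := by rw [← ψproj, hx, map_zero]
        have h2 : Y.incl (TrivSqZeroExt.snd x.1.1) = 0 := by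
          have : s' x.1.2 + Y.incl (TrivSqZeroExt.snd x.1.1) = 0 := hx
          rw [h1, map_zero, zero_add] at this
          exact this
        have h3 : TrivSqZeroExt.snd x.1.1 = 0 := hinj (h2.trans (map_zero _).symm)
        have h4 : TrivSqZeroExt.fst x.1.1 = 0 := by rw [hF, h1, map_zero]
        apply Subtype.ext
        apply Prod.ext
        · exact TrivSqZeroExt.ext h4 h3
        · exact h1
      · intro y
        have h0 : Y.proj (y - s' (Y.proj y)) = 0 := by rw [map_sub, hs', sub_self]
        obtain ⟨w, hw⟩ := (Y.isExtension.exact _).1 h0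
        refine ⟨⟨((TrivSqZeroExt.inl (algebraMap B C (Y.proj y)) + TrivSqZeroExt.inr w : TrivSqZeroExt C L),
          Y.proj y), ?_⟩, ?_⟩
        · change TrivSqZeroExt.fst (TrivSqZeroExt.inl (algebraMap B C (Y.proj y)) + TrivSqZeroExt.inr w : TrivSqZeroExt C L) =
            algebraMap B C (Y.proj y)
          simp
        · change s' (Y.proj y) + Y.incl (TrivSqZeroExt.snd
            (TrivSqZeroExt.inl (algebraMap B C (Y.proj y)) + TrivSqZeroExt.inr w : TrivSqZeroExt C L)) = y
          rw [TrivSqZeroExt.snd_add, TrivSqZeroExt.snd_inl, TrivSqZeroExt.snd_inr, zero_add, hw]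
          abel
    refine ⟨AlgEquiv.ofBijective ψ ψbij, ?_, ?_⟩
    · intro x
      exact ψproj x
    · intro z
      change s' 0 + Y.incl (TrivSqZeroExt.snd (TrivSqZeroExt.inr z : TrivSqZeroExt C L)) = Y.incl z
      rw [TrivSqZeroExt.snd_inr, map_zero, zero_add]

end Groth.Agent.S5832
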