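import Groth.Statements.S5862
import Mathlib

set_option autoImplicit false
universe u
open RadPt

namespace Groth.Agent.S5862


open CategoryTheory AlgebraicGeometry in
/-- Let f : X → Y and g : Y → Z be morphisms of schemes and y a point of Y. If f is radicial at y (fibre
with at most one point, purely inseparable residue field extension) and g is radicial at g(y), then
g ∘ f is radicial at g(y). Conversely, if f is surjective and g ∘ f is radicial at g(y), then f is
radicial at y and g is radicial at g(y). -/
theorem result {X Y Z : Scheme.{u}} (f : X ⟶ Y) (g : Y ⟶ Z) (y : Y) :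
    (RadPt.IsRadicialAt f y → RadPt.IsRadicialAt g (g y) → RadPt.IsRadicialAt (f ≫ g) (g y)) ∧
      (Surjective f → RadPt.IsRadicialAt (f ≫ g) (g y) →
        RadPt.IsRadicialAt f y ∧ RadPt.IsRadicialAt g (g y)) := by

  have pi_right : ∀ {F E K : Type u} [Field F] [Field E] [Field K] (a : F →+* E) (b : E →+* K),
      (b.comp a).IsPurelyInseparable → b.IsPurelyInseparable := by
    intro F E K _ _ _ a b h
    algebraize [a, b, b.comp a]
    exact IsPurelyInseparable.tower_top F E K
  have pi_left : ∀ {F E K : Type u} [Field F] [Field E] [Field K] (a : F →+* E) (b : E →+* K),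
      (b.comp a).IsPurelyInseparable → a.IsPurelyInseparable := by
    intro F E K _ _ _ a b h
    algebraize [a, b, b.comp a]
    exact IsPurelyInseparable.tower_bot F E K
  have hcomp : ∀ x : X, ((f ≫ g).residueFieldMap x).hom =
      (f.residueFieldMap x).hom.comp (g.residueFieldMap (f x)).hom := by
    intro x
    rw [Scheme.residueFieldMap_comp]
    rfl
  refine ⟨fun hf hg => ⟨?_, ?_⟩, fun hs hfg => ⟨⟨?_, ?_⟩, ⟨?_, ?_⟩⟩⟩
  · intro x x' hx hx'
    have h1 : f x = y := hg.1 (f x) y hx rfl
    have h2 : f x' = y := hg.1 (f x') y hx' rfl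
    exact hf.1 x x' h1 h2
  · intro x hx
    have h1 : f x = y := hg.1 (f x) y hx rfl
    rw [hcomp]
    exact RingHom.IsPurelyInseparable.comp (hg.2 (f x) (by rw [h1])) (hf.2 x h1)
  · intro x x' hx hx'
    exact hfg.1 x x' (by rw [Scheme.Hom.comp_apply, hx]) (by rw [Scheme.Hom.comp_apply, hx'])
  · intro x hx
    have := hfg.2 x (by rw [Scheme.Hom.comp_apply, hx])
    rw [hcomp] at this
    exact pi_right _ _ this
  · intro y' y'' hy' hy''
    obtain ⟨x', rfl⟩ := hs.surj y'
    obtain ⟨x'', rfl⟩ := hs.surj y''
    rw [hfg.1 x' x'' hy' hy'']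
  · intro y' hy'
    obtain ⟨x', rfl⟩ := hs.surj y'
    have := hfg.2 x' hy'
    rw [hcomp] at this
    exact pi_left _ _ this

end Groth.Agent.S5862
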