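import Groth.Statements.S5911
import Groth.Agent.Helper2.FiltFlatCrit
open TensorProduct Function LinearMap Groth.Agent.Helper2.FiltFlatCrit
-- import your own Groth.Agent.* helpers here

set_option autoImplicit false
universe u
open TensorProduct
open EGA43

namespace Groth.Agent.S5911

/-- Let A be a Noetherian ring, J an ideal of A and M an A-module which is ideally separated for the
J-adic topology (for every ideal a of A the module a ⊗_A M is J-adically separated). Let (p_i) be a
finite family of prime ideals of A containing J, let J_n be the intersection of the symbolic powers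
p_i^{(n)} (preimages in A of the n-th powers of the maximal ideals of the local rings A_{p_i}), and
assume every power J^n contains some J_m. Then M is flat if and only if (A/J) ⊗_A M is flat over A/J
and M_{p_i} is flat over A_{p_i} for every i. -/
theorem result {A : Type u} [CommRing A] [IsNoetherianRing A]
    (J : Ideal A) (M : Type u) [AddCommGroup M] [Module A M]
    (hsep : ∀ a : Ideal A, IsHausdorff J (↥a ⊗[A] M))
    {r : ℕ} (p : Fin r → Ideal A) [∀ i, (p i).IsPrime] (hp : ∀ i, J ≤ p i)
    (htop : ∀ n : ℕ, ∃ m : ℕ,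
      ⨅ i, Ideal.comap (algebraMap A (Localization.AtPrime (p i))) (IsLocalRing.maximalIdeal (Localization.AtPrime (p i)) ^ m) ≤ J ^ n) :
    Module.Flat A M ↔
      Module.Flat (A ⧸ J) ((A ⧸ J) ⊗[A] M) ∧
        ∀ i, Module.Flat (Localization.AtPrime (p i)) (LocalizedModule (p i).primeCompl M) := by
  constructor
  · intro h
    refine ⟨inferInstance, ?_⟩
    intro i
    infer_instance
  · rintro ⟨hM, hloc⟩
    set 𝔠 : ℕ → Ideal A := fun n => ⨅ i, Ideal.comap (algebraMap A (Localization.AtPrime (p i)))
      (IsLocalRing.maximalIdeal (Localization.AtPrime (p i)) ^ n) with h𝔠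
    have h0 : 𝔠 0 = ⊤ := by simp [h𝔠]
    have hanti : ∀ n, 𝔠 (n + 1) ≤ 𝔠 n := by
      intro n
      exact iInf_mono fun i => Ideal.comap_mono (Ideal.pow_le_pow_right (Nat.le_succ n))
    have hJ𝔠 : ∀ n, J * 𝔠 n ≤ 𝔠 (n + 1) := by
      intro n
      rw [Ideal.mul_le]
      intro a ha b hb
      simp only [h𝔠, Ideal.mem_iInf, Ideal.mem_comap] at hb ⊢
      intro i
      rw [map_mul, pow_succ']
      refine Ideal.mul_mem_mul ?_ (hb i)
      exact (IsLocalization.AtPrime.to_map_mem_maximal_iff _ (p i) a).2 (hp i ha)
    have hG : ∀ n, Groth.Agent.Helper2.GrFlatCrit.PP M (𝔠 n) (𝔠 (n + 1)) (hanti n) := by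
      intro n
      apply PP_of_primes J M p hM hloc (𝔠 n) (𝔠 (n + 1)) (hanti n) (hJ𝔠 n)
      intro a ha b _ hab
      simp only [h𝔠, Ideal.mem_iInf, Ideal.mem_comap] at hab ⊢
      intro i
      have hu : IsUnit (algebraMap A (Localization.AtPrime (p i)) a) :=
        IsLocalization.map_units (M := (p i).primeCompl) _ ⟨a, ha i⟩
      have := hab i
      rw [map_mul] at this
      exact (Ideal.unit_mul_mem_iff_mem _ hu).1 this
    exact flat_of_filt J M hsep hM 𝔠 h0 hanti hJ𝔠 htop hG

end Groth.Agent.S5911
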