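import Groth.Statements.S5945
import Mathlib
import Groth.Agent.Helper3.FiberSq

set_option autoImplicit false
universe u
open scoped TensorProduct
open CategoryTheory AlgebraicGeometry
open Unram17

namespace Groth.Agent.S5945

/-- Let S = lim S_i be a cofiltered limit of schemes with affine transition maps, let X₀ and Y₀ be
schemes locally of finite presentation over a stage S_{i₀}, f₀ : X₀ ⟶ Y₀ an S_{i₀}-morphism, and f :
X ⟶ Y the base change of f₀ along S ⟶ S_{i₀} (base changes are expressed by pullback squares). Let x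
be a point of X; for a stage j over i₀ the canonical projection X ⟶ X_j is the morphism rX
determined by its composites to X₀ and to S_j. Then f is formally unramified (equivalently
unramified, local finite presentation being automatic here) on some open neighbourhood of x if and
only if, for some index j over i₀, f_j is formally unramified on some open neighbourhood of the
image of x in X_j. This is the case of unramified morphisms. -/
theorem result {I : Type u} [SmallCategory I] [IsCofiltered I]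
    (D : I ⥤ Scheme.{u}) (c : Limits.Cone D) (hc : Limits.IsLimit c)
    [∀ (i j : I) (f : i ⟶ j), IsAffineHom (D.map f)] (i₀ : I)
    {X₀ Y₀ : Scheme.{u}} (f₀ : X₀ ⟶ Y₀) (g₀ : Y₀ ⟶ D.obj i₀)
    [LocallyOfFinitePresentation g₀] [LocallyOfFinitePresentation (f₀ ≫ g₀)]
    {X Y : Scheme.{u}} (f : X ⟶ Y) (g : Y ⟶ c.pt) (qY : Y ⟶ Y₀) (qX : X ⟶ X₀)
    (hY : IsPullback qY g g₀ (c.π.app i₀)) (hX : IsPullback qX f f₀ qY) (x : ↥X) :
    (∃ U : X.Opens, x ∈ U ∧ FormallyUnramified (U.ι ≫ f)) ↔
      ∃ (j : I) (φ : j ⟶ i₀) (Xj Yj : Scheme.{u}) (fj : Xj ⟶ Yj) (gj : Yj ⟶ D.obj j) (pY : Yj ⟶ Y₀)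
        (pX : Xj ⟶ X₀) (rX : X ⟶ Xj), IsPullback pY gj g₀ (D.map φ) ∧ IsPullback pX fj f₀ pY ∧
          rX ≫ pX = qX ∧ rX ≫ fj ≫ gj = f ≫ g ≫ c.π.app j ∧ ∃ V : Xj.Opens, rX.base x ∈ V ∧ FormallyUnramified (V.ι ≫ fj) := by
  have hf₀ : LocallyOfFiniteType f₀ := locallyOfFiniteType_of_comp f₀ g₀
  have hf : LocallyOfFiniteType f :=
    MorphismProperty.of_isPullback (P := @LocallyOfFiniteType) hX hf₀
  have hQ' := RingHom.FormallyUnramified.respectsIso
  rw [Groth.Agent.Helper3.StalkNbhd.formallyUnramified_nbhd_iff,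
    Groth.Agent.Helper3.FiberSq.stalkMap_formallyUnramified_iff_of_isPullback hX x]
  constructor
  · intro h
    refine ⟨i₀, 𝟙 i₀, X₀, Y₀, f₀, g₀, 𝟙 Y₀, 𝟙 X₀, qX, ?_, ?_, Category.comp_id _, ?_, ?_⟩
    · rw [D.map_id]
      exact IsPullback.of_horiz_isIso ⟨by simp⟩
    · exact IsPullback.of_horiz_isIso ⟨by simp⟩
    · rw [← Category.assoc, hX.w, Category.assoc, hY.w]
    · exact (Groth.Agent.Helper3.StalkNbhd.formallyUnramified_nbhd_iff f₀ (qX x)).mpr h
  · rintro ⟨j, φ, Xj, Yj, fj, gj, pY, pX, rX, h1, h2, h3, h4, hV⟩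
    have hfj : LocallyOfFiniteType fj :=
      MorphismProperty.of_isPullback (P := @LocallyOfFiniteType) h2 hf₀
    rw [Groth.Agent.Helper3.StalkNbhd.formallyUnramified_nbhd_iff,
      Groth.Agent.Helper3.FiberSq.stalkMap_formallyUnramified_iff_of_isPullback h2 (rX x)] at hV
    have hpt : pX (rX x) = qX x := by
      rw [← h3]; rfl
    exact (hQ'.arrow_mk_iso_iff (f₀.arrowStalkMapIsoOfEq hpt)).mp hV

end Groth.Agent.S5945
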