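import Groth.Statements.S5997
import Groth.Agent.Helper1.GX8
import Groth.Agent.Helper1.GX11

set_option autoImplicit false
universe u
open SGA1

namespace Groth.Agent.S5997

open AlgebraicGeometry CategoryTheory CategoryTheory.Limits in
/-- Suppose A is a Noetherian local ring, complete for its maximal ideal, whose residue field we call k,
and consider a proper flat A-scheme X such that the closed fibre X ×_A k is isomorphic over k to
P^r_k. Then X is isomorphic over A to P^r_A. (For ordinary schemes the published statement leaves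
out flatness, yet the proof relies on it; dropping it, P^r_k regarded as an A-scheme via the closed
point gives a counterexample as soon as A fails to be a field. This row therefore assumes f is
flat.) -/
theorem result (A : Type u) [CommRing A] [IsLocalRing A]
    [IsNoetherianRing A] [IsAdicComplete (IsLocalRing.maximalIdeal A) A] (r : ℕ) {X : Scheme.{u}}
    (f : X ⟶ Spec (CommRingCat.of A)) [IsProper f] [Flat f]
    (e₀ : pullback f (Spec.map (CommRingCat.ofHom (IsLocalRing.residue A))) ≅
      CohB1.ProjSpace r (IsLocalRing.ResidueField A))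
    (he₀ : e₀.hom ≫ CohB1.ProjSpace.toSpec r (IsLocalRing.ResidueField A) = pullback.snd f _) :
    ∃ e : X ≅ CohB1.ProjSpace r A, e.hom ≫ CohB1.ProjSpace.toSpec r A = f := by
  obtain ⟨g, hg, hcomm'⟩ := Groth.Agent.Helper1.GX.exists_map_to_projSpace A r f e₀
  have hcomm := hcomm' he₀
  haveI hfin : IsFinite g :=
    Groth.Agent.Helper1.GX.isFinite_map_to_projSpace A r f e₀ he₀ g hg hcomm
  letI : X.Over (Spec (CommRingCat.of A)) := ⟨f⟩
  letI : (Proj (CohB1.polyGrading r A)).Over (Spec (CommRingCat.of A)) :=
    ⟨CohB1.ProjSpace.toSpec r A⟩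
  haveI : g.IsOver (Spec (CommRingCat.of A)) := ⟨hg⟩
  haveI : IsProper ((Proj (CohB1.polyGrading r A)) ↘ Spec (CommRingCat.of A)) :=
    Groth.Agent.Helper6.HProj.isProper_toSpec r A
  haveI : Flat (X ↘ Spec (CommRingCat.of A)) := ‹Flat f›
  have hsqX : IsPullback (pullback.fst f (Spec.map (CommRingCat.ofHom (IsLocalRing.residue A))))
      (pullback.snd f (Spec.map (CommRingCat.ofHom (IsLocalRing.residue A))))
      (X ↘ Spec (CommRingCat.of A))
      (Spec.map (CommRingCat.ofHom (Ideal.Quotient.mk (IsLocalRing.maximalIdeal A)))) :=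
    IsPullback.of_hasPullback f (Spec.map (CommRingCat.ofHom (IsLocalRing.residue A)))
  have hsqP : IsPullback (Groth.Agent.Helper1.ProjBC.γγ (IsLocalRing.residue A) r)
      (CohB1.ProjSpace.toSpec r (IsLocalRing.ResidueField A))
      ((Proj (CohB1.polyGrading r A)) ↘ Spec (CommRingCat.of A))
      (Spec.map (CommRingCat.ofHom (Ideal.Quotient.mk (IsLocalRing.maximalIdeal A)))) :=
    Groth.Agent.Helper4.SN213.isPullback_γγ (IsLocalRing.residue A) r
  have hiso : IsIso g := Groth.Agent.Helper1.GX.isIso_of_fibre (IsLocalRing.maximalIdeal A) g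
    hsqX hsqP e₀.hom hcomm
  let E : X ≅ Proj (CohB1.polyGrading r A) := @asIso _ _ _ _ g hiso
  exact ⟨E, hg⟩

end Groth.Agent.S5997
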