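import Groth.Statements.S6008
import Groth.Agent.Helper8.ArtSchC
import Groth.Agent.Helper8.KummerA

set_option autoImplicit false
universe u
open CategoryTheory AlgebraicGeometry MonoidalCategory CartesianMonoidalCategory MonObj GrpObj
open SGA1t

namespace Groth.Agent.S6008

/-- Let p be a prime and S a scheme of characteristic p (p = 0 in the ring of global functions). Let F
be the Frobenius endomorphism of the additive group over S, the S-endomorphism which raises the
coordinate function of every point to the p-th power, and let P be the difference of the identity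
and F in the group of endomorphisms (on points x ↦ x − x^p). Let G' be the constant S-group (Z/p)_S:
an S-group together with an isomorphism of S-schemes e from G' to the disjoint union of copies of S
indexed by Z/p, under which the S-points of indices m and n multiply to the S-point of index m + n;
and let i : G' → G_a be the homomorphism of S-groups which sends the S-point of index 1 to the point
whose coordinate is the unit global function. Then the Artin-Schreier sequence 1 → (Z/p)_S → G_a →
G_a → 1 is exact for the fpqc topology: i and P are homomorphisms with trivial composite, (x, g) ↦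
(x, x + i(g)) identifies G_a ×_S G' with the fibre product of P with itself (so that i is a kernel
of P), and P acquires sections on the members of some fpqc covering family of its target. -/
theorem result (p : ℕ) [Fact p.Prime] {S : Scheme.{u}}
    (hp : (p : Γ(S, ⊤)) = 0) (F : Red.Ga S ⟶ Red.Ga S)
    (hF : ∀ (T : Over S) (x : T ⟶ Red.Ga S), Red.gaFn (x ≫ F) = Red.gaFn x ^ p)
    {G' : Over S} [GrpObj G'] (e : G' ≅ TwC.const S (Multiplicative (ZMod p)))
    (he : TwC.IsConstGrp (Multiplicative (ZMod p)) G' e)
    (i : G' ⟶ Red.Ga S) [IsMonHom i]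
    (hi : Red.gaFn (TwC.pt S (Multiplicative (ZMod p)) (Multiplicative.ofAdd 1) ≫ e.inv ≫ i) = 1) :
    NonAbH1.IsExactSeq Scheme.fpqcPrecoverage i (𝟙 (Red.Ga S) * F⁻¹) := by
  classical
  have hp₁ : (p : Γ((𝟙_ (Over S)).left, ⊤)) = 0 := hp
  haveI := ringChar.charP Γ((𝟙_ (Over S)).left, ⊤)
  let zS : ZMod p →+* Γ((𝟙_ (Over S)).left, ⊤) :=
    ZMod.castHom (ringChar.dvd hp₁) Γ((𝟙_ (Over S)).left, ⊤)
  let j : TwC.const S (Multiplicative (ZMod p)) ⟶ Red.Ga S := e.inv ≫ i
  have hij : i = e.hom ≫ j := by simp [j]
  -- additivity of the coordinates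
  have hadd : ∀ m n : Multiplicative (ZMod p),
      Red.gaFn (TwC.pt S (Multiplicative (ZMod p)) (m * n) ≫ j) =
        Red.gaFn (TwC.pt S (Multiplicative (ZMod p)) m ≫ j) +
          Red.gaFn (TwC.pt S (Multiplicative (ZMod p)) n ≫ j) := by
    intro m n
    have h1 := congrArg (fun φ => φ ≫ i) (he m n)
    simp only [MonObj.mul_comp, Category.assoc] at h1
    rw [← Groth.Agent.Helper2.GaAdd.gaFn_mul]
    exact congrArg Red.gaFn h1.symm
  have hone : Red.gaFn (TwC.pt S (Multiplicative (ZMod p)) 1 ≫ j) = 0 := by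
    have h1 := hadd 1 1
    rw [_root_.mul_one] at h1
    exact left_eq_add.mp h1
  have hc : ∀ n : ℕ, Red.gaFn (TwC.pt S (Multiplicative (ZMod p))
      (Multiplicative.ofAdd (n : ZMod p)) ≫ j) = (n : Γ((𝟙_ (Over S)).left, ⊤)) := by
    intro n
    induction n with
    | zero =>
      rw [Nat.cast_zero, Nat.cast_zero, ofAdd_zero]
      exact hone
    | succ n ih =>
      rw [Nat.cast_succ, Nat.cast_succ, ofAdd_add, hadd, ih]
      congr 1
  have hj : ∀ k : ZMod p, Red.gaFn (TwC.pt S (Multiplicative (ZMod p))
      (Multiplicative.ofAdd k) ≫ j) = zS k := by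
    intro k
    have h1 := hc k.val
    rw [ZMod.natCast_zmod_val] at h1
    rw [h1, ← map_natCast zS, ZMod.natCast_zmod_val]
  haveI hPmon : IsMonHom (𝟙 (Red.Ga S) * F⁻¹) := Groth.Agent.Helper8.ArtSch.isMonHom_P p hp F hF
  haveI hjmono : Mono j := Groth.Agent.Helper8.ArtSch.mono_of_gaFn zS j hj
  haveI himono : Mono i := by rw [hij]; infer_instance
  have hjP : j ≫ (𝟙 (Red.Ga S) * F⁻¹) = 1 := by
    apply Over.OverMorphism.ext
    apply Limits.Sigma.hom_ext
    intro m
    have h1 : TwC.pt S (Multiplicative (ZMod p)) m ≫ j ≫ (𝟙 (Red.Ga S) * F⁻¹) =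
        TwC.pt S (Multiplicative (ZMod p)) m ≫ 1 := by
      apply Groth.Agent.Helper5.GaPts.gaFn_injective
      rw [← Category.assoc, Groth.Agent.Helper8.ArtSch.gaFn_comp_P p F hF, MonObj.comp_one,
        Groth.Agent.Helper2.GaAdd.gaFn_one]
      have h2 := hj m.toAdd
      rw [ofAdd_toAdd] at h2
      rw [h2, ← map_pow, ZMod.pow_card, sub_self]
    exact congrArg (fun φ => φ.left) h1
  have hiP : i ≫ (𝟙 (Red.Ga S) * F⁻¹) = 1 := by
    rw [hij, Category.assoc, hjP, MonObj.comp_one]
  have hk : IsPullback i (toUnit G') (𝟙 (Red.Ga S) * F⁻¹) η[Red.Ga S] :=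
    Groth.Agent.Helper8.ArtSch.isKernel_of_forall i _ hiP (fun T x hx => by
      have ha : Red.gaFn x ^ p = Red.gaFn x := by
        have h1 := congrArg Red.gaFn hx
        rw [Groth.Agent.Helper8.ArtSch.gaFn_comp_P p F hF, Groth.Agent.Helper2.GaAdd.gaFn_one,
          sub_eq_zero] at h1
        exact h1.symm
      obtain ⟨g, hg⟩ := Groth.Agent.Helper8.ArtSch.exists_lift zS j hj x ha
      exact ⟨g ≫ e.inv, by rw [Category.assoc]; exact hg⟩)
  exact ⟨inferInstance, hPmon, hiP, Groth.Agent.Helper8.Kummer.isPullback_of_isKernel i _ hk,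
    Groth.Agent.Helper8.ArtSch.isLocallyTrivial_P p F hF⟩

end Groth.Agent.S6008
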