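import Groth.Statements.S6019

set_option autoImplicit false
open CategoryTheory
universe v₁ v₂ u₁ u₂
open FibCat FibCat.Cleavage

namespace Groth.Agent.S6019

set_option backward.isDefEq.respectTransparency false

variable {𝒮 : Type u₁} {𝒳 : Type u₂} [Category.{v₁} 𝒮] [Category.{v₂} 𝒳]

theorem isCartesian_id (p : 𝒳 ⥤ 𝒮) {R S : 𝒮} {a : 𝒳} (ha : p.obj a = S) (f : R ⟶ S)
    (h : ∃ e : R = S, f = eqToHom e) : p.IsCartesian f (𝟙 a) := by
  obtain ⟨e, rfl⟩ := h
  subst e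
  have h1 : p.IsHomLift (eqToHom rfl : R ⟶ R) (𝟙 a) := by
    simpa using IsHomLift.id ha
  have h2 : p.IsStronglyCartesian (eqToHom rfl : R ⟶ R) (𝟙 a) :=
    Functor.IsStronglyCartesian.of_isIso p _ (𝟙 a)
  infer_instance

open Classical in
/-- a choice of cartesian lift, the identity whenever the base morphism is an identity -/
noncomputable def pick (p : 𝒳 ⥤ 𝒮) [p.IsPreFibered] {R S : 𝒮} {a : 𝒳} (ha : p.obj a = S) (f : R ⟶ S) :
    { x : Σ b : 𝒳, (b ⟶ a) // p.IsCartesian f x.2 } :=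
  if h : ∃ e : R = S, f = eqToHom e then ⟨⟨a, 𝟙 a⟩, isCartesian_id p ha f h⟩
  else ⟨⟨Functor.IsPreFibered.pullbackObj ha f, Functor.IsPreFibered.pullbackMap ha f⟩, inferInstance⟩

theorem pick_id (p : 𝒳 ⥤ 𝒮) [p.IsPreFibered] {S : 𝒮} {a : 𝒳} (ha : p.obj a = S) :
    pick p ha (𝟙 S) = ⟨⟨a, 𝟙 a⟩, isCartesian_id p ha (𝟙 S) ⟨rfl, rfl⟩⟩ := by
  unfold pick
  rw [dif_pos ⟨rfl, rfl⟩]

theorem aux {a : 𝒳} (x y : Σ b : 𝒳, (b ⟶ a)) (hy : y = ⟨a, 𝟙 a⟩) (h : x = y) :
    ∃ h : x.1 = a, x.2 = eqToHom h := by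
  subst h
  subst hy
  exact ⟨rfl, rfl⟩

/-- A pre-fibred category admits a normalised cleavage: if every base morphism `R ⟶ p(a)` has a
cartesian morphism over it with target `a`, then one cartesian lift can be chosen for every base
morphism at every object over its target in such a way that the chosen lift of each identity `𝟙 S`
at each object `a` over `S` is the identity of `a` (identities are transport morphisms). -/
theorem result (𝒮 : Type u₁) (𝒳 : Type u₂) [Category.{v₁} 𝒮] [Category.{v₂} 𝒳]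
    (p : 𝒳 ⥤ 𝒮) [p.IsPreFibered] : ∃ K : FibCat.Cleavage p, K.IsNormalised := by
  refine ⟨⟨fun ha f => (pick p ha f).1.1, fun ha f => (pick p ha f).1.2,
    fun ha f => (pick p ha f).2⟩, ?_⟩
  intro S a ha
  exact aux (pick p ha (𝟙 S)).1 ⟨a, 𝟙 a⟩ rfl (congrArg Subtype.val (pick_id p ha))

end Groth.Agent.S6019
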