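import Groth.Statements.S6024
import Mathlib
-- import your own Groth.Agent.* helpers here

set_option autoImplicit false
universe u
open CategoryTheory CategoryTheory.Limits TopologicalSpace
open LocCohZ

namespace Groth.Agent.S6024

/-- Consider a topological space X carrying a sheaf of abelian groups F, and assume that H^1_Z(X, F)
vanishes for each closed subset Z of X (writing Z = X − U with U open). Under this assumption, F is
flasque. -/
theorem result {X : TopCat.{u}} (F : CohTop.Ab X)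
    (h : ∀ U : Opens X, Subsingleton (LocCohZ.HZc F 1 U)) : TopCat.Sheaf.IsFlasque F := by
  constructor
  intro U V i
  rw [AddCommGrpCat.epi_iff_surjective]
  intro t
  -- lift `t ∈ F(V)` to a global section
  let J := Opens.grothendieckTopology X
  have hS := LocCohZ.zqSeq_shortExact (le_top : V.unop ≤ ⊤)
  let φ : CohCx.freeSheaf J V.unop ⟶ F := CohFree.ofSect J V.unop F t
  haveI := h V.unop
  have hz : hS.extClass.comp (Abelian.Ext.mk₀ φ) (show 1 + 0 = 1 by rfl) = 0 :=
    Subsingleton.elim (α := LocCohZ.HZc F 1 V.unop) _ _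
  obtain ⟨x₂, hx₂⟩ := Abelian.Ext.contravariant_sequence_exact₁ hS F (Abelian.Ext.mk₀ φ)
    (show 1 + 0 = 1 by rfl) hz
  obtain ⟨ψ, rfl⟩ := Abelian.Ext.mk₀_bijective _ _ |>.2 x₂
  rw [Abelian.Ext.mk₀_comp_mk₀] at hx₂
  have hψ := (Abelian.Ext.mk₀_bijective _ _).1 hx₂
  let s := CohFree.evalGen J ⊤ F ψ
  refine ⟨F.obj.map (homOfLE (le_top : U.unop ≤ ⊤)).op s, ?_⟩
  have h1 := CohFree.evalGen_freeSheafMap_comp J (homOfLE (le_top : V.unop ≤ ⊤)) F ψ
  have h2 : CohFree.evalGen J V.unop F φ = t := CohFree.evalGen_ofSect J V.unop F t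
  have h3 : CohCx.freeSheafMap J (homOfLE (le_top : V.unop ≤ ⊤)) ≫ ψ = φ := hψ
  rw [h3, h2] at h1
  rw [h1, ← ConcreteCategory.comp_apply, ← Functor.map_comp]
  rfl

end Groth.Agent.S6024
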