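import Groth.Statements.S6040
import Groth.Agent.Helper1.DeltaComp
import Groth.Agent.Helper1.CohTopFun
import Groth.Agent.Helper1.CohTopPush
import Groth.Agent.S0456

set_option autoImplicit false
universe u
open CategoryTheory CategoryTheory.Limits TopologicalSpace
open LocCohZ

namespace Groth.Agent.S6040

/-- Let X be a topological space, U an open subset and j : U → X the inclusion, so that the sheaf of
sections with supports in the open U is Γ_U(F) = j_*(F|_U). For every q the local cohomology sheaf
functor ℋ^q_U, i.e. the q-th right derived functor of F ↦ j_*(F|_U), is isomorphic to F ↦ R^q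
j_*(F|_U). (Existence of an isomorphism of functors for each q.) -/
theorem result {X : TopCat.{u}} (U : Opens X) (q : ℕ) :
    Nonempty (CohCx.RpushOn (𝟙 X) U q ≅ CohTop.restrFunctor U ⋙ CohTop.Rpush (CohCx.incl U) q) := by
  have hR : ∀ S : ShortComplex (CohTop.Ab X), S.ShortExact →
      (S.map (CohTop.restrFunctor U)).ShortExact := fun S hS =>
    Groth.Agent.Helper1.DeltaFun.shortExact_map_of_exact _ S hS
  haveI : (CohTop.push (CohCx.incl U)).Additive := CohTop.instAdditiveAbPush _
  haveI : PreservesFiniteLimits (CohTop.push (CohCx.incl U)) :=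
    (inferInstance : ∀ {X Y : TopCat.{u}} (f : X ⟶ Y), PreservesFiniteLimits (CohTop.push f)) _
  haveI : PreservesFiniteLimits (CohTop.push (CohCx.incl U ≫ 𝟙 X)) :=
    (inferInstance : ∀ {X Y : TopCat.{u}} (f : X ⟶ Y), PreservesFiniteLimits (CohTop.push f)) _
  have e : CohTop.restrFunctor U ⋙ CohTop.push (CohCx.incl U) ≅
      CohTop.restrFunctor U ⋙ CohTop.push (CohCx.incl U ≫ 𝟙 X) :=
    Functor.isoWhiskerLeft _ (eqToIso (by rw [Category.comp_id]))
  refine Groth.Agent.Helper1.DeltaFun.nonempty_iso_rightDerived_comp (CohTop.restrFunctor U) hR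
    (CohTop.push (CohCx.incl U)) _ e ?_ q
  intro I _ n
  have : TopCat.Sheaf.IsFlasque I := Groth.Agent.Lead.CohTopB.isFlasque_of_injective I
  exact Groth.Agent.S0456.result (CohCx.incl U) (CohTop.restr I U) n

end Groth.Agent.S6040
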