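import Groth.Statements.S6121

set_option autoImplicit false
open CategoryTheory
universe v₁ v₂ u₁ u₂
open SGA4

namespace Groth.Agent.S6121

set_option backward.isDefEq.respectTransparency false

/-- For a fibered functor `p : E ⥤ B` (every morphism of `B` has a cartesian lift with prescribed
codomain, and cartesian morphisms compose), `p` reflects isomorphisms if and only if every fibre
category of `p` (objects over `b`, morphisms lying over the identity of `b`) is a groupoid. -/
theorem result
    {B : Type u₁} [Category.{v₁} B] {E : Type u₂} [Category.{v₂} E] (p : E ⥤ B) [p.IsFibered] :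
    p.ReflectsIsomorphisms ↔ ∀ b : B, IsGroupoid (p.Fiber b) := by
  constructor
  · intro hp b
    constructor
    intro x y φ
    have h1 : IsIso (p.map (Functor.Fiber.fiberInclusion.map φ)) := by
      rw [IsHomLift.fac' p (𝟙 b) (Functor.Fiber.fiberInclusion.map φ)]
      infer_instance
    have h2 : IsIso (Functor.Fiber.fiberInclusion.map φ) := isIso_of_reflects_iso _ p
    have h3 : p.IsHomLift (𝟙 b) (inv (Functor.Fiber.fiberInclusion.map φ)) := inferInstance
    refine ⟨⟨⟨inv (Functor.Fiber.fiberInclusion.map φ), h3⟩, ?_, ?_⟩⟩
    · apply Functor.Fiber.hom_ext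
      exact IsIso.hom_inv_id (Functor.Fiber.fiberInclusion.map φ)
    · apply Functor.Fiber.hom_ext
      exact IsIso.inv_hom_id (Functor.Fiber.fiberInclusion.map φ)
  · intro h
    constructor
    intro a c φ hφ
    obtain ⟨c', χ, hχ⟩ := Functor.IsPreFibered.exists_isCartesian' (p := p) (p.map φ)
    have hχiso : IsIso χ := Functor.IsStronglyCartesian.isIso_of_base_isIso p (p.map φ) χ
    let φ' := Functor.IsCartesian.map p (p.map φ) χ φ
    have h1 : φ' ≫ χ = φ := Functor.IsCartesian.fac p _ χ φ
    have := h (p.obj a)
    let φ'' := Functor.Fiber.homMk p (p.obj a) φ'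
    have h2 : IsIso φ'' := IsGroupoid.all_isIso φ''
    have h3 : IsIso (Functor.Fiber.fiberInclusion.map φ'') := inferInstance
    have h4 : IsIso φ' := h3
    rw [← h1]
    infer_instance

end Groth.Agent.S6121
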