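import Groth.Statements.S6123
import Mathlib.CategoryTheory.Limits.Shapes.KernelPair
import Mathlib.CategoryTheory.Limits.Shapes.Pullback.IsPullback.Basic

set_option autoImplicit false
open CategoryTheory CategoryTheory.Limits Opposite
universe w v₁ v₂ u₁ u₂
open SGA4

namespace Groth.Agent.S6123

/-- For a single functor. Let `E` have pullbacks and let `φ : E ⥤ F` preserve them. If every
monomorphism `u` of `E` with `φ u` invertible is invertible, then `φ` reflects all isomorphisms. -/
theorem result
    {E : Type u₁} [Category.{v₁} E] {F : Type u₂} [Category.{v₂} F] (φ : E ⥤ F)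
    [HasPullbacks E] [PreservesLimitsOfShape WalkingCospan φ]
    (h : ∀ ⦃X Y : E⦄ (u : X ⟶ Y), Mono u → IsIso (φ.map u) → IsIso u) :
    φ.ReflectsIsomorphisms := by
  constructor
  intro X Y f hf
  have hpb : IsPullback (pullback.fst f f) (pullback.snd f f) f f := IsPullback.of_hasPullback f f
  have hpb' := hpb.map φ
  have h1 : IsIso (φ.map (pullback.fst f f)) := hpb'.isIso_fst_of_isIso
  -- the diagonal
  let δ : X ⟶ pullback f f := pullback.lift (𝟙 X) (𝟙 X) rfl
  have hδ : δ ≫ pullback.fst f f = 𝟙 X := pullback.lift_fst _ _ _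
  have hδmono : Mono δ := mono_of_mono_fac hδ
  have h2 : IsIso (φ.map δ) := by
    have h3 : φ.map δ ≫ φ.map (pullback.fst f f) = 𝟙 _ := by rw [← φ.map_comp, hδ, φ.map_id]
    have h4 : φ.map δ = inv (φ.map (pullback.fst f f)) := by
      rw [← cancel_mono (φ.map (pullback.fst f f)), h3, IsIso.inv_hom_id]
    rw [h4]
    infer_instance
  have h5 : IsIso δ := h δ hδmono h2
  have h6 : IsIso (pullback.fst f f) := by
    have : pullback.fst f f = inv δ := by
      rw [← cancel_epi δ, hδ, IsIso.hom_inv_id]
    rw [this]
    infer_instance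
  have hmono : Mono f := IsKernelPair.mono_of_isIso_fst hpb
  exact h f hmono hf

end Groth.Agent.S6123
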