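import Groth.Statements.S6124
import Mathlib.CategoryTheory.Limits.Shapes.KernelPair
import Mathlib.CategoryTheory.Limits.Shapes.Pullback.IsPullback.Basic

set_option autoImplicit false
open CategoryTheory CategoryTheory.Limits Opposite
universe w v₁ v₂ u₁ u₂
open SGA4

namespace Groth.Agent.S6124

/-- Let `E` have pullbacks, let `P` be a detecting family of objects of `E` (a morphism `f` is
invertible as soon as every map out of an object of `P` factors uniquely through `f`), and let `φ i
: E ⥤ E' i` be functors preserving pullbacks. Then the `φ i` jointly reflect isomorphisms if and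
only if, for every `X` with `P X` and every subobject `X'` of `X` other than `⊤`, some `φ i` takes
the inclusion `X' ⟶ X` to a morphism that is not invertible. -/
theorem result
    {E : Type u₁} [Category.{v₁} E] [HasPullbacks E] (P : ObjectProperty E) (hP : P.IsDetecting)
    {κ : Type w} {E' : κ → Type u₂} [∀ k, Category.{v₂} (E' k)] (φ : ∀ k, E ⥤ E' k)
    [∀ k, PreservesLimitsOfShape WalkingCospan (φ k)] :
    (∀ ⦃X Y : E⦄ (f : X ⟶ Y), (∀ k, IsIso ((φ k).map f)) → IsIso f) ↔
      ∀ (X : E), P X → ∀ (X' : Subobject X), X' ≠ ⊤ → ∃ k, ¬ IsIso ((φ k).map X'.arrow) := by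
  constructor
  · intro h X _ X' hX'
    by_contra hcon
    push Not at hcon
    have : IsIso X'.arrow := h X'.arrow hcon
    exact hX' ((Subobject.isIso_arrow_iff_eq_top X').1 this)
  · intro hcrit
    -- Claim A: monos inverted by all `φ k` are isomorphisms
    have claimA : ∀ ⦃A B : E⦄ (u : A ⟶ B), Mono u → (∀ k, IsIso ((φ k).map u)) → IsIso u := by
      intro A B u hu huk
      apply hP
      intro G hG g
      have hpb : IsPullback (pullback.fst g u) (pullback.snd g u) g u :=
        IsPullback.of_hasPullback g u
      have hmono : Mono (pullback.fst g u) := inferInstance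
      have hk : ∀ k, IsIso ((φ k).map (pullback.fst g u)) := by
        intro k
        have := huk k
        exact (hpb.map (φ k)).isIso_fst_of_isIso
      have htop : Subobject.mk (pullback.fst g u) = ⊤ := by
        by_contra hne
        obtain ⟨k, hk'⟩ := hcrit G hG _ hne
        apply hk'
        rw [← Subobject.underlyingIso_hom_comp_eq_mk, Functor.map_comp]
        have := hk k
        infer_instance
      have hiso : IsIso (pullback.fst g u) := (Subobject.isIso_iff_mk_eq_top _).2 htop
      refine ⟨inv (pullback.fst g u) ≫ pullback.snd g u, ?_, ?_⟩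
      · change (inv (pullback.fst g u) ≫ pullback.snd g u) ≫ u = g
        rw [Category.assoc, ← hpb.w, IsIso.inv_hom_id_assoc]
      · intro g' hg'
        rw [← cancel_mono u, hg', Category.assoc, ← hpb.w, IsIso.inv_hom_id_assoc]
    intro X Y f hf
    have hpb : IsPullback (pullback.fst f f) (pullback.snd f f) f f := IsPullback.of_hasPullback f f
    have h1 : ∀ k, IsIso ((φ k).map (pullback.fst f f)) := by
      intro k
      have := hf k
      exact (hpb.map (φ k)).isIso_fst_of_isIso
    let δ : X ⟶ pullback f f := pullback.lift (𝟙 X) (𝟙 X) rfl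
    have hδ : δ ≫ pullback.fst f f = 𝟙 X := pullback.lift_fst _ _ _
    have hδmono : Mono δ := mono_of_mono_fac hδ
    have h2 : ∀ k, IsIso ((φ k).map δ) := by
      intro k
      have := h1 k
      have h3 : (φ k).map δ ≫ (φ k).map (pullback.fst f f) = 𝟙 _ := by
        rw [← (φ k).map_comp, hδ, (φ k).map_id]
      have h4 : (φ k).map δ = inv ((φ k).map (pullback.fst f f)) := by
        rw [← cancel_mono ((φ k).map (pullback.fst f f)), h3, IsIso.inv_hom_id]
      rw [h4]
      infer_instance
    have h5 : IsIso δ := claimA δ hδmono h2
    have h6 : IsIso (pullback.fst f f) := by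
      have : pullback.fst f f = inv δ := by
        rw [← cancel_epi δ, hδ, IsIso.hom_inv_id]
      rw [this]
      infer_instance
    have hmono : Mono f := IsKernelPair.mono_of_isIso_fst hpb
    exact claimA f hmono hf

end Groth.Agent.S6124
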