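import Groth.Statements.S6126
import Mathlib

set_option autoImplicit false
open CategoryTheory CategoryTheory.Limits
universe v₁ u₁
open scoped TensorProduct
open SGA4

namespace Groth.Agent.S6126

/-- Let `E` be a category with `v₁`-small hom-sets admitting a separating family of objects `G t`
indexed by a `v₁`-small type, in which every object admits a monomorphism into an injective object.
Assume that each coproduct `G t ⨿ G t` exists and that every morphism out of `G t ⨿ G t` factors as
an effective epimorphism followed by a monomorphism. Then `E` admits a coseparating family of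
injective objects indexed by a `v₁`-small type. (The published statement moreover bounds the size of
this family in terms of the hom-sets `Hom (G t', G t ⨿ G t)`; only existence is stated here. The
published statement speaks of generating and cogenerating families; its proof uses and produces
joint faithfulness of maps out of, resp. into, the family, which is the sense taken here.) -/
theorem result
    {E : Type u₁} [Category.{v₁} E] {ι : Type v₁} (G : ι → E)
    (hG : (ObjectProperty.ofObj G).IsSeparating)
    [EnoughInjectives E] [∀ t, HasBinaryCoproduct (G t) (G t)]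
    (hfac : ∀ (t : ι) (X : E) (f : G t ⨿ G t ⟶ X),
      ∃ (Y : E) (e : G t ⨿ G t ⟶ Y) (m : Y ⟶ X), EffectiveEpi e ∧ Mono m ∧ e ≫ m = f) :
    ∃ (κ : Type v₁) (H : κ → E),
      (∀ k, Injective (H k)) ∧ (ObjectProperty.ofObj H).IsCoseparating := by
  classical
  let Rel : ι → Type v₁ := fun t =>
    Set (Σ t' : ι, (G t' ⟶ G t ⨿ G t) × (G t' ⟶ G t ⨿ G t))
  let relOf : ∀ (t : ι) (Q : E) (_ : G t ⨿ G t ⟶ Q), Rel t :=
    fun t Q e => {x | x.2.1 ≫ e = x.2.2 ≫ e}
  let κ := Σ t, Rel t
  let good : κ → Prop := fun k =>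
    ∃ (Q : E) (e : G k.1 ⨿ G k.1 ⟶ Q), EffectiveEpi e ∧ relOf k.1 Q e = k.2
  let H : κ → E := fun k =>
    if h : good k then Injective.under h.choose else Injective.under (G k.1)
  refine ⟨κ, H, ?_, ?_⟩
  · intro k
    dsimp only [H]
    split_ifs <;> infer_instance
  · intro X Y f g hfg
    by_contra hne
    obtain ⟨t, a, ha⟩ : ∃ (t : ι) (a : G t ⟶ X), a ≫ f ≠ a ≫ g := by
      by_contra hcon
      push Not at hcon
      exact hne (hG f g (by
        rintro _ ⟨t⟩ h
        exact hcon t h))
    obtain ⟨Q, e, m, he, hm, hem⟩ := hfac t Y (coprod.desc (a ≫ f) (a ≫ g))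
    let k : κ := ⟨t, relOf t Q e⟩
    have hgood : good k := ⟨Q, e, he, rfl⟩
    obtain ⟨e₀, he₀, hR⟩ := hgood.choose_spec
    have hH : H k = Injective.under hgood.choose := dif_pos hgood
    -- compatibility
    have hcompat : ∀ {Z : E} (x y : Z ⟶ G t ⨿ G t), x ≫ e = y ≫ e → x ≫ e₀ = y ≫ e₀ := by
      intro Z x y hxy
      apply hG
      rintro _ ⟨t'⟩ c
      have hmem : (⟨t', (c ≫ x, c ≫ y)⟩ : Σ t' : ι, (G t' ⟶ G t ⨿ G t) × (G t' ⟶ G t ⨿ G t)) ∈
          relOf t Q e := by
        show (c ≫ x) ≫ e = (c ≫ y) ≫ e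
        rw [Category.assoc, Category.assoc, hxy]
      rw [show relOf t Q e = k.2 from rfl, ← hR] at hmem
      have : (c ≫ x) ≫ e₀ = (c ≫ y) ≫ e₀ := hmem
      simpa [Category.assoc] using this
    let u : Q ⟶ hgood.choose := EffectiveEpi.desc e e₀ hcompat
    have hu : e ≫ u = e₀ := EffectiveEpi.fac e e₀ hcompat
    let h : Y ⟶ Injective.under hgood.choose :=
      Injective.factorThru (u ≫ Injective.ι hgood.choose) m
    have hmh : m ≫ h = u ≫ Injective.ι hgood.choose := Injective.comp_factorThru _ _
    have h1 := hfg (H k) ⟨k⟩ (h ≫ eqToHom hH.symm)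
    rw [← Category.assoc, ← Category.assoc, cancel_mono] at h1
    -- inl, inr
    have hinl : coprod.inl ≫ e ≫ m = a ≫ f := by rw [hem, coprod.inl_desc]
    have hinr : coprod.inr ≫ e ≫ m = a ≫ g := by rw [hem, coprod.inr_desc]
    have h2 : (coprod.inl : G t ⟶ G t ⨿ G t) ≫ e₀ = coprod.inr ≫ e₀ := by
      rw [← cancel_mono (Injective.ι hgood.choose), ← hu]
      simp only [Category.assoc]
      rw [← hmh]
      rw [← Category.assoc, ← Category.assoc, ← Category.assoc, ← Category.assoc,
        Category.assoc _ e m, Category.assoc _ e m, hinl, hinr, Category.assoc, Category.assoc, h1]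
    have hmem : (⟨t, (coprod.inl, coprod.inr)⟩ :
        Σ t' : ι, (G t' ⟶ G t ⨿ G t) × (G t' ⟶ G t ⨿ G t)) ∈ relOf t hgood.choose e₀ := h2
    rw [hR] at hmem
    have h3 : (coprod.inl : G t ⟶ G t ⨿ G t) ≫ e = coprod.inr ≫ e := hmem
    apply ha
    rw [← hinl, ← hinr, ← Category.assoc, h3, Category.assoc]

end Groth.Agent.S6126
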