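import Groth.Statements.S6128
import Mathlib
import Groth.Agent.Helper3.LexRefl

set_option autoImplicit false
open CategoryTheory
universe u
open scoped TensorProduct
open SGA4

namespace Groth.Agent.S6128

/-- Let `u : C ⥤ C'` be a functor between small sites. If the right Kan extension along `u` of the
underlying presheaf of every sheaf of sets on `C` is a sheaf on `C'`, then `u` is cocontinuous: for
every object `Y` of `C` and every covering sieve `R` of `u Y`, the sieve of morphisms `g : Z ⟶ Y`
with `u g ∈ R` covers `Y`. -/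
theorem result
    {C : Type u} [SmallCategory C] {C' : Type u} [SmallCategory C']
    (J : GrothendieckTopology C) (J' : GrothendieckTopology C') (u : C ⥤ C')
    (h : ∀ G : Sheaf J (Type u), Presheaf.IsSheaf J' ((u.op.ran).obj G.obj)) :
    u.IsCocontinuous J J' := by
  constructor
  intro Y0 R hR
  -- the monomorphism `u^* R ↪ u^* h_{uY0}`
  let T : C'ᵒᵖ ⥤ Type u := yoneda.obj (u.obj Y0)
  let m : u.op ⋙ R.functor ⟶ u.op ⋙ T := Functor.whiskerLeft u.op R.functorInclusion
  have hm : ∀ Y : Cᵒᵖ, Function.Injective (m.app Y) := fun Y a b hab => Subtype.ext hab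
  let adj := u.op.ranAdjunction (Type u)
  have hW : J.W m := by
    intro G hG
    have hGs : Presieve.IsSheaf J' (u.op.ran.obj G) :=
      (isSheaf_iff_isSheaf_of_type _ _).1 (h ⟨G, hG⟩)
    have hy := (Presieve.isSheafFor_iff_yonedaSheafCondition).1 (hGs R hR)
    -- transport along the adjunction
    have e : ∀ φ : u.op ⋙ T ⟶ G, adj.homEquiv _ _ (m ≫ φ) =
        R.functorInclusion ≫ adj.homEquiv _ _ φ := fun φ =>
      adj.homEquiv_naturality_left R.functorInclusion φ
    constructor
    · intro φ ψ hφψ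
      apply (adj.homEquiv _ _).injective
      have h1 : m ≫ φ = m ≫ ψ := hφψ
      have h2 := congrArg (adj.homEquiv _ _) h1
      rw [e, e] at h2
      exact (hy _).unique h2 rfl
    · intro χ
      obtain ⟨ψ, hψ, -⟩ := hy (adj.homEquiv _ _ χ)
      refine ⟨(adj.homEquiv _ _).symm ψ, ?_⟩
      apply (adj.homEquiv _ _).injective
      change adj.homEquiv _ _ (m ≫ (adj.homEquiv _ _).symm ψ) = _
      rw [e, Equiv.apply_symm_apply]
      exact hψ
  let b : (u.op ⋙ T).obj (Opposite.op Y0) := 𝟙 (u.obj Y0)
  have hpb := (Groth.Agent.Helper3.LexRefl.isPullback m hm b).map (presheafToSheaf J (Type u))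
  have hiso : IsIso ((presheafToSheaf J (Type u)).map m) := (J.W_iff m).1 hW
  have h2 : IsIso ((presheafToSheaf J (Type u)).map
      (Groth.Agent.Helper3.LexRefl.imgSieve m b).functorInclusion) := hpb.isIso_snd_of_isIso
  have hW2 : J.W (Groth.Agent.Helper3.LexRefl.imgSieve m b).functorInclusion := (J.W_iff _).2 h2
  have := hW2.isLocallySurjective
  have h3 := Presheaf.imageSieve_mem J (Groth.Agent.Helper3.LexRefl.imgSieve m b).functorInclusion
    (U := Opposite.op Y0) (𝟙 Y0 : (yoneda.obj Y0).obj (Opposite.op Y0))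
  refine J.superset_covering ?_ h3
  rintro Z g ⟨⟨g', ⟨a, ha⟩⟩, hg'⟩
  have e1 : g' = g ≫ 𝟙 Y0 := hg'
  rw [Category.comp_id] at e1
  subst e1
  change R (u.map g')
  have e2 : a.1 = u.map g' ≫ 𝟙 (u.obj Y0) := ha
  rw [Category.comp_id] at e2
  rw [← e2]
  exact a.2

end Groth.Agent.S6128
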