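import Groth.Statements.S6131

set_option autoImplicit false
open CategoryTheory CategoryTheory.Limits
universe u
open SGA4

namespace Groth.Agent.S6131

open Opposite

/-- The presheaf `Y ↦ {* | ⊥ covers Y}`. -/
def emptyCoverPresheaf {C : Type u} [SmallCategory C] (J : GrothendieckTopology C) :
    Cᵒᵖ ⥤ Type u where
  obj Y := ULift.{u} (PLift ((⊥ : Sieve Y.unop) ∈ J Y.unop))
  map {Y Y'} g := TypeCat.ofHom fun x => ⟨⟨by
    have := J.pullback_stable g.unop x.down.down
    rwa [Sieve.pullback_bot] at this⟩⟩

theorem emptyCoverPresheaf_isSheaf {C : Type u} [SmallCategory C] (J : GrothendieckTopology C) :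
    Presheaf.IsSheaf J (emptyCoverPresheaf J) := by
  rw [isSheaf_iff_isSheaf_of_type]
  intro Y S hS x _
  have hbot : (⊥ : Sieve Y) ∈ J Y := by
    apply J.transitive hS
    intro W f hf
    rw [Sieve.pullback_bot]
    exact (x f hf).down.down
  refine ⟨⟨⟨hbot⟩⟩, ?_, ?_⟩
  · intro W f hf
    rfl
  · intro t _
    rfl

/-- For a small site `(C, J)` and an object `X` of `C`, the sheaf associated to the presheaf represented
by `X` is an initial object of the category of sheaves of sets if and only if the empty sieve covers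
`X`. -/
theorem result
    {C : Type u} [SmallCategory C] (J : GrothendieckTopology C) (X : C) :
    Nonempty (IsInitial ((presheafToSheaf J (Type u)).obj (yoneda.obj X))) ↔ (⊥ : Sieve X) ∈ J X := by
  constructor
  · rintro ⟨hinit⟩
    let E : Sheaf J (Type u) := ⟨emptyCoverPresheaf J, emptyCoverPresheaf_isSheaf J⟩
    let g : (presheafToSheaf J (Type u)).obj (yoneda.obj X) ⟶ E := hinit.to E
    let g' : yoneda.obj X ⟶ E.obj := ((sheafificationAdjunction J (Type u)).homEquiv _ _) g
    exact (yonedaEquiv g').down.down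
  · intro hbot
    refine ⟨@IsInitial.ofUnique _ _ _ (fun F => ?_)⟩
    have huniq : Nonempty (Unique (F.obj.obj (op X))) := by
      have hF := (isSheaf_iff_isSheaf_of_type J F.obj).1 F.property
      have h1 := hF _ hbot
      obtain ⟨t, -, ht⟩ := h1 (fun W f hf => False.elim hf)
        (by intro Y₁ Y₂ W g₁ g₂ f₁ f₂ h₁ h₂ _; exact False.elim h₁)
      exact ⟨⟨⟨t⟩, fun t' => ht t' (by intro W f hf; exact False.elim hf)⟩⟩
    have huniq' : Unique (F.obj.obj (op X)) := huniq.some
    exact @Equiv.unique _ _ huniq'
      (((sheafificationAdjunction J (Type u)).homEquiv _ _).trans yonedaEquiv)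

end Groth.Agent.S6131
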