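import Groth.Statements.S6132
import Mathlib

set_option autoImplicit false
open CategoryTheory CategoryTheory.Limits
universe u
open scoped TensorProduct
open SGA4

namespace Groth.Agent.S6132

/-- Let `(C, J)` be a small site, `X` an object and `s i : Y i ⟶ X` a family of morphisms all of whose
base changes exist in `C`. If the family is covering, every `s i` is a monomorphism, and for `i ≠ j`
the fibre product `Y i ×_X Y j` is covered by the empty sieve, then the associated sheaf of `X`,
with the maps induced by the `s i`, is a coproduct of the associated sheaves of the `Y i` in the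
category of sheaves of sets. -/
theorem result
    {C : Type u} [SmallCategory C] (J : GrothendieckTopology C) {X : C} {ι : Type u}
    (Y : ι → C) (s : ∀ i, Y i ⟶ X) [∀ (i : ι) (Z : C) (g : Z ⟶ X), HasPullback (s i) g]
    (hcov : Sieve.ofArrows Y s ∈ J X) (hmono : ∀ i, Mono (s i))
    (hdisj : ∀ i j, i ≠ j → (⊥ : Sieve (pullback (s i) (s j))) ∈ J (pullback (s i) (s j))) :
    Nonempty (IsColimit (Cofan.mk ((presheafToSheaf J (Type u)).obj (yoneda.obj X))
      (fun i => (presheafToSheaf J (Type u)).map (yoneda.map (s i))))) := by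
  classical
  have key : ∀ (G : Sheaf J (Type u)) (x : ∀ i, G.obj.obj (Opposite.op (Y i))),
      ∃! t : G.obj.obj (Opposite.op X), ∀ i, G.obj.map (s i).op t = x i := by
    intro G x
    have hG : Presieve.IsSheaf J G.obj := (isSheaf_iff_isSheaf_of_type J G.obj).1 G.property
    have h1 : (Presieve.ofArrows Y s).IsSheafFor G.obj := by
      rw [Presieve.isSheafFor_iff_generate]
      exact hG _ hcov
    rw [Presieve.isSheafFor_arrows_iff] at h1
    refine h1 x ?_
    intro i j Z gi gj hcomm
    by_cases hij : i = j
    · subst hij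
      have : gi = gj := (cancel_mono (s i)).1 hcomm
      rw [this]
    · have hZ : (⊥ : Sieve Z) ∈ J Z := by
        have := J.pullback_stable (pullback.lift gi gj hcomm) (hdisj i j hij)
        convert this using 1
        ext W f
        simp
      have hsep := (hG _ hZ).isSeparatedFor
      refine hsep (fun _ _ hf => hf.elim) _ _ ?_ ?_ <;> intro _ _ hf <;> exact hf.elim
  let adj := sheafificationAdjunction J (Type u)
  let e : ∀ (Z : C) (G : Sheaf J (Type u)),
      ((presheafToSheaf J (Type u)).obj (yoneda.obj Z) ⟶ G) ≃ G.obj.obj (Opposite.op Z) :=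
    fun Z G => (adj.homEquiv (yoneda.obj Z) G).trans yonedaEquiv
  have he : ∀ {Z Z' : C} (g : Z' ⟶ Z) (G : Sheaf J (Type u))
      (φ : (presheafToSheaf J (Type u)).obj (yoneda.obj Z) ⟶ G),
      e Z' G ((presheafToSheaf J (Type u)).map (yoneda.map g) ≫ φ) = G.obj.map g.op (e Z G φ) := by
    intro Z Z' g G φ
    simp only [e, Equiv.trans_apply]
    rw [adj.homEquiv_naturality_left, yonedaEquiv_naturality]
  refine ⟨Cofan.IsColimit.mk _
    (fun c => (e X c.pt).symm (key c.pt (fun i => e (Y i) c.pt (c.inj i))).choose) ?_ ?_⟩
  · intro c i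
    apply (e (Y i) c.pt).injective
    have := (key c.pt (fun i => e (Y i) c.pt (c.inj i))).choose_spec.1 i
    simp only [Cofan.mk_pt, Cofan.inj, Cofan.mk_ι_app] at this ⊢
    rw [he, Equiv.apply_symm_apply]
    exact this
  · intro c m hm
    apply (e X c.pt).injective
    rw [Equiv.apply_symm_apply]
    refine (key c.pt (fun i => e (Y i) c.pt (c.inj i))).choose_spec.2 _ (fun i => ?_)
    rw [← he, ← hm i]
    rfl

end Groth.Agent.S6132
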