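import Groth.Statements.S6134
import Mathlib

set_option autoImplicit false
open CategoryTheory CategoryTheory.Limits
universe u
open scoped TensorProduct
open SGA4

namespace Groth.Agent.S6134

/-- Let `C` be a small category with topologies `J ≤ J'` (every `J`-covering sieve is `J'`-covering),
`X` an object and `s i : Y i ⟶ X` a family of morphisms. If the associated `J`-sheaf of the presheaf
represented by `X`, with the maps induced by the `s i`, is a coproduct of the associated `J`-sheaves
of the `Y i` (in sheaves of sets), then the same holds for `J'`. -/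
theorem result
    {C : Type u} [SmallCategory C] {J J' : GrothendieckTopology C} (hJ : J ≤ J')
    {X : C} {ι : Type u} (Y : ι → C) (s : ∀ i, Y i ⟶ X)
    (h : Nonempty (IsColimit (Cofan.mk ((presheafToSheaf J (Type u)).obj (yoneda.obj X))
      (fun i => (presheafToSheaf J (Type u)).map (yoneda.map (s i)))))) :
    Nonempty (IsColimit (Cofan.mk ((presheafToSheaf J' (Type u)).obj (yoneda.obj X))
      (fun i => (presheafToSheaf J' (Type u)).map (yoneda.map (s i))))) := by
  classical
  obtain ⟨hcol⟩ := h
  have hle : Presheaf.IsSheaf J' (A := Type u) ≤ Presheaf.IsSheaf J (A := Type u) := by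
    intro F hF
    rw [isSheaf_iff_isSheaf_of_type] at hF ⊢
    exact Presieve.isSheaf_of_le F hJ hF
  let I : Sheaf J' (Type u) ⥤ Sheaf J (Type u) := ObjectProperty.ιOfLE hle
  let L' : Sheaf J (Type u) ⥤ Sheaf J' (Type u) :=
    sheafToPresheaf J (Type u) ⋙ presheafToSheaf J' (Type u)
  let adj' : L' ⊣ I := (sheafificationAdjunction J' (Type u)).restrictFullyFaithful
    (fullyFaithfulSheafToPresheaf J (Type u)) (Functor.FullyFaithful.id _) (Iso.refl _) (Iso.refl _)
  let adjc : presheafToSheaf J (Type u) ⋙ L' ⊣ I ⋙ sheafToPresheaf J (Type u) :=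
    (sheafificationAdjunction J (Type u)).comp adj'
  let φ : presheafToSheaf J (Type u) ⋙ L' ≅ presheafToSheaf J' (Type u) :=
    adjc.leftAdjointUniq (sheafificationAdjunction J' (Type u))
  haveI : L'.IsLeftAdjoint := adj'.isLeftAdjoint
  have h1 := isColimitOfPreserves L' hcol
  have h2 := (isColimitMapCoconeCofanMkEquiv L' _ _) h1
  have hn : ∀ i, L'.map ((presheafToSheaf J (Type u)).map (yoneda.map (s i))) ≫
      (φ.app (yoneda.obj X)).hom = (φ.app (yoneda.obj (Y i))).hom ≫
        (presheafToSheaf J' (Type u)).map (yoneda.map (s i)) :=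
    fun i => φ.hom.naturality (yoneda.map (s i))
  refine ⟨Cofan.IsColimit.mk _
    (fun c => (φ.app (yoneda.obj X)).inv ≫
      Cofan.IsColimit.desc h2 (fun i => (φ.app (yoneda.obj (Y i))).hom ≫ c.inj i)) ?_ ?_⟩
  · intro c i
    have h3 := Cofan.IsColimit.fac h2 (fun i => (φ.app (yoneda.obj (Y i))).hom ≫ c.inj i) i
    change (presheafToSheaf J' (Type u)).map (yoneda.map (s i)) ≫ _ = _
    rw [← cancel_epi (φ.app (yoneda.obj (Y i))).hom, ← Category.assoc, ← hn i, Category.assoc,
      Iso.hom_inv_id_assoc]
    exact h3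
  · intro c m hm
    rw [Iso.eq_inv_comp]
    apply Cofan.IsColimit.hom_ext h2
    intro i
    rw [Cofan.IsColimit.fac]
    change L'.map ((presheafToSheaf J (Type u)).map (yoneda.map (s i))) ≫ _ = _
    rw [← Category.assoc, hn i, Category.assoc]
    congr 1
    exact hm i

end Groth.Agent.S6134
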