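import Groth.Statements.S6137
import Mathlib

set_option autoImplicit false
open CategoryTheory CategoryTheory.Limits
universe v u
open scoped TensorProduct
open SGA4

namespace Groth.Agent.S6137

/-- Let `C` be a category with `v`-small hom-sets admitting all `v`-small limits, and `F : C ⥤ Type v` a
functor. Then `F` is corepresentable if and only if it is pro-representable (viewed as a presheaf on
`Cᵒᵖ` it is an ind-object, i.e. a small filtered colimit of corepresentable functors) and preserves
all `v`-small limits. -/
theorem result
    {C : Type u} [Category.{v} C] [HasLimitsOfSize.{v, v} C] (F : C ⥤ Type v) :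
    F.IsCorepresentable ↔
      IsIndObject (unopUnop C ⋙ F) ∧ PreservesLimitsOfSize.{v, v} F := by
  constructor
  · intro hF
    obtain ⟨X, ⟨hX⟩⟩ := hF.has_corepresentation
    let e : coyoneda.obj (Opposite.op X) ≅ F := hX.toIso
    refine ⟨?_, ?_⟩
    · have e2 : yoneda.obj (Opposite.op X) ≅ unopUnop C ⋙ F :=
        NatIso.ofComponents (fun Y => (opEquiv _ _).toIso ≪≫ e.app _) (by
          intro Y Z f
          ext y
          have := ConcreteCategory.congr_hom (e.hom.naturality f.unop.unop) y.unop
          simpa [opEquiv] using this)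
      exact (isIndObject_yoneda (Opposite.op X)).map e2.hom
    · exact preservesLimits_of_natIso e
  · rintro ⟨hind, hpres⟩
    let P := hind.presentation
    haveI : HasProducts.{v} F.Elements := fun ι => inferInstance
    haveI : HasWideEqualizers.{v} F.Elements := fun ι => inferInstance
    let ξ : ∀ i : P.I, F.obj (P.F.obj i).unop :=
      fun i => (P.ι.app i).app (Opposite.op (P.F.obj i)) (𝟙 (P.F.obj i))
    let B : P.I → F.Elements := fun i => ⟨(P.F.obj i).unop, ξ i⟩
    have hB : ∀ A : F.Elements, ∃ i, Nonempty (B i ⟶ A) := by
      rintro ⟨X, x⟩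
      have hc := isColimitOfPreserves ((evaluation _ _).obj (Opposite.op (Opposite.op X)))
        P.coconeIsColimit
      obtain ⟨i, y, hy⟩ := Types.jointly_surjective_of_isColimit hc x
      let y' : Opposite.op X ⟶ P.F.obj i := y
      refine ⟨i, ⟨⟨y'.unop, ?_⟩⟩⟩
      have hnat := ConcreteCategory.congr_hom
        ((P.ι.app i).naturality y'.op) (𝟙 (P.F.obj i))
      calc F.map y'.unop (ξ i)
          = ((P.ι.app i).app (Opposite.op (P.F.obj i)) ≫ (unopUnop C ⋙ F).map y'.op)
              (𝟙 (P.F.obj i)) := rfl
        _ = ((yoneda.obj (P.F.obj i)).map y'.op ≫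
              (P.ι.app i).app (Opposite.op (Opposite.op X))) (𝟙 (P.F.obj i)) := hnat.symm
        _ = (P.ι.app i).app (Opposite.op (Opposite.op X)) (y' ≫ 𝟙 (P.F.obj i)) := rfl
        _ = (P.ι.app i).app (Opposite.op (Opposite.op X)) y' := by rw [Category.comp_id]
        _ = x := hy
    obtain ⟨T, hT⟩ := has_weakly_initial_of_weakly_initial_set_and_hasProducts hB
    haveI := hasInitial_of_weakly_initial_and_hasWideEqualizers hT
    exact Functor.Elements.isCorepresentable_of_hasInitial F

end Groth.Agent.S6137
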