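import Groth.Statements.S6139

set_option autoImplicit false
open CategoryTheory CategoryTheory.Limits
universe v u
open SGA4

namespace Groth.Agent.S6139

/-- For an object `X` of a category `C`, the empty sieve on `X` is covering for the canonical topology
of `C` (the finest topology for which every representable presheaf is a sheaf) if and only if `X` is
a strict initial object: `X` is initial and every morphism with target `X` is an isomorphism. (The
source phrases the first condition as: for some topology coarser than the canonical one the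
associated sheaf of `h_X` is initial; that sheaf is initial exactly when the empty sieve covers `X`,
and coverage by the empty sieve passes to the finer canonical topology.) -/
theorem result
    {C : Type u} [Category.{v} C] (X : C) :
    (⊥ : Sieve X) ∈ Sheaf.canonicalTopology C X ↔
      (Nonempty (IsInitial X) ∧ ∀ (Y : C) (f : Y ⟶ X), IsIso f) := by
  have huniq : ∀ (Y : C), (⊥ : Sieve Y) ∈ Sheaf.canonicalTopology C Y →
      ∀ Z : C, ∃ t : Y ⟶ Z, ∀ t' : Y ⟶ Z, t' = t := by
    intro Y hY Z
    have h1 := Sheaf.isSheaf_yoneda_obj Z _ hY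
    obtain ⟨t, -, ht⟩ := h1 (fun W f hf => False.elim hf)
      (by intro Y₁ Y₂ W g₁ g₂ f₁ f₂ h₁ h₂ _; exact False.elim h₁)
    exact ⟨t, fun t' => ht t' (by intro W f hf; exact False.elim hf)⟩
  constructor
  · intro hbot
    have hX := huniq X hbot
    have hinit : IsInitial X :=
      IsInitial.ofUniqueHom (fun Z => (hX Z).choose) (fun Z m => (hX Z).choose_spec m)
    refine ⟨⟨hinit⟩, ?_⟩
    intro Y f
    have hY' : (⊥ : Sieve Y) ∈ Sheaf.canonicalTopology C Y := by
      have := (Sheaf.canonicalTopology C).pullback_stable f hbot
      rwa [Sieve.pullback_bot] at this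
    have hY := huniq Y hY'
    refine ⟨hinit.to Y, ?_, hinit.hom_ext _ _⟩
    obtain ⟨t, ht⟩ := hY Y
    rw [ht (f ≫ hinit.to Y), ht (𝟙 Y)]
  · rintro ⟨⟨hinit⟩, hiso⟩
    apply Sheaf.mem_finestTopology_of_forall_isSheafFor
    rintro _ ⟨Z, rfl⟩ Y f
    rw [Sieve.pullback_bot]
    have := hiso Y f
    have hY : IsInitial Y := hinit.ofIso (asIso f).symm
    intro x _
    refine ⟨hY.to Z, ?_, ?_⟩
    · intro W g hg
      exact False.elim hg
    · intro t' _
      exact hY.hom_ext _ _

end Groth.Agent.S6139
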