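import Groth.Statements.S6142
import Mathlib

set_option autoImplicit false
open CategoryTheory
universe u
open scoped TensorProduct
open SGA4

namespace Groth.Agent.S6142

/-- Let `u : C ⥤ C'` be a continuous and cocontinuous functor between small sites whose topologies are
subcanonical. If the left adjoint `u_!` of the restriction functor `u^*` on sheaves of sets is full
and faithful, then `u` is full and faithful. -/
theorem result
    {C : Type u} [SmallCategory C] {C' : Type u} [SmallCategory C']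
    (J : GrothendieckTopology C) (K : GrothendieckTopology C') [J.Subcanonical] [K.Subcanonical]
    (u : C ⥤ C') [u.IsContinuous J K] [u.IsCocontinuous J K]
    (h : (u.sheafPullback (Type u) J K).Full ∧ (u.sheafPullback (Type u) J K).Faithful) :
    u.Full ∧ u.Faithful := by
  obtain ⟨hfull, hfaith⟩ := h
  let P := u.sheafPullback (Type u) J K
  let e1 : J.yoneda ⋙ P ≅
      J.yoneda ⋙ (sheafToPresheaf J (Type u) ⋙ u.op.lan ⋙ presheafToSheaf K (Type u)) :=
    Functor.isoWhiskerLeft _ (Functor.sheafPullbackConstruction.sheafPullbackIso u (Type u) J K)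
  let e2 : J.yoneda ⋙ (sheafToPresheaf J (Type u) ⋙ u.op.lan ⋙ presheafToSheaf K (Type u)) ≅
      yoneda ⋙ u.op.lan ⋙ presheafToSheaf K (Type u) := Iso.refl _
  let e3 : yoneda ⋙ u.op.lan ⋙ presheafToSheaf K (Type u) ≅
      uliftYoneda.{u} ⋙ u.op.lan ⋙ presheafToSheaf K (Type u) :=
    Functor.isoWhiskerRight (uliftYonedaIsoYoneda.{u}).symm _
  let e4 : uliftYoneda.{u} ⋙ u.op.lan ⋙ presheafToSheaf K (Type u) ≅
      (u ⋙ uliftYoneda.{u}) ⋙ presheafToSheaf K (Type u) :=
    Functor.isoWhiskerRight (Presheaf.compULiftYonedaIsoULiftYonedaCompLan.{u} u).symm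
      (presheafToSheaf K (Type u))
  let e5 : (u ⋙ uliftYoneda.{u}) ⋙ presheafToSheaf K (Type u) ≅
      (u ⋙ yoneda) ⋙ presheafToSheaf K (Type u) :=
    Functor.isoWhiskerRight (Functor.isoWhiskerLeft u (uliftYonedaIsoYoneda.{u})) _
  let e6 : (u ⋙ yoneda) ⋙ presheafToSheaf K (Type u) ≅
      (u ⋙ K.yoneda) ⋙ (sheafToPresheaf K (Type u) ⋙ presheafToSheaf K (Type u)) := Iso.refl _
  let e7 : (u ⋙ K.yoneda) ⋙ (sheafToPresheaf K (Type u) ⋙ presheafToSheaf K (Type u)) ≅
      u ⋙ K.yoneda :=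
    Functor.isoWhiskerLeft _ (sheafificationNatIso K (Type u)).symm ≪≫ Functor.rightUnitor _
  let e : J.yoneda ⋙ P ≅ u ⋙ K.yoneda := e1 ≪≫ e2 ≪≫ e3 ≪≫ e4 ≪≫ e5 ≪≫ e6 ≪≫ e7
  have ffP : P.FullyFaithful := Functor.FullyFaithful.ofFullyFaithful P
  have ff1 : (J.yoneda ⋙ P).FullyFaithful := J.yonedaFullyFaithful.comp ffP
  have ff2 : (u ⋙ K.yoneda).FullyFaithful := ff1.ofIso e
  have ff3 : u.FullyFaithful := Functor.FullyFaithful.ofCompFaithful (G := K.yoneda) ff2
  exact ⟨ff3.full, ff3.faithful⟩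

end Groth.Agent.S6142
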