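import Groth.Statements.S6143
import Mathlib
import Groth.Agent.Helper3.DisjCov
import Groth.Agent.S6132

set_option autoImplicit false
open CategoryTheory CategoryTheory.Limits
universe u
open scoped TensorProduct
open SGA4

namespace Groth.Agent.S6143

/-- Let `C` be a small category, `X` an object and `s i : Y i ⟶ X` a family of morphisms all of whose
base changes exist. Then the associated sheaf of `h_X` for the canonical topology, with the maps
induced by the `s i`, is a coproduct of the associated sheaves of the `h_{Y i}` (in sheaves of sets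
for the canonical topology) if and only if `X` is a disjoint universal coproduct of the `Y i` in
`C`: the cofan `(X, s)` is a colimit, the injections of a coproduct of the family are monomorphisms
with pairwise pullbacks initial, and the colimit is stable under base change. (The source asks for
the coproduct decomposition after sheafification for some topology coarser than the canonical one;
this is equivalent to asking it for the canonical topology itself.) -/
theorem result
    {C : Type u} [SmallCategory C] {X : C} {ι : Type u} (Y : ι → C) (s : ∀ i, Y i ⟶ X)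
    [∀ (i : ι) (Z : C) (g : Z ⟶ X), HasPullback (s i) g] :
    Nonempty (IsColimit (Cofan.mk
        ((presheafToSheaf (Sheaf.canonicalTopology C) (Type u)).obj (yoneda.obj X))
        (fun i => (presheafToSheaf (Sheaf.canonicalTopology C) (Type u)).map (yoneda.map (s i))))) ↔
      (Nonempty (IsColimit (Cofan.mk X s)) ∧ CoproductDisjoint Y ∧
        IsUniversalColimit (Cofan.mk X s)) := by
  classical
  constructor
  · rintro ⟨hc⟩
    have hW := Groth.Agent.Helper3.DisjCov.W_sigmaDesc (Sheaf.canonicalTopology C) s hc
    have hcov := Groth.Agent.Helper3.DisjCov.cov_of_W hW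
    have hmono := Groth.Agent.Helper3.DisjCov.mono_of_W hW
    have hdisj : ∀ i j, i ≠ j → ∀ (T : C) (a : T ⟶ Y i) (b : T ⟶ Y j), a ≫ s i = b ≫ s j →
        (⊥ : Sieve T) ∈ Sheaf.canonicalTopology C T :=
      fun i j hij T a b hab => Groth.Agent.Helper3.DisjCov.bot_of_W hW hij a b hab
    obtain ⟨hcol⟩ := Groth.Agent.Helper3.DisjCov.isColimit_of_cover
      (J := Sheaf.canonicalTopology C) (Cofan.mk X s) hcov hmono hdisj
    refine ⟨⟨hcol⟩, ?_, ?_⟩
    · have : ∀ i, Mono ((Cofan.mk X s).inj i) := hmono
      refine CoproductDisjoint.of_cofan hcol (fun {i j} _ => pullback.cone (s i) (s j))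
        (fun {i j} _ => pullback.isLimit (s i) (s j)) (fun {i j} hij => ?_)
      exact (Groth.Agent.Helper3.DisjCov.isInitial_of_bot (J := Sheaf.canonicalTopology C)
        (hdisj i j hij _ (pullback.fst (s i) (s j)) (pullback.snd (s i) (s j))
          pullback.condition)).some
    · intro F' c' α f hcomm hα hpb
      refine Groth.Agent.Helper3.DisjCov.isColimit_of_cover
        (J := Sheaf.canonicalTopology C) c' ?_ ?_ ?_
      · rw [Sieve.ofArrows_eq_pullback_of_isPullback s (g := f)
          (p₂ := fun i => α.app ⟨i⟩) (fun i => hpb ⟨i⟩)]
        exact (Sheaf.canonicalTopology C).pullback_stable f hcov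
      · intro i
        exact (hpb ⟨i⟩).mono_fst_of_mono (hmono i)
      · intro i j hij T a b hab
        refine hdisj i j hij T (a ≫ α.app ⟨i⟩) (b ≫ α.app ⟨j⟩) ?_
        have h1 := (hpb ⟨i⟩).w
        have h2 := (hpb ⟨j⟩).w
        simp only [Cofan.mk_pt, Cofan.mk_ι_app] at h1 h2
        rw [Category.assoc, Category.assoc, ← h1, ← h2, ← Category.assoc, ← Category.assoc, hab]
  · rintro ⟨⟨hcol⟩, hD, hU⟩
    refine Groth.Agent.S6132.result (Sheaf.canonicalTopology C) Y s
      (Groth.Agent.Helper3.DisjCov.cov_canonical hU)
      (fun i => CoproductDisjoint.mono_inj hcol i) ?_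
    intro i j hij
    obtain ⟨hT⟩ := CoproductDisjoint.nonempty_isInitial_of_ne hcol hij
      (pullback.cone (s i) (s j)) (pullback.isLimit (s i) (s j))
    exact Groth.Agent.Helper3.DisjCov.bot_canonical hU hij hT
      (pullback.fst (s i) (s j)) (pullback.snd (s i) (s j)) pullback.condition

end Groth.Agent.S6143
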