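import Groth.Statements.S6167
import Groth.Agent.Helper1.FlatFP3

set_option autoImplicit false
universe u
open CategoryTheory
open ModSite

namespace Groth.Agent.S6167

/-- Ringed site (C, O), small, with commutative structure sheaf: a morphism from an O-module of finite
presentation (Mathlib's notion: over some family of objects covering every object, a cokernel of a
map of finite free modules) to a flat O-module factors, locally on the site, through a finite free
module: for every object X there is a covering family (Y_i -> X) and for each i a factorisation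
F|Y_i -> (O|Y_i)^n -> H|Y_i of the restricted morphism. -/
theorem result {C : Type u} [SmallCategory C] {J : GrothendieckTopology C}
    (O : Sheaf J CommRingCat.{u}) (F H : ModSite.Mod O) [F.IsFinitePresentation] (hH : ModSite.IsFlat H)
    (φ : F ⟶ H) (X : C) :
    ∃ (ι : Type u) (Y : ι → C) (g : ∀ i, Y i ⟶ X), Sieve.ofArrows Y g ∈ J X ∧
      ∀ i, ∃ (n : ℕ) (a : (ModSite.restr O (Y i)).obj F ⟶ SheafOfModules.free (ULift.{u} (Fin n)))
        (b : SheafOfModules.free (ULift.{u} (Fin n)) ⟶ (ModSite.restr O (Y i)).obj H),
        a ≫ b = (ModSite.restr O (Y i)).map φ := by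
  classical
  obtain ⟨σ, hσ⟩ := SheafOfModules.IsFinitePresentation.exists_quasicoherentData F
  -- local factorisations over each member of the cover
  have hloc : ∀ i : σ.I, ∃ S ∈ J (σ.X i), ∀ ⦃V : C⦄ (h' : V ⟶ σ.X i), S h' →
      ∃ (n : ℕ) (a : (ModSite.restr O V).obj F ⟶ SheafOfModules.free (ULift.{u} (Fin n)))
        (b : SheafOfModules.free (ULift.{u} (Fin n)) ⟶ (ModSite.restr O V).obj H),
        a ≫ b = (ModSite.restr O V).map φ := by
    intro i
    haveI : (σ.presentation i).IsFinite := hσ.isFinite_presentation i
    haveI : Finite (σ.presentation i).generators.I :=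
      SheafOfModules.GeneratingSections.IsFiniteType.finite
    haveI : Finite (σ.presentation i).relations.I :=
      SheafOfModules.GeneratingSections.IsFiniteType.finite
    exact Groth.Agent.Helper1.FlatEq.local_factor O F H φ hH (σ.presentation i)
  choose S hS hdata using hloc
  -- the covering sieve of `X`
  have hcov : Sieve.ofObjects σ.X X ∈ J X := σ.coversTop X
  have hex : ∀ ⦃W : C⦄ (f : W ⟶ X), (Sieve.ofObjects σ.X X) f → ∃ i, Nonempty (W ⟶ σ.X i) :=
    fun W f hf => hf
  choose i hi using hex
  let B : Sieve X := Sieve.bind (Sieve.ofObjects σ.X X)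
    (fun W f hf => (S (i f hf)).pullback (hi f hf).some)
  have hB : B ∈ J X := J.bind_covering hcov (fun W f hf => J.pullback_stable _ (hS _))
  refine ⟨Σ V : C, {g : V ⟶ X // B g}, fun x => x.1, fun x => x.2.1, ?_, ?_⟩
  · refine J.superset_covering ?_ hB
    intro V g hg
    exact Sieve.ofArrows_mk (fun x : Σ V : C, {g : V ⟶ X // B g} => x.1) (fun x => x.2.1)
      ⟨V, g, hg⟩
  · rintro ⟨V, g, hg⟩
    obtain ⟨W, k, f, hf, hk, rfl⟩ := hg
    exact hdata (i f hf) (k ≫ (hi f hf).some) hk

end Groth.Agent.S6167
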