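import Groth.Statements.S6172
import Mathlib

set_option autoImplicit false
universe u
open scoped TensorProduct
open CategoryTheory
open SGA4

namespace Groth.Agent.S6172

open CategoryTheory.Limits MonoidalCategory in
/-- Topos E of sheaves of sets on a small site, localised at an object Z: with j_Z : E/Z -> E the
localisation morphism, j_Z^* X = Z x X over Z, and j_{Z*} its right adjoint (taken as an instance
hypothesis, which holds in any topos), j_{Z*} j_Z^* Y is isomorphic to the internal hom Hom(Z, Y)
for every object Y. Existence of an isomorphism only (the source's is canonical). -/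
theorem result {C : Type u} [SmallCategory C] (J : GrothendieckTopology C)
    (Z Y : Sheaf J (Type u)) [(Over.star Z).IsLeftAdjoint] :
    Nonempty (((Over.star Z).rightAdjoint).obj ((Over.star Z).obj Y) ≅ (ihom Z).obj Y) := by
  classical
  let R := (Over.star Z).rightAdjoint
  let adj1 : Over.star Z ⊣ R := Adjunction.ofIsLeftAdjoint _
  let adj2 : Over.forget Z ⊣ Over.star Z := Over.forgetAdjStar Z
  let adj : Over.star Z ⋙ Over.forget Z ⊣ Over.star Z ⋙ R := adj1.comp adj2
  let i : ∀ W : Sheaf J (Type u), Z ⊗ W ≅ Z ⨯ W := fun W =>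
    Limits.IsLimit.conePointUniqueUpToIso
        (CartesianMonoidalCategory.tensorProductIsBinaryProduct Z W)
        (Limits.limit.isLimit (Limits.pair Z W))
  have h1 : ∀ W, (i W).hom ≫ Limits.prod.fst = CartesianMonoidalCategory.fst Z W := fun W =>
    Limits.IsLimit.conePointUniqueUpToIso_hom_comp _ _ (Discrete.mk Limits.WalkingPair.left)
  have h2 : ∀ W, (i W).hom ≫ Limits.prod.snd = CartesianMonoidalCategory.snd Z W := fun W =>
    Limits.IsLimit.conePointUniqueUpToIso_hom_comp _ _ (Discrete.mk Limits.WalkingPair.right)
  have key : ∀ (W W' : Sheaf J (Type u)) (f : W ⟶ W'),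
      (Z ◁ f) ≫ (i W').hom = (i W).hom ≫ Limits.prod.map (𝟙 Z) f := by
    intro W W' f
    apply Limits.prod.hom_ext
    · rw [Category.assoc, Category.assoc, h1, Limits.prod.map_fst, Category.comp_id, h1]
      exact CartesianMonoidalCategory.whiskerLeft_fst Z f
    · rw [Category.assoc, Category.assoc, h2, Limits.prod.map_snd, ← Category.assoc, h2]
      exact CartesianMonoidalCategory.whiskerLeft_snd Z f
  let e : MonoidalCategory.tensorLeft Z ≅ Over.star Z ⋙ Over.forget Z :=
    NatIso.ofComponents i
      (by
        intro W W' f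
        have hm : (Over.star Z ⋙ Over.forget Z).map f = Limits.prod.map (𝟙 Z) f := by
          simp
        rw [hm]
        exact key W W' f)
  let adj' : MonoidalCategory.tensorLeft Z ⊣ Over.star Z ⋙ R := adj.ofNatIsoLeft e.symm
  exact ⟨(adj'.rightAdjointUniq (ihom.adjunction Z)).app Y⟩

end Groth.Agent.S6172
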