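import Groth.Statements.S6173
import Mathlib

set_option autoImplicit false
universe u
open scoped TensorProduct
open CategoryTheory
open SGA4

namespace Groth.Agent.S6173

/-- Second assertion (topos of sheaves on a small site (C, J); E/X_i the induced topoi, modelled by the
sites (C/X_i, J/X_i); 'enough points' = a small conservative family of points, equivalently all
fibre functors together are conservative): if (X_i) is a family of objects covering the final object
and every E/X_i has enough points, then E has enough points. (The first assertion, that E/X inherits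
enough points from E, is Mathlib's instance.) -/
theorem result {C : Type u} [SmallCategory C] (J : GrothendieckTopology C) {ι : Type u}
    (X : ι → C) (hX : J.CoversTop X) (h : ∀ i, GrothendieckTopology.HasEnoughPoints.{u} (J.over (X i))) :
    GrothendieckTopology.HasEnoughPoints.{u} J := by
  classical
  choose P hPs hPc using fun i => (h i).exists_objectProperty
  let Q : ObjectProperty (GrothendieckTopology.Point.{u} J) :=
    ObjectProperty.ofObj (fun (ψ : Σ (i : ι), (P i).FullSubcategory) =>
      ψ.2.obj.map (Over.forget (X ψ.1)) J)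
  refine ⟨Q, inferInstance, ?_⟩
  refine ObjectProperty.IsConservativeFamilyOfPoints.mk' (fun Y S hS => ?_)
  refine J.transitive (hX Y) S ?_
  rintro W f ⟨i, ⟨p⟩⟩
  have key : (Sieve.overEquiv (Over.mk p)).symm (S.pullback f) ∈ (J.over (X i)) (Over.mk p) := by
    obtain ⟨κ, Z, g, hg⟩ := ((Sieve.overEquiv (Over.mk p)).symm (S.pullback f)).exists_eq_ofArrows
    rw [hg, (hPc i).jointly_reflect_ofArrows_mem_of_small]
    intro Φ x
    have hΨ : Q (Φ.obj.map (Over.forget (X i)) J) :=
      ObjectProperty.ofObj_apply (fun (ψ : Σ (i : ι), (P i).FullSubcategory) =>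
        ψ.2.obj.map (Over.forget (X ψ.1)) J) ⟨i, Φ⟩
    let U0 : Φ.obj.fiber.Elements := ⟨Over.mk p, x⟩
    let pp := CategoryOfElements.π Φ.obj.fiber ⋙ Over.forget (X i)
    obtain ⟨Z', g', hg', y, hy⟩ := hS ⟨_, hΨ⟩
      (GrothendieckTopology.Point.ofIsCofiltered.fiberMk (p := pp) (U := U0) f)
    obtain ⟨V, b, rfl⟩ := GrothendieckTopology.Point.ofIsCofiltered.fiberMk_jointly_surjective y
    have hy' : GrothendieckTopology.Point.ofIsCofiltered.fiberMk (p := pp) (b ≫ g') =
        GrothendieckTopology.Point.ofIsCofiltered.fiberMk (p := pp) (U := U0) f := by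
      rw [← hy]
      exact (GrothendieckTopology.Point.ofIsCofiltered.fiber_map_fiberMk pp b g').symm
    let M := IsCofiltered.min V U0
    let l : M ⟶ V := IsCofiltered.minToLeft V U0
    let r : M ⟶ U0 := IsCofiltered.minToRight V U0
    have h3 : GrothendieckTopology.Point.ofIsCofiltered.fiberMk (p := pp) (pp.map l ≫ b ≫ g') =
        GrothendieckTopology.Point.ofIsCofiltered.fiberMk (p := pp) (pp.map r ≫ f) := by
      rw [GrothendieckTopology.Point.ofIsCofiltered.fiberMk_map_comp,
        GrothendieckTopology.Point.ofIsCofiltered.fiberMk_map_comp]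
      exact hy'
    obtain ⟨V', t, ht⟩ := GrothendieckTopology.Point.ofIsCofiltered.exists_of_fiberMk_eq_fiberMk h3
    have hq : ((Sieve.overEquiv (Over.mk p)).symm (S.pullback f)) (t ≫ r).1 := by
      rw [Sieve.overEquiv_symm_iff]
      change S.arrows (pp.map (t ≫ r) ≫ f)
      rw [Functor.map_comp, Category.assoc, ← ht, ← Category.assoc, ← Category.assoc]
      exact S.downward_closed hg' _
    rw [hg] at hq
    obtain ⟨T, a, _, ⟨k⟩, hk⟩ := hq
    refine ⟨k, Φ.obj.fiber.map a V'.2, ?_⟩
    have h5 := (t ≫ r).2
    rw [← hk, Functor.map_comp] at h5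
    exact h5
  rw [GrothendieckTopology.mem_over_iff, OrderIso.apply_symm_apply] at key
  exact key

end Groth.Agent.S6173
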