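import Groth.Statements.S6182
import Mathlib
import Groth.Agent.Helper2.TF21
import Groth.Agent.S3056
import Groth.Agent.S3069
import Groth.Agent.S5590
open Groth.Agent.Helper2 Groth.Agent.Helper2.TF1 Groth.Agent.Helper2.TF18 Groth.Agent.Helper2.TF19 Groth.Agent.Helper2.TF12 Groth.Agent.Helper2.TF10 Groth.Agent.Helper2.TF20 Groth.Agent.Helper2.TF21
-- import your own Groth.Agent.* helpers here

set_option autoImplicit false
open CategoryTheory CategoryTheory.Limits Opposite
universe u
open ToposFin

namespace Groth.Agent.S6182

/-- Let (C, J) and (D, K) be small sites with fibre products in which every object is quasi-compact, and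
G : C -> D a continuous functor whose inverse-image functor on sheaves of sets f^* (the sheaf
pullback along G, from sheaves on C to sheaves on D) preserves finite limits, so that G is a
morphism of sites and f a morphism of topoi. Then f is coherent: f^* sends quasi-compact objects to
quasi-compact objects and quasi-separated objects to quasi-separated objects. -/
theorem result {C D : Type u} [SmallCategory C] [SmallCategory D]
    [HasPullbacks C] [HasPullbacks D] (J : GrothendieckTopology C) (K : GrothendieckTopology D)
    (hC : ∀ X : C, ToposFin.IsQCSite J X) (hD : ∀ Y : D, ToposFin.IsQCSite K Y)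
    (G : C ⥤ D) [Functor.IsContinuous G J K] [PreservesFiniteLimits (G.sheafPullback (Type u) J K)] :
    (∀ X : ToposFin.Sh J, ToposFin.IsQC X → ToposFin.IsQC ((G.sheafPullback (Type u) J K).obj X)) ∧
      (∀ X : ToposFin.Sh J, ToposFin.IsQS X → ToposFin.IsQS ((G.sheafPullback (Type u) J K).obj X)) := by
  have hE' : ToposFin.HasQCGenerators K := hasQCGen_of_site hD
  let S : Set (ToposFin.Sh J) := Set.range (fun X : C => ToposFin.eps J X)
  have hS : ∀ X ∈ S, ToposFin.IsCoherent X := by
    rintro _ ⟨X, rfl⟩
    exact Groth.Agent.S3069.result J hC X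
  have hgen : ToposFin.IsGenerating S := by
    intro F
    exact ⟨Σ V : C, F.obj.obj (op V), fun i => ToposFin.eps J i.1, fun i => secMap i.2,
      fun i => ⟨i.1, rfl⟩, ljs_iff_je.1 (ljs_secMap F)⟩
  refine (Groth.Agent.S5590.result (G.sheafPullback (Type u) J K)
    (G.sheafPushforwardContinuous (Type u) J K) (G.sheafAdjunctionContinuous (Type u) J K)
    hE' S hS hgen).2 ?_
  rintro _ ⟨X, rfl⟩
  have hcoh := Groth.Agent.S3069.result K hD (G.obj X)
  have e := pullbackEpsIso J K G X
  exact ⟨ToposQC.isQC_of_iso e hcoh.1, isQS_of_isQSHom e.hom (isQSHom_of_mono _) hcoh.2⟩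

end Groth.Agent.S6182
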