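import Groth.Statements.S6218
import Mathlib
import Groth.Agent.Helper9.Chart9
import Groth.Agent.Helper9.ClImm2
import Groth.Agent.Helper9.PA2
-- import your own Groth.Agent.* helpers here

set_option autoImplicit false
universe u
open CategoryTheory CategoryTheory.Limits AlgebraicGeometry
attribute [local instance] HasDerivedCategory.standard
open KSix

namespace Groth.Agent.S6218

/-- Let i : X ⟶ Y be a closed immersion, g : Y ⟶ S smooth, a and b integers, and F a cochain complex of
O_X-modules such that the termwise direct image i_* F has perfect amplitude in [a, b] on Y in the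
absolute sense (locally isomorphic in D to a complex of finite locally free modules placed in [a,
b]). Then F has perfect amplitude in [a, b] relative to i ≫ g (pseudo-coherent relative to it in
chart form, with stalkwise tor amplitude in [a, b] over the local rings of S). -/
theorem result {X Y S : Scheme.{u}} (i : X ⟶ Y) [IsClosedImmersion i]
    (g : Y ⟶ S) [Smooth g] (a b : ℤ) (F : CochainComplex X.Modules ℤ)
    (hF : KSix.HasPerfectAmplitudeIn a b (DCoh.toD Y (((Scheme.Modules.pushforward i).mapHomologicalComplex (ComplexShape.up ℤ)).obj F))) :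
    DerSch.HasPerfAmplitudeRel (i ≫ g) a b F := by
  have hpc : ∀ m : ℤ, DCoh.IsPseudoCoherentD m (DCoh.toD Y
      (((Scheme.Modules.pushforward i).mapHomologicalComplex (ComplexShape.up ℤ)).obj F)) := by
    intro m x
    obtain ⟨V, hxV, hV⟩ := hF x
    refine ⟨V, hxV, fun F' hF' => ?_⟩
    obtain ⟨P, hv, hP, ⟨ψ⟩⟩ := hV F' hF'
    exact ⟨P, ψ.inv, ⟨⟨a, b, hv⟩, hP⟩, fun i _ => inferInstance, inferInstance⟩
  have hfl : DCoh.HasFlatAmplitudeIn a b (DCoh.toD Y
      (((Scheme.Modules.pushforward i).mapHomologicalComplex (ComplexShape.up ℤ)).obj F)) := by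
    refine Groth.Agent.Helper9.PA1.hasFlatAmplitudeIn_of_local _ a b (fun x => ?_)
    obtain ⟨V, hxV, hV⟩ := hF x
    obtain ⟨P, hv, hP, ⟨ψ⟩⟩ := hV _ ⟨Iso.refl _⟩
    exact ⟨V, V.ι, inferInstance, ⟨⟨x, hxV⟩, rfl⟩, P, hv,
      fun i => Groth.Agent.Lead.FlatLib.isFlat_of_isFinLocFree (hP i), ⟨ψ.symm⟩⟩
  exact ⟨fun m => (Groth.Agent.Helper9.Chart9.rel_comp_iff i g m F).2 (hpc m),
    Groth.Agent.Helper9.ClImm2.hasTorAmplitude_of_pushforward i g F a b hfl⟩

end Groth.Agent.S6218
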