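import Groth.Statements.S6239
import Mathlib
-- import your own Groth.Agent.* helpers here

set_option autoImplicit false
universe u
open CategoryTheory CategoryTheory.Limits AlgebraicGeometry
attribute [local instance] HasDerivedCategory.standard
open KSix

namespace Groth.Agent.S6239

/-- Let f : X ⟶ Y be a morphism with X quasi-compact and F a cochain complex of O_X-modules which is
perfect relative to f (pseudo-coherent relative to f in chart form, and locally on X of finite
stalkwise tor amplitude over the local rings of Y). Then F has finite perfect amplitude relative to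
f: one interval [a, b] works at every point of X. -/
theorem result {X Y : Scheme.{u}} [CompactSpace X] (f : X ⟶ Y)
    (F : CochainComplex X.Modules ℤ) (hF : DerSch.IsPerfectRel f F) :
    DerSch.HasFinitePerfAmplitudeRel f F := by
  obtain ⟨hpc, hloc⟩ := hF
  have hmono : ∀ (x : X) (a b a' b' : ℤ), a' ≤ a → b ≤ b' →
      DerSch.HasTorAmplitudeAt f a b F x → DerSch.HasTorAmplitudeAt f a' b' F x := by
    rintro x a b a' b' ha hb ⟨E, hE, hfl, he⟩
    exact ⟨E, fun i hi => hE i (by omega), hfl, he⟩
  choose V a b hxV hV using hloc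
  obtain ⟨t, ht⟩ := CompactSpace.elim_nhds_subcover (fun x : X => ((V x : X.Opens) : Set X))
    (fun x => (V x).isOpen.mem_nhds (hxV x))
  obtain ⟨b₀, hb₀⟩ := Finset.exists_le (t.image b)
  obtain ⟨a₀, ha₀⟩ := Finset.exists_le (α := ℤᵒᵈ) (t.image (fun x => OrderDual.toDual (a x)))
  refine ⟨OrderDual.ofDual a₀, b₀, hpc, fun x => ?_⟩
  have hx : x ∈ ⋃ y ∈ t, ((V y : X.Opens) : Set X) := by rw [ht]; trivial
  simp only [Set.mem_iUnion] at hx
  obtain ⟨y, hyt, hxy⟩ := hx
  exact hmono x (a y) (b y) _ _
    (ha₀ _ (Finset.mem_image_of_mem (fun x => OrderDual.toDual (a x)) hyt))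
    (hb₀ _ (Finset.mem_image_of_mem b hyt)) (hV y x hxy)

end Groth.Agent.S6239
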