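import Groth.Statements.S6261
import Mathlib
import Groth.Agent.Helper9.TIPC3
import Groth.Agent.Helper9.BCT8
import Groth.Agent.Helper9.BCT9
import Groth.Agent.Helper9.RelTen1
import Groth.Agent.Helper9.ClImm4
-- import your own Groth.Agent.* helpers here

set_option autoImplicit false
universe u
open CategoryTheory CategoryTheory.Limits AlgebraicGeometry
attribute [local instance] HasDerivedCategory.standard
open KSix

namespace Groth.Agent.S6261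

/-- Flat first factor: let S be a scheme and, for i = 1, 2, f_i : X_i ⟶ Y_i a morphism of S-schemes
(structure morphisms q_i : Y_i ⟶ S), with X₁ and Y₁ flat over S; let X = X₁ ×_S X₂ and Y = Y₁ ×_S Y₂
be given by pullback squares, with projections p₁ : X ⟶ X₁, p₂ : X ⟶ X₂, and f : X ⟶ Y the morphism
compatible with the projections; assume f₁ and f₂ locally of finite type. Let E₁ be a cochain
complex of O_{X₁}-modules with perfect amplitude in [a₁, b₁] relative to f₁ (pseudo-coherent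
relative to f₁ in chart form and of stalkwise tor amplitude in [a₁, b₁] over the local rings of Y₁),
and E₂ ∈ D(O_{X₂}), given by a cochain complex, pseudo-coherent relative to f₂ and acyclic outside
[a₂, b₂]. The external derived tensor product E₁ ⊗^L_S E₂ = Lp₁^* E₁ ⊗^L Lp₂^* E₂ is written, the
derived pullbacks being assumed to exist, as Lp₁^* E₁ ⊗^L K₂ for any cochain complex K₂ representing
Lp₂^* E₂ for which the derived tensor product exists. Then E₁ ⊗^L_S E₂ is pseudo-coherent relative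
to f and acyclic outside [a₁ + a₂, b₁ + b₂]. (The published statement assumes only that X₁, X₂ and
Y₁, Y₂ are tor-independent over S; as for the acyclicity statement it rests on, that is not enough
for the lower bound: over the spectrum S of a discrete valuation ring with closed point s, X₁ = Y₁ =
s with E₁ the structure sheaf and X₂ = Y₂ = S with E₂ the residue field at s in degree 0 satisfy
every hypothesis with [a_i, b_i] = [0, 0], yet the external product has nonzero cohomology in degree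
-1. This row takes X₁ and Y₁ flat over S.) -/
theorem result {S X₁ Y₁ X₂ Y₂ X Y : Scheme.{u}} (f₁ : X₁ ⟶ Y₁) (q₁ : Y₁ ⟶ S)
    (f₂ : X₂ ⟶ Y₂) (q₂ : Y₂ ⟶ S) [Flat q₁] [Flat (f₁ ≫ q₁)]
    (pX₁ : X ⟶ X₁) (pX₂ : X ⟶ X₂) (hX : IsPullback pX₁ pX₂ (f₁ ≫ q₁) (f₂ ≫ q₂))
    (pY₁ : Y ⟶ Y₁) (pY₂ : Y ⟶ Y₂) (hY : IsPullback pY₁ pY₂ q₁ q₂)
    (f : X ⟶ Y) (hf₁ : f ≫ pY₁ = pX₁ ≫ f₁) (hf₂ : f ≫ pY₂ = pX₂ ≫ f₂)
    [LocallyOfFiniteType f₁] [LocallyOfFiniteType f₂]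
    (E₁ : CochainComplex X₁.Modules ℤ) (a₁ b₁ : ℤ) (h₁ : DerSch.HasPerfAmplitudeRel f₁ a₁ b₁ E₁)
    (E₂ : CochainComplex X₂.Modules ℤ) (a₂ b₂ : ℤ) (h₂ : DerSch.IsPseudoCoherentRelAll f₂ (DCoh.toD X₂ E₂))
    [(DCoh.toD X₂ E₂).IsGE a₂] [(DCoh.toD X₂ E₂).IsLE b₂] [DCoh.HasLpull pX₁] [DCoh.HasLpull pX₂] :
    ∀ (K₂ : CochainComplex X.Modules ℤ) [DCoh.HasLTensorCx K₂],
      Nonempty (DCoh.toD X K₂ ≅ (DCoh.Lpull pX₂).obj (DCoh.toD X₂ E₂)) →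
        DerSch.IsPseudoCoherentRelAll f ((DCoh.LTensorCx K₂).obj ((DCoh.Lpull pX₁).obj (DCoh.toD X₁ E₁))) ∧
          (((DCoh.LTensorCx K₂).obj ((DCoh.Lpull pX₁).obj (DCoh.toD X₁ E₁)))).IsGE (a₁ + a₂) ∧ (((DCoh.LTensorCx K₂).obj ((DCoh.Lpull pX₁).obj (DCoh.toD X₁ E₁)))).IsLE (b₁ + b₂) := by
  intro K₂ _ hK₂iso
  obtain ⟨eK⟩ := hK₂iso
  haveI : DCoh.HasLpull (pullback.fst f₁ pY₁) := Groth.Agent.Helper9.Lpull1.hasLpull _
  haveI : DCoh.HasLpull (Groth.Agent.Helper9.BCT8.u f₁ pX₁ pY₁ f hf₁) :=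
    Groth.Agent.Helper9.Lpull1.hasLpull _
  haveI : DCoh.HasLpull (Groth.Agent.Helper9.BCT8.u f₁ pX₁ pY₁ f hf₁ ≫ pullback.fst f₁ pY₁) :=
    Groth.Agent.Helper9.Lpull1.hasLpull _
  refine ⟨?_, Groth.Agent.Helper9.BCT9.main f₁ q₁ (f₂ ≫ q₂) pX₁ pX₂ hX E₁ a₁ b₁ h₁.2
    (DCoh.toD X₂ E₂) a₂ b₂ K₂ eK⟩
  have hqE₁ : DCoh.IsQCohD (DCoh.toD X₁ E₁) :=
    Groth.Agent.Helper9.ClImm4.isQCohD_of_isPseudoCoherentRelAll f₁ _ h₁.1
  have hqE₂ : DCoh.IsQCohD (DCoh.toD X₂ E₂) :=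
    Groth.Agent.Helper9.ClImm4.isQCohD_of_isPseudoCoherentRelAll f₂ _ h₂
  have sqU := Groth.Agent.Helper9.BCT8.sqU f₁ q₁ f₂ q₂ pX₁ pX₂ hX pY₁ pY₂ hY f hf₁ hf₂
  have sqY' := Groth.Agent.Helper9.BCT8.sqY' f₁ q₁ q₂ pY₁ pY₂ hY
  haveI : Flat (pullback.snd f₁ pY₁ ≫ pY₂) :=
    MorphismProperty.of_isPullback (P := @Flat) sqY'.flip inferInstance
  have hu0 : ∀ n : ℤ, DerSch.IsPseudoCoherentRel (Groth.Agent.Helper9.BCT8.u f₁ pX₁ pY₁ f hf₁) n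
      ((DCoh.Lpull pX₂).obj (DCoh.toD X₂ E₂)) := fun n =>
    Groth.Agent.Helper9.TIPC3.flat_of_isPullback sqU n _ hqE₂ (h₂ n)
  haveI : LocallyOfFiniteType (Groth.Agent.Helper9.BCT8.u f₁ pX₁ pY₁ f hf₁) := (hu0 0).1
  have hK₂ : DerSch.IsPseudoCoherentRelAll (Groth.Agent.Helper9.BCT8.u f₁ pX₁ pY₁ f hf₁)
      (DCoh.toD X K₂) := fun n =>
    Groth.Agent.Helper9.Chart12.rel_of_iso _ eK.symm n (hu0 n)
  have hG : DerSch.IsPseudoCoherentRelAll (pullback.snd f₁ pY₁)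
      ((DCoh.Lpull (pullback.fst f₁ pY₁)).obj (DCoh.toD X₁ E₁)) := fun n =>
    Groth.Agent.Helper9.TIPC3.torind_of_isPullback q₁ q₂ pY₂ hY
      (IsPullback.of_hasPullback f₁ pY₁) n _ hqE₁ (h₁.1 n)
  have h3 := Groth.Agent.Helper9.RelTen1.rel_ltensor_lpull
    (Groth.Agent.Helper9.BCT8.u f₁ pX₁ pY₁ f hf₁) (pullback.snd f₁ pY₁) K₂ hK₂ _ hG
  have huv : Groth.Agent.Helper9.BCT8.u f₁ pX₁ pY₁ f hf₁ ≫ pullback.snd f₁ pY₁ = f :=
    pullback.lift_snd _ _ _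
  have huw : Groth.Agent.Helper9.BCT8.u f₁ pX₁ pY₁ f hf₁ ≫ pullback.fst f₁ pY₁ = pX₁ :=
    pullback.lift_fst _ _ _
  rw [huv] at h3
  obtain ⟨e3⟩ := Groth.Agent.Helper9.QcLpull1.lpullCongr huw (DCoh.toD X₁ E₁)
  have i1 : (DCoh.Lpull (Groth.Agent.Helper9.BCT8.u f₁ pX₁ pY₁ f hf₁)).obj
      ((DCoh.Lpull (pullback.fst f₁ pY₁)).obj (DCoh.toD X₁ E₁)) ≅
      (DCoh.Lpull pX₁).obj (DCoh.toD X₁ E₁) :=
    (Groth.Agent.Helper9.Lpull3.lpullComp (Groth.Agent.Helper9.BCT8.u f₁ pX₁ pY₁ f hf₁)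
      (pullback.fst f₁ pY₁)).app (DCoh.toD X₁ E₁) ≪≫ e3
  intro m
  haveI : LocallyOfFiniteType f := (h3 m).1
  exact Groth.Agent.Helper9.Chart12.rel_of_iso f ((DCoh.LTensorCx K₂).mapIso i1) m (h3 m)

end Groth.Agent.S6261
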