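import Groth.Statements.S6262
import Mathlib
import Groth.Agent.Helper9.TIPC3
import Groth.Agent.Helper9.BCT8
import Groth.Agent.Helper9.RelTen1
import Groth.Agent.Helper9.ClImm4
-- import your own Groth.Agent.* helpers here

set_option autoImplicit false
universe u
open CategoryTheory CategoryTheory.Limits AlgebraicGeometry
attribute [local instance] HasDerivedCategory.standard
open KSix

namespace Groth.Agent.S6262

/-- Flat second factor: let S be a scheme and, for i = 1, 2, f_i : X_i ⟶ Y_i a morphism of S-schemes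
(structure morphisms q_i : Y_i ⟶ S), with X₂ and Y₂ flat over S; let X = X₁ ×_S X₂ and Y = Y₁ ×_S Y₂
be given by pullback squares, with projections p₁ : X ⟶ X₁, p₂ : X ⟶ X₂, and f : X ⟶ Y the morphism
compatible with the projections; assume f₁ and f₂ locally of finite type. Let E_i be a cochain
complex of O_{X_i}-modules with perfect amplitude in [a_i, b_i] relative to f_i (pseudo-coherent
relative to f_i in chart form and of stalkwise tor amplitude in [a_i, b_i] over the local rings of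
Y_i). The external derived tensor product E₁ ⊗^L_S E₂ = Lp₁^* E₁ ⊗^L Lp₂^* E₂ is written, the
derived pullbacks being assumed to exist, as Lp₁^* E₁ ⊗^L K₂ for any cochain complex K₂ representing
Lp₂^* E₂ for which the derived tensor product exists. Then E₁ ⊗^L_S E₂ has perfect amplitude in [a₁
+ a₂, b₁ + b₂] relative to f: every cochain complex representing it does; in particular f-perfect
when E₁, E₂ are f₁-, f₂-perfect. (The published statement assumes only that X₁, X₂ and Y₁, Y₂ are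
tor-independent over S; this row takes X₂ and Y₂ flat over S, which implies both conditions.) -/
theorem result {S X₁ Y₁ X₂ Y₂ X Y : Scheme.{u}} (f₁ : X₁ ⟶ Y₁) (q₁ : Y₁ ⟶ S)
    (f₂ : X₂ ⟶ Y₂) (q₂ : Y₂ ⟶ S) [Flat q₂] [Flat (f₂ ≫ q₂)]
    (pX₁ : X ⟶ X₁) (pX₂ : X ⟶ X₂) (hX : IsPullback pX₁ pX₂ (f₁ ≫ q₁) (f₂ ≫ q₂))
    (pY₁ : Y ⟶ Y₁) (pY₂ : Y ⟶ Y₂) (hY : IsPullback pY₁ pY₂ q₁ q₂)
    (f : X ⟶ Y) (hf₁ : f ≫ pY₁ = pX₁ ≫ f₁) (hf₂ : f ≫ pY₂ = pX₂ ≫ f₂)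
    [LocallyOfFiniteType f₁] [LocallyOfFiniteType f₂]
    (E₁ : CochainComplex X₁.Modules ℤ) (a₁ b₁ : ℤ) (h₁ : DerSch.HasPerfAmplitudeRel f₁ a₁ b₁ E₁)
    (E₂ : CochainComplex X₂.Modules ℤ) (a₂ b₂ : ℤ) (h₂ : DerSch.HasPerfAmplitudeRel f₂ a₂ b₂ E₂)
    [DCoh.HasLpull pX₁] [DCoh.HasLpull pX₂] :
    ∀ (K₂ : CochainComplex X.Modules ℤ) [DCoh.HasLTensorCx K₂],
      Nonempty (DCoh.toD X K₂ ≅ (DCoh.Lpull pX₂).obj (DCoh.toD X₂ E₂)) →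
        ∀ K : CochainComplex X.Modules ℤ, Nonempty (DCoh.toD X K ≅ ((DCoh.LTensorCx K₂).obj ((DCoh.Lpull pX₁).obj (DCoh.toD X₁ E₁)))) →
          DerSch.HasPerfAmplitudeRel f (a₁ + a₂) (b₁ + b₂) K := by
  intro K₂ _ hK₂iso K hKiso
  obtain ⟨eK⟩ := hK₂iso
  obtain ⟨eKK⟩ := hKiso
  haveI : Flat pY₁ := Groth.Agent.Helper9.BCT8.flat_pY₁ q₁ q₂ pY₁ pY₂ hY
  haveI : DCoh.HasLpull (pullback.fst f₁ pY₁) := Groth.Agent.Helper9.Lpull1.hasLpull _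
  haveI : DCoh.HasLpull (Groth.Agent.Helper9.BCT8.u f₁ pX₁ pY₁ f hf₁) :=
    Groth.Agent.Helper9.Lpull1.hasLpull _
  haveI : DCoh.HasLpull (Groth.Agent.Helper9.BCT8.u f₁ pX₁ pY₁ f hf₁ ≫ pullback.fst f₁ pY₁) :=
    Groth.Agent.Helper9.Lpull1.hasLpull _
  refine ⟨?_, Groth.Agent.Helper9.BCT8.hasTorAmplitudeD_externalTensor f₁ q₁ f₂ q₂ pX₁ pX₂ hX
    pY₁ pY₂ hY f hf₁ hf₂ E₁ a₁ b₁ h₁.2 E₂ a₂ b₂ h₂.2 K₂ eK K ⟨eKK⟩⟩
  have hqE₁ : DCoh.IsQCohD (DCoh.toD X₁ E₁) :=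
    Groth.Agent.Helper9.ClImm4.isQCohD_of_isPseudoCoherentRelAll f₁ _ h₁.1
  have hqE₂ : DCoh.IsQCohD (DCoh.toD X₂ E₂) :=
    Groth.Agent.Helper9.ClImm4.isQCohD_of_isPseudoCoherentRelAll f₂ _ h₂.1
  have sqU := Groth.Agent.Helper9.BCT8.sqU f₁ q₁ f₂ q₂ pX₁ pX₂ hX pY₁ pY₂ hY f hf₁ hf₂
  have hu0 : ∀ n : ℤ, DerSch.IsPseudoCoherentRel (Groth.Agent.Helper9.BCT8.u f₁ pX₁ pY₁ f hf₁) n
      ((DCoh.Lpull pX₂).obj (DCoh.toD X₂ E₂)) := fun n =>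
    Groth.Agent.Helper9.TIPC3.torind_of_isPullback q₂ (f₁ ≫ q₁) (pullback.fst f₁ pY₁)
      (Groth.Agent.Helper9.BCT8.sqY' f₁ q₁ q₂ pY₁ pY₂ hY) sqU n _ hqE₂ (h₂.1 n)
  haveI : LocallyOfFiniteType (Groth.Agent.Helper9.BCT8.u f₁ pX₁ pY₁ f hf₁) := (hu0 0).1
  have hK₂ : DerSch.IsPseudoCoherentRelAll (Groth.Agent.Helper9.BCT8.u f₁ pX₁ pY₁ f hf₁)
      (DCoh.toD X K₂) := fun n =>
    Groth.Agent.Helper9.Chart12.rel_of_iso _ eK.symm n (hu0 n)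
  have hG : DerSch.IsPseudoCoherentRelAll (pullback.snd f₁ pY₁)
      ((DCoh.Lpull (pullback.fst f₁ pY₁)).obj (DCoh.toD X₁ E₁)) := fun n =>
    Groth.Agent.Helper9.FBC6.rel_baseChange f₁ pY₁ n _ hqE₁ (h₁.1 n)
  have h3 := Groth.Agent.Helper9.RelTen1.rel_ltensor_lpull
    (Groth.Agent.Helper9.BCT8.u f₁ pX₁ pY₁ f hf₁) (pullback.snd f₁ pY₁) K₂ hK₂ _ hG
  have huv : Groth.Agent.Helper9.BCT8.u f₁ pX₁ pY₁ f hf₁ ≫ pullback.snd f₁ pY₁ = f :=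
    pullback.lift_snd _ _ _
  have huw : Groth.Agent.Helper9.BCT8.u f₁ pX₁ pY₁ f hf₁ ≫ pullback.fst f₁ pY₁ = pX₁ :=
    pullback.lift_fst _ _ _
  rw [huv] at h3
  obtain ⟨e3⟩ := Groth.Agent.Helper9.QcLpull1.lpullCongr huw (DCoh.toD X₁ E₁)
  have i1 : (DCoh.Lpull (Groth.Agent.Helper9.BCT8.u f₁ pX₁ pY₁ f hf₁)).obj
      ((DCoh.Lpull (pullback.fst f₁ pY₁)).obj (DCoh.toD X₁ E₁)) ≅
      (DCoh.Lpull pX₁).obj (DCoh.toD X₁ E₁) :=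
    (Groth.Agent.Helper9.Lpull3.lpullComp (Groth.Agent.Helper9.BCT8.u f₁ pX₁ pY₁ f hf₁)
      (pullback.fst f₁ pY₁)).app (DCoh.toD X₁ E₁) ≪≫ e3
  intro m
  haveI : LocallyOfFiniteType f := (h3 m).1
  exact Groth.Agent.Helper9.Chart12.rel_of_iso f ((DCoh.LTensorCx K₂).mapIso i1 ≪≫ eKK.symm) m
    (h3 m)

end Groth.Agent.S6262
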