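import Groth.Statements.S6265
import Mathlib

set_option autoImplicit false
universe u
open CAlg

namespace Groth.Agent.S6265

/-- Let R → S be a ring map with the going-down property such that over every prime of R lies at most
one prime of S, and let p be a prime of R and q a prime of S above it. Then the localization S_p of
S at the image of R - p is a localization of S at q, i.e. S_p = S_q. -/
theorem result {R S : Type u} [CommRing R] [CommRing S] [Algebra R S] [Algebra.HasGoingDown R S] (hinj : ∀ q₁ q₂ : Ideal S, q₁.IsPrime → q₂.IsPrime → q₁.under R = q₂.under R → q₁ = q₂) (p : Ideal R) [p.IsPrime] (q : Ideal S) [q.IsPrime] [q.LiesOver p] : IsLocalization.AtPrime (Localization (Algebra.algebraMapSubmonoid S p.primeCompl)) q := by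
  have hle : Algebra.algebraMapSubmonoid S p.primeCompl ≤ q.primeCompl := by
    rintro _ ⟨r, hr, rfl⟩ hq
    apply hr
    have h2 : r ∈ q.under R := hq
    rwa [← Ideal.over_def q p] at h2
  refine IsLocalization.of_le (M := Algebra.algebraMapSubmonoid S p.primeCompl)
    (S := Localization (Algebra.algebraMapSubmonoid S p.primeCompl)) q.primeCompl hle ?_
  intro s hs
  by_contra hu
  obtain ⟨m, hm, hsm⟩ := exists_max_ideal_of_mem_nonunits hu
  have hmp : m.IsPrime := hm.isPrime
  have hq'prime : (m.comap (algebraMap S (Localization (Algebra.algebraMapSubmonoid S p.primeCompl)))).IsPrime :=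
    Ideal.comap_isPrime _ _
  have hdisj : Disjoint ((Algebra.algebraMapSubmonoid S p.primeCompl : Submonoid S) : Set S)
      (m.comap (algebraMap S (Localization (Algebra.algebraMapSubmonoid S p.primeCompl)))) := by
    rw [Set.disjoint_left]
    intro x hxM hxm
    have hunit := IsLocalization.map_units (Localization (Algebra.algebraMapSubmonoid S p.primeCompl)) ⟨x, hxM⟩
    exact hmp.ne_top (Ideal.eq_top_of_isUnit_mem _ hxm hunit)
  have hq'p : (m.comap (algebraMap S (Localization (Algebra.algebraMapSubmonoid S p.primeCompl)))).under R ≤ p := by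
    intro r hr
    by_contra hrp
    exact Set.disjoint_left.mp hdisj ⟨r, hrp, rfl⟩ hr
  haveI hup : ((m.comap (algebraMap S (Localization (Algebra.algebraMapSubmonoid S p.primeCompl)))).under R).IsPrime :=
    Ideal.comap_isPrime _ _
  obtain ⟨P, hPq, hPp, hPl⟩ := Ideal.exists_ideal_le_liesOver_of_le
    (p := (m.comap (algebraMap S (Localization (Algebra.algebraMapSubmonoid S p.primeCompl)))).under R)
    (q := p) q hq'p
  have hPq' := hinj P _ hPp hq'prime (hPl.over.symm)
  exact hs (hPq (hPq' ▸ hsm))

end Groth.Agent.S6265
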