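import Groth.Statements.S6267
import Groth.Agent.Helper3.UnivInj

set_option autoImplicit false
universe u
open CAlg

namespace Groth.Agent.S6267

/-- Let R be a ring and f : M → M' a map of R-modules with M' flat. Then f is universally injective
exactly when, for each finitely generated ideal I of R, the induced map M ⊗ R/I → M' ⊗ R/I (that is,
M/IM → M'/IM') is injective. -/
theorem result {R : Type u} [CommRing R] {M M' : Type u} [AddCommGroup M] [Module R M] [AddCommGroup M'] [Module R M'] [Module.Flat R M'] (f : M →ₗ[R] M') : CAlgX.UniversallyInjective R f ↔ ∀ I : Ideal R, I.FG → Function.Injective (f.rTensor (R ⧸ I)) := by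
  constructor
  · intro h I _
    exact h (R ⧸ I)
  · intro h Q _ _
    have hexact : Function.Exact f (LinearMap.range f).mkQ := LinearMap.exact_map_mkQ_range f
    have hg : Function.Surjective (LinearMap.range f).mkQ := Submodule.mkQ_surjective _
    haveI : Module.Flat R (M' ⧸ LinearMap.range f) :=
      Groth.Agent.Helper3.flat_of_exact_of_rTensor_quotient_injective f _ hexact hg h
    have hinj : Function.Injective f := by
      rw [injective_iff_map_eq_zero]
      intro z hz
      have h1 : z ∈ (⊥ : Ideal R) • (⊤ : Submodule R M) := by
        refine Groth.Agent.Helper3.mem_smul_top_of_rTensor_quotient_injective ⊥ f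
          (h ⊥ Submodule.fg_bot) z ?_
        rw [hz]; exact Submodule.zero_mem _
      rw [Submodule.bot_smul] at h1
      exact (Submodule.mem_bot R).1 h1
    rw [← LinearMap.lTensor_inj_iff_rTensor_inj]
    exact LinearMap.lTensor_injective_of_exact_of_flat _ hg f hinj hexact Q

end Groth.Agent.S6267
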