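import Groth.Statements.S6268
import Mathlib

set_option autoImplicit false
universe u
open CAlg

namespace Groth.Agent.S6268

/-- Suppose the structure map R → S of an R-algebra S is universally injective as an R-linear map. Then
tensoring with S detects injectivity and surjectivity of R-linear maps (and hence reflects
isomorphisms): for an R-linear g : M → N, if S ⊗ g is injective then so is g, and if S ⊗ g is
surjective then so is g. -/
theorem result {R S : Type u} [CommRing R] [CommRing S] [Algebra R S] (hS : CAlgX.UniversallyInjective R (Algebra.linearMap R S)) {M N : Type u} [AddCommGroup M] [Module R M] [AddCommGroup N] [Module R N] (g : M →ₗ[R] N) : (Function.Injective (g.lTensor S) → Function.Injective g) ∧ (Function.Surjective (g.lTensor S) → Function.Surjective g) := by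
  -- ι_Q : Q → S ⊗ Q injective
  have hι : ∀ (Q : Type u) [AddCommGroup Q] [Module R Q] (x : Q),
      ((1 : S) ⊗ₜ[R] x : TensorProduct R S Q) = 0 → x = 0 := by
    intro Q _ _ x hx
    have h1 : (Algebra.linearMap R S).rTensor Q ((1 : R) ⊗ₜ[R] x) = 0 := by
      rw [LinearMap.rTensor_tmul]
      simpa using hx
    have h2 := hS Q (by rw [h1, map_zero] : (Algebra.linearMap R S).rTensor Q ((1 : R) ⊗ₜ[R] x) =
      (Algebra.linearMap R S).rTensor Q 0)
    have h3 := congrArg (TensorProduct.lid R Q) h2
    simpa using h3
  constructor
  · intro hinj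
    rw [injective_iff_map_eq_zero]
    intro m hm
    apply hι M
    apply hinj
    rw [map_zero, LinearMap.lTensor_tmul, hm, TensorProduct.tmul_zero]
  · intro hsurj n
    have h1 : ((LinearMap.range g).mkQ.lTensor S) ((1 : S) ⊗ₜ[R] n) = 0 := by
      obtain ⟨y, hy⟩ := hsurj ((1 : S) ⊗ₜ[R] n)
      rw [← hy, ← LinearMap.comp_apply, ← LinearMap.lTensor_comp]
      have : (LinearMap.range g).mkQ.comp g = 0 := by
        apply LinearMap.ext
        intro m
        simp
      rw [this, LinearMap.lTensor_zero, LinearMap.zero_apply]
    rw [LinearMap.lTensor_tmul] at h1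
    have h2 := hι _ _ h1
    rw [Submodule.mkQ_apply, Submodule.Quotient.mk_eq_zero] at h2
    exact h2

end Groth.Agent.S6268
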