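import Groth.Statements.S6351
import Mathlib

set_option autoImplicit false
universe u
open scoped TensorProduct
open CAlg

namespace Groth.Agent.S6351

theorem aux {R : Type u} [CommRing R] (I : Ideal R) {F M : Type u} [AddCommGroup F] [Module R F]
    [AddCommGroup M] [Module R M] (φ : F →ₗ[R] M) (hs : Function.Surjective φ)
    (t' : I ⊗[R] F) (ht0 : LinearMap.lTensor I φ t' = 0) :
    TensorProduct.lift ((LinearMap.lsmul R F).comp (Submodule.subtype I)) t' ∈
      (I • LinearMap.ker φ : Submodule R F) := by
  have hex0 : Function.Exact (LinearMap.ker φ).subtype φ := LinearMap.exact_subtype_ker_map φ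
  have hex := lTensor_exact I hex0 hs
  obtain ⟨s, rfl⟩ := (hex t').mp ht0
  clear ht0
  induction s using TensorProduct.induction_on with
  | zero => simp
  | tmul i k =>
    rw [LinearMap.lTensor_tmul, TensorProduct.lift.tmul]
    exact Submodule.smul_mem_smul i.2 k.2
  | add y z hy hz =>
    rw [map_add, map_add]
    exact Submodule.add_mem _ hy hz

/-- Let I be a nilpotent ideal of a commutative ring R and M an R-module with Tor_1^R(R/I, M) = 0, i.e.
I ⊗_R M → M injective. If a family of elements of M maps to a basis of the R/I-module M/IM = R/I ⊗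
M, then it is a basis of M over R. -/
theorem result (R : Type u) [CommRing R] (I : Ideal R)
    (hI : IsNilpotent I) (M : Type u) [AddCommGroup M] [Module R M]
    (htor : Function.Injective ((Submodule.subtype I).rTensor M)) {A : Type u} (x : A → M)
    (hli : LinearIndependent (R ⧸ I) (fun a => (1 : R ⧸ I) ⊗ₜ[R] x a))
    (hsp : Submodule.span (R ⧸ I) (Set.range fun a => (1 : R ⧸ I) ⊗ₜ[R] x a) = ⊤) :
    LinearIndependent R x ∧ Submodule.span R (Set.range x) = ⊤ := by
  classical
  obtain ⟨n, hn⟩ := hI
  have hzero : ∀ m : M, (1 : R ⧸ I) ⊗ₜ[R] m = 0 → m ∈ (I • ⊤ : Submodule R M) := by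
    intro m hm
    have := congrArg (TensorProduct.quotTensorEquivQuotSMul M I) hm
    rw [map_zero, TensorProduct.quotTensorEquivQuotSMul_mk_one_tmul] at this
    exact (Submodule.Quotient.mk_eq_zero _).mp this
  have hcomb : ∀ l : A →₀ R, (1 : R ⧸ I) ⊗ₜ[R] (Finsupp.linearCombination R x l) =
      Finsupp.linearCombination (R ⧸ I) (fun a => (1 : R ⧸ I) ⊗ₜ[R] x a)
        (l.mapRange (Ideal.Quotient.mk I) (map_zero _)) := by
    intro l
    rw [Finsupp.linearCombination_apply, Finsupp.linearCombination_apply,
      Finsupp.sum_mapRange_index (by intro a; simp)]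
    rw [Finsupp.sum, Finsupp.sum, TensorProduct.tmul_sum]
    refine Finset.sum_congr rfl (fun a _ => ?_)
    rw [TensorProduct.smul_tmul', ← TensorProduct.smul_tmul, smul_eq_mul, mul_one]
    congr 1
    rw [Algebra.smul_def, mul_one]
    rfl
  have hspan : Submodule.span R (Set.range x) = ⊤ := by
    set N := Submodule.span R (Set.range x) with hN
    have h1 : ∀ m : M, m ∈ N ⊔ (I • ⊤ : Submodule R M) := by
      intro m
      have hm : (1 : R ⧸ I) ⊗ₜ[R] m ∈
          Submodule.span (R ⧸ I) (Set.range fun a => (1 : R ⧸ I) ⊗ₜ[R] x a) :=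
        hsp ▸ Submodule.mem_top
      rw [Finsupp.mem_span_range_iff_exists_finsupp] at hm
      obtain ⟨c, hc⟩ := hm
      obtain ⟨l, rfl⟩ : ∃ l : A →₀ R, l.mapRange (Ideal.Quotient.mk I) (map_zero _) = c :=
        Finsupp.mapRange_surjective _ (map_zero _) Ideal.Quotient.mk_surjective c
      have h0 : (1 : R ⧸ I) ⊗ₜ[R] (m - Finsupp.linearCombination R x l) = 0 := by
        rw [TensorProduct.tmul_sub, hcomb, Finsupp.linearCombination_apply, hc, sub_self]
      have h2 := hzero _ h0
      have hm' : m = Finsupp.linearCombination R x l + (m - Finsupp.linearCombination R x l) := by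
        abel
      rw [hm']
      refine Submodule.add_mem_sup ?_ h2
      rw [hN, Finsupp.mem_span_range_iff_exists_finsupp]
      exact ⟨l, (Finsupp.linearCombination_apply R l).symm⟩
    have h2 : ∀ k : ℕ, (⊤ : Submodule R M) ≤ N ⊔ (I ^ k • ⊤ : Submodule R M) := by
      intro k
      induction k with
      | zero => simp
      | succ k ih =>
        intro m _
        obtain ⟨a, ha, b, hb, rfl⟩ := Submodule.mem_sup.mp (ih (Submodule.mem_top (x := m)))
        refine Submodule.add_mem _ (Submodule.mem_sup_left ha) ?_
        refine Submodule.smul_induction_on hb ?_ ?_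
        · intro r hr m' _
          obtain ⟨a', ha', b', hb', rfl⟩ := Submodule.mem_sup.mp (h1 m')
          rw [smul_add]
          refine Submodule.add_mem _ (Submodule.mem_sup_left (N.smul_mem r ha'))
            (Submodule.mem_sup_right ?_)
          rw [pow_succ, mul_smul]
          exact Submodule.smul_mem_smul hr hb'
        · intro y z hy hz
          exact Submodule.add_mem _ hy hz
    have h3 := h2 n
    rw [hn, Ideal.zero_eq_bot, Submodule.bot_smul, sup_bot_eq] at h3
    exact top_le_iff.mp h3
  refine ⟨?_, hspan⟩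
  rw [linearIndependent_iff]
  set φ := Finsupp.linearCombination R x with hφ
  set K := LinearMap.ker φ with hK
  have hsurj : Function.Surjective φ := by
    rw [← LinearMap.range_eq_top, hφ, Finsupp.range_linearCombination]
    exact hspan
  let μ : I ⊗[R] (A →₀ R) →ₗ[R] (A →₀ R) :=
    TensorProduct.lift ((LinearMap.lsmul R (A →₀ R)).comp (Submodule.subtype I))
  have hμ : ∀ (i : I) (f : A →₀ R), μ (i ⊗ₜ f) = (i : R) • f := fun i f => by
    simp [μ]
  have hclaim : K ≤ I • K := by
    intro l hl
    have hl0 : φ l = 0 := hl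
    have ha : ∀ a, l a ∈ I := by
      have h0 : Finsupp.linearCombination (R ⧸ I) (fun a => (1 : R ⧸ I) ⊗ₜ[R] x a)
          (l.mapRange (Ideal.Quotient.mk I) (map_zero _)) = 0 := by
        rw [← hcomb, hl0, TensorProduct.tmul_zero]
      have h1 := (linearIndependent_iff.mp hli) _ h0
      intro a
      have h2 := DFunLike.congr_fun h1 a
      rw [Finsupp.mapRange_apply, Finsupp.zero_apply] at h2
      exact Ideal.Quotient.eq_zero_iff_mem.mp h2
    set t' : I ⊗[R] (A →₀ R) :=
      ∑ a ∈ l.support, (⟨l a, ha a⟩ : I) ⊗ₜ[R] Finsupp.single a (1 : R) with ht'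
    have hμt' : μ t' = l := by
      rw [ht', map_sum]
      conv_rhs => rw [← Finsupp.sum_single l]
      rw [Finsupp.sum]
      refine Finset.sum_congr rfl (fun a _ => ?_)
      rw [hμ, Finsupp.smul_single, smul_eq_mul, mul_one]
    have ht0 : LinearMap.lTensor I φ t' = 0 := by
      apply htor
      rw [map_zero, ht', map_sum, map_sum]
      have : ∀ a ∈ l.support, (Submodule.subtype I).rTensor M
          (LinearMap.lTensor I φ ((⟨l a, ha a⟩ : I) ⊗ₜ[R] Finsupp.single a (1 : R))) =
          (1 : R) ⊗ₜ[R] (l a • x a) := by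
        intro a _
        rw [LinearMap.lTensor_tmul, LinearMap.rTensor_tmul, hφ,
          Finsupp.linearCombination_single, one_smul, TensorProduct.tmul_smul,
          TensorProduct.smul_tmul']
        simp
      rw [Finset.sum_congr rfl this, ← TensorProduct.tmul_sum]
      have : ∑ a ∈ l.support, l a • x a = φ l := by
        rw [hφ, Finsupp.linearCombination_apply, Finsupp.sum]
      rw [this, hl0, TensorProduct.tmul_zero]
    rw [← hμt']
    exact aux I φ hsurj t' ht0
  have hpow : ∀ k : ℕ, K ≤ I ^ k • K := by
    intro k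
    induction k with
    | zero => simp
    | succ k ih =>
      calc K ≤ I • K := hclaim
        _ ≤ I • (I ^ k • K) := Submodule.smul_mono le_rfl ih
        _ = I ^ (k + 1) • K := by rw [pow_succ', mul_smul]
  intro l hl
  have hlK : l ∈ K := hl
  have := hpow n hlK
  rw [hn, Ideal.zero_eq_bot, Submodule.bot_smul] at this
  exact (Submodule.mem_bot R).mp this

end Groth.Agent.S6351
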