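import Groth.Statements.S6270
import Mathlib
import Groth.Agent.S6351
import Groth.Agent.Helper3.Swindle

set_option autoImplicit false
universe u
open scoped TensorProduct
open CAlg

namespace Groth.Agent.S6270

theorem flat_prod (R : Type u) [CommRing R] (M F : Type u) [AddCommGroup M] [Module R M]
    [AddCommGroup F] [Module R F] [Module.Flat R M] [Module.Flat R F] :
    Module.Flat R (M × F) := by
  rw [Module.Flat.iff_lTensor_preserves_injective_linearMap]
  intro N N' _ _ _ _ g hg
  have h : ⇑(TensorProduct.prodLeft R R M F N') ∘ ⇑(LinearMap.lTensor (M × F) g) =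
      ⇑(LinearMap.prodMap (LinearMap.lTensor M g) (LinearMap.lTensor F g)) ∘
        ⇑(TensorProduct.prodLeft R R M F N) := by
    funext z
    simp only [Function.comp_apply]
    induction z using TensorProduct.induction_on with
    | zero => simp only [map_zero]
    | tmul w n =>
      obtain ⟨m, f⟩ := w
      simp
    | add a b ha hb => rw [map_add, map_add, ha, hb, map_add, map_add]
  rw [← EquivLike.comp_injective _ (TensorProduct.prodLeft R R M F N'), h,
    EquivLike.injective_comp (TensorProduct.prodLeft R R M F N)]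
  exact Function.Injective.prodMap
    (Module.Flat.lTensor_preserves_injective_linearMap g hg)
    (Module.Flat.lTensor_preserves_injective_linearMap g hg)

/-- Let R be a ring, I ⊆ R a nilpotent ideal and M an R-module. If M is flat over R and M/IM (that is,
R/I ⊗ M) is a projective R/I-module, then M is a projective R-module. -/
theorem result {R : Type u} [CommRing R] (I : Ideal R) (hI : IsNilpotent I) (M : Type u) [AddCommGroup M] [Module R M] [Module.Flat R M] (hproj : Module.Projective (R ⧸ I) ((R ⧸ I) ⊗[R] M)) : Module.Projective R M := by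
  classical
  obtain ⟨ι, hfree⟩ := Groth.Agent.Helper3.exists_free_prod_free (R ⧸ I) ((R ⧸ I) ⊗[R] M)
  let e : (R ⧸ I) ⊗[R] (M × (ι →₀ R)) ≃ₗ[R ⧸ I] ((R ⧸ I) ⊗[R] M) × (ι →₀ (R ⧸ I)) :=
    (TensorProduct.prodRight R (R ⧸ I) (R ⧸ I) M (ι →₀ R)).trans
      (LinearEquiv.prodCongr (LinearEquiv.refl _ _)
        (TensorProduct.finsuppScalarRight R (R ⧸ I) (R ⧸ I) ι))
  haveI : Module.Free (R ⧸ I) ((R ⧸ I) ⊗[R] (M × (ι →₀ R))) := Module.Free.of_equiv e.symm
  let b := Module.Free.chooseBasis (R ⧸ I) ((R ⧸ I) ⊗[R] (M × (ι →₀ R)))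
  have hsurj : Function.Surjective (TensorProduct.mk R (R ⧸ I) (M × (ι →₀ R)) 1) :=
    TensorProduct.mk_surjective R (M × (ι →₀ R)) (R ⧸ I) Ideal.Quotient.mk_surjective
  choose y hy using fun a => hsurj (b a)
  have hfun : (fun a => (1 : R ⧸ I) ⊗ₜ[R] y a) = ⇑b := funext hy
  haveI : Module.Flat R (M × (ι →₀ R)) := flat_prod R M (ι →₀ R)
  have htor : Function.Injective ((Submodule.subtype I).rTensor (M × (ι →₀ R))) :=
    Module.Flat.rTensor_preserves_injective_linearMap _ Subtype.val_injective
  obtain ⟨hli, hsp⟩ := Groth.Agent.S6351.result R I hI (M × (ι →₀ R)) htor y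
    (hfun ▸ b.linearIndependent) (hfun ▸ b.span_eq)
  haveI : Module.Free R (M × (ι →₀ R)) := Module.Free.of_basis (Module.Basis.mk hli hsp.ge)
  exact Module.Projective.of_split (LinearMap.inl R M (ι →₀ R)) (LinearMap.fst R M (ι →₀ R))
    (by ext; simp)

end Groth.Agent.S6270
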