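import Groth.Statements.S6275
import Mathlib

set_option autoImplicit false
universe u
open CAlg

namespace Groth.Agent.S6275

/-- Let R be a Noetherian ring and p ⊆ R a prime. Then there is f ∈ R, f ∉ p, such that R_f → R_p is
injective; equivalently every x ∈ R mapping to zero in R_p maps to zero in R_f. (The cases of a
domain and of a reduced ring with finitely many minimal primes are not included here.) -/
theorem result {R : Type u} [CommRing R] [IsNoetherianRing R] (p : Ideal R) [p.IsPrime] : ∃ f : R, f ∉ p ∧ ∀ x : R, algebraMap R (Localization.AtPrime p) x = 0 → algebraMap R (Localization.Away f) x = 0 := by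
  classical
  -- the kernel of R → R_p
  let I : Ideal R := RingHom.ker (algebraMap R (Localization.AtPrime p))
  obtain ⟨s, hs⟩ := (isNoetherianRing_iff_ideal_fg R).mp inferInstance I
  have hI : ∀ x ∈ I, ∃ t : R, t ∉ p ∧ t * x = 0 := by
    intro x hx
    rw [RingHom.mem_ker, IsLocalization.map_eq_zero_iff p.primeCompl] at hx
    obtain ⟨m, hm⟩ := hx
    exact ⟨m.1, m.2, hm⟩
  have hsI : ∀ x ∈ s, x ∈ I := fun x hx => hs ▸ Ideal.subset_span hx
  choose! t ht1 ht2 using hI
  refine ⟨∏ x ∈ s, t x, ?_, ?_⟩
  · intro h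
    rw [Ideal.IsPrime.prod_mem_iff] at h
    obtain ⟨x, hx, hxp⟩ := h
    exact ht1 x (hsI x hx) hxp
  · intro x hx
    have hxI : x ∈ Ideal.span (s : Set R) := hs ▸ (RingHom.mem_ker.mpr hx)
    have hkill : (∏ y ∈ s, t y) * x = 0 := by
      refine Submodule.span_induction (p := fun x _ => (∏ y ∈ s, t y) * x = 0) ?_ ?_ ?_ ?_ hxI
      · intro y hy
        rw [← Finset.mul_prod_erase s t hy, mul_comm (t y), mul_assoc, ht2 y (hsI y hy), mul_zero]
      · simp
      · intro a b _ _ ha hb
        rw [mul_add, ha, hb, add_zero]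
      · intro a b _ hb
        rw [smul_eq_mul, mul_left_comm, hb, mul_zero]
    rw [IsLocalization.map_eq_zero_iff (Submonoid.powers (∏ y ∈ s, t y))]
    exact ⟨⟨_, Submonoid.mem_powers _⟩, hkill⟩

end Groth.Agent.S6275
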