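import Groth.Statements.S6277
import Mathlib

set_option autoImplicit false
universe u
open CAlg

namespace Groth.Agent.S6277

/-- Any surjective ring endomorphism of a Noetherian ring is an isomorphism (bijective). -/
theorem result {R : Type u} [CommRing R] [IsNoetherianRing R] (f : R →+* R) (hf : Function.Surjective f) : Function.Bijective f := by
  refine ⟨?_, hf⟩
  -- ascending chain of kernels of iterates
  let K : ℕ →o Ideal R :=
    { toFun := fun n => RingHom.ker (f ^ n)
      monotone' := by
        intro m n hmn x hx
        rw [RingHom.mem_ker] at hx ⊢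
        obtain ⟨k, rfl⟩ := Nat.exists_eq_add_of_le hmn
        rw [add_comm, pow_add]
        change (f ^ k) ((f ^ m) x) = 0
        rw [hx, map_zero] }
  obtain ⟨n, hn⟩ := monotone_stabilizes_iff_noetherian.mpr inferInstance K
  have hsurj : ∀ k : ℕ, Function.Surjective (f ^ k) := by
    intro k
    induction k with
    | zero => exact fun x => ⟨x, rfl⟩
    | succ k ih =>
      rw [pow_succ]
      exact ih.comp hf
  rw [injective_iff_map_eq_zero]
  intro x hx
  obtain ⟨y, rfl⟩ := hsurj n x
  have h1 : y ∈ K (n + 1) := by
    change y ∈ RingHom.ker (f ^ (n+1))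
    rw [RingHom.mem_ker, pow_succ']
    exact hx
  rw [← hn (n+1) (Nat.le_succ n)] at h1
  exact h1

end Groth.Agent.S6277
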