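import Groth.Statements.S6278
import Mathlib

set_option autoImplicit false
universe u
open CAlg

namespace Groth.Agent.S6278

/-- A normal ring R (all localizations at primes are integrally closed domains) is integrally closed in
its total ring of fractions. -/
theorem result (R : Type u) [CommRing R] (hR : EGA4.IsNormalRing R) : IsIntegrallyClosedIn R (FractionRing R) := by
  rw [isIntegrallyClosedIn_iff]
  refine ⟨IsFractionRing.injective R (FractionRing R), ?_⟩
  intro x hx
  let I : Ideal R :=
    { carrier := {r | ∃ y, algebraMap R (FractionRing R) y = algebraMap R (FractionRing R) r * x}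
      zero_mem' := ⟨0, by simp⟩
      add_mem' := by
        rintro a b ⟨y, hy⟩ ⟨z, hz⟩
        exact ⟨y + z, by rw [map_add, map_add, add_mul, hy, hz]⟩
      smul_mem' := by
        rintro c a ⟨y, hy⟩
        exact ⟨c * y, by rw [smul_eq_mul, map_mul, map_mul, mul_assoc, hy]⟩ }
  by_cases hI : I = ⊤
  · have h1 : (1 : R) ∈ I := hI ▸ Submodule.mem_top
    obtain ⟨y, hy⟩ := h1
    exact ⟨y, by rw [hy, map_one, one_mul]⟩
  exfalso
  obtain ⟨m, hm, hIm⟩ := Ideal.exists_le_maximal I hI
  haveI := hm.isPrime
  obtain ⟨hdom, hic⟩ := hR m
  have hunits : ∀ s : nonZeroDivisors R,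
      IsUnit (((algebraMap (Localization.AtPrime m) (FractionRing (Localization.AtPrime m))).comp
        (algebraMap R (Localization.AtPrime m))) s) := by
    intro s
    have h1 : algebraMap R (Localization.AtPrime m) s ∈ nonZeroDivisors (Localization.AtPrime m) :=
      IsLocalization.map_nonZeroDivisors_le m.primeCompl (Localization.AtPrime m)
        (Submonoid.mem_map_of_mem _ s.2)
    exact IsLocalization.map_units (FractionRing (Localization.AtPrime m))
      (⟨_, h1⟩ : nonZeroDivisors (Localization.AtPrime m))
  let φ : FractionRing R →+* FractionRing (Localization.AtPrime m) := IsLocalization.lift hunits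
  have hφ : ∀ r : R, φ (algebraMap R _ r) =
      algebraMap (Localization.AtPrime m) (FractionRing (Localization.AtPrime m))
        (algebraMap R (Localization.AtPrime m) r) := fun r => IsLocalization.lift_eq hunits r
  have hint : IsIntegral (Localization.AtPrime m) (φ x) := by
    obtain ⟨p, hp, hpx⟩ := hx
    refine ⟨p.map (algebraMap R (Localization.AtPrime m)), hp.map _, ?_⟩
    rw [Polynomial.eval₂_map]
    have h2 : (algebraMap (Localization.AtPrime m) (FractionRing (Localization.AtPrime m))).comp
        (algebraMap R (Localization.AtPrime m)) = φ.comp (algebraMap R (FractionRing R)) := by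
      ext r
      exact (hφ r).symm
    rw [h2, ← Polynomial.hom_eval₂, hpx, map_zero]
  obtain ⟨y, hy⟩ := IsIntegrallyClosed.algebraMap_eq_of_integral hint
  obtain ⟨⟨a, t⟩, hat⟩ := IsLocalization.surj m.primeCompl y
  obtain ⟨⟨b, s⟩, hbs⟩ := IsLocalization.surj (nonZeroDivisors R) x
  have h1 : algebraMap R (Localization.AtPrime m) (a * s) =
      algebraMap R (Localization.AtPrime m) (b * t) := by
    apply IsFractionRing.injective (Localization.AtPrime m)
      (FractionRing (Localization.AtPrime m))
    rw [map_mul, map_mul, map_mul, map_mul, ← hat, map_mul, hy, ← hφ, ← hφ, ← hφ b, ← hbs,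
      map_mul]
    ring
  obtain ⟨u, hu⟩ := (IsLocalization.eq_iff_exists m.primeCompl (Localization.AtPrime m)).mp h1
  have hut : (u : R) * t ∈ I := by
    refine ⟨u * a, ?_⟩
    have hs : IsUnit (algebraMap R (FractionRing R) s) := IsLocalization.map_units _ s
    apply hs.mul_right_cancel
    rw [mul_assoc, hbs, ← map_mul, ← map_mul]
    congr 1
    linear_combination hu
  exact (m.primeCompl.mul_mem u.2 t.2) (hIm hut)

end Groth.Agent.S6278
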