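import Groth.Statements.S6281
import Mathlib

set_option autoImplicit false
universe u
open CAlg

namespace Groth.Agent.S6281

/-- For an R-algebra S and an S-module M, flatness of S over R follows once M is both flat over R and
faithfully flat over S. -/
theorem result {R S : Type u} [CommRing R] [CommRing S] [Algebra R S] (M : Type u) [AddCommGroup M] [Module S M] [Module R M] [IsScalarTower R S M] [Module.Flat R M] [Module.FaithfullyFlat S M] : Module.Flat R S := by
  rw [Module.Flat.iff_lTensor_preserves_injective_linearMap]
  intro N P _ _ _ _ f hf
  -- S-linear version of f.lTensor S
  let fS : TensorProduct R S N →ₗ[S] TensorProduct R S P := LinearMap.baseChange S f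
  have hfS : (fS : TensorProduct R S N → TensorProduct R S P) = f.lTensor S := by
    ext x; rfl
  rw [← hfS, ← Module.FaithfullyFlat.lTensor_injective_iff_injective S M fS]
  let eN := TensorProduct.AlgebraTensorModule.cancelBaseChange R S S M N
  let eP := TensorProduct.AlgebraTensorModule.cancelBaseChange R S S M P
  have hcomm : ∀ x, eP (fS.lTensor M x) = f.lTensor M (eN x) := by
    intro x
    induction x using TensorProduct.induction_on with
    | zero => simp
    | add x y hx hy => simp only [map_add, hx, hy]
    | tmul m y =>
      induction y using TensorProduct.induction_on with
      | zero => simp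
      | add y z hy hz => simp only [TensorProduct.tmul_add, map_add, hy, hz]
      | tmul s n => simp [eN, eP, fS]
  have hinj : Function.Injective (f.lTensor M) :=
    Module.Flat.lTensor_preserves_injective_linearMap f hf
  intro x y hxy
  apply eN.injective
  apply hinj
  rw [← hcomm, ← hcomm, hxy]

end Groth.Agent.S6281
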