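import Groth.Statements.S6283
import Mathlib

set_option autoImplicit false
universe u
open scoped TensorProduct
open CAlg

namespace Groth.Agent.S6283

theorem aux1 {R S : Type u} [CommRing R] [CommRing S] [Algebra R S] [Module.Flat R S]
    (M : Type u) [AddCommGroup M] [Module R M] (m : M) :
    ((Submodule.span R {m}).annihilator).map (algebraMap R S) =
      (Submodule.span S {(1 : S) ⊗ₜ[R] m}).annihilator := by
  set I := (Submodule.span R {m}).annihilator with hI
  have hex : Function.Exact I.subtype (LinearMap.toSpanSingleton R M m) := by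
    rw [hI, Submodule.annihilator_span_singleton]
    exact LinearMap.exact_subtype_ker_map _
  have hex' := Module.Flat.lTensor_exact S hex
  let ψ : S ⊗[R] I →ₗ[S] S :=
    (TensorProduct.AlgebraTensorModule.rid R S S).toLinearMap ∘ₗ
      TensorProduct.AlgebraTensorModule.lTensor S S I.subtype
  have hψ : ∀ t, ψ t = TensorProduct.AlgebraTensorModule.rid R S S
      (LinearMap.lTensor S I.subtype t) := fun t => rfl
  have hrange : LinearMap.range ψ = I.map (algebraMap R S) := by
    apply le_antisymm
    · rintro _ ⟨t, rfl⟩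
      induction t using TensorProduct.induction_on with
      | zero => simp
      | tmul s i =>
        rw [hψ, LinearMap.lTensor_tmul, TensorProduct.AlgebraTensorModule.rid_tmul,
          Algebra.smul_def]
        exact Ideal.mul_mem_right _ _ (Ideal.mem_map_of_mem _ i.2)
      | add a b ha hb =>
        rw [map_add]
        exact Ideal.add_mem _ ha hb
    · rw [Ideal.map, Ideal.span_le]
      rintro _ ⟨i, hi, rfl⟩
      refine ⟨(1 : S) ⊗ₜ[R] (⟨i, hi⟩ : I), ?_⟩
      rw [hψ, LinearMap.lTensor_tmul, TensorProduct.AlgebraTensorModule.rid_tmul,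
        Algebra.smul_def, mul_one]
      rfl
  ext s
  rw [Submodule.mem_annihilator_span_singleton, ← hrange]
  have h1 : s • ((1 : S) ⊗ₜ[R] m) =
      LinearMap.lTensor S (LinearMap.toSpanSingleton R M m) (s ⊗ₜ[R] (1 : R)) := by
    rw [LinearMap.lTensor_tmul, LinearMap.toSpanSingleton_apply, one_smul,
      TensorProduct.smul_tmul', smul_eq_mul, mul_one]
  rw [h1, hex' (s ⊗ₜ[R] (1 : R))]
  constructor
  · rintro ⟨t, rfl⟩
    refine ⟨t, ?_⟩
    apply (TensorProduct.AlgebraTensorModule.rid R S S).injective
    rw [← hψ, TensorProduct.AlgebraTensorModule.rid_tmul, one_smul]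
  · rintro ⟨t, ht⟩
    refine ⟨t, ?_⟩
    rw [hψ, ht, TensorProduct.AlgebraTensorModule.rid_tmul, one_smul]

/-- Let R → S be a flat ring map, M an R-module and m ∈ M. Then Ann_R(m)S = Ann_S(1 ⊗ m), the
annihilator in S of the element 1 ⊗ m of S ⊗_R M. If moreover M is a finite R-module then Ann_R(M)S
= Ann_S(S ⊗_R M). -/
theorem result {R S : Type u} [CommRing R] [CommRing S] [Algebra R S] [Module.Flat R S] (M : Type u) [AddCommGroup M] [Module R M] : (∀ m : M, ((Submodule.span R {m}).annihilator).map (algebraMap R S) = (Submodule.span S {(1 : S) ⊗ₜ[R] m}).annihilator) ∧ (Module.Finite R M → (Module.annihilator R M).map (algebraMap R S) = Module.annihilator S (S ⊗[R] M)) := by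
  classical
  refine ⟨fun m => aux1 M m, fun hfin => ?_⟩
  obtain ⟨k, g, hg⟩ := Module.Finite.exists_fin (R := R) (M := M)
  have h1 : Module.annihilator R M = (Submodule.span R {(g : Fin k → M)}).annihilator := by
    ext r
    rw [← Submodule.annihilator_top, ← hg, Submodule.mem_annihilator_span,
      Submodule.mem_annihilator_span_singleton]
    constructor
    · intro h
      funext i
      exact h ⟨g i, Set.mem_range_self i⟩
    · rintro h ⟨_, i, rfl⟩
      exact congrFun h i
  rw [h1, aux1 (Fin k → M) g]
  have hspan : Submodule.span S (Set.range fun i => (1 : S) ⊗ₜ[R] g i) =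
      (⊤ : Submodule S (S ⊗[R] M)) := by
    rw [← Submodule.baseChange_top, ← hg, Submodule.baseChange_span, ← Set.range_comp]
    rfl
  ext s
  rw [Submodule.mem_annihilator_span_singleton, ← Submodule.annihilator_top, ← hspan,
    Submodule.mem_annihilator_span]
  have h2 : s • ((1 : S) ⊗ₜ[R] (g : Fin k → M)) = 0 ↔
      ∀ i, s • ((1 : S) ⊗ₜ[R] g i) = 0 := by
    rw [← (TensorProduct.piRight R S S (fun _ : Fin k => M)).map_eq_zero_iff, map_smul,
      TensorProduct.piRight_apply, TensorProduct.piRightHom_tmul]
    constructor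
    · intro h i
      exact congrFun h i
    · intro h
      funext i
      exact h i
  rw [h2]
  constructor
  · rintro h ⟨_, i, rfl⟩
    exact h i
  · intro h i
    exact h ⟨_, Set.mem_range_self i⟩

end Groth.Agent.S6283
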