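import Groth.Statements.S6285
import Mathlib
import Groth.Agent.Helper3.FittSupp

set_option autoImplicit false
universe u
open scoped TensorProduct
open CAlg

namespace Groth.Agent.S6285

/-- For a ring R and an R-module M of finite presentation, the support Supp(M) is closed in Spec(R), and
its complement in Spec(R) is quasi-compact. -/
theorem result (R : Type u) [CommRing R] (M : Type u) [AddCommGroup M] [Module R M] [Module.FinitePresentation R M] : IsClosed (Module.support R M) ∧ IsCompact (Module.support R M)ᶜ := by
  obtain ⟨J, hJ, hJs⟩ := Groth.Agent.Helper3.FittLib.exists_fg_zeroLocus_eq_support (R := R) M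
  refine ⟨Module.isClosed_support, ?_⟩
  exact (PrimeSpectrum.isCompact_isOpen_iff_ideal.mpr ⟨J, hJ, by rw [hJs]⟩).1

end Groth.Agent.S6285
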