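import Groth.Statements.S6289
import Mathlib

set_option autoImplicit false
universe u
open CAlg

namespace Groth.Agent.S6289

/-- Let A' be a valuation ring with residue field K and A ⊆ K a valuation ring with fraction field K.
Then the subring C of A' consisting of the elements whose residue class lies in A is a valuation
ring. -/
theorem result (A' : Type u) [CommRing A'] [IsDomain A'] [ValuationRing A'] (A : ValuationSubring (IsLocalRing.ResidueField A')) : ValuationRing (A.toSubring.comap (IsLocalRing.residue A')) := by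
  refine { toPreValuationRing := ⟨?_⟩ }
  rintro ⟨a, ha⟩ ⟨b, hb⟩
  have key : ∀ c : A', (c ∈ A.toSubring.comap (IsLocalRing.residue A')) ∨
      ∃ d : A', d ∈ A.toSubring.comap (IsLocalRing.residue A') ∧ c * d = 1 := by
    intro c
    by_cases hc : IsUnit c
    · obtain ⟨u, rfl⟩ := hc
      rcases A.mem_or_inv_mem (IsLocalRing.residue A' (u : A')) with h | h
      · exact Or.inl h
      · right
        refine ⟨((u⁻¹ : A'ˣ) : A'), ?_, by simp⟩
        show IsLocalRing.residue A' ((u⁻¹ : A'ˣ) : A') ∈ A
        have h1 : IsLocalRing.residue A' ((u⁻¹ : A'ˣ) : A') =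
            (IsLocalRing.residue A' (u : A'))⁻¹ := by
          apply eq_inv_of_mul_eq_one_left
          rw [← map_mul]
          simp
        rw [h1]
        exact h
    · left
      show IsLocalRing.residue A' c ∈ A
      have : IsLocalRing.residue A' c = 0 := by
        rw [IsLocalRing.residue_eq_zero_iff]
        exact (IsLocalRing.mem_maximalIdeal c).mpr hc
      rw [this]
      exact A.zero_mem
  obtain ⟨c, hc | hc⟩ := ValuationRing.cond a b
  · rcases key c with h | ⟨d, hd, hcd⟩
    · exact ⟨⟨c, h⟩, Or.inl (Subtype.ext hc)⟩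
    · refine ⟨⟨d, hd⟩, Or.inr (Subtype.ext ?_)⟩
      show b * d = a
      rw [← hc, mul_assoc, hcd, mul_one]
  · rcases key c with h | ⟨d, hd, hcd⟩
    · exact ⟨⟨c, h⟩, Or.inr (Subtype.ext hc)⟩
    · refine ⟨⟨d, hd⟩, Or.inl (Subtype.ext ?_)⟩
      show a * d = b
      rw [← hc, mul_assoc, hcd, mul_one]

end Groth.Agent.S6289
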