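import Groth.Statements.S6291
import Mathlib

set_option autoImplicit false
universe u
open CAlg

namespace Groth.Agent.S6291

/-- Let R be a local ring with maximal ideal m and M an R-module of finite length. Then mⁿM = 0 for some
n. -/
theorem result {R : Type u} [CommRing R] [IsLocalRing R] (M : Type u) [AddCommGroup M] [Module R M] (hM : IsFiniteLength R M) : ∃ n : ℕ, (IsLocalRing.maximalIdeal R) ^ n • (⊤ : Submodule R M) = ⊥ := by
  have key : ∀ (M : Type u) [AddCommGroup M] [Module R M], IsFiniteLength R M →
      ∃ n : ℕ, ∀ a ∈ (IsLocalRing.maximalIdeal R) ^ n, ∀ x : M, a • x = 0 := by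
    intro M _ _ hM
    induction hM with
    | of_subsingleton => exact ⟨0, fun a _ x => Subsingleton.elim _ _⟩
    | @of_simple_quotient M _ _ N hsimple _ ih =>
      obtain ⟨n, hn⟩ := ih
      have hann : Module.annihilator R (M ⧸ N) = IsLocalRing.maximalIdeal R :=
        IsLocalRing.eq_maximalIdeal (IsSimpleModule.annihilator_isMaximal (M := M ⧸ N))
      have hmN : ∀ b ∈ IsLocalRing.maximalIdeal R, ∀ x : M, b • x ∈ N := by
        intro b hb x
        rw [← hann, Module.mem_annihilator] at hb
        have := hb (Submodule.Quotient.mk x)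
        rw [← Submodule.Quotient.mk_smul, Submodule.Quotient.mk_eq_zero] at this
        exact this
      refine ⟨n + 1, fun a ha x => ?_⟩
      rw [pow_succ] at ha
      refine Submodule.mul_induction_on ha ?_ ?_
      · intro c hc b hb
        have h1 : b • x ∈ N := hmN b hb x
        have h2 := hn c hc ⟨b • x, h1⟩
        rw [mul_smul]
        exact congrArg Subtype.val h2
      · intro c d hc hd
        rw [add_smul, hc, hd, add_zero]
  obtain ⟨n, hn⟩ := key M hM
  refine ⟨n, ?_⟩
  rw [eq_bot_iff]
  rw [Submodule.smul_le]
  intro a ha x _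
  rw [hn a ha x]
  exact Submodule.zero_mem _

end Groth.Agent.S6291
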