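import Groth.Statements.S6293
import Mathlib

set_option autoImplicit false
universe u
open CAlg

namespace Groth.Agent.S6293

/-- Let R be a ring and L, M, N R-modules. If M is finite projective, then the natural map from Hom_R(M,
N) ⊗_R L to Hom_R(M, N ⊗_R L) is bijective. -/
theorem result (R : Type u) [CommRing R] (L M N : Type u) [AddCommGroup L] [Module R L] [AddCommGroup M] [Module R M] [AddCommGroup N] [Module R N] [Module.Finite R M] [Module.Projective R M] : Function.Bijective (TensorProduct.rTensorHomToHomRTensor (RingHom.id R) M N L) := by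
  classical
  obtain ⟨n, s, hs⟩ := Module.Finite.exists_fin' R M
  obtain ⟨i, hi⟩ := Module.projective_lifting_property s LinearMap.id hs
  have hsi : ∀ m, s (i m) = m := fun m => LinearMap.congr_fun hi m
  -- notation
  let θ : ∀ (X : Type u) [AddCommGroup X] [Module R X],
      TensorProduct R (X →ₗ[R] N) L →ₗ[R] (X →ₗ[R] TensorProduct R N L) :=
    fun X _ _ => TensorProduct.rTensorHomToHomRTensor (RingHom.id R) X N L
  -- naturality
  have hnat : ∀ (X Y : Type u) [AddCommGroup X] [Module R X] [AddCommGroup Y] [Module R Y]
      (u : X →ₗ[R] Y) (x : TensorProduct R (Y →ₗ[R] N) L),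
      θ X ((LinearMap.lcomp R N u).rTensor L x) = (θ Y x).comp u := by
    intro X Y _ _ _ _ u x
    induction x using TensorProduct.induction_on with
    | zero => simp
    | add x y hx hy => simp only [map_add, hx, hy, LinearMap.add_comp]
    | tmul φ l =>
      apply LinearMap.ext
      intro m
      simp [θ, TensorProduct.rTensorHomToHomRTensor_apply]
  have hF : Function.Bijective (θ (Fin n → R)) := by
    have h1 : (θ (Fin n → R) : _ → _) = rTensorHomEquivHomRTensor R (Fin n → R) N L := by
      funext x
      exact (rTensorHomEquivHomRTensor_apply x).symm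
    rw [h1]
    exact (rTensorHomEquivHomRTensor R (Fin n → R) N L).bijective
  change Function.Bijective (θ M)
  constructor
  · rw [injective_iff_map_eq_zero]
    intro x hx
    have h1 : θ (Fin n → R) ((LinearMap.lcomp R N s).rTensor L x) = 0 := by
      rw [hnat, hx, LinearMap.zero_comp]
    have h2 : (LinearMap.lcomp R N s).rTensor L x = 0 := hF.1 (by rw [h1, map_zero])
    have h3 : (LinearMap.lcomp R N i).rTensor L ((LinearMap.lcomp R N s).rTensor L x) = x := by
      rw [← LinearMap.comp_apply, ← LinearMap.rTensor_comp]
      have : (LinearMap.lcomp R N i).comp (LinearMap.lcomp R N s) = LinearMap.id := by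
        apply LinearMap.ext
        intro φ
        apply LinearMap.ext
        intro m
        simp [hsi]
      rw [this, LinearMap.rTensor_id, LinearMap.id_apply]
    rw [← h3, h2, map_zero]
  · intro ψ
    obtain ⟨y, hy⟩ := hF.2 (ψ.comp s)
    refine ⟨(LinearMap.lcomp R N i).rTensor L y, ?_⟩
    rw [hnat, hy]
    apply LinearMap.ext
    intro m
    simp [hsi]

end Groth.Agent.S6293
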