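import Groth.Statements.S6294
import Mathlib

set_option autoImplicit false
universe u
open CAlg

namespace Groth.Agent.S6294

/-- Let R be a ring with finitely many minimal primes q₁, …, q_t, and assume that the zerodivisors of R
are precisely the elements of q₁ ∪ … ∪ q_t. Then Q(R), the total ring of fractions of R, equals
R_{q₁} × … × R_{q_t}: the diagonal map R → ∏ R_{q_i} is a localization of R at its non-zerodivisors. -/
theorem result {R : Type u} [CommRing R] {ι : Type} [Fintype ι] (q : ι → Ideal R) [∀ i, (q i).IsPrime] (hinj : Function.Injective q) (hmin : ∀ P : Ideal R, P ∈ minimalPrimes R ↔ P ∈ Set.range q) (hzd : ∀ x : R, x ∈ nonZeroDivisors R ↔ ∀ i, x ∉ q i) : IsLocalization (nonZeroDivisors R) (∀ i, Localization.AtPrime (q i)) := by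
  classical
  have hnil : ∀ j (x : R), x ∈ q j →
      IsNilpotent (algebraMap R (Localization.AtPrime (q j)) x) := by
    intro j x hx
    have hminj : q j ∈ minimalPrimes R := (hmin _).mpr ⟨j, rfl⟩
    have hrad := IsLocalization.AtPrime.radical_map_of_mem_minimalPrimes
      (A := Localization.AtPrime (q j)) (q j) ⊥ hminj
    rw [Ideal.map_bot] at hrad
    have hmem : algebraMap R (Localization.AtPrime (q j)) x ∈
        (q j).map (algebraMap R (Localization.AtPrime (q j))) := Ideal.mem_map_of_mem _ hx
    rw [← hrad] at hmem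
    exact mem_nilradical.mp hmem
  have ha : ∀ i j, ∃ k : R, k ∉ q i ∧
      (i ≠ j → algebraMap R (Localization.AtPrime (q j)) k = 0) := by
    intro i j
    by_cases hij : i = j
    · exact ⟨1, fun h => (inferInstance : (q i).IsPrime).ne_top ((Ideal.eq_top_iff_one _).mpr h),
        fun h => absurd hij h⟩
    by_contra hcon
    push Not at hcon
    have hle : q j ≤ q i := by
      intro x hx
      obtain ⟨n, hn⟩ := hnil j x hx
      rw [← map_pow] at hn
      have : x ^ n ∈ q i := by
        by_contra h
        exact (hcon _ h).2 hn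
      exact Ideal.IsPrime.mem_of_pow_mem inferInstance n this
    have hmini : q i ∈ minimalPrimes R := (hmin _).mpr ⟨i, rfl⟩
    have : q i ≤ q j := hmini.2 ⟨inferInstance, bot_le⟩ hle
    exact hij (hinj (le_antisymm this hle))
  choose k hk1 hk2 using ha
  set e : ι → R := fun i => ∏ j, k i j with he
  have he1 : ∀ i, e i ∉ q i := by
    intro i h
    rw [he, Ideal.IsPrime.prod_mem_iff] at h
    obtain ⟨j, _, hj⟩ := h
    exact hk1 i j hj
  have he2 : ∀ i j, i ≠ j → algebraMap R (Localization.AtPrime (q j)) (e i) = 0 := by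
    intro i j hij
    rw [he, map_prod]
    exact Finset.prod_eq_zero (Finset.mem_univ j) (hk2 i j hij)
  have hsum : ∀ (f : ι → R) (i : ι), algebraMap R (Localization.AtPrime (q i)) (∑ j, e j * f j) =
      algebraMap R (Localization.AtPrime (q i)) (e i * f i) := by
    intro f i
    rw [map_sum]
    refine Finset.sum_eq_single i (fun j _ hji => ?_) (fun h => absurd (Finset.mem_univ i) h)
    rw [map_mul, he2 j i hji, zero_mul]
  have hunit : ∀ i (x : R), IsUnit (algebraMap R (Localization.AtPrime (q i)) x) ↔ x ∉ q i :=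
    fun i x => IsLocalization.AtPrime.isUnit_to_map_iff (Localization.AtPrime (q i)) (q i) x
  have hS : ∀ f : ι → R, (∀ i, f i ∉ q i) → (∑ j, e j * f j) ∈ nonZeroDivisors R := by
    intro f hf
    rw [hzd]
    intro i
    rw [← hunit, hsum, map_mul]
    exact ((hunit i _).mpr (he1 i)).mul ((hunit i _).mpr (hf i))
  rw [isLocalization_iff]
  refine ⟨?_, ?_, ?_⟩
  · intro y
    rw [Pi.isUnit_iff]
    intro i
    rw [Pi.algebraMap_apply, hunit]
    exact (hzd _).mp y.2 i
  · intro z
    have hz : ∀ i, ∃ x : R × (q i).primeCompl,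
        z i * algebraMap R (Localization.AtPrime (q i)) x.2 =
          algebraMap R (Localization.AtPrime (q i)) x.1 :=
      fun i => IsLocalization.surj (q i).primeCompl (z i)
    choose x hx using hz
    refine ⟨⟨∑ j, e j * (x j).1, ⟨∑ j, e j * ((x j).2 : R), hS _ (fun i => (x i).2.2)⟩⟩, ?_⟩
    funext i
    rw [Pi.mul_apply, Pi.algebraMap_apply, Pi.algebraMap_apply]
    change z i * algebraMap R (Localization.AtPrime (q i)) (∑ j, e j * ((x j).2 : R)) = _
    rw [hsum, hsum, map_mul, map_mul, mul_left_comm, hx i]
  · intro a b hab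
    have hu : ∀ i, ∃ u : (q i).primeCompl, (u : R) * a = u * b := by
      intro i
      have := congrFun hab i
      rw [Pi.algebraMap_apply, Pi.algebraMap_apply] at this
      exact (IsLocalization.eq_iff_exists (q i).primeCompl _).mp this
    choose u hu using hu
    refine ⟨⟨∑ j, e j * ((u j : R)), hS _ (fun i => (u i).2)⟩, ?_⟩
    change (∑ j, e j * ((u j : R))) * a = (∑ j, e j * ((u j : R))) * b
    rw [Finset.sum_mul, Finset.sum_mul]
    refine Finset.sum_congr rfl (fun j _ => ?_)
    rw [mul_assoc, mul_assoc, hu j]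

end Groth.Agent.S6294
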