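import Groth.Statements.S6295
import Mathlib

set_option autoImplicit false
universe u
open CAlg

namespace Groth.Agent.S6295

/-- Let R be a reduced ring. Then every localization R_p at a minimal prime p is a field and the map R →
∏_{p minimal} R_p is injective (so R is a subring of a product of fields); moreover the set of
zerodivisors of R is the union of the minimal primes. -/
theorem result (R : Type u) [CommRing R] [IsReduced R] : (∀ p : PrimeSpectrum R, p.asIdeal ∈ minimalPrimes R → IsField (Localization.AtPrime p.asIdeal)) ∧ Function.Injective (algebraMap R (∀ p : {p : PrimeSpectrum R // p.asIdeal ∈ minimalPrimes R}, Localization.AtPrime p.1.asIdeal)) ∧ (∀ x : R, x ∉ nonZeroDivisors R ↔ ∃ p ∈ minimalPrimes R, x ∈ p) := by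
  have hnil : ∀ y : R, (∀ p ∈ minimalPrimes R, y ∈ p) → y = 0 := by
    intro y hy
    have : y ∈ nilradical R := by
      rw [nilradical, ← Ideal.sInf_minimalPrimes]
      exact Submodule.mem_sInf.mpr fun (p : Ideal R) hp => hy p hp
    rw [nilradical_eq_zero] at this
    simpa using this
  refine ⟨?_, ?_, ?_⟩
  · intro p hp
    have hrad := IsLocalization.AtPrime.radical_map_of_mem_minimalPrimes
      (A := Localization.AtPrime p.asIdeal) p.asIdeal ⊥ hp
    rw [Ideal.map_bot, IsLocalization.AtPrime.map_eq_maximalIdeal] at hrad
    haveI : IsReduced (Localization.AtPrime p.asIdeal) := inferInstance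
    rw [IsLocalRing.isField_iff_maximalIdeal_eq, ← hrad]
    exact (Ideal.isRadical_bot (R := Localization.AtPrime p.asIdeal)).radical
  · rw [injective_iff_map_eq_zero]
    intro x hx
    apply hnil
    intro p hp
    haveI : p.IsPrime := hp.1.1
    have h1 := congrFun hx ⟨⟨p, hp.1.1⟩, hp⟩
    rw [Pi.algebraMap_apply, Pi.zero_apply] at h1
    obtain ⟨u, hu⟩ := (IsLocalization.map_eq_zero_iff p.primeCompl _ _).mp h1
    have : (u : R) * x ∈ p := hu ▸ p.zero_mem
    exact (Ideal.IsPrime.mem_or_mem ‹_› this).resolve_left u.2
  · intro x
    constructor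
    · intro hx
      by_contra hcon
      push Not at hcon
      apply hx
      rw [mem_nonZeroDivisors_iff_right]
      intro y hy
      apply hnil
      intro p hp
      have hpp : p.IsPrime := hp.1.1
      have : y * x ∈ p := hy ▸ p.zero_mem
      exact (hpp.mem_or_mem this).resolve_right (hcon p hp)
    · rintro ⟨p, hp, hxp⟩ hx
      exact Set.disjoint_left.mp (Ideal.disjoint_nonZeroDivisors_of_mem_minimalPrimes hp) hxp hx

end Groth.Agent.S6295
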