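import Groth.Statements.S6297
import Mathlib

set_option autoImplicit false
universe u
open CAlg

namespace Groth.Agent.S6297

/-- Let R be a ring, m ≤ n, A an n × m matrix over R and J the ideal generated by the m × m minors of A.
(1) For every f ∈ J there is an m × n matrix B with BA = f · 1. (2) If BA = f · 1 for some m × n
matrix B, then f^m ∈ J. -/
theorem result {R : Type u} [CommRing R] {n m : ℕ} (hmn : m ≤ n) (A : Matrix (Fin n) (Fin m) R) : (∀ f ∈ CAlgX.minorIdeal A m, ∃ B : Matrix (Fin m) (Fin n) R, B * A = f • (1 : Matrix (Fin m) (Fin m) R)) ∧ (∀ (f : R) (B : Matrix (Fin m) (Fin n) R), B * A = f • (1 : Matrix (Fin m) (Fin m) R) → f ^ m ∈ CAlgX.minorIdeal A m) := by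
  classical
  constructor
  · intro f hf
    unfold CAlgX.minorIdeal at hf
    refine Submodule.span_induction ?_ ?_ ?_ ?_ hf
    · rintro _ ⟨⟨r, c⟩, rfl⟩
      have h1 : A.submatrix r c =
          A.submatrix r id * (1 : Matrix (Fin m) (Fin m) R).submatrix id c := by
        ext i j
        simp [Matrix.mul_apply, Matrix.one_apply]
      have h2 : (1 : Matrix (Fin n) (Fin n) R).submatrix r id * A = A.submatrix r id := by
        ext i j
        simp [Matrix.mul_apply, Matrix.one_apply]
      refine ⟨(Matrix.det ((1 : Matrix (Fin m) (Fin m) R).submatrix id c)) •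
        ((A.submatrix r id).adjugate * (1 : Matrix (Fin n) (Fin n) R).submatrix r id), ?_⟩
      simp only
      rw [Matrix.smul_mul, Matrix.mul_assoc, h2, Matrix.adjugate_mul, h1, Matrix.det_mul,
        smul_smul, mul_comm]
    · exact ⟨0, by simp⟩
    · rintro x y _ _ ⟨B1, h1⟩ ⟨B2, h2⟩
      exact ⟨B1 + B2, by rw [Matrix.add_mul, h1, h2, add_smul]⟩
    · rintro a x _ ⟨B, h⟩
      exact ⟨a • B, by rw [Matrix.smul_mul, h, smul_smul, smul_eq_mul]⟩
  · intro f B hBA
    have hdet : (B * A).det =
        ∑ g : Fin m → Fin n, (∏ i, B i (g i)) * (A.submatrix g id).det := by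
      have hrow : (B * A) = fun i => ∑ k, B i k • A k := by
        ext i j
        simp [Matrix.mul_apply]
      have h1 := (Matrix.detRowAlternating (R := R) (n := Fin m)).toMultilinearMap.map_sum
        (fun i k => B i k • A k)
      change Matrix.detRowAlternating (B * A) = _
      rw [hrow]
      refine h1.trans ?_
      refine Finset.sum_congr rfl (fun g _ => ?_)
      have h2 := (Matrix.detRowAlternating (R := R) (n := Fin m)).toMultilinearMap.map_smul_univ
        (fun i => B i (g i)) (fun i => A (g i))
      exact h2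
    have hfm : f ^ m = (B * A).det := by
      rw [hBA, Matrix.det_smul, Matrix.det_one, mul_one, Fintype.card_fin]
    rw [hfm, hdet]
    refine Ideal.sum_mem _ (fun g _ => Ideal.mul_mem_left _ _ ?_)
    exact Ideal.subset_span ⟨(g, id), rfl⟩

end Groth.Agent.S6297
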