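import Groth.Statements.S6298
import Mathlib

set_option autoImplicit false
universe u
open CAlg

namespace Groth.Agent.S6298

/-- Let R be a ring, x ∈ R, I ⊆ R an ideal and p₁, …, p_r prime ideals such that for each i the coset x
+ I is not contained in p_i. Then there is y ∈ I with x + y ∉ p_i for all i. -/
theorem result {R : Type u} [CommRing R] (x : R) (I : Ideal R) {r : ℕ} (p : Fin r → Ideal R) [∀ i, (p i).IsPrime] (h : ∀ i, ∃ y ∈ I, x + y ∉ p i) : ∃ y ∈ I, ∀ i, x + y ∉ p i := by
  classical
  have aux : ∀ s : Finset (Ideal R), (∀ q ∈ s, q.IsPrime) → (∀ q ∈ s, ∃ y ∈ I, x + y ∉ q) →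
      ∃ y ∈ I, ∀ q ∈ s, x + y ∉ q := by
    intro s
    induction s using Finset.strongInduction with
    | H s ih =>
      intro hs h
      rcases s.eq_empty_or_nonempty with rfl | hne
      · exact ⟨0, I.zero_mem, by simp⟩
      · obtain ⟨P, hPs, hPmin⟩ := s.exists_minimal hne
        obtain ⟨y, hyI, hy⟩ := ih (s.erase P) (Finset.erase_ssubset hPs)
          (fun q hq => hs q (Finset.mem_of_mem_erase hq))
          (fun q hq => h q (Finset.mem_of_mem_erase hq))
        by_cases hxy : x + y ∈ P
        · have hPprime := hs P hPs
          have hIP : ¬ I ≤ P := by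
            intro hIP
            obtain ⟨y', hy'I, hy'⟩ := h P hPs
            apply hy'
            have hxP : x ∈ P := by
              have := P.sub_mem hxy (hIP hyI)
              simpa using this
            exact P.add_mem hxP (hIP hy'I)
          have hnot : ¬ (I * ∏ q ∈ s.erase P, q ≤ P) := by
            intro hle
            rcases (hPprime.mul_le).mp hle with h1 | h1
            · exact hIP h1
            · obtain ⟨q, hq, hqP⟩ := (hPprime.prod_le).mp h1
              have hqs := Finset.mem_of_mem_erase hq
              have hPq : P ≤ q := hPmin hqs hqP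
              exact (Finset.ne_of_mem_erase hq) (le_antisymm hqP hPq)
          obtain ⟨z, hz, hzP⟩ := SetLike.not_le_iff_exists.mp hnot
          refine ⟨y + z, I.add_mem hyI (Ideal.mul_le_left hz), ?_⟩
          intro q hq
          by_cases hqP : q = P
          · subst hqP
            intro hmem
            apply hzP
            have := q.sub_mem hmem hxy
            have h2 : x + (y + z) - (x + y) = z := by ring
            rwa [h2] at this
          · have hqe : q ∈ s.erase P := Finset.mem_erase.mpr ⟨hqP, hq⟩
            have hzq : z ∈ q :=
              (Ideal.prod_le_inf.trans (Finset.inf_le hqe)) (Ideal.mul_le_right hz)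
            intro hmem
            apply hy q hqe
            have := q.sub_mem hmem hzq
            have h2 : x + (y + z) - z = x + y := by ring
            rwa [h2] at this
        · refine ⟨y, hyI, ?_⟩
          intro q hq
          by_cases hqP : q = P
          · subst hqP
            exact hxy
          · exact hy q (Finset.mem_erase.mpr ⟨hqP, hq⟩)
  obtain ⟨y, hyI, hy⟩ := aux (Finset.univ.image p)
    (by
      intro q hq
      obtain ⟨i, -, rfl⟩ := Finset.mem_image.mp hq
      infer_instance)
    (by
      intro q hq
      obtain ⟨i, -, rfl⟩ := Finset.mem_image.mp hq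
      exact h i)
  exact ⟨y, hyI, fun i => hy (p i) (Finset.mem_image_of_mem p (Finset.mem_univ i))⟩

end Groth.Agent.S6298
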