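import Groth.Statements.S6302
import Groth.Agent.Helper3.UnivInj

set_option autoImplicit false
universe u
open CAlg

namespace Groth.Agent.S6302

/-- Let 0 → M₁ → M₂ → M₃ → 0 be a short exact sequence of R-modules with M₃ of finite presentation. If
the sequence is universally exact (its first map is universally injective) then it is split: M₂ → M₃
admits a section. (The converse, split implies universally exact, is elementary and not stated.) -/
theorem result {R : Type u} [CommRing R] {M₁ M₂ M₃ : Type u} [AddCommGroup M₁] [Module R M₁] [AddCommGroup M₂] [Module R M₂] [AddCommGroup M₃] [Module R M₃] [Module.FinitePresentation R M₃] (f : M₁ →ₗ[R] M₂) (g : M₂ →ₗ[R] M₃) (hexact : Function.Exact f g) (hg : Function.Surjective g) (hf : CAlgX.UniversallyInjective R f) : ∃ s : M₃ →ₗ[R] M₂, g.comp s = LinearMap.id := by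
  classical
  obtain ⟨n, m, π, A, hπ, hAπ⟩ := Module.FinitePresentation.exists_fin' R M₃
  -- matrix of A: a i j = A e_i j
  let a : Matrix (Fin m) (Fin n) R := fun i j => A (Pi.single i 1) j
  -- lifts of π(e_j)
  have hy : ∀ j : Fin n, ∃ y : M₂, g y = π (Pi.single j 1) := fun j => hg _
  choose y hy using hy
  have hπsum : ∀ x : Fin n → R, π x = ∑ j, x j • π (Pi.single j 1) := by
    intro x
    conv_lhs => rw [← Finset.univ_sum_single x]
    rw [map_sum]
    refine Finset.sum_congr rfl fun j _ => ?_
    rw [← map_smul]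
    congr 1
    funext k
    simp [Pi.single_apply]
  have hgy : ∀ x : Fin n → R, g (∑ j, x j • y j) = π x := by
    intro x
    rw [map_sum, hπsum]
    refine Finset.sum_congr rfl fun j _ => ?_
    rw [map_smul, hy]
  have hz : ∀ i : Fin m, ∃ z : M₁, f z = ∑ j, a i j • y j := by
    intro i
    apply (hexact _).1
    rw [hgy]
    exact hAπ.apply_apply_eq_zero _
  choose z hz using hz
  obtain ⟨w, hw⟩ := Groth.Agent.Helper3.purity f hf a z y (fun i => (hz i).symm)
  -- corrected lifts
  let y' : Fin n → M₂ := fun j => y j - f (w j)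
  let s' : (Fin n → R) →ₗ[R] M₂ := Fintype.linearCombination R y'
  have hs'_apply : ∀ x, s' x = ∑ j, x j • y' j := fun x => Fintype.linearCombination_apply R y' x
  have hgs' : ∀ x, g (s' x) = π x := by
    intro x
    rw [hs'_apply, ← hgy x, map_sum, map_sum]
    refine Finset.sum_congr rfl fun j _ => ?_
    simp only [y', smul_sub, map_sub, map_smul]
    rw [hexact.apply_apply_eq_zero, smul_zero, sub_zero]
  have hs'A : ∀ i, s' (A (Pi.single i 1)) = 0 := by
    intro i
    rw [hs'_apply]
    have : ∑ j, A (Pi.single i 1) j • y' j = ∑ j, a i j • y j - f (∑ j, a i j • w j) := by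
      rw [map_sum, ← Finset.sum_sub_distrib]
      refine Finset.sum_congr rfl fun j _ => ?_
      simp only [y', smul_sub, map_smul, a]
    rw [this, hw, hz, sub_self]
  have hs'ker : LinearMap.ker π ≤ LinearMap.ker s' := by
    intro x hx
    obtain ⟨c, rfl⟩ := (hAπ x).1 hx
    rw [LinearMap.mem_ker, ← LinearMap.comp_apply]
    have h0 : s'.comp A = 0 := by
      apply LinearMap.pi_ext'
      intro i
      apply LinearMap.ext_ring
      simpa using hs'A i
    rw [h0, LinearMap.zero_apply]
  -- descend
  let s : M₃ →ₗ[R] M₂ :=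
    ((LinearMap.ker π).liftQ s' hs'ker).comp (π.quotKerEquivOfSurjective hπ).symm.toLinearMap
  refine ⟨s, ?_⟩
  apply LinearMap.ext
  intro x
  obtain ⟨c, rfl⟩ := hπ x
  have : (π.quotKerEquivOfSurjective hπ).symm (π c) = Submodule.Quotient.mk c := by
    rw [LinearEquiv.symm_apply_eq]; rfl
  simp only [s, LinearMap.comp_apply, LinearEquiv.coe_coe, this, LinearMap.id_apply]
  exact hgs' c

end Groth.Agent.S6302
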