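import Groth.Statements.S6303
import Mathlib

set_option autoImplicit false
universe u
open CAlg

namespace Groth.Agent.S6303

/-- Let R be a ring, I, J ⊆ R ideals and M a flat R-module. Then IM ∩ JM = (I ∩ J)M. -/
theorem result {R : Type u} [CommRing R] (I J : Ideal R) (M : Type u) [AddCommGroup M] [Module R M] [Module.Flat R M] : (I • (⊤ : Submodule R M)) ⊓ (J • ⊤) = (I ⊓ J) • (⊤ : Submodule R M) := by
  apply le_antisymm
  · rintro x ⟨hxI, hxJ⟩
    rw [SetLike.mem_coe, ← Ideal.subtype_rTensor_range] at hxI
    obtain ⟨x', hx'⟩ := hxI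
    -- ψ : I → R/J
    let ψ : I →ₗ[R] (R ⧸ J) := (Submodule.mkQ J).comp I.subtype
    have h1 : ψ.rTensor M x' = 0 := by
      have h2 : ψ.rTensor M x' = ((Submodule.mkQ J).rTensor M) ((TensorProduct.lid R M).symm x) := by
        rw [← hx']
        simp only [ψ, LinearMap.rTensor_comp, LinearMap.comp_apply, LinearEquiv.coe_coe,
          LinearEquiv.symm_apply_apply]
      rw [h2]
      apply (TensorProduct.quotTensorEquivQuotSMul M J).injective
      rw [map_zero]
      have h3 := LinearMap.congr_fun (TensorProduct.quotTensorEquivQuotSMul_comp_mkQ_rTensor (M := M) J)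
        ((TensorProduct.lid R M).symm x)
      simp only [LinearMap.comp_apply, LinearEquiv.coe_coe, LinearEquiv.apply_symm_apply] at h3
      rw [h3]
      simpa using hxJ
    have hex : Function.Exact ((LinearMap.ker ψ).subtype.rTensor M) (ψ.rTensor M) :=
      Module.Flat.rTensor_exact M (LinearMap.exact_subtype_ker_map ψ)
    obtain ⟨x'', rfl⟩ := (hex x').1 h1
    let ρ : LinearMap.ker ψ →ₗ[R] (I ⊓ J : Ideal R) :=
      LinearMap.codRestrict _ (I.subtype.comp (LinearMap.ker ψ).subtype) (fun z => by
        refine ⟨z.1.2, ?_⟩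
        have hz : ψ z.1 = 0 := z.2
        simp only [ψ, LinearMap.comp_apply, Submodule.mkQ_apply, Submodule.subtype_apply] at hz
        exact (Submodule.Quotient.mk_eq_zero J).1 hz)
    have hρ : (I ⊓ J).subtype.comp ρ = I.subtype.comp (LinearMap.ker ψ).subtype := by
      ext z; rfl
    rw [← Ideal.subtype_rTensor_range]
    refine ⟨ρ.rTensor M x'', ?_⟩
    rw [← hx']
    simp only [LinearMap.comp_apply, LinearEquiv.coe_coe]
    rw [← LinearMap.comp_apply (LinearMap.rTensor M _), ← LinearMap.rTensor_comp, hρ,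
      LinearMap.rTensor_comp, LinearMap.comp_apply]
  · exact le_inf (Submodule.smul_mono_left inf_le_left) (Submodule.smul_mono_left inf_le_right)

end Groth.Agent.S6303
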