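import Groth.Statements.S6304
import Mathlib

set_option autoImplicit false
universe u
open CAlg

namespace Groth.Agent.S6304

/-- In a short exact sequence 0 → M' → M → M'' → 0 of R-modules whose right-hand term M'' is flat, the
middle term M is flat when M' is, and M' is flat when M is. -/
theorem result {R : Type u} [CommRing R] {M' M M'' : Type u} [AddCommGroup M'] [Module R M'] [AddCommGroup M] [Module R M] [AddCommGroup M''] [Module R M''] (f : M' →ₗ[R] M) (g : M →ₗ[R] M'') (hf : Function.Injective f) (hexact : Function.Exact f g) (hg : Function.Surjective g) [Module.Flat R M''] : (Module.Flat R M' → Module.Flat R M) ∧ (Module.Flat R M → Module.Flat R M') := by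
  have hinj : ∀ (A : Type u) [AddCommGroup A] [Module R A], Function.Injective (f.lTensor A) :=
    fun A _ _ => LinearMap.lTensor_injective_of_exact_of_flat g hg f hf hexact A
  have hsq : ∀ (I : Ideal R), (f.lTensor R).comp (I.subtype.rTensor M') = (I.subtype.rTensor M).comp (f.lTensor I) := by
    intro I
    rw [LinearMap.lTensor_comp_rTensor, LinearMap.rTensor_comp_lTensor]
  have hsq' : ∀ (I : Ideal R), (g.lTensor R).comp (I.subtype.rTensor M) = (I.subtype.rTensor M'').comp (g.lTensor I) := by
    intro I
    rw [LinearMap.lTensor_comp_rTensor, LinearMap.rTensor_comp_lTensor]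
  constructor
  · intro hM'
    rw [Module.Flat.iff_rTensor_injective']
    intro I
    rw [injective_iff_map_eq_zero]
    intro x hx
    have h1 : (I.subtype.rTensor M'') (g.lTensor I x) = 0 := by
      rw [← LinearMap.comp_apply, ← hsq', LinearMap.comp_apply, hx, map_zero]
    have h2 : g.lTensor I x = 0 :=
      (injective_iff_map_eq_zero _).1 (Module.Flat.iff_rTensor_injective'.1 inferInstance I) _ h1
    obtain ⟨y, rfl⟩ := (lTensor_exact I hexact hg _).1 h2
    have h3 : (f.lTensor R) (I.subtype.rTensor M' y) = 0 := by
      rw [← LinearMap.comp_apply, hsq, LinearMap.comp_apply, hx]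
    have h4 : I.subtype.rTensor M' y = 0 := (injective_iff_map_eq_zero _).1 (hinj R) _ h3
    have h5 : y = 0 :=
      (injective_iff_map_eq_zero _).1 (Module.Flat.iff_rTensor_injective'.1 hM' I) _ h4
    rw [h5, map_zero]
  · intro hM
    rw [Module.Flat.iff_rTensor_injective']
    intro I
    have h1 : Function.Injective ((f.lTensor R).comp (I.subtype.rTensor M')) := by
      rw [hsq]
      exact (Module.Flat.iff_rTensor_injective'.1 hM I).comp (hinj I)
    exact Function.Injective.of_comp h1

end Groth.Agent.S6304
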