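import Groth.Statements.S6305
import Groth.Agent.Helper3.UnivInj

set_option autoImplicit false
universe u
open CAlg

namespace Groth.Agent.S6305

/-- An R-module M is flat exactly when every short exact sequence 0 → M₁ → M₂ → M → 0 of R-modules is
universally exact, i.e. its first map M₁ → M₂ is universally injective. -/
theorem result {R : Type u} [CommRing R] (M : Type u) [AddCommGroup M] [Module R M] : Module.Flat R M ↔ ∀ (M₁ M₂ : Type u) [AddCommGroup M₁] [Module R M₁] [AddCommGroup M₂] [Module R M₂] (f : M₁ →ₗ[R] M₂) (g : M₂ →ₗ[R] M), Function.Injective f → Function.Exact f g → Function.Surjective g → CAlgX.UniversallyInjective R f := by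
  constructor
  · intro hM M₁ M₂ _ _ _ _ f g hf hexact hg Q _ _
    rw [← LinearMap.lTensor_inj_iff_rTensor_inj]
    exact LinearMap.lTensor_injective_of_exact_of_flat g hg f hf hexact Q
  · intro h
    have hg : Function.Surjective (Finsupp.linearCombination R (id : M → M)) :=
      Finsupp.linearCombination_surjective _ Function.surjective_id
    have hexact : Function.Exact (LinearMap.ker (Finsupp.linearCombination R (id : M → M))).subtype
        (Finsupp.linearCombination R (id : M → M)) := LinearMap.exact_subtype_ker_map _
    have hf := h (LinearMap.ker (Finsupp.linearCombination R (id : M → M))) (M →₀ R)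
      (LinearMap.ker (Finsupp.linearCombination R (id : M → M))).subtype
      (Finsupp.linearCombination R (id : M → M))
      (LinearMap.ker (Finsupp.linearCombination R (id : M → M))).subtype_injective hexact hg
    have := Groth.Agent.Helper3.flat_of_exact_of_rTensor_quotient_injective (R := R)
      (M₁ := LinearMap.ker (Finsupp.linearCombination R (id : M → M))) (M₂ := M →₀ R) (M₃ := M)
      (LinearMap.ker (Finsupp.linearCombination R (id : M → M))).subtype
      (Finsupp.linearCombination R (id : M → M)) hexact hg
    exact this (fun I _ => hf (R ⧸ I))

end Groth.Agent.S6305
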