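import Groth.Statements.S6308
import Mathlib

set_option autoImplicit false
universe u
open scoped TensorProduct
open CAlg

namespace Groth.Agent.S6308

/-- Let R be a ring and φ : M → N a map of R-modules with N finite. For a prime p, the localization φ_p
: M_p → N_p is surjective if and only if φ ⊗ κ(p) : M ⊗ κ(p) → N ⊗ κ(p) is surjective; the set U of
such primes is open in Spec(R); and for every f ∈ R with D(f) ⊆ U the map M_f → N_f is surjective. -/
theorem result {R : Type u} [CommRing R] {M N : Type u} [AddCommGroup M] [Module R M] [AddCommGroup N] [Module R N] [Module.Finite R N] (φ : M →ₗ[R] N) : (∀ p : PrimeSpectrum R, Function.Surjective (LocalizedModule.map p.asIdeal.primeCompl φ) ↔ Function.Surjective (φ.lTensor p.asIdeal.ResidueField)) ∧ IsOpen {p : PrimeSpectrum R | Function.Surjective (LocalizedModule.map p.asIdeal.primeCompl φ)} ∧ (∀ f : R, (↑(PrimeSpectrum.basicOpen f) : Set (PrimeSpectrum R)) ⊆ {p : PrimeSpectrum R | Function.Surjective (LocalizedModule.map p.asIdeal.primeCompl φ)} → Function.Surjective (LocalizedModule.map (Submonoid.powers f) φ)) := by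
  have hB : ∀ (K : Type u) [AddCommGroup K] [Module R K],
      Function.Surjective (φ.lTensor K) ↔ Subsingleton (K ⊗[R] (N ⧸ LinearMap.range φ)) := by
    intro K _ _
    have hex : Function.Exact φ (LinearMap.range φ).mkQ := LinearMap.exact_map_mkQ_range φ
    have hπ : Function.Surjective (LinearMap.range φ).mkQ := Submodule.mkQ_surjective _
    have hex' := lTensor_exact K hex hπ
    have hπ' := LinearMap.lTensor_surjective K hπ
    constructor
    · intro hs
      have h0 : ∀ c : K ⊗[R] (N ⧸ LinearMap.range φ), c = 0 := by
        intro c
        obtain ⟨n, rfl⟩ := hπ' c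
        obtain ⟨m, rfl⟩ := hs n
        exact hex'.apply_apply_eq_zero m
      exact ⟨fun a b => by rw [h0 a, h0 b]⟩
    · intro hsub n
      have h0 : (LinearMap.range φ).mkQ.lTensor K n = 0 := Subsingleton.elim _ _
      exact (hex' n).mp h0
  have hU : {p : PrimeSpectrum R |
      Function.Surjective (LocalizedModule.map p.asIdeal.primeCompl φ)} =
      (Module.support R (N ⧸ LinearMap.range φ))ᶜ := by
    ext p
    rw [Set.mem_ofPred_eq, Set.mem_compl_iff,
      LinearMap.localizedMap_surjective_iff_subsingleton_localized_coker,
      Module.notMem_support_iff]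
  refine ⟨?_, ?_, ?_⟩
  · intro p
    rw [LinearMap.localizedMap_surjective_iff_subsingleton_localized_coker, hB,
      ← Module.notMem_support_iff, Module.mem_support_iff_nontrivial_residueField_tensorProduct,
      not_nontrivial_iff_subsingleton]
  · rw [hU]
    exact Module.isClosed_support.isOpen_compl
  · intro f hf
    rw [hU] at hf
    rw [LinearMap.localizedMap_surjective_iff_subsingleton_localized_coker]
    apply LocalizedModule.subsingleton_iff_support_subset.mpr
    intro p hp
    rw [PrimeSpectrum.mem_zeroLocus, Set.singleton_subset_iff]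
    by_contra hfp
    exact hf (show p ∈ (PrimeSpectrum.basicOpen f : Set (PrimeSpectrum R)) from hfp) hp

end Groth.Agent.S6308
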