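import Groth.Statements.S6310
import Mathlib

set_option autoImplicit false
universe u
open scoped TensorProduct
open CAlg

namespace Groth.Agent.S6310

/-- Let R be a ring, S ⊆ R a multiplicative subset, I ⊆ R an ideal and M a finite R-module. If x₁, …,
x_r ∈ M have images generating S⁻¹(M/IM) as an S⁻¹R-module, then there is f ∈ S + I (f = s + i with
s ∈ S, i ∈ I) such that x₁, …, x_r generate M_f as an R_f-module. -/
theorem result {R : Type u} [CommRing R] (S : Submonoid R) (I : Ideal R) (M : Type u) [AddCommGroup M] [Module R M] [Module.Finite R M] {r : ℕ} (x : Fin r → M) (hx : Submodule.span (Localization S) (Set.range fun j => LocalizedModule.mkLinearMap S (M ⧸ (I • (⊤ : Submodule R M))) (Submodule.Quotient.mk (x j))) = ⊤) : ∃ (s : R) (i : R), s ∈ S ∧ i ∈ I ∧ Submodule.span (Localization.Away (s + i)) (Set.range fun j => LocalizedModule.mkLinearMap (Submonoid.powers (s + i)) M (x j)) = ⊤ := by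
  classical
  set X : Submodule R M := Submodule.span R (Set.range x) with hX
  set IM : Submodule R M := I • (⊤ : Submodule R M) with hIM
  let q : M →ₗ[R] (M ⧸ IM) := IM.mkQ
  let f := LocalizedModule.mkLinearMap S (M ⧸ IM)
  -- Step A: for each m, some s ∈ S with s • m ∈ X ⊔ IM
  have hA : ∀ m : M, ∃ s : R, s ∈ S ∧ s • m ∈ X ⊔ IM := by
    intro m
    have hset : (Set.range fun j => f (Submodule.Quotient.mk (x j))) = f '' (q '' Set.range x) := by
      ext z
      constructor
      · rintro ⟨j, rfl⟩
        exact ⟨q (x j), ⟨x j, ⟨j, rfl⟩, rfl⟩, rfl⟩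
      · rintro ⟨_, ⟨_, ⟨j, rfl⟩, rfl⟩, rfl⟩
        exact ⟨j, rfl⟩
    have hm : f (q m) ∈ Submodule.span (Localization S) (f '' (q '' Set.range x)) := by
      rw [← hset]
      have := hx
      rw [this]
      exact Submodule.mem_top
    rw [← Submodule.localized'_span (Localization S) S f, Submodule.mem_localized'] at hm
    obtain ⟨m', hm', t, ht⟩ := hm
    rw [IsLocalizedModule.mk'_eq_iff] at ht
    -- f m' = t • f (q m) = f (t • q m)
    have ht' : f m' = f ((t : R) • q m) := by
      rw [ht, map_smul]
      rfl
    obtain ⟨u, hu⟩ := (IsLocalizedModule.eq_iff_exists S f).1 ht'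
    refine ⟨(u : R) * (t : R), S.mul_mem u.2 t.2, ?_⟩
    -- (u t) • q m = u • m' ∈ span (q '' range x) = map q X
    have h1 : ((u : R) * (t : R)) • q m ∈ Submodule.map q X := by
      rw [mul_smul]
      have : (u : R) • ((t : R) • q m) = (u : R) • m' := hu.symm
      rw [this, hX, Submodule.map_span]
      exact Submodule.smul_mem _ _ hm'
    obtain ⟨y, hy, hyq⟩ := h1
    have h2 : ((u : R) * (t : R)) • m - y ∈ IM := by
      rw [← Submodule.ker_mkQ IM, LinearMap.mem_ker, map_sub, map_smul]
      change ((u : R) * (t : R)) • q m - q y = 0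
      rw [hyq, sub_self]
    have : ((u : R) * (t : R)) • m = y + (((u : R) * (t : R)) • m - y) := by abel
    rw [this]
    exact Submodule.add_mem _ (Submodule.mem_sup_left hy) (Submodule.mem_sup_right h2)
  -- uniform s
  obtain ⟨s, hsS, hs⟩ : ∃ s : R, s ∈ S ∧ ∀ m : M, s • m ∈ X ⊔ IM := by
    obtain ⟨T, hT⟩ := (Module.Finite.fg_top : (⊤ : Submodule R M).FG)
    choose sm hsmS hsm using hA
    refine ⟨∏ m ∈ T, sm m, S.prod_mem (fun m _ => hsmS m), ?_⟩
    intro m
    have hm : m ∈ Submodule.span R (T : Set M) := hT ▸ Submodule.mem_top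
    induction hm using Submodule.span_induction with
    | mem m hm =>
      rw [← Finset.mul_prod_erase T sm hm, mul_comm, mul_smul]
      exact Submodule.smul_mem _ _ (hsm m)
    | zero => simp
    | add a b _ _ ha hb => rw [smul_add]; exact Submodule.add_mem _ ha hb
    | smul t a _ ha => rw [smul_comm]; exact Submodule.smul_mem _ _ ha
  -- Step B: Cayley–Hamilton on N = M / X
  let N := M ⧸ X
  let φ : Module.End R N := s • LinearMap.id
  have hφ : LinearMap.range φ ≤ I • (⊤ : Submodule R N) := by
    rintro _ ⟨n, rfl⟩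
    obtain ⟨m, rfl⟩ := Submodule.Quotient.mk_surjective X n
    change s • (Submodule.Quotient.mk m : N) ∈ _
    rw [← Submodule.Quotient.mk_smul]
    obtain ⟨y, hy, z, hz, hyz⟩ := Submodule.mem_sup.1 (hs m)
    rw [← hyz, Submodule.Quotient.mk_add, (Submodule.Quotient.mk_eq_zero X).2 hy, zero_add]
    -- z ∈ I • ⊤ maps into I • ⊤
    have : (Submodule.Quotient.mk z : N) ∈ Submodule.map X.mkQ IM := ⟨z, hz, rfl⟩
    rw [hIM, Submodule.map_smul''] at this
    exact Submodule.smul_mono le_rfl le_top this
  obtain ⟨p, hpm, -, hpc, hp0⟩ :=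
    LinearMap.exists_monic_and_natDegree_eq_and_coeff_mem_pow_and_aeval_eq_zero R φ I hφ
  set d := p.natDegree with hd
  have hφalg : φ = algebraMap R (Module.End R N) s := by
    ext n
    rfl
  have hkill : ∀ n : N, (p.eval s) • n = 0 := by
    intro n
    rw [hφalg, Polynomial.aeval_algebraMap_apply] at hp0
    have := LinearMap.congr_fun hp0 n
    simpa [Module.algebraMap_end_apply] using this
  have heval : p.eval s = s ^ d + ∑ k ∈ Finset.range d, p.coeff k * s ^ k := by
    rw [Polynomial.eval_eq_sum_range, Finset.sum_range_succ, ← hd, hpm.coeff_natDegree, one_mul,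
      add_comm]
  set i : R := ∑ k ∈ Finset.range d, p.coeff k * s ^ k with hi
  have hiI : i ∈ I := by
    refine I.sum_mem (fun k hk => I.mul_mem_right _ ?_)
    have hk' : k < d := Finset.mem_range.1 hk
    exact Ideal.pow_le_self (by omega) (hpc k)
  refine ⟨s ^ d, i, S.pow_mem hsS d, hiI, ?_⟩
  set F : R := s ^ d + i with hF
  have hFM : ∀ m : M, F • m ∈ X := by
    intro m
    have := hkill (Submodule.Quotient.mk m)
    rw [heval, ← Submodule.Quotient.mk_smul, Submodule.Quotient.mk_eq_zero] at this
    exact this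
  -- Step C
  let g := LocalizedModule.mkLinearMap (Submonoid.powers F) M
  have hgX : ∀ y ∈ X, g y ∈ Submodule.span (Localization.Away F) (Set.range fun j => g (x j)) := by
    intro y hy
    induction hy using Submodule.span_induction with
    | mem y hy =>
      obtain ⟨j, rfl⟩ := hy
      exact Submodule.subset_span ⟨j, rfl⟩
    | zero => rw [map_zero]; exact Submodule.zero_mem _
    | add a b _ _ ha hb => rw [map_add]; exact Submodule.add_mem _ ha hb
    | smul r a _ ha =>
      rw [map_smul, ← algebraMap_smul (Localization.Away F) r]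
      exact Submodule.smul_mem _ _ ha
  rw [eq_top_iff]
  intro z _
  induction z using LocalizedModule.induction_on with
  | h m t =>
    have h1 : LocalizedModule.mk m t =
        (Localization.mk 1 (⟨F, Submonoid.mem_powers F⟩ * t) : Localization.Away F) •
          (LocalizedModule.mk (F • m) 1 : LocalizedModule (Submonoid.powers F) M) := by
      rw [LocalizedModule.mk_smul_mk, one_smul, mul_one]
      exact (LocalizedModule.mk_cancel_common_left
        (⟨F, Submonoid.mem_powers F⟩ : Submonoid.powers F) t m).symm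
    rw [h1]
    exact Submodule.smul_mem _ _ (hgX _ (hFM m))

end Groth.Agent.S6310
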