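import Groth.Statements.S6328
import Mathlib
import Groth.Agent.Helper3.DirLimFP

set_option autoImplicit false
universe u
open scoped TensorProduct
open CAlg

namespace Groth.Agent.S6328

/-- Every module M over a ring R can be written as the direct limit of a directed system (Mᵢ, μᵢⱼ) of
finitely presented R-modules. -/
theorem result (R : Type u) [CommRing R] (M : Type u) [AddCommGroup M] [Module R M] : ∃ (ι : Type u) (_ : Preorder ι) (_ : IsDirected ι (· ≤ ·)) (_ : Nonempty ι) (_ : DecidableEq ι) (G : ι → Type u) (_ : ∀ i, AddCommGroup (G i)) (_ : ∀ i, Module R (G i)) (f : ∀ i j, i ≤ j → G i →ₗ[R] G j) (_ : DirectedSystem G fun i j h => f i j h), (∀ i, Module.FinitePresentation R (G i)) ∧ Nonempty (Module.DirectLimit G f ≃ₗ[R] M) := by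
  classical
  exact ⟨Groth.Agent.Helper3.DirLimFP.Idx R M, inferInstance, inferInstance, inferInstance,
    Classical.decEq _, Groth.Agent.Helper3.DirLimFP.G R M, inferInstance, inferInstance,
    Groth.Agent.Helper3.DirLimFP.f R M, inferInstance, inferInstance,
    ⟨LinearEquiv.ofBijective (Groth.Agent.Helper3.DirLimFP.lim R M)
      (Groth.Agent.Helper3.DirLimFP.lim_bijective R M)⟩⟩

end Groth.Agent.S6328
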