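import Groth.Statements.S6330
import Mathlib
import Groth.Agent.S6308

set_option autoImplicit false
universe u
open scoped TensorProduct
open CAlg

namespace Groth.Agent.S6330

/-- Let R be a ring and φ : P₁ → P₂ a map of finite projective R-modules. The set W of primes p of R
such that φ ⊗ κ(p) is surjective is open, and for every f ∈ R with D(f) ⊆ W the map (P₁)_f → (P₂)_f
is surjective and Ker(φ)_f is a finite projective module over R_f. -/
theorem result {R : Type u} [CommRing R] {P₁ P₂ : Type u} [AddCommGroup P₁] [Module R P₁] [AddCommGroup P₂] [Module R P₂] [Module.Finite R P₁] [Module.Projective R P₁] [Module.Finite R P₂] [Module.Projective R P₂] (φ : P₁ →ₗ[R] P₂) : IsOpen {p : PrimeSpectrum R | Function.Surjective (φ.lTensor p.asIdeal.ResidueField)} ∧ ∀ f : R, (↑(PrimeSpectrum.basicOpen f) : Set (PrimeSpectrum R)) ⊆ {p : PrimeSpectrum R | Function.Surjective (φ.lTensor p.asIdeal.ResidueField)} → Function.Surjective (LocalizedModule.map (Submonoid.powers f) φ) ∧ Module.Finite (Localization.Away f) (LocalizedModule (Submonoid.powers f) (LinearMap.ker φ)) ∧ Module.Projective (Localization.Away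 f) (LocalizedModule (Submonoid.powers f) (LinearMap.ker φ)) := by
  obtain ⟨ha, hb, hc⟩ := Groth.Agent.S6308.result φ
  have hW : {p : PrimeSpectrum R | Function.Surjective (φ.lTensor p.asIdeal.ResidueField)} =
      {p : PrimeSpectrum R |
        Function.Surjective (LocalizedModule.map p.asIdeal.primeCompl φ)} := by
    ext p
    exact (ha p).symm
  refine ⟨hW ▸ hb, ?_⟩
  intro f hf
  rw [hW] at hf
  have hsurj := hc f hf
  refine ⟨hsurj, ?_⟩
  have hinj : Function.Injective
      (LocalizedModule.map (Submonoid.powers f) (LinearMap.ker φ).subtype) :=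
    IsLocalizedModule.map_injective (Submonoid.powers f) _ _ _ (Submodule.subtype_injective _)
  have hex : Function.Exact (LocalizedModule.map (Submonoid.powers f) (LinearMap.ker φ).subtype)
      (LocalizedModule.map (Submonoid.powers f) φ) :=
    LocalizedModule.map_exact (Submonoid.powers f) _ _ (LinearMap.exact_subtype_ker_map φ)
  obtain ⟨s, hs⟩ := Module.projective_lifting_property
    (LocalizedModule.map (Submonoid.powers f) φ) LinearMap.id hsurj
  have hrange : LinearMap.range
      (LocalizedModule.map (Submonoid.powers f) (LinearMap.ker φ).subtype) =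
      LinearMap.ker (LocalizedModule.map (Submonoid.powers f) φ) :=
    (LinearMap.exact_iff.mp hex).symm
  let e : LocalizedModule (Submonoid.powers f) (LinearMap.ker φ) ≃ₗ[Localization.Away f]
      LinearMap.ker (LocalizedModule.map (Submonoid.powers f) φ) :=
    (LinearEquiv.ofInjective _ hinj).trans (LinearEquiv.ofEq _ _ hrange)
  let pr : LocalizedModule (Submonoid.powers f) P₁ →ₗ[Localization.Away f]
      LinearMap.ker (LocalizedModule.map (Submonoid.powers f) φ) :=
    (LinearMap.id - s ∘ₗ (LocalizedModule.map (Submonoid.powers f) φ)).codRestrict _ (by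
      intro x
      rw [LinearMap.mem_ker, LinearMap.sub_apply, map_sub, LinearMap.id_apply,
        LinearMap.comp_apply]
      have := LinearMap.congr_fun hs (LocalizedModule.map (Submonoid.powers f) φ x)
      rw [LinearMap.comp_apply, LinearMap.id_apply] at this
      rw [this, sub_self])
  have hpr : pr ∘ₗ (LinearMap.ker (LocalizedModule.map (Submonoid.powers f) φ)).subtype =
      LinearMap.id := by
    ext ⟨x, hx⟩
    simp [pr, LinearMap.mem_ker.mp hx]
  have hfin : Module.Finite (Localization.Away f)
      (LinearMap.ker (LocalizedModule.map (Submonoid.powers f) φ)) :=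
    Module.Finite.of_surjective pr (fun x => ⟨x, LinearMap.congr_fun hpr x⟩)
  have hproj : Module.Projective (Localization.Away f)
      (LinearMap.ker (LocalizedModule.map (Submonoid.powers f) φ)) :=
    Module.Projective.of_split _ pr hpr
  exact ⟨Module.Finite.equiv e.symm, Module.Projective.of_equiv e.symm⟩

end Groth.Agent.S6330
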