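import Groth.Statements.S6331
import Mathlib

set_option autoImplicit false
universe u
open CAlg

namespace Groth.Agent.S6331

/-- Let R be a ring, I ⊆ R an ideal all of whose elements are nilpotent, and n ≥ 1 an integer whose
image in R/I is invertible. Then (1) raising to the n-th power is a bijection of the subset 1 + I of
R onto itself: for every y ∈ I there is exactly one x ∈ I with (1 + x)ⁿ = 1 + y; (2) a unit u of R
has an n-th root in R exactly when the residue class of u has an n-th root in R/I. -/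
theorem result {R : Type u} [CommRing R] (I : Ideal R) (hI : ∀ x ∈ I, IsNilpotent x) (n : ℕ) (hn : 1 ≤ n) (hinv : IsUnit ((n : ℕ) : R ⧸ I)) : (∀ y ∈ I, ∃! x : R, x ∈ I ∧ (1 + x) ^ n = 1 + y) ∧ (∀ u : Rˣ, (∃ v : R, v ^ n = (u : R)) ↔ ∃ w : R ⧸ I, w ^ n = Ideal.Quotient.mk I (u : R)) := by
  have hnu : IsUnit (n : R) := by
    obtain ⟨m', hm'⟩ := hinv.exists_right_inv
    obtain ⟨m, rfl⟩ := Ideal.Quotient.mk_surjective m'
    have h1 : (n : R) * m - 1 ∈ I := by
      rw [← Ideal.Quotient.eq_zero_iff_mem, map_sub, map_mul, map_natCast, hm', map_one, sub_self]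
    have h2 : IsUnit ((n : R) * m) := by
      have h3 := (hI _ h1).isUnit_add_one
      rwa [sub_add_cancel] at h3
    exact isUnit_of_mul_isUnit_left h2
  have hunit1 : ∀ x ∈ I, IsUnit (1 + x) := fun x hx => (hI x hx).isUnit_one_add
  have hex : ∀ y ∈ I, ∃ x ∈ I, (1 + x) ^ n = 1 + y := by
    intro y hy
    have key : ∀ k : ℕ, ∃ x ∈ I, ∃ r : R, 1 + y - (1 + x) ^ n = r * y ^ (2 ^ k) := by
      intro k
      induction k with
      | zero => exact ⟨0, I.zero_mem, 1, by simp⟩
      | succ k ih =>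
        obtain ⟨x, hx, r, hr⟩ := ih
        have hd : IsUnit ((n : R) * (1 + x) ^ (n - 1)) := hnu.mul ((hunit1 x hx).pow _)
        obtain ⟨dinv, hdd⟩ := hd.exists_right_inv
        obtain ⟨q, hq⟩ := Polynomial.binomExpansion (Polynomial.X ^ n : Polynomial R) (1 + x)
          (r * y ^ (2 ^ k) * dinv)
        simp only [Polynomial.eval_pow, Polynomial.eval_X, Polynomial.derivative_X_pow,
          Polynomial.eval_mul, Polynomial.eval_C] at hq
        refine ⟨x + r * y ^ (2 ^ k) * dinv, I.add_mem hx (I.mul_mem_right _ (I.mul_mem_left _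
          (I.pow_mem_of_mem hy _ (by positivity)))), -q * dinv ^ 2 * r ^ 2, ?_⟩
        have hY : y ^ 2 ^ (k + 1) = (y ^ 2 ^ k) ^ 2 := by rw [pow_succ, pow_mul]
        rw [hY]
        have hq' : (1 + (x + r * y ^ (2 ^ k) * dinv)) ^ n = (1 + x) ^ n +
            (n : R) * (1 + x) ^ (n - 1) * (r * y ^ (2 ^ k) * dinv) +
            q * (r * y ^ (2 ^ k) * dinv) ^ 2 := by
          rw [← hq, add_assoc]
        linear_combination (-1 : R) * hq' + hr - r * y ^ (2 ^ k) * hdd
    obtain ⟨N, hN⟩ := hI y hy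
    obtain ⟨x, hx, r, hr⟩ := key N
    refine ⟨x, hx, ?_⟩
    have h0 : y ^ 2 ^ N = 0 := pow_eq_zero_of_le (Nat.lt_two_pow_self).le hN
    rw [h0, mul_zero, sub_eq_zero] at hr
    exact hr.symm
  have huniq : ∀ x ∈ I, ∀ x' ∈ I, (1 + x) ^ n = (1 + x') ^ n → x = x' := by
    intro x hx x' hx' h
    have hg := geom_sum₂_mul (1 + x) (1 + x') n
    rw [h, sub_self] at hg
    have hGI : (∑ i ∈ Finset.range n, (1 + x) ^ i * (1 + x') ^ (n - 1 - i)) - (n : R) ∈ I := by
      rw [← Ideal.Quotient.eq_zero_iff_mem, map_sub, map_sum, map_natCast]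
      have : ∀ i ∈ Finset.range n, Ideal.Quotient.mk I ((1 + x) ^ i * (1 + x') ^ (n - 1 - i)) =
          1 := by
        intro i _
        rw [map_mul, map_pow, map_pow, map_add, map_add, map_one,
          Ideal.Quotient.eq_zero_iff_mem.mpr hx, Ideal.Quotient.eq_zero_iff_mem.mpr hx',
          add_zero, one_pow, one_pow, one_mul]
      rw [Finset.sum_congr rfl this]
      simp
    have hGu : IsUnit (∑ i ∈ Finset.range n, (1 + x) ^ i * (1 + x') ^ (n - 1 - i)) := by
      have := IsNilpotent.isUnit_add_left_of_commute (hI _ hGI) hnu (Commute.all _ _)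
      rwa [add_sub_cancel] at this
    have h1 := hGu.mul_right_eq_zero.mp hg
    linear_combination h1
  refine ⟨?_, ?_⟩
  · intro y hy
    obtain ⟨x, hx, hxy⟩ := hex y hy
    refine ⟨x, ⟨hx, hxy⟩, ?_⟩
    rintro x' ⟨hx', hxy'⟩
    exact huniq x' hx' x hx (hxy'.trans hxy.symm)
  · intro u
    constructor
    · rintro ⟨v, hv⟩
      exact ⟨Ideal.Quotient.mk I v, by rw [← map_pow, hv]⟩
    · rintro ⟨w, hw⟩
      obtain ⟨w₀, rfl⟩ := Ideal.Quotient.mk_surjective w
      have h1 : w₀ ^ n - (u : R) ∈ I := by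
        rw [← Ideal.Quotient.eq_zero_iff_mem, map_sub, map_pow, hw, sub_self]
      have h2 : IsUnit (w₀ ^ n) := by
        have := IsNilpotent.isUnit_add_left_of_commute (hI _ h1) u.isUnit (Commute.all _ _)
        rwa [add_sub_cancel] at this
      obtain ⟨c, hc⟩ := h2.exists_right_inv
      have h3 : (u : R) * c - 1 ∈ I := by
        have : (u : R) * c - 1 = -(w₀ ^ n - (u : R)) * c := by
          linear_combination hc
        rw [this]
        exact I.mul_mem_right _ (I.neg_mem h1)
      obtain ⟨x, hx, hxy⟩ := hex _ h3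
      refine ⟨w₀ * (1 + x), ?_⟩
      rw [mul_pow, hxy]
      linear_combination (u : R) * hc

end Groth.Agent.S6331
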