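import Groth.Statements.S6332
import Mathlib
open IntermediateField
-- import your own Groth.Agent.* helpers here

set_option autoImplicit false
universe u
open Fields

namespace Groth.Agent.S6332

open IntermediateField in
/-- Let L/K be a finite Galois extension of fields of characteristic p > 0 whose degree equals the prime
p (equivalently, the Galois group is cyclic of order p). Then there is an element z of L with z ^ p
- z in K which generates L over K. -/
theorem result {K L : Type u} [Field K] [Field L] [Algebra K L] (p : ℕ)
    [Fact p.Prime] [CharP K p] [FiniteDimensional K L] [IsGalois K L]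
    (hdeg : Module.finrank K L = p) :
    ∃ z : L, z ^ p - z ∈ Set.range (algebraMap K L) ∧ K⟮z⟯ = ⊤ := by
  classical
  have hp : p.Prime := Fact.out
  haveI : CharP L p := charP_of_injective_algebraMap (algebraMap K L).injective p
  have hcard : Nat.card (L ≃ₐ[K] L) = p := by rw [IsGalois.card_aut_eq_finrank, hdeg]
  haveI : IsCyclic (L ≃ₐ[K] L) := isCyclic_of_prime_card hcard
  obtain ⟨σ, hσ⟩ := IsCyclic.exists_generator (α := L ≃ₐ[K] L)
  have hord : orderOf σ = p := by
    rw [orderOf_eq_card_of_forall_mem_zpowers hσ, hcard]
  have hσp : σ ^ p = 1 := by rw [← hord]; exact pow_orderOf_eq_one σ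
  -- trace one
  obtain ⟨θ, hθ⟩ := Algebra.trace_surjective K L 1
  let a : ℕ → L := fun i => (σ ^ i) θ
  have hap : a p = a 0 := by
    show (σ ^ p) θ = (σ ^ 0) θ
    rw [hσp, pow_zero]
  have htr : ∑ i ∈ Finset.range p, a i = 1 := by
    have h1 := trace_eq_sum_automorphisms (K := K) θ
    rw [hθ, map_one] at h1
    rw [h1]
    have himg : Finset.image (fun i => σ ^ i) (Finset.range (orderOf σ)) = Finset.univ := by
      ext τ
      simp only [Finset.mem_image, Finset.mem_range, Finset.mem_univ, iff_true]
      have := hσ τ
      rw [mem_zpowers_iff_mem_range_orderOf] at this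
      simpa using this
    rw [← himg, Finset.sum_image, hord]
    intro i hi j hj hij
    exact pow_injOn_Iio_orderOf (by simpa using hi) (by simpa using hj) hij
  let z : L := ∑ i ∈ Finset.range p, (i : L) * a i
  have hσa : ∀ i, σ (a i) = a (i + 1) := by
    intro i
    simp only [a, pow_succ', AlgEquiv.mul_apply]
  have hσz : σ z = ∑ i ∈ Finset.range p, (i : L) * a (i + 1) := by
    simp only [z, map_sum, map_mul, map_natCast, hσa]
  have h1 : ∑ i ∈ Finset.range p, ((i + 1 : ℕ) : L) * a (i + 1) = z := by
    have e1 := Finset.sum_range_succ' (fun j => ((j : ℕ) : L) * a j) p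
    have e2 := Finset.sum_range_succ (fun j => ((j : ℕ) : L) * a j) p
    simp only [Nat.cast_zero, zero_mul, add_zero] at e1
    rw [CharP.cast_eq_zero L p, zero_mul, add_zero] at e2
    rw [← e1, e2]
  have h2 : ∑ i ∈ Finset.range p, a (i + 1) = 1 := by
    have e1 := Finset.sum_range_succ' a p
    have e2 := Finset.sum_range_succ a p
    rw [hap] at e2
    rw [← htr]
    have := e1.symm.trans e2
    exact add_right_cancel this
  have hσz' : σ z = z - 1 := by
    rw [eq_sub_iff_add_eq]
    calc σ z + 1 = ∑ i ∈ Finset.range p, (i : L) * a (i + 1) + ∑ i ∈ Finset.range p, a (i + 1) := by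
          rw [hσz, h2]
      _ = ∑ i ∈ Finset.range p, ((i + 1 : ℕ) : L) * a (i + 1) := by
          rw [← Finset.sum_add_distrib]
          apply Finset.sum_congr rfl
          intro i _
          push_cast
          ring
      _ = z := h1
  refine ⟨z, ?_, ?_⟩
  · rw [IsGalois.mem_range_algebraMap_iff_fixed]
    intro τ
    have hτ := hσ τ
    obtain ⟨n, rfl⟩ := Subgroup.mem_zpowers_iff.1 hτ
    have hfix : σ (z ^ p - z) = z ^ p - z := by
      rw [map_sub, map_pow, hσz', sub_pow_char, one_pow]
      ring
    have hmem : σ ∈ MulAction.stabilizer (L ≃ₐ[K] L) (z ^ p - z) := by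
      rw [MulAction.mem_stabilizer_iff]
      exact hfix
    have := (Subgroup.zpowers_le.2 hmem) (Subgroup.zpow_mem_zpowers σ n)
    rw [MulAction.mem_stabilizer_iff] at this
    exact this
  · haveI := IntermediateField.isSimpleOrder_of_finrank_prime K L (hdeg ▸ hp)
    rcases eq_bot_or_eq_top K⟮z⟯ with h | h
    · exfalso
      have hz : z ∈ (⊥ : IntermediateField K L) := by
        rw [← h]; exact IntermediateField.mem_adjoin_simple_self K z
      rw [IntermediateField.mem_bot] at hz
      obtain ⟨c, hc⟩ := hz
      rw [← hc, AlgEquiv.commutes] at hσz'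
      have : (1 : L) = 0 := sub_eq_self.1 hσz'.symm
      exact one_ne_zero this
    · exact h

end Groth.Agent.S6332
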