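import Groth.Statements.S6335
import Mathlib

set_option autoImplicit false
universe u
open scoped TensorProduct
open Fields

namespace Groth.Agent.S6335

/-- Let K be a field of characteristic p > 0, L/K a separable algebraic extension and a an element of L.
If a is a root of a polynomial P over K which is separable (pairwise distinct roots in an algebraic
closure) and all of whose coefficients are p-th powers in K, then a is a p-th power in L. (Part (1),
the case where P is the minimal polynomial of a, is a special case.) -/
theorem result {K L : Type u} [Field K] [Field L] [Algebra K L]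
    (p : ℕ) [Fact p.Prime] [CharP K p] [Algebra.IsSeparable K L] (a : L) (P : Polynomial K)
    (hroot : Polynomial.aeval a P = 0) (hsep : P.Separable) (hcoeff : ∀ i : ℕ, ∃ b : K, b ^ p = P.coeff i) :
    ∃ c : L, c ^ p = a := by
  classical
  have hp : p.Prime := Fact.out
  haveI : CharP L p := charP_of_injective_algebraMap (algebraMap K L).injective p
  haveI : ExpChar L p := ExpChar.prime hp
  haveI : ExpChar K p := ExpChar.prime hp
  haveI : CharP (AlgebraicClosure L) p :=
    charP_of_injective_algebraMap (algebraMap L (AlgebraicClosure L)).injective p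
  choose b hb using hcoeff
  let Q : Polynomial K := ∑ i ∈ Finset.range (P.natDegree + 1), Polynomial.monomial i (b i)
  have hPQ : Q.map (frobenius K p) = P := by
    ext n
    simp only [Q, Polynomial.coeff_map, Polynomial.finsetSum_coeff, Polynomial.coeff_monomial]
    rw [Finset.sum_ite_eq' (Finset.range (P.natDegree + 1)) n]
    by_cases hn : n ∈ Finset.range (P.natDegree + 1)
    · rw [if_pos hn, frobenius_def, hb]
    · rw [if_neg hn, map_zero]
      rw [Finset.mem_range, not_lt] at hn
      exact (Polynomial.coeff_eq_zero_of_natDegree_lt (by omega)).symm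
  obtain ⟨c, hc⟩ := IsAlgClosed.exists_pow_nat_eq (algebraMap L (AlgebraicClosure L) a) hp.pos
  have hQc : Polynomial.aeval c Q = 0 := by
    have h1 : (Polynomial.aeval c Q) ^ p = algebraMap L (AlgebraicClosure L) (Polynomial.aeval a P) := by
      rw [← map_pow, ← Polynomial.map_frobenius_expand, Polynomial.map_expand, hPQ,
        Polynomial.expand_aeval, hc, Polynomial.aeval_algebraMap_apply]
    rw [hroot, map_zero] at h1
    exact (pow_eq_zero_iff hp.ne_zero).1 h1
  have hQsep : Q.Separable := (Polynomial.separable_map (frobenius K p)).1 (hPQ ▸ hsep)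
  have hcK : IsSeparable K c := hQsep.of_dvd (minpoly.dvd K c hQc)
  have hcL : IsSeparable L c := IsSeparable.tower_top L hcK
  have h1 : c ∈ separableClosure L (AlgebraicClosure L) := hcL
  have h2 : c ∈ perfectClosure L (AlgebraicClosure L) :=
    (mem_perfectClosure_iff_pow_mem p).2 ⟨1, by rw [pow_one, hc]; exact ⟨a, rfl⟩⟩
  have h3 : c ∈ separableClosure L (AlgebraicClosure L) ⊓ perfectClosure L (AlgebraicClosure L) :=
    ⟨h1, h2⟩
  rw [separableClosure_inf_perfectClosure] at h3
  obtain ⟨c₀, rfl⟩ := IntermediateField.mem_bot.1 h3
  refine ⟨c₀, ?_⟩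
  apply (algebraMap L (AlgebraicClosure L)).injective
  rw [map_pow]
  exact hc

end Groth.Agent.S6335
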