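import Groth.Statements.S6336
import Mathlib

set_option autoImplicit false
universe u
open scoped TensorProduct
open Fields

namespace Groth.Agent.S6336


open IntermediateField Polynomial in
theorem adjoin_top_of_le {K L : Type u} [Field K] [Field L] [Algebra K L] (a : L) (ha : K⟮a⟯ = ⊤)
    (F : IntermediateField K L) : (F⟮a⟯ : IntermediateField F L) = ⊤ := by
  rw [← IntermediateField.restrictScalars_eq_top_iff (K := K), eq_top_iff, ← ha,
    IntermediateField.adjoin_le_iff]
  intro x hx
  rw [Set.mem_singleton_iff] at hx
  subst hx
  exact IntermediateField.mem_adjoin_simple_self F x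

open IntermediateField Polynomial in
theorem finrank_eq_natDegree_minpoly {K L : Type u} [Field K] [Field L] [Algebra K L]
    [FiniteDimensional K L] (a : L) (ha : K⟮a⟯ = ⊤) (F : IntermediateField K L) :
    Module.finrank F L = (minpoly F a).natDegree :=
  ((Field.primitive_element_iff_minpoly_natDegree_eq F a).mp (adjoin_top_of_le a ha F)).symm

open IntermediateField Polynomial in
/-- With an added hypothesis: let L/K be a finite extension of degree e generated by a single element a
whose e-th power lies in K, and assume that the polynomial X ^ e - 1 splits into linear factors over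
K (so every e-th root of unity of any extension of K already lies in K; this holds when K contains a
primitive e-th root of unity, and when e is a power of the characteristic). Then every intermediate
field of L/K is generated by a ^ d for some divisor d of e. (The published statement has no
hypothesis on roots of unity; for K the rationals and a a primitive 8-th root of unity, e = 4 and a
^ 4 = -1, the intermediate field generated by a + a⁻¹, a square root of 2, is none of K(a), K(a ^
2), K(a ^ 4); the published proof uses that the e-th roots of unity met are fixed by the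
automorphisms it constructs, which the splitting hypothesis guarantees.) -/
theorem result {K L : Type u} [Field K] [Field L] [Algebra K L]
    [FiniteDimensional K L] (a : L) (ha : K⟮a⟯ = ⊤)
    (hpow : a ^ Module.finrank K L ∈ Set.range (algebraMap K L))
    (hroots : (X ^ Module.finrank K L - 1 : K[X]).Splits) (L' : IntermediateField K L) :
    ∃ d : ℕ, d ∣ Module.finrank K L ∧ L' = K⟮a ^ d⟯ := by
  classical
  set e := Module.finrank K L with he
  have hepos : 0 < e := Module.finrank_pos
  by_cases ha0 : a = 0
  · refine ⟨1, one_dvd _, ?_⟩
    subst ha0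
    rw [IntermediateField.adjoin_zero] at ha
    rw [pow_one, IntermediateField.adjoin_zero]
    exact le_antisymm (ha ▸ le_top) bot_le
  obtain ⟨c0, hc0⟩ := hpow
  set m := Module.finrank L' L with hm
  have hmpos : 0 < m := Module.finrank_pos
  have hmul : Module.finrank K L' * m = e := Module.finrank_mul_finrank K L' L
  refine ⟨m, Dvd.intro_left _ hmul, ?_⟩
  -- the minimal polynomial over L'
  set P := minpoly L' a with hP
  have hPmonic : P.Monic := minpoly.monic (IsIntegral.of_finite L' a)
  have hPdeg : P.natDegree = m := (finrank_eq_natDegree_minpoly a ha L').symm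
  -- P divides X^e - c0
  have hPdvd : P ∣ (X ^ e - C (algebraMap K L' c0) : L'[X]) := by
    apply minpoly.dvd
    simp only [map_sub, map_pow, aeval_X, aeval_C]
    rw [← IsScalarTower.algebraMap_apply, hc0, sub_self]
  set Q := P.map (algebraMap L' L) with hQ
  have hQmonic : Q.Monic := hPmonic.map _
  have hQdeg : Q.natDegree = m := by rw [hQ, hPmonic.natDegree_map, hPdeg]
  set T : L[X] := X ^ e - C (a ^ e) with hT
  have hQdvd : Q ∣ T := by
    have := Polynomial.map_dvd (algebraMap L' L) hPdvd
    simpa [hT, ← IsScalarTower.algebraMap_apply, hc0] using this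
  have hT0 : T ≠ 0 := by
    intro h
    have := congrArg Polynomial.natDegree h
    rw [hT, Polynomial.natDegree_X_pow_sub_C, Polynomial.natDegree_zero] at this
    omega
  -- T splits
  have hTsplits : T.Splits := by
    have h1 : ((X ^ e - 1 : K[X]).map (algebraMap K L)).Splits := hroots.map _
    have h2 := h1.comp_of_natDegree_le_one (g := C a⁻¹ * X)
      ((Polynomial.natDegree_C_mul_le _ _).trans Polynomial.natDegree_X_le)
    have h3 : T = C (a ^ e) * ((X ^ e - 1 : K[X]).map (algebraMap K L)).comp (C a⁻¹ * X) := by
      simp only [Polynomial.map_sub, Polynomial.map_pow, Polynomial.map_X, Polynomial.map_one,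
        Polynomial.sub_comp, Polynomial.pow_comp, Polynomial.X_comp, Polynomial.one_comp, hT,
        mul_pow, mul_sub, mul_one, ← C_pow, ← mul_assoc, ← C_mul]
      rw [inv_pow, mul_inv_cancel₀ (pow_ne_zero e ha0), C_1, one_mul]
    rw [h3]
    exact (Polynomial.Splits.C _).mul h2
  have hQsplits : Q.Splits := hTsplits.of_dvd hT0 hQdvd
  -- roots of Q
  have hroot : ∀ r ∈ Q.roots, ∃ z : K, r = algebraMap K L z * a ∧ z ≠ 0 := by
    intro r hr
    have hrT : T.IsRoot r := by
      have := (Polynomial.mem_roots hQmonic.ne_zero).mp hr
      exact this.dvd hQdvd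
    have hre : r ^ e = a ^ e := by
      have : T.eval r = 0 := hrT
      simpa [hT, sub_eq_zero] using this
    have hz : ((X ^ e - 1 : K[X]).map (algebraMap K L)).IsRoot (r / a) := by
      simp only [Polynomial.IsRoot, Polynomial.map_sub, Polynomial.map_pow, Polynomial.map_X,
        Polynomial.map_one, Polynomial.eval_sub, Polynomial.eval_pow, Polynomial.eval_X,
        Polynomial.eval_one]
      rw [div_pow, hre, div_self (pow_ne_zero e ha0), sub_self]
    have hne : (X ^ e - 1 : K[X]) ≠ 0 := by
      intro h
      have := congrArg Polynomial.natDegree h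
      rw [← C_1, Polynomial.natDegree_X_pow_sub_C, Polynomial.natDegree_zero] at this
      omega
    obtain ⟨z, hz'⟩ := hroots.mem_range_of_isRoot hne hz
    refine ⟨z, ?_, ?_⟩
    · rw [hz', div_mul_cancel₀ _ ha0]
    · rintro rfl
      rw [map_zero] at hz'
      have hr0 : r = 0 := by
        have := hz'.symm
        rwa [div_eq_zero_iff, or_iff_left ha0] at this
      rw [hr0, zero_pow hepos.ne'] at hre
      exact pow_ne_zero e ha0 hre.symm
  -- product of roots
  have hprod : ∃ z : K, z ≠ 0 ∧ Q.roots.prod = algebraMap K L z * a ^ (Multiset.card Q.roots) := by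
    have : ∀ s : Multiset L, (∀ r ∈ s, ∃ z : K, r = algebraMap K L z * a ∧ z ≠ 0) →
        ∃ z : K, z ≠ 0 ∧ s.prod = algebraMap K L z * a ^ (Multiset.card s) := by
      intro s
      induction s using Multiset.induction_on with
      | empty => intro _; exact ⟨1, one_ne_zero, by simp⟩
      | cons r s ih =>
        intro hs
        obtain ⟨z, hz0, hz⟩ := ih fun r' hr' => hs r' (Multiset.mem_cons_of_mem hr')
        obtain ⟨z', hz', hz'0⟩ := hs r (Multiset.mem_cons_self r s)
        refine ⟨z' * z, mul_ne_zero hz'0 hz0, ?_⟩
        rw [Multiset.prod_cons, hz, hz', Multiset.card_cons, map_mul, pow_succ]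
        ring
    exact this _ hroot
  obtain ⟨z, hz0, hzprod⟩ := hprod
  rw [← hQsplits.natDegree_eq_card_roots, hQdeg] at hzprod
  -- a^m ∈ L'
  have ham : a ^ m ∈ L' := by
    have h1 := hQsplits.coeff_zero_eq_prod_roots_of_monic hQmonic
    rw [hQdeg, hzprod] at h1
    have h2 : Q.coeff 0 = algebraMap L' L (P.coeff 0) := Polynomial.coeff_map _ _
    have h3 : a ^ m = (-1) ^ m * (algebraMap K L z)⁻¹ * algebraMap L' L (P.coeff 0) := by
      rw [← h2, h1]
      have hzne : algebraMap K L z ≠ 0 := by
        rw [Ne, map_eq_zero]; exact hz0
      have hsq : ((-1 : L) ^ m) * (-1) ^ m = 1 := by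
        rw [← mul_pow]; simp
      field_simp
      rw [pow_two, hsq]
    rw [h3]
    refine L'.mul_mem (L'.mul_mem (pow_mem (L'.neg_mem L'.one_mem) m) (L'.inv_mem ?_)) ?_
    · exact L'.algebraMap_mem z
    · exact (P.coeff 0).2
  -- the field generated by a^m
  set F : IntermediateField K L := K⟮a ^ m⟯ with hF
  have hFle : F ≤ L' := by
    rw [hF, IntermediateField.adjoin_le_iff]
    intro x hx
    rw [Set.mem_singleton_iff] at hx
    exact hx ▸ ham
  have hamF : a ^ m ∈ F := IntermediateField.mem_adjoin_simple_self K (a ^ m)
  have hFdeg : Module.finrank F L ≤ m := by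
    rw [finrank_eq_natDegree_minpoly a ha F]
    have hdvd : minpoly F a ∣ (X ^ m - C (⟨a ^ m, hamF⟩ : F) : F[X]) := by
      apply minpoly.dvd
      simp only [map_sub, map_pow, aeval_X, aeval_C]
      exact sub_self _
    have hne : (X ^ m - C (⟨a ^ m, hamF⟩ : F) : F[X]) ≠ 0 := by
      intro h
      have := congrArg Polynomial.natDegree h
      rw [Polynomial.natDegree_X_pow_sub_C, Polynomial.natDegree_zero] at this
      omega
    have := Polynomial.natDegree_le_of_dvd hdvd hne
    rwa [Polynomial.natDegree_X_pow_sub_C] at this
  have hmulF : Module.finrank K F * Module.finrank F L = e := Module.finrank_mul_finrank K F L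
  have hle : Module.finrank K L' ≤ Module.finrank K F := by
    have h1 : Module.finrank K L' * m ≤ Module.finrank K F * m := by
      rw [hmul, ← hmulF]
      exact Nat.mul_le_mul_left _ hFdeg
    exact Nat.le_of_mul_le_mul_right h1 hmpos
  exact (IntermediateField.eq_of_le_of_finrank_le hFle hle).symm

end Groth.Agent.S6336
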