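import Groth.Statements.S6337
import Mathlib
import Groth.Agent.S6338

set_option autoImplicit false
universe u
open scoped TensorProduct
open CAlg

namespace Groth.Agent.S6337

/-- A direct sum of modules is Mittag-Leffler if and only if each summand is Mittag-Leffler. -/
theorem result (R : Type u) [CommRing R] {ι : Type u} (M : ι → Type u)
    [∀ i, AddCommGroup (M i)] [∀ i, Module R (M i)] :
    CAlg.IsMittagLeffler R (DirectSum ι M) ↔ ∀ i, CAlg.IsMittagLeffler R (M i) := by
  classical
  constructor
  · intro h j
    refine Groth.Agent.S6338.result R (DirectSum.lof R ι M j) ?_ h
    intro Q _ _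
    have hleft : (LinearMap.rTensor Q (DirectSum.component R ι M j)) ∘ₗ
        (LinearMap.rTensor Q (DirectSum.lof R ι M j)) = LinearMap.id := by
      rw [← LinearMap.rTensor_comp, DirectSum.component_comp_lof_same, LinearMap.rTensor_id]
    exact Function.LeftInverse.injective (g := LinearMap.rTensor Q (DirectSum.component R ι M j))
      (fun z => LinearMap.congr_fun hleft z)
  · intro h κ Q _ _
    have hnat : ∀ (j : ι) (z : (DirectSum ι M) ⊗[R] (∀ k, Q k)),
        TensorProduct.piRightHom R R (M j) Q
          ((DirectSum.component R ι M j).rTensor (∀ k, Q k) z) =
        fun k => ((DirectSum.component R ι M j).rTensor (Q k))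
          (TensorProduct.piRightHom R R (DirectSum ι M) Q z k) := by
      intro j z
      induction z using TensorProduct.induction_on with
      | zero =>
        funext k
        simp
      | tmul m q =>
        funext k
        simp
      | add a b ha hb =>
        rw [map_add, map_add, ha, hb]
        funext k
        simp
    have hcomp : ∀ (j : ι) (z : (DirectSum ι M) ⊗[R] (∀ k, Q k)),
        DirectSum.component R ι (fun i => M i ⊗[R] (∀ k, Q k)) j
          (TensorProduct.directSumLeft R R M (∀ k, Q k) z) =
        (DirectSum.component R ι M j).rTensor (∀ k, Q k) z := by
      intro j z
      induction z using TensorProduct.induction_on with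
      | zero => simp
      | tmul w q =>
        induction w using DirectSum.induction_on with
        | zero => simp
        | of i m =>
          rw [← DirectSum.lof_eq_of R, TensorProduct.directSumLeft_tmul_lof,
            LinearMap.rTensor_tmul, DirectSum.component.of, DirectSum.component.of]
          by_cases hij : i = j
          · subst hij
            simp
          · simp [hij]
        | add a b ha hb =>
          rw [TensorProduct.add_tmul, map_add, map_add, ha, hb, map_add]
      | add a b ha hb => rw [map_add, map_add, ha, hb, map_add]
    rw [injective_iff_map_eq_zero]
    intro x hx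
    have hj : ∀ j, (DirectSum.component R ι M j).rTensor (∀ k, Q k) x = 0 := by
      intro j
      apply h j κ Q
      rw [hnat, hx, map_zero]
      funext k
      simp
    apply (TensorProduct.directSumLeft R R M (∀ k, Q k)).injective
    rw [map_zero]
    apply DirectSum.ext_component R
    intro j
    rw [hcomp j x, hj j, map_zero]

end Groth.Agent.S6337
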