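import Groth.Statements.S6339
import Mathlib

set_option autoImplicit false
universe u
open CAlg
open scoped TensorProduct

namespace Groth.Agent.S6339

/-- Let 0 → M₁ → M₂ → M₃ → 0 be a universally exact short exact sequence of modules over a commutative
ring (the first map is universally injective, the second is surjective with kernel the image of the
first). If M₁ and M₃ are Mittag-Leffler then so is M₂. -/
theorem result (R : Type u) [CommRing R] {M₁ M₂ M₃ : Type u}
    [AddCommGroup M₁] [Module R M₁] [AddCommGroup M₂] [Module R M₂] [AddCommGroup M₃] [Module R M₃]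
    (f : M₁ →ₗ[R] M₂) (g : M₂ →ₗ[R] M₃) (hf : CAlgX.UniversallyInjective R f)
    (hg : Function.Surjective g) (hfg : LinearMap.range f = LinearMap.ker g)
    (h₁ : CAlg.IsMittagLeffler R M₁) (h₃ : CAlg.IsMittagLeffler R M₃) :
    CAlg.IsMittagLeffler R M₂ := by
  intro ι Q _ _
  have hnat : ∀ {A B : Type u} [AddCommGroup A] [Module R A] [AddCommGroup B] [Module R B]
      (φ : A →ₗ[R] B) (z : A ⊗[R] (∀ i, Q i)),
      TensorProduct.piRightHom R R B Q (φ.rTensor (∀ i, Q i) z) =
        fun i => (φ.rTensor (Q i)) (TensorProduct.piRightHom R R A Q z i) := by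
    intro A B _ _ _ _ φ z
    induction z using TensorProduct.induction_on with
    | zero =>
      funext i
      simp
    | tmul m q =>
      funext i
      simp
    | add a b ha hb =>
      rw [map_add, map_add, ha, hb]
      funext i
      simp
  have hex : Function.Exact f g := by
    rw [LinearMap.exact_iff]
    exact hfg.symm
  have hexT := rTensor_exact (∀ i, Q i) hex hg
  rw [injective_iff_map_eq_zero]
  intro x hx
  have h3 : g.rTensor (∀ i, Q i) x = 0 := by
    apply h₃ ι Q
    rw [hnat, hx, map_zero]
    funext i
    simp
  obtain ⟨x₁, rfl⟩ := (hexT x).mp h3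
  have h1 : x₁ = 0 := by
    apply h₁ ι Q
    rw [map_zero]
    funext i
    apply hf (Q i)
    have := congrFun (hnat f x₁) i
    rw [hx] at this
    rw [← this]
    simp
  rw [h1, map_zero]

end Groth.Agent.S6339
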