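import Groth.Statements.S6340
import Mathlib
import Groth.Agent.Helper3.ML

set_option autoImplicit false
universe u
open scoped TensorProduct
open CAlg

namespace Groth.Agent.S6340

/-- Let M₁ → M₂ → M₃ → 0 be exact with M₁ finitely generated; if M₂ is Mittag-Leffler then so is M₃.
Equivalently, as stated here: the quotient of a Mittag-Leffler module by a finitely generated
submodule is Mittag-Leffler. -/
theorem result (R : Type u) [CommRing R] {M : Type u} [AddCommGroup M] [Module R M]
    (N : Submodule R M) (hN : N.FG) (hM : CAlg.IsMittagLeffler R M) :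
    CAlg.IsMittagLeffler R (M ⧸ N) := by
  intro ι Q _ _
  haveI : Module.Finite R N := Module.Finite.iff_fg.mpr hN
  have hex : Function.Exact N.subtype N.mkQ := LinearMap.exact_subtype_mkQ N
  have hg : Function.Surjective N.mkQ := Submodule.mkQ_surjective N
  rw [injective_iff_map_eq_zero]
  intro z hz
  obtain ⟨y, rfl⟩ := LinearMap.rTensor_surjective (∀ i, Q i) hg z
  rw [Groth.Agent.Helper3.piRightHom_rTensor] at hz
  have hw' : ∀ i, ∃ w' : N ⊗[R] Q i,
      (N.subtype.rTensor (Q i)) w' = TensorProduct.piRightHom R R M Q y i := by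
    intro i
    exact (rTensor_exact (Q i) hex hg _).mp (congrFun hz i)
  choose w' hw' using hw'
  obtain ⟨w, hw⟩ := Groth.Agent.Helper3.piRightHom_surjective_of_finite Q N w'
  have hy : (N.subtype.rTensor (∀ i, Q i)) w = y := by
    apply hM ι Q
    rw [Groth.Agent.Helper3.piRightHom_rTensor, hw]
    funext i
    exact hw' i
  rw [← hy]
  exact (rTensor_exact (∀ i, Q i) hex hg).apply_apply_eq_zero w

end Groth.Agent.S6340
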