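import Groth.Statements.S6341
import Mathlib
import Groth.Agent.Helper3.ML

set_option autoImplicit false
universe u
open scoped TensorProduct
open CAlg

namespace Groth.Agent.S6341

/-- The colimit of a directed system of Mittag-Leffler modules with universally injective transition
maps is Mittag-Leffler. -/
theorem result (R : Type u) [CommRing R] {ι : Type u}
    [Preorder ι] [IsDirected ι (· ≤ ·)] [DecidableEq ι] (G : ι → Type u) [∀ i, AddCommGroup (G i)]
    [∀ i, Module R (G i)] (f : ∀ i j, i ≤ j → G i →ₗ[R] G j) [DirectedSystem G fun i j h => f i j h]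
    (hf : ∀ i j (h : i ≤ j), CAlgX.UniversallyInjective R (f i j h))
    (hG : ∀ i, CAlg.IsMittagLeffler R (G i)) :
    CAlg.IsMittagLeffler R (Module.DirectLimit G f) := by
  intro κ Q _ _
  have hof : ∀ (i : ι) (N : Type u) [AddCommGroup N] [Module R N],
      Function.Injective (LinearMap.rTensor N (Module.DirectLimit.of R ι G f i)) := by
    intro i N _ _
    rw [injective_iff_map_eq_zero]
    intro a ha
    have h1 : Module.DirectLimit.of R ι (fun j => G j ⊗[R] N)
        (fun i j h => LinearMap.rTensor N (f i j h)) i a = 0 := by
      rw [← TensorProduct.directLimitLeft_rTensor_of, ha, map_zero]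
    obtain ⟨j, hij, hj⟩ := Module.DirectLimit.of.zero_exact h1
    exact (injective_iff_map_eq_zero _).mp (hf i j hij N) a hj
  rw [injective_iff_map_eq_zero]
  intro x hx
  rcases isEmpty_or_nonempty ι with hι | hι
  · induction x using TensorProduct.induction_on with
    | zero => rfl
    | tmul l q =>
      have : l = 0 := Subsingleton.elim _ _
      rw [this, TensorProduct.zero_tmul]
    | add a b ha hb =>
      have h0 : ∀ z : Module.DirectLimit G f ⊗[R] (∀ k, Q k), z = 0 := by
        intro z
        induction z using TensorProduct.induction_on with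
        | zero => rfl
        | tmul l q =>
          have : l = 0 := Subsingleton.elim _ _
          rw [this, TensorProduct.zero_tmul]
        | add a b ha hb => rw [ha, hb, add_zero]
      rw [h0 a, h0 b, add_zero]
  have hlift : ∀ x : Module.DirectLimit G f ⊗[R] (∀ k, Q k),
      ∃ (i : ι) (xi : G i ⊗[R] (∀ k, Q k)),
        LinearMap.rTensor _ (Module.DirectLimit.of R ι G f i) xi = x := by
    intro x
    induction x using TensorProduct.induction_on with
    | zero => exact ⟨Classical.arbitrary ι, 0, map_zero _⟩
    | tmul l q =>
      obtain ⟨i, g, rfl⟩ := Module.DirectLimit.exists_of l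
      exact ⟨i, g ⊗ₜ q, rfl⟩
    | add a b ha hb =>
      obtain ⟨i, ai, rfl⟩ := ha
      obtain ⟨j, bj, rfl⟩ := hb
      obtain ⟨k, hik, hjk⟩ := exists_ge_ge i j
      refine ⟨k, LinearMap.rTensor _ (f i k hik) ai + LinearMap.rTensor _ (f j k hjk) bj, ?_⟩
      rw [map_add, ← LinearMap.comp_apply, ← LinearMap.comp_apply, ← LinearMap.rTensor_comp,
        ← LinearMap.rTensor_comp]
      congr 2
      · congr 1
        ext g
        exact Module.DirectLimit.of_f
      · congr 1
        ext g
        exact Module.DirectLimit.of_f
  obtain ⟨i, xi, rfl⟩ := hlift x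
  rw [Groth.Agent.Helper3.piRightHom_rTensor] at hx
  have h1 : xi = 0 := by
    apply hG i κ Q
    rw [map_zero]
    funext k
    apply hof i (Q k)
    rw [Pi.zero_apply, map_zero]
    exact congrFun hx k
  rw [h1, map_zero]

end Groth.Agent.S6341
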