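import Groth.Statements.S6342
import Mathlib

set_option autoImplicit false
universe u
open CAlg
open scoped TensorProduct

namespace Groth.Agent.S6342

/-- Let R → S be a ring map such that S is Mittag-Leffler as an R-module, and let M be an S-module which
is flat and Mittag-Leffler over S. Then M is Mittag-Leffler as an R-module. -/
theorem result (R S : Type u) [CommRing R] [CommRing S] [Algebra R S]
    (M : Type u) [AddCommGroup M] [Module S M] [Module R M] [IsScalarTower R S M]
    (hS : CAlg.IsMittagLeffler R S) [Module.Flat S M] (hM : CAlg.IsMittagLeffler S M) :
    CAlg.IsMittagLeffler R M := by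
  intro ι Q _ _
  have hα : Function.Injective (TensorProduct.piRightHom R S S Q) := by
    have h1 : ∀ z, TensorProduct.piRightHom R S S Q z = TensorProduct.piRightHom R R S Q z := by
      intro z
      induction z using TensorProduct.induction_on with
      | zero => simp
      | tmul s q => rfl
      | add a b ha hb => rw [map_add, map_add, ha, hb]
    intro a b hab
    apply hS ι Q
    rw [← h1, ← h1, hab]
  have hMα : Function.Injective
      (LinearMap.lTensor M (TensorProduct.piRightHom R S S Q)) :=
    Module.Flat.lTensor_preserves_injective_linearMap _ hα
  have hβ : Function.Injective (TensorProduct.piRightHom S S M (fun i => S ⊗[R] Q i)) :=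
    hM ι (fun i => S ⊗[R] Q i)
  have hnat : ∀ x : M ⊗[S] (S ⊗[R] (∀ i, Q i)),
      TensorProduct.piRightHom R R M Q
        (TensorProduct.AlgebraTensorModule.cancelBaseChange R S S M (∀ i, Q i) x) =
      fun i => TensorProduct.AlgebraTensorModule.cancelBaseChange R S S M (Q i)
        (TensorProduct.piRightHom S S M (fun i => S ⊗[R] Q i)
          (LinearMap.lTensor M (TensorProduct.piRightHom R S S Q) x) i) := by
    intro x
    induction x using TensorProduct.induction_on with
    | zero =>
      funext i
      simp
    | tmul m w =>
      induction w using TensorProduct.induction_on with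
      | zero =>
        funext i
        simp
      | tmul s q =>
        funext i
        simp
      | add a b ha hb =>
        rw [TensorProduct.tmul_add, map_add, map_add, ha, hb]
        funext i
        simp [TensorProduct.tmul_add]
    | add a b ha hb =>
      rw [map_add, map_add, ha, hb]
      funext i
      simp
  rw [injective_iff_map_eq_zero]
  intro y hy
  obtain ⟨x, rfl⟩ := (TensorProduct.AlgebraTensorModule.cancelBaseChange R S S M
    (∀ i, Q i)).surjective y
  rw [hnat] at hy
  have h1 : TensorProduct.piRightHom S S M (fun i => S ⊗[R] Q i)
      (LinearMap.lTensor M (TensorProduct.piRightHom R S S Q) x) = 0 := by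
    funext i
    have := congrFun hy i
    exact (TensorProduct.AlgebraTensorModule.cancelBaseChange R S S M (Q i)).map_eq_zero_iff.mp
      this
  have h2 := hMα (a₁ := x) (a₂ := 0) (by rw [map_zero]; exact hβ (by rw [h1, map_zero]))
  rw [h2, map_zero]

end Groth.Agent.S6342
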