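import Groth.Statements.S6343
import Mathlib
import Groth.Agent.Helper3.MLDom2

set_option autoImplicit false
universe u
open scoped TensorProduct
open scoped TensorProduct
open CAlg

namespace Groth.Agent.S6343

/-- The tensor product of two Mittag-Leffler modules over a commutative ring is Mittag-Leffler. -/
theorem result (R : Type u) [CommRing R] (M N : Type u) [AddCommGroup M] [Module R M]
    [AddCommGroup N] [Module R N] (hM : CAlg.IsMittagLeffler R M) (hN : CAlg.IsMittagLeffler R N) :
    CAlg.IsMittagLeffler R (M ⊗[R] N) := by
  exact Groth.Agent.Helper3.isML_tensor hM hN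

end Groth.Agent.S6343
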