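import Groth.Statements.S6345
import Mathlib
import Groth.Agent.Helper3.ML

set_option autoImplicit false
universe u
open scoped TensorProduct
open CAlg

namespace Groth.Agent.S6345

/-- Let I be a finitely generated ideal of a commutative ring R and M an R/I-module. Then M is
Mittag-Leffler over R if and only if it is Mittag-Leffler over R/I. -/
theorem result (R : Type u) [CommRing R] (I : Ideal R) (hI : I.FG)
    (M : Type u) [AddCommGroup M] [Module (R ⧸ I) M] [Module R M] [IsScalarTower R (R ⧸ I) M] :
    CAlg.IsMittagLeffler R M ↔ CAlg.IsMittagLeffler (R ⧸ I) M := by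
  constructor
  · intro h ι Q _ _
    letI : ∀ i, Module R (Q i) := fun i => Module.compHom (Q i) (algebraMap R (R ⧸ I))
    haveI : ∀ i, IsScalarTower R (R ⧸ I) (Q i) := fun i =>
      IsScalarTower.of_algebraMap_smul fun r x => rfl
    have hcompat : ∀ (N : Type u) [AddCommGroup N] [Module (R ⧸ I) N] [Module R N]
        [IsScalarTower R (R ⧸ I) N], TensorProduct.CompatibleSMul R (R ⧸ I) M N := by
      intro N _ _ _ _
      refine ⟨fun a m n => ?_⟩
      obtain ⟨r, rfl⟩ := Ideal.Quotient.mk_surjective a
      rw [← Ideal.Quotient.algebraMap_eq, algebraMap_smul, algebraMap_smul,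
        TensorProduct.smul_tmul]
    haveI := hcompat (∀ i, Q i)
    haveI := fun i => hcompat (Q i)
    have hnat : ∀ x : M ⊗[R ⧸ I] (∀ i, Q i),
        TensorProduct.piRightHom R R M Q
          (TensorProduct.equivOfCompatibleSMul R (R ⧸ I) R M (∀ i, Q i) x) =
        fun i => TensorProduct.equivOfCompatibleSMul R (R ⧸ I) R M (Q i)
          (TensorProduct.piRightHom (R ⧸ I) (R ⧸ I) M Q x i) := by
      intro x
      induction x using TensorProduct.induction_on with
      | zero =>
        funext i
        simp
      | tmul m q =>
        funext i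
        rfl
      | add a b ha hb =>
        rw [map_add, map_add, ha, hb]
        funext i
        simp
    rw [injective_iff_map_eq_zero]
    intro x hx
    have h0 : TensorProduct.equivOfCompatibleSMul R (R ⧸ I) R M (∀ i, Q i) x = 0 := by
      apply h ι Q
      rw [hnat, hx, map_zero]
      funext i
      simp
    exact (TensorProduct.equivOfCompatibleSMul R (R ⧸ I) R M (∀ i, Q i)).map_eq_zero_iff.mp h0
  · intro h
    haveI : Module.FinitePresentation R (R ⧸ I) :=
      Module.finitePresentation_of_surjective (Submodule.mkQ I) (Submodule.mkQ_surjective I)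
        (by rw [Submodule.ker_mkQ]; exact hI)
    exact Groth.Agent.Helper3.isML_restrictScalars_of_bijective R (R ⧸ I) M
      (fun ι Q _ _ => Groth.Agent.Helper3.piRightHom_bijective_of_finitePresentation Q (R ⧸ I)) h

end Groth.Agent.S6345
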