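import Groth.Statements.S6379
import Mathlib

set_option autoImplicit false
universe u
open scoped TensorProduct
open scoped TensorProduct
open CAlg

namespace Groth.Agent.S6379

/-- Let M be a flat Mittag-Leffler module over a commutative ring R, F an R-module and x ∈ F ⊗_R M. Then
among the submodules F' of F with x in the image of F' ⊗ M → F ⊗ M there is a smallest one, and it
is a finitely generated module. -/
theorem result (R : Type u) [CommRing R] (M : Type u)
    [AddCommGroup M] [Module R M] [Module.Flat R M] (hM : CAlg.IsMittagLeffler R M)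
    (F : Type u) [AddCommGroup F] [Module R F] (x : F ⊗[R] M) :
    ∃ F' : Submodule R F, F'.FG ∧ x ∈ LinearMap.range (F'.subtype.rTensor M) ∧
      ∀ F'' : Submodule R F, x ∈ LinearMap.range (F''.subtype.rTensor M) → F' ≤ F'' := by
  classical
  let Idx := {F' : Submodule R F // x ∈ LinearMap.range (F'.subtype.rTensor M)}
  let π : F →ₗ[R] (∀ i : Idx, F ⧸ i.1) := LinearMap.pi (fun i => i.1.mkQ)
  -- Step A
  have hcomp : ∀ (i : Idx) (y : F ⊗[R] M),
      TensorProduct.piRightHom R R M (fun i : Idx => F ⧸ i.1)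
        (TensorProduct.comm R _ _ ((π.rTensor M) y)) i =
      TensorProduct.comm R _ _ ((i.1.mkQ.rTensor M) y) := by
    intro i y
    induction y using TensorProduct.induction_on with
    | zero => simp
    | tmul f m => rfl
    | add a b ha hb =>
      simp only [map_add, Pi.add_apply] at ha hb ⊢
      rw [ha, hb]
  have hzero : ∀ i : Idx, (i.1.mkQ.rTensor M) x = 0 := by
    intro i
    obtain ⟨w, hw⟩ := i.2
    have h := congrArg (i.1.mkQ.rTensor M) hw
    rw [← h, ← LinearMap.comp_apply, ← LinearMap.rTensor_comp]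
    have : i.1.mkQ ∘ₗ i.1.subtype = 0 := by
      ext f
      simp
    rw [this, LinearMap.rTensor_zero, LinearMap.zero_apply]
  have hA : (π.rTensor M) x = 0 := by
    apply (TensorProduct.comm R _ _).injective
    rw [map_zero]
    apply hM Idx (fun i : Idx => F ⧸ i.1)
    rw [map_zero]
    funext i
    rw [hcomp, hzero, map_zero]
    rfl
  -- Step B
  have hex : Function.Exact (LinearMap.ker π).subtype π := LinearMap.exact_subtype_ker_map π
  have hB : x ∈ LinearMap.range ((LinearMap.ker π).subtype.rTensor M) :=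
    (Module.Flat.rTensor_exact M hex x).mp hA
  -- Step C
  have hC : ∀ F'' : Submodule R F, x ∈ LinearMap.range (F''.subtype.rTensor M) →
      LinearMap.ker π ≤ F'' := by
    intro F'' hF'' f hf
    have h1 : π f = 0 := hf
    have h2 := congrFun h1 ⟨F'', hF''⟩
    simpa [π] using h2
  -- Step D
  obtain ⟨w, hw⟩ := hB
  obtain ⟨F₁, hfin, hF₁⟩ := TensorProduct.exists_finite_submodule_left_of_setFinite
    ({w} : Set (↥(LinearMap.ker π) ⊗[R] M)) (Set.finite_singleton w)
  obtain ⟨w₁, hw₁⟩ := hF₁ (Set.mem_singleton w)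
  have hmem : x ∈ LinearMap.range ((F₁.map (LinearMap.ker π).subtype).subtype.rTensor M) := by
    let φ : F₁ →ₗ[R] ↥(F₁.map (LinearMap.ker π).subtype) :=
      ((LinearMap.ker π).subtype ∘ₗ F₁.subtype).codRestrict _ (fun z =>
        Submodule.mem_map_of_mem z.2)
    refine ⟨(φ.rTensor M) w₁, ?_⟩
    have e1 : ((F₁.map (LinearMap.ker π).subtype).subtype.rTensor M) ((φ.rTensor M) w₁) =
        ((LinearMap.ker π).subtype.rTensor M) ((F₁.subtype.rTensor M) w₁) := by
      rw [← LinearMap.comp_apply, ← LinearMap.rTensor_comp, ← LinearMap.comp_apply,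
        ← LinearMap.rTensor_comp]
      rfl
    rw [e1, hw₁, hw]
  have hle : F₁.map (LinearMap.ker π).subtype ≤ LinearMap.ker π := by
    rintro _ ⟨z, _, rfl⟩
    exact z.2
  have heq : LinearMap.ker π = F₁.map (LinearMap.ker π).subtype :=
    le_antisymm (hC _ hmem) hle
  refine ⟨LinearMap.ker π, ?_, ⟨w, hw⟩, hC⟩
  rw [heq]
  exact (Module.Finite.iff_fg.mp hfin).map _

end Groth.Agent.S6379
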