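import Groth.Statements.S6346
import Mathlib
import Groth.Agent.S6379

set_option autoImplicit false
universe u
open scoped TensorProduct
open scoped TensorProduct
open CAlg

namespace Groth.Agent.S6346

/-- Let M be a flat module over a commutative ring R. Then M is Mittag-Leffler exactly when, for each
finite free module F = R^n and each element x of F ⊗ M there is a smallest submodule F' of F such
that x lies in the image of F' ⊗ M → F ⊗ M. -/
theorem result (R : Type u) [CommRing R] (M : Type u)
    [AddCommGroup M] [Module R M] [Module.Flat R M] :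
    CAlg.IsMittagLeffler R M ↔
      ∀ (n : ℕ) (x : (Fin n → R) ⊗[R] M), ∃ F' : Submodule R (Fin n → R),
        x ∈ LinearMap.range (F'.subtype.rTensor M) ∧
        ∀ F'' : Submodule R (Fin n → R), x ∈ LinearMap.range (F''.subtype.rTensor M) → F' ≤ F'' := by
  classical
  constructor
  · intro hM n x
    obtain ⟨F', -, h1, h2⟩ := Groth.Agent.S6379.result R M hM (Fin n → R) x
    exact ⟨F', h1, h2⟩
  · intro hP ι Q _ _
    rw [injective_iff_map_eq_zero]
    intro x hx
    obtain ⟨S, hS⟩ := TensorProduct.exists_finset x
    let e : Fin S.card ≃ S := S.equivFin.symm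
    let m : Fin S.card → M := fun k => (e k).1.1
    let q : Fin S.card → (∀ i, Q i) := fun k => (e k).1.2
    have hxsum : x = ∑ k, m k ⊗ₜ[R] q k := by
      rw [hS, ← Finset.sum_coe_sort S]
      exact (Fintype.sum_equiv e _ _ (fun k => rfl)).symm
    set xt : (Fin S.card → R) ⊗[R] M := ∑ k, (Pi.single k (1 : R)) ⊗ₜ[R] m k with hxt
    let φ : (Fin S.card → R) →ₗ[R] (∀ i, Q i) := Fintype.linearCombination R q
    have hφe : ∀ k, φ (Pi.single k (1 : R)) = q k := by
      intro k
      simp [φ, Fintype.linearCombination_apply_single]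
    have hφx : TensorProduct.comm R _ _ ((φ.rTensor M) xt) = x := by
      rw [hxt, map_sum, map_sum, hxsum]
      refine Finset.sum_congr rfl (fun k _ => ?_)
      rw [LinearMap.rTensor_tmul, hφe, TensorProduct.comm_tmul]
    obtain ⟨F', ⟨w, hw⟩, hmin⟩ := hP S.card xt
    have hker : ∀ i : ι, F' ≤ LinearMap.ker ((LinearMap.proj i : (∀ i, Q i) →ₗ[R] Q i) ∘ₗ φ) := by
      intro i
      apply hmin
      have hex := Module.Flat.rTensor_exact M
        (LinearMap.exact_subtype_ker_map ((LinearMap.proj i : (∀ i, Q i) →ₗ[R] Q i) ∘ₗ φ))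
      apply (hex xt).mp
      -- ((proj i ∘ φ).rTensor M) xt = 0
      have h1 : TensorProduct.comm R _ _
          ((((LinearMap.proj i : (∀ i, Q i) →ₗ[R] Q i) ∘ₗ φ).rTensor M) xt) =
          TensorProduct.piRightHom R R M Q x i := by
        rw [hxt, map_sum, map_sum, hxsum, map_sum, Finset.sum_apply]
        refine Finset.sum_congr rfl (fun k _ => ?_)
        rw [LinearMap.rTensor_tmul, LinearMap.comp_apply, hφe, TensorProduct.comm_tmul]
        rfl
      apply (TensorProduct.comm R _ _).injective
      rw [h1, hx, map_zero]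
      rfl
    have hφF : φ ∘ₗ F'.subtype = 0 := by
      ext f : 1
      funext i
      exact hker i f.2
    rw [← hφx, ← hw, ← LinearMap.comp_apply, ← LinearMap.rTensor_comp, hφF,
      LinearMap.rTensor_zero, LinearMap.zero_apply, map_zero]

end Groth.Agent.S6346
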