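import Groth.Statements.S6347
import Mathlib
import Groth.Agent.Helper3.ML

set_option autoImplicit false
universe u
open scoped TensorProduct
open CAlg

namespace Groth.Agent.S6347

/-- Over a Noetherian ring R, the product module R^A (functions from any set A to R) is flat and
Mittag-Leffler. -/
theorem result (R : Type u) [CommRing R] [IsNoetherianRing R]
    (A : Type u) : Module.Flat R (A → R) ∧ CAlg.IsMittagLeffler R (A → R) := by
  have key : ∀ (N : Type u) [AddCommGroup N] [Module R N],
      Function.Injective (TensorProduct.piRightHom R R N (fun _ : A => R)) := by
    intro N _ _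
    rw [injective_iff_map_eq_zero]
    intro y hy
    obtain ⟨N', hfin, hN'⟩ := TensorProduct.exists_finite_submodule_left_of_setFinite
      ({y} : Set (N ⊗[R] (A → R))) (Set.finite_singleton y)
    obtain ⟨y', rfl⟩ := hN' (Set.mem_singleton y)
    haveI : Module.FinitePresentation R N' := Module.finitePresentation_of_finite R N'
    rw [Groth.Agent.Helper3.piRightHom_rTensor] at hy
    have h1 : TensorProduct.piRightHom R R N' (fun _ : A => R) y' = 0 := by
      funext a
      have h2 := congrFun hy a
      exact (injective_iff_map_eq_zero _).mp
        (Module.Flat.rTensor_preserves_injective_linearMap N'.subtype N'.injective_subtype) _ h2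
    have h2 := (Groth.Agent.Helper3.piRightHom_bijective_of_finitePresentation (R := R)
      (fun _ : A => R) N').1
    rw [(injective_iff_map_eq_zero _).mp h2 y' h1, map_zero]
  constructor
  · rw [Module.Flat.iff_rTensor_injective]
    intro I hI
    rw [injective_iff_map_eq_zero]
    intro z hz
    apply key I
    rw [map_zero]
    funext a
    have h2 := congrFun (Groth.Agent.Helper3.piRightHom_rTensor (fun _ : A => R)
      (Submodule.subtype I) z) a
    rw [hz, map_zero] at h2
    exact ((injective_iff_map_eq_zero _).mp
      (Module.Flat.rTensor_preserves_injective_linearMap I.subtype I.injective_subtype) _ h2.symm)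
  · intro ι Q _ _
    rw [injective_iff_map_eq_zero]
    intro x hx
    have hrel : ∀ (x : (A → R) ⊗[R] (∀ i, Q i)) (a : A) (i : ι),
        (TensorProduct.rid R (∀ i, Q i) (TensorProduct.piRightHom R R (∀ i, Q i) (fun _ : A => R)
          (TensorProduct.comm R _ _ x) a)) i =
        TensorProduct.lid R (Q i) ((LinearMap.proj a : (A → R) →ₗ[R] R).rTensor (Q i)
          (TensorProduct.piRightHom R R (A → R) Q x i)) := by
      intro x a i
      induction x using TensorProduct.induction_on with
      | zero => simp
      | tmul r q => simp
      | add u v hu hv =>
        simp only [map_add, Pi.add_apply] at hu hv ⊢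
        rw [hu, hv]
    have h0 : TensorProduct.comm R _ _ x = 0 := by
      apply key (∀ i, Q i)
      rw [map_zero]
      funext a
      apply (TensorProduct.rid R (∀ i, Q i)).injective
      rw [Pi.zero_apply, map_zero]
      funext i
      rw [hrel, hx]
      simp
    exact (TensorProduct.comm R _ _).map_eq_zero_iff.mp h0

end Groth.Agent.S6347
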