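import Groth.Statements.S6348
import Mathlib

set_option autoImplicit false
universe u
open scoped TensorProduct
open CAlg

namespace Groth.Agent.S6348

/-- For a ring map R → S and a Mittag-Leffler R-module M, the S-module S ⊗_R M is Mittag-Leffler. (The
companion parts on flat modules, projective modules and direct sums of countably generated modules
are standard base-change facts.) -/
theorem result (R S : Type u) [CommRing R] [CommRing S] [Algebra R S] (M : Type u)
    [AddCommGroup M] [Module R M] (hM : CAlg.IsMittagLeffler R M) :
    CAlg.IsMittagLeffler S (S ⊗[R] M) := by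
  intro ι Q _ _
  letI : ∀ i, Module R (Q i) := fun i => Module.compHom (Q i) (algebraMap R S)
  haveI : ∀ i, IsScalarTower R S (Q i) := fun i =>
    IsScalarTower.of_algebraMap_smul fun r x => rfl
  let e : ∀ (N : Type u) [AddCommGroup N] [Module S N] [Module R N] [IsScalarTower R S N],
      (S ⊗[R] M) ⊗[S] N ≃+ M ⊗[R] N := fun N _ _ _ _ =>
    ((TensorProduct.comm S (S ⊗[R] M) N).toAddEquiv.trans
      (TensorProduct.AlgebraTensorModule.cancelBaseChange R S S N M).toAddEquiv).trans
        (TensorProduct.comm R N M).toAddEquiv
  have he : ∀ (N : Type u) [AddCommGroup N] [Module S N] [Module R N] [IsScalarTower R S N]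
      (s : S) (m : M) (n : N), e N ((s ⊗ₜ[R] m) ⊗ₜ[S] n) = m ⊗ₜ[R] (s • n) := by
    intro N _ _ _ _ s m n
    simp [e]
  have hnat : ∀ x, TensorProduct.piRightHom R R M Q (e (∀ i, Q i) x) =
      fun i => e (Q i) (TensorProduct.piRightHom S S (S ⊗[R] M) Q x i) := by
    intro x
    induction x using TensorProduct.induction_on with
    | zero =>
      funext i
      simp
    | tmul w q =>
      induction w using TensorProduct.induction_on with
      | zero =>
        funext i
        simp
      | tmul s m =>
        funext i
        rw [he]
        simp [he]
      | add a b ha hb =>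
        rw [TensorProduct.add_tmul, map_add, map_add, ha, hb]
        funext i
        simp [TensorProduct.add_tmul]
    | add a b ha hb =>
      rw [map_add, map_add, ha, hb]
      funext i
      simp
  rw [injective_iff_map_eq_zero]
  intro x hx
  have h0 : e (∀ i, Q i) x = 0 := by
    apply hM ι Q
    rw [hnat, hx, map_zero]
    funext i
    simp
  exact (e (∀ i, Q i)).map_eq_zero_iff.mp h0

end Groth.Agent.S6348
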