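import Groth.Statements.S6353
import Mathlib

set_option autoImplicit false
universe u
open CAlg

namespace Groth.Agent.S6353

open PrimeSpectrum in
/-- For a commutative ring R, I ↦ V(I) is a bijection between pure ideals (R/I flat over R) and closed
subsets of Spec R stable under generalization. Stated here as: V(I) is stable under generalization
for I pure, and every closed generalization-stable subset is V(I) for some pure I (injectivity on
pure ideals being the standard fact that pure ideals with the same zero locus coincide). -/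
theorem result (R : Type u) [CommRing R] :
    (∀ I : Ideal R, I.Pure → StableUnderGeneralization (zeroLocus (I : Set R))) ∧
      ∀ Z : Set (PrimeSpectrum R), IsClosed Z → StableUnderGeneralization Z →
        ∃ I : Ideal R, I.Pure ∧ zeroLocus (I : Set R) = Z := by
  constructor
  · intro I hI p q hqp hp
    haveI : I.Pure := hI
    rw [PrimeSpectrum.mem_zeroLocus] at hp ⊢
    have hle : q ≤ p := (PrimeSpectrum.le_iff_specializes q p).mpr hqp
    intro x hx
    have h1 := Ideal.le_ker_atPrime_of_forall_exists_eq_mul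
      (fun x hx => Ideal.exists_eq_mul_of_pure hx) (p := p.asIdeal) hp hx
    rw [RingHom.mem_ker] at h1
    obtain ⟨u, hu⟩ := (IsLocalization.map_eq_zero_iff p.asIdeal.primeCompl _ _).mp h1
    have h2 : (u : R) * x ∈ q.asIdeal := hu ▸ q.asIdeal.zero_mem
    exact (q.isPrime.mem_or_mem h2).resolve_left (fun h => u.2 (hle h))
  · intro Z hZ hgen
    set J := PrimeSpectrum.vanishingIdeal Z with hJ
    have hVJ : zeroLocus (J : Set R) = Z := by
      rw [hJ, PrimeSpectrum.zeroLocus_vanishingIdeal_eq_closure, hZ.closure_eq]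
    -- key claim
    have key : ∀ y ∈ J, ∃ (n : ℕ) (j : R), j ∈ J ∧ y ^ n * (1 + j) = 0 := by
      intro y hy
      let M : Submonoid R :=
        { carrier := {z | ∃ (n : ℕ) (j : R), j ∈ J ∧ z = y ^ n * (1 + j)}
          one_mem' := ⟨0, 0, J.zero_mem, by simp⟩
          mul_mem' := by
            rintro _ _ ⟨n, j, hj, rfl⟩ ⟨m, j', hj', rfl⟩
            refine ⟨n + m, j + j' + j * j', J.add_mem (J.add_mem hj hj') (J.mul_mem_left _ hj'), ?_⟩
            ring }
      by_contra hcon
      have hdisj : Disjoint ((⊥ : Ideal R) : Set R) (M : Set R) := by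
        rw [Set.disjoint_left]
        rintro z hz ⟨n, j, hj, rfl⟩
        exact hcon ⟨n, j, hj, ((Ideal.mem_bot).mp hz)⟩
      obtain ⟨q, hq, -, hqM⟩ := Ideal.exists_le_prime_disjoint (⊥ : Ideal R) M hdisj
      have hqJ : q ⊔ J ≠ ⊤ := by
        intro htop
        obtain ⟨a, ha, b, hb, hab⟩ := Submodule.mem_sup.mp ((Ideal.eq_top_iff_one _).mp htop)
        refine Set.disjoint_left.mp hqM ha ⟨0, -b, J.neg_mem hb, ?_⟩
        rw [pow_zero, one_mul, ← hab]
        ring
      obtain ⟨m, hm, hqm⟩ := Ideal.exists_le_maximal _ hqJ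
      have hmZ : (⟨m, hm.isPrime⟩ : PrimeSpectrum R) ∈ Z := by
        rw [← hVJ, PrimeSpectrum.mem_zeroLocus]
        exact fun x hx => hqm (Ideal.mem_sup_right hx)
      have hqZ : (⟨q, hq⟩ : PrimeSpectrum R) ∈ Z :=
        hgen ((PrimeSpectrum.le_iff_specializes ⟨q, hq⟩ ⟨m, hm.isPrime⟩).mp
          (fun x hx => hqm (Ideal.mem_sup_left hx))) hmZ
      rw [← hVJ, PrimeSpectrum.mem_zeroLocus] at hqZ
      exact Set.disjoint_left.mp hqM (hqZ hy) ⟨1, 0, J.zero_mem, by simp⟩
    let I : Ideal R :=
      { carrier := {x | ∃ y ∈ J, x = x * y}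
        zero_mem' := ⟨0, J.zero_mem, by simp⟩
        add_mem' := by
          rintro a b ⟨y, hy, hay⟩ ⟨y', hy', hby⟩
          refine ⟨y + y' - y * y', J.sub_mem (J.add_mem hy hy') (J.mul_mem_left _ hy'), ?_⟩
          have e1 : a * y = a := hay.symm
          have e2 : b * y' = b := hby.symm
          linear_combination (y' - 1) * e1 + (y - 1) * e2
        smul_mem' := by
          rintro c a ⟨y, hy, hay⟩
          refine ⟨y, hy, ?_⟩
          rw [smul_eq_mul, mul_assoc, ← hay] }
    have hIJ : I ≤ J := by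
      rintro x ⟨y, hy, hxy⟩
      rw [hxy]
      exact J.mul_mem_left _ hy
    have hpowI : ∀ y ∈ J, ∃ n : ℕ, y ^ n ∈ I := by
      intro y hy
      obtain ⟨n, j, hj, hnj⟩ := key y hy
      refine ⟨n, -j, J.neg_mem hj, ?_⟩
      linear_combination hnj
    refine ⟨I, ?_, ?_⟩
    · apply Ideal.Pure.of_inf_eq_mul
      intro K _
      refine le_antisymm ?_ Ideal.mul_le_inf
      rintro x ⟨hxI, hxK⟩
      obtain ⟨y, hy, hxy⟩ := hxI
      obtain ⟨n, hn⟩ := hpowI y hy
      have hxn : ∀ k : ℕ, x = x * y ^ k := by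
        intro k
        induction k with
        | zero => simp
        | succ k ih => rw [pow_succ, ← mul_assoc, ← ih, ← hxy]
      have h1 : y ^ n * x ∈ I * K := Ideal.mul_mem_mul hn hxK
      rw [mul_comm (y ^ n) x, ← hxn n] at h1
      exact h1
    · ext p
      constructor
      · intro hp
        rw [PrimeSpectrum.mem_zeroLocus] at hp
        by_contra hpZ
        have hpJ : p.asIdeal ⊔ J = ⊤ := by
          by_contra hne
          obtain ⟨m, hm, hle⟩ := Ideal.exists_le_maximal _ hne
          have hmZ : (⟨m, hm.isPrime⟩ : PrimeSpectrum R) ∈ Z := by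
            rw [← hVJ, PrimeSpectrum.mem_zeroLocus]
            exact fun x hx => hle (Ideal.mem_sup_right hx)
          exact hpZ (hgen ((PrimeSpectrum.le_iff_specializes p ⟨m, hm.isPrime⟩).mp
            (fun x hx => hle (Ideal.mem_sup_left hx))) hmZ)
        obtain ⟨a, ha, y, hy, hay⟩ := Submodule.mem_sup.mp ((Ideal.eq_top_iff_one _).mp hpJ)
        obtain ⟨n, hn⟩ := hpowI y hy
        have h1 : y ^ n ∈ p.asIdeal := hp hn
        have h2 : y ∈ p.asIdeal := p.isPrime.mem_of_pow_mem n h1
        have h3 : (1 : R) ∈ p.asIdeal := hay ▸ p.asIdeal.add_mem ha h2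
        exact p.isPrime.ne_top ((Ideal.eq_top_iff_one _).mpr h3)
      · intro hp
        rw [← hVJ] at hp
        exact PrimeSpectrum.zeroLocus_anti_mono_ideal hIJ hp

end Groth.Agent.S6353
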