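import Groth.Statements.S6354
import Mathlib

set_option autoImplicit false
universe u
open CAlg

namespace Groth.Agent.S6354

open PrimeSpectrum in
/-- For an ideal I of a commutative ring R these four conditions are equivalent: (1) I is finitely
generated and pure; (2) I = (e) for some idempotent e; (3) I is pure with V(I) open in Spec R; (4)
R/I is projective as an R-module. -/
theorem result (R : Type u) [CommRing R] (I : Ideal R) :
    List.TFAE [I.Pure ∧ I.FG, ∃ e : R, IsIdempotentElem e ∧ I = Ideal.span {e},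
      I.Pure ∧ IsOpen (zeroLocus (I : Set R)), Module.Projective R (R ⧸ I)] := by
  have hpure_e : ∀ e : R, IsIdempotentElem e → (Ideal.span {e}).Pure := by
    intro e he
    apply Ideal.Pure.of_isIdempotentElem ⟨{e}, by simp⟩
    rw [IsIdempotentElem, Ideal.span_singleton_mul_span_singleton, he.eq]
  tfae_have 1 → 2 := by
    rintro ⟨hp, hfg⟩
    haveI : I.Pure := hp
    exact (Ideal.isIdempotentElem_iff_of_fg I hfg).mp (Ideal.isIdempotentElem_of_pure I)
  tfae_have 2 → 3 := by
    rintro ⟨e, he, rfl⟩
    refine ⟨hpure_e e he, ?_⟩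
    rw [PrimeSpectrum.zeroLocus_span]
    exact (PrimeSpectrum.isClopen_iff_zeroLocus.mpr ⟨e, he, rfl⟩).2
  tfae_have 3 → 2 := by
    rintro ⟨hp, hopen⟩
    haveI : I.Pure := hp
    have hclopen : IsClopen (zeroLocus (I : Set R)) := ⟨PrimeSpectrum.isClosed_zeroLocus _, hopen⟩
    obtain ⟨e, he, hze⟩ := PrimeSpectrum.isClopen_iff_zeroLocus.mp hclopen
    refine ⟨e, he, ?_⟩
    haveI : (Ideal.span {e}).Pure := hpure_e e he
    apply Ideal.zeroLocus_inj_of_pure.mp
    rw [hze, PrimeSpectrum.zeroLocus_span]
  tfae_have 2 → 4 := by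
    rintro ⟨e, he, rfl⟩
    -- R ⧸ (e) is a retract of R via x ↦ x * (1 - e)
    let s : (R ⧸ Ideal.span {e}) →ₗ[R] R :=
      Submodule.liftQ _ (LinearMap.mulRight R (1 - e)) (by
        rw [Ideal.span, Submodule.span_le, Set.singleton_subset_iff]
        show e * (1 - e) = 0
        rw [mul_sub, mul_one, he.eq, sub_self])
    apply Module.Projective.of_split s (Submodule.mkQ _)
    ext
    show (Submodule.Quotient.mk (1 * (1 - e)) : R ⧸ Ideal.span {e}) = Submodule.Quotient.mk 1
    rw [one_mul, Submodule.Quotient.eq]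
    have : (1 - e - 1 : R) = -e := by ring
    rw [this]
    exact (Ideal.span {e}).neg_mem (Ideal.mem_span_singleton_self e)
  tfae_have 4 → 1 := by
    intro hproj
    refine ⟨inferInstance, ?_⟩
    obtain ⟨s, hs⟩ := Module.projective_lifting_property (Submodule.mkQ I)
      (LinearMap.id : (R ⧸ I) →ₗ[R] (R ⧸ I)) (Submodule.mkQ_surjective I)
    set e' := s (Submodule.Quotient.mk 1) with he'
    have h1 : 1 - e' ∈ I := by
      have := LinearMap.congr_fun hs (Submodule.Quotient.mk 1)
      rw [LinearMap.comp_apply, LinearMap.id_apply, Submodule.mkQ_apply] at this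
      rw [← Submodule.Quotient.mk_eq_zero, Submodule.Quotient.mk_sub, he', this, sub_self]
    have h2 : ∀ x ∈ I, x * e' = 0 := by
      intro x hx
      have : x • (Submodule.Quotient.mk 1 : R ⧸ I) = 0 := by
        rw [← Submodule.Quotient.mk_smul, smul_eq_mul, mul_one, Submodule.Quotient.mk_eq_zero]
        exact hx
      rw [he', ← smul_eq_mul, ← map_smul, this, map_zero]
    refine ⟨{1 - e'}, ?_⟩
    rw [Finset.coe_singleton]
    apply le_antisymm
    · rw [Ideal.span_le, Set.singleton_subset_iff]
      exact h1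
    · intro x hx
      rw [Ideal.mem_span_singleton']
      exact ⟨x, by rw [mul_sub, mul_one, h2 x hx, sub_zero]⟩
  tfae_finish

end Groth.Agent.S6354
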