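import Groth.Statements.S6358
import Mathlib
import Groth.Agent.Helper3.MLDom

set_option autoImplicit false
universe u
open scoped TensorProduct
open CAlg

namespace Groth.Agent.S6358

/-- A module M over a commutative ring R is Mittag-Leffler exactly when each linear map f from a finite
free module R^n into M is mutually dominated by some linear map g : R^n → Q with Q finitely
presented, meaning that f ⊗ id_N and g ⊗ id_N have the same kernel for every R-module N. -/
theorem result (R : Type u) [CommRing R] (M : Type u)
    [AddCommGroup M] [Module R M] :
    CAlg.IsMittagLeffler R M ↔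
      ∀ (n : ℕ) (f : (Fin n → R) →ₗ[R] M),
        ∃ (Q : Type u) (_ : AddCommGroup Q) (_ : Module R Q) (_ : Module.FinitePresentation R Q)
          (g : (Fin n → R) →ₗ[R] Q),
          ∀ (N : Type u) [AddCommGroup N] [Module R N],
            LinearMap.ker (f.rTensor N) = LinearMap.ker (g.rTensor N) := by
  constructor
  · intro hM n f
    obtain ⟨m, K, hK, g, h, -, hg⟩ := Groth.Agent.Helper3.exists_dom_of_isML hM f
    exact ⟨(Fin m → R) ⧸ K, inferInstance, inferInstance,
      Groth.Agent.Helper3.finitePresentation_quot K hK, g, hg⟩
  · intro h
    exact Groth.Agent.Helper3.isML_of_forall_exists_dom h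

end Groth.Agent.S6358
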