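import Groth.Statements.S6362
import Mathlib
import Groth.Agent.Helper2.TensorPiAlgHom
open TensorProduct Groth.Agent.Helper2.TensorPiAlgHom
-- import your own Groth.Agent.* helpers here

set_option autoImplicit false
universe u
open scoped TensorProduct
open Fields

namespace Groth.Agent.S6362

/-- Let K/F be a finite separable extension and L/F an extension with L algebraically closed. Then the
L-algebra map K ⊗_F L → ∏_σ L, indexed by the F-algebra maps σ : K → L and sending a ⊗ b to (σ(a)
b)_σ, is an isomorphism; stated as bijectivity of that map. -/
theorem result {F K L : Type u} [Field F] [Field K] [Field L]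
    [Algebra F K] [Algebra F L] [FiniteDimensional F K] [Algebra.IsSeparable F K] [IsAlgClosed L] :
    Function.Bijective (fun x : K ⊗[F] L => fun σ : K →ₐ[F] L =>
      Algebra.TensorProduct.lift σ (AlgHom.id F L) (fun a b => Commute.all (σ a) b) x) := by
  have key : (fun x : K ⊗[F] L => fun σ : K →ₐ[F] L =>
      Algebra.TensorProduct.lift σ (AlgHom.id F L) (fun a b => Commute.all (σ a) b) x) =
      (Φ (F := F) (K := K) (L := L)) ∘ (TensorProduct.comm F K L) := by
    funext x
    funext σ
    induction x using TensorProduct.induction_on with
    | zero => simp
    | tmul a b => simp [Φ_tmul, mul_comm]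
    | add x y hx hy =>
      simp only [map_add, Function.comp_apply, Pi.add_apply] at hx hy ⊢
      rw [hx, hy]
  rw [key]
  exact Φ_bijective.comp (TensorProduct.comm F K L).bijective

end Groth.Agent.S6362
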