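import Groth.Statements.S6363
import Mathlib

set_option autoImplicit false
universe u
open scoped TensorProduct
open Fields

namespace Groth.Agent.S6363


/-- For a finite field extension L/K and a normal closure M of L/K, some K-algebra homomorphism from the
n-fold tensor power L ⊗_K ⋯ ⊗_K L to M is surjective, where n = [L : K]_s is the separable degree
(so n ≤ [L : K]). -/
theorem result {K L M : Type u} [Field K] [Field L] [Field M]
    [Algebra K L] [Algebra K M] [Algebra L M] [IsScalarTower K L M] [FiniteDimensional K L]
    [IsNormalClosure K L M] :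
    ∃ f : (⨂[K] _ : Fin (Field.finSepDegree K L), L) →ₐ[K] M, Function.Surjective f := by

  classical
  have hsplit : ∀ s : L, IsIntegral K s ∧
      ((minpoly K s).map (algebraMap K M)).Splits := fun s =>
    ⟨Algebra.IsIntegral.isIntegral s, IsNormalClosure.splits s⟩
  have hcard : Field.finSepDegree K L = Nat.card (L →ₐ[K] M) :=
    Field.finSepDegree_eq_of_adjoin_splits K L M (IntermediateField.adjoin_univ K L)
      (fun s _ => hsplit s)
  haveI : Finite (L →ₐ[K] M) := inferInstance
  let e : (L →ₐ[K] M) ≃ Fin (Field.finSepDegree K L) := Finite.equivFinOfCardEq hcard.symm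
  let mm : MultilinearMap K (fun _ : Fin (Field.finSepDegree K L) => L) M :=
    (MultilinearMap.mkPiAlgebra K (Fin (Field.finSepDegree K L)) M).compLinearMap
      (fun i => (e.symm i).toLinearMap)
  have hmm : ∀ x : Fin (Field.finSepDegree K L) → L, mm x = ∏ i, (e.symm i) (x i) := by
    intro x
    simp [mm]
  let f : (⨂[K] _ : Fin (Field.finSepDegree K L), L) →ₐ[K] M :=
    PiTensorProduct.liftAlgHom mm
      (by rw [hmm]; simp)
      (by intro x y; rw [hmm, hmm, hmm, ← Finset.prod_mul_distrib]; simp)
  have hf : ∀ x : Fin (Field.finSepDegree K L) → L,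
      f (PiTensorProduct.tprod K x) = ∏ i, (e.symm i) (x i) := by
    intro x
    rw [← hmm]
    simp [f, PiTensorProduct.liftAlgHom_apply]
  refine ⟨f, ?_⟩
  -- the range is a subfield containing all roots
  haveI : Normal K M := IsNormalClosure.normal (K := L)
  have hfield : IsField f.range := Subalgebra.isField_of_algebraic f.range
  have hroot : ∀ (x : L) (y : M), y ∈ (minpoly K x).rootSet M → y ∈ f.range := by
    intro x y hy
    have hy' : Polynomial.aeval y (minpoly K x) = 0 := by
      rw [Polynomial.mem_rootSet] at hy
      exact hy.2
    obtain ⟨φ, hφ⟩ := IntermediateField.exists_algHom_of_splits_of_aeval hsplit hy'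
    refine ⟨PiTensorProduct.tprod K (Function.update (fun _ => 1) (e φ) x), ?_⟩
    change f (PiTensorProduct.tprod K (Function.update (fun _ => 1) (e φ) x)) = y
    rw [hf, Finset.prod_eq_single (e φ)]
    · rw [Function.update_self, Equiv.symm_apply_apply, hφ]
    · intro i _ hi
      rw [Function.update_of_ne hi, map_one]
    · intro h; exact absurd (Finset.mem_univ _) h
  have htop : Subalgebra.toIntermediateField' f.range hfield = ⊤ := by
    rw [eq_top_iff, ← IsNormalClosure.adjoin_rootSet (F := K) (K := L) (L := M)]
    refine iSup_le fun x => ?_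
    rw [IntermediateField.adjoin_le_iff]
    intro y hy
    exact hroot x y hy
  intro y
  have : y ∈ Subalgebra.toIntermediateField' f.range hfield := by rw [htop]; trivial
  exact this

end Groth.Agent.S6363
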