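import Groth.Statements.S6364
import Mathlib

set_option autoImplicit false
universe u
open Fields

namespace Groth.Agent.S6364

open IntermediateField in
/-- Let L/K be a finite extension and a ∈ L with minimal polynomial P over K. Then P ^ e, with e = [L :
K(a)], is the characteristic polynomial of multiplication by a (the K-linear map x ↦ a x on L), and
e · deg P = [L : K]. -/
theorem result {K L : Type u} [Field K] [Field L] [Algebra K L] [FiniteDimensional K L]
    (a : L) :
    (Algebra.lmul K L a).charpoly = minpoly K a ^ Module.finrank K⟮a⟯ L ∧
      Module.finrank K⟮a⟯ L * (minpoly K a).natDegree = Module.finrank K L := by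
  classical
  have hint : IsIntegral K a := Algebra.IsIntegral.isIntegral a
  constructor
  · let pb : PowerBasis K K⟮a⟯ := IntermediateField.adjoin.powerBasis hint
    let c := Module.finBasis K⟮a⟯ L
    have hgen : algebraMap K⟮a⟯ L pb.gen = a := by
      simp [pb, IntermediateField.adjoin.powerBasis_gen]
    have h1 : (Algebra.lmul K L a).charpoly
        = (Algebra.leftMulMatrix (pb.basis.smulTower c) a).charpoly := by
      rw [Algebra.leftMulMatrix_apply, LinearMap.charpoly_toMatrix]
    have h3 : Algebra.leftMulMatrix (pb.basis.smulTower c) a
        = Matrix.blockDiagonal fun _ => Algebra.leftMulMatrix pb.basis pb.gen := by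
      rw [← Algebra.smulTower_leftMulMatrix_algebraMap pb.basis c pb.gen, hgen]
    rw [h1, h3]
    have h2 : ∀ (M : Fin (Module.finrank K⟮a⟯ L) → Matrix (Fin pb.dim) (Fin pb.dim) K),
        (Matrix.blockDiagonal M).charpoly = ∏ k, (M k).charpoly := by
      intro M
      unfold Matrix.charpoly
      rw [← Matrix.det_blockDiagonal]
      congr 1
      ext ⟨i, k⟩ ⟨j, k'⟩
      by_cases hk : k = k'
      · subst hk
        by_cases hij : i = j
        · subst hij
          simp [Matrix.blockDiagonal_apply]
        · simp [Matrix.blockDiagonal_apply, hij]
      · simp [Matrix.blockDiagonal_apply, hk]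
    rw [h2]
    simp only [charpoly_leftMulMatrix, Finset.prod_const, Finset.card_univ, Fintype.card_fin]
    congr 1
    simp [pb, IntermediateField.adjoin.powerBasis_gen, IntermediateField.minpoly_gen]
  · rw [← IntermediateField.adjoin.finrank hint, mul_comm]
    exact Module.finrank_mul_finrank K K⟮a⟯ L

end Groth.Agent.S6364
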