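import Groth.Statements.S6368
import Mathlib

set_option autoImplicit false
universe u
open scoped TensorProduct
open scoped TensorProduct
open CAlg

namespace Groth.Agent.S6368

/-- Let R → S be faithfully flat and M an R-module. If the S-module S ⊗_R M is countably generated then
M is countably generated. -/
theorem result (R S : Type u) [CommRing R] [CommRing S] [Algebra R S]
    [Module.FaithfullyFlat R S] (M : Type u) [AddCommGroup M] [Module R M]
    (h : CAlg.IsCountablyGenerated S (S ⊗[R] M)) : CAlg.IsCountablyGenerated R M := by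
  classical
  obtain ⟨s, hs, hspan⟩ := h
  have key : ∀ y : S ⊗[R] M, ∃ t : Finset M,
      y ∈ Submodule.span S ((fun m => (1 : S) ⊗ₜ[R] m) '' (t : Set M)) := by
    intro y
    induction y using TensorProduct.induction_on with
    | zero => exact ⟨∅, Submodule.zero_mem _⟩
    | tmul a m =>
      refine ⟨{m}, ?_⟩
      have : a ⊗ₜ[R] m = a • ((1 : S) ⊗ₜ[R] m) := by
        rw [TensorProduct.smul_tmul', smul_eq_mul, mul_one]
      rw [this]
      exact Submodule.smul_mem _ _ (Submodule.subset_span ⟨m, by simp, rfl⟩)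
    | add x y hx hy =>
      obtain ⟨t₁, h₁⟩ := hx
      obtain ⟨t₂, h₂⟩ := hy
      refine ⟨t₁ ∪ t₂, Submodule.add_mem _ (Submodule.span_mono ?_ h₁)
        (Submodule.span_mono ?_ h₂)⟩
      · exact Set.image_mono (by simp)
      · exact Set.image_mono (by simp)
  choose t ht using key
  let T : Set M := ⋃ y ∈ s, (t y : Set M)
  have hT : T.Countable := hs.biUnion (fun y _ => (t y).countable_toSet)
  refine ⟨T, hT, ?_⟩
  set M' := Submodule.span R T with hM'
  have htop : Submodule.span S ((fun m => (1 : S) ⊗ₜ[R] m) '' T) = ⊤ := by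
    rw [eq_top_iff, ← hspan, Submodule.span_le]
    intro y hy
    exact Submodule.span_mono (Set.image_mono (Set.subset_biUnion_of_mem hy)) (ht y)
  have hker : LinearMap.ker (M'.mkQ.baseChange S) = ⊤ := by
    rw [eq_top_iff, ← htop, Submodule.span_le]
    rintro _ ⟨m, hm, rfl⟩
    rw [SetLike.mem_coe, LinearMap.mem_ker, LinearMap.baseChange_tmul, Submodule.mkQ_apply,
      (Submodule.Quotient.mk_eq_zero M').2 (Submodule.subset_span hm), TensorProduct.tmul_zero]
  have hsurj : Function.Surjective (M'.mkQ.baseChange S) := by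
    have := LinearMap.lTensor_surjective S (Submodule.mkQ_surjective M')
    exact this
  haveI : Subsingleton (S ⊗[R] (M ⧸ M')) := by
    refine ⟨fun a b => ?_⟩
    obtain ⟨a, rfl⟩ := hsurj a
    obtain ⟨b, rfl⟩ := hsurj b
    have ha : a ∈ LinearMap.ker (M'.mkQ.baseChange S) := hker ▸ Submodule.mem_top
    have hb : b ∈ LinearMap.ker (M'.mkQ.baseChange S) := hker ▸ Submodule.mem_top
    rw [LinearMap.mem_ker.1 ha, LinearMap.mem_ker.1 hb]
  haveI : Subsingleton (M ⧸ M') := Module.FaithfullyFlat.lTensor_reflects_triviality R S (M ⧸ M')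
  exact Submodule.Quotient.subsingleton_iff.1 inferInstance

end Groth.Agent.S6368
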