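import Groth.Statements.S6369
import Mathlib

set_option autoImplicit false
universe u
open scoped TensorProduct
open CAlg
open scoped nonZeroDivisors

namespace Groth.Agent.S6369


/-- an ideal of a domain is "invertible" if some multiple is a nonzero principal ideal -/
def Inv {A : Type u} [CommRing A] (I : Ideal A) : Prop :=
  ∃ (J : Ideal A) (x : A), x ≠ 0 ∧ I * J = Ideal.span {x}

theorem Inv.cancel {A : Type u} [CommRing A] [IsDomain A] {I B C : Ideal A} (hI : Inv I)
    (h : I * B = I * C) : B = C := by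
  obtain ⟨J, x, hx, hJ⟩ := hI
  have : Ideal.span {x} * B = Ideal.span {x} * C := by
    rw [← hJ, mul_comm I J, mul_assoc, mul_assoc, h]
  exact (Ideal.span_singleton_mul_right_inj hx).mp this

theorem Inv.of_mul {A : Type u} [CommRing A] {I K : Ideal A} (h : Inv (I * K)) : Inv I := by
  obtain ⟨J, x, hx, hJ⟩ := h
  exact ⟨K * J, x, hx, by rw [← mul_assoc, hJ]⟩

theorem Inv.of_mul' {A : Type u} [CommRing A] {I K : Ideal A} (h : Inv (I * K)) : Inv K := by
  rw [mul_comm] at h
  exact h.of_mul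

theorem Inv.mul {A : Type u} [CommRing A] [IsDomain A] {I K : Ideal A} (hI : Inv I) (hK : Inv K) :
    Inv (I * K) := by
  obtain ⟨J, x, hx, hJ⟩ := hI
  obtain ⟨J', x', hx', hJ'⟩ := hK
  refine ⟨J * J', x * x', mul_ne_zero hx hx', ?_⟩
  rw [mul_mul_mul_comm, hJ, hJ', Ideal.span_singleton_mul_span_singleton]

theorem Inv.ne_bot {A : Type u} [CommRing A] {I : Ideal A} (hI : Inv I) : I ≠ ⊥ := by
  obtain ⟨J, x, hx, hJ⟩ := hI
  rintro rfl
  rw [Ideal.bot_mul] at hJ
  exact hx (Ideal.span_singleton_eq_bot.mp hJ.symm)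

theorem inv_span_singleton {A : Type u} [CommRing A] {x : A} (hx : x ≠ 0) :
    Inv (Ideal.span {x}) :=
  ⟨⊤, x, hx, Ideal.mul_top _⟩

theorem Inv.of_mem_of_prod {A : Type u} [CommRing A] {s : Multiset (Ideal A)} (h : Inv s.prod)
    {q : Ideal A} (hq : q ∈ s) : Inv q := by
  obtain ⟨s', rfl⟩ := Multiset.exists_cons_of_mem hq
  rw [Multiset.prod_cons] at h
  exact h.of_mul

/-- uniqueness of factorization of invertible ideals into primes -/
theorem unique_fact {A : Type u} [CommRing A] [IsDomain A] :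
    ∀ (n : ℕ) (s t : Multiset (Ideal A)), s.card = n → (∀ q ∈ s, q.IsPrime) → (∀ q ∈ t, q.IsPrime) →
      s.prod = t.prod → Inv s.prod → s = t := by
  classical
  intro n
  induction n with
  | zero =>
    intro s t hs _ ht hprod _
    rw [Multiset.card_eq_zero] at hs
    subst hs
    rw [Multiset.prod_zero] at hprod
    by_contra hne
    obtain ⟨q, hq⟩ := Multiset.exists_mem_of_ne_zero (Ne.symm hne)
    have h1 : t.prod ≤ q := Ideal.multiset_prod_le_inf.trans (Multiset.inf_le hq)
    rw [← hprod, Ideal.one_eq_top, top_le_iff] at h1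
    exact (ht q hq).ne_top h1
  | succ n ih =>
    intro s t hs hsp htp hprod hinv
    have hsne : s.toFinset.Nonempty := by
      rw [Multiset.toFinset_nonempty]
      intro h0
      rw [h0] at hs
      simp at hs
    obtain ⟨P, hPmem, hPmin⟩ := s.toFinset.exists_minimal hsne
    rw [Multiset.mem_toFinset] at hPmem
    have hP := hsp P hPmem
    have h1 : t.prod ≤ P := hprod ▸ Ideal.multiset_prod_le_inf.trans (Multiset.inf_le hPmem)
    obtain ⟨Q, hQmem, hQP⟩ := (hP.multiset_prod_le).mp h1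
    have hQ := htp Q hQmem
    have h2 : s.prod ≤ Q := hprod ▸ Ideal.multiset_prod_le_inf.trans (Multiset.inf_le hQmem)
    obtain ⟨P', hP'mem, hP'Q⟩ := (hQ.multiset_prod_le).mp h2
    have h3 : P ≤ P' := hPmin (Multiset.mem_toFinset.mpr hP'mem) (hP'Q.trans hQP)
    have hQeq : Q = P := le_antisymm hQP (h3.trans hP'Q)
    subst hQeq
    obtain ⟨s', rfl⟩ := Multiset.exists_cons_of_mem hPmem
    obtain ⟨t', rfl⟩ := Multiset.exists_cons_of_mem hQmem
    rw [Multiset.prod_cons, Multiset.prod_cons] at hprod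
    rw [Multiset.prod_cons] at hinv
    have h4 : s'.prod = t'.prod := hinv.of_mul.cancel hprod
    have h5 : s' = t' := ih s' t' (by simpa using hs) (fun q hq => hsp q (Multiset.mem_cons_of_mem hq))
      (fun q hq => htp q (Multiset.mem_cons_of_mem hq)) h4 hinv.of_mul'
    rw [h5]


theorem sup_span_eq_top_of_inv {R : Type u} [CommRing R] [IsDomain R]
    (H : ∀ I : Ideal R, I ≠ ⊥ → ∃ s : Multiset (Ideal R), (∀ p ∈ s, p.IsPrime) ∧ s.prod = I)
    (p : Ideal R) [hp : p.IsPrime] (hinv : Inv p) (a : R) (ha : a ∉ p) :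
    p ⊔ Ideal.span {a} = ⊤ := by
  classical
  have hpbot : p ≠ ⊥ := hinv.ne_bot
  set I₁ : Ideal R := p ⊔ Ideal.span {a} with hI₁
  set I₂ : Ideal R := p ⊔ Ideal.span {a ^ 2} with hI₂
  have hpI₁ : p ≤ I₁ := le_sup_left
  have hpI₂ : p ≤ I₂ := le_sup_left
  have hI₁bot : I₁ ≠ ⊥ := fun h => hpbot (le_bot_iff.mp (h ▸ hpI₁))
  have hI₂bot : I₂ ≠ ⊥ := fun h => hpbot (le_bot_iff.mp (h ▸ hpI₂))
  obtain ⟨s₁, hs₁p, hs₁⟩ := H I₁ hI₁bot
  obtain ⟨s₂, hs₂p, hs₂⟩ := H I₂ hI₂bot
  have hle₁ : ∀ q ∈ s₁, p ≤ q := fun q hq =>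
    hpI₁.trans (hs₁ ▸ Ideal.multiset_prod_le_inf.trans (Multiset.inf_le hq))
  have hle₂ : ∀ q ∈ s₂, p ≤ q := fun q hq =>
    hpI₂.trans (hs₂ ▸ Ideal.multiset_prod_le_inf.trans (Multiset.inf_le hq))
  let mk := Ideal.Quotient.mk p
  have hmk : Function.Surjective mk := Ideal.Quotient.mk_surjective
  have hker : RingHom.ker mk = p := Ideal.mk_ker
  let F : Ideal R → Ideal (R ⧸ p) := Ideal.map mk
  let G : Ideal (R ⧸ p) → Ideal R := Ideal.comap mk
  have hGF : ∀ q : Ideal R, p ≤ q → G (F q) = q := by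
    intro q hq
    show Ideal.comap mk (Ideal.map mk q) = q
    rw [Ideal.comap_map_of_surjective mk hmk, ← RingHom.ker_eq_comap_bot, hker, sup_eq_left.mpr hq]
  have hFprod : ∀ s : Multiset (Ideal R), (s.map F).prod = F s.prod := by
    intro s
    exact (map_multiset_prod (Ideal.mapHom mk) s).symm
  have hF₁ : F I₁ = Ideal.span {mk a} := by
    show Ideal.map mk (p ⊔ Ideal.span {a}) = _
    rw [Ideal.map_sup, Ideal.map_quotient_self, bot_sup_eq, Ideal.map_span, Set.image_singleton]
  have hF₂ : F I₂ = Ideal.span {mk a ^ 2} := by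
    show Ideal.map mk (p ⊔ Ideal.span {a ^ 2}) = _
    rw [Ideal.map_sup, Ideal.map_quotient_self, bot_sup_eq, Ideal.map_span, Set.image_singleton,
      map_pow]
  have hmka : mk a ≠ 0 := by
    rw [Ne, Ideal.Quotient.eq_zero_iff_mem]
    exact ha
  have hprime : ∀ s : Multiset (Ideal R), (∀ q ∈ s, q.IsPrime) → (∀ q ∈ s, p ≤ q) →
      ∀ q' ∈ s.map F, q'.IsPrime := by
    intro s hsp hsle q' hq'
    obtain ⟨q, hq, rfl⟩ := Multiset.mem_map.mp hq'
    haveI := hsp q hq
    exact Ideal.map_isPrime_of_surjective hmk (by rw [hker]; exact hsle q hq)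
  have huniq : s₂.map F = s₁.map F + s₁.map F := by
    apply unique_fact _ _ _ rfl (hprime s₂ hs₂p hle₂)
    · intro q' hq'
      rcases Multiset.mem_add.mp hq' with h | h <;> exact hprime s₁ hs₁p hle₁ q' h
    · rw [Multiset.prod_add, hFprod, hFprod, hs₁, hs₂, hF₁, hF₂,
        Ideal.span_singleton_mul_span_singleton, pow_two]
    · rw [hFprod, hs₂, hF₂]
      exact inv_span_singleton (pow_ne_zero 2 hmka)
  have hback : ∀ s : Multiset (Ideal R), (∀ q ∈ s, p ≤ q) → (s.map F).map G = s := by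
    intro s hs
    rw [Multiset.map_map]
    conv_rhs => rw [← Multiset.map_id s]
    exact Multiset.map_congr rfl fun q hq => hGF q (hs q hq)
  have hs₂eq : s₂ = s₁ + s₁ := by
    have := congrArg (Multiset.map G) huniq
    rwa [Multiset.map_add, hback s₂ hle₂, hback s₁ hle₁] at this
  have hI₂eq : I₂ = I₁ * I₁ := by
    rw [← hs₂, hs₂eq, Multiset.prod_add, hs₁]
  -- p ≤ p * I₁
  have hpa : a ∈ I₁ := Ideal.mem_sup_right (Ideal.mem_span_singleton_self a)
  have hple : p ≤ p * I₁ := by
    intro x hx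
    have hx2 : x ∈ I₁ * I₁ := hI₂eq ▸ hpI₂ hx
    have hexp : I₁ * I₁ ≤ p * I₁ ⊔ Ideal.span {a ^ 2} := by
      conv_lhs => rw [hI₁]
      rw [Ideal.sup_mul]
      refine sup_le le_sup_left ?_
      rw [← hI₁, hI₁, Ideal.mul_sup]
      refine sup_le ?_ ?_
      · rw [mul_comm]
        exact le_sup_of_le_left (Ideal.mul_mono_right (le_sup_right))
      · rw [Ideal.span_singleton_mul_span_singleton, ← pow_two]
        exact le_sup_right
    obtain ⟨y, hy, z, hz, rfl⟩ := Submodule.mem_sup.mp (hexp hx2)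
    obtain ⟨r, rfl⟩ := Ideal.mem_span_singleton'.mp hz
    have hyp : y ∈ p := (Ideal.mul_le_left : p * I₁ ≤ p) hy
    have hrp : r * a ^ 2 ∈ p := by
      have := p.sub_mem hx hyp
      simpa using this
    have hr : r ∈ p := by
      rcases hp.mem_or_mem hrp with h | h
      · exact h
      · exact absurd (hp.mem_of_pow_mem 2 h) ha
    refine Ideal.add_mem _ hy (Ideal.mul_mem_mul hr ?_)
    exact Ideal.pow_mem_of_mem _ hpa 2 (by norm_num)
  have hpeq : p * ⊤ = p * I₁ := by
    rw [Ideal.mul_top]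
    exact le_antisymm hple Ideal.mul_le_left
  exact (hinv.cancel hpeq).symm

/-- (1) ⇒ (3): let R be a domain such that every nonzero ideal is a product of nonzero prime ideals,
uniquely up to permutation of the factors. Then R is Noetherian, integrally closed and of dimension
at most one, i.e. a Dedekind domain in the Noetherian sense. (The converse and the description by
discrete valuation rings at maximal ideals are the standard equivalences.) -/
theorem result (R : Type u) [CommRing R] [IsDomain R]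
    (h : ∀ I : Ideal R, I ≠ ⊥ → ∃! s : Multiset (Ideal R), (∀ p ∈ s, p.IsPrime ∧ p ≠ ⊥) ∧ s.prod = I) :
    IsDedekindDomain R := by
  classical
  have H : ∀ I : Ideal R, I ≠ ⊥ → ∃ s : Multiset (Ideal R), (∀ p ∈ s, p.IsPrime) ∧ s.prod = I := by
    intro I hI
    obtain ⟨s, ⟨hs1, hs2⟩, -⟩ := h I hI
    exact ⟨s, fun p hp => (hs1 p hp).1, hs2⟩
  -- invertible nonzero primes are maximal
  have hmax : ∀ (p : Ideal R), p.IsPrime → Inv p → p.IsMaximal := by
    intro p hp hinv
    rw [Ideal.isMaximal_iff]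
    refine ⟨(Ideal.ne_top_iff_one p).mp hp.ne_top, fun J a hpJ hap haJ => ?_⟩
    have h1 := sup_span_eq_top_of_inv H p hinv a hap
    have h2 : p ⊔ Ideal.span {a} ≤ J := sup_le hpJ ((Ideal.span_singleton_le_iff_mem J).mpr haJ)
    rw [h1, top_le_iff] at h2
    rw [h2]
    exact Submodule.mem_top
  -- every nonzero prime is invertible
  have hprime : ∀ (p : Ideal R), p.IsPrime → p ≠ ⊥ → Inv p := by
    intro p hp hp0
    obtain ⟨a, hap, ha0⟩ := Submodule.exists_mem_ne_zero_of_ne_bot hp0
    obtain ⟨s, hs1, hs2⟩ := H (Ideal.span {a}) (by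
      rw [Ne, Ideal.span_singleton_eq_bot]; exact ha0)
    have hinvs : Inv s.prod := hs2 ▸ inv_span_singleton ha0
    have hle : s.prod ≤ p := by
      rw [hs2, Ideal.span_singleton_le_iff_mem]
      exact hap
    obtain ⟨q, hq, hqp⟩ := (hp.multiset_prod_le).mp hle
    have hqinv : Inv q := hinvs.of_mem_of_prod hq
    have hqmax := hmax q (hs1 q hq) hqinv
    have : q = p := hqmax.eq_of_le hp.ne_top hqp
    exact this ▸ hqinv
  -- every nonzero ideal is invertible
  have hall : ∀ I : Ideal R, I ≠ ⊥ → Inv I := by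
    intro I hI
    obtain ⟨s, ⟨hs1, hs2⟩, -⟩ := h I hI
    rw [← hs2]
    clear hs2
    induction s using Multiset.induction_on with
    | empty =>
      rw [Multiset.prod_zero]
      exact ⟨⊤, 1, one_ne_zero, by rw [Ideal.one_eq_top, Ideal.top_mul, Ideal.span_singleton_one]⟩
    | cons q s ih =>
      rw [Multiset.prod_cons]
      refine Inv.mul (hprime q (hs1 q (Multiset.mem_cons_self q s)).1
        (hs1 q (Multiset.mem_cons_self q s)).2) (ih fun p hp => hs1 p (Multiset.mem_cons_of_mem hp))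
  rw [isDedekindDomain_iff_mul_inv_cancel (K := FractionRing R)]
  intro I hI
  obtain ⟨a, J, ha, hJ⟩ := FractionalIdeal.exists_eq_spanSingleton_mul (K := FractionRing R) I
  have hJ0 : J ≠ ⊥ := by
    rintro rfl
    apply hI
    rw [hJ]
    simp
  obtain ⟨J', x, hx, hJ'⟩ := hall J hJ0
  rw [FractionalIdeal.mul_inv_cancel_iff]
  refine ⟨FractionalIdeal.spanSingleton R⁰ (algebraMap R (FractionRing R) a) * (J' : FractionalIdeal R⁰ (FractionRing R)) *
    FractionalIdeal.spanSingleton R⁰ (algebraMap R (FractionRing R) x)⁻¹, ?_⟩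
  have hax : algebraMap R (FractionRing R) a ≠ 0 := by
    rw [Ne, IsFractionRing.to_map_eq_zero_iff]; exact ha
  have hxx : algebraMap R (FractionRing R) x ≠ 0 := by
    rw [Ne, IsFractionRing.to_map_eq_zero_iff]; exact hx
  have h1 : (J : FractionalIdeal R⁰ (FractionRing R)) * (J' : FractionalIdeal R⁰ (FractionRing R)) =
      FractionalIdeal.spanSingleton R⁰ (algebraMap R (FractionRing R) x) := by
    rw [← FractionalIdeal.coeIdeal_mul, hJ', FractionalIdeal.coeIdeal_span_singleton]
  calc I * (FractionalIdeal.spanSingleton R⁰ (algebraMap R (FractionRing R) a) * (J' : FractionalIdeal R⁰ (FractionRing R)) *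
        FractionalIdeal.spanSingleton R⁰ (algebraMap R (FractionRing R) x)⁻¹)
      = (FractionalIdeal.spanSingleton R⁰ (algebraMap R (FractionRing R) a)⁻¹ *
          FractionalIdeal.spanSingleton R⁰ (algebraMap R (FractionRing R) a)) *
        ((J : FractionalIdeal R⁰ (FractionRing R)) * (J' : FractionalIdeal R⁰ (FractionRing R))) *
          FractionalIdeal.spanSingleton R⁰ (algebraMap R (FractionRing R) x)⁻¹ := by
        rw [hJ]; ring
    _ = 1 := by
        rw [h1, FractionalIdeal.spanSingleton_mul_spanSingleton, inv_mul_cancel₀ hax,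
          FractionalIdeal.spanSingleton_one, one_mul, FractionalIdeal.spanSingleton_mul_spanSingleton,
          mul_inv_cancel₀ hxx, FractionalIdeal.spanSingleton_one]

end Groth.Agent.S6369
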