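import Groth.Statements.S6370
import Groth.Agent.Helper5.KA4

set_option autoImplicit false
universe u
open CAlg

namespace Groth.Agent.S6370

/-- For a one-dimensional Noetherian domain A with fraction field K, a finite field extension L of K
(separable or not) and B the integral closure of A in L: B is a Dedekind domain, Spec B → Spec A is
surjective and has finite fibres, and at every maximal ideal Q of B the residue field B/Q is finite
over A/(Q ∩ A). -/
theorem result (A K L B : Type u) [CommRing A] [IsDomain A]
    [IsNoetherianRing A] (hdim : ringKrullDim A = 1) [Field K] [Algebra A K] [IsFractionRing A K]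
    [Field L] [Algebra K L] [FiniteDimensional K L] [Algebra A L] [IsScalarTower A K L]
    [CommRing B] [IsDomain B] [Algebra A B] [Algebra B L] [IsScalarTower A B L] [IsIntegralClosure B A L] :
    IsDedekindDomain B ∧ Function.Surjective (PrimeSpectrum.comap (algebraMap A B)) ∧
      (∀ p : PrimeSpectrum A, (PrimeSpectrum.comap (algebraMap A B) ⁻¹' {p}).Finite) ∧
      ∀ Q : Ideal B, Q.IsMaximal → Module.Finite (A ⧸ Q.comap (algebraMap A B)) (B ⧸ Q) := by
  classical
  have hKD : Ring.KrullDimLE 1 A := Ring.krullDimLE_iff.2 (by rw [hdim]; rfl)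
  have hB : Function.Injective (algebraMap B L) := IsIntegralClosure.algebraMap_injective B A L
  have hAL : Function.Injective (algebraMap A L) := by
    rw [IsScalarTower.algebraMap_eq A K L]
    exact (algebraMap K L).injective.comp (IsFractionRing.injective A K)
  have hAB : Function.Injective (algebraMap A B) := by
    intro x y hxy
    apply hAL
    rw [IsScalarTower.algebraMap_apply A B L, IsScalarTower.algebraMap_apply A B L, hxy]
  have hint : Algebra.IsIntegral A B := IsIntegralClosure.isIntegral_algebra A L
  have hfaith : FaithfulSMul A B := (faithfulSMul_iff_algebraMap_injective A B).2 hAB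
  have hfrac : IsFractionRing B L := IsIntegralClosure.isFractionRing_of_finite_extension A K L B
  have hnoeth : IsNoetherianRing B :=
    Groth.Agent.Helper5.KA.isNoetherianRing_of_between A K L B hB
  have hdimB : Ring.DimensionLEOne B :=
    ⟨fun {P} hP hPp => Groth.Agent.Helper5.KA.isMaximal_of_ne_bot A K L B hB P hP⟩
  have hic : IsIntegrallyClosed B :=
    (isIntegrallyClosed_iff L).mpr fun {x} hx =>
      ⟨IsIntegralClosure.mk' B x (isIntegral_trans (R := A) _ hx),
        IsIntegralClosure.algebraMap_mk' _ _ _⟩
  have hnotfield : ¬ IsField B := by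
    intro h
    have hA : IsField A := isField_of_isIntegral_of_isField hAB h
    have := ringKrullDim_eq_zero_of_isField hA
    rw [hdim] at this
    exact one_ne_zero this
  refine ⟨{ }, Algebra.IsIntegral.comap_surjective A B, ?_, ?_⟩
  · intro p
    by_cases hp : p.asIdeal = ⊥
    · refine Set.Subsingleton.finite ?_
      intro Q hQ Q' hQ'
      have h1 : Q.asIdeal.comap (algebraMap A B) = ⊥ := by
        have := congrArg PrimeSpectrum.asIdeal (show PrimeSpectrum.comap (algebraMap A B) Q = p from hQ)
        rw [← hp, ← this]
        rfl
      have h2 : Q'.asIdeal.comap (algebraMap A B) = ⊥ := by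
        have := congrArg PrimeSpectrum.asIdeal (show PrimeSpectrum.comap (algebraMap A B) Q' = p from hQ')
        rw [← hp, ← this]
        rfl
      ext1
      rw [Ideal.eq_bot_of_comap_eq_bot h1, Ideal.eq_bot_of_comap_eq_bot h2]
    · obtain ⟨a, hap, ha0⟩ := Submodule.exists_mem_ne_zero_of_ne_bot hp
      set J : Ideal B := p.asIdeal.map (algebraMap A B) with hJ
      have haJ : algebraMap A B a ∈ J := Ideal.mem_map_of_mem _ hap
      have hfl := Groth.Agent.Helper5.KA.length_quot_span_ne_top A K L B hB a ha0 J haJ
      rw [Module.length_ne_top_iff, isFiniteLength_iff_isNoetherian_isArtinian] at hfl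
      have hN0 : IsArtinian A (B ⧸ J.restrictScalars A) := hfl.2
      have hN1 : IsArtinian A (B ⧸ J) :=
        isArtinian_of_linearEquiv (Submodule.Quotient.restrictScalarsEquiv A J)
      have hN2 : IsArtinianRing (B ⧸ J) := isArtinian_of_tower A hN1
      have hfin : (PrimeSpectrum.zeroLocus (J : Set B)).Finite := by
        have := range_comap_of_surjective (B ⧸ J) (Ideal.Quotient.mk J)
          Ideal.Quotient.mk_surjective
        rw [Ideal.mk_ker] at this
        rw [← this]
        exact Set.finite_range _
      refine hfin.subset ?_
      intro Q hQ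
      have h1 : Q.asIdeal.comap (algebraMap A B) = p.asIdeal := by
        have := congrArg PrimeSpectrum.asIdeal (show PrimeSpectrum.comap (algebraMap A B) Q = p from hQ)
        rw [← this]
        rfl
      rw [PrimeSpectrum.mem_zeroLocus, SetLike.coe_subset_coe, hJ, Ideal.map_le_iff_le_comap, h1]
  · intro Q hQ
    have hQbot : Q ≠ ⊥ := Ring.ne_bot_of_isMaximal_of_not_isField hQ hnotfield
    obtain ⟨a, ha0, haQ⟩ := Groth.Agent.Helper5.KA.exists_ne_zero_mem A K L B hB Q hQbot
    have hfl := Groth.Agent.Helper5.KA.length_quot_span_ne_top A K L B hB a ha0 Q haQ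
    rw [Module.length_ne_top_iff, isFiniteLength_iff_isNoetherian_isArtinian] at hfl
    have hN0 : IsNoetherian A (B ⧸ Q.restrictScalars A) := hfl.1
    have hN1 : IsNoetherian A (B ⧸ Q) :=
      isNoetherian_of_linearEquiv (Submodule.Quotient.restrictScalarsEquiv A Q)
    have hfin : Module.Finite A (B ⧸ Q) := inferInstance
    exact Module.Finite.of_restrictScalars_finite A _ _

end Groth.Agent.S6370
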