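import Groth.Statements.S6371
import Mathlib

set_option autoImplicit false
universe u
open CAlg
open scoped TensorProduct

namespace Groth.Agent.S6371

open CategoryTheory in
theorem ringHom_ext_of_isEpi {R S T : Type u} [CommRing R] [CommRing S] [CommRing T] [Algebra R S]
    [Algebra.IsEpi R S] (f g : S →+* T)
    (h : f.comp (algebraMap R S) = g.comp (algebraMap R S)) : f = g := by
  have hepi : Epi (CommRingCat.ofHom (algebraMap R S)) :=
    CommRingCat.epi_iff_epi.mpr inferInstance
  have := (cancel_epi (CommRingCat.ofHom (algebraMap R S))).mp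
    (show CommRingCat.ofHom (algebraMap R S) ≫ CommRingCat.ofHom f =
      CommRingCat.ofHom (algebraMap R S) ≫ CommRingCat.ofHom g from by
        ext x
        exact RingHom.congr_fun h x)
  exact congrArg CommRingCat.Hom.hom this

/-- A ring map R → S is an epimorphism of rings if and only if for every prime p of R the localized map
R_p → S_p is an epimorphism, where S_p is S localized at the image of R ∖ p. -/
theorem result (R S : Type u) [CommRing R] [CommRing S] [Algebra R S] :
    Algebra.IsEpi R S ↔ ∀ (p : Ideal R) [p.IsPrime],
      Algebra.IsEpi (Localization.AtPrime p) (Localization (Algebra.algebraMapSubmonoid S p.primeCompl)) := by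
  constructor
  · intro hepi p _
    rw [Algebra.isEpi_iff_forall_one_tmul_eq]
    have h1 : ∀ s : S, (1 : Localization (Algebra.algebraMapSubmonoid S p.primeCompl))
        ⊗ₜ[Localization.AtPrime p] (algebraMap S _ s) =
        (algebraMap S (Localization (Algebra.algebraMapSubmonoid S p.primeCompl)) s)
          ⊗ₜ[Localization.AtPrime p] (1 : Localization (Algebra.algebraMapSubmonoid S p.primeCompl)) := by
      intro s
      have := ringHom_ext_of_isEpi (R := R) (S := S)
        ((Algebra.TensorProduct.includeLeftRingHom (R := Localization.AtPrime p)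
          (A := Localization (Algebra.algebraMapSubmonoid S p.primeCompl))
          (B := Localization (Algebra.algebraMapSubmonoid S p.primeCompl))).comp (algebraMap S _))
        (((Algebra.TensorProduct.includeRight (R := Localization.AtPrime p)
          (A := Localization (Algebra.algebraMapSubmonoid S p.primeCompl))
          (B := Localization (Algebra.algebraMapSubmonoid S p.primeCompl))).toRingHom).comp
            (algebraMap S _))
        (by
          ext r
          show (algebraMap S (Localization (Algebra.algebraMapSubmonoid S p.primeCompl))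
              (algebraMap R S r)) ⊗ₜ[Localization.AtPrime p] 1 =
            1 ⊗ₜ[Localization.AtPrime p]
              (algebraMap S (Localization (Algebra.algebraMapSubmonoid S p.primeCompl))
                (algebraMap R S r))
          rw [← IsScalarTower.algebraMap_apply,
            IsScalarTower.algebraMap_apply R (Localization.AtPrime p)
              (Localization (Algebra.algebraMapSubmonoid S p.primeCompl)),
            Algebra.algebraMap_eq_smul_one, TensorProduct.smul_tmul])
      exact (RingHom.congr_fun this s).symm
    intro x
    obtain ⟨⟨s, t⟩, hst⟩ := IsLocalization.surj (Algebra.algebraMapSubmonoid S p.primeCompl) x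
    obtain ⟨r, hr, hrt⟩ := t.2
    have hρ : IsUnit (algebraMap R (Localization.AtPrime p) r) :=
      IsLocalization.map_units (Localization.AtPrime p) (⟨r, hr⟩ : p.primeCompl)
    have hx : (algebraMap R (Localization.AtPrime p) r) • x =
        algebraMap S (Localization (Algebra.algebraMapSubmonoid S p.primeCompl)) s := by
      rw [Algebra.smul_def, ← hst, mul_comm]
      congr 1
      show _ = algebraMap S _ (t : S)
      rw [← hrt, ← IsScalarTower.algebraMap_apply, ← IsScalarTower.algebraMap_apply]
    apply (hρ.smul_left_cancel).mp
    rw [← TensorProduct.tmul_smul, TensorProduct.smul_tmul', hx]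
    exact h1 s
  · intro h
    rw [Algebra.isEpi_iff_forall_one_tmul_eq]
    intro s
    by_contra hne
    have hδ : (1 : S) ⊗ₜ[R] s - s ⊗ₜ[R] (1 : S) ≠ 0 := sub_ne_zero.mpr hne
    have hJ : (Submodule.span R {(1 : S) ⊗ₜ[R] s - s ⊗ₜ[R] (1 : S)}).annihilator ≠ ⊤ := by
      intro hJ
      have h1 : (1 : R) ∈ (Submodule.span R {(1 : S) ⊗ₜ[R] s - s ⊗ₜ[R] (1 : S)}).annihilator :=
        hJ ▸ Submodule.mem_top
      rw [Submodule.mem_annihilator_span_singleton, one_smul] at h1
      exact hδ h1
    obtain ⟨m, hm, hJm⟩ := Ideal.exists_le_maximal _ hJ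
    haveI := hm.isPrime
    haveI := h m
    have hle1 : Algebra.algebraMapSubmonoid S m.primeCompl ≤
        (Algebra.algebraMapSubmonoid (S ⊗[R] S) m.primeCompl).comap
          (Algebra.TensorProduct.includeLeftRingHom (R := R) (A := S) (B := S)) := by
      rintro _ ⟨r, hr, rfl⟩
      exact ⟨r, hr, rfl⟩
    have hle2 : Algebra.algebraMapSubmonoid S m.primeCompl ≤
        (Algebra.algebraMapSubmonoid (S ⊗[R] S) m.primeCompl).comap
          (Algebra.TensorProduct.includeRight (R := R) (A := S) (B := S)).toRingHom := by
      rintro _ ⟨r, hr, rfl⟩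
      refine ⟨r, hr, ?_⟩
      show (algebraMap R S r) ⊗ₜ[R] (1 : S) = (1 : S) ⊗ₜ[R] (algebraMap R S r)
      rw [Algebra.algebraMap_eq_smul_one, TensorProduct.smul_tmul]
    have hfg : (IsLocalization.map (Localization (Algebra.algebraMapSubmonoid (S ⊗[R] S) m.primeCompl))
        (Algebra.TensorProduct.includeLeftRingHom (R := R) (A := S) (B := S)) hle1 :
        Localization (Algebra.algebraMapSubmonoid S m.primeCompl) →+* _) =
        IsLocalization.map (Localization (Algebra.algebraMapSubmonoid (S ⊗[R] S) m.primeCompl))
        (Algebra.TensorProduct.includeRight (R := R) (A := S) (B := S)).toRingHom hle2 := by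
      apply ringHom_ext_of_isEpi (R := Localization.AtPrime m)
        (S := Localization (Algebra.algebraMapSubmonoid S m.primeCompl))
      apply IsLocalization.ringHom_ext m.primeCompl
      ext r
      simp only [RingHom.comp_apply]
      rw [← IsScalarTower.algebraMap_apply R (Localization.AtPrime m)
        (Localization (Algebra.algebraMapSubmonoid S m.primeCompl)),
        IsScalarTower.algebraMap_apply R S
        (Localization (Algebra.algebraMapSubmonoid S m.primeCompl)),
        IsLocalization.map_eq, IsLocalization.map_eq]
      congr 1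
      show (algebraMap R S r) ⊗ₜ[R] (1 : S) = (1 : S) ⊗ₜ[R] (algebraMap R S r)
      rw [Algebra.algebraMap_eq_smul_one, TensorProduct.smul_tmul]
    have h0 : algebraMap (S ⊗[R] S)
        (Localization (Algebra.algebraMapSubmonoid (S ⊗[R] S) m.primeCompl))
        ((1 : S) ⊗ₜ[R] s - s ⊗ₜ[R] (1 : S)) = 0 := by
      have h2 := RingHom.congr_fun hfg (algebraMap S _ s)
      rw [IsLocalization.map_eq, IsLocalization.map_eq] at h2
      rw [map_sub, sub_eq_zero]
      exact h2.symm
    obtain ⟨⟨c, r, hr, rfl⟩, hc⟩ := (IsLocalization.map_eq_zero_iff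
      (Algebra.algebraMapSubmonoid (S ⊗[R] S) m.primeCompl) _ _).mp h0
    have hrJ : r ∈ (Submodule.span R {(1 : S) ⊗ₜ[R] s - s ⊗ₜ[R] (1 : S)}).annihilator := by
      rw [Submodule.mem_annihilator_span_singleton, Algebra.smul_def]
      exact hc
    exact hr (hJm hrJ)

end Groth.Agent.S6371
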