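import Groth.Statements.S6374
import Mathlib
import Groth.Agent.S6371

set_option autoImplicit false
universe u
open CAlg
open scoped TensorProduct

namespace Groth.Agent.S6374

theorem isEpi_baseChange {R S K : Type u} [CommRing R] [CommRing S] [CommRing K] [Algebra R S]
    [Algebra R K] [Algebra.IsEpi R S] : Algebra.IsEpi K (K ⊗[R] S) := by
  rw [Algebra.isEpi_iff_forall_one_tmul_eq]
  have h1 : ∀ s : S, (1 : K ⊗[R] S) ⊗ₜ[K] ((1 : K) ⊗ₜ[R] s) =
      ((1 : K) ⊗ₜ[R] s) ⊗ₜ[K] (1 : K ⊗[R] S) := by
    intro s
    have := Groth.Agent.S6371.ringHom_ext_of_isEpi (R := R) (S := S)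
      ((Algebra.TensorProduct.includeLeftRingHom (R := K) (A := K ⊗[R] S)
        (B := K ⊗[R] S)).comp
          (Algebra.TensorProduct.includeRight (R := R) (A := K) (B := S)).toRingHom)
      ((Algebra.TensorProduct.includeRight (R := K) (A := K ⊗[R] S)
        (B := K ⊗[R] S)).toRingHom.comp
          (Algebra.TensorProduct.includeRight (R := R) (A := K) (B := S)).toRingHom)
      (by
        ext r
        show ((1 : K) ⊗ₜ[R] (algebraMap R S r)) ⊗ₜ[K] (1 : K ⊗[R] S) =
          (1 : K ⊗[R] S) ⊗ₜ[K] ((1 : K) ⊗ₜ[R] (algebraMap R S r))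
        have h0 : (1 : K) ⊗ₜ[R] (algebraMap R S r) = (algebraMap R K r) • (1 : K ⊗[R] S) := by
          rw [Algebra.algebraMap_eq_smul_one, TensorProduct.tmul_smul,
            Algebra.TensorProduct.one_def, TensorProduct.smul_tmul', TensorProduct.smul_tmul',
            Algebra.algebraMap_eq_smul_one, smul_assoc, one_smul]
        rw [h0, TensorProduct.smul_tmul])
    exact (RingHom.congr_fun this s).symm
  intro x
  induction x using TensorProduct.induction_on with
  | zero => simp
  | tmul k s =>
    have h0 : k ⊗ₜ[R] s = k • ((1 : K) ⊗ₜ[R] s) := by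
      rw [TensorProduct.smul_tmul', smul_eq_mul, mul_one]
    rw [h0, TensorProduct.tmul_smul, ← TensorProduct.smul_tmul', h1 s]
  | add a b ha hb => rw [TensorProduct.tmul_add, TensorProduct.add_tmul, ha, hb]

theorem bijective_of_isEpi_field {K A : Type u} [Field K] [CommRing A] [Algebra K A]
    [Algebra.IsEpi K A] [Nontrivial A] : Function.Bijective (algebraMap K A) := by
  refine ⟨(algebraMap K A).injective, ?_⟩
  let R' := LinearMap.range (Algebra.linearMap K A)
  rcases subsingleton_or_nontrivial (A ⧸ R') with h | _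
  · rwa [Submodule.Quotient.subsingleton_iff, LinearMap.range_eq_top] at h
  have : Subsingleton ((A ⧸ R') ⊗[K] (A ⧸ R')) := by
    refine subsingleton_of_forall_eq 0 fun y ↦ ?_
    induction y using TensorProduct.induction_on with
    | zero => rfl
    | add a b e₁ e₂ => rwa [e₁, zero_add]
    | tmul x y =>
      obtain ⟨x, rfl⟩ := R'.mkQ_surjective x
      obtain ⟨y, rfl⟩ := R'.mkQ_surjective y
      obtain ⟨s, hs⟩ : ∃ s, (1 : A) ⊗ₜ[K] s = x ⊗ₜ[K] y := by
        use x * y
        trans x ⊗ₜ 1 * 1 ⊗ₜ y
        · simp [(Algebra.isEpi_iff_forall_one_tmul_eq K A).mp]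
        · simp
      have h1 : R'.mkQ 1 = 0 :=
        (Submodule.Quotient.mk_eq_zero R').mpr ⟨1, map_one (algebraMap K A)⟩
      rw [← TensorProduct.map_tmul R'.mkQ R'.mkQ, ← hs, TensorProduct.map_tmul, h1,
        TensorProduct.zero_tmul]
  cases false_of_nontrivial_of_subsingleton ((A ⧸ R') ⊗[K] (A ⧸ R'))

/-- For an epimorphism of rings R → S, the induced map Spec S → Spec R is injective and induces trivial
residue field extensions; stated in the form the proof gives: for every prime p of R the fibre ring
S ⊗_R κ(p) is either zero or κ(p) → S ⊗_R κ(p) is bijective, together with injectivity of Spec S →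
Spec R. -/
theorem result (R S : Type u) [CommRing R] [CommRing S] [Algebra R S]
    [Algebra.IsEpi R S] :
    Function.Injective (PrimeSpectrum.comap (algebraMap R S)) ∧
      ∀ (p : Ideal R) [p.IsPrime],
        Subsingleton (p.Fiber S) ∨ Function.Bijective (algebraMap p.ResidueField (p.Fiber S)) := by
  have h2 : ∀ (p : Ideal R) [p.IsPrime], Subsingleton (p.Fiber S) ∨
      Function.Bijective (algebraMap p.ResidueField (p.Fiber S)) := by
    intro p _
    rcases subsingleton_or_nontrivial (p.Fiber S) with h | h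
    · exact Or.inl h
    · right
      haveI : Algebra.IsEpi p.ResidueField (p.Fiber S) := isEpi_baseChange
      exact bijective_of_isEpi_field
  refine ⟨?_, fun p _ => h2 p⟩
  intro q q' hqq'
  have hq : q ∈ PrimeSpectrum.comap (algebraMap R S) ⁻¹'
      {PrimeSpectrum.comap (algebraMap R S) q} := rfl
  have hq' : q' ∈ PrimeSpectrum.comap (algebraMap R S) ⁻¹'
      {PrimeSpectrum.comap (algebraMap R S) q} := hqq'.symm
  rcases h2 (PrimeSpectrum.comap (algebraMap R S) q).asIdeal with h | h
  · exact ((PrimeSpectrum.preimageEquivFiber R S _ ⟨q, hq⟩).isPrime.ne_top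
      (Subsingleton.elim _ _)).elim
  · haveI : Subsingleton (PrimeSpectrum
        ((PrimeSpectrum.comap (algebraMap R S) q).asIdeal.Fiber S)) :=
      (PrimeSpectrum.comapEquiv (RingEquiv.ofBijective _ h)).symm.toEquiv.subsingleton
    have h3 := (PrimeSpectrum.preimageEquivFiber R S _).injective
      (Subsingleton.elim (PrimeSpectrum.preimageEquivFiber R S _ ⟨q, hq⟩)
        (PrimeSpectrum.preimageEquivFiber R S _ ⟨q', hq'⟩))
    exact congrArg Subtype.val h3

end Groth.Agent.S6374
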