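import Groth.Statements.S6375
import Mathlib

set_option autoImplicit false
universe u
open scoped TensorProduct
open CAlg

namespace Groth.Agent.S6375


open TensorProduct Cardinal

theorem exists_fg_rTensor_eq_zero {R M N : Type*} [CommRing R] [AddCommGroup M] [Module R M]
    [AddCommGroup N] [Module R N]
    (P : Submodule R M) (hP : P.FG) (u : P ⊗[R] N) (hu : (P.subtype.rTensor N) u = 0) :
    ∃ (Q : Submodule R M) (_ : Q.FG) (hPQ : P ≤ Q), ((Submodule.inclusion hPQ).rTensor N) u = 0 := by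
  classical
  have h1 : Module.DirectLimit.of R {P : Submodule R M // P.FG} (fun P => P.val ⊗[R] N)
      (fun _ _ h => (Submodule.inclusion h).rTensor N) ⟨P, hP⟩ u = 0 := by
    apply (Submodule.FG.rTensor.directLimit R M N).injective
    rw [Submodule.FG.rTensor.directLimit_apply' R M N hP, hu, map_zero]
  obtain ⟨Q, hPQ, h⟩ := Module.DirectLimit.of.zero_exact h1
  exact ⟨Q.1, Q.2, hPQ, h⟩

/-- zigzag data for `g` with matrix `a` over `R` -/
def Zig (R S : Type u) [CommRing R] [CommRing S] [Algebra R S] (g : S) (N n : ℕ)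
    (a : Fin (N + 2) → Fin n → R) : Prop :=
  ∃ (t : Fin (N + 2) → S) (y : Fin n → S), t 0 = g ∧ t 1 = 1 ∧ (∀ j, ∑ i, a i j • t i = 0) ∧
    ∀ i, (Fin.cons 1 (Fin.cons (-g) 0) : Fin (N + 2) → S) i = ∑ j, a i j • y j

theorem zig_unique {R S : Type u} [CommRing R] [CommRing S] [Algebra R S] {g g' : S} {N n : ℕ}
    {a : Fin (N + 2) → Fin n → R} (h : Zig R S g N n a) (h' : Zig R S g' N n a) : g = g' := by
  obtain ⟨t, y, ht0, ht1, ht, hy⟩ := h
  obtain ⟨t', y', ht0', ht1', ht', hy'⟩ := h'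
  have key : ∑ i, t' i * (∑ j, a i j • y j) = 0 := by
    calc ∑ i, t' i * (∑ j, a i j • y j) = ∑ j, (∑ i, a i j • t' i) * y j := by
          simp only [Finset.mul_sum, Finset.sum_mul]
          rw [Finset.sum_comm]
          refine Finset.sum_congr rfl (fun j _ => Finset.sum_congr rfl (fun i _ => ?_))
          simp only [Algebra.smul_def]
          ring
      _ = 0 := by simp [ht']
  simp only [← hy] at key
  rw [Fin.sum_univ_succ, Fin.sum_univ_succ] at key
  simp only [Fin.cons_zero, Fin.cons_succ, Pi.zero_apply, mul_zero, Finset.sum_const_zero,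
    add_zero, mul_one] at key
  have e1 : t' (Fin.succ 0) = 1 := ht1'
  rw [ht0', e1] at key
  linear_combination -key

theorem exists_zig {R S : Type u} [CommRing R] [CommRing S] [Algebra R S] (g : S)
    (hg : (1 : S) ⊗ₜ[R] g = g ⊗ₜ[R] (1 : S)) :
    ∃ (N n : ℕ) (a : Fin (N + 2) → Fin n → R), Zig R S g N n a := by
  set P₀ : Submodule R S := Submodule.span R {g, 1} with hP₀
  have hgP : g ∈ P₀ := Submodule.subset_span (by simp)
  have h1P : (1 : S) ∈ P₀ := Submodule.subset_span (by simp)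
  have hfg : P₀.FG := Submodule.fg_span (by simp)
  obtain ⟨Q, hQ, hPQ, hu⟩ := exists_fg_rTensor_eq_zero P₀ hfg
    ((⟨g, hgP⟩ : P₀) ⊗ₜ[R] (1 : S) - (⟨1, h1P⟩ : P₀) ⊗ₜ[R] g)
    (by simp [hg])
  haveI : Module.Finite R Q := Module.Finite.iff_fg.mpr hQ
  obtain ⟨N, m', hm'⟩ := Module.Finite.exists_fin (R := R) (M := Q)
  let m : Fin (N + 2) → Q := Fin.cons ⟨g, hPQ hgP⟩ (Fin.cons ⟨1, hPQ h1P⟩ m')
  let nv : Fin (N + 2) → S := Fin.cons 1 (Fin.cons (-g) 0)
  have hm : Submodule.span R (Set.range m) = ⊤ := by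
    rw [eq_top_iff, ← hm']
    apply Submodule.span_mono
    rintro _ ⟨i, rfl⟩
    exact ⟨i.succ.succ, by simp [m]⟩
  have hsum : ∑ i, m i ⊗ₜ[R] nv i = (0 : Q ⊗[R] S) := by
    rw [Fin.sum_univ_succ, Fin.sum_univ_succ]
    have e0 : m 0 = ⟨g, hPQ hgP⟩ := rfl
    have e1 : m (Fin.succ 0) = ⟨1, hPQ h1P⟩ := rfl
    have e2 : ∀ i : Fin N, nv i.succ.succ = 0 := fun i => rfl
    have n0 : nv 0 = 1 := rfl
    have n1 : nv (Fin.succ 0) = -g := rfl
    have := hu
    simp only [map_sub, LinearMap.rTensor_tmul] at this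
    simp only [e0, e1, e2, n0, n1, TensorProduct.tmul_zero, Finset.sum_const_zero, add_zero,
      TensorProduct.tmul_neg]
    have h3 : ∀ (x y : Q ⊗[R] S), x - y = 0 → x + -y = 0 := fun x y h =>
      (sub_eq_add_neg x y).symm.trans h
    exact h3 _ _ this
  obtain ⟨k, a, y, h1, h2⟩ := TensorProduct.vanishesTrivially_of_sum_tmul_eq_zero R hm hsum
  refine ⟨N, k, a, fun i => (m i : S), y, rfl, rfl, ?_, h1⟩
  intro j
  have := congrArg (Subtype.val) (h2 j)
  simpa using this

/-- For an infinite source ring: if R → S is an epimorphism of rings with R infinite, then |S| ≤ |R| as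
cardinals. (For finite R the published statement also asserts |S| ≤ |R|, but its proof only gives
that S is countable and omits the rest, so that case is not included.) -/
theorem result (R S : Type u) [CommRing R] [CommRing S] [Algebra R S] [Algebra.IsEpi R S]
    [Infinite R] : Cardinal.mk S ≤ Cardinal.mk R := by
  have hepi := (Algebra.isEpi_iff_forall_one_tmul_eq R S).mp inferInstance
  have hex : ∀ g : S, ∃ (p : ℕ × ℕ) (a : Fin (p.1 + 2) → Fin p.2 → R), Zig R S g p.1 p.2 a := by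
    intro g
    obtain ⟨N, n, a, h⟩ := exists_zig (R := R) g (hepi g)
    exact ⟨(N, n), a, h⟩
  choose p a ha using hex
  let enc : S → Σ p : ℕ × ℕ, (Fin (p.1 + 2) → Fin p.2 → R) := fun g => ⟨p g, a g⟩
  have henc : Function.Injective enc := by
    intro g g' h
    have aux : ∀ (x x' : Σ p : ℕ × ℕ, (Fin (p.1 + 2) → Fin p.2 → R)), x = x' →
        Zig R S g x.1.1 x.1.2 x.2 → Zig R S g' x'.1.1 x'.1.2 x'.2 → g = g' := by
      rintro x _ rfl h1 h2
      exact zig_unique h1 h2
    exact aux _ _ h (ha g) (ha g')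
  have hR : ℵ₀ ≤ #R := Cardinal.aleph0_le_mk R
  have hfib : ∀ q : ℕ × ℕ, #(Fin (q.1 + 2) → Fin q.2 → R) ≤ #R := by
    intro q
    have e : (Fin (q.1 + 2) → Fin q.2 → R) ≃ (Fin (q.1 + 2) × Fin q.2 → R) :=
      (Equiv.curry _ _ _).symm
    rw [Cardinal.mk_congr e, Cardinal.mk_arrow]
    simp only [Cardinal.mk_fintype, Fintype.card_prod, Fintype.card_fin, Cardinal.lift_natCast,
      Cardinal.lift_uzero]
    exact Cardinal.power_nat_le hR
  calc #S ≤ #(Σ p : ℕ × ℕ, (Fin (p.1 + 2) → Fin p.2 → R)) := Cardinal.mk_le_of_injective henc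
    _ = Cardinal.sum fun q : ℕ × ℕ => #(Fin (q.1 + 2) → Fin q.2 → R) := Cardinal.mk_sigma _
    _ ≤ Cardinal.sum fun _ : ℕ × ℕ => #R := Cardinal.sum_le_sum _ _ hfib
    _ = #R := by
      rw [Cardinal.sum_const]
      simp only [Cardinal.mk_prod, Cardinal.mk_eq_aleph0, Cardinal.lift_aleph0, Cardinal.lift_id,
        Cardinal.aleph0_mul_aleph0, Cardinal.lift_uzero]
      exact Cardinal.aleph0_mul_eq hR

end Groth.Agent.S6375
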