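import Groth.Statements.S6376
import Mathlib

set_option autoImplicit false
universe u
open CAlg

namespace Groth.Agent.S6376

/-- A ring map R → S is an epimorphism if and only if for all S-modules N₁, N₂ every R-linear map N₁ →
N₂ is S-linear, i.e. restriction of scalars from S-modules to R-modules is fully faithful. -/
theorem result (R S : Type u) [CommRing R] [CommRing S] [Algebra R S] :
    Algebra.IsEpi R S ↔
      ∀ (N₁ N₂ : Type u) [AddCommGroup N₁] [Module S N₁] [Module R N₁] [IsScalarTower R S N₁]
        [AddCommGroup N₂] [Module S N₂] [Module R N₂] [IsScalarTower R S N₂] (φ : N₁ →ₗ[R] N₂),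
        ∀ (s : S) (x : N₁), φ (s • x) = s • φ x := by
  constructor
  · intro hepi N₁ N₂ _ _ _ _ _ _ _ _ φ s x
    -- s ⊗ x = 1 ⊗ (s • x) in S ⊗[R] N₁
    have key : (s ⊗ₜ[R] x : TensorProduct R S N₁) = 1 ⊗ₜ[R] (s • x) := by
      apply (TensorProduct.lid' R S N₁).injective
      simp
    let g : TensorProduct R S N₁ →ₗ[R] N₂ :=
      TensorProduct.lift
        { toFun := fun a => a • φ
          map_add' := fun a b => by ext y; simp [add_smul]
          map_smul' := fun r a => by ext y; simp }
    have := congrArg g key
    simp only [g, TensorProduct.lift.tmul, LinearMap.coe_mk, AddHom.coe_mk, LinearMap.smul_apply,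
      one_smul] at this
    exact this.symm
  · intro h
    rw [Algebra.isEpi_iff_forall_one_tmul_eq]
    intro a
    let φ : S →ₗ[R] TensorProduct R S S :=
      { toFun := fun b => 1 ⊗ₜ[R] b
        map_add' := fun b c => TensorProduct.tmul_add _ _ _
        map_smul' := fun r b => by simp }
    have := h S (TensorProduct R S S) φ a 1
    simp only [φ, LinearMap.coe_mk, AddHom.coe_mk, smul_eq_mul, mul_one] at this
    rw [this, TensorProduct.smul_tmul', smul_eq_mul, mul_one]

end Groth.Agent.S6376
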