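import Groth.Statements.S6380
import Mathlib
import Groth.Agent.Helper3.MLDom

set_option autoImplicit false
universe u
open scoped TensorProduct
open scoped TensorProduct
open CAlg

namespace Groth.Agent.S6380

/-- Given a linear map f : P → M of R-modules with P finitely presented, an R-module Q and an element x
of P ⊗ Q in the kernel of f ⊗ id_Q, one can factor f as h ∘ f' through some finitely presented
module P' (with f' : P → P' and h : P' → M) so that already f' ⊗ id_Q sends x to zero. -/
theorem result (R : Type u) [CommRing R] {P M Q : Type u}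
    [AddCommGroup P] [Module R P] [Module.FinitePresentation R P] [AddCommGroup M] [Module R M]
    [AddCommGroup Q] [Module R Q] (f : P →ₗ[R] M) (x : P ⊗[R] Q) (hx : f.rTensor Q x = 0) :
    ∃ (P' : Type u) (_ : AddCommGroup P') (_ : Module R P') (_ : Module.FinitePresentation R P')
      (f' : P →ₗ[R] P') (h : P' →ₗ[R] M), f = h ∘ₗ f' ∧ f'.rTensor Q x = 0 := by
  classical
  obtain ⟨n, π, hπ⟩ := Module.Finite.exists_fin' R P
  obtain ⟨w, rfl⟩ := LinearMap.rTensor_surjective Q hπ x
  have hw : ((f ∘ₗ π).rTensor Q) w = 0 := by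
    rw [LinearMap.rTensor_comp, LinearMap.comp_apply, hx]
  obtain ⟨m, K, hK, g, h, hc, hg⟩ := Groth.Agent.Helper3.exists_fac_rTensor_eq_zero (f ∘ₗ π) Q w hw
  haveI : Module.FinitePresentation R ((Fin m → R) ⧸ K) :=
    Groth.Agent.Helper3.finitePresentation_quot K hK
  have hkerfg : (LinearMap.ker π).FG := Module.FinitePresentation.fg_ker π hπ
  let L : Submodule R ((Fin m → R) ⧸ K) := (LinearMap.ker π).map g
  have hLfg : L.FG := hkerfg.map g
  haveI : Module.FinitePresentation R (((Fin m → R) ⧸ K) ⧸ L) :=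
    Module.finitePresentation_of_surjective L.mkQ (Submodule.mkQ_surjective L)
      (by rwa [Submodule.ker_mkQ])
  have hle : LinearMap.ker π ≤ LinearMap.ker (L.mkQ ∘ₗ g) := by
    intro v hv
    rw [LinearMap.mem_ker, LinearMap.comp_apply, Submodule.mkQ_apply,
      Submodule.Quotient.mk_eq_zero]
    exact ⟨v, hv, rfl⟩
  obtain ⟨f', hf'⟩ := Groth.Agent.Helper3.exists_factor_of_surjective π hπ (L.mkQ ∘ₗ g) hle
  have hLh : L ≤ LinearMap.ker h := by
    rintro _ ⟨v, hv, rfl⟩
    rw [LinearMap.mem_ker]
    have := LinearMap.congr_fun hc v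
    rw [LinearMap.comp_apply, LinearMap.comp_apply, LinearMap.mem_ker.mp hv, map_zero] at this
    exact this
  refine ⟨((Fin m → R) ⧸ K) ⧸ L, inferInstance, inferInstance, inferInstance, f', L.liftQ h hLh,
    ?_, ?_⟩
  · apply LinearMap.ext
    intro p
    obtain ⟨v, rfl⟩ := hπ p
    have h1 := LinearMap.congr_fun hf' v
    have h2 := LinearMap.congr_fun hc v
    simp only [LinearMap.comp_apply] at h1 h2 ⊢
    rw [h1, Submodule.mkQ_apply, Submodule.liftQ_apply, h2]
  · rw [← LinearMap.comp_apply, ← LinearMap.rTensor_comp, hf', LinearMap.rTensor_comp,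
      LinearMap.comp_apply, hg, map_zero]

end Groth.Agent.S6380
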