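import Groth.Statements.S6382
import Mathlib
import Groth.Agent.Helper2.LocCrit

set_option autoImplicit false
universe u
open scoped TensorProduct
open CAlg

namespace Groth.Agent.S6382

open Function TensorProduct
set_option linter.style.haveILetI false
section flatTensor
variable {R S S' : Type u} [CommRing R] [CommRing S] [CommRing S'] [Algebra R S] [Algebra S S']
  [Algebra R S'] [IsScalarTower R S S'] {M : Type u} [AddCommGroup M] [Module S M] [Module R M]
  [IsScalarTower R S M]

theorem flat_tensor [Module.Flat R M] [Module.Flat S S'] : Module.Flat R (S' ⊗[S] M) := by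
  rw [Module.Flat.iff_lTensor_injective']
  intro I
  have h1 : Injective (AlgebraTensorModule.lTensor S M I.subtype) := by
    have : Injective (LinearMap.lTensor M I.subtype) :=
      Module.Flat.lTensor_preserves_injective_linearMap _ I.injective_subtype
    exact this
  have h2 : Injective (LinearMap.lTensor S' (AlgebraTensorModule.lTensor S M I.subtype)) :=
    Module.Flat.lTensor_preserves_injective_linearMap _ h1
  have key : ∀ x : (S' ⊗[S] M) ⊗[R] I,
      AlgebraTensorModule.assoc R S S' S' M R (LinearMap.lTensor (S' ⊗[S] M) I.subtype x) =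
        LinearMap.lTensor S' (AlgebraTensorModule.lTensor S M I.subtype)
          (AlgebraTensorModule.assoc R S S' S' M I x) := by
    intro x
    induction x using TensorProduct.induction_on with
    | zero => simp
    | add x y hx hy => simp only [map_add, hx, hy]
    | tmul t i =>
      induction t using TensorProduct.induction_on with
      | zero => simp
      | add x y hx hy => simp only [TensorProduct.add_tmul, map_add, hx, hy]
      | tmul s m => simp
  rw [injective_iff_map_eq_zero]
  intro x hx
  have := key x
  rw [hx, map_zero] at this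
  have h3 := h2 (this.symm.trans (map_zero _).symm)
  exact (AlgebraTensorModule.assoc R S S' S' M I).injective (h3.trans (map_zero _).symm)

end flatTensor


section injMap
variable {R R' : Type u} [CommRing R] [CommRing R'] [Algebra R R'] (I : Ideal R)
  {T : Type u} [AddCommGroup T] [Module R T] [Module R' T] [IsScalarTower R R' T]

/-- the comparison map `I ⊗[R] T → IR' ⊗[R'] T` -/
noncomputable def sigma : I ⊗[R] T →ₗ[R] (I.map (algebraMap R R')) ⊗[R'] T :=
  TensorProduct.lift
    { toFun := fun i =>
        { toFun := fun t => (⟨algebraMap R R' i, Ideal.mem_map_of_mem _ i.2⟩ :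
            I.map (algebraMap R R')) ⊗ₜ[R'] t
          map_add' := fun t t' => TensorProduct.tmul_add _ _ _
          map_smul' := fun r t => by
            simp only [RingHom.id_apply]
            rw [← algebraMap_smul R' r t, TensorProduct.tmul_smul, algebraMap_smul] }
      map_add' := fun i i' => by
        ext t
        simp only [LinearMap.coe_mk, AddHom.coe_mk, LinearMap.add_apply]
        rw [← TensorProduct.add_tmul]
        congr 1
        ext
        simp
      map_smul' := fun r i => by
        ext t
        simp only [LinearMap.coe_mk, AddHom.coe_mk, RingHom.id_apply, LinearMap.smul_apply]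
        rw [← algebraMap_smul R' r ((_ : I.map (algebraMap R R')) ⊗ₜ[R'] t), TensorProduct.smul_tmul']
        congr 1
        ext
        simp [Algebra.smul_def] }

theorem sigma_tmul (i : I) (t : T) :
    sigma I (i ⊗ₜ t) = (⟨algebraMap R R' i, Ideal.mem_map_of_mem _ i.2⟩ :
      I.map (algebraMap R R')) ⊗ₜ[R'] t := rfl

theorem sigma_surjective : Surjective (sigma (R' := R') I (T := T)) := by
  intro x
  induction x using TensorProduct.induction_on with
  | zero => exact ⟨0, map_zero _⟩
  | add x y hx hy =>
    obtain ⟨a, rfl⟩ := hx
    obtain ⟨b, rfl⟩ := hy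
    exact ⟨a + b, map_add _ _ _⟩
  | tmul a t =>
    obtain ⟨a, ha⟩ := a
    have : ∀ a (ha : a ∈ I.map (algebraMap R R')),
        ∀ t : T, ∃ y, sigma I y = (⟨a, ha⟩ : I.map (algebraMap R R')) ⊗ₜ[R'] t := by
      intro a ha
      refine Submodule.span_induction (p := fun a ha => ∀ t : T, ∃ y, sigma I y =
        (⟨a, ha⟩ : I.map (algebraMap R R')) ⊗ₜ[R'] t) ?_ ?_ ?_ ?_ ha
      · rintro _ ⟨i, hi, rfl⟩ t
        exact ⟨(⟨i, hi⟩ : I) ⊗ₜ t, rfl⟩
      · intro t
        refine ⟨0, ?_⟩
        rw [map_zero]
        have : (⟨0, Submodule.zero_mem _⟩ : I.map (algebraMap R R')) = 0 := rfl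
        rw [this, TensorProduct.zero_tmul]
      · intro a b ha hb iha ihb t
        obtain ⟨y, hy⟩ := iha t
        obtain ⟨z, hz⟩ := ihb t
        refine ⟨y + z, ?_⟩
        rw [map_add, hy, hz, ← TensorProduct.add_tmul]
        rfl
      · intro r a ha iha t
        obtain ⟨y, hy⟩ := iha (r • t)
        refine ⟨y, ?_⟩
        rw [hy, ← TensorProduct.smul_tmul]
        rfl
    exact this a ha t

theorem inj_of_map (h : Injective (LinearMap.rTensor T I.subtype)) :
    Injective (LinearMap.rTensor T (I.map (algebraMap R R')).subtype) := by
  have key : ∀ y : I ⊗[R] T,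
      TensorProduct.lid R' T (LinearMap.rTensor T (I.map (algebraMap R R')).subtype (sigma I y)) =
        TensorProduct.lid R T (LinearMap.rTensor T I.subtype y) := by
    intro y
    induction y using TensorProduct.induction_on with
    | zero => simp
    | add x y hx hy => simp only [map_add, hx, hy]
    | tmul i t =>
      rw [sigma_tmul]
      simp
  rw [injective_iff_map_eq_zero]
  intro x hx
  obtain ⟨y, rfl⟩ := sigma_surjective (R' := R') I x
  have := key y
  rw [hx, map_zero] at this
  have h2 : LinearMap.rTensor T I.subtype y = 0 :=
    (TensorProduct.lid R T).injective (this.symm.trans (map_zero _).symm)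
  have h3 : y = 0 := h (h2.trans (map_zero _).symm)
  rw [h3, map_zero]

end injMap


theorem final (R S R' S' : Type u) [CommRing R] [CommRing S]
    [CommRing R'] [CommRing S'] [IsLocalRing R] [IsLocalRing S] [IsLocalRing R'] [IsLocalRing S']
    [Algebra R S] [Algebra R R'] [Algebra S S'] [Algebra R' S'] [Algebra R S']
    [IsScalarTower R S S'] [IsScalarTower R R' S']
    [IsLocalHom (algebraMap R S)] [IsLocalHom (algebraMap R R')] [IsLocalHom (algebraMap S S')]
    [IsLocalHom (algebraMap R' S')] [Module.Flat R R'] [Module.Flat S S']
    [IsNoetherianRing R'] [IsNoetherianRing S']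
    (hm : (IsLocalRing.maximalIdeal R).map (algebraMap R R') = IsLocalRing.maximalIdeal R')
    (M : Type u) [AddCommGroup M] [Module S M] [Module R M] [IsScalarTower R S M] [Module.Finite S M]
    [Module.Flat R M]
    (M' : Type u) [AddCommGroup M'] [Module S' M'] [Module S M'] [IsScalarTower S S' M'] [Module R' M']
    [IsScalarTower R' S' M'] (j : M →ₗ[S] M') (hj : IsBaseChange S' j) :
    Module.Flat R' M' := by
  haveI : SMulCommClass S R' S' := ⟨fun s r x => by simp [Algebra.smul_def, mul_left_comm]⟩
  haveI : Module.Flat R (S' ⊗[S] M) := flat_tensor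
  have h1 : Injective (LinearMap.rTensor (S' ⊗[S] M) (IsLocalRing.maximalIdeal R).subtype) :=
    Module.Flat.rTensor_preserves_injective_linearMap _ (Submodule.injective_subtype _)
  have h2 := inj_of_map (R' := R') (IsLocalRing.maximalIdeal R) h1
  rw [hm] at h2
  haveI : Module.Flat R' (S' ⊗[S] M) :=
    Groth.Agent.Helper2.LocCrit.flat_of_rTensor_injective (S := S') h2
  exact Module.Flat.of_linearEquiv ((hj.equiv.restrictScalars R').symm)

/-- Consider a commutative square of local rings and local homomorphisms R → S, R → R', S → S', R' → S',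
and a finite S-module M. Assume the maps R → R' and S → S' are flat, M is flat over R, the maximal
ideal of R generates the maximal ideal of R', and R', S' are Noetherian. Then M' = M ⊗_S S' (any
base change of M along S → S') is flat over R'. -/
theorem result (R S R' S' : Type u) [CommRing R] [CommRing S]
    [CommRing R'] [CommRing S'] [IsLocalRing R] [IsLocalRing S] [IsLocalRing R'] [IsLocalRing S']
    [Algebra R S] [Algebra R R'] [Algebra S S'] [Algebra R' S'] [Algebra R S']
    [IsScalarTower R S S'] [IsScalarTower R R' S']
    [IsLocalHom (algebraMap R S)] [IsLocalHom (algebraMap R R')] [IsLocalHom (algebraMap S S')]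
    [IsLocalHom (algebraMap R' S')] [Module.Flat R R'] [Module.Flat S S']
    [IsNoetherianRing R'] [IsNoetherianRing S']
    (hm : (IsLocalRing.maximalIdeal R).map (algebraMap R R') = IsLocalRing.maximalIdeal R')
    (M : Type u) [AddCommGroup M] [Module S M] [Module R M] [IsScalarTower R S M] [Module.Finite S M]
    [Module.Flat R M]
    (M' : Type u) [AddCommGroup M'] [Module S' M'] [Module S M'] [IsScalarTower S S' M'] [Module R' M']
    [IsScalarTower R' S' M'] (j : M →ₗ[S] M') (hj : IsBaseChange S' j) :
    Module.Flat R' M' := by
  exact final R S R' S' hm M M' j hj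

end Groth.Agent.S6382
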