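import Groth.Statements.S6388
import Mathlib

set_option autoImplicit false
universe u
open scoped TensorProduct
open CAlg

namespace Groth.Agent.S6388

/-- Let f : M → N and g : M → M' be maps of R-modules and let N' be their pushout, realised as the
quotient of M' × N by the submodule of elements (g x, -f x). Then g dominates f — for every module Q
the kernel of f ⊗ id_Q is contained in the kernel of g ⊗ id_Q — if and only if the canonical map M'
→ N' is universally injective. -/
theorem result (R : Type u) [CommRing R] {M N M' : Type u}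
    [AddCommGroup M] [Module R M] [AddCommGroup N] [Module R N] [AddCommGroup M'] [Module R M']
    (f : M →ₗ[R] N) (g : M →ₗ[R] M') :
    (∀ (Q : Type u) [AddCommGroup Q] [Module R Q], LinearMap.ker (f.rTensor Q) ≤ LinearMap.ker (g.rTensor Q)) ↔
      CAlgX.UniversallyInjective R
        ((LinearMap.range (g.prod (-f))).mkQ ∘ₗ LinearMap.inl R M' N) := by
  classical
  set φ : M →ₗ[R] M' × N := g.prod (-f) with hφdef
  set S : Submodule R (M' × N) := LinearMap.range φ with hSdef
  have hsq : (S.mkQ ∘ₗ LinearMap.inl R M' N) ∘ₗ g = (S.mkQ ∘ₗ LinearMap.inr R M' N) ∘ₗ f := by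
    ext m
    simp only [LinearMap.comp_apply, Submodule.mkQ_apply]
    rw [Submodule.Quotient.eq]
    refine ⟨m, ?_⟩
    simp [φ]
  constructor
  · intro hdom Q _ _
    rw [injective_iff_map_eq_zero]
    intro z hz
    have hex2 : Function.Exact (S.subtype.rTensor Q) (S.mkQ.rTensor Q) :=
      rTensor_exact Q (LinearMap.exact_subtype_mkQ S) (Submodule.mkQ_surjective S)
    have h1 : (S.mkQ.rTensor Q) ((LinearMap.inl R M' N).rTensor Q z) = 0 := by
      rw [← LinearMap.comp_apply, ← LinearMap.rTensor_comp]
      exact hz
    obtain ⟨s, hs⟩ := (hex2 _).1 h1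
    have hφ : Function.Surjective (φ.rangeRestrict.rTensor Q) :=
      LinearMap.rTensor_surjective Q φ.surjective_rangeRestrict
    obtain ⟨w, rfl⟩ := hφ s
    have h0 : S.subtype ∘ₗ φ.rangeRestrict = φ := by
      ext m <;> rfl
    rw [← LinearMap.comp_apply, ← LinearMap.rTensor_comp, h0] at hs
    have h2 := congrArg ((LinearMap.snd R M' N).rTensor Q) hs
    simp only [← LinearMap.comp_apply, ← LinearMap.rTensor_comp] at h2
    have h3 : LinearMap.snd R M' N ∘ₗ φ = -f := by
      ext m
      simp [φ]
    have h4 : LinearMap.snd R M' N ∘ₗ LinearMap.inl R M' N = 0 := by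
      ext m
      simp
    rw [h3, h4, LinearMap.rTensor_zero, LinearMap.zero_apply, LinearMap.rTensor_neg,
      LinearMap.neg_apply, neg_eq_zero] at h2
    have h5 : w ∈ LinearMap.ker (g.rTensor Q) := hdom Q h2
    have h6 := congrArg ((LinearMap.fst R M' N).rTensor Q) hs
    simp only [← LinearMap.comp_apply, ← LinearMap.rTensor_comp] at h6
    have h7 : LinearMap.fst R M' N ∘ₗ φ = g := by
      ext m
      simp [φ]
    have h8 : LinearMap.fst R M' N ∘ₗ LinearMap.inl R M' N = LinearMap.id := by
      ext m
      simp
    rw [h7, h8, LinearMap.rTensor_id, LinearMap.id_apply, LinearMap.mem_ker.mp h5] at h6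
    exact h6.symm
  · intro hι Q _ _ w hw
    rw [LinearMap.mem_ker] at hw ⊢
    apply hι Q
    rw [map_zero, ← LinearMap.comp_apply, ← LinearMap.rTensor_comp, hsq, LinearMap.rTensor_comp,
      LinearMap.comp_apply, hw, map_zero]

end Groth.Agent.S6388
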