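import Groth.Statements.S6392
import Mathlib
import Groth.Agent.Helper3.MLLim

set_option autoImplicit false
universe u
open scoped TensorProduct
open CAlg

namespace Groth.Agent.S6392

/-- Suppose M is the colimit of finitely presented R-modules G_i along a directed system over a nonempty
directed index set (transition maps f_ij), and M is both Mittag-Leffler and countably generated.
Then some countable directed subset I' of the indices already computes M: the canonical map from the
colimit of the G_i with i ∈ I' to M is bijective. -/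
theorem result (R : Type u) [CommRing R]
    {ι : Type u} [Preorder ι] [IsDirected ι (· ≤ ·)] [Nonempty ι] [DecidableEq ι] (G : ι → Type u)
    [∀ i, AddCommGroup (G i)] [∀ i, Module R (G i)] [∀ i, Module.FinitePresentation R (G i)]
    (f : ∀ i j, i ≤ j → G i →ₗ[R] G j) [DirectedSystem G fun i j h => f i j h]
    (hML : CAlg.IsMittagLeffler R (Module.DirectLimit G f))
    (hc : CAlg.IsCountablyGenerated R (Module.DirectLimit G f)) :
    ∃ I' : Set ι, I'.Countable ∧ DirectedOn (· ≤ ·) I' ∧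
      Function.Bijective (Module.DirectLimit.lift R I' (fun i : I' => G i.1)
        (fun (i j : I') (h : i ≤ j) => f i.1 j.1 h)
        (fun i : I' => Module.DirectLimit.of R ι G f i.1)
        (fun (i j : I') (h : i ≤ j) (x : G i.1) => Module.DirectLimit.of_f)) := by
  classical
  have hfac := (Groth.Agent.Helper3.isML_directLimit_iff G f).mp hML
  choose J hJ1 hJ2 using hfac
  have hub : ∀ a b : ι, ∃ c, a ≤ c ∧ b ≤ c := fun a b => exists_ge_ge a b
  choose ub hub1 hub2 using hub
  obtain ⟨s, hs, hspan⟩ := hc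
  have hidx : ∀ x : Module.DirectLimit G f, ∃ i, ∃ y : G i, Module.DirectLimit.of R ι G f i y = x :=
    fun x => Module.DirectLimit.exists_of x
  choose idx pre hpre using hidx
  obtain ⟨i0⟩ := ‹Nonempty ι›
  let I0 : Set ι := idx '' s ∪ {i0}
  let I : ℕ → Set ι := fun n => Nat.rec I0
    (fun _ S => S ∪ J '' S ∪ (fun p : ι × ι => ub p.1 p.2) '' (S ×ˢ S)) n
  have hIsucc : ∀ n, I (n + 1) = I n ∪ J '' I n ∪ (fun p : ι × ι => ub p.1 p.2) '' (I n ×ˢ I n) :=
    fun n => rfl
  have hIc : ∀ n, (I n).Countable := by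
    intro n
    induction n with
    | zero => exact (hs.image idx).union (Set.countable_singleton i0)
    | succ n ih =>
      rw [hIsucc]
      exact (ih.union (ih.image J)).union ((ih.prod ih).image _)
  have hImono : ∀ n, I n ⊆ I (n + 1) := by
    intro n x hx
    rw [hIsucc]
    exact Or.inl (Or.inl hx)
  have hImono' : ∀ m n, m ≤ n → I m ⊆ I n := by
    intro m n hmn
    induction hmn with
    | refl => exact subset_rfl
    | step _ ih => exact ih.trans (hImono _)
  let I' : Set ι := ⋃ n, I n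
  have hI'c : I'.Countable := Set.countable_iUnion hIc
  have hI'dir : DirectedOn (· ≤ ·) I' := by
    intro a ha b hb
    obtain ⟨m, hm⟩ := Set.mem_iUnion.mp ha
    obtain ⟨n, hn⟩ := Set.mem_iUnion.mp hb
    have ha' : a ∈ I (max m n) := hImono' m _ (le_max_left m n) hm
    have hb' : b ∈ I (max m n) := hImono' n _ (le_max_right m n) hn
    refine ⟨ub a b, Set.mem_iUnion.mpr ⟨max m n + 1, ?_⟩, hub1 a b, hub2 a b⟩
    rw [hIsucc]
    exact Or.inr ⟨(a, b), ⟨ha', hb'⟩, rfl⟩
  have hJmem : ∀ i ∈ I', J i ∈ I' := by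
    intro i hi
    obtain ⟨n, hn⟩ := Set.mem_iUnion.mp hi
    refine Set.mem_iUnion.mpr ⟨n + 1, ?_⟩
    rw [hIsucc]
    exact Or.inl (Or.inr ⟨i, hn, rfl⟩)
  have hi0 : i0 ∈ I' := Set.mem_iUnion.mpr ⟨0, Or.inr rfl⟩
  have hidxmem : ∀ x ∈ s, idx x ∈ I' := fun x hx => Set.mem_iUnion.mpr ⟨0, Or.inl ⟨x, hx, rfl⟩⟩
  haveI : Nonempty I' := ⟨⟨i0, hi0⟩⟩
  haveI : IsDirected I' (· ≤ ·) := ⟨fun a b => by
    obtain ⟨c, hc, hac, hbc⟩ := hI'dir a.1 a.2 b.1 b.2
    exact ⟨⟨c, hc⟩, hac, hbc⟩⟩
  haveI : DirectedSystem (fun i : I' => G i.1) (fun (i j : I') (h : i ≤ j) => f i.1 j.1 h) :=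
    ⟨fun i x => DirectedSystem.map_self' (f := fun i j h => f i j h) x,
      fun _ _ _ hij hjk x => DirectedSystem.map_map' (f := fun i j h => f i j h) hij hjk x⟩
  refine ⟨I', hI'c, hI'dir, ?_, ?_⟩
  · -- injective
    rw [injective_iff_map_eq_zero]
    intro x hx
    obtain ⟨i, xi, rfl⟩ := Module.DirectLimit.exists_of x
    rw [Module.DirectLimit.lift_of] at hx
    obtain ⟨k, hik, hk⟩ := Module.DirectLimit.of.zero_exact hx
    obtain ⟨h, hh⟩ := hJ2 i.1 k hik
    have h1 : f i.1 (J i.1) (hJ1 i.1) xi = 0 := by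
      rw [hh, LinearMap.comp_apply, hk, map_zero]
    have h2 := Module.DirectLimit.of_f (R := R) (ι := I') (G := fun i : I' => G i.1)
      (f := fun (i j : I') (h : i ≤ j) => f i.1 j.1 h) (i := i) (j := ⟨J i.1, hJmem i.1 i.2⟩)
      (hij := hJ1 i.1) (x := xi)
    rw [← h2, h1, map_zero]
  · -- surjective
    rw [← LinearMap.range_eq_top, ← top_le_iff, ← hspan]
    refine Submodule.span_le.mpr ?_
    intro x hx
    refine ⟨Module.DirectLimit.of R I' (fun i : I' => G i.1)
      (fun (i j : I') (h : i ≤ j) => f i.1 j.1 h) ⟨idx x, hidxmem x hx⟩ (pre x), ?_⟩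
    rw [Module.DirectLimit.lift_of]
    exact hpre x

end Groth.Agent.S6392
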