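import Groth.Statements.S6393
import Mathlib

set_option autoImplicit false
open CategoryTheory
universe v₂ u₂ v u
open scoped TensorProduct
open FibCat

namespace Groth.Agent.S6393

/-- Given `p : S ⥤ C`, saying that p is fibred in groupoids is equivalent to saying that p is a fibred
functor whose fibre category over every object of C is a groupoid. -/
theorem result {C : Type u} [Category.{v} C] {S : Type u₂} [Category.{v₂} S] (p : S ⥤ C) :
    FibCat.IsFibGrpd p ↔ (p.IsFibered ∧ ∀ U : C, IsGroupoid (p.Fiber U)) := by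
  constructor
  · intro h
    have hsc : ∀ {R T : C} (f : R ⟶ T) {a b : S} (φ : a ⟶ b) [p.IsHomLift f φ],
        p.IsStronglyCartesian f φ := by
      intro R T f a b φ hφ
      cases hφ
      exact h.isStronglyCartesian φ
    refine ⟨?_, ?_⟩
    · apply Functor.IsFibered.of_exists_isStronglyCartesian
      intro a R f
      obtain ⟨y, φ, hφ⟩ := h.exists_lift f
      exact ⟨y, φ, hsc f φ⟩
    · intro U
      refine ⟨fun {X Y} f => ?_⟩
      haveI := f.2
      haveI : p.IsStronglyCartesian (𝟙 U) f.1 := hsc (𝟙 U) f.1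
      haveI : IsIso f.1 := Functor.IsStronglyCartesian.isIso_of_base_isIso p (𝟙 U) f.1
      refine ⟨⟨⟨inv f.1, inferInstance⟩, ?_, ?_⟩⟩
      · apply Functor.Fiber.hom_ext
        exact IsIso.hom_inv_id f.1
      · apply Functor.Fiber.hom_ext
        exact IsIso.inv_hom_id f.1
  · rintro ⟨hfib, hgrp⟩
    refine ⟨?_, ?_⟩
    · intro x V f
      obtain ⟨y, φ, hφ⟩ := IsPreFibered.exists_isCartesian p rfl f
      exact ⟨y, φ, inferInstance⟩
    · intro y x φ
      obtain ⟨y', ψ, hψ⟩ := IsPreFibered.exists_isCartesian p rfl (p.map φ)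
      let χ := Functor.IsCartesian.map p (p.map φ) ψ φ
      have hfac : χ ≫ ψ = φ := Functor.IsCartesian.fac p (p.map φ) ψ φ
      have hy' : p.obj y' = p.obj y := IsHomLift.domain_eq p (p.map φ) ψ
      let χ' : (Functor.Fiber.mk (p := p) (rfl : p.obj y = p.obj y)) ⟶ Functor.Fiber.mk hy' := ⟨χ, Functor.IsCartesian.map_isHomLift p (p.map φ) ψ φ⟩
      haveI := (hgrp (p.obj y)).all_isIso χ'
      haveI : IsIso χ := by
        have := Functor.map_isIso (Functor.Fiber.fiberInclusion (p := p) (S := p.obj y)) χ'
        exact this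
      haveI : p.IsStronglyCartesian (𝟙 (p.obj y)) χ := Functor.IsStronglyCartesian.of_isIso p _ χ
      haveI : p.IsStronglyCartesian (p.map φ) ψ := inferInstance
      have := Functor.IsStronglyCartesian.comp p (f := 𝟙 (p.obj y)) (g := p.map φ) (φ := χ) (ψ := ψ)
      rw [hfac, Category.id_comp] at this
      exact this

end Groth.Agent.S6393
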