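import Groth.Statements.S6400
import Mathlib
import Groth.Agent.Helper3.Fp

set_option autoImplicit false
open CategoryTheory
universe v u
open scoped TensorProduct
open FibCat

namespace Groth.Agent.S6400

/-- For fibred categories `𝒳, 𝒴, 𝒮` over `C` and functors `F : 𝒳 ⟶ 𝒮`, `G : 𝒴 ⟶ 𝒮` over `C` preserving
strongly cartesian morphisms, the 2-fibre product `𝒳 ×_𝒮 𝒴` over `C` is fibred over `C`. (The
published statement also says that this category, with its two projections, is a 2-fibre product in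
the 2-category of fibred categories over `C`; this row states only that it is fibred.) -/
theorem result {C : Type u} [Category.{v} C] {𝒳 𝒴 𝒮 : BasedCategory.{v, max u v} C} (F : 𝒳 ⥤ᵇ 𝒮) (G : 𝒴 ⥤ᵇ 𝒮) [𝒳.p.IsFibered] [𝒴.p.IsFibered] [𝒮.p.IsFibered]
    (hF : ∀ {R S : C} (f : R ⟶ S) {a b : 𝒳.obj} (φ : a ⟶ b), 𝒳.p.IsStronglyCartesian f φ → 𝒮.p.IsStronglyCartesian f (F.map φ))
    (hG : ∀ {R S : C} (f : R ⟶ S) {a b : 𝒴.obj} (φ : a ⟶ b), 𝒴.p.IsStronglyCartesian f φ → 𝒮.p.IsStronglyCartesian f (G.map φ)) :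
    (FibCat.fp F G).p.IsFibered := by
  apply Functor.IsFibered.of_exists_isStronglyCartesian
  intro x R f
  change R ⟶ 𝒳.p.obj x.obj.fst at f
  obtain ⟨a', φ₁, hφ₁⟩ := IsPreFibered.exists_isCartesian 𝒳.p (a := x.obj.fst) rfl f
  obtain ⟨b', φ₂, hφ₂⟩ := IsPreFibered.exists_isCartesian 𝒴.p (a := x.obj.snd)
    (Groth.Agent.Helper3.Fp.snd_obj_eq F G x) f
  haveI h1 : 𝒳.p.IsStronglyCartesian f φ₁ := inferInstance
  haveI h2 : 𝒴.p.IsStronglyCartesian f φ₂ := inferInstance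
  haveI h3 : 𝒮.p.IsStronglyCartesian f (F.map φ₁) := hF f φ₁ h1
  haveI h4 : 𝒮.p.IsStronglyCartesian f (G.map φ₂) := hG f φ₂ h2
  obtain ⟨x', Φ, h₁, h₂, hΦ₁, hΦ₂⟩ := Groth.Agent.Helper3.Fp.exists_lift_obj F G x f φ₁ φ₂
  subst h₁ h₂
  rw [eqToHom_refl, Category.id_comp] at hΦ₁ hΦ₂
  haveI : 𝒳.p.IsStronglyCartesian f Φ.hom.fst := by rw [hΦ₁]; exact h1
  haveI : 𝒴.p.IsStronglyCartesian f Φ.hom.snd := by rw [hΦ₂]; exact h2
  haveI : 𝒮.p.IsStronglyCartesian f (G.map Φ.hom.snd) := by rw [hΦ₂]; exact h4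
  exact ⟨x', Φ, Groth.Agent.Helper3.Fp.isStronglyCartesian_of F G f Φ⟩

end Groth.Agent.S6400
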