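import Groth.Statements.S6403
import Mathlib
import Groth.Agent.Helper3.Inertia

set_option autoImplicit false
open CategoryTheory
universe v u
open scoped TensorProduct
open FibCat

namespace Groth.Agent.S6403

/-- For a functor `F : 𝒳 ⟶ 𝒴` of fibred categories over `C` preserving strongly cartesian morphisms, the
relative inertia `I_{𝒳/𝒴}` is a fibred category over `C`. -/
theorem result {C : Type u} [Category.{v} C] {𝒳 𝒴 : BasedCategory.{v, max u v} C} [𝒳.p.IsFibered] [𝒴.p.IsFibered] (F : 𝒳 ⥤ᵇ 𝒴) (hF : FibCat.PreservesStronglyCartesian F) :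
    (FibCat.inertia F).p.IsFibered := by
  apply Functor.IsFibered.of_exists_isStronglyCartesian
  intro a R f
  change R ⟶ 𝒳.p.obj a.pt at f
  obtain ⟨y, φ, hφ⟩ := IsPreFibered.exists_isCartesian 𝒳.p (a := a.pt) rfl f
  haveI h1 : 𝒳.p.IsStronglyCartesian f φ := inferInstance
  haveI h2 : 𝒴.p.IsStronglyCartesian f (F.map φ) := hF f φ h1
  obtain ⟨y', Φ, rfl, hΦ⟩ := Groth.Agent.Helper3.Inertia.exists_lift_obj F a f φ
  rw [eqToHom_refl, Category.id_comp] at hΦ
  haveI : 𝒳.p.IsStronglyCartesian f Φ.hom := by rw [hΦ]; exact h1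
  exact ⟨y', Φ, Groth.Agent.Helper3.Inertia.isStronglyCartesian_of_hom F f Φ⟩

end Groth.Agent.S6403
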