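import Groth.Statements.S6404
import Mathlib
import Groth.Agent.Helper3.Inertia

set_option autoImplicit false
open CategoryTheory
universe v u
open scoped TensorProduct
open FibCat

namespace Groth.Agent.S6404

/-- The inertia of a category fibred in groupoids over `C` is fibred in groupoids over `C`. -/
theorem result {C : Type u} [Category.{v} C] {𝒳 : BasedCategory.{v, max u v} C} (h𝒳 : FibCat.IsFibGrpd 𝒳.p) :
    FibCat.IsFibGrpd (FibCat.inertia (FibCat.toSelf 𝒳)).p := by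
  refine ⟨?_, ?_⟩
  · intro a R f
    change R ⟶ 𝒳.p.obj a.pt at f
    obtain ⟨y, φ, hφ⟩ := h𝒳.exists_lift (x := a.pt) f
    haveI h1 : 𝒳.p.IsStronglyCartesian f φ := Groth.Agent.Helper3.FibGrpd.isStronglyCartesian h𝒳 f φ
    haveI h0 : (FibCat.selfOver C).p.IsHomLift f ((FibCat.toSelf 𝒳).map φ) := inferInstance
    haveI h2 : (FibCat.selfOver C).p.IsStronglyCartesian f ((FibCat.toSelf 𝒳).map φ) :=
      @Groth.Agent.Helper3.FibGrpd.isStronglyCartesian _ _ _ _ _
        (Groth.Agent.Helper3.FibGrpd.isFibGrpd_id (C := C)) _ _ f _ _ ((FibCat.toSelf 𝒳).map φ) h0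
    obtain ⟨y', Φ, rfl, hΦ⟩ := Groth.Agent.Helper3.Inertia.exists_lift_obj (FibCat.toSelf 𝒳) a f φ
    rw [eqToHom_refl, Category.id_comp] at hΦ
    refine ⟨y', Φ, Groth.Agent.Helper3.Inertia.isHomLift_of_hom _ f Φ ?_⟩
    rw [hΦ]; exact hφ
  · intro y x Φ
    haveI : 𝒳.p.IsStronglyCartesian (𝒳.p.map Φ.hom) Φ.hom := h𝒳.isStronglyCartesian Φ.hom
    exact Groth.Agent.Helper3.Inertia.isStronglyCartesian_of_hom _ (𝒳.p.map Φ.hom) Φ

end Groth.Agent.S6404
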