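import Groth.Statements.S6405
import Mathlib
import Groth.Agent.Helper3.Inertia

set_option autoImplicit false
open CategoryTheory
universe v u
open scoped TensorProduct
open FibCat

namespace Groth.Agent.S6405

/-- (2) ⇒ (1): if `𝒳` is fibred in groupoids over `C` and the canonical functor `I_𝒳 ⟶ 𝒳` from its
inertia is an equivalence over `C`, then `𝒳` is fibred in setoids. (The published statement is an
equivalence; this row states only that the inertia condition implies that `𝒳` is fibred in setoids.) -/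
theorem result {C : Type u} [Category.{v} C] {𝒳 : BasedCategory.{v, max u v} C} (h𝒳 : FibCat.IsFibGrpd 𝒳.p)
    (h : FibCat.IsEquivOver (FibCat.inertiaToBase (FibCat.toSelf 𝒳))) : FibCat.IsFibSetoid 𝒳.p := by
  refine ⟨h𝒳, fun U a b => ⟨fun φ ψ => ?_⟩⟩
  have hE := Groth.Agent.Helper3.EquivOver.isEquivalence h
  haveI := hE.full
  haveI := φ.2
  haveI := ψ.2
  haveI : IsIso ψ.1 := Groth.Agent.Helper3.FibGrpd.isIso_of_lift_id h𝒳 (U := U) ψ.1
  -- the automorphism α = φ ≫ ψ⁻¹ of a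
  have hαl : 𝒳.p.IsHomLift (𝟙 U) (φ.1 ≫ inv ψ.1) := inferInstance
  haveI : IsIso φ.1 := Groth.Agent.Helper3.FibGrpd.isIso_of_lift_id h𝒳 (U := U) φ.1
  have hα : (FibCat.toSelf 𝒳).map (φ.1 ≫ inv ψ.1) = 𝟙 _ := by
    change 𝒳.p.map (φ.1 ≫ inv ψ.1) = 𝟙 _
    have := IsHomLift.fac' 𝒳.p (𝟙 U) (φ.1 ≫ inv ψ.1)
    rw [this]; simp
  let x : (FibCat.inertia (FibCat.toSelf 𝒳)).obj := ⟨a.1, Iso.refl _, by simp⟩
  let y : (FibCat.inertia (FibCat.toSelf 𝒳)).obj := ⟨a.1, asIso (φ.1 ≫ inv ψ.1), hα⟩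
  obtain ⟨Φ, hΦ⟩ := (FibCat.inertiaToBase (FibCat.toSelf 𝒳)).toFunctor.map_surjective
    (X := x) (Y := y) (𝟙 a.1)
  have hΦ' : Φ.hom = 𝟙 a.1 := hΦ
  have hc := Φ.comm
  rw [hΦ'] at hc
  have hc' : 𝟙 a.1 = φ.1 ≫ inv ψ.1 := by simpa [x, y] using hc
  apply Functor.Fiber.hom_ext
  change φ.1 = ψ.1
  have : φ.1 = (φ.1 ≫ inv ψ.1) ≫ ψ.1 := by simp
  rw [this, ← hc', Category.id_comp]

end Groth.Agent.S6405
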