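import Groth.Statements.S6407
import Mathlib
import Groth.Agent.Helper3.FibGrpd

set_option autoImplicit false
open CategoryTheory
universe v u
open scoped TensorProduct
open FibCat

namespace Groth.Agent.S6407

/-- For categories `𝒳, 𝒴` fibred in setoids over `C` and functors `f, g : 𝒳 ⟶ 𝒴` over `C` that agree on
isomorphism classes of objects of each fibre category, there is a unique 2-isomorphism `f ≅ g` over
`C`. -/
theorem result {C : Type u} [Category.{v} C] {𝒳 𝒴 : BasedCategory.{v, max u v} C} (h𝒳 : FibCat.IsFibSetoid 𝒳.p) (h𝒴 : FibCat.IsFibSetoid 𝒴.p) (f g : 𝒳 ⥤ᵇ 𝒴)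
    (hfg : ∀ (U : C) (x : 𝒳.p.Fiber U), Nonempty ((FibCat.fiberFunctor f U).obj x ≅ (FibCat.fiberFunctor g U).obj x)) :
    Nonempty (Unique (f ≅ g)) := by
  classical
  -- chosen fibrewise isomorphisms
  have key : ∀ x : 𝒳.obj, ∃ e : f.obj x ≅ g.obj x, 𝒴.p.IsHomLift (𝟙 (𝒳.p.obj x)) e.hom := by
    intro x
    obtain ⟨e⟩ := hfg (𝒳.p.obj x) ⟨x, rfl⟩
    refine ⟨(Functor.Fiber.fiberInclusion (p := 𝒴.p) (S := 𝒳.p.obj x)).mapIso e, ?_⟩
    exact e.hom.2
  choose e he using key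
  have hnat : ∀ {x x' : 𝒳.obj} (φ : x ⟶ x'), f.map φ ≫ (e x').hom = (e x).hom ≫ g.map φ := by
    intro x x' φ
    haveI := he x
    haveI := he x'
    haveI : 𝒴.p.IsHomLift (𝒳.p.map φ) (f.map φ ≫ (e x').hom) := inferInstance
    haveI : 𝒴.p.IsHomLift (𝒳.p.map φ) ((e x).hom ≫ g.map φ) := inferInstance
    exact Groth.Agent.Helper3.FibGrpd.hom_ext_of_isFibSetoid h𝒴 (𝒳.p.map φ) _ _
  let E : f ≅ g := BasedNatIso.mkNatIso (NatIso.ofComponents e (fun φ => hnat φ)) (fun x => he x)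
  refine ⟨⟨⟨E⟩, fun E' => ?_⟩⟩
  apply Iso.ext
  apply BasedNatTrans.homCategory.ext
  ext x
  haveI := E'.hom.isHomLift' x
  haveI := E.hom.isHomLift' x
  exact Groth.Agent.Helper3.FibGrpd.hom_ext_of_isFibSetoid h𝒴 (𝟙 (𝒳.p.obj x)) _ _

end Groth.Agent.S6407
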