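import Groth.Statements.S6417
import Mathlib

set_option autoImplicit false
open CategoryTheory CategoryTheory.Limits
universe v₁ u₁ v₂ u₂
open FibCat

namespace Groth.Agent.S6417

/-- For `p : 𝒮 ⥤ C`, a strongly cartesian `φ : x ⟶ y`, any `ψ : z ⟶ y`, and a strongly cartesian `a : w
⟶ z` lying over the second projection of `p x ×_{p y} p z`, the object `w` is a fibre product `x ×_y
z`: there is `b : w ⟶ x` over the first projection with `(b, a)` a pullback square. -/
theorem result {𝒮 : Type u₁} [Category.{v₁} 𝒮] {C : Type u₂} [Category.{v₂} C] (p : 𝒮 ⥤ C) {x y z w : 𝒮} (φ : x ⟶ y) (ψ : z ⟶ y)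
    [p.IsStronglyCartesian (p.map φ) φ] [HasPullback (p.map φ) (p.map ψ)] (a : w ⟶ z)
    [p.IsStronglyCartesian (pullback.snd (p.map φ) (p.map ψ)) a] :
    ∃ b : w ⟶ x, p.IsHomLift (pullback.fst (p.map φ) (p.map ψ)) b ∧ IsPullback b a φ ψ := by
  have hcond : pullback.snd (p.map φ) (p.map ψ) ≫ p.map ψ = pullback.fst (p.map φ) (p.map ψ) ≫ p.map φ :=
    pullback.condition.symm
  haveI : p.IsHomLift (pullback.snd (p.map φ) (p.map ψ) ≫ p.map ψ) (a ≫ ψ) := inferInstance
  let b : w ⟶ x := Functor.IsStronglyCartesian.map p (p.map φ) φ hcond (a ≫ ψ)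
  haveI hb : p.IsHomLift (pullback.fst (p.map φ) (p.map ψ)) b :=
    Functor.IsStronglyCartesian.map_isHomLift p (p.map φ) φ hcond (a ≫ ψ)
  have hfac : b ≫ φ = a ≫ ψ := Functor.IsStronglyCartesian.fac p (p.map φ) φ hcond (a ≫ ψ)
  have hw : p.obj w = pullback (p.map φ) (p.map ψ) :=
    IsHomLift.domain_eq p (pullback.snd (p.map φ) (p.map ψ)) a
  have hpa : p.map a = eqToHom hw ≫ pullback.snd (p.map φ) (p.map ψ) := by
    have := IsHomLift.fac' p (pullback.snd (p.map φ) (p.map ψ)) a
    simpa using this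
  have hpb : p.map b = eqToHom hw ≫ pullback.fst (p.map φ) (p.map ψ) := by
    have := IsHomLift.fac' p (pullback.fst (p.map φ) (p.map ψ)) b
    simpa using this
  refine ⟨b, hb, IsPullback.of_isLimit (PullbackCone.IsLimit.mk (fst := b) (snd := a) hfac ?_ ?_ ?_ ?_)⟩
  · intro s
    have hs : p.map s.fst ≫ p.map φ = p.map s.snd ≫ p.map ψ := by
      rw [← p.map_comp, ← p.map_comp, s.condition]
    exact Functor.IsStronglyCartesian.map p (pullback.snd (p.map φ) (p.map ψ)) a
      (g := pullback.lift (p.map s.fst) (p.map s.snd) hs) (f' := p.map s.snd) (pullback.lift_snd _ _ _).symm s.snd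
  · intro s
    have hs : p.map s.fst ≫ p.map φ = p.map s.snd ≫ p.map ψ := by
      rw [← p.map_comp, ← p.map_comp, s.condition]
    set t := Functor.IsStronglyCartesian.map p (pullback.snd (p.map φ) (p.map ψ)) a
      (g := pullback.lift (p.map s.fst) (p.map s.snd) hs) (f' := p.map s.snd) (pullback.lift_snd _ _ _).symm s.snd with ht
    haveI ht1 : p.IsHomLift (pullback.lift (p.map s.fst) (p.map s.snd) hs) t :=
      Functor.IsStronglyCartesian.map_isHomLift _ _ _ _ _
    have ht2 : t ≫ a = s.snd := Functor.IsStronglyCartesian.fac _ _ _ _ _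
    haveI h1 : p.IsHomLift (pullback.lift (p.map s.fst) (p.map s.snd) hs ≫ pullback.fst (p.map φ) (p.map ψ)) (t ≫ b) :=
      inferInstance
    rw [pullback.lift_fst] at h1
    refine Functor.IsStronglyCartesian.ext p (p.map φ) φ (p.map s.fst) ?_
    rw [Category.assoc, hfac, ← Category.assoc, ht2, s.condition]
  · intro s
    exact Functor.IsStronglyCartesian.fac _ _ _ _ _
  · intro s m hm1 hm2
    have hs : p.map s.fst ≫ p.map φ = p.map s.snd ≫ p.map ψ := by
      rw [← p.map_comp, ← p.map_comp, s.condition]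
    haveI h1 : p.IsHomLift (p.map m ≫ eqToHom hw) m := inferInstance
    have h2 : p.map m ≫ eqToHom hw = pullback.lift (p.map s.fst) (p.map s.snd) hs := by
      apply pullback.hom_ext
      · rw [pullback.lift_fst, Category.assoc, ← hpb, ← p.map_comp, hm1]
      · rw [pullback.lift_snd, Category.assoc, ← hpa, ← p.map_comp, hm2]
    rw [h2] at h1
    exact Functor.IsStronglyCartesian.map_uniq p (pullback.snd (p.map φ) (p.map ψ)) a _ s.snd m hm2

end Groth.Agent.S6417
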