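import Groth.Statements.S6418
import Mathlib

set_option autoImplicit false
open CategoryTheory
universe v₁ u₁ v₂ u₂
open FibCat

namespace Groth.Agent.S6418

/-- If `p' : 𝒮 ⥤ C/U` composed with the forgetful functor `C/U ⥤ C` is a fibred category, then so is
`p'`. -/
theorem result {𝒮 : Type u₁} [Category.{v₁} 𝒮] {C : Type u₂} [Category.{v₂} C] {U : C} (p' : 𝒮 ⥤ Over U) [(p' ⋙ Over.forget U).IsFibered] : p'.IsFibered := by
  -- Lemma A
  have hA : ∀ {R S : Over U} {a b : 𝒮} (f : R ⟶ S) (φ : a ⟶ b), p'.IsHomLift f φ →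
      (p' ⋙ Over.forget U).IsHomLift f.left φ := by
    intro R S a b f φ h
    cases h
    exact IsHomLift.map (p' ⋙ Over.forget U) φ
  -- Lemma B
  have hB : ∀ {R : Over U} {a b : 𝒮} (f : R ⟶ p'.obj b) (φ : a ⟶ b),
      (p' ⋙ Over.forget U).IsHomLift f.left φ → p'.IsHomLift f φ := by
    intro R a b f φ h
    obtain ⟨RL, ⟨⟨⟩⟩, Rh⟩ := R
    have h1 : (p'.obj a).left = RL := IsHomLift.domain_eq (p' ⋙ Over.forget U) f.left φ
    subst h1
    have h2 : f.left = (p'.map φ).left := by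
      have := IsHomLift.fac (p' ⋙ Over.forget U) f.left φ
      simpa using this
    have hw := Over.w f
    have hR : p'.obj a = ⟨(p'.obj a).left, ⟨⟨⟩⟩, Rh⟩ := by
      have key : Rh = (p'.obj a).hom := by
        have hw' : f.left ≫ (p'.obj b).hom = Rh := hw
        rw [← hw', h2]
        simp
      rw [key]
      rfl
    have h3 : f = eqToHom hR.symm ≫ p'.map φ := by
      ext
      rw [h2]
      simp
    rw [h3]
    infer_instance
  apply Functor.IsFibered.of_exists_isStronglyCartesian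
  intro a R f
  obtain ⟨b, φ, hφ⟩ : ∃ (b : 𝒮) (φ : b ⟶ a), (p' ⋙ Over.forget U).IsCartesian f.left φ :=
    Functor.IsPreFibered.exists_isCartesian' (p := p' ⋙ Over.forget U) (a := a) f.left
  have hφ' : (p' ⋙ Over.forget U).IsStronglyCartesian f.left φ := inferInstance
  have hlift : p'.IsHomLift f φ := hB f φ inferInstance
  refine ⟨b, φ, ?_⟩
  obtain rfl : p'.obj b = R := IsHomLift.domain_eq p' f φ
  refine { toIsHomLift := hlift, universal_property' := ?_ }
  intro a' g φ' hφ''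
  have h4 : (p' ⋙ Over.forget U).IsHomLift (g.left ≫ f.left) φ' := hA (g ≫ f) φ' hφ''
  obtain ⟨χ, ⟨hχ1, hχ2⟩, hχu⟩ := @Functor.IsStronglyCartesian.universal_property' _ _ _ _
    (p' ⋙ Over.forget U) _ _ _ _ f.left φ hφ' a' g.left φ' h4
  refine ⟨χ, ⟨hB g χ hχ1, hχ2⟩, ?_⟩
  rintro χ' ⟨hχ'1, hχ'2⟩
  exact hχu χ' ⟨hA g χ' hχ'1, hχ'2⟩

end Groth.Agent.S6418
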