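import Groth.Statements.S6419
import Mathlib

set_option autoImplicit false
open CategoryTheory
universe v₁ u₁ v₂ u₂
open scoped TensorProduct
open FibCat

namespace Groth.Agent.S6419

/-- If `p' : 𝒮 ⥤ C/U` composed with the forgetful functor `C/U ⥤ C` is fibred in groupoids, then so is
`p'`. -/
theorem result {𝒮 : Type u₁} [Category.{v₁} 𝒮] {C : Type u₂} [Category.{v₂} C] {U : C} (p' : 𝒮 ⥤ Over U) (h : FibCat.IsFibGrpd (p' ⋙ Over.forget U)) : FibCat.IsFibGrpd p' := by
  -- Lemma A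
  have hA : ∀ {R S : Over U} {a b : 𝒮} (f : R ⟶ S) (φ : a ⟶ b), p'.IsHomLift f φ →
      (p' ⋙ Over.forget U).IsHomLift f.left φ := by
    intro R S a b f φ h
    cases h
    exact Functor.IsHomLift.map (p := p' ⋙ Over.forget U) φ
  -- Lemma B
  have hB : ∀ {R : Over U} {a b : 𝒮} (f : R ⟶ p'.obj b) (φ : a ⟶ b),
      (p' ⋙ Over.forget U).IsHomLift f.left φ → p'.IsHomLift f φ := by
    intro R a b f φ h
    obtain ⟨RL, ⟨⟨⟩⟩, Rh⟩ := R
    have h1 : (p'.obj a).left = RL := IsHomLift.domain_eq (p' ⋙ Over.forget U) f.left φ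
    subst h1
    have h2 : f.left = (p'.map φ).left := by
      have := IsHomLift.fac (p' ⋙ Over.forget U) f.left φ
      simpa using this
    have hw := Over.w f
    have hR : p'.obj a = ⟨(p'.obj a).left, ⟨⟨⟩⟩, Rh⟩ := by
      have key : Rh = (p'.obj a).hom := by
        have hw' : f.left ≫ (p'.obj b).hom = Rh := hw
        rw [← hw', h2]
        simp
      rw [key]
      rfl
    have h3 : f = eqToHom hR.symm ≫ p'.map φ := by
      ext
      rw [h2]
      simp
    rw [h3]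
    infer_instance
  refine ⟨?_, ?_⟩
  · intro x V f
    obtain ⟨y, φ, hφ⟩ := h.exists_lift (x := x) f.left
    exact ⟨y, φ, hB f φ hφ⟩
  · intro y x φ
    have hφ' : (p' ⋙ Over.forget U).IsStronglyCartesian ((p'.map φ).left) φ :=
      h.isStronglyCartesian φ
    refine { toIsHomLift := inferInstance, universal_property' := ?_ }
    intro a' g φ' hφ''
    have h4 : (p' ⋙ Over.forget U).IsHomLift (g.left ≫ (p'.map φ).left) φ' :=
      hA (g ≫ p'.map φ) φ' hφ''
    obtain ⟨χ, ⟨hχ1, hχ2⟩, hχu⟩ := @Functor.IsStronglyCartesian.universal_property' _ _ _ _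
      (p' ⋙ Over.forget U) _ _ _ _ (p'.map φ).left φ hφ' a' g.left φ' h4
    refine ⟨χ, ⟨hB g χ hχ1, hχ2⟩, ?_⟩
    rintro χ' ⟨hχ'1, hχ'2⟩
    exact hχu χ' ⟨hA g χ' hχ'1, hχ'2⟩

end Groth.Agent.S6419
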