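import Groth.Statements.S6423
import Mathlib

set_option autoImplicit false
open CategoryTheory CategoryTheory.Limits
universe v u
open CatLim

namespace Groth.Agent.S6423

section aux
variable {C : Type u} [Category.{v} C] {J : Type} [SmallCategory J]

/-- A "partial product": an object with maps to some of the `F j`, jointly monic, through which
every cone factors. -/
structure PC (F : J ⥤ C) where
  pt : C
  π : ∀ j, Option (pt ⟶ F.obj j)
  mono : ∀ {X : C} (u v : X ⟶ pt), (∀ j g, π j = some g → u ≫ g = v ≫ g) → u = v
  fac : ∀ c : Cone F, ∃ f : c.pt ⟶ pt, ∀ j g, π j = some g → f ≫ g = c.π.app j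

open Classical in
noncomputable def PC.extOut {F : J ⥤ C} (P : PC F) {j j' : J} (m : j ⟶ j')
    (g : P.pt ⟶ F.obj j) (hg : P.π j = some g) (hj' : P.π j' = none) : PC F where
  pt := P.pt
  π := Function.update P.π j' (some (g ≫ F.map m))
  mono u v h := by
    apply P.mono u v
    intro i gi hi
    have hne : i ≠ j' := by
      rintro rfl
      rw [hj'] at hi
      cases hi
    apply h i gi
    rw [Function.update_of_ne hne]
    exact hi
  fac c := by
    obtain ⟨f, hf⟩ := P.fac c
    refine ⟨f, ?_⟩
    intro i gi hi
    by_cases hij : i = j'
    · subst hij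
      rw [Function.update_self] at hi
      obtain rfl := Option.some.inj hi
      rw [← Category.assoc, hf j g hg, c.w]
    · rw [Function.update_of_ne hij] at hi
      exact hf i gi hi

open Classical in
noncomputable def PC.extIn [HasPullbacks C] {F : J ⥤ C} (P : PC F) {j j' : J} (m : j' ⟶ j)
    (g : P.pt ⟶ F.obj j) (hg : P.π j = some g) (hj' : P.π j' = none) : PC F where
  pt := pullback g (F.map m)
  π := Function.update (fun i => (P.π i).map (fun gi => pullback.fst g (F.map m) ≫ gi)) j'
    (some (pullback.snd g (F.map m)))
  mono u v h := by
    apply pullback.hom_ext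
    · apply P.mono
      intro i gi hi
      have hne : i ≠ j' := by
        rintro rfl
        rw [hj'] at hi
        cases hi
      have := h i (pullback.fst g (F.map m) ≫ gi) (by
        rw [Function.update_of_ne hne]
        simp [hi])
      simpa [Category.assoc] using this
    · exact h j' _ (by rw [Function.update_self])
  fac c := by
    obtain ⟨f, hf⟩ := P.fac c
    refine ⟨pullback.lift f (c.π.app j') (by rw [hf j g hg, c.w]), ?_⟩
    intro i gi hi
    by_cases hij : i = j'
    · subst hij
      rw [Function.update_self] at hi
      obtain rfl := Option.some.inj hi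
      rw [pullback.lift_snd]
    · rw [Function.update_of_ne hij] at hi
      obtain ⟨g0, hg0, rfl⟩ := Option.map_eq_some_iff.1 hi
      rw [pullback.lift_fst_assoc]
      exact hf i g0 hg0

open Classical in
theorem phase1 [FinCategory J] [IsConnected J] [HasPullbacks C] (F : J ⥤ C) :
    ∀ n : ℕ, ∀ P : PC F, (∃ j, P.π j ≠ none) →
      (Finset.univ.filter (fun j => P.π j = none)).card = n →
      ∃ P' : PC F, ∀ j, P'.π j ≠ none := by
  intro n
  induction n with
  | zero =>
    intro P _ h0
    refine ⟨P, ?_⟩
    intro j hj
    rw [Finset.card_eq_zero] at h0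
    have : j ∈ Finset.univ.filter (fun j => P.π j = none) := by simp [hj]
    rw [h0] at this
    simp at this
  | succ n ih =>
    intro P ⟨j0, hj0⟩ hcard
    have hcross : ∃ (j1 j2 : J) (_ : j1 ⟶ j2),
        (P.π j1 ≠ none ∧ P.π j2 = none) ∨ (P.π j1 = none ∧ P.π j2 ≠ none) := by
      by_contra hcon
      push Not at hcon
      have hall : ∀ j, j ∈ {j | P.π j ≠ none} := by
        apply induct_on_objects {j | P.π j ≠ none} hj0
        intro j1 j2 m
        have h := hcon j1 j2 m
        change P.π j1 ≠ none ↔ P.π j2 ≠ none
        constructor
        · intro h1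
          exact h.1 h1
        · intro h2 h1
          exact h2 (h.2 h1)
      have : Finset.univ.filter (fun j => P.π j = none) = ∅ := by
        ext j
        simp only [Finset.mem_filter, Finset.mem_univ, true_and, Finset.notMem_empty, iff_false]
        exact hall j
      rw [this] at hcard
      simp at hcard
    obtain ⟨j1, j2, m, h | h⟩ := hcross
    · obtain ⟨g, hg⟩ := Option.ne_none_iff_exists'.1 h.1
      refine ih (P.extOut m g hg h.2) ⟨j0, ?_⟩ ?_
      · have hne : j0 ≠ j2 := by
          rintro rfl
          exact hj0 h.2
        change Function.update P.π j2 _ j0 ≠ none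
        rw [Function.update_of_ne hne]
        exact hj0
      · have : Finset.univ.filter (fun j => (P.extOut m g hg h.2).π j = none) =
            (Finset.univ.filter (fun j => P.π j = none)).erase j2 := by
          ext i
          simp only [Finset.mem_filter, Finset.mem_univ, true_and, Finset.mem_erase]
          change Function.update P.π j2 _ i = none ↔ _
          by_cases hi : i = j2
          · subst hi
            simp
          · rw [Function.update_of_ne hi]
            simp [hi]
        rw [this, Finset.card_erase_of_mem (by simp [h.2]), hcard]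
        rfl
    · obtain ⟨g, hg⟩ := Option.ne_none_iff_exists'.1 h.2
      refine ih (P.extIn m g hg h.1) ⟨j0, ?_⟩ ?_
      · have hne : j0 ≠ j1 := by
          rintro rfl
          exact hj0 h.1
        dsimp only [PC.extIn]
        rw [Function.update_of_ne hne]
        simpa using hj0
      · have : Finset.univ.filter (fun j => (P.extIn m g hg h.1).π j = none) =
            (Finset.univ.filter (fun j => P.π j = none)).erase j1 := by
          ext i
          simp only [Finset.mem_filter, Finset.mem_univ, true_and, Finset.mem_erase]
          dsimp only [PC.extIn]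
          by_cases hi : i = j1
          · subst hi
            simp
          · rw [Function.update_of_ne hi]
            simp [hi]
        rw [this, Finset.card_erase_of_mem (by simp [h.1]), hcard]
        rfl

theorem phase2 [HasEqualizers C] (F : J ⥤ C) (P : C) (p : ∀ j, P ⟶ F.obj j)
    (l : List (Σ j j' : J, j ⟶ j')) :
    ∃ (E : C) (e : E ⟶ P), Mono e ∧
      (∀ a ∈ l, e ≫ p a.1 ≫ F.map a.2.2 = e ≫ p a.2.1) ∧
      (∀ (X : C) (f : X ⟶ P), (∀ a ∈ l, f ≫ p a.1 ≫ F.map a.2.2 = f ≫ p a.2.1) →
        ∃ g : X ⟶ E, g ≫ e = f) := by
  induction l with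
  | nil =>
    refine ⟨P, 𝟙 P, inferInstance, by simp, ?_⟩
    intro X f _
    exact ⟨f, by simp⟩
  | cons a l ih =>
    obtain ⟨E, e, he, h1, h2⟩ := ih
    refine ⟨equalizer (e ≫ p a.1 ≫ F.map a.2.2) (e ≫ p a.2.1),
      equalizer.ι _ _ ≫ e, mono_comp _ _, ?_, ?_⟩
    · intro b hb
      rcases List.mem_cons.1 hb with rfl | hb
      · simpa [Category.assoc] using equalizer.condition (e ≫ p b.1 ≫ F.map b.2.2) (e ≫ p b.2.1)
      · rw [Category.assoc, h1 b hb, Category.assoc]
    · intro X f hf
      obtain ⟨g, hg⟩ := h2 X f (fun b hb => hf b (List.mem_cons_of_mem _ hb))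
      refine ⟨equalizer.lift g ?_, ?_⟩
      · have := hf a List.mem_cons_self
        rw [← hg] at this
        simpa [Category.assoc] using this
      · rw [← Category.assoc, equalizer.lift_ι, hg]

end aux

/-- (2) ⇒ (1): a category with equalizers and fibre products has all finite connected limits. -/
theorem result {C : Type u} [Category.{v} C] [HasEqualizers C] [HasPullbacks C]
    (J : Type) [SmallCategory J] [FinCategory J] [IsConnected J] : HasLimitsOfShape J C := by
  classical
  constructor
  intro F
  obtain ⟨j0⟩ := (inferInstance : Nonempty J)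
  -- initial partial product
  let P0 : PC F :=
    { pt := F.obj j0
      π := Function.update (fun _ => none) j0 (some (𝟙 _))
      mono := by
        intro X u v h
        have := h j0 (𝟙 _) (by rw [Function.update_self])
        simpa using this
      fac := by
        intro c
        refine ⟨c.π.app j0, ?_⟩
        intro i gi hi
        by_cases hij : i = j0
        · subst hij
          rw [Function.update_self] at hi
          obtain rfl := Option.some.inj hi
          simp
        · rw [Function.update_of_ne hij] at hi
          cases hi }
  obtain ⟨P, hP⟩ := phase1 F _ P0 ⟨j0, by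
    dsimp only [P0]
    rw [Function.update_self]
    simp⟩ rfl
  choose p hp using fun j => Option.ne_none_iff_exists'.1 (hP j)
  have hl : ∀ a : (Σ j j' : J, j ⟶ j'), a ∈ (Finset.univ : Finset (Σ j j' : J, j ⟶ j')).toList := by
    intro a
    simp
  obtain ⟨E, e, he, h1, h2⟩ := phase2 F P.pt p (Finset.univ : Finset (Σ j j' : J, j ⟶ j')).toList
  refine ⟨⟨⟨{ pt := E
              π := { app := fun j => e ≫ p j
                     naturality := ?_ } }, ?_⟩⟩⟩
  · intro j j' m
    have := h1 ⟨j, j', m⟩ (hl _)
    simp only [Functor.const_obj_obj, Functor.const_obj_map, Category.id_comp, Category.assoc]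
    exact this.symm
  · have key : ∀ c : Cone F, ∃ g : c.pt ⟶ E, ∀ j, g ≫ e ≫ p j = c.π.app j := by
      intro c
      obtain ⟨f, hf⟩ := P.fac c
      obtain ⟨g, hg⟩ := h2 c.pt f (by
        intro a _
        rw [← Category.assoc, hf a.1 (p a.1) (hp a.1), hf a.2.1 (p a.2.1) (hp a.2.1), c.w])
      refine ⟨g, fun j => ?_⟩
      rw [← Category.assoc, hg, hf j (p j) (hp j)]
    choose lift hlift using key
    refine { lift := lift, fac := ?_, uniq := ?_ }
    · intro c j
      exact hlift c j
    · intro c m hm
      haveI := he
      rw [← cancel_mono e]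
      apply P.mono
      intro j g hg
      have hgp : g = p j := by
        have := (hp j).symm.trans hg
        exact (Option.some.inj this).symm
      rw [hgp, Category.assoc, Category.assoc, hlift c j]
      simpa using hm j

end Groth.Agent.S6423
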