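import Groth.Statements.S6424
import Mathlib

set_option autoImplicit false
open CategoryTheory CategoryTheory.Limits
universe v u
open CatLim

namespace Groth.Agent.S6424

/-- (2) ⇒ (1): a category with products of pairs and equalizers has all finite nonempty limits. -/
theorem result {C : Type u} [Category.{v} C] [HasBinaryProducts C] [HasEqualizers C]
    (J : Type) [SmallCategory J] [FinCategory J] [Nonempty J] : HasLimitsOfShape J C := by
  classical
  have hfin : ∀ (n : ℕ) (f : Fin (n + 1) → C), HasProduct f := by
    intro n
    induction n with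
    | zero =>
      intro f
      haveI : Subsingleton (Fin (0 + 1)) := inferInstanceAs (Subsingleton (Fin 1))
      haveI : Nonempty (Fin (0 + 1)) := ⟨0⟩
      exact hasProduct_unique f
    | succ n ih =>
      intro f
      haveI := ih (fun i => f i.succ)
      exact HasLimit.mk ⟨_, extendFanIsLimit f (limit.isLimit _) (limit.isLimit _)⟩
  have hshape : ∀ n : ℕ, HasLimitsOfShape (Discrete (Fin (n + 1))) C := fun n => ⟨fun K => by
    let that : (Discrete.functor fun i => K.obj ⟨i⟩) ≅ K := Discrete.natIso fun ⟨_⟩ => Iso.refl _
    rw [← hasLimit_iff_of_iso that]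
    exact hfin n _⟩
  have hα : ∀ (α : Type) [Finite α] [Nonempty α], HasLimitsOfShape (Discrete α) C := by
    intro α _ _
    obtain ⟨n, ⟨e⟩⟩ := Finite.exists_equiv_fin α
    cases n with
    | zero => exact (IsEmpty.false (e (Classical.arbitrary α))).elim
    | succ n =>
      haveI := hshape n
      exact hasLimitsOfShape_of_equivalence (Discrete.equivalence e.symm)
  constructor
  intro F
  haveI := hα J
  haveI : Nonempty (Σ p : J × J, p.1 ⟶ p.2) :=
    ⟨⟨(Classical.arbitrary J, Classical.arbitrary J), 𝟙 _⟩⟩
  haveI : Finite (Σ p : J × J, p.1 ⟶ p.2) := inferInstance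
  haveI := hα (Σ p : J × J, p.1 ⟶ p.2)
  exact hasLimit_of_equalizer_and_product F

end Groth.Agent.S6424
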