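import Groth.Statements.S6425
import Mathlib

set_option autoImplicit false
open CategoryTheory CategoryTheory.Limits
universe v
open CatLim

namespace Groth.Agent.S6425

/-- Over an index category in which any two objects map to a common object, the comparison map `colim (M
× N) → colim M × colim N` for diagrams of sets is surjective. -/
theorem result {I : Type v} [SmallCategory I]
    (hI : ∀ x y : I, ∃ (z : I) (_ : x ⟶ z) (_ : y ⟶ z), True) (M N : I ⥤ Type v) :
    Function.Surjective (prodComparison (colim : (I ⥤ Type v) ⥤ Type v) M N) := by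
  have prod_ext_types : ∀ (A B : Type v) (t t' : (A ⨯ B : Type v)),
      (prod.fst : A ⨯ B ⟶ A) t = (prod.fst : A ⨯ B ⟶ A) t' →
      (prod.snd : A ⨯ B ⟶ B) t = (prod.snd : A ⨯ B ⟶ B) t' → t = t' := by
    intro A B t t' h1 h2
    apply (Types.binaryProductIso A B).toEquiv.injective
    apply Prod.ext
    · have := Types.binaryProductIso_hom_comp_fst_apply A B t
      have h' := Types.binaryProductIso_hom_comp_fst_apply A B t'
      exact this.trans (h1.trans h'.symm)
    · have := Types.binaryProductIso_hom_comp_snd_apply A B t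
      have h' := Types.binaryProductIso_hom_comp_snd_apply A B t'
      exact this.trans (h2.trans h'.symm)
  intro y
  obtain ⟨i, m, hm⟩ := Types.jointly_surjective' ((prod.fst : colim.obj M ⨯ colim.obj N ⟶ colim.obj M) y)
  obtain ⟨j, n, hn⟩ := Types.jointly_surjective' ((prod.snd : colim.obj M ⨯ colim.obj N ⟶ colim.obj N) y)
  obtain ⟨k, f, g, -⟩ := hI i j
  let ev := (evaluation I (Type v)).obj k
  let w : (ev.obj M ⨯ ev.obj N : Type v) :=
    (Types.binaryProductIso (ev.obj M) (ev.obj N)).inv ((M.map f m, N.map g n) : M.obj k × N.obj k)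
  have hw1 : (prod.fst : ev.obj M ⨯ ev.obj N ⟶ ev.obj M) w = M.map f m := by simp [w]
  have hw2 : (prod.snd : ev.obj M ⨯ ev.obj N ⟶ ev.obj N) w = N.map g n := by simp [w]
  let z : (M ⨯ N).obj k := (PreservesLimitPair.iso ev M N).inv w
  have hz1 : (prod.fst : M ⨯ N ⟶ M).app k z = M.map f m := by
    rw [← hw1]
    change (ev.map (prod.fst : M ⨯ N ⟶ M)) ((PreservesLimitPair.iso ev M N).inv w) = _
    rw [← types_comp_apply (PreservesLimitPair.iso ev M N).inv (ev.map prod.fst),
      PreservesLimitPair.iso_inv_fst]
  have hz2 : (prod.snd : M ⨯ N ⟶ N).app k z = N.map g n := by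
    rw [← hw2]
    change (ev.map (prod.snd : M ⨯ N ⟶ N)) ((PreservesLimitPair.iso ev M N).inv w) = _
    rw [← types_comp_apply (PreservesLimitPair.iso ev M N).inv (ev.map prod.snd),
      PreservesLimitPair.iso_inv_snd]
  refine ⟨colimit.ι (M ⨯ N) k z, ?_⟩
  apply prod_ext_types
  · rw [← types_comp_apply (prodComparison _ _ _) prod.fst, prodComparison_fst,
      ← types_comp_apply (colimit.ι _ _) (colim.map _), colimit.ι_map, types_comp_apply, hz1, ← hm,
      ← types_comp_apply (M.map f) (colimit.ι M k), colimit.w]
  · rw [← types_comp_apply (prodComparison _ _ _) prod.snd, prodComparison_snd,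
      ← types_comp_apply (colimit.ι _ _) (colim.map _), colimit.ι_map, types_comp_apply, hz2, ← hn,
      ← types_comp_apply (N.map g) (colimit.ι N k), colimit.w]

end Groth.Agent.S6425
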