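import Groth.Statements.S6426
import Mathlib

set_option autoImplicit false
open CategoryTheory CategoryTheory.Limits
universe v
open CatLim

namespace Groth.Agent.S6426

/-- Over a nonempty index category in which any two objects map to a common object, the set-theoretic
colimit of a diagram of abelian groups surjects onto its colimit in abelian groups. (The published
statement does not require the index category to be nonempty; this row assumes it, because for the
empty index category the colimit of sets is empty while the colimit of abelian groups is the zero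
group.) -/
theorem result {I : Type v} [SmallCategory I] [Nonempty I]
    (hI : ∀ x y : I, ∃ (z : I) (_ : x ⟶ z) (_ : y ⟶ z), True) (M : I ⥤ AddCommGrpCat.{v}) :
    Function.Surjective (colimit.post M (forget AddCommGrpCat.{v})) := by
  classical
  -- elements in the image: all ι_i m
  have himg : ∀ (i : I) (m : M.obj i), (colimit.ι M i m : (colimit M : AddCommGrpCat.{v})) ∈
      Set.range (colimit.post M (forget AddCommGrpCat.{v})) := by
    intro i m
    refine ⟨colimit.ι (M ⋙ forget AddCommGrpCat.{v}) i m, ?_⟩
    rw [← types_comp_apply (colimit.ι (M ⋙ forget AddCommGrpCat.{v}) i)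
      (colimit.post M (forget AddCommGrpCat.{v})), colimit.ι_post]
    rfl
  have hrange : ∀ a ∈ Set.range (colimit.post M (forget AddCommGrpCat.{v})),
      ∃ (i : I) (m : M.obj i), (colimit.ι M i m : (colimit M : AddCommGrpCat.{v})) = a := by
    rintro a ⟨x, rfl⟩
    obtain ⟨i, m, rfl⟩ := Types.jointly_surjective' x
    refine ⟨i, m, ?_⟩
    rw [← types_comp_apply (colimit.ι (M ⋙ forget AddCommGrpCat.{v}) i)
      (colimit.post M (forget AddCommGrpCat.{v})), colimit.ι_post]
    rfl
  have hw : ∀ {i k : I} (f : i ⟶ k) (m : M.obj i),
      (colimit.ι M k (M.map f m) : (colimit M : AddCommGrpCat.{v})) = colimit.ι M i m := by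
    intro i k f m
    rw [← ConcreteCategory.comp_apply, colimit.w]
  let H : AddSubgroup (colimit M : AddCommGrpCat.{v}) :=
    { carrier := Set.range (colimit.post M (forget AddCommGrpCat.{v}))
      zero_mem' := by
        obtain ⟨i⟩ := (inferInstance : Nonempty I)
        have := himg i 0
        rwa [map_zero] at this
      add_mem' := by
        intro a b ha hb
        obtain ⟨i, m, rfl⟩ := hrange a ha
        obtain ⟨j, n, rfl⟩ := hrange b hb
        obtain ⟨k, f, g, -⟩ := hI i j
        rw [← hw f m, ← hw g n, ← map_add]
        exact himg k _
      neg_mem' := by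
        intro a ha
        obtain ⟨i, m, rfl⟩ := hrange a ha
        rw [← map_neg]
        exact himg i _ }
  let q : colimit M ⟶ AddCommGrpCat.of ((colimit M : AddCommGrpCat.{v}) ⧸ H) :=
    AddCommGrpCat.ofHom (QuotientAddGroup.mk' H)
  have hq : q = 0 := by
    apply colimit.hom_ext
    intro i
    rw [Limits.comp_zero]
    ext m
    change (QuotientAddGroup.mk' H) (colimit.ι M i m) = 0
    rw [QuotientAddGroup.mk'_apply, QuotientAddGroup.eq_zero_iff]
    exact himg i m
  intro a
  have h1 : q a = 0 := by rw [hq]; rfl
  change (QuotientAddGroup.mk' H) a = 0 at h1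
  rw [QuotientAddGroup.mk'_apply, QuotientAddGroup.eq_zero_iff] at h1
  exact h1

end Groth.Agent.S6426
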