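import Groth.Statements.S6427
import Mathlib

set_option autoImplicit false
open CategoryTheory CategoryTheory.Limits
universe v
open CatLim

namespace Groth.Agent.S6427

/-- Over an index category in which every pair of morphisms with common source can be completed to a
commutative square, colimits of sets preserve injective morphisms of diagrams. -/
theorem result {I : Type v} [SmallCategory I]
    (hI : ∀ ⦃x y z : I⦄ (f : x ⟶ y) (g : x ⟶ z), ∃ (w : I) (f' : y ⟶ w) (g' : z ⟶ w), f ≫ f' = g ≫ g')
    {M N : I ⥤ Type v} (φ : M ⟶ N) (hφ : ∀ i, Function.Injective (φ.app i)) :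
    Function.Injective (colimMap φ) := by
  -- the cospan relation
  let R : (Σ j, N.obj j) → (Σ j, N.obj j) → Prop :=
    fun p q => ∃ (k : I) (f : p.1 ⟶ k) (g : q.1 ⟶ k), N.map f p.2 = N.map g q.2
  have hR : ∀ p q, Relation.EqvGen N.ColimitTypeRel p q → R p q := by
    intro p q h
    induction h with
    | rel p q h =>
      obtain ⟨f, hf⟩ := h
      refine ⟨q.1, f, 𝟙 _, ?_⟩
      rw [hf]; simp
    | refl p => exact ⟨p.1, 𝟙 _, 𝟙 _, rfl⟩
    | symm p q _ ih =>
      obtain ⟨k, f, g, h⟩ := ih
      exact ⟨k, g, f, h.symm⟩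
    | trans p q r _ _ ih1 ih2 =>
      obtain ⟨k, f, g, h⟩ := ih1
      obtain ⟨k', f', g', h'⟩ := ih2
      obtain ⟨w, a, b, hab⟩ := hI g f'
      refine ⟨w, f ≫ a, g' ≫ b, ?_⟩
      rw [N.map_comp, N.map_comp, types_comp_apply, types_comp_apply, h, ← h',
        ← types_comp_apply (N.map g) (N.map a), ← types_comp_apply (N.map f') (N.map b),
        ← N.map_comp, ← N.map_comp, hab]
  intro x y hxy
  obtain ⟨i, m, rfl⟩ := Types.jointly_surjective' x
  obtain ⟨j, m', rfl⟩ := Types.jointly_surjective' y
  have h1 : colimit.ι N i (φ.app i m) = colimit.ι N j (φ.app j m') := by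
    have e1 : colimMap φ (colimit.ι M i m) = colimit.ι N i (φ.app i m) := by
      rw [← types_comp_apply (colimit.ι M i) (colimMap φ), ι_colimMap, types_comp_apply]
    have e2 : colimMap φ (colimit.ι M j m') = colimit.ι N j (φ.app j m') := by
      rw [← types_comp_apply (colimit.ι M j) (colimMap φ), ι_colimMap, types_comp_apply]
    rw [← e1, ← e2, hxy]
  obtain ⟨k, f, g, hfg⟩ := hR _ _ (Types.colimit_eq h1)
  have h2 : φ.app k (M.map f m) = φ.app k (M.map g m') := by
    have n1 := φ.naturality f
    have n2 := φ.naturality g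
    have n1' := ConcreteCategory.congr_hom n1 m
    have n2' := ConcreteCategory.congr_hom n2 m'
    simp only [types_comp_apply] at n1' n2'
    rw [n1', n2']
    exact hfg
  exact Types.colimit_sound' f g (hφ k h2)

end Groth.Agent.S6427
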