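import Groth.Statements.S6429
import Mathlib

set_option autoImplicit false
open CategoryTheory CategoryTheory.MonoidalCategory
universe v u
open scoped TensorProduct
open MonCat

namespace Groth.Agent.S6429

/-- An object `X` of a monoidal category is invertible (some `X'` has `X ⊗ X' ≅ 𝟙` and `X' ⊗ X ≅ 𝟙`) if
and only if tensoring on the left by `X` is an equivalence, if and only if tensoring on the right by
`X` is an equivalence. -/
theorem result {C : Type u} [Category.{v} C] [MonoidalCategory C] (X : C) :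
    ((tensorLeft X).IsEquivalence ↔ ∃ X' : C, Nonempty (X ⊗ X' ≅ 𝟙_ C) ∧ Nonempty (X' ⊗ X ≅ 𝟙_ C)) ∧
      ((tensorRight X).IsEquivalence ↔ ∃ X' : C, Nonempty (X ⊗ X' ≅ 𝟙_ C) ∧ Nonempty (X' ⊗ X ≅ 𝟙_ C)) := by
  have keyL : (∃ X' : C, Nonempty (X ⊗ X' ≅ 𝟙_ C) ∧ Nonempty (X' ⊗ X ≅ 𝟙_ C)) →
      (tensorLeft X).IsEquivalence ∧ (tensorRight X).IsEquivalence := by
    rintro ⟨X', ⟨e₁⟩, ⟨e₂⟩⟩
    constructor
    · -- tensorLeft X ⋙ tensorLeft X' ≅ 𝟭, tensorLeft X' ⋙ tensorLeft X ≅ 𝟭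
      let η : tensorLeft X ⋙ tensorLeft X' ≅ 𝟭 C :=
        NatIso.ofComponents (fun Y => (α_ X' X Y).symm ≪≫ whiskerRightIso e₂ Y ≪≫ λ_ Y)
          (fun {Y Z} f => by
            dsimp
            simp only [Category.assoc, whiskerRightIso_hom]
            rw [← leftUnitor_naturality, ← whisker_exchange_assoc, associator_inv_naturality_right_assoc])
      let ε : tensorLeft X' ⋙ tensorLeft X ≅ 𝟭 C :=
        NatIso.ofComponents (fun Y => (α_ X X' Y).symm ≪≫ whiskerRightIso e₁ Y ≪≫ λ_ Y)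
          (fun {Y Z} f => by
            dsimp
            simp only [Category.assoc, whiskerRightIso_hom]
            rw [← leftUnitor_naturality, ← whisker_exchange_assoc, associator_inv_naturality_right_assoc])
      exact (CategoryTheory.Equivalence.mk (tensorLeft X) (tensorLeft X') η.symm ε).isEquivalence_functor
    · let η : tensorRight X ⋙ tensorRight X' ≅ 𝟭 C :=
        NatIso.ofComponents (fun Y => (α_ Y X X') ≪≫ whiskerLeftIso Y e₁ ≪≫ ρ_ Y)
          (fun {Y Z} f => by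
            dsimp
            simp only [Category.assoc, whiskerLeftIso_hom]
            rw [← rightUnitor_naturality, whisker_exchange_assoc, associator_naturality_left_assoc])
      let ε : tensorRight X' ⋙ tensorRight X ≅ 𝟭 C :=
        NatIso.ofComponents (fun Y => (α_ Y X' X) ≪≫ whiskerLeftIso Y e₂ ≪≫ ρ_ Y)
          (fun {Y Z} f => by
            dsimp
            simp only [Category.assoc, whiskerLeftIso_hom]
            rw [← rightUnitor_naturality, whisker_exchange_assoc, associator_naturality_left_assoc])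
      exact (CategoryTheory.Equivalence.mk (tensorRight X) (tensorRight X') η.symm ε).isEquivalence_functor
  refine ⟨⟨fun h => ?_, fun h => (keyL h).1⟩, ⟨fun h => ?_, fun h => (keyL h).2⟩⟩
  · haveI := h.full
    haveI := h.faithful
    obtain ⟨X', ⟨e₁⟩⟩ := h.essSurj.mem_essImage (𝟙_ C)
    have e₁' : X ⊗ X' ≅ 𝟙_ C := e₁
    refine ⟨X', ⟨e₁'⟩, ⟨?_⟩⟩
    have e : (tensorLeft X).obj (X' ⊗ X) ≅ (tensorLeft X).obj (𝟙_ C) :=
      (α_ X X' X).symm ≪≫ whiskerRightIso e₁' X ≪≫ λ_ X ≪≫ (ρ_ X).symm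
    exact (tensorLeft X).preimageIso e
  · haveI := h.full
    haveI := h.faithful
    obtain ⟨X', ⟨e₂⟩⟩ := h.essSurj.mem_essImage (𝟙_ C)
    have e₂' : X' ⊗ X ≅ 𝟙_ C := e₂
    refine ⟨X', ⟨?_⟩, ⟨e₂'⟩⟩
    have e : (tensorRight X).obj (X ⊗ X') ≅ (tensorRight X).obj (𝟙_ C) :=
      (α_ X X' X) ≪≫ whiskerLeftIso X e₂' ≪≫ ρ_ X ≪≫ (λ_ X).symm
    exact (tensorRight X).preimageIso e

end Groth.Agent.S6429
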