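import Groth.Statements.S6430
import Mathlib
import Groth.Agent.Helper3.FibGrpd

set_option autoImplicit false
open CategoryTheory
universe v₂ u₂ v u
open scoped TensorProduct
open FibCat

namespace Groth.Agent.S6430

/-- For a fibred category `p : 𝒮 ⥤ C`, the wide subcategory of `𝒮` on the strongly cartesian morphisms
is fibred in groupoids over `C`. -/
theorem result {C : Type u} [Category.{v} C] {𝒮 : Type u₂} [Category.{v₂} 𝒮] (p : 𝒮 ⥤ C) [p.IsFibered] :
    FibCat.IsFibGrpd (FibCat.cartSubProj p) := by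
  have key : ∀ {R T : C} (f : R ⟶ T) {a b : 𝒮} (φ : a ⟶ b), p.IsStronglyCartesian f φ →
      p.IsStronglyCartesian (p.map φ) φ := by
    intro R T f a b φ h
    have := h.toIsHomLift
    subst_hom_lift p f φ
    exact h
  have hlift : ∀ {R T : C} (f : R ⟶ T) {a b : FibCat.cartSub p} (φ : a ⟶ b),
      p.IsHomLift f φ.1 → (FibCat.cartSubProj p).IsHomLift f φ := by
    intro R T f a b φ h
    have hab : ∀ {a' b' : 𝒮} (ψ : a' ⟶ b') (hψ : FibCat.cartMor p ψ), p.IsHomLift f ψ →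
        (FibCat.cartSubProj p).IsHomLift f
          (⟨ψ, hψ⟩ : (⟨a'⟩ : FibCat.cartSub p) ⟶ ⟨b'⟩) := by
      intro a' b' ψ hψ h'
      cases h'
      exact Functor.IsHomLift.map (p := FibCat.cartSubProj p)
        (⟨ψ, hψ⟩ : (⟨a'⟩ : FibCat.cartSub p) ⟶ ⟨b'⟩)
    exact hab φ.1 φ.2 h
  have hlift' : ∀ {R T : C} (f : R ⟶ T) {a b : FibCat.cartSub p} (φ : a ⟶ b),
      (FibCat.cartSubProj p).IsHomLift f φ → p.IsHomLift f φ.1 := by
    intro R T f a b φ h
    cases h
    exact Functor.IsHomLift.map (p := p) φ.1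
  refine ⟨?_, ?_⟩
  · intro x V f
    change V ⟶ p.obj x.obj at f
    obtain ⟨y, φ, hφ⟩ := IsPreFibered.exists_isCartesian p (a := x.obj) rfl f
    have hsc : p.IsStronglyCartesian f φ := inferInstance
    exact ⟨⟨y⟩, ⟨φ, key f φ hsc⟩, hlift f _ hsc.toIsHomLift⟩
  · intro y x φ
    have hφ : p.IsStronglyCartesian (p.map φ.1) φ.1 := φ.2
    refine { toIsHomLift := inferInstance, universal_property' := ?_ }
    intro z g ψ hψ
    change p.obj z.obj ⟶ p.obj y.obj at g
    have hψ' : p.IsHomLift (g ≫ p.map φ.1) ψ.1 := hlift' _ ψ hψ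
    obtain ⟨χ, ⟨hχl, hχ⟩, huniq⟩ :=
      Functor.IsStronglyCartesian.universal_property p (p.map φ.1) φ.1 g (g ≫ p.map φ.1) rfl ψ.1
    have hχsc : p.IsStronglyCartesian g χ := by
      have h1 : p.IsStronglyCartesian (g ≫ p.map φ.1) (χ ≫ φ.1) := by
        rw [hχ]
        have h2 : p.IsStronglyCartesian (p.map ψ.1) ψ.1 := ψ.2
        have h3 : g ≫ p.map φ.1 = p.map ψ.1 := by
          have := IsHomLift.fac p (g ≫ p.map φ.1) ψ.1
          simpa using this
        rw [h3]; exact h2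
      exact Functor.IsStronglyCartesian.of_comp p (f := g) (g := p.map φ.1) (φ := χ) (ψ := φ.1)
    refine ⟨⟨χ, key g χ hχsc⟩, ⟨hlift g _ hχl, ?_⟩, ?_⟩
    · apply WideSubcategory.hom_ext
      exact hχ
    · rintro χ' ⟨hχ'l, hχ'⟩
      apply WideSubcategory.hom_ext
      apply huniq χ'.1 ⟨hlift' g χ' hχ'l, ?_⟩
      exact congrArg (fun t => t.1) hχ'

end Groth.Agent.S6430
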