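import Groth.Statements.S6444
import Mathlib

set_option autoImplicit false
open CategoryTheory
universe v u v' u'
open CatLoc

namespace Groth.Agent.S6444

/-- For a left multiplicative system, a commutative square in the localization between the images of two
morphisms `f, f'` of `C` lifts to a commutative diagram `X → X'' ← X'`, `Y → Y'' ← Y'` in `C` over a
third morphism `f''`, the backward arrows lying in `W`. -/
theorem result {C : Type u} [Category.{v} C] {D : Type u'} [Category.{v'} D] (W : MorphismProperty C) (L : C ⥤ D) [L.IsLocalization W] [W.HasLeftCalculusOfFractions]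
    {X Y X' Y' : C} (f : X ⟶ Y) (f' : X' ⟶ Y') (a : L.obj X ⟶ L.obj X') (b : L.obj Y ⟶ L.obj Y') (w : L.map f ≫ b = a ≫ L.map f') :
    ∃ (X'' Y'' : C) (f'' : X'' ⟶ Y'') (g : X ⟶ X'') (h : Y ⟶ Y'') (s : X' ⟶ X'') (t : Y' ⟶ Y''),
      W s ∧ W t ∧ f ≫ h = g ≫ f'' ∧ f' ≫ t = s ≫ f'' ∧ L.map g = a ≫ L.map s ∧ L.map h = b ≫ L.map t := by
  obtain ⟨α, hα⟩ := Localization.exists_leftFraction L W a
  obtain ⟨β, hβ⟩ := Localization.exists_leftFraction L W b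
  -- α.f : X ⟶ X₁, α.s : X' ⟶ X₁ ; β.f : Y ⟶ Y₁, β.s : Y' ⟶ Y₁
  have hα' : a ≫ L.map α.s = L.map α.f := by
    rw [hα]; exact α.map_comp_map_s L (Localization.inverts L W)
  have hβ' : b ≫ L.map β.s = L.map β.f := by
    rw [hβ]; exact β.map_comp_map_s L (Localization.inverts L W)
  let φ : W.RightFraction α.Y' β.Y' := ⟨α.s, α.hs, f' ≫ β.s⟩
  obtain ⟨ψ, hψ⟩ := φ.exists_leftFraction
  -- ψ.f : X₁ ⟶ Y₂, ψ.s : Y₁ ⟶ Y₂
  have hψ' : (f' ≫ β.s) ≫ ψ.s = α.s ≫ ψ.f := hψ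
  have h1 : L.map (f ≫ β.f ≫ ψ.s) = L.map (α.f ≫ ψ.f) := by
    have h2 : L.map α.s ≫ L.map ψ.f = L.map f' ≫ L.map β.s ≫ L.map ψ.s := by
      rw [← L.map_comp, ← hψ', L.map_comp, L.map_comp, Category.assoc]
    calc L.map (f ≫ β.f ≫ ψ.s) = L.map f ≫ (b ≫ L.map β.s) ≫ L.map ψ.s := by
          rw [L.map_comp, L.map_comp, hβ']
      _ = (L.map f ≫ b) ≫ L.map β.s ≫ L.map ψ.s := by simp only [Category.assoc]
      _ = a ≫ (L.map f' ≫ L.map β.s ≫ L.map ψ.s) := by rw [w, Category.assoc]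
      _ = (a ≫ L.map α.s) ≫ L.map ψ.f := by rw [← h2, Category.assoc]
      _ = L.map (α.f ≫ ψ.f) := by rw [hα', L.map_comp]
  obtain ⟨Y₃, t₂, ht₂, htt⟩ := (MorphismProperty.map_eq_iff_postcomp L W _ _).1 h1
  refine ⟨α.Y', Y₃, ψ.f ≫ t₂, α.f, β.f ≫ ψ.s ≫ t₂, α.s, β.s ≫ ψ.s ≫ t₂, α.hs,
    W.comp_mem _ _ β.hs (W.comp_mem _ _ ψ.hs ht₂), ?_, ?_, hα'.symm, ?_⟩
  · simpa only [Category.assoc] using htt
  · rw [← Category.assoc α.s, ← hψ']
    simp only [Category.assoc]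
  · rw [L.map_comp, L.map_comp β.s, ← Category.assoc b, hβ']

end Groth.Agent.S6444
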