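import Groth.Statements.S6448
import Mathlib

set_option autoImplicit false
open CategoryTheory
universe v u
open scoped TensorProduct
open CatLim

namespace Groth.Agent.S6448

/-- In a category where spans complete to commutative squares and parallel pairs are coequalized by a
later arrow, every connected component is filtered (so the category is a disjoint union of filtered
categories). -/
theorem result {I : Type u} [Category.{v} I]
    (h1 : ∀ ⦃w x y : I⦄ (a : w ⟶ x) (b : w ⟶ y), ∃ (z : I) (c : x ⟶ z) (d : y ⟶ z), a ≫ c = b ≫ d)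
    (h2 : ∀ ⦃x y : I⦄ (a b : x ⟶ y), ∃ (z : I) (c : y ⟶ z), a ≫ c = b ≫ c)
    (j : ConnectedComponents I) : IsFiltered j.Component := by
  -- the relation "have a common upper bound"
  have key : ∀ x y : I, Zigzag x y → ∃ (z : I) (_ : x ⟶ z) (_ : y ⟶ z), True := by
    intro x y hxy
    induction hxy with
    | refl => exact ⟨x, 𝟙 x, 𝟙 x, trivial⟩
    | tail _ hzag ih =>
      rename_i b c
      obtain ⟨z, f, g, -⟩ := ih
      rcases hzag with ⟨⟨a⟩⟩ | ⟨⟨a⟩⟩
      · -- a : b ⟶ c ; span z ← b → c
        obtain ⟨w, c', d', -⟩ := h1 g a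
        exact ⟨w, f ≫ c', d', trivial⟩
      · -- a : c ⟶ b
        exact ⟨z, f, a ≫ g, trivial⟩
  haveI : Nonempty j.Component := inferInstance
  refine { cocone_objs := ?_, cocone_maps := ?_, nonempty := inferInstance }
  · rintro ⟨x, hx⟩ ⟨y, hy⟩
    have hxy : Zigzag x y := Quotient.exact' (hx.trans hy.symm)
    obtain ⟨z, f, g, -⟩ := key x y hxy
    have hz : j.objectProperty z := by
      have : Zigzag x z := Zigzag.of_hom f
      exact (Quotient.sound' this).symm.trans hx
    exact ⟨⟨z, hz⟩, ObjectProperty.homMk f, ObjectProperty.homMk g, trivial⟩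
  · rintro ⟨x, hx⟩ ⟨y, hy⟩ f g
    obtain ⟨z, c, hc⟩ := h2 f.hom g.hom
    have hz : j.objectProperty z := by
      have : Zigzag y z := Zigzag.of_hom c
      exact (Quotient.sound' this).symm.trans hy
    refine ⟨⟨z, hz⟩, ObjectProperty.homMk c, ?_⟩
    ext
    exact hc

end Groth.Agent.S6448
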