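import Groth.Statements.S6463
import Groth.Agent.Helper4.SN144
import Mathlib

set_option autoImplicit false
universe u
open CategoryTheory CategoryTheory.Limits AlgebraicGeometry
open PicF

namespace Groth.Agent.S6463


/-- For a field k and a smooth projective curve X over k that has a k-rational point σ, the conditions
under which the Picard functor is computed through the section are met: f : X → Spec k is flat,
proper and of finite presentation with a section, and O_T → f_{T,*} O_{X_T} is an isomorphism for
every scheme T over k. Only the last assertion is stated (the others are part of the hypotheses or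
immediate): for every t : T → Spec k, the sheaf map of the base change X ×_k T → T is an
isomorphism. Proper replaces projective (they agree for curves over a field). -/
theorem result (k : Type u) [Field k] (X : Scheme.{u}) (f : X ⟶ Spec (CommRingCat.of k)) (hX : Curve.IsSmoothProperCurve k X f) (σ : Spec (CommRingCat.of k) ⟶ X) (hσ : σ ≫ f = 𝟙 (Spec (CommRingCat.of k))) (T : Scheme.{u}) (t : T ⟶ Spec (CommRingCat.of k)) : IsIso (pullback.snd f t).c := by

  letI : X.Over (Spec (CommRingCat.of k)) := ⟨f⟩
  obtain ⟨h1, h2, h3, h4⟩ := hX
  haveI : IsProper (X ↘ Spec (CommRingCat.of k)) := h1
  haveI : Smooth (X ↘ Spec (CommRingCat.of k)) := h2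
  haveI := h3
  exact Groth.Agent.Helper4.SN.main6463 k h4 σ hσ t

end Groth.Agent.S6463
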