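import Groth.Statements.S6499
import Groth.Agent.S0020
import Groth.Agent.Lead.PushSupp
import Groth.Agent.Helper4.FinitePush
import Groth.Agent.Helper4.QcohGlue
import Mathlib

set_option autoImplicit false
universe u
open CategoryTheory AlgebraicGeometry
open Cyc

namespace Groth.Agent.S6499

/-- Suppose X and Y are schemes locally of finite type over the base, and π : X → Y is a morphism
between them that is finite. Then π_* sends Coh_{≤k}(X) into Coh_{≤k}(Y): for F coherent on X with
dim_δ Supp(F) ≤ k, the direct image π_*F is coherent with dim_δ Supp(π_*F) ≤ k (Cyc.CohLe).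
(Exactness of π_* and the commutative diagram with the cycle maps are not restated; the latter is
the existing compatibility of [−]_k with π_*.) Here a pair (X, δ) with Cyc.IsSetup plays the role of
a scheme locally of finite type over the base (S, δ) (X locally Noetherian with universally catenary
local rings, δ a dimension function), and Cyc.DeltaCompat records that the dimension function
upstairs is the induced one. -/
theorem result (X Y : Scheme.{u}) (δX : X → ℤ) (δY : Y → ℤ) (hX : Cyc.IsSetup X δX) (hY : Cyc.IsSetup Y δY) (π : X ⟶ Y) [IsFinite π] (hδ : Cyc.DeltaCompat π δX δY) (k : ℤ) (F : X.Modules) (hF : Cyc.CohLe δX k F) : Cyc.CohLe δY k ((Coh.push π).obj F) := by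
  obtain ⟨⟨hq, hft⟩, hsupp⟩ := hF
  haveI : F.IsQuasicoherent := hq
  refine ⟨⟨Groth.Agent.Helper4.QcohGlue.isQuasicoherent_pushforward π F,
    Groth.Agent.Helper4.FinitePush.isFiniteType_pushforward_of_isFinite π F hft⟩, ?_⟩
  intro y hy
  have hcl : IsClosed {x : X | Nontrivial (F.presheaf.stalk x)} := by
    have h := Groth.Agent.S0020.result X F hft
    have h2 : CohB1.support F = {x : X | Nontrivial (F.presheaf.stalk x)} := by
      ext x
      simp only [CohB1.support, Set.mem_setOf_eq, not_subsingleton_iff_nontrivial]
    rwa [h2] at h
  have hclosedmap : IsClosedMap π.base := π.isClosedMap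
  obtain ⟨x, rfl, hx⟩ :=
    Groth.Agent.Lead.PushSupp.exists_nontrivial_of_nontrivial_push π F hclosedmap hcl y hy
  obtain ⟨n, -, hn⟩ := hδ x
  have h3 := hsupp x hx
  omega

end Groth.Agent.S6499
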