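import Groth.Statements.S6500
import Mathlib
import Groth.Agent.Helper1.RegGlobalDim
import Groth.Agent.Helper1.TorProjDim
import Groth.Agent.Helper2.SmoothRegSch
import Groth.Agent.Helper3.CurveFlat

set_option autoImplicit false
universe u
open scoped TensorProduct
open CategoryTheory CategoryTheory.Limits AlgebraicGeometry
attribute [local instance] HasDerivedCategory.standard
open IntMult

namespace Groth.Agent.S6500

/-- Let X be a nonsingular variety of dimension n and F, G coherent O_X-modules. The Tor sheaves
Tor_p^{O_X}(F, G), whose stalks are Tor_p^{O_{X,x}}(F_x, G_x), are nonzero only for p ∈ {0, …, n}: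
for every point x and every p > n, Tor_p^{O_{X,x}}(F_x, G_x) = 0. (Coherence of the Tor sheaves and
the support statement are not restated.) Nonsingular variety: X → Spec K smooth, separated,
quasi-compact, X integral, K algebraically closed; n = dim X. -/
theorem result (K : Type u) [Field K] [IsAlgClosed K] (X : Scheme.{u}) (f : X ⟶ Spec (CommRingCat.of K)) [Smooth f] [IsSeparated f] [QuasiCompact f] [IsIntegral X] (n : ℕ) (hn : topologicalKrullDim X = n) (F G : X.Modules) (hF : Coh.IsCoh F) (hG : Coh.IsCoh G) (x : X) (p : ℕ) (hp : n < p) : Subsingleton (DRing.Tor ↑(X.presheaf.stalk x) p ↑(F.presheaf.stalk x) ↑(G.presheaf.stalk x)) := by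
  haveI hreg := Groth.Agent.Helper2.SmoothRegSch.stalk_regular_of_smooth K X f x
  have hle : ringKrullDim (X.presheaf.stalk x) ≤ (n : WithBot ℕ∞) := by
    have := Groth.Agent.Helper3.CurveFlat.ringKrullDim_stalk_le X x
    rw [hn] at this
    exact this
  have h0 : (0 : WithBot ℕ∞) ≤ ringKrullDim (X.presheaf.stalk x) := ringKrullDim_nonneg_of_nontrivial
  obtain ⟨d, hd, hdn⟩ : ∃ d : ℕ, ringKrullDim (X.presheaf.stalk x) = (d : WithBot ℕ∞) ∧ d ≤ n := by
    generalize ringKrullDim (X.presheaf.stalk x) = D at hle h0
    induction D using WithBot.recBotCoe with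
    | bot => simp at h0
    | coe D =>
      induction D using ENat.recTopCoe with
      | top =>
        exfalso
        have h1 : ((⊤ : ℕ∞) : WithBot ℕ∞) ≤ ((n : ℕ∞) : WithBot ℕ∞) := hle
        rw [WithBot.coe_le_coe] at h1
        simp at h1
      | coe D =>
        refine ⟨D, rfl, ?_⟩
        have h1 : ((D : ℕ∞) : WithBot ℕ∞) ≤ ((n : ℕ∞) : WithBot ℕ∞) := hle
        rw [WithBot.coe_le_coe] at h1
        exact_mod_cast h1
  haveI : HasProjectiveDimensionLE (ModuleCat.of ↑(X.presheaf.stalk x) ↑(G.presheaf.stalk x)) d :=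
    Groth.Agent.Helper1.TorLib.hasProjectiveDimensionLT_of_isRegularLocalRing d hd _
  exact ModuleCat.subsingleton_of_isZero
    (Groth.Agent.Helper1.TorLib.isZero_tor_of_hasProjectiveDimensionLE _ _ d p (lt_of_le_of_lt hdn hp))

end Groth.Agent.S6500
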