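import Groth.Statements.S6510
import Groth.Agent.Helper4.MVCore
import Mathlib

set_option autoImplicit false
universe u
open CategoryTheory
attribute [local instance] HasDerivedCategory.standard
open DCoh

namespace Groth.Agent.S6510


open AlgebraicGeometry CategoryTheory.Limits in
/-- If a scheme X is the union of two opens U and V, then for every E ∈ D(O_X) there is a distinguished
triangle E → Rj_{U,*}(E|_U) ⊕ Rj_{V,*}(E|_V) → Rj_{U∩V,*}(E|_{U∩V}) → E[1] in D(O_X). The objects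
are the stated ones; the morphisms of the triangle are only asserted to exist. (The published
statement is for ringed spaces; this row is for schemes.) -/
theorem result {X : Scheme.{u}} (U V : X.Opens) (hUV : U ⊔ V = ⊤)
    [DCoh.HasRpush U.ι] [DCoh.HasRpush V.ι] [DCoh.HasRpush (U ⊓ V).ι]
    [PreservesFiniteLimits (Scheme.Modules.restrictFunctor U.ι)]
    [PreservesFiniteLimits (Scheme.Modules.restrictFunctor V.ι)]
    [PreservesFiniteLimits (Scheme.Modules.restrictFunctor (U ⊓ V).ι)] (E : DCoh.D X) :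
    ∃ (a : E ⟶ ((DCoh.Rpush U.ι).obj ((DCoh.restrictD U.ι).obj E) ⊞ (DCoh.Rpush V.ι).obj ((DCoh.restrictD V.ι).obj E))) (b : ((DCoh.Rpush U.ι).obj ((DCoh.restrictD U.ι).obj E) ⊞ (DCoh.Rpush V.ι).obj ((DCoh.restrictD V.ι).obj E)) ⟶ (DCoh.Rpush (U ⊓ V).ι).obj ((DCoh.restrictD (U ⊓ V).ι).obj E)) (c : (DCoh.Rpush (U ⊓ V).ι).obj ((DCoh.restrictD (U ⊓ V).ι).obj E) ⟶ (E)⟦(1 : ℤ)⟧),
      Pretriangulated.Triangle.mk a b c ∈ Pretriangulated.distinguishedTriangles := by

  have hcov : ∀ x : X, x ∈ U ∨ x ∈ V := by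
    intro x
    have : x ∈ U ⊔ V := by rw [hUV]; trivial
    exact this
  obtain ⟨T, g, h, hT⟩ := Pretriangulated.distinguished_cocone_triangle
    (Limits.biprod.lift (Groth.Agent.Helper4.MVCore.η U E) (Groth.Agent.Helper4.MVCore.η V E))
  obtain ⟨φ⟩ := Groth.Agent.Helper4.MVCore.nonempty_cone_iso U V (U ⊓ V) inf_le_left inf_le_right
    le_rfl hcov E g h hT
  refine ⟨Limits.biprod.lift (Groth.Agent.Helper4.MVCore.η U E) (Groth.Agent.Helper4.MVCore.η V E),
    g ≫ φ.hom, φ.inv ≫ h, ?_⟩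
  refine Pretriangulated.isomorphic_distinguished _ hT _
    (Pretriangulated.Triangle.isoMk _ _ (Iso.refl _) (Iso.refl _) φ.symm ?_ ?_ ?_)
  · exact (Category.comp_id _).trans (Category.id_comp _).symm
  · change (g ≫ φ.hom) ≫ φ.inv = 𝟙 _ ≫ g
    rw [Category.assoc, Iso.hom_inv_id, Category.comp_id, Category.id_comp]
  · change (φ.inv ≫ h) ≫ (𝟙 E)⟦(1 : ℤ)⟧' = φ.inv ≫ h
    rw [CategoryTheory.Functor.map_id, Category.comp_id]

end Groth.Agent.S6510
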