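import Groth.Statements.S6511
import Groth.Agent.S6510
import Groth.Agent.Helper4.RDerAdd
import Groth.Agent.Helper4.RpushComp
import Groth.Agent.Helper4.HasRD
import Mathlib

set_option autoImplicit false
universe u
open CategoryTheory
attribute [local instance] HasDerivedCategory.standard
open DCoh

namespace Groth.Agent.S6511


open AlgebraicGeometry CategoryTheory.Limits in
/-- Let f : X → Y be a morphism of schemes and X = U ∪ V with U, V open; write a, b, c for the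
restrictions of f to U, V, U ∩ V. For every E ∈ D(O_X) there is a distinguished triangle Rf_*E →
Ra_*(E|_U) ⊕ Rb_*(E|_V) → Rc_*(E|_{U∩V}) → Rf_*E[1] in D(O_Y). The objects are the stated ones; the
morphisms are only asserted to exist. (The published statement is for ringed spaces; this row is for
schemes.) -/
theorem result {X Y : Scheme.{u}} (f : X ⟶ Y) (U V : X.Opens) (hUV : U ⊔ V = ⊤)
    [DCoh.HasRpush f] [DCoh.HasRpush (U.ι ≫ f)] [DCoh.HasRpush (V.ι ≫ f)] [DCoh.HasRpush ((U ⊓ V).ι ≫ f)]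
    [PreservesFiniteLimits (Scheme.Modules.restrictFunctor U.ι)]
    [PreservesFiniteLimits (Scheme.Modules.restrictFunctor V.ι)]
    [PreservesFiniteLimits (Scheme.Modules.restrictFunctor (U ⊓ V).ι)] (E : DCoh.D X) :
    ∃ (a : (DCoh.Rpush f).obj E ⟶ ((DCoh.Rpush (U.ι ≫ f)).obj ((DCoh.restrictD U.ι).obj E) ⊞ (DCoh.Rpush (V.ι ≫ f)).obj ((DCoh.restrictD V.ι).obj E))) (b : ((DCoh.Rpush (U.ι ≫ f)).obj ((DCoh.restrictD U.ι).obj E) ⊞ (DCoh.Rpush (V.ι ≫ f)).obj ((DCoh.restrictD V.ι).obj E)) ⟶ (DCoh.Rpush ((U ⊓ V).ι ≫ f)).obj ((DCoh.restrictD (U ⊓ V).ι).obj E)) (c : (DCoh.Rpush ((U ⊓ V).ι ≫ f)).obj ((DCoh.restrictD (U ⊓ V).ι).obj E) ⟶ ((DCoh.Rpush f).obj E)⟦(1 : ℤ)⟧),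
      Pretriangulated.Triangle.mk a b c ∈ Pretriangulated.distinguishedTriangles := by

  haveI := Groth.Agent.Helper4.SchAdj.isGrothendieckAbelian_modules X
  haveI : DCoh.HasRpush U.ι := Groth.Agent.Helper4.HasRD.hasRpush _
  haveI : DCoh.HasRpush V.ι := Groth.Agent.Helper4.HasRD.hasRpush _
  haveI : DCoh.HasRpush (U ⊓ V).ι := Groth.Agent.Helper4.HasRD.hasRpush _
  obtain ⟨a0, b0, c0, h0⟩ := Groth.Agent.S6510.result U V hUV E
  let β := (DCoh.pushKh f).totalRightDerivedUnit DerivedCategory.Qh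
    (HomotopyCategory.quasiIso X.Modules (ComplexShape.up ℤ))
  obtain ⟨(c1 : (DCoh.Rpush f).obj ((DCoh.Rpush (U ⊓ V).ι).obj ((DCoh.restrictD (U ⊓ V).ι).obj E)) ⟶
      ((DCoh.Rpush f).obj E)⟦(1 : ℤ)⟧),
    (h1 : Pretriangulated.Triangle.mk ((DCoh.Rpush f).map a0) ((DCoh.Rpush f).map b0) c1 ∈
      Pretriangulated.distinguishedTriangles)⟩ :=
    Groth.Agent.Helper4.RDerTri.exists_distinguished_map (Scheme.Modules.pushforward f)
      (DCoh.Rpush f) β _ h0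
  obtain ⟨eU⟩ := Groth.Agent.Helper4.RpushComp.nonempty_iso U.ι f
  obtain ⟨eV⟩ := Groth.Agent.Helper4.RpushComp.nonempty_iso V.ι f
  obtain ⟨eW⟩ := Groth.Agent.Helper4.RpushComp.nonempty_iso (U ⊓ V).ι f
  let φ₂ : (DCoh.Rpush f).obj ((DCoh.Rpush U.ι).obj ((DCoh.restrictD U.ι).obj E) ⊞
        (DCoh.Rpush V.ι).obj ((DCoh.restrictD V.ι).obj E)) ≅
      (DCoh.Rpush (U.ι ≫ f)).obj ((DCoh.restrictD U.ι).obj E) ⊞
        (DCoh.Rpush (V.ι ≫ f)).obj ((DCoh.restrictD V.ι).obj E) :=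
    Groth.Agent.Helper4.RDerAdd.mapBiprodIso (Scheme.Modules.pushforward f) (DCoh.Rpush f) β _ _ ≪≫
      Limits.biprod.mapIso (eU.app _) (eV.app _)
  let φ₃ : (DCoh.Rpush f).obj ((DCoh.Rpush (U ⊓ V).ι).obj ((DCoh.restrictD (U ⊓ V).ι).obj E)) ≅
      (DCoh.Rpush ((U ⊓ V).ι ≫ f)).obj ((DCoh.restrictD (U ⊓ V).ι).obj E) := eW.app _
  refine ⟨(DCoh.Rpush f).map a0 ≫ φ₂.hom, φ₂.inv ≫ (DCoh.Rpush f).map b0 ≫ φ₃.hom, φ₃.inv ≫ c1, ?_⟩
  refine Pretriangulated.isomorphic_distinguished _ h1 _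
    (Pretriangulated.Triangle.isoMk _ _ (Iso.refl _) φ₂.symm φ₃.symm ?_ ?_ ?_)
  · change ((DCoh.Rpush f).map a0 ≫ φ₂.hom) ≫ φ₂.inv = 𝟙 _ ≫ (DCoh.Rpush f).map a0
    rw [Category.assoc, Iso.hom_inv_id, Category.comp_id, Category.id_comp]
  · change (φ₂.inv ≫ (DCoh.Rpush f).map b0 ≫ φ₃.hom) ≫ φ₃.inv = φ₂.inv ≫ (DCoh.Rpush f).map b0
    simp only [Category.assoc, Iso.hom_inv_id, Category.comp_id]
  · change (φ₃.inv ≫ c1) ≫ (𝟙 ((DCoh.Rpush f).obj E))⟦(1 : ℤ)⟧' = φ₃.inv ≫ c1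
    rw [CategoryTheory.Functor.map_id, Category.comp_id]

end Groth.Agent.S6511
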