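import Groth.Statements.S6512
import Groth.Agent.S6510
import Groth.Agent.Helper4.RDerAdd
import Groth.Agent.Helper4.GammaPush
import Groth.Agent.Helper4.HasRD
import Mathlib

set_option autoImplicit false
universe u
open CategoryTheory
attribute [local instance] HasDerivedCategory.standard
open DCoh

namespace Groth.Agent.S6512


open AlgebraicGeometry CategoryTheory.Limits in
/-- If a scheme X is the union of two opens U and V, then for every E ∈ D(O_X) there is a distinguished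
triangle RΓ(X, E) → RΓ(U, E) ⊕ RΓ(V, E) → RΓ(U ∩ V, E) → RΓ(X, E)[1] in D(Ab), where RΓ(U, E) means
RΓ(U, E|_U). The objects are the stated ones; the morphisms are only asserted to exist (the long
exact cohomology sequence follows by applying the homological functor H^0). (The published statement
is for ringed spaces; this row is for schemes.) -/
theorem result {X : Scheme.{u}} (U V : X.Opens) (hUV : U ⊔ V = ⊤)
    [DCoh.HasRΓ X] [DCoh.HasRΓ (U : Scheme.{u})] [DCoh.HasRΓ (V : Scheme.{u})] [DCoh.HasRΓ (U ⊓ V : X.Opens)]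
    [PreservesFiniteLimits (Scheme.Modules.restrictFunctor U.ι)]
    [PreservesFiniteLimits (Scheme.Modules.restrictFunctor V.ι)]
    [PreservesFiniteLimits (Scheme.Modules.restrictFunctor (U ⊓ V).ι)] (E : DCoh.D X) :
    ∃ (a : (DCoh.RΓ X).obj E ⟶ ((DCoh.RΓ (U : Scheme.{u})).obj ((DCoh.restrictD U.ι).obj E) ⊞ (DCoh.RΓ (V : Scheme.{u})).obj ((DCoh.restrictD V.ι).obj E))) (b : ((DCoh.RΓ (U : Scheme.{u})).obj ((DCoh.restrictD U.ι).obj E) ⊞ (DCoh.RΓ (V : Scheme.{u})).obj ((DCoh.restrictD V.ι).obj E)) ⟶ (DCoh.RΓ (U ⊓ V : X.Opens)).obj ((DCoh.restrictD (U ⊓ V).ι).obj E)) (c : (DCoh.RΓ (U ⊓ V : X.Opens)).obj ((DCoh.restrictD (U ⊓ V).ι).obj E) ⟶ ((DCoh.RΓ X).obj E)⟦(1 : ℤ)⟧),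
      Pretriangulated.Triangle.mk a b c ∈ Pretriangulated.distinguishedTriangles := by

  haveI := Groth.Agent.Helper4.SchAdj.isGrothendieckAbelian_modules X
  haveI : DCoh.HasRpush U.ι := Groth.Agent.Helper4.HasRD.hasRpush _
  haveI : DCoh.HasRpush V.ι := Groth.Agent.Helper4.HasRD.hasRpush _
  haveI : DCoh.HasRpush (U ⊓ V).ι := Groth.Agent.Helper4.HasRD.hasRpush _
  obtain ⟨a0, b0, c0, h0⟩ := Groth.Agent.S6510.result U V hUV E
  let β := (DCoh.gammaKh X).totalRightDerivedUnit DerivedCategory.Qh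
    (HomotopyCategory.quasiIso X.Modules (ComplexShape.up ℤ))
  obtain ⟨(c1 : (DCoh.RΓ X).obj ((DCoh.Rpush (U ⊓ V).ι).obj ((DCoh.restrictD (U ⊓ V).ι).obj E)) ⟶
      ((DCoh.RΓ X).obj E)⟦(1 : ℤ)⟧),
    (h1 : Pretriangulated.Triangle.mk ((DCoh.RΓ X).map a0) ((DCoh.RΓ X).map b0) c1 ∈
      Pretriangulated.distinguishedTriangles)⟩ :=
    Groth.Agent.Helper4.RDerTri.exists_distinguished_map (DCoh.gammaAb X)
      (DCoh.RΓ X) β _ h0
  obtain ⟨eU⟩ := Groth.Agent.Helper4.GammaPush.nonempty_iso U.ι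
  obtain ⟨eV⟩ := Groth.Agent.Helper4.GammaPush.nonempty_iso V.ι
  obtain ⟨eW⟩ := Groth.Agent.Helper4.GammaPush.nonempty_iso (U ⊓ V).ι
  let φ₂ : (DCoh.RΓ X).obj ((DCoh.Rpush U.ι).obj ((DCoh.restrictD U.ι).obj E) ⊞
        (DCoh.Rpush V.ι).obj ((DCoh.restrictD V.ι).obj E)) ≅
      (DCoh.RΓ (U : Scheme.{u})).obj ((DCoh.restrictD U.ι).obj E) ⊞
        (DCoh.RΓ (V : Scheme.{u})).obj ((DCoh.restrictD V.ι).obj E) :=
    Groth.Agent.Helper4.RDerAdd.mapBiprodIso (DCoh.gammaAb X) (DCoh.RΓ X) β _ _ ≪≫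
      Limits.biprod.mapIso (eU.app _) (eV.app _)
  let φ₃ : (DCoh.RΓ X).obj ((DCoh.Rpush (U ⊓ V).ι).obj ((DCoh.restrictD (U ⊓ V).ι).obj E)) ≅
      (DCoh.RΓ (U ⊓ V : X.Opens)).obj ((DCoh.restrictD (U ⊓ V).ι).obj E) := eW.app _
  refine ⟨(DCoh.RΓ X).map a0 ≫ φ₂.hom, φ₂.inv ≫ (DCoh.RΓ X).map b0 ≫ φ₃.hom, φ₃.inv ≫ c1, ?_⟩
  refine Pretriangulated.isomorphic_distinguished _ h1 _
    (Pretriangulated.Triangle.isoMk _ _ (Iso.refl _) φ₂.symm φ₃.symm ?_ ?_ ?_)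
  · change ((DCoh.RΓ X).map a0 ≫ φ₂.hom) ≫ φ₂.inv = 𝟙 _ ≫ (DCoh.RΓ X).map a0
    rw [Category.assoc, Iso.hom_inv_id, Category.comp_id, Category.id_comp]
  · change (φ₂.inv ≫ (DCoh.RΓ X).map b0 ≫ φ₃.hom) ≫ φ₃.inv = φ₂.inv ≫ (DCoh.RΓ X).map b0
    simp only [Category.assoc, Iso.hom_inv_id, Category.comp_id]
  · change (φ₃.inv ≫ c1) ≫ (𝟙 ((DCoh.RΓ X).obj E))⟦(1 : ℤ)⟧' = φ₃.inv ≫ c1
    rw [CategoryTheory.Functor.map_id, Category.comp_id]

end Groth.Agent.S6512
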