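import Groth.Statements.S6519
import Groth.Agent.Helper4.RjSupp
import Groth.Agent.Helper4.PerfImage
import Mathlib

set_option autoImplicit false
universe u
open CategoryTheory
attribute [local instance] HasDerivedCategory.standard
open DCoh

namespace Groth.Agent.S6519


open AlgebraicGeometry in
/-- Let j : U → X be the inclusion of an open subscheme, and let T ⊆ U be a closed subset whose image
j(T) is also closed in X. Suppose E in D(O_U) is perfect and every cohomology sheaf of E has support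
contained in T. In that case the derived pushforward Rj_*E is perfect as an object of D(O_X). (The
published statement is for ringed spaces; this row is for schemes.) -/
theorem result {X : Scheme.{u}} (U : X.Opens) [DCoh.HasRpush U.ι]
    (E : DCoh.D (U : Scheme.{u})) (hE : DCoh.IsPerfect E) (T : Set (U : Scheme.{u}))
    (hT : IsClosed T) (hjT : IsClosed ((fun x : (U : Scheme.{u}) => U.ι.base x) '' T))
    (hsupp : ∀ i : ℤ, CohB1.support (DCoh.HD E i) ⊆ T) :
    DCoh.IsPerfect ((DCoh.Rpush U.ι).obj E) := by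

  classical
  let W : X.Opens := ⟨((fun x : (U : Scheme.{u}) => U.ι.base x) '' T)ᶜ, hjT.isOpen_compl⟩
  intro x
  by_cases hx : x ∈ (fun x : (U : Scheme.{u}) => U.ι.base x) '' T
  · obtain ⟨x', hx'T, rfl⟩ := hx
    obtain ⟨V', hxV', hV'⟩ := hE x'
    refine ⟨U.ι ''ᵁ V', ⟨x', hxV', rfl⟩, ?_⟩
    rintro F ⟨eF⟩
    have eG : DCoh.toD (U : Scheme.{u}) ((DCoh.restrictCx U).obj F) ≅ E :=
      ((Scheme.Modules.restrictFunctor U.ι).mapDerivedCategoryFactors.app F).symm ≪≫
        (DCoh.restrictD U.ι).mapIso eF ≪≫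
        asIso ((Groth.Agent.Helper4.RjSupp.dAdj U).counit.app E)
    obtain ⟨E', hE', ⟨e⟩⟩ := hV' _ ⟨eG⟩
    exact Groth.Agent.Helper4.PerfImage.exists_strictlyPerfect_image U V' F E' hE' e
  · refine ⟨W, hx, ?_⟩
    rintro F ⟨eF⟩
    have hz : Limits.IsZero ((DCoh.restrictD W.ι).obj ((DCoh.Rpush U.ι).obj E)) := by
      apply Groth.Agent.Helper4.RjSupp.isZero_restrictD_Rpush
      rw [Groth.Agent.Helper4.SuppLib.isZero_restrictD_iff]
      intro n y hy
      have hyW : (U.ι ⁻¹ᵁ W).ι y ∈ U.ι ⁻¹ᵁ W := y.2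
      exact hyW ⟨_, hsupp n hy, rfl⟩
    obtain ⟨Z0, hz0⟩ := Limits.HasZeroObject.zero (C := CochainComplex (W : Scheme.{u}).Modules ℤ)
    refine ⟨Z0, Groth.Agent.Helper4.PerfImage.isStrictlyPerfect_zero Z0 hz0, ⟨?_⟩⟩
    have e1 : DerivedCategory.Q.obj ((DCoh.restrictCx W).obj F) ≅
        (DCoh.restrictD W.ι).obj ((DCoh.Rpush U.ι).obj E) :=
      ((Scheme.Modules.restrictFunctor W.ι).mapDerivedCategoryFactors.app F).symm ≪≫
        (DCoh.restrictD W.ι).mapIso eF
    exact (hz.of_iso e1).iso (Functor.map_isZero _ hz0)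

end Groth.Agent.S6519
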