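import Groth.Statements.S6524
import Mathlib
import Groth.Agent.Helper9.BaerGen
import Groth.Agent.Helper1.SiteCoh
-- import your own Groth.Agent.* helpers here

set_option autoImplicit false
universe u
open CategoryTheory
open CohSite

namespace Groth.Agent.S6524

/-- Let (C, J) be a small site and I an abelian sheaf. Suppose that for every object X of C, every
abelian subsheaf S of the free abelian sheaf Z_X^# on X (given as a monomorphism S → Z_X^#) and
every morphism S → I, the morphism extends to Z_X^# → I. Then I is an injective abelian sheaf. -/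
theorem result {C : Type u} [SmallCategory C]
    (J : GrothendieckTopology C) (I : Sheaf J AddCommGrpCat.{u})
    (h : ∀ (X : C) (S : Sheaf J AddCommGrpCat.{u}) (i : S ⟶ CohCx.freeSheaf J X) [Mono i] (φ : S ⟶ I),
      ∃ ψ : CohCx.freeSheaf J X ⟶ I, i ≫ ψ = φ) :
    Injective I := by
  refine Groth.Agent.Helper9.BaerGen.injective_of_extension.{u}
    (fun X : C => Groth.Agent.Helper1.SiteCoh.freeY J X) ?_ I
    (fun X S m _ φ => h X S m φ)
  intro F F' p _ hp
  have hepi : Epi p := by
    have : Epi p.hom := by
      apply (config := { allowSynthFailures := true }) NatTrans.epi_of_epi_app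
      intro X
      rw [AddCommGrpCat.epi_iff_surjective]
      intro y
      obtain ⟨a, ha⟩ := hp X.unop ((Groth.Agent.Helper1.SiteCoh.homEquiv X.unop F').symm y)
      refine ⟨Groth.Agent.Helper1.SiteCoh.homEquiv X.unop F a, ?_⟩
      rw [← Groth.Agent.Helper1.SiteCoh.homEquiv_comp, ha, Equiv.apply_symm_apply]
    exact Sheaf.Hom.epi_of_presheaf_epi _ _ p
  exact isIso_of_mono_of_epi p

end Groth.Agent.S6524
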