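import Groth.Statements.S6544
import Groth.Agent.Helper4.SN557
import Groth.Agent.Helper4.SN558
import Groth.Agent.Helper4.SN560
import Groth.Agent.Helper4.SN561
import Groth.Agent.Helper4.SN85
import Groth.Agent.Helper4.SN89
import Mathlib

set_option autoImplicit false
universe u
open CategoryTheory CategoryTheory.Limits AlgebraicGeometry
open Curves

namespace Groth.Agent.S6544


/-- Let X be a proper curve over the field k (proper, integral, of dimension one) which is smooth and
geometrically irreducible over k, of genus 0. If X has an invertible O_X-module of odd degree, then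
X is isomorphic to P^1_k over k. -/
theorem result (k : Type u) [Field k] (X : Scheme.{u}) [X.Over (Spec (CommRingCat.of k))]
    [IsIntegral X] [IsProper (X ↘ (Spec (CommRingCat.of k)))] (hdim : topologicalKrullDim X = 1)
    [Smooth (X ↘ (Spec (CommRingCat.of k)))] [GeometricallyIrreducible (X ↘ (Spec (CommRingCat.of k)))] (hg : Curv2.genus k X = 0)
    (L : X.Modules) (hL : PicF.IsInvertible L) (hodd : Odd (Curv2.deg k X L 1)) :
    ∃ e : X ≅ CohB1.ProjSpace 1 k, e.hom ≫ CohB1.ProjSpace.toSpec 1 k = X ↘ (Spec (CommRingCat.of k)) := by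

  haveI hp : IsProper (X ↘ (Spec (CommRingCat.of k))) := inferInstance
  letI := Curv2.stalkAlgebra k X (genericPoint X)
  haveI := Groth.Agent.Helper4.NApx82.isNoetherian_of_proper k X
  have hnorm : ∀ x : X, IsIntegrallyClosed (X.presheaf.stalk x) := by
    intro x
    haveI := Groth.Agent.Helper4.SN.regular_of_smooth k (X := X) x
    exact Groth.Agent.Helper4.RegNormal.isIntegrallyClosed_of_isRegularLocalRing _
  have hK : FunFld.IsFunctionField k X.functionField :=
    ⟨Groth.Agent.Helper4.SN539.exists_transcendental_finite_functionField k X hdim,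
      fun y hy => Groth.Agent.Helper4.SN558.mem_range_of_isAlgebraic k X y hy⟩
  let pd := Groth.Agent.Helper4.SN557.placeData k X hp hdim hnorm hK
  have hgF : FunFld.genus k X.functionField = 0 := by
    rw [← Groth.Agent.Helper4.SN560.genus_eq pd]
    exact hg
  obtain ⟨t, ht0, -⟩ := Groth.Agent.Helper4.SN555.exists_gen L hL
  obtain ⟨D, hD⟩ := Groth.Agent.Helper4.SN550.exists_isDiv pd L hL t ht0
  have hdegD := Groth.Agent.Helper4.SN552.deg_eq_of_isDiv pd L hL t D hD
  rw [hdegD] at hodd
  obtain ⟨P, hP⟩ := Groth.Agent.Helper4.SN561.exists_place_deg_one hK hgF D hodd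
  obtain ⟨x, rfl⟩ := pd.pl.surjective P
  rw [pd.deg x] at hP
  have hne := Groth.Agent.Helper4.SN.ne_genericPoint_of_isClosed hdim x.1 x.2
  have hprin := Groth.Agent.Helper4.SN.isPrincipal_maximalIdeal_of_isIntegrallyClosed hdim.le x.1
    (hnorm x.1)
  have hbot := Groth.Agent.Helper4.SN.maximalIdeal_ne_bot_of_ne_genericPoint x.1 hne
  obtain ⟨N, hN, hdegN, -⟩ :=
    Groth.Agent.Helper4.SN.exists_invertible_deg_point k hdim.le x.1 x.2 hprin hbot
  rw [hP] at hdegN
  have hcoh : Coh.IsCoh (Coh.structureModule X) :=
    Groth.Agent.Helper1.SerreFin.isCoh_of_isInvertible _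
      Groth.Agent.Helper4.TensorInv.isInvertible_structureModule
  haveI : Module.Finite k (Coh.HH X (Coh.structureModule X) 1) :=
    Groth.Agent.S0002.result k X _ hcoh 1
  have h1 : Subsingleton (Coh.HH X (Coh.structureModule X) 1) :=
    Module.finrank_zero_iff.1 hg
  exact Groth.Agent.Helper4.SN.main6541 k hdim h1 N hN (by exact_mod_cast hdegN)

end Groth.Agent.S6544
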