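import Groth.Statements.S6580
import Mathlib

set_option autoImplicit false
universe v u
open CategoryTheory CategoryTheory.Limits
open CohDer

namespace Groth.Agent.S6580

open CategoryTheory.Pretriangulated in
/-- Let (X, Y, Z, f, g, h) be a distinguished triangle of a pretriangulated category, and let a : X ⟶ X
and c : Z ⟶ Z be idempotents with h ≫ a⟦1⟧ = c ≫ h. Then there is an idempotent b : Y ⟶ Y such that
(a, b, c) is an endomorphism of the triangle. -/
theorem result {D : Type u} [Category.{v} D] [Preadditive D] [HasZeroObject D] [HasShift D ℤ]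
    [∀ n : ℤ, (shiftFunctor D n).Additive] [Pretriangulated D]
    (T : Triangle D) (hT : T ∈ distinguishedTriangles) (a : T.obj₁ ⟶ T.obj₁) (c : T.obj₃ ⟶ T.obj₃)
    (ha : a ≫ a = a) (hc : c ≫ c = c) (comm : T.mor₃ ≫ (shiftFunctor D (1 : ℤ)).map a = c ≫ T.mor₃) :
    ∃ b : T.obj₂ ⟶ T.obj₂, b ≫ b = b ∧ T.mor₁ ≫ b = a ≫ T.mor₁ ∧ T.mor₂ ≫ c = b ≫ T.mor₂ := by
  have ring_lemma : ∀ {R : Type v} [Ring R] (B : R), (B * B - B) * (B * B - B) = 0 →
      (B * B + B * B + B * B - (B * B * B + B * B * B)) *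
        (B * B + B * B + B * B - (B * B * B + B * B * B)) =
      B * B + B * B + B * B - (B * B * B + B * B * B) := by
    intro R _ B hd
    have hp : ((Polynomial.X * Polynomial.X + Polynomial.X * Polynomial.X +
        Polynomial.X * Polynomial.X - (Polynomial.X * Polynomial.X * Polynomial.X +
        Polynomial.X * Polynomial.X * Polynomial.X)) *
        (Polynomial.X * Polynomial.X + Polynomial.X * Polynomial.X +
        Polynomial.X * Polynomial.X - (Polynomial.X * Polynomial.X * Polynomial.X +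
        Polynomial.X * Polynomial.X * Polynomial.X)) -
        (Polynomial.X * Polynomial.X + Polynomial.X * Polynomial.X +
        Polynomial.X * Polynomial.X - (Polynomial.X * Polynomial.X * Polynomial.X +
        Polynomial.X * Polynomial.X * Polynomial.X)) : Polynomial ℤ) =
        (Polynomial.X * Polynomial.X - Polynomial.X) * (Polynomial.X * Polynomial.X - Polynomial.X) *
          (4 * (Polynomial.X * Polynomial.X) - 4 * Polynomial.X - 3) := by
      ring
    have := congrArg (Polynomial.aeval B) hp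
    simp only [map_sub, map_add, map_mul, Polynomial.aeval_X] at this
    rw [hd, zero_mul, sub_eq_zero] at this
    exact this
  obtain ⟨β, hβ1, hβ2⟩ := complete_distinguished_triangle_morphism₂ T T hT hT a c comm
  -- δ = β² - β squares to zero
  have hδ1 : T.mor₁ ≫ (β ≫ β - β) = 0 := by
    rw [Preadditive.comp_sub, ← Category.assoc, hβ1, Category.assoc, hβ1, ← Category.assoc, ha,
      sub_self]
  have hδ2 : (β ≫ β - β) ≫ T.mor₂ = 0 := by
    rw [Preadditive.sub_comp, Category.assoc, ← hβ2, ← Category.assoc, ← hβ2, Category.assoc, hc,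
      sub_self]
  obtain ⟨t, ht⟩ := Triangle.coyoneda_exact₂ T hT (β ≫ β - β) hδ2
  have hδδ : (β ≫ β - β) ≫ (β ≫ β - β) = 0 := by
    have h1 : (β ≫ β - β) ≫ (β ≫ β - β) = t ≫ (T.mor₁ ≫ (β ≫ β - β)) := by
      rw [← Category.assoc, ← ht]
    rw [h1, hδ1, comp_zero]
  have e2 : T.mor₁ ≫ β ≫ β = a ≫ T.mor₁ := by
    rw [← Category.assoc, hβ1, Category.assoc, hβ1, ← Category.assoc, ha]
  have e3 : T.mor₁ ≫ β ≫ β ≫ β = a ≫ T.mor₁ := by
    rw [← Category.assoc, hβ1, Category.assoc, e2, ← Category.assoc, ha]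
  have e2' : β ≫ β ≫ T.mor₂ = T.mor₂ ≫ c := by
    rw [← hβ2, ← Category.assoc, ← hβ2, Category.assoc, hc]
  have e3' : β ≫ β ≫ β ≫ T.mor₂ = T.mor₂ ≫ c := by
    rw [e2', ← Category.assoc, ← hβ2, Category.assoc, hc]
  refine ⟨(β ≫ β + β ≫ β + β ≫ β) - (β ≫ β ≫ β + β ≫ β ≫ β), ?_, ?_, ?_⟩
  · exact ring_lemma (R := End T.obj₂) β hδδ
  · rw [Preadditive.comp_sub, Preadditive.comp_add, Preadditive.comp_add, Preadditive.comp_add,
      e2, e3]
    abel
  · rw [Preadditive.sub_comp, Preadditive.add_comp, Preadditive.add_comp, Preadditive.add_comp]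
    simp only [Category.assoc]
    have e4 : β ≫ T.mor₂ ≫ c = T.mor₂ ≫ c := by
      rw [← Category.assoc, ← hβ2, Category.assoc, hc]
    rw [e2', e4]
    abel

end Groth.Agent.S6580
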