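import Groth.Statements.S6581
import Mathlib
import Groth.Agent.Helper3.TriRetract

set_option autoImplicit false
universe v u
open scoped TensorProduct
open CategoryTheory CategoryTheory.Limits
open CohDer

namespace Groth.Agent.S6581

open CategoryTheory.Pretriangulated in
/-- Let T = (X, Y, Z, f, g, h) and T' = (X', Y', Z', f', g', h') be triangles in a pretriangulated
category. The direct sum triangle (X ⊞ X', Y ⊞ Y', Z ⊞ Z', f ⊕ f', g ⊕ g', h ⊕ h') (whose third map
Z ⊞ Z' ⟶ (X ⊞ X')⟦1⟧ has components h ≫ inl⟦1⟧ and h' ≫ inr⟦1⟧) is distinguished if and only if T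
and T' are both distinguished. -/
theorem result {D : Type u} [Category.{v} D] [Preadditive D] [HasZeroObject D] [HasShift D ℤ]
    [∀ n : ℤ, (shiftFunctor D n).Additive] [Pretriangulated D]
    (T T' : Triangle D) :
    Triangle.mk (biprod.map T.mor₁ T'.mor₁) (biprod.map T.mor₂ T'.mor₂)
        (biprod.desc (T.mor₃ ≫ (shiftFunctor D (1 : ℤ)).map biprod.inl) (T'.mor₃ ≫ (shiftFunctor D (1 : ℤ)).map biprod.inr)) ∈ distinguishedTriangles ↔
      (T ∈ distinguishedTriangles ∧ T' ∈ distinguishedTriangles) := by
  let Sh := shiftFunctor D (1 : ℤ)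
  let S : Triangle D := Triangle.mk (biprod.map T.mor₁ T'.mor₁) (biprod.map T.mor₂ T'.mor₂)
      (biprod.desc (T.mor₃ ≫ Sh.map biprod.inl) (T'.mor₃ ≫ Sh.map biprod.inr))
  change S ∈ distinguishedTriangles ↔ _
  constructor
  · intro hS
    have sh0 : ∀ {X Y : D}, Sh.map (0 : X ⟶ Y) = 0 := Functor.map_zero _ _ _
    constructor
    · let i : T ⟶ S :=
        { hom₁ := biprod.inl
          hom₂ := biprod.inl
          hom₃ := biprod.inl
          comm₁ := (biprod.inl_map _ _).symm
          comm₂ := (biprod.inl_map _ _).symm
          comm₃ := (biprod.inl_desc _ _).symm }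
      let p : S ⟶ T :=
        { hom₁ := biprod.fst
          hom₂ := biprod.fst
          hom₃ := biprod.fst
          comm₁ := biprod.map_fst _ _
          comm₂ := biprod.map_fst _ _
          comm₃ := by
            change biprod.desc (T.mor₃ ≫ Sh.map biprod.inl) (T'.mor₃ ≫ Sh.map biprod.inr) ≫
              Sh.map biprod.fst = biprod.fst ≫ T.mor₃
            apply biprod.hom_ext'
            · rw [biprod.inl_desc_assoc, Category.assoc, ← Functor.map_comp, biprod.inl_fst,
                CategoryTheory.Functor.map_id, Category.comp_id, biprod.inl_fst_assoc]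
            · rw [biprod.inr_desc_assoc, Category.assoc, ← Functor.map_comp, biprod.inr_fst,
                sh0, Limits.comp_zero, biprod.inr_fst_assoc, Limits.zero_comp] }
      refine Groth.Agent.Helper3.TriRetract.distinguished_of_retract T S hS i p ?_
      ext
      · exact biprod.inl_fst
      · exact biprod.inl_fst
      · exact biprod.inl_fst
    · let i : T' ⟶ S :=
        { hom₁ := biprod.inr
          hom₂ := biprod.inr
          hom₃ := biprod.inr
          comm₁ := (biprod.inr_map _ _).symm
          comm₂ := (biprod.inr_map _ _).symm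
          comm₃ := (biprod.inr_desc _ _).symm }
      let p : S ⟶ T' :=
        { hom₁ := biprod.snd
          hom₂ := biprod.snd
          hom₃ := biprod.snd
          comm₁ := biprod.map_snd _ _
          comm₂ := biprod.map_snd _ _
          comm₃ := by
            change biprod.desc (T.mor₃ ≫ Sh.map biprod.inl) (T'.mor₃ ≫ Sh.map biprod.inr) ≫
              Sh.map biprod.snd = biprod.snd ≫ T'.mor₃
            apply biprod.hom_ext'
            · rw [biprod.inl_desc_assoc, Category.assoc, ← Functor.map_comp, biprod.inl_snd,
                sh0, Limits.comp_zero, biprod.inl_snd_assoc, Limits.zero_comp]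
            · rw [biprod.inr_desc_assoc, Category.assoc, ← Functor.map_comp, biprod.inr_snd,
                CategoryTheory.Functor.map_id, Category.comp_id, biprod.inr_snd_assoc] }
      refine Groth.Agent.Helper3.TriRetract.distinguished_of_retract T' S hS i p ?_
      ext
      · exact biprod.inr_snd
      · exact biprod.inr_snd
      · exact biprod.inr_snd
  · rintro ⟨hT, hT'⟩
    exact Groth.Agent.Helper3.TriRetract.biprod_distinguished T T' hT hT'

end Groth.Agent.S6581
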