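import Groth.Statements.S6582
import Mathlib

set_option autoImplicit false
universe v u v' u'
open CategoryTheory CategoryTheory.Limits
open CohDer

namespace Groth.Agent.S6582

open CategoryTheory.Pretriangulated in
/-- Let F : D ⥤ D' be an exact functor of pretriangulated categories. The full subcategory of D on the
objects X with F(X) ≅ 0 is a strictly full pretriangulated subcategory (it contains a zero object,
is stable under shifts and isomorphisms and is closed under extensions) and it is saturated:
whenever X ⊞ Y belongs to it, so do X and Y. -/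
theorem result {D : Type u} [Category.{v} D] [Preadditive D] [HasZeroObject D] [HasShift D ℤ]
    [∀ n : ℤ, (shiftFunctor D n).Additive] [Pretriangulated D]
    {D' : Type u'} [Category.{v'} D'] [Preadditive D'] [HasZeroObject D'] [HasShift D' ℤ]
    [∀ n : ℤ, (shiftFunctor D' n).Additive] [Pretriangulated D']
    (F : D ⥤ D') [F.Additive] [F.CommShift ℤ] [F.IsTriangulated] :
    (ObjectProperty.IsTriangulated (fun X : D => IsZero (F.obj X))) ∧
    (ObjectProperty.IsClosedUnderIsomorphisms (fun X : D => IsZero (F.obj X))) ∧
    (∀ X Y : D, IsZero (F.obj (X ⊞ Y)) → IsZero (F.obj X) ∧ IsZero (F.obj Y)) := by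
  haveI hZ : ObjectProperty.IsTriangulated (IsZero (C := D')) :=
    { toContainsZero := inferInstance
      toIsStableUnderShift :=
        { isStableUnderShiftBy := fun n =>
            ⟨fun X hX => (shiftFunctor D' n).map_isZero hX⟩ }
      toIsTriangulatedClosed₂ := ObjectProperty.IsTriangulatedClosed₂.mk'
        (fun T hT h₁ h₃ => (Triangle.isZero₂_iff T hT).mpr ⟨h₁.eq_of_src _ _, h₃.eq_of_tgt _ _⟩) }
  refine ⟨?_, ?_, ?_⟩
  · exact inferInstanceAs ((ObjectProperty.inverseImage IsZero F).IsTriangulated)
  · exact inferInstanceAs ((ObjectProperty.inverseImage IsZero F).IsClosedUnderIsomorphisms)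
  · intro X Y h
    constructor
    · rw [IsZero.iff_id_eq_zero, ← F.map_id, ← biprod.inl_fst (X := X) (Y := Y), F.map_comp,
        h.eq_of_tgt (F.map biprod.inl) 0, zero_comp]
    · rw [IsZero.iff_id_eq_zero, ← F.map_id, ← biprod.inr_snd (X := X) (Y := Y), F.map_comp,
        h.eq_of_tgt (F.map biprod.inr) 0, zero_comp]

end Groth.Agent.S6582
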