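import Groth.Statements.S6584
import Groth.Agent.Helper3.HomolBounded

set_option autoImplicit false
universe v u v' u'
open CategoryTheory CategoryTheory.Limits
open CohDer

namespace Groth.Agent.S6584

open CategoryTheory.Pretriangulated in
/-- Let H : D ⥤ A be a homological functor from a pretriangulated category to an abelian category. The
full subcategory of D on the objects X with H(X⟦n⟧) = 0 for all n ≫ 0 is a strictly full
pretriangulated subcategory (zero object, stable under shifts and isomorphisms, closed under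
extensions) and is saturated: if X ⊞ Y belongs to it then so do X and Y. -/
theorem result {D : Type u} [Category.{v} D] [Preadditive D] [HasZeroObject D] [HasShift D ℤ]
    [∀ n : ℤ, (shiftFunctor D n).Additive] [Pretriangulated D]
    {A : Type u'} [Category.{v'} A] [Abelian A] (H : D ⥤ A) [H.IsHomological] :
    (ObjectProperty.IsTriangulated (fun X : D => ∃ N : ℤ, ∀ n : ℤ, N ≤ n → IsZero (H.obj ((shiftFunctor D n).obj X)))) ∧
    (ObjectProperty.IsClosedUnderIsomorphisms (fun X : D => ∃ N : ℤ, ∀ n : ℤ, N ≤ n → IsZero (H.obj ((shiftFunctor D n).obj X)))) ∧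
    (∀ X Y : D, (∃ N : ℤ, ∀ n : ℤ, N ≤ n → IsZero (H.obj ((shiftFunctor D n).obj (X ⊞ Y)))) →
      (∃ N : ℤ, ∀ n : ℤ, N ≤ n → IsZero (H.obj ((shiftFunctor D n).obj X))) ∧
      (∃ N : ℤ, ∀ n : ℤ, N ≤ n → IsZero (H.obj ((shiftFunctor D n).obj Y)))) := by
  have h1 : ∀ N a : ℤ, ∃ N' : ℤ, ∀ n, (fun N n : ℤ => N ≤ n) N' n → (fun N n : ℤ => N ≤ n) N (a + n) :=
    fun N a => ⟨N - a, fun n hn => by simp only at hn ⊢; omega⟩
  have h2 : ∀ N₁ N₃ : ℤ, ∃ N : ℤ, ∀ n, (fun N n : ℤ => N ≤ n) N n →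
      (fun N n : ℤ => N ≤ n) N₁ n ∧ (fun N n : ℤ => N ≤ n) N₃ n :=
    fun N₁ N₃ => ⟨max N₁ N₃, fun n hn => by simp only at hn ⊢; omega⟩
  refine ⟨?_, ?_, ?_⟩
  · exact Groth.Agent.Helper3.vanishTail_isTriangulated H (fun N n : ℤ => N ≤ n) h1 h2
  · exact Groth.Agent.Helper3.vanishTail_isClosedUnderIsomorphisms H (fun N n : ℤ => N ≤ n)
  · exact Groth.Agent.Helper3.vanishTail_saturated H (fun N n : ℤ => N ≤ n)

end Groth.Agent.S6584
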