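import Groth.Statements.S6585
import Mathlib

set_option autoImplicit false
universe v u
open CategoryTheory CategoryTheory.Limits
open CohDer

namespace Groth.Agent.S6585

open CategoryTheory.Pretriangulated in
/-- Let D be a triangulated category and E, K objects of D. Then Hom(E, K⟦i⟧) = 0 for all integers i if
and only if Hom(E', K) = 0 for every E' in ⟨E⟩, the smallest strictly full saturated triangulated
subcategory of D containing E (the objects obtained from E by shifts, finite direct sums, direct
summands and extensions). -/
theorem result {D : Type u} [Category.{v} D] [Preadditive D] [HasZeroObject D] [HasShift D ℤ]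
    [∀ n : ℤ, (shiftFunctor D n).Additive] [Pretriangulated D] [IsTriangulated D]
    (E K : D) :
    (∀ (i : ℤ) (f : E ⟶ (shiftFunctor D i).obj K), f = 0) ↔
      ∀ (E' : D), (ObjectProperty.singleton E).triangEnvelope E' → ∀ f : E' ⟶ K, f = 0 := by
  -- the shift closure of `{K}` and its left orthogonal
  let P : ObjectProperty D := (ObjectProperty.singleton K).shiftClosure ℤ
  haveI hQr : P.leftOrthogonal.IsStableUnderRetracts :=
    ⟨fun {X Y} r hY Z f hZ => by
      have h1 : f = r.i ≫ (r.r ≫ f) := by rw [← Category.assoc, r.retract, Category.id_comp]
      rw [h1, hY (r.r ≫ f) hZ, comp_zero]⟩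
  constructor
  · intro h E' hE' f
    have hle : (ObjectProperty.singleton E).triangEnvelope ≤ P.leftOrthogonal := by
      rw [ObjectProperty.triangEnvelope_le_iff, ObjectProperty.singleton_le_iff]
      intro Y g hY
      obtain ⟨Z, a, e, hZ⟩ := hY
      rw [ObjectProperty.singleton_iff] at hZ
      subst hZ
      rw [← cancel_mono e.hom, zero_comp]
      exact h a _
    exact hle E' hE' f ((ObjectProperty.le_shiftClosure (A := ℤ) (ObjectProperty.singleton K)) K
      ((ObjectProperty.singleton_iff K K).mpr rfl))
  · intro h i f
    have hE : (ObjectProperty.singleton E).triangEnvelope E :=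
      ObjectProperty.le_triangEnvelope _ E ((ObjectProperty.singleton_iff E E).mpr rfl)
    have hE' : (ObjectProperty.singleton E).triangEnvelope ((shiftFunctor D (-i)).obj E) :=
      (ObjectProperty.singleton E).triangEnvelope.le_shift (-i) E hE
    have h0 := h _ hE' ((shiftFunctor D (-i)).map f ≫
      (shiftFunctorCompIsoId D i (-i) (by simp)).hom.app K)
    rw [← cancel_mono ((shiftFunctorCompIsoId D i (-i) (by simp)).inv.app K), Category.assoc,
      Iso.hom_inv_id_app, zero_comp] at h0
    apply (shiftFunctor D (-i)).map_injective
    rw [Functor.map_zero]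
    simpa using h0

end Groth.Agent.S6585
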