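import Groth.Statements.S6586
import Mathlib

set_option autoImplicit false
universe v u
open scoped TensorProduct
open CategoryTheory CategoryTheory.Limits
open CohDer

namespace Groth.Agent.S6586

/-- Fix a triangulated category D together with an object E in it. Suppose E classically generates D,
i.e. ⟨E⟩ = D; then E is a generator of D: an object K with Hom(E, K⟦n⟧) = 0 for all n is zero. -/
theorem result {D : Type u} [Category.{v} D] [Preadditive D] [HasZeroObject D] [HasShift D ℤ]
    [∀ n : ℤ, (shiftFunctor D n).Additive] [Pretriangulated D] [IsTriangulated D]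
    (E : D) (hE : (ObjectProperty.singleton E).IsClassicalTriangulatedGenerator) :
    CohDer.Generates (fun _ : PUnit.{1} => E) := by
  intro K hK
  let R : ObjectProperty D := (ObjectProperty.singleton K).shiftClosure ℤ
  let Q : ObjectProperty D := R.leftOrthogonal
  haveI : Q.IsStableUnderRetracts := ⟨by
    intro X Y r hY Z f hZ
    have h0 := hY (r.r ≫ f) hZ
    calc f = r.i ≫ (r.r ≫ f) := by rw [← Category.assoc, r.retract, Category.id_comp]
      _ = 0 := by rw [h0, comp_zero]⟩
  have hle : ObjectProperty.singleton E ≤ Q := by
    intro X hX Z f hZ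
    rw [ObjectProperty.singleton_iff] at hX
    subst hX
    obtain ⟨Y, a, e, hY⟩ := hZ
    rw [ObjectProperty.singleton_iff] at hY
    subst hY
    have h0 := hK PUnit.unit a (f ≫ e.hom)
    calc f = (f ≫ e.hom) ≫ e.inv := by simp
      _ = 0 := by rw [h0, zero_comp]
  have hall : (ObjectProperty.singleton E).triangEnvelope ≤ Q :=
    (ObjectProperty.triangEnvelope_le_iff _).2 hle
  rw [hE] at hall
  have hQK : Q K := hall K trivial
  have hRK : R K := (ObjectProperty.le_shiftClosure (ObjectProperty.singleton K) (A := ℤ)) K
    (by rw [ObjectProperty.singleton_iff])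
  rw [IsZero.iff_id_eq_zero]
  exact hQK (𝟙 K) hRK

end Groth.Agent.S6586
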