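import Groth.Statements.S6593
import Mathlib

set_option autoImplicit false
universe w v u
open scoped TensorProduct
open CategoryTheory CategoryTheory.Limits
open CohDer

namespace Groth.Agent.S6593

open CategoryTheory.Pretriangulated in
/-- Let D be a pretriangulated category and (X_i → Y_i → Z_i → X_i⟦1⟧)_{i ∈ I} a family of distinguished
triangles. If the direct sums ⨁ X_i, ⨁ Y_i, ⨁ Z_i exist, then ⨁ X_i → ⨁ Y_i → ⨁ Z_i → (⨁ X_i)⟦1⟧ is
a distinguished triangle (the last map is induced by the composites Z_i → X_i⟦1⟧ → (⨁ X_i)⟦1⟧). -/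
theorem result {D : Type u} [Category.{v} D] [Preadditive D] [HasZeroObject D] [HasShift D ℤ]
    [∀ n : ℤ, (shiftFunctor D n).Additive] [Pretriangulated D]
    {J : Type w} (T : J → Triangle D) (hT : ∀ j, T j ∈ distinguishedTriangles)
    [HasCoproduct (fun j => (T j).obj₁)] [HasCoproduct (fun j => (T j).obj₂)] [HasCoproduct (fun j => (T j).obj₃)] :
    Triangle.mk (Limits.Sigma.map (fun j => (T j).mor₁)) (Limits.Sigma.map (fun j => (T j).mor₂))
      (Sigma.desc (fun j => (T j).mor₃ ≫ (shiftFunctor D (1 : ℤ)).map (Sigma.ι (fun j => (T j).obj₁) j))) ∈ distinguishedTriangles := by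
  classical
  -- notation
  let Xs : J → D := fun j => (T j).obj₁
  let Ys : J → D := fun j => (T j).obj₂
  let Zs : J → D := fun j => (T j).obj₃
  let f₁ : ∐ Xs ⟶ ∐ Ys := Limits.Sigma.map (fun j => (T j).mor₁)
  let g₁ : ∐ Ys ⟶ ∐ Zs := Limits.Sigma.map (fun j => (T j).mor₂)
  let h₁ : ∐ Zs ⟶ (shiftFunctor D (1 : ℤ)).obj (∐ Xs) :=
    Sigma.desc (fun j => (T j).mor₃ ≫ (shiftFunctor D (1 : ℤ)).map (Sigma.ι Xs j))
  change Triangle.mk f₁ g₁ h₁ ∈ distinguishedTriangles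
  obtain ⟨Z, f₂, f₃, hT'⟩ := distinguished_cocone_triangle f₁
  let T' := Triangle.mk f₁ f₂ f₃
  change T' ∈ distinguishedTriangles at hT'
  -- morphisms `T j ⟶ T'`
  have hφ : ∀ j, ∃ c : Zs j ⟶ Z, (T j).mor₂ ≫ c = Sigma.ι Ys j ≫ f₂ ∧
      (T j).mor₃ ≫ (shiftFunctor D (1 : ℤ)).map (Sigma.ι Xs j) = c ≫ f₃ := fun j =>
    complete_distinguished_triangle_morphism (T j) T' (hT j) hT' (Sigma.ι Xs j) (Sigma.ι Ys j)
      (by
        change (T j).mor₁ ≫ Sigma.ι Ys j = Sigma.ι Xs j ≫ f₁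
        exact (Limits.Sigma.ι_map (fun j => (T j).mor₁) j).symm)
  choose c hc₂ hc₃ using hφ
  let g : ∐ Zs ⟶ Z := Sigma.desc c
  have hg : ∀ j, Sigma.ι Zs j ≫ g = c j := fun j => Sigma.ι_desc c j
  have comm₂ : g₁ ≫ g = f₂ := by
    apply Limits.Sigma.hom_ext
    intro j
    have e1 : Sigma.ι Ys j ≫ g₁ = (T j).mor₂ ≫ Sigma.ι Zs j :=
      Limits.Sigma.ι_map (fun j => (T j).mor₂) j
    rw [reassoc_of% e1, hg, hc₂]
  have comm₃ : h₁ = g ≫ f₃ := by
    apply Limits.Sigma.hom_ext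
    intro j
    have e1 : Sigma.ι Zs j ≫ h₁ = (T j).mor₃ ≫ (shiftFunctor D (1 : ℤ)).map (Sigma.ι Xs j) :=
      Limits.Sigma.ι_desc _ j
    rw [e1, reassoc_of% (hg j), hc₃]
  -- the shift preserves the coproduct
  have hcX : IsColimit ((shiftFunctor D (1 : ℤ)).mapCocone (Cofan.mk (∐ Xs) (Sigma.ι Xs))) :=
    isColimitOfPreserves (shiftFunctor D (1 : ℤ)) (coproductIsCoproduct Xs)
  have hcY : IsColimit ((shiftFunctor D (1 : ℤ)).mapCocone (Cofan.mk (∐ Ys) (Sigma.ι Ys))) :=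
    isColimitOfPreserves (shiftFunctor D (1 : ℤ)) (coproductIsCoproduct Ys)
  have descX : ∀ {A : D} (b : ∀ j, (shiftFunctor D (1 : ℤ)).obj (Xs j) ⟶ A),
      ∃ β : (shiftFunctor D (1 : ℤ)).obj (∐ Xs) ⟶ A,
        ∀ j, (shiftFunctor D (1 : ℤ)).map (Sigma.ι Xs j) ≫ β = b j := fun {A} b =>
    ⟨hcX.desc (Cocone.mk A (Discrete.natTrans (fun ⟨j⟩ => b j))), fun j =>
      hcX.fac (Cocone.mk A (Discrete.natTrans (fun ⟨j⟩ => b j))) ⟨j⟩⟩
  have descY : ∀ {A : D} (b : ∀ j, (shiftFunctor D (1 : ℤ)).obj (Ys j) ⟶ A),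
      ∃ β : (shiftFunctor D (1 : ℤ)).obj (∐ Ys) ⟶ A,
        ∀ j, (shiftFunctor D (1 : ℤ)).map (Sigma.ι Ys j) ≫ β = b j := fun {A} b =>
    ⟨hcY.desc (Cocone.mk A (Discrete.natTrans (fun ⟨j⟩ => b j))), fun j =>
      hcY.fac (Cocone.mk A (Discrete.natTrans (fun ⟨j⟩ => b j))) ⟨j⟩⟩
  have extX : ∀ {A : D} (β β' : (shiftFunctor D (1 : ℤ)).obj (∐ Xs) ⟶ A),
      (∀ j, (shiftFunctor D (1 : ℤ)).map (Sigma.ι Xs j) ≫ β =
        (shiftFunctor D (1 : ℤ)).map (Sigma.ι Xs j) ≫ β') → β = β' := fun {A} β β' h =>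
    hcX.hom_ext (fun ⟨j⟩ => h j)
  -- exactness for maps out of `obj₁⟦1⟧`
  have exact₁ : ∀ (j : J) {A : D} (u : (shiftFunctor D (1 : ℤ)).obj (Xs j) ⟶ A),
      (T j).mor₃ ≫ u = 0 → ∃ v : (shiftFunctor D (1 : ℤ)).obj (Ys j) ⟶ A,
        u = (shiftFunctor D (1 : ℤ)).map (T j).mor₁ ≫ v := fun j {A} u hu => by
    obtain ⟨(v : (shiftFunctor D (1 : ℤ)).obj (Ys j) ⟶ A),
      (hv : u = (-(shiftFunctor D (1 : ℤ)).map (T j).mor₁) ≫ v)⟩ := Triangle.yoneda_exact₂ _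
      (rot_of_distTriang _ (rot_of_distTriang _ (hT j))) u hu
    refine ⟨-v, ?_⟩
    rw [hv, Preadditive.neg_comp, Preadditive.comp_neg]
  suffices IsIso g by
    let ψ : Triangle.mk f₁ g₁ h₁ ⟶ T' :=
      { hom₁ := 𝟙 _
        hom₂ := 𝟙 _
        hom₃ := g
        comm₁ := (Category.comp_id _).trans (Category.id_comp _).symm
        comm₂ := by
          change g₁ ≫ g = 𝟙 _ ≫ f₂
          rw [comm₂, Category.id_comp]
        comm₃ := by
          change h₁ ≫ (shiftFunctor D (1 : ℤ)).map (𝟙 _) = g ≫ f₃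
          rw [CategoryTheory.Functor.map_id, Category.comp_id, comm₃] }
    have i1 : IsIso ψ.hom₁ := (inferInstance : IsIso (𝟙 (∐ Xs)))
    have i2 : IsIso ψ.hom₂ := (inferInstance : IsIso (𝟙 (∐ Ys)))
    have i3 : IsIso ψ.hom₃ := this
    have : IsIso ψ := by
      apply Triangle.isIso_of_isIsos
      all_goals infer_instance
    exact isomorphic_distinguished _ hT' _ (asIso ψ)
  refine isIso_of_coyoneda_map_bijective _ (fun A => ⟨?_, ?_⟩)
  · -- injectivity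
    suffices ∀ a : Z ⟶ A, g ≫ a = 0 → a = 0 by
      intro a₁ a₂ ha
      have := this (a₁ - a₂) (by rw [Preadditive.comp_sub, sub_eq_zero]; exact ha)
      exact sub_eq_zero.1 this
    intro a ha
    have h2 : T'.mor₂ ≫ a = 0 := by
      change f₂ ≫ a = 0
      rw [← comm₂, Category.assoc, ha, Limits.comp_zero]
    obtain ⟨(b : (shiftFunctor D (1 : ℤ)).obj (∐ Xs) ⟶ A), (hb : a = f₃ ≫ b)⟩ :=
      Triangle.yoneda_exact₃ _ hT' a h2
    have hj : ∀ j, (T j).mor₃ ≫ ((shiftFunctor D (1 : ℤ)).map (Sigma.ι Xs j) ≫ b) = 0 := fun j => by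
      rw [← Category.assoc, hc₃, Category.assoc, ← hb, ← hg, Category.assoc, ha, Limits.comp_zero]
    choose v hv using fun j => exact₁ j _ (hj j)
    obtain ⟨β, hβ⟩ := descY v
    have hb' : b = (shiftFunctor D (1 : ℤ)).map f₁ ≫ β := by
      apply extX
      intro j
      rw [hv j, ← hβ j, ← Category.assoc, ← Category.assoc, ← Functor.map_comp, ← Functor.map_comp]
      congr 2
      exact (Limits.Sigma.ι_map (fun j => (T j).mor₁) j).symm
    rw [hb, hb', ← Category.assoc]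
    have : f₃ ≫ (shiftFunctor D (1 : ℤ)).map f₁ = 0 := comp_distTriang_mor_zero₃₁ _ hT'
    rw [this, Limits.zero_comp]
  · -- surjectivity
    intro x
    have h0 : T'.mor₁ ≫ (g₁ ≫ x) = 0 := by
      change f₁ ≫ g₁ ≫ x = 0
      rw [← Category.assoc]
      have : f₁ ≫ g₁ = 0 := by
        apply Limits.Sigma.hom_ext
        intro j
        have e1 : Sigma.ι Xs j ≫ f₁ = (T j).mor₁ ≫ Sigma.ι Ys j :=
          Limits.Sigma.ι_map (fun j => (T j).mor₁) j
        have e2 : Sigma.ι Ys j ≫ g₁ = (T j).mor₂ ≫ Sigma.ι Zs j :=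
          Limits.Sigma.ι_map (fun j => (T j).mor₂) j
        rw [reassoc_of% e1, e2, ← Category.assoc, comp_distTriang_mor_zero₁₂ _ (hT j),
          Limits.zero_comp, Limits.comp_zero]
      rw [this, Limits.zero_comp]
    obtain ⟨(y : Z ⟶ A), (hy : g₁ ≫ x = f₂ ≫ y)⟩ := Triangle.yoneda_exact₂ _ hT' (g₁ ≫ x) h0
    have hj : ∀ j, (T j).mor₂ ≫ (Sigma.ι Zs j ≫ (x - g ≫ y)) = 0 := fun j => by
      have e1 : (T j).mor₂ ≫ Sigma.ι Zs j = Sigma.ι Ys j ≫ g₁ :=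
        (Limits.Sigma.ι_map (fun j => (T j).mor₂) j).symm
      rw [← Category.assoc, e1, Category.assoc, Preadditive.comp_sub, hy, ← Category.assoc g₁,
        comm₂, sub_self, Limits.comp_zero]
    choose b hb using fun j => Triangle.yoneda_exact₃ _ (hT j) _ (hj j)
    obtain ⟨β, hβ⟩ := descX b
    have hx : x - g ≫ y = h₁ ≫ β := by
      apply Limits.Sigma.hom_ext
      intro j
      have e1 : Sigma.ι Zs j ≫ h₁ = (T j).mor₃ ≫ (shiftFunctor D (1 : ℤ)).map (Sigma.ι Xs j) :=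
        Limits.Sigma.ι_desc _ j
      rw [hb j, reassoc_of% e1, hβ]
    refine ⟨y + f₃ ≫ β, ?_⟩
    change g ≫ (y + f₃ ≫ β) = x
    rw [Preadditive.comp_add, ← Category.assoc, ← comm₃, ← hx]
    abel

end Groth.Agent.S6593
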