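import Groth.Statements.S6594
import Mathlib

set_option autoImplicit false
universe v u
open scoped TensorProduct
open CategoryTheory CategoryTheory.Limits
open CohDer

namespace Groth.Agent.S6594

open CategoryTheory.Pretriangulated in
/-- (1) ⇔ (3): let D be a pretriangulated category and f : X ⟶ Y a morphism. Then f has a kernel if and
only if f is isomorphic to a composite K ⊞ Z → Z → Z ⊞ Q of a projection and a coprojection for some
objects K, Z, Q. -/
theorem result {D : Type u} [Category.{v} D] [Preadditive D] [HasZeroObject D] [HasShift D ℤ]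
    [∀ n : ℤ, (shiftFunctor D n).Additive] [Pretriangulated D]
    {X Y : D} (f : X ⟶ Y) :
    HasKernel f ↔ ∃ (K Z Q : D) (e₁ : X ≅ K ⊞ Z) (e₂ : Y ≅ Z ⊞ Q),
      f = e₁.hom ≫ biprod.snd ≫ biprod.inl ≫ e₂.inv := by
  constructor
  · intro hk
    have hex : ∃ (K : D) (k : K ⟶ X), Mono k ∧ k ≫ f = 0 ∧
        ∀ (W : D) (g : W ⟶ X), g ≫ f = 0 → ∃ l : W ⟶ K, l ≫ k = g :=
      ⟨kernel f, kernel.ι f, inferInstance, kernel.condition f,
        fun W g hg => ⟨kernel.lift f g hg, kernel.lift_ι f g hg⟩⟩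
    obtain ⟨K, k, hmono, hkf, hlift⟩ := hex
    clear hk
    obtain ⟨Z, c, h, hT⟩ := distinguished_cocone_triangle k
    have h0 : (Triangle.mk k c h).mor₃ = 0 :=
      Triangle.mor₃_eq_zero_of_mono₁ _ hT hmono
    obtain ⟨(e₁ : X ≅ K ⊞ Z), (he₁ : k ≫ e₁.hom = biprod.inl),
      (he₁' : c = e₁.hom ≫ biprod.snd)⟩ := exists_iso_binaryBiproduct_of_distTriang _ hT h0
    obtain ⟨(f' : Z ⟶ Y), (hf' : f = c ≫ f')⟩ :=
      Triangle.yoneda_exact₂ _ hT f hkf
    have hkc : k ≫ c = 0 := comp_distTriang_mor_zero₁₂ _ hT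
    have hσ : (biprod.inr ≫ e₁.inv) ≫ c = 𝟙 Z := by
      rw [he₁', Category.assoc, Iso.inv_hom_id_assoc, biprod.inr_snd]
    have hf'mono : Mono f' := by
      apply Preadditive.mono_of_cancel_zero
      intro W t ht
      have h1 : (t ≫ biprod.inr ≫ e₁.inv) ≫ f = 0 := by
        rw [hf', Category.assoc, ← Category.assoc (biprod.inr ≫ e₁.inv), hσ, Category.id_comp, ht]
      have h2 : t = (t ≫ biprod.inr ≫ e₁.inv) ≫ c := by
        rw [Category.assoc, hσ, Category.comp_id]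
      obtain ⟨l, hl⟩ := hlift W _ h1
      rw [h2, ← hl, Category.assoc, hkc, Limits.comp_zero]
    obtain ⟨Q, g', h', hT'⟩ := distinguished_cocone_triangle f'
    have h0' : (Triangle.mk f' g' h').mor₃ = 0 :=
      Triangle.mor₃_eq_zero_of_mono₁ _ hT' hf'mono
    obtain ⟨(e₂ : Y ≅ Z ⊞ Q), (he₂ : f' ≫ e₂.hom = biprod.inl), -⟩ :=
      exists_iso_binaryBiproduct_of_distTriang _ hT' h0'
    refine ⟨K, Z, Q, e₁, e₂, ?_⟩
    rw [hf', he₁', ← he₂]
    simp
  · rintro ⟨K, Z, Q, e₁, e₂, hf⟩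
    have hm : Mono (biprod.inl ≫ e₂.inv : Z ⟶ Y) := inferInstance
    have hι : Mono (biprod.inl ≫ e₁.inv : K ⟶ X) := inferInstance
    have w : (biprod.inl ≫ e₁.inv : K ⟶ X) ≫ f = 0 := by
      rw [hf]; simp
    refine HasLimit.mk ⟨KernelFork.ofι (biprod.inl ≫ e₁.inv) w, ?_⟩
    refine KernelFork.IsLimit.ofι _ _ (fun {W} g hg => g ≫ e₁.hom ≫ biprod.fst) ?_ ?_
    · intro W g hg
      have h1 : g ≫ e₁.hom ≫ biprod.snd = 0 := by
        rw [← cancel_mono (biprod.inl ≫ e₂.inv : Z ⟶ Y), Limits.zero_comp]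
        rw [hf] at hg
        simpa only [Category.assoc] using hg
      have h2 : g ≫ e₁.hom = (g ≫ e₁.hom ≫ biprod.fst) ≫ biprod.inl := by
        apply biprod.hom_ext
        · simp
        · simp [h1]
      calc (g ≫ e₁.hom ≫ biprod.fst) ≫ biprod.inl ≫ e₁.inv
          = ((g ≫ e₁.hom ≫ biprod.fst) ≫ biprod.inl) ≫ e₁.inv := by simp
        _ = g := by rw [← h2]; simp
    · intro W g hg b hb
      rw [← hb]
      simp

end Groth.Agent.S6594
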