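import Groth.Statements.S6595
import Mathlib

set_option autoImplicit false
universe v u
open CategoryTheory CategoryTheory.Limits
open CohDer

namespace Groth.Agent.S6595

section aux
variable {D : Type u} [Category.{v} D] [HasShift D ℤ]

lemma iterIso : ∀ (j : ℕ) (Z : D) (s : ℤ), s = j →
    Nonempty ((shiftFunctor D (1:ℤ)).obj^[j] Z ≅ (shiftFunctor D s).obj Z) := by
  intro j
  induction j with
  | zero =>
    intro Z s h
    exact ⟨((shiftFunctorZero' D s (by simpa using h)).app Z).symm⟩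
  | succ j ih =>
    intro Z s h
    obtain ⟨e⟩ := ih ((shiftFunctor D (1:ℤ)).obj Z) (j:ℤ) rfl
    exact ⟨e ≪≫ ((shiftFunctorAdd' D (1:ℤ) (j:ℤ) s (by rw [h]; push_cast; ring)).app Z).symm⟩

lemma transport4 [Preadditive D] (Z W : D) (l : ℕ) (s s' : ℤ) (h : s + l = s')
    (H : ∀ ψ : (shiftFunctor D s').obj Z ⟶ W, ψ = 0)
    (ψ0 : (shiftFunctor D (1:ℤ)).obj^[l] ((shiftFunctor D s).obj Z) ⟶ W) : ψ0 = 0 := by
  obtain ⟨θ1⟩ := iterIso l ((shiftFunctor D s).obj Z) (l:ℤ) rfl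
  let θ := θ1 ≪≫ ((shiftFunctorAdd' D s (l:ℤ) s' h).app Z).symm
  have h0 := H (θ.inv ≫ ψ0)
  calc ψ0 = θ.hom ≫ (θ.inv ≫ ψ0) := by simp
    _ = θ.hom ≫ 0 := by rw [h0]
    _ = 0 := comp_zero

end aux

open CategoryTheory.Pretriangulated in
/-- Let D be a triangulated category, X and X' chain complexes in D considered in degrees ≤ n, where a
Postnikov system for the complex X_n → … → X_0 consists of objects Y_k, an isomorphism Y_0 ⟶ X_0,
and for 0 ≤ k < n distinguished triangles Y_{k+1} ⟶ X_{k+1} ⟶ Y_k ⟶ Y_{k+1}⟦1⟧ with X_{k+1} ⟶ Y_k ⟶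
X_k the differential. Suppose X' carries a Postnikov system (Y', a', b', c'). If Hom(X_i⟦i - j - 1⟧,
X'_j) = 0 for all j + 1 < i ≤ n, then Hom(X_i⟦i - j - 1⟧, Y'_j) = 0 for all j + 1 < i ≤ n. -/
theorem result {D : Type u} [Category.{v} D] [Preadditive D] [HasZeroObject D] [HasShift D ℤ]
    [∀ n : ℤ, (shiftFunctor D n).Additive] [Pretriangulated D] [IsTriangulated D]
    (X X' : ChainComplex D ℕ) (n : ℕ)
    (Y : ℕ → D) (a : ∀ k, Y k ⟶ X'.X k) (b : ∀ k, X'.X (k + 1) ⟶ Y k)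
    (c : ∀ k, Y k ⟶ (shiftFunctor D (1 : ℤ)).obj (Y (k + 1)))
    (h0 : IsIso (a 0))
    (hP : ∀ k, k < n → Triangle.mk (a (k + 1)) (b k) (c k) ∈ distinguishedTriangles ∧ b k ≫ a k = X'.d (k + 1) k)
    (hX : ∀ i j : ℕ, j + 1 < i → i ≤ n → ∀ ψ : (shiftFunctor D ((i : ℤ) - j - 1)).obj (X.X i) ⟶ X'.X j, ψ = 0)
    (i j : ℕ) (hij : j + 1 < i) (hi : i ≤ n) (ψ : (shiftFunctor D ((i : ℤ) - j - 1)).obj (X.X i) ⟶ Y j) :
    ψ = 0 := by
  let f1 : D → D := (shiftFunctor D (1:ℤ)).obj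
  have claimB : ∀ m, m ≤ n → ∀ S : D,
      (∀ i j : ℕ, i + j = m → ∀ ψ : f1^[j] S ⟶ X'.X i, ψ = 0) → ∀ g : S ⟶ Y m, g = 0 := by
    intro m
    induction m with
    | zero =>
      intro _ S hS g
      haveI := h0
      have := hS 0 0 rfl (g ≫ a 0)
      exact (cancel_mono (a 0)).1 (this.trans zero_comp.symm)
    | succ m ih =>
      intro hm S hS g
      have hm' : m < n := hm
      obtain ⟨hTr, -⟩ := hP m hm'
      have h1 : g ≫ a (m+1) = 0 := hS (m+1) 0 (by omega) _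
      obtain ⟨g', hg'⟩ := Pretriangulated.Triangle.coyoneda_exact₁ _ hTr
        ((shiftFunctor D (1:ℤ)).map g) (by
          change (shiftFunctor D (1:ℤ)).map g ≫ (shiftFunctor D (1:ℤ)).map (a (m+1)) = 0
          rw [← Functor.map_comp, h1, Functor.map_zero])
      have hg0 : g' = 0 :=
        ih (le_of_lt hm') (f1 S) (fun i j hij ψ => hS i (j+1) (by omega) ψ) g'
      rw [hg0, zero_comp] at hg'
      exact (shiftFunctor D (1:ℤ)).map_injective (hg'.trans (Functor.map_zero _ _ _).symm)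
  apply claimB j (by omega) _ ?_ ψ
  intro i' l hil ψ0
  have H := hX i i' (by omega) hi
  exact transport4 (X.X i) (X'.X i') l _ _ (by push_cast [← hil]; ring) H ψ0

end Groth.Agent.S6595
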