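import Groth.Statements.S6596
import Mathlib

set_option autoImplicit false
universe v u
open CategoryTheory CategoryTheory.Limits
open CohDer

namespace Groth.Agent.S6596

section aux
variable {D : Type u} [Category.{v} D] [Preadditive D] [HasShift D ℤ]

lemma iterIso : ∀ (j : ℕ) (Z : D) (s : ℤ), s = j →
    Nonempty ((shiftFunctor D (1:ℤ)).obj^[j] Z ≅ (shiftFunctor D s).obj Z) := by
  intro j
  induction j with
  | zero =>
    intro Z s h
    exact ⟨((shiftFunctorZero' D s (by simpa using h)).app Z).symm⟩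
  | succ j ih =>
    intro Z s h
    obtain ⟨e⟩ := ih ((shiftFunctor D (1:ℤ)).obj Z) (j:ℤ) rfl
    exact ⟨e ≪≫ ((shiftFunctorAdd' D (1:ℤ) (j:ℤ) s (by rw [h]; push_cast; ring)).app Z).symm⟩

lemma transport3 (Z W : D) (j : ℕ) (s : ℤ) (h : s = j)
    (H : ∀ ψ : (shiftFunctor D s).obj Z ⟶ W, ψ = 0)
    (ψ0 : (shiftFunctor D (1:ℤ)).obj^[j] Z ⟶ W) : ψ0 = 0 := by
  obtain ⟨θ⟩ := iterIso j Z s h
  have h0 := H (θ.inv ≫ ψ0)
  calc ψ0 = θ.hom ≫ (θ.inv ≫ ψ0) := by simp
    _ = θ.hom ≫ 0 := by rw [h0]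
    _ = 0 := comp_zero

end aux

open CategoryTheory.Pretriangulated in
/-- Let D be a triangulated category and φ : X ⟶ X' a morphism of chain complexes in D considered in
degrees ≤ n, where a Postnikov system for the complex X_n → … → X_0 consists of objects Y_k, an
isomorphism Y_0 ⟶ X_0, and for 0 ≤ k < n distinguished triangles Y_{k+1} ⟶ X_{k+1} ⟶ Y_k ⟶
Y_{k+1}⟦1⟧ with X_{k+1} ⟶ Y_k ⟶ X_k the differential. Suppose X and X' carry Postnikov systems (Y,
a, b, c) and (Y', a', b', c'). If Hom(X_i⟦i - j - 1⟧, X'_j) = 0 for all j + 1 < i ≤ n, then φ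
extends to a morphism of Postnikov systems: morphisms y_k : Y_k ⟶ Y'_k for k ≤ n forming, with the
φ_k, morphisms of the distinguished triangles and compatible with Y_0 ⟶ X_0 and Y'_0 ⟶ X'_0. -/
theorem result {D : Type u} [Category.{v} D] [Preadditive D] [HasZeroObject D] [HasShift D ℤ]
    [∀ n : ℤ, (shiftFunctor D n).Additive] [Pretriangulated D] [IsTriangulated D]
    (X X' : ChainComplex D ℕ) (φ : X ⟶ X') (n : ℕ)
    (Y : ℕ → D) (a : ∀ k, Y k ⟶ X.X k) (b : ∀ k, X.X (k + 1) ⟶ Y k)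
    (c : ∀ k, Y k ⟶ (shiftFunctor D (1 : ℤ)).obj (Y (k + 1)))
    (h0 : IsIso (a 0))
    (hP : ∀ k, k < n → Triangle.mk (a (k + 1)) (b k) (c k) ∈ distinguishedTriangles ∧ b k ≫ a k = X.d (k + 1) k)
    (qY : ℕ → D) (qa : ∀ k, qY k ⟶ X'.X k) (qb : ∀ k, X'.X (k + 1) ⟶ qY k)
    (qc : ∀ k, qY k ⟶ (shiftFunctor D (1 : ℤ)).obj (qY (k + 1)))
    (qh0 : IsIso (qa 0))
    (qhP : ∀ k, k < n → Triangle.mk (qa (k + 1)) (qb k) (qc k) ∈ distinguishedTriangles ∧ qb k ≫ qa k = X'.d (k + 1) k)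
    (hX : ∀ i j : ℕ, j + 1 < i → i ≤ n → ∀ ψ : (shiftFunctor D ((i : ℤ) - j - 1)).obj (X.X i) ⟶ X'.X j, ψ = 0) :
    ∃ y : ∀ k, Y k ⟶ qY k,
      (∀ k, k ≤ n → y k ≫ qa k = a k ≫ φ.f k) ∧
      (∀ k, k < n → b k ≫ y k = φ.f (k + 1) ≫ qb k ∧ c k ≫ (shiftFunctor D (1 : ℤ)).map (y (k + 1)) = y k ≫ qc k) := by
  classical
  let f1 : D → D := (shiftFunctor D (1:ℤ)).obj
  have claimB : ∀ m, m ≤ n → ∀ S : D,
      (∀ i j : ℕ, i + j = m → ∀ ψ : f1^[j] S ⟶ X'.X i, ψ = 0) → ∀ g : S ⟶ qY m, g = 0 := by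
    intro m
    induction m with
    | zero =>
      intro _ S hS g
      haveI := qh0
      have := hS 0 0 rfl (g ≫ qa 0)
      exact (cancel_mono (qa 0)).1 (this.trans zero_comp.symm)
    | succ m ih =>
      intro hm S hS g
      have hm' : m < n := hm
      obtain ⟨hTr, -⟩ := qhP m hm'
      have h1 : g ≫ qa (m+1) = 0 := hS (m+1) 0 (by omega) _
      obtain ⟨g', hg'⟩ := Pretriangulated.Triangle.coyoneda_exact₁ _ hTr
        ((shiftFunctor D (1:ℤ)).map g) (by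
          change (shiftFunctor D (1:ℤ)).map g ≫ (shiftFunctor D (1:ℤ)).map (qa (m+1)) = 0
          rw [← Functor.map_comp, h1, Functor.map_zero])
      have hg0 : g' = 0 :=
        ih (le_of_lt hm') (f1 S) (fun i j hij ψ => hS i (j+1) (by omega) ψ) g'
      rw [hg0, zero_comp] at hg'
      exact (shiftFunctor D (1:ℤ)).map_injective (hg'.trans (Functor.map_zero _ _ _).symm)
  have step : ∀ k (f : Y k ⟶ qY k), (k ≤ n → f ≫ qa k = a k ≫ φ.f k) →
      ∃ f' : Y (k+1) ⟶ qY (k+1), (k + 1 ≤ n → f' ≫ qa (k+1) = a (k+1) ≫ φ.f (k+1)) ∧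
        (k < n → b k ≫ f = φ.f (k+1) ≫ qb k ∧
          c k ≫ (shiftFunctor D (1:ℤ)).map f' = f ≫ qc k) := by
    intro k f hf
    by_cases hk : k < n
    · have hfk := hf (le_of_lt hk)
      obtain ⟨hT, hd⟩ := hP k hk
      obtain ⟨hT', hd'⟩ := qhP k hk
      have he : (b k ≫ f - φ.f (k+1) ≫ qb k) ≫ qa k = 0 := by
        rw [Preadditive.sub_comp, Category.assoc, hfk, ← Category.assoc, hd, Category.assoc, hd',
          φ.comm, sub_self]
      have he0 : b k ≫ f - φ.f (k+1) ≫ qb k = 0 := by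
        cases k with
        | zero =>
          haveI := qh0
          exact (cancel_mono (qa 0)).1 (he.trans zero_comp.symm)
        | succ m =>
          have hm : m < n := by omega
          obtain ⟨hTm, -⟩ := qhP m hm
          obtain ⟨g', hg'⟩ := Pretriangulated.Triangle.coyoneda_exact₁ _ hTm
            ((shiftFunctor D (1:ℤ)).map (b (m+1) ≫ f - φ.f (m+1+1) ≫ qb (m+1))) (by
              have : (shiftFunctor D (1:ℤ)).map (b (m+1) ≫ f - φ.f (m+1+1) ≫ qb (m+1)) ≫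
                  (shiftFunctor D (1:ℤ)).map (qa (m+1)) = 0 := by
                rw [← Functor.map_comp, he, Functor.map_zero]
              exact this)
          have hg0 : g' = 0 := by
            apply claimB m (le_of_lt hm) (f1 (X.X (m+1+1)))
            intro i j hij ψ0
            have H := hX (m+1+1) i (by omega) (by omega)
            exact transport3 (X.X (m+1+1)) (X'.X i) (j+1) _ (by push_cast; omega) H ψ0
          rw [hg0, zero_comp] at hg'
          exact (shiftFunctor D (1:ℤ)).map_injective (hg'.trans (Functor.map_zero _ _ _).symm)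
      have hcomm : b k ≫ f = φ.f (k+1) ≫ qb k := sub_eq_zero.1 he0
      obtain ⟨f', h1, h2⟩ := Pretriangulated.complete_distinguished_triangle_morphism₁ _ _ hT hT'
        (φ.f (k+1)) f hcomm
      exact ⟨f', fun _ => h1.symm, fun _ => ⟨hcomm, h2⟩⟩
    · exact ⟨0, fun h => absurd h (by omega), fun h => absurd h hk⟩
  choose nxt hnxt1 hnxt2 using step
  haveI := qh0
  have hy0 : (0 ≤ n → (a 0 ≫ φ.f 0 ≫ inv (qa 0)) ≫ qa 0 = a 0 ≫ φ.f 0) := by
    intro _
    simp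
  let ys : ∀ k, {f : Y k ⟶ qY k // k ≤ n → f ≫ qa k = a k ≫ φ.f k} := fun k =>
    Nat.rec (motive := fun k => {f : Y k ⟶ qY k // k ≤ n → f ≫ qa k = a k ≫ φ.f k})
      ⟨a 0 ≫ φ.f 0 ≫ inv (qa 0), hy0⟩
      (fun k yk => ⟨nxt k yk.1 yk.2, hnxt1 k yk.1 yk.2⟩) k
  refine ⟨fun k => (ys k).1, fun k hk => (ys k).2 hk, fun k hk => ?_⟩
  exact hnxt2 k (ys k).1 (ys k).2 hk

end Groth.Agent.S6596
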