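import Groth.Statements.S6597
import Mathlib

set_option autoImplicit false
universe v u
open scoped TensorProduct
open CategoryTheory CategoryTheory.Limits
open CohDer

namespace Groth.Agent.S6597

open CategoryTheory.Pretriangulated in
/-- Let D be a triangulated category, φ : X ⟶ X' a morphism of chain complexes in D considered in
degrees ≤ n, where a Postnikov system for the complex X_n → … → X_0 consists of objects Y_k, an
isomorphism Y_0 ⟶ X_0, and for 0 ≤ k < n distinguished triangles Y_{k+1} ⟶ X_{k+1} ⟶ Y_k ⟶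
Y_{k+1}⟦1⟧ with X_{k+1} ⟶ Y_k ⟶ X_k the differential; let (Y, a, b, c) and (Y', a', b', c') be
Postnikov systems for X and X'. If Hom(X_i⟦i⟧, Y'_n⟦n⟧) = 0 for i = 1, …, n, then two morphisms of
Postnikov systems extending φ agree on Y_n. (The published statement says there is at most one
morphism of Postnikov systems; the argument, by induction along Y_0 → Y_1⟦1⟧ → … → Y_n⟦n⟧,
determines the component in degree n, which is what is asserted here.) -/
theorem result {D : Type u} [Category.{v} D] [Preadditive D] [HasZeroObject D] [HasShift D ℤ]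
    [∀ n : ℤ, (shiftFunctor D n).Additive] [Pretriangulated D] [IsTriangulated D]
    (X X' : ChainComplex D ℕ) (φ : X ⟶ X') (n : ℕ)
    (Y : ℕ → D) (a : ∀ k, Y k ⟶ X.X k) (b : ∀ k, X.X (k + 1) ⟶ Y k)
    (c : ∀ k, Y k ⟶ (shiftFunctor D (1 : ℤ)).obj (Y (k + 1)))
    (h0 : IsIso (a 0))
    (hP : ∀ k, k < n → Triangle.mk (a (k + 1)) (b k) (c k) ∈ distinguishedTriangles ∧ b k ≫ a k = X.d (k + 1) k)
    (qY : ℕ → D) (qa : ∀ k, qY k ⟶ X'.X k) (qb : ∀ k, X'.X (k + 1) ⟶ qY k)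
    (qc : ∀ k, qY k ⟶ (shiftFunctor D (1 : ℤ)).obj (qY (k + 1)))
    (qh0 : IsIso (qa 0))
    (qhP : ∀ k, k < n → Triangle.mk (qa (k + 1)) (qb k) (qc k) ∈ distinguishedTriangles ∧ qb k ≫ qa k = X'.d (k + 1) k)
    (hv : ∀ i : ℕ, 1 ≤ i → i ≤ n → ∀ ψ : (shiftFunctor D (i : ℤ)).obj (X.X i) ⟶ (shiftFunctor D (n : ℤ)).obj (qY n), ψ = 0)
    (y z : ∀ k, Y k ⟶ qY k)
    (hy : (∀ k, k ≤ n → y k ≫ qa k = a k ≫ φ.f k) ∧
      (∀ k, k < n → b k ≫ y k = φ.f (k + 1) ≫ qb k ∧ c k ≫ (shiftFunctor D (1 : ℤ)).map (y (k + 1)) = y k ≫ qc k))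
    (hz : (∀ k, k ≤ n → z k ≫ qa k = a k ≫ φ.f k) ∧
      (∀ k, k < n → b k ≫ z k = φ.f (k + 1) ≫ qb k ∧ c k ≫ (shiftFunctor D (1 : ℤ)).map (z (k + 1)) = z k ≫ qc k)) :
    y n = z n := by
  let f1 : D → D := (shiftFunctor D (1:ℤ)).obj
  have shiftIso : ∀ (j : ℕ) (Z : D) (i : ℤ),
      Nonempty ((shiftFunctor D i).obj (f1^[j] Z) ≅ (shiftFunctor D ((j:ℤ) + i)).obj Z) := by
    intro j
    induction j with
    | zero =>
      intro Z i
      exact ⟨eqToIso (by simp)⟩
    | succ j ih =>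
      intro Z i
      obtain ⟨e⟩ := ih (f1 Z) i
      exact ⟨e ≪≫ ((shiftFunctorAdd' D (1:ℤ) ((j:ℤ) + i) (((j+1 : ℕ) : ℤ) + i)
        (by push_cast; ring)).app Z).symm⟩
  have claim : ∀ k, k ≤ n → ∀ W : D,
      (∀ i j : ℕ, i + j = k → 1 ≤ i → ∀ ψ : X.X i ⟶ f1^[j] W, ψ = 0) →
      ∀ g : qY k ⟶ W, (y k - z k) ≫ g = 0 := by
    intro k
    induction k with
    | zero =>
      intro _ W _ g
      have : y 0 - z 0 = 0 := by
        haveI := qh0
        rw [← cancel_mono (qa 0), Preadditive.sub_comp, hy.1 0 (Nat.zero_le _),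
          hz.1 0 (Nat.zero_le _), sub_self, zero_comp]
      rw [this, zero_comp]
    | succ k ih =>
      intro hk W hW g
      have hk' : k < n := hk
      obtain ⟨hT, -⟩ := hP k hk'
      have h1 : c k ≫ (shiftFunctor D (1:ℤ)).map ((y (k+1) - z (k+1)) ≫ g) = 0 := by
        have := ih (le_of_lt hk') (f1 W) (fun i j hij hi ψ => hW i (j+1) (by omega) hi ψ)
          (qc k ≫ (shiftFunctor D (1:ℤ)).map g)
        rw [Functor.map_comp, Functor.map_sub, ← Category.assoc, Preadditive.comp_sub,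
          (hy.2 k hk').2, (hz.2 k hk').2, ← Preadditive.sub_comp, Category.assoc]
        exact this
      obtain ⟨ψ', hψ'⟩ := Pretriangulated.Triangle.yoneda_exact₃ _
        (Pretriangulated.rot_of_distTriang _ hT)
        ((shiftFunctor D (1:ℤ)).map ((y (k+1) - z (k+1)) ≫ g)) h1
      obtain ⟨ψ, rfl⟩ := (shiftFunctor D (1:ℤ)).map_surjective ψ'
      have hψ : ψ = 0 := hW (k+1) 0 (by omega) (by omega) ψ
      rw [hψ, Functor.map_zero, comp_zero] at hψ'
      exact (shiftFunctor D (1:ℤ)).map_injective (hψ'.trans (Functor.map_zero _ _ _).symm)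
  have hfin := claim n le_rfl (qY n) ?_ (𝟙 _)
  · rw [Category.comp_id, sub_eq_zero] at hfin
    exact hfin
  · intro i j hij hi ψ
    obtain ⟨θ⟩ := shiftIso j (qY n) (i:ℤ)
    have e : (j:ℤ) + i = n := by omega
    have E : (shiftFunctor D ((j:ℤ) + i)).obj (qY n) = (shiftFunctor D (n:ℤ)).obj (qY n) := by
      rw [e]
    have h0 := hv i hi (by omega)
      ((shiftFunctor D (i:ℤ)).map ψ ≫ θ.hom ≫ eqToHom E)
    have h2 : (shiftFunctor D (i:ℤ)).map ψ = 0 := by
      have h3 : (shiftFunctor D (i:ℤ)).map ψ ≫ (θ.hom ≫ eqToHom E) = 0 ≫ (θ.hom ≫ eqToHom E) := by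
        rw [zero_comp]; exact h0
      exact (cancel_mono _).1 h3
    exact (shiftFunctor D (i:ℤ)).map_injective (h2.trans (Functor.map_zero _ _ _).symm)

end Groth.Agent.S6597
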