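import Groth.Statements.S6600
import Mathlib

set_option autoImplicit false
universe v u
open CategoryTheory CategoryTheory.Limits
open CohDer

namespace Groth.Agent.S6600
set_option backward.isDefEq.respectTransparency false

open CategoryTheory.Pretriangulated in
/-- Let D be a triangulated category, A ⊂ D a full subcategory invariant under all shifts, and X → Y → Z
→ X⟦1⟧ a distinguished triangle. Then Z lies in the right orthogonal A^⊥ if and only if Hom(A, X) →
Hom(A, Y) is bijective for every object A of A. -/
theorem result {D : Type u} [Category.{v} D] [Preadditive D] [HasZeroObject D] [HasShift D ℤ]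
    [∀ n : ℤ, (shiftFunctor D n).Additive] [Pretriangulated D] [IsTriangulated D]
    (P : ObjectProperty D) [P.IsStableUnderShift ℤ] (T : Triangle D) (hT : T ∈ distinguishedTriangles) :
    P.rightOrthogonal T.obj₃ ↔ ∀ A : D, P A → Function.Bijective (fun u : A ⟶ T.obj₁ => u ≫ T.mor₁) := by
  constructor
  · intro hZ A hA
    constructor
    · intro u₁ u₂ h12
      have h0 : (u₁ - u₂) ≫ T.mor₁ = 0 := by
        rw [Preadditive.sub_comp]; exact sub_eq_zero.mpr h12
      obtain ⟨v, hv⟩ := Triangle.coyoneda_exact₂ T.invRotate (inv_rot_of_distTriang _ hT)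
        (u₁ - u₂) h0
      have hZ' : P.rightOrthogonal ((shiftFunctor D (-1 : ℤ)).obj T.obj₃) :=
        P.rightOrthogonal.le_shift (-1) _ hZ
      have hv0 : v = 0 := hZ' v hA
      rw [hv0, zero_comp] at hv
      exact sub_eq_zero.mp hv
    · intro w
      obtain ⟨u, hu⟩ := Triangle.coyoneda_exact₂ T hT w (hZ (w ≫ T.mor₂) hA)
      exact ⟨u, hu.symm⟩
  · intro hbij A z hA
    have hzh : z ≫ T.mor₃ = 0 := by
      apply (shiftFunctor D (-1 : ℤ)).map_injective
      rw [Functor.map_zero,
        ← cancel_mono ((shiftFunctorCompIsoId D (1 : ℤ) (-1) (by simp)).hom.app T.obj₁), zero_comp]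
      apply (hbij _ (P.le_shift (-1) A hA)).1
      simp only [zero_comp, Category.assoc]
      have nat := (shiftFunctorCompIsoId D (1 : ℤ) (-1) (by simp)).hom.naturality T.mor₁
      simp only [Functor.comp_map, Functor.id_map] at nat
      rw [← nat, ← Category.assoc, ← Functor.map_comp, Category.assoc,
        comp_distTriang_mor_zero₃₁ _ hT, comp_zero, Functor.map_zero, zero_comp]
    obtain ⟨w, hw⟩ := Triangle.coyoneda_exact₃ T hT z hzh
    obtain ⟨u, hu⟩ := (hbij A hA).2 w
    simp only at hu
    rw [hw, ← hu, Category.assoc, comp_distTriang_mor_zero₁₂ _ hT, comp_zero]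

end Groth.Agent.S6600
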