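import Groth.Statements.S6601
import Mathlib

set_option autoImplicit false
universe v u
open CategoryTheory CategoryTheory.Limits
open CohDer

namespace Groth.Agent.S6601
set_option backward.isDefEq.respectTransparency false

open CategoryTheory.Pretriangulated in
/-- Let D be a triangulated category, B ⊂ D a full subcategory invariant under all shifts, and X → Y → Z
→ X⟦1⟧ a distinguished triangle. Then X lies in the left orthogonal ^⊥B if and only if Hom(Z, B) →
Hom(Y, B) is bijective for every object B of B. -/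
theorem result {D : Type u} [Category.{v} D] [Preadditive D] [HasZeroObject D] [HasShift D ℤ]
    [∀ n : ℤ, (shiftFunctor D n).Additive] [Pretriangulated D] [IsTriangulated D]
    (P : ObjectProperty D) [P.IsStableUnderShift ℤ] (T : Triangle D) (hT : T ∈ distinguishedTriangles) :
    P.leftOrthogonal T.obj₁ ↔ ∀ B : D, P B → Function.Bijective (fun u : T.obj₃ ⟶ B => T.mor₂ ≫ u) := by
  constructor
  · intro hX B hB
    constructor
    · intro u₁ u₂ h12
      have h0 : T.mor₂ ≫ (u₁ - u₂) = 0 := by
        rw [Preadditive.comp_sub]; exact sub_eq_zero.mpr h12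
      obtain ⟨v, hv⟩ := Triangle.yoneda_exact₃ T hT (u₁ - u₂) h0
      have hX' : P.leftOrthogonal ((shiftFunctor D (1 : ℤ)).obj T.obj₁) :=
        P.leftOrthogonal.le_shift 1 _ hX
      have hv0 : v = 0 := hX' v hB
      rw [hv0, comp_zero] at hv
      exact sub_eq_zero.mp hv
    · intro w
      obtain ⟨u, hu⟩ := Triangle.yoneda_exact₂ T hT w (hX (T.mor₁ ≫ w) hB)
      exact ⟨u, hu.symm⟩
  · intro hbij B x hB
    have hB1 : P ((shiftFunctor D (1 : ℤ)).obj B) := P.le_shift 1 B hB
    have hhx : T.mor₃ ≫ (shiftFunctor D (1 : ℤ)).map x = 0 := by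
      apply (hbij _ hB1).1
      simp only [comp_zero]
      rw [← Category.assoc, comp_distTriang_mor_zero₂₃ _ hT, zero_comp]
    obtain ⟨w', hw'⟩ := Triangle.yoneda_exact₃ T.rotate (rot_of_distTriang _ hT)
      ((shiftFunctor D (1 : ℤ)).map x) hhx
    obtain ⟨w, rfl⟩ := (shiftFunctor D (1 : ℤ)).map_surjective w'
    change (shiftFunctor D (1 : ℤ)).map x =
      (-(shiftFunctor D (1 : ℤ)).map T.mor₁) ≫ (shiftFunctor D (1 : ℤ)).map w at hw'
    rw [Preadditive.neg_comp, ← Functor.map_comp, ← Functor.map_neg] at hw'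
    have hx := (shiftFunctor D (1 : ℤ)).map_injective hw'
    obtain ⟨u, hu⟩ := (hbij B hB).2 w
    simp only at hu
    rw [hx, ← hu, ← Category.assoc, comp_distTriang_mor_zero₁₂ _ hT, zero_comp, neg_zero]

end Groth.Agent.S6601
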