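import Groth.Statements.S6602
import Mathlib
import Groth.Agent.S6601

set_option autoImplicit false
universe v u
open CategoryTheory CategoryTheory.Limits
open CohDer

namespace Groth.Agent.S6602
set_option backward.isDefEq.respectTransparency false

open CategoryTheory.Pretriangulated in
/-- (1) ⇔ (2): let D be a triangulated category and B a full triangulated subcategory. The inclusion
functor B → D has a left adjoint if and only if for every X in D there is a distinguished triangle A
→ X → B → A⟦1⟧ with B in B and A in the left orthogonal ^⊥B. (The published statement further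
asserts that B is then saturated and, when strictly full, equals the right orthogonal of its left
orthogonal; this row asserts only the equivalence.) -/
theorem result {D : Type u} [Category.{v} D] [Preadditive D] [HasZeroObject D] [HasShift D ℤ]
    [∀ n : ℤ, (shiftFunctor D n).Additive] [Pretriangulated D] [IsTriangulated D]
    (P : ObjectProperty D) [P.IsTriangulated] :
    P.ι.IsRightAdjoint ↔ ∀ X : D, ∃ (A B : D) (f : A ⟶ X) (g : X ⟶ B) (h : B ⟶ (shiftFunctor D (1 : ℤ)).obj A),
      Triangle.mk f g h ∈ distinguishedTriangles ∧ P B ∧ P.leftOrthogonal A := by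
  constructor
  · intro hR X
    let L := P.ι.leftAdjoint
    let adj : L ⊣ P.ι := Adjunction.ofIsRightAdjoint P.ι
    let η := adj.unit.app X
    obtain ⟨A, f, h, hT⟩ := distinguished_cocone_triangle₁ η
    refine ⟨A, P.ι.obj (L.obj X), f, η, h, hT, (L.obj X).property, ?_⟩
    have key : ∀ (B'' : P.FullSubcategory), Function.Bijective
        (fun u : P.ι.obj (L.obj X) ⟶ P.ι.obj B'' => adj.unit.app X ≫ u) := by
      intro B''
      have h2 : Function.Bijective (P.fullyFaithfulι.homEquiv (X := L.obj X) (Y := B'')) :=
        Equiv.bijective _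
      have h3 : Function.Bijective (adj.homEquiv X B'') := Equiv.bijective _
      have h4 : (fun u : P.ι.obj (L.obj X) ⟶ P.ι.obj B'' => adj.unit.app X ≫ u) ∘
          (P.fullyFaithfulι.homEquiv (X := L.obj X) (Y := B'')) = adj.homEquiv X B'' := by
        funext v
        rw [adj.homEquiv_unit]
        rfl
      exact (Function.Bijective.of_comp_iff _ h2).mp (h4 ▸ h3)
    refine (Groth.Agent.S6601.result P _ hT).mpr ?_
    exact fun B' hB' => key ⟨B', hB'⟩
  · intro hdec
    choose A B f g h hT hB hA using hdec
    have hbij : ∀ (X : D) (Y : P.FullSubcategory),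
        Function.Bijective (fun v : (⟨B X, hB X⟩ : P.FullSubcategory) ⟶ Y => g X ≫ P.ι.map v) := by
      intro X Y
      have h1 := ((Groth.Agent.S6601.result P _ (hT X)).mp (hA X)) Y.obj Y.property
      have h2 : Function.Bijective
          (P.fullyFaithfulι.homEquiv (X := (⟨B X, hB X⟩ : P.FullSubcategory)) (Y := Y)) :=
        Equiv.bijective _
      exact h1.comp h2
    let e : ∀ (X : D) (Y : P.FullSubcategory),
        ((⟨B X, hB X⟩ : P.FullSubcategory) ⟶ Y) ≃ (X ⟶ P.ι.obj Y) :=
      fun X Y => Equiv.ofBijective _ (hbij X Y)
    have he : ∀ (X : D) (Y Y' : P.FullSubcategory) (k : Y ⟶ Y')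
        (l : (⟨B X, hB X⟩ : P.FullSubcategory) ⟶ Y), e X Y' (l ≫ k) = e X Y l ≫ P.ι.map k := by
      intro X Y Y' k l
      simp only [e, Equiv.ofBijective_apply, Functor.map_comp, Category.assoc]
    exact (Adjunction.adjunctionOfEquivLeft e he).isRightAdjoint

end Groth.Agent.S6602
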