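import Groth.Statements.S6608
import Mathlib

set_option autoImplicit false
universe v u
open CategoryTheory CategoryTheory.Limits
open CohDer

namespace Groth.Agent.S6608
set_option backward.isDefEq.respectTransparency false

open CategoryTheory.Pretriangulated in
/-- Let D be a pretriangulated category and S a set of arrows of D containing the identities and
satisfying MS6 (compatibility with the triangulated structure; here together with stability under
shifts, MS5). Then every isomorphism of D lies in S. -/
theorem result {D : Type u} [Category.{v} D] [Preadditive D] [HasZeroObject D] [HasShift D ℤ]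
    [∀ n : ℤ, (shiftFunctor D n).Additive] [Pretriangulated D]
    (S : MorphismProperty D) [S.ContainsIdentities] [S.IsCompatibleWithTriangulation]
    {X Y : D} (f : X ⟶ Y) [IsIso f] : S f := by
  letI : Zero D := HasZeroObject.zero' D
  have h1 := contractible_distinguished₁ X
  have h2 : Triangle.mk (0 : (0 : D) ⟶ X) f (0 : Y ⟶ (shiftFunctor D (1 : ℤ)).obj 0) ∈
      distinguishedTriangles := by
    refine isomorphic_distinguished _ h1 _ ?_
    exact Triangle.isoMk _ _ (Iso.refl _) (Iso.refl _) (asIso f).symm
      (by change (0 : (0 : D) ⟶ X) ≫ 𝟙 X = 𝟙 (0 : D) ≫ 0; simp)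
      (by change f ≫ inv f = 𝟙 X ≫ 𝟙 X; simp)
      (by change (0 : Y ⟶ _) ≫ _ = inv f ≫ 0; simp)
  obtain ⟨c, hc, hc2, -⟩ := MorphismProperty.compatible_with_triangulation (W := S) _ _ h1 h2
    (𝟙 _) (𝟙 X) (S.id_mem _) (S.id_mem _)
    (by change (0 : (0 : D) ⟶ X) ≫ 𝟙 X = 𝟙 (0 : D) ≫ 0; simp)
  change 𝟙 X ≫ (c : X ⟶ Y) = 𝟙 X ≫ f at hc2
  rw [Category.id_comp, Category.id_comp] at hc2
  exact hc2 ▸ hc

end Groth.Agent.S6608
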