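import Groth.Statements.S6603
import Mathlib
import Groth.Agent.S6788
import Groth.Agent.S6608

set_option autoImplicit false
universe v u v' u'
open CategoryTheory CategoryTheory.Limits
open CohDer

namespace Groth.Agent.S6603
set_option backward.isDefEq.respectTransparency false

open CategoryTheory.Pretriangulated in
/-- (1) ⇔ (2) ⇔ (3) ⇔ (4): let D be a pretriangulated category, S a multiplicative system compatible
with the triangulated structure, and Q : D → S⁻¹D the localization functor. For an object Z of D the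
following are equivalent: (1) Q(Z) = 0; (2) 0 : Z ⟶ Z' is in S for some Z'; (3) 0 : Z' ⟶ Z is in S
for some Z'; (4) there are an object Z' and a distinguished triangle (X, Y, Z ⊞ Z', f, g, h) with f
∈ S. (The further equivalences (5)–(7) for saturated S are not asserted.) -/
theorem result {D : Type u} [Category.{v} D] [Preadditive D] [HasZeroObject D] [HasShift D ℤ]
    [∀ n : ℤ, (shiftFunctor D n).Additive] [Pretriangulated D]
    (S : MorphismProperty D) [S.HasLeftCalculusOfFractions] [S.HasRightCalculusOfFractions]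
    [S.IsCompatibleWithTriangulation]
    {E : Type u'} [Category.{v'} E] (Q : D ⥤ E) [Q.IsLocalization S] (Z : D) :
    (IsZero (Q.obj Z) ↔ ∃ Z' : D, S (0 : Z ⟶ Z')) ∧
    (IsZero (Q.obj Z) ↔ ∃ Z' : D, S (0 : Z' ⟶ Z)) ∧
    (IsZero (Q.obj Z) ↔ ∃ (Z' X Y : D) (f : X ⟶ Y) (g : Y ⟶ Z ⊞ Z') (h : Z ⊞ Z' ⟶ (shiftFunctor D (1 : ℤ)).obj X),
      Triangle.mk f g h ∈ distinguishedTriangles ∧ S f) := by
  have h12 := Groth.Agent.S6788.result Q S Z
  refine ⟨h12.1, h12.2, ?_⟩
  letI := Localization.preadditive Q S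
  haveI := Localization.functor_additive Q S
  constructor
  · intro hZ
    obtain ⟨Z₀, hZ₀⟩ := h12.2.mp hZ
    let Z' : D := (shiftFunctor D (1 : ℤ)).obj Z₀
    let e : (shiftFunctor D (-1 : ℤ)).obj Z' ≅ Z₀ :=
      (shiftFunctorCompIsoId D (1 : ℤ) (-1) (by simp)).app Z₀
    have hS0 : S (0 : (shiftFunctor D (-1 : ℤ)).obj Z' ⟶ Z) := by
      have h1 : S e.hom := Groth.Agent.S6608.result S e.hom
      have h2 := S.comp_mem _ _ h1 hZ₀
      rwa [comp_zero] at h2
    let T := (binaryBiproductTriangle Z Z').invRotate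
    have hT : T ∈ distinguishedTriangles :=
      inv_rot_of_distTriang _ (binaryBiproductTriangle_distinguished Z Z')
    have hmor : T.mor₁ = 0 := by
      simp [T, Triangle.invRotate]
    refine ⟨Z', _, _, T.mor₁, T.mor₂, T.mor₃, hT, ?_⟩
    rw [hmor]
    exact hS0
  · rintro ⟨Z', X, Y, f, g, h, hT, hf⟩
    obtain ⟨c, hc, -, -⟩ := MorphismProperty.compatible_with_triangulation (W := S) _ _ hT
      (contractible_distinguished Y) f (𝟙 Y) hf (S.id_mem _)
      (by change f ≫ 𝟙 Y = f ≫ 𝟙 Y; rfl)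
    have hc0 : c = 0 := (isZero_zero D).eq_of_tgt _ _
    rw [hc0] at hc
    have hzz : IsZero (Q.obj (Z ⊞ Z')) := (Groth.Agent.S6788.result Q S (Z ⊞ Z')).1.mpr ⟨_, hc⟩
    rw [IsZero.iff_id_eq_zero, ← Q.map_id, ← biprod.inl_fst (X := Z) (Y := Z'), Q.map_comp,
      hzz.eq_of_tgt (Q.map biprod.inl) 0, zero_comp]

end Groth.Agent.S6603
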