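import Groth.Statements.S6604
import Mathlib
import Groth.Agent.S6788

set_option autoImplicit false
universe v u v' u'
open CategoryTheory CategoryTheory.Limits
open CohDer

namespace Groth.Agent.S6604
set_option backward.isDefEq.respectTransparency false
open CategoryTheory.Pretriangulated in

/-- Let D be a triangulated category, B a full triangulated subcategory and Q : D → D/B the quotient
functor. Q sends an object Z of D to zero (Q(Z) = 0, i.e. Z belongs to the kernel of Q) exactly
when, for a suitable object Z' of D, the direct sum Z ⊞ Z' is isomorphic to some object lying in B;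
put differently, the kernel is the smallest saturated, strictly full triangulated subcategory that
contains B. -/
theorem result {D : Type u} [Category.{v} D] [Preadditive D] [HasZeroObject D] [HasShift D ℤ]
    [∀ n : ℤ, (shiftFunctor D n).Additive] [Pretriangulated D] [IsTriangulated D]
    (B : ObjectProperty D) [B.IsTriangulated]
    {E : Type u'} [Category.{v'} E] (Q : D ⥤ E) [Q.IsLocalization B.trW] (Z : D) :
    IsZero (Q.obj Z) ↔ ∃ (Z' Y : D), B Y ∧ Nonempty (Z ⊞ Z' ≅ Y) := by
  have h12 := Groth.Agent.S6788.result Q B.trW Z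
  letI := Localization.preadditive Q B.trW
  haveI := Localization.functor_additive Q B.trW
  constructor
  · intro hZ
    obtain ⟨Z₀, C, g, h, hT₁, hC⟩ := h12.2.mp hZ
    let W : D := (shiftFunctor D (1 : ℤ)).obj Z₀
    let T₂ := (binaryBiproductTriangle Z W).invRotate
    have hT₂ : T₂ ∈ distinguishedTriangles :=
      inv_rot_of_distTriang _ (binaryBiproductTriangle_distinguished Z W)
    have hmor : T₂.mor₁ = 0 := by
      simp [T₂, Triangle.invRotate]
    let e₁ : Z₀ ≅ (shiftFunctor D (-1 : ℤ)).obj W :=
      ((shiftFunctorCompIsoId D (1 : ℤ) (-1) (by simp)).app Z₀).symm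
    let iso := isoTriangleOfIso₁₂ (Triangle.mk (0 : Z₀ ⟶ Z) g h) T₂ hT₁ hT₂ e₁ (Iso.refl Z)
      (by rw [hmor]; simp)
    exact ⟨W, C, hC, ⟨(Triangle.π₃.mapIso iso).symm⟩⟩
  · rintro ⟨Z', Y, hY, ⟨e⟩⟩
    letI : Zero D := HasZeroObject.zero' D
    have htr : B.trW (0 : Y ⟶ (0 : D)) := by
      have := ObjectProperty.trW.mk B (rot_of_distTriang _ (contractible_distinguished Y))
        (B.le_shift 1 _ hY)
      exact this
    have hzY : IsZero (Q.obj Y) := (Groth.Agent.S6788.result Q B.trW Y).1.mpr ⟨_, htr⟩
    have hzz : IsZero (Q.obj (Z ⊞ Z')) := hzY.of_iso (Q.mapIso e)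
    rw [IsZero.iff_id_eq_zero, ← Q.map_id, ← biprod.inl_fst (X := Z) (Y := Z'), Q.map_comp,
      hzz.eq_of_tgt (Q.map biprod.inl) 0, zero_comp]

end Groth.Agent.S6604
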