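import Groth.Statements.S6607
import Mathlib

set_option autoImplicit false
universe v u
open scoped TensorProduct
open CategoryTheory CategoryTheory.Limits
open CohDer

namespace Groth.Agent.S6607

open CategoryTheory.Pretriangulated in
/-- Let D be a triangulated category and B a full triangulated subcategory. Let P(X) be the property:
there is a distinguished triangle A → X → B → A⟦1⟧ with B in B and A in ^⊥B. Then P satisfies
two-out-of-three in distinguished triangles, i.e. it is stable under all shifts and closed under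
extensions (a triangulated object property). -/
theorem result {D : Type u} [Category.{v} D] [Preadditive D] [HasZeroObject D] [HasShift D ℤ]
    [∀ n : ℤ, (shiftFunctor D n).Additive] [Pretriangulated D] [IsTriangulated D]
    (B : ObjectProperty D) [B.IsTriangulated] :
    ObjectProperty.IsTriangulated (fun X : D => ∃ (A Y : D) (f : A ⟶ X) (g : X ⟶ Y) (h : Y ⟶ (shiftFunctor D (1 : ℤ)).obj A),
      Triangle.mk f g h ∈ distinguishedTriangles ∧ B Y ∧ B.leftOrthogonal A) := by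
  refine @ObjectProperty.IsTriangulated.mk _ _ _ _ _ _ _ _ ⟨?_⟩ ⟨fun n => ⟨?_⟩⟩ ⟨?_⟩
  · -- contains zero
    obtain ⟨Z₀, hZ₀, hBZ₀⟩ := B.exists_prop_of_containsZero
    refine ⟨Z₀, hZ₀, Z₀, Z₀, 𝟙 Z₀, 0, 0, ?_, hBZ₀, ?_⟩
    · refine Pretriangulated.isomorphic_distinguished _ (Pretriangulated.contractible_distinguished Z₀) _
        (Pretriangulated.Triangle.isoMk _ _ (Iso.refl _) (Iso.refl _) hZ₀.isoZero ?_ ?_ ?_)
      · exact hZ₀.eq_of_src _ _
      · exact hZ₀.eq_of_src _ _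
      · exact hZ₀.eq_of_src _ _
    · intro Y f _
      exact hZ₀.eq_of_src _ _
  · -- shift
    rintro X ⟨A, Y, f, g, h, hT, hY, hA⟩
    exact ⟨_, _, _, _, _, Pretriangulated.Triangle.shift_distinguished _ hT n,
      B.le_shift n _ hY, B.leftOrthogonal.le_shift n _ hA⟩
  · -- ext₂
    rintro T hT ⟨A₁, Y₁, f₁, g₁, h₁, hT₁, hY₁, hA₁⟩ ⟨A₃, Y₃, f₃, g₃, h₃, hT₃, hY₃, hA₃⟩
    have hf₁ : B.trW f₁ := ⟨Y₁, g₁, h₁, hT₁, hY₁⟩
    have hf₃ : B.trW f₃ := ⟨Y₃, g₃, h₃, hT₃, hY₃⟩
    have hf₁' : B.trW ((shiftFunctor D (1:ℤ)).map f₁) := hf₁.shift 1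
    have hA₃' : B.trW.isColocal A₃ := by
      rw [B.isColocal_trW]
      exact hA₃
    obtain ⟨α, hα⟩ := (hA₃' _ hf₁').2 (f₃ ≫ T.mor₃)
    change α ≫ (shiftFunctor D (1:ℤ)).map f₁ = f₃ ≫ T.mor₃ at hα
    obtain ⟨A₂, hA₂, i, p, hTA⟩ := B.leftOrthogonal.distinguished_cocone_triangle₂ α hA₁ hA₃
    obtain ⟨c, hc, -, -⟩ := MorphismProperty.compatible_with_triangulation (W := B.trW)
      (Pretriangulated.Triangle.mk i p α).rotate.rotate T.rotate.rotate
      (Pretriangulated.rot_of_distTriang _ (Pretriangulated.rot_of_distTriang _ hTA))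
      (Pretriangulated.rot_of_distTriang _ (Pretriangulated.rot_of_distTriang _ hT))
      f₃ ((shiftFunctor D (1:ℤ)).map f₁) hf₃ hf₁' hα
    obtain ⟨s₂, rfl⟩ := (shiftFunctor D (1:ℤ)).map_surjective c
    have hs₂ : B.trW s₂ := ObjectProperty.trW.unshift B hc
    obtain ⟨Y₂, g₂, h₂, hT₂, hY₂⟩ := hs₂
    exact ObjectProperty.le_isoClosure _ _ ⟨A₂, Y₂, s₂, g₂, h₂, hT₂, hY₂, hA₂⟩

end Groth.Agent.S6607
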