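import Groth.Statements.S6611
import Mathlib

set_option autoImplicit false
universe v u
open CategoryTheory CategoryTheory.Limits
open CohDer

namespace Groth.Agent.S6611

open DerivedCategory in
attribute [local instance] HasDerivedCategory.standard in
/-- homotopy version -/
theorem exists_homotopy {A : Type u} [Category.{v} A] [Abelian A]
    (K L I : CochainComplex A ℤ) (α : K ⟶ L) [QuasiIso α] [I.IsKInjective] (γ : K ⟶ I) :
    ∃ β₀ : L ⟶ I, Nonempty (Homotopy (α ≫ β₀) γ) := by
  haveI : IsIso (Q.map α) := by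
    rw [isIso_Q_map_iff_quasiIso]
    infer_instance
  obtain ⟨g, hg⟩ := (CochainComplex.IsKInjective.Qh_map_bijective
    ((HomotopyCategory.quotient A (ComplexShape.up ℤ)).obj L) I).surjective
     ((quotientCompQhIso A).hom.app L ≫ inv (Q.map α) ≫ Q.map γ ≫ (quotientCompQhIso A).inv.app I)
  obtain ⟨β₀, rfl⟩ := (HomotopyCategory.quotient A (ComplexShape.up ℤ)).map_surjective g
  refine ⟨β₀, ⟨HomotopyCategory.homotopyOfEq _ _ ?_⟩⟩
  apply (CochainComplex.IsKInjective.Qh_map_bijective
    ((HomotopyCategory.quotient A (ComplexShape.up ℤ)).obj K) I).injective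
  rw [Functor.map_comp, Functor.map_comp, hg]
  rw [quotientCompQhIso_hom_naturality_assoc, IsIso.hom_inv_id_assoc,
    quotientCompQhIso_inv_naturality, Iso.hom_inv_id_app_assoc]

/-- Let A be an abelian category, α : K ⟶ L a quasi-isomorphism of cochain complexes which is injective
in every degree, I a bounded below complex of injective objects and γ : K ⟶ I a morphism. Then there
is a morphism β : L ⟶ I with α ≫ β = γ. -/
theorem result {A : Type u} [Category.{v} A] [Abelian A]
    (K L I : CochainComplex A ℤ) (α : K ⟶ L) [QuasiIso α] (hα : ∀ n : ℤ, Mono (α.f n))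
    (a : ℤ) [I.IsStrictlyGE a] (hI : ∀ n : ℤ, Injective (I.X n)) (γ : K ⟶ I) :
    ∃ β : L ⟶ I, α ≫ β = γ := by
  haveI := hI
  haveI : I.IsKInjective := CochainComplex.isKInjective_of_injective I a
  obtain ⟨β₀, ⟨h⟩⟩ := exists_homotopy K L I α γ
  let h' : ∀ i j, (ComplexShape.up ℤ).Rel j i → (L.X i ⟶ I.X j) := fun i j _ =>
    haveI := hα i
    Injective.factorThru (h.hom i j) (α.f i)
  refine ⟨β₀ - Homotopy.nullHomotopicMap' h', ?_⟩
  rw [Preadditive.comp_sub, Homotopy.comp_nullHomotopicMap']
  have h1 : (Homotopy.nullHomotopicMap' fun i j hij => α.f i ≫ h' i j hij) =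
      Homotopy.nullHomotopicMap h.hom := by
    unfold Homotopy.nullHomotopicMap'
    congr 1
    funext i j
    split_ifs with hij
    · haveI := hα i
      exact Injective.comp_factorThru (h.hom i j) (α.f i)
    · exact (h.zero i j hij).symm
  rw [h1]
  ext n
  have := h.comm n
  change (α ≫ β₀).f n - (dNext n h.hom + prevD n h.hom) = γ.f n
  rw [this]
  abel

end Groth.Agent.S6611
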