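import Groth.Statements.S6612
import Mathlib

set_option autoImplicit false
universe v u
open scoped TensorProduct
open CategoryTheory CategoryTheory.Limits
open CohDer

namespace Groth.Agent.S6612

/-- Let A be an additive category and 0 → A₂ → B₂ → C₂ → 0 a termwise split exact sequence of complexes.
Given a chain map b from a complex B₁ into B₂ and a chain map b' from B₂ into a complex B₃, suppose
that both composites b ≫ (B₂ → C₂) and (A₂ → B₂) ≫ b' are null-homotopic. Then b ≫ b' is homotopic
to zero. (The published statement has three termwise split sequences Aᵢ → Bᵢ → Cᵢ and asks both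
squares of each diagram to commute up to homotopy; this row keeps only the middle sequence and the
two conditions at B₂ that the argument uses, so it is more general.) -/
theorem result {V : Type u} [Category.{v} V] [Preadditive V] [HasBinaryBiproducts V]
    (S : ShortComplex (CochainComplex V ℤ))
    (σ : ∀ n : ℤ, (S.map (HomologicalComplex.eval V (ComplexShape.up ℤ) n)).Splitting)
    {B₁ B₃ : CochainComplex V ℤ} (b : B₁ ⟶ S.X₂) (b' : S.X₂ ⟶ B₃)
    (hb : Nonempty (Homotopy (b ≫ S.g) 0)) (hb' : Nonempty (Homotopy (S.f ≫ b') 0)) :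
    Nonempty (Homotopy (b ≫ b') 0) := by
  obtain ⟨h⟩ := hb
  obtain ⟨h'⟩ := hb'
  let s : ∀ j : ℤ, S.X₃.X j ⟶ S.X₂.X j := fun j => (σ j).s
  let r : ∀ j : ℤ, S.X₂.X j ⟶ S.X₁.X j := fun j => (σ j).r
  have hsg : ∀ j, s j ≫ S.g.f j = 𝟙 _ := fun j => (σ j).s_g
  have hrf : ∀ j, r j ≫ S.f.f j = 𝟙 _ - S.g.f j ≫ s j := fun j => (σ j).r_f
  have hfr : ∀ j, S.f.f j ≫ r j = 𝟙 _ := fun j => (σ j).f_r
  let k : ∀ i j, B₁.X i ⟶ S.X₂.X j := fun i j => h.hom i j ≫ s j
  have hk0 : ∀ i j, ¬ (ComplexShape.up ℤ).Rel j i → k i j = 0 := fun i j hij => by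
    simp only [k, h.zero i j hij, Limits.zero_comp]
  let bt : B₁ ⟶ S.X₂ := b - Homotopy.nullHomotopicMap k
  have hbt : Homotopy b bt := by
    refine Homotopy.equivSubZero.symm ?_
    have : b - bt = Homotopy.nullHomotopicMap k := by simp [bt]
    rw [this]
    exact Homotopy.nullHomotopy k hk0
  have hbtg : bt ≫ S.g = 0 := by
    simp only [bt, Preadditive.sub_comp, Homotopy.nullHomotopicMap_comp]
    have hkg : (fun i j => k i j ≫ S.g.f j) = h.hom := by
      funext i j
      simp only [k, Category.assoc, hsg, Category.comp_id]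
    rw [hkg]
    ext n
    have := h.comm n
    simp only [HomologicalComplex.zero_f_apply, add_zero] at this
    simp only [HomologicalComplex.sub_f_apply, this, Homotopy.nullHomotopicMap, sub_self,
      HomologicalComplex.zero_f_apply]
  have hbtg' : ∀ n, bt.f n ≫ S.g.f n = 0 := fun n => by
    have := congrArg (fun φ => φ.f n) hbtg
    exact this
  have hr : ∀ n, bt.f n ≫ r n ≫ S.f.f n = bt.f n := fun n => by
    rw [hrf, Preadditive.comp_sub, Category.comp_id, ← Category.assoc, hbtg', Limits.zero_comp,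
      sub_zero]
  let a : B₁ ⟶ S.X₁ :=
    { f := fun n => bt.f n ≫ r n
      comm' := fun i j _ => by
        have h1 : (bt.f i ≫ r i) ≫ S.X₁.d i j ≫ S.f.f j = bt.f i ≫ S.X₂.d i j := by
          rw [← S.f.comm i j, ← Category.assoc, Category.assoc (bt.f i), hr]
        have h2 : (B₁.d i j ≫ bt.f j ≫ r j) ≫ S.f.f j = B₁.d i j ≫ bt.f j := by
          rw [Category.assoc, Category.assoc, hr]
        have h3 : ((bt.f i ≫ r i) ≫ S.X₁.d i j) ≫ S.f.f j =
            (B₁.d i j ≫ bt.f j ≫ r j) ≫ S.f.f j := by
          rw [Category.assoc, h1, h2, bt.comm i j]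
        have h4 := congrArg (fun φ => φ ≫ r j) h3
        simpa only [Category.assoc, hfr, Category.comp_id] using h4 }
  have haf : a ≫ S.f = bt := by
    ext n
    change (bt.f n ≫ r n) ≫ S.f.f n = bt.f n
    rw [Category.assoc, hr]
  refine ⟨(hbt.compRight b').trans ((Homotopy.ofEq ?_).trans
    ((h'.compLeft a).trans (Homotopy.ofEq Limits.comp_zero)))⟩
  rw [← haf, Category.assoc]

end Groth.Agent.S6612
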