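import Groth.Statements.S6614
import Mathlib

set_option autoImplicit false
universe v u
open CategoryTheory CategoryTheory.Limits Opposite
open CohDer

namespace Groth.Agent.S6614

lemma split_aux {D : Type u} [Category.{v} D] [Preadditive D] [HasZeroObject D] [HasShift D ℤ]
    [∀ n : ℤ, (shiftFunctor D n).Additive] [Pretriangulated D]
    {A Y : D} (c' : A ⟶ Y) (r : Y ⟶ A) (hcr : c' ≫ r = 𝟙 A) :
    ∃ (Z : D) (q : Y ⟶ Z) (inr : Z ⟶ Y), c' ≫ q = 0 ∧ inr ≫ q = 𝟙 Z ∧ inr ≫ r = 0 ∧
      r ≫ c' + q ≫ inr = 𝟙 Y := by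
  obtain ⟨Z, q, δ, hT⟩ := Pretriangulated.distinguished_cocone_triangle c'
  haveI : Mono (c' ≫ r) := by rw [hcr]; infer_instance
  haveI : Mono c' := mono_of_mono_fac (rfl : c' ≫ r = c' ≫ r)
  have hδ : δ = 0 := Pretriangulated.Triangle.mor₃_eq_zero_of_mono₁ _ hT ‹Mono c'›
  have hcq : c' ≫ q = 0 := Pretriangulated.comp_distTriang_mor_zero₁₂ _ hT
  obtain ⟨inr, hinr⟩ := Pretriangulated.Triangle.yoneda_exact₂ _ hT (𝟙 _ - r ≫ c') (by
    change c' ≫ (𝟙 _ - r ≫ c') = 0
    rw [Preadditive.comp_sub, Category.comp_id, ← Category.assoc, hcr, Category.id_comp, sub_self])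
  change 𝟙 _ - r ≫ c' = q ≫ inr at hinr
  haveI : Epi q := Pretriangulated.Triangle.epi₂ _ hT hδ
  refine ⟨Z, q, inr, hcq, ?_, ?_, ?_⟩
  · rw [← cancel_epi q, ← Category.assoc, ← hinr, Preadditive.sub_comp, Category.id_comp,
      Category.assoc, hcq, comp_zero, sub_zero, Category.comp_id]
  · rw [← cancel_epi q, ← Category.assoc, ← hinr, Preadditive.sub_comp, Category.id_comp,
      Category.assoc, hcr, Category.comp_id, sub_self, comp_zero]
  · rw [← hinr]
    abel

/-- Let D be a triangulated category and (A_n) an ℕ-indexed inverse system of D which is essentially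
constant with value A relative to the cone c. Then there are an index i and direct sum
decompositions A_{i+j} ≅ A ⊞ Z_j (j ≥ 0) such that (a) c_{i+j} is the inclusion of the summand A and
the transition maps A_{i+k} → A_{i+j} are 𝟙_A ⊕ (Z_k → Z_j), and (b) for every j there is k ≥ j with
Z_k → Z_j zero. (The published statement is an equivalence whose converse is given without proof;
this row states only the forward implication.) -/
theorem result {D : Type u} [Category.{v} D] [Preadditive D] [HasZeroObject D] [HasShift D ℤ]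
    [∀ n : ℤ, (shiftFunctor D n).Additive] [Pretriangulated D] [IsTriangulated D]
    (X : ARSys.PS D) (A : D) (c : (Functor.const ℕᵒᵖ).obj A ⟶ X) (hX : DerCA.IsEssConstant X A c) :
    ∃ (i : ℕ) (Z : ℕ → D) (e : ∀ j : ℕ, X.obj (op (i + j)) ≅ A ⊞ Z j) (z : ∀ j k : ℕ, j ≤ k → (Z k ⟶ Z j)),
      (∀ j : ℕ, c.app (op (i + j)) ≫ (e j).hom = biprod.inl) ∧
      (∀ (j k : ℕ) (hjk : j ≤ k), (e k).inv ≫ ARSys.tr X (Nat.add_le_add_left hjk i) = biprod.map (𝟙 A) (z j k hjk) ≫ (e j).inv) ∧
      (∀ j : ℕ, ∃ (k : ℕ) (hjk : j ≤ k), z j k hjk = 0) := by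
  obtain ⟨i, s, hs, hX⟩ := hX
  have hc : ∀ {n m : ℕ} (h : n ≤ m), (c.app (op m) : A ⟶ X.obj (op m)) ≫ ARSys.tr X h =
      c.app (op n) := by
    intro n m h
    have := c.naturality (homOfLE h).op
    simp only [Functor.const_obj_obj, Functor.const_obj_map, Category.id_comp] at this
    exact this.symm
  have htr : ∀ {n m l : ℕ} (h1 : n ≤ m) (h2 : m ≤ l), ARSys.tr X h2 ≫ ARSys.tr X h1 =
      ARSys.tr X (h1.trans h2) := by
    intro n m l h1 h2
    change X.map _ ≫ X.map _ = X.map _
    rw [← X.map_comp]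
    rfl
  have hcr : ∀ j, (c.app (op (i + j)) : A ⟶ X.obj (op (i + j))) ≫
      (ARSys.tr X (Nat.le_add_right i j) ≫ s) = 𝟙 A := by
    intro j
    rw [← Category.assoc, hc, hs]
  have key := fun j => split_aux (c.app (op (i + j)) : A ⟶ X.obj (op (i + j)))
    (ARSys.tr X (Nat.le_add_right i j) ≫ s) (hcr j)
  choose Z q inr h1 h2 h3 h4 using key
  refine ⟨i, Z, fun j =>
    { hom := biprod.lift (ARSys.tr X (Nat.le_add_right i j) ≫ s) (q j)
      inv := biprod.desc (c.app (op (i + j)) : A ⟶ X.obj (op (i + j))) (inr j)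
      hom_inv_id := by
        rw [biprod.lift_desc]
        exact h4 j
      inv_hom_id := by
        ext
        · simp only [biprod.inl_desc_assoc, Category.assoc, biprod.lift_fst, Category.id_comp,
            biprod.inl_fst]
          exact hcr j
        · simp [h1 j]
        · simp only [biprod.inr_desc_assoc, Category.assoc, biprod.lift_fst, Category.id_comp,
            biprod.inr_fst]
          exact h3 j
        · simp [h2 j] },
    fun j k hjk => inr k ≫ ARSys.tr X (Nat.add_le_add_left hjk i) ≫ q j, ?_, ?_, ?_⟩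
  · intro j
    ext
    · simp only [Category.assoc, biprod.lift_fst]
      exact (hcr j).trans (biprod.inl_fst (X := A) (Y := Z j)).symm
    · simp [h1 j]
  · intro j k hjk
    ext
    · simp only [biprod.inl_desc_assoc, biprod.inl_map_assoc, Category.id_comp, biprod.inl_desc]
      exact hc _
    · simp only [biprod.inr_desc_assoc, biprod.inr_map_assoc, Category.assoc, biprod.inr_desc]
      have h4j := h4 j
      have : q j ≫ inr j = 𝟙 _ - (ARSys.tr X (Nat.le_add_right i j) ≫ s) ≫ c.app (op (i + j)) := by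
        rw [← h4j]; abel
      rw [this, Preadditive.comp_sub, Preadditive.comp_sub, Category.comp_id]
      have h5 : inr k ≫ ARSys.tr X (Nat.add_le_add_left hjk i) ≫
          (ARSys.tr X (Nat.le_add_right i j) ≫ s) ≫ c.app (op (i + j)) = 0 := by
        rw [← Category.assoc (ARSys.tr X (Nat.add_le_add_left hjk i)),
          ← Category.assoc (ARSys.tr X (Nat.add_le_add_left hjk i)), htr, ← Category.assoc,
          h3 k, zero_comp]
      rw [h5, sub_zero]
  · intro j
    obtain ⟨k', hi, hj, hk⟩ := hX (i + j)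
    obtain ⟨k, rfl⟩ := Nat.exists_eq_add_of_le hi
    have hjk : j ≤ k := by omega
    refine ⟨k, hjk, ?_⟩
    change inr k ≫ ARSys.tr X (Nat.add_le_add_left hjk i) ≫ q j = 0
    have : ARSys.tr X (Nat.add_le_add_left hjk i) = ARSys.tr X hj := rfl
    rw [this, hk]
    simp only [Category.assoc]
    erw [h1 j]
    simp

end Groth.Agent.S6614
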