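import Groth.Statements.S6621
import Mathlib
import Groth.Agent.S6788

set_option autoImplicit false
universe v u v' u'
open CategoryTheory CategoryTheory.Limits
open CohDer

namespace Groth.Agent.S6621
set_option backward.isDefEq.respectTransparency false
open CategoryTheory.Pretriangulated in

/-- Let D be a triangulated category, S a multiplicative system compatible with the triangulated
structure, Q : D → S⁻¹D the localization and B(S) = Ker(Q) the full subcategory of objects Z with
Q(Z) = 0. Then the multiplicative system S(B(S)) attached to B(S) (morphisms whose cone lies in B(S)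
up to isomorphism) consists exactly of the morphisms f such that Q(f) is an isomorphism, i.e. it is
the saturation of S. -/
theorem result {D : Type u} [Category.{v} D] [Preadditive D] [HasZeroObject D] [HasShift D ℤ]
    [∀ n : ℤ, (shiftFunctor D n).Additive] [Pretriangulated D] [IsTriangulated D]
    (S : MorphismProperty D) [S.HasLeftCalculusOfFractions] [S.HasRightCalculusOfFractions] [S.IsCompatibleWithTriangulation]
    {E : Type u'} [Category.{v'} E] (Q : D ⥤ E) [Q.IsLocalization S] {X Y : D} (f : X ⟶ Y) :
    ObjectProperty.trW (fun Z : D => IsZero (Q.obj Z)) f ↔ IsIso (Q.map f) := by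
  -- compare with the constructed localization, which is pretriangulated
  have hA : (fun Z : D => IsZero (Q.obj Z)) = (fun Z : D => IsZero (S.Q.obj Z)) := by
    funext Z
    apply propext
    rw [(Groth.Agent.S6788.result Q S Z).1, (Groth.Agent.S6788.result S.Q S Z).1]
  have hB : IsIso (Q.map f) ↔ IsIso (S.Q.map f) := by
    have e1 := Localization.compUniqFunctor Q S.Q S
    have e2 := Localization.compUniqFunctor S.Q Q S
    constructor
    · intro h
      have : IsIso ((Q ⋙ (Localization.uniq Q S.Q S).functor).map f) := by
        rw [Functor.comp_map]; infer_instance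
      exact (NatIso.isIso_map_iff e1 f).mp this
    · intro h
      have : IsIso ((S.Q ⋙ (Localization.uniq S.Q Q S).functor).map f) := by
        rw [Functor.comp_map]; infer_instance
      exact (NatIso.isIso_map_iff e2 f).mp this
  rw [hA, hB]
  constructor
  · rintro ⟨Z, g, h, hT, hZ⟩
    have hT' := S.Q.map_distinguished _ hT
    exact (Triangle.isZero₃_iff_isIso₁ _ hT').mp hZ
  · intro hf
    obtain ⟨Z, g, h, hT⟩ := distinguished_cocone_triangle f
    have hT' := S.Q.map_distinguished _ hT
    exact ⟨Z, g, h, hT, (Triangle.isZero₃_iff_isIso₁ _ hT').mpr hf⟩

end Groth.Agent.S6621
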