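import Groth.Statements.S6623
import Mathlib

set_option autoImplicit false
universe v u
open CategoryTheory CategoryTheory.Limits
open CohDer

namespace Groth.Agent.S6623

section aux
variable {D : Type u} [Category.{v} D] [Preadditive D] [HasShift D ℤ]
    [∀ n : ℤ, (shiftFunctor D n).Additive]

lemma shiftIso : ∀ (j : ℕ) (Z : D) (i : ℤ),
    Nonempty ((shiftFunctor D i).obj ((shiftFunctor D (1:ℤ)).obj^[j] Z) ≅
      (shiftFunctor D ((j:ℤ) + i)).obj Z) := by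
  intro j
  induction j with
  | zero =>
    intro Z i
    exact ⟨eqToIso (by simp)⟩
  | succ j ih =>
    intro Z i
    obtain ⟨e⟩ := ih ((shiftFunctor D (1:ℤ)).obj Z) i
    exact ⟨e ≪≫ ((shiftFunctorAdd' D (1:ℤ) ((j:ℤ) + i) (((j+1 : ℕ) : ℤ) + i)
      (by push_cast; ring)).app Z).symm⟩

lemma shiftIso0 (j : ℕ) (Z : D) (s : ℤ) (h : (j:ℤ) + s = 0) :
    Nonempty ((shiftFunctor D s).obj ((shiftFunctor D (1:ℤ)).obj^[j] Z) ≅ Z) := by
  obtain ⟨e⟩ := shiftIso j Z s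
  exact ⟨e ≪≫ (shiftFunctorZero' D _ h).app Z⟩

lemma transport1 (Z W : D) (j : ℕ) (s : ℤ) (h : (j:ℤ) + s = 0)
    (H : ∀ ψ : (shiftFunctor D s).obj Z ⟶ W, ψ = 0)
    (ψ0 : Z ⟶ (shiftFunctor D (1:ℤ)).obj^[j] W) : ψ0 = 0 := by
  obtain ⟨θ⟩ := shiftIso0 j W s h
  have h0 := H ((shiftFunctor D s).map ψ0 ≫ θ.hom)
  have h1 : (shiftFunctor D s).map ψ0 ≫ θ.hom = 0 ≫ θ.hom := by rw [zero_comp]; exact h0
  have h2 := (cancel_mono _).1 h1
  exact (shiftFunctor D s).map_injective (h2.trans (Functor.map_zero _ _ _).symm)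

lemma transport2 (Z W : D) (j : ℕ) (s : ℤ) (h : (j:ℤ) + s = 0)
    (H : ∀ ψ : Z ⟶ (shiftFunctor D s).obj W, ψ = 0)
    (ψ0 : (shiftFunctor D (1:ℤ)).obj^[j] Z ⟶ W) : ψ0 = 0 := by
  obtain ⟨θ⟩ := shiftIso0 j Z s h
  have h0 := H (θ.inv ≫ (shiftFunctor D s).map ψ0)
  have h1 : θ.inv ≫ (shiftFunctor D s).map ψ0 = θ.inv ≫ 0 := by rw [comp_zero]; exact h0
  have h2 := (cancel_epi _).1 h1
  exact (shiftFunctor D s).map_injective (h2.trans (Functor.map_zero _ _ _).symm)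

end aux

open CategoryTheory.Pretriangulated in
/-- Let D be a triangulated category, φ : X ⟶ X' a morphism of chain complexes in D considered in
degrees ≤ n, where a Postnikov system for the complex X_n → … → X_0 consists of objects Y_k, an
isomorphism Y_0 ⟶ X_0, and for 0 ≤ k < n distinguished triangles Y_{k+1} ⟶ X_{k+1} ⟶ Y_k ⟶
Y_{k+1}⟦1⟧ with X_{k+1} ⟶ Y_k ⟶ X_k the differential; let (Y, a, b, c) and (Y', a', b', c') be
Postnikov systems for X and X'. If Hom(X_{j-i}⟦1-i⟧, X'_j) = 0 and Hom(X_j, X'_{j-i}⟦-i⟧) = 0 for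
all 0 < i ≤ j ≤ n, then there is at most one morphism of Postnikov systems extending φ: two such
morphisms agree on Y_k for every k ≤ n. -/
theorem result {D : Type u} [Category.{v} D] [Preadditive D] [HasZeroObject D] [HasShift D ℤ]
    [∀ n : ℤ, (shiftFunctor D n).Additive] [Pretriangulated D] [IsTriangulated D]
    (X X' : ChainComplex D ℕ) (φ : X ⟶ X') (n : ℕ)
    (Y : ℕ → D) (a : ∀ k, Y k ⟶ X.X k) (b : ∀ k, X.X (k + 1) ⟶ Y k)
    (c : ∀ k, Y k ⟶ (shiftFunctor D (1 : ℤ)).obj (Y (k + 1)))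
    (h0 : IsIso (a 0))
    (hP : ∀ k, k < n → Triangle.mk (a (k + 1)) (b k) (c k) ∈ distinguishedTriangles ∧ b k ≫ a k = X.d (k + 1) k)
    (qY : ℕ → D) (qa : ∀ k, qY k ⟶ X'.X k) (qb : ∀ k, X'.X (k + 1) ⟶ qY k)
    (qc : ∀ k, qY k ⟶ (shiftFunctor D (1 : ℤ)).obj (qY (k + 1)))
    (qh0 : IsIso (qa 0))
    (qhP : ∀ k, k < n → Triangle.mk (qa (k + 1)) (qb k) (qc k) ∈ distinguishedTriangles ∧ qb k ≫ qa k = X'.d (k + 1) k)
    (hv : ∀ i j : ℕ, 0 < i → i ≤ j → j ≤ n →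
      (∀ ψ : (shiftFunctor D (1 - (i : ℤ))).obj (X.X (j - i)) ⟶ X'.X j, ψ = 0) ∧
      (∀ ψ : X.X j ⟶ (shiftFunctor D (-(i : ℤ))).obj (X'.X (j - i)), ψ = 0))
    (y z : ∀ k, Y k ⟶ qY k)
    (hy : (∀ k, k ≤ n → y k ≫ qa k = a k ≫ φ.f k) ∧
      (∀ k, k < n → b k ≫ y k = φ.f (k + 1) ≫ qb k ∧ c k ≫ (shiftFunctor D (1 : ℤ)).map (y (k + 1)) = y k ≫ qc k))
    (hz : (∀ k, k ≤ n → z k ≫ qa k = a k ≫ φ.f k) ∧
      (∀ k, k < n → b k ≫ z k = φ.f (k + 1) ≫ qb k ∧ c k ≫ (shiftFunctor D (1 : ℤ)).map (z (k + 1)) = z k ≫ qc k))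
    (k : ℕ) (hk : k ≤ n) :
    y k = z k := by
  let f1 : D → D := (shiftFunctor D (1:ℤ)).obj
  have claimA : ∀ m, m ≤ n → ∀ T : D,
      (∀ i j : ℕ, i + j = m → ∀ ψ : X.X i ⟶ f1^[j] T, ψ = 0) → ∀ g : Y m ⟶ T, g = 0 := by
    intro m
    induction m with
    | zero =>
      intro _ T hT g
      haveI := h0
      have := hT 0 0 rfl (inv (a 0) ≫ g)
      calc g = a 0 ≫ (inv (a 0) ≫ g) := by simp
        _ = a 0 ≫ 0 := congrArg (fun t => a 0 ≫ t) this
        _ = 0 := comp_zero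
    | succ m ih =>
      intro hm T hT g
      have hm' : m < n := hm
      obtain ⟨hTr, -⟩ := hP m hm'
      have h1 : c m ≫ (shiftFunctor D (1:ℤ)).map g = 0 :=
        ih (le_of_lt hm') (f1 T) (fun i j hij ψ => hT i (j+1) (by omega) ψ) _
      obtain ⟨ψ', hψ'⟩ := Pretriangulated.Triangle.yoneda_exact₃ _
        (Pretriangulated.rot_of_distTriang _ hTr) ((shiftFunctor D (1:ℤ)).map g) h1
      obtain ⟨ψ, rfl⟩ := (shiftFunctor D (1:ℤ)).map_surjective ψ'
      have hψ : ψ = 0 := hT (m+1) 0 (by omega) ψ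
      rw [hψ, Functor.map_zero, comp_zero] at hψ'
      exact (shiftFunctor D (1:ℤ)).map_injective (hψ'.trans (Functor.map_zero _ _ _).symm)
  have claimB : ∀ m, m ≤ n → ∀ S : D,
      (∀ i j : ℕ, i + j = m → ∀ ψ : f1^[j] S ⟶ X'.X i, ψ = 0) → ∀ g : S ⟶ qY m, g = 0 := by
    intro m
    induction m with
    | zero =>
      intro _ S hS g
      haveI := qh0
      have := hS 0 0 rfl (g ≫ qa 0)
      exact (cancel_mono (qa 0)).1 (this.trans zero_comp.symm)
    | succ m ih =>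
      intro hm S hS g
      have hm' : m < n := hm
      obtain ⟨hTr, -⟩ := qhP m hm'
      have h1 : g ≫ qa (m+1) = 0 := hS (m+1) 0 (by omega) _
      obtain ⟨g', hg'⟩ := Pretriangulated.Triangle.coyoneda_exact₁ _ hTr
        ((shiftFunctor D (1:ℤ)).map g) (by
          change (shiftFunctor D (1:ℤ)).map g ≫ (shiftFunctor D (1:ℤ)).map (qa (m+1)) = 0
          rw [← Functor.map_comp, h1, Functor.map_zero])
      have hg0 : g' = 0 :=
        ih (le_of_lt hm') (f1 S) (fun i j hij ψ => hS i (j+1) (by omega) ψ) g'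
      rw [hg0, zero_comp] at hg'
      exact (shiftFunctor D (1:ℤ)).map_injective (hg'.trans (Functor.map_zero _ _ _).symm)
  induction k with
  | zero =>
    haveI := qh0
    rw [← cancel_mono (qa 0), hy.1 0 hk, hz.1 0 hk]
  | succ k ih =>
    have hk' : k < n := hk
    have ihk := ih (le_of_lt hk')
    obtain ⟨hT, -⟩ := hP k hk'
    obtain ⟨hT', -⟩ := qhP k hk'
    have h1 : c k ≫ (shiftFunctor D (1:ℤ)).map (y (k+1) - z (k+1)) = 0 := by
      rw [Functor.map_sub, Preadditive.comp_sub, (hy.2 k hk').2, (hz.2 k hk').2, ihk, sub_self]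
    obtain ⟨ψ', hψ'⟩ := Pretriangulated.Triangle.yoneda_exact₃ _
      (Pretriangulated.rot_of_distTriang _ hT) ((shiftFunctor D (1:ℤ)).map (y (k+1) - z (k+1))) h1
    obtain ⟨ψ, rfl⟩ := (shiftFunctor D (1:ℤ)).map_surjective ψ'
    have hδ : y (k+1) - z (k+1) = -(a (k+1) ≫ ψ) := by
      apply (shiftFunctor D (1:ℤ)).map_injective
      refine hψ'.trans ?_
      simp
      exact Preadditive.neg_comp _ _
    have h2 : a (k+1) ≫ (ψ ≫ qa (k+1)) = 0 := by
      have h3 : (y (k+1) - z (k+1)) ≫ qa (k+1) = 0 := by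
        rw [Preadditive.sub_comp, hy.1 (k+1) hk, hz.1 (k+1) hk, sub_self]
      rw [hδ, Preadditive.neg_comp, neg_eq_zero, Category.assoc] at h3
      exact h3
    obtain ⟨ρ, hρ⟩ := Pretriangulated.Triangle.yoneda_exact₂ _ hT (ψ ≫ qa (k+1)) h2
    change ψ ≫ qa (k+1) = b k ≫ ρ at hρ
    have hρ0 : ρ = 0 := by
      apply claimA k (le_of_lt hk') (X'.X (k+1))
      intro i j hij ψ0
      have H := (hv (j+1) (k+1) (by omega) (by omega) hk).1
      have hsub : k + 1 - (j + 1) = i := by omega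
      rw [hsub] at H
      exact transport1 _ _ j _ (by push_cast; ring) H ψ0
    replace hρ : ψ ≫ qa (k+1) = 0 := by
      rw [hρ, hρ0]
      exact comp_zero
    obtain ⟨g', hg'⟩ := Pretriangulated.Triangle.coyoneda_exact₁ _ hT'
      ((shiftFunctor D (1:ℤ)).map ψ) (by
        change (shiftFunctor D (1:ℤ)).map ψ ≫ (shiftFunctor D (1:ℤ)).map (qa (k+1)) = 0
        rw [← Functor.map_comp, hρ, Functor.map_zero])
    have hg0 : g' = 0 := by
      apply claimB k (le_of_lt hk') (f1 (X.X (k+1)))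
      intro i j hij ψ0
      have H := (hv (j+1) (k+1) (by omega) (by omega) hk).2
      have hsub : k + 1 - (j + 1) = i := by omega
      rw [hsub] at H
      exact transport2 (X.X (k+1)) (X'.X i) (j+1) _ (by push_cast; ring) H ψ0
    rw [hg0, zero_comp] at hg'
    have hψ0 : ψ = 0 :=
      (shiftFunctor D (1:ℤ)).map_injective (hg'.trans (Functor.map_zero _ _ _).symm)
    have hfin : y (k+1) - z (k+1) = 0 := by
      rw [hδ, hψ0]
      exact (congrArg Neg.neg comp_zero).trans neg_zero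
    exact sub_eq_zero.1 hfin

end Groth.Agent.S6623
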