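import Groth.Statements.S6647
import Groth.Agent.Helper4.LocHomEt

set_option autoImplicit false
open CategoryTheory CategoryTheory.Limits AlgebraicGeometry Opposite
universe u
open EtCore

namespace Groth.Agent.S6647

/-- Let φ : F ⟶ G be a map of locally constant abelian sheaves on the small etale site of a scheme X,
with F finite locally constant. Then on the members of some etale covering of X the restriction of φ
is, up to isomorphisms with constant sheaves on both sides, the map of constant sheaves induced by a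
homomorphism of abelian groups. -/
theorem result {X : Scheme.{u}} (F G : EtCoh.Ab X) (φ : F ⟶ G)
    (hF : EtCoh.IsFiniteLocallyConstant F) (hG : EtRest.IsLocallyConstant G) :
    ∃ (ι : Type u) (U : ι → X.Etale), EtCoh.Covers U ∧ ∀ i, ∃ (M N : Type (u + 1)) (_ : AddCommGroup M) (_ : AddCommGroup N)
      (h : M →+ N)
      (α : EtCoh.restr F (U i) ≅ (constantSheaf (X.smallEtaleTopology.over (U i)) AddCommGrpCat.{u + 1}).obj (AddCommGrpCat.of M))
      (β : EtCoh.restr G (U i) ≅ (constantSheaf (X.smallEtaleTopology.over (U i)) AddCommGrpCat.{u + 1}).obj (AddCommGrpCat.of N)),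
      (X.smallEtaleTopology.overPullback AddCommGrpCat.{u + 1} (U i)).map φ ≫ β.hom = α.hom ≫ (constantSheaf (X.smallEtaleTopology.over (U i)) AddCommGrpCat.{u + 1}).map (AddCommGrpCat.ofHom h) := by
  obtain ⟨ι₁, U₁, hU₁, hF'⟩ := hF
  obtain ⟨ι₂, U₂, hU₂, hG'⟩ := hG
  have key : ∀ x : X, ∃ (U : X.Etale) (y : U.left), U.hom y = x ∧
      ∃ (M N : Type (u + 1)) (_ : AddCommGroup M) (_ : AddCommGroup N) (h : M →+ N)
      (α : EtCoh.restr F U ≅ (constantSheaf (X.smallEtaleTopology.over U)
        AddCommGrpCat.{u + 1}).obj (AddCommGrpCat.of M))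
      (β : EtCoh.restr G U ≅ (constantSheaf (X.smallEtaleTopology.over U)
        AddCommGrpCat.{u + 1}).obj (AddCommGrpCat.of N)),
      (X.smallEtaleTopology.overPullback AddCommGrpCat.{u + 1} U).map φ ≫ β.hom =
        α.hom ≫ (constantSheaf (X.smallEtaleTopology.over U) AddCommGrpCat.{u + 1}).map
          (AddCommGrpCat.ofHom h) := by
    intro x
    obtain ⟨i₁, y₁, hy₁⟩ := hU₁ x
    obtain ⟨i₂, y₂, hy₂⟩ := hU₂ x
    obtain ⟨M, iM, fM, ⟨α₁⟩⟩ := hF' i₁
    obtain ⟨N, iN, ⟨β₂⟩⟩ := hG' i₂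
    have : Finite (AddCommGrpCat.of (ULift.{u + 1} M)) :=
      Finite.of_equiv M Equiv.ulift.symm
    obtain ⟨U, y, hy, h, α, β, e⟩ :=
      Groth.Agent.Helper4.LocHomEt.exists_local (A := AddCommGrpCat.{u + 1}) φ
        (M := AddCommGrpCat.of (ULift.{u + 1} M)) (N := AddCommGrpCat.of N)
        (fun T ψ => Groth.Agent.Helper4.SiteConst.exists_local_hom_ab
          (X.smallEtaleTopology.over T) ψ (Over.mk (𝟙 T)))
        x (U₁ i₁) (U₂ i₂) y₁ y₂ hy₁ hy₂ α₁ β₂
    exact ⟨U, y, hy, ULift.{u + 1} M, N, inferInstance, inferInstance, h.hom, α, β, e⟩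
  choose U y hy H using key
  exact ⟨X, U, fun x => ⟨x, y x, hy x⟩, H⟩

end Groth.Agent.S6647
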