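import Groth.Statements.S6648
import Mathlib
import Groth.Agent.Helper9.EtStalkExact
-- import your own Groth.Agent.* helpers here

set_option autoImplicit false
open CategoryTheory CategoryTheory.Limits AlgebraicGeometry Opposite
universe u
open EtCore

namespace Groth.Agent.S6648

/-- For a sheaf of (commutative) rings O on the small etale site of a scheme S, the set of points s of S
over which some geometric stalk of O is a nonzero ring is closed in S. (Rings are taken in the
universe of the schemes, as for the structure presheaf of the prelude.) -/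
theorem result {S : Scheme.{u}} (O : Sheaf S.smallEtaleTopology CommRingCat.{u}) :
    IsClosed {s : ↥S | ∃ (Ω : Type u) (_ : Field Ω) (_ : IsSepClosed Ω) (ξ : Spec (CommRingCat.of Ω) ⟶ S),
      ξ.base default = s ∧ Nontrivial ↑((Scheme.pointSmallEtale ξ).presheafFiber.obj O.obj)} := by
  rw [← isOpen_compl_iff]
  have key : {s : ↥S | ∃ (Ω : Type u) (_ : Field Ω) (_ : IsSepClosed Ω)
      (ξ : Spec (CommRingCat.of Ω) ⟶ S),
      ξ.base default = s ∧ Nontrivial ↑((Scheme.pointSmallEtale ξ).presheafFiber.obj O.obj)}ᶜ =
      ⋃ (V : S.Etale) (_ : Subsingleton ↑(O.obj.obj (op V))), Set.range V.hom := by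
    ext s
    simp only [Set.mem_compl_iff, Set.mem_ofPred_eq, Set.mem_iUnion, Set.mem_range, exists_prop]
    constructor
    · intro hs
      let ξ := Groth.Agent.Helper9.EtStalkExact.geomPt s
      have hξ : ξ default = s := Groth.Agent.Helper9.EtStalkExact.geomPt_default s
      have hsub : Subsingleton ↑((Scheme.pointSmallEtale ξ).presheafFiber.obj O.obj) := by
        by_contra hcon
        rw [not_subsingleton_iff_nontrivial] at hcon
        exact hs ⟨_, inferInstance, inferInstance, ξ, hξ, hcon⟩
      let l₀ : (Scheme.pointSmallEtale ξ).fiber.obj (Scheme.Etale.mk (𝟙 S)) :=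
        Over.homMk ξ (Category.comp_id _)
      have h1 : (Scheme.pointSmallEtale ξ).toPresheafFiber _ l₀ O.obj 1 =
          (Scheme.pointSmallEtale ξ).toPresheafFiber _ l₀ O.obj 0 := Subsingleton.elim _ _
      obtain ⟨V, g, v, hv, hg⟩ := ((Scheme.pointSmallEtale ξ).toPresheafFiber_eq_iff' _ l₀ _ _).1 h1
      refine ⟨V, ?_, ?_⟩
      · have e1 : (O.obj.map g.op).hom 1 = 1 := map_one (O.obj.map g.op).hom
        have e0 : (O.obj.map g.op).hom 0 = 0 := map_zero (O.obj.map g.op).hom
        have : (1 : ↑(O.obj.obj (op V))) = 0 := e1.symm.trans (hg.trans e0)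
        exact subsingleton_of_zero_eq_one this.symm
      · let vV : Spec (CommRingCat.of (SeparableClosure (S.residueField s))) ⟶ V.left := v.left
        refine ⟨vV default, ?_⟩
        have hw : vV ≫ V.hom = ξ := Over.w v
        refine Eq.trans ?_ hξ
        rw [← hw]
        rfl
    · rintro ⟨V, hV, v, rfl⟩ ⟨Ω, _, _, ξ, hξ, hnt⟩
      obtain ⟨l, -⟩ := Scheme.pointSmallEtaleFiberObjToPreimage_surjective ξ hξ V ⟨v, by simp⟩
      have e1 : ((Scheme.pointSmallEtale ξ).toPresheafFiber V l O.obj).hom 1 = 1 := map_one _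
      have e0 : ((Scheme.pointSmallEtale ξ).toPresheafFiber V l O.obj).hom 0 = 0 := map_zero _
      have : (1 : ↑(O.obj.obj (op V))) = 0 := Subsingleton.elim _ _
      rw [this] at e1
      exact zero_ne_one (e0.symm.trans e1)
  rw [key]
  refine isOpen_iUnion fun V => isOpen_iUnion fun _ => ?_
  exact V.hom.isOpenMap.isOpen_range

end Groth.Agent.S6648
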