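import Groth.Statements.S6649
import Groth.Agent.Helper5.VarDim6
import Groth.Agent.S0212
import Groth.Agent.S0214

set_option autoImplicit false
open CategoryTheory CategoryTheory.Limits AlgebraicGeometry Opposite
universe u
open Curves

namespace Groth.Agent.S6649

/-- For a curve C over an algebraically closed field k (C integral of dimension one, separated and of
finite type over k) the Brauer group of the function field of C is zero: every finite-dimensional
central division algebra over the function field has dimension one. -/
theorem result (k : Type u) [Field k] [IsAlgClosed k] (C : Scheme.{u})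
    (f : C ⟶ Spec (CommRingCat.of k)) [IsSeparated f] [LocallyOfFiniteType f] [QuasiCompact f] [IsIntegral C]
    (hdim : topologicalKrullDim ↥C = 1)
    (D : Type u) [DivisionRing D] [Algebra ↑C.functionField D] [Algebra.IsCentral ↑C.functionField D]
    [FiniteDimensional ↑C.functionField D] : Module.finrank ↑C.functionField D = 1 := by
  classical
  have hξ : closure ({genericPoint C} : Set C) = Set.univ := genericPoint_closure C
  obtain ⟨n, hn1, hn2⟩ := Groth.Agent.Helper5.VarDim.dim_eq_trdeg_generic k f (genericPoint C) hξ
  have hn : n = 1 := by
    rw [hdim] at hn1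
    exact_mod_cast hn1.symm
  let res : ↑C.functionField →+* ↑(C.residueField (genericPoint C)) :=
    (C.residue (genericPoint C)).hom
  have hbij : Function.Bijective res := ⟨res.injective, C.residue_surjective (genericPoint C)⟩
  let e : ↑C.functionField ≃+* ↑(C.residueField (genericPoint C)) := RingEquiv.ofBijective res hbij
  let a1 : k →+* ↑C.functionField :=
    ((Scheme.ΓSpecIso (CommRingCat.of k)).inv ≫ f.appTop ≫
      C.presheaf.germ ⊤ (genericPoint C) trivial).hom
  have h : ∀ c, e (a1 c) = Groth.Agent.Helper5.VarDim.resHom k f (genericPoint C) c := fun c => rfl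
  have htr := Groth.Agent.Helper5.VarDim.trdeg_congr_ringEquiv a1
    (Groth.Agent.Helper5.VarDim.resHom k f (genericPoint C)) e h
  letI : Algebra k ↑C.functionField := a1.toAlgebra
  have htr1 : Algebra.trdeg k ↑C.functionField = ((1 : ℕ) : Cardinal) := by
    rw [htr, hn2, hn]
  have hCi : Curves.IsCi ↑C.functionField 1 :=
    Groth.Agent.S0212.result k ↑C.functionField 1 htr1
  have hCr : Curves.IsCr ↑C.functionField 1 := by
    intro N d F hF hd hdN
    obtain ⟨a, ha0, ha⟩ := hCi 1 N (fun _ => F) (fun _ => d) (fun _ => hF) (fun _ => hd)
      (by simpa using hdN)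
    exact ⟨a, ha0, ha 0⟩
  exact Groth.Agent.S0214.result ↑C.functionField hCr D

end Groth.Agent.S6649
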