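import Groth.Statements.S6655
import Groth.Agent.Helper4.LocHomEt
import Mathlib

set_option autoImplicit false
open CategoryTheory CategoryTheory.Limits AlgebraicGeometry Opposite
universe u
open EtModW

namespace Groth.Agent.S6655


/-- Part (3): with both sheaves of finite type: let Λ be a commutative ring and φ : F ⟶ G a map of
finite type locally constant sheaves of Λ-modules on the small etale site of a scheme X. Then on the
members of some etale covering of X the restriction of φ is, up to isomorphisms with constant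
sheaves on both sides, the map of constant sheaves induced by a Λ-linear map. (The published
statement allows G to be any locally constant sheaf of Λ-modules; this row assumes G of finite type
as well.) -/
theorem result (Λ : Type (u + 1)) [CommRing Λ] {X : Scheme.{u}} (F G : EtModW.Mod Λ X)
    (φ : F ⟶ G) (hF : EtModW.IsFTLocConst Λ F) (hG : EtModW.IsFTLocConst Λ G) :
    ∃ (ι : Type u) (U : ι → X.Etale), EtCoh.Covers U ∧ ∀ i, ∃ (M N : Type (u + 1)) (_ : AddCommGroup M) (_ : AddCommGroup N)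
      (_ : Module Λ M) (_ : Module Λ N) (h : M →ₗ[Λ] N)
      (α : EtModW.restr Λ F (U i) ≅ (constantSheaf (X.smallEtaleTopology.over (U i)) (ModuleCat.{u + 1} Λ)).obj (ModuleCat.of Λ M))
      (β : EtModW.restr Λ G (U i) ≅ (constantSheaf (X.smallEtaleTopology.over (U i)) (ModuleCat.{u + 1} Λ)).obj (ModuleCat.of Λ N)),
      (X.smallEtaleTopology.overPullback (ModuleCat.{u + 1} Λ) (U i)).map φ ≫ β.hom =
        α.hom ≫ (constantSheaf (X.smallEtaleTopology.over (U i)) (ModuleCat.{u + 1} Λ)).map (ModuleCat.ofHom h) := by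

  obtain ⟨ι₁, V₁, hV₁, hM⟩ := hF
  obtain ⟨ι₂, V₂, hV₂, hN⟩ := hG
  have key : ∀ x : X, ∃ (U : X.Etale) (y : U.left), U.hom y = x ∧
      ∃ (M N : Type (u + 1)) (_ : AddCommGroup M) (_ : AddCommGroup N)
      (_ : Module Λ M) (_ : Module Λ N) (h : M →ₗ[Λ] N)
      (α : EtModW.restr Λ F U ≅ (constantSheaf (X.smallEtaleTopology.over U) (ModuleCat.{u + 1} Λ)).obj (ModuleCat.of Λ M))
      (β : EtModW.restr Λ G U ≅ (constantSheaf (X.smallEtaleTopology.over U) (ModuleCat.{u + 1} Λ)).obj (ModuleCat.of Λ N)),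
      (X.smallEtaleTopology.overPullback (ModuleCat.{u + 1} Λ) U).map φ ≫ β.hom =
        α.hom ≫ (constantSheaf (X.smallEtaleTopology.over U) (ModuleCat.{u + 1} Λ)).map (ModuleCat.ofHom h) := by
    intro x
    obtain ⟨i, y₁, hy₁⟩ := hV₁ x
    obtain ⟨k, y₂, hy₂⟩ := hV₂ x
    obtain ⟨M, iM, mM, fM, ⟨α₁⟩⟩ := hM i
    obtain ⟨N, iN, mN, fN, ⟨β₂⟩⟩ := hN k
    obtain ⟨U, y, hy, h, α, β, e⟩ := Groth.Agent.Helper4.LocHomEt.exists_local
      (A := ModuleCat.{u + 1} Λ) φ
      (M := ModuleCat.of Λ M) (N := ModuleCat.of Λ N)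
      (fun T ψ => Groth.Agent.Helper4.SiteConst.exists_local_hom_mod
        (X.smallEtaleTopology.over T) Λ ψ (Over.mk (𝟙 T)))
      x (V₁ i) (V₂ k) y₁ y₂ hy₁ hy₂ α₁ β₂
    exact ⟨U, y, hy, M, N, iM, iN, mM, mN, h.hom, α, β, e⟩
  choose U y hy hU using key
  refine ⟨↥X, U, fun x => ⟨x, y x, hy x⟩, hU⟩

end Groth.Agent.S6655
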