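import Groth.Statements.S6708
import Mathlib

set_option autoImplicit false
universe v u
open scoped TensorProduct
open CategoryTheory
open DEquiv

namespace Groth.Agent.S6708

open CategoryTheory.Limits CategoryTheory.Pretriangulated in
/-- Let D be a pretriangulated category, D' ⊆ D a full triangulated subcategory (given as a property of
objects that is triangulated in Mathlib's sense) and X an object of D. Then the category of arrows E
⟶ X with E in D' is filtered. -/
theorem result
    {D : Type u} [Category.{v} D] [Preadditive D] [HasZeroObject D] [HasShift D ℤ]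
    [∀ n : ℤ, (shiftFunctor D n).Additive] [Pretriangulated D]
    (P : ObjectProperty D) [P.IsTriangulated] (X : D) :
    IsFiltered (CostructuredArrow P.ι X) := by
  haveI : Nonempty (CostructuredArrow P.ι X) := by
    obtain ⟨Z₀, hZ₀, hP⟩ := P.exists_prop_of_containsZero
    exact ⟨CostructuredArrow.mk (S := P.ι) (Y := (⟨Z₀, hP⟩ : P.FullSubcategory)) (show P.ι.obj ⟨Z₀, hP⟩ ⟶ X from 0)⟩
  haveI : IsFilteredOrEmpty (CostructuredArrow P.ι X) := by
    constructor
    · -- cocone_objs
      intro E₁ E₂
      have hT := Pretriangulated.binaryBiproductTriangle_distinguished E₁.left.obj E₂.left.obj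
      obtain ⟨Y, hY, ⟨e⟩⟩ := P.ext_of_isTriangulatedClosed₂' _ hT E₁.left.property E₂.left.property
      change E₁.left.obj ⊞ E₂.left.obj ≅ Y at e
      let c : Y ⟶ X := e.inv ≫ biprod.desc E₁.hom E₂.hom
      refine ⟨CostructuredArrow.mk (S := P.ι) (Y := (⟨Y, hY⟩ : P.FullSubcategory)) (show P.ι.obj ⟨Y, hY⟩ ⟶ X from c),
        CostructuredArrow.homMk (ObjectProperty.homMk (biprod.inl ≫ e.hom)) ?_,
        CostructuredArrow.homMk (ObjectProperty.homMk (biprod.inr ≫ e.hom)) ?_, trivial⟩
      · change (biprod.inl ≫ e.hom) ≫ e.inv ≫ biprod.desc E₁.hom E₂.hom = E₁.hom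
        simp
      · change (biprod.inr ≫ e.hom) ≫ e.inv ≫ biprod.desc E₁.hom E₂.hom = E₂.hom
        simp
    · -- cocone_maps
      intro E₁ E₂ f g
      have hf : f.left.hom ≫ E₂.hom = E₁.hom := CostructuredArrow.w f
      have hg : g.left.hom ≫ E₂.hom = E₁.hom := CostructuredArrow.w g
      obtain ⟨Z, hZ, b', c, hT⟩ := P.distinguished_cocone_triangle (f.left.hom - g.left.hom)
        E₁.left.property E₂.left.property
      obtain ⟨c', hc'⟩ := Pretriangulated.Triangle.yoneda_exact₂ _ hT E₂.hom (by
        change (f.left.hom - g.left.hom) ≫ E₂.hom = 0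
        rw [Preadditive.sub_comp, hf, hg, sub_self])
      change E₂.hom = b' ≫ c' at hc'
      refine ⟨CostructuredArrow.mk (S := P.ι) (Y := (⟨Z, hZ⟩ : P.FullSubcategory)) (show P.ι.obj ⟨Z, hZ⟩ ⟶ X from c'),
        CostructuredArrow.homMk (ObjectProperty.homMk b') hc'.symm, ?_⟩
      apply CostructuredArrow.hom_ext
      apply ObjectProperty.hom_ext
      change f.left.hom ≫ b' = g.left.hom ≫ b'
      have h0 : (f.left.hom - g.left.hom) ≫ b' = 0 :=
        Pretriangulated.comp_distTriang_mor_zero₁₂ _ hT
      rw [Preadditive.sub_comp, sub_eq_zero] at h0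
      exact h0
  exact {}

end Groth.Agent.S6708
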