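import Groth.Statements.S6712
import Groth.Agent.S2387
import Mathlib

set_option autoImplicit false
universe u
open CategoryTheory AlgebraicGeometry
open DEquiv

namespace Groth.Agent.S6712

open CategoryTheory.Limits in
/-- Let S be a Noetherian scheme, s ∈ S, and p : X ⟶ Y a morphism over S where X ⟶ S and Y ⟶ S are
proper and X ⟶ S is flat. If the fibre X_s ⟶ Y_s of p is an isomorphism, then there is an open
neighbourhood U of s such that the base change X_U ⟶ Y_U of p is an isomorphism. -/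
theorem result
    {S X Y : Scheme.{u}} [IsNoetherian S] (s : S) (g : X ⟶ S) (h : Y ⟶ S) (p : X ⟶ Y)
    (w : p ≫ h = g) [IsProper g] [IsProper h] [Flat g]
    (hs : IsIso (pullback.map g (S.fromSpecResidueField s) h (S.fromSpecResidueField s) p (𝟙 _)
      (𝟙 _) ((Category.comp_id g).trans w.symm)
      ((Category.comp_id _).trans (Category.id_comp _).symm))) :
    ∃ U : S.Opens, s ∈ U ∧
      IsIso (pullback.map g U.ι h U.ι p (𝟙 _) (𝟙 _) ((Category.comp_id g).trans w.symm)
        ((Category.comp_id _).trans (Category.id_comp _).symm)) := by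
  haveI : IsIso (CohIII.fiberMapOver p g h w s) := hs
  obtain ⟨U, hsU, hiso⟩ := Groth.Agent.S2387.result p g h w s
  refine ⟨U, hsU, ?_⟩
  set pm := pullback.map g U.ι h U.ι p (𝟙 _) (𝟙 _) ((Category.comp_id g).trans w.symm)
    ((Category.comp_id _).trans (Category.id_comp _).symm) with hpm
  have h1 : pm ≫ pullback.snd h U.ι = pullback.snd g U.ι := by
    rw [hpm, pullback.lift_snd, Category.comp_id]
  have h2 : pm ≫ pullback.fst h U.ι = pullback.fst g U.ι ≫ p := by
    rw [hpm, pullback.lift_fst]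
  have sq : IsPullback pm (pullback.fst g U.ι) (pullback.fst h U.ι) p := by
    refine IsPullback.of_right ?_ h2 (IsPullback.of_hasPullback h U.ι).flip
    rw [h1, w]
    exact (IsPullback.of_hasPullback g U.ι).flip
  -- factor `pullback.fst h U.ι` through the open subscheme `h ⁻¹ᵁ U`
  have he : (pullbackRestrictIsoRestrict h U).hom ≫ (h ⁻¹ᵁ U).ι = pullback.fst h U.ι :=
    pullbackRestrictIsoRestrict_hom_ι h U
  have hres := (isPullback_morphismRestrict p (h ⁻¹ᵁ U)).flip
  let e' : pullback g U.ι ⟶ (p ⁻¹ᵁ (h ⁻¹ᵁ U)).toScheme :=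
    hres.lift (pullback.fst g U.ι) (pm ≫ (pullbackRestrictIsoRestrict h U).hom)
      (by rw [Category.assoc, he, h2])
  have he'1 : e' ≫ (p ⁻¹ᵁ (h ⁻¹ᵁ U)).ι = pullback.fst g U.ι := hres.lift_fst _ _ _
  have he'2 : e' ≫ p ∣_ (h ⁻¹ᵁ U) = pm ≫ (pullbackRestrictIsoRestrict h U).hom :=
    hres.lift_snd _ _ _
  have sq2 : IsPullback e' pm (p ∣_ (h ⁻¹ᵁ U)) (pullbackRestrictIsoRestrict h U).hom := by
    refine IsPullback.of_right ?_ he'2 hres
    rw [he'1, he]
    exact sq.flip
  exact sq2.isIso_snd_of_isIso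

end Groth.Agent.S6712
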