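import Groth.Statements.S6774
import Mathlib

set_option autoImplicit false
open CategoryTheory
universe v u v' u'
open scoped TensorProduct
open DeltaF

namespace Groth.Agent.S6774

/-- Two universal cohomological delta-functors (indexed by `ℕ`) with isomorphic degree-`0` functors are
isomorphic as delta-functors, by a unique isomorphism extending the given one in degree `0`. -/
theorem result {A : Type u} [Category.{v} A] [Abelian A] {B : Type u'} [Category.{v'} B] [Abelian B] (T T' : DeltaF.CohDeltaFunctor A B ℕ) (hT : T.IsUniversal) (hT' : T'.IsUniversal) (e : T.F 0 ≅ T'.F 0) : ∃! φ : T ≅ T', φ.hom.app 0 = e.hom := by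
  obtain ⟨φ, hφ, hφu⟩ := hT T' e.hom
  obtain ⟨ψ, hψ, hψu⟩ := hT' T e.inv
  have h1 : φ ≫ ψ = 𝟙 T := by
    obtain ⟨τ, hτ, hτu⟩ := hT T (𝟙 (T.F 0))
    have a1 : φ ≫ ψ = τ := hτu _ (by
      change φ.app 0 ≫ ψ.app 0 = 𝟙 _
      rw [hφ, hψ, Iso.hom_inv_id])
    have a2 : 𝟙 T = τ := hτu _ rfl
    rw [a1, a2]
  have h2 : ψ ≫ φ = 𝟙 T' := by
    obtain ⟨τ, hτ, hτu⟩ := hT' T' (𝟙 (T'.F 0))
    have a1 : ψ ≫ φ = τ := hτu _ (by
      change ψ.app 0 ≫ φ.app 0 = 𝟙 _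
      rw [hφ, hψ, Iso.inv_hom_id])
    have a2 : 𝟙 T' = τ := hτu _ rfl
    rw [a1, a2]
  refine ⟨⟨φ, ψ, h1, h2⟩, hφ, ?_⟩
  intro χ hχ
  apply Iso.ext
  exact hφu χ.hom hχ

end Groth.Agent.S6774
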