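import Groth.Statements.S6786
import Mathlib
import Groth.Agent.Helper3.MLExact

set_option autoImplicit false
open CategoryTheory CategoryTheory.Limits
universe u
open scoped TensorProduct
open HomAlg3

namespace Groth.Agent.S6786

/-- For a sequence `(A_i) ⟶ (B_i) ⟶ (C_i) ⟶ (D_i)` of inverse systems of abelian groups over `ℕ` that is
exact levelwise at the two middle places, if `(A_i)` is Mittag-Leffler then `lim B_i ⟶ lim C_i ⟶ lim
D_i` is exact. -/
theorem result {A B C D : ℕᵒᵖ ⥤ AddCommGrpCat.{u}} (a : A ⟶ B) (b : B ⟶ C) (c : C ⟶ D) (hB : ∀ i, (b.app i).hom.ker = (a.app i).hom.range) (hC : ∀ i, (c.app i).hom.ker = (b.app i).hom.range) (hA : (A ⋙ forget AddCommGrpCat).IsMittagLeffler) : (limMap c).hom.ker = (limMap b).hom.range := by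
  ext z
  constructor
  · intro hz
    rw [AddMonoidHom.mem_ker] at hz
    let zi : ∀ i, C.obj i := fun i => (limit.π C i).hom z
    have hzc : ∀ (i j : ℕᵒᵖ) (f : i ⟶ j), (C.map f).hom (zi i) = zi j := fun i j f => by
      have := congrArg (fun φ => φ.hom z) (limit.w C f)
      exact this
    have hzb : ∀ i, zi i ∈ (b.app i).hom.range := by
      intro i
      rw [← hC i, AddMonoidHom.mem_ker]
      have h1 := congrArg (fun φ => φ.hom z) (limMap_π c i)
      have h2 : (c.app i).hom (zi i) = (limit.π D i).hom ((limMap c).hom z) := h1.symm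
      rw [h2, hz, map_zero]
    obtain ⟨y, hy1, hy2⟩ := Groth.Agent.Helper3.MLExact.exists_section a b zi hzc hB hA hzb
    let hl := isLimitOfPreserves (forget AddCommGrpCat) (limit.isLimit B)
    let e := Types.isLimitEquivSections hl
    let yy : (limit B : AddCommGrpCat) := e.symm ⟨y, fun {i j} f => hy1 i j f⟩
    have hyy : ∀ i, (limit.π B i).hom yy = y i := fun i =>
      Types.isLimitEquivSections_symm_apply hl _ i
    refine ⟨yy, ?_⟩
    apply Concrete.limit_ext
    intro i
    have h1 := congrArg (fun φ => φ.hom yy) (limMap_π b i)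
    have h2 : (limit.π C i).hom ((limMap b).hom yy) = (b.app i).hom ((limit.π B i).hom yy) := h1
    change (limit.π C i).hom ((limMap b).hom yy) = zi i
    rw [h2, hyy, hy2]
  · rintro ⟨y, rfl⟩
    rw [AddMonoidHom.mem_ker]
    apply Concrete.limit_ext
    intro i
    have h1 := congrArg (fun φ => φ.hom ((limMap b).hom y)) (limMap_π c i)
    have h2 := congrArg (fun φ => φ.hom y) (limMap_π b i)
    have h3 : (limit.π D i).hom ((limMap c).hom ((limMap b).hom y)) =
        (c.app i).hom ((b.app i).hom ((limit.π B i).hom y)) := by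
      refine h1.trans ?_
      exact congrArg (c.app i).hom h2
    have h4 : (b.app i).hom ((limit.π B i).hom y) ∈ (c.app i).hom.ker := by
      rw [hC i]; exact ⟨_, rfl⟩
    change (limit.π D i).hom ((limMap c).hom ((limMap b).hom y)) = (limit.π D i).hom 0
    rw [h3, map_zero]
    exact h4

end Groth.Agent.S6786
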