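import Groth.Statements.S6790
import Mathlib

set_option autoImplicit false
open CategoryTheory CategoryTheory.Limits MonoidalCategory
universe v u
open scoped TensorProduct
open CategoryTheory CategoryTheory.Monoidal

namespace Groth.Agent.S6790

-- generic zigzag lemma for retracts
theorem zig2 {A : Type u} [Category.{v} A] [MonoidalCategory A] {X X₁ Y Y₁ : A} (η : 𝟙_ A ⟶ X ⊗ Y) (ε : Y ⊗ X ⟶ 𝟙_ A)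
    (i : X₁ ⟶ X) (p : X ⟶ X₁) (j : Y₁ ⟶ Y) (q : Y ⟶ Y₁) (f : Y ⟶ Y)
    (hip : i ≫ p = 𝟙 X₁) (hqj : q ≫ j = f)
    (hf : f ▷ X ≫ ε = Y ◁ (p ≫ i) ≫ ε)
    (hz : η ▷ X ≫ (α_ _ _ _).hom ≫ X ◁ ε = (λ_ X).hom ≫ (ρ_ X).inv) :
    (η ≫ (p ⊗ₘ q)) ▷ X₁ ≫ (α_ _ _ _).hom ≫ X₁ ◁ ((j ⊗ₘ i) ≫ ε) = (λ_ X₁).hom ≫ (ρ_ X₁).inv := by
  calc (η ≫ (p ⊗ₘ q)) ▷ X₁ ≫ (α_ _ _ _).hom ≫ X₁ ◁ ((j ⊗ₘ i) ≫ ε)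
      = 𝟙 _ ⊗≫ η ▷ X₁ ≫ (p ▷ Y) ▷ X₁ ⊗≫ X₁ ◁ ((q ≫ j) ▷ X₁) ≫ X₁ ◁ (Y ◁ i) ≫ X₁ ◁ ε ⊗≫ 𝟙 _ := by
        simp only [MonoidalCategory.tensorHom_def]
        monoidal
    _ = 𝟙 _ ⊗≫ η ▷ X₁ ≫ (p ▷ Y) ▷ X₁ ⊗≫ X₁ ◁ (f ▷ X₁ ≫ Y ◁ i) ≫ X₁ ◁ ε ⊗≫ 𝟙 _ := by
        rw [hqj]
        monoidal
    _ = 𝟙 _ ⊗≫ η ▷ X₁ ≫ (p ▷ Y) ▷ X₁ ⊗≫ X₁ ◁ (Y ◁ i ≫ f ▷ X) ≫ X₁ ◁ ε ⊗≫ 𝟙 _ := by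
        rw [← whisker_exchange]
    _ = 𝟙 _ ⊗≫ η ▷ X₁ ≫ (p ▷ Y) ▷ X₁ ⊗≫ X₁ ◁ (Y ◁ i) ≫ X₁ ◁ (f ▷ X ≫ ε) ⊗≫ 𝟙 _ := by
        monoidal
    _ = 𝟙 _ ⊗≫ η ▷ X₁ ≫ (p ▷ Y) ▷ X₁ ⊗≫ X₁ ◁ (Y ◁ (i ≫ p ≫ i)) ≫ X₁ ◁ ε ⊗≫ 𝟙 _ := by
        rw [hf]
        monoidal
    _ = 𝟙 _ ⊗≫ η ▷ X₁ ≫ ((p ▷ Y) ▷ X₁ ≫ (X₁ ⊗ Y) ◁ i) ⊗≫ X₁ ◁ ε ⊗≫ 𝟙 _ := by
        rw [reassoc_of% hip]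
        monoidal
    _ = 𝟙 _ ⊗≫ (η ▷ X₁ ≫ (X ⊗ Y) ◁ i) ≫ (p ▷ Y) ▷ X ⊗≫ X₁ ◁ ε ⊗≫ 𝟙 _ := by
        rw [← whisker_exchange]
        monoidal
    _ = 𝟙 _ ⊗≫ 𝟙_ A ◁ i ≫ η ▷ X ⊗≫ (p ▷ (Y ⊗ X) ≫ X₁ ◁ ε) ⊗≫ 𝟙 _ := by
        rw [← whisker_exchange]
        monoidal
    _ = 𝟙 _ ⊗≫ 𝟙_ A ◁ i ≫ (η ▷ X ≫ (α_ _ _ _).hom ≫ X ◁ ε) ≫ p ▷ 𝟙_ A ⊗≫ 𝟙 _ := by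
        rw [← whisker_exchange]
        monoidal
    _ = (λ_ X₁).hom ≫ (i ≫ p) ≫ (ρ_ X₁).inv := by
        rw [hz]
        monoidal
    _ = (λ_ X₁).hom ≫ (ρ_ X₁).inv := by rw [hip, Category.id_comp]

theorem zig1 {A : Type u} [Category.{v} A] [MonoidalCategory A] {X X₁ Y Y₁ : A} (η : 𝟙_ A ⟶ X ⊗ Y) (ε : Y ⊗ X ⟶ 𝟙_ A)
    (i : X₁ ⟶ X) (p : X ⟶ X₁) (j : Y₁ ⟶ Y) (q : Y ⟶ Y₁) (f : Y ⟶ Y)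
    (hjq : j ≫ q = 𝟙 Y₁) (hqj : q ≫ j = f)
    (hf : η ≫ (p ≫ i) ▷ Y = η ≫ X ◁ f)
    (hz : Y ◁ η ≫ (α_ _ _ _).inv ≫ ε ▷ Y = (ρ_ Y).hom ≫ (λ_ Y).inv) :
    Y₁ ◁ (η ≫ (p ⊗ₘ q)) ≫ (α_ _ _ _).inv ≫ ((j ⊗ₘ i) ≫ ε) ▷ Y₁ = (ρ_ Y₁).hom ≫ (λ_ Y₁).inv := by
  have hfq : f ≫ q = q := by rw [← hqj, Category.assoc, hjq, Category.comp_id]
  calc Y₁ ◁ (η ≫ (p ⊗ₘ q)) ≫ (α_ _ _ _).inv ≫ ((j ⊗ₘ i) ≫ ε) ▷ Y₁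
      = 𝟙 _ ⊗≫ Y₁ ◁ η ≫ Y₁ ◁ (p ▷ Y) ≫ Y₁ ◁ (X₁ ◁ q) ⊗≫ (j ▷ X₁ ≫ Y ◁ i) ▷ Y₁ ≫ ε ▷ Y₁ ⊗≫ 𝟙 _ := by
        simp only [MonoidalCategory.tensorHom_def]
        monoidal
    _ = 𝟙 _ ⊗≫ Y₁ ◁ η ≫ Y₁ ◁ (p ▷ Y) ≫ Y₁ ◁ (X₁ ◁ q) ⊗≫ (Y₁ ◁ i ≫ j ▷ X) ▷ Y₁ ≫ ε ▷ Y₁ ⊗≫ 𝟙 _ := by
        rw [whisker_exchange]
    _ = 𝟙 _ ⊗≫ Y₁ ◁ η ≫ Y₁ ◁ (p ▷ Y) ≫ Y₁ ◁ (X₁ ◁ q ≫ i ▷ Y₁) ⊗≫ (j ▷ X) ▷ Y₁ ≫ ε ▷ Y₁ ⊗≫ 𝟙 _ := by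
        monoidal
    _ = 𝟙 _ ⊗≫ Y₁ ◁ η ≫ Y₁ ◁ (p ▷ Y) ≫ Y₁ ◁ (i ▷ Y ≫ X ◁ q) ⊗≫ (j ▷ X) ▷ Y₁ ≫ ε ▷ Y₁ ⊗≫ 𝟙 _ := by
        rw [whisker_exchange]
    _ = 𝟙 _ ⊗≫ Y₁ ◁ (η ≫ (p ≫ i) ▷ Y) ≫ Y₁ ◁ (X ◁ q) ⊗≫ (j ▷ X) ▷ Y₁ ≫ ε ▷ Y₁ ⊗≫ 𝟙 _ := by
        monoidal
    _ = 𝟙 _ ⊗≫ Y₁ ◁ η ≫ Y₁ ◁ (X ◁ (f ≫ q)) ⊗≫ (j ▷ X) ▷ Y₁ ≫ ε ▷ Y₁ ⊗≫ 𝟙 _ := by
        rw [hf]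
        monoidal
    _ = 𝟙 _ ⊗≫ Y₁ ◁ η ⊗≫ ((Y₁ ⊗ X) ◁ q ≫ (j ▷ X) ▷ Y₁) ≫ ε ▷ Y₁ ⊗≫ 𝟙 _ := by
        rw [hfq]
        monoidal
    _ = 𝟙 _ ⊗≫ Y₁ ◁ η ⊗≫ (j ▷ X) ▷ Y ≫ ((Y ⊗ X) ◁ q ≫ ε ▷ Y₁) ⊗≫ 𝟙 _ := by
        rw [whisker_exchange]
        monoidal
    _ = 𝟙 _ ⊗≫ (Y₁ ◁ η ≫ j ▷ (X ⊗ Y)) ⊗≫ ε ▷ Y ≫ 𝟙_ A ◁ q ⊗≫ 𝟙 _ := by
        rw [whisker_exchange]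
        monoidal
    _ = 𝟙 _ ⊗≫ j ▷ 𝟙_ A ≫ (Y ◁ η ≫ (α_ _ _ _).inv ≫ ε ▷ Y) ≫ 𝟙_ A ◁ q ⊗≫ 𝟙 _ := by
        rw [whisker_exchange]
        monoidal
    _ = (ρ_ Y₁).hom ≫ (j ≫ q) ≫ (λ_ Y₁).inv := by
        rw [hz]
        monoidal
    _ = (ρ_ Y₁).hom ≫ (λ_ Y₁).inv := by rw [hjq, Category.id_comp]


/-- In an idempotent-complete additive monoidal category, a direct summand of an object admitting a dual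
(with coevaluation `𝟙_ A ⟶ X ⊗ Y` and evaluation `Y ⊗ X ⟶ 𝟙_ A`) again admits such a dual. -/
theorem result {A : Type u} [Category.{v} A] [Preadditive A] [HasFiniteBiproducts A] [MonoidalCategory A] [MonoidalPreadditive A] [IsIdempotentComplete A] {X X₁ : A} (i : X₁ ⟶ X) (p : X ⟶ X₁) (hip : i ≫ p = 𝟙 X₁) [HasRightDual X] : Nonempty (HasRightDual X₁) := by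
  have hee : (p ≫ i) ≫ (p ≫ i) = p ≫ i := by
    rw [Category.assoc, reassoc_of% hip]
  have hee' : ((p ≫ i)ᘁ) ≫ ((p ≫ i)ᘁ) = ((p ≫ i)ᘁ) := by
    rw [← comp_rightAdjointMate, hee]
  obtain ⟨Y₁, j, q, hjq, hqj⟩ := IsIdempotentComplete.idempotents_split (Xᘁ) ((p ≫ i)ᘁ) hee'
  refine ⟨{ rightDual := Y₁,
            exact := { coevaluation' := η_ X (Xᘁ) ≫ (p ⊗ₘ q),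
                       evaluation' := (j ⊗ₘ i) ≫ ε_ X (Xᘁ),
                       coevaluation_evaluation' := ?_,
                       evaluation_coevaluation' := ?_ } }⟩
  · exact zig1 (η_ X (Xᘁ)) (ε_ X (Xᘁ)) i p j q ((p ≫ i)ᘁ) hjq hqj
      (coevaluation_comp_rightAdjointMate (p ≫ i)).symm
      (ExactPairing.coevaluation_evaluation X (Xᘁ))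
  · exact zig2 (η_ X (Xᘁ)) (ε_ X (Xᘁ)) i p j q ((p ≫ i)ᘁ) hip hqj
      (rightAdjointMate_comp_evaluation (p ≫ i))
      (ExactPairing.evaluation_coevaluation X (Xᘁ))

end Groth.Agent.S6790
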