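import Groth.Statements.S6791
import Mathlib

set_option autoImplicit false
open CategoryTheory CategoryTheory.Limits
universe v u v' u' v'' u''
open scoped TensorProduct
open CategoryTheory CategoryTheory.SerreClass

namespace Groth.Agent.S6791

/-- For an exact functor `F : A ⥤ B` of abelian categories and a Serre class `P` of `A` killed by `F`,
with `L : A ⥤ Q` a model of the quotient `A/P` and `Fbar : Q ⥤ B` the induced functor, `P` is
exactly the kernel of `F` if and only if `Fbar` is faithful. -/
theorem result {A : Type u} [Category.{v} A] [Abelian A] {B : Type u'} [Category.{v'} B] [Abelian B] (F : A ⥤ B) [F.Additive] [PreservesFiniteLimits F] [PreservesFiniteColimits F] (P : ObjectProperty A) [P.IsSerreClass] (hP : ∀ X : A, P X → IsZero (F.obj X)) {Q : Type u''} [Category.{v''} Q] [Abelian Q] (L : A ⥤ Q) [L.IsLocalization P.isoModSerre] [L.Additive] [PreservesFiniteLimits L] [PreservesFiniteColimits L] (Fbar : Q ⥤ B) (e : L ⋙ Fbar ≅ F) : (∀ X : A, IsZero (F.obj X) → P X) ↔ Fbar.Faithful := by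
  have hFimg : ∀ {X Y : A} (h : X ⟶ Y), F.map h = 0 → IsZero (F.obj (Abelian.image h)) := by
    intro X Y h hh
    have h1 : F.map (Abelian.factorThruImage h) ≫ F.map (Abelian.image.ι h) = 0 := by
      rw [← F.map_comp, Abelian.image.fac, hh]
    have h2 : F.map (Abelian.factorThruImage h) = 0 := zero_of_comp_mono _ h1
    exact IsZero.of_epi_eq_zero _ h2
  constructor
  · intro hker
    haveI : L.EssSurj := Localization.essSurj L P.isoModSerre
    constructor
    intro a b f g hfg
    let ea : L.obj (L.objPreimage a) ≅ a := L.objObjPreimageIso a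
    let eb : L.obj (L.objPreimage b) ≅ b := L.objObjPreimageIso b
    suffices h : ea.hom ≫ f ≫ eb.inv = ea.hom ≫ g ≫ eb.inv by
      have h' := congrArg (fun t => ea.inv ≫ t ≫ eb.hom) h
      simpa using h'
    obtain ⟨φ, h1, h2⟩ := Localization.exists_leftFraction₂ L P.isoModSerre
      (ea.hom ≫ f ≫ eb.inv) (ea.hom ≫ g ≫ eb.inv)
    have h3 : Fbar.map (ea.hom ≫ f ≫ eb.inv) = Fbar.map (ea.hom ≫ g ≫ eb.inv) := by
      simp only [Functor.map_comp, hfg]
    rw [h1, h2] at h3
    have h4 : Fbar.map (L.map φ.f) = Fbar.map (L.map φ.f') := by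
      have := congrArg (fun t => t ≫ Fbar.map (L.map φ.s)) h3
      simp only [← Functor.map_comp] at this
      rw [MorphismProperty.LeftFraction.map_comp_map_s,
        MorphismProperty.LeftFraction.map_comp_map_s] at this
      exact this
    have h5 : F.map φ.f = F.map φ.f' := by
      have n1 := e.hom.naturality φ.f
      have n2 := e.hom.naturality φ.f'
      simp only [Functor.comp_map] at n1 n2
      rw [← cancel_epi (e.hom.app _), ← n1, ← n2, h4]
    have h6 : F.map (φ.f - φ.f') = 0 := by rw [Functor.map_sub, h5, sub_self]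
    have h7 : P (Abelian.image (φ.f - φ.f')) := hker _ (hFimg _ h6)
    have h8 : L.map (φ.f - φ.f') = 0 := (ObjectProperty.SerreClassLocalization.map_eq_zero_iff L P _).2 h7
    have h9 : L.map φ.f = L.map φ.f' := by
      rw [Functor.map_sub, sub_eq_zero] at h8
      exact h8
    rw [h1, h2]
    simp only [MorphismProperty.LeftFraction.map, MorphismProperty.LeftFraction₂.fst,
      MorphismProperty.LeftFraction₂.snd]
    rw [h9]
  · intro hfaith X hX
    rw [← ObjectProperty.SerreClassLocalization.isZero_obj_iff L P X, IsZero.iff_id_eq_zero]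
    apply Fbar.map_injective
    have hz : IsZero (Fbar.obj (L.obj X)) := IsZero.of_iso hX (e.app X)
    exact hz.eq_of_src _ _

end Groth.Agent.S6791
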