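import Groth.Statements.S6795

set_option autoImplicit false
open CategoryTheory CategoryTheory.Limits
universe v u
open CategoryTheory CategoryTheory.Preadditive

namespace Groth.Agent.S6795

/-- A preadditive category with countable products in which split epimorphisms have kernels is
idempotent complete (Karoubian). -/
theorem result {D : Type u} [Category.{v} D] [Preadditive D] [HasCountableProducts D] (hk : ∀ ⦃X Y : D⦄ (f : X ⟶ Y), IsSplitEpi f → HasKernel f) : IsIdempotentComplete D := by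
  rw [Idempotents.isIdempotentComplete_iff_idempotents_have_kernels]
  intro X e he
  let P : D := ∏ᶜ (fun _ : ℕ => X)
  let π : ∀ n : ℕ, P ⟶ X := fun n => Pi.π (fun _ : ℕ => X) n
  let Φ : P ⟶ P := Pi.lift (fun n => π n ≫ e + π (n+1) ≫ (𝟙 X - e))
  let Ψ : P ⟶ P := Pi.lift (fun n => match n with
    | 0 => π 0
    | (k+1) => π k ≫ (𝟙 X - e) + π (k+1) ≫ e)
  have hΦ : ∀ n, Φ ≫ π n = π n ≫ e + π (n+1) ≫ (𝟙 X - e) := fun n => by
    simp [Φ, π]
  have hΨ0 : Ψ ≫ π 0 = π 0 := by simp [Ψ, π]
  have hΨs : ∀ k, Ψ ≫ π (k+1) = π k ≫ (𝟙 X - e) + π (k+1) ≫ e := fun k => by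
    simp [Ψ, π]
  have he1 : (𝟙 X - e) ≫ e = 0 := by simp [Preadditive.sub_comp, he]
  have he2 : e ≫ (𝟙 X - e) = 0 := by simp [Preadditive.comp_sub, he]
  have he3 : (𝟙 X - e) ≫ (𝟙 X - e) = 𝟙 X - e := by
    simp [Preadditive.comp_sub, Preadditive.sub_comp, he]
  have hΨΦ : Ψ ≫ Φ = 𝟙 P := by
    apply Pi.hom_ext
    intro n
    change (Ψ ≫ Φ) ≫ π n = 𝟙 P ≫ π n
    rw [Category.assoc, hΦ, Preadditive.comp_add, ← Category.assoc, ← Category.assoc, Category.id_comp]
    cases n with
    | zero =>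
      rw [hΨ0, hΨs, Preadditive.add_comp, Category.assoc, Category.assoc, he3, he2]
      simp [Preadditive.comp_sub]
    | succ k =>
      rw [hΨs, hΨs, Preadditive.add_comp, Preadditive.add_comp, Category.assoc, Category.assoc,
        Category.assoc, Category.assoc, he1, he, he3, he2]
      simp [Preadditive.comp_sub]
  have hsplit : IsSplitEpi Φ := ⟨⟨⟨Ψ, hΨΦ⟩⟩⟩
  haveI : HasKernel Φ := hk Φ hsplit
  let ι : kernel Φ ⟶ P := kernel.ι Φ
  have hι : ι ≫ Φ = 0 := kernel.condition Φ
  have h1 : ∀ n, ι ≫ π n ≫ e + ι ≫ π (n+1) ≫ (𝟙 X - e) = 0 := fun n => by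
    have := congrArg (fun f => f ≫ π n) hι
    simp only [Category.assoc, hΦ, zero_comp, Preadditive.comp_add] at this
    exact this
  have h2 : ∀ n, ι ≫ π n ≫ e = 0 := fun n => by
    have := congrArg (fun f => f ≫ e) (h1 n)
    simp only [Preadditive.add_comp, Category.assoc, he, he1, comp_zero, add_zero, zero_comp] at this
    exact this
  have h3 : ∀ n, ι ≫ π (n+1) = 0 := fun n => by
    have h := h1 n
    rw [h2 n, zero_add, Preadditive.comp_sub, Preadditive.comp_sub, h2 (n+1), sub_zero,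
      Category.comp_id] at h
    exact h
  refine HasLimit.mk ⟨KernelFork.ofι (ι ≫ π 0) (by rw [Category.assoc]; exact h2 0), ?_⟩
  refine KernelFork.IsLimit.ofι _ _ (fun {W} s hs => kernel.lift Φ
      (Pi.lift (fun n => match n with
        | 0 => s
        | (_+1) => 0)) ?_) ?_ ?_
  · apply Pi.hom_ext
    intro n
    change _ ≫ π n = _ ≫ π n
    rw [Category.assoc, hΦ, zero_comp]
    cases n with
    | zero => simp [π, hs]
    | succ k => simp [π]
  · intro W s hs
    rw [← Category.assoc]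
    change (kernel.lift Φ _ _ ≫ kernel.ι Φ) ≫ π 0 = s
    rw [kernel.lift_ι]
    simp [π]
  · intro W s hs m hm
    rw [← cancel_mono (kernel.ι Φ), kernel.lift_ι]
    apply Pi.hom_ext
    intro n
    change _ ≫ π n = _ ≫ π n
    cases n with
    | zero =>
      rw [Category.assoc]
      change m ≫ ι ≫ π 0 = _
      rw [hm]
      simp [π]
    | succ k =>
      rw [Category.assoc]
      change m ≫ ι ≫ π (k+1) = _
      rw [h3]
      simp [π]

end Groth.Agent.S6795
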