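import Groth.Statements.S6796
import Groth.Agent.S6795
import Mathlib.CategoryTheory.Limits.Shapes.Opposites.Products
import Mathlib.CategoryTheory.Preadditive.Opposite
import Mathlib.CategoryTheory.Limits.Shapes.Opposites.Kernels

set_option autoImplicit false
open CategoryTheory CategoryTheory.Limits
universe v u
open CategoryTheory CategoryTheory.Preadditive

namespace Groth.Agent.S6796

/-- A preadditive category with countable coproducts in which split monomorphisms have cokernels is
idempotent complete (Karoubian). -/
theorem result {D : Type u} [Category.{v} D] [Preadditive D] [HasCountableCoproducts D] (hk : ∀ ⦃X Y : D⦄ (f : X ⟶ Y), IsSplitMono f → HasCokernel f) : IsIdempotentComplete D := by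
  rw [← Idempotents.isIdempotentComplete_iff_opposite]
  haveI : HasCountableProducts Dᵒᵖ := ⟨fun J _ => inferInstance⟩
  apply Groth.Agent.S6795.result
  intro X Y f hf
  obtain ⟨⟨s, hs⟩⟩ := hf
  have hsm : IsSplitMono f.unop := ⟨⟨⟨s.unop, by rw [← unop_comp, hs]; rfl⟩⟩⟩
  haveI := hk f.unop hsm
  have := CokernelCofork.IsColimit.ofπOp (cokernel.π f.unop) (cokernel.condition _)
    (cokernelIsCokernel f.unop)
  exact ⟨⟨_, this⟩⟩

end Groth.Agent.S6796
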