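import Groth.Statements.S6800
import Mathlib
import Groth.Agent.Helper3.TruncFin

set_option autoImplicit false
open CategoryTheory CategoryTheory.Limits
universe v u
open scoped TensorProduct
open CategoryTheory CategoryTheory.SimplicialObject CategoryTheory.SimplicialObject.Truncated

namespace Groth.Agent.S6800

/-- In a category with finite limits every truncated simplicial object has a pointwise right Kan
extension along the inclusion of the truncated simplex category, i.e. the coskeleton functors exist
and are given by the limit formula. -/
theorem result {C : Type u} [Category.{v} C] [HasFiniteLimits C] (m : ℕ) (U : (SimplexCategory.Truncated m)ᵒᵖ ⥤ C) : (SimplexCategory.Truncated.inclusion m).op.HasPointwiseRightKanExtension U := by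
  intro Y
  have h1 : ∀ a b : (SimplexCategory.Truncated m)ᵒᵖ, Finite (a ⟶ b) := fun a b =>
    Finite.of_injective (fun f => f.unop) (fun f g h => Quiver.Hom.unop_inj h)
  have h2 : ∀ a b : SimplexCategoryᵒᵖ, Finite (a ⟶ b) := fun a b =>
    Finite.of_injective (fun f => f.unop) (fun f g h => Quiver.Hom.unop_inj h)
  have h3 : Finite (SimplexCategory.Truncated m)ᵒᵖ :=
    Finite.of_injective (fun a => a.unop) (fun a b h => Opposite.unop_injective h)
  have := Groth.Agent.Helper3.TruncFin.hasLimitsOfShape_of_finite (C := C)
    (StructuredArrow Y (SimplexCategory.Truncated.inclusion m).op)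
  infer_instance

end Groth.Agent.S6800
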