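import Groth.Statements.S6801
import Mathlib
import Groth.Agent.Helper9.FM2
-- import your own Groth.Agent.* helpers here

set_option autoImplicit false
open CategoryTheory
universe v u
open SpSeq SpSeq.FilObj

namespace Groth.Agent.S6801

/-- The composite of two strict morphisms of filtered objects is strict when the second one is a
monomorphism. (In general a composite of strict morphisms is not strict.) -/
theorem result {A : Type u} [Category.{v} A] [Abelian A] {K L M : SpSeq.FilObj A} (f : K ⟶ L) (g : L ⟶ M) (hf : SpSeq.FilObj.IsStrict f) (hg : SpSeq.FilObj.IsStrict g) [Mono g.hom] : SpSeq.FilObj.IsStrict (f ≫ g) := by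
  intro p
  have hf' := hf p
  have hg' := hg p
  rw [Groth.Agent.Helper9.FM.eq_iff_sub_eq] at hf' hg' ⊢
  rw [Groth.Agent.Helper9.FM.sub_image_comp, Groth.Agent.Helper9.FM.sub_inf,
    Groth.Agent.Helper9.FM.sub_image] at hf' hg' ⊢
  have hcomp : (f ≫ g).hom = f.hom ≫ g.hom := rfl
  have hinj : Function.Injective (Groth.Agent.Helper9.FM.m g.hom) :=
    (Groth.Agent.Helper9.FM.mono_iff _).1 inferInstance
  rw [hcomp, Groth.Agent.Helper9.FM.m_comp, LinearMap.range_comp, Submodule.map_comp, hf']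
  apply le_antisymm
  · rintro _ ⟨l, ⟨hl1, hl2⟩, rfl⟩
    refine ⟨⟨l, hl1, rfl⟩, ?_⟩
    have : Groth.Agent.Helper9.FM.m g.hom l ∈
        Submodule.map (Groth.Agent.Helper9.FM.m g.hom) (Groth.Agent.Helper9.FM.sub (L.fil p)) :=
      ⟨l, hl2, rfl⟩
    rw [hg'] at this
    exact this.2
  · rintro y ⟨⟨l, hl1, rfl⟩, hy2⟩
    have : Groth.Agent.Helper9.FM.m g.hom l ∈
        LinearMap.range (Groth.Agent.Helper9.FM.m g.hom) ⊓ Groth.Agent.Helper9.FM.sub (M.fil p) :=
      ⟨⟨l, rfl⟩, hy2⟩
    rw [← hg'] at this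
    obtain ⟨l', hl', hl'e⟩ := this
    have := hinj hl'e
    subst this
    exact ⟨l', ⟨hl1, hl'⟩, rfl⟩

end Groth.Agent.S6801
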