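import Groth.Statements.S6802
import Mathlib
import Groth.Agent.Helper9.FM2
-- import your own Groth.Agent.* helpers here

set_option autoImplicit false
open CategoryTheory
universe v u
open SpSeq SpSeq.FilObj

namespace Groth.Agent.S6802

/-- The composite of two strict morphisms of filtered objects is strict when the first one is an
epimorphism. -/
theorem result {A : Type u} [Category.{v} A] [Abelian A] {K L M : SpSeq.FilObj A} (f : K ⟶ L) (g : L ⟶ M) (hf : SpSeq.FilObj.IsStrict f) (hg : SpSeq.FilObj.IsStrict g) [Epi f.hom] : SpSeq.FilObj.IsStrict (f ≫ g) := by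
  intro p
  have hf' := hf p
  have hg' := hg p
  rw [Groth.Agent.Helper9.FM.eq_iff_sub_eq] at hf' hg' ⊢
  rw [Groth.Agent.Helper9.FM.sub_image_comp, Groth.Agent.Helper9.FM.sub_inf,
    Groth.Agent.Helper9.FM.sub_image] at hf' hg' ⊢
  have hcomp : (f ≫ g).hom = f.hom ≫ g.hom := rfl
  have hsurj : Function.Surjective (Groth.Agent.Helper9.FM.m f.hom) :=
    (Groth.Agent.Helper9.FM.epi_iff _).1 inferInstance
  rw [hcomp, Groth.Agent.Helper9.FM.m_comp, LinearMap.range_comp, Submodule.map_comp, hf',
    LinearMap.range_eq_top.2 hsurj, top_inf_eq, hg', Submodule.map_top]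

end Groth.Agent.S6802
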