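import Groth.Statements.S6808
import Mathlib

set_option autoImplicit false
open CategoryTheory Opposite
universe u
open SSet

namespace Groth.Agent.S6808

/-- A map of simplicial sets preserving non-degeneracy of simplices and injective on non-degenerate
simplices is injective in every dimension. -/
theorem result {U V : SSet.{u}} (f : U ⟶ V) (ha : ∀ (n : ℕ) (x : U.obj (op (SimplexCategory.mk n))), x ∈ U.nonDegenerate n → f.app (op (SimplexCategory.mk n)) x ∈ V.nonDegenerate n) (hb : ∀ n : ℕ, Set.InjOn (f.app (op (SimplexCategory.mk n))) (U.nonDegenerate n)) (n : ℕ) : Function.Injective (f.app (op (SimplexCategory.mk n))) := by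
  intro x₁ x₂ h12
  obtain ⟨m₁, σ₁, hσ₁, y₁, hy₁⟩ := SSet.exists_nonDegenerate U x₁
  obtain ⟨m₂, σ₂, hσ₂, y₂, hy₂⟩ := SSet.exists_nonDegenerate U x₂
  have nat₁ := NatTrans.naturality_apply f σ₁.op y₁.1
  have nat₂ := NatTrans.naturality_apply f σ₂.op y₂.1
  have e₁ : f.app (op (SimplexCategory.mk n)) x₁ =
      V.map σ₁.op (f.app (op (SimplexCategory.mk m₁)) y₁.1) := by rw [hy₁, nat₁]
  have e₂ : f.app (op (SimplexCategory.mk n)) x₁ =
      V.map σ₂.op (f.app (op (SimplexCategory.mk m₂)) y₂.1) := by rw [h12, hy₂, nat₂]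
  have hm : m₁ = m₂ := SSet.unique_nonDegenerate_dim V (f.app (op (SimplexCategory.mk n)) x₁)
    σ₁ ⟨_, ha m₁ y₁.1 y₁.2⟩ e₁ σ₂ ⟨_, ha m₂ y₂.1 y₂.2⟩ e₂
  subst hm
  have hs := SSet.unique_nonDegenerate_simplex V (f.app (op (SimplexCategory.mk n)) x₁)
    σ₁ ⟨_, ha m₁ y₁.1 y₁.2⟩ e₁ σ₂ ⟨_, ha m₁ y₂.1 y₂.2⟩ e₂
  have hmap := SSet.unique_nonDegenerate_map V (f.app (op (SimplexCategory.mk n)) x₁)
    σ₁ ⟨_, ha m₁ y₁.1 y₁.2⟩ e₁ σ₂ ⟨_, ha m₁ y₂.1 y₂.2⟩ e₂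
  have hy : y₁.1 = y₂.1 := hb m₁ y₁.2 y₂.2 (congrArg Subtype.val hs)
  rw [hy₁, hy₂, hmap, hy]

end Groth.Agent.S6808
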