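import Groth.Statements.S6816
import Mathlib

set_option autoImplicit false
open CategoryTheory CategoryTheory.Limits
universe v u
open scoped TensorProduct
open CochainComplex

namespace Groth.Agent.S6816

/-- The boundary morphisms `C ⟶ A⟦1⟧` attached to two degreewise splittings of a degreewise split
sequence `A ⟶ B ⟶ C` of cochain complexes are homotopic. -/
theorem result {C : Type u} [Category.{v} C] [Preadditive C] [HasBinaryBiproducts C] (S : ShortComplex (CochainComplex C ℤ)) (σ σ' : ∀ n : ℤ, (S.map (HomologicalComplex.eval C (ComplexShape.up ℤ) n)).Splitting) : Nonempty (Homotopy (CochainComplex.homOfDegreewiseSplit S σ) (CochainComplex.homOfDegreewiseSplit S σ')) := by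
  classical
  -- abbreviations for the structure maps in each degree
  let f : ∀ n : ℤ, S.X₁.X n ⟶ S.X₂.X n := fun n => S.f.f n
  let g : ∀ n : ℤ, S.X₂.X n ⟶ S.X₃.X n := fun n => S.g.f n
  let r : ∀ n : ℤ, S.X₂.X n ⟶ S.X₁.X n := fun n => (σ n).r
  let s : ∀ n : ℤ, S.X₃.X n ⟶ S.X₂.X n := fun n => (σ n).s
  let r' : ∀ n : ℤ, S.X₂.X n ⟶ S.X₁.X n := fun n => (σ' n).r
  let s' : ∀ n : ℤ, S.X₃.X n ⟶ S.X₂.X n := fun n => (σ' n).s
  have hfr : ∀ n, f n ≫ r n = 𝟙 _ := fun n => (σ n).f_r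
  have hsg : ∀ n, s n ≫ g n = 𝟙 _ := fun n => (σ n).s_g
  have hid : ∀ n, r n ≫ f n + g n ≫ s n = 𝟙 _ := fun n => (σ n).id
  have hfr' : ∀ n, f n ≫ r' n = 𝟙 _ := fun n => (σ' n).f_r
  have hsg' : ∀ n, s' n ≫ g n = 𝟙 _ := fun n => (σ' n).s_g
  have hsr' : ∀ n, s' n ≫ r' n = 0 := fun n => (σ' n).s_r
  have hfg : ∀ n, f n ≫ g n = 0 := fun n => by
    have := congrArg (fun φ => φ.f n) S.zero
    exact this
  let u : ∀ n : ℤ, S.X₃.X n ⟶ S.X₁.X n := fun n => s' n ≫ r n
  have hs' : ∀ n, s' n = u n ≫ f n + s n := fun n => by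
    calc s' n = s' n ≫ (r n ≫ f n + g n ≫ s n) := by rw [hid, Category.comp_id]
      _ = u n ≫ f n + s n := by
        rw [Preadditive.comp_add, ← Category.assoc, ← Category.assoc, hsg', Category.id_comp]
  have hsr'2 : ∀ n, s n ≫ r' n = - u n := fun n => by
    have h1 := hsr' n
    rw [hs' n, Preadditive.add_comp, Category.assoc, hfr', Category.comp_id] at h1
    exact (eq_neg_of_add_eq_zero_right h1)
  have hr' : ∀ n, r' n = r n - g n ≫ u n := fun n => by
    calc r' n = (r n ≫ f n + g n ≫ s n) ≫ r' n := by rw [hid, Category.id_comp]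
      _ = r n - g n ≫ u n := by
        rw [Preadditive.add_comp, Category.assoc, Category.assoc, hfr', Category.comp_id,
          hsr'2, Preadditive.comp_neg, sub_eq_add_neg]
  let U : HomComplex.Cochain S.X₃ S.X₁ 0 := HomComplex.Cochain.ofHoms u
  have key : (cocycleOfDegreewiseSplit S σ).1 - (cocycleOfDegreewiseSplit S σ').1 =
      - HomComplex.δ 0 1 U := by
    ext p q hpq
    obtain rfl : q = p + 1 := by omega
    rw [HomComplex.Cochain.neg_v, HomComplex.δ_v 0 1 rfl U p (p + 1) rfl p (p + 1) (by omega) rfl]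
    simp only [HomComplex.Cochain.sub_v, cocycleOfDegreewiseSplit, HomComplex.Cocycle.mk_coe,
      HomComplex.Cochain.mk_v, U, HomComplex.Cochain.ofHoms_v]
    change s p ≫ S.X₂.d p (p + 1) ≫ r (p + 1) - s' p ≫ S.X₂.d p (p + 1) ≫ r' (p + 1) =
      -(u p ≫ S.X₁.d p (p + 1) + (1 : ℤ).negOnePow • S.X₃.d p (p + 1) ≫ u (p + 1))
    have hfd : f p ≫ S.X₂.d p (p + 1) = S.X₁.d p (p + 1) ≫ f (p + 1) := (S.f.comm p (p + 1))
    have hgd : S.X₂.d p (p + 1) ≫ g (p + 1) = g p ≫ S.X₃.d p (p + 1) := (S.g.comm p (p + 1)).symm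
    rw [hs' p, hr' (p + 1)]
    simp only [Preadditive.add_comp, Preadditive.comp_sub, Category.assoc, Int.negOnePow_one,
      Units.neg_smul, one_smul]
    rw [reassoc_of% hfd, hfr, Category.comp_id, reassoc_of% hgd, reassoc_of% (hfg p),
      Limits.zero_comp, Limits.comp_zero, reassoc_of% (hsg p)]
    abel
  refine ⟨(HomComplex.Cochain.equivHomotopy _ _).symm ⟨U.rightShift 1 (-1) (by norm_num), ?_⟩⟩
  rw [HomComplex.Cochain.δ_rightShift U 1 (-1) 0 (by norm_num) 1 (by norm_num)]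
  have h1 : ∀ τ : ∀ n : ℤ, (S.map (HomologicalComplex.eval C (ComplexShape.up ℤ) n)).Splitting,
      HomComplex.Cochain.ofHom (homOfDegreewiseSplit S τ) =
        (cocycleOfDegreewiseSplit S τ).1.rightShift 1 0 (zero_add 1) := fun τ => by
    rw [homOfDegreewiseSplit]
    exact HomComplex.Cocycle.cochain_ofHom_homOf_eq_coe _
  rw [h1, h1]
  have h2 := congrArg (fun c => HomComplex.Cochain.rightShift c 1 0 (zero_add 1)) key
  simp only [HomComplex.Cochain.rightShift_neg] at h2
  rw [Int.negOnePow_one, Units.neg_smul, one_smul, ← h2]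
  rw [sub_eq_add_neg, HomComplex.Cochain.rightShift_add, HomComplex.Cochain.rightShift_neg]
  abel

end Groth.Agent.S6816
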