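import Groth.Statements.S6820


set_option autoImplicit false
universe u
open Smoothing

namespace Groth.Agent.S6820

theorem exists_kill {A M : Type*} [CommRing A] [AddCommGroup M] [Module A M] (S : Submonoid A)
    (N : Submodule A M) (hN : N.FG) (h : ∀ x ∈ N, ∃ t ∈ S, t • x = 0) :
    ∃ s ∈ S, ∀ x ∈ N, s • x = 0 := by
  classical
  obtain ⟨G, hG⟩ := hN
  have hex : ∀ g ∈ G, ∃ t ∈ S, t • g = 0 := fun g hg => h g (hG ▸ Submodule.subset_span hg)
  choose! t ht ht0 using hex
  refine ⟨∏ g ∈ G, t g, S.prod_mem (fun g hg => ht g hg), ?_⟩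
  intro x hx
  rw [← hG] at hx
  induction hx using Submodule.span_induction with
  | mem g hg =>
      rw [← Finset.mul_prod_erase G t hg, mul_comm, mul_smul, ht0 g hg, smul_zero]
  | zero => simp
  | add x y _ _ hx hy => rw [smul_add, hx, hy, add_zero]
  | smul a x _ hx => rw [smul_comm, hx, smul_zero]

/-- Let A be a Noetherian ring, M a finite A-module, S a multiplicative subset of A and π an element of
A such that on the localised module S⁻¹M the kernels of multiplication by π and by π² agree. Then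
there is an element s of S such that for every n > 0 the kernels of multiplication by sⁿπ and by
(sⁿπ)² on M agree. (Kernel equalities are written as implications, the reverse inclusions being
automatic.) -/
theorem result {A : Type u} [CommRing A] [IsNoetherianRing A]
    (M : Type u) [AddCommGroup M] [Module A M] [Module.Finite A M] (S : Submonoid A) (π : A)
    (h : ∀ m : LocalizedModule S M, π ^ 2 • m = 0 → π • m = 0) :
    ∃ s ∈ S, ∀ n : ℕ, 0 < n → ∀ m : M, (s ^ n * π) ^ 2 • m = 0 → (s ^ n * π) • m = 0 := by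
  classical
  haveI : IsNoetherian A M := isNoetherian_of_isNoetherianRing_of_finite A M
  -- N₁ = π • ker π²
  let N₁ : Submodule A M :=
    { carrier := {x | ∃ k : M, π ^ 2 • k = 0 ∧ x = π • k}
      add_mem' := by
        rintro _ _ ⟨k, hk, rfl⟩ ⟨k', hk', rfl⟩
        exact ⟨k + k', by rw [smul_add, hk, hk', add_zero], by rw [smul_add]⟩
      zero_mem' := ⟨0, by simp, by simp⟩
      smul_mem' := by
        rintro a _ ⟨k, hk, rfl⟩
        exact ⟨a • k, by rw [smul_comm, hk, smul_zero], by rw [smul_comm]⟩ }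
  let T : Submodule A M :=
    { carrier := {x | ∃ t ∈ S, t • x = 0}
      add_mem' := by
        rintro x y ⟨t, ht, hx⟩ ⟨t', ht', hy⟩
        refine ⟨t * t', S.mul_mem ht ht', ?_⟩
        rw [smul_add, mul_smul t t' y, hy, smul_zero, mul_comm, mul_smul t' t x, hx, smul_zero,
          add_zero]
      zero_mem' := ⟨1, S.one_mem, by simp⟩
      smul_mem' := by
        rintro a x ⟨t, ht, hx⟩
        exact ⟨t, ht, by rw [smul_comm, hx, smul_zero]⟩ }
  have hN₁ : ∀ x ∈ N₁, ∃ t ∈ S, t • x = 0 := by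
    rintro _ ⟨k, hk, rfl⟩
    have h1 : π ^ 2 • (LocalizedModule.mk k (1 : S)) = 0 := by
      rw [LocalizedModule.smul'_mk, hk, LocalizedModule.zero_mk]
    have h2 := h _ h1
    rw [LocalizedModule.smul'_mk, ← LocalizedModule.zero_mk (1 : S), LocalizedModule.mk_eq] at h2
    obtain ⟨u, hu⟩ := h2
    refine ⟨u, u.2, ?_⟩
    simpa [Submonoid.smul_def] using hu
  obtain ⟨s₁, hs₁, hs₁0⟩ := exists_kill S N₁ (IsNoetherian.noetherian N₁) hN₁
  obtain ⟨s₀, hs₀, hs₀0⟩ := exists_kill S T (IsNoetherian.noetherian T) (fun x hx => hx)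
  refine ⟨s₀ * s₁, S.mul_mem hs₀ hs₁, fun n hn m hm => ?_⟩
  have e1 : ((s₀ * s₁) ^ n * π) ^ 2 • m = ((s₀ * s₁) ^ n) ^ 2 • (π ^ 2 • m) := by
    rw [mul_pow, mul_smul]
  rw [e1] at hm
  have hT : π ^ 2 • m ∈ T := ⟨((s₀ * s₁) ^ n) ^ 2, S.pow_mem (S.pow_mem (S.mul_mem hs₀ hs₁) n) 2, hm⟩
  have h3 : π ^ 2 • (s₀ • m) = 0 := by
    rw [smul_comm]; exact hs₀0 _ hT
  have h4 : π • (s₀ • m) ∈ N₁ := ⟨s₀ • m, h3, rfl⟩
  have h5 : s₁ • (π • (s₀ • m)) = 0 := hs₁0 _ h4
  have h6 : ((s₀ * s₁) * π) • m = 0 := by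
    rw [← h5, ← mul_smul, ← mul_smul]
    congr 1; ring
  obtain ⟨k, rfl⟩ : ∃ k, n = k + 1 := ⟨n - 1, by omega⟩
  rw [pow_succ, mul_assoc, mul_smul, h6, smul_zero]

end Groth.Agent.S6820
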