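import Groth.Statements.S6842
import Groth.Agent.Helper1.LG18

set_option autoImplicit false
universe u
open CategoryTheory CategoryTheory.Limits TopologicalSpace
open ModSite

namespace Groth.Agent.S6842

/-- Let (X, O) be a ringed space, (F_i)_{i ∈ I} a family of O-modules and U ⊆ X a quasi-compact open.
Then the canonical map ⊕_i F_i(U) → (⊕_i F_i)(U) is bijective: every section of the direct sum over
U is a finite sum of images of sections of the F_i over U (surjectivity), and such a finite sum
vanishes only if each term's section is zero (injectivity). -/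
theorem result {X : TopCat.{u}} (O : TopCat.Sheaf CommRingCat.{u} X)
    {I : Type u} (F : I → ModSite.Mod O) [HasCoproduct F] (U : Opens X) (hU : IsCompact (U : Set X)) :
    (∀ s : ModSite.sect (∐ F) U, ∃ (S : Finset I) (t : ∀ i, ModSite.sect (F i) U),
        s = ∑ i ∈ S, ((Sigma.ι F i).val.app (Opposite.op U)).hom (t i)) ∧
      ∀ (S : Finset I) (t : ∀ i, ModSite.sect (F i) U),
        ∑ i ∈ S, ((Sigma.ι F i).val.app (Opposite.op U)).hom (t i) = 0 → ∀ i ∈ S, t i = 0 := by
  classical
  constructor
  · intro s
    obtain ⟨S, hS⟩ := Groth.Agent.Helper1.LG.exists_eS_of_isCompact (R := ModSite.ringSh O) F hU s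
    exact ⟨S, fun i => Groth.Agent.Helper1.LG.appLin (Sigma.π F i) U s,
      hS.symm.trans (Groth.Agent.Helper1.LG.appLin_eS F S U s)⟩
  · intro S t h i hi
    have h1 := congrArg (Groth.Agent.Helper1.LG.appLin (Sigma.π F i) U) h
    rw [map_sum, map_zero, Finset.sum_eq_single i] at h1
    · have h2 : Groth.Agent.Helper1.LG.appLin (Sigma.π F i) U
          (Groth.Agent.Helper1.LG.appLin (Sigma.ι F i) U (t i)) = t i := by
        have := congrArg (fun q => Groth.Agent.Helper1.LG.appLin q U (t i)) (Sigma.ι_π_eq_id F i)
        exact this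
      exact h2.symm.trans h1
    · intro j _ hji
      have := congrArg (fun q => Groth.Agent.Helper1.LG.appLin q U (t j)) (Sigma.ι_π_of_ne F hji)
      exact this
    · intro hni
      exact absurd hi hni

end Groth.Agent.S6842
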