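import Groth.Statements.S6855
import Mathlib

set_option autoImplicit false
universe u
open scoped TensorProduct
open CategoryTheory CategoryTheory.Limits TopologicalSpace
open ModSite

namespace Groth.Agent.S6855

/-- Let X be a topological space and O a sheaf of rings on X. Then the support of O, the set of points x
with nonzero stalk O_x, is closed in X. -/
theorem result {X : TopCat.{u}} (O : TopCat.Sheaf CommRingCat.{u} X) :
    IsClosed {x : X | Nontrivial (O.presheaf.stalk x)} := by
  rw [← isOpen_compl_iff, isOpen_iff_forall_mem_open]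
  intro x hx
  have hx' : Subsingleton (O.presheaf.stalk x) := by
    by_contra h
    exact hx (not_subsingleton_iff_nontrivial.1 h)
  have h10 : O.presheaf.germ ⊤ x trivial (1 : O.presheaf.obj (Opposite.op ⊤)) =
      O.presheaf.germ ⊤ x trivial (0 : O.presheaf.obj (Opposite.op ⊤)) := Subsingleton.elim _ _
  obtain ⟨W, hxW, iU, iV, hW⟩ := TopCat.Presheaf.germ_eq O.presheaf (U := ⊤) (V := ⊤) x trivial trivial _ _ h10
  refine ⟨W, ?_, W.2, hxW⟩
  intro y hy
  change ¬ Nontrivial (O.presheaf.stalk y)
  rw [not_nontrivial_iff_subsingleton]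
  have h1 : (1 : O.presheaf.stalk y) = 0 := by
    have e1 : O.presheaf.germ W y hy ((O.presheaf.map iU.op).hom 1) = 1 := by
      rw [map_one, map_one]
    have e2 : O.presheaf.germ W y hy ((O.presheaf.map iV.op).hom 0) = 0 := by
      rw [map_zero, map_zero]
    rw [← e1, ← e2]
    exact congrArg _ hW
  exact subsingleton_of_zero_eq_one h1.symm

end Groth.Agent.S6855
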