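import Groth.Statements.S6857
import Mathlib
import Groth.Agent.Helper9.ClosedEmb
import Groth.Agent.Helper1.CohTopPush
-- import your own Groth.Agent.* helpers here

set_option autoImplicit false
universe u
open CategoryTheory CategoryTheory.Limits TopologicalSpace
open CohTop

namespace Groth.Agent.S6857

/-- Let i : Z → X be the inclusion of a closed subset of a topological space (a closed embedding). Then
i_* : Ab(Z) → Ab(X) is exact (right exactness being the content, i_* is a right adjoint) and fully
faithful, an abelian sheaf on X lies in its essential image exactly when its stalks at points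
outside i(Z) are zero (support contained in Z), and i⁻¹ ∘ i_* is isomorphic to the identity functor
(existence of an isomorphism of functors is asserted). -/
theorem result {Z X : TopCat.{u}} (i : Z ⟶ X)
    (hi : Topology.IsClosedEmbedding i) :
    PreservesFiniteColimits (CohTop.push i) ∧ (CohTop.push i).Full ∧ (CohTop.push i).Faithful ∧
      (∀ F : CohTop.Ab X, (CohTop.push i).essImage F ↔ ∀ x : X, x ∉ Set.range i → IsZero (CohTop.stalk F x)) ∧
      Nonempty (CohTop.push i ⋙ CohTop.pull i ≅ 𝟭 (CohTop.Ab Z)) := by
  have ff := Groth.Agent.Helper9.ClosedEmb.fullyFaithful (A := AddCommGrpCat.{u}) i hi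
  have hfull : (TopCat.Sheaf.pushforward AddCommGrpCat.{u} i).Full := ff.full
  have hfaith : (TopCat.Sheaf.pushforward AddCommGrpCat.{u} i).Faithful := ff.faithful
  refine ⟨Groth.Agent.Helper1.CohTopFun.preservesFiniteColimits_push i hi, hfull, hfaith, ?_, ?_⟩
  · intro F
    refine (Groth.Agent.Helper9.ClosedEmb.essImage_iff_trivOff i hi F).trans
      ((Groth.Agent.Helper9.ClosedEmb.trivOff_iff_stalk i hi F).trans ?_)
    refine forall₂_congr fun x hx => ?_
    constructor
    · rintro ⟨h⟩
      haveI : Subsingleton (CohTop.stalk F x) := ⟨fun a b => (h.uniq a).trans (h.uniq b).symm⟩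
      exact AddCommGrpCat.isZero_of_subsingleton _
    · intro h
      haveI := AddCommGrpCat.subsingleton_of_isZero h
      exact ⟨⟨⟨(0 : CohTop.stalk F x)⟩, fun a => Subsingleton.elim _ _⟩⟩
  · have hiso : IsIso (TopCat.Sheaf.pullbackPushforwardAdjunction AddCommGrpCat.{u} i).counit :=
      @Adjunction.counit_isIso_of_R_fully_faithful _ _ _ _ _ _
        (TopCat.Sheaf.pullbackPushforwardAdjunction AddCommGrpCat.{u} i) hfull hfaith
    exact ⟨@asIso _ _ _ _ (TopCat.Sheaf.pullbackPushforwardAdjunction AddCommGrpCat.{u} i).counit hiso⟩

end Groth.Agent.S6857
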