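import Groth.Statements.S6862
import Mathlib

set_option autoImplicit false
universe u
open CAlg

namespace Groth.Agent.S6862

/-- Let `R` be a commutative ring and `P'`, `P`, `P''` finitely generated projective `R`-modules in an
exact sequence `0 → P' → P → P'' → 0`. Whenever two of the three are stably free, the remaining one
is stably free too (all three cases are stated). -/
theorem result {R : Type u} [CommRing R] {P' P P'' : Type u}
    [AddCommGroup P'] [Module R P'] [Module.Finite R P'] [Module.Projective R P']
    [AddCommGroup P] [Module R P] [Module.Finite R P] [Module.Projective R P]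
    [AddCommGroup P''] [Module R P''] [Module.Finite R P''] [Module.Projective R P'']
    (f : P' →ₗ[R] P) (g : P →ₗ[R] P'') (hf : Function.Injective f) (hg : Function.Surjective g)
    (hfg : Function.Exact f g) :
    (Module.IsStablyFree R P' → Module.IsStablyFree R P → Module.IsStablyFree R P'') ∧
    (Module.IsStablyFree R P' → Module.IsStablyFree R P'' → Module.IsStablyFree R P) ∧
    (Module.IsStablyFree R P → Module.IsStablyFree R P'' → Module.IsStablyFree R P') := by
  -- splitting
  obtain ⟨s, hs⟩ := Module.projective_lifting_property g LinearMap.id hg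
  have hs' : ∀ b, g (s b) = b := fun b => LinearMap.congr_fun hs b
  let φ : (P' × P'') →ₗ[R] P := f.coprod s
  have hφ : Function.Bijective φ := by
    constructor
    · rw [injective_iff_map_eq_zero]
      rintro ⟨a, b⟩ hab
      have h0 : f a + s b = 0 := by simpa [φ] using hab
      have h1 : g (f a + s b) = 0 := by rw [h0, map_zero]
      rw [map_add, hs', hfg.apply_apply_eq_zero, zero_add] at h1
      subst h1
      rw [map_zero, add_zero] at h0
      have : a = 0 := hf (by rw [h0, map_zero])
      subst this
      rfl
    · intro p
      have h1 : g (p - s (g p)) = 0 := by rw [map_sub, hs', sub_self]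
      obtain ⟨a, ha⟩ := (hfg _).1 h1
      refine ⟨(a, g p), ?_⟩
      simp [φ, ha]
  let e : (P' × P'') ≃ₗ[R] P := LinearEquiv.ofBijective φ hφ
  refine ⟨?_, ?_, ?_⟩
  · intro h' h
    obtain ⟨N', _, _, _, _, hN'⟩ := Module.IsStablyFree.exist_free_prod R P'
    obtain ⟨N, _, _, _, _, hN⟩ := Module.IsStablyFree.exist_free_prod R P
    haveI : Module.Free R ((P × N) × N') := inferInstance
    let ε : (P'' × ((P' × N') × N)) ≃ₗ[R] ((P × N) × N') :=
      { toFun := fun x => ((e (x.2.1.1, x.1), x.2.2), x.2.1.2)
        invFun := fun y => ((e.symm y.1.1).2, (((e.symm y.1.1).1, y.2), y.1.2))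
        map_add' := by intro x y; simp [← map_add]
        map_smul' := by intro r x; simp [← map_smul]
        left_inv := by intro x; simp
        right_inv := by intro y; simp }
    haveI : Module.Free R (P'' × ((P' × N') × N)) := Module.Free.of_equiv ε.symm
    exact Module.IsStablyFree.of_free_prod R P'' ((P' × N') × N)
  · intro h' h''
    obtain ⟨N', _, _, _, _, hN'⟩ := Module.IsStablyFree.exist_free_prod R P'
    obtain ⟨N'', _, _, _, _, hN''⟩ := Module.IsStablyFree.exist_free_prod R P''
    haveI : Module.Free R ((P' × N') × (P'' × N'')) := inferInstance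
    let ε : (P × (N' × N'')) ≃ₗ[R] ((P' × N') × (P'' × N'')) :=
      { toFun := fun x => (((e.symm x.1).1, x.2.1), ((e.symm x.1).2, x.2.2))
        invFun := fun y => (e (y.1.1, y.2.1), (y.1.2, y.2.2))
        map_add' := by intro x y; simp
        map_smul' := by intro r x; simp
        left_inv := by intro x; simp
        right_inv := by intro y; simp }
    haveI : Module.Free R (P × (N' × N'')) := Module.Free.of_equiv ε.symm
    exact Module.IsStablyFree.of_free_prod R P (N' × N'')
  · intro h h''
    obtain ⟨N, _, _, _, _, hN⟩ := Module.IsStablyFree.exist_free_prod R P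
    obtain ⟨N'', _, _, _, _, hN''⟩ := Module.IsStablyFree.exist_free_prod R P''
    haveI : Module.Free R ((P × N) × N'') := inferInstance
    let ε : (P' × ((P'' × N'') × N)) ≃ₗ[R] ((P × N) × N'') :=
      { toFun := fun x => ((e (x.1, x.2.1.1), x.2.2), x.2.1.2)
        invFun := fun y => ((e.symm y.1.1).1, (((e.symm y.1.1).2, y.2), y.1.2))
        map_add' := by intro x y; simp [← map_add]
        map_smul' := by intro r x; simp [← map_smul]
        left_inv := by intro x; simp
        right_inv := by intro y; simp }
    haveI : Module.Free R (P' × ((P'' × N'') × N)) := Module.Free.of_equiv ε.symm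
    exact Module.IsStablyFree.of_free_prod R P' ((P'' × N'') × N)

end Groth.Agent.S6862
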