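import Groth.Statements.S6864
import Mathlib

set_option autoImplicit false
universe u
open TensorProduct
open CAlg

namespace Groth.Agent.S6864

/-- Let `I` be an ideal of a commutative ring `R` contained in the Jacobson radical and let `φ : P → P'`
be an `R`-linear map between finite projective `R`-modules. If the induced map `P/IP → P'/IP'` is
bijective, then `φ` is bijective. -/
theorem result {R : Type u} [CommRing R] (I : Ideal R)
    (hI : I ≤ Ideal.jacobson (⊥ : Ideal R)) {P P' : Type u}
    [AddCommGroup P] [Module R P] [Module.Finite R P] [Module.Projective R P]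
    [AddCommGroup P'] [Module R P'] [Module.Finite R P'] [Module.Projective R P'] (φ : P →ₗ[R] P')
    (h : Function.Bijective (φ.baseChange (R ⧸ I))) : Function.Bijective φ := by
  -- helper: 1 ⊗ p = 0 iff p ∈ I • ⊤
  have key : ∀ (Q : Type u) [AddCommGroup Q] [Module R Q] (q : Q),
      ((1 : R ⧸ I) ⊗ₜ[R] q = 0) ↔ q ∈ I • (⊤ : Submodule R Q) := by
    intro Q _ _ q
    rw [← (TensorProduct.quotTensorEquivQuotSMul Q I).map_eq_zero_iff]
    have : (TensorProduct.quotTensorEquivQuotSMul Q I) ((1 : R ⧸ I) ⊗ₜ[R] q)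
        = Submodule.Quotient.mk q := by
      simp
    rw [this, Submodule.Quotient.mk_eq_zero]
  have key2 : ∀ (Q : Type u) [AddCommGroup Q] [Module R Q] (x : TensorProduct R (R ⧸ I) Q),
      ∃ q : Q, x = (1 : R ⧸ I) ⊗ₜ[R] q := by
    intro Q _ _ x
    obtain ⟨y, rfl⟩ := (TensorProduct.quotTensorEquivQuotSMul Q I).symm.surjective x
    obtain ⟨q, rfl⟩ := Submodule.Quotient.mk_surjective _ y
    exact ⟨q, rfl⟩
  -- surjectivity
  have hsurj : Function.Surjective φ := by
    apply LinearMap.surjective_of_surjective_comp_mkQ φ I hI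
    intro y
    obtain ⟨p', rfl⟩ := Submodule.Quotient.mk_surjective _ y
    obtain ⟨x, hx⟩ := h.2 ((1 : R ⧸ I) ⊗ₜ[R] p')
    obtain ⟨p, rfl⟩ := key2 P x
    refine ⟨p, ?_⟩
    rw [LinearMap.baseChange_tmul] at hx
    simp only [LinearMap.comp_apply, Submodule.mkQ_apply]
    rw [← sub_eq_zero, ← Submodule.Quotient.mk_sub, Submodule.Quotient.mk_eq_zero, ← key P',
      TensorProduct.tmul_sub, hx, sub_self]
  refine ⟨?_, hsurj⟩
  -- injectivity
  obtain ⟨σ, hσ⟩ := Module.projective_lifting_property φ LinearMap.id hsurj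
  have hσ' : ∀ b, φ (σ b) = b := fun b => LinearMap.congr_fun hσ b
  let π : P →ₗ[R] P := LinearMap.id - σ.comp φ
  let K : Submodule R P := LinearMap.ker φ
  have hπK : ∀ k ∈ K, π k = k := by
    intro k hk
    have : φ k = 0 := hk
    simp [π, this]
  have hrange : LinearMap.range π = K := by
    apply le_antisymm
    · rintro _ ⟨p, rfl⟩
      change φ (π p) = 0
      simp [π, hσ']
    · intro k hk
      exact ⟨k, hπK k hk⟩
  have hKfg : K.FG := by
    rw [← hrange, LinearMap.range_eq_map]
    exact (Module.finite_def.1 inferInstance).map π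
  have hKle : K ≤ I • K := by
    intro k hk
    have h1 : ((1 : R ⧸ I) ⊗ₜ[R] k : TensorProduct R (R ⧸ I) P) = 0 := by
      apply h.1
      rw [LinearMap.baseChange_tmul, map_zero]
      have : φ k = 0 := hk
      rw [this, TensorProduct.tmul_zero]
    have h2 : k ∈ I • (⊤ : Submodule R P) := (key P k).1 h1
    have h3 : π k ∈ (I • (⊤ : Submodule R P)).map π := Submodule.mem_map_of_mem h2
    rw [Submodule.map_smul'', Submodule.map_top, hrange, hπK k hk] at h3
    exact h3
  have hK : K = ⊥ := Submodule.eq_bot_of_le_smul_of_le_jacobson_bot I K hKfg hKle hI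
  exact LinearMap.ker_eq_bot.1 hK

end Groth.Agent.S6864
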