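import Groth.Statements.S6865
import Mathlib
import Groth.Agent.S6864

set_option autoImplicit false
universe u
open TensorProduct
open CAlg

namespace Groth.Agent.S6865

/-- Let `I` be an ideal of a commutative ring `R` contained in the Jacobson radical and let `P, P'` be
finite projective `R`-modules. If `P/IP` and `P'/IP'` are isomorphic `R/I`-modules, then `P` and
`P'` are isomorphic. -/
theorem result {R : Type u} [CommRing R] (I : Ideal R)
    (hI : I ≤ Ideal.jacobson (⊥ : Ideal R)) (P P' : Type u)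
    [AddCommGroup P] [Module R P] [Module.Finite R P] [Module.Projective R P]
    [AddCommGroup P'] [Module R P'] [Module.Finite R P'] [Module.Projective R P']
    (e : (R ⧸ I) ⊗[R] P ≃ₗ[R ⧸ I] (R ⧸ I) ⊗[R] P') : Nonempty (P ≃ₗ[R] P') := by
  have key2 : ∀ (Q : Type u) [AddCommGroup Q] [Module R Q] (x : TensorProduct R (R ⧸ I) Q),
      ∃ q : Q, x = (1 : R ⧸ I) ⊗ₜ[R] q := by
    intro Q _ _ x
    obtain ⟨y, rfl⟩ := (TensorProduct.quotTensorEquivQuotSMul Q I).symm.surjective x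
    obtain ⟨q, rfl⟩ := Submodule.Quotient.mk_surjective _ y
    exact ⟨q, rfl⟩
  let ι : P →ₗ[R] (R ⧸ I) ⊗[R] P := TensorProduct.mk R (R ⧸ I) P 1
  let ι' : P' →ₗ[R] (R ⧸ I) ⊗[R] P' := TensorProduct.mk R (R ⧸ I) P' 1
  have hι' : Function.Surjective ι' := by
    intro x
    obtain ⟨q, rfl⟩ := key2 P' x
    exact ⟨q, rfl⟩
  let eR : (R ⧸ I) ⊗[R] P →ₗ[R] (R ⧸ I) ⊗[R] P' := (e.toLinearMap).restrictScalars R
  obtain ⟨φ, hφ⟩ := Module.projective_lifting_property ι' (eR.comp ι) hι'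
  have hφ' : ∀ p, (1 : R ⧸ I) ⊗ₜ[R] φ p = e ((1 : R ⧸ I) ⊗ₜ[R] p) := fun p => LinearMap.congr_fun hφ p
  have hbc : φ.baseChange (R ⧸ I) = e.toLinearMap := by
    apply TensorProduct.AlgebraTensorModule.ext
    intro a p
    rw [LinearMap.baseChange_tmul]
    have h1 : a ⊗ₜ[R] φ p = a • ((1 : R ⧸ I) ⊗ₜ[R] φ p) := by
      rw [TensorProduct.smul_tmul', smul_eq_mul, mul_one]
    have h2 : a ⊗ₜ[R] p = a • ((1 : R ⧸ I) ⊗ₜ[R] p) := by
      rw [TensorProduct.smul_tmul', smul_eq_mul, mul_one]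
    rw [h1, hφ', h2, LinearEquiv.coe_coe, map_smul]
  have hbij : Function.Bijective (φ.baseChange (R ⧸ I)) := by
    rw [hbc]; exact e.bijective
  exact ⟨LinearEquiv.ofBijective φ (Groth.Agent.S6864.result I hI φ hbij)⟩

end Groth.Agent.S6865
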