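import Groth.Statements.S6866
import Mathlib
import Groth.Agent.S6867

set_option autoImplicit false
universe u
open TensorProduct
open CAlg

namespace Groth.Agent.S6866

/-- If `M` is a torsion free module over a domain `R` and `R → R'` is a flat ring map to another domain,
then `R' ⊗_R M` is torsion free over `R'`. -/
theorem result (R R' : Type u) [CommRing R] [IsDomain R] [CommRing R']
    [IsDomain R'] [Algebra R R'] [Module.Flat R R'] (M : Type u) [AddCommGroup M] [Module R M]
    [Module.IsTorsionFree R M] : Module.IsTorsionFree R' (R' ⊗[R] M) := by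
  -- finite torsion-free case
  have hfin : ∀ (N : Type u) [AddCommGroup N] [Module R N] [Module.Finite R N] [Module.IsTorsionFree R N],
      Module.IsTorsionFree R' (R' ⊗[R] N) := by
    intro N _ _ _ _
    obtain ⟨n, ψ, hψ⟩ := (Groth.Agent.S6867.result R N).1 inferInstance
    let Ψ : R' ⊗[R] N →ₗ[R'] (Fin n → R') :=
      ((TensorProduct.piScalarRight R R' R' (Fin n)).toLinearMap).comp (ψ.baseChange R')
    have hΨ : Function.Injective Ψ := by
      refine (TensorProduct.piScalarRight R R' R' (Fin n)).injective.comp ?_
      have : (ψ.baseChange R' : R' ⊗[R] N → R' ⊗[R] (Fin n → R)) = ψ.lTensor R' := by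
        ext x; rfl
      rw [this]
      exact Module.Flat.lTensor_preserves_injective_linearMap ψ hψ
    exact Function.Injective.moduleIsTorsionFree Ψ hΨ (fun r m => map_smul Ψ r m)
  refine ⟨fun r' hr' => ?_⟩
  rw [isSMulRegular_iff_right_eq_zero_of_smul]
  intro z hz
  obtain ⟨N, hN, hzN⟩ := TensorProduct.exists_finite_submodule_right_of_setFinite (R := R) (M := R')
    (N := M) {z} (Set.finite_singleton z)
  obtain ⟨z', rfl⟩ := hzN (Set.mem_singleton z)
  haveI : Module.IsTorsionFree R N :=
    Function.Injective.moduleIsTorsionFree N.subtype N.subtype_injective (fun r m => rfl)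
  haveI := hfin N
  have hinj : Function.Injective (N.subtype.lTensor R') :=
    Module.Flat.lTensor_preserves_injective_linearMap N.subtype N.subtype_injective
  have h1 : (N.subtype.baseChange R') (r' • z') = 0 := by
    rw [map_smul]; exact hz
  have h2 : r' • z' = 0 := by
    apply hinj
    rw [map_zero]
    exact h1
  have h3 : z' = 0 := by
    have := (hr'.isSMulRegular (M := R' ⊗[R] N))
    rw [isSMulRegular_iff_right_eq_zero_of_smul] at this
    exact this z' h2
  rw [h3, map_zero]

end Groth.Agent.S6866
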