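import Groth.Statements.S6870
import Groth.Agent.Helper3.TorsionFree

set_option autoImplicit false
universe u
open CAlg

namespace Groth.Agent.S6870

/-- Let `R` be a domain, `M` a finite `R`-module and `j : M → M**` the evaluation map into the double
dual. Then one nonzero `c ∈ R` kills the kernel of `j` and multiplies `M**` into the image of `j`.
(The published statement says only that the kernel and cokernel of `j` are torsion; this row gives
one such `c` for both.) -/
theorem result (R : Type u) [CommRing R] [IsDomain R] (M : Type u)
    [AddCommGroup M] [Module R M] [Module.Finite R M] :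
    ∃ c : R, c ≠ 0 ∧ (∀ x : M, Module.Dual.eval R M x = 0 → c • x = 0) ∧
      ∀ y : Module.Dual R (Module.Dual R M), c • y ∈ LinearMap.range (Module.Dual.eval R M) := by
  obtain ⟨n, v, c, φ, hc, hφ, hker⟩ := Groth.Agent.Helper3.exists_linearMap_fin_fun R M
  refine ⟨c, hc, ?_, ?_⟩
  · intro x hx
    have h1 : φ x = 0 := by
      funext i
      have := LinearMap.congr_fun hx ((LinearMap.proj i : (Fin n → R) →ₗ[R] R).comp φ)
      simpa using this
    exact hker x h1
  · intro y
    let g : Fin n → Module.Dual R M := fun i => (LinearMap.proj i : (Fin n → R) →ₗ[R] R).comp φ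
    refine ⟨∑ i, y (g i) • v i, ?_⟩
    apply LinearMap.ext
    intro f
    have hf : c • f = ∑ i, f (v i) • g i := by
      apply LinearMap.ext
      intro m
      simp only [LinearMap.smul_apply, LinearMap.coe_sum, Finset.sum_apply, smul_eq_mul]
      rw [← smul_eq_mul, ← map_smul, hφ m, map_sum]
      refine Finset.sum_congr rfl fun i _ => ?_
      rw [map_smul, smul_eq_mul, mul_comm]
      rfl
    rw [Module.Dual.eval_apply, map_sum, LinearMap.smul_apply, smul_eq_mul, ← smul_eq_mul, ← map_smul, hf,
      map_sum]
    refine Finset.sum_congr rfl fun i _ => ?_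
    rw [map_smul, map_smul, smul_eq_mul, smul_eq_mul, mul_comm]

end Groth.Agent.S6870
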