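import Groth.Statements.S6873
import Groth.Agent.Helper3.Reflexive

set_option autoImplicit false
universe u
open CAlg

namespace Groth.Agent.S6873

/-- For a Noetherian domain `R`, a finite `R`-module `M` is reflexive if and only if `M` admits an
injective `R`-linear map into `Rⁿ`, for some `n`, whose cokernel is torsion free. -/
theorem result (R : Type u) [CommRing R] [IsDomain R]
    [IsNoetherianRing R] (M : Type u) [AddCommGroup M] [Module R M] [Module.Finite R M] :
    Module.IsReflexive R M ↔ ∃ (n : ℕ) (f : M →ₗ[R] (Fin n → R)), Function.Injective f ∧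
      Module.IsTorsionFree R ((Fin n → R) ⧸ LinearMap.range f) := by
  classical
  constructor
  · intro hM
    haveI : IsNoetherian R (Module.Dual R M) := isNoetherian_linearMap R R M
    haveI : Module.Finite R (Module.Dual R M) := Module.IsNoetherian.finite R _
    obtain ⟨n, w, hw⟩ := Module.Finite.exists_fin (R := R) (M := Module.Dual R M)
    -- p : R^n → M*
    let p : (Fin n → R) →ₗ[R] Module.Dual R M := Fintype.linearCombination R w
    have hp : Function.Surjective p := by
      rw [← LinearMap.range_eq_top, Fintype.range_linearCombination, hw]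
    let f : M →ₗ[R] (Fin n → R) := LinearMap.pi w
    have hf : Function.Injective f := by
      rw [injective_iff_map_eq_zero]
      intro m hm
      apply (Module.bijective_dual_eval R M).1
      rw [map_zero]
      apply LinearMap.ext
      intro φ
      obtain ⟨a, rfl⟩ := hp φ
      have h1 : ∀ i, w i m = 0 := fun i => congrFun hm i
      simp [p, Fintype.linearCombination_apply, h1]
    refine ⟨n, f, hf, ⟨fun c hc => ?_⟩⟩
    rw [isSMulRegular_iff_right_eq_zero_of_smul]
    intro z hz
    obtain ⟨v, rfl⟩ := Submodule.Quotient.mk_surjective _ z
    rw [← Submodule.Quotient.mk_smul, Submodule.Quotient.mk_eq_zero] at hz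
    obtain ⟨m, hm⟩ := hz
    rw [Submodule.Quotient.mk_eq_zero]
    have hc0 : c ≠ 0 := hc.ne_zero
    -- q : R^n → R, a ↦ Σ a_i v_i
    let q : (Fin n → R) →ₗ[R] R := Fintype.linearCombination R v
    have hker : LinearMap.ker p ≤ LinearMap.ker q := by
      intro a ha
      have ha' : p a = 0 := ha
      have h1 : (p a) m = 0 := by rw [ha']; rfl
      have h2 : c * q a = 0 := by
        have h3 : ∀ i, w i m = c * v i := fun i => congrFun hm i
        simp only [p, q, Fintype.linearCombination_apply, LinearMap.coe_sum, Finset.sum_apply,
          LinearMap.smul_apply, h3, smul_eq_mul] at h1 ⊢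
        rw [Finset.mul_sum]
        rw [← h1]
        refine Finset.sum_congr rfl fun i _ => by ring
      rcases mul_eq_zero.1 h2 with h | h
      · exact absurd h hc0
      · exact h
    let y : Module.Dual R (Module.Dual R M) :=
      ((LinearMap.ker p).liftQ q hker).comp (p.quotKerEquivOfSurjective hp).symm.toLinearMap
    have hy : ∀ a, y (p a) = q a := by
      intro a
      have : (p.quotKerEquivOfSurjective hp).symm (p a) = Submodule.Quotient.mk a := by
        rw [LinearEquiv.symm_apply_eq]
        rfl
      simp only [y, LinearMap.comp_apply, LinearEquiv.coe_coe, this]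
      rfl
    obtain ⟨m0, hm0⟩ := (Module.bijective_dual_eval R M).2 y
    refine ⟨m0, ?_⟩
    funext i
    have h1 : w i = p (Pi.single i 1) := by
      simp [p, Fintype.linearCombination_apply_single]
    have h2 : f m0 i = y (w i) := by
      rw [← hm0]; rfl
    rw [h2, h1, hy]
    simp [q, Fintype.linearCombination_apply_single]
  · rintro ⟨n, f, hf, htf⟩
    exact Groth.Agent.Helper3.isReflexive_of_exact R f (LinearMap.range f).mkQ hf
      (LinearMap.exact_map_mkQ_range f)

end Groth.Agent.S6873
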