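import Groth.Statements.S6876
import Mathlib

set_option autoImplicit false
universe u
open scoped TensorProduct
open CAlg

namespace Groth.Agent.S6876

/-- Let `R` be a Noetherian local ring and `M, N` finite `R`-modules. If `N` has depth `≥ 1` then so
does `Hom_R(M, N)`; if `N` has depth `≥ 2` then so does `Hom_R(M, N)`. -/
theorem result (R : Type u) [CommRing R] [IsNoetherianRing R] [IsLocalRing R]
    (M N : Type u) [AddCommGroup M] [Module R M] [Module.Finite R M] [AddCommGroup N] [Module R N] [Module.Finite R N] :
    (1 ≤ LocCoh.depth R N → 1 ≤ LocCoh.depth R (M →ₗ[R] N)) ∧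
    (2 ≤ LocCoh.depth R N → 2 ≤ LocCoh.depth R (M →ₗ[R] N)) := by
  classical
  have hreg : ∀ x : R, IsSMulRegular N x → IsSMulRegular (M →ₗ[R] N) x := by
    intro x hx φ ψ h
    ext m
    apply hx
    exact LinearMap.congr_fun h m
  -- the second step
  have hreg2 : ∀ x y : R, IsSMulRegular N x → IsSMulRegular (QuotSMulTop x N) y →
      IsSMulRegular (QuotSMulTop x (M →ₗ[R] N)) y := by
    intro x y hx hy
    rw [isSMulRegular_iff_right_eq_zero_of_smul]
    intro q hq
    obtain ⟨φ, rfl⟩ := Submodule.Quotient.mk_surjective _ q
    rw [← Submodule.Quotient.mk_smul, Submodule.Quotient.mk_eq_zero,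
      Submodule.mem_smul_pointwise_iff_exists] at hq
    obtain ⟨ψ, -, hψ⟩ := hq
    have hmem : ∀ m : M, ∃ n : N, x • n = φ m := by
      intro m
      have h1 : y • φ m = x • ψ m := (LinearMap.congr_fun hψ m).symm
      have h2 : y • (Submodule.Quotient.mk (φ m) : QuotSMulTop x N) = 0 := by
        rw [← Submodule.Quotient.mk_smul, Submodule.Quotient.mk_eq_zero, h1]
        exact Submodule.smul_mem_pointwise_smul _ _ _ Submodule.mem_top
      have h3 := (isSMulRegular_iff_right_eq_zero_of_smul.1 hy) _ h2
      rw [Submodule.Quotient.mk_eq_zero, Submodule.mem_smul_pointwise_iff_exists] at h3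
      obtain ⟨n, -, hn⟩ := h3
      exact ⟨n, hn⟩
    choose ν hν using hmem
    let φ' : M →ₗ[R] N :=
      { toFun := ν
        map_add' := by
          intro a b
          apply hx
          change x • ν (a + b) = x • (ν a + ν b)
          rw [smul_add, hν, hν, hν, map_add]
        map_smul' := by
          intro c a
          apply hx
          change x • ν (c • a) = x • (c • ν a)
          rw [smul_comm, hν, hν, map_smul] }
    rw [Submodule.Quotient.mk_eq_zero, Submodule.mem_smul_pointwise_iff_exists]
    refine ⟨φ', Submodule.mem_top, ?_⟩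
    ext m
    exact hν m
  -- extraction of sequences from the depth
  have hex : ∀ k : ℕ, (k : ℕ∞) ≤ LocCoh.depth R N → Subsingleton N ∨
      ∃ rs : List R, RingTheory.Sequence.IsWeaklyRegular N rs ∧
        (∀ r ∈ rs, r ∈ IsLocalRing.maximalIdeal R) ∧ k ≤ rs.length := by
    intro k hk
    unfold LocCoh.depth LocCoh.idealDepth at hk
    split_ifs at hk with htop
    · left
      have : (⊤ : Submodule R N) = ⊥ := by
        apply Submodule.eq_bot_of_le_smul_of_le_jacobson_bot (IsLocalRing.maximalIdeal R) ⊤
          Module.Finite.fg_top (le_of_eq htop.symm)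
        exact IsLocalRing.maximalIdeal_le_jacobson ⊥
      exact (Submodule.subsingleton_iff R).1 (subsingleton_iff_bot_eq_top.1 this.symm)
    · right
      by_contra hcon
      push Not at hcon
      have : (⨆ (rs : List R) (_ : RingTheory.Sequence.IsWeaklyRegular N rs ∧
          ∀ r ∈ rs, r ∈ IsLocalRing.maximalIdeal R), (rs.length : ℕ∞)) ≤ ((k - 1 : ℕ) : ℕ∞) := by
        apply iSup₂_le
        intro rs hrs
        have := hcon rs hrs.1 hrs.2
        exact_mod_cast (by omega : rs.length ≤ k - 1)
      have h2 := le_trans hk this
      have h3 : k ≤ k - 1 := by exact_mod_cast h2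
      have hk0 : k = 0 := by omega
      subst hk0
      exact absurd (Nat.zero_le _) (not_le.2 (hcon [] (by simp) (by simp)))
  have hconcl : ∀ rs : List R, RingTheory.Sequence.IsWeaklyRegular (M →ₗ[R] N) rs →
      (∀ r ∈ rs, r ∈ IsLocalRing.maximalIdeal R) →
      (rs.length : ℕ∞) ≤ LocCoh.depth R (M →ₗ[R] N) := by
    intro rs h1 h2
    unfold LocCoh.depth LocCoh.idealDepth
    split_ifs with htop
    · exact le_top
    · exact le_iSup₂_of_le rs ⟨h1, h2⟩ le_rfl
  have hsub : Subsingleton N → ∀ k : ℕ∞, k ≤ LocCoh.depth R (M →ₗ[R] N) := by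
    intro hN k
    haveI := hN
    unfold LocCoh.depth LocCoh.idealDepth
    rw [if_pos (Subsingleton.elim _ _)]
    exact le_top
  constructor
  · intro h
    rcases hex 1 (by exact_mod_cast h) with hN | ⟨rs, hw, hmem, hlen⟩
    · exact hsub hN 1
    · match rs, hw, hmem, hlen with
      | x :: rest, hw, hmem, _ =>
        rw [RingTheory.Sequence.isWeaklyRegular_cons_iff] at hw
        have := hconcl [x] (by
          rw [RingTheory.Sequence.isWeaklyRegular_cons_iff]
          exact ⟨hreg x hw.1, RingTheory.Sequence.IsWeaklyRegular.nil _ _⟩)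
          (by
            intro r hr
            rw [List.mem_singleton] at hr
            subst hr
            exact hmem _ (by simp))
        simpa using this
  · intro h
    rcases hex 2 (by exact_mod_cast h) with hN | ⟨rs, hw, hmem, hlen⟩
    · exact hsub hN 2
    · match rs, hw, hmem, hlen with
      | x :: y :: rest, hw, hmem, _ =>
        rw [RingTheory.Sequence.isWeaklyRegular_cons_iff,
          RingTheory.Sequence.isWeaklyRegular_cons_iff] at hw
        have := hconcl [x, y] (by
          rw [RingTheory.Sequence.isWeaklyRegular_cons_iff,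
            RingTheory.Sequence.isWeaklyRegular_cons_iff]
          exact ⟨hreg x hw.1, hreg2 x y hw.1 hw.2.1, RingTheory.Sequence.IsWeaklyRegular.nil _ _⟩)
          (by
            intro r hr
            simp only [List.mem_cons, List.not_mem_nil, or_false] at hr
            rcases hr with rfl | rfl
            · exact hmem _ (by simp)
            · exact hmem _ (by simp))
        simpa using this

end Groth.Agent.S6876
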