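import Groth.Statements.S6882
import Mathlib

set_option autoImplicit false
universe u
open CAlg

namespace Groth.Agent.S6882

/-- For a finite module `M` over a discrete valuation ring `R`, the evaluation map from `M` to its
double dual `M**` is surjective. -/
theorem result (R : Type u) [CommRing R] [IsDomain R]
    [IsDiscreteValuationRing R] (M : Type u) [AddCommGroup M] [Module R M] [Module.Finite R M] :
    Function.Surjective (Module.Dual.eval R M) := by
  classical
  let T : Submodule R M := Submodule.torsion R M
  haveI : Module.IsTorsionFree R (M ⧸ T) := Submodule.QuotientTorsion.instIsTorsionFree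
  haveI : Module.Free R (M ⧸ T) := Module.free_of_finite_type_torsion_free'
  intro y
  let y' : Module.Dual R (Module.Dual R (M ⧸ T)) := y.comp (LinearMap.lcomp R R T.mkQ)
  obtain ⟨mbar, hmbar⟩ := (Module.bijective_dual_eval R (M ⧸ T)).2 y'
  obtain ⟨m, rfl⟩ := T.mkQ_surjective mbar
  refine ⟨m, ?_⟩
  apply LinearMap.ext
  intro f
  have hfT : T ≤ LinearMap.ker f := by
    intro t ht
    obtain ⟨a, ha⟩ := (Submodule.mem_torsion_iff t).1 ht
    have h1 : (a : R) • f t = 0 := by
      rw [← map_smul]
      have : (a : R) • t = 0 := ha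
      rw [this, map_zero]
    rw [LinearMap.mem_ker]
    rcases smul_eq_zero.1 h1 with h | h
    · exact absurd h (nonZeroDivisors.coe_ne_zero a)
    · exact h
  have h2 : f = (T.liftQ f hfT).comp T.mkQ := (Submodule.liftQ_mkQ T f hfT).symm
  have h3 := LinearMap.congr_fun hmbar (T.liftQ f hfT)
  simp only [Module.Dual.eval_apply] at h3 ⊢
  have h4 : y' (T.liftQ f hfT) = y ((T.liftQ f hfT).comp T.mkQ) := rfl
  rw [h4, ← h2] at h3
  rw [← h3]
  simp

end Groth.Agent.S6882
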