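import Groth.Statements.S6904
import Groth.Agent.Helper6.TenCxBdd2
import Groth.Agent.Helper6.PureAcyc
import Groth.Prelude.Def_DTen

set_option autoImplicit false
universe u
open CategoryTheory CategoryTheory.Limits MonoidalCategory
open DRing

namespace Groth.Agent.S6904

/-- Let `K•` be a complex of `R`-modules such that `K• ⊗_R M` is acyclic for every finitely presented
`R`-module `M`. Then `K•` is K-flat. -/
theorem result (R : Type u) [CommRing R] (K : DRing.Cx R)
    (hK : ∀ (M : Type u) [AddCommGroup M] [Module R M], Module.FinitePresentation R M →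
      (∀ i : ℤ, IsZero ((DRing.tensorCx K (ModuleCat.of R M)).homology i))) :
    (∀ L : DRing.Cx R, (∀ i : ℤ, IsZero (L.homology i)) → ∀ i : ℤ, IsZero ((L ⊗ K).homology i)) := by
  intro L hL i
  have hex : ∀ (N : ModuleCat.{u} R) (p : ℤ) (t : ↑(K.X p ⊗ N)), (K.d p (p + 1) ▷ N) t = 0 →
      ∃ w : ↑(K.X (p - 1) ⊗ N), (K.d (p - 1) p ▷ N) w = t := by
    intro N p t ht
    refine Groth.Agent.Helper6.PureAcyc.exact_rTensor_all (d₁ := (K.d (p - 1) p).hom)
      (d₂ := (K.d p (p + 1)).hom) ?_ N t ht
    intro M' _ _ hM' z hz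
    have h1 := hK M' hM' p
    rw [← HomologicalComplex.exactAt_iff_isZero_homology,
      Groth.Agent.Helper3.DRingLib.exactAt_iff_forall _ (p - 1) p (p + 1) (by omega) rfl] at h1
    exact h1 z hz
  have h2 := Groth.Agent.Helper6.SubCx.acyclic_tensor L K hex i
  exact h2.of_iso ((HomologicalComplex.homologyFunctor _ _ i).mapIso (DTen.braidCx L K))

end Groth.Agent.S6904
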