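import Groth.Statements.S6909
import Mathlib

set_option autoImplicit false
universe u
open scoped TensorProduct
open CAlg

namespace Groth.Agent.S6909

/-- Let `A` be a Noetherian ring, `I ⊆ A` an ideal inside the Jacobson radical, and `L → M → N` two
complexes `(f, g)` and `(f', g')` of finite `A`-modules with `f' ≡ f` modulo `I^{c+1}M` and `g' ≡ g`
modulo `I^{c+1}N`. If `c` works in the Artin–Rees lemma for `f` and for `g` (that is `f(L) ∩ IⁿM ⊆
f(I^{n-c}L)` for `n ≥ c`, and likewise for `g`) and `(f, g)` is exact, then `c` works for `g'` and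
`(f', g')` is exact. -/
theorem result {A : Type u} [CommRing A] [IsNoetherianRing A] (I : Ideal A)
    (hI : I ≤ Ideal.jacobson (⊥ : Ideal A)) {L M N : Type u} [AddCommGroup L] [Module A L] [Module.Finite A L]
    [AddCommGroup M] [Module A M] [Module.Finite A M] [AddCommGroup N] [Module A N] [Module.Finite A N]
    (f f' : L →ₗ[A] M) (g g' : M →ₗ[A] N) (c : ℕ) (hgf : g.comp f = 0) (hgf' : g'.comp f' = 0)
    (hf : (∀ n : ℕ, c ≤ n → LinearMap.range f ⊓ (I ^ n • (⊤ : Submodule A M)) ≤ Submodule.map f (I ^ (n - c) • (⊤ : Submodule A L))))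
    (hg : (∀ n : ℕ, c ≤ n → LinearMap.range g ⊓ (I ^ n • (⊤ : Submodule A N)) ≤ Submodule.map g (I ^ (n - c) • (⊤ : Submodule A M))))
    (hex : Function.Exact f g)
    (hff' : ∀ x : L, f x - f' x ∈ I ^ (c + 1) • (⊤ : Submodule A M))
    (hgg' : ∀ y : M, g y - g' y ∈ I ^ (c + 1) • (⊤ : Submodule A N)) :
    (∀ n : ℕ, c ≤ n → LinearMap.range g' ⊓ (I ^ n • (⊤ : Submodule A N)) ≤ Submodule.map g' (I ^ (n - c) • (⊤ : Submodule A M))) ∧
    Function.Exact f' g' := by
  have hmono : ∀ {X : Type u} [AddCommGroup X] [Module A X] {a b : ℕ}, a ≤ b →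
      (I ^ b • ⊤ : Submodule A X) ≤ I ^ a • ⊤ := fun hab =>
    Submodule.smul_mono_left (Ideal.pow_le_pow_right hab)
  have hshift : ∀ {X Y : Type u} [AddCommGroup X] [Module A X] [AddCommGroup Y] [Module A Y]
      (h : X →ₗ[A] Y) (k : ℕ), (∀ x, h x ∈ (I ^ k • ⊤ : Submodule A Y)) → ∀ (r : ℕ) (x : X),
      x ∈ (I ^ r • ⊤ : Submodule A X) → h x ∈ (I ^ (r + k) • ⊤ : Submodule A Y) := by
    intro X Y _ _ _ _ h k hk r x hx
    have h1 : h x ∈ Submodule.map h (I ^ r • ⊤) := ⟨x, hx, rfl⟩
    rw [Submodule.map_smul''] at h1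
    have h2 : Submodule.map h ⊤ ≤ (I ^ k • ⊤ : Submodule A Y) := by
      rintro _ ⟨x, -, rfl⟩
      exact hk x
    have h3 := Submodule.smul_mono (le_refl (I ^ r)) h2 h1
    rwa [← mul_smul, ← pow_add] at h3
  have P : ∀ r n : ℕ, r + c ≤ n → ∀ a : M, g' a ∈ (I ^ n • ⊤ : Submodule A N) →
      ∃ b : L, a - f' b ∈ (I ^ r • ⊤ : Submodule A M) := by
    intro r
    induction r with
    | zero =>
      intro n _ a _
      exact ⟨0, by simp⟩
    | succ r ih =>
      intro n hn a ha
      obtain ⟨b₀, hb₀⟩ := ih n (by omega) a ha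
      have hg'f' : ∀ x, g' (f' x) = 0 := fun x => LinearMap.congr_fun hgf' x
      have hg'a₀ : g' (a - f' b₀) = g' a := by rw [map_sub, hg'f', sub_zero]
      have h1 : g (a - f' b₀) ∈ (I ^ (r + c + 1) • ⊤ : Submodule A N) := by
        have e : g (a - f' b₀) = g' (a - f' b₀) + (g - g') (a - f' b₀) := by
          simp
        rw [e]
        refine Submodule.add_mem _ ?_ ?_
        · rw [hg'a₀]
          exact hmono (by omega) ha
        · have := hshift (g - g') (c + 1) (fun y => by simpa using hgg' y) r _ hb₀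
          rwa [← add_assoc] at this
      have h2 := hg (r + c + 1) (by omega) ⟨LinearMap.mem_range_self g _, h1⟩
      rw [show r + c + 1 - c = r + 1 by omega] at h2
      obtain ⟨a₁, ha₁, e₁⟩ := h2
      have h3 : g (a - f' b₀ - a₁) = 0 := by rw [map_sub, e₁, sub_self]
      obtain ⟨b, hb⟩ := (hex _).mp h3
      have h4 : f b ∈ (I ^ r • ⊤ : Submodule A M) := by
        rw [hb]
        exact Submodule.sub_mem _ hb₀ (hmono (by omega) ha₁)
      by_cases hrc : c ≤ r
      · obtain ⟨b', hb', e'⟩ := hf r hrc ⟨LinearMap.mem_range_self f b, h4⟩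
        have h6 := hshift (f - f') (c + 1) (fun x => by simpa using hff' x) (r - c) b' hb'
        rw [show r - c + (c + 1) = r + 1 by omega] at h6
        refine ⟨b₀ + b', ?_⟩
        have e : a - f' (b₀ + b') = (f - f') b' + a₁ := by
          simp only [LinearMap.sub_apply, map_add]
          rw [e', hb]
          abel
        rw [e]
        exact Submodule.add_mem _ h6 ha₁
      · have h6 : (f - f') b ∈ (I ^ (r + 1) • ⊤ : Submodule A M) :=
          hmono (a := r + 1) (b := c + 1) (by omega) (by simpa using hff' b)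
        refine ⟨b₀ + b, ?_⟩
        have e : a - f' (b₀ + b) = (f - f') b + a₁ := by
          simp only [LinearMap.sub_apply, map_add]
          rw [hb]
          abel
        rw [e]
        exact Submodule.add_mem _ h6 ha₁
  have hg'f' : ∀ x, g' (f' x) = 0 := fun x => LinearMap.congr_fun hgf' x
  refine ⟨?_, ?_⟩
  · rintro n hn y ⟨⟨y₀, rfl⟩, hy⟩
    obtain ⟨b, hb⟩ := P (n - c) n (by omega) y₀ hy
    exact ⟨y₀ - f' b, hb, by rw [map_sub, hg'f', sub_zero]⟩
  · intro y
    constructor
    · intro hy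
      have hK := Ideal.iInf_pow_smul_eq_bot_of_le_jacobson (M := M ⧸ LinearMap.range f') I hI
      have hmem : (LinearMap.range f').mkQ y ∈ (⨅ i : ℕ, I ^ i • ⊤ : Submodule A (M ⧸ LinearMap.range f')) := by
        rw [Submodule.mem_iInf]
        intro i
        obtain ⟨b, hb⟩ := P i (i + c) le_rfl y (by rw [hy]; exact zero_mem _)
        have e : (LinearMap.range f').mkQ y = (LinearMap.range f').mkQ (y - f' b) := by
          rw [map_sub]
          have : (LinearMap.range f').mkQ (f' b) = 0 := by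
            rw [Submodule.mkQ_apply, Submodule.Quotient.mk_eq_zero]
            exact LinearMap.mem_range_self f' b
          rw [this, sub_zero]
        rw [e]
        have h1 : (LinearMap.range f').mkQ (y - f' b) ∈
            Submodule.map (LinearMap.range f').mkQ (I ^ i • ⊤) := ⟨_, hb, rfl⟩
        rw [Submodule.map_smul''] at h1
        exact Submodule.smul_mono le_rfl le_top h1
      rw [hK, Submodule.mem_bot, Submodule.mkQ_apply, Submodule.Quotient.mk_eq_zero] at hmem
      exact hmem
    · rintro ⟨x, rfl⟩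
      exact hg'f' x

end Groth.Agent.S6909
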