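import Groth.Statements.S6910
import Mathlib
import Groth.Agent.S6909

set_option autoImplicit false
universe u
open scoped TensorProduct
open CAlg

namespace Groth.Agent.S6910

/-- Let `A` be a Noetherian ring, `I ⊆ A` an ideal inside the Jacobson radical, and `L → M → N` two
complexes `(f, g)` and `(f', g')` of finite `A`-modules with `f' ≡ f` modulo `I^{c+1}M` and `g' ≡ g`
modulo `I^{c+1}N`, such that the Artin–Rees bound holds with constant `c` for both `f` and `g`, and
`(f, g)` is exact. Then for every `n` the submodules `I^{n+1}N + g(M) ∩ IⁿN` and `I^{n+1}N + g'(M) ∩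
IⁿN` of `N` are equal; consequently the associated graded modules of `Coker g` and `Coker g'` with
respect to `I` coincide degreewise as subquotients of `N`. -/
theorem result {A : Type u} [CommRing A] [IsNoetherianRing A] (I : Ideal A)
    (hI : I ≤ Ideal.jacobson (⊥ : Ideal A)) {L M N : Type u} [AddCommGroup L] [Module A L] [Module.Finite A L]
    [AddCommGroup M] [Module A M] [Module.Finite A M] [AddCommGroup N] [Module A N] [Module.Finite A N]
    (f f' : L →ₗ[A] M) (g g' : M →ₗ[A] N) (c : ℕ) (hgf : g.comp f = 0) (hgf' : g'.comp f' = 0)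
    (hf : (∀ n : ℕ, c ≤ n → LinearMap.range f ⊓ (I ^ n • (⊤ : Submodule A M)) ≤ Submodule.map f (I ^ (n - c) • (⊤ : Submodule A L))))
    (hg : (∀ n : ℕ, c ≤ n → LinearMap.range g ⊓ (I ^ n • (⊤ : Submodule A N)) ≤ Submodule.map g (I ^ (n - c) • (⊤ : Submodule A M))))
    (hex : Function.Exact f g)
    (hff' : ∀ x : L, f x - f' x ∈ I ^ (c + 1) • (⊤ : Submodule A M))
    (hgg' : ∀ y : M, g y - g' y ∈ I ^ (c + 1) • (⊤ : Submodule A N)) (n : ℕ) :
    I ^ (n + 1) • (⊤ : Submodule A N) ⊔ (LinearMap.range g ⊓ I ^ n • (⊤ : Submodule A N)) =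
      I ^ (n + 1) • (⊤ : Submodule A N) ⊔ (LinearMap.range g' ⊓ I ^ n • (⊤ : Submodule A N)) := by
  have hg' := (Groth.Agent.S6909.result I hI f f' g g' c hgf hgf' hf hg hex hff' hgg').1
  have hmono : ∀ {a b : ℕ}, a ≤ b →
      (I ^ b • ⊤ : Submodule A N) ≤ I ^ a • ⊤ := fun hab =>
    Submodule.smul_mono_left (Ideal.pow_le_pow_right hab)
  have hshift : ∀ (h : M →ₗ[A] N), (∀ x, h x ∈ (I ^ (c + 1) • ⊤ : Submodule A N)) → ∀ (r : ℕ) (x : M),
      x ∈ (I ^ r • ⊤ : Submodule A M) → h x ∈ (I ^ (r + (c + 1)) • ⊤ : Submodule A N) := by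
    intro h hk r x hx
    have h1 : h x ∈ Submodule.map h (I ^ r • ⊤) := ⟨x, hx, rfl⟩
    rw [Submodule.map_smul''] at h1
    have h2 : Submodule.map h ⊤ ≤ (I ^ (c + 1) • ⊤ : Submodule A N) := by
      rintro _ ⟨x, -, rfl⟩
      exact hk x
    have h3 := Submodule.smul_mono (le_refl (I ^ r)) h2 h1
    rwa [← mul_smul, ← pow_add] at h3
  -- general one-sided inclusion
  have key : ∀ (g₁ g₂ : M →ₗ[A] N), (∀ y, g₁ y - g₂ y ∈ (I ^ (c + 1) • ⊤ : Submodule A N)) →
      (∀ n : ℕ, c ≤ n → LinearMap.range g₁ ⊓ (I ^ n • (⊤ : Submodule A N)) ≤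
        Submodule.map g₁ (I ^ (n - c) • (⊤ : Submodule A M))) →
      LinearMap.range g₁ ⊓ I ^ n • (⊤ : Submodule A N) ≤
        I ^ (n + 1) • (⊤ : Submodule A N) ⊔ (LinearMap.range g₂ ⊓ I ^ n • (⊤ : Submodule A N)) := by
    intro g₁ g₂ h12 har x hx
    by_cases hn : c ≤ n
    · obtain ⟨y', hy', rfl⟩ := har n hn hx
      have h1 : (g₁ - g₂) y' ∈ (I ^ (n + 1) • ⊤ : Submodule A N) := by
        have := hshift (g₁ - g₂) (fun y => by simpa using h12 y) (n - c) y' hy'
        rwa [show n - c + (c + 1) = n + 1 by omega] at this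
      have e : g₁ y' = (g₁ - g₂) y' + g₂ y' := by simp
      rw [e]
      refine Submodule.add_mem_sup h1 ⟨LinearMap.mem_range_self g₂ y', ?_⟩
      have e2 : g₂ y' = g₁ y' - (g₁ - g₂) y' := by simp
      rw [e2]
      exact Submodule.sub_mem _ hx.2 (hmono (Nat.le_succ n) h1)
    · obtain ⟨⟨y, rfl⟩, hx2⟩ := hx
      have h1 : (g₁ - g₂) y ∈ (I ^ (n + 1) • ⊤ : Submodule A N) :=
        hmono (a := n + 1) (b := c + 1) (by omega) (by simpa using h12 y)
      have e : g₁ y = (g₁ - g₂) y + g₂ y := by simp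
      rw [e]
      refine Submodule.add_mem_sup h1 ⟨LinearMap.mem_range_self g₂ y, ?_⟩
      have e2 : g₂ y = g₁ y - (g₁ - g₂) y := by simp
      rw [e2]
      exact Submodule.sub_mem _ hx2 (hmono (Nat.le_succ n) h1)
  apply le_antisymm
  · exact sup_le le_sup_left (key g g' hgg' hg)
  · refine sup_le le_sup_left (key g' g (fun y => ?_) hg')
    have := hgg' y
    rw [← neg_sub]
    exact neg_mem this

end Groth.Agent.S6910
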