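import Groth.Statements.S6912
import Mathlib

set_option autoImplicit false
universe u
open scoped TensorProduct
open TensorProduct
open CAlg

namespace Groth.Agent.S6912



open TensorProduct in
theorem rank_tensor_field (K : Type u) [Field K] (V W : Type u) [AddCommGroup V] [Module K V]
    [AddCommGroup W] [Module K W] :
    Module.rank K (V ⊗[K] W) = Module.rank K V * Module.rank K W := rank_tensorProduct'


theorem rank_hom_field (K : Type u) [Field K] (V W : Type u) [AddCommGroup V] [Module K V]
    [AddCommGroup W] [Module K W] [Module.Finite K V] :
    Module.rank K (V →ₗ[K] W) = Module.rank K V * Module.rank K W := by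
  rw [Module.rank_linearMap]
  simp

open TensorProduct in
theorem aux (R K : Type u) [CommRing R] [IsDomain R] [Field K] [Algebra R K] [IsFractionRing R K]
    (M N : Type u) [AddCommGroup M] [Module R M] [AddCommGroup N] [Module R N] :
    Module.rank R (M ⊗[R] N) = Module.rank R M * Module.rank R N ∧
    (Module.FinitePresentation R M → Module.rank R (M →ₗ[R] N) = Module.rank R M * Module.rank R N) := by
  haveI : FaithfulSMul R K := (faithfulSMul_iff_algebraMap_injective R K).mpr (IsFractionRing.injective R K)
  haveI : Module.Flat R K := IsLocalization.flat K (nonZeroDivisors R)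
  have hr : ∀ (X : Type u) [AddCommGroup X] [Module R X],
      Module.rank K (K ⊗[R] X) = Module.rank R X :=
    fun X _ _ => IsBaseChange.rank_eq (TensorProduct.isBaseChange R X K)
  constructor
  · rw [← hr (M ⊗[R] N), ← hr M, ← hr N]
    rw [(TensorProduct.AlgebraTensorModule.distribBaseChange R K M N).rank_eq]
    exact rank_tensor_field K (K ⊗[R] M) (K ⊗[R] N)
  · intro hfp
    rw [← hr M, ← hr N, ← hr (M →ₗ[R] N)]
    have bc := Module.FinitePresentation.isBaseChange_map R M N K
    rw [bc.equiv.rank_eq]
    exact rank_hom_field K (K ⊗[R] M) (K ⊗[R] N)

/-- Let `R` be a domain and `M`, `N` two `R`-modules; rank means dimension over the fraction field after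
base change. Then `rank (M ⊗_R N) = rank M · rank N`, and when `M` is finitely presented also `rank
Hom_R(M, N) = rank M · rank N`. -/
theorem result (R : Type u) [CommRing R] [IsDomain R] (M N : Type u)
    [AddCommGroup M] [Module R M] [AddCommGroup N] [Module R N] :
    Module.rank R (M ⊗[R] N) = Module.rank R M * Module.rank R N ∧
    (Module.FinitePresentation R M → Module.rank R (M →ₗ[R] N) = Module.rank R M * Module.rank R N) := by
  exact aux R (FractionRing R) M N

end Groth.Agent.S6912
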