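import Groth.Statements.S6913
import Mathlib

set_option autoImplicit false
universe u
open scoped TensorProduct
open CAlg

namespace Groth.Agent.S6913

/-- Let `R` be a domain and `M` a finite `R`-module, of (finite) rank `r`. Then: some linear map `M →
R^r` has torsion kernel and torsion cokernel; some nonzero `f ∈ R` makes `M_f` free of rank `r` over
`R_f`; and some injective linear map `R^r → M` has torsion cokernel. -/
theorem result (R : Type u) [CommRing R] [IsDomain R] (M : Type u) [AddCommGroup M]
    [Module R M] [Module.Finite R M] :
    (∃ h : M →ₗ[R] (Fin (Module.finrank R M) → R),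
      (∀ x : M, h x = 0 → ∃ c : R, c ≠ 0 ∧ c • x = 0) ∧
      (∀ y : Fin (Module.finrank R M) → R, ∃ c : R, c ≠ 0 ∧ c • y ∈ LinearMap.range h)) ∧
    (∃ f : R, f ≠ 0 ∧ Module.Free (Localization.Away f) (LocalizedModule (Submonoid.powers f) M) ∧
      Module.finrank (Localization.Away f) (LocalizedModule (Submonoid.powers f) M) = Module.finrank R M) ∧
    (∃ g : (Fin (Module.finrank R M) → R) →ₗ[R] M, Function.Injective g ∧
      ∀ x : M, ∃ c : R, c ≠ 0 ∧ c • x ∈ LinearMap.range g) := by
  classical
  generalize hr : Module.finrank R M = r
  obtain ⟨v, hv⟩ := exists_linearIndependent_of_le_finrank (R := R) (M := M) (le_of_eq hr.symm)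
  let g : (Fin r → R) →ₗ[R] M := Fintype.linearCombination R v
  have hg : Function.Injective g := hv.fintypeLinearCombination_injective
  have hrange : LinearMap.range g = Submodule.span R (Set.range v) :=
    Fintype.range_linearCombination R v
  have htors : ∀ x : M, ∃ c : R, c ≠ 0 ∧ c • x ∈ LinearMap.range g := by
    intro x
    by_contra hcon
    push Not at hcon
    have hli : LinearIndependent R (Fin.cons x v : Fin (r + 1) → M) := by
      apply LinearIndependent.finCons' x v hv
      intro c y hy hcy
      by_contra hc
      apply hcon c hc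
      rw [hrange]
      have : c • x = -y := eq_neg_of_add_eq_zero_left hcy
      rw [this]
      exact Submodule.neg_mem _ hy
    have := hli.fintype_card_le_finrank
    simp only [Fintype.card_fin] at this
    omega
  obtain ⟨c, hc0, hc⟩ : ∃ c : R, c ≠ 0 ∧ ∀ x : M, c • x ∈ LinearMap.range g := by
    obtain ⟨s, hs⟩ := (Module.Finite.fg_top : (⊤ : Submodule R M).FG)
    choose cx hcx0 hcx using htors
    refine ⟨∏ m ∈ s, cx m, Finset.prod_ne_zero_iff.2 (fun m _ => hcx0 m), ?_⟩
    intro x
    have hx : x ∈ Submodule.span R (s : Set M) := hs ▸ Submodule.mem_top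
    induction hx using Submodule.span_induction with
    | mem m hm =>
      rw [← Finset.mul_prod_erase s cx hm, mul_comm, mul_smul]
      exact Submodule.smul_mem _ _ (hcx m)
    | zero => simp
    | add a b _ _ ha hb => rw [smul_add]; exact Submodule.add_mem _ ha hb
    | smul t a _ ha => rw [smul_comm]; exact Submodule.smul_mem _ _ ha
  let e := LinearEquiv.ofInjective g hg
  let cr : M →ₗ[R] LinearMap.range g :=
    LinearMap.codRestrict (LinearMap.range g) (c • LinearMap.id) (fun x => hc x)
  let h : M →ₗ[R] (Fin r → R) := e.symm.toLinearMap ∘ₗ cr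
  refine ⟨⟨h, ?_, ?_⟩, ⟨c, hc0, ?_⟩, ⟨g, hg, fun x => ⟨c, hc0, hc x⟩⟩⟩
  · intro x hx
    refine ⟨c, hc0, ?_⟩
    have h1 : cr x = 0 := by
      apply e.symm.injective
      rw [map_zero]
      exact hx
    exact congrArg Subtype.val h1
  · intro y
    refine ⟨c, hc0, g y, ?_⟩
    apply e.injective
    apply Subtype.ext
    change (e (e.symm (cr (g y)))).1 = g (c • y)
    rw [LinearEquiv.apply_symm_apply, map_smul]
    rfl
  · -- localization
    set S := Submonoid.powers c with hS
    have hSle : S ≤ nonZeroDivisors R := powers_le_nonZeroDivisors_of_noZeroDivisors hc0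
    haveI : IsDomain (Localization S) := IsLocalization.isDomain_localization hSle
    let f := LocalizedModule.mkLinearMap S M
    have hli' : LinearIndependent (Localization S) (f ∘ v) :=
      hv.of_isLocalizedModule (Localization S) S f
    have hfm : ∀ m : M, f (c • m) ∈ Submodule.span (Localization S) (Set.range (f ∘ v)) := by
      intro m
      obtain ⟨y, hy⟩ := hc m
      rw [← hy]
      change f (Fintype.linearCombination R v y) ∈ _
      rw [Fintype.linearCombination_apply, map_sum]
      refine Submodule.sum_mem _ (fun i _ => ?_)
      rw [map_smul, ← algebraMap_smul (Localization S) (y i)]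
      exact Submodule.smul_mem _ _ (Submodule.subset_span ⟨i, rfl⟩)
    have hspan : ⊤ ≤ Submodule.span (Localization S) (Set.range (f ∘ v)) := by
      intro z _
      induction z using LocalizedModule.induction_on with
      | h m s =>
        have h1 : LocalizedModule.mk m s =
            (Localization.mk 1 (⟨c, Submonoid.mem_powers c⟩ * s) : Localization S) •
              (LocalizedModule.mk (c • m) 1 : LocalizedModule S M) := by
          rw [LocalizedModule.mk_smul_mk, one_smul, mul_one]
          exact (LocalizedModule.mk_cancel_common_left (⟨c, Submonoid.mem_powers c⟩ : S) s m).symm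
        rw [h1]
        exact Submodule.smul_mem _ _ (hfm m)
    let bs : Module.Basis (Fin r) (Localization S) (LocalizedModule S M) :=
      Module.Basis.mk hli' hspan
    exact ⟨Module.Free.of_basis bs, by rw [Module.finrank_eq_card_basis bs, Fintype.card_fin]⟩

end Groth.Agent.S6913
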