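import Groth.Statements.S6930
import Mathlib
import Groth.Agent.Helper9.BF7
-- import your own Groth.Agent.* helpers here

set_option autoImplicit false
universe u
open TensorProduct
open FlatMor

namespace Groth.Agent.S6930

/-- Let `(R, 𝔪)` be a local domain whose maximal ideal is nonzero, with fraction field `K`; let `S` be
an `R`-algebra of finite type, `M` a finite `S`-module and `A ⊆ K` a valuation ring dominating `R`.
Then one can find a finitely generated ideal `I ⊆ 𝔪` and a nonzero `a ∈ I` with the following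
properties, where `R₁ = R[I/a]` denotes the affine blow-up algebra (taken up to `R`-algebra
isomorphism): every `x/a` with `x ∈ I` lies in `A`, so that `R₁ ⊆ A` inside `K`; the ring `R₁/𝔪R₁`
is nonzero; the strict transform of `S` (the quotient of `R₁ ⊗_R S` by its `a`-power torsion) is
flat over `R₁` and is a finitely presented `R₁`-algebra; and the strict transform of `M` (the
quotient of `R₁ ⊗_R M` by its `a`-power torsion) is flat over `R₁`. (The published statement asks
for these strict transforms to be flat, and the first to be finitely presented, over `R` itself;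
that fails for every choice of `(I, a)` already when `R = k[x, y]` localized at `(x, y)` and `S =
R[y/x]`, and the published proof, which passes to the limit over the rings `R[I/a]`, yields flatness
and finite presentation over `R[I/a]`, which is what is stated here. The published statement also
allows `𝔪 = 0`, i.e. `R` a field; then all hypotheses hold with `A = K` while no nonzero `a ∈ 𝔪`
exists, so the hypothesis `𝔪 ≠ 0` is added. Finally, the published statement also asserts that the
strict transform of `M` is finitely presented over the strict transform of `S`; that clause is not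
included.) -/
theorem result (R K : Type u) [CommRing R] [IsDomain R] [IsLocalRing R] [Field K]
    [Algebra R K] [IsFractionRing R K] (S : Type u) [CommRing S] [Algebra R S] [Algebra.FiniteType R S] (M : Type u)
    [AddCommGroup M] [Module S M] [Module R M] [IsScalarTower R S M] [Module.Finite S M]
    (A : Type u) [CommRing A] [IsDomain A] [ValuationRing A] [Algebra A K] [IsFractionRing A K] [Algebra R A]
    [IsScalarTower R A K] [IsLocalHom (algebraMap R A)] (hm : IsLocalRing.maximalIdeal R ≠ ⊥) :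
    ∃ (I : Ideal R) (a : R), I.FG ∧ I ≤ IsLocalRing.maximalIdeal R ∧ a ∈ I ∧ a ≠ 0 ∧
      (∀ x ∈ I, ∃ y : A, algebraMap A K y * algebraMap R K a = algebraMap R K x) ∧
      ∀ (R₁ : Type u) [CommRing R₁] [Algebra R R₁] (e : R₁ ≃ₐ[R] ↥(BlowUp.affineAlgebra R I a)),
        (IsLocalRing.maximalIdeal R).map (algebraMap R R₁) ≠ ⊤ ∧
        Module.Flat R₁ ((R₁ ⊗[R] S) ⧸ FlatCA.powTorsion (R₁ ⊗[R] S) (algebraMap R (R₁ ⊗[R] S) a) (R₁ ⊗[R] S)) ∧
        Algebra.FinitePresentation R₁
          ((R₁ ⊗[R] S) ⧸ FlatCA.powTorsion (R₁ ⊗[R] S) (algebraMap R (R₁ ⊗[R] S) a) (R₁ ⊗[R] S)) ∧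
        Module.Flat R₁ ((R₁ ⊗[R] M) ⧸ FlatCA.powTorsion R₁ (algebraMap R R₁ a) (R₁ ⊗[R] M)) := by
  classical
  have hAK : Function.Injective (algebraMap A K) := IsFractionRing.injective A K
  obtain ⟨T₁, hT₁, f₁, hf₁, h₁⟩ :=
    Groth.Agent.Helper9.BF5.exists_stage_flat_fp (R := R) (K := K) (A := A) hAK S
  obtain ⟨T₂, hT₂, f₂, hf₂, h₂⟩ :=
    Groth.Agent.Helper9.BF6.exists_stage_flat_module (R := R) (K := K) (A := A) S M hAK
  obtain ⟨s, hs⟩ := hT₁.sup hT₂
  obtain ⟨t, htm, ht0⟩ := Submodule.exists_mem_ne_zero_of_ne_bot hm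
  have hd0 : t * f₁ * f₂ ≠ 0 := mul_ne_zero (mul_ne_zero ht0 hf₁) hf₂
  have hdm : t * f₁ * f₂ ∈ IsLocalRing.maximalIdeal R := by
    rw [mul_assoc]
    exact Ideal.mul_mem_right _ _ htm
  obtain ⟨I, a, hIfg, hIm, haI, ha0, hda, hIA, hsI⟩ :=
    Groth.Agent.Helper9.BF7.exists_ideal (R := R) (K := K) (A := A) s (t * f₁ * f₂) hd0 hdm
  refine ⟨I, a, hIfg, hIm, haI, ha0, fun x hx => hIA hx, ?_⟩
  intro R₁ _ _ e
  obtain ⟨j₀, hj₀, hj₀r⟩ :=
    Groth.Agent.Helper9.BF7.exists_embedding (R := R) (K := K) (A := A) hAK I a ha0 hIA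
  let j : R₁ →ₐ[R] A := j₀.comp e.toAlgHom
  have hj : Function.Injective j := hj₀.comp e.injective
  have hT : T₁ ⊔ T₂ ≤ j.range := by
    rw [← hs]
    refine Algebra.adjoin_le ?_
    intro y hy
    obtain ⟨x, hxI, hxy⟩ := hsI y hy
    obtain ⟨q, hq⟩ := hj₀r x y hxI hxy
    exact ⟨e.symm q, by
      change j₀ (e (e.symm q)) = y
      rw [e.apply_symm_apply]
      exact hq⟩
  have hf₁a : f₁ ∣ a := Dvd.dvd.trans ⟨t * f₂, by ring⟩ hda
  have hf₂a : f₂ ∣ a := Dvd.dvd.trans ⟨t * f₁, by ring⟩ hda
  obtain ⟨hflat, hfp⟩ := h₁ R₁ j hj (le_sup_left.trans hT) a ha0 hf₁a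
  exact ⟨Groth.Agent.Helper9.BF7.map_maximalIdeal_ne_top j, hflat, hfp,
    h₂ R₁ j hj (le_sup_right.trans hT) a ha0 hf₂a⟩

end Groth.Agent.S6930
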