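import Groth.Statements.S6932
import Mathlib
import Groth.Agent.Helper9.RG2
-- import your own Groth.Agent.* helpers here

set_option autoImplicit false
universe u
open CAlg

namespace Groth.Agent.S6932

/-- Let `R → S` be a ring map of finite type with `S` flat over `R`, such that `R → ∏_j R_{𝔭_j}` is
injective for some finite set of primes `𝔭_j` and each localization `S_𝔭` (at a prime `𝔭` of `R`) is
a finitely presented `R_𝔭`-algebra. Then `S` is a finitely presented `R`-algebra. -/
theorem result {R S : Type u} [CommRing R] [CommRing S]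
    [Algebra R S] [Algebra.FiniteType R S] [Module.Flat R S] (s : Finset (PrimeSpectrum R))
    (hs : Function.Injective fun r : R => fun p : s => algebraMap R (Localization.AtPrime p.1.asIdeal) r)
    (hloc : ∀ (p : Ideal R) [p.IsPrime],
      Algebra.FinitePresentation (Localization.AtPrime p) (Localization (Algebra.algebraMapSubmonoid S p.primeCompl))) :
    Algebra.FinitePresentation R S := by
  classical
  obtain ⟨n, φ, hφ⟩ := Algebra.FiniteType.iff_quotient_mvPolynomial''.1
    (inferInstance : Algebra.FiniteType R S)
  let _ : Algebra (MvPolynomial (Fin n) R) S := φ.toRingHom.toAlgebra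
  have : IsScalarTower R (MvPolynomial (Fin n) R) S :=
    IsScalarTower.of_algebraMap_eq (fun a => (φ.commutes a).symm)
  let π : MvPolynomial (Fin n) R →ₗ[MvPolynomial (Fin n) R] S :=
    Algebra.linearMap (MvPolynomial (Fin n) R) S
  have hπapp : ∀ g, π g = φ g := fun g => rfl
  have hπ : Function.Surjective π := hφ
  have hfg : (LinearMap.ker π).FG := by
    refine Groth.Agent.Helper9.RG2.main_aux s hs π hπ ?_
    intro p
    obtain ⟨G, hG1, hG2⟩ := Groth.Agent.Helper9.RG2.exists_finset_of_fp_algebra φ hφ p.asIdeal
      (hloc p.asIdeal)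
    refine ⟨G, ?_, ?_⟩
    · intro x hx
      have := hG1 hx
      rw [SetLike.mem_coe, RingHom.mem_ker] at this
      rw [SetLike.mem_coe, LinearMap.mem_ker, hπapp]
      exact this
    · intro u hu
      rw [LinearMap.mem_ker, hπapp] at hu
      obtain ⟨a, ha, hau⟩ := hG2 u (by rw [RingHom.mem_ker]; exact hu)
      exact ⟨a, ha, hau⟩
  have hker : RingHom.ker φ.toRingHom = LinearMap.ker π := by
    ext g
    rw [RingHom.mem_ker, LinearMap.mem_ker, hπapp]
    rfl
  exact Algebra.FinitePresentation.of_surjective hφ (hker ▸ hfg)

end Groth.Agent.S6932
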