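import Groth.Statements.S6933
import Mathlib

set_option autoImplicit false
universe u
open CategoryTheory
open InjHull

namespace Groth.Agent.S6933

/-- An abelian group `J` that is injective as an object of the category of abelian groups is divisible:
`n J = J` for every nonzero integer `n`. (The published statement is an equivalence; this row states
the implication from injective to divisible.) -/
theorem result (J : Type u) [AddCommGroup J] (hJ : Injective (AddCommGrpCat.of J))
    (n : ℤ) (hn : n ≠ 0) (x : J) : ∃ y : J, n • y = x := by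
  let Z : AddCommGrpCat.{u} := AddCommGrpCat.of (ULift.{u} ℤ)
  let f : Z ⟶ Z := AddCommGrpCat.ofHom (n • AddMonoidHom.id (ULift.{u} ℤ))
  haveI : Mono f := by
    rw [AddCommGrpCat.mono_iff_injective]
    intro a b hab
    have h1 : n • a = n • b := hab
    have h2 : n * a.down = n * b.down := by
      have := congrArg ULift.down h1
      rw [ULift.smul_down, ULift.smul_down, smul_eq_mul, smul_eq_mul] at this
      exact this
    exact ULift.ext _ _ (mul_left_cancel₀ hn h2)
  let g : Z ⟶ AddCommGrpCat.of J :=
    AddCommGrpCat.ofHom ((zmultiplesHom J x).comp AddEquiv.ulift.toAddMonoidHom)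
  obtain ⟨h, hh⟩ := hJ.factors g f
  refine ⟨h.hom ⟨1⟩, ?_⟩
  have h3 := congrArg (fun k : Z ⟶ AddCommGrpCat.of J => k.hom ⟨1⟩) hh
  simp only [AddCommGrpCat.hom_comp, AddMonoidHom.coe_comp, Function.comp_apply] at h3
  have h4 : f.hom ⟨1⟩ = n • (⟨1⟩ : ULift.{u} ℤ) := rfl
  have h5 : g.hom ⟨1⟩ = x := by
    simp only [g, AddCommGrpCat.hom_ofHom, AddMonoidHom.coe_comp, Function.comp_apply]
    change (zmultiplesHom J x) (1 : ℤ) = x
    simp
  rw [h4, map_zsmul, h5] at h3
  exact h3

end Groth.Agent.S6933
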