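import Groth.Statements.S6934
import Mathlib

set_option autoImplicit false
universe u
open scoped TensorProduct
open EtAlg

namespace Groth.Agent.S6934

/-- Let `s : B → R`, `t : R' → R` be ring maps and `B' = B ×_R R'` the fibre product ring, i.e. a ring
`B'` with maps `p : B' → B`, `q : B' → R'`, `s ∘ p = t ∘ q`, such that `(p, q)` is injective with
image the pairs `(b, r')` with `s(b) = t(r')`. Let `h ∈ B'` with images `g = p(h)`, `f = q(h)`. Then
the square of localizations `B'_h → B_g`, `B'_h → R'_f`, `B_g → R_{s(g)}`, `R'_f → R_{t(f)} =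
R_{s(g)}` (the induced maps) is cartesian as well: `B'_h = B_g ×_{R_{s(g)}} R'_f`. -/
theorem result {B R R' B' : Type u} [CommRing B] [CommRing R] [CommRing R'] [CommRing B']
    (s : B →+* R) (t : R' →+* R) (p : B' →+* B) (q : B' →+* R') (hc : s.comp p = t.comp q)
    (hinj : ∀ x y : B', p x = p y → q x = q y → x = y) (hsurj : ∀ (b : B) (r' : R'), s b = t r' → ∃ x : B', p x = b ∧ q x = r')
    (h : B') (Bh Bg Rf Rsg : Type u) [CommRing Bh] [CommRing Bg] [CommRing Rf] [CommRing Rsg]
    [Algebra B' Bh] [IsLocalization.Away h Bh] [Algebra B Bg] [IsLocalization.Away (p h) Bg]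
    [Algebra R' Rf] [IsLocalization.Away (q h) Rf] [Algebra R Rsg] [IsLocalization.Away (s (p h)) Rsg]
    (pL : Bh →+* Bg) (qL : Bh →+* Rf) (sL : Bg →+* Rsg) (tL : Rf →+* Rsg)
    (hp : pL.comp (algebraMap B' Bh) = (algebraMap B Bg).comp p) (hq : qL.comp (algebraMap B' Bh) = (algebraMap R' Rf).comp q)
    (hs : sL.comp (algebraMap B Bg) = (algebraMap R Rsg).comp s) (ht : tL.comp (algebraMap R' Rf) = (algebraMap R Rsg).comp t) :
    (∀ x y : Bh, pL x = pL y → qL x = qL y → x = y) ∧
    (∀ (b : Bg) (r : Rf), sL b = tL r → ∃ x : Bh, pL x = b ∧ qL x = r) := by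
  -- pointwise forms of the compatibilities
  have hp' : ∀ a : B', pL (algebraMap B' Bh a) = algebraMap B Bg (p a) :=
    fun a => RingHom.congr_fun hp a
  have hq' : ∀ a : B', qL (algebraMap B' Bh a) = algebraMap R' Rf (q a) :=
    fun a => RingHom.congr_fun hq a
  have hs' : ∀ b : B, sL (algebraMap B Bg b) = algebraMap R Rsg (s b) :=
    fun b => RingHom.congr_fun hs b
  have ht' : ∀ r : R', tL (algebraMap R' Rf r) = algebraMap R Rsg (t r) :=
    fun r => RingHom.congr_fun ht r
  have hc' : ∀ a : B', s (p a) = t (q a) := fun a => RingHom.congr_fun hc a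
  have uh : IsUnit (algebraMap B' Bh h) := IsLocalization.Away.algebraMap_isUnit h
  have ug : IsUnit (algebraMap B Bg (p h)) := IsLocalization.Away.algebraMap_isUnit (p h)
  have uf : IsUnit (algebraMap R' Rf (q h)) := IsLocalization.Away.algebraMap_isUnit (q h)
  have uσ : IsUnit (algebraMap R Rsg (s (p h))) := IsLocalization.Away.algebraMap_isUnit (s (p h))
  constructor
  · intro x y hxy1 hxy2
    obtain ⟨n, a, ha⟩ := IsLocalization.Away.surj h x
    obtain ⟨m, b, hb⟩ := IsLocalization.Away.surj h y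
    -- common denominators
    obtain ⟨a', ha'⟩ : ∃ a', x * algebraMap B' Bh h ^ (n + m) = algebraMap B' Bh a' := by
      refine ⟨a * h ^ m, ?_⟩
      rw [pow_add, ← mul_assoc, ha, map_mul, map_pow]
    obtain ⟨b', hb'⟩ : ∃ b', y * algebraMap B' Bh h ^ (n + m) = algebraMap B' Bh b' := by
      refine ⟨b * h ^ n, ?_⟩
      rw [pow_add, mul_comm (algebraMap B' Bh h ^ n), ← mul_assoc, hb, map_mul, map_pow]
    have e1 : algebraMap B Bg (p a') = algebraMap B Bg (p b') := by
      rw [← hp', ← hp', ← ha', ← hb', map_mul, map_mul, hxy1]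
    have e2 : algebraMap R' Rf (q a') = algebraMap R' Rf (q b') := by
      rw [← hq', ← hq', ← ha', ← hb', map_mul, map_mul, hxy2]
    obtain ⟨k, hk⟩ := IsLocalization.Away.exists_of_eq (p h) e1
    obtain ⟨l, hl⟩ := IsLocalization.Away.exists_of_eq (q h) e2
    have e3 : h ^ (k + l) * a' = h ^ (k + l) * b' := by
      apply hinj
      · rw [map_mul, map_mul, map_pow]
        calc p h ^ (k + l) * p a' = p h ^ l * (p h ^ k * p a') := by ring
          _ = p h ^ l * (p h ^ k * p b') := by rw [hk]
          _ = p h ^ (k + l) * p b' := by ring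
      · rw [map_mul, map_mul, map_pow]
        calc q h ^ (k + l) * q a' = q h ^ k * (q h ^ l * q a') := by ring
          _ = q h ^ k * (q h ^ l * q b') := by rw [hl]
          _ = q h ^ (k + l) * q b' := by ring
    have e4 : algebraMap B' Bh a' = algebraMap B' Bh b' := by
      have := congrArg (algebraMap B' Bh) e3
      rw [map_mul, map_mul, map_pow] at this
      exact (uh.pow (k + l)).mul_left_cancel this
    have e5 : x * algebraMap B' Bh h ^ (n + m) = y * algebraMap B' Bh h ^ (n + m) := by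
      rw [ha', hb', e4]
    exact (uh.pow (n + m)).mul_right_cancel e5
  · intro bt rt hbr
    obtain ⟨n, b, hb⟩ := IsLocalization.Away.surj (p h) bt
    obtain ⟨m, r, hr⟩ := IsLocalization.Away.surj (q h) rt
    have hσ : t (q h) = s (p h) := (hc' h).symm
    have f1 : sL bt * algebraMap R Rsg (s (p h)) ^ n = algebraMap R Rsg (s b) := by
      rw [← hs', ← hs', ← map_pow, ← map_mul, hb]
    have f2 : tL rt * algebraMap R Rsg (s (p h)) ^ m = algebraMap R Rsg (t r) := by
      rw [← hσ, ← ht', ← ht', ← map_pow, ← map_mul, hr]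
    have f3 : algebraMap R Rsg (s (p h) ^ m * s b) = algebraMap R Rsg (s (p h) ^ n * t r) := by
      rw [map_mul, map_mul, map_pow, map_pow, ← f1, ← f2, hbr]
      ring
    obtain ⟨k, hk⟩ := IsLocalization.Away.exists_of_eq (s (p h)) f3
    have f4 : s (p h ^ (k + m) * b) = t (q h ^ (k + n) * r) := by
      rw [map_mul, map_mul, map_pow, map_pow, hσ, pow_add, pow_add, mul_assoc, hk, ← mul_assoc]
    obtain ⟨x', hx'p, hx'q⟩ := hsurj _ _ f4
    -- the element
    obtain ⟨u, hu⟩ := uh.pow (k + m + n)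
    refine ⟨algebraMap B' Bh x' * ↑u⁻¹, ?_, ?_⟩
    · have g1 : pL (algebraMap B' Bh x' * ↑u⁻¹) * algebraMap B Bg (p h) ^ (k + m + n) =
          bt * algebraMap B Bg (p h) ^ (k + m + n) := by
        have : pL (algebraMap B' Bh x' * ↑u⁻¹) * algebraMap B Bg (p h) ^ (k + m + n) =
            pL (algebraMap B' Bh x' * ↑u⁻¹ * (algebraMap B' Bh h) ^ (k + m + n)) := by
          rw [map_mul pL (algebraMap B' Bh x' * ↑u⁻¹), map_pow, hp']
        rw [this, ← hu, mul_assoc, Units.inv_mul, mul_one, hp', hx'p, map_mul, map_pow,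
          pow_add _ (k + m) n, ← hb]
        ring
      exact (ug.pow (k + m + n)).mul_right_cancel g1
    · have g1 : qL (algebraMap B' Bh x' * ↑u⁻¹) * algebraMap R' Rf (q h) ^ (k + m + n) =
          rt * algebraMap R' Rf (q h) ^ (k + m + n) := by
        have : qL (algebraMap B' Bh x' * ↑u⁻¹) * algebraMap R' Rf (q h) ^ (k + m + n) =
            qL (algebraMap B' Bh x' * ↑u⁻¹ * (algebraMap B' Bh h) ^ (k + m + n)) := by
          rw [map_mul qL (algebraMap B' Bh x' * ↑u⁻¹), map_pow, hq']
        rw [this, ← hu, mul_assoc, Units.inv_mul, mul_one, hq', hx'q, map_mul, map_pow,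
          show k + m + n = (k + n) + m by ring, pow_add _ (k + n) m, ← hr]
        ring
      exact (uf.pow (k + m + n)).mul_right_cancel g1

end Groth.Agent.S6934
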