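import Groth.Statements.S6945
import Groth.Agent.Helper6.LTenModCompute
import Groth.Agent.Helper6.KProjRes
import Groth.Agent.Helper3.DRingTor4
import Groth.Agent.Helper3.DRingResP

set_option autoImplicit false
universe u
open CategoryTheory CategoryTheory.Limits
attribute [local instance] HasDerivedCategory.standard
open DRing

namespace Groth.Agent.S6945

/-- With the definition of tor amplitude: let R be a commutative ring, K an object of D(R) and a, b
integers, and assume the derived tensor product - ⊗^L_R M exists on D(R) for every R-module M. Then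
K is isomorphic in D(R) to a complex of flat R-modules vanishing outside [a, b] if and only if H^i(K
⊗^L_R M) = 0 for every R-module M and every integer i outside [a, b]. -/
theorem result (R : Type u) [CommRing R]
    [∀ M : ModuleCat.{u} R, DRing.HasLTensor R M] (K : Dual.D R) (a b : ℤ) :
    DRing.HasTorAmplitudeIn R a b K ↔
      ∀ (M : ModuleCat.{u} R) (i : ℤ), (i < a ∨ b < i) → Subsingleton (Dual.HD R ((DRing.LTensor R M).obj K) i) := by
  have hkp : ∀ (P : DRing.Cx R) (b' : ℤ), DRing.VanishesAbove P b' →
      (∀ i : ℤ, Module.Projective R (P.X i)) → P.IsKProjective := by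
    intro P b' hP pP
    haveI := Groth.Agent.Helper3.DRingLib.isStrictlyLE_of_vanishesAbove P b' hP
    haveI : ∀ n : ℤ, Projective (P.X n) := fun n =>
      (IsProjective.iff_projective (P.X n)).mp (pP n)
    exact CochainComplex.isKProjective_of_projective P b'
  rw [Groth.Agent.Helper3.DRingLib.hasTorAmplitudeIn_iff']
  constructor
  · rintro ⟨h1, h2⟩ M i hi
    obtain ⟨P, hP, pP, ⟨e⟩⟩ := Groth.Agent.Helper3.DRingLib.exists_projective_rep K b
    haveI := hkp P b hP pP
    have fP : DRing.TermwiseFlat P := fun i => by
      have := pP i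
      infer_instance
    rw [Groth.Agent.Helper6.LTenModCompute.subsingleton_HD_iff M P e i]
    rcases hi with hi | hi
    · exact h2.forall_rep P b hP fP e M i hi
    · exact Groth.Agent.Helper3.DRingLib.exactAt_of_isZero_X _ i
        (Groth.Agent.Helper3.DRingLib.tensorCx_isZero_X P M i (hP i hi))
  · intro h
    have hLE : K.IsLE b := by
      apply Groth.Agent.Helper3.DRingLib.isLE_of_HD
      intro i hi
      obtain ⟨P, f, hP1, -, -, hf, -⟩ :=
        Groth.Agent.Helper6.KProjRes.exists_resolution (DerivedCategory.Q.objPreimage K)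
      haveI := hP1
      haveI : IsIso (DerivedCategory.Q.map f) :=
        (DerivedCategory.isIso_Q_map_iff_quasiIso (ModuleCat.{u} R) _).mpr hf
      let e : DRing.toD P ≅ K :=
        asIso (DerivedCategory.Q.map f) ≪≫ DerivedCategory.Q.objObjPreimageIso K
      have h1 := (Groth.Agent.Helper6.LTenModCompute.subsingleton_HD_iff
        (ModuleCat.of R R) P e i).mp (h _ i (Or.inr hi))
      have h2 := Groth.Agent.Helper3.DRingLib.exactAt_of_exactAt_tensorCx_unit P i h1
      rw [HomologicalComplex.exactAt_iff_isZero_homology] at h2
      exact ModuleCat.subsingleton_of_isZero (h2.of_iso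
        ((DerivedCategory.homologyFunctor (ModuleCat.{u} R) i).mapIso e.symm ≪≫
          (DerivedCategory.homologyFunctorFactors (ModuleCat.{u} R) i).app P))
    refine ⟨hLE, ?_⟩
    obtain ⟨P, hP, pP, ⟨e⟩⟩ := Groth.Agent.Helper3.DRingLib.exists_projective_rep K b
    haveI := hkp P b hP pP
    have fP : DRing.TermwiseFlat P := fun i => by
      have := pP i
      infer_instance
    refine ⟨P, b, hP, fP, ⟨e⟩, fun N i hi => ?_⟩
    exact (Groth.Agent.Helper6.LTenModCompute.subsingleton_HD_iff N P e i).mp (h N i (Or.inl hi))

end Groth.Agent.S6945
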