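import Groth.Statements.S6952
import Groth.Agent.Helper6.RingChangeAmp

set_option autoImplicit false
universe u
open CategoryTheory CategoryTheory.Limits
attribute [local instance] HasDerivedCategory.standard
open DRing

namespace Groth.Agent.S6952

/-- Let R' → R be a surjective homomorphism of commutative rings whose kernel is a nilpotent ideal, such
that the derived base change D(R') → D(R) exists. Let K' be an object of D(R') and a, b integers.
Then K' ⊗^L R has tor amplitude in [a, b] over R if and only if K' has tor amplitude in [a, b] over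
R'. -/
theorem result {R' R : Type u} [CommRing R']
    [CommRing R] (φ : R' →+* R) (hφ : Function.Surjective φ) (hnil : IsNilpotent (RingHom.ker φ))
    [DRing.HasLBaseChange φ] (K' : Dual.D R') (a b : ℤ) :
    DRing.HasTorAmplitudeIn R a b ((DRing.LBaseChange φ).obj K') ↔ DRing.HasTorAmplitudeIn R' a b K' := by
  classical
  obtain ⟨P, f, hP, hkf, hproj, hq, -⟩ :=
    Groth.Agent.Helper6.KProjRes.exists_resolution (DerivedCategory.Q.objPreimage K')
  haveI := hP
  have hiso : IsIso (DerivedCategory.Q.map f) :=
    (DerivedCategory.isIso_Q_map_iff_quasiIso _ _).mpr hq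
  let e : DRing.toD P ≅ K' :=
    asIso (DerivedCategory.Q.map f) ≪≫ DerivedCategory.Q.objObjPreimageIso K'
  have fP : DRing.TermwiseFlat P := fun j => by
    haveI := hproj j
    infer_instance
  haveI : ((Groth.Agent.Helper6.LBCCompute.bcCxF φ).obj P).IsKProjective :=
    Groth.Agent.Helper6.LBaseCmp.isKProjective_ext φ P
  let e2 : DRing.toD ((Groth.Agent.Helper6.LBCCompute.bcCxF φ).obj P) ≅
      (DRing.LBaseChange φ).obj K' :=
    (Groth.Agent.Helper6.LBCCompute.lbcIso φ P).symm ≪≫ (DRing.LBaseChange φ).mapIso e
  rw [Groth.Agent.Helper6.RingChangeAmp.hasTorAmplitudeIn_iff_of_isKProjective _ e2,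
    Groth.Agent.Helper6.RingChangeAmp.hasTorAmplitudeIn_iff_of_isKProjective P e]
  constructor
  · intro h N' i hi
    exact (Groth.Agent.Helper6.RingChangeAmp.forall_exactAt_iff_of_nilpotent φ hφ hnil P fP i).mp
      (fun N => h N i hi) N'
  · intro h N i hi
    exact (Groth.Agent.Helper6.RingChangeAmp.forall_exactAt_iff_of_nilpotent φ hφ hnil P fP i).mpr
      (fun N' => h N' i hi) N

end Groth.Agent.S6952
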