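import Groth.Statements.S6959
import Groth.Agent.Helper6.LTenCxCompute
import Groth.Agent.Helper6.TenFin
import Groth.Agent.Helper6.TenCxQis
import Groth.Agent.Helper3.DRing1

set_option autoImplicit false
universe u
open CategoryTheory CategoryTheory.Limits
attribute [local instance] HasDerivedCategory.standard
open DRing

namespace Groth.Agent.S6959

/-- Let R be a commutative ring, K a perfect object of D(R) and L a cochain complex of R-modules
defining a perfect object of D(R); assume the derived tensor product - ⊗^L_R L exists on D(R). Then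
K ⊗^L_R L is a perfect object of D(R). -/
theorem result (R : Type u) [CommRing R] (K : Dual.D R) (hK : DRing.IsPerfect R K)
    (L : DRing.Cx R) (hL : DRing.IsPerfect R (DRing.toD L)) [DRing.HasLTensorCx R L] :
    DRing.IsPerfect R ((DRing.LTensorCx R L).obj K) := by
  obtain ⟨E', a, b, hE', fE', ⟨eK⟩⟩ := hK
  obtain ⟨F, a', b', hF, fF, ⟨eL⟩⟩ := hL
  have pE : ∀ i, Module.Projective R (E'.X i) := fun i => (fE' i).2
  have pF : ∀ i, Module.Projective R (F.X i) := fun i => (fF i).2
  have vE : DRing.VanishesAbove E' b := fun i hi => hE' i (Or.inr hi)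
  have vF : DRing.VanishesAbove F b' := fun i hi => hF i (Or.inr hi)
  haveI : E'.IsKProjective :=
    Groth.Agent.Helper3.DRingLib.isKProjective_of_vanishesAbove E' b vE pE
  haveI : F.IsKProjective :=
    Groth.Agent.Helper3.DRingLib.isKProjective_of_vanishesAbove F b' vF pF
  obtain ⟨f, hf⟩ := Groth.Agent.Helper6.KProjQ.Q_map_surjective F L eL.hom
  have hqf : QuasiIso f := by
    rw [← DerivedCategory.isIso_Q_map_iff_quasiIso, hf]
    infer_instance
  have hkf : Groth.Agent.Helper6.TenCx.KFlat E' :=
    Groth.Agent.Helper6.TenCx.kflat_of_boundedAbove_flat E' b vE (fun i => by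
      have := pE i
      infer_instance)
  have hq : QuasiIso (MonoidalCategory.whiskerLeft E' f) :=
    Groth.Agent.Helper6.TenCx.quasiIso_whiskerLeft hkf f hqf
  haveI : IsIso (DerivedCategory.Q.map (MonoidalCategory.whiskerLeft E' f)) :=
    (DerivedCategory.isIso_Q_map_iff_quasiIso (ModuleCat.{u} R) _).mpr hq
  refine ⟨MonoidalCategory.tensorObj E' F, a + a', b + b',
    Groth.Agent.Helper6.TenFin.vanishesOutside_tensor E' F a b a' b' hE' hF,
    fun i => ⟨Groth.Agent.Helper6.TenFin.finite_X E' F b b' vE vF (fun i => (fE' i).1)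
      (fun i => (fF i).1) i,
      Groth.Agent.Helper6.TenFin.projective_X E' F pE pF i⟩, ⟨?_⟩⟩
  exact asIso (DerivedCategory.Q.map (MonoidalCategory.whiskerLeft E' f)) ≪≫
    (Groth.Agent.Helper6.LTenCxCompute.ltcIso L E').symm ≪≫ (DRing.LTensorCx R L).mapIso eK

end Groth.Agent.S6959
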