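import Groth.Statements.S6964
import Mathlib
import Groth.Agent.Helper3.DRingProjAmp

set_option autoImplicit false
universe u
open scoped TensorProduct
open CategoryTheory CategoryTheory.Limits
attribute [local instance] HasDerivedCategory.standard
open DRing

namespace Groth.Agent.S6964

/-- Let R be a commutative ring, K an object of D(R) and a, b integers. These four conditions are
equivalent: (1) the projective amplitude of K lies in [a, b], meaning K is isomorphic in D(R) to a
complex of projective R-modules vanishing outside [a, b]; (2) Hom(K, N[i]) = 0 in D(R) for every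
R-module N and every integer i outside [-b, -a]; (3) H^n(K) = 0 for all n > b and Hom(K, N[i]) = 0
for every R-module N and every i > -a; (4) H^n(K) = 0 for all n outside [a - 1, b] and Hom(K, N[-a +
1]) = 0 for every R-module N. -/
theorem result (R : Type u) [CommRing R] (K : Dual.D R) (a b : ℤ) :
    [∃ P : DRing.Cx R, DRing.VanishesOutside P a b ∧ (∀ i : ℤ, Module.Projective R (P.X i)) ∧
        Nonempty (DRing.toD P ≅ K),
      ∀ (N : Type u) [AddCommGroup N] [Module R N] (i : ℤ), (i < -b ∨ -a < i) →
        Subsingleton (DRing.ExtD R K (Dual.inD R N) i),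
      (∀ n : ℤ, b < n → Subsingleton (Dual.HD R K n)) ∧
        ∀ (N : Type u) [AddCommGroup N] [Module R N] (i : ℤ), -a < i → Subsingleton (DRing.ExtD R K (Dual.inD R N) i),
      (∀ n : ℤ, (n < a - 1 ∨ b < n) → Subsingleton (Dual.HD R K n)) ∧
        ∀ (N : Type u) [AddCommGroup N] [Module R N], Subsingleton (DRing.ExtD R K (Dual.inD R N) (-a + 1))].TFAE := by
  have tr : ∀ (K' : DRing.Cx R) (e : DRing.toD K' ≅ K) (n : ℤ)
      (h : ∀ (N : Type u) [AddCommGroup N] [Module R N],
        Subsingleton (DRing.ExtD R K (Dual.inD R N) (-n))), Subsingleton (Dual.HD R K n) := by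
    intro K' e n h
    apply Groth.Agent.Helper3.DRingLib.subsingleton_HD_of_iso e n
    apply Groth.Agent.Helper3.DRingLib.subsingleton_HD_toD_of_exactAt
    apply Groth.Agent.Helper3.DRingLib.exactAt_of_ext_eq_zero K' (-n) n (by omega)
    intro N x
    have := h N
    rw [← cancel_epi e.inv]
    exact Subsingleton.elim (α := DRing.ExtD R K (Dual.inD R N) (-n)) _ _
  have tr' : ∀ (n : ℤ)
      (h : ∀ (N : Type u) [AddCommGroup N] [Module R N],
        Subsingleton (DRing.ExtD R K (Dual.inD R N) (-n))), Subsingleton (Dual.HD R K n) :=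
    fun n h => tr (DerivedCategory.Q.objPreimage K) (DerivedCategory.Q.objObjPreimageIso K) n h
  tfae_have 1 → 2 := by
    rintro ⟨P, hv, hproj, ⟨e⟩⟩ N _ _ i hi
    haveI : P.IsKProjective := Groth.Agent.Helper3.DRingLib.isKProjective_of_vanishesAbove P b
      (fun k hk => hv k (Or.inr hk)) hproj
    have key : ∀ z : K ⟶ (Dual.inD R N)⟦i⟧, z = 0 := by
      intro z
      rw [← cancel_epi e.hom]
      obtain ⟨f, hf, hz⟩ := Groth.Agent.Helper3.DRingLib.extRep_surjective P (ModuleCat.of R N) i
        (-i) (by omega) (e.hom ≫ z)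
      have hz0 : IsZero (P.X (-i)) := hv (-i) (by omega)
      have hf0 : f = 0 := hz0.eq_of_src _ _
      subst hf0
      rw [← hz, Groth.Agent.Helper3.DRingLib.extRep_zero, Limits.comp_zero]
    constructor
    intro x y
    rw [key x, key y]
  tfae_have 2 → 3 := by
    intro h
    refine ⟨fun n hn => tr' n (fun N _ _ => h N (-n) (by omega)), fun N _ _ i hi => h N i (Or.inr hi)⟩
  tfae_have 3 → 4 := by
    rintro ⟨h1, h2⟩
    refine ⟨fun n hn => ?_, fun N _ _ => h2 N (-a + 1) (by omega)⟩
    rcases hn with hn | hn
    · exact tr' n (fun N _ _ => h2 N (-n) (by omega))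
    · exact h1 n hn
  tfae_have 4 → 1 := by
    rintro ⟨h1, h2⟩
    refine Groth.Agent.Helper3.DRingLib.exists_projective_rep_of_ext K (a - 1) a b (by omega)
      (fun k hk => h1 k (Or.inr hk)) (fun k hk => h1 k (Or.inl hk)) ?_
    intro N _ _
    have h3 := h2 N
    have h4 : -a + 1 = -(a - 1) := by omega
    rw [h4] at h3
    exact h3
  tfae_finish

end Groth.Agent.S6964
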