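import Groth.Statements.S6965
import Mathlib
import Groth.Agent.Helper3.DRingInjAmp

set_option autoImplicit false
universe u
open scoped TensorProduct
open CategoryTheory CategoryTheory.Limits
attribute [local instance] HasDerivedCategory.standard
open DRing

namespace Groth.Agent.S6965

/-- Let R be a commutative ring, K an object of D(R) and a, b integers. These three conditions are
equivalent: (1) the injective amplitude of K lies in [a, b], meaning K is isomorphic in D(R) to a
complex of injective R-modules vanishing outside [a, b]; (2) Hom(N[0], K[i]) = 0 in D(R) for every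
R-module N and every integer i outside [a, b]; (3) Hom((R/I)[0], K[i]) = 0 in D(R) for every ideal I
of R and every integer i outside [a, b]. -/
theorem result (R : Type u) [CommRing R] (K : Dual.D R) (a b : ℤ) :
    [DRing.HasInjAmplitudeIn R a b K,
      ∀ (N : Type u) [AddCommGroup N] [Module R N] (i : ℤ), (i < a ∨ b < i) →
        Subsingleton (DRing.ExtD R (Dual.inD R N) K i),
      ∀ (I : Ideal R) (i : ℤ), (i < a ∨ b < i) → Subsingleton (DRing.ExtD R (Dual.inD R (R ⧸ I)) K i)].TFAE := by
  tfae_have 1 → 2 := by
    rintro ⟨E, hv, hinj, ⟨e⟩⟩ N _ _ i hi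
    haveI : E.IsKInjective := Groth.Agent.Helper3.DRingLib.isKInjective_of_termwiseInjective E a b hv hinj
    have key : ∀ z : Dual.inD R N ⟶ K⟦i⟧, z = 0 := by
      intro z
      rw [← cancel_mono (e.inv⟦i⟧')]
      obtain ⟨f, hf, hz⟩ := Groth.Agent.Helper3.DRingLib.extRepI_surjective E (ModuleCat.of R N) i
        (z ≫ e.inv⟦i⟧')
      have hz0 : IsZero (E.X i) := hv i hi
      have hf0 : f = 0 := hz0.eq_of_tgt _ _
      subst hf0
      rw [← hz, Groth.Agent.Helper3.DRingLib.extRepI_zero, Limits.zero_comp]
    constructor
    intro x y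
    rw [key x, key y]
  tfae_have 2 → 3 := by
    intro h I i hi
    exact h (R ⧸ I) i hi
  tfae_have 3 → 1 := by
    intro h
    apply Groth.Agent.Helper3.DRingLib.exists_injective_rep_of_ext K a b
    intro J i hi x
    have := h J i hi
    exact Subsingleton.elim (α := DRing.ExtD R (Dual.inD R (R ⧸ J)) K i) _ _
  tfae_finish

end Groth.Agent.S6965
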