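import Groth.Statements.S6966
import Mathlib
import Groth.Agent.Helper3.DRingTwoTerm

set_option autoImplicit false
universe u
open scoped TensorProduct
open CategoryTheory CategoryTheory.Limits
attribute [local instance] HasDerivedCategory.standard
open CAlg

namespace Groth.Agent.S6966

/-- Let R be a commutative ring, I an ideal of R and M an R-module. Then the following two conditions
coincide: for each a ∈ I, the endomorphism of M given by multiplication by a can be written as a
composite M → P → M with P some projective R-module; and for every R-module N and every a ∈ I, a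
annihilates Ext^1_R(M, N) = Hom(M[0], N[1]) in D(R). -/
theorem result (R : Type u) [CommRing R] (I : Ideal R) (M : Type u)
    [AddCommGroup M] [Module R M] :
    (∀ a ∈ I, ∃ (P : Type u) (_ : AddCommGroup P) (_ : Module R P) (_ : Module.Projective R P)
        (f : M →ₗ[R] P) (g : P →ₗ[R] M), g ∘ₗ f = a • LinearMap.id) ↔
      ∀ (N : Type u) [AddCommGroup N] [Module R N], ∀ a ∈ I,
        ∀ x : DRing.ExtD R (Dual.inD R M) (Dual.inD R N) 1, a • x = 0 := by
  constructor
  · intro h N _ _ a ha x
    obtain ⟨P, _, _, hP, f, g, hgf⟩ := h a ha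
    have h0 : (DerivedCategory.singleFunctor (ModuleCat.{u} R) 0).map (ModuleCat.ofHom g) ≫ x = 0 :=
      Groth.Agent.Helper3.DRingLib.hom_single_projective_eq_zero (ModuleCat.of R P)
        (ModuleCat.of R N) 1 (by omega) _
    have h1 : a • 𝟙 (ModuleCat.of R M) = ModuleCat.ofHom f ≫ ModuleCat.ofHom g := by
      rw [← ModuleCat.ofHom_comp, hgf]
      rfl
    have h2 : a • x = (a • 𝟙 (Dual.inD R M)) ≫ x := by
      rw [Linear.smul_comp, Category.id_comp]
    have h3 : a • 𝟙 (Dual.inD R M) =
        (DerivedCategory.singleFunctor (ModuleCat.{u} R) 0).map (a • 𝟙 (ModuleCat.of R M)) := by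
      rw [Functor.map_smul, CategoryTheory.Functor.map_id]
    rw [h2, h3, h1, Functor.map_comp, Category.assoc, h0, Limits.comp_zero]
  · intro h a ha
    let π : (M →₀ R) →ₗ[R] M := Finsupp.linearCombination R id
    have hπ : Function.Surjective π := Finsupp.linearCombination_id_surjective R M
    have hS := LinearMap.shortExact_shortComplexKer hπ
    have hT := hS.singleTriangle_distinguished
    have h0 := h (LinearMap.ker π) a ha hS.singleδ
    have h1 : (a • 𝟙 (Dual.inD R M)) ≫ hS.singleδ = 0 := by
      rw [Linear.smul_comp, Category.id_comp]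
      exact h0
    obtain ⟨(s : Dual.inD R M ⟶ Dual.inD R (M →₀ R)), hs⟩ :=
      Pretriangulated.Triangle.coyoneda_exact₃ _ hT (a • 𝟙 (Dual.inD R M)) h1
    obtain ⟨f, rfl⟩ := (DerivedCategory.singleFunctor (ModuleCat.{u} R) 0).map_surjective s
    refine ⟨(M →₀ R), inferInstance, inferInstance, inferInstance, f.hom, π, ?_⟩
    have h3 : a • 𝟙 (Dual.inD R M) =
        (DerivedCategory.singleFunctor (ModuleCat.{u} R) 0).map (a • 𝟙 (ModuleCat.of R M)) := by
      rw [Functor.map_smul, CategoryTheory.Functor.map_id]
    have hs' : (DerivedCategory.singleFunctor (ModuleCat.{u} R) 0).map (a • 𝟙 (ModuleCat.of R M)) =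
        (DerivedCategory.singleFunctor (ModuleCat.{u} R) 0).map (f ≫ ModuleCat.ofHom π) := by
      rw [← h3, Functor.map_comp]
      exact hs
    have h4 := (DerivedCategory.singleFunctor (ModuleCat.{u} R) 0).map_injective hs'
    have h5 := congrArg ModuleCat.Hom.hom h4
    exact h5.symm

end Groth.Agent.S6966
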