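import Groth.Statements.S6967
import Mathlib

set_option autoImplicit false
universe u
open scoped TensorProduct
open CAlg

namespace Groth.Agent.S6967

/-- Let R be a commutative ring, I an ideal of R and 0 → K → P → M → 0 a short exact sequence of
R-modules with P projective. If multiplication by a on M factors through a projective R-module for
every a ∈ I, then multiplication by a on K factors through a projective R-module for every a ∈ I. -/
theorem result (R : Type u) [CommRing R] (I : Ideal R)
    {K P M : Type u} [AddCommGroup K] [Module R K] [AddCommGroup P] [Module R P] [Module.Projective R P]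
    [AddCommGroup M] [Module R M] (f : K →ₗ[R] P) (g : P →ₗ[R] M) (hf : Function.Injective f)
    (hg : Function.Surjective g) (hfg : LinearMap.range f = LinearMap.ker g)
    (hM : ∀ a ∈ I, ∃ (P : Type u) (_ : AddCommGroup P) (_ : Module R P) (_ : Module.Projective R P)
        (f : M →ₗ[R] P) (g : P →ₗ[R] M), g ∘ₗ f = a • LinearMap.id) :
    ∀ a ∈ I, ∃ (P : Type u) (_ : AddCommGroup P) (_ : Module R P) (_ : Module.Projective R P)
        (f : K →ₗ[R] P) (g : P →ₗ[R] K), g ∘ₗ f = a • LinearMap.id := by
  intro a ha
  obtain ⟨Q, _, _, hQ, α, β, hβα⟩ := hM a ha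
  obtain ⟨β', hβ'⟩ := Module.projective_lifting_property g β hg
  have hex : Function.Exact f g := by
    rw [LinearMap.exact_iff]; exact hfg.symm
  let D : P →ₗ[R] P := a • LinearMap.id - β' ∘ₗ α ∘ₗ g
  have hD : ∀ x : P, D x ∈ LinearMap.range f := by
    intro x
    rw [hfg, LinearMap.mem_ker]
    change g (a • x - β' (α (g x))) = 0
    rw [map_sub, map_smul]
    have h1 : g (β' (α (g x))) = β (α (g x)) := LinearMap.congr_fun hβ' (α (g x))
    have h2 : β (α (g x)) = a • g x := LinearMap.congr_fun hβα (g x)
    rw [h1, h2, sub_self]
  let e := LinearEquiv.ofInjective f hf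
  let h : P →ₗ[R] K := e.symm.toLinearMap ∘ₗ LinearMap.codRestrict (LinearMap.range f) D hD
  refine ⟨P, inferInstance, inferInstance, inferInstance, f, h, ?_⟩
  ext k
  apply hf
  change f (e.symm (LinearMap.codRestrict (LinearMap.range f) D hD (f k))) = f (a • k)
  have h3 : f (e.symm (LinearMap.codRestrict (LinearMap.range f) D hD (f k))) =
      (e (e.symm (LinearMap.codRestrict (LinearMap.range f) D hD (f k)))).1 := rfl
  rw [h3, LinearEquiv.apply_symm_apply]
  change a • f k - β' (α (g (f k))) = f (a • k)
  rw [hex.apply_apply_eq_zero, map_zero, map_zero, sub_zero, map_smul]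

end Groth.Agent.S6967
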