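import Groth.Statements.S6969
import Mathlib

set_option autoImplicit false
universe u
open scoped TensorProduct
open CAlg

namespace Groth.Agent.S6969

/-- Let R be a commutative ring and φ : M → N an R-linear map which factors through a projective
R-module. If M is finitely generated, then φ factors through a finitely generated projective
R-module. -/
theorem result (R : Type u) [CommRing R] {M N : Type u} [AddCommGroup M]
    [Module R M] [Module.Finite R M] [AddCommGroup N] [Module R N] (φ : M →ₗ[R] N)
    (h : ∃ (P : Type u) (_ : AddCommGroup P) (_ : Module R P) (_ : Module.Projective R P) (f : M →ₗ[R] P)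
      (g : P →ₗ[R] N), g ∘ₗ f = φ) :
    ∃ (P : Type u) (_ : AddCommGroup P) (_ : Module R P) (_ : Module.Projective R P) (_ : Module.Finite R P)
      (f : M →ₗ[R] P) (g : P →ₗ[R] N), g ∘ₗ f = φ := by
  classical
  obtain ⟨P, _, _, hP, f, g, hgf⟩ := h
  obtain ⟨s, hs⟩ := (Module.projective_def' (R := R) (P := P)).1 hP
  obtain ⟨T, hT⟩ := (Module.Finite.fg_top : (⊤ : Submodule R M).FG)
  let t : Finset P := T.biUnion (fun m => (s (f m)).support)
  have hmem : ∀ m : M, s (f m) ∈ Finsupp.supported R R (t : Set P) := by
    intro m
    have hm : m ∈ Submodule.span R (T : Set M) := hT ▸ Submodule.mem_top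
    induction hm using Submodule.span_induction with
    | mem m hm =>
      rw [Finsupp.mem_supported]
      intro x hx
      exact Finset.mem_biUnion.2 ⟨m, hm, hx⟩
    | zero => simp
    | add a b _ _ ha hb => rw [map_add, map_add]; exact Submodule.add_mem _ ha hb
    | smul c a _ ha => rw [map_smul, map_smul]; exact Submodule.smul_mem _ _ ha
  let P' := Finsupp.supported R R (t : Set P)
  let e : P' ≃ₗ[R] ((t : Set P) →₀ R) := Finsupp.supportedEquivFinsupp (t : Set P)
  haveI : Module.Free R P' := Module.Free.of_equiv e.symm
  haveI : Module.Finite R P' := Module.Finite.equiv e.symm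
  let f' : M →ₗ[R] P' := LinearMap.codRestrict P' (s ∘ₗ f) hmem
  let g' : P' →ₗ[R] N := g ∘ₗ Finsupp.linearCombination R id ∘ₗ P'.subtype
  refine ⟨P', inferInstance, inferInstance, inferInstance, inferInstance, f', g', ?_⟩
  ext m
  change g (Finsupp.linearCombination R id (s (f m))) = φ m
  have := LinearMap.congr_fun hs (f m)
  simp only [LinearMap.comp_apply, LinearMap.id_apply] at this
  rw [this, ← hgf]
  rfl

end Groth.Agent.S6969
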