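import Groth.Statements.S6968
import Mathlib
import Groth.Agent.S6969

set_option autoImplicit false
universe u
open scoped TensorProduct
open CAlg

namespace Groth.Agent.S6968

/-- Let R be a commutative ring, I an ideal of R and M a finitely generated R-module such that
multiplication by a on M factors through a projective R-module for every a ∈ I. Then multiplication
by a on the dual module Hom_R(M, R) factors through a projective R-module for every a ∈ I. -/
theorem result (R : Type u) [CommRing R] (I : Ideal R) (M : Type u) [AddCommGroup M]
    [Module R M] [Module.Finite R M]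
    (hM : ∀ a ∈ I, ∃ (P : Type u) (_ : AddCommGroup P) (_ : Module R P) (_ : Module.Projective R P)
        (f : M →ₗ[R] P) (g : P →ₗ[R] M), g ∘ₗ f = a • LinearMap.id) :
    ∀ a ∈ I, ∃ (P : Type u) (_ : AddCommGroup P) (_ : Module R P) (_ : Module.Projective R P)
        (f : Module.Dual R M →ₗ[R] P) (g : P →ₗ[R] Module.Dual R M), g ∘ₗ f = a • LinearMap.id := by
  intro a ha
  obtain ⟨Q, _, _, hQ, hQfin, α, β, hβα⟩ :=
    Groth.Agent.S6969.result R (a • LinearMap.id : M →ₗ[R] M) (hM a ha)
  refine ⟨Module.Dual R Q, inferInstance, inferInstance, inferInstance, β.dualMap, α.dualMap, ?_⟩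
  ext φ m
  change φ (β (α m)) = a • φ m
  have : β (α m) = a • m := LinearMap.congr_fun hβα m
  rw [this, map_smul]

end Groth.Agent.S6968
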