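import Groth.Statements.S6976
import Mathlib
import Groth.Agent.Helper3.DRingTor7

set_option autoImplicit false
universe u
open scoped TensorProduct
open CategoryTheory CategoryTheory.Limits
attribute [local instance] HasDerivedCategory.standard
open DRing

namespace Groth.Agent.S6976

/-- Let R be a commutative ring, K a pseudo-coherent object of D(R) and a, b integers. Then K is
isomorphic in D(R) to a complex of projective R-modules vanishing outside [a, b] if and only if K is
perfect with tor amplitude in [a, b]. -/
theorem result (R : Type u) [CommRing R]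
    (K : Dual.D R) (hK : DRing.IsPseudoCoherent' R K) (a b : ℤ) :
    (∃ P : DRing.Cx R, DRing.VanishesOutside P a b ∧ (∀ i : ℤ, Module.Projective R (P.X i)) ∧
        Nonempty (DRing.toD P ≅ K)) ↔ DRing.IsPerfect R K ∧ DRing.HasTorAmplitudeIn R a b K := by
  constructor
  · rintro ⟨P, hv, hp, ⟨e⟩⟩
    have ht : DRing.HasTorAmplitudeIn R a b K := ⟨P, hv, fun i => by
      have := hp i
      infer_instance, ⟨e⟩⟩
    exact ⟨(Groth.Agent.Helper3.DRingLib.isPerfect_iff_pc_and_torDim K).mpr ⟨hK, a, b, ht⟩, ht⟩
  · rintro ⟨_, ht⟩
    have ht' := ht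
    rw [Groth.Agent.Helper3.DRingLib.hasTorAmplitudeIn_iff'] at ht'
    obtain ⟨l, t⟩ := ht'
    have hpc := (Groth.Agent.Helper3.DRingLib.isPseudoCoherent'_iff_forall K).mp hK
    by_cases hab : a ≤ b
    · obtain ⟨E, hv, hfp, he⟩ :=
        Groth.Agent.Helper3.DRingLib.exists_finiteProjective_rep_of_isTorGE hab hpc t
      exact ⟨E, hv, fun i => (hfp i).2, he⟩
    · have := t.isGE
      have hz : Limits.IsZero K :=
        DerivedCategory.TStructure.t.isZero K b a (by omega)
      obtain ⟨E, hv, hf, he⟩ := ht
      refine ⟨E, hv, fun i => ?_, he⟩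
      have hz' : Limits.IsZero (E.X i) := hv i (by omega)
      have := ModuleCat.subsingleton_of_isZero hz'
      infer_instance

end Groth.Agent.S6976
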