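import Groth.Statements.S6990
import Mathlib
import Groth.Agent.Helper3.DRing1

set_option autoImplicit false
universe u
open scoped TensorProduct
open CategoryTheory CategoryTheory.Limits
attribute [local instance] HasDerivedCategory.standard
open DRing

namespace Groth.Agent.S6990

open CategoryTheory.Pretriangulated in
/-- Let R be a commutative ring, a, b integers, L an object of D(R) isomorphic to a complex of
projective R-modules vanishing outside [a, b], and K an object of D(R). (1) If H^i(K) = 0 for all i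
≥ a, then every morphism L → K in D(R) is zero. (2) If H^i(K) = 0 for all i ≥ a + 1, then for every
distinguished triangle K → M → L → K[1] there is an isomorphism M ≅ K ⊕ L carrying K → M to the
first inclusion and whose composite with the second projection is M → L. -/
theorem result (R : Type u) [CommRing R] (a b : ℤ)
    (L : Dual.D R) (hL : ∃ P : DRing.Cx R, DRing.VanishesOutside P a b ∧ (∀ i : ℤ, Module.Projective R (P.X i)) ∧
      Nonempty (DRing.toD P ≅ L)) (K : Dual.D R) :
    ((∀ i : ℤ, a ≤ i → Subsingleton (Dual.HD R K i)) → Subsingleton (L ⟶ K)) ∧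
      ((∀ i : ℤ, a + 1 ≤ i → Subsingleton (Dual.HD R K i)) → ∀ (T : Triangle (Dual.D R)), T ∈ distinguishedTriangles →
        T.obj₁ = K → T.obj₃ = L → ∀ [HasBinaryBiproduct T.obj₁ T.obj₃],
          ∃ e : T.obj₂ ≅ T.obj₁ ⊞ T.obj₃, T.mor₁ ≫ e.hom = biprod.inl ∧ e.hom ≫ biprod.snd = T.mor₂) := by
  obtain ⟨P, hP, hproj, ⟨e⟩⟩ := hL
  haveI : P.IsKProjective := Groth.Agent.Helper3.DRingLib.isKProjective_of_vanishesAbove P b
    (fun i hi => hP i (Or.inr hi)) hproj
  have key : ∀ (K' : Dual.D R), (∀ i, a ≤ i → Subsingleton (Dual.HD R K' i)) →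
      ∀ f : L ⟶ K', f = 0 := by
    intro K' hK' f
    haveI : K'.IsLE (a-1) := Groth.Agent.Helper3.DRingLib.isLE_of_HD K' (a-1)
      (fun i hi => hK' i (by omega))
    have := Groth.Agent.Helper3.DRingLib.hom_eq_zero_of_isLE P a (fun i hi => hP i (Or.inl hi))
      K' (a-1) (by omega) (e.hom ≫ f)
    rw [← cancel_epi e.hom, this, comp_zero]
  refine ⟨fun hK => ⟨fun f g => by rw [key K hK f, key K hK g]⟩, ?_⟩
  intro hK T hT h1 h3 _
  subst h1 h3
  have hz : T.mor₃ = 0 := by
    refine key _ ?_ _
    intro i hi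
    have h' : Subsingleton (((DerivedCategory.homologyFunctor (ModuleCat R) 0).shift (i + 1)).obj T.obj₁) :=
      hK (i+1) (by omega)
    exact ModuleCat.subsingleton_of_isZero ((ModuleCat.isZero_of_subsingleton _).of_iso
      (((DerivedCategory.homologyFunctor _ 0).shiftIso (1:ℤ) i (i+1) (by omega)).app T.obj₁))
  obtain ⟨e', h1, h2⟩ := Pretriangulated.exists_iso_binaryBiproduct_of_distTriang T hT hz
  exact ⟨e', h1, h2.symm⟩

end Groth.Agent.S6990
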