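import Groth.Statements.S6992
import Mathlib
import Groth.Agent.Helper3.RelFPa2

set_option autoImplicit false
universe u
open scoped TensorProduct
open CAlg

namespace Groth.Agent.S6992

/-- Let R be a commutative ring, A → B a finite homomorphism of finite type R-algebras, M a B-module,
and α : R[x_1, ..., x_n] → A, β : R[y_1, ..., y_k] → B surjective R-algebra homomorphisms. Then M is
finitely presented as an R[x_1, ..., x_n]-module through α and A → B (M is finitely presented
relative to R as an A-module) if and only if M is finitely presented as an R[y_1, ..., y_k]-module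
through β (M is finitely presented relative to R as a B-module). -/
theorem result {R A B : Type u} [CommRing R] [CommRing A] [CommRing B]
    [Algebra R A] [Algebra A B] [Algebra R B] [IsScalarTower R A B] [Algebra.FiniteType R A]
    [Algebra.FiniteType R B] [Module.Finite A B] (M : Type u) [AddCommGroup M] [Module B M] [Module A M]
    [IsScalarTower A B M] {n k : ℕ} (α : MvPolynomial (Fin n) R →ₐ[R] A) (hα : Function.Surjective α)
    (β : MvPolynomial (Fin k) R →ₐ[R] B) (hβ : Function.Surjective β) :
    @Module.FinitePresentation (MvPolynomial (Fin n) R) M _ _ (Module.compHom M α.toRingHom) ↔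
      @Module.FinitePresentation (MvPolynomial (Fin k) R) M _ _ (Module.compHom M β.toRingHom) := by
  classical
  let α' : MvPolynomial (Fin n) R →+* B := (algebraMap A B).comp α.toRingHom
  have hmod : (Module.compHom M α.toRingHom : Module (MvPolynomial (Fin n) R) M) =
      Module.compHom M α' := by
    apply Module.ext'
    intro p m
    change α p • m = (algebraMap A B (α p)) • m
    rw [algebraMap_smul]
  rw [hmod]
  let γ : MvPolynomial (Fin k) (MvPolynomial (Fin n) R) →+* B :=
    MvPolynomial.eval₂Hom α' (fun j => β (MvPolynomial.X j))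
  have hγC : γ.comp MvPolynomial.C = α' := by
    ext p
    · change MvPolynomial.eval₂ α' _ (MvPolynomial.C (MvPolynomial.C p)) = α' (MvPolynomial.C p)
      rw [MvPolynomial.eval₂_C]
    · change MvPolynomial.eval₂ α' _ (MvPolynomial.C (MvPolynomial.X _)) = α' (MvPolynomial.X _)
      rw [MvPolynomial.eval₂_C]
  have hγX : ∀ j, γ (MvPolynomial.X j) = β (MvPolynomial.X j) := by
    intro j
    change MvPolynomial.eval₂ α' _ (MvPolynomial.X j) = _
    rw [MvPolynomial.eval₂_X]
  have hαC : ∀ r : R, α' (MvPolynomial.C r) = algebraMap R B r := by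
    intro r
    change algebraMap A B (α (MvPolynomial.C r)) = _
    have : α (MvPolynomial.C r) = algebraMap R A r := by
      rw [← MvPolynomial.algebraMap_eq]
      exact α.commutes r
    rw [this, ← IsScalarTower.algebraMap_apply]
  have hint : ∀ j, ∃ g : Polynomial (MvPolynomial (Fin n) R), g.Monic ∧
      Polynomial.eval₂ (γ.comp MvPolynomial.C) (γ (MvPolynomial.X j)) g = 0 := by
    intro j
    have hb : IsIntegral A (β (MvPolynomial.X j)) := Algebra.IsIntegral.isIntegral _
    obtain ⟨p, hpm, hp0⟩ := hb
    have hl : p ∈ Polynomial.lifts α.toRingHom := by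
      rw [Polynomial.lifts_iff_coeff_lifts]
      intro i
      exact hα (p.coeff i)
    obtain ⟨q, hq, -, hqm⟩ := Polynomial.lifts_and_natDegree_eq_and_monic hl hpm
    refine ⟨q, hqm, ?_⟩
    rw [hγC, hγX]
    change Polynomial.eval₂ ((algebraMap A B).comp α.toRingHom) _ q = 0
    rw [← Polynomial.eval₂_map, hq]
    exact hp0
  have step1 := Groth.Agent.Helper3.RelFPa.fp_mvPolynomial_iff M k γ hint
  rw [hγC] at step1
  rw [step1]
  let e := MvPolynomial.sumAlgEquiv R (Fin k) (Fin n)
  have hker : (RingHom.ker e.toAlgHom.toRingHom).FG := by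
    have : RingHom.ker e.toAlgHom.toRingHom = ⊥ :=
      (RingHom.injective_iff_ker_eq_bot _).1 e.injective
    rw [this]
    exact Submodule.fg_bot
  have step2 := Groth.Agent.Helper3.RelFPa.fp_comp_iff e.toAlgHom.toRingHom e.surjective hker γ M
  rw [← step2]
  -- surjectivity of γ
  have hγβ : γ.comp (MvPolynomial.map (MvPolynomial.C : R →+* MvPolynomial (Fin n) R)) =
      β.toRingHom := by
    apply MvPolynomial.ringHom_ext
    · intro r
      change γ (MvPolynomial.map MvPolynomial.C (MvPolynomial.C r)) = β (MvPolynomial.C r)
      rw [MvPolynomial.map_C]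
      have h1 : γ (MvPolynomial.C (MvPolynomial.C r)) = α' (MvPolynomial.C r) :=
        RingHom.congr_fun hγC (MvPolynomial.C r)
      rw [h1, hαC]
      have : β (MvPolynomial.C r) = algebraMap R B r := by
        rw [← MvPolynomial.algebraMap_eq]
        exact β.commutes r
      rw [this]
    · intro j
      change γ (MvPolynomial.map MvPolynomial.C (MvPolynomial.X j)) = β (MvPolynomial.X j)
      rw [MvPolynomial.map_X, hγX]
  have hγsurj : Function.Surjective γ := by
    intro b
    obtain ⟨q, rfl⟩ := hβ b
    exact ⟨MvPolynomial.map MvPolynomial.C q, RingHom.congr_fun hγβ q⟩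
  apply Groth.Agent.Helper3.RelFPa.fp_indep (γ.comp e.toAlgHom.toRingHom) β.toRingHom
    (hγsurj.comp e.surjective) hβ ?_ M
  ext r
  change γ (e (MvPolynomial.C r)) = β (MvPolynomial.C r)
  have he : e (MvPolynomial.C r) = MvPolynomial.C (MvPolynomial.C r) := by
    have h1 : e (algebraMap R _ r) = algebraMap R _ r := e.commutes r
    rw [MvPolynomial.algebraMap_eq] at h1
    rw [h1]
    rfl
  rw [he]
  have h1 : γ (MvPolynomial.C (MvPolynomial.C r)) = α' (MvPolynomial.C r) :=
    RingHom.congr_fun hγC (MvPolynomial.C r)
  rw [h1, hαC]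
  have : β (MvPolynomial.C r) = algebraMap R B r := by
    rw [← MvPolynomial.algebraMap_eq]
    exact β.commutes r
  rw [this]

end Groth.Agent.S6992
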