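import Groth.Statements.S6993
import Mathlib
import Groth.Agent.Helper3.RelFPa

set_option autoImplicit false
universe u
open scoped TensorProduct
open CAlg

namespace Groth.Agent.S6993

/-- Let R → A → B be finite type homomorphisms of commutative rings with A of finite presentation over
R, M a B-module, and α : A[x_1, ..., x_n] → B, β : R[y_1, ..., y_k] → B surjective algebra
homomorphisms over A and R respectively. If M is finitely presented as an A[x_1, ..., x_n]-module
through α (finitely presented relative to A), then M is finitely presented as an R[y_1, ...,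
y_k]-module through β (finitely presented relative to R). -/
theorem result {R A B : Type u} [CommRing R] [CommRing A]
    [CommRing B] [Algebra R A] [Algebra A B] [Algebra R B] [IsScalarTower R A B] [Algebra.FinitePresentation R A]
    [Algebra.FiniteType A B] (M : Type u) [AddCommGroup M] [Module B M] {n k : ℕ}
    (α : MvPolynomial (Fin n) A →ₐ[A] B) (hα : Function.Surjective α)
    (β : MvPolynomial (Fin k) R →ₐ[R] B) (hβ : Function.Surjective β)
    (hM : @Module.FinitePresentation (MvPolynomial (Fin n) A) M _ _ (Module.compHom M α.toRingHom)) :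
    @Module.FinitePresentation (MvPolynomial (Fin k) R) M _ _ (Module.compHom M β.toRingHom) := by
  classical
  obtain ⟨m, f, hf, hfker⟩ := (Algebra.FinitePresentation.out : ∃ (m : ℕ)
    (f : MvPolynomial (Fin m) R →ₐ[R] A), Function.Surjective f ∧ (RingHom.ker f.toRingHom).FG)
  -- step 1: pull back along `map f`
  let π₁ : MvPolynomial (Fin n) (MvPolynomial (Fin m) R) →+* MvPolynomial (Fin n) A :=
    MvPolynomial.map f.toRingHom
  have hπ₁ : Function.Surjective π₁ := MvPolynomial.map_surjective f.toRingHom hf
  have hker₁ : (RingHom.ker π₁).FG := by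
    rw [MvPolynomial.ker_map]
    exact hfker.map _
  have h1 := (Groth.Agent.Helper3.RelFPa.fp_comp_iff π₁ hπ₁ hker₁ α.toRingHom M).2 hM
  -- step 2: the equivalence
  let e := MvPolynomial.sumAlgEquiv R (Fin n) (Fin m)
  let π₂ : MvPolynomial (Fin n ⊕ Fin m) R →+* MvPolynomial (Fin n) (MvPolynomial (Fin m) R) :=
    e.toAlgHom.toRingHom
  have hπ₂ : Function.Surjective π₂ := e.surjective
  have hker₂ : (RingHom.ker π₂).FG := by
    have : RingHom.ker π₂ = ⊥ := by
      rw [RingHom.ker_eq_bot_iff_eq_zero]
      intro x hx
      exact (map_eq_zero_iff e e.injective).1 hx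
    rw [this]
    exact Submodule.fg_bot
  have h2 := (Groth.Agent.Helper3.RelFPa.fp_comp_iff π₂ hπ₂ hker₂ (α.toRingHom.comp π₁) M).2 h1
  -- step 3: independence
  have hα' : Function.Surjective ((α.toRingHom.comp π₁).comp π₂) :=
    (hα.comp hπ₁).comp hπ₂
  have hC : ((α.toRingHom.comp π₁).comp π₂).comp MvPolynomial.C =
      β.toRingHom.comp MvPolynomial.C := by
    ext r
    change α (MvPolynomial.map f.toRingHom (e (MvPolynomial.C r))) = β (MvPolynomial.C r)
    have h3 : β (MvPolynomial.C r) = algebraMap R B r := by
      rw [← MvPolynomial.algebraMap_eq]; exact AlgHom.commutes β r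
    rw [h3, MvPolynomial.sumAlgEquiv_C_inl, MvPolynomial.map_C]
    have h4 : f.toRingHom (MvPolynomial.C r) = algebraMap R A r := by
      change f (MvPolynomial.C r) = _
      rw [← MvPolynomial.algebraMap_eq]; exact AlgHom.commutes f r
    rw [h4, ← MvPolynomial.algebraMap_eq, AlgHom.commutes, ← IsScalarTower.algebraMap_apply]
  exact (Groth.Agent.Helper3.RelFPa.fp_indep _ β.toRingHom hα' hβ hC M).1 h2

end Groth.Agent.S6993
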