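import Groth.Statements.S6997
import Mathlib
import Groth.Agent.Helper6.HomTenA
-- import your own Groth.Agent.* helpers here

set_option autoImplicit false
universe u
open CategoryTheory CategoryTheory.Limits
attribute [local instance] HasDerivedCategory.standard
open DRing

namespace Groth.Agent.S6997

open MonoidalCategory in
/-- Let R be a commutative ring and K, L, M cochain complexes of R-modules. Then the Hom complex Hom(K,
Hom(L, M)) is isomorphic, as a cochain complex of R-modules, to Hom(Tot(K ⊗ L), M) (existence of an
isomorphism of complexes; the canonical one is given by adjunction with signs). -/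
theorem result (R : Type u) [CommRing R] (K L M : DRing.Cx R) :
    Nonempty (DRing.homCx K (DRing.homCx L M) ≅ DRing.homCx (K ⊗ L) M) := by
  let adj1 : tensorRight K ⋙ tensorRight L ⊣ DRing.homCxFunctor L ⋙ DRing.homCxFunctor K :=
    (Groth.Agent.Helper6.HomTen.adjC K).comp (Groth.Agent.Helper6.HomTen.adjC L)
  let adj2 : tensorRight (K ⊗ L) ⊣ DRing.homCxFunctor L ⋙ DRing.homCxFunctor K :=
    adj1.ofNatIsoLeft (MonoidalCategory.tensorRightTensor K L).symm
  let e : DRing.homCxFunctor L ⋙ DRing.homCxFunctor K ≅ DRing.homCxFunctor (K ⊗ L) :=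
    adj2.rightAdjointUniq (Groth.Agent.Helper6.HomTen.adjC (K ⊗ L))
  exact ⟨e.app M⟩

end Groth.Agent.S6997
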