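import Groth.Statements.S7002
import Mathlib
import Groth.Agent.Helper3.DRingBC
import Groth.Agent.Helper6.LBCFibre
import Groth.Agent.Helper9.SplTr1
import Groth.Agent.Helper9.SplTr2
import Groth.Agent.Helper9.SplTr4
import Groth.Agent.Helper9.SplTr5
-- import your own Groth.Agent.* helpers here

set_option autoImplicit false
universe u
open CategoryTheory CategoryTheory.Limits
attribute [local instance] HasDerivedCategory.standard
open DRing

namespace Groth.Agent.S7002

/-- Let R be a commutative ring, p a prime ideal of R with residue field κ(p), such that the derived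
base change D(R) → D(κ(p)) exists; let i be an integer and K a cochain complex of R-modules which is
pseudo-coherent in D(R) and satisfies H^i(K ⊗^L_R κ(p)) = 0. Then there is an element f ∈ R with f ∉
p such that, for the termwise localization K_f of K over R_f, the truncation τ_(≥ i+1) K_f is
perfect in D(R_f), its tor amplitude lying in [i+1, b] for some integer b, and K_f ≅ τ_(≥ i+1) K_f ⊕
τ_(≤ i-1) K_f in D(R_f) by an isomorphism carrying K_f → τ_(≥ i+1) K_f to the first projection and
τ_(≤ i-1) K_f → K_f to the second inclusion. -/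
theorem result (R : Type u) [CommRing R]
    (p : Ideal R) [p.IsPrime] [DRing.HasLBaseChange (algebraMap R p.ResidueField)] (i : ℤ) (K : DRing.Cx R)
    (hK : DRing.IsPseudoCoherent' R (DRing.toD K))
    (hi : Subsingleton (Dual.HD p.ResidueField ((DRing.LBaseChange (algebraMap R p.ResidueField)).obj (DRing.toD K)) i)) :
    ∃ f : R, f ∉ p ∧
      let Kf := DRing.toD (((ModuleCat.extendScalars (algebraMap R (Localization.Away f))).mapHomologicalComplex
        (ComplexShape.up ℤ)).obj K)
      let t := (DerivedCategory.TStructure.t : Triangulated.TStructure (Dual.D (Localization.Away f)))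
      let Kge := (t.truncGE (i + 1)).obj Kf
      let Klt := (t.truncLT i).obj Kf
      DRing.IsPerfect (Localization.Away f) Kge ∧
        (∃ b : ℤ, DRing.HasTorAmplitudeIn (Localization.Away f) (i + 1) b Kge) ∧
        ∀ [HasBinaryBiproduct Kge Klt], ∃ e : Kf ≅ Kge ⊞ Klt,
          e.hom ≫ biprod.fst = (t.truncGEπ (i + 1)).app Kf ∧ (t.truncLTι i).app Kf ≫ e.hom = biprod.inr := by
  classical
  obtain ⟨E, b, hv, hff, ⟨e⟩⟩ := hK
  have hEp : ∀ j, Module.Projective R (E.X j) := fun j => by
    have := (hff j).2
    infer_instance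
  have hEk : E.IsKProjective :=
    Groth.Agent.Helper3.DRingLib.isKProjective_of_vanishesAbove E b hv hEp
  -- exactness of the fibre
  have hfib : ((Groth.Agent.Helper3.DRingLib.bcCx R p.ResidueField).obj E).ExactAt i := by
    have h2 : IsZero ((DerivedCategory.homologyFunctor
        (ModuleCat.{u} p.ResidueField) i).obj
        ((DRing.LBaseChange (algebraMap R p.ResidueField)).obj (DRing.toD K))) :=
      ModuleCat.isZero_of_subsingleton _
    apply Groth.Agent.Helper3.DRingLib.exactAt_of_isZero
    refine h2.of_iso ((DerivedCategory.homologyFunctor _ i).mapIso ?_)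
    exact (Groth.Agent.Helper6.LBCCompute.lbcIso (algebraMap R p.ResidueField) E).symm ≪≫
      (DRing.LBaseChange (algebraMap R p.ResidueField)).mapIso e
  have hex := Groth.Agent.Helper6.LBCFibre.exact_lTensor_of_exactAt_bcCx p.ResidueField E
    (i - 1) i (i + 1) (by omega) rfl hfib
  have := (hff (i - 1)).1
  have := (hff (i - 1)).2
  have := (hff i).1
  have := (hff i).2
  have := (hff (i + 1)).1
  have := (hff (i + 1)).2
  obtain ⟨r, hr, σ₁, σ₂, hσ⟩ := Groth.Agent.Helper9.SplTr1.exists_splitting p
    (E.d (i - 1) i).hom (E.d i (i + 1)).hom (by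
      rw [← ModuleCat.hom_comp, E.d_comp_d]; rfl) hex
  refine ⟨r, hr, ?_⟩
  intro Kf t Kge Klt
  obtain ⟨s₁, s₂, hs⟩ := Groth.Agent.Helper9.SplTr2.exists_split_bcCx (Localization.Away r) E
    (i - 1) i (i + 1) r (IsLocalization.Away.algebraMap_isUnit r) σ₁ σ₂ hσ
  have hfpL := Groth.Agent.Helper3.DRingLib.bcCx_termwiseFiniteProjective (Localization.Away r) E
    (fun j => ⟨(hff j).1, hEp j⟩)
  have := (hfpL (i + 1)).1
  have := (hfpL (i + 1)).2
  have hexL := Groth.Agent.Helper9.SplTr2.exactAt_of_split
    ((Groth.Agent.Helper3.DRingLib.bcCx R (Localization.Away r)).obj E)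
    (i - 1) i (i + 1) (by omega) rfl s₁ s₂ hs
  have hop := Groth.Agent.Helper9.SplTr2.opcycles_finite_projective_of_split
    ((Groth.Agent.Helper3.DRingLib.bcCx R (Localization.Away r)).obj E)
    (i - 1) i (i + 1) rfl s₁ s₂ hs
  let θ : Kf ≅ DRing.toD ((Groth.Agent.Helper3.DRingLib.bcCx R (Localization.Away r)).obj E) :=
    (Groth.Agent.Helper3.DRingLib.bcDToD (Localization.Away r) K).symm ≪≫
      (Groth.Agent.Helper3.DRingLib.bcD R (Localization.Away r)).mapIso e.symm ≪≫
      Groth.Agent.Helper3.DRingLib.bcDToD (Localization.Away r) E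
  obtain ⟨h1, h2, h3, h4⟩ := Groth.Agent.Helper9.SplTr5.main
    ((Groth.Agent.Helper3.DRingLib.bcCx R (Localization.Away r)).obj E) b
    (Groth.Agent.Helper3.DRingLib.bcCx_vanishesAbove (Localization.Away r) E b hv) hfpL i hop
    hexL Kf θ
  refine ⟨h1, h2, ?_⟩
  intro _
  exact Groth.Agent.Helper9.SplTr4.exists_split t Kf i h3 h4

end Groth.Agent.S7002
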