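import Groth.Statements.S7004
import Mathlib
import Groth.Agent.Helper3.DRingSplit3

set_option autoImplicit false
universe u
open scoped TensorProduct
open CategoryTheory CategoryTheory.Limits
attribute [local instance] HasDerivedCategory.standard
open DRing

namespace Groth.Agent.S7004

/-- Let R be a commutative ring, a an integer and K an object of D(R) whose cohomology vanishes in large
degrees, such that Hom(K, M[-a]) = 0 in D(R) for every R-module M. Then K ≅ τ_(≤ a-1) K ⊕ τ_(≥ a+1)
K by an isomorphism carrying τ_(≤ a-1) K → K to the first inclusion and K → τ_(≥ a+1) K to the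
second projection, and τ_(≥ a+1) K is isomorphic in D(R) to a complex of projective modules
vanishing outside [a+1, b] for some integer b. (The published statement also asserts that the
decomposition is unique; that part is not restated.) -/
theorem result (R : Type u) [CommRing R] (a : ℤ) (K : Dual.D R)
    (hKb : ∃ b : ℤ, ∀ i : ℤ, b < i → Subsingleton (Dual.HD R K i))
    (h : ∀ (M : Type u) [AddCommGroup M] [Module R M],
      Subsingleton (K ⟶ (shiftFunctor (Dual.D R) (-a)).obj (Dual.inD R M)))
    [HasBinaryBiproduct (((DerivedCategory.TStructure.t : Triangulated.TStructure (Dual.D R)).truncLT a).obj K) (((DerivedCategory.TStructure.t : Triangulated.TStructure (Dual.D R)).truncGE (a + 1)).obj K)] :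
    (∃ e : K ≅ ((DerivedCategory.TStructure.t : Triangulated.TStructure (Dual.D R)).truncLT a).obj K ⊞ ((DerivedCategory.TStructure.t : Triangulated.TStructure (Dual.D R)).truncGE (a + 1)).obj K,
      ((DerivedCategory.TStructure.t : Triangulated.TStructure (Dual.D R)).truncLTι a).app K ≫ e.hom = biprod.inl ∧
        e.hom ≫ biprod.snd = ((DerivedCategory.TStructure.t : Triangulated.TStructure (Dual.D R)).truncGEπ (a + 1)).app K) ∧
      ∃ (P : DRing.Cx R) (b : ℤ), DRing.VanishesOutside P (a + 1) b ∧ (∀ i : ℤ, Module.Projective R (P.X i)) ∧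
        Nonempty (DRing.toD P ≅ ((DerivedCategory.TStructure.t : Triangulated.TStructure (Dual.D R)).truncGE (a + 1)).obj K) := by
  obtain ⟨b, hb⟩ := hKb
  haveI : K.IsLE b := Groth.Agent.Helper3.DRingLib.isLE_of_HD K b hb
  obtain ⟨P, hPb, hproj, ⟨eK⟩⟩ := Groth.Agent.Helper3.DRingLib.exists_projective_rep K b
  haveI : P.IsKProjective :=
    Groth.Agent.Helper3.DRingLib.isKProjective_of_vanishesAbove P b hPb hproj
  have hsub : ∀ (M : Type u) [AddCommGroup M] [Module R M],
      Subsingleton (DRing.toD P ⟶ (Dual.inD R M)⟦-a⟧) := by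
    intro M _ _
    refine ⟨fun x y => ?_⟩
    have h1 := (h M).elim (eK.inv ≫ x) (eK.inv ≫ y)
    exact (cancel_epi eK.inv).mp h1
  have hcoker := Groth.Agent.Helper3.DRingLib.projective_coker_of_ext_injective P hproj (-a) a
    (by omega) (by
      intro M M' _ _ _ _ g hg x y hxy
      exact (hsub M).elim x y)
  obtain ⟨⟨P'', h1, h2, h3⟩, h0⟩ :=
    Groth.Agent.Helper3.DRingLib.split_of_projective_coker K P b hPb hproj eK a (a + 1) rfl hcoker
  refine ⟨?_, P'', b, h1, h2, h3⟩
  obtain ⟨e, he1, he2⟩ :=
    Groth.Agent.Helper3.DRingLib.exists_iso_biprod_of_truncGEδLT_eq_zero K (a + 1) h0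
  -- H^a(K) = 0
  have hex : P.ExactAt a :=
    Groth.Agent.Helper3.DRingLib.exactAt_of_ext_subsingleton P (-a) a (by omega) hsub
  have hHa : Subsingleton (Dual.HD R K a) := by
    have hz : IsZero (P.homology a) := (HomologicalComplex.exactAt_iff_isZero_homology _ _).mp hex
    have hz2 : IsZero ((DerivedCategory.homologyFunctor (ModuleCat.{u} R) a).obj K) :=
      hz.of_iso (((DerivedCategory.homologyFunctor (ModuleCat.{u} R) a).mapIso eK.symm) ≪≫
        Groth.Agent.Helper3.DRingLib.homologyToDIso P a)
    exact ModuleCat.subsingleton_of_isZero hz2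
  obtain ⟨e₁, he₁⟩ := Groth.Agent.Helper3.DRingLib.exists_iso_truncLT_of_subsingleton_HD K a hHa
  refine ⟨e ≪≫ biprod.mapIso e₁ (Iso.refl _), ?_, ?_⟩
  · have hι : (DerivedCategory.TStructure.t.truncLTι a).app K =
        e₁.inv ≫ (DerivedCategory.TStructure.t.truncLTι (a + 1)).app K := by
      rw [← he₁, Iso.inv_hom_id_assoc]
    rw [hι, Iso.trans_hom, Category.assoc, ← Category.assoc _ e.hom, he1]
    change e₁.inv ≫ biprod.inl ≫ biprod.map e₁.hom (𝟙 _) = _
    rw [biprod.inl_map, Iso.inv_hom_id_assoc]
  · rw [Iso.trans_hom, Category.assoc]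
    change e.hom ≫ biprod.map e₁.hom (𝟙 _) ≫ biprod.snd = _
    rw [biprod.map_snd, Category.comp_id, he2]

end Groth.Agent.S7004
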