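import Mathlib
import Groth.Agent.Helper3.DRingPeel2
import Groth.Statements.S7010

set_option autoImplicit false
universe u
open CategoryTheory CategoryTheory.Limits
attribute [local instance] HasDerivedCategory.standard
open DRing

namespace Groth.Agent.S7010

open Pretriangulated DerivedCategory ZeroObject Groth.Agent.Helper3.DRingLib

section
variable {R : Type u} [CommRing R] (P : ObjectProperty (Dual.D R)) [P.IsClosedUnderIsomorphisms]

omit [P.IsClosedUnderIsomorphisms] in
lemma prop_biprod (hext : ∀ T : Triangle (Dual.D R), T ∈ distinguishedTriangles →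
      P T.obj₁ → P T.obj₃ → P T.obj₂) (X Y : Dual.D R) (hX : P X) (hY : P Y) : P (X ⊞ Y) :=
  hext _ (binaryBiproductTriangle_distinguished X Y) hX hY

lemma prop_retract (hsum : ∀ (X Y : Dual.D R) [HasBinaryBiproduct X Y], P (X ⊞ Y) → P X)
    {X Z : Dual.D R} (i : X ⟶ Z) (r : Z ⟶ X) (hir : i ≫ r = 𝟙 X) (hZ : P Z) : P X := by
  obtain ⟨Y, p, δ, hT⟩ := distinguished_cocone_triangle i
  have hδ : δ = 0 := by
    have h1 : δ ≫ i⟦(1 : ℤ)⟧' = 0 := comp_distTriang_mor_zero₃₁ _ hT
    have h2 : i⟦(1 : ℤ)⟧' ≫ r⟦(1 : ℤ)⟧' = 𝟙 _ := by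
      rw [← Functor.map_comp, hir, CategoryTheory.Functor.map_id]
    calc δ = δ ≫ (i⟦(1 : ℤ)⟧' ≫ r⟦(1 : ℤ)⟧') := by rw [h2, Category.comp_id]
      _ = 0 := by rw [← Category.assoc, h1, zero_comp]
  obtain ⟨e, _, _⟩ := exists_iso_binaryBiproduct_of_distTriang _ hT hδ
  exact hsum X Y (P.prop_of_iso e hZ)

end

/-- The inclusion of the perfect objects in the subcategory generated by R: let R be a commutative ring
and P a property of objects of D(R) which is closed under isomorphisms, holds for R[0], is stable
under all shifts, is closed under extensions (if it holds for the outer terms of a distinguished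
triangle it holds for the middle term) and is closed under taking direct summands. Then P holds for
every perfect object of D(R). -/
theorem result (R : Type u) [CommRing R]
    (P : ObjectProperty (Dual.D R)) [P.IsClosedUnderIsomorphisms] (hR : P (Dual.inD R R))
    (hshift : ∀ (K : Dual.D R) (n : ℤ), P K → P ((shiftFunctor (Dual.D R) n).obj K))
    (hext : ∀ T : Triangle (Dual.D R), T ∈ distinguishedTriangles → P T.obj₁ → P T.obj₃ → P T.obj₂)
    (hsum : ∀ (X Y : Dual.D R) [HasBinaryBiproduct X Y], P (X ⊞ Y) → P X)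
    (K : Dual.D R) (hK : DRing.IsPerfect R K) : P K := by
  have hzero : ∀ K : Dual.D R, IsZero K → P K := by
    intro K hK
    have e0 : Dual.inD R R ≅ (0 : Dual.D R) ⊞ Dual.inD R R :=
      { hom := biprod.inr
        inv := biprod.snd
        hom_inv_id := biprod.inr_snd
        inv_hom_id := by
          apply biprod.hom_ext
          · exact (isZero_zero _).eq_of_tgt _ _
          · simp }
    have h0 : P ((0 : Dual.D R) ⊞ Dual.inD R R) := P.prop_of_iso e0 hR
    exact P.prop_of_iso ((isZero_zero _).iso hK) (hsum _ _ h0)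
  have hfree : ∀ n : ℕ, P (Dual.inD R (Fin n → R)) := by
    intro n
    induction n with
    | zero =>
      apply hzero
      apply Functor.map_isZero
      have : Subsingleton (ModuleCat.of R (Fin 0 → R)) :=
        inferInstanceAs (Subsingleton (Fin 0 → R))
      exact ModuleCat.isZero_of_subsingleton _
    | succ n ih =>
      let e : ModuleCat.of R (Fin (n + 1) → R) ≅ ModuleCat.of R R ⊞ ModuleCat.of R (Fin n → R) :=
        (Fin.consLinearEquiv R (fun _ : Fin (n + 1) => R)).symm.toModuleIso ≪≫
          (ModuleCat.biprodIsoProd (ModuleCat.of R R) (ModuleCat.of R (Fin n → R))).symm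
      have : PreservesBinaryBiproducts (singleFunctor (ModuleCat.{u} R) 0) :=
        preservesBinaryBiproducts_of_preservesBiproducts _
      have e' := (singleFunctor (ModuleCat.{u} R) 0).mapIso e ≪≫
        (singleFunctor (ModuleCat.{u} R) 0).mapBiprod _ _
      exact P.prop_of_iso e'.symm (prop_biprod P hext _ _ hR ih)
  have hproj : ∀ Q : ModuleCat.{u} R, Module.Finite R Q → Module.Projective R Q →
      P ((singleFunctor (ModuleCat.{u} R) 0).obj Q) := by
    intro Q h1 h2
    obtain ⟨n, p, hp⟩ := Module.Finite.exists_fin' R Q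
    obtain ⟨s, hs⟩ := Module.projective_lifting_property p LinearMap.id hp
    refine prop_retract P hsum ((singleFunctor (ModuleCat.{u} R) 0).map (ModuleCat.ofHom s))
      ((singleFunctor (ModuleCat.{u} R) 0).map (ModuleCat.ofHom p)) ?_ (hfree n)
    rw [← Functor.map_comp, ← ModuleCat.ofHom_comp, hs]
    exact CategoryTheory.Functor.map_id _ _
  obtain ⟨E, a, b, v, fp, ⟨e⟩⟩ := hK
  refine P.prop_of_iso e ?_
  refine induction_on_bounded' (fun K => P K) (fun e h => P.prop_of_iso e h) hzero hext E a b v
    (fun i => ?_)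
  exact P.prop_of_iso (singleShiftIso (E.X i) i) (hshift _ (-i) (hproj (E.X i) (fp i).1 (fp i).2))

end Groth.Agent.S7010
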