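import Groth.Statements.S7014
import Groth.Agent.Helper6.CompactSeq
import Groth.Agent.Helper6.SeqColimCx

set_option autoImplicit false
universe u
open CategoryTheory CategoryTheory.Limits
attribute [local instance] HasDerivedCategory.standard
open DRing Pretriangulated Groth.Agent.Helper1.DCoprod Groth.Agent.Helper6.SeqColim Groth.Agent.Helper6.CompactSeq

namespace Groth.Agent.S7014

/-- Let R be a commutative ring and K an object of D(R) such that for every sequence (E_n) of objects of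
D(R) the canonical map from the direct sum of the Hom(K, E_n) to Hom(K, ⊕_n E_n) is bijective. Let
L_0 → L_1 → L_2 → ... be a sequence of cochain complexes of R-modules with colimit L (computed
termwise). Then every morphism K → L in D(R) factors through L_n → L for some n, and a morphism K →
L_n in D(R) whose composite with L_n → L vanishes already has vanishing composite with L_n → L_m for
some m ≥ n. -/
theorem result (R : Type u) [CommRing R] (K : Dual.D R)
    (hK : ∀ (E : ℕ → Dual.D R) [HasCoproduct fun i : ULift.{u + 1} ℕ => E i.down],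
      Function.Bijective (CohDer.homSumToHomCoprod K (fun i : ULift.{u + 1} ℕ => E i.down)))
    (L : ℕ ⥤ DRing.Cx R) (c : Cocone L) (hc : IsColimit c) :
    (∀ x : K ⟶ DRing.toD c.pt, ∃ (n : ℕ) (y : K ⟶ DRing.toD (L.obj n)),
        y ≫ DerivedCategory.Q.map (c.ι.app n) = x) ∧
      (∀ (n : ℕ) (y : K ⟶ DRing.toD (L.obj n)), y ≫ DerivedCategory.Q.map (c.ι.app n) = 0 →
        ∃ (m : ℕ) (h : n ≤ m), y ≫ DerivedCategory.Q.map (L.map (homOfLE h)) = 0) := by
  classical
  -- degreewise description of the colimit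
  haveI hpres : PreservesColimitsOfShape ℕ (forget (ModuleCat.{u} R)) := by
    haveI : IsFiltered (ULift.{u} ℕ) := inferInstance
    have e : ULift.{u} ℕ ≌ ℕ := (ULift.orderIso.{u}).equivalence
    exact preservesColimitsOfShape_of_equiv e _
  have hsurj : ∀ (i : ℤ) (y : c.pt.X i), ∃ (n : ℕ) (x : (L.obj n).X i),
      (c.ι.app n).f i x = y := by
    intro i y
    have hci := isColimitOfPreserves (HomologicalComplex.eval (ModuleCat.{u} R)
      (ComplexShape.up ℤ) i) hc
    obtain ⟨n, x, hx⟩ := Concrete.isColimit_exists_rep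
      (L ⋙ HomologicalComplex.eval (ModuleCat.{u} R) (ComplexShape.up ℤ) i) hci y
    exact ⟨n, x, hx⟩
  have hker : ∀ (i : ℤ) (n : ℕ) (x : (L.obj n).X i), (c.ι.app n).f i x = 0 →
      ∃ (m : ℕ) (h : n ≤ m), (L.map (homOfLE h)).f i x = 0 := by
    intro i n x hx
    have hci := isColimitOfPreserves (HomologicalComplex.eval (ModuleCat.{u} R)
      (ComplexShape.up ℤ) i) hc
    let x' : ((L ⋙ HomologicalComplex.eval (ModuleCat.{u} R) (ComplexShape.up ℤ) i).obj n) := x
    let z' : ((L ⋙ HomologicalComplex.eval (ModuleCat.{u} R) (ComplexShape.up ℤ) i).obj n) := 0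
    have h1 : ((HomologicalComplex.eval (ModuleCat.{u} R) (ComplexShape.up ℤ) i).mapCocone c).ι.app n x' =
        ((HomologicalComplex.eval (ModuleCat.{u} R) (ComplexShape.up ℤ) i).mapCocone c).ι.app n
          z' := by
      refine Eq.trans hx ?_
      exact (map_zero ((c.ι.app n).f i).hom).symm
    obtain ⟨k, f, g, hfg⟩ := (Concrete.isColimit_rep_eq_iff_exists
      (L ⋙ HomologicalComplex.eval (ModuleCat.{u} R) (ComplexShape.up ℤ) i) hci x' z').mp h1
    refine ⟨k, leOfHom f, ?_⟩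
    have hf : homOfLE (leOfHom f) = f := Subsingleton.elim _ _
    rw [hf]
    refine Eq.trans hfg ?_
    exact map_zero ((L.map g).f i).hom
  have hS := shortExact_cx L c hsurj hker
  have hT := DerivedCategory.triangleOfSES_distinguished hS
  -- notation
  let E : ℕ → Dual.D R := fun n => DRing.toD (L.obj n)
  let S : Dual.D R := DRing.toD (sig (fun n => L.obj n))
  let ι' : ∀ n, E n ⟶ S := fun n => DerivedCategory.Q.map (ι (fun n => L.obj n) n)
  have hcof : IsColimit (Cofan.mk S ι') := isColimitCofan (fun n => L.obj n)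
  let t : ∀ n m : ℕ, n ≤ m → (E n ⟶ E m) := fun n m h => DerivedCategory.Q.map (L.map (homOfLE h))
  have ht0 : ∀ n, t n n le_rfl = 𝟙 _ := fun n => by
    show DerivedCategory.Q.map (L.map (homOfLE (le_refl n))) = 𝟙 _
    have : homOfLE (le_refl n) = 𝟙 n := rfl
    rw [this, L.map_id]
    exact CategoryTheory.Functor.map_id _ _
  have ht : ∀ n m k (h1 : n ≤ m) (h2 : m ≤ k), t n m h1 ≫ t m k h2 = t n k (h1.trans h2) :=
    fun n m k h1 h2 => by
      show DerivedCategory.Q.map _ ≫ DerivedCategory.Q.map _ = DerivedCategory.Q.map _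
      rw [← Functor.map_comp, ← L.map_comp]
      rfl
  let uD : S ⟶ S := DerivedCategory.Q.map (uC L)
  have hu : ∀ n, ι' n ≫ uD = ι' n - t n (n + 1) (Nat.le_succ n) ≫ ι' (n + 1) := fun n => by
    show DerivedCategory.Q.map _ ≫ DerivedCategory.Q.map _ =
      DerivedCategory.Q.map _ - DerivedCategory.Q.map _ ≫ DerivedCategory.Q.map _
    rw [← Functor.map_comp, ← Functor.map_comp, ← Functor.map_sub, ι_uC]
  have hbij : Function.Bijective (Φ K E S ι') := Φ_bijective K E S ι' hcof (hK E)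
  -- the shifted situation
  let E1 : ℕ → Dual.D R := fun n => (E n)⟦(1 : ℤ)⟧
  let S1 : Dual.D R := S⟦(1 : ℤ)⟧
  let ι1 : ∀ n, E1 n ⟶ S1 := fun n => (ι' n)⟦(1 : ℤ)⟧'
  have hcof1 : IsColimit (Cofan.mk S1 ι1) :=
    isColimitCofanMkObjOfIsColimit (shiftFunctor (Dual.D R) (1 : ℤ)) E ι' hcof
  let t1 : ∀ n m : ℕ, n ≤ m → (E1 n ⟶ E1 m) := fun n m h => (t n m h)⟦(1 : ℤ)⟧'
  have ht01 : ∀ n, t1 n n le_rfl = 𝟙 _ := fun n => by
    show (t n n le_rfl)⟦(1 : ℤ)⟧' = 𝟙 _
    rw [ht0]
    exact CategoryTheory.Functor.map_id _ _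
  have ht1 : ∀ n m k (h1 : n ≤ m) (h2 : m ≤ k), t1 n m h1 ≫ t1 m k h2 = t1 n k (h1.trans h2) :=
    fun n m k h1 h2 => by
      show (t n m h1)⟦(1 : ℤ)⟧' ≫ (t m k h2)⟦(1 : ℤ)⟧' = (t n k _)⟦(1 : ℤ)⟧'
      rw [← Functor.map_comp, ht]
  have hu1 : ∀ n, ι1 n ≫ uD⟦(1 : ℤ)⟧' = ι1 n - t1 n (n + 1) (Nat.le_succ n) ≫ ι1 (n + 1) :=
    fun n => by
      show (ι' n)⟦(1 : ℤ)⟧' ≫ uD⟦(1 : ℤ)⟧' = (ι' n)⟦(1 : ℤ)⟧' - (t n (n + 1) _)⟦(1 : ℤ)⟧' ≫
        (ι' (n + 1))⟦(1 : ℤ)⟧'
      rw [← Functor.map_comp, hu, CategoryTheory.Functor.map_sub, Functor.map_comp]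
  have hbij1 : Function.Bijective (Φ K E1 S1 ι1) := Φ_bijective K E1 S1 ι1 hcof1 (hK E1)
  have hιp : ∀ n, ι' n ≫ DerivedCategory.Q.map (pC L c) = DerivedCategory.Q.map (c.ι.app n) :=
    fun n => by
      show DerivedCategory.Q.map _ ≫ DerivedCategory.Q.map _ = _
      rw [← Functor.map_comp, ι_pC]
  constructor
  · intro x
    -- the connecting map kills `x`
    have h1 : x ≫ (DerivedCategory.triangleOfSES hS).mor₃ = 0 := by
      apply eq_zero_of_comp_u K E1 S1 ι1 t1 ht01 ht1 (uD⟦(1 : ℤ)⟧') hu1 hbij1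
      refine (Category.assoc _ _ _).trans ?_
      have := comp_distTriang_mor_zero₃₁ _ hT
      exact (congrArg (fun z => x ≫ z) this).trans comp_zero
    obtain ⟨w, hw⟩ := Triangle.coyoneda_exact₃ _ hT x h1
    obtain ⟨n, y, hy⟩ := exists_factor K E S ι' t hbij
      (fun n => DerivedCategory.Q.map (c.ι.app n))
      (fun n m h => by
        show DerivedCategory.Q.map _ ≫ DerivedCategory.Q.map _ = _
        rw [← Functor.map_comp, c.w])
      (DerivedCategory.Q.map (pC L c)) hιp w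
    exact ⟨n, y, hy.trans hw.symm⟩
  · intro n y hy
    have h1 : (y ≫ ι' n) ≫ (DerivedCategory.triangleOfSES hS).mor₂ = 0 := by
      refine (Category.assoc _ _ _).trans ?_
      show y ≫ ι' n ≫ DerivedCategory.Q.map (pC L c) = 0
      rw [hιp, hy]
    obtain ⟨w, hw⟩ := Triangle.coyoneda_exact₂ _ hT (y ≫ ι' n) h1
    exact exists_comp_eq_zero K E S ι' t ht0 ht uD hu hbij n y w hw

end Groth.Agent.S7014
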