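import Groth.Statements.S7015
import Mathlib

set_option autoImplicit false
universe u
open scoped TensorProduct
open CategoryTheory MonoidalCategory
open DRing

namespace Groth.Agent.S7015

lemma fin_proj_of_dualBasis {R : Type u} [CommRing R] {M : Type u} [AddCommGroup M] [Module R M]
    {ι : Type u} [Fintype ι] (m : ι → M) (φ : ι → (M →ₗ[R] R))
    (h : ∀ x, ∑ i, φ i x • m i = x) : Module.Finite R M ∧ Module.Projective R M := by
  classical
  let f : (ι → R) →ₗ[R] M := Fintype.linearCombination R m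
  let g : M →ₗ[R] (ι → R) := LinearMap.pi φ
  have hfg : f ∘ₗ g = LinearMap.id := by
    ext x
    change Fintype.linearCombination R m (fun i => φ i x) = x
    rw [Fintype.linearCombination_apply]
    exact h x
  refine ⟨Module.Finite.of_surjective f (fun x => ⟨g x, LinearMap.congr_fun hfg x⟩), ?_⟩
  exact Module.Projective.of_split g f hfg

/-- Let R be a commutative ring and M, N R-modules such that N is a left dual of M for the tensor
product of R-modules, i.e. there are a coevaluation R → M ⊗ N and an evaluation N ⊗ M → R satisfying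
the triangle identities (an exact pairing). Then M and N are finitely generated projective
R-modules. -/
theorem result (R : Type u) [CommRing R] (M N : Type u) [AddCommGroup M]
    [Module R M] [AddCommGroup N] [Module R N] [ExactPairing (ModuleCat.of R M) (ModuleCat.of R N)] :
    Module.Finite R M ∧ Module.Projective R M ∧ Module.Finite R N ∧ Module.Projective R N := by
  classical
  let X : ModuleCat.{u} R := ModuleCat.of R M
  let Y : ModuleCat.{u} R := ModuleCat.of R N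
  let η : 𝟙_ (ModuleCat.{u} R) ⟶ X ⊗ Y := η_ X Y
  let ε : Y ⊗ X ⟶ 𝟙_ (ModuleCat.{u} R) := ε_ X Y
  obtain ⟨S, hS⟩ := TensorProduct.exists_finset (R := R) (M := M) (N := N) (η.hom (1 : R))
  have hM : ∀ m : M, ∑ s : S, (ε.hom (s.1.2 ⊗ₜ[R] m)) • s.1.1 = m := by
    intro m
    have h1 := ExactPairing.evaluation_coevaluation X Y
    have h2 := congrArg (fun f => (ρ_ X).hom.hom (f.hom ((1 : R) ⊗ₜ[R] m))) h1
    simp only [ModuleCat.hom_comp, LinearMap.comp_apply] at h2
    have e1 : (η_ X Y ▷ X).hom ((1 : R) ⊗ₜ[R] m) = (η.hom (1 : R)) ⊗ₜ[R] m := rfl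
    have e2 : ((λ_ X).hom).hom ((1 : R) ⊗ₜ[R] m) = m := by
      have := ModuleCat.MonoidalCategory.leftUnitor_hom_apply (M := X) (1 : R) m
      rw [one_smul] at this
      exact this
    have e3 : ((ρ_ X).inv).hom m = m ⊗ₜ[R] (1 : R) :=
      ModuleCat.MonoidalCategory.rightUnitor_inv_apply (M := X) m
    rw [e1, e2, e3, hS, TensorProduct.sum_tmul, map_sum, map_sum, map_sum] at h2
    have e4 : ((ρ_ X).hom).hom (m ⊗ₜ[R] (1 : R)) = m := by
      have := ModuleCat.MonoidalCategory.rightUnitor_hom_apply (M := X) m (1 : R)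
      rw [one_smul] at this
      exact this
    rw [e4] at h2
    refine Eq.trans ?_ h2
    rw [← Finset.sum_coe_sort S]
    refine Finset.sum_congr rfl (fun s _ => ?_)
    have e5 : ((α_ X Y X).hom).hom ((s.1.1 ⊗ₜ[R] s.1.2) ⊗ₜ[R] m) = s.1.1 ⊗ₜ[R] (s.1.2 ⊗ₜ[R] m) := rfl
    have e6 : (X ◁ ε_ X Y).hom (s.1.1 ⊗ₜ[R] (s.1.2 ⊗ₜ[R] m)) = s.1.1 ⊗ₜ[R] ε.hom (s.1.2 ⊗ₜ[R] m) := rfl
    rw [e5, e6]
    exact (ModuleCat.MonoidalCategory.rightUnitor_hom_apply (M := X) s.1.1 _).symm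
  have hN : ∀ n : N, ∑ s : S, (ε.hom (n ⊗ₜ[R] s.1.1)) • s.1.2 = n := by
    intro n
    have h1 := ExactPairing.coevaluation_evaluation X Y
    have h2 := congrArg (fun f => (λ_ Y).hom.hom (f.hom (n ⊗ₜ[R] (1 : R)))) h1
    simp only [ModuleCat.hom_comp, LinearMap.comp_apply] at h2
    have e1 : (Y ◁ η_ X Y).hom (n ⊗ₜ[R] (1 : R)) = n ⊗ₜ[R] (η.hom (1 : R)) := rfl
    have e2 : ((ρ_ Y).hom).hom (n ⊗ₜ[R] (1 : R)) = n := by
      have := ModuleCat.MonoidalCategory.rightUnitor_hom_apply (M := Y) n (1 : R)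
      rw [one_smul] at this
      exact this
    have e3 : ((λ_ Y).inv).hom n = (1 : R) ⊗ₜ[R] n :=
      ModuleCat.MonoidalCategory.leftUnitor_inv_apply (M := Y) n
    rw [e1, e2, e3, hS, TensorProduct.tmul_sum, map_sum, map_sum, map_sum] at h2
    have e4 : ((λ_ Y).hom).hom ((1 : R) ⊗ₜ[R] n) = n := by
      have := ModuleCat.MonoidalCategory.leftUnitor_hom_apply (M := Y) (1 : R) n
      rw [one_smul] at this
      exact this
    rw [e4] at h2
    refine Eq.trans ?_ h2
    rw [← Finset.sum_coe_sort S]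
    refine Finset.sum_congr rfl (fun s _ => ?_)
    have e5 : ((α_ Y X Y).inv).hom (n ⊗ₜ[R] (s.1.1 ⊗ₜ[R] s.1.2)) = (n ⊗ₜ[R] s.1.1) ⊗ₜ[R] s.1.2 := rfl
    have e6 : (ε_ X Y ▷ Y).hom ((n ⊗ₜ[R] s.1.1) ⊗ₜ[R] s.1.2) = ε.hom (n ⊗ₜ[R] s.1.1) ⊗ₜ[R] s.1.2 := rfl
    rw [e5, e6]
    exact (ModuleCat.MonoidalCategory.leftUnitor_hom_apply (M := Y) _ s.1.2).symm
  have r1 := fin_proj_of_dualBasis (R := R) (M := M) (ι := S) (fun s => s.1.1)
    (fun s => ε.hom ∘ₗ (TensorProduct.mk R N M s.1.2)) hM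
  have r2 := fin_proj_of_dualBasis (R := R) (M := N) (ι := S) (fun s => s.1.2)
    (fun s => ε.hom ∘ₗ (TensorProduct.mk R N M).flip s.1.1) hN
  exact ⟨r1.1, r1.2, r2.1, r2.2⟩

end Groth.Agent.S7015
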