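import Groth.Statements.S7022
import Mathlib
import Groth.Agent.Helper3.DRingRelPC
import Groth.Agent.Helper3.DRingPC5

set_option autoImplicit false
universe u
open scoped TensorProduct
open CategoryTheory CategoryTheory.Limits
attribute [local instance] HasDerivedCategory.standard
open DerCA

namespace Groth.Agent.S7022

/-- Let R → A be a finite type homomorphism of commutative rings, m an integer and K, L objects of the
derived category D(A). Whenever the direct sum K ⊕ L is pseudo-coherent relative to R in degree m,
both summands K and L are too; likewise, relative pseudo-coherence of K ⊕ L (in every degree) passes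
to K and to L. -/
theorem result {R A : Type u} [CommRing R] [CommRing A] [Algebra R A] [Algebra.FiniteType R A] (m : ℤ) (K L : Dual.D A) [HasBinaryBiproduct K L] :
    (DerCA.IsRelPseudoCoherent R A m (K ⊞ L) → DerCA.IsRelPseudoCoherent R A m K ∧ DerCA.IsRelPseudoCoherent R A m L) ∧
      (DerCA.IsRelPseudoCoherentAll R A (K ⊞ L) →
        DerCA.IsRelPseudoCoherentAll R A K ∧ DerCA.IsRelPseudoCoherentAll R A L) := by
  obtain ⟨n, α, hα⟩ := Groth.Agent.Helper3.DRingLib.exists_presentation R A
  simp only [Groth.Agent.Helper3.DRingLib.relPC_iff_via α hα,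
    Groth.Agent.Helper3.DRingLib.relPCAll_iff_via α hα]
  unfold DerCA.IsRelPseudoCoherentVia
  have key : ∀ m' : ℤ, DRing.IsPseudoCoherent (MvPolynomial (Fin n) R) m'
      ((DRing.restrictD (α : MvPolynomial (Fin n) R →+* A)).obj (K ⊞ L)) →
      DRing.IsPseudoCoherent (MvPolynomial (Fin n) R) m'
        ((DRing.restrictD (α : MvPolynomial (Fin n) R →+* A)).obj K) ∧
      DRing.IsPseudoCoherent (MvPolynomial (Fin n) R) m'
        ((DRing.restrictD (α : MvPolynomial (Fin n) R →+* A)).obj L) := by
    intro m' h
    constructor
    · exact Groth.Agent.Helper3.DRingLib.isPseudoCoherent_of_retract' m'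
        ((DRing.restrictD (α : MvPolynomial (Fin n) R →+* A)).map biprod.inl)
        ((DRing.restrictD (α : MvPolynomial (Fin n) R →+* A)).map biprod.fst)
        (by rw [← Functor.map_comp, biprod.inl_fst, CategoryTheory.Functor.map_id]) h
    · exact Groth.Agent.Helper3.DRingLib.isPseudoCoherent_of_retract' m'
        ((DRing.restrictD (α : MvPolynomial (Fin n) R →+* A)).map biprod.inr)
        ((DRing.restrictD (α : MvPolynomial (Fin n) R →+* A)).map biprod.snd)
        (by rw [← Functor.map_comp, biprod.inr_snd, CategoryTheory.Functor.map_id]) h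
  exact ⟨key m, fun h => ⟨fun m' => (key m' (h m')).1, fun m' => (key m' (h m')).2⟩⟩

end Groth.Agent.S7022
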