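import Groth.Statements.S7023
import Mathlib
import Groth.Agent.Helper3.DRingRelPC
import Groth.Agent.Helper3.DRingPC3

set_option autoImplicit false
universe u
open scoped TensorProduct
open CategoryTheory CategoryTheory.Limits
attribute [local instance] HasDerivedCategory.standard
open DerCA

namespace Groth.Agent.S7023

/-- Let R → A be a finite type homomorphism of commutative rings, m an integer and K a bounded above
cochain complex of A-modules such that the module K^i is (m - i)-pseudo-coherent relative to R for
every i. Then K is m-pseudo-coherent relative to R. Moreover, K is pseudo-coherent over R as soon as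
each of its terms K^i is so. -/
theorem result {R A : Type u} [CommRing R] [CommRing A] [Algebra R A] [Algebra.FiniteType R A] (m : ℤ) (K : DRing.Cx A) (b : ℤ)
    (hb : DRing.VanishesAbove K b) :
    ((∀ i : ℤ, DerCA.IsRelPseudoCoherentModule R A (m - i) (K.X i)) → DerCA.IsRelPseudoCoherent R A m (DRing.toD K)) ∧
      ((∀ i : ℤ, DerCA.IsRelPseudoCoherentModuleAll R A (K.X i)) →
        DerCA.IsRelPseudoCoherentAll R A (DRing.toD K)) := by
  obtain ⟨n, α, hα⟩ := Groth.Agent.Helper3.DRingLib.exists_presentation R A
  simp only [DerCA.IsRelPseudoCoherentModule, DerCA.IsRelPseudoCoherentModuleAll,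
    Groth.Agent.Helper3.DRingLib.relPC_iff_via α hα,
    Groth.Agent.Helper3.DRingLib.relPCAll_iff_via α hα]
  unfold DerCA.IsRelPseudoCoherentVia
  have hb' : DRing.VanishesAbove ((Groth.Agent.Helper3.DRingLib.rCx
      (α : MvPolynomial (Fin n) R →+* A)).obj K) b := by
    intro i hi
    exact Functor.map_isZero (Groth.Agent.Helper3.DRingLib.rF
      (α : MvPolynomial (Fin n) R →+* A)) (hb i hi)
  have key : ∀ m' : ℤ, (∀ i : ℤ, DRing.IsPseudoCoherent (MvPolynomial (Fin n) R) (m' - i)
      ((DRing.restrictD (α : MvPolynomial (Fin n) R →+* A)).obj (Dual.inD A (K.X i)))) →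
      DRing.IsPseudoCoherent (MvPolynomial (Fin n) R) m'
        ((DRing.restrictD (α : MvPolynomial (Fin n) R →+* A)).obj (DRing.toD K)) := by
    intro m' h
    refine Groth.Agent.Helper3.DRingLib.isPseudoCoherent_of_iso
      (Groth.Agent.Helper3.DRingLib.rDToD (α : MvPolynomial (Fin n) R →+* A) K).symm ?_
    apply Groth.Agent.Helper3.DRingLib.isPseudoCoherent_of_termwise' m' _ b hb'
    intro i
    exact Groth.Agent.Helper3.DRingLib.isPseudoCoherent_of_iso
      (Groth.Agent.Helper3.DRingLib.rDSingle (α : MvPolynomial (Fin n) R →+* A) 0 (K.X i)) (h i)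
  exact ⟨key m, fun h m' => key m' (fun i => h i (m' - i))⟩

end Groth.Agent.S7023
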