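import Groth.Statements.S7024
import Mathlib
import Groth.Agent.Helper3.DRingRelPC
import Groth.Agent.Helper3.DRingPC4

set_option autoImplicit false
universe u
open scoped TensorProduct
open CategoryTheory CategoryTheory.Limits
attribute [local instance] HasDerivedCategory.standard
open DerCA

namespace Groth.Agent.S7024

/-- Let R → A be a finite type homomorphism of commutative rings, m an integer and K an object of D(A)
whose cohomology vanishes in large degrees. If the module H^i(K) is (m - i)-pseudo-coherent relative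
to R for every i, then K is m-pseudo-coherent relative to R. Moreover, K is relatively
pseudo-coherent over R as soon as each cohomology module H^i(K) has this property over R. -/
theorem result {R A : Type u} [CommRing R] [CommRing A] [Algebra R A] [Algebra.FiniteType R A] (m : ℤ) (K : Dual.D A)
    (hb : ∃ b : ℤ, ∀ i : ℤ, b < i → Subsingleton (Dual.HD A K i)) :
    ((∀ i : ℤ, DerCA.IsRelPseudoCoherentModule R A (m - i) (Dual.HD A K i)) → DerCA.IsRelPseudoCoherent R A m K) ∧
      ((∀ i : ℤ, DerCA.IsRelPseudoCoherentModuleAll R A (Dual.HD A K i)) → DerCA.IsRelPseudoCoherentAll R A K) := by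
  obtain ⟨n, α, hα⟩ := Groth.Agent.Helper3.DRingLib.exists_presentation R A
  simp only [DerCA.IsRelPseudoCoherentModule, DerCA.IsRelPseudoCoherentModuleAll,
    Groth.Agent.Helper3.DRingLib.relPC_iff_via α hα,
    Groth.Agent.Helper3.DRingLib.relPCAll_iff_via α hα]
  unfold DerCA.IsRelPseudoCoherentVia
  obtain ⟨b, hb⟩ := hb
  haveI : K.IsLE b := Groth.Agent.Helper3.DRingLib.isLE_of_HD K b hb
  haveI : ((DRing.restrictD (α : MvPolynomial (Fin n) R →+* A)).obj K).IsLE b :=
    (Groth.Agent.Helper3.DRingLib.rD_isLE_iff (α : MvPolynomial (Fin n) R →+* A) K b).mpr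
      inferInstance
  have key : ∀ m' : ℤ, (∀ i : ℤ, DRing.IsPseudoCoherent (MvPolynomial (Fin n) R) (m' - i)
      ((DRing.restrictD (α : MvPolynomial (Fin n) R →+* A)).obj
        (Dual.inD A (Dual.HD A K i)))) →
      DRing.IsPseudoCoherent (MvPolynomial (Fin n) R) m'
        ((DRing.restrictD (α : MvPolynomial (Fin n) R →+* A)).obj K) := by
    intro m' h
    apply Groth.Agent.Helper3.DRingLib.isPseudoCoherent_of_HD' m' _ b
    intro i
    refine Groth.Agent.Helper3.DRingLib.isPseudoCoherent_of_iso ?_ (h i)
    exact Groth.Agent.Helper3.DRingLib.rDSingle (α : MvPolynomial (Fin n) R →+* A) 0 _ ≪≫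
      (DerivedCategory.singleFunctor (ModuleCat.{u} (MvPolynomial (Fin n) R)) 0).mapIso
        (Groth.Agent.Helper3.DRingLib.rDHDIso (α : MvPolynomial (Fin n) R →+* A) K i).symm
  exact ⟨key m, fun h m' => key m' (fun i => h i (m' - i))⟩

end Groth.Agent.S7024
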