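import Groth.Statements.S7025
import Mathlib
import Groth.Agent.Helper9.TenPC3
import Groth.Agent.Helper6.LBCAdj
import Groth.Agent.Helper6.FlatBC
import Groth.Agent.Helper6.HasLBC
-- import your own Groth.Agent.* helpers here

set_option autoImplicit false
universe u
open CategoryTheory CategoryTheory.Limits
attribute [local instance] HasDerivedCategory.standard
open DerCA

namespace Groth.Agent.S7025

/-- Let R → A → B be finite type homomorphisms of commutative rings such that B is A-flat and the
B-module B is pseudo-coherent relative to A. Let m be an integer and M an A-module. Whenever M is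
m-pseudo-coherent relative to R, the B-module B ⊗_A M is again m-pseudo-coherent over R; likewise,
relative pseudo-coherence of M over R (in all degrees) passes to B ⊗_A M. -/
theorem result {R A B : Type u} [CommRing R]
    [CommRing A] [CommRing B] [Algebra R A] [Algebra A B] [Algebra R B] [IsScalarTower R A B]
    [Algebra.FiniteType R A] [Algebra.FiniteType A B] [Module.Flat A B]
    (hB : DerCA.IsRelPseudoCoherentModuleAll A B B) (m : ℤ) (M : Type u) [AddCommGroup M] [Module A M] :
    (DerCA.IsRelPseudoCoherentModule R A m M → DerCA.IsRelPseudoCoherentModule R B m (TensorProduct A B M)) ∧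
      (DerCA.IsRelPseudoCoherentModuleAll R A M →
        DerCA.IsRelPseudoCoherentModuleAll R B (TensorProduct A B M)) := by
  haveI := Groth.Agent.Helper6.HasLBC.hasLBaseChange (algebraMap A B)
  have e : (DRing.LBaseChange (algebraMap A B)).obj (Dual.inD A M) ≅
      Dual.inD B (TensorProduct A B M) :=
    ((Groth.Agent.Helper6.LBCAdj.adj (algebraMap A B)).leftAdjointUniq
      (Groth.Agent.Helper6.FlatBC.adjD A B)).app _ ≪≫
      Groth.Agent.Helper3.DRingLib.bcDInD B M
  exact ⟨fun h => Groth.Agent.Helper3.DRingLib.relPC_of_iso e
      (Groth.Agent.Helper9.TenPC3.relPC_LBaseChange hB _ m h),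
    fun h m' => Groth.Agent.Helper3.DRingLib.relPC_of_iso e
      (Groth.Agent.Helper9.TenPC3.relPC_LBaseChange hB _ m' (h m'))⟩

end Groth.Agent.S7025
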