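import Groth.Statements.S7026
import Mathlib
import Groth.Agent.Helper3.DRingRelPC
import Groth.Agent.S6942

set_option autoImplicit false
universe u
open scoped TensorProduct
open CategoryTheory CategoryTheory.Limits
attribute [local instance] HasDerivedCategory.standard
open DerCA

namespace Groth.Agent.S7026

/-- Let R be a Noetherian commutative ring, R → A a finite type ring homomorphism, m an integer, K an
object of D(A) and M an A-module. Then: m-pseudo-coherence of K relative to R is equivalent to
H^i(K) vanishing for all large i together with H^i(K) being a finitely generated A-module for each i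
≥ m; pseudo-coherence of K relative to R (every degree) is equivalent to the same with H^i(K)
finitely generated for every i; and the A-module M is pseudo-coherent relative to R exactly when M
is finitely generated. -/
theorem result {R A : Type u} [CommRing R]
    [IsNoetherianRing R] [CommRing A] [Algebra R A] [Algebra.FiniteType R A] (m : ℤ) (K : Dual.D A)
    (M : Type u) [AddCommGroup M] [Module A M] :
    (DerCA.IsRelPseudoCoherent R A m K ↔
      (∃ b : ℤ, ∀ i : ℤ, b < i → Subsingleton (Dual.HD A K i)) ∧ ∀ i : ℤ, m ≤ i → Module.Finite A (Dual.HD A K i)) ∧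
    (DerCA.IsRelPseudoCoherentAll R A K ↔
      (∃ b : ℤ, ∀ i : ℤ, b < i → Subsingleton (Dual.HD A K i)) ∧ ∀ i : ℤ, Module.Finite A (Dual.HD A K i)) ∧
    (DerCA.IsRelPseudoCoherentModuleAll R A M ↔ Module.Finite A M) := by
  obtain ⟨n, α, hα⟩ := Groth.Agent.Helper3.DRingLib.exists_presentation R A
  have hα' : Function.Surjective (α : MvPolynomial (Fin n) R →+* A) := hα
  have h1 : ∀ m' : ℤ, DerCA.IsRelPseudoCoherent R A m' K ↔
      (∃ b : ℤ, ∀ i : ℤ, b < i → Subsingleton (Dual.HD A K i)) ∧
        ∀ i : ℤ, m' ≤ i → Module.Finite A (Dual.HD A K i) := by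
    intro m'
    rw [Groth.Agent.Helper3.DRingLib.relPC_iff_via α hα]
    unfold DerCA.IsRelPseudoCoherentVia
    rw [(Groth.Agent.S6942.result (MvPolynomial (Fin n) R) m'
      ((DRing.restrictD (α : MvPolynomial (Fin n) R →+* A)).obj K) PUnit).1]
    simp only [Groth.Agent.Helper3.DRingLib.subsingleton_HD_rD_iff,
      Groth.Agent.Helper3.DRingLib.finite_HD_rD_iff (α : MvPolynomial (Fin n) R →+* A) hα']
  refine ⟨h1 m, ?_, ?_⟩
  · constructor
    · intro h
      refine ⟨((h1 0).mp (h 0)).1, fun i => ?_⟩
      exact ((h1 i).mp (h i)).2 i le_rfl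
    · rintro ⟨hb, hf⟩ m'
      exact (h1 m').mpr ⟨hb, fun i _ => hf i⟩
  · unfold DerCA.IsRelPseudoCoherentModuleAll
    rw [Groth.Agent.Helper3.DRingLib.relPCAll_iff_via α hα]
    unfold DerCA.IsRelPseudoCoherentVia
    rw [← Groth.Agent.Helper3.DRingLib.finite_rF_iff (α : MvPolynomial (Fin n) R →+* A) hα'
      (ModuleCat.of A M),
      ← (Groth.Agent.S6942.result (MvPolynomial (Fin n) R) 0
      ((DRing.restrictD (α : MvPolynomial (Fin n) R →+* A)).obj K)
      ((Groth.Agent.Helper3.DRingLib.rF (α : MvPolynomial (Fin n) R →+* A)).obj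
        (ModuleCat.of A M))).2]
    unfold DRing.IsPseudoCoherentModule'
    rw [Groth.Agent.Helper3.DRingLib.isPseudoCoherent'_iff_forall]
    refine forall_congr' (fun m' => ?_)
    constructor
    · intro h
      exact Groth.Agent.Helper3.DRingLib.isPseudoCoherent_of_iso
        (Groth.Agent.Helper3.DRingLib.rDSingle (α : MvPolynomial (Fin n) R →+* A) 0
          (ModuleCat.of A M)) h
    · intro h
      exact Groth.Agent.Helper3.DRingLib.isPseudoCoherent_of_iso
        (Groth.Agent.Helper3.DRingLib.rDSingle (α : MvPolynomial (Fin n) R →+* A) 0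
          (ModuleCat.of A M)).symm h

end Groth.Agent.S7026
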