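import Groth.Statements.S7035
import Groth.Agent.Helper6.FibreGl2
import Groth.Agent.Helper6.LBCFlatCx
import Groth.Agent.Helper6.LBCFibreGlobal
import Groth.Agent.Helper3.DRingTor6
import Groth.Agent.Helper3.DRingRestr

set_option autoImplicit false
universe u
open CategoryTheory CategoryTheory.Limits
attribute [local instance] HasDerivedCategory.standard
open DRing TensorProduct DerivedCategory Groth.Agent.Helper3.DRingLib Groth.Agent.Helper6.LBCCompute Groth.Agent.Helper6.LBCFlatCx Groth.Agent.Helper6.LBCFibreGlobal Groth.Agent.Helper6.LBCJac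
attribute [local instance] Algebra.TensorProduct.rightAlgebra

namespace Groth.Agent.S7035

/-- Let A → B be a flat homomorphism of commutative rings and d a natural number such that for every
prime p of A, with residue field κ(p), every module over κ(p) ⊗_A B has projective dimension at most
d; assume the derived tensor products - ⊗^L M exist on D(κ(p) ⊗_A B) for all p and the derived base
changes D(B) → D(B/m) exist for all ideals m of B. Let a, b be integers and K an object of D(B)
which is pseudo-coherent over B and, with scalars restricted to A, has tor amplitude in [a, b]. Then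
K is perfect over B and has tor amplitude in [a - d, b] over B. -/
theorem result {A B : Type u} [CommRing A] [CommRing B] [Algebra A B]
    [Module.Flat A B] (d : ℕ)
    (hgl : ∀ (p : PrimeSpectrum A) (M : Type u) [AddCommGroup M]
      [Module (TensorProduct A p.asIdeal.ResidueField B) M],
      HasProjectiveDimensionLT (ModuleCat.of (TensorProduct A p.asIdeal.ResidueField B) M) (d + 1))
    [∀ (p : PrimeSpectrum A) (M : ModuleCat.{u} (TensorProduct A p.asIdeal.ResidueField B)),
      DRing.HasLTensor (TensorProduct A p.asIdeal.ResidueField B) M]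
    [∀ m : Ideal B, DRing.HasLBaseChange (Ideal.Quotient.mk m)] (a b : ℤ) (K : Dual.D B)
    (hK : DRing.IsPseudoCoherent' B K)
    (hKa : DRing.HasTorAmplitudeIn A a b ((DRing.restrictD (algebraMap A B)).obj K)) :
    DRing.IsPerfect B K ∧ DRing.HasTorAmplitudeIn B (a - d) b K := by
  classical
  obtain ⟨E, b₀, hv, hff, ⟨e⟩⟩ := hK
  have hf : DRing.TermwiseFlat E := fun i => by
    have := (hff i).2
    infer_instance
  have hv' : DRing.VanishesAbove ((rCx (algebraMap A B)).obj E) b₀ := fun i hi =>
    (rF (algebraMap A B)).map_isZero (hv i hi)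
  have hf' : DRing.TermwiseFlat ((rCx (algebraMap A B)).obj E) := fun i => by
    letI : Module A (E.X i) := Module.compHom (E.X i) (algebraMap A B)
    haveI : IsScalarTower A B (E.X i) := IsScalarTower.of_algebraMap_smul (fun r m => rfl)
    haveI : Module.Flat B (E.X i) := hf i
    exact Module.Flat.trans A B (E.X i)
  have e1 : (DRing.restrictD (algebraMap A B)).obj K ≅
      DRing.toD ((rCx (algebraMap A B)).obj E) :=
    (DRing.restrictD (algebraMap A B)).mapIso e.symm ≪≫ rDToD (algebraMap A B) E
  have hta' : DRing.HasTorAmplitudeIn A a b (DRing.toD ((rCx (algebraMap A B)).obj E)) :=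
    hasTorAmplitudeIn_of_iso e1 _ _ hKa
  have hta : DRing.HasTorAmplitudeIn B (a - d) b (DRing.toD E) := by
    apply hasTorAmplitudeIn_of_fibres E b₀ hv hff (a - d) b
    intro m hm i hi
    haveI := hm
    haveI : (m.comap (algebraMap A B)).IsPrime := Ideal.comap_isPrime _ _
    let p : PrimeSpectrum A := ⟨m.comap (algebraMap A B), inferInstance⟩
    letI : Field (B ⧸ m) := Ideal.Quotient.field m
    -- exactness of the fibre over `κ(p)`
    have hfib : ∀ j : ℤ, (j < a ∨ b < j) →
        ((bcCx A p.asIdeal.ResidueField).obj ((rCx (algebraMap A B)).obj E)).ExactAt j :=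
      fun j hj => exactAt_bcCx_of_exactAt_tensorCx p.asIdeal.ResidueField _ j
        (Groth.Agent.Helper6.FibreGl.exactAt_tensorCx_of_hasTorAmplitudeIn _ b₀ hv' hf' a b hta'
          _ j hj)
    -- the map `κ(p) ⊗ B → B ⧸ m`
    let f0 : A →ₐ[A] (B ⧸ m) := Algebra.ofId A (B ⧸ m)
    have hf1 : p.asIdeal ≤ RingHom.ker f0 := by
      intro x hx
      rw [RingHom.mem_ker]
      show algebraMap A (B ⧸ m) x = 0
      rw [IsScalarTower.algebraMap_apply A B (B ⧸ m), Ideal.Quotient.algebraMap_eq,
        Ideal.Quotient.eq_zero_iff_mem]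
      exact hx
    have hf2 : p.asIdeal.primeCompl ≤ (IsUnit.submonoid (B ⧸ m)).comap f0 := by
      intro x hx
      rw [Submonoid.mem_comap]
      show IsUnit (algebraMap A (B ⧸ m) x)
      rw [isUnit_iff_ne_zero, IsScalarTower.algebraMap_apply A B (B ⧸ m),
        Ideal.Quotient.algebraMap_eq, Ne, Ideal.Quotient.eq_zero_iff_mem]
      exact hx
    let g0 : p.asIdeal.ResidueField →ₐ[A] (B ⧸ m) :=
      Ideal.ResidueField.liftₐ p.asIdeal f0 hf1 hf2
    let χ : (p.asIdeal.ResidueField ⊗[A] B) →+* (B ⧸ m) :=
      (Algebra.TensorProduct.productMap g0 (IsScalarTower.toAlgHom A B (B ⧸ m))).toRingHom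
    have hχ : χ.comp (algebraMap B (p.asIdeal.ResidueField ⊗[A] B)) = Ideal.Quotient.mk m := by
      ext x
      show (Algebra.TensorProduct.productMap g0 (IsScalarTower.toAlgHom A B (B ⧸ m)))
        ((1 : p.asIdeal.ResidueField) ⊗ₜ[A] x) = _
      rw [Algebra.TensorProduct.productMap_right_apply]
      rfl
    have h4 := Groth.Agent.Helper6.FibreGl.exactAt_of_fibre (A := A) (B := B)
      p.asIdeal.ResidueField χ d (hgl p) E b₀ hv hf a b hfib i hi
    exact exactAt_of_iso (bcCxFCongr hχ E) i h4
  have hK' : DRing.HasTorAmplitudeIn B (a - d) b K := hasTorAmplitudeIn_of_iso e _ _ hta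
  refine ⟨?_, hK'⟩
  rw [isPerfect_iff_pc_and_torDim]
  exact ⟨⟨E, b₀, hv, hff, ⟨e⟩⟩, a - d, b, hK'⟩

end Groth.Agent.S7035
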