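import Groth.Statements.S7039
import Mathlib

set_option autoImplicit false
universe u
open scoped TensorProduct
open LocCoh

namespace Groth.Agent.S7039

/-- For a finitely generated ideal I of a commutative ring R and any R-module M, the quotient of M by
its submodule of I-power torsion elements has no nonzero element annihilated by I. -/
theorem result {R : Type u} [CommRing R] (I : Ideal R) (hI : I.FG)
    (M : Type u) [AddCommGroup M] [Module R M] :
    LocCoh.torsionBy I (M ⧸ DRing.torsionSub I M) = ⊥ := by
  rw [eq_bot_iff]
  intro x hx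
  obtain ⟨m, rfl⟩ := Submodule.Quotient.mk_surjective _ x
  rw [Submodule.mem_torsionBySet_iff] at hx
  refine (Submodule.mem_bot R).mpr ((Submodule.Quotient.mk_eq_zero _).mpr ?_)
  -- for every b in I, b • m is power torsion
  have h1 : ∀ b ∈ I, ∃ n : ℕ, ∀ a ∈ I ^ n, a • (b • m) = 0 := by
    intro b hb
    have := hx ⟨b, hb⟩
    rw [← Submodule.Quotient.mk_smul, Submodule.Quotient.mk_eq_zero] at this
    exact this
  obtain ⟨s, hs⟩ := hI
  choose! n hn using h1
  refine ⟨s.sup n + 1, ?_⟩
  intro a ha
  rw [pow_succ] at ha
  refine Submodule.mul_induction_on ha ?_ ?_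
  · intro a ha b hb
    rw [← hs] at hb
    refine Submodule.span_induction (p := fun b _ => ∀ a ∈ I ^ s.sup n, (a * b) • m = 0)
      ?_ ?_ ?_ ?_ hb a ha
    · intro g hg a ha
      have hgI : g ∈ I := by rw [← hs]; exact Ideal.subset_span hg
      rw [mul_smul]
      exact hn g hgI a (Ideal.pow_le_pow_right (Finset.le_sup hg) ha)
    · intro a _
      simp
    · intro x y _ _ hx hy a ha
      rw [mul_add, add_smul, hx a ha, hy a ha, add_zero]
    · intro c x _ hx a ha
      rw [smul_eq_mul, mul_left_comm, mul_smul, hx a ha, smul_zero]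
  · intro x y hx hy
    rw [add_smul, hx, hy, add_zero]

end Groth.Agent.S7039
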