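import Groth.Statements.S7040
import Mathlib

set_option autoImplicit false
universe u
open scoped TensorProduct
open CategoryTheory
open LocCoh

namespace Groth.Agent.S7040

lemma key {R : Type u} [CommRing R] (I : Ideal R) (hI : I.FG) {M : Type u} [AddCommGroup M]
    [Module R M] (x : M) (n : ℕ)
    (h : ∀ a ∈ I ^ n, ∃ k : ℕ, ∀ b ∈ I ^ k, b • (a • x) = 0) :
    ∃ N : ℕ, ∀ c ∈ I ^ N, c • x = 0 := by
  classical
  obtain ⟨T, hT⟩ := (hI.pow (n := n) : (I ^ n).FG)
  have hTmem : ∀ t ∈ T, t ∈ I ^ n := fun t ht => hT ▸ Submodule.subset_span ht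
  choose! k hk using h
  refine ⟨T.sup k + n, ?_⟩
  intro c hc
  rw [pow_add] at hc
  refine Submodule.mul_induction_on hc ?_ ?_
  · intro b hb a ha
    rw [mul_smul]
    have ha' : a ∈ Submodule.span R (T : Set R) := by rw [← hT] at ha; exact ha
    induction ha' using Submodule.span_induction with
    | mem t ht =>
      refine hk t (hTmem t ht) b ?_
      exact Ideal.pow_le_pow_right (Finset.le_sup ht) hb
    | zero => simp
    | add a₁ a₂ ha₁ ha₂ h₁ h₂ =>
      rw [add_smul, smul_add, h₁ (by rw [← hT]; exact Submodule.span_le.2 (fun _ h => Submodule.subset_span h) ha₁), h₂ (by rw [← hT]; exact ha₂), add_zero]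
    | smul r a₁ ha₁ h₁ =>
      rw [smul_eq_mul, mul_smul, smul_comm, h₁ (by rw [← hT]; exact ha₁), smul_zero]
  · intro c₁ c₂ h₁ h₂
    rw [add_smul, h₁, h₂, add_zero]

/-- For a finitely generated ideal I of a commutative ring R, the property of being an I-power torsion
module (every element killed by a power of I) is a Serre class in the category of R-modules: it
holds for 0 and is closed under subobjects, quotients and extensions. -/
theorem result {R : Type u} [CommRing R] (I : Ideal R) (hI : I.FG) :
    ObjectProperty.IsSerreClass (C := ModuleCat.{u} R) (fun M => LocCoh.IsPowerTorsion I M) := by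
  refine { exists_zero := ?_, prop_of_mono := ?_, prop_of_epi := ?_, prop_X₂_of_shortExact := ?_ }
  · refine ⟨ModuleCat.of R PUnit, ModuleCat.isZero_of_subsingleton _, ?_⟩
    intro m
    exact ⟨0, fun a _ => Subsingleton.elim _ _⟩
  · intro X Y f _ hY m
    obtain ⟨n, hn⟩ := hY (f m)
    refine ⟨n, fun a ha => ?_⟩
    apply (ModuleCat.mono_iff_injective f).1 inferInstance
    rw [map_smul, hn a ha, map_zero]
  · intro X Y f _ hX m
    obtain ⟨x, rfl⟩ := (ModuleCat.epi_iff_surjective f).1 inferInstance m
    obtain ⟨n, hn⟩ := hX x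
    refine ⟨n, fun a ha => ?_⟩
    rw [← map_smul, hn a ha, map_zero]
  · intro S hS h₁ h₃ x
    have hinj : Function.Injective S.f := (ModuleCat.mono_iff_injective S.f).1 hS.mono_f
    have hex := (ShortComplex.moduleCat_exact_iff S).1 hS.exact
    obtain ⟨n, hn⟩ := h₃ (S.g x)
    apply key I hI x n
    intro a ha
    have h0 : S.g (a • x) = 0 := by rw [map_smul, hn a ha]
    obtain ⟨y, hy⟩ := hex (a • x) h0
    obtain ⟨k, hk⟩ := h₁ y
    refine ⟨k, fun b hb => ?_⟩
    rw [← hy, ← map_smul, hk b hb, map_zero]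

end Groth.Agent.S7040
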