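import Groth.Statements.S7041
import Mathlib
import Groth.Agent.S6375

set_option autoImplicit false
universe u
open scoped TensorProduct
open TensorProduct
open LocCoh

namespace Groth.Agent.S7041

/-- Let R → R' be a homomorphism of commutative rings and I an ideal of R such that the induced map
R/I^n → R'/I^n R' is bijective for every n > 0. Then for every R-module M in which every element is
killed by a power of I, the map M → R' ⊗_R M sending m to 1 ⊗ m is bijective. -/
theorem result {R R' : Type u} [CommRing R] [CommRing R'] [Algebra R R']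
    (I : Ideal R)
    (hq : ∀ n : ℕ, 0 < n → Function.Bijective
      (Ideal.quotientMap (Ideal.map (algebraMap R R') (I ^ n)) (algebraMap R R') Ideal.le_comap_map))
    (M : Type u) [AddCommGroup M] [Module R M] (hM : LocCoh.IsPowerTorsion I M) :
    Function.Bijective (fun m : M => (1 : R') ⊗ₜ[R] m) := by
  classical
  constructor
  · -- injectivity
    have key : ∀ m : M, (1 : R') ⊗ₜ[R] m = 0 → m = 0 := by
      intro m hm
      set P₀ : Submodule R M := Submodule.span R {m} with hP₀
      have hmP : m ∈ P₀ := Submodule.mem_span_singleton_self m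
      have h0 : (P₀.subtype.rTensor R') ((⟨m, hmP⟩ : P₀) ⊗ₜ[R] (1 : R')) = 0 := by
        rw [LinearMap.rTensor_tmul]
        have := congrArg (TensorProduct.comm R R' M) hm
        simpa using this
      obtain ⟨Q, hQ, hPQ, hu⟩ := Groth.Agent.S6375.exists_fg_rTensor_eq_zero P₀
        (Submodule.fg_span_singleton m) _ h0
      rw [LinearMap.rTensor_tmul] at hu
      -- Q is killed by a power of I
      obtain ⟨s, hs⟩ := hQ
      choose nn hnn using hM
      have hkill : ∀ q ∈ Q, ∀ a ∈ I ^ (s.sup nn + 1), a • q = 0 := by
        intro q hq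
        rw [← hs] at hq
        refine Submodule.span_induction ?_ ?_ ?_ ?_ hq
        · intro g hg a ha
          exact hnn g a (Ideal.pow_le_pow_right (le_trans (Finset.le_sup hg) (Nat.le_succ _)) ha)
        · intro a _
          simp
        · intro x y _ _ hx hy a ha
          rw [smul_add, hx a ha, hy a ha, add_zero]
        · intro c x _ hx a ha
          rw [smul_comm, hx a ha, smul_zero]
      set n := s.sup nn + 1 with hn
      let e := RingEquiv.ofBijective _ (hq n (Nat.succ_pos _))
      let θ : R' → R ⧸ I ^ n := fun r' => e.symm (Ideal.Quotient.mk _ r')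
      have hθadd : ∀ x y, θ (x + y) = θ x + θ y := fun x y => by simp [θ]
      have hθsmul : ∀ (a : R) (x : R'), θ (a • x) = Ideal.Quotient.mk _ a * θ x := by
        intro a x
        simp only [θ, Algebra.smul_def, map_mul]
        congr 1
        apply e.injective
        rw [RingEquiv.apply_symm_apply]
        rfl
      have hθ1 : θ 1 = 1 := by simp [θ]
      have hker : ∀ q : Q, I ^ n ≤ LinearMap.ker (LinearMap.toSpanSingleton R Q q) := by
        intro q a ha
        rw [LinearMap.mem_ker, LinearMap.toSpanSingleton_apply]
        apply Subtype.ext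
        exact hkill q q.2 a ha
      let act : (R ⧸ I ^ n) → Q → Q := fun c q =>
        Submodule.liftQ (I ^ n) (LinearMap.toSpanSingleton R Q q) (hker q) c
      have hact : ∀ (r : R) (q : Q), act (Ideal.Quotient.mk _ r) q = r • q := fun r q => rfl
      have hact_add : ∀ c q q', act c (q + q') = act c q + act c q' := by
        intro c q q'
        obtain ⟨r, rfl⟩ := Ideal.Quotient.mk_surjective c
        simp [hact]
      have hact_smul : ∀ c (a : R) q, act c (a • q) = a • act c q := by
        intro c a q
        obtain ⟨r, rfl⟩ := Ideal.Quotient.mk_surjective c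
        simp only [hact]
        rw [smul_comm]
      have hact_addc : ∀ c c' q, act (c + c') q = act c q + act c' q := by
        intro c c' q
        exact map_add _ c c'
      have hact_mul : ∀ (a : R) c q, act (Ideal.Quotient.mk _ a * c) q = a • act c q := by
        intro a c q
        obtain ⟨r, rfl⟩ := Ideal.Quotient.mk_surjective c
        rw [← map_mul, hact, hact, mul_smul]
      let B : Q →ₗ[R] R' →ₗ[R] Q := LinearMap.mk₂ R (fun q r' => act (θ r') q)
        (fun q q' r' => hact_add _ q q') (fun a q r' => hact_smul _ a q)
        (fun q x y => by simp only [hθadd, hact_addc])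
        (fun a q x => by simp only [hθsmul, hact_mul])
      have h1 := congrArg (TensorProduct.lift B) hu
      rw [TensorProduct.lift.tmul, map_zero] at h1
      have h2 : B (Submodule.inclusion hPQ ⟨m, hmP⟩) 1 = Submodule.inclusion hPQ ⟨m, hmP⟩ := by
        show act (θ 1) _ = _
        rw [hθ1]
        exact one_smul R (Submodule.inclusion hPQ ⟨m, hmP⟩)
      rw [h2] at h1
      have := congrArg Subtype.val h1
      simpa using this
    intro m m' h
    have h1 : (1 : R') ⊗ₜ[R] (m - m') = 0 := by
      rw [TensorProduct.tmul_sub]
      exact sub_eq_zero.mpr h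
    exact sub_eq_zero.mp (key _ h1)
  · -- surjectivity
    intro z
    induction z using TensorProduct.induction_on with
    | zero => exact ⟨0, by simp⟩
    | add x y hx hy =>
      obtain ⟨a, ha⟩ := hx
      obtain ⟨b, hb⟩ := hy
      exact ⟨a + b, by simp only [TensorProduct.tmul_add]; rw [← ha, ← hb]⟩
    | tmul r' m =>
      obtain ⟨n, hn⟩ := hM m
      have hn' : ∀ a ∈ I ^ (n + 1), a • m = 0 := fun a ha =>
        hn a (Ideal.pow_le_pow_right (Nat.le_succ n) ha)
      obtain ⟨c, hc⟩ := (hq (n + 1) (Nat.succ_pos n)).2 (Ideal.Quotient.mk _ r')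
      obtain ⟨r, rfl⟩ := Ideal.Quotient.mk_surjective c
      have h1 : r' - algebraMap R R' r ∈ Ideal.map (algebraMap R R') (I ^ (n + 1)) := by
        rw [← Ideal.Quotient.eq]
        exact hc.symm
      have hP : ∀ i ∈ Ideal.map (algebraMap R R') (I ^ (n + 1)), ∀ s : R',
          (s * i) ⊗ₜ[R] m = (0 : R' ⊗[R] M) := by
        intro i hi
        refine Submodule.span_induction ?_ ?_ ?_ ?_ hi
        · rintro _ ⟨a, ha, rfl⟩ s
          rw [mul_comm, ← Algebra.smul_def, TensorProduct.smul_tmul, hn' a ha,
            TensorProduct.tmul_zero]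
        · intro s
          simp
        · intro x y _ _ hx hy s
          rw [mul_add, TensorProduct.add_tmul, hx, hy, add_zero]
        · intro c x _ hx s
          rw [smul_eq_mul, ← mul_assoc]
          exact hx (s * c)
      refine ⟨r • m, ?_⟩
      have h2 := hP _ h1 1
      rw [one_mul, TensorProduct.sub_tmul, sub_eq_zero] at h2
      show (1 : R') ⊗ₜ[R] (r • m) = r' ⊗ₜ[R] m
      rw [h2, ← TensorProduct.smul_tmul, Algebra.smul_def, mul_one]

end Groth.Agent.S7041
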