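import Groth.Statements.S7049
import Groth.Agent.Helper3.DRingSeq

set_option autoImplicit false
universe u
attribute [local instance] HasDerivedCategory.standard
open CategoryTheory
open DRing

namespace Groth.Agent.S7049

open Groth.Agent.Helper3.DRingLib

/-- telescoping: if `g w_{n+1} - w_n = - y_n` then `w_0 - Σ_{n<K} g^n y_n = g^K w_K`. -/
lemma telescope {A : Type u} [CommRing A] (g : A) {M : Type u} [AddCommGroup M] [Module A M]
    (w y : ℕ → M) (h : seqOp g M w = -y) (K : ℕ) :
    w 0 - ∑ n ∈ Finset.range K, g ^ n • y n = g ^ K • w K := by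
  induction K with
  | zero => simp
  | succ K ih =>
    have hK : g • w (K + 1) - w K = - y K := congrFun h K
    rw [Finset.sum_range_succ, ← sub_sub, ih, pow_succ, mul_smul]
    have : y K = w K - g • w (K + 1) := by
      rw [← neg_sub, hK, neg_neg]
    rw [this, smul_sub]
    abel

lemma pow_le_span_pow {A : Type u} [CommRing A] [DecidableEq A] (s : Finset A) (n : ℕ) :
    (Ideal.span (s : Set A)) ^ (s.card * n + 1) ≤
      Ideal.span ((fun x => x ^ n) '' (s : Set A)) := by
  induction s using Finset.induction_on with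
  | empty => simp
  | insert g s' hg ih =>
    rw [Finset.card_insert_of_notMem hg, Finset.coe_insert, Ideal.span_insert, Set.image_insert_eq,
      Ideal.span_insert, add_mul, one_mul, add_comm (s'.card * n) n, add_assoc]
    refine le_trans Ideal.sup_pow_add_le_pow_sup_pow ?_
    rw [Ideal.span_singleton_pow]
    exact sup_le_sup le_rfl ih

/-- the key summation statement, by induction on the generating set -/
lemma exists_sum {A : Type u} [CommRing A] [DecidableEq A] (s : Finset A)
    (M : Type u) [AddCommGroup M] [Module A M]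
    (hM : ∀ f ∈ s, Function.Bijective (seqOp f M)) (d : ℕ → M)
    (hd : ∀ n, d n ∈ (Ideal.span ((fun x => x ^ n) '' (s : Set A))) • (⊤ : Submodule A M)) :
    ∃ m : M, ∀ K, m - ∑ n ∈ Finset.range K, d n ∈
      ((Ideal.span (s : Set A)) ^ K • ⊤ : Submodule A M) := by
  induction s using Finset.induction_on generalizing d with
  | empty =>
    refine ⟨0, fun K => ?_⟩
    have : ∀ n, d n = 0 := by
      intro n
      have := hd n
      simpa using this
    simp [this]
  | insert g s' hg ih =>
    have hd' : ∀ n, ∃ y : M, ∃ d' : M, d' ∈ (Ideal.span ((fun x => x ^ n) '' (s' : Set A))) •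
        (⊤ : Submodule A M) ∧ d n = g ^ n • y + d' := by
      intro n
      have := hd n
      rw [Finset.coe_insert, Set.image_insert_eq, Ideal.span_insert, Submodule.sup_smul] at this
      obtain ⟨a, ha, b, hb, hab⟩ := Submodule.mem_sup.mp this
      rw [Submodule.ideal_span_singleton_smul, Submodule.mem_smul_pointwise_iff_exists] at ha
      obtain ⟨y, _, rfl⟩ := ha
      exact ⟨y, b, hb, hab.symm⟩
    choose y d' hd'mem hdeq using hd'
    obtain ⟨m', hm'⟩ := ih (fun f hf => hM f (Finset.mem_insert_of_mem hf)) d' hd'mem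
    obtain ⟨w, hw⟩ := (hM g (Finset.mem_insert_self g s')).2 (-y)
    refine ⟨w 0 + m', fun K => ?_⟩
    have h1 := telescope g w y hw K
    have h2 : w 0 + m' - ∑ n ∈ Finset.range K, d n =
        g ^ K • w K + (m' - ∑ n ∈ Finset.range K, d' n) := by
      rw [← h1]
      simp only [hdeq, Finset.sum_add_distrib]
      abel
    rw [h2]
    refine Submodule.add_mem _ ?_ ?_
    · exact Submodule.smul_mem_smul (Ideal.pow_mem_pow (Ideal.subset_span (by simp)) K) trivial
    · refine Submodule.smul_mono_left (Ideal.pow_right_mono (Ideal.span_mono ?_) K) (hm' K)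
      simp

/-- For a commutative ring A, a finitely generated ideal I and an A-module M such that M[0] is derived
complete with respect to I, the canonical map from M to its I-adic completion lim M/I^n M is
surjective. -/
theorem result {A : Type u} [CommRing A] (I : Ideal A) (hI : I.FG)
    (M : Type u) [AddCommGroup M] [Module A M] (hc : DRing.IsDerivedComplete I (Dual.inD A M)) :
    Function.Surjective (AdicCompletion.of I M) := by
  classical
  obtain ⟨s, hs⟩ := hI
  have hM := (isDerivedComplete_module_iff I M).mp hc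
  intro z
  obtain ⟨a, rfl⟩ := AdicCompletion.mk_surjective I M z
  have ha : ∀ {m n : ℕ}, m ≤ n → a m ≡ a n [SMOD (I ^ m • ⊤ : Submodule A M)] := a.2
  set c := s.card + 1 with hc'
  let b : ℕ → M := fun n => a (c * n + 1)
  have hd : ∀ n, b (n + 1) - b n ∈
      (Ideal.span ((fun x => x ^ n) '' (s : Set A))) • (⊤ : Submodule A M) := by
    intro n
    have h1 : a (c * n + 1) ≡ a (c * (n + 1) + 1) [SMOD (I ^ (c * n + 1) • ⊤ : Submodule A M)] :=
      ha (Nat.add_le_add_right (Nat.mul_le_mul_left c (Nat.le_succ n)) 1)
    have h2 := SModEq.sub_mem.mp h1.symm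
    refine Submodule.smul_mono_left ?_ h2
    rw [← hs]
    refine le_trans (Ideal.pow_le_pow_right ?_) (pow_le_span_pow s n)
    exact Nat.add_le_add_right (Nat.mul_le_mul_right n (Nat.le_succ _)) 1
  obtain ⟨m, hm⟩ := exists_sum s M (fun f hf => hM f (hs ▸ Ideal.subset_span hf))
    (fun n => b (n + 1) - b n) hd
  refine ⟨b 0 + m, ?_⟩
  apply AdicCompletion.ext
  intro n
  rw [AdicCompletion.of_apply, AdicCompletion.mk_apply_coe, Submodule.mkQ_apply, Submodule.mkQ_apply]
  rw [Submodule.Quotient.eq]
  have h3 : b 0 + m - a n = (m - ∑ k ∈ Finset.range n, (b (k + 1) - b k)) + (b n - a n) := by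
    rw [Finset.sum_range_sub]
    abel
  rw [h3]
  refine Submodule.add_mem _ ?_ ?_
  · rw [← hs]; exact hm n
  · have : a n ≡ a (c * n + 1) [SMOD (I ^ n • ⊤ : Submodule A M)] :=
      ha (le_trans (Nat.le_mul_of_pos_left n (Nat.succ_pos _)) (Nat.le_succ _))
    exact SModEq.sub_mem.mp this.symm

end Groth.Agent.S7049
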