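import Groth.Statements.S7042
import Groth.Agent.S7049

set_option autoImplicit false
universe u
attribute [local instance] HasDerivedCategory.standard
open DRing

namespace Groth.Agent.S7042

open Groth.Agent.Helper3.DRingLib

/-- principal case: a derived `f`-complete module all of whose elements are killed by a power
of `f` is killed by a single power of `f`. -/
lemma principal {A : Type u} [CommRing A] (f : A) (M : Type u) [AddCommGroup M] [Module A M]
    (hb : Function.Bijective (seqOp f M)) (ht : ∀ m : M, ∃ n : ℕ, f ^ n • m = 0) :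
    ∃ N : ℕ, ∀ m : M, f ^ N • m = 0 := by
  classical
  by_cases hcase : ∃ N : ℕ, ∀ z : M, ∃ m : M, f ^ (N + 1) • m = f ^ N • z
  · obtain ⟨N, hN⟩ := hcase
    refine ⟨N, fun z => ?_⟩
    choose nx hnx using hN
    let zs : ℕ → M := fun j => Nat.rec z (fun _ y => nx y) j
    have hzs : ∀ j, f ^ (N + 1) • zs (j + 1) = f ^ N • zs j := fun j => hnx (zs j)
    have hzero : seqOp f M (fun j => f ^ N • zs j) = seqOp f M 0 := by
      rw [seqOp_zero]
      funext j
      simp only [seqOp, Pi.zero_apply]
      rw [← hzs j, pow_succ, mul_smul, smul_comm f (f ^ N), sub_self]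
    exact congrFun (hb.1 hzero) 0
  · exfalso
    push Not at hcase
    choose z hz using hcase
    -- the recursive construction
    let Div : ℕ → M → Prop := fun N x => ∃ m : M, f ^ N • m = x
    let g : ℕ → M → M := fun e P => if Div (2 * e + 1) (f ^ e • P) then z (2 * e) else 0
    let P : ℕ → M := fun e => Nat.rec 0 (fun e Pe => Pe + f ^ e • g e Pe) e
    let y : ℕ → M := fun e => g e (P e)
    have hP : ∀ K, P K = ∑ k ∈ Finset.range K, f ^ k • y k := by
      intro K
      induction K with
      | zero => simp [P]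
      | succ K ih =>
        rw [Finset.sum_range_succ, ← ih]
    have hkey : ∀ e, ¬ Div (2 * e + 1) (f ^ e • P (e + 1)) := by
      intro e
      have hPe : P (e + 1) = P e + f ^ e • g e (P e) := rfl
      rw [hPe, smul_add]
      by_cases hd : Div (2 * e + 1) (f ^ e • P e)
      · have hg : g e (P e) = z (2 * e) := if_pos hd
        rw [hg]
        rintro ⟨m, hm⟩
        obtain ⟨m', hm'⟩ := hd
        apply hz (2 * e) (m - m')
        rw [smul_sub, hm, hm', add_sub_cancel_left, smul_smul, ← pow_add, two_mul]
      · have hg : g e (P e) = 0 := if_neg hd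
        rw [hg, smul_zero, smul_zero, add_zero]
        exact hd
    obtain ⟨w, hw⟩ := hb.2 (-y)
    obtain ⟨E, hE⟩ := ht (w 0)
    apply hkey E
    have htel := Groth.Agent.S7049.telescope f w y hw (E + 1)
    rw [← hP] at htel
    refine ⟨-w (E + 1), ?_⟩
    have : f ^ E • P (E + 1) = f ^ E • w 0 - f ^ E • (f ^ (E + 1) • w (E + 1)) := by
      rw [← htel, smul_sub, sub_sub_cancel]
    have e2 : 2 * E + 1 = E + (E + 1) := by omega
    rw [this, hE, zero_sub, smul_neg, smul_smul, ← pow_add, e2]

/-- Let I be a finitely generated ideal of a commutative ring A and let M be an A-module which, placed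
in degree 0, is derived complete with respect to I, and in which every element is killed by a power
of I. Then a single power of I kills M. -/
theorem result {A : Type u} [CommRing A]
    (I : Ideal A) (hI : I.FG) (M : Type u) [AddCommGroup M] [Module A M]
    (hc : DRing.IsDerivedComplete I (Dual.inD A M)) (ht : LocCoh.IsPowerTorsion I M) :
    ∃ n : ℕ, I ^ n • (⊤ : Submodule A M) = ⊥ := by
  classical
  obtain ⟨s, hs⟩ := hI
  have hM := (isDerivedComplete_module_iff I M).mp hc
  have hs' : ∀ f ∈ s, f ∈ I := fun f hf => hs ▸ Ideal.subset_span hf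
  have h1 : ∀ f ∈ s, ∃ N : ℕ, ∀ m : M, f ^ N • m = 0 := by
    intro f hf
    apply principal f M (hM f (hs' f hf))
    intro m
    obtain ⟨n, hn⟩ := ht m
    exact ⟨n, hn _ (Ideal.pow_mem_pow (hs' f hf) n)⟩
  choose! N hN using h1
  set n := s.sup N with hn
  have h2 : ∀ f ∈ s, ∀ m : M, f ^ n • m = 0 := by
    intro f hf m
    have hle : N f ≤ n := Finset.le_sup hf
    rw [← Nat.sub_add_cancel hle, pow_add, mul_smul, hN f hf, smul_zero]
  refine ⟨s.card * n + 1, ?_⟩
  rw [eq_bot_iff, ← hs]
  refine le_trans (Submodule.smul_mono_left (Groth.Agent.S7049.pow_le_span_pow s n)) ?_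
  rw [Submodule.smul_le]
  intro r hr m _
  rw [Submodule.mem_bot]
  refine Submodule.span_induction (p := fun r _ => r • m = 0) ?_ ?_ ?_ ?_ hr
  · rintro _ ⟨f, hf, rfl⟩
    exact h2 f hf m
  · simp
  · intro a b _ _ ha hb
    rw [add_smul, ha, hb, add_zero]
  · intro a b _ hb
    rw [smul_eq_mul, mul_smul, hb, smul_zero]

end Groth.Agent.S7042
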