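import Groth.Statements.S7043
import Mathlib
import Groth.Agent.Helper3.DRingAway

set_option autoImplicit false
universe u
open scoped TensorProduct
attribute [local instance] HasDerivedCategory.standard
open DRing

namespace Groth.Agent.S7043

/-- Let f be an element of a commutative ring A and let M be an A-module which, placed in degree 0, is
derived complete with respect to the ideal (f). Then the ideal J = ⋂ f^n A annihilates the submodule
⋂ f^n M, which is the kernel of M → lim M/f^n M. (The case M = A says that J has square zero when A
itself is derived complete.) -/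
theorem result {A : Type u} [CommRing A] (f : A)
    (M : Type u) [AddCommGroup M] [Module A M]
    (hc : DRing.IsDerivedComplete (Ideal.span {f}) (Dual.inD A M)) :
    (⨅ n : ℕ, Ideal.span {f ^ n}) • (⨅ n : ℕ, (Ideal.span {f ^ n}) • (⊤ : Submodule A M)) = (⊥ : Submodule A M) := by
  have hbij := (Groth.Agent.Helper3.DRingLib.isDerivedComplete_module_iff (Ideal.span {f}) M).mp hc f
    (Ideal.subset_span rfl)
  rw [eq_bot_iff]
  refine Submodule.smul_le.mpr ?_
  intro a ha x hx
  rw [Submodule.mem_bot]
  have ha' : ∀ n : ℕ, ∃ b : A, b * f ^ n = a := fun n =>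
    Ideal.mem_span_singleton'.mp ((Ideal.mem_iInf.mp ha) n)
  have hx' : ∀ n : ℕ, ∃ y : M, f ^ n • y = x := by
    intro n
    have := (Submodule.mem_iInf _).mp hx n
    rw [Submodule.ideal_span_singleton_smul, Submodule.mem_smul_pointwise_iff_exists] at this
    obtain ⟨y, _, hy⟩ := this
    exact ⟨y, hy⟩
  choose b hb using ha'
  choose y hy using hx'
  have hzero : Groth.Agent.Helper3.DRingLib.seqOp f M (fun n => b n • x) =
      Groth.Agent.Helper3.DRingLib.seqOp f M (fun _ => 0) := by
    funext n
    simp only [Groth.Agent.Helper3.DRingLib.seqOp, smul_zero, sub_zero]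
    have : f • b (n + 1) • x - b n • x = (b (n + 1) * f ^ (n + 1) - b n * f ^ n) • y n := by
      conv_lhs => rw [← hy n]
      module
    rw [this, hb, hb, sub_self, zero_smul]
  have h0 := congrFun (hbij.1 hzero) 0
  have : b 0 = a := by simpa using hb 0
  rw [← this]
  exact h0

end Groth.Agent.S7043
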