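import Groth.Statements.S7045
import Groth.Agent.Helper3.DRingSeq

set_option autoImplicit false
universe u
attribute [local instance] HasDerivedCategory.standard
open DRing

namespace Groth.Agent.S7045

open Groth.Agent.Helper3.DRingLib

lemma iInf_smul_iInf {A : Type u} [CommRing A] (f : A) (M : Type u) [AddCommGroup M] [Module A M]
    (hinj : Function.Injective (seqOp f M)) :
    (⨅ n : ℕ, Ideal.span {f ^ n}) • (⨅ n : ℕ, (Ideal.span {f ^ n}) • (⊤ : Submodule A M)) =
      (⊥ : Submodule A M) := by
  rw [eq_bot_iff]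
  refine Submodule.smul_le.mpr ?_
  intro a ha x hx
  rw [Submodule.mem_bot]
  have ha' : ∀ n : ℕ, ∃ b : A, b * f ^ n = a := fun n =>
    Ideal.mem_span_singleton'.mp ((Ideal.mem_iInf.mp ha) n)
  have hx' : ∀ n : ℕ, ∃ y : M, f ^ n • y = x := by
    intro n
    have := (Submodule.mem_iInf _).mp hx n
    rw [Submodule.ideal_span_singleton_smul, Submodule.mem_smul_pointwise_iff_exists] at this
    obtain ⟨y, _, hy⟩ := this
    exact ⟨y, hy⟩
  choose b hb using ha'
  choose y hy using hx'
  have hzero : seqOp f M (fun n => b n • x) = seqOp f M (fun _ => 0) := by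
    funext n
    simp only [seqOp, smul_zero, sub_zero]
    have : f • b (n + 1) • x - b n • x = (b (n + 1) * f ^ (n + 1) - b n * f ^ n) • y n := by
      conv_lhs => rw [← hy n]
      module
    rw [this, hb, hb, sub_self, zero_smul]
  have h0 := congrFun (hinj hzero) 0
  have : b 0 = a := by simpa using hb 0
  rw [← this]
  exact h0

lemma iInf_sq {A : Type u} [CommRing A] (g : A) (hinj : Function.Injective (seqOp g A)) :
    (⨅ n : ℕ, Ideal.span {g ^ n}) ^ 2 = (⊥ : Ideal A) := by
  have h := iInf_smul_iInf g A hinj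
  have h2 : (⨅ n : ℕ, (Ideal.span {g ^ n}) • (⊤ : Submodule A A)) = ⨅ n : ℕ, Ideal.span {g ^ n} := by
    congr 1
    funext n
    exact Ideal.mul_top _
  rw [h2] at h
  rw [pow_two]
  exact h

lemma seqOp_quot_ring {A : Type u} [CommRing A] (g f : A) (m : ℕ)
    (hA : Function.Bijective (seqOp f A)) :
    Function.Bijective (seqOp (Ideal.Quotient.mk (Ideal.span {g ^ m}) f) (A ⧸ Ideal.span {g ^ m})) := by
  let u : A →ₗ[A] A := LinearMap.lsmul A A (g ^ m)
  have hK : LinearMap.range u = (Ideal.span {g ^ m} : Submodule A A) := by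
    ext x
    simp only [LinearMap.mem_range, u, LinearMap.lsmul_apply, smul_eq_mul]
    rw [Ideal.mem_span_singleton']
    constructor
    · rintro ⟨y, rfl⟩; exact ⟨y, mul_comm _ _⟩
    · rintro ⟨y, rfl⟩; exact ⟨y, mul_comm _ _⟩
  have h1 := seqOp_bijective_range f u hA hA.1
  have h2 : Function.Bijective (seqOp f (Ideal.span {g ^ m} : Submodule A A)) :=
    seqOp_bijective_of_equiv f (LinearEquiv.ofEq _ _ hK) h1
  have h3 := seqOp_bijective_quot f (Ideal.span {g ^ m} : Submodule A A) hA h2.2
  have heq : seqOp (Ideal.Quotient.mk (Ideal.span {g ^ m}) f) (A ⧸ Ideal.span {g ^ m}) =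
      seqOp f (A ⧸ (Ideal.span {g ^ m} : Submodule A A)) := by
    funext x n
    simp only [seqOp]
    congr 1
  rw [heq]
  exact h3

lemma main (r : ℕ) : ∀ (A : Type u) [CommRing A] (s : Finset A), s.card ≤ r →
    (∀ f ∈ s, Function.Bijective (seqOp f A)) →
    (⨅ n : ℕ, (Ideal.span (s : Set A)) ^ n) ^ (2 ^ r) = ⊥ := by
  classical
  induction r with
  | zero =>
    intro A _ s hs _
    have : s = ∅ := Finset.card_eq_zero.mp (Nat.le_zero.mp hs)
    subst this
    rw [pow_zero, pow_one, eq_bot_iff]
    refine le_trans (iInf_le _ 1) ?_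
    simp
  | succ r ih =>
    intro A _ s hs hbij
    rcases s.eq_empty_or_nonempty with rfl | ⟨g, hg⟩
    · rw [eq_bot_iff]
      refine le_trans (Ideal.pow_le_self (by positivity)) ?_
      refine le_trans (iInf_le _ 1) ?_
      simp
    set s' := s.erase g with hs'
    have hcard : s'.card ≤ r := by
      rw [hs', Finset.card_erase_of_mem hg]; omega
    have hins : (s : Set A) = insert g (s' : Set A) := by
      rw [hs', Finset.coe_erase, Set.insert_sdiff_singleton, Set.insert_eq_of_mem]
      exact hg
    set J := ⨅ n : ℕ, (Ideal.span (s : Set A)) ^ n with hJ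
    -- J^{2^r} ⊆ (g^m) for every m
    have key : ∀ m : ℕ, J ^ (2 ^ r) ≤ Ideal.span {g ^ m} := by
      intro m
      let π := Ideal.Quotient.mk (Ideal.span {g ^ m})
      have hIH := ih (A ⧸ Ideal.span {g ^ m}) (s'.image π)
        (le_trans Finset.card_image_le hcard) (by
          intro fbar hf
          obtain ⟨f, hf', rfl⟩ := Finset.mem_image.mp hf
          exact seqOp_quot_ring g f m (hbij f (Finset.mem_of_mem_erase hf')))
      have hmap : Ideal.map π J ≤ ⨅ n : ℕ, (Ideal.span ((s'.image π : Finset _) : Set _)) ^ n := by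
        refine le_iInf fun n => ?_
        rw [Ideal.map_le_iff_le_comap]
        intro x hx
        have hx' : x ∈ (Ideal.span (s : Set A)) ^ (m + n) := (Ideal.mem_iInf.mp hx) (m + n)
        rw [hins, Ideal.span_insert] at hx'
        have hx'' := Ideal.sup_pow_add_le_pow_sup_pow hx'
        rw [Ideal.span_singleton_pow] at hx''
        obtain ⟨a, ha, y, hy, rfl⟩ := Submodule.mem_sup.mp hx''
        rw [Ideal.mem_comap, map_add]
        have : π a = 0 := Ideal.Quotient.eq_zero_iff_mem.mpr ha
        rw [this, zero_add, Finset.coe_image, ← Ideal.map_span, ← Ideal.map_pow]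
        exact Ideal.mem_map_of_mem π hy
      have h2 : Ideal.map π (J ^ (2 ^ r)) = ⊥ := by
        rw [Ideal.map_pow, eq_bot_iff, ← hIH]
        exact Ideal.pow_right_mono hmap _
      rw [Ideal.map_eq_bot_iff_le_ker, Ideal.mk_ker] at h2
      exact h2
    have key2 : J ^ (2 ^ r) ≤ ⨅ m : ℕ, Ideal.span {g ^ m} := le_iInf key
    rw [pow_succ, pow_mul, eq_bot_iff, ← iInf_sq g (hbij g hg).1]
    exact Ideal.pow_right_mono key2 2

/-- Let A be a commutative ring which, placed in degree 0 of D(A), is derived complete with respect to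
an ideal I generated by a finite set of r elements. Then the ideal J = ⋂ I^n satisfies J^N = 0 with
N = 2^r. -/
theorem result {A : Type u} [CommRing A] (I : Ideal A)
    (s : Finset A) (hs : Ideal.span (s : Set A) = I)
    (hc : DRing.IsDerivedComplete I (Dual.inD A A)) :
    (⨅ n : ℕ, I ^ n) ^ (2 ^ s.card) = ⊥ := by
  have hM := (isDerivedComplete_module_iff I A).mp hc
  rw [← hs]
  exact main s.card A s le_rfl (fun f hf => hM f (hs ▸ Ideal.subset_span hf))

end Groth.Agent.S7045
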