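import Groth.Statements.S7044
import Groth.Agent.S7045
import Groth.Agent.S7049

set_option autoImplicit false
universe u
attribute [local instance] HasDerivedCategory.standard
open DRing

namespace Groth.Agent.S7044

open Groth.Agent.Helper3.DRingLib Polynomial

/-- a solution of `T_h x = const` is constant -/
lemma exists_const_sol {A : Type u} [CommRing A] (h : A) (hb : Function.Bijective (seqOp h A))
    (c : A) : ∃ v : A, h * v - v = c := by
  obtain ⟨x, hx⟩ := hb.2 (fun _ => c)
  have hshift : seqOp h A (fun n => x (n + 1)) = seqOp h A x := by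
    rw [hx]
    funext n
    exact congrFun hx (n + 1)
  have hconst := hb.1 hshift
  refine ⟨x 0, ?_⟩
  have h0 := congrFun hx 0
  simp only [seqOp, smul_eq_mul] at h0
  have h1 : x 1 = x 0 := congrFun hconst 0
  rw [← h0, zero_add, h1]

lemma isUnit_one_sub {A : Type u} [CommRing A] (h : A) (hb : Function.Bijective (seqOp h A)) :
    IsUnit (1 - h) := by
  obtain ⟨v, hv⟩ := exists_const_sol h hb (-1)
  refine isUnit_iff_exists_inv.mpr ⟨v, ?_⟩
  linear_combination -hv

/-- the quotient by `⋂ eⁿ A` is `e`-adically complete -/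
lemma isAdicComplete_quot {A : Type u} [CommRing A] (e : A)
    (hpre : IsPrecomplete (Ideal.span {e}) A) :
    IsAdicComplete (Ideal.span {Ideal.Quotient.mk (⨅ n : ℕ, Ideal.span {e ^ n}) e})
      (A ⧸ (⨅ n : ℕ, Ideal.span {e ^ n})) := by
  set J : Ideal A := ⨅ n : ℕ, Ideal.span {e ^ n} with hJ
  let π := Ideal.Quotient.mk J
  have hJle : ∀ n, J ≤ Ideal.span {e ^ n} := fun n => iInf_le _ n
  have hpow : ∀ n : ℕ, ((Ideal.span {π e}) ^ n • ⊤ : Submodule (A ⧸ J) (A ⧸ J)) =
      (Ideal.span {e ^ n}).map π := by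
    intro n
    rw [smul_eq_mul, Ideal.mul_top, Ideal.span_singleton_pow, Ideal.map_span, Set.image_singleton,
      map_pow]
  have hmem : ∀ (n : ℕ) (a : A), π a ∈ ((Ideal.span {π e}) ^ n • ⊤ : Submodule (A ⧸ J) (A ⧸ J)) ↔
      a ∈ Ideal.span {e ^ n} := by
    intro n a
    rw [hpow n]
    exact Ideal.mem_quotient_iff_mem (hJle n)
  have hpowA : ∀ n : ℕ, ((Ideal.span {e}) ^ n • ⊤ : Submodule A A) = Ideal.span {e ^ n} := by
    intro n
    rw [smul_eq_mul, Ideal.mul_top, Ideal.span_singleton_pow]
  refine { toIsHausdorff := ⟨?_⟩, toIsPrecomplete := ⟨?_⟩ }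
  · intro x hx
    obtain ⟨a, rfl⟩ := Ideal.Quotient.mk_surjective x
    have : a ∈ J := by
      rw [hJ, Ideal.mem_iInf]
      intro n
      have := hx n
      rw [SModEq.zero] at this
      exact (hmem n a).mp this
    exact Ideal.Quotient.eq_zero_iff_mem.mpr this
  · intro b hb
    choose a ha using fun n => Ideal.Quotient.mk_surjective (I := J) (b n)
    have hcauchy : ∀ {m n : ℕ}, m ≤ n →
        a m ≡ a n [SMOD ((Ideal.span {e}) ^ m • ⊤ : Submodule A A)] := by
      intro m n hmn
      rw [SModEq.sub_mem, hpowA m, ← hmem m, map_sub]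
      have := SModEq.sub_mem.mp (hb hmn)
      rw [← ha m, ← ha n] at this
      exact this
    obtain ⟨L, hL⟩ := hpre.prec hcauchy
    refine ⟨π L, fun n => ?_⟩
    rw [SModEq.sub_mem, ← ha n]
    have := SModEq.sub_mem.mp (hL n)
    rw [hpowA n, ← hmem n, map_sub] at this
    exact this

/-- Let A be a commutative ring and I an ideal of A; if A, regarded as an object of D(A) sitting in
degree 0, is I-adically derived complete, then the pair (A, I) is henselian: I lies in the Jacobson
radical and simple roots modulo I of monic polynomials lift to roots in A. -/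
theorem result {A : Type u} [CommRing A] (I : Ideal A)
    (hc : DRing.IsDerivedComplete I (Dual.inD A A)) : HenselianRing A I := by
  have hM := (isDerivedComplete_module_iff I A).mp hc
  have hjac : I ≤ Ideal.jacobson ⊥ := by
    intro f hf
    rw [Ideal.mem_jacobson_bot]
    intro y
    have h1 : -(f * y) ∈ I := I.neg_mem (I.mul_mem_right y hf)
    have := isUnit_one_sub _ (hM _ h1)
    have e : 1 - -(f * y) = f * y + 1 := by ring
    rw [e] at this
    exact this
  refine ⟨hjac, ?_⟩
  intro F hF a₀ he hu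
  haveI := isLocalHom_of_le_jacobson_bot I hjac
  have hu₀ : IsUnit (F.derivative.eval a₀) := isUnit_of_map_unit (Ideal.Quotient.mk I) _ hu
  set e := F.eval a₀ with he_def
  have hspan : Ideal.span {e} ≤ I := (Ideal.span_singleton_le_iff_mem (I := I)).mpr he
  -- A is precomplete w.r.t. (e)
  have hpre : IsPrecomplete (Ideal.span {e}) A := by
    have hc' : DRing.IsDerivedComplete (Ideal.span {e}) (Dual.inD A A) :=
      (isDerivedComplete_module_iff _ A).mpr (fun f hf => hM f (hspan hf))
    exact AdicCompletion.of_surjective_iff.mp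
      (Groth.Agent.S7049.result (Ideal.span {e}) ⟨{e}, by simp⟩ A hc')
  set J : Ideal A := ⨅ n : ℕ, Ideal.span {e ^ n} with hJ
  have hJ2 : J ^ 2 = ⊥ := Groth.Agent.S7045.iInf_sq e (hM e he).1
  have hJe : J ≤ Ideal.span {e} := by
    refine le_trans (iInf_le _ 1) ?_
    rw [pow_one]
  let π := Ideal.Quotient.mk J
  haveI := isAdicComplete_quot e hpre
  have hHens : HenselianRing (A ⧸ J) (Ideal.span {π e}) := inferInstance
  -- apply Hensel in B
  obtain ⟨b, hb1, hb2⟩ := hHens.is_henselian (F.map π) (hF.map π) (π a₀)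
    (by rw [Polynomial.eval_map, Polynomial.eval₂_hom]; exact Ideal.subset_span rfl)
    (by
      rw [Polynomial.derivative_map, Polynomial.eval_map, Polynomial.eval₂_hom]
      exact (hu₀.map π).map _)
  obtain ⟨a₁, rfl⟩ := Ideal.Quotient.mk_surjective b
  have hδ : F.eval a₁ ∈ J := by
    have : π (F.eval a₁) = 0 := by
      have := hb1
      rw [Polynomial.IsRoot.def, Polynomial.eval_map, Polynomial.eval₂_hom] at this
      exact this
    exact Ideal.Quotient.eq_zero_iff_mem.mp this
  have ha₁ : a₁ - a₀ ∈ Ideal.span {e} := by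
    have h1 : π (a₁ - a₀) ∈ (Ideal.span {e}).map π := by
      rw [Ideal.map_span, Set.image_singleton, map_sub]
      exact hb2
    exact (Ideal.mem_quotient_iff_mem hJe).mp h1
  -- derivative at a₁ is a unit
  have hu₁ : IsUnit (F.derivative.eval a₁) := by
    apply isUnit_of_map_unit (Ideal.Quotient.mk I)
    have : Ideal.Quotient.mk I (F.derivative.eval a₁) = Ideal.Quotient.mk I (F.derivative.eval a₀) := by
      rw [Ideal.Quotient.eq]
      obtain ⟨q, hq⟩ := Polynomial.sub_dvd_eval_sub a₁ a₀ F.derivative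
      rw [hq]
      exact I.mul_mem_right q (hspan ha₁)
    rw [this]
    exact hu
  obtain ⟨w, hw⟩ := isUnit_iff_exists_inv.mp hu₁
  set δ := F.eval a₁ with hδ_def
  obtain ⟨k, hk⟩ := Polynomial.binomExpansion F a₁ (-(δ * w))
  have hδ2 : δ * δ = 0 := by
    have : δ * δ ∈ J ^ 2 := by
      rw [pow_two]; exact Ideal.mul_mem_mul hδ hδ
    rw [hJ2] at this
    exact this
  refine ⟨a₁ + -(δ * w), ?_, ?_⟩
  · rw [Polynomial.IsRoot.def, hk]
    have : (-(δ * w)) ^ 2 = (δ * δ) * w ^ 2 := by ring
    rw [this, hδ2]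
    linear_combination (-δ) * hw
  · have h1 : a₁ + -(δ * w) - a₀ = (a₁ - a₀) - δ * w := by ring
    rw [h1]
    exact I.sub_mem (hspan ha₁) (I.mul_mem_right w (hspan (hJe hδ)))

end Groth.Agent.S7044
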