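import Groth.Statements.S7046
import Groth.Agent.S7045
import Groth.Agent.S7049

set_option autoImplicit false
universe u
attribute [local instance] HasDerivedCategory.standard
open DRing

namespace Groth.Agent.S7046

/-- A reduced commutative ring A which, placed in degree 0 of D(A), is derived complete with respect to
a finitely generated ideal I is I-adically complete, i.e. separated and complete for the I-adic
topology. -/
theorem result {A : Type u} [CommRing A] [IsReduced A]
    (I : Ideal A) (hI : I.FG) (hc : DRing.IsDerivedComplete I (Dual.inD A A)) :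
    IsAdicComplete I A := by
  classical
  obtain ⟨s, hs⟩ := hI
  have h45 := Groth.Agent.S7045.result I s hs hc
  have h49 := Groth.Agent.S7049.result I ⟨s, hs⟩ A hc
  have hJ : (⨅ n : ℕ, I ^ n) = ⊥ := by
    rw [eq_bot_iff]
    intro x hx
    have : x ^ (2 ^ s.card) ∈ (⨅ n : ℕ, I ^ n) ^ (2 ^ s.card) := Ideal.pow_mem_pow hx _
    rw [h45] at this
    have hnil : IsNilpotent x := ⟨_, this⟩
    rw [Ideal.mem_bot]
    exact hnil.eq_zero
  refine { toIsHausdorff := ⟨?_⟩, toIsPrecomplete := AdicCompletion.of_surjective_iff.mp h49 }
  intro x hx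
  have : x ∈ (⨅ n : ℕ, I ^ n) := by
    rw [Ideal.mem_iInf]
    intro n
    have := hx n
    rw [SModEq.zero, smul_eq_mul, Ideal.mul_top] at this
    exact this
  rw [hJ] at this
  exact this

end Groth.Agent.S7046
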