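import Groth.Statements.S7048
import Mathlib
import Groth.Agent.Helper3.DRingSeq

set_option autoImplicit false
universe u
open scoped TensorProduct
attribute [local instance] HasDerivedCategory.standard
open DRing

namespace Groth.Agent.S7048

/-- For a commutative ring A, an ideal I and an A-module M which is I-adically complete, the object M[0]
of D(A) is derived complete with respect to I. -/
theorem result {A : Type u} [CommRing A] (I : Ideal A)
    (M : Type u) [AddCommGroup M] [Module A M] [IsAdicComplete I M] :
    DRing.IsDerivedComplete I (Dual.inD A M) := by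
  rw [Groth.Agent.Helper3.DRingLib.isDerivedComplete_module_iff]
  intro f hf
  have hpow : ∀ (k : ℕ) (m : M), f ^ k • m ∈ (I ^ k • ⊤ : Submodule A M) := fun k m =>
    Submodule.smul_mem_smul (Ideal.pow_mem_pow hf k) trivial
  constructor
  · rw [Groth.Agent.Helper3.DRingLib.seqOp_injective_iff]
    intro x hx
    have h1 : ∀ n, f • x (n + 1) = x n := by
      intro n
      have := congrFun hx n
      simp only [Groth.Agent.Helper3.DRingLib.seqOp, Pi.zero_apply] at this
      exact sub_eq_zero.mp this
    have h2 : ∀ k n, x n = f ^ k • x (n + k) := by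
      intro k
      induction k with
      | zero => intro n; simp
      | succ k ih =>
        intro n
        rw [ih n, pow_succ, mul_smul, ← h1 (n + k), add_assoc]
    funext n
    apply IsHausdorff.haus (inferInstance : IsHausdorff I M)
    intro k
    rw [SModEq.zero, h2 k n]
    exact hpow k _
  · intro y
    -- partial sums
    let S : ℕ → ℕ → M := fun n K => - ∑ k ∈ Finset.range K, f ^ k • y (n + k)
    have hS : ∀ n, ∀ {K K' : ℕ}, K ≤ K' → S n K ≡ S n K' [SMOD (I ^ K • ⊤ : Submodule A M)] := by
      intro n K K' hKK'
      rw [SModEq.sub_mem]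
      have : S n K - S n K' = ∑ k ∈ Finset.Ico K K', f ^ k • y (n + k) := by
        simp only [S]
        rw [Finset.sum_Ico_eq_sub _ hKK']
        abel
      rw [this]
      refine Submodule.sum_mem _ (fun k hk => ?_)
      have hk' : K ≤ k := (Finset.mem_Ico.mp hk).1
      exact Submodule.smul_mono_left (Ideal.pow_le_pow_right hk') (hpow k _)
    choose x hx using fun n => IsPrecomplete.prec (inferInstance : IsPrecomplete I M) (hS n)
    refine ⟨x, ?_⟩
    funext n
    simp only [Groth.Agent.Helper3.DRingLib.seqOp]
    rw [← sub_eq_zero]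
    apply IsHausdorff.haus (inferInstance : IsHausdorff I M)
    intro K
    have e1 : S (n + 1) K ≡ x (n + 1) [SMOD (I ^ K • ⊤ : Submodule A M)] := hx (n + 1) K
    have e2 : S n (K + 1) ≡ x n [SMOD (I ^ K • ⊤ : Submodule A M)] :=
      (hx n (K + 1)).mono (Submodule.smul_mono_left (Ideal.pow_le_pow_right (Nat.le_succ K)))
    have e3 : f • x (n + 1) - x n - y n ≡ f • S (n + 1) K - S n (K + 1) - y n
        [SMOD (I ^ K • ⊤ : Submodule A M)] :=
      ((e1.symm.smul f).sub e2.symm).sub SModEq.rfl
    have e4 : f • S (n + 1) K - S n (K + 1) - y n = 0 := by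
      simp only [S]
      rw [Finset.sum_range_succ' _ K, smul_neg, Finset.smul_sum]
      simp only [pow_zero, one_smul, add_zero, smul_smul, ← pow_succ', add_assoc, add_comm 1]
      abel
    rw [e4] at e3
    exact e3

end Groth.Agent.S7048
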