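import Groth.Statements.S7053
import Mathlib
import Groth.Agent.Helper3.DRingSeq

set_option autoImplicit false
universe u
open scoped TensorProduct
attribute [local instance] HasDerivedCategory.standard
open DRing

namespace Groth.Agent.S7053

/-- For a commutative ring A, a finitely generated ideal I and an A-module M which, placed in degree 0
of D(A), is derived complete with respect to I, if IM = M then M = 0. -/
theorem result {A : Type u} [CommRing A] (I : Ideal A) (hI : I.FG)
    (M : Type u) [AddCommGroup M] [Module A M] (hc : DRing.IsDerivedComplete I (Dual.inD A M))
    (h : I • (⊤ : Submodule A M) = ⊤) : Subsingleton M := by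
  classical
  obtain ⟨s, hs⟩ := hI
  have hM := (Groth.Agent.Helper3.DRingLib.isDerivedComplete_module_iff I M).mp hc
  have key : ∀ (s : Finset A) (M : Type u) [AddCommGroup M] [Module A M],
      (∀ f ∈ s, Function.Bijective (Groth.Agent.Helper3.DRingLib.seqOp f M)) →
      (Ideal.span (s : Set A)) • (⊤ : Submodule A M) = ⊤ → Subsingleton M := by
    intro s
    induction s using Finset.induction_on with
    | empty =>
      intro M _ _ _ h
      simp only [Finset.coe_empty, Ideal.span_empty, Submodule.bot_smul] at h
      exact (Submodule.subsingleton_iff A).mp ⟨fun a b => by
        have ha : a = ⊥ := by rw [eq_bot_iff, h]; exact le_top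
        have hb : b = ⊥ := by rw [eq_bot_iff, h]; exact le_top
        rw [ha, hb]⟩
    | insert g s' hg ih =>
      intro M _ _ hbij h
      let u : M →ₗ[A] M := LinearMap.lsmul A M g
      have hN : Subsingleton (M ⧸ LinearMap.range u) := by
        apply ih
        · intro f hf
          have := hbij f (Finset.mem_insert_of_mem hf)
          exact Groth.Agent.Helper3.DRingLib.seqOp_bijective_coker f u this this
        · rw [eq_top_iff]
          rintro n -
          obtain ⟨m, rfl⟩ := Submodule.Quotient.mk_surjective _ n
          have hm : m ∈ (Ideal.span ((insert g s' : Finset A) : Set A)) • (⊤ : Submodule A M) := by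
            rw [h]; trivial
          rw [Finset.coe_insert, Ideal.span_insert, Submodule.sup_smul] at hm
          obtain ⟨a, ha, b, hb, rfl⟩ := Submodule.mem_sup.mp hm
          rw [Submodule.ideal_span_singleton_smul, Submodule.mem_smul_pointwise_iff_exists] at ha
          obtain ⟨m', _, rfl⟩ := ha
          have h1 : Submodule.Quotient.mk (p := LinearMap.range u) (g • m' + b) =
              (LinearMap.range u).mkQ b := by
            rw [Submodule.Quotient.mk_add, Submodule.mkQ_apply]
            have : Submodule.Quotient.mk (p := LinearMap.range u) (g • m') = 0 :=
              (Submodule.Quotient.mk_eq_zero _).mpr ⟨m', rfl⟩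
            rw [this, zero_add]
          rw [h1]
          have h2 : (LinearMap.range u).mkQ b ∈
              Submodule.map (LinearMap.range u).mkQ (Ideal.span (s' : Set A) • (⊤ : Submodule A M)) :=
            Submodule.mem_map_of_mem hb
          rw [Submodule.map_smul''] at h2
          exact Submodule.smul_mono le_rfl le_top h2
      have hsurj : Function.Surjective u := by
        rw [← LinearMap.range_eq_top]
        exact Submodule.Quotient.subsingleton_iff.mp hN
      refine ⟨fun m₁ m₂ => ?_⟩
      have hzero : ∀ m : M, m = 0 := by
        intro m
        choose v hv using hsurj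
        let x : ℕ → M := fun n => Nat.rec m (fun _ y => v y) n
        have hx : Groth.Agent.Helper3.DRingLib.seqOp g M x =
            Groth.Agent.Helper3.DRingLib.seqOp g M 0 := by
          rw [Groth.Agent.Helper3.DRingLib.seqOp_zero]
          funext n
          simp only [Groth.Agent.Helper3.DRingLib.seqOp, Pi.zero_apply]
          have : g • x (n + 1) = x n := hv (x n)
          rw [this, sub_self]
        have := congrFun ((hbij g (Finset.mem_insert_self g s')).1 hx) 0
        exact this
      rw [hzero m₁, hzero m₂]
  apply key s M
  · intro f hf
    exact hM f (hs ▸ Ideal.subset_span hf)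
  · rw [hs]; exact h

end Groth.Agent.S7053
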