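import Groth.Statements.S7055
import Groth.Agent.Helper6.DerNak

set_option autoImplicit false
universe u
attribute [local instance] HasDerivedCategory.standard
open CategoryTheory
open DRing

namespace Groth.Agent.S7055

/-- For a commutative ring A, a finitely generated ideal I and an object K of D(A) which is derived
complete with respect to I, if K ⊗^L_A A/I vanishes then K vanishes. The derived tensor product with
the module A/I is the total left derived functor, assumed to exist. -/
theorem result {A : Type u} [CommRing A] (I : Ideal A) (hI : I.FG)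
    [DRing.HasLTensor A (ModuleCat.of A (A ⧸ I))]
    (K : Dual.D A) (hc : DRing.IsDerivedComplete I K)
    (h0 : Limits.IsZero ((DRing.LTensor A (ModuleCat.of A (A ⧸ I))).obj K)) : Limits.IsZero K := by
  classical
  have hall : ∀ i : ℤ, Subsingleton (Dual.HD A K i) := by
    intro i
    refine Groth.Agent.Helper6.DerNak.subsingleton_HD_of_LTensor I hI K hc (i - 1) ?_ i (by omega)
    intro j _
    exact ModuleCat.subsingleton_of_isZero
      ((DerivedCategory.homologyFunctor (ModuleCat.{u} A) j).map_isZero h0)
  obtain ⟨P, f, hP, hkf, hproj, hq, -⟩ :=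
    Groth.Agent.Helper6.KProjRes.exists_resolution (DerivedCategory.Q.objPreimage K)
  have hiso : IsIso (DerivedCategory.Q.map f) :=
    (DerivedCategory.isIso_Q_map_iff_quasiIso _ _).mpr hq
  let e : DRing.toD P ≅ K := asIso (DerivedCategory.Q.map f) ≪≫ DerivedCategory.Q.objObjPreimageIso K
  refine (Groth.Agent.Helper6.DerNak.isZero_toD_of_exactAt P (fun n => ?_)).of_iso e.symm
  rw [← Groth.Agent.Helper6.DerNak.subsingleton_HD_iff_exactAt P e n]
  exact hall n

end Groth.Agent.S7055
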