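import Groth.Statements.S7056
import Groth.Agent.Helper6.DerNak

set_option autoImplicit false
universe u
attribute [local instance] HasDerivedCategory.standard
open CategoryTheory
open DRing

namespace Groth.Agent.S7056

/-- (1)⇔(2): for a commutative ring A, a finitely generated ideal I and an object K of D(A) which is
derived complete with respect to I, the cohomology of K vanishes in all positive degrees if and only
if the cohomology of K ⊗^L_A A/I does. The derived tensor product with the module A/I is the total
left derived functor, assumed to exist. -/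
theorem result {A : Type u} [CommRing A]
    (I : Ideal A) (hI : I.FG) [DRing.HasLTensor A (ModuleCat.of A (A ⧸ I))]
    (K : Dual.D A) (hc : DRing.IsDerivedComplete I K) :
    (∀ i : ℤ, 0 < i → Subsingleton (Dual.HD A K i)) ↔
      ∀ i : ℤ, 0 < i → Subsingleton (Dual.HD A ((DRing.LTensor A (ModuleCat.of A (A ⧸ I))).obj K) i) := by
  classical
  constructor
  · intro hK i hi
    obtain ⟨P, f, hP, hkf, hproj, hq, -⟩ :=
      Groth.Agent.Helper6.KProjRes.exists_resolution (DerivedCategory.Q.objPreimage K)
    haveI := hP
    have hiso : IsIso (DerivedCategory.Q.map f) :=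
      (DerivedCategory.isIso_Q_map_iff_quasiIso _ _).mpr hq
    let e : DRing.toD P ≅ K :=
      asIso (DerivedCategory.Q.map f) ≪≫ DerivedCategory.Q.objObjPreimageIso K
    rw [Groth.Agent.Helper6.LTenModCompute.subsingleton_HD_iff (ModuleCat.of A (A ⧸ I)) P e i]
    refine Groth.Agent.Helper6.RingChangeAmp.exactAt_tensorCx_of_exactAt_above P 0 ?_ _ i hi
    intro j hj
    rw [← Groth.Agent.Helper6.DerNak.subsingleton_HD_iff_exactAt P e j]
    exact hK j hj
  · intro h
    exact Groth.Agent.Helper6.DerNak.subsingleton_HD_of_LTensor I hI K hc 0 h

end Groth.Agent.S7056
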