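import Groth.Statements.S7057
import Groth.Agent.Helper3.DRingIdeal
import Groth.Agent.Helper3.DRingH

set_option autoImplicit false
universe u
attribute [local instance] HasDerivedCategory.standard
open CategoryTheory
open DRing

namespace Groth.Agent.S7057

open Groth.Agent.Helper3.DRingLib

/-- cohomology commutes with restriction of scalars -/
noncomputable def HDrestrictIso {A B : Type u} [CommRing A] [CommRing B] (φ : A →+* B)
    (L : Dual.D B) (i : ℤ) :
    (DerivedCategory.homologyFunctor (ModuleCat.{u} A) i).obj ((DRing.restrictD φ).obj L) ≅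
      (ModuleCat.restrictScalars.{u} φ).obj
        ((DerivedCategory.homologyFunctor (ModuleCat.{u} B) i).obj L) :=
  let F := ModuleCat.restrictScalars.{u} φ
  let L' := DerivedCategory.Q.objPreimage L
  let e : DerivedCategory.Q.obj L' ≅ L := DerivedCategory.Q.objObjPreimageIso L
  (DerivedCategory.homologyFunctor (ModuleCat.{u} A) i).mapIso
      (F.mapDerivedCategory.mapIso e.symm ≪≫ F.mapDerivedCategoryFactors.app L') ≪≫
    (DerivedCategory.homologyFunctorFactors (ModuleCat.{u} A) i).app _ ≪≫
    (L'.sc i).mapHomologyIso F ≪≫
    F.mapIso ((DerivedCategory.homologyFunctorFactors (ModuleCat.{u} B) i).app L').symm ≪≫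
    F.mapIso ((DerivedCategory.homologyFunctor (ModuleCat.{u} B) i).mapIso e)

lemma seqOp_restrict {A B : Type u} [CommRing A] [CommRing B] (φ : A →+* B) (f : A)
    (N : ModuleCat.{u} B) :
    Function.Bijective (seqOp f ((ModuleCat.restrictScalars.{u} φ).obj N)) ↔
      Function.Bijective (seqOp (φ f) N) := Iff.rfl

/-- For a homomorphism of commutative rings A → B, an ideal I of A and an object L of D(B), L is derived
complete with respect to the extended ideal IB if and only if L viewed in D(A) by restriction of
scalars is derived complete with respect to I. -/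
theorem result {A B : Type u} [CommRing A] [CommRing B] (φ : A →+* B)
    (I : Ideal A) (L : Dual.D B) :
    DRing.IsDerivedComplete (I.map φ) L ↔ DRing.IsDerivedComplete I ((DRing.restrictD φ).obj L) := by
  classical
  rw [isDerivedComplete_iff_homology, isDerivedComplete_iff_homology]
  refine forall_congr' fun i => ?_
  rw [isDerivedComplete_module_iff, isDerivedComplete_module_iff]
  have key : ∀ f : A, Function.Bijective (seqOp f (Dual.HD A ((DRing.restrictD φ).obj L) i)) ↔
      Function.Bijective (seqOp (φ f) (Dual.HD B L i)) := by
    intro f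
    rw [← seqOp_restrict φ f]
    exact ⟨seqOp_bijective_of_equiv f (HDrestrictIso φ L i).toLinearEquiv,
      seqOp_bijective_of_equiv f (HDrestrictIso φ L i).toLinearEquiv.symm⟩
  constructor
  · intro h f hf
    rw [key]
    exact h _ (Ideal.mem_map_of_mem φ hf)
  · intro h g hg
    rw [Ideal.map] at hg
    obtain ⟨T, hT, hgT⟩ := Submodule.mem_span_finite_of_mem_span hg
    refine seqOp_bijective_of_pow_mem T _ ?_ g 1 (by rw [pow_one]; exact hgT)
    intro b hb
    obtain ⟨f, hf, rfl⟩ := hT hb
    rw [← key]
    exact h f hf

end Groth.Agent.S7057
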