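import Groth.Statements.S7058
import Groth.Agent.Helper6.DCHom

set_option autoImplicit false
universe u
attribute [local instance] HasDerivedCategory.standard
open CategoryTheory
open DRing

namespace Groth.Agent.S7058

/-- Let A be a commutative ring, I a finitely generated ideal, and assume the derived completion functor
(left adjoint to the inclusion of derived complete objects of D(A)) exists. If K is a cochain
complex of A-modules and some f in I acts bijectively on every term of K, then the derived
completion of K is zero. -/
theorem result {A : Type u} [CommRing A] (I : Ideal A) (hI : I.FG)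
    [DRing.HasDerivedCompletion I] (K : DRing.Cx A) (f : A) (hf : f ∈ I)
    (hK : ∀ i : ℤ, Function.Bijective (fun x : K.X i => f • x)) :
    Limits.IsZero ((DRing.derivedCompletion I).obj (DRing.toD K)).obj := by
  let Y := (DRing.derivedCompletion I).obj (DRing.toD K)
  have hY : Groth.Agent.Helper3.DRingLib.DCf f Y.obj :=
    (Groth.Agent.Helper3.DRingLib.isDerivedComplete_iff_dcf I Y.obj).mp Y.property f hf
  have key : ∀ g : DRing.toD K ⟶ (ObjectProperty.ι (DRing.IsDerivedComplete I)).obj Y, g = 0 :=
    fun g => Groth.Agent.Helper6.DCHom.hom_eq_zero_of_bijective f K hK Y.obj hY g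
  let adj := DRing.derivedCompletionAdj I
  have h1 : (𝟙 Y : Y ⟶ Y) = ObjectProperty.homMk (0 : Y.obj ⟶ Y.obj) := by
    apply (adj.homEquiv (DRing.toD K) Y).injective
    rw [key (adj.homEquiv (DRing.toD K) Y (𝟙 Y)), key (adj.homEquiv (DRing.toD K) Y _)]
  rw [Limits.IsZero.iff_id_eq_zero]
  have h2 : (𝟙 Y : Y ⟶ Y).hom = (0 : Y.obj ⟶ Y.obj) := by
    rw [h1]
    rfl
  exact h2

end Groth.Agent.S7058
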