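import Groth.Statements.S7065
import Mathlib

set_option autoImplicit false
universe u
open EtGlue

namespace Groth.Agent.S7065

/-- Let R → R' be a homomorphism of commutative rings and f an element of R such that the induced map
R/fR → R'/fR' is bijective. Then Spec(R') ⊔ Spec(R_f) → Spec(R) is surjective: every prime of R is
the contraction of a prime of R' or of a prime of R_f. -/
theorem result {R R' : Type u} [CommRing R] [CommRing R']
    [Algebra R R'] (f : R)
    (hq : Function.Bijective
      (Ideal.quotientMap (Ideal.map (algebraMap R R') (Ideal.span {f})) (algebraMap R R') Ideal.le_comap_map))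
    (p : PrimeSpectrum R) :
    (∃ q : PrimeSpectrum R', PrimeSpectrum.comap (algebraMap R R') q = p) ∨
      ∃ q : PrimeSpectrum (Localization.Away f), PrimeSpectrum.comap (algebraMap R (Localization.Away f)) q = p := by
  by_cases hf : f ∈ p.asIdeal
  · left
    let I : Ideal R := Ideal.span {f}
    let J : Ideal R' := Ideal.map (algebraMap R R') I
    let φ : R ⧸ I →+* R' ⧸ J := Ideal.quotientMap J (algebraMap R R') Ideal.le_comap_map
    let e : (R ⧸ I) ≃+* (R' ⧸ J) := RingEquiv.ofBijective φ hq
    have hpI : p ∈ PrimeSpectrum.zeroLocus (I : Set R) := by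
      intro x hx
      obtain ⟨a, rfl⟩ := Ideal.mem_span_singleton'.mp hx
      exact Ideal.mul_mem_left _ _ hf
    have hrange : p ∈ Set.range (PrimeSpectrum.comap (Ideal.Quotient.mk I)) := by
      rw [range_comap_of_surjective _ _ Ideal.Quotient.mk_surjective, Ideal.mk_ker]
      exact hpI
    obtain ⟨p₁, hp₁⟩ := hrange
    let p₂ : PrimeSpectrum (R' ⧸ J) := PrimeSpectrum.comap (e.symm : (R' ⧸ J) →+* (R ⧸ I)) p₁
    refine ⟨PrimeSpectrum.comap (Ideal.Quotient.mk J) p₂, ?_⟩
    rw [← hp₁]
    ext x
    simp only [PrimeSpectrum.comap_asIdeal, Ideal.mem_comap, p₂]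
    have : (e.symm : (R' ⧸ J) →+* (R ⧸ I)) (Ideal.Quotient.mk J (algebraMap R R' x)) =
        Ideal.Quotient.mk I x := by
      have h1 : Ideal.Quotient.mk J (algebraMap R R' x) = e (Ideal.Quotient.mk I x) := by
        simp [e, φ]
      rw [h1]
      simp
    rw [this]
  · right
    have : p ∈ Set.range (PrimeSpectrum.comap (algebraMap R (Localization.Away f))) := by
      rw [PrimeSpectrum.localization_comap_range (Localization.Away f) (Submonoid.powers f)]
      rw [Set.mem_ofPred_eq, Set.disjoint_left]
      rintro x ⟨n, rfl⟩ hx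
      exact hf (p.2.mem_of_pow_mem n hx)
    exact this

end Groth.Agent.S7065
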