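import Groth.Statements.S7068
import Mathlib
import Groth.Agent.Helper9.FlatPC3
import Groth.Agent.Helper3.TorDimA
-- import your own Groth.Agent.* helpers here

set_option autoImplicit false
universe u
attribute [local instance] HasDerivedCategory.standard
open MoreMor

namespace Groth.Agent.S7068

/-- If A → B is a flat homomorphism of commutative rings of finite presentation, then A → B is a perfect
ring map: pseudo-coherent, with B of finite tor dimension as an A-module. -/
theorem result (A B : Type u) [CommRing A] [CommRing B] [Algebra A B]
    [Module.Flat A B] [Algebra.FinitePresentation A B] : MoreMor.IsPerfectHom A B := by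
  exact ⟨Groth.Agent.Helper9.FlatPC3.pcHom_of_flat_fp A B,
    Groth.Agent.Helper3.TorDim.hasFiniteTorDim_of_flat B⟩

end Groth.Agent.S7068
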