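import Groth.Statements.S7073
import Mathlib
import Groth.Agent.Helper3.DRingRestr2

set_option autoImplicit false
universe u
open scoped TensorProduct
attribute [local instance] HasDerivedCategory.standard
open Dual2

namespace Groth.Agent.S7073

/-- For a flat homomorphism of finite presentation R → A of commutative rings, every perfect object of
D(A) is R-perfect, i.e. pseudo-coherent over A and of finite tor dimension as a complex of
R-modules. -/
theorem result (R A : Type u) [CommRing R] [CommRing A] [Algebra R A]
    [Module.Flat R A] [Algebra.FinitePresentation R A] (K : Dual.D A) (hK : DRing.IsPerfect A K) :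
    Dual2.IsRelPerfect R A K := by
  obtain ⟨E, a, b, hv, hfp, ⟨e⟩⟩ := hK
  constructor
  · rw [Groth.Agent.Helper3.DRingLib.isPseudoCoherent'_iff_forall]
    intro m
    exact Groth.Agent.Helper3.DRingLib.isPseudoCoherent_of_iso e
      (Groth.Agent.Helper3.DRingLib.isPseudoCoherent_of_termwiseFiniteProjective E b
        (fun i hi => hv i (Or.inr hi)) hfp m)
  · refine ⟨a, b, (Groth.Agent.Helper3.DRingLib.rCx (algebraMap R A)).obj E, ?_, ?_, ⟨?_⟩⟩
    · intro i hi
      exact CategoryTheory.Functor.map_isZero (Groth.Agent.Helper3.DRingLib.rF (algebraMap R A)) (hv i hi)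
    · intro i
      have hp : Module.Projective A (E.X i) := (hfp i).2
      letI : Module R (E.X i) := Module.compHom (E.X i) (algebraMap R A)
      haveI : IsScalarTower R A (E.X i) := IsScalarTower.of_algebraMap_smul (fun r x => rfl)
      exact Module.Flat.trans R A (E.X i)
    · exact (Groth.Agent.Helper3.DRingLib.rDToD (algebraMap R A) E).symm ≪≫
        (DRing.restrictD (algebraMap R A)).mapIso e

end Groth.Agent.S7073
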