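import Groth.Statements.S7074
import Mathlib
import Groth.Agent.Helper9.RPL2
-- import your own Groth.Agent.* helpers here

set_option autoImplicit false
universe u
attribute [local instance] HasDerivedCategory.standard
open CategoryTheory
open Dual2

namespace Groth.Agent.S7074

/-- For a flat homomorphism of finite presentation R → A of commutative rings and an object K of D(A), K
is R-perfect (pseudo-coherent over A and of finite tor dimension over R) if and only if K is
isomorphic in D(A) to a bounded complex whose terms are finitely presented A-modules that are flat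
as R-modules. -/
theorem result (R A : Type u) [CommRing R] [CommRing A] [Algebra R A]
    [Module.Flat R A] [Algebra.FinitePresentation R A] (K : Dual.D A) :
    Dual2.IsRelPerfect R A K ↔
      ∃ (E : DRing.Cx A) (a b : ℤ), DRing.VanishesOutside E a b ∧
        (∀ i : ℤ, Module.FinitePresentation A (E.X i) ∧
          Module.Flat R ((ModuleCat.restrictScalars (algebraMap R A)).obj (E.X i))) ∧
        Nonempty (DRing.toD E ≅ K) := by
  constructor
  · intro h
    obtain ⟨T, a, b, hTv, hTfp, hTfl, hiso⟩ := Groth.Agent.Helper9.RPL2.exists_fp_flat_rep R A K h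
    exact ⟨T, a, b, hTv, fun i => ⟨hTfp i, hTfl i⟩, hiso⟩
  · rintro ⟨E, a, b, hEv, hE, ⟨e⟩⟩
    refine ⟨Groth.Agent.Helper3.DRingLib.isPseudoCoherent'_of_iso e
      (Groth.Agent.Helper9.RPL2.pc_of_bounded_fp_flat R A E a b hEv (fun i => (hE i).1)
        (fun i => (hE i).2)), a, b, ?_⟩
    refine ⟨(Groth.Agent.Helper3.DRingLib.rCx (algebraMap R A)).obj E,
      fun i hi => Functor.map_isZero (ModuleCat.restrictScalars.{u} (algebraMap R A)) (hEv i hi),
      fun i => (hE i).2, ⟨?_⟩⟩
    exact (Groth.Agent.Helper3.DRingLib.rDToD (algebraMap R A) E).symm ≪≫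
      (DRing.restrictD (algebraMap R A)).mapIso e

end Groth.Agent.S7074
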