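import Groth.Statements.S7077
import Mathlib
import Groth.Agent.Helper3.DRingTwoTerm
import Groth.Agent.Helper3.DRingDev

set_option autoImplicit false
universe u
open scoped TensorProduct
attribute [local instance] HasDerivedCategory.standard
open CategoryTheory
open DRing

namespace Groth.Agent.S7077

/-- (1)⇔(2): let R be a commutative ring and K an object of D(R) whose cohomology modules vanish outside
degrees -1 and 0. Then H^{-1}(K) vanishes and H^0(K) is a projective R-module if and only if
Ext^1_R(K, M) = Hom_{D(R)}(K, M[1]) vanishes for every R-module M. -/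
theorem result {R : Type u} [CommRing R] (K : Dual.D R)
    (hK : ∀ i : ℤ, i ≠ -1 → i ≠ 0 → Subsingleton (Dual.HD R K i)) :
    (Subsingleton (Dual.HD R K (-1)) ∧ Module.Projective R (Dual.HD R K 0)) ↔
      ∀ (M : Type u) [AddCommGroup M] [Module R M], Subsingleton (K ⟶ (Dual.inD R M)⟦(1 : ℤ)⟧) := by
  constructor
  · rintro ⟨h1, h2⟩ M _ _
    haveI : K.IsGE 0 := Groth.Agent.Helper3.DRingLib.isGE_of_HD K 0 (fun i hi => by
      by_cases h : i = -1
      · subst h; exact h1
      · exact hK i h (by omega))
    haveI : K.IsLE 0 := Groth.Agent.Helper3.DRingLib.isLE_of_HD K 0 (fun i hi =>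
      hK i (by omega) (by omega))
    obtain ⟨e₀⟩ := Groth.Agent.Helper3.DRingLib.exists_iso_single_HD K 0
    let e : K ≅ Dual.inD R (Dual.HD R K 0) :=
      e₀ ≪≫ (shiftFunctorZero' (Dual.D R) (-0 : ℤ) (by norm_num)).app _
    have key : ∀ z : K ⟶ (Dual.inD R M)⟦(1 : ℤ)⟧, z = 0 := by
      intro z
      rw [← cancel_epi e.inv]
      rw [Groth.Agent.Helper3.DRingLib.hom_single_projective_eq_zero
        (ModuleCat.of R (Dual.HD R K 0)) (ModuleCat.of R M) 1 (by norm_num) (e.inv ≫ z),
        Limits.comp_zero]
    constructor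
    intro x y
    rw [key x, key y]
  · intro hext
    obtain ⟨P, hv, hproj, ⟨e⟩⟩ := Groth.Agent.Helper3.DRingLib.exists_projective_rep_of_ext K (-1) 0 0
      rfl (fun k hk => hK k (by omega) (by omega)) (fun k hk => hK k (by omega) (by omega))
      (fun N _ _ => by
        have h := hext N
        have h4 : (1 : ℤ) = -(-1) := by norm_num
        rw [h4] at h
        exact h)
    constructor
    · exact Groth.Agent.Helper3.DRingLib.subsingleton_HD_of_iso e (-1)
        (Groth.Agent.Helper3.DRingLib.subsingleton_HD_toD_of_exactAt P (-1)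
          (Groth.Agent.Helper3.DRingLib.exactAt_of_isZero_X P (-1) (hv (-1) (Or.inl (by norm_num)))))
    · obtain ⟨eP⟩ := Groth.Agent.Helper3.DRingLib.exists_iso_single_of_vanishesOutside P 0 hv
      let e' : (DerivedCategory.singleFunctor (ModuleCat.{u} R) 0).obj (P.X 0) ≅ K :=
        (DerivedCategory.singleFunctorIsoCompQ (ModuleCat.{u} R) 0).app (P.X 0) ≪≫
          DerivedCategory.Q.mapIso eP ≪≫ e
      let eH : (DerivedCategory.homologyFunctor (ModuleCat.{u} R) 0).obj K ≅ P.X 0 :=
        (DerivedCategory.homologyFunctor (ModuleCat.{u} R) 0).mapIso e'.symm ≪≫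
          Groth.Agent.Helper3.DRingLib.HDinDIso (P.X 0)
      have := hproj 0
      exact Module.Projective.of_equiv eH.toLinearEquiv.symm

end Groth.Agent.S7077
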