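import Groth.Statements.S7079
import Mathlib
import Groth.Agent.Helper3.DRingTwoTerm2

set_option autoImplicit false
universe u
open scoped TensorProduct
attribute [local instance] HasDerivedCategory.standard
open CategoryTheory
open DRing

namespace Groth.Agent.S7079

/-- For a Noetherian commutative ring R and an object K of D(R) whose cohomology modules vanish outside
degrees -1 and 0 and are finite modules in those two degrees, K is represented by a two-term complex
K^{-1} → K^0 with K^0 finite free and K^{-1} finite. -/
theorem result {R : Type u} [CommRing R] [IsNoetherianRing R] (K : Dual.D R)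
    (hK : ∀ i : ℤ, i ≠ -1 → i ≠ 0 → Subsingleton (Dual.HD R K i))
    (h1 : Module.Finite R (Dual.HD R K (-1))) (h0 : Module.Finite R (Dual.HD R K 0)) :
    ∃ E : DRing.Cx R, DRing.VanishesOutside E (-1) 0 ∧ Module.Free R (E.X 0) ∧ Module.Finite R (E.X 0) ∧
      Module.Finite R (E.X (-1)) ∧ Nonempty (DRing.toD E ≅ K) := by
  obtain ⟨n, f, hf⟩ := Module.Finite.exists_fin' R (Dual.HD R K 0)
  obtain ⟨E, e1, e2, e3, e4, e5⟩ := Groth.Agent.Helper3.DRingLib.exists_twoTerm_cx K hK
    (Fin n → R) f hf
  exact ⟨E, e1, e2, e3 inferInstance, e4 h1 inferInstance, e5⟩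

end Groth.Agent.S7079
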