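import Groth.Statements.S7081
import Groth.Agent.Helper1.DerTrunc

set_option autoImplicit false
universe u
attribute [local instance] HasDerivedCategory.standard
open CategoryTheory
open DRing

namespace Groth.Agent.S7081

open DerivedCategory Groth.Agent.Helper1.DerTrunc in
lemma amp {R : Type u} [CommRing R] (K : Dual.D R)
    (h : ∀ i : ℤ, i ≠ -1 → i ≠ 0 → Subsingleton (Dual.HD R K i)) :
    K.IsGE (-1) ∧ K.IsLE 0 := by
  constructor
  · rw [isGE_iff]
    intro i hi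
    rw [ModuleCat.isZero_iff_subsingleton]
    exact h i (by omega) (by omega)
  · rw [isLE_iff]
    intro i hi
    rw [ModuleCat.isZero_iff_subsingleton]
    exact h i (by omega) (by omega)

/-- Let R be a commutative ring and φ : K₁ → K₂, ψ : K₂ → K₃ morphisms in D(R) between objects whose
cohomology vanishes outside degrees -1 and 0. If φ induces the zero map on H^0 and ψ induces the
zero map on H^{-1}, then the composite K₁ → K₃ is zero. -/
theorem result {R : Type u} [CommRing R] {K₁ K₂ K₃ : Dual.D R}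
    (φ : K₁ ⟶ K₂) (ψ : K₂ ⟶ K₃)
    (h₁ : ∀ i : ℤ, i ≠ -1 → i ≠ 0 → Subsingleton (Dual.HD R K₁ i))
    (h₂ : ∀ i : ℤ, i ≠ -1 → i ≠ 0 → Subsingleton (Dual.HD R K₂ i))
    (h₃ : ∀ i : ℤ, i ≠ -1 → i ≠ 0 → Subsingleton (Dual.HD R K₃ i))
    (hφ : (DerivedCategory.homologyFunctor (ModuleCat.{u} R) 0).map φ = 0)
    (hψ : (DerivedCategory.homologyFunctor (ModuleCat.{u} R) (-1)).map ψ = 0) :
    φ ≫ ψ = 0 := by
  obtain ⟨h1a, h1b⟩ := amp K₁ h₁
  obtain ⟨h2a, h2b⟩ := amp K₂ h₂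
  obtain ⟨h3a, h3b⟩ := amp K₃ h₃
  let tD := Groth.Agent.Helper1.DerTrunc.tD (ModuleCat.{u} R)
  -- step 1: φ factors through τ_{<0} K₂
  have hu : φ ≫ (tD.truncGEπ 0).app K₂ = 0 := by
    apply Groth.Agent.Helper1.DerTrunc.eq_zero_of_isLE_of_single 0
    rw [Functor.map_comp, hφ, Limits.zero_comp]
  obtain ⟨φ', hφ'⟩ : ∃ φ' : K₁ ⟶ (tD.truncLT 0).obj K₂, φ = φ' ≫ (tD.truncLTι 0).app K₂ :=
    Pretriangulated.Triangle.coyoneda_exact₂ _ (tD.triangleLTGE_distinguished 0 K₂) φ hu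
  -- step 2
  have : ((tD.truncLT 0).obj K₂).IsLE (-1) := tD.isLE_truncLT_obj K₂ 0 (-1) (by omega)
  have hv : (tD.truncLTι 0).app K₂ ≫ ψ = 0 := by
    apply Groth.Agent.Helper1.DerTrunc.eq_zero_of_single_of_isGE (-1)
    rw [Functor.map_comp, hψ, Limits.comp_zero]
  rw [hφ', Category.assoc, hv, Limits.comp_zero]

end Groth.Agent.S7081
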