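import Groth.Statements.S7082
import Mathlib
import Groth.Agent.Helper3.DRingTwoTerm3

set_option autoImplicit false
universe u
open scoped TensorProduct
attribute [local instance] HasDerivedCategory.standard
open CategoryTheory
open DRing

namespace Groth.Agent.S7082

/-- (1)⇔(3): let R be a commutative ring, I an ideal and K an object of D(R) whose cohomology vanishes
outside degrees -1 and 0. Then I annihilates Ext^1_R(K, N) = Hom_{D(R)}(K, N[1]) for every R-module
N if and only if, for every two-term complex E in degrees -1 and 0 with E^0 projective that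
represents K, and every a in I, multiplication by a on E^{-1} factors through the differential
E^{-1} → E^0. -/
theorem result {R : Type u} [CommRing R] (I : Ideal R) (K : Dual.D R)
    (hK : ∀ i : ℤ, i ≠ -1 → i ≠ 0 → Subsingleton (Dual.HD R K i)) :
    (∀ (N : Type u) [AddCommGroup N] [Module R N] (a : R), a ∈ I →
        ∀ ξ : K ⟶ (Dual.inD R N)⟦(1 : ℤ)⟧, a • ξ = 0) ↔
      ∀ (E : DRing.Cx R), DRing.VanishesOutside E (-1) 0 → Module.Projective R (E.X 0) →
        Nonempty (DRing.toD E ≅ K) → ∀ a : R, a ∈ I →
          ∃ h : E.X 0 ⟶ E.X (-1), E.d (-1) 0 ≫ h = a • 𝟙 (E.X (-1)) := by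
  constructor
  · intro hI E hE hproj ⟨e⟩ a ha
    apply Groth.Agent.Helper3.DRingLib.exists_factor_of_smul_ext_eq_zero E hE a
    intro ξ
    have h := hI (E.X (-1)) a ha (e.inv ≫ ξ)
    rw [← Linear.comp_smul] at h
    rw [← cancel_epi e.inv, h, Limits.comp_zero]
  · intro h3 N _ _ a ha ξ
    obtain ⟨E, hE, hfree, -, -, ⟨e⟩⟩ := Groth.Agent.Helper3.DRingLib.exists_twoTerm_cx K hK
      (Dual.HD R K 0 →₀ R) (Finsupp.linearCombination R id)
      (Finsupp.linearCombination_id_surjective R _)
    have hproj : Module.Projective R (E.X 0) := Module.Projective.of_free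
    obtain ⟨h, hh⟩ := h3 E hE hproj ⟨e⟩ a ha
    have := Groth.Agent.Helper3.DRingLib.smul_ext_eq_zero_of_twoTerm E hE a h hh (ModuleCat.of R N)
      (e.hom ≫ ξ)
    rw [← Linear.comp_smul] at this
    rw [← cancel_epi e.hom, this, Limits.comp_zero]

end Groth.Agent.S7082
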