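import Groth.Statements.S7084
import Groth.Agent.Helper6.RingChangeAmp

set_option autoImplicit false
universe u
attribute [local instance] HasDerivedCategory.standard
open CategoryTheory
open LocCoh

namespace Groth.Agent.S7084

/-- Parts (1)–(2) in the case of a module killed by a power of the ideal: let R be a commutative ring, I
an ideal and K an object of D(R) such that K ⊗^L_R R/I has no cohomology in positive degrees. Then
for every R-module N annihilated by some power of I, K ⊗^L_R N has no cohomology in positive
degrees. (The published statement allows any I-power torsion module N; this row takes N annihilated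
by a single power of I, the case the published argument carries out in full, which contains the case
N = R/I^n.) The derived tensor products with modules are total left derived functors, assumed to
exist. -/
theorem result {R : Type u} [CommRing R] (I : Ideal R)
    [DRing.HasLTensor R (ModuleCat.of R (R ⧸ I))] (K : Dual.D R)
    (hK : ∀ i : ℤ, 0 < i → Subsingleton (Dual.HD R ((DRing.LTensor R (ModuleCat.of R (R ⧸ I))).obj K) i))
    (N : Type u) [AddCommGroup N] [Module R N] (n : ℕ) (hN : I ^ n • (⊤ : Submodule R N) = ⊥)
    [DRing.HasLTensor R (ModuleCat.of R N)] (i : ℤ) (hi : 0 < i) :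
    Subsingleton (Dual.HD R ((DRing.LTensor R (ModuleCat.of R N)).obj K) i) := by
  classical
  obtain ⟨P, f, hP, hkf, hproj, hq, -⟩ :=
    Groth.Agent.Helper6.KProjRes.exists_resolution (DerivedCategory.Q.objPreimage K)
  haveI := hP
  have hiso : IsIso (DerivedCategory.Q.map f) :=
    (DerivedCategory.isIso_Q_map_iff_quasiIso _ _).mpr hq
  let e : DRing.toD P ≅ K := asIso (DerivedCategory.Q.map f) ≪≫ DerivedCategory.Q.objObjPreimageIso K
  rw [Groth.Agent.Helper6.LTenModCompute.subsingleton_HD_iff (ModuleCat.of R N) P e i]
  have hφ : Function.Surjective (Ideal.Quotient.mk I) := Ideal.Quotient.mk_surjective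
  have fP : DRing.TermwiseFlat P := fun j => by
    haveI := hproj j
    infer_instance
  refine Groth.Agent.Helper6.KilledMod.exactAt_tensorCx_of_pow (Ideal.Quotient.mk I) hφ P fP i ?_ n
    (ModuleCat.of R N) (by rw [Ideal.mk_ker]; exact hN)
  intro Nb
  apply Groth.Agent.Helper6.RingChangeTen.exactAt_tensorCx_res (Ideal.Quotient.mk I) Nb P i
  haveI : ((Groth.Agent.Helper6.LBCCompute.bcCxF (Ideal.Quotient.mk I)).obj P).IsKProjective :=
    Groth.Agent.Helper6.LBaseCmp.isKProjective_ext (Ideal.Quotient.mk I) P
  apply Groth.Agent.Helper6.RingChangeAmp.exactAt_tensorCx_of_exactAt_above _ 0 ?_ Nb i hi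
  intro j hj
  apply Groth.Agent.Helper3.DRingLib.exactAt_of_exactAt_tensorCx_unit
  apply Groth.Agent.Helper6.RingChangeTen.exactAt_tensorCx_ext (Ideal.Quotient.mk I)
    (ModuleCat.of (R ⧸ I) (R ⧸ I)) P j
  apply Groth.Agent.Helper6.RingChangeTen.exactAt_tensorCx_of_iso P
    (Groth.Agent.Helper6.RingChangeTen.quotIso I) j
  rw [← Groth.Agent.Helper6.LTenModCompute.subsingleton_HD_iff (ModuleCat.of R (R ⧸ I)) P e j]
  exact hK j hj

end Groth.Agent.S7084
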