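import Groth.Statements.S7085
import Mathlib

set_option autoImplicit false
universe u
open scoped TensorProduct
open LocCoh

namespace Groth.Agent.S7085

/-- Let R be a commutative ring, I an ideal generated by finitely many elements f_1, …, f_t, and M an
R-module. Then: M has no nonzero element killed by I if and only if it has no nonzero element killed
by I^n for every n ≥ 1; and M has no nonzero element killed by I if and only if an element of M
vanishing in every localization M_{f_i} is zero. -/
theorem result {R : Type u} [CommRing R] {t : ℕ} (f : Fin t → R)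
    (I : Ideal R) (hI : Ideal.span (Set.range f) = I) (M : Type u) [AddCommGroup M] [Module R M] :
    (LocCoh.torsionBy I M = ⊥ ↔ ∀ n : ℕ, 1 ≤ n → LocCoh.torsionBy (I ^ n) M = ⊥) ∧
    (LocCoh.torsionBy I M = ⊥ ↔
      ∀ m : M, (∀ i : Fin t, LocalizedModule.mkLinearMap (Submonoid.powers (f i)) M m = 0) → m = 0) := by
  have part1 : LocCoh.torsionBy I M = ⊥ → ∀ n : ℕ, 1 ≤ n → LocCoh.torsionBy (I ^ n) M = ⊥ := by
    intro h n hn
    induction n, hn using Nat.le_induction with
    | base => rwa [pow_one]
    | succ n hn ih =>
      rw [eq_bot_iff]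
      intro m hm
      rw [Submodule.mem_torsionBySet_iff] at hm
      have h1 : m ∈ LocCoh.torsionBy (I ^ n) M := by
        rw [Submodule.mem_torsionBySet_iff]
        rintro ⟨a, ha⟩
        have h2 : a • m ∈ LocCoh.torsionBy I M := by
          rw [Submodule.mem_torsionBySet_iff]
          rintro ⟨b, hb⟩
          have := hm ⟨b * a, by rw [pow_succ']; exact Ideal.mul_mem_mul hb ha⟩
          simpa [mul_smul] using this
        rw [h] at h2
        exact (Submodule.mem_bot R).mp h2
      rw [ih] at h1
      exact h1
  refine ⟨⟨part1, fun h => by simpa using h 1 le_rfl⟩, ?_, ?_⟩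
  · intro h m hm
    have hfg : I.FG := by
      rw [← hI]
      exact Submodule.fg_span (Set.finite_range f)
    have hle : I ≤ (Submodule.span R {m}).annihilator.radical := by
      rw [← hI, Ideal.span_le]
      rintro _ ⟨i, rfl⟩
      obtain ⟨⟨_, k, rfl⟩, hc⟩ :=
        (IsLocalizedModule.eq_zero_iff (Submonoid.powers (f i))
          (LocalizedModule.mkLinearMap (Submonoid.powers (f i)) M)).mp (hm i)
      refine ⟨k, ?_⟩
      rw [Submodule.mem_annihilator_span_singleton]
      exact hc
    obtain ⟨k, hk⟩ := Ideal.exists_pow_le_of_le_radical_of_fg hle hfg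
    by_cases hk0 : k = 0
    · subst hk0
      have h1 : (1 : R) ∈ (Submodule.span R {m}).annihilator := hk (by simp)
      rw [Submodule.mem_annihilator_span_singleton, one_smul] at h1
      exact h1
    · have h1 : m ∈ LocCoh.torsionBy (I ^ k) M := by
        rw [Submodule.mem_torsionBySet_iff]
        rintro ⟨a, ha⟩
        have := hk ha
        rw [Submodule.mem_annihilator_span_singleton] at this
        exact this
      rw [part1 h k (Nat.one_le_iff_ne_zero.mpr hk0)] at h1
      exact (Submodule.mem_bot R).mp h1
  · intro h
    rw [eq_bot_iff]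
    intro m hm
    rw [Submodule.mem_torsionBySet_iff] at hm
    refine (Submodule.mem_bot R).mpr (h m (fun i => ?_))
    rw [IsLocalizedModule.eq_zero_iff (Submonoid.powers (f i))]
    refine ⟨⟨f i, Submonoid.mem_powers _⟩, ?_⟩
    exact hm ⟨f i, by rw [← hI]; exact Ideal.subset_span ⟨i, rfl⟩⟩

end Groth.Agent.S7085
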