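import Groth.Statements.S7090
import Groth.Agent.Helper6.FormalGlue

set_option autoImplicit false
universe u
open TensorProduct
open EtAlg

namespace Groth.Agent.S7090

/-- Let R → S be a flat homomorphism of commutative rings and I = (f_1, …, f_t) a finitely generated
ideal such that R/I → S/IS is bijective. Then for every R-module M the glueing complex 0 → M → (S
⊗_R M) × ∏ M_{f_i} → ∏ (S ⊗_R M)_{f_i} × ∏ M_{f_i f_j} is exact. Concretely: an element of M with
zero image in S ⊗_R M and in every M_{f_i} is zero; and given x in S ⊗_R M and elements m_1, …, m_t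
of M and N ≥ 0 such that x and m_i / f_i^N have the same image in (S ⊗_R M)_{f_i} for each i, and
m_i / f_i^N, m_j / f_j^N have the same image in M_{f_i f_j} for all i, j, there is m in M with 1 ⊗ m
= x and m / 1 = m_i / f_i^N in M_{f_i} for every i. -/
theorem result {R S : Type u} [CommRing R] [CommRing S] [Algebra R S] [Module.Flat R S]
    {t : ℕ} (f : Fin t → R) (I : Ideal R) (hI : Ideal.span (Set.range f) = I)
    (hq : Function.Bijective
      (Ideal.quotientMap (Ideal.map (algebraMap R S) I) (algebraMap R S) Ideal.le_comap_map))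
    (M : Type u) [AddCommGroup M] [Module R M] :
    (∀ m : M, (1 : S) ⊗ₜ[R] m = 0 →
        (∀ i : Fin t, LocalizedModule.mkLinearMap (Submonoid.powers (f i)) M m = 0) → m = 0) ∧
    ∀ (x : S ⊗[R] M) (N : ℕ) (m : Fin t → M),
      (∀ i : Fin t, EtGlue.locOfTensor R S (f i) M x =
          EtGlue.tensorOfLoc R S (f i) M (LocalizedModule.mk (m i) ⟨f i ^ N, Submonoid.pow_mem _ (Submonoid.mem_powers (f i)) N⟩)) →
      (∀ i j : Fin t, ∃ e : ℕ, (f i * f j) ^ e • (f j ^ N • m i - f i ^ N • m j) = 0) →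
        ∃ μ : M, (1 : S) ⊗ₜ[R] μ = x ∧
          ∀ i : Fin t, LocalizedModule.mkLinearMap (Submonoid.powers (f i)) M μ =
            LocalizedModule.mk (m i) ⟨f i ^ N, Submonoid.pow_mem _ (Submonoid.mem_powers (f i)) N⟩ := by
  have hs : Function.Surjective
      ((Ideal.Quotient.mk (I.map (algebraMap R S))).comp (algebraMap R S)) := by
    intro y
    obtain ⟨q, rfl⟩ := hq.2 y
    obtain ⟨r, rfl⟩ := Ideal.Quotient.mk_surjective q
    exact ⟨r, (Ideal.quotientMap_mk).symm⟩
  have hk : RingHom.ker ((Ideal.Quotient.mk (I.map (algebraMap R S))).comp (algebraMap R S)) = I := by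
    ext r
    rw [RingHom.mem_ker, RingHom.comp_apply]
    constructor
    · intro h
      have h1 : Ideal.quotientMap (Ideal.map (algebraMap R S) I) (algebraMap R S) Ideal.le_comap_map
          (Ideal.Quotient.mk I r) = 0 := by
        rw [Ideal.quotientMap_mk]
        exact h
      have h2 := hq.1 (h1.trans (map_zero _).symm)
      exact Ideal.Quotient.eq_zero_iff_mem.mp h2
    · intro h
      exact Ideal.Quotient.eq_zero_iff_mem.mpr (Ideal.mem_map_of_mem _ h)
  have hfs : Ideal.span {a | a ∈ List.ofFn f} = I := by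
    rw [← hI]
    congr 1
    ext a
    simp [List.mem_ofFn]
  have hpow : ∀ (i : Fin t) (s : Submonoid.powers (f i)), ∃ n : ℕ, (s : R) = f i ^ n := by
    rintro i ⟨s, n, rfl⟩
    exact ⟨n, rfl⟩
  constructor
  · intro m h0 hm
    refine Groth.Agent.Helper6.FormalGlue.eq_zero_of_tmul_eq_zero I hs hk (List.ofFn f) hfs m h0 ?_
    intro g hg
    rw [List.mem_ofFn] at hg
    obtain ⟨i, rfl⟩ := hg
    obtain ⟨s, hs'⟩ := (IsLocalizedModule.eq_zero_iff (Submonoid.powers (f i))
      (LocalizedModule.mkLinearMap (Submonoid.powers (f i)) M)).mp (hm i)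
    obtain ⟨n, hn⟩ := hpow i s
    refine ⟨n, ?_⟩
    rw [← hn]
    exact hs'
  · intro x N m ha hb
    have ha' : ∀ i : Fin t, ∃ e : ℕ, f i ^ e • f i ^ N • x = f i ^ e • ((1 : S) ⊗ₜ[R] m i) := by
      intro i
      have key : ∀ (s : Submonoid.powers (f i)),
          EtGlue.tensorOfLoc R S (f i) M (LocalizedModule.mk (m i) s) =
            LocalizedModule.mk ((1 : S) ⊗ₜ[R] m i) s := by
        intro s
        rw [IsLocalizedModule.mk_eq_mk' s (m i), IsLocalizedModule.mk_eq_mk' s ((1 : S) ⊗ₜ[R] m i)]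
        exact IsLocalizedModule.map_mk' _ _ _ _ _ _
      have h1 := ha i
      rw [key, LocalizedModule.mkLinearMap_apply, LocalizedModule.mk_eq] at h1
      obtain ⟨s, hs'⟩ := h1
      obtain ⟨e, he⟩ := hpow i s
      refine ⟨e, ?_⟩
      have h2 : (s : R) • f i ^ N • x = (s : R) • (1 : R) • ((1 : S) ⊗ₜ[R] m i) := hs'
      rw [he, one_smul] at h2
      exact h2
    obtain ⟨μ, hμ1, hμ2⟩ := Groth.Agent.Helper6.FormalGlue.glue_fin I hs hk (List.ofFn f) hfs f rfl
      x N m ha' hb
    refine ⟨μ, hμ1, fun i => ?_⟩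
    obtain ⟨e, he⟩ := hμ2 i
    rw [LocalizedModule.mkLinearMap_apply, LocalizedModule.mk_eq]
    refine ⟨⟨f i ^ e, Submonoid.pow_mem _ (Submonoid.mem_powers (f i)) e⟩, ?_⟩
    show f i ^ e • f i ^ N • μ = f i ^ e • (1 : R) • m i
    rw [one_smul]
    exact he

end Groth.Agent.S7090
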