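import Groth.Statements.S7091
import Groth.Agent.Helper6.DComplLES
import Groth.Agent.Helper6.DerNak

set_option autoImplicit false
universe u
attribute [local instance] HasDerivedCategory.standard
open CategoryTheory
open DRing

namespace Groth.Agent.S7091

/-- Let A be a commutative ring, I a finitely generated ideal, and assume the derived completion functor
(left adjoint to the inclusion of derived complete objects) exists. If a morphism K → L in D(A)
induces isomorphisms on cohomology in degrees ≥ 1 and a surjection in degree 0, then so does the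
induced morphism between the derived completions. -/
theorem result {A : Type u} [CommRing A] (I : Ideal A) (hI : I.FG)
    [DRing.HasDerivedCompletion I] {K L : Dual.D A} (φ : K ⟶ L)
    (hiso : ∀ i : ℤ, 1 ≤ i → IsIso ((DerivedCategory.homologyFunctor (ModuleCat.{u} A) i).map φ))
    (hepi : Epi ((DerivedCategory.homologyFunctor (ModuleCat.{u} A) 0).map φ)) :
    (∀ i : ℤ, 1 ≤ i → IsIso ((DerivedCategory.homologyFunctor (ModuleCat.{u} A) i).map
        ((DRing.derivedCompletion I).map φ).hom)) ∧
      Epi ((DerivedCategory.homologyFunctor (ModuleCat.{u} A) 0).map ((DRing.derivedCompletion I).map φ).hom) := by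
  classical
  obtain ⟨fs, hfs⟩ := Groth.Agent.Helper6.DerNak.exists_list_of_fg I hI
  obtain ⟨M, hM, hepi', hmono'⟩ := Groth.Agent.Helper6.DComplLES.exists_triangle_completion I φ
  have hMz : ∀ i : ℤ, 0 ≤ i → Groth.Agent.Helper6.DComplAmp.HZ M i := by
    intro i hi
    apply hM i (i + 1) rfl
    · rcases eq_or_lt_of_le hi with rfl | h
      · exact hepi
      · haveI := hiso i (by omega)
        infer_instance
    · haveI := hiso (i + 1) (by omega)
      infer_instance
  have hMc : ∀ i : ℤ, 0 ≤ i →
      Groth.Agent.Helper6.DComplAmp.HZ ((DRing.derivedCompletion I).obj M).obj i := fun i hi =>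
    Groth.Agent.Helper6.DComplLES.hz_derivedCompletion I fs hfs.symm M i
      (fun j hj _ => hMz j (by omega))
  refine ⟨fun i hi => ?_, hepi' 0 (hMc 0 le_rfl)⟩
  haveI := hepi' i (hMc i (by omega))
  haveI := hmono' (i - 1) i (by omega) (hMc (i - 1) (by omega))
  exact isIso_of_mono_of_epi _

end Groth.Agent.S7091
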