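import Groth.Statements.S7092
import Groth.Agent.Helper6.DComplLES

set_option autoImplicit false
universe u
attribute [local instance] HasDerivedCategory.standard
open CategoryTheory
open DRing

namespace Groth.Agent.S7092

/-- Let A be a commutative ring, I an ideal generated by a finite set of r elements, and assume the
derived completion functor exists. If a morphism K → L in D(A) induces isomorphisms on cohomology in
degrees ≤ -1 and an injection in degree 0, then the induced morphism of derived completions induces
isomorphisms on cohomology in degrees ≤ -r-1 and an injection in degree -r. -/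
theorem result {A : Type u} [CommRing A] (I : Ideal A) (s : Finset A)
    (hs : Ideal.span (s : Set A) = I) [DRing.HasDerivedCompletion I] {K L : Dual.D A} (φ : K ⟶ L)
    (hiso : ∀ i : ℤ, i ≤ -1 → IsIso ((DerivedCategory.homologyFunctor (ModuleCat.{u} A) i).map φ))
    (hmono : Mono ((DerivedCategory.homologyFunctor (ModuleCat.{u} A) 0).map φ)) :
    (∀ i : ℤ, i ≤ -(s.card : ℤ) - 1 → IsIso ((DerivedCategory.homologyFunctor (ModuleCat.{u} A) i).map
        ((DRing.derivedCompletion I).map φ).hom)) ∧
      Mono ((DerivedCategory.homologyFunctor (ModuleCat.{u} A) (-(s.card : ℤ))).map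
        ((DRing.derivedCompletion I).map φ).hom) := by
  classical
  have hspan : Ideal.span {a | a ∈ s.toList} = I := by
    rw [← hs]
    congr 1
    ext x
    simp
  obtain ⟨M, hM, hepi', hmono'⟩ := Groth.Agent.Helper6.DComplLES.exists_triangle_completion I φ
  have hMz : ∀ i : ℤ, i ≤ -1 → Groth.Agent.Helper6.DComplAmp.HZ M i := by
    intro i hi
    apply hM i (i + 1) rfl
    · haveI := hiso i hi
      infer_instance
    · rcases eq_or_lt_of_le hi with rfl | h
      · exact hmono
      · haveI := hiso (i + 1) (by omega)
        infer_instance
  have hMc : ∀ i : ℤ, i + (s.card : ℤ) ≤ -1 →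
      Groth.Agent.Helper6.DComplAmp.HZ ((DRing.derivedCompletion I).obj M).obj i := fun i hi =>
    Groth.Agent.Helper6.DComplLES.hz_derivedCompletion I s.toList hspan M i
      (fun j _ hj => hMz j (by rw [Finset.length_toList] at hj; omega))
  refine ⟨fun i hi => ?_, hmono' (-(s.card : ℤ) - 1) _ (by omega) (hMc _ (by omega))⟩
  haveI := hepi' i (hMc i (by omega))
  haveI := hmono' (i - 1) i (by omega) (hMc (i - 1) (by omega))
  exact isIso_of_mono_of_epi _

end Groth.Agent.S7092
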