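import Groth.Statements.S7106
import Groth.Agent.Helper6.TopProj2

set_option autoImplicit false
universe u
attribute [local instance] HasDerivedCategory.standard
open CategoryTheory
open DRing Groth.Agent.Helper6.TopProj CategoryTheory.Limits

namespace Groth.Agent.S7106

/-- Let R be a commutative ring, M a cochain complex of R-modules with M^i = 0 for i > 0 and M^0
projective, K a cochain complex with K^i = 0 for i outside [-1, 0] and K^0 projective, and a : M → K
a chain map. Then precomposition with a is the zero map Ext^1_R(K, N) → Ext^1_R(M, N) (morphisms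
into N[1] in D(R)) for every R-module N if and only if there is a map h : M^0 → K^{-1} with a^{-1} +
h ∘ d_M^{-1} = 0. (The published statement composes h^0 with the differential K^{-1} → K^0 of K,
which is not defined; this row composes it with the differential M^{-1} → M^0 of M, as the homotopy
in the published proof does.) -/
theorem result {R : Type u} [CommRing R] (M K : DRing.Cx R)
    (hM : ∀ i : ℤ, 0 < i → Limits.IsZero (M.X i)) (hM0 : Module.Projective R (M.X 0))
    (hK : ∀ i : ℤ, i ≠ -1 → i ≠ 0 → Limits.IsZero (K.X i)) (hK0 : Module.Projective R (K.X 0))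
    (a : M ⟶ K) :
    (∀ (N : Type u) [AddCommGroup N] [Module R N] (ξ : DRing.toD K ⟶ (Dual.inD R N)⟦(1 : ℤ)⟧),
        DerivedCategory.Q.map a ≫ ξ = 0) ↔
      ∃ h : M.X 0 ⟶ K.X (-1), a.f (-1) + M.d (-1) 0 ≫ h = 0 := by
  constructor
  · intro H
    have hK2 : IsZero (K.X (-2)) := hK (-2) (by omega) (by omega)
    let p : K ⟶ sgl (K.X (-1)) := HomologicalComplex.mkHomToSingle (𝟙 _) (by
      intro i hi
      have hi' : i + 1 = -1 := hi
      have : i = -2 := by omega
      subst this
      exact hK2.eq_of_src _ _)
    have h1 := H (K.X (-1)) (DerivedCategory.Q.map p ≫ (θ (K.X (-1))).inv)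
    have h2 : DerivedCategory.Q.map (a ≫ p) = 0 := by
      rw [Functor.map_comp]
      have h3 : (DerivedCategory.Q.map a ≫ DerivedCategory.Q.map p) ≫ (θ (K.X (-1))).inv = 0 := by
        rw [Category.assoc]
        exact h1
      exact (cancel_mono (θ (K.X (-1))).inv).mp (h3.trans zero_comp.symm)
    obtain ⟨Hh⟩ := homotopy_of_Q_map_eq_zero M hM hM0 _ (a ≫ p) h2
    have hc := Hh.comm (-1)
    rw [dNext_eq Hh.hom (show (ComplexShape.up ℤ).Rel (-1) 0 by simp),
      prevD_eq Hh.hom (show (ComplexShape.up ℤ).Rel (-2) (-1) by simp)] at hc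
    have hz : Hh.hom (-1) (-2) = 0 := (sgl_isZero _ (-2) (by omega)).eq_of_tgt _ _
    rw [hz, zero_comp, add_zero, HomologicalComplex.zero_f, add_zero,
      HomologicalComplex.comp_f, HomologicalComplex.mkHomToSingle_f, Category.id_comp] at hc
    refine ⟨-(Hh.hom 0 (-1) ≫
      (HomologicalComplex.singleObjXSelf (ComplexShape.up ℤ) (-1) (K.X (-1))).hom), ?_⟩
    have hc' := congrArg (fun t => t ≫
      (HomologicalComplex.singleObjXSelf (ComplexShape.up ℤ) (-1) (K.X (-1))).hom) hc
    simp only [Category.assoc, Iso.inv_hom_id, Category.comp_id] at hc'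
    rw [hc', Preadditive.comp_neg, add_neg_cancel]
  · rintro ⟨h, hh⟩ N _ _ ξ
    have hKv : ∀ i : ℤ, 0 < i → IsZero (K.X i) := fun i hi => hK i (by omega) (by omega)
    obtain ⟨g, hg⟩ := exists_Q_map_eq K hKv hK0 (ModuleCat.of R N)
      (ξ ≫ (θ (ModuleCat.of R N)).hom)
    have hξ : ξ = DerivedCategory.Q.map g ≫ (θ (ModuleCat.of R N)).inv := by
      rw [hg, Category.assoc, Iso.hom_inv_id, Category.comp_id]
    have h0 : DerivedCategory.Q.map (a ≫ g) = 0 := by
      have ha : a.f (-1) = -(M.d (-1) 0 ≫ h) := eq_neg_of_add_eq_zero_left hh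
      let z : CochainComplex.HomComplex.Cochain M (sgl (ModuleCat.of R N)) (-1) :=
        CochainComplex.HomComplex.Cochain.single (p := 0) (q := -1) (-(h ≫ g.f (-1))) (-1)
      have hom : Homotopy (a ≫ g) 0 := by
        refine (CochainComplex.HomComplex.Cochain.equivHomotopy _ _).symm ⟨z, ?_⟩
        rw [CochainComplex.HomComplex.Cochain.ofHom_zero, add_zero]
        show _ = CochainComplex.HomComplex.δ (-1) 0 (CochainComplex.HomComplex.Cochain.single _ _)
        rw [CochainComplex.HomComplex.Cochain.δ_single _ (-1) 0 (by omega) (-1) 0 (by omega)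
          (by omega)]
        rw [HomologicalComplex.single_obj_d, comp_zero,
          CochainComplex.HomComplex.Cochain.single_zero, zero_add, Int.negOnePow_zero, one_smul]
        refine CochainComplex.HomComplex.Cochain.ext _ _ (fun p q hpq => ?_)
        have hq : p = q := by omega
        subst hq
        by_cases hp : p = -1
        · subst hp
          rw [CochainComplex.HomComplex.Cochain.single_v,
            CochainComplex.HomComplex.Cochain.ofHom_v, HomologicalComplex.comp_f, ha]
          simp
        · exact (sgl_isZero _ p hp).eq_of_tgt _ _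
      rw [DerivedCategory.Q_map_eq_of_homotopy (C := ModuleCat.{u} R) hom, Functor.map_zero]
    rw [hξ, ← Category.assoc, ← Functor.map_comp, h0, zero_comp]

end Groth.Agent.S7106
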