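import Groth.Statements.S7109
import Mathlib

set_option autoImplicit false
universe u
open scoped TensorProduct
open CAlg

namespace Groth.Agent.S7109

/-- Let P be a projective module over a ring R and s an element of P. Then there are a finite free
module R^n and a direct summand K of R^n ⊕ P which is finite free and contains (0, s). -/
theorem result (R : Type u) [CommRing R] (P : Type u) [AddCommGroup P]
    [Module R P] [Module.Projective R P] (s : P) :
    ∃ (n : ℕ) (K K' : Submodule R ((Fin n → R) × P)), IsCompl K K' ∧ Module.Free R K ∧ Module.Finite R K ∧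
      ((0, s) : (Fin n → R) × P) ∈ K := by
  classical
  obtain ⟨ι, hι⟩ := (Module.projective_def'.mp (inferInstance : Module.Projective R P))
  -- ι : P →ₗ (P →₀ R), π ∘ ι = id
  set π : (P →₀ R) →ₗ[R] P := Finsupp.linearCombination R id with hπ
  have hπι : ∀ p, π (ι p) = p := fun p => LinearMap.congr_fun hι p
  set σ : Finset P := (ι s).support with hσ
  let e := σ.equivFin
  let incl : (Fin σ.card → R) →ₗ[R] (P →₀ R) :=
    ∑ i : Fin σ.card, (Finsupp.lsingle ((e.symm i : σ) : P)) ∘ₗ (LinearMap.proj i)
  let ρ : (P →₀ R) →ₗ[R] (Fin σ.card → R) :=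
    LinearMap.pi (fun i => Finsupp.lapply ((e.symm i : σ) : P))
  have hincl : incl (ρ (ι s)) = ι s := by
    ext a
    simp only [incl, ρ, LinearMap.sum_apply, LinearMap.comp_apply, LinearMap.proj_apply,
      LinearMap.pi_apply, Finsupp.lapply_apply, Finsupp.lsingle_apply, Finsupp.finsetSum_apply]
    rw [Fintype.sum_equiv e.symm (fun i => (Finsupp.single ((e.symm i : σ) : P)
      ((ι s) ((e.symm i : σ) : P))) a) (fun p : σ => (Finsupp.single (p : P) ((ι s) (p : P))) a)
      (fun i => rfl)]
    rw [Finset.sum_coe_sort σ (fun p => (Finsupp.single p ((ι s) p)) a)]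
    by_cases ha : a ∈ σ
    · rw [Finset.sum_eq_single a]
      · simp
      · intro b _ hb
        simp [Finsupp.single_apply, hb]
      · intro h
        exact absurd ha h
    · rw [Finset.sum_eq_zero]
      · rw [hσ, Finsupp.mem_support_iff, not_not] at ha
        exact ha.symm
      · intro b hb
        have : b ≠ a := fun h => ha (h ▸ hb)
        simp [Finsupp.single_apply, this]
  let p₀ : (Fin σ.card → R) →ₗ[R] P := π ∘ₗ incl
  let q : (Fin σ.card → R) →ₗ[R] (Fin σ.card → R) := ρ ∘ₗ ι ∘ₗ p₀
  let j : (Fin σ.card → R) →ₗ[R] ((Fin σ.card → R) × P) := (LinearMap.id - q).prod p₀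
  let r : ((Fin σ.card → R) × P) →ₗ[R] (Fin σ.card → R) :=
    (LinearMap.id).coprod (ρ ∘ₗ ι)
  have hrj : ∀ x, r (j x) = x := by
    intro x
    show (x - ρ (ι (p₀ x))) + ρ (ι (p₀ x)) = x
    abel
  have hjinj : Function.Injective j := fun x y h => by
    rw [← hrj x, ← hrj y, h]
  refine ⟨σ.card, LinearMap.range j, LinearMap.ker r, ?_, ?_, ?_, ?_⟩
  · constructor
    · rw [Submodule.disjoint_def]
      rintro _ ⟨y, rfl⟩ hy
      rw [LinearMap.mem_ker, hrj] at hy
      rw [hy, map_zero]
    · rw [codisjoint_iff, eq_top_iff]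
      intro z _
      have e1 : z = j (r z) + (z - j (r z)) := by abel
      rw [e1]
      refine Submodule.add_mem_sup (LinearMap.mem_range_self j _) ?_
      rw [LinearMap.mem_ker, map_sub, hrj, sub_self]
  · exact Module.Free.of_equiv (LinearEquiv.ofInjective j hjinj)
  · exact Module.Finite.equiv (LinearEquiv.ofInjective j hjinj)
  · refine ⟨ρ (ι s), ?_⟩
    have h1 : p₀ (ρ (ι s)) = s := by
      show π (incl (ρ (ι s))) = s
      rw [hincl, hπι]
    show (ρ (ι s) - ρ (ι (p₀ (ρ (ι s)))), p₀ (ρ (ι s))) = (0, s)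
    rw [h1, sub_self]

end Groth.Agent.S7109
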