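import Groth.Statements.S7114
import Mathlib

set_option autoImplicit false
universe u
open CAlg

namespace Groth.Agent.S7114

/-- Let R be a Noetherian local ring of Krull dimension one and x an element of the maximal ideal lying
in no minimal prime of R. Then for every n the length of R/xⁿR is at most n times the length of
R/xR, and equality holds when x is a nonzerodivisor. -/
theorem result (R : Type u) [CommRing R] [IsNoetherianRing R] [IsLocalRing R]
    (hdim : ringKrullDim R = 1) (x : R) (hx : x ∈ IsLocalRing.maximalIdeal R)
    (hmin : ∀ p ∈ minimalPrimes R, x ∉ p) (n : ℕ) :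
    Module.length R (R ⧸ Ideal.span {x ^ n}) ≤ (n : ℕ∞) * Module.length R (R ⧸ Ideal.span {x}) ∧
      (x ∈ nonZeroDivisors R →
        Module.length R (R ⧸ Ideal.span {x ^ n}) = (n : ℕ∞) * Module.length R (R ⧸ Ideal.span {x})) := by
  have key : ∀ k : ℕ,
      Module.length R (R ⧸ Ideal.span {x ^ (k + 1)}) ≤
        Module.length R (R ⧸ Ideal.span {x}) + Module.length R (R ⧸ Ideal.span {x ^ k}) ∧
      (x ∈ nonZeroDivisors R → Module.length R (R ⧸ Ideal.span {x ^ (k + 1)}) =
        Module.length R (R ⧸ Ideal.span {x}) + Module.length R (R ⧸ Ideal.span {x ^ k})) := by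
    intro k
    have hle : (Ideal.span {x ^ (k + 1)} : Submodule R R) ≤
        Submodule.comap (LinearMap.id : R →ₗ[R] R) (Ideal.span {x ^ k}) := by
      rw [Submodule.comap_id, Ideal.span_singleton_le_span_singleton, pow_succ]
      exact dvd_mul_right _ _
    let g : (R ⧸ Ideal.span {x ^ (k + 1)}) →ₗ[R] (R ⧸ Ideal.span {x ^ k}) :=
      Submodule.mapQ _ _ LinearMap.id hle
    have hg : Function.Surjective g := by
      intro y
      obtain ⟨r, rfl⟩ := Submodule.Quotient.mk_surjective _ y
      exact ⟨Submodule.Quotient.mk r, rfl⟩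
    have hle0 : (Ideal.span {x} : Submodule R R) ≤
        Submodule.comap (LinearMap.mulLeft R (x ^ k)) (Ideal.span {x ^ (k + 1)}) := by
      rw [Ideal.span, Submodule.span_le, Set.singleton_subset_iff]
      show x ^ k * x ∈ Ideal.span {x ^ (k + 1)}
      rw [← pow_succ]
      exact Ideal.mem_span_singleton_self _
    let h0 : (R ⧸ Ideal.span {x}) →ₗ[R] (R ⧸ Ideal.span {x ^ (k + 1)}) :=
      Submodule.mapQ _ _ (LinearMap.mulLeft R (x ^ k)) hle0
    have hex : Function.Exact (LinearMap.range h0).subtype g := by
      rw [LinearMap.exact_iff, Submodule.range_subtype]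
      ext y
      obtain ⟨r, rfl⟩ := Submodule.Quotient.mk_surjective _ y
      constructor
      · intro hy
        have h1 : (Submodule.Quotient.mk r : R ⧸ Ideal.span {x ^ k}) = 0 := hy
        rw [Submodule.Quotient.mk_eq_zero] at h1
        obtain ⟨t, rfl⟩ := Ideal.mem_span_singleton'.mp h1
        refine ⟨Submodule.Quotient.mk t, ?_⟩
        show (Submodule.Quotient.mk (x ^ k * t) : R ⧸ Ideal.span {x ^ (k + 1)}) = _
        rw [mul_comm]
      · rintro ⟨z, hz⟩
        obtain ⟨t, rfl⟩ := Submodule.Quotient.mk_surjective _ z
        rw [← hz]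
        show (Submodule.Quotient.mk (x ^ k * t) : R ⧸ Ideal.span {x ^ k}) = 0
        rw [Submodule.Quotient.mk_eq_zero]
        exact Ideal.mul_mem_right _ _ (Ideal.mem_span_singleton_self _)
    have hadd := Module.length_eq_add_of_exact (LinearMap.range h0).subtype g
      (Submodule.subtype_injective _) hg hex
    constructor
    · rw [hadd]
      gcongr
      exact Module.length_le_of_surjective h0.rangeRestrict h0.surjective_rangeRestrict
    · intro hx
      rw [hadd]
      congr 1
      have hinj : Function.Injective h0 := by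
        rw [← LinearMap.ker_eq_bot, LinearMap.ker_eq_bot']
        intro z hz
        obtain ⟨t, rfl⟩ := Submodule.Quotient.mk_surjective _ z
        have h1 : (Submodule.Quotient.mk (x ^ k * t) : R ⧸ Ideal.span {x ^ (k + 1)}) = 0 := hz
        rw [Submodule.Quotient.mk_eq_zero] at h1
        obtain ⟨s, hs⟩ := Ideal.mem_span_singleton'.mp h1
        rw [Submodule.Quotient.mk_eq_zero]
        have h2 : x ^ k * (s * x) = x ^ k * t := by rw [← hs]; ring
        have h3 := (mul_cancel_left_mem_nonZeroDivisors (pow_mem hx k)).mp h2
        rw [← h3]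
        exact Ideal.mul_mem_left _ _ (Ideal.mem_span_singleton_self _)
      exact (LinearEquiv.ofInjective h0 hinj).length_eq.symm
  have hzero : Module.length R (R ⧸ Ideal.span {x ^ 0}) = 0 := by
    rw [pow_zero, Ideal.span_singleton_one]
    exact Module.length_eq_zero
  constructor
  · induction n with
    | zero => rw [hzero]; exact zero_le
    | succ k ih =>
      refine (key k).1.trans ?_
      calc Module.length R (R ⧸ Ideal.span {x}) + Module.length R (R ⧸ Ideal.span {x ^ k})
          ≤ Module.length R (R ⧸ Ideal.span {x}) +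
            (k : ℕ∞) * Module.length R (R ⧸ Ideal.span {x}) := by gcongr
        _ = ((k + 1 : ℕ) : ℕ∞) * Module.length R (R ⧸ Ideal.span {x}) := by
          push_cast
          ring
  · intro hx
    induction n with
    | zero => rw [hzero]; simp
    | succ k ih =>
      rw [(key k).2 hx, ih]
      push_cast
      ring

end Groth.Agent.S7114
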