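import Groth.Statements.S7115
import Mathlib
import Groth.Agent.Helper7.SopExt

set_option autoImplicit false
universe u
open CAlg

namespace Groth.Agent.S7115

/-- Let R be a Noetherian local ring of Krull dimension d > 1 with maximal ideal m, let f be an element
of m contained in no minimal prime, and let k be a natural number. Then there are elements g_1, ...,
g_{d-1} of m lying in m^k such that f, g_1, ..., g_{d-1} form a system of parameters: these d
elements of m generate an ideal whose radical is m. -/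
theorem result (R : Type u) [CommRing R] [IsNoetherianRing R] [IsLocalRing R]
    (d : ℕ) (hd : ringKrullDim R = d) (h1 : 1 < d) (f : R) (hf : f ∈ IsLocalRing.maximalIdeal R)
    (hmin : ∀ p ∈ minimalPrimes R, f ∉ p) (k : ℕ) :
    ∃ g : Fin (d - 1) → R, (∀ i, g i ∈ IsLocalRing.maximalIdeal R ^ k) ∧ (∀ i, g i ∈ IsLocalRing.maximalIdeal R) ∧
      IsLocalRing.maximalIdeal R ≤ (Ideal.span (insert f (Set.range g))).radical := by
  have hdrop := Groth.Agent.Helper7.LinMiss.dim_drop (⊥ : Ideal R) f (fun p hp => hmin p hp)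
  have e : ringKrullDim (R ⧸ (⊥ : Ideal R)) = d := by
    rw [ringKrullDim_eq_of_ringEquiv (RingEquiv.quotientBot R), hd]
  rw [e] at hdrop
  have hdim' : ringKrullDim (R ⧸ ((⊥ : Ideal R) ⊔ Ideal.span {f})) ≤ ((d - 1 : ℕ) : WithBot ℕ∞) := by
    generalize ringKrullDim (R ⧸ ((⊥ : Ideal R) ⊔ Ideal.span {f})) = a at hdrop ⊢
    induction a using WithBot.recBotCoe with
    | bot => exact bot_le
    | coe a =>
      have hd1 : d = (d - 1) + 1 := by omega
      have h3 : ((a + 1 : ℕ∞) : WithBot ℕ∞) ≤ (((d - 1 : ℕ) + 1 : ℕ∞) : WithBot ℕ∞) := by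
        have : ((d : ℕ) : WithBot ℕ∞) = (((d - 1 : ℕ) + 1 : ℕ∞) : WithBot ℕ∞) := by
          conv_lhs => rw [hd1]
          push_cast
          rfl
        rw [← this]
        simpa using hdrop
      rw [WithBot.coe_le_coe] at h3
      have h4 : a ≤ ((d - 1 : ℕ) : ℕ∞) := (ENat.add_le_add_iff_right (by simp)).1 h3
      exact WithBot.coe_le_coe.2 h4
  have hle : (⊥ : Ideal R) ⊔ Ideal.span {f} ≤ IsLocalRing.maximalIdeal R :=
    sup_le bot_le ((Ideal.span_singleton_le_iff_mem _).2 hf)
  obtain ⟨g, hg, hrad⟩ := Groth.Agent.Helper7.SopExt.main_aux k (d - 1) _ hle hdim'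
  refine ⟨g, fun i => Ideal.pow_le_pow_right (Nat.le_succ k) (hg i),
    fun i => Ideal.pow_le_self (Nat.succ_ne_zero k) (hg i), ?_⟩
  rw [Ideal.span_insert]
  rw [bot_sup_eq] at hrad
  exact hrad

end Groth.Agent.S7115
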