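import Groth.Statements.S7122
import Groth.Agent.Helper3.Bezout

set_option autoImplicit false
universe u
open CAlg

namespace Groth.Agent.S7122

/-- Let R be a Bézout domain, n ≥ 1, and f_1, ..., f_n elements generating the unit ideal. Then some
invertible n × n matrix over R has (f_1, ..., f_n) as its first row. -/
theorem result (R : Type u) [CommRing R] [IsDomain R] [IsBezout R]
    (n : ℕ) (f : Fin (n + 1) → R) (hf : Ideal.span (Set.range f) = ⊤) :
    ∃ A : Matrix (Fin (n + 1)) (Fin (n + 1)) R, IsUnit A.det ∧ A 0 = f := by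
  classical
  let lam : (Fin (n + 1) → R) →ₗ[R] R := Fintype.linearCombination R f
  have hlam : ∀ v, lam v = ∑ i, v i * f i := by
    intro v
    simp [lam, Fintype.linearCombination_apply, smul_eq_mul]
  have h1 : (1 : R) ∈ Ideal.span (Set.range f) := by rw [hf]; trivial
  obtain ⟨u, hu⟩ := (Ideal.mem_span_range_iff_exists_fun).1 h1
  let i0 : R →ₗ[R] (Fin (n + 1) → R) := LinearMap.toSpanSingleton R _ u
  have hsplit : lam.comp i0 = LinearMap.id := by
    apply LinearMap.ext
    intro r
    change lam (r • u) = r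
    rw [map_smul, hlam, hu, smul_eq_mul, mul_one]
  let e : (R × LinearMap.ker lam) ≃ₗ[R] (Fin (n + 1) → R) :=
    Groth.Agent.Helper3.equivProdKerOfSplit i0 lam hsplit
  haveI hfinK : Module.Finite R (LinearMap.ker lam) :=
    Module.Finite.of_surjective ((LinearMap.snd R R (LinearMap.ker lam)).comp e.symm.toLinearMap)
      (by
        intro k
        exact ⟨e (0, k), by simp⟩)
  obtain ⟨hfree, _⟩ := Groth.Agent.Helper3.free_of_fg_submodule_free R (Fin (n + 1) → R)
    (LinearMap.ker lam) (Module.Finite.iff_fg.1 hfinK)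
  haveI := hfree
  have hrank : Module.finrank R (LinearMap.ker lam) = n := by
    have h2 := LinearEquiv.finrank_eq e
    rw [Module.finrank_prod, Module.finrank_self, Module.finrank_fin_fun] at h2
    omega
  let bK : Module.Basis (Fin n) R (LinearMap.ker lam) := Module.finBasisOfFinrankEq R _ hrank
  let e' : (Fin (n + 1) → R) ≃ₗ[R] (Fin (n + 1) → R) :=
    e.symm.trans ((LinearEquiv.prodCongr (LinearEquiv.refl R R) bK.equivFun).trans
      (Fin.consLinearEquiv R (fun _ : Fin (n + 1) => R)))
  have he'0 : ∀ v, e' v 0 = lam v := by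
    intro v
    rfl
  refine ⟨LinearMap.toMatrix' (e' : (Fin (n + 1) → R) →ₗ[R] (Fin (n + 1) → R)), ?_, ?_⟩
  · rw [LinearMap.det_toMatrix']
    exact LinearEquiv.isUnit_det' e'
  · funext j
    rw [LinearMap.toMatrix'_apply, LinearEquiv.coe_coe, he'0, hlam]
    simp [Pi.single_apply]

end Groth.Agent.S7122
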