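import Groth.Statements.S7124
import Mathlib

set_option autoImplicit false
universe u
open scoped TensorProduct
open CAlg

namespace Groth.Agent.S7124

section
variable (A K : Type u) [CommRing A] [IsDomain A] [ValuationRing A] [Field K] [Algebra A K]
  [IsFractionRing A K]

/-- pivot lemma -/
theorem pivot {ι : Type*} [Fintype ι] (a : ι → K) (h : ∃ i, a i ≠ 0) :
    ∃ i0, a i0 ≠ 0 ∧ ∀ i, ∃ b : A, algebraMap A K b = a i / a i0 := by
  classical
  obtain ⟨i1, hi1⟩ := h
  obtain ⟨i0, -, hmax⟩ := Finset.exists_max_image Finset.univ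
    (fun i => ValuationRing.valuation A K (a i)) ⟨i1, Finset.mem_univ _⟩
  have h0 : a i0 ≠ 0 := by
    intro h0
    have := hmax i1 (Finset.mem_univ _)
    rw [h0, map_zero] at this
    exact hi1 ((map_eq_zero _).1 (le_antisymm this zero_le))
  refine ⟨i0, h0, fun i => ?_⟩
  rw [← ValuationRing.mem_integer_iff, Valuation.mem_integer_iff, map_div₀]
  exact div_le_one_of_le₀ (hmax i (Finset.mem_univ _)) zero_le

/-- unit characterization -/
theorem val_eq_one_iff (u : Kˣ) :
    ValuationRing.valuation A K (u : K) = 1 ↔
      u ∈ (Units.map (algebraMap A K).toMonoidHom).range := by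
  constructor
  · intro h
    have h1 : (u : K) ∈ (ValuationRing.valuation A K).integer := by
      rw [Valuation.mem_integer_iff, h]
    have h2 : ((u⁻¹ : Kˣ) : K) ∈ (ValuationRing.valuation A K).integer := by
      rw [Valuation.mem_integer_iff, Units.val_inv_eq_inv_val, map_inv₀, h, inv_one]
    obtain ⟨b, hb⟩ := (ValuationRing.mem_integer_iff A K _).1 h1
    obtain ⟨b', hb'⟩ := (ValuationRing.mem_integer_iff A K _).1 h2
    have hbb : b * b' = 1 := by
      apply IsFractionRing.injective A K
      rw [map_mul, hb, hb', map_one, Units.mul_inv]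
    refine ⟨Units.mkOfMulEqOne b b' hbb, ?_⟩
    ext
    simpa using hb
  · rintro ⟨b, rfl⟩
    have h1 : ValuationRing.valuation A K (algebraMap A K b) ≤ 1 := by
      rw [← Valuation.mem_integer_iff, ValuationRing.mem_integer_iff]; exact ⟨_, rfl⟩
    have h2 : ValuationRing.valuation A K (algebraMap A K (b⁻¹ : Aˣ)) ≤ 1 := by
      rw [← Valuation.mem_integer_iff, ValuationRing.mem_integer_iff]; exact ⟨_, rfl⟩
    have h3 : ValuationRing.valuation A K (algebraMap A K b) *
        ValuationRing.valuation A K (algebraMap A K (b⁻¹ : Aˣ)) = 1 := by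
      rw [← map_mul, ← map_mul, ← Units.val_mul, mul_inv_cancel, Units.val_one, map_one, map_one]
    simp only [Units.coe_map, RingHom.toMonoidHom_eq_coe, MonoidHom.coe_coe]
    apply le_antisymm h1
    calc (1 : ValuationRing.ValueGroup A K) = _ := h3.symm
      _ ≤ ValuationRing.valuation A K (algebraMap A K b) * 1 := mul_le_mul_right h2 _
      _ = _ := mul_one _

end


section main
variable (A B K L : Type u) [CommRing A] [IsDomain A]
    [ValuationRing A] [CommRing B] [IsDomain B] [ValuationRing B] [Field K] [Field L]
    [Algebra A K] [IsFractionRing A K] [Algebra B L] [IsFractionRing B L] [Algebra A B] [Algebra K L]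
    [Algebra A L] [IsScalarTower A K L] [IsScalarTower A B L]
    [IsLocalHom (algebraMap A B)]

theorem isUnit_sum {ι : Type*} [Fintype ι] (ω : ι → B)
    (hω : LinearIndependent (IsLocalRing.ResidueField A) (fun i => IsLocalRing.residue B (ω i)))
    (b : ι → A) (i0 : ι) (hb : b i0 = 1) : IsUnit (∑ i, algebraMap A B (b i) * ω i) := by
  by_contra h
  have h0 : IsLocalRing.residue B (∑ i, algebraMap A B (b i) * ω i) = 0 := by
    rw [IsLocalRing.residue_eq_zero_iff, IsLocalRing.mem_maximalIdeal, mem_nonunits_iff]
    exact h
  rw [map_sum] at h0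
  have h1 : ∑ i, IsLocalRing.residue A (b i) • IsLocalRing.residue B (ω i) = 0 := by
    rw [← h0]
    refine Finset.sum_congr rfl fun i _ => ?_
    rw [Algebra.smul_def, map_mul, IsLocalRing.ResidueField.algebraMap_residue]
  have h2 := Fintype.linearIndependent_iff.1 hω (fun i => IsLocalRing.residue A (b i)) h1 i0
  rw [hb, map_one] at h2
  exact one_ne_zero h2

theorem valB_unit (u : Bˣ) : ValuationRing.valuation B L (algebraMap B L u) = 1 := by
  have := (val_eq_one_iff B L (Units.map (algebraMap B L).toMonoidHom u)).2 ⟨u, rfl⟩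
  simpa using this

theorem stepA {ι : Type*} [Fintype ι] (ω : ι → B)
    (hω : LinearIndependent (IsLocalRing.ResidueField A) (fun i => IsLocalRing.residue B (ω i)))
    (a : ι → K) (h : ∃ i, a i ≠ 0) :
    ∃ k : Kˣ, ValuationRing.valuation B L (∑ i, algebraMap K L (a i) * algebraMap B L (ω i)) =
      ValuationRing.valuation B L (algebraMap K L k) := by
  obtain ⟨i0, h0, hb⟩ := pivot A K a h
  choose b hb using hb
  have hb0 : b i0 = 1 := by
    apply IsFractionRing.injective A K
    rw [hb, div_self h0, map_one]
  have hu := isUnit_sum A B ω hω b i0 hb0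
  refine ⟨Units.mk0 (a i0) h0, ?_⟩
  have : ∑ i, algebraMap K L (a i) * algebraMap B L (ω i) =
      algebraMap K L (a i0) * algebraMap B L hu.unit := by
    rw [IsUnit.unit_spec, map_sum, Finset.mul_sum]
    refine Finset.sum_congr rfl fun i _ => ?_
    have e1 : a i = a i0 * algebraMap A K (b i) := by
      rw [hb, mul_div_cancel₀ _ h0]
    rw [map_mul, ← mul_assoc]
    congr 1
    rw [e1, map_mul, ← IsScalarTower.algebraMap_apply A K L, ← IsScalarTower.algebraMap_apply A B L]
  rw [this, map_mul, valB_unit, mul_one, Units.val_mk0]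

theorem core {ι κ : Type*} [Fintype ι] [Fintype κ] (ω : ι → B)
    (hω : LinearIndependent (IsLocalRing.ResidueField A) (fun i => IsLocalRing.residue B (ω i)))
    (π : κ → Lˣ)
    (hπ : ∀ j j' (k : Kˣ), ValuationRing.valuation B L (π j : L) =
      ValuationRing.valuation B L (algebraMap K L k) * ValuationRing.valuation B L (π j' : L) →
        j = j') :
    LinearIndependent K (fun p : ι × κ => algebraMap B L (ω p.1) * (π p.2 : L)) := by
  classical
  rw [Fintype.linearIndependent_iff]
  intro g hg
  rw [Fintype.sum_prod_type_right] at hg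
  set c : κ → L := fun j => ∑ i, algebraMap K L (g (i, j)) * algebraMap B L (ω i) with hc
  have hg' : ∑ j, c j * (π j : L) = 0 := by
    rw [← hg]
    refine Finset.sum_congr rfl fun j _ => ?_
    rw [hc, Finset.sum_mul]
    refine Finset.sum_congr rfl fun i _ => ?_
    rw [Algebra.smul_def, mul_assoc]
  set S : Finset κ := Finset.univ.filter (fun j => ∃ i, g (i, j) ≠ 0) with hS
  have hcS : ∀ j, j ∉ S → c j = 0 := by
    intro j hj
    have : ∀ i, g (i, j) = 0 := by
      intro i
      by_contra hne
      exact hj (by rw [hS, Finset.mem_filter]; exact ⟨Finset.mem_univ _, i, hne⟩)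
    simp [hc, this]
  have hkS : ∀ j, j ∈ S → ∃ k : Kˣ, ValuationRing.valuation B L (c j) =
      ValuationRing.valuation B L (algebraMap K L k) := by
    intro j hj
    rw [hS, Finset.mem_filter] at hj
    exact stepA A B K L ω hω (fun i => g (i, j)) hj.2
  by_cases hSe : S.Nonempty
  · exfalso
    obtain ⟨j0, hj0, hmax⟩ := Finset.exists_max_image S
      (fun j => ValuationRing.valuation B L (c j * (π j : L))) hSe
    have hsum : ∑ j ∈ S, c j * (π j : L) = 0 := by
      rw [← hg']
      refine Finset.sum_subset (Finset.subset_univ _) fun j _ hj => ?_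
      rw [hcS j hj, zero_mul]
    obtain ⟨k0, hk0⟩ := hkS j0 hj0
    have hne0 : ValuationRing.valuation B L (c j0 * (π j0 : L)) ≠ 0 := by
      rw [map_mul, hk0]
      exact mul_ne_zero ((Valuation.ne_zero_iff _).2 (by simp)) ((Valuation.ne_zero_iff _).2 (by simp))
    have hlt : ∀ j ∈ S.erase j0, ValuationRing.valuation B L (c j * (π j : L)) <
        ValuationRing.valuation B L (c j0 * (π j0 : L)) := by
      intro j hj
      rw [Finset.mem_erase] at hj
      refine lt_of_le_of_ne (hmax j hj.2) fun heq => hj.1 ?_
      obtain ⟨k, hk⟩ := hkS j hj.2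
      apply hπ j j0 (k0 / k)
      rw [map_mul, map_mul, hk, hk0] at heq
      have hkne : ValuationRing.valuation B L (algebraMap K L k) ≠ 0 :=
        (Valuation.ne_zero_iff _).2 (by simp)
      rw [Units.val_div_eq_div_val, map_div₀, map_div₀, div_mul_eq_mul_div, eq_div_iff hkne,
        mul_comm]
      exact heq
    have := Valuation.map_sum_lt (ValuationRing.valuation B L) hne0 hlt
    rw [← Finset.add_sum_erase S _ hj0] at hsum
    rw [← neg_eq_of_add_eq_zero_right hsum, Valuation.map_neg] at this
    exact lt_irrefl _ this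
  · rw [Finset.not_nonempty_iff_eq_empty] at hSe
    rintro ⟨i, j⟩
    by_contra hne
    have : j ∈ S := by rw [hS, Finset.mem_filter]; exact ⟨Finset.mem_univ _, i, hne⟩
    rw [hSe] at this
    exact absurd this (Finset.notMem_empty _)


theorem card_mul_le [FiniteDimensional K L] {ι κ : Type*} [Fintype ι] [Fintype κ] (ω : ι → B)
    (hω : LinearIndependent (IsLocalRing.ResidueField A) (fun i => IsLocalRing.residue B (ω i)))
    (π : κ → Lˣ)
    (hπ : ∀ j j' (k : Kˣ), ValuationRing.valuation B L (π j : L) =
      ValuationRing.valuation B L (algebraMap K L k) * ValuationRing.valuation B L (π j' : L) →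
        j = j') :
    Fintype.card κ * Fintype.card ι ≤ Module.finrank K L := by
  have := (core A B K L ω hω π hπ).fintype_card_le_finrank
  rwa [Fintype.card_prod, mul_comm] at this

theorem hπ_of_inj {κ : Type*} (π : κ → Lˣ)
    (hinj : Function.Injective (fun j =>
      (QuotientGroup.mk (QuotientGroup.mk (π j) : Lˣ ⧸ (Units.map (algebraMap B L).toMonoidHom).range) :
        (Lˣ ⧸ (Units.map (algebraMap B L).toMonoidHom).range) ⧸
          ((QuotientGroup.mk' (Units.map (algebraMap B L).toMonoidHom).range).comp
            (Units.map (algebraMap K L).toMonoidHom)).range))) :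
    ∀ j j' (k : Kˣ), ValuationRing.valuation B L (π j : L) =
      ValuationRing.valuation B L (algebraMap K L k) * ValuationRing.valuation B L (π j' : L) →
        j = j' := by
  intro j j' k h
  apply hinj
  simp only
  symm
  rw [QuotientGroup.eq]
  refine ⟨k, ?_⟩
  simp only [MonoidHom.coe_comp, Function.comp_apply, QuotientGroup.mk'_apply]
  rw [← QuotientGroup.mk_inv, ← QuotientGroup.mk_mul, QuotientGroup.eq]
  rw [← val_eq_one_iff B L]
  have h1 : ValuationRing.valuation B L (π j' : L) ≠ 0 := (Valuation.ne_zero_iff _).2 (by simp)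
  have h2 : ValuationRing.valuation B L (algebraMap K L k) ≠ 0 := (Valuation.ne_zero_iff _).2 (by simp)
  simp only [Units.val_mul, Units.val_inv_eq_inv_val, map_mul, map_inv₀, Units.coe_map,
    RingHom.toMonoidHom_eq_coe, MonoidHom.coe_coe, h]
  field_simp


theorem final (hinj : Function.Injective (algebraMap A B)) [FiniteDimensional K L] :
    let UB : Subgroup Lˣ := (Units.map (algebraMap B L).toMonoidHom).range
    let ΓA : Subgroup (Lˣ ⧸ UB) := ((QuotientGroup.mk' UB).comp (Units.map (algebraMap K L).toMonoidHom)).range
    Module.Finite (IsLocalRing.ResidueField A) (IsLocalRing.ResidueField B) ∧ ΓA.index ≠ 0 ∧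
      ΓA.index * Module.finrank (IsLocalRing.ResidueField A) (IsLocalRing.ResidueField B) ≤
        Module.finrank K L := by
  classical
  intro UB ΓA
  have hfin : Module.Finite (IsLocalRing.ResidueField A) (IsLocalRing.ResidueField B) := by
    rw [← Module.rank_lt_aleph0_iff]
    refine lt_of_le_of_lt (_root_.rank_le (n := Module.finrank K L) ?_) (Cardinal.natCast_lt_aleph0)
    intro s hs
    have hsurj := IsLocalRing.residue_surjective (R := B)
    choose ω hω using fun i : s => hsurj (i : IsLocalRing.ResidueField B)
    have hli : LinearIndependent (IsLocalRing.ResidueField A)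
        (fun i => IsLocalRing.residue B (ω i)) := by
      simpa only [hω] using hs
    have := card_mul_le A B K L ω hli (fun _ : Unit => (1 : Lˣ)) (fun _ _ _ _ => rfl)
    simpa using this
  have hidx : ΓA.index ≠ 0 := by
    intro h0
    rw [Subgroup.index_eq_zero_iff_infinite] at h0
    let e := Infinite.natEmbedding ((Lˣ ⧸ UB) ⧸ ΓA)
    let π : Fin (Module.finrank K L + 1) → Lˣ := fun j => (e j).out.out
    have hπ : Function.Injective (fun j =>
        (QuotientGroup.mk (QuotientGroup.mk (π j) : Lˣ ⧸ UB) : (Lˣ ⧸ UB) ⧸ ΓA)) := by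
      intro j j' h
      simp only [π, QuotientGroup.out_eq'] at h
      exact Fin.val_injective (e.injective h)
    have hli : LinearIndependent (IsLocalRing.ResidueField A)
        (fun _ : Unit => IsLocalRing.residue B (1 : B)) :=
      linearIndependent_unique_iff.2 (by simp)
    have := card_mul_le A B K L (fun _ : Unit => (1 : B)) hli π (hπ_of_inj B K L π hπ)
    simp at this
  refine ⟨hfin, hidx, ?_⟩
  have : Finite ((Lˣ ⧸ UB) ⧸ ΓA) := by
    by_contra h
    rw [not_finite_iff_infinite, ← Subgroup.index_eq_zero_iff_infinite] at h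
    exact hidx h
  letI := Fintype.ofFinite ((Lˣ ⧸ UB) ⧸ ΓA)
  let π : ((Lˣ ⧸ UB) ⧸ ΓA) → Lˣ := fun q => q.out.out
  have hπ : Function.Injective (fun j =>
      (QuotientGroup.mk (QuotientGroup.mk (π j) : Lˣ ⧸ UB) : (Lˣ ⧸ UB) ⧸ ΓA)) := by
    intro j j' h
    simpa only [π, QuotientGroup.out_eq'] using h
  let bas := Module.finBasis (IsLocalRing.ResidueField A) (IsLocalRing.ResidueField B)
  have hsurj := IsLocalRing.residue_surjective (R := B)
  choose ω hω using fun i => hsurj (bas i)
  have hli : LinearIndependent (IsLocalRing.ResidueField A)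
      (fun i => IsLocalRing.residue B (ω i)) := by
    simpa only [hω] using bas.linearIndependent
  have := card_mul_le A B K L ω hli π (hπ_of_inj B K L π hπ)
  rwa [Fintype.card_fin, ← Nat.card_eq_fintype_card, ← Subgroup.index_eq_card] at this

end main

/-- Let A ⊆ B be an extension of valuation rings (both valuation domains, the inclusion injective and
local) with fraction fields K ⊆ L such that L/K is finite. Then the residue field of B is finite
over that of A, the value group of A has finite index in the value group of B, and (index of value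
groups) · (residue degree) ≤ [L : K]. Here the value group of B is written as Lˣ modulo the units of
B, and that of A as the image of Kˣ in it. -/
theorem result (A B K L : Type u) [CommRing A] [IsDomain A]
    [ValuationRing A] [CommRing B] [IsDomain B] [ValuationRing B] [Field K] [Field L]
    [Algebra A K] [IsFractionRing A K] [Algebra B L] [IsFractionRing B L] [Algebra A B] [Algebra K L]
    [Algebra A L] [IsScalarTower A K L] [IsScalarTower A B L] (hinj : Function.Injective (algebraMap A B))
    [IsLocalHom (algebraMap A B)] [FiniteDimensional K L] :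
    let UB : Subgroup Lˣ := (Units.map (algebraMap B L).toMonoidHom).range
    let ΓA : Subgroup (Lˣ ⧸ UB) := ((QuotientGroup.mk' UB).comp (Units.map (algebraMap K L).toMonoidHom)).range
    Module.Finite (IsLocalRing.ResidueField A) (IsLocalRing.ResidueField B) ∧ ΓA.index ≠ 0 ∧
      ΓA.index * Module.finrank (IsLocalRing.ResidueField A) (IsLocalRing.ResidueField B) ≤
        Module.finrank K L := by
  exact final A B K L hinj

end Groth.Agent.S7124
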