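import Groth.Statements.S7129
import Mathlib

set_option autoImplicit false
universe u
open EtAlg

namespace Groth.Agent.S7129

/-- Every module over a product of fields ∏ K_i is flat over it (the product is an absolutely flat
ring). -/
theorem result (ι : Type u) (K : ι → Type u) [∀ i, Field (K i)] (M : Type u)
    [AddCommGroup M] [Module (∀ i, K i) M] : Module.Flat (∀ i, K i) M := by
  classical
  -- every f.g. ideal is generated by an idempotent
  have hfg : ∀ I : Ideal (∀ i, K i), I.FG → ∃ e : (∀ i, K i), e * e = e ∧ I = Ideal.span {e} := by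
    intro I hI
    refine Submodule.fg_induction (R := ∀ i, K i) (M := ∀ i, K i)
      (motive := fun I _ => ∃ e : (∀ i, K i), e * e = e ∧ I = Ideal.span {e}) ?_ ?_ I hI
    · intro x
      refine ⟨fun i => if x i = 0 then 0 else 1, ?_, ?_⟩
      · funext i
        by_cases h : x i = 0 <;> simp [h]
      · apply le_antisymm
        · rw [Submodule.span_singleton_le_iff_mem]
          refine Ideal.mem_span_singleton'.2 ⟨x, ?_⟩
          funext i
          by_cases h : x i = 0 <;> simp [h]
        · change Ideal.span _ ≤ _
          rw [Ideal.span_singleton_le_iff_mem]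
          change _ ∈ Ideal.span {x}
          refine Ideal.mem_span_singleton'.2 ⟨fun i => (x i)⁻¹, ?_⟩
          funext i
          by_cases h : x i = 0 <;> simp [h]
    · rintro I J _ _ ⟨e, he, rfl⟩ ⟨f, hf, rfl⟩
      refine ⟨e + f - e * f, ?_, ?_⟩
      · have : (e + f - e * f) * (e + f - e * f)
            = e * e + f * f + 2 * (e * f) - 2 * (e * e) * f - 2 * e * (f * f) + (e * e) * (f * f) := by ring
        rw [this, he, hf]; ring
      · apply le_antisymm
        · rw [sup_le_iff, Ideal.span_singleton_le_iff_mem, Ideal.span_singleton_le_iff_mem]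
          constructor
          · refine Ideal.mem_span_singleton'.2 ⟨e, ?_⟩
            have : e * (e + f - e * f) = e * e + e * f - (e * e) * f := by ring
            rw [this, he]; ring
          · refine Ideal.mem_span_singleton'.2 ⟨f, ?_⟩
            have : f * (e + f - e * f) = f * f + e * f - e * (f * f) := by ring
            rw [this, hf]; ring
        · rw [Ideal.span_singleton_le_iff_mem]
          have h1 : e ∈ Ideal.span {e} ⊔ Ideal.span {f} :=
            Submodule.mem_sup_left (Ideal.subset_span rfl)
          have h2 : f ∈ Ideal.span {e} ⊔ Ideal.span {f} :=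
            Submodule.mem_sup_right (Ideal.subset_span rfl)
          exact Submodule.sub_mem _ (Submodule.add_mem _ h1 h2) (Ideal.mul_mem_left _ _ h2)
  rw [Module.Flat.iff_rTensor_injective]
  intro I hI
  obtain ⟨e, he, rfl⟩ := hfg I hI
  -- retraction R → I, r ↦ e r
  let ρ : (∀ i, K i) →ₗ[∀ i, K i] (Ideal.span {e} : Ideal (∀ i, K i)) :=
    LinearMap.codRestrict _ (LinearMap.mulLeft _ e) (fun r => Ideal.mem_span_singleton'.2 ⟨r, mul_comm _ _⟩)
  have hρ : ρ.comp (Submodule.subtype _) = LinearMap.id := by
    apply LinearMap.ext
    rintro ⟨x, hx⟩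
    obtain ⟨y, rfl⟩ := Ideal.mem_span_singleton'.1 hx
    apply Subtype.ext
    simp only [LinearMap.comp_apply, Submodule.subtype_apply, LinearMap.id_apply, ρ, LinearMap.codRestrict_apply, LinearMap.mulLeft_apply]
    rw [mul_comm y e, ← mul_assoc, he]
  have : Function.LeftInverse (ρ.rTensor M) ((Submodule.subtype (Ideal.span {e} : Ideal (∀ i, K i))).rTensor M) := by
    intro z
    rw [← LinearMap.comp_apply, ← LinearMap.rTensor_comp, hρ, LinearMap.rTensor_id, LinearMap.id_apply]
  exact this.injective

end Groth.Agent.S7129
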