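import Groth.Statements.S7130
import Mathlib

set_option autoImplicit false
universe u
open scoped TensorProduct
open EtAlg

namespace Groth.Agent.S7130

/-- (2) ⇔ (3) ⇔ (4): for a ring A the following are equivalent: every A-module is flat; A is reduced of
Krull dimension zero, in the sense that every prime ideal of A is maximal; the local ring A_p is a
field for every prime p. (The further equivalent condition 'A has weak dimension at most zero'
coincides with the first condition by definition and is not listed separately.) -/
theorem result (A : Type u) [CommRing A] :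
    List.TFAE [∀ (M : Type u) [AddCommGroup M] [Module A M], Module.Flat A M,
      IsReduced A ∧ ∀ p : Ideal A, p.IsPrime → p.IsMaximal,
      ∀ (p : Ideal A) [p.IsPrime], IsField (Localization.AtPrime p)] := by
  classical
  tfae_have 1 → 2 := by
    intro h
    -- von Neumann regularity
    have vnr : ∀ a : A, ∃ c : A, a = c * a ^ 2 := by
      intro a
      haveI : Module.Flat A (A ⧸ Ideal.span {a}) := h _
      have hrel : ∑ _i : Unit, (fun _ : Unit => a) _i •
          (fun _ : Unit => (1 : A ⧸ Ideal.span {a})) _i = 0 := by
        simp only [Finset.univ_unique, Finset.sum_singleton]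
        change a • (Ideal.Quotient.mk (Ideal.span {a}) 1) = 0
        rw [← Ideal.Quotient.mk_eq_mk, ← Submodule.Quotient.mk_smul, Ideal.Quotient.mk_eq_mk,
          Ideal.Quotient.eq_zero_iff_mem, smul_eq_mul, mul_one]
        exact Ideal.subset_span rfl
      obtain ⟨k, b, y, hy, hb⟩ := Module.Flat.isTrivialRelation_of_sum_smul_eq_zero hrel
      have hb' : ∀ j, a * b () j = 0 := by
        intro j
        have := hb j
        simpa using this
      choose r hr using fun j => Ideal.Quotient.mk_surjective (y j)
      have hy1 : (1 : A ⧸ Ideal.span {a}) = ∑ j, b () j • y j := hy ()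
      have h1 : (1 : A ⧸ Ideal.span {a}) = Ideal.Quotient.mk (Ideal.span {a}) (∑ j, b () j * r j) := by
        rw [hy1, map_sum]
        refine Finset.sum_congr rfl (fun j _ => ?_)
        rw [map_mul, hr j]
        rfl
      have h2 : (1 : A) - ∑ j, b () j * r j ∈ Ideal.span {a} := by
        rw [← Ideal.Quotient.eq_zero_iff_mem, map_sub, ← h1, map_one, sub_self]
      obtain ⟨c, hc⟩ := Ideal.mem_span_singleton'.1 h2
      refine ⟨c, ?_⟩
      have h3 : a * ∑ j, b () j * r j = 0 := by
        rw [Finset.mul_sum]
        refine Finset.sum_eq_zero (fun j _ => ?_)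
        rw [← mul_assoc, hb' j, zero_mul]
      have h4 : a * (1 - ∑ j, b () j * r j) = a := by
        rw [mul_sub, mul_one, h3, sub_zero]
      calc a = a * (c * a) := by rw [hc, h4]
        _ = c * a ^ 2 := by ring
    constructor
    · rw [isReduced_iff_pow_one_lt 2 one_lt_two]
      intro a ha
      obtain ⟨c, hc⟩ := vnr a
      rw [hc, ha, mul_zero]
    · intro p hp
      rw [Ideal.isMaximal_iff]
      refine ⟨fun h1 => hp.ne_top ((Ideal.eq_top_iff_one p).2 h1), ?_⟩
      intro J x hpJ hxp hxJ
      obtain ⟨c, hc⟩ := vnr x
      have h1 : x * (1 - c * x) = 0 := by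
        rw [mul_sub, mul_one, sub_eq_zero]
        conv_lhs => rw [hc]
        ring
      have h2 : 1 - c * x ∈ p := by
        rcases hp.mem_or_mem (h1 ▸ p.zero_mem : x * (1 - c * x) ∈ p) with h | h
        · exact absurd h hxp
        · exact h
      have h3 : (1 : A) = (1 - c * x) + c * x := by ring
      rw [h3]
      exact J.add_mem (hpJ h2) (J.mul_mem_left _ hxJ)
  tfae_have 2 → 3 := by
    rintro ⟨hred, hmax⟩ p hp
    haveI := hred
    rw [IsLocalRing.isField_iff_maximalIdeal_eq, eq_bot_iff]
    intro z hz
    have hznil : z ∈ nilradical (Localization.AtPrime p) := by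
      rw [nilradical_eq_sInf, Ideal.mem_sInf]
      intro Q hQ
      haveI : Q.IsPrime := hQ
      obtain ⟨a, s, rfl⟩ := IsLocalization.exists_mk'_eq p.primeCompl z
      rw [IsLocalization.AtPrime.mk'_mem_maximal_iff (Localization.AtPrime p) p] at hz
      set q : Ideal A := Q.comap (algebraMap A (Localization.AtPrime p)) with hq
      haveI : q.IsPrime := Ideal.IsPrime.comap _
      have hqmax : q.IsMaximal := hmax q inferInstance
      have hqp : q ≤ p := by
        intro a' ha'
        by_contra hnot
        have hu : IsUnit (algebraMap A (Localization.AtPrime p) a') :=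
          (IsLocalization.AtPrime.isUnit_to_map_iff (Localization.AtPrime p) p a').2 hnot
        exact (inferInstance : Q.IsPrime).ne_top (Q.eq_top_of_isUnit_mem ha' hu)
      have hqeq : q = p := hqmax.eq_of_le hp.ne_top hqp
      have haQ : algebraMap A (Localization.AtPrime p) a ∈ Q := by
        have : a ∈ q := hqeq ▸ hz
        exact this
      rw [IsLocalization.mk'_eq_mul_mk'_one]
      exact Q.mul_mem_right _ haQ
    exact (show IsNilpotent z from hznil).eq_zero ▸ Submodule.zero_mem _
  tfae_have 3 → 1 := by
    intro h M _ _
    apply Module.flat_of_localized_maximal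
    intro P hP
    have hF := h P
    letI := hF.toField
    haveI : Module.Flat (Localization.AtPrime P) (LocalizedModule P.primeCompl M) :=
      inferInstance
    exact Module.Flat.trans A (Localization.AtPrime P) (LocalizedModule P.primeCompl M)
  tfae_finish

end Groth.Agent.S7130
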