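import Groth.Statements.S7153
import Mathlib

set_option autoImplicit false
universe u
open scoped TensorProduct
open CAlg

namespace Groth.Agent.S7153

/-- Let A be a Noetherian ring, I an ideal and K → L → M a complex of finite A-modules with maps α, β
and homology H = Ker β / Im α; for n ≥ 0 let H_n be the homology of the induced complex K/IⁿK →
L/IⁿL → M/IⁿM, which is β⁻¹(IⁿM)/(Im α + IⁿL). Then there is c > 0 such that for every n: (i) the
image of H_(n+c) → H_n is contained in, hence equal to, the image of H → H_n; (ii) the kernel and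
the cokernel of H/IⁿH → H_n are annihilated by I^c. Everything is phrased with representatives in L. -/
theorem result (A : Type u) [CommRing A] [IsNoetherianRing A] (I : Ideal A)
    (K L M : Type u) [AddCommGroup K] [Module A K] [Module.Finite A K] [AddCommGroup L] [Module A L]
    [Module.Finite A L] [AddCommGroup M] [Module A M] [Module.Finite A M]
    (α : K →ₗ[A] L) (β : L →ₗ[A] M) (hαβ : β ∘ₗ α = 0) :
    ∃ c : ℕ, 0 < c ∧ ∀ n : ℕ,
      (∀ y ∈ (I ^ (n + c) • ⊤ : Submodule A M).comap β,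
        ∃ z ∈ LinearMap.ker β, y - z ∈ LinearMap.range α ⊔ (I ^ n • ⊤ : Submodule A L)) ∧
      (∀ z ∈ LinearMap.ker β, z ∈ LinearMap.range α ⊔ (I ^ n • ⊤ : Submodule A L) →
        ∀ a ∈ I ^ c, a • z ∈ LinearMap.range α ⊔ I ^ n • LinearMap.ker β) ∧
      (∀ y ∈ (I ^ n • ⊤ : Submodule A M).comap β, ∀ a ∈ I ^ c,
        ∃ z ∈ LinearMap.ker β, a • y - z ∈ LinearMap.range α ⊔ (I ^ n • ⊤ : Submodule A L)) := by
  obtain ⟨k₁, hk₁⟩ := Ideal.exists_pow_inf_eq_pow_smul I (LinearMap.range β)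
  obtain ⟨k₂, hk₂⟩ := Ideal.exists_pow_inf_eq_pow_smul I (LinearMap.ker β)
  have h1 : ∀ n, k₁ ≤ n → ∀ y : L, β y ∈ (I ^ n • ⊤ : Submodule A M) →
      ∃ y' ∈ (I ^ (n - k₁) • ⊤ : Submodule A L), β y' = β y := by
    intro n hn y hy
    have hmem : β y ∈ (I ^ n • ⊤ ⊓ LinearMap.range β : Submodule A M) :=
      ⟨hy, LinearMap.mem_range_self β y⟩
    rw [hk₁ n hn] at hmem
    have h2 : (I ^ (n - k₁) • (I ^ k₁ • ⊤ ⊓ LinearMap.range β) : Submodule A M) ≤
        Submodule.map β (I ^ (n - k₁) • ⊤) := by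
      rw [Submodule.map_smul'', Submodule.map_top]
      exact Submodule.smul_mono le_rfl inf_le_right
    obtain ⟨y', hy', e⟩ := h2 hmem
    exact ⟨y', hy', e⟩
  have h2 : ∀ n, k₂ ≤ n → ∀ l : L, l ∈ LinearMap.ker β → l ∈ (I ^ n • ⊤ : Submodule A L) →
      l ∈ I ^ (n - k₂) • LinearMap.ker β := by
    intro n hn l hl hl'
    have hmem : l ∈ (I ^ n • ⊤ ⊓ LinearMap.ker β : Submodule A L) := ⟨hl', hl⟩
    rw [hk₂ n hn] at hmem
    exact Submodule.smul_mono le_rfl inf_le_right hmem
  have hmono : ∀ {X : Type u} [AddCommGroup X] [Module A X] (P : Submodule A X) {a b : ℕ}, a ≤ b →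
      I ^ b • P ≤ I ^ a • P := fun P a b hab =>
    Submodule.smul_mono_left (Ideal.pow_le_pow_right hab)
  refine ⟨max k₁ k₂ + 1, by omega, fun n => ⟨?_, ?_, ?_⟩⟩
  · intro y hy
    obtain ⟨y', hy', e⟩ := h1 (n + (max k₁ k₂ + 1)) (by omega) y hy
    refine ⟨y - y', by simp [LinearMap.mem_ker, e], ?_⟩
    have : y - (y - y') = y' := by abel
    rw [this]
    exact Submodule.mem_sup_right (hmono ⊤ (by omega) hy')
  · intro z hz hz' a ha
    obtain ⟨w, ⟨x, rfl⟩, l, hl, rfl⟩ := Submodule.mem_sup.mp hz'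
    have hlk : l ∈ LinearMap.ker β := by
      have h3 : β (α x + l) = 0 := hz
      have h4 : β (α x) = 0 := LinearMap.congr_fun hαβ x
      rw [map_add, h4, zero_add] at h3
      exact h3
    rw [smul_add]
    refine Submodule.add_mem_sup ⟨a • x, by simp⟩ ?_
    by_cases hn : k₂ ≤ n
    · have h5 := h2 n hn l hlk hl
      have h6 : a • l ∈ I ^ (max k₁ k₂ + 1) • (I ^ (n - k₂) • LinearMap.ker β) :=
        Submodule.smul_mem_smul ha h5
      rw [← mul_smul, ← pow_add] at h6
      exact hmono _ (by omega) h6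
    · have h6 : a • l ∈ I ^ (max k₁ k₂ + 1) • LinearMap.ker β := Submodule.smul_mem_smul ha hlk
      exact hmono _ (by omega) h6
  · intro y hy a ha
    by_cases hn : k₁ ≤ n
    · obtain ⟨y', hy', e⟩ := h1 n hn y hy
      have h6 : a • y' ∈ I ^ (max k₁ k₂ + 1) • (I ^ (n - k₁) • ⊤ : Submodule A L) :=
        Submodule.smul_mem_smul ha hy'
      rw [← mul_smul, ← pow_add] at h6
      refine ⟨a • y - a • y', by simp [LinearMap.mem_ker, e], ?_⟩
      have : a • y - (a • y - a • y') = a • y' := by abel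
      rw [this]
      exact Submodule.mem_sup_right (hmono ⊤ (by omega) h6)
    · refine ⟨0, by simp, ?_⟩
      rw [sub_zero]
      have h6 : a • y ∈ I ^ (max k₁ k₂ + 1) • (⊤ : Submodule A L) :=
        Submodule.smul_mem_smul ha Submodule.mem_top
      exact Submodule.mem_sup_right (hmono ⊤ (by omega) h6)

end Groth.Agent.S7153
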