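import Groth.Statements.S7136
import Mathlib
import Groth.Agent.S7153

set_option autoImplicit false
universe u
open scoped TensorProduct
open CAlg

namespace Groth.Agent.S7136


theorem mem_smul_top_pi {A : Type u} [CommRing A] (J : Ideal A) {r : ℕ} {X : Type u}
    [AddCommGroup X] [Module A X] (y : Fin r → X) :
    y ∈ (J • ⊤ : Submodule A (Fin r → X)) ↔ ∀ i, y i ∈ (J • ⊤ : Submodule A X) := by
  constructor
  · intro hy i
    have h1 : (LinearMap.proj i : (Fin r → X) →ₗ[A] X) y ∈
        Submodule.map (LinearMap.proj i : (Fin r → X) →ₗ[A] X) (J • ⊤) := ⟨y, hy, rfl⟩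
    rw [Submodule.map_smul''] at h1
    exact Submodule.smul_mono le_rfl le_top h1
  · intro hy
    have e : y = ∑ i, (LinearMap.single A (fun _ : Fin r => X) i) (y i) := by
      ext j
      simp [Finset.sum_apply, Pi.single_apply]
    rw [e]
    refine Submodule.sum_mem _ (fun i _ => ?_)
    have h1 : (LinearMap.single A (fun _ : Fin r => X) i) (y i) ∈
        Submodule.map (LinearMap.single A (fun _ : Fin r => X) i) (J • ⊤) := ⟨_, hy i, rfl⟩
    rw [Submodule.map_smul''] at h1
    exact Submodule.smul_mono le_rfl le_top h1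

section pres
variable {A : Type u} [CommRing A] {M : Type u} [AddCommGroup M] [Module A M]
  {r s : ℕ} (π : (Fin r → A) →ₗ[A] M) (κ : (Fin s → A) →ₗ[A] (Fin r → A))

/-- evaluation of a hom on the images of the basis -/
def Psi (X : Type u) [AddCommGroup X] [Module A X] : (M →ₗ[A] X) →ₗ[A] (Fin r → X) :=
  LinearMap.pi (fun i => LinearMap.applyₗ (π (Pi.single i 1)))

/-- the transposed relation matrix -/
def beta (X : Type u) [AddCommGroup X] [Module A X] : (Fin r → X) →ₗ[A] (Fin s → X) :=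
  LinearMap.pi (fun j => ∑ i, (κ (Pi.single j 1) i) • (LinearMap.proj i : (Fin r → X) →ₗ[A] X))

theorem Psi_apply (X : Type u) [AddCommGroup X] [Module A X] (φ : M →ₗ[A] X) (i : Fin r) :
    Psi π X φ i = φ (π (Pi.single i 1)) := rfl

theorem beta_apply (X : Type u) [AddCommGroup X] [Module A X] (y : Fin r → X) (j : Fin s) :
    beta κ X y j = ∑ i, (κ (Pi.single j 1) i) • y i := by
  simp [beta, LinearMap.sum_apply]

theorem sum_single_eq (v : Fin r → A) : ∑ i, v i • (Pi.single i (1 : A) : Fin r → A) = v := by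
  ext j
  simp [Finset.sum_apply, Pi.single_apply]

theorem Psi_injective (hπ : Function.Surjective π) (X : Type u) [AddCommGroup X] [Module A X] :
    Function.Injective (Psi π X) := by
  intro φ φ' h
  have h1 : φ ∘ₗ π = φ' ∘ₗ π := by
    apply LinearMap.pi_ext'
    intro i
    ext
    simp only [LinearMap.comp_apply, LinearMap.single_apply]
    exact congrFun h i
  ext x
  obtain ⟨v, rfl⟩ := hπ x
  exact LinearMap.congr_fun h1 v

theorem beta_Psi (hκ : π ∘ₗ κ = 0) (X : Type u) [AddCommGroup X] [Module A X] (φ : M →ₗ[A] X) :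
    beta κ X (Psi π X φ) = 0 := by
  ext j
  rw [beta_apply]
  simp only [Psi_apply, Pi.zero_apply]
  have : ∑ i, (κ (Pi.single j 1) i) • φ (π (Pi.single i 1)) =
      φ (π (∑ i, (κ (Pi.single j 1) i) • (Pi.single i (1 : A) : Fin r → A))) := by
    simp only [map_sum, map_smul]
  rw [this, sum_single_eq]
  have := LinearMap.congr_fun hκ (Pi.single j 1)
  simp only [LinearMap.comp_apply, LinearMap.zero_apply] at this
  rw [this, map_zero]

theorem exists_Psi_eq (hπ : Function.Surjective π) (hex : LinearMap.ker π ≤ LinearMap.range κ)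
    (X : Type u) [AddCommGroup X] [Module A X] (z : Fin r → X) (hz : beta κ X z = 0) :
    ∃ φ : M →ₗ[A] X, Psi π X φ = z := by
  let zh : (Fin r → A) →ₗ[A] X := Fintype.linearCombination A z
  have hzh : ∀ v, zh v = ∑ i, v i • z i := fun v => rfl
  have hk : ∀ w : Fin s → A, zh (κ w) = 0 := by
    intro w
    have e : w = ∑ j, w j • (Pi.single j (1 : A) : Fin s → A) := (sum_single_eq w).symm
    rw [e]
    simp only [map_sum, map_smul]
    refine Finset.sum_eq_zero (fun j _ => ?_)
    have h1 : zh (κ (Pi.single j 1)) = beta κ X z j := by rw [hzh, beta_apply]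
    rw [h1, hz]
    simp
  have hle : LinearMap.ker π ≤ LinearMap.ker zh := by
    intro v hv
    obtain ⟨w, rfl⟩ := hex hv
    exact hk w
  let e := π.quotKerEquivOfSurjective hπ
  refine ⟨(LinearMap.ker π).liftQ zh hle ∘ₗ e.symm.toLinearMap, ?_⟩
  ext i
  rw [Psi_apply]
  have h2 : e.symm (π (Pi.single i 1)) = Submodule.Quotient.mk (Pi.single i 1) := by
    rw [LinearEquiv.symm_apply_eq]
    rfl
  simp only [LinearMap.comp_apply, LinearEquiv.coe_coe, h2, Submodule.liftQ_apply]
  rw [hzh]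
  simp [Pi.single_apply]

end pres

/-- Let A be a Noetherian ring, I an ideal, and M, N finite A-modules; write N_n = N/IⁿN, so that
Hom_A(M/IⁿM, N_n) = Hom_A(M, N_n). Then (1) the inverse system (Hom_A(M, N_n))_n, with transition
maps induced by the projections N_k → N_n, is Mittag-Leffler; (2) there is c ≥ 0 such that for all n
the kernel and the cokernel of Hom_A(M, N)/IⁿHom_A(M, N) → Hom_A(M, N_n) are annihilated by I^c. -/
theorem result (A : Type u) [CommRing A] [IsNoetherianRing A]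
    (I : Ideal A) (M N : Type u) [AddCommGroup M] [Module A M] [Module.Finite A M] [AddCommGroup N] [Module A N]
    [Module.Finite A N] :
    let Nq : ℕ → Submodule A N := fun n => I ^ n • ⊤
    let pr : ∀ n k : ℕ, n ≤ k → (N ⧸ Nq k) →ₗ[A] (N ⧸ Nq n) :=
      fun n k hnk => Submodule.mapQ (Nq k) (Nq n) (LinearMap.id : N →ₗ[A] N) (Submodule.smul_mono_left (Ideal.pow_le_pow_right hnk))
    let red : ∀ n : ℕ, (M →ₗ[A] N) → (M →ₗ[A] N ⧸ Nq n) := fun n φ => (Nq n).mkQ ∘ₗ φ
    (∀ n : ℕ, ∃ m : ℕ, n ≤ m ∧ ∀ (k : ℕ) (hmk : m ≤ k) (hnm : n ≤ m) (ψ : M →ₗ[A] N ⧸ Nq m),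
        ∃ ψ' : M →ₗ[A] N ⧸ Nq k, pr n k (hnm.trans hmk) ∘ₗ ψ' = pr n m hnm ∘ₗ ψ) ∧
    ∃ c : ℕ, ∀ n : ℕ,
      (∀ φ : M →ₗ[A] N, red n φ = 0 → ∀ a ∈ I ^ c, a • φ ∈ (I ^ n • ⊤ : Submodule A (M →ₗ[A] N))) ∧
      (∀ (ψ : M →ₗ[A] N ⧸ Nq n), ∀ a ∈ I ^ c, ∃ φ : M →ₗ[A] N, red n φ = a • ψ) := by
  intro Nq pr red
  classical
  obtain ⟨r, π, hπ⟩ := Module.Finite.exists_fin' A M
  haveI : Module.Finite A (LinearMap.ker π) := Module.Finite.iff_fg.mpr (IsNoetherian.noetherian _)
  obtain ⟨s, g, hg⟩ := Module.Finite.exists_fin' A (LinearMap.ker π)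
  let κ : (Fin s → A) →ₗ[A] (Fin r → A) := (LinearMap.ker π).subtype ∘ₗ g
  have hκ : π ∘ₗ κ = 0 := by
    ext w
    simp only [κ, LinearMap.comp_apply, Submodule.subtype_apply, LinearMap.zero_apply]
    exact (g (Pi.single w 1)).2
  have hex : LinearMap.ker π ≤ LinearMap.range κ := by
    intro v hv
    obtain ⟨w, hw⟩ := hg ⟨v, hv⟩
    exact ⟨w, by simp [κ, hw]⟩
  obtain ⟨c, hc, H⟩ := Groth.Agent.S7153.result A I N (Fin r → N) (Fin s → N) 0 (beta κ N) (by simp)
  simp only [LinearMap.range_zero, bot_sup_eq] at H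
  have hext : ∀ (X : Type u) [AddCommGroup X] [Module A X] (φ φ' : M →ₗ[A] X),
      (∀ i, φ (π (Pi.single i 1)) = φ' (π (Pi.single i 1))) → φ = φ' := by
    intro X _ _ φ φ' h
    apply Psi_injective π hπ X
    ext i
    exact h i
  have K1 : ∀ (m : ℕ) (ψ : M →ₗ[A] N ⧸ Nq m) (y : Fin r → N),
      (∀ i, (Nq m).mkQ (y i) = ψ (π (Pi.single i 1))) →
      beta κ N y ∈ (I ^ m • ⊤ : Submodule A (Fin s → N)) := by
    intro m ψ y hy
    rw [mem_smul_top_pi]
    intro j
    have h1 := congrFun (beta_Psi π κ hκ (N ⧸ Nq m) ψ) j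
    rw [beta_apply] at h1
    simp only [Psi_apply, Pi.zero_apply] at h1
    have h2 : (Nq m).mkQ (beta κ N y j) = 0 := by
      rw [beta_apply, map_sum, ← h1]
      refine Finset.sum_congr rfl (fun i _ => ?_)
      rw [map_smul, hy i]
    rw [Submodule.mkQ_apply, Submodule.Quotient.mk_eq_zero] at h2
    exact h2
  have hmk : ∀ (m : ℕ) (u v : N), u - v ∈ (I ^ m • ⊤ : Submodule A N) →
      (Nq m).mkQ u = (Nq m).mkQ v := by
    intro m u v h
    rw [Submodule.mkQ_apply, Submodule.mkQ_apply, Submodule.Quotient.eq]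
    exact h
  constructor
  · intro n
    refine ⟨n + c, Nat.le_add_right n c, fun k hmk' hnm ψ => ?_⟩
    choose y hy using fun i => Submodule.mkQ_surjective (Nq (n + c)) (ψ (π (Pi.single i 1)))
    have hβ := K1 (n + c) ψ y hy
    obtain ⟨z, hz, hyz⟩ := (H n).1 y hβ
    obtain ⟨φ, hφ⟩ := exists_Psi_eq π κ hπ hex N z hz
    refine ⟨red k φ, ?_⟩
    apply hext
    intro i
    have hφi : φ (π (Pi.single i 1)) = z i := congrFun hφ i
    show pr n k (hnm.trans hmk') ((Nq k).mkQ (φ (π (Pi.single i 1)))) =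
      pr n (n + c) hnm (ψ (π (Pi.single i 1)))
    rw [← hy i, hφi]
    show (Nq n).mkQ (z i) = (Nq n).mkQ (y i)
    apply hmk
    have := (mem_smul_top_pi (I ^ n) (y - z)).mp hyz i
    rw [← neg_sub]
    exact neg_mem this
  · refine ⟨c, fun n => ⟨?_, ?_⟩⟩
    · intro φ hφ a ha
      have hz : beta κ N (Psi π N φ) = 0 := beta_Psi π κ hκ N φ
      have hz' : Psi π N φ ∈ (I ^ n • ⊤ : Submodule A (Fin r → N)) := by
        rw [mem_smul_top_pi]
        intro i
        have h1 := LinearMap.congr_fun hφ (π (Pi.single i 1))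
        have h2 : (Nq n).mkQ (φ (π (Pi.single i 1))) = 0 := h1
        rw [Submodule.mkQ_apply, Submodule.Quotient.mk_eq_zero] at h2
        exact h2
      have h3 := (H n).2.1 (Psi π N φ) hz hz' a ha
      have hker : LinearMap.ker (beta κ N) = LinearMap.range (Psi π N) := by
        apply le_antisymm
        · intro z hz
          obtain ⟨φ', hφ'⟩ := exists_Psi_eq π κ hπ hex N z hz
          exact ⟨φ', hφ'⟩
        · rintro _ ⟨φ', rfl⟩
          exact beta_Psi π κ hκ N φ'
      rw [hker, LinearMap.range_eq_map, ← Submodule.map_smul''] at h3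
      obtain ⟨φ', hφ', e⟩ := h3
      have e2 : φ' = a • φ := by
        apply Psi_injective π hπ N
        rw [e, map_smul]
      rw [← e2]
      exact hφ'
    · intro ψ a ha
      choose y hy using fun i => Submodule.mkQ_surjective (Nq n) (ψ (π (Pi.single i 1)))
      have hβ := K1 n ψ y hy
      obtain ⟨z, hz, hyz⟩ := (H n).2.2 y hβ a ha
      obtain ⟨φ, hφ⟩ := exists_Psi_eq π κ hπ hex N z hz
      refine ⟨φ, ?_⟩
      apply hext
      intro i
      have hφi : φ (π (Pi.single i 1)) = z i := congrFun hφ i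
      show (Nq n).mkQ (φ (π (Pi.single i 1))) = a • ψ (π (Pi.single i 1))
      rw [← hy i, hφi, ← map_smul]
      apply hmk
      have := (mem_smul_top_pi (I ^ n) (a • y - z)).mp hyz i
      rw [← neg_sub]
      exact neg_mem this

end Groth.Agent.S7136
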