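import Groth.Statements.S7144
import Mathlib

set_option autoImplicit false
universe u
open CAlg

namespace Groth.Agent.S7144

/-- (1) ⇔ (2): let R be a nonzero ring. Then for all a, b in R one of a, b divides the other if and only
if R is local and every finitely generated ideal of R is principal. (The further equivalence with
the total ordering of the set of ideals by inclusion is standard and not restated here.) -/
theorem result (R : Type u) [CommRing R] [Nontrivial R] :
    PreValuationRing R ↔ IsLocalRing R ∧ IsBezout R := by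
  constructor
  · intro h
    refine ⟨inferInstance, ?_⟩
    rw [IsBezout.iff_span_pair_isPrincipal]
    intro x y
    rw [Ideal.span_insert]
    rcases (ValuationRing.le_total_ideal R).total (Ideal.span {x}) (Ideal.span {y}) with h | h
    · rw [sup_eq_right.mpr h]; exact ⟨⟨_, rfl⟩⟩
    · rw [sup_eq_left.mpr h]; exact ⟨⟨_, rfl⟩⟩
  · rintro ⟨hl, hb⟩
    rw [PreValuationRing.iff_dvd_total]
    refine ⟨fun a b => ?_⟩
    obtain ⟨g, e⟩ : ∃ g : R, Ideal.span {a, b} = Ideal.span {g} := by
      obtain ⟨g, hg⟩ := (IsBezout.iff_span_pair_isPrincipal.mp hb a b).principal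
      exact ⟨g, hg⟩
    obtain ⟨a, rfl⟩ := Ideal.mem_span_singleton'.mp
        (show a ∈ Ideal.span {g} by rw [← e]; exact Ideal.subset_span (by simp))
    obtain ⟨b, rfl⟩ := Ideal.mem_span_singleton'.mp
        (show b ∈ Ideal.span {g} by rw [← e]; exact Ideal.subset_span (by simp))
    obtain ⟨x, y, e'⟩ := Ideal.mem_span_pair.mp
        (show g ∈ Ideal.span {a * g, b * g} by rw [e]; exact Ideal.subset_span (by simp))
    by_cases ha : IsUnit a
    · left
      obtain ⟨u, rfl⟩ := ha
      exact ⟨(↑u⁻¹ : R) * b, by
        rw [← mul_assoc, mul_comm (↑u * g), mul_assoc, ← mul_assoc (↑u⁻¹ : R), ← mul_assoc]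
        simp [mul_comm, mul_assoc]⟩
    by_cases hb' : IsUnit b
    · right
      obtain ⟨u, rfl⟩ := hb'
      exact ⟨(↑u⁻¹ : R) * a, by
        rw [← mul_assoc, mul_comm (↑u * g), mul_assoc, ← mul_assoc (↑u⁻¹ : R), ← mul_assoc]
        simp [mul_comm, mul_assoc]⟩
    · have hxa : x * a ∈ IsLocalRing.maximalIdeal R :=
        Ideal.mul_mem_left _ _ ((IsLocalRing.mem_maximalIdeal a).mpr ha)
      have hyb : y * b ∈ IsLocalRing.maximalIdeal R :=
        Ideal.mul_mem_left _ _ ((IsLocalRing.mem_maximalIdeal b).mpr hb')
      have hsum : x * a + y * b ∈ IsLocalRing.maximalIdeal R := Ideal.add_mem _ hxa hyb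
      have hunit : IsUnit (1 - (x * a + y * b)) := by
        by_contra hnu
        have h2 : (1 - (x * a + y * b)) ∈ IsLocalRing.maximalIdeal R :=
          (IsLocalRing.mem_maximalIdeal _).mpr hnu
        have h1 : (1 : R) ∈ IsLocalRing.maximalIdeal R := by
          have := Ideal.add_mem _ h2 hsum
          simpa using this
        exact (Ideal.ne_top_iff_one _).mp (IsLocalRing.maximalIdeal.isMaximal R).ne_top h1
      have hg0 : (1 - (x * a + y * b)) * g = 0 := by
        have : (1 - (x * a + y * b)) * g = g - (x * (a * g) + y * (b * g)) := by ring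
        rw [this, e', sub_self]
      have hg : g = 0 := by
        obtain ⟨u, hu⟩ := hunit
        rw [← hu] at hg0
        exact (Units.mul_right_eq_zero u).mp hg0
      left
      rw [hg]
      simp

end Groth.Agent.S7144
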