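import Groth.Statements.S7146
import Mathlib

set_option autoImplicit false
universe u
open scoped TensorProduct
open Filter
open CAlg

namespace Groth.Agent.S7146


open Finset in
/-- length of `R/I^(n+1)` is bounded by that of `R/I^n` plus (number of monomials)·length(R/I) -/
theorem aux1 {R : Type u} [CommRing R] {d : ℕ} (g : Fin d → R) (n : ℕ) :
    Module.length R (R ⧸ Ideal.span (Set.range g) ^ (n + 1)) ≤
      Module.length R (R ⧸ Ideal.span (Set.range g) ^ n) +
        (Nat.multichoose d n : ℕ∞) * Module.length R (R ⧸ Ideal.span (Set.range g)) := by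
  classical
  set I := Ideal.span (Set.range g) with hI
  have hle : I ^ (n + 1) ≤ I ^ n := Ideal.pow_le_pow_right (Nat.le_succ n)
  let π : (R ⧸ I ^ (n + 1)) →ₗ[R] (R ⧸ I ^ n) := Submodule.factor hle
  have hπ : Function.Surjective π := Submodule.factor_surjective hle
  have hlen := Module.length_eq_add_of_exact (LinearMap.ker π).subtype π
    (Submodule.subtype_injective _) hπ (LinearMap.exact_subtype_ker_map π)
  rw [hlen, add_comm]
  gcongr
  -- the index set of monomials
  let A : Finset (Fin d →₀ ℕ) := (Finset.univ : Finset (Fin d)).finsuppAntidiag n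
  have hA : A.card = Nat.multichoose d n := by
    rw [Finset.card_finsuppAntidiag_nat_eq_multichoose, Finset.card_univ, Fintype.card_fin]
  have hmemA : ∀ α : Fin d →₀ ℕ, α ∈ A ↔ ∑ i, α i = n := by
    intro α
    simp [A, Finset.mem_finsuppAntidiag]
  let mon : (Fin d →₀ ℕ) → R := fun α => ∏ i, g i ^ α i
  have hmon : ∀ α ∈ A, mon α ∈ I ^ n := by
    intro α hα
    rw [hmemA] at hα
    rw [← hα, ← Finset.prod_pow_eq_pow_sum]
    refine Ideal.prod_mem_prod fun i _ => ?_
    exact Ideal.pow_mem_pow (Ideal.subset_span (Set.mem_range_self i) : g i ∈ I) _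
  -- the maps R/I → R/I^(n+1)
  have hkill : ∀ α ∈ A, I ≤ LinearMap.ker (LinearMap.toSpanSingleton R (R ⧸ I ^ (n + 1))
      (Submodule.mkQ (I ^ (n + 1)) (mon α))) := by
    intro α hα r hr
    rw [LinearMap.mem_ker, LinearMap.toSpanSingleton_apply, ← map_smul, Submodule.mkQ_apply,
      Submodule.Quotient.mk_eq_zero, smul_eq_mul, pow_succ']
    exact Ideal.mul_mem_mul hr (hmon α hα)
  let φ : (A → R ⧸ I) →ₗ[R] (R ⧸ I ^ (n + 1)) :=
    ∑ α : A, (Submodule.liftQ I _ (hkill α.1 α.2)) ∘ₗ LinearMap.proj α
  have hker : LinearMap.ker π ≤ LinearMap.range φ := by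
    intro x hx
    obtain ⟨y, rfl⟩ := Submodule.mkQ_surjective _ x
    have hy : y ∈ I ^ n := by
      rw [LinearMap.mem_ker, Submodule.factor_mk, Submodule.mkQ_apply,
        Submodule.Quotient.mk_eq_zero] at hx
      exact hx
    obtain ⟨p, hp, rfl⟩ := (Ideal.mem_span_pow_iff_exists_isHomogeneous g y).mp hy
    refine ⟨fun α => Submodule.mkQ I (p.coeff α.1), ?_⟩
    simp only [φ, LinearMap.sum_apply, LinearMap.comp_apply, LinearMap.proj_apply,
      Submodule.mkQ_apply, Submodule.liftQ_apply, LinearMap.toSpanSingleton_apply]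
    rw [MvPolynomial.eval_eq', ← Submodule.mkQ_apply, map_sum]
    simp only [Submodule.mkQ_apply]
    have hsupp : p.support ⊆ A := by
      intro α hα
      rw [hmemA]
      have := hp (MvPolynomial.mem_support_iff.mp hα)
      rw [Finsupp.weight_apply] at this
      simpa [Finsupp.sum_fintype] using this
    rw [Finset.sum_coe_sort A (fun α => p.coeff α • Submodule.Quotient.mk (p := I ^ (n + 1)) (mon α))]
    rw [← Finset.sum_subset hsupp]
    · refine Finset.sum_congr rfl fun α _ => ?_
      rw [← Submodule.Quotient.mk_smul, smul_eq_mul]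
    · intro α _ hα
      rw [MvPolynomial.notMem_support_iff.mp hα, zero_smul]
  calc Module.length R (LinearMap.ker π)
      ≤ Module.length R (LinearMap.range φ) :=
        Module.length_le_of_injective (Submodule.inclusion hker) (Submodule.inclusion_injective hker)
    _ ≤ Module.length R (A → R ⧸ I) :=
        Module.length_le_of_surjective φ.rangeRestrict φ.surjective_rangeRestrict
    _ = (Nat.multichoose d n : ℕ∞) * Module.length R (R ⧸ I) := by
        rw [Module.length_pi_of_fintype, Finset.sum_const, Finset.card_univ, Fintype.card_coe, hA,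
          nsmul_eq_mul]


theorem aux2 {R : Type u} [CommRing R] {d : ℕ} (g : Fin d → R) (n : ℕ) :
    Module.length R (R ⧸ Ideal.span (Set.range g) ^ n) ≤
      ((∑ k ∈ Finset.range n, Nat.multichoose d k : ℕ) : ℕ∞) *
        Module.length R (R ⧸ Ideal.span (Set.range g)) := by
  induction n with
  | zero =>
    have : Subsingleton (R ⧸ Ideal.span (Set.range g) ^ 0) := by
      rw [Ideal.Quotient.subsingleton_iff, pow_zero, Ideal.one_eq_top]
    rw [Module.length_eq_zero]
    exact bot_le
  | succ n ih =>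
    refine (aux1 g n).trans ?_
    rw [Finset.sum_range_succ, Nat.cast_add, add_mul]
    gcongr

theorem aux3 (d n : ℕ) : ∑ k ∈ Finset.range (n + 1), Nat.multichoose d k = Nat.multichoose (d + 1) n := by
  induction n with
  | zero => simp
  | succ n ih =>
    rw [Finset.sum_range_succ, ih, Nat.multichoose_succ_succ, add_comm]

theorem aux4 (d n : ℕ) : d.factorial * Nat.multichoose (d + 1) n = ∏ i ∈ Finset.range d, (n + 1 + i) := by
  rw [← Nat.ascFactorial_eq_prod_range, Nat.ascFactorial_eq_factorial_mul_choose, Nat.multichoose_eq]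
  congr 1
  have h1 : d + 1 + n - 1 = n + d := by omega
  rw [h1, ← Nat.choose_symm_add]

theorem aux5 (d : ℕ) (l : ℝ) :
    Filter.Tendsto (fun n : ℕ => l * ∏ i ∈ Finset.range d, (1 + (i : ℝ) / (n : ℝ))) Filter.atTop
      (nhds l) := by
  have h1 : Filter.Tendsto (fun n : ℕ => ∏ i ∈ Finset.range d, (1 + (i : ℝ) / (n : ℝ))) Filter.atTop
      (nhds (∏ _i ∈ Finset.range d, (1 : ℝ))) := by
    apply tendsto_finsetProd
    intro i _
    have := (tendsto_const_nhds (x := (1 : ℝ)) (f := Filter.atTop)).add
      (tendsto_const_div_atTop_nhds_zero_nat (i : ℝ))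
    simpa using this
  have h2 := h1.const_mul l
  simpa using h2

/-- Let R be a Noetherian local ring of Krull dimension d and I the ideal generated by a system of
parameters g_1, ..., g_d (d elements of the maximal ideal generating an ideal with radical the
maximal ideal); let e_I be the multiplicity of I, i.e. d! times the top coefficient of the numerical
polynomial n ↦ length(R/I^(n+1)), equivalently the limit of d!·length(R/Iⁿ)/n^d. Then e_I ≤
length(R/I). (Stated for a natural number e equal to that limit.) -/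
theorem result (R : Type u) [CommRing R] [IsNoetherianRing R] [IsLocalRing R]
    (d : ℕ) (hd : ringKrullDim R = d) (g : Fin d → R) (hg : ∀ i, g i ∈ IsLocalRing.maximalIdeal R)
    (hsop : IsLocalRing.maximalIdeal R ≤ (Ideal.span (Set.range g)).radical) (e : ℕ)
    (he : Tendsto (fun n : ℕ => (d.factorial : ℝ) * ((Module.length R (R ⧸ Ideal.span (Set.range g) ^ n)).toNat : ℝ) / (n : ℝ) ^ d)
      atTop (nhds (e : ℝ))) :
    (e : ℕ∞) ≤ Module.length R (R ⧸ Ideal.span (Set.range g)) := by
  classical
  by_cases hL : Module.length R (R ⧸ Ideal.span (Set.range g)) = ⊤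
  · rw [hL]; exact le_top
  obtain ⟨l, hl⟩ := ENat.ne_top_iff_exists.mp hL
  rw [← hl]
  have hle : (e : ℝ) ≤ (l : ℝ) := by
    refine le_of_tendsto_of_tendsto he (aux5 d l) ?_
    rw [Filter.EventuallyLE, Filter.eventually_atTop]
    refine ⟨1, fun n hn => ?_⟩
    obtain ⟨m, rfl⟩ : ∃ m, n = m + 1 := ⟨n - 1, by omega⟩
    have h1 := aux2 g (m + 1)
    rw [aux3, ← hl] at h1
    have h2 : (Module.length R (R ⧸ Ideal.span (Set.range g) ^ (m + 1))).toNat ≤
        Nat.multichoose (d + 1) m * l := by
      have h1' : Module.length R (R ⧸ Ideal.span (Set.range g) ^ (m + 1)) ≤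
          ((Nat.multichoose (d + 1) m * l : ℕ) : ℕ∞) := by
        rw [Nat.cast_mul]
        exact h1
      exact ENat.toNat_le_of_le_natCast h1'
    set t := (Module.length R (R ⧸ Ideal.span (Set.range g) ^ (m + 1))).toNat with ht
    have hpos : (0 : ℝ) < ((m + 1 : ℕ) : ℝ) := by positivity
    have h3 : (d.factorial : ℝ) * (t : ℝ) ≤
        (∏ i ∈ Finset.range d, (((m + 1 : ℕ) : ℝ) + (i : ℝ))) * (l : ℝ) := by
      have h4 := aux4 d m
      have h5 : (d.factorial : ℝ) * (t : ℝ) ≤ (d.factorial : ℝ) * ((Nat.multichoose (d + 1) m * l : ℕ) : ℝ) := by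
        gcongr
      refine h5.trans (le_of_eq ?_)
      rw [Nat.cast_mul, ← mul_assoc, ← Nat.cast_mul, h4]
      push_cast
      rfl
    have hprod : ∏ i ∈ Finset.range d, (1 + (i : ℝ) / ((m + 1 : ℕ) : ℝ)) =
        (∏ i ∈ Finset.range d, (((m + 1 : ℕ) : ℝ) + (i : ℝ))) / ((m + 1 : ℕ) : ℝ) ^ d := by
      have : ((m + 1 : ℕ) : ℝ) ^ d = ∏ _i ∈ Finset.range d, ((m + 1 : ℕ) : ℝ) := by
        rw [Finset.prod_const, Finset.card_range]
      rw [this, ← Finset.prod_div_distrib]
      refine Finset.prod_congr rfl fun i _ => ?_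
      field_simp
    show (d.factorial : ℝ) * (t : ℝ) / ((m + 1 : ℕ) : ℝ) ^ d ≤
      (l : ℝ) * ∏ i ∈ Finset.range d, (1 + (i : ℝ) / ((m + 1 : ℕ) : ℝ))
    rw [hprod, ← mul_div_assoc, mul_comm (l : ℝ)]
    exact div_le_div_of_nonneg_right h3 (by positivity)
  exact_mod_cast hle

end Groth.Agent.S7146
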