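import Groth.Statements.S7149
import Mathlib
import Groth.Agent.Helper3.DRingExt3

set_option autoImplicit false
universe u
open scoped TensorProduct
open CategoryTheory
attribute [local instance] HasDerivedCategory.standard
open CAlg

namespace Groth.Agent.S7149

/-- Let A be a Noetherian ring, I an ideal, K a pseudo-coherent object of D(A) and M a finite A-module.
For each integer p there is c such that for all n ≥ c the image of Ext^p_A(K, IⁿM) → Ext^p_A(K, M)
is contained in I^(n-c)·Ext^p_A(K, M); here Ext^p(K, X) = Hom_{D(A)}(K, X[p]) with its natural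
A-module structure. -/
theorem result (A : Type u) [CommRing A] [IsNoetherianRing A] (I : Ideal A)
    (K : Dual.D A) (hK : DRing.IsPseudoCoherent' A K) (M : Type u) [AddCommGroup M] [Module A M] [Module.Finite A M]
    (p : ℤ) :
    ∃ c : ℕ, ∀ n : ℕ, c ≤ n →
      ∀ e : K ⟶ (Dual.inD A ↥(I ^ n • ⊤ : Submodule A M))⟦p⟧,
        e ≫ ((DerivedCategory.singleFunctor (ModuleCat.{u} A) 0).map
              (ModuleCat.ofHom (I ^ n • ⊤ : Submodule A M).subtype))⟦p⟧' ∈
          (I ^ (n - c) • ⊤ : Submodule A (K ⟶ (Dual.inD A M)⟦p⟧)) := by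
  obtain ⟨E, b, hb, hff, ⟨eK⟩⟩ := hK
  haveI : E.IsKProjective := Groth.Agent.Helper3.DRingLib.isKProjective_of_vanishesAbove E b hb
    (fun i => by
      haveI := (hff i).2
      exact Module.Projective.of_free)
  obtain ⟨c, hc⟩ := Groth.Agent.Helper3.DRingLib.ext_pow_image_core I E hff M p
  refine ⟨c, fun n hn e => ?_⟩
  have h1 := hc n hn (eK.hom ≫ e)
  have h2 : Submodule.map (Linear.leftComp A ((Dual.inD A M)⟦p⟧) eK.inv)
      (I ^ (n - c) • ⊤ : Submodule A (DRing.toD E ⟶ (Dual.inD A M)⟦p⟧)) ≤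
      (I ^ (n - c) • ⊤ : Submodule A (K ⟶ (Dual.inD A M)⟦p⟧)) := by
    rw [Submodule.map_smul'']
    exact Submodule.smul_mono le_rfl le_top
  have h3 := h2 (Submodule.mem_map_of_mem h1)
  convert h3 using 1
  simp

end Groth.Agent.S7149
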