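import Groth.Statements.S7164
import Mathlib
import Groth.Agent.Helper3.DRingExt2
import Groth.Agent.Helper3.ARExt

set_option autoImplicit false
universe u
open scoped TensorProduct
open CategoryTheory
attribute [local instance] HasDerivedCategory.standard
open CAlg

namespace Groth.Agent.S7164

/-- Let A be a Noetherian ring, I an ideal, K a pseudo-coherent object of D(A) and a an integer. Assume
that for every finite A-module M and every i ≥ a the module Ext^i_A(K, M) is I-power torsion. Then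
for i ≥ a and M finite the inverse system (Ext^i_A(K, M/IⁿM))_n is essentially constant with value
Ext^i_A(K, M) (so that Ext^i_A(K, M) = lim Ext^i_A(K, M/IⁿM)): concretely, some comparison map
Ext^i(K, M) → Ext^i(K, M/I^mM) is injective and for every n there is m' ≥ n such that the image of
the transition map Ext^i(K, M/I^(m')M) → Ext^i(K, M/IⁿM) is contained in the image of Ext^i(K, M).
Here Ext^i(K, X) = Hom_{D(A)}(K, X[i]). -/
theorem result (A : Type u) [CommRing A] [IsNoetherianRing A]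
    (I : Ideal A) (K : Dual.D A) (hK : DRing.IsPseudoCoherent' A K) (a : ℤ)
    (htors : ∀ (M : Type u) [AddCommGroup M] [Module A M], Module.Finite A M → ∀ i : ℤ, a ≤ i →
      ∀ e : K ⟶ (Dual.inD A M)⟦i⟧, ∃ n : ℕ, ∀ x ∈ I ^ n, x • e = 0)
    (M : Type u) [AddCommGroup M] [Module A M] [Module.Finite A M] (i : ℤ) (hi : a ≤ i) :
    let Mq : ℕ → Submodule A M := fun n => I ^ n • ⊤
    let c : ∀ n : ℕ, (K ⟶ (Dual.inD A M)⟦i⟧) → (K ⟶ (Dual.inD A (M ⧸ Mq n))⟦i⟧) :=
      fun n e => e ≫ ((DerivedCategory.singleFunctor (ModuleCat.{u} A) 0).map (ModuleCat.ofHom (Mq n).mkQ))⟦i⟧'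
    let t : ∀ n m : ℕ, n ≤ m → (K ⟶ (Dual.inD A (M ⧸ Mq m))⟦i⟧) → (K ⟶ (Dual.inD A (M ⧸ Mq n))⟦i⟧) :=
      fun n m hnm e => e ≫ ((DerivedCategory.singleFunctor (ModuleCat.{u} A) 0).map (ModuleCat.ofHom
        (Submodule.mapQ (Mq m) (Mq n) (LinearMap.id : M →ₗ[A] M) (Submodule.smul_mono_left (Ideal.pow_le_pow_right hnm)))))⟦i⟧'
    (∃ m : ℕ, Function.Injective (c m)) ∧
      ∀ n : ℕ, ∃ (m' : ℕ) (hnm : n ≤ m'), Set.range (t n m' hnm) ⊆ Set.range (c n) := by
  intro Mq c t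
  obtain ⟨E, b, hb, hff, ⟨eK⟩⟩ := hK
  haveI : E.IsKProjective := Groth.Agent.Helper3.DRingLib.isKProjective_of_vanishesAbove E b hb
    (fun i => by
      haveI := (hff i).2
      exact Module.Projective.of_free)
  have htorsE : ∀ e : DRing.toD E ⟶ (Dual.inD A M)⟦i⟧, ∃ n : ℕ, ∀ x ∈ I ^ n, x • e = 0 := by
    intro e
    obtain ⟨n, hn⟩ := htors M inferInstance i hi (eK.inv ≫ e)
    refine ⟨n, fun x hx => ?_⟩
    have h1 := hn x hx
    rw [← Linear.comp_smul] at h1
    rw [← cancel_epi eK.inv, h1, Limits.comp_zero]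
  obtain ⟨⟨m, hm⟩, h2⟩ :=
    Groth.Agent.Helper3.DRingLib.ext_essentially_constant_core I E hff M i htorsE
  constructor
  · refine ⟨m, fun e e' hee' => ?_⟩
    have h3 := hm (eK.hom ≫ e) (eK.hom ≫ e') (by
      rw [Category.assoc, Category.assoc]
      exact congrArg (fun z => eK.hom ≫ z) hee')
    exact (cancel_epi eK.hom).mp h3
  · intro n
    obtain ⟨m', hnm, hm'⟩ := h2 n
    refine ⟨m', hnm, ?_⟩
    rintro _ ⟨ebar, rfl⟩
    obtain ⟨e, he⟩ := hm' (eK.hom ≫ ebar)
    refine ⟨eK.inv ≫ e, ?_⟩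
    change (eK.inv ≫ e) ≫ _ = ebar ≫ _
    rw [Category.assoc, he, Category.assoc, Iso.inv_hom_id_assoc]

end Groth.Agent.S7164
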