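import Groth.Statements.S7172
import Mathlib
import Groth.Agent.Helper9.FlatPC3
import Groth.Agent.Helper3.TorDimA
-- import your own Groth.Agent.* helpers here

set_option autoImplicit false
universe u
attribute [local instance] HasDerivedCategory.standard
open FlatMor

namespace Groth.Agent.S7172

open AlgebraicGeometry CategoryTheory Limits in
/-- A flat morphism locally of finite presentation is perfect. -/
theorem result {X S : Scheme.{u}} (f : X ⟶ S) [Flat f] [LocallyOfFinitePresentation f] :
    MoreMor.IsPerfectMor f := by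
  intro U V hU hV hUV
  have h1 : (f.appLE V U hUV).hom.Flat :=
    HasRingHomProperty.appLE (P := @Flat) f inferInstance ⟨V, hV⟩ ⟨U, hU⟩ hUV
  have h2 : (f.appLE V U hUV).hom.FinitePresentation :=
    HasRingHomProperty.appLE (P := @LocallyOfFinitePresentation) f inferInstance ⟨V, hV⟩ ⟨U, hU⟩ hUV
  letI := (f.appLE V U hUV).hom.toAlgebra
  haveI : Module.Flat Γ(S, V) Γ(X, U) := h1
  haveI : Algebra.FinitePresentation Γ(S, V) Γ(X, U) := h2
  exact ⟨Groth.Agent.Helper9.FlatPC3.pcHom_of_flat_fp Γ(S, V) Γ(X, U),
    Groth.Agent.Helper3.TorDim.hasFiniteTorDim_of_flat Γ(X, U)⟩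

end Groth.Agent.S7172
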