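import Groth.Statements.S7178
import Mathlib
import Groth.Agent.Helper3.WEtale2

set_option autoImplicit false
universe u
open scoped TensorProduct
open FlatMor

namespace Groth.Agent.S7178

open AlgebraicGeometry CategoryTheory Limits in
/-- (1) ⇔ (2): f : X → S is weakly étale if and only if, whenever U ⊆ X and V ⊆ S are affine opens and f
maps U into V, the ring O_X(U) is a weakly étale O_S(V)-algebra (flat, with flat multiplication map
O_X(U) ⊗ O_X(U) → O_X(U) over O_S(V)). -/
theorem result {X S : Scheme.{u}} (f : X ⟶ S) :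
    WeaklyEtale f ↔ ∀ (U : X.Opens) (V : S.Opens) (_ : IsAffineOpen U) (_ : IsAffineOpen V) (hUV : U ≤ f ⁻¹ᵁ V),
      (letI := (f.appLE V U hUV).hom.toAlgebra
       Algebra.WeaklyEtale Γ(S, V) Γ(X, U)) := by
  rw [Groth.Agent.Helper3.WEtale.weaklyEtale_iff_appLE]
  constructor
  · intro h U V hU hV hUV
    exact (Groth.Agent.Helper3.WEtale.WE_iff _).mp (h ⟨V, hV⟩ ⟨U, hU⟩ hUV)
  · intro h V U e
    exact (Groth.Agent.Helper3.WEtale.WE_iff _).mpr (h U.1 V.1 U.2 V.2 e)

end Groth.Agent.S7178
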