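import Groth.Statements.S7184
import Groth.Agent.Helper4.PullAmple
import Mathlib

set_option autoImplicit false
universe u
open FlatMor

namespace Groth.Agent.S7184


open AlgebraicGeometry CategoryTheory Limits in
/-- If f : X → Y is affine or quasi-affine and Y has an ample family of invertible modules, then X has
an ample family of invertible modules. -/
theorem result {X Y : Scheme.{u}} (f : X ⟶ Y) (hf : IsAffineHom f ∨ Mor2.IsQuasiAffine f)
    (hY : MoreMor.HasAmpleFamily Y) : MoreMor.HasAmpleFamily X := by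

  obtain ⟨hYc, hY⟩ := hY
  have hqa : Mor2.IsQuasiAffine f := by
    rcases hf with hf | hf
    · refine ⟨inferInstance, fun V hV => ?_⟩
      haveI : AlgebraicGeometry.IsAffine (f ⁻¹ᵁ V : AlgebraicGeometry.Scheme.{u}) :=
        (hV.preimage f : AlgebraicGeometry.IsAffineOpen (f ⁻¹ᵁ V))
      infer_instance
    · exact hf
  obtain ⟨hqc, hqa⟩ := hqa
  haveI : CompactSpace X := AlgebraicGeometry.QuasiCompact.compactSpace_of_compactSpace f
  choose L n s hL hn hx ha using hY
  have hN : ∀ y, PicF.IsInvertible (CohB1.tensorPow (L y) (n y)) :=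
    fun y => Groth.Agent.Helper4.TensorInv.isInvertible_tensorPow (hL y) _
  have hL' : ∀ y, PicF.IsInvertible ((AlgebraicGeometry.Scheme.Modules.pullback f).obj
      (CohB1.tensorPow (L y) (n y))) :=
    fun y => Groth.Agent.Helper4.PullSec.isInvertible_pullback f (hN y)
  have hgen : ∀ y, CohB1.genLocus _ (Groth.Agent.Helper4.PullSec.pullSec f (s y)) =
      f ⁻¹ᵁ CohB1.genLocus _ (s y) :=
    fun y => Groth.Agent.Helper4.PullSec.genLocus_pullSec f (hN y) (s y)
  have hqaff : ∀ y, (CohB1.genLocus _ (Groth.Agent.Helper4.PullSec.pullSec f (s y)) :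
      AlgebraicGeometry.Scheme.{u}).IsQuasiAffine := by
    intro y
    rw [hgen y]
    exact hqa _ (ha y)
  haveI : QuasiSeparatedSpace X := by
    refine QuasiSeparatedSpace.of_isOpenCover
      (U := fun x : X => CohB1.genLocus _ (Groth.Agent.Helper4.PullSec.pullSec f (s (f x)))) ?_ ?_ ?_
    · refine eq_top_iff.mpr fun x _ => TopologicalSpace.Opens.mem_iSup.mpr ⟨x, ?_⟩
      rw [hgen]
      exact hx (f x)
    · intro x
      exact Groth.Agent.Helper4.AmpleBasis.isRetrocompact_genLocus _ (hL' _) _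
    · intro x
      haveI := hqaff (f x)
      exact (isQuasiSeparated_iff_quasiSeparatedSpace _
        (CohB1.genLocus _ (Groth.Agent.Helper4.PullSec.pullSec f (s (f x)))).2).mpr
        (inferInstance : QuasiSeparatedSpace
          (CohB1.genLocus _ (Groth.Agent.Helper4.PullSec.pullSec f (s (f x))) :
            AlgebraicGeometry.Scheme.{u}))
  refine ⟨inferInstance, fun x => ?_⟩
  let L' := (AlgebraicGeometry.Scheme.Modules.pullback f).obj (CohB1.tensorPow (L (f x)) (n (f x)))
  let s'' : Coh.structureModule X ⟶ CohB1.tensorPow L' (0 + 1) :=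
    Groth.Agent.Helper4.PullSec.pullSec f (s (f x)) ≫ (Groth.Agent.Helper4.AmpleBasis.unitorL L').inv
  have hs'' : CohB1.genLocus _ s'' =
      CohB1.genLocus _ (Groth.Agent.Helper4.PullSec.pullSec f (s (f x))) :=
    Groth.Agent.Helper4.AmpleIso.genLocus_comp_iso (Groth.Agent.Helper4.AmpleBasis.unitorL L').symm _
  have hq : (CohB1.genLocus _ s'' : AlgebraicGeometry.Scheme.{u}).IsQuasiAffine := by
    rw [hs'']; exact hqaff (f x)
  have hxs : x ∈ CohB1.genLocus _ s'' := by
    rw [hs'', hgen]; exact hx (f x)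
  obtain ⟨m, τ, hxτ, -, hτa⟩ :=
    Groth.Agent.Helper4.PullAmple.exists_affine_genLocus_of_isQuasiAffine (hL' (f x)) 0 s'' hq x hxs
      ⊤ trivial
  exact ⟨L', m + 1, τ, hL' (f x), by omega, hxτ, hτa⟩

end Groth.Agent.S7184
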