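import Groth.Statements.S7214
import Mathlib
import Groth.Agent.Helper9.RelPcBiprod
-- import your own Groth.Agent.* helpers here

set_option autoImplicit false
universe u
open CategoryTheory CategoryTheory.Limits AlgebraicGeometry Opposite TopologicalSpace
attribute [local instance] HasDerivedCategory.standard
open FlatMor

namespace Groth.Agent.S7214

/-- Let f : X ⟶ S be a morphism of schemes, m an integer, and E, K objects of D(O_X). If the direct sum
E ⊕ K is m-pseudo-coherent relative to f (chart form; in particular f is locally of finite type),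
then so are E and K. -/
theorem result {X S : Scheme.{u}} (f : X ⟶ S) (m : ℤ) (E K : DCoh.D X)
    [HasBinaryBiproduct E K] (h : DerSch.IsPseudoCoherentRel f m (E ⊞ K)) :
    DerSch.IsPseudoCoherentRel f m E ∧ DerSch.IsPseudoCoherentRel f m K := by
  refine ⟨Groth.Agent.Helper9.RelPcBiprod.isPseudoCoherentRel_of_biprod f m E K h, ?_⟩
  haveI : HasBinaryBiproduct K E := inferInstance
  have h' : DerSch.IsPseudoCoherentRel f m (K ⊞ E) := by
    obtain ⟨hft, 𝒱, h𝒱, hV⟩ := h
    refine ⟨hft, 𝒱, h𝒱, fun V hVm => ?_⟩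
    obtain ⟨𝒰, h𝒰, hU⟩ := hV V hVm
    refine ⟨𝒰, h𝒰, fun U hUm hle => ?_⟩
    obtain ⟨n, φ, hc, hpc⟩ := hU U hUm hle
    refine ⟨n, φ, hc, fun G ⟨e⟩ => hpc G ⟨e ≪≫ biprod.braiding K E⟩⟩
  exact Groth.Agent.Helper9.RelPcBiprod.isPseudoCoherentRel_of_biprod f m K E h'

end Groth.Agent.S7214
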