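import Groth.Statements.S7225
import Groth.Agent.Lead.NLBaseLocA
import Mathlib

set_option autoImplicit false
universe u
open CategoryTheory CategoryTheory.Limits TensorProduct
attribute [local instance] HasDerivedCategory.standard
open FlatMor

namespace Groth.Agent.S7225

/-- Let A be a ring, M a submonoid of A, A' a localization of A at M and B an A'-algebra, viewed also as
an A-algebra. Let G be a presentation of B over A by a polynomial algebra and G' the presentation of
B over A' with the same generators (G'(i) = G(i), written through the identity algebra map of B).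
Then the canonical chain map NL(G) → NL(G') from the naive cotangent complex of the presentation
over A to that of the presentation over A' is an isomorphism of complexes (so that NL_{B/A} →
NL_{B/A'} is a homotopy equivalence). -/
theorem result (A A' B : Type u) [CommRing A] [CommRing A'] [CommRing B]
    [Algebra A A'] (M : Submonoid A) [IsLocalization M A'] [Algebra A' B] [Algebra A B] [IsScalarTower A A' B]
    {ι : Type u} (G : Algebra.Generators A B ι) (G' : Algebra.Generators A' B ι) (h : ∀ i, G'.val i = algebraMap B B (G.val i)) :
    IsIso (NLCx.map (NLCx.sameVarsHom (S' := B) G G' h).toExtensionHom) := by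
  have hcot := Groth.Agent.Lead.NLBaseLocA.isLoc M G G' h
  have hb : Function.Bijective
      (Algebra.Extension.Cotangent.map (NLCx.sameVarsHom (S' := B) G G' h).toExtensionHom) :=
    ⟨Groth.Agent.Lead.NLBaseLocA.cotangent_map_injective M _ hcot,
      Groth.Agent.Lead.NLBaseLocA.cotangent_map_surjective M _ hcot⟩
  have hs := Groth.Agent.Lead.NLBaseLocA.cotangentSpace_map_bijective G G' h
  have h0 : IsIso (ModuleCat.ofHom
      (Algebra.Extension.Cotangent.map (NLCx.sameVarsHom (S' := B) G G' h).toExtensionHom)) := by
    rw [ConcreteCategory.isIso_iff_bijective]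
    exact hb
  have h1 : IsIso (ModuleCat.ofHom
      (Algebra.Extension.CotangentSpace.map
        (NLCx.sameVarsHom (S' := B) G G' h).toExtensionHom)) := by
    rw [ConcreteCategory.isIso_iff_bijective]
    exact hs
  apply (config := { allowSynthFailures := true }) HomologicalComplex.Hom.isIso_of_components
  intro i
  by_cases hi0 : i = -1
  · subst hi0
    dsimp only [NLCx.map]
    rw [HomologicalComplex.mkHomFromDouble_f₀]
    refine @IsIso.comp_isIso _ _ _ _ _ _ _ inferInstance ?_
    refine @IsIso.comp_isIso _ _ _ _ _ _ _ ?_ inferInstance
    exact h0
  · by_cases hi1 : i = 0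
    · subst hi1
      dsimp only [NLCx.map]
      rw [HomologicalComplex.mkHomFromDouble_f₁]
      refine @IsIso.comp_isIso _ _ _ _ _ _ _ inferInstance ?_
      refine @IsIso.comp_isIso _ _ _ _ _ _ _ ?_ inferInstance
      exact h1
    · have hz1 := HomologicalComplex.isZero_double_X
        (ModuleCat.ofHom G.toExtension.cotangentComplex)
        (show (ComplexShape.up ℤ).Rel (-1) 0 by simp) i hi0 hi1
      have hz2 := HomologicalComplex.isZero_double_X
        (ModuleCat.ofHom G'.toExtension.cotangentComplex)
        (show (ComplexShape.up ℤ).Rel (-1) 0 by simp) i hi0 hi1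
      exact ⟨0, hz1.eq_of_src _ _, hz2.eq_of_src _ _⟩

end Groth.Agent.S7225
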