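import Groth.Statements.S7239
import Mathlib
import Groth.Agent.Helper9.BR4
-- import your own Groth.Agent.* helpers here

set_option autoImplicit false
universe u
open CategoryTheory CategoryTheory.Limits AlgebraicGeometry
attribute [local instance] HasDerivedCategory.standard
open Perf

namespace Groth.Agent.S7239

/-- Let X be a quasi-compact and quasi-separated scheme. Then the inclusion functor of the full
subcategory D_QCoh(O_X) of D(O_X) (objects all of whose cohomology sheaves are quasi-coherent) into
D(O_X) is a left adjoint, i.e. it admits a right adjoint D(O_X) ⥤ D_QCoh(O_X). -/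
theorem result (X : Scheme.{u}) [CompactSpace ↥X] [QuasiSeparatedSpace ↥X] :
    (ObjectProperty.ι (DCoh.IsQCohD (X := X))).IsLeftAdjoint := by
  have h := Groth.Agent.Helper9.BR4.isLeftAdjoint_of_universal
    (ObjectProperty.ι (DCoh.IsQCohD (X := X))) (fun K₀ => by
      obtain ⟨R, hR, ξ, hb⟩ := Groth.Agent.Helper9.BR4.representable_id X K₀
      refine ⟨⟨R, hR⟩, ξ, ?_⟩
      rintro ⟨T, hT⟩
      constructor
      · intro t t' htt'
        apply ObjectProperty.hom_ext
        exact (hb T hT).1 htt'
      · intro y
        obtain ⟨t, ht⟩ := (hb T hT).2 y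
        exact ⟨ObjectProperty.homMk t, ht⟩)
  exact h

end Groth.Agent.S7239
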