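import Groth.Statements.S7241
import Groth.Agent.Lead.ResPropE

set_option autoImplicit false
universe u
open CategoryTheory CategoryTheory.Limits AlgebraicGeometry
attribute [local instance] HasDerivedCategory.standard
open Perf

namespace Groth.Agent.S7241

/-- Let f : X ⟶ Y be a morphism of schemes whose target Y is quasi-compact, quasi-separated, and
satisfies the resolution property (every quasi-coherent O_Y-module of finite type is a quotient of a
finite locally free O_Y-module), and suppose there is an f-ample invertible O_X-module L (f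
quasi-compact and L ample on the preimage of every affine open of Y). Then X has the resolution
property. -/
theorem result {X Y : Scheme.{u}} (f : X ⟶ Y) [CompactSpace ↥Y] [QuasiSeparatedSpace ↥Y]
    (hY : PerfAux.HasResolutionProperty Y) (L : X.Modules) (hL : RelAmple.IsRelAmple f L) :
    PerfAux.HasResolutionProperty X := by
  have hqc : QuasiCompact f := hL.1
  have hqs : QuasiSeparated f :=
    Groth.Agent.Helper4.CounitEpi.quasiSeparated_of_isRelAmple f L hL
  have : CompactSpace X := QuasiCompact.compactSpace_of_compactSpace f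
  have hinv : PicF.IsInvertible L :=
    Groth.Agent.Helper4.AmpleLocal.isInvertible_of_cover L (fun x => by
      obtain ⟨V, hV, hxV, -⟩ :=
        exists_isAffineOpen_mem_and_subset (X := Y) (x := f x) (U := ⊤) trivial
      exact ⟨_, (f ⁻¹ᵁ V).ι, inferInstance, by simpa using hxV, (hL.2 ⟨V, hV⟩).1⟩)
  intro F hF hFT
  have : F.IsQuasicoherent := hF
  obtain ⟨N, hN⟩ :=
    Groth.Agent.Helper4.RelGenTwist.exists_forall_epi_counit_twist f L hL F hFT
  obtain ⟨B, hBdef⟩ : ∃ B : X.Modules, B = CohB1.tensorPow L N := ⟨_, rfl⟩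
  have hB : PicF.IsInvertible B :=
    hBdef ▸ Groth.Agent.Helper4.TensorInv.isInvertible_tensorPow hinv N
  have hBcoh := Groth.Agent.Lead.Ref1K.isCoh_of_isInvertible B hB
  have : B.IsQuasicoherent := hBcoh.1
  have : (CohB1.tensorMod F B).IsQuasicoherent :=
    Groth.Agent.Lead.QcohTensor.isQuasicoherent_tensorMod F B
  have hFBft := Groth.Agent.Lead.QcohTensor.isFT_tensorMod F B hFT hBcoh.2
  have : ((Scheme.Modules.pushforward f).obj (CohB1.tensorMod F B)).IsQuasicoherent :=
    Groth.Agent.Helper4.QcohGlue.isQuasicoherent_pushforward f _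
  have hc : Epi ((Scheme.Modules.pullbackPushforwardAdjunction f).counit.app
      (CohB1.tensorMod F B)) := hBdef ▸ hN N le_rfl
  obtain ⟨E, ψ, hE, hψ⟩ :=
    Groth.Agent.Lead.ResProp.exists_epi_pullback_finLocFree f hY (CohB1.tensorMod F B) hFBft hc
  have hB' := Groth.Agent.Lead.InvDual.isInvertible_dual B hB
  have : Epi ψ := hψ
  have : Epi ((DCoh.tensorRightMod (RefHull.dual B)).map ψ) := by
    rw [KoszTw.tensorRightMod_map]
    exact Groth.Agent.Helper1.TwistExact.epi_tensorMap ψ _ hB'
  refine ⟨CohB1.tensorMod ((Scheme.Modules.pullback f).obj E) (RefHull.dual B),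
    (DCoh.tensorRightMod (RefHull.dual B)).map ψ ≫
      (Groth.Agent.Lead.ResProp.alpha F B (RefHull.dual B)
        (Groth.Agent.Lead.InvDual.evIso' B hB)).hom,
    Groth.Agent.Lead.ResProp.isFinLocFree_tensorMod_of_isInvertible
      (Groth.Agent.Lead.LocLift.isFinLocFree_pullback f hE) hB', ?_⟩
  exact epi_comp' this inferInstance

end Groth.Agent.S7241
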