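import Groth.Statements.S7261
import Mathlib
import Groth.Agent.Helper9.TT7
-- import your own Groth.Agent.* helpers here

set_option autoImplicit false
universe u
open CategoryTheory CategoryTheory.Limits AlgebraicGeometry
attribute [local instance] HasDerivedCategory.standard
open Perf

namespace Groth.Agent.S7261

/-- Let X be an affine scheme, T = V(f_1, …, f_r) the common zero locus of r global functions, m ∈ ℤ,
and E an m-pseudo-coherent object of D(O_X) with quasi-coherent cohomology sheaves such that Hⁱ(E)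
is supported on T for i ≥ m - r + 1. Then approximation holds for (T, E, m): there are a perfect
object P of D(O_X) supported on T and a morphism α : P ⟶ E inducing isomorphisms Hⁱ(P) ⟶ Hⁱ(E) for i
> m and an epimorphism Hᵐ(P) ⟶ Hᵐ(E). (The published hypothesis asks that X ∖ T be a union of r
affine opens; the published proof begins by writing T as the zero locus of r functions, and this row
takes that as the hypothesis.) -/
theorem result (X : Scheme.{u}) [IsAffine X] (fs : Finset Γ(X, ⊤))
    (m : ℤ) (E : DCoh.D X) (hq : DCoh.IsQCohD E) (hpc : DCoh.IsPseudoCoherentD m E)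
    (hsupp : ∀ i : ℤ, m - (fs.card : ℤ) + 1 ≤ i → CohB1.support (DCoh.HD E i) ⊆ X.zeroLocus (U := ⊤) (↑fs : Set Γ(X, ⊤))) :
    ∃ (P : DCoh.D X) (α : P ⟶ E), DCoh.IsPerfect P ∧
      (∀ i : ℤ, CohB1.support (DCoh.HD P i) ⊆ X.zeroLocus (U := ⊤) (↑fs : Set Γ(X, ⊤))) ∧
      (∀ i : ℤ, m < i → IsIso ((DerivedCategory.homologyFunctor X.Modules i).map α)) ∧
      Epi ((DerivedCategory.homologyFunctor X.Modules m).map α) := by
  classical
  let V : X.Opens := ⟨(X.zeroLocus (U := ⊤) (↑fs : Set Γ(X, ⊤)))ᶜ,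
    (X.zeroLocus_isClosed _).isOpen_compl⟩
  have hmemV : ∀ x : X, x ∈ V ↔ x ∉ X.zeroLocus (U := ⊤) (↑fs : Set Γ(X, ⊤)) := fun x => Iff.rfl
  have hV : ∀ x : X, x ∈ V ↔ ∃ f ∈ fs.toList, x ∈ X.basicOpen f := by
    intro x
    rw [hmemV, Scheme.mem_zeroLocus_iff]
    push_neg
    constructor
    · rintro ⟨f, hf, hx⟩
      exact ⟨f, Finset.mem_toList.2 hf, hx⟩
    · rintro ⟨f, hf, hx⟩
      exact ⟨f, Finset.mem_toList.1 hf, hx⟩
  have hW : IsCompact ((⊤ : X.Opens) : Set X) := by
    rw [TopologicalSpace.Opens.coe_top]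
    exact isCompact_univ
  have hpc' : DCoh.IsPseudoCoherentD m ((DCoh.restrictD (⊤ : X.Opens).ι).obj E) :=
    Groth.Agent.Helper9.TT6.isPseudoCoherentD_restrictD _ m E hpc
  have hsupp' : ∀ i : ℤ, m - (fs.toList.length : ℤ) < i → Groth.Agent.Helper9.TT2.VanOn E V i := by
    intro i hi x hx hxs
    rw [Finset.length_toList] at hi
    exact (hmemV x).1 hx (hsupp i (by omega) hxs)
  obtain ⟨P, Q', α, g, h, hT, hP, hz, hQ⟩ := Groth.Agent.Helper9.TT7.approx_affine X V ⊤ fs.toList
    hV hW m E hq hpc' hsupp'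
  have hQ0 : ∀ i : ℤ, m ≤ i → IsZero (DCoh.HD Q' i) := by
    intro i hi
    apply Groth.Agent.Helper4.SuppLib.isZero_of_support
    ext x
    simp only [Set.mem_empty_iff_false, iff_false]
    exact hQ i hi x trivial
  refine ⟨P, α, hP, ?_, ?_, ?_⟩
  · intro i x hx
    by_contra hxz
    exact hz i x ((hmemV x).2 hxz) hx
  · intro i hi
    haveI : Mono ((DerivedCategory.homologyFunctor X.Modules i).map α) :=
      (DerivedCategory.HomologySequence.mono_homologyMap_mor₁_iff _ hT (i - 1) i (by omega)).2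
        ((hQ0 (i - 1) (by omega)).eq_of_src _ _)
    haveI : Epi ((DerivedCategory.homologyFunctor X.Modules i).map α) :=
      (DerivedCategory.HomologySequence.epi_homologyMap_mor₁_iff _ hT i).2
        ((hQ0 i (by omega)).eq_of_tgt _ _)
    exact isIso_of_mono_of_epi _
  · exact (DerivedCategory.HomologySequence.epi_homologyMap_mor₁_iff _ hT m).2
      ((hQ0 m le_rfl).eq_of_tgt _ _)

end Groth.Agent.S7261
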