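import Groth.Statements.S7265
import Groth.Agent.S6528
import Groth.Agent.S6519
import Groth.Agent.Helper4.ModLocal
import Groth.Agent.Helper4.ColocalObj
import Groth.Agent.Helper4.HasRD
import Mathlib

set_option autoImplicit false
universe u
open CategoryTheory CategoryTheory.Limits AlgebraicGeometry
attribute [local instance] HasDerivedCategory.standard
open Perf

namespace Groth.Agent.S7265


/-- Let X be a scheme, U ⊆ X an open subscheme, T ⊆ U a subset closed in X, E ∈ D(O_X) with
quasi-coherent cohomology sheaves and m ∈ ℤ. If approximation holds for (T, E|_U, m) on U (there are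
a perfect P ∈ D(O_U) supported on T and P ⟶ E|_U inducing isomorphisms on Hⁱ for i > m and a
surjection on Hᵐ) and the sheaves Hⁱ(E), i ≥ m, are supported on T, then approximation holds for (T,
E, m) on X. -/
theorem result {X : Scheme.{u}} (U : X.Opens) (T : Set ↥X) (hT : IsClosed T)
    (hTU : T ⊆ (U : Set ↥X)) (E : DCoh.D X) (hE : DCoh.IsQCohD E) (m : ℤ)
    (happ : ∃ (P : DCoh.D (U : Scheme.{u})) (α : P ⟶ (DCoh.restrictD U.ι).obj E), DCoh.IsPerfect P ∧
      (∀ i : ℤ, CohB1.support (DCoh.HD P i) ⊆ {v : ↥(U : Scheme.{u}) | U.ι.base v ∈ T}) ∧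
      (∀ i : ℤ, m < i → IsIso ((DerivedCategory.homologyFunctor _ i).map α)) ∧
      Epi ((DerivedCategory.homologyFunctor _ m).map α))
    (hsupp : ∀ i : ℤ, m ≤ i → CohB1.support (DCoh.HD E i) ⊆ T) :
    ∃ (P : DCoh.D X) (α : P ⟶ E), DCoh.IsPerfect P ∧ (∀ i : ℤ, CohB1.support (DCoh.HD P i) ⊆ T) ∧
      (∀ i : ℤ, m < i → IsIso ((DerivedCategory.homologyFunctor X.Modules i).map α)) ∧
      Epi ((DerivedCategory.homologyFunctor X.Modules m).map α) := by

  classical
  obtain ⟨P, α, hP, hsuppP, hiso, hepi⟩ := happ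
  haveI : DCoh.HasRpush U.ι := Groth.Agent.Helper4.HasRD.hasRpush _
  let adj := Groth.Agent.Helper4.LocalObj.shriekAdj U
  let P' : DCoh.D X := (CxOX.extZeroD U.ι).obj P
  let α' : P' ⟶ E := (adj.homEquiv P E).symm α
  have hrel : adj.unit.app P ≫ (DCoh.restrictD U.ι).map α' = α := by
    have := (adj.homEquiv P E).apply_symm_apply α
    rwa [Adjunction.homEquiv_unit] at this
  haveI : IsIso (adj.unit.app P) := by
    haveI := Groth.Agent.Helper4.ColocalObj.isIso_shriekAdj_unit U
    infer_instance
  have hrel' : (DCoh.restrictD U.ι).map α' = inv (adj.unit.app P) ≫ α := by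
    rw [← hrel, IsIso.inv_hom_id_assoc]
  -- supports
  have hsuppP' : ∀ i : ℤ, CohB1.support (DCoh.HD P' i) ⊆ T := by
    intro i x hx
    obtain ⟨y, hy, rfl⟩ := Groth.Agent.Helper4.ExtZeroStalk.support_HD_extZeroD_subset U.ι P i hx
    exact hsuppP i hy
  -- perfectness
  have hperf : DCoh.IsPerfect P' := by
    have h2 := (Groth.Agent.S6528.result U T hT hTU).2 P (by
      intro i x hx
      obtain ⟨y, hy, rfl⟩ := hx
      exact hsuppP i hy)
    obtain ⟨e⟩ := h2
    have hT' : IsClosed {v : ↥(U : Scheme.{u}) | U.ι.base v ∈ T} :=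
      hT.preimage U.ι.continuous
    have hjT : IsClosed ((fun x : (U : Scheme.{u}) => U.ι.base x) ''
        {v : ↥(U : Scheme.{u}) | U.ι.base v ∈ T}) := by
      have : (fun x : (U : Scheme.{u}) => U.ι.base x) ''
          {v : ↥(U : Scheme.{u}) | U.ι.base v ∈ T} = T := by
        ext x
        constructor
        · rintro ⟨v, hv, rfl⟩
          exact hv
        · intro hx
          exact ⟨⟨x, hTU hx⟩, hx, rfl⟩
      rw [this]
      exact hT
    have h3 := Groth.Agent.S6519.result U P hP _ hT' hjT hsuppP
    intro x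
    obtain ⟨V, hxV, hV⟩ := h3 x
    exact ⟨V, hxV, fun F ⟨eF⟩ => hV F ⟨eF ≪≫ e⟩⟩
  let W : X.Opens := ⟨Tᶜ, hT.isOpen_compl⟩
  let V : Bool → X.Opens := fun b => if b then U else W
  have hV : ∀ x : X, ∃ b, x ∈ V b := by
    intro x
    by_cases hx : x ∈ T
    · exact ⟨true, hTU hx⟩
    · exact ⟨false, hx⟩
  -- over `W` both cohomology sheaves vanish in degrees `≥ m`
  have hWzero : ∀ (K : DCoh.D X) (i : ℤ), CohB1.support (DCoh.HD K i) ⊆ T →
      Limits.IsZero ((Scheme.Modules.restrictFunctor W.ι).obj (DCoh.HD K i)) := by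
    intro K i hK
    apply Groth.Agent.Helper4.SuppLib.isZero_of_support
    rw [Groth.Agent.Helper4.SuppLib.support_restrict]
    ext x
    simp only [Set.mem_preimage, Set.mem_empty_iff_false, iff_false]
    intro hx
    exact x.2 (hK hx)
  have hWiso : ∀ i : ℤ, m ≤ i → IsIso ((Scheme.Modules.restrictFunctor W.ι).map
      ((DerivedCategory.homologyFunctor X.Modules i).map α')) := by
    intro i hi
    exact ⟨⟨0, (hWzero P' i (hsuppP' i)).eq_of_src _ _, (hWzero E i (hsupp i hi)).eq_of_src _ _⟩⟩
  have harrow := fun i : ℤ => Groth.Agent.Lead.PcLib.mapDerivedCategoryHomologyArrowIso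
    (Scheme.Modules.restrictFunctor U.ι) i α'
  have hfac : ∀ i : ℤ, (DerivedCategory.homologyFunctor _ i).map ((DCoh.restrictD U.ι).map α') =
      (DerivedCategory.homologyFunctor _ i).map (inv (adj.unit.app P)) ≫
        (DerivedCategory.homologyFunctor _ i).map α := by
    intro i
    rw [hrel', Functor.map_comp]
  refine ⟨P', α', hperf, hsuppP', ?_, ?_⟩
  · intro i hi
    apply Groth.Agent.Helper4.ModLocal.isIso_of_restrict_cover V hV
    intro b
    cases b
    · exact hWiso i hi.le
    · show IsIso ((Scheme.Modules.restrictFunctor U.ι).map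
        ((DerivedCategory.homologyFunctor X.Modules i).map α'))
      haveI := hiso i hi
      have h1 : IsIso ((DerivedCategory.homologyFunctor _ i).map
          ((DCoh.restrictD U.ι).map α')) := by
        rw [hfac i]
        infer_instance
      exact ((MorphismProperty.isomorphisms _).arrow_mk_iso_iff (harrow i)).1 h1
  · apply Groth.Agent.Helper4.ModLocal.epi_of_restrict_cover V hV
    intro b
    cases b
    · haveI := hWiso m le_rfl
      show Epi ((Scheme.Modules.restrictFunctor W.ι).map
        ((DerivedCategory.homologyFunctor X.Modules m).map α'))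
      infer_instance
    · show Epi ((Scheme.Modules.restrictFunctor U.ι).map
        ((DerivedCategory.homologyFunctor X.Modules m).map α'))
      haveI := hepi
      have h1 : Epi ((DerivedCategory.homologyFunctor _ m).map
          ((DCoh.restrictD U.ι).map α')) := by
        rw [hfac m]
        infer_instance
      exact ((MorphismProperty.epimorphisms _).arrow_mk_iso_iff (harrow m)).1 h1

end Groth.Agent.S7265
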