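import Groth.Statements.S7278
import Mathlib
import Groth.Agent.Helper9.RPL1
-- import your own Groth.Agent.* helpers here

set_option autoImplicit false
universe u
open CategoryTheory CategoryTheory.Limits AlgebraicGeometry Opposite
attribute [local instance] HasDerivedCategory.standard
open Perf

namespace Groth.Agent.S7278

/-- Let f : X ⟶ S be flat and locally of finite presentation and E an object of D(O_X) with
quasi-coherent cohomology sheaves (tilde recorded as exact). For affine opens U ⊆ X and V ⊆ S with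
f(U) ⊆ V, say that E is algebraically perfect on U over V when every M ∈ D(Γ(U, O_X)) whose
associated object M~ on Spec Γ(U, O_X) is isomorphic to the restriction E|_U (transported along U ≅
Spec Γ(U, O_X)) is Γ(V, O_S)-perfect: pseudo-coherent as a complex of Γ(U, O_X)-modules and of
finite tor dimension over Γ(V, O_S) through f^♯ (such M exist and are unique up to isomorphism,
namely RΓ(U, E)). Then: E is S-perfect (pseudo-coherent, and locally on X represented by a bounded
complex of O_X-modules flat over S) if and only if E is algebraically perfect on every affine open U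
over every affine open V with U ⊆ f⁻¹V; and E is S-perfect as soon as this holds for the members
U_ij of affine open coverings f⁻¹V_i = ⋃ U_ij attached to an affine open covering S = ⋃ V_i. -/
theorem result {X S : Scheme.{u}} (f : X ⟶ S) [Flat f] [LocallyOfFinitePresentation f]
    [∀ R : CommRingCat.{u}, PreservesFiniteLimits (tilde.functor R)]
    (E : DCoh.D X) (hE : DCoh.IsQCohD E) :
    (((∀ m : ℤ, DCoh.IsPseudoCoherentD m E) ∧ DCoh.LocHasFiniteRelTorDim f E) ↔
      ∀ (U : X.Opens) (hU : IsAffineOpen U) (V : S.Opens) (hV : IsAffineOpen V) (hUV : U ≤ f ⁻¹ᵁ V)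
        (M : DerivedCategory (ModuleCat.{u} Γ(X, U))),
        Nonempty ((DCoh.restrictD hU.isoSpec.inv).obj ((DCoh.restrictD U.ι).obj E) ≅ (DCoh.tildeD Γ(X, U)).obj M) →
          @Dual2.IsRelPerfect Γ(S, V) Γ(X, U) _ _ (f.appLE V U hUV).hom.toAlgebra M) ∧
    (∀ (ι : Type u) (V : ι → S.Opens) (hV : ∀ i, IsAffineOpen (V i)) (hVcov : ⨆ i, V i = ⊤)
        (κ : ι → Type u) (U : ∀ i, κ i → X.Opens) (hU : ∀ i j, IsAffineOpen (U i j))
        (hUV : ∀ i j, U i j ≤ f ⁻¹ᵁ V i) (hUcov : ∀ i, ⨆ j, U i j = f ⁻¹ᵁ V i),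
        (∀ (i : ι) (j : κ i) (M : DerivedCategory (ModuleCat.{u} Γ(X, U i j))),
          Nonempty ((DCoh.restrictD (hU i j).isoSpec.inv).obj ((DCoh.restrictD (U i j).ι).obj E) ≅
              (DCoh.tildeD Γ(X, U i j)).obj M) →
            @Dual2.IsRelPerfect Γ(S, V i) Γ(X, U i j) _ _ (f.appLE (V i) (U i j) (hUV i j)).hom.toAlgebra M) →
        (∀ m : ℤ, DCoh.IsPseudoCoherentD m E) ∧ DCoh.LocHasFiniteRelTorDim f E) := by
  let F₀ : CochainComplex X.Modules ℤ := DerivedCategory.Q.objPreimage E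
  let e₀ : DerivedCategory.Q.obj F₀ ≅ E := DerivedCategory.Q.objObjPreimageIso E
  have hiff := Groth.Agent.Helper9.RPL1.P_iff_at f E F₀ e₀
  have hM : ∀ (U : X.Opens) (hU : IsAffineOpen U),
      ∃ M : DerivedCategory (ModuleCat.{u} Γ(X, U)),
        Nonempty ((DCoh.restrictD hU.isoSpec.inv).obj ((DCoh.restrictD U.ι).obj E) ≅
          (DCoh.tildeD Γ(X, U)).obj M) := fun U hU => by
    obtain ⟨M, ⟨eM⟩⟩ := Groth.Agent.Helper9.QcLpull1.exists_iso_tildeD Γ(X, U) _
      (Groth.Agent.Helper9.QP7.isQCohD_restrictD hU.isoSpec.inv _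
        (Groth.Agent.Helper9.QP7.isQCohD_restrictD U.ι _ hE))
    exact ⟨M, ⟨eM.symm⟩⟩
  have hloc : ∀ (U : X.Opens) (hU : IsAffineOpen U) (V : S.Opens) (hV : IsAffineOpen V)
      (hUV : U ≤ f ⁻¹ᵁ V) (x : X) (hx : x ∈ U),
      (∀ M : DerivedCategory (ModuleCat.{u} Γ(X, U)),
        Nonempty ((DCoh.restrictD hU.isoSpec.inv).obj ((DCoh.restrictD U.ι).obj E) ≅
            (DCoh.tildeD Γ(X, U)).obj M) →
          @Dual2.IsRelPerfect Γ(S, V) Γ(X, U) _ _ (f.appLE V U hUV).hom.toAlgebra M) →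
      Groth.Agent.Helper9.RPL1.At f F₀ x := by
    intro U hU V hV hUV x hx h
    obtain ⟨M, ⟨eM⟩⟩ := hM U hU
    have h1 := (Groth.Agent.Helper9.RPL1.affine_iff f hU hV hUV E F₀ e₀ M eM).2 (h M ⟨eM⟩)
    obtain ⟨p, rfl⟩ : ∃ p : Spec Γ(X, U), hU.fromSpec p = x := by
      have hx' : x ∈ Set.range hU.fromSpec := by
        rw [hU.range_fromSpec]
        exact hx
      exact hx'
    exact h1 p
  refine ⟨⟨?_, ?_⟩, ?_⟩
  · intro h U hU V hV hUV M ⟨eM⟩
    exact (Groth.Agent.Helper9.RPL1.affine_iff f hU hV hUV E F₀ e₀ M eM).1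
      (fun p => (hiff.1 h) _)
  · intro h
    apply hiff.2
    intro x
    obtain ⟨V, hV, hxV, -⟩ :=
      exists_isAffineOpen_mem_and_subset (x := f.base x) (U := ⊤) trivial
    obtain ⟨U, hU, hxU, hUV⟩ :=
      exists_isAffineOpen_mem_and_subset (x := x) (U := f ⁻¹ᵁ V) hxV
    exact hloc U hU V hV hUV x hxU (fun M hM' => h U hU V hV hUV M hM')
  · intro ι V hV hVcov κ U hU hUV hUcov h
    apply hiff.2
    intro x
    have h1 : f.base x ∈ (⨆ i, V i : S.Opens) := by
      rw [hVcov]
      trivial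
    obtain ⟨i, hi⟩ := TopologicalSpace.Opens.mem_iSup.1 h1
    have h2 : x ∈ (⨆ j, U i j : X.Opens) := by
      rw [hUcov i]
      exact hi
    obtain ⟨j, hj⟩ := TopologicalSpace.Opens.mem_iSup.1 h2
    exact hloc (U i j) (hU i j) (V i) (hV i) (hUV i j) x hj (fun M hM' => h i j M hM')

end Groth.Agent.S7278
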