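import Groth.Statements.S7290
import Mathlib.RingTheory.Spectrum.Prime.ConstructibleSet

set_option autoImplicit false
open CategoryTheory CategoryTheory.Limits AlgebraicGeometry Opposite
universe u
open ProEtW

namespace Groth.Agent.S7290

open PrimeSpectrum in
theorem aux (A : Type u) [CommRing A] {ι : Type u} [Finite ι]
    (T : ι → Set (PrimeSpectrum A)) (hT : ∀ i, Topology.IsConstructible (T i))
    (hcov : ⋃ i, T i = Set.univ) (hdisj : Pairwise fun i j => Disjoint (T i) (T j)) :
    ∃ E : Finset A, ∀ E'' : Finset A, E'' ⊆ E →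
      ∀ x : PrimeSpectrum A, (∀ f ∈ E, f ∈ x.asIdeal ↔ f ∈ E'') →
        ∃ i, {y : PrimeSpectrum A | ∀ f ∈ E, f ∈ y.asIdeal ↔ f ∈ E''} ⊆ T i := by
  classical
  haveI := Fintype.ofFinite ι
  have hex : ∀ i, ∃ S : ConstructibleSetData A, S.toSet = T i := fun i =>
    exists_constructibleSetData_iff.mpr (hT i)
  choose S hS using hex
  let E : Finset A := Finset.univ.biUnion fun i =>
    (S i).biUnion fun C => insert C.f (Finset.univ.image C.g)
  have hfE : ∀ i, ∀ C ∈ S i, C.f ∈ E := fun i C hC =>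
    Finset.mem_biUnion.mpr ⟨i, Finset.mem_univ _, Finset.mem_biUnion.mpr
      ⟨C, hC, Finset.mem_insert_self _ _⟩⟩
  have hgE : ∀ i, ∀ C ∈ S i, ∀ k, C.g k ∈ E := fun i C hC k =>
    Finset.mem_biUnion.mpr ⟨i, Finset.mem_univ _, Finset.mem_biUnion.mpr
      ⟨C, hC, Finset.mem_insert_of_mem (Finset.mem_image_of_mem _ (Finset.mem_univ k))⟩⟩
  refine ⟨E, fun E'' _ x hx => ?_⟩
  have hxu : x ∈ ⋃ i, T i := hcov ▸ Set.mem_univ x
  obtain ⟨i, hxi⟩ := Set.mem_iUnion.mp hxu
  refine ⟨i, fun y hy => ?_⟩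
  rw [← hS i] at hxi ⊢
  simp only [ConstructibleSetData.toSet, Set.mem_iUnion] at hxi ⊢
  obtain ⟨C, hC, hxC⟩ := hxi
  refine ⟨C, hC, ?_⟩
  simp only [BasicConstructibleSetData.toSet, Set.mem_sdiff, mem_zeroLocus, Set.range_subset_iff,
    Set.singleton_subset_iff, SetLike.mem_coe] at hxC ⊢
  refine ⟨fun k => ?_, fun hf => hxC.2 ?_⟩
  · exact (hy _ (hgE i C hC k)).mpr ((hx _ (hgE i C hC k)).mp (hxC.1 k))
  · exact (hx _ (hfE i C hC)).mpr ((hy _ (hfE i C hC)).mp hf)

/-- Let A be a ring and let Spec A be the disjoint union of finitely many constructible subsets T_i.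
Then there is a finite subset E of A such that the stratification of Spec A according to which
elements of E vanish at a point refines the given one: each nonempty stratum, consisting of the
primes whose intersection with E is a prescribed subset, is contained in one of the T_i. -/
theorem result (A : Type u) [CommRing A] {ι : Type u} [Finite ι]
    (T : ι → Set (PrimeSpectrum A)) (hT : ∀ i, Topology.IsConstructible (T i))
    (hcov : ⋃ i, T i = Set.univ) (hdisj : Pairwise fun i j => Disjoint (T i) (T j)) :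
    ∃ E : Finset A, ∀ E'' : Finset A, E'' ⊆ E →
      ∀ x : PrimeSpectrum A, (∀ f ∈ E, f ∈ x.asIdeal ↔ f ∈ E'') →
        ∃ i, {y : PrimeSpectrum A | ∀ f ∈ E, f ∈ y.asIdeal ↔ f ∈ E''} ⊆ T i := by
  exact aux A T hT hcov hdisj

end Groth.Agent.S7290
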