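import Groth.Statements.S7298
import Groth.Agent.Lead.QcohVan
import Groth.Agent.Lead.FibDimBir

set_option autoImplicit false
universe u
open CategoryTheory CategoryTheory.Limits AlgebraicGeometry
open Resolve

namespace Groth.Agent.S7298

/-- Let A be a local normal Nagata domain of dimension two defining a rational singularity, and f : X →
Spec A a proper morphism from an integral normal scheme which is an isomorphism over some nonempty
open of Spec A. Then H^1(X, F) = 0 for every quasi-coherent O_X-module F which is globally generated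
(a quotient of a free O_X-module). -/
theorem result (A : Type u) [CommRing A] [IsDomain A] [IsLocalRing A] [IsNoetherianRing A]
    [IsIntegrallyClosed A] (hN : CAlg.IsNagata A) (hdim : ringKrullDim A = 2) (hA : Curv2.IsRationalSing A)
    (X : Scheme.{u}) (f : X ⟶ Spec (CommRingCat.of A)) [IsProper f] [IsIntegral X] (hXn : Pi1.IsNormalScheme X)
    (hbir : ∃ U : (Spec (CommRingCat.of A)).Opens, (U : Set (Spec (CommRingCat.of A))).Nonempty ∧ IsIso (f ∣_ U))
    (F : X.Modules) (hF : Coh.IsQCoh F) (hgg : Curv2.IsGloballyGenerated F) : Subsingleton (Coh.HH X F 1) := by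
  obtain ⟨ι, q, hq⟩ := hgg
  haveI : IrreducibleSpace X := inferInstance
  have hfib : ∀ y : ↥(Spec (CommRingCat.of A)),
      topologicalKrullDim ↥(f.fiber y) ≤ ((1 : ℕ) : WithBot ℕ∞) := fun y =>
    Groth.Agent.Lead.FibDimBir.fiber_dim_le_one_of_birational A hdim.le X f hbir y
  haveI : CompactSpace X := QuasiCompact.compactSpace_of_compactSpace f
  haveI : IsLocallyNoetherian X := LocallyOfFiniteType.isLocallyNoetherian f
  haveI : IsNoetherian X := {}
  haveI : F.IsQuasicoherent := hF
  haveI : (SheafOfModules.free ι : X.Modules).IsQuasicoherent :=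
    Groth.Agent.Lead.GlobGen.isQuasicoherent_free ι
  haveI hKq : (kernel q).IsQuasicoherent := Groth.Agent.Helper4.QcohLimits.isQuasicoherent_kernel q
  have hO : Subsingleton (Coh.HH X (Coh.structureModule X) 1) :=
    hA X f inferInstance inferInstance hXn hbir
  have hfree : Subsingleton (Coh.HH X (SheafOfModules.free ι : X.Modules) 1) :=
    Groth.Agent.Lead.BlH1B.subsingleton_HH_sigma 1 (fun _ : ι => Coh.structureModule X)
      (fun _ => hO)
  have hK : Subsingleton (Coh.HH X (kernel q) 2) :=
    Groth.Agent.Lead.QcohVan.subsingleton_HH_qcoh_of_fibres A X f 1 hfib _ hKq 2 (by norm_num)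
  let S : ShortComplex X.Modules := ShortComplex.mk (kernel.ι q) q (kernel.condition q)
  have hS : S.ShortExact :=
    { exact := ShortComplex.exact_of_f_is_kernel _ (kernelIsKernel q)
      mono_f := inferInstanceAs (Mono (kernel.ι q))
      epi_g := hq }
  exact Groth.Agent.Lead.BlH1B.subsingleton_HH_right S hS 1 hfree hK

end Groth.Agent.S7298
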