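import Groth.Statements.S7318
import Mathlib

set_option autoImplicit false
open Finset
open Models Models.NumericalType

namespace Groth.Agent.S7318

/-- For a numerical type T on n indices with e pairs i < j such that a_ij > 0, the topological genus 1 -
n + e is ≥ 0. -/
theorem result {n : ℕ} (T : Models.NumericalType n) : 0 ≤ T.topGenus := by
  classical
  have hsymm : ∀ i j, T.a i j = T.a j i := fun i j => by
    have := T.symm
    exact (Matrix.IsSymm.apply this j i).symm ▸ rfl
  let G : SimpleGraph (Fin n) :=
    { Adj := fun i j => i ≠ j ∧ T.a i j ≠ 0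
      symm := ⟨fun i j h => ⟨h.1.symm, by rw [hsymm j i]; exact h.2⟩⟩
      loopless := ⟨fun i h => h.1 rfl⟩ }
  have hpre : G.Preconnected := by
    intro u v
    by_contra hv
    let I : Finset (Fin n) := Finset.univ.filter fun x => G.Reachable u x
    have hIne : I.Nonempty := ⟨u, by simp [I]⟩
    have hIuniv : I ≠ Finset.univ := by
      intro h
      have : v ∈ I := h ▸ Finset.mem_univ v
      simp [I] at this
      exact hv this
    obtain ⟨i, hi, j, hj, hij⟩ := T.connected I hIne hIuniv
    have hi' : G.Reachable u i := by simpa [I] using hi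
    have hne : i ≠ j := fun h => hj (h ▸ hi)
    have hadj : G.Adj i j := ⟨hne, hij⟩
    exact hj (by simp only [I, Finset.mem_filter, Finset.mem_univ, true_and]; exact hi'.trans hadj.reachable)
  haveI : Nonempty (Fin n) := ⟨⟨0, T.pos⟩⟩
  have hconn : G.Connected := ⟨hpre⟩
  have h1 := hconn.card_vert_le_card_edgeSet_add_one
  rw [Nat.card_eq_fintype_card, Fintype.card_fin, Nat.card_eq_fintype_card,
    ← SimpleGraph.edgeFinset_card] at h1
  have h2 : G.edgeFinset ⊆ (Finset.univ.filter fun p : Fin n × Fin n =>
      p.1 < p.2 ∧ 0 < T.a p.1 p.2).image (fun p => s(p.1, p.2)) := by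
    intro e he
    rw [SimpleGraph.mem_edgeFinset] at he
    induction e using Sym2.ind with
    | _ i j =>
      rw [SimpleGraph.mem_edgeSet] at he
      obtain ⟨hne, ha⟩ := he
      rw [Finset.mem_image]
      rcases lt_or_gt_of_ne hne with hlt | hgt
      · refine ⟨(i, j), ?_, rfl⟩
        simp only [Finset.mem_filter, Finset.mem_univ, true_and]
        exact ⟨hlt, lt_of_le_of_ne (T.offDiag_nonneg i j hne) (Ne.symm ha)⟩
      · refine ⟨(j, i), ?_, Sym2.eq_swap⟩
        simp only [Finset.mem_filter, Finset.mem_univ, true_and]
        refine ⟨hgt, lt_of_le_of_ne (T.offDiag_nonneg j i hne.symm) ?_⟩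
        rw [hsymm j i]
        exact Ne.symm ha
  have h3 := (Finset.card_le_card h2).trans Finset.card_image_le
  have h4 : n ≤ T.edgeCount + 1 := by
    unfold Models.NumericalType.edgeCount
    omega
  unfold Models.NumericalType.topGenus
  omega

end Groth.Agent.S7318
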