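import Groth.Statements.S7341
import Mathlib
import Groth.Agent.Helper3.NumTypeS

set_option autoImplicit false
open Finset
open Models Models.NumericalType

namespace Groth.Agent.S7341

/-- Classification of proper subgraphs which are chains of three vertices: let T be a numerical type on
n > 3 indices and i, j, k distinct (-2)-indices with a_ij > 0 and a_jk > 0. Then a_ik = 0 and, up to
reversing the order of i, j, k, one of the following holds for some integer w: (A3) w_i = w_j = w_k
= w, a_ij = a_jk = w, with 2 m_i ≥ m_j, 2 m_j ≥ m_i + m_k, 2 m_k ≥ m_j; (C3) w_i = w_j = w, w_k =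
2w, a_ij = w, a_jk = 2w, with 2 m_i ≥ m_j, 2 m_j ≥ m_i + 2 m_k, 2 m_k ≥ m_j; (B3) w_i = w_j = 2w,
w_k = w, a_ij = a_jk = 2w, with 2 m_i ≥ m_j, 2 m_j ≥ m_i + m_k, m_k ≥ m_j. -/
theorem result {n : ℕ} (T : Models.NumericalType n) (hn : 3 < n) (i j k : Fin n)
    (hij : i ≠ j) (hjk : j ≠ k) (hik : i ≠ k) (hi : T.IsMinusTwo i) (hj : T.IsMinusTwo j) (hk : T.IsMinusTwo k)
    (h1 : 0 < T.a i j) (h2 : 0 < T.a j k) :
    T.a i k = 0 ∧ ∃ (i' k' : Fin n) (w : ℤ), ((i' = i ∧ k' = k) ∨ (i' = k ∧ k' = i)) ∧
      ((T.w i' = w ∧ T.w j = w ∧ T.w k' = w ∧ T.a i' j = w ∧ T.a j k' = w ∧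
          T.m j ≤ 2 * T.m i' ∧ T.m i' + T.m k' ≤ 2 * T.m j ∧ T.m j ≤ 2 * T.m k') ∨
        (T.w i' = w ∧ T.w j = w ∧ T.w k' = 2 * w ∧ T.a i' j = w ∧ T.a j k' = 2 * w ∧
          T.m j ≤ 2 * T.m i' ∧ T.m i' + 2 * T.m k' ≤ 2 * T.m j ∧ T.m j ≤ 2 * T.m k') ∨
        (T.w i' = 2 * w ∧ T.w j = 2 * w ∧ T.w k' = w ∧ T.a i' j = 2 * w ∧ T.a j k' = 2 * w ∧
          T.m j ≤ 2 * T.m i' ∧ T.m i' + T.m k' ≤ 2 * T.m j ∧ T.m j ≤ T.m k')) := by
  have hr : 3 < n := hn
  have hinj : Function.Injective ![i, j, k] := by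
    intro a b hab
    fin_cases a <;> fin_cases b <;> simp_all
  let v : Fin 3 ↪ Fin n := ⟨![i, j, k], hinj⟩
  have hv : ∀ p, T.IsMinusTwo (v p) := by
    intro p
    fin_cases p
    · exact hi
    · exact hj
    · exact hk
  have h01 : T.a (v 0) (v 1) ≠ 0 := h1.ne'
  have h12 : T.a (v 1) (v 2) ≠ 0 := h2.ne'
  have key := (Groth.Agent.Helper3.NumType.Sub.of T v hr hv).chain3 h01 h12
  have r0 := (Groth.Agent.Helper3.NumType.Sub.of T v hr hv).R3_0
  have hW0 := (Groth.Agent.Helper3.NumType.Sub.of T v hr hv).hW 0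
  have r1 := (Groth.Agent.Helper3.NumType.Sub.of T v hr hv).R3_1
  have hW1 := (Groth.Agent.Helper3.NumType.Sub.of T v hr hv).hW 1
  have r2 := (Groth.Agent.Helper3.NumType.Sub.of T v hr hv).R3_2
  have hW2 := (Groth.Agent.Helper3.NumType.Sub.of T v hr hv).hW 2
  dsimp only [Groth.Agent.Helper3.NumType.Sub.of] at key r0 r1 r2 hW0 hW1 hW2
  have hvv0 : v 0 = i := rfl
  have hvv1 : v 1 = j := rfl
  have hvv2 : v 2 = k := rfl
  simp only [hvv0, hvv1, hvv2] at key r0 r1 r2 hW0 hW1 hW2
  obtain ⟨z02, key⟩ := key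
  have s10 := Groth.Agent.Helper3.NumType.a_symm T j i
  have s21 := Groth.Agent.Helper3.NumType.a_symm T k j
  refine ⟨z02, ?_⟩
  rcases key with ⟨e0a, e0b, e1a, e1b⟩ | ⟨e0a, e0b, e1a, e1b⟩ | ⟨e0a, e0b, e1a, e1b⟩ | ⟨e0a, e0b, e1a, e1b⟩ | ⟨e0a, e0b, e1a, e1b⟩
  · -- {(0, 1): 'E', (1, 2): 'E'}
    have w1 : T.w j = T.w i := by linarith
    have w2 : T.w k = T.w i := by linarith
    have a01 : T.a i j = T.w i := by linarith
    have a12 : T.a j k = T.w i := by linarith
    simp only [w1, w2, a01, a12, z02] at r0 r1 r2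
    refine ⟨i, k, T.w i, Or.inl ⟨rfl, rfl⟩, ?_⟩
    refine Or.inl ⟨?_, ?_, ?_, ?_, ?_, ?_, ?_, ?_⟩
    · first | rfl | trivial | linarith
    · first | rfl | trivial | linarith
    · first | rfl | trivial | linarith
    · first | rfl | trivial | linarith
    · first | rfl | trivial | linarith
    · by_contra hcon
      push Not at hcon
      have := mul_pos hW0 (sub_pos.mpr hcon)
      linarith
    · by_contra hcon
      push Not at hcon
      have := mul_pos hW0 (sub_pos.mpr hcon)
      linarith
    · by_contra hcon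
      push Not at hcon
      have := mul_pos hW0 (sub_pos.mpr hcon)
      linarith
  · -- {(0, 1): 'E', (1, 2): 'U2'}
    have w1 : T.w j = T.w i := by linarith
    have w2 : T.w k = 2 * T.w i := by linarith
    have a01 : T.a i j = T.w i := by linarith
    have a12 : T.a j k = 2 * T.w i := by linarith
    simp only [w1, w2, a01, a12, z02] at r0 r1 r2
    refine ⟨i, k, T.w i, Or.inl ⟨rfl, rfl⟩, ?_⟩
    refine Or.inr (Or.inl ⟨?_, ?_, ?_, ?_, ?_, ?_, ?_, ?_⟩)
    · first | rfl | trivial | linarith
    · first | rfl | trivial | linarith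
    · first | rfl | trivial | linarith
    · first | rfl | trivial | linarith
    · first | rfl | trivial | linarith
    · by_contra hcon
      push Not at hcon
      have := mul_pos hW0 (sub_pos.mpr hcon)
      linarith
    · by_contra hcon
      push Not at hcon
      have := mul_pos hW0 (sub_pos.mpr hcon)
      linarith
    · by_contra hcon
      push Not at hcon
      have := mul_pos hW0 (sub_pos.mpr hcon)
      linarith
  · -- {(0, 1): 'E', (1, 2): 'D2'}
    have w0 : T.w i = 2 * T.w k := by linarith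
    have w1 : T.w j = 2 * T.w k := by linarith
    have a01 : T.a i j = 2 * T.w k := by linarith
    have a12 : T.a j k = 2 * T.w k := by linarith
    simp only [w0, w1, a01, a12, z02] at r0 r1 r2
    refine ⟨i, k, T.w k, Or.inl ⟨rfl, rfl⟩, ?_⟩
    refine Or.inr (Or.inr (⟨?_, ?_, ?_, ?_, ?_, ?_, ?_, ?_⟩))
    · first | rfl | trivial | linarith
    · first | rfl | trivial | linarith
    · first | rfl | trivial | linarith
    · first | rfl | trivial | linarith
    · first | rfl | trivial | linarith
    · by_contra hcon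
      push Not at hcon
      have := mul_pos hW2 (sub_pos.mpr hcon)
      linarith
    · by_contra hcon
      push Not at hcon
      have := mul_pos hW2 (sub_pos.mpr hcon)
      linarith
    · by_contra hcon
      push Not at hcon
      have := mul_pos hW2 (sub_pos.mpr hcon)
      linarith
  · -- {(0, 1): 'U2', (1, 2): 'E'}
    have w1 : T.w j = 2 * T.w i := by linarith
    have w2 : T.w k = 2 * T.w i := by linarith
    have a01 : T.a i j = 2 * T.w i := by linarith
    have a12 : T.a j k = 2 * T.w i := by linarith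
    simp only [w1, w2, a01, a12, z02] at r0 r1 r2
    refine ⟨k, i, T.w i, Or.inr ⟨rfl, rfl⟩, ?_⟩
    refine Or.inr (Or.inr (⟨?_, ?_, ?_, ?_, ?_, ?_, ?_, ?_⟩))
    · first | rfl | trivial | linarith
    · first | rfl | trivial | linarith
    · first | rfl | trivial | linarith
    · first | rfl | trivial | linarith
    · first | rfl | trivial | linarith
    · by_contra hcon
      push Not at hcon
      have := mul_pos hW0 (sub_pos.mpr hcon)
      linarith
    · by_contra hcon
      push Not at hcon
      have := mul_pos hW0 (sub_pos.mpr hcon)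
      linarith
    · by_contra hcon
      push Not at hcon
      have := mul_pos hW0 (sub_pos.mpr hcon)
      linarith
  · -- {(0, 1): 'D2', (1, 2): 'E'}
    have w0 : T.w i = 2 * T.w j := by linarith
    have w2 : T.w k = T.w j := by linarith
    have a01 : T.a i j = 2 * T.w j := by linarith
    have a12 : T.a j k = T.w j := by linarith
    simp only [w0, w2, a01, a12, z02] at r0 r1 r2
    refine ⟨k, i, T.w j, Or.inr ⟨rfl, rfl⟩, ?_⟩
    refine Or.inr (Or.inl ⟨?_, ?_, ?_, ?_, ?_, ?_, ?_, ?_⟩)
    · first | rfl | trivial | linarith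
    · first | rfl | trivial | linarith
    · first | rfl | trivial | linarith
    · first | rfl | trivial | linarith
    · first | rfl | trivial | linarith
    · by_contra hcon
      push Not at hcon
      have := mul_pos hW1 (sub_pos.mpr hcon)
      linarith
    · by_contra hcon
      push Not at hcon
      have := mul_pos hW1 (sub_pos.mpr hcon)
      linarith
    · by_contra hcon
      push Not at hcon
      have := mul_pos hW1 (sub_pos.mpr hcon)
      linarith

end Groth.Agent.S7341
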