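import Groth.Statements.S7342
import Mathlib
import Groth.Agent.Helper3.NumTypeG

set_option autoImplicit false
open Finset
open Models Models.NumericalType

namespace Groth.Agent.S7342

/-- Let T be a numerical type on n indices, t ≥ 4 and n > t + 2. Then no t + 2 (-2)-indices of T,
pairwise distinct and numbered i_0, …, i_{t+1}, satisfy: a_{i_j i_{j+1}} > 0 for 1 ≤ j ≤ t - 1,
a_{i_0 i_2} > 0 and a_{i_{t-1} i_{t+1}} > 0. -/
theorem result {n : ℕ} (T : Models.NumericalType n) (t : ℕ) (ht : 4 ≤ t) (hn : t + 2 < n)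
    (v : Fin (t + 2) ↪ Fin n) (hv : ∀ j, T.IsMinusTwo (v j))
    (hchain : ∀ j j' : Fin (t + 2), 1 ≤ j.val → j.val + 1 ≤ t → j'.val = j.val + 1 → 0 < T.a (v j) (v j'))
    (h02 : ∀ j j' : Fin (t + 2), j.val = 0 → j'.val = 2 → 0 < T.a (v j) (v j'))
    (hlast : ∀ j j' : Fin (t + 2), j.val = t - 1 → j'.val = t + 1 → 0 < T.a (v j) (v j')) : False := by
  classical
  let S := Groth.Agent.Helper3.NumType.Sub.of T v hn hv
  have hc : ∀ j j' : Fin (t + 2), 1 ≤ j.val → j.val + 1 ≤ t → j'.val = j.val + 1 →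
      0 < S.A j j' := hchain
  have hc' : ∀ j j' : Fin (t + 2), 1 ≤ j.val → j.val + 1 ≤ t → j'.val = j.val + 1 →
      0 < S.A j' j := fun j j' a b c => S.pos_symm (hc j j' a b c)
  have h02a : ∀ j j' : Fin (t + 2), j.val = 0 → j'.val = 2 → 0 < S.A j j' := h02
  have h02b : ∀ j j' : Fin (t + 2), j.val = 0 → j'.val = 2 → 0 < S.A j' j :=
    fun j j' a b => S.pos_symm (h02a j j' a b)
  have hla : ∀ j j' : Fin (t + 2), j.val = t - 1 → j'.val = t + 1 → 0 < S.A j j' := hlast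
  have hlb : ∀ j j' : Fin (t + 2), j.val = t - 1 → j'.val = t + 1 → 0 < S.A j' j :=
    fun j j' a b => S.pos_symm (hla j j' a b)
  let x : Fin (t + 2) → ℤ := fun p =>
    if p.val = 0 ∨ p.val = 1 ∨ p.val = t ∨ p.val = t + 1 then 1 else 2
  have hx1 : ∀ p : Fin (t + 2), (p.val = 0 ∨ p.val = 1 ∨ p.val = t ∨ p.val = t + 1) → x p = 1 :=
    fun p h => if_pos h
  have hx2 : ∀ p : Fin (t + 2), ¬(p.val = 0 ∨ p.val = 1 ∨ p.val = t ∨ p.val = t + 1) → x p = 2 :=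
    fun p h => if_neg h
  have hx : ∀ p, 0 ≤ x p := by
    intro p
    by_cases h : (p.val = 0 ∨ p.val = 1 ∨ p.val = t ∨ p.val = t + 1)
    · rw [hx1 p h]; norm_num
    · rw [hx2 p h]; norm_num
  have hne : x ≠ 0 := by
    intro h
    have := congrFun h ⟨0, by omega⟩
    rw [hx1 _ (Or.inl rfl)] at this
    simp at this
  apply S.false_of_rows_nonneg x hx hne
  intro p
  rcases p with ⟨k, hk⟩
  by_cases h0 : k = 0
  · subst h0
    apply S.row_nonneg1 x hx ⟨0, hk⟩ ⟨2, by omega⟩ (by simp [Fin.ext_iff]) (h02a _ _ rfl rfl)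
    rw [hx1 ⟨0, hk⟩ (Or.inl rfl), hx2 ⟨2, by omega⟩ (by simp <;> omega)]
    norm_num
  by_cases h1 : k = 1
  · subst h1
    apply S.row_nonneg1 x hx ⟨1, hk⟩ ⟨2, by omega⟩ (by simp [Fin.ext_iff])
      (hc _ _ (by simp) (by simp <;> omega) rfl)
    rw [hx1 ⟨1, hk⟩ (Or.inr (Or.inl rfl)), hx2 ⟨2, by omega⟩ (by simp <;> omega)]
    norm_num
  by_cases ht0 : k = t
  · subst ht0
    apply S.row_nonneg1 x hx ⟨k, hk⟩ ⟨k - 1, by omega⟩ (by simp [Fin.ext_iff] <;> omega)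
      (hc' ⟨k - 1, by omega⟩ ⟨k, hk⟩ (by simp <;> omega) (by simp <;> omega) (by simp <;> omega))
    rw [hx1 ⟨k, hk⟩ (Or.inr (Or.inr (Or.inl rfl))), hx2 ⟨k - 1, by omega⟩ (by simp <;> omega)]
    norm_num
  by_cases ht1 : k = t + 1
  · subst ht1
    apply S.row_nonneg1 x hx ⟨t + 1, hk⟩ ⟨t - 1, by omega⟩ (by simp [Fin.ext_iff] <;> omega)
      (hlb ⟨t - 1, by omega⟩ ⟨t + 1, hk⟩ rfl rfl)
    rw [hx1 ⟨t + 1, hk⟩ (Or.inr (Or.inr (Or.inr rfl))), hx2 ⟨t - 1, by omega⟩ (by simp <;> omega)]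
    norm_num
  have hxk : x ⟨k, hk⟩ = 2 := hx2 _ (by simp <;> omega)
  by_cases h2 : k = 2
  · subst h2
    apply S.row_nonneg3 x hx ⟨2, hk⟩ ⟨0, by omega⟩ ⟨1, by omega⟩ ⟨3, by omega⟩
      (by simp [Fin.ext_iff]) (by simp [Fin.ext_iff]) (by simp [Fin.ext_iff])
      (by simp [Fin.ext_iff]) (by simp [Fin.ext_iff]) (by simp [Fin.ext_iff])
      (h02b _ _ rfl rfl) (hc' ⟨1, by omega⟩ ⟨2, hk⟩ (by simp) (by simp <;> omega) rfl)
      (hc ⟨2, hk⟩ ⟨3, by omega⟩ (by simp) (by simp <;> omega) rfl)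
    rw [hxk, hx1 ⟨0, by omega⟩ (Or.inl rfl), hx1 ⟨1, by omega⟩ (Or.inr (Or.inl rfl)),
      hx2 ⟨3, by omega⟩ (by simp <;> omega)]
    norm_num
  by_cases h3 : k = t - 1
  · subst h3
    apply S.row_nonneg3 x hx ⟨t - 1, hk⟩ ⟨t - 2, by omega⟩ ⟨t, by omega⟩ ⟨t + 1, by omega⟩
      (by simp [Fin.ext_iff] <;> omega) (by simp [Fin.ext_iff] <;> omega) (by simp [Fin.ext_iff] <;> omega)
      (by simp [Fin.ext_iff] <;> omega) (by simp [Fin.ext_iff] <;> omega) (by simp [Fin.ext_iff])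
      (hc' ⟨t - 2, by omega⟩ ⟨t - 1, hk⟩ (by simp <;> omega) (by simp <;> omega) (by simp <;> omega))
      (hc ⟨t - 1, hk⟩ ⟨t, by omega⟩ (by simp <;> omega) (by simp <;> omega) (by simp <;> omega))
      (hla ⟨t - 1, hk⟩ ⟨t + 1, by omega⟩ rfl rfl)
    rw [hxk, hx2 ⟨t - 2, by omega⟩ (by simp <;> omega), hx1 ⟨t, by omega⟩ (Or.inr (Or.inr (Or.inl rfl))),
      hx1 ⟨t + 1, by omega⟩ (Or.inr (Or.inr (Or.inr rfl)))]
    norm_num
  · apply S.row_nonneg2 x hx ⟨k, hk⟩ ⟨k - 1, by omega⟩ ⟨k + 1, by omega⟩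
      (by simp [Fin.ext_iff] <;> omega) (by simp [Fin.ext_iff]) (by simp [Fin.ext_iff] <;> omega)
      (hc' ⟨k - 1, by omega⟩ ⟨k, hk⟩ (by simp <;> omega) (by simp <;> omega) (by simp <;> omega))
      (hc ⟨k, hk⟩ ⟨k + 1, by omega⟩ (by simp <;> omega) (by simp <;> omega) rfl)
    rw [hxk, hx2 ⟨k - 1, by omega⟩ (by simp <;> omega), hx2 ⟨k + 1, by omega⟩ (by simp <;> omega)]
    norm_num

end Groth.Agent.S7342
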