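import Groth.Statements.S7343
import Mathlib
import Groth.Agent.Helper3.NumTypeQ

set_option autoImplicit false
open Finset
open Models Models.NumericalType

namespace Groth.Agent.S7343

/-- Let T be a numerical type on n > 7 indices. Then no seven (-2)-indices of T, pairwise distinct and
named f, g, h, i, j, k, l, have a_fg, a_gh, a_ij, a_jh, a_kl and a_lh all nonzero (three chains of
length two attached to h). -/
theorem result {n : ℕ} (T : Models.NumericalType n) (hn : 7 < n)
    (v : Fin 7 ↪ Fin n) (hv : ∀ j, T.IsMinusTwo (v j))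
    (h01 : T.a (v 0) (v 1) ≠ 0) (h12 : T.a (v 1) (v 2) ≠ 0) (h34 : T.a (v 3) (v 4) ≠ 0)
    (h42 : T.a (v 4) (v 2) ≠ 0) (h56 : T.a (v 5) (v 6) ≠ 0) (h62 : T.a (v 6) (v 2) ≠ 0) : False := by
  have hr : 7 < n := hn
  let S := Groth.Agent.Helper3.NumType.Sub.of T v hr hv
  have hp01 : 0 < S.A 0 1 := S.pos_of_ne (by decide) h01
  have gl01 := S.ge_left hp01
  have gr01 := S.ge_right hp01
  have hp12 : 0 < S.A 1 2 := S.pos_of_ne (by decide) h12
  have gl12 := S.ge_left hp12
  have gr12 := S.ge_right hp12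
  have hp34 : 0 < S.A 3 4 := S.pos_of_ne (by decide) h34
  have gl34 := S.ge_left hp34
  have gr34 := S.ge_right hp34
  have hp42 : 0 < S.A 4 2 := S.pos_of_ne (by decide) h42
  have gl42 := S.ge_left hp42
  have gr42 := S.ge_right hp42
  rw [S.hsymm 4 2] at gl42 gr42
  have hp56 : 0 < S.A 5 6 := S.pos_of_ne (by decide) h56
  have gl56 := S.ge_left hp56
  have gr56 := S.ge_right hp56
  have hp62 : 0 < S.A 6 2 := S.pos_of_ne (by decide) h62
  have gl62 := S.ge_left hp62
  have gr62 := S.ge_right hp62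
  rw [S.hsymm 6 2] at gl62 gr62
  have nn02 := S.hnn 0 2 (by decide)
  have nn03 := S.hnn 0 3 (by decide)
  have nn04 := S.hnn 0 4 (by decide)
  have nn05 := S.hnn 0 5 (by decide)
  have nn06 := S.hnn 0 6 (by decide)
  have nn13 := S.hnn 1 3 (by decide)
  have nn14 := S.hnn 1 4 (by decide)
  have nn15 := S.hnn 1 5 (by decide)
  have nn16 := S.hnn 1 6 (by decide)
  have nn23 := S.hnn 2 3 (by decide)
  have nn25 := S.hnn 2 5 (by decide)
  have nn35 := S.hnn 3 5 (by decide)
  have nn36 := S.hnn 3 6 (by decide)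
  have nn45 := S.hnn 4 5 (by decide)
  have nn46 := S.hnn 4 6 (by decide)
  have hW0 := S.hW 0
  have hW1 := S.hW 1
  have hW2 := S.hW 2
  have hW3 := S.hW 3
  have hW4 := S.hW 4
  have hW5 := S.hW 5
  have hW6 := S.hW 6
  have t := S.Q7 1 2 3 1 2 1 2 (by norm_num)
  linarith

end Groth.Agent.S7343
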