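import Groth.Statements.S7345
import Mathlib
import Groth.Agent.Helper3.NumTypeQ

set_option autoImplicit false
open Finset
open Models Models.NumericalType

namespace Groth.Agent.S7345

/-- Let T be a numerical type on n > 9 indices. Then no nine (-2)-indices of T, pairwise distinct and
named d, e, f, g, h, i, j, k, l, have a_de, a_ef, a_fg, a_gh, a_hi, a_ij, a_jk and a_li all nonzero
(a chain of eight, d to k, with l joined to its sixth vertex i). (The published list of nonzero
entries ends with a_lh, joining l to the fifth vertex h; that configuration already contains the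
completed E7 configuration on eight of the indices and is impossible for that reason alone. The
pictured graph and the argument for it join l to the sixth vertex i, and this row states that case.) -/
theorem result {n : ℕ} (T : Models.NumericalType n) (hn : 9 < n)
    (v : Fin 9 ↪ Fin n) (hv : ∀ j, T.IsMinusTwo (v j))
    (h01 : T.a (v 0) (v 1) ≠ 0) (h12 : T.a (v 1) (v 2) ≠ 0) (h23 : T.a (v 2) (v 3) ≠ 0)
    (h34 : T.a (v 3) (v 4) ≠ 0) (h45 : T.a (v 4) (v 5) ≠ 0) (h56 : T.a (v 5) (v 6) ≠ 0)
    (h67 : T.a (v 6) (v 7) ≠ 0) (h85 : T.a (v 8) (v 5) ≠ 0) : False := by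
  have hr : 9 < n := hn
  let S := Groth.Agent.Helper3.NumType.Sub.of T v hr hv
  have hp01 : 0 < S.A 0 1 := S.pos_of_ne (by decide) h01
  have gl01 := S.ge_left hp01
  have gr01 := S.ge_right hp01
  have hp12 : 0 < S.A 1 2 := S.pos_of_ne (by decide) h12
  have gl12 := S.ge_left hp12
  have gr12 := S.ge_right hp12
  have hp23 : 0 < S.A 2 3 := S.pos_of_ne (by decide) h23
  have gl23 := S.ge_left hp23
  have gr23 := S.ge_right hp23
  have hp34 : 0 < S.A 3 4 := S.pos_of_ne (by decide) h34
  have gl34 := S.ge_left hp34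
  have gr34 := S.ge_right hp34
  have hp45 : 0 < S.A 4 5 := S.pos_of_ne (by decide) h45
  have gl45 := S.ge_left hp45
  have gr45 := S.ge_right hp45
  have hp56 : 0 < S.A 5 6 := S.pos_of_ne (by decide) h56
  have gl56 := S.ge_left hp56
  have gr56 := S.ge_right hp56
  have hp67 : 0 < S.A 6 7 := S.pos_of_ne (by decide) h67
  have gl67 := S.ge_left hp67
  have gr67 := S.ge_right hp67
  have hp85 : 0 < S.A 8 5 := S.pos_of_ne (by decide) h85
  have gl85 := S.ge_left hp85
  have gr85 := S.ge_right hp85
  rw [S.hsymm 8 5] at gl85 gr85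
  have nn02 := S.hnn 0 2 (by decide)
  have nn03 := S.hnn 0 3 (by decide)
  have nn04 := S.hnn 0 4 (by decide)
  have nn05 := S.hnn 0 5 (by decide)
  have nn06 := S.hnn 0 6 (by decide)
  have nn07 := S.hnn 0 7 (by decide)
  have nn08 := S.hnn 0 8 (by decide)
  have nn13 := S.hnn 1 3 (by decide)
  have nn14 := S.hnn 1 4 (by decide)
  have nn15 := S.hnn 1 5 (by decide)
  have nn16 := S.hnn 1 6 (by decide)
  have nn17 := S.hnn 1 7 (by decide)
  have nn18 := S.hnn 1 8 (by decide)
  have nn24 := S.hnn 2 4 (by decide)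
  have nn25 := S.hnn 2 5 (by decide)
  have nn26 := S.hnn 2 6 (by decide)
  have nn27 := S.hnn 2 7 (by decide)
  have nn28 := S.hnn 2 8 (by decide)
  have nn35 := S.hnn 3 5 (by decide)
  have nn36 := S.hnn 3 6 (by decide)
  have nn37 := S.hnn 3 7 (by decide)
  have nn38 := S.hnn 3 8 (by decide)
  have nn46 := S.hnn 4 6 (by decide)
  have nn47 := S.hnn 4 7 (by decide)
  have nn48 := S.hnn 4 8 (by decide)
  have nn57 := S.hnn 5 7 (by decide)
  have nn68 := S.hnn 6 8 (by decide)
  have nn78 := S.hnn 7 8 (by decide)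
  have hW0 := S.hW 0
  have hW1 := S.hW 1
  have hW2 := S.hW 2
  have hW3 := S.hW 3
  have hW4 := S.hW 4
  have hW5 := S.hW 5
  have hW6 := S.hW 6
  have hW7 := S.hW 7
  have hW8 := S.hW 8
  have t := S.Q9 1 2 3 4 5 6 4 2 3 (by norm_num)
  linarith

end Groth.Agent.S7345
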