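import Groth.Statements.S7346
import Mathlib
import Groth.Agent.Helper3.NumTypeS

set_option autoImplicit false
open Finset
open Models Models.NumericalType

namespace Groth.Agent.S7346

/-- Classification of proper subgraphs of type D4 (one vertex joined to three others): let T be a
numerical type on n > 4 indices and i_1, …, i_4 distinct (-2)-indices with a_{12}, a_{13}, a_{14}
nonzero. Then for some integer w all w_{i_j} equal w, these intersection numbers equal w, all other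
a_{i_j i_k} (j ≠ k) vanish, and 2 m_1 ≥ m_2 + m_3 + m_4, 2 m_2 ≥ m_1, 2 m_3 ≥ m_1, 2 m_4 ≥ m_1. -/
theorem result {n : ℕ} (T : Models.NumericalType n) (hn : 4 < n)
    (v : Fin 4 ↪ Fin n) (hv : ∀ j, T.IsMinusTwo (v j)) (h01 : T.a (v 0) (v 1) ≠ 0) (h02 : T.a (v 0) (v 2) ≠ 0) (h03 : T.a (v 0) (v 3) ≠ 0) :
    ∃ w : ℤ, (∀ j : Fin 4, T.w (v j) = w) ∧
      T.a (v 0) (v 1) = w ∧
      T.a (v 0) (v 2) = w ∧
      T.a (v 0) (v 3) = w ∧
      T.a (v 1) (v 2) = 0 ∧
      T.a (v 1) (v 3) = 0 ∧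
      T.a (v 2) (v 3) = 0 ∧
      T.m (v 1) + T.m (v 2) + T.m (v 3) ≤ 2 * T.m (v 0) ∧
      T.m (v 0) ≤ 2 * T.m (v 1) ∧
      T.m (v 0) ≤ 2 * T.m (v 2) ∧
      T.m (v 0) ≤ 2 * T.m (v 3) := by
  have hr : 4 < n := hn
  have key := (Groth.Agent.Helper3.NumType.Sub.of T v hr hv).D4 h01 h02 h03
  have r0 := (Groth.Agent.Helper3.NumType.Sub.of T v hr hv).R4_0
  have r1 := (Groth.Agent.Helper3.NumType.Sub.of T v hr hv).R4_1
  have r2 := (Groth.Agent.Helper3.NumType.Sub.of T v hr hv).R4_2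
  have r3 := (Groth.Agent.Helper3.NumType.Sub.of T v hr hv).R4_3
  dsimp only [Groth.Agent.Helper3.NumType.Sub.of] at key r0 r1 r2 r3
  obtain ⟨⟨z12, z13, z23⟩, e0a, e0b, e1a, e1b, e2a, e2b⟩ := key
  have hW0 := T.w_pos (v 0)
  simp only [z12, z13, z23, e0b, e1b, e2b, e0a, e1a, e2a] at r0 r1 r2 r3
  refine ⟨T.w (v 0), ?_, e0b, e1b, e2b, z12, z13, z23, ?_, ?_, ?_, ?_⟩
  · intro j
    fin_cases j
    · rfl
    · exact e0a
    · exact e1a
    · exact e2a
  · by_contra hcon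
    push Not at hcon
    have := mul_pos hW0 (sub_pos.mpr hcon)
    linarith
  · by_contra hcon
    push Not at hcon
    have := mul_pos hW0 (sub_pos.mpr hcon)
    linarith
  · by_contra hcon
    push Not at hcon
    have := mul_pos hW0 (sub_pos.mpr hcon)
    linarith
  · by_contra hcon
    push Not at hcon
    have := mul_pos hW0 (sub_pos.mpr hcon)
    linarith

end Groth.Agent.S7346
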