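import Groth.Statements.S7347
import Mathlib
import Groth.Agent.Helper3.NumTypeS

set_option autoImplicit false
open Finset
open Models Models.NumericalType

namespace Groth.Agent.S7347

/-- Classification of proper subgraphs of type D5 (a chain i_1 i_2 i_3 with i_4 and i_5 both joined to
i_3): let T be a numerical type on n > 5 indices and i_1, …, i_5 distinct (-2)-indices with a_{12},
a_{23}, a_{34}, a_{35} nonzero. Then for some integer w all w_{i_j} equal w, these intersection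
numbers equal w, all other a_{i_j i_k} (j ≠ k) vanish, and 2 m_1 ≥ m_2, 2 m_2 ≥ m_1 + m_3, 2 m_3 ≥
m_2 + m_4 + m_5, 2 m_4 ≥ m_3, 2 m_5 ≥ m_3. -/
theorem result {n : ℕ} (T : Models.NumericalType n) (hn : 5 < n)
    (v : Fin 5 ↪ Fin n) (hv : ∀ j, T.IsMinusTwo (v j)) (h01 : T.a (v 0) (v 1) ≠ 0) (h12 : T.a (v 1) (v 2) ≠ 0) (h23 : T.a (v 2) (v 3) ≠ 0) (h24 : T.a (v 2) (v 4) ≠ 0) :
    ∃ w : ℤ, (∀ j : Fin 5, T.w (v j) = w) ∧
      T.a (v 0) (v 1) = w ∧
      T.a (v 1) (v 2) = w ∧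
      T.a (v 2) (v 3) = w ∧
      T.a (v 2) (v 4) = w ∧
      T.a (v 0) (v 2) = 0 ∧
      T.a (v 0) (v 3) = 0 ∧
      T.a (v 0) (v 4) = 0 ∧
      T.a (v 1) (v 3) = 0 ∧
      T.a (v 1) (v 4) = 0 ∧
      T.a (v 3) (v 4) = 0 ∧
      T.m (v 1) ≤ 2 * T.m (v 0) ∧
      T.m (v 0) + T.m (v 2) ≤ 2 * T.m (v 1) ∧
      T.m (v 1) + T.m (v 3) + T.m (v 4) ≤ 2 * T.m (v 2) ∧
      T.m (v 2) ≤ 2 * T.m (v 3) ∧
      T.m (v 2) ≤ 2 * T.m (v 4) := by
  have hr : 5 < n := hn
  have key := (Groth.Agent.Helper3.NumType.Sub.of T v hr hv).D5 h01 h12 h23 h24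
  have r0 := (Groth.Agent.Helper3.NumType.Sub.of T v hr hv).R5_0
  have r1 := (Groth.Agent.Helper3.NumType.Sub.of T v hr hv).R5_1
  have r2 := (Groth.Agent.Helper3.NumType.Sub.of T v hr hv).R5_2
  have r3 := (Groth.Agent.Helper3.NumType.Sub.of T v hr hv).R5_3
  have r4 := (Groth.Agent.Helper3.NumType.Sub.of T v hr hv).R5_4
  dsimp only [Groth.Agent.Helper3.NumType.Sub.of] at key r0 r1 r2 r3 r4
  obtain ⟨⟨z02, z03, z04, z13, z14, z34⟩, e0a, e0b, e1a, e1b, e2a, e2b, e3a, e3b⟩ := key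
  have hW0 := T.w_pos (v 0)
  simp only [z02, z03, z04, z13, z14, z34, e0b, e1b, e2b, e3b, e0a, e1a, e2a, e3a] at r0 r1 r2 r3 r4
  refine ⟨T.w (v 0), ?_, (by simp only [e0b, e1b, e2b, e3b, e0a, e1a, e2a, e3a]), (by simp only [e0b, e1b, e2b, e3b, e0a, e1a, e2a, e3a]), (by simp only [e0b, e1b, e2b, e3b, e0a, e1a, e2a, e3a]), (by simp only [e0b, e1b, e2b, e3b, e0a, e1a, e2a, e3a]), z02, z03, z04, z13, z14, z34, ?_, ?_, ?_, ?_, ?_⟩
  · intro j
    fin_cases j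
    · rfl
    · show T.w (v 1) = T.w (v 0)
      simp only [e0b, e1b, e2b, e3b, e0a, e1a, e2a, e3a]
    · show T.w (v 2) = T.w (v 0)
      simp only [e0b, e1b, e2b, e3b, e0a, e1a, e2a, e3a]
    · show T.w (v 3) = T.w (v 0)
      simp only [e0b, e1b, e2b, e3b, e0a, e1a, e2a, e3a]
    · show T.w (v 4) = T.w (v 0)
      simp only [e0b, e1b, e2b, e3b, e0a, e1a, e2a, e3a]
  · by_contra hcon
    push Not at hcon
    have := mul_pos hW0 (sub_pos.mpr hcon)
    linarith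
  · by_contra hcon
    push Not at hcon
    have := mul_pos hW0 (sub_pos.mpr hcon)
    linarith
  · by_contra hcon
    push Not at hcon
    have := mul_pos hW0 (sub_pos.mpr hcon)
    linarith
  · by_contra hcon
    push Not at hcon
    have := mul_pos hW0 (sub_pos.mpr hcon)
    linarith
  · by_contra hcon
    push Not at hcon
    have := mul_pos hW0 (sub_pos.mpr hcon)
    linarith

end Groth.Agent.S7347
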