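import Groth.Statements.S7348
import Mathlib
import Groth.Agent.Helper3.NumTypeS

set_option autoImplicit false
open Finset
open Models Models.NumericalType

namespace Groth.Agent.S7348

/-- Classification of proper subgraphs of type E6 (a chain i_1 … i_5 with i_6 joined to i_3): let T be a
numerical type on n > 6 indices and i_1, …, i_6 distinct (-2)-indices with a_{12}, a_{23}, a_{34},
a_{45}, a_{36} nonzero. Then for some integer w all w_{i_j} equal w, these intersection numbers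
equal w, all other a_{i_j i_k} (j ≠ k) vanish, and 2 m_1 ≥ m_2, 2 m_2 ≥ m_1 + m_3, 2 m_3 ≥ m_2 + m_4
+ m_6, 2 m_4 ≥ m_3 + m_5, 2 m_5 ≥ m_4, 2 m_6 ≥ m_3. (The published list of inequalities has 2 m_5 ≥
m_3 where the intersection matrix gives 2 m_5 ≥ m_4; the former fails for the extended E8
configuration of multiplicities 4, 5, 6, 4, 2 with 3 attached to the third vertex, so 2 m_5 ≥ m_4 is
stated.) -/
theorem result {n : ℕ} (T : Models.NumericalType n) (hn : 6 < n)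
    (v : Fin 6 ↪ Fin n) (hv : ∀ j, T.IsMinusTwo (v j)) (h01 : T.a (v 0) (v 1) ≠ 0) (h12 : T.a (v 1) (v 2) ≠ 0) (h23 : T.a (v 2) (v 3) ≠ 0) (h34 : T.a (v 3) (v 4) ≠ 0) (h25 : T.a (v 2) (v 5) ≠ 0) :
    ∃ w : ℤ, (∀ j : Fin 6, T.w (v j) = w) ∧
      T.a (v 0) (v 1) = w ∧
      T.a (v 1) (v 2) = w ∧
      T.a (v 2) (v 3) = w ∧
      T.a (v 3) (v 4) = w ∧
      T.a (v 2) (v 5) = w ∧
      T.a (v 0) (v 2) = 0 ∧
      T.a (v 0) (v 3) = 0 ∧
      T.a (v 0) (v 4) = 0 ∧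
      T.a (v 0) (v 5) = 0 ∧
      T.a (v 1) (v 3) = 0 ∧
      T.a (v 1) (v 4) = 0 ∧
      T.a (v 1) (v 5) = 0 ∧
      T.a (v 2) (v 4) = 0 ∧
      T.a (v 3) (v 5) = 0 ∧
      T.a (v 4) (v 5) = 0 ∧
      T.m (v 1) ≤ 2 * T.m (v 0) ∧
      T.m (v 0) + T.m (v 2) ≤ 2 * T.m (v 1) ∧
      T.m (v 1) + T.m (v 3) + T.m (v 5) ≤ 2 * T.m (v 2) ∧
      T.m (v 2) + T.m (v 4) ≤ 2 * T.m (v 3) ∧
      T.m (v 3) ≤ 2 * T.m (v 4) ∧
      T.m (v 2) ≤ 2 * T.m (v 5) := by
  have hr : 6 < n := hn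
  have key := (Groth.Agent.Helper3.NumType.Sub.of T v hr hv).E6 h01 h12 h23 h34 h25
  have r0 := (Groth.Agent.Helper3.NumType.Sub.of T v hr hv).R6_0
  have r1 := (Groth.Agent.Helper3.NumType.Sub.of T v hr hv).R6_1
  have r2 := (Groth.Agent.Helper3.NumType.Sub.of T v hr hv).R6_2
  have r3 := (Groth.Agent.Helper3.NumType.Sub.of T v hr hv).R6_3
  have r4 := (Groth.Agent.Helper3.NumType.Sub.of T v hr hv).R6_4
  have r5 := (Groth.Agent.Helper3.NumType.Sub.of T v hr hv).R6_5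
  dsimp only [Groth.Agent.Helper3.NumType.Sub.of] at key r0 r1 r2 r3 r4 r5
  obtain ⟨⟨z02, z03, z04, z05, z13, z14, z15, z24, z35, z45⟩, e0a, e0b, e1a, e1b, e2a, e2b, e3a, e3b, e4a, e4b⟩ := key
  have hW0 := T.w_pos (v 0)
  simp only [z02, z03, z04, z05, z13, z14, z15, z24, z35, z45, e0b, e1b, e2b, e3b, e4b, e0a, e1a, e2a, e3a, e4a] at r0 r1 r2 r3 r4 r5
  refine ⟨T.w (v 0), ?_, (by simp only [e0b, e1b, e2b, e3b, e4b, e0a, e1a, e2a, e3a, e4a]), (by simp only [e0b, e1b, e2b, e3b, e4b, e0a, e1a, e2a, e3a, e4a]), (by simp only [e0b, e1b, e2b, e3b, e4b, e0a, e1a, e2a, e3a, e4a]), (by simp only [e0b, e1b, e2b, e3b, e4b, e0a, e1a, e2a, e3a, e4a]), (by simp only [e0b, e1b, e2b, e3b, e4b, e0a, e1a, e2a, e3a, e4a]), z02, z03, z04, z05, z13, z14, z15, z24, z35, z45, ?_, ?_, ?_, ?_, ?_, ?_⟩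
  · intro j
    fin_cases j
    · rfl
    · show T.w (v 1) = T.w (v 0)
      simp only [e0b, e1b, e2b, e3b, e4b, e0a, e1a, e2a, e3a, e4a]
    · show T.w (v 2) = T.w (v 0)
      simp only [e0b, e1b, e2b, e3b, e4b, e0a, e1a, e2a, e3a, e4a]
    · show T.w (v 3) = T.w (v 0)
      simp only [e0b, e1b, e2b, e3b, e4b, e0a, e1a, e2a, e3a, e4a]
    · show T.w (v 4) = T.w (v 0)
      simp only [e0b, e1b, e2b, e3b, e4b, e0a, e1a, e2a, e3a, e4a]
    · show T.w (v 5) = T.w (v 0)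
      simp only [e0b, e1b, e2b, e3b, e4b, e0a, e1a, e2a, e3a, e4a]
  · by_contra hcon
    push Not at hcon
    have := mul_pos hW0 (sub_pos.mpr hcon)
    linarith
  · by_contra hcon
    push Not at hcon
    have := mul_pos hW0 (sub_pos.mpr hcon)
    linarith
  · by_contra hcon
    push Not at hcon
    have := mul_pos hW0 (sub_pos.mpr hcon)
    linarith
  · by_contra hcon
    push Not at hcon
    have := mul_pos hW0 (sub_pos.mpr hcon)
    linarith
  · by_contra hcon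
    push Not at hcon
    have := mul_pos hW0 (sub_pos.mpr hcon)
    linarith
  · by_contra hcon
    push Not at hcon
    have := mul_pos hW0 (sub_pos.mpr hcon)
    linarith

end Groth.Agent.S7348
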