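import Groth.Statements.S7349
import Mathlib
import Groth.Agent.Helper3.NumTypeS

set_option autoImplicit false
open Finset
open Models Models.NumericalType

namespace Groth.Agent.S7349

/-- Classification of proper subgraphs of type E7 (a chain i_1 … i_6 with i_7 joined to i_4): let T be a
numerical type on n > 7 indices and i_1, …, i_7 distinct (-2)-indices with a_{12}, a_{23}, a_{34},
a_{45}, a_{56}, a_{47} nonzero. Then for some integer w all w_{i_j} equal w, these intersection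
numbers equal w, all other a_{i_j i_k} (j ≠ k) vanish, and 2 m_1 ≥ m_2, 2 m_2 ≥ m_1 + m_3, 2 m_3 ≥
m_2 + m_4, 2 m_4 ≥ m_3 + m_5 + m_7, 2 m_5 ≥ m_4 + m_6, 2 m_6 ≥ m_5, 2 m_7 ≥ m_4. -/
theorem result {n : ℕ} (T : Models.NumericalType n) (hn : 7 < n)
    (v : Fin 7 ↪ Fin n) (hv : ∀ j, T.IsMinusTwo (v j)) (h01 : T.a (v 0) (v 1) ≠ 0) (h12 : T.a (v 1) (v 2) ≠ 0) (h23 : T.a (v 2) (v 3) ≠ 0) (h34 : T.a (v 3) (v 4) ≠ 0) (h45 : T.a (v 4) (v 5) ≠ 0) (h36 : T.a (v 3) (v 6) ≠ 0) :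
    ∃ w : ℤ, (∀ j : Fin 7, T.w (v j) = w) ∧
      T.a (v 0) (v 1) = w ∧
      T.a (v 1) (v 2) = w ∧
      T.a (v 2) (v 3) = w ∧
      T.a (v 3) (v 4) = w ∧
      T.a (v 4) (v 5) = w ∧
      T.a (v 3) (v 6) = w ∧
      T.a (v 0) (v 2) = 0 ∧
      T.a (v 0) (v 3) = 0 ∧
      T.a (v 0) (v 4) = 0 ∧
      T.a (v 0) (v 5) = 0 ∧
      T.a (v 0) (v 6) = 0 ∧
      T.a (v 1) (v 3) = 0 ∧
      T.a (v 1) (v 4) = 0 ∧
      T.a (v 1) (v 5) = 0 ∧
      T.a (v 1) (v 6) = 0 ∧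
      T.a (v 2) (v 4) = 0 ∧
      T.a (v 2) (v 5) = 0 ∧
      T.a (v 2) (v 6) = 0 ∧
      T.a (v 3) (v 5) = 0 ∧
      T.a (v 4) (v 6) = 0 ∧
      T.a (v 5) (v 6) = 0 ∧
      T.m (v 1) ≤ 2 * T.m (v 0) ∧
      T.m (v 0) + T.m (v 2) ≤ 2 * T.m (v 1) ∧
      T.m (v 1) + T.m (v 3) ≤ 2 * T.m (v 2) ∧
      T.m (v 2) + T.m (v 4) + T.m (v 6) ≤ 2 * T.m (v 3) ∧
      T.m (v 3) + T.m (v 5) ≤ 2 * T.m (v 4) ∧
      T.m (v 4) ≤ 2 * T.m (v 5) ∧
      T.m (v 3) ≤ 2 * T.m (v 6) := by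
  have hr : 7 < n := hn
  have key := (Groth.Agent.Helper3.NumType.Sub.of T v hr hv).E7 h01 h12 h23 h34 h45 h36
  have r0 := (Groth.Agent.Helper3.NumType.Sub.of T v hr hv).R7_0
  have r1 := (Groth.Agent.Helper3.NumType.Sub.of T v hr hv).R7_1
  have r2 := (Groth.Agent.Helper3.NumType.Sub.of T v hr hv).R7_2
  have r3 := (Groth.Agent.Helper3.NumType.Sub.of T v hr hv).R7_3
  have r4 := (Groth.Agent.Helper3.NumType.Sub.of T v hr hv).R7_4
  have r5 := (Groth.Agent.Helper3.NumType.Sub.of T v hr hv).R7_5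
  have r6 := (Groth.Agent.Helper3.NumType.Sub.of T v hr hv).R7_6
  dsimp only [Groth.Agent.Helper3.NumType.Sub.of] at key r0 r1 r2 r3 r4 r5 r6
  obtain ⟨⟨z02, z03, z04, z05, z06, z13, z14, z15, z16, z24, z25, z26, z35, z46, z56⟩, e0a, e0b, e1a, e1b, e2a, e2b, e3a, e3b, e4a, e4b, e5a, e5b⟩ := key
  have hW0 := T.w_pos (v 0)
  simp only [z02, z03, z04, z05, z06, z13, z14, z15, z16, z24, z25, z26, z35, z46, z56, e0b, e1b, e2b, e3b, e4b, e5b, e0a, e1a, e2a, e3a, e4a, e5a] at r0 r1 r2 r3 r4 r5 r6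
  refine ⟨T.w (v 0), ?_, (by simp only [e0b, e1b, e2b, e3b, e4b, e5b, e0a, e1a, e2a, e3a, e4a, e5a]), (by simp only [e0b, e1b, e2b, e3b, e4b, e5b, e0a, e1a, e2a, e3a, e4a, e5a]), (by simp only [e0b, e1b, e2b, e3b, e4b, e5b, e0a, e1a, e2a, e3a, e4a, e5a]), (by simp only [e0b, e1b, e2b, e3b, e4b, e5b, e0a, e1a, e2a, e3a, e4a, e5a]), (by simp only [e0b, e1b, e2b, e3b, e4b, e5b, e0a, e1a, e2a, e3a, e4a, e5a]), (by simp only [e0b, e1b, e2b, e3b, e4b, e5b, e0a, e1a, e2a, e3a, e4a, e5a]), z02, z03, z04, z05, z06, z13, z14, z15, z16, z24, z25, z26, z35, z46, z56, ?_, ?_, ?_, ?_, ?_, ?_, ?_⟩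
  · intro j
    fin_cases j
    · rfl
    · show T.w (v 1) = T.w (v 0)
      simp only [e0b, e1b, e2b, e3b, e4b, e5b, e0a, e1a, e2a, e3a, e4a, e5a]
    · show T.w (v 2) = T.w (v 0)
      simp only [e0b, e1b, e2b, e3b, e4b, e5b, e0a, e1a, e2a, e3a, e4a, e5a]
    · show T.w (v 3) = T.w (v 0)
      simp only [e0b, e1b, e2b, e3b, e4b, e5b, e0a, e1a, e2a, e3a, e4a, e5a]
    · show T.w (v 4) = T.w (v 0)
      simp only [e0b, e1b, e2b, e3b, e4b, e5b, e0a, e1a, e2a, e3a, e4a, e5a]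
    · show T.w (v 5) = T.w (v 0)
      simp only [e0b, e1b, e2b, e3b, e4b, e5b, e0a, e1a, e2a, e3a, e4a, e5a]
    · show T.w (v 6) = T.w (v 0)
      simp only [e0b, e1b, e2b, e3b, e4b, e5b, e0a, e1a, e2a, e3a, e4a, e5a]
  · by_contra hcon
    push Not at hcon
    have := mul_pos hW0 (sub_pos.mpr hcon)
    linarith
  · by_contra hcon
    push Not at hcon
    have := mul_pos hW0 (sub_pos.mpr hcon)
    linarith
  · by_contra hcon
    push Not at hcon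
    have := mul_pos hW0 (sub_pos.mpr hcon)
    linarith
  · by_contra hcon
    push Not at hcon
    have := mul_pos hW0 (sub_pos.mpr hcon)
    linarith
  · by_contra hcon
    push Not at hcon
    have := mul_pos hW0 (sub_pos.mpr hcon)
    linarith
  · by_contra hcon
    push Not at hcon
    have := mul_pos hW0 (sub_pos.mpr hcon)
    linarith
  · by_contra hcon
    push Not at hcon
    have := mul_pos hW0 (sub_pos.mpr hcon)
    linarith

end Groth.Agent.S7349
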