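import Groth.Statements.S7350
import Mathlib
import Groth.Agent.Helper3.NumTypeS

set_option autoImplicit false
open Finset
open Models Models.NumericalType

namespace Groth.Agent.S7350

/-- Classification of proper subgraphs of type E8 (a chain i_1 … i_7 with i_8 joined to i_5): let T be a
numerical type on n > 8 indices and i_1, …, i_8 distinct (-2)-indices with a_{12}, a_{23}, a_{34},
a_{45}, a_{56}, a_{67}, a_{58} nonzero. Then for some integer w all w_{i_j} equal w, these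
intersection numbers equal w, all other a_{i_j i_k} (j ≠ k) vanish, and 2 m_1 ≥ m_2, 2 m_2 ≥ m_1 +
m_3, 2 m_3 ≥ m_2 + m_4, 2 m_4 ≥ m_3 + m_5, 2 m_5 ≥ m_4 + m_6 + m_8, 2 m_6 ≥ m_5 + m_7, 2 m_7 ≥ m_6,
2 m_8 ≥ m_5. (The published statement lists a_{65} and a_{57} among the nonzero entries, which
contradicts its own conclusion a_{57} = 0; this row uses the edges of the E8 graph, a_{67} and
a_{58}, as the pictured graph and the matrix give them.) -/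
theorem result {n : ℕ} (T : Models.NumericalType n) (hn : 8 < n)
    (v : Fin 8 ↪ Fin n) (hv : ∀ j, T.IsMinusTwo (v j)) (h01 : T.a (v 0) (v 1) ≠ 0) (h12 : T.a (v 1) (v 2) ≠ 0) (h23 : T.a (v 2) (v 3) ≠ 0) (h34 : T.a (v 3) (v 4) ≠ 0) (h45 : T.a (v 4) (v 5) ≠ 0) (h56 : T.a (v 5) (v 6) ≠ 0) (h47 : T.a (v 4) (v 7) ≠ 0) :
    ∃ w : ℤ, (∀ j : Fin 8, T.w (v j) = w) ∧
      T.a (v 0) (v 1) = w ∧
      T.a (v 1) (v 2) = w ∧
      T.a (v 2) (v 3) = w ∧
      T.a (v 3) (v 4) = w ∧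
      T.a (v 4) (v 5) = w ∧
      T.a (v 5) (v 6) = w ∧
      T.a (v 4) (v 7) = w ∧
      T.a (v 0) (v 2) = 0 ∧
      T.a (v 0) (v 3) = 0 ∧
      T.a (v 0) (v 4) = 0 ∧
      T.a (v 0) (v 5) = 0 ∧
      T.a (v 0) (v 6) = 0 ∧
      T.a (v 0) (v 7) = 0 ∧
      T.a (v 1) (v 3) = 0 ∧
      T.a (v 1) (v 4) = 0 ∧
      T.a (v 1) (v 5) = 0 ∧
      T.a (v 1) (v 6) = 0 ∧
      T.a (v 1) (v 7) = 0 ∧
      T.a (v 2) (v 4) = 0 ∧
      T.a (v 2) (v 5) = 0 ∧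
      T.a (v 2) (v 6) = 0 ∧
      T.a (v 2) (v 7) = 0 ∧
      T.a (v 3) (v 5) = 0 ∧
      T.a (v 3) (v 6) = 0 ∧
      T.a (v 3) (v 7) = 0 ∧
      T.a (v 4) (v 6) = 0 ∧
      T.a (v 5) (v 7) = 0 ∧
      T.a (v 6) (v 7) = 0 ∧
      T.m (v 1) ≤ 2 * T.m (v 0) ∧
      T.m (v 0) + T.m (v 2) ≤ 2 * T.m (v 1) ∧
      T.m (v 1) + T.m (v 3) ≤ 2 * T.m (v 2) ∧
      T.m (v 2) + T.m (v 4) ≤ 2 * T.m (v 3) ∧
      T.m (v 3) + T.m (v 5) + T.m (v 7) ≤ 2 * T.m (v 4) ∧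
      T.m (v 4) + T.m (v 6) ≤ 2 * T.m (v 5) ∧
      T.m (v 5) ≤ 2 * T.m (v 6) ∧
      T.m (v 4) ≤ 2 * T.m (v 7) := by
  have hr : 8 < n := hn
  have key := (Groth.Agent.Helper3.NumType.Sub.of T v hr hv).E8 h01 h12 h23 h34 h45 h56 h47
  have r0 := (Groth.Agent.Helper3.NumType.Sub.of T v hr hv).R8_0
  have r1 := (Groth.Agent.Helper3.NumType.Sub.of T v hr hv).R8_1
  have r2 := (Groth.Agent.Helper3.NumType.Sub.of T v hr hv).R8_2
  have r3 := (Groth.Agent.Helper3.NumType.Sub.of T v hr hv).R8_3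
  have r4 := (Groth.Agent.Helper3.NumType.Sub.of T v hr hv).R8_4
  have r5 := (Groth.Agent.Helper3.NumType.Sub.of T v hr hv).R8_5
  have r6 := (Groth.Agent.Helper3.NumType.Sub.of T v hr hv).R8_6
  have r7 := (Groth.Agent.Helper3.NumType.Sub.of T v hr hv).R8_7
  dsimp only [Groth.Agent.Helper3.NumType.Sub.of] at key r0 r1 r2 r3 r4 r5 r6 r7
  obtain ⟨⟨z02, z03, z04, z05, z06, z07, z13, z14, z15, z16, z17, z24, z25, z26, z27, z35, z36, z37, z46, z57, z67⟩, e0a, e0b, e1a, e1b, e2a, e2b, e3a, e3b, e4a, e4b, e5a, e5b, e6a, e6b⟩ := key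
  have hW0 := T.w_pos (v 0)
  simp only [z02, z03, z04, z05, z06, z07, z13, z14, z15, z16, z17, z24, z25, z26, z27, z35, z36, z37, z46, z57, z67, e0b, e1b, e2b, e3b, e4b, e5b, e6b, e0a, e1a, e2a, e3a, e4a, e5a, e6a] at r0 r1 r2 r3 r4 r5 r6 r7
  refine ⟨T.w (v 0), ?_, (by simp only [e0b, e1b, e2b, e3b, e4b, e5b, e6b, e0a, e1a, e2a, e3a, e4a, e5a, e6a]), (by simp only [e0b, e1b, e2b, e3b, e4b, e5b, e6b, e0a, e1a, e2a, e3a, e4a, e5a, e6a]), (by simp only [e0b, e1b, e2b, e3b, e4b, e5b, e6b, e0a, e1a, e2a, e3a, e4a, e5a, e6a]), (by simp only [e0b, e1b, e2b, e3b, e4b, e5b, e6b, e0a, e1a, e2a, e3a, e4a, e5a, e6a]), (by simp only [e0b, e1b, e2b, e3b, e4b, e5b, e6b, e0a, e1a, e2a, e3a, e4a, e5a, e6a]), (by simp only [e0b, e1b, e2b, e3b, e4b, e5b, e6b, e0a, e1a, e2a, e3a, e4a, e5a, e6a]), (by simp only [e0b, e1b, e2b, e3b, e4b, e5b, e6b, e0a, e1a, e2a, e3a, e4a, e5a, e6a]), z02, z03, z04, z05,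 z06, z07, z13, z14, z15, z16, z17, z24, z25, z26, z27, z35, z36, z37, z46, z57, z67, ?_, ?_, ?_, ?_, ?_, ?_, ?_, ?_⟩
  · intro j
    fin_cases j
    · rfl
    · show T.w (v 1) = T.w (v 0)
      simp only [e0b, e1b, e2b, e3b, e4b, e5b, e6b, e0a, e1a, e2a, e3a, e4a, e5a, e6a]
    · show T.w (v 2) = T.w (v 0)
      simp only [e0b, e1b, e2b, e3b, e4b, e5b, e6b, e0a, e1a, e2a, e3a, e4a, e5a, e6a]
    · show T.w (v 3) = T.w (v 0)
      simp only [e0b, e1b, e2b, e3b, e4b, e5b, e6b, e0a, e1a, e2a, e3a, e4a, e5a, e6a]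
    · show T.w (v 4) = T.w (v 0)
      simp only [e0b, e1b, e2b, e3b, e4b, e5b, e6b, e0a, e1a, e2a, e3a, e4a, e5a, e6a]
    · show T.w (v 5) = T.w (v 0)
      simp only [e0b, e1b, e2b, e3b, e4b, e5b, e6b, e0a, e1a, e2a, e3a, e4a, e5a, e6a]
    · show T.w (v 6) = T.w (v 0)
      simp only [e0b, e1b, e2b, e3b, e4b, e5b, e6b, e0a, e1a, e2a, e3a, e4a, e5a, e6a]
    · show T.w (v 7) = T.w (v 0)
      simp only [e0b, e1b, e2b, e3b, e4b, e5b, e6b, e0a, e1a, e2a, e3a, e4a, e5a, e6a]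
  · by_contra hcon
    push Not at hcon
    have := mul_pos hW0 (sub_pos.mpr hcon)
    linarith
  · by_contra hcon
    push Not at hcon
    have := mul_pos hW0 (sub_pos.mpr hcon)
    linarith
  · by_contra hcon
    push Not at hcon
    have := mul_pos hW0 (sub_pos.mpr hcon)
    linarith
  · by_contra hcon
    push Not at hcon
    have := mul_pos hW0 (sub_pos.mpr hcon)
    linarith
  · by_contra hcon
    push Not at hcon
    have := mul_pos hW0 (sub_pos.mpr hcon)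
    linarith
  · by_contra hcon
    push Not at hcon
    have := mul_pos hW0 (sub_pos.mpr hcon)
    linarith
  · by_contra hcon
    push Not at hcon
    have := mul_pos hW0 (sub_pos.mpr hcon)
    linarith
  · by_contra hcon
    push Not at hcon
    have := mul_pos hW0 (sub_pos.mpr hcon)
    linarith

end Groth.Agent.S7350
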