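import Groth.Statements.S7351
import Mathlib
import Groth.Agent.Helper3.NumTypeQ

set_option autoImplicit false
open Finset
open Models Models.NumericalType

namespace Groth.Agent.S7351

/-- Let T be a numerical type on n > 5 indices. There do not exist five distinct (-2)-indices h, i, j,
k, l with a_hi > 0, a_hj > 0, a_hk > 0 and a_hl > 0. -/
theorem result {n : ℕ} (T : Models.NumericalType n) (hn : 5 < n)
    (v : Fin 5 ↪ Fin n) (hv : ∀ j, T.IsMinusTwo (v j))
    (h01 : 0 < T.a (v 0) (v 1)) (h02 : 0 < T.a (v 0) (v 2)) (h03 : 0 < T.a (v 0) (v 3)) (h04 : 0 < T.a (v 0) (v 4)) : False := by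
  have hr : 5 < n := hn
  let S := Groth.Agent.Helper3.NumType.Sub.of T v hr hv
  have hp01 : 0 < S.A 0 1 := h01
  have gl01 := S.ge_left hp01
  have gr01 := S.ge_right hp01
  have hp02 : 0 < S.A 0 2 := h02
  have gl02 := S.ge_left hp02
  have gr02 := S.ge_right hp02
  have hp03 : 0 < S.A 0 3 := h03
  have gl03 := S.ge_left hp03
  have gr03 := S.ge_right hp03
  have hp04 : 0 < S.A 0 4 := h04
  have gl04 := S.ge_left hp04
  have gr04 := S.ge_right hp04
  have nn12 := S.hnn 1 2 (by decide)
  have nn13 := S.hnn 1 3 (by decide)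
  have nn14 := S.hnn 1 4 (by decide)
  have nn23 := S.hnn 2 3 (by decide)
  have nn24 := S.hnn 2 4 (by decide)
  have nn34 := S.hnn 3 4 (by decide)
  have hW0 := S.hW 0
  have hW1 := S.hW 1
  have hW2 := S.hW 2
  have hW3 := S.hW 3
  have hW4 := S.hW 4
  have t := S.Q5 2 1 1 1 1 (by norm_num)
  linarith

end Groth.Agent.S7351
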