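import Groth.Statements.S7352
import Mathlib
import Groth.Agent.Helper3.NumTypeS

set_option autoImplicit false
open Finset
open Models Models.NumericalType

namespace Groth.Agent.S7352

/-- Classification of proper subgraphs which are chains of four vertices: let T be a numerical type on n
> 4 indices and i_1, …, i_4 distinct (-2)-indices with a_{i_j i_{j+1}} nonzero for j < 4. Then
a_{i_j i_l} = 0 for |j - l| ≥ 2 and, after possibly reversing the order of the indices, for some
integer w one of the following holds: (A4) w = (w, w, w, w), consecutive a = (w, w, w), with 2m_1 ≥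
m_2, 2m_2 ≥ m_1 + m_3, 2m_3 ≥ m_2 + m_4, 2m_4 ≥ m_3; (C4) w = (w, w, w, 2w), consecutive a = (w, w,
2w), with 2m_1 ≥ m_2, 2m_2 ≥ m_1 + m_3, 2m_3 ≥ m_2 + 2m_4, 2m_4 ≥ m_3; (B4) w = (2w, 2w, 2w, w),
consecutive a = (2w, 2w, 2w), with 2m_1 ≥ m_2, 2m_2 ≥ m_1 + m_3, 2m_3 ≥ m_2 + m_4, m_4 ≥ m_3; (F4) w
= (w, w, 2w, 2w), consecutive a = (w, 2w, 2w), with 2m_1 ≥ m_2, 2m_2 ≥ m_1 + 2m_3, 2m_3 ≥ m_2 + m_4,
2m_4 ≥ m_3. -/
theorem result {n : ℕ} (T : Models.NumericalType n) (hn : 4 < n)
    (v : Fin 4 ↪ Fin n) (hv : ∀ j, T.IsMinusTwo (v j)) (h01 : T.a (v 0) (v 1) ≠ 0) (h12 : T.a (v 1) (v 2) ≠ 0) (h23 : T.a (v 2) (v 3) ≠ 0) :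
    (T.a (v 0) (v 2) = 0 ∧ T.a (v 0) (v 3) = 0 ∧ T.a (v 1) (v 3) = 0) ∧
    ∃ (u : Fin 4 → Fin n) (w : ℤ), ((∀ j, u j = v j) ∨ (∀ j, u j = v (Fin.rev j))) ∧
      ((T.w (u 0) = w ∧ T.w (u 1) = w ∧ T.w (u 2) = w ∧ T.w (u 3) = w ∧ T.a (u 0) (u 1) = w ∧ T.a (u 1) (u 2) = w ∧ T.a (u 2) (u 3) = w ∧ T.m (u 1) ≤ 2 * T.m (u 0) ∧ T.m (u 0) + T.m (u 2) ≤ 2 * T.m (u 1) ∧ T.m (u 1) + T.m (u 3) ≤ 2 * T.m (u 2) ∧ T.m (u 2) ≤ 2 * T.m (u 3)) ∨
      (T.w (u 0) = w ∧ T.w (u 1) = w ∧ T.w (u 2) = w ∧ T.w (u 3) = 2 * w ∧ T.a (u 0) (u 1) = w ∧ T.a (u 1) (u 2) = w ∧ T.a (u 2) (u 3) = 2 * w ∧ T.m (u 1) ≤ 2 * T.m (u 0) ∧ T.m (u 0) + T.m (u 2) ≤ 2 * T.m (u 1) ∧ T.m (u 1) + 2 * T.m (u 3) ≤ 2 * T.m (u 2) ∧ T.m (u 2) ≤ 2 * T.m (u 3)) ∨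
      (T.w (u 0) = 2 * w ∧ T.w (u 1) = 2 * w ∧ T.w (u 2) = 2 * w ∧ T.w (u 3) = w ∧ T.a (u 0) (u 1) = 2 * w ∧ T.a (u 1) (u 2) = 2 * w ∧ T.a (u 2) (u 3) = 2 * w ∧ T.m (u 1) ≤ 2 * T.m (u 0) ∧ T.m (u 0) + T.m (u 2) ≤ 2 * T.m (u 1) ∧ T.m (u 1) + T.m (u 3) ≤ 2 * T.m (u 2) ∧ T.m (u 2) ≤ T.m (u 3)) ∨
      (T.w (u 0) = w ∧ T.w (u 1) = w ∧ T.w (u 2) = 2 * w ∧ T.w (u 3) = 2 * w ∧ T.a (u 0) (u 1) = w ∧ T.a (u 1) (u 2) = 2 * w ∧ T.a (u 2) (u 3) = 2 * w ∧ T.m (u 1) ≤ 2 * T.m (u 0) ∧ T.m (u 0) + 2 * T.m (u 2) ≤ 2 * T.m (u 1) ∧ T.m (u 1) + T.m (u 3) ≤ 2 * T.m (u 2) ∧ T.m (u 2) ≤ 2 * T.m (u 3))) := by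
  have hr : 4 < n := hn
  have key := (Groth.Agent.Helper3.NumType.Sub.of T v hr hv).chain4 h01 h12 h23
  have r0 := (Groth.Agent.Helper3.NumType.Sub.of T v hr hv).R4_0
  have hW0 := (Groth.Agent.Helper3.NumType.Sub.of T v hr hv).hW 0
  have r1 := (Groth.Agent.Helper3.NumType.Sub.of T v hr hv).R4_1
  have hW1 := (Groth.Agent.Helper3.NumType.Sub.of T v hr hv).hW 1
  have r2 := (Groth.Agent.Helper3.NumType.Sub.of T v hr hv).R4_2
  have hW2 := (Groth.Agent.Helper3.NumType.Sub.of T v hr hv).hW 2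
  have r3 := (Groth.Agent.Helper3.NumType.Sub.of T v hr hv).R4_3
  have hW3 := (Groth.Agent.Helper3.NumType.Sub.of T v hr hv).hW 3
  dsimp only [Groth.Agent.Helper3.NumType.Sub.of] at key r0 r1 r2 r3 hW0 hW1 hW2 hW3
  obtain ⟨⟨z02, z03, z13⟩, key⟩ := key
  have s10 := Groth.Agent.Helper3.NumType.a_symm T (v 1) (v 0)
  have s21 := Groth.Agent.Helper3.NumType.a_symm T (v 2) (v 1)
  have s32 := Groth.Agent.Helper3.NumType.a_symm T (v 3) (v 2)
  refine ⟨⟨z02, z03, z13⟩, ?_⟩
  have hrev0 : Fin.rev (0 : Fin 4) = 3 := by decide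
  have hrev1 : Fin.rev (1 : Fin 4) = 2 := by decide
  have hrev2 : Fin.rev (2 : Fin 4) = 1 := by decide
  have hrev3 : Fin.rev (3 : Fin 4) = 0 := by decide
  rcases key with ⟨e0a, e0b, e1a, e1b, e2a, e2b⟩ | ⟨e0a, e0b, e1a, e1b, e2a, e2b⟩ | ⟨e0a, e0b, e1a, e1b, e2a, e2b⟩ | ⟨e0a, e0b, e1a, e1b, e2a, e2b⟩ | ⟨e0a, e0b, e1a, e1b, e2a, e2b⟩ | ⟨e0a, e0b, e1a, e1b, e2a, e2b⟩ | ⟨e0a, e0b, e1a, e1b, e2a, e2b⟩
  · -- {(0, 1): 'E', (1, 2): 'E', (2, 3): 'E'}
    have w1 : T.w (v 1) = T.w (v 0) := by linarith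
    have w2 : T.w (v 2) = T.w (v 0) := by linarith
    have w3 : T.w (v 3) = T.w (v 0) := by linarith
    have a01 : T.a (v 0) (v 1) = T.w (v 0) := by linarith
    have a12 : T.a (v 1) (v 2) = T.w (v 0) := by linarith
    have a23 : T.a (v 2) (v 3) = T.w (v 0) := by linarith
    simp only [w1, w2, w3, a01, a12, a23, z02, z03, z13] at r0 r1 r2 r3
    refine ⟨fun j => v j, T.w (v 0), Or.inl (fun j => rfl), ?_⟩
    refine Or.inl ⟨?_, ?_, ?_, ?_, ?_, ?_, ?_, ?_, ?_, ?_, ?_⟩
    · first | rfl | trivial | linarith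
    · first | rfl | trivial | linarith
    · first | rfl | trivial | linarith
    · first | rfl | trivial | linarith
    · first | rfl | trivial | linarith
    · first | rfl | trivial | linarith
    · first | rfl | trivial | linarith
    · by_contra hcon
      push Not at hcon
      have := mul_pos hW0 (sub_pos.mpr hcon)
      linarith
    · by_contra hcon
      push Not at hcon
      have := mul_pos hW0 (sub_pos.mpr hcon)
      linarith
    · by_contra hcon
      push Not at hcon
      have := mul_pos hW0 (sub_pos.mpr hcon)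
      linarith
    · by_contra hcon
      push Not at hcon
      have := mul_pos hW0 (sub_pos.mpr hcon)
      linarith
  · -- {(0, 1): 'E', (1, 2): 'E', (2, 3): 'U2'}
    have w1 : T.w (v 1) = T.w (v 0) := by linarith
    have w2 : T.w (v 2) = T.w (v 0) := by linarith
    have w3 : T.w (v 3) = 2 * T.w (v 0) := by linarith
    have a01 : T.a (v 0) (v 1) = T.w (v 0) := by linarith
    have a12 : T.a (v 1) (v 2) = T.w (v 0) := by linarith
    have a23 : T.a (v 2) (v 3) = 2 * T.w (v 0) := by linarith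
    simp only [w1, w2, w3, a01, a12, a23, z02, z03, z13] at r0 r1 r2 r3
    refine ⟨fun j => v j, T.w (v 0), Or.inl (fun j => rfl), ?_⟩
    refine Or.inr (Or.inl ⟨?_, ?_, ?_, ?_, ?_, ?_, ?_, ?_, ?_, ?_, ?_⟩)
    · first | rfl | trivial | linarith
    · first | rfl | trivial | linarith
    · first | rfl | trivial | linarith
    · first | rfl | trivial | linarith
    · first | rfl | trivial | linarith
    · first | rfl | trivial | linarith
    · first | rfl | trivial | linarith
    · by_contra hcon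
      push Not at hcon
      have := mul_pos hW0 (sub_pos.mpr hcon)
      linarith
    · by_contra hcon
      push Not at hcon
      have := mul_pos hW0 (sub_pos.mpr hcon)
      linarith
    · by_contra hcon
      push Not at hcon
      have := mul_pos hW0 (sub_pos.mpr hcon)
      linarith
    · by_contra hcon
      push Not at hcon
      have := mul_pos hW0 (sub_pos.mpr hcon)
      linarith
  · -- {(0, 1): 'E', (1, 2): 'E', (2, 3): 'D2'}
    have w0 : T.w (v 0) = 2 * T.w (v 3) := by linarith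
    have w1 : T.w (v 1) = 2 * T.w (v 3) := by linarith
    have w2 : T.w (v 2) = 2 * T.w (v 3) := by linarith
    have a01 : T.a (v 0) (v 1) = 2 * T.w (v 3) := by linarith
    have a12 : T.a (v 1) (v 2) = 2 * T.w (v 3) := by linarith
    have a23 : T.a (v 2) (v 3) = 2 * T.w (v 3) := by linarith
    simp only [w0, w1, w2, a01, a12, a23, z02, z03, z13] at r0 r1 r2 r3
    refine ⟨fun j => v j, T.w (v 3), Or.inl (fun j => rfl), ?_⟩
    refine Or.inr (Or.inr (Or.inl ⟨?_, ?_, ?_, ?_, ?_, ?_, ?_, ?_, ?_, ?_, ?_⟩))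
    · first | rfl | trivial | linarith
    · first | rfl | trivial | linarith
    · first | rfl | trivial | linarith
    · first | rfl | trivial | linarith
    · first | rfl | trivial | linarith
    · first | rfl | trivial | linarith
    · first | rfl | trivial | linarith
    · by_contra hcon
      push Not at hcon
      have := mul_pos hW3 (sub_pos.mpr hcon)
      linarith
    · by_contra hcon
      push Not at hcon
      have := mul_pos hW3 (sub_pos.mpr hcon)
      linarith
    · by_contra hcon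
      push Not at hcon
      have := mul_pos hW3 (sub_pos.mpr hcon)
      linarith
    · by_contra hcon
      push Not at hcon
      have := mul_pos hW3 (sub_pos.mpr hcon)
      linarith
  · -- {(0, 1): 'E', (1, 2): 'U2', (2, 3): 'E'}
    have w1 : T.w (v 1) = T.w (v 0) := by linarith
    have w2 : T.w (v 2) = 2 * T.w (v 0) := by linarith
    have w3 : T.w (v 3) = 2 * T.w (v 0) := by linarith
    have a01 : T.a (v 0) (v 1) = T.w (v 0) := by linarith
    have a12 : T.a (v 1) (v 2) = 2 * T.w (v 0) := by linarith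
    have a23 : T.a (v 2) (v 3) = 2 * T.w (v 0) := by linarith
    simp only [w1, w2, w3, a01, a12, a23, z02, z03, z13] at r0 r1 r2 r3
    refine ⟨fun j => v j, T.w (v 0), Or.inl (fun j => rfl), ?_⟩
    refine Or.inr (Or.inr (Or.inr (⟨?_, ?_, ?_, ?_, ?_, ?_, ?_, ?_, ?_, ?_, ?_⟩)))
    · first | rfl | trivial | linarith
    · first | rfl | trivial | linarith
    · first | rfl | trivial | linarith
    · first | rfl | trivial | linarith
    · first | rfl | trivial | linarith
    · first | rfl | trivial | linarith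
    · first | rfl | trivial | linarith
    · by_contra hcon
      push Not at hcon
      have := mul_pos hW0 (sub_pos.mpr hcon)
      linarith
    · by_contra hcon
      push Not at hcon
      have := mul_pos hW0 (sub_pos.mpr hcon)
      linarith
    · by_contra hcon
      push Not at hcon
      have := mul_pos hW0 (sub_pos.mpr hcon)
      linarith
    · by_contra hcon
      push Not at hcon
      have := mul_pos hW0 (sub_pos.mpr hcon)
      linarith
  · -- {(0, 1): 'E', (1, 2): 'D2', (2, 3): 'E'}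
    have w0 : T.w (v 0) = 2 * T.w (v 2) := by linarith
    have w1 : T.w (v 1) = 2 * T.w (v 2) := by linarith
    have w3 : T.w (v 3) = T.w (v 2) := by linarith
    have a01 : T.a (v 0) (v 1) = 2 * T.w (v 2) := by linarith
    have a12 : T.a (v 1) (v 2) = 2 * T.w (v 2) := by linarith
    have a23 : T.a (v 2) (v 3) = T.w (v 2) := by linarith
    simp only [w0, w1, w3, a01, a12, a23, z02, z03, z13] at r0 r1 r2 r3
    refine ⟨fun j => v (Fin.rev j), T.w (v 2), Or.inr (fun j => rfl), ?_⟩
    simp only [hrev0, hrev1, hrev2, hrev3]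
    refine Or.inr (Or.inr (Or.inr (⟨?_, ?_, ?_, ?_, ?_, ?_, ?_, ?_, ?_, ?_, ?_⟩)))
    · first | rfl | trivial | linarith
    · first | rfl | trivial | linarith
    · first | rfl | trivial | linarith
    · first | rfl | trivial | linarith
    · first | rfl | trivial | linarith
    · first | rfl | trivial | linarith
    · first | rfl | trivial | linarith
    · by_contra hcon
      push Not at hcon
      have := mul_pos hW2 (sub_pos.mpr hcon)
      linarith
    · by_contra hcon
      push Not at hcon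
      have := mul_pos hW2 (sub_pos.mpr hcon)
      linarith
    · by_contra hcon
      push Not at hcon
      have := mul_pos hW2 (sub_pos.mpr hcon)
      linarith
    · by_contra hcon
      push Not at hcon
      have := mul_pos hW2 (sub_pos.mpr hcon)
      linarith
  · -- {(0, 1): 'U2', (1, 2): 'E', (2, 3): 'E'}
    have w1 : T.w (v 1) = 2 * T.w (v 0) := by linarith
    have w2 : T.w (v 2) = 2 * T.w (v 0) := by linarith
    have w3 : T.w (v 3) = 2 * T.w (v 0) := by linarith
    have a01 : T.a (v 0) (v 1) = 2 * T.w (v 0) := by linarith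
    have a12 : T.a (v 1) (v 2) = 2 * T.w (v 0) := by linarith
    have a23 : T.a (v 2) (v 3) = 2 * T.w (v 0) := by linarith
    simp only [w1, w2, w3, a01, a12, a23, z02, z03, z13] at r0 r1 r2 r3
    refine ⟨fun j => v (Fin.rev j), T.w (v 0), Or.inr (fun j => rfl), ?_⟩
    simp only [hrev0, hrev1, hrev2, hrev3]
    refine Or.inr (Or.inr (Or.inl ⟨?_, ?_, ?_, ?_, ?_, ?_, ?_, ?_, ?_, ?_, ?_⟩))
    · first | rfl | trivial | linarith
    · first | rfl | trivial | linarith
    · first | rfl | trivial | linarith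
    · first | rfl | trivial | linarith
    · first | rfl | trivial | linarith
    · first | rfl | trivial | linarith
    · first | rfl | trivial | linarith
    · by_contra hcon
      push Not at hcon
      have := mul_pos hW0 (sub_pos.mpr hcon)
      linarith
    · by_contra hcon
      push Not at hcon
      have := mul_pos hW0 (sub_pos.mpr hcon)
      linarith
    · by_contra hcon
      push Not at hcon
      have := mul_pos hW0 (sub_pos.mpr hcon)
      linarith
    · by_contra hcon
      push Not at hcon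
      have := mul_pos hW0 (sub_pos.mpr hcon)
      linarith
  · -- {(0, 1): 'D2', (1, 2): 'E', (2, 3): 'E'}
    have w0 : T.w (v 0) = 2 * T.w (v 1) := by linarith
    have w2 : T.w (v 2) = T.w (v 1) := by linarith
    have w3 : T.w (v 3) = T.w (v 1) := by linarith
    have a01 : T.a (v 0) (v 1) = 2 * T.w (v 1) := by linarith
    have a12 : T.a (v 1) (v 2) = T.w (v 1) := by linarith
    have a23 : T.a (v 2) (v 3) = T.w (v 1) := by linarith
    simp only [w0, w2, w3, a01, a12, a23, z02, z03, z13] at r0 r1 r2 r3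
    refine ⟨fun j => v (Fin.rev j), T.w (v 1), Or.inr (fun j => rfl), ?_⟩
    simp only [hrev0, hrev1, hrev2, hrev3]
    refine Or.inr (Or.inl ⟨?_, ?_, ?_, ?_, ?_, ?_, ?_, ?_, ?_, ?_, ?_⟩)
    · first | rfl | trivial | linarith
    · first | rfl | trivial | linarith
    · first | rfl | trivial | linarith
    · first | rfl | trivial | linarith
    · first | rfl | trivial | linarith
    · first | rfl | trivial | linarith
    · first | rfl | trivial | linarith
    · by_contra hcon
      push Not at hcon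
      have := mul_pos hW1 (sub_pos.mpr hcon)
      linarith
    · by_contra hcon
      push Not at hcon
      have := mul_pos hW1 (sub_pos.mpr hcon)
      linarith
    · by_contra hcon
      push Not at hcon
      have := mul_pos hW1 (sub_pos.mpr hcon)
      linarith
    · by_contra hcon
      push Not at hcon
      have := mul_pos hW1 (sub_pos.mpr hcon)
      linarith

end Groth.Agent.S7352
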