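import Groth.Statements.S7354
import Mathlib
import Groth.Agent.Helper3.NumTypeC2

set_option autoImplicit false
open Finset
open Models Models.NumericalType

namespace Groth.Agent.S7354

/-- Let T be a numerical type on n indices, t > 5 with n > t, and i_1, …, i_t distinct (-2)-indices with
a_{i_j i_{j+1}} nonzero for j = 1, …, t - 1. Then, after possibly reversing the order of the
indices, for some integer w either (A) w_{i_1} = … = w_{i_t} = w and a_{i_j i_{j+1}} = w for all j;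
or (C) w_{i_1} = … = w_{i_{t-1}} = w, w_{i_t} = 2w, a_{i_j i_{j+1}} = w for j < t - 1 and a_{i_{t-1}
i_t} = 2w; or (B) w_{i_1} = … = w_{i_{t-1}} = 2w, w_{i_t} = w and a_{i_j i_{j+1}} = 2w for all j;
and in every case a_{i_j i_k} = 0 whenever k > j + 1. -/
theorem result {n : ℕ} (T : Models.NumericalType n) (t : ℕ) (ht : 5 < t) (hn : t < n)
    (v : Fin t ↪ Fin n) (hv : ∀ j, T.IsMinusTwo (v j))
    (hchain : ∀ j j' : Fin t, j'.val = j.val + 1 → T.a (v j) (v j') ≠ 0) :
    ∃ (u : Fin t → Fin n) (w : ℤ), ((∀ j, u j = v j) ∨ (∀ j, u j = v (Fin.rev j))) ∧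
      (∀ j k : Fin t, j.val + 1 < k.val → T.a (u j) (u k) = 0) ∧
      ((∀ j : Fin t, T.w (u j) = w) ∧ (∀ j j' : Fin t, j'.val = j.val + 1 → T.a (u j) (u j') = w) ∨
        ((∀ j : Fin t, j.val + 1 < t → T.w (u j) = w) ∧ (∀ j : Fin t, j.val + 1 = t → T.w (u j) = 2 * w) ∧
          (∀ j j' : Fin t, j'.val = j.val + 1 → j'.val + 1 < t → T.a (u j) (u j') = w) ∧
          (∀ j j' : Fin t, j'.val = j.val + 1 → j'.val + 1 = t → T.a (u j) (u j') = 2 * w)) ∨
        ((∀ j : Fin t, j.val + 1 < t → T.w (u j) = 2 * w) ∧ (∀ j : Fin t, j.val + 1 = t → T.w (u j) = w) ∧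
          (∀ j j' : Fin t, j'.val = j.val + 1 → T.a (u j) (u j') = 2 * w))) := by
  have key := (Groth.Agent.Helper3.NumType.Sub.of T v hn hv).chain_classify (by omega) hchain
  dsimp only [Groth.Agent.Helper3.NumType.Sub.of] at key
  obtain ⟨hz, w, hcases⟩ := key
  have hrv : ∀ j : Fin t, (Fin.rev j).val = t - (j.val + 1) := fun j => Fin.val_rev j
  have hlt : ∀ j : Fin t, j.val < t := fun j => j.isLt
  have sy := Groth.Agent.Helper3.NumType.a_symm T
  rcases hcases with ⟨hA1, hA2⟩ | ⟨hC1, hC2, hC3, hC4⟩ | ⟨hB1, hB2, hB3⟩ | ⟨hC1, hC2, hC3, hC4⟩ |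
    ⟨hB1, hB2, hB3⟩
  · exact ⟨fun j => v j, w, Or.inl (fun _ => rfl), hz, Or.inl ⟨hA1, hA2⟩⟩
  · exact ⟨fun j => v j, w, Or.inl (fun _ => rfl), hz, Or.inr (Or.inl ⟨hC1, hC2, hC3, hC4⟩)⟩
  · exact ⟨fun j => v j, w, Or.inl (fun _ => rfl), hz, Or.inr (Or.inr ⟨hB1, hB2, hB3⟩)⟩
  · refine ⟨fun j => v (Fin.rev j), w, Or.inr (fun _ => rfl), ?_, Or.inr (Or.inl ⟨?_, ?_, ?_, ?_⟩)⟩
    · intro j k hjk
      show T.a (v (Fin.rev j)) (v (Fin.rev k)) = 0
      rw [sy]
      have := hlt j; have := hlt k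
      exact hz (Fin.rev k) (Fin.rev j) (by rw [hrv, hrv]; omega)
    · intro j hj
      have := hlt j
      exact hC1 (Fin.rev j) (by rw [hrv]; omega)
    · intro j hj
      have := hlt j
      exact hC2 (Fin.rev j) (by rw [hrv]; omega)
    · intro j j' h hj'
      show T.a (v (Fin.rev j)) (v (Fin.rev j')) = w
      rw [sy]
      have := hlt j; have := hlt j'
      exact hC3 (Fin.rev j') (Fin.rev j) (by rw [hrv, hrv]; omega) (by rw [hrv]; omega)
    · intro j j' h hj'
      show T.a (v (Fin.rev j)) (v (Fin.rev j')) = 2 * w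
      rw [sy]
      have := hlt j; have := hlt j'
      exact hC4 (Fin.rev j') (Fin.rev j) (by rw [hrv, hrv]; omega) (by rw [hrv]; omega)
  · refine ⟨fun j => v (Fin.rev j), w, Or.inr (fun _ => rfl), ?_, Or.inr (Or.inr ⟨?_, ?_, ?_⟩)⟩
    · intro j k hjk
      show T.a (v (Fin.rev j)) (v (Fin.rev k)) = 0
      rw [sy]
      have := hlt j; have := hlt k
      exact hz (Fin.rev k) (Fin.rev j) (by rw [hrv, hrv]; omega)
    · intro j hj
      have := hlt j
      exact hB1 (Fin.rev j) (by rw [hrv]; omega)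
    · intro j hj
      have := hlt j
      exact hB2 (Fin.rev j) (by rw [hrv]; omega)
    · intro j j' h
      show T.a (v (Fin.rev j)) (v (Fin.rev j')) = 2 * w
      rw [sy]
      have := hlt j; have := hlt j'
      exact hB3 (Fin.rev j') (Fin.rev j) (by rw [hrv, hrv]; omega)

end Groth.Agent.S7354
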