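import Groth.Statements.S7362
import Mathlib
import Groth.Agent.Helper3.NumTypeF

set_option autoImplicit false
open Finset
open Models Models.NumericalType

namespace Groth.Agent.S7362

/-- Genus one classification: case n = 2: let T be a minimal numerical type of genus 1 on two indices.
Then for some ordering i, j of the indices and some integers m, w, either m_i = m_j = m, a_ii = a_jj
= -2w, a_ij = 2w, w_i = w_j = w, g_i = g_j = 0; or m_i = 2m, m_j = m, a_ii = -2w, a_ij = 4w, a_jj =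
-8w, w_i = w, w_j = 4w, g_i = g_j = 0. Only the classification direction is stated. -/
theorem result (T : Models.NumericalType 2) (hmin : T.IsMinimal) (hg : T.genus = 1) :
    ∃ (i j : Fin 2) (m w : ℤ), i ≠ j ∧ T.g i = 0 ∧ T.g j = 0 ∧
      ((T.m i = m ∧ T.m j = m ∧ T.a i i = -2 * w ∧ T.a i j = 2 * w ∧ T.a j j = -2 * w ∧ T.w i = w ∧ T.w j = w) ∨
        (T.m i = 2 * m ∧ T.m j = m ∧ T.a i i = -2 * w ∧ T.a i j = 4 * w ∧ T.a j j = -8 * w ∧ T.w i = w ∧ T.w j = 4 * w)) := by
  have h2 := Groth.Agent.Helper3.NumType.all_minusTwo T (by norm_num) hmin hg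
  have r0 := Groth.Agent.Helper3.NumType.row_sum T 0
  have r1 := Groth.Agent.Helper3.NumType.row_sum T 1
  simp only [Fin.sum_univ_two] at r0 r1
  rw [(h2 0).2] at r0
  rw [(h2 1).2, Groth.Agent.Helper3.NumType.a_symm T 1 0] at r1
  have hw0 := T.w_pos 0
  have hw1 := T.w_pos 1
  have hm0 := T.m_pos 0
  have hm1 := T.m_pos 1
  have hnn := T.offDiag_nonneg 0 1 (by decide)
  obtain ⟨b, hb⟩ := T.w_dvd 0 1
  have hd1 := T.w_dvd 1 0
  rw [Groth.Agent.Helper3.NumType.a_symm T 1 0] at hd1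
  obtain ⟨c, hc⟩ := hd1
  have s10 := Groth.Agent.Helper3.NumType.a_symm T 1 0
  have hapos : 0 < T.a 0 1 := by
    rcases lt_or_eq_of_le hnn with h | h
    · exact h
    · exfalso
      rw [← h] at r0
      nlinarith
  have hb1 : 1 ≤ b := by
    by_contra hcon
    have : b ≤ 0 := by omega
    nlinarith
  have hc1 : 1 ≤ c := by
    by_contra hcon
    have : c ≤ 0 := by omega
    nlinarith
  have e1 : 2 * T.m 0 = b * T.m 1 := by
    have : T.w 0 * (b * T.m 1 - 2 * T.m 0) = 0 := by rw [hb] at r0; linarith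
    rcases mul_eq_zero.mp this with h | h
    · omega
    · linarith
  have e2 : c * T.m 0 = 2 * T.m 1 := by
    have : T.w 1 * (c * T.m 0 - 2 * T.m 1) = 0 := by rw [hc] at r1; linarith
    rcases mul_eq_zero.mp this with h | h
    · omega
    · linarith
  have hbc : b * c = 4 := by
    have h : b * T.m 1 * (c * T.m 0) = 2 * T.m 0 * (2 * T.m 1) := by rw [← e1, e2]
    have h' : (b * c - 4) * (T.m 0 * T.m 1) = 0 := by linarith
    rcases mul_eq_zero.mp h' with h'' | h''
    · linarith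
    · exfalso
      have := mul_pos hm0 hm1
      omega
  have hb4 : b ≤ 4 := by nlinarith
  have hcases : (b = 1 ∧ c = 4) ∨ (b = 2 ∧ c = 2) ∨ (b = 4 ∧ c = 1) := by
    interval_cases b <;> omega
  rcases hcases with ⟨rfl, rfl⟩ | ⟨rfl, rfl⟩ | ⟨rfl, rfl⟩
  · refine ⟨1, 0, T.m 0, T.w 1, by decide, (h2 1).1, (h2 0).1, Or.inr ⟨?_, ?_, ?_, ?_, ?_, ?_, ?_⟩⟩
    · linarith
    · rfl
    · exact (h2 1).2
    · rw [s10]; linarith
    · rw [(h2 0).2]; linarith
    · rfl
    · linarith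
  · refine ⟨0, 1, T.m 0, T.w 0, by decide, (h2 0).1, (h2 1).1, Or.inl ⟨?_, ?_, ?_, ?_, ?_, ?_, ?_⟩⟩
    · rfl
    · linarith
    · exact (h2 0).2
    · linarith
    · rw [(h2 1).2]; linarith
    · rfl
    · linarith
  · refine ⟨0, 1, T.m 1, T.w 0, by decide, (h2 0).1, (h2 1).1, Or.inr ⟨?_, ?_, ?_, ?_, ?_, ?_, ?_⟩⟩
    · linarith
    · rfl
    · exact (h2 0).2
    · linarith
    · rw [(h2 1).2]; linarith
    · rfl
    · linarith

end Groth.Agent.S7362
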