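import Groth.Statements.S7363
import Mathlib
import Groth.Agent.Helper3.NumTypeF

set_option autoImplicit false
open Finset
open Models Models.NumericalType

namespace Groth.Agent.S7363

/-- Genus one classification: case n = 3: let T be a minimal numerical type of genus 1 on three indices.
Then all g = 0 and, for some ordering i, j, k of the indices and some integers m, w, the data (m; a;
w) is one of: (m,m,m; a_ii = a_jj = a_kk = -2w, a_ij = a_ik = a_jk = w; w,w,w); (m,2m,m; a_ii = -2w,
a_ij = w, a_ik = 0, a_jj = -2w, a_jk = 3w, a_kk = -6w; w,w,3w); (m,2m,3m; a_ii = -6w, a_ij = 3w,
a_ik = 0, a_jj = -6w, a_jk = 3w, a_kk = -2w; 3w,3w,w); (2m,2m,m; a_ii = -2w, a_ij = 2w, a_ik = 0,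
a_jj = -4w, a_jk = 4w, a_kk = -8w; w,2w,4w); (m,m,m; a_ii = -2w, a_ij = 2w, a_ik = 0, a_jj = -4w,
a_jk = 2w, a_kk = -2w; w,2w,w); (m,2m,m; a_ii = -4w, a_ij = 2w, a_ik = 0, a_jj = -2w, a_jk = 2w,
a_kk = -4w; 2w,w,2w). Only the classification direction is stated. -/
theorem result (T : Models.NumericalType 3) (hmin : T.IsMinimal) (hg : T.genus = 1) :
    ∃ (i j k : Fin 3) (m w : ℤ), i ≠ j ∧ j ≠ k ∧ i ≠ k ∧ T.g i = 0 ∧ T.g j = 0 ∧ T.g k = 0 ∧
      ((T.m i = m ∧ T.m j = m ∧ T.m k = m ∧ T.a i i = -2 * w ∧ T.a j j = -2 * w ∧ T.a k k = -2 * w ∧
          T.a i j = w ∧ T.a i k = w ∧ T.a j k = w ∧ T.w i = w ∧ T.w j = w ∧ T.w k = w) ∨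
        (T.m i = m ∧ T.m j = 2 * m ∧ T.m k = m ∧ T.a i i = -2 * w ∧ T.a i j = w ∧ T.a i k = 0 ∧ T.a j j = -2 * w ∧
          T.a j k = 3 * w ∧ T.a k k = -6 * w ∧ T.w i = w ∧ T.w j = w ∧ T.w k = 3 * w) ∨
        (T.m i = m ∧ T.m j = 2 * m ∧ T.m k = 3 * m ∧ T.a i i = -6 * w ∧ T.a i j = 3 * w ∧ T.a i k = 0 ∧ T.a j j = -6 * w ∧
          T.a j k = 3 * w ∧ T.a k k = -2 * w ∧ T.w i = 3 * w ∧ T.w j = 3 * w ∧ T.w k = w) ∨
        (T.m i = 2 * m ∧ T.m j = 2 * m ∧ T.m k = m ∧ T.a i i = -2 * w ∧ T.a i j = 2 * w ∧ T.a i k = 0 ∧ T.a j j = -4 * w ∧
          T.a j k = 4 * w ∧ T.a k k = -8 * w ∧ T.w i = w ∧ T.w j = 2 * w ∧ T.w k = 4 * w) ∨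
        (T.m i = m ∧ T.m j = m ∧ T.m k = m ∧ T.a i i = -2 * w ∧ T.a i j = 2 * w ∧ T.a i k = 0 ∧ T.a j j = -4 * w ∧
          T.a j k = 2 * w ∧ T.a k k = -2 * w ∧ T.w i = w ∧ T.w j = 2 * w ∧ T.w k = w) ∨
        (T.m i = m ∧ T.m j = 2 * m ∧ T.m k = m ∧ T.a i i = -4 * w ∧ T.a i j = 2 * w ∧ T.a i k = 0 ∧ T.a j j = -2 * w ∧
          T.a j k = 2 * w ∧ T.a k k = -4 * w ∧ T.w i = 2 * w ∧ T.w j = w ∧ T.w k = 2 * w)) := by
  have h2 := Groth.Agent.Helper3.NumType.all_minusTwo T (by norm_num) hmin hg
  have hw0 := T.w_pos 0
  have hm0 := T.m_pos 0
  have d0 := (h2 0).2
  have r0 := Groth.Agent.Helper3.NumType.RT3_0 T h2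
  have hw1 := T.w_pos 1
  have hm1 := T.m_pos 1
  have d1 := (h2 1).2
  have r1 := Groth.Agent.Helper3.NumType.RT3_1 T h2
  have hw2 := T.w_pos 2
  have hm2 := T.m_pos 2
  have d2 := (h2 2).2
  have r2 := Groth.Agent.Helper3.NumType.RT3_2 T h2
  have nn01 := T.offDiag_nonneg 0 1 (by decide)
  have s10 := Groth.Agent.Helper3.NumType.a_symm T 1 0
  have nn02 := T.offDiag_nonneg 0 2 (by decide)
  have s20 := Groth.Agent.Helper3.NumType.a_symm T 2 0
  have nn12 := T.offDiag_nonneg 1 2 (by decide)
  have s21 := Groth.Agent.Helper3.NumType.a_symm T 2 1
  rcases eq_or_lt_of_le nn01 with z | hp01
  · have z01 : T.a 0 1 = 0 := z.symm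
    rcases eq_or_lt_of_le nn02 with z | hp02
    · have z02 : T.a 0 2 = 0 := z.symm
      exfalso
      obtain ⟨i, hi, j, hj, hij⟩ := T.connected ({0} : Finset (Fin 3)) (by decide) (by decide)
      fin_cases i <;> fin_cases j <;> first | exact absurd hi (by decide) | exact hj (by decide) | (apply hij; first | exact z01 | exact z02)
    · rcases Groth.Agent.Helper3.NumType.edge_casesT T h2 (by norm_num) (p := 0) (q := 2) (by decide) hp02 with e | e | e | e | e
      · obtain ⟨ea02, eb02⟩ := e
        rcases eq_or_lt_of_le nn12 with z | hp12
        · have z12 : T.a 1 2 = 0 := z.symm
          exfalso
          obtain ⟨i, hi, j, hj, hij⟩ := T.connected ({0, 2} : Finset (Fin 3)) (by decide) (by decide)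
          fin_cases i <;> fin_cases j <;> first | exact absurd hi (by decide) | exact hj (by decide) | (apply hij; first | exact z01 | exact s21.trans z12)
        · rcases Groth.Agent.Helper3.NumType.edge_casesT T h2 (by norm_num) (p := 1) (q := 2) (by decide) hp12 with e | e | e | e | e
          · obtain ⟨ea12, eb12⟩ := e
            have hr0 : (-2) * T.m 0 + (1) * T.m 2 = 0 := by
              have f2 : T.a 0 2 = T.w 0 := by linarith
              have h : T.w 0 * ((-2) * T.m 0 + (1) * T.m 2) = 0 := by
                rw [z01, f2] at r0
                linarith
              rcases mul_eq_zero.mp h with h' | h'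
              · exfalso; linarith
              · exact h'
            have hr1 : (-2) * T.m 1 + (1) * T.m 2 = 0 := by
              have f2 : T.a 1 2 = T.w 1 := by linarith
              have h : T.w 1 * ((-2) * T.m 1 + (1) * T.m 2) = 0 := by
                rw [z01, f2] at r1
                linarith
              rcases mul_eq_zero.mp h with h' | h'
              · exfalso; linarith
              · exact h'
            have hr2 : (-2) * T.m 2 + (1) * T.m 0 + (1) * T.m 1 = 0 := by
              have f0 : T.a 0 2 = T.w 2 := by linarith
              have f1 : T.a 1 2 = T.w 2 := by linarith
              have h : T.w 2 * ((-2) * T.m 2 + (1) * T.m 0 + (1) * T.m 1) = 0 := by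
                rw [f0, f1] at r2
                linarith
              rcases mul_eq_zero.mp h with h' | h'
              · exfalso; linarith
              · exact h'
            exfalso
            linarith
          · obtain ⟨ea12, eb12⟩ := e
            have hr0 : (-2) * T.m 0 + (1) * T.m 2 = 0 := by
              have f2 : T.a 0 2 = T.w 0 := by linarith
              have h : T.w 0 * ((-2) * T.m 0 + (1) * T.m 2) = 0 := by
                rw [z01, f2] at r0
                linarith
              rcases mul_eq_zero.mp h with h' | h'
              · exfalso; linarith
              · exact h'
            have hr1 : (-2) * T.m 1 + (2) * T.m 2 = 0 := by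
              have f2 : T.a 1 2 = 2 * T.w 1 := by linarith
              have h : T.w 1 * ((-2) * T.m 1 + (2) * T.m 2) = 0 := by
                rw [z01, f2] at r1
                linarith
              rcases mul_eq_zero.mp h with h' | h'
              · exfalso; linarith
              · exact h'
            have hr2 : (-2) * T.m 2 + (1) * T.m 0 + (1) * T.m 1 = 0 := by
              have f0 : T.a 0 2 = T.w 2 := by linarith
              have f1 : T.a 1 2 = T.w 2 := by linarith
              have h : T.w 2 * ((-2) * T.m 2 + (1) * T.m 0 + (1) * T.m 1) = 0 := by
                rw [f0, f1] at r2
                linarith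
              rcases mul_eq_zero.mp h with h' | h'
              · exfalso; linarith
              · exact h'
            exfalso
            linarith
          · obtain ⟨ea12, eb12⟩ := e
            have hr0 : (-2) * T.m 0 + (1) * T.m 2 = 0 := by
              have f2 : T.a 0 2 = T.w 0 := by linarith
              have h : T.w 0 * ((-2) * T.m 0 + (1) * T.m 2) = 0 := by
                rw [z01, f2] at r0
                linarith
              rcases mul_eq_zero.mp h with h' | h'
              · exfalso; linarith
              · exact h'
            have hr1 : (-2) * T.m 1 + (1) * T.m 2 = 0 := by
              have f2 : T.a 1 2 = T.w 1 := by linarith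
              have h : T.w 1 * ((-2) * T.m 1 + (1) * T.m 2) = 0 := by
                rw [z01, f2] at r1
                linarith
              rcases mul_eq_zero.mp h with h' | h'
              · exfalso; linarith
              · exact h'
            have hr2 : (-2) * T.m 2 + (1) * T.m 0 + (2) * T.m 1 = 0 := by
              have f0 : T.a 0 2 = T.w 2 := by linarith
              have f1 : T.a 1 2 = 2 * T.w 2 := by linarith
              have h : T.w 2 * ((-2) * T.m 2 + (1) * T.m 0 + (2) * T.m 1) = 0 := by
                rw [f0, f1] at r2
                linarith
              rcases mul_eq_zero.mp h with h' | h'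
              · exfalso; linarith
              · exact h'
            exfalso
            linarith
          · obtain ⟨ea12, eb12⟩ := e
            have hr0 : (-2) * T.m 0 + (1) * T.m 2 = 0 := by
              have f2 : T.a 0 2 = T.w 0 := by linarith
              have h : T.w 0 * ((-2) * T.m 0 + (1) * T.m 2) = 0 := by
                rw [z01, f2] at r0
                linarith
              rcases mul_eq_zero.mp h with h' | h'
              · exfalso; linarith
              · exact h'
            have hr1 : (-2) * T.m 1 + (3) * T.m 2 = 0 := by
              have f2 : T.a 1 2 = 3 * T.w 1 := by linarith
              have h : T.w 1 * ((-2) * T.m 1 + (3) * T.m 2) = 0 := by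
                rw [z01, f2] at r1
                linarith
              rcases mul_eq_zero.mp h with h' | h'
              · exfalso; linarith
              · exact h'
            have hr2 : (-2) * T.m 2 + (1) * T.m 0 + (1) * T.m 1 = 0 := by
              have f0 : T.a 0 2 = T.w 2 := by linarith
              have f1 : T.a 1 2 = T.w 2 := by linarith
              have h : T.w 2 * ((-2) * T.m 2 + (1) * T.m 0 + (1) * T.m 1) = 0 := by
                rw [f0, f1] at r2
                linarith
              rcases mul_eq_zero.mp h with h' | h'
              · exfalso; linarith
              · exact h'
            have w0 : T.w 0 = 3 * T.w 1 := by linarith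
            have w2 : T.w 2 = 3 * T.w 1 := by linarith
            have a02 : T.a 0 2 = 3 * T.w 1 := by linarith
            have a12 : T.a 1 2 = 3 * T.w 1 := by linarith
            have m1 : T.m 1 = 3 * T.m 0 := by linarith
            have m2 : T.m 2 = 2 * T.m 0 := by linarith
            refine ⟨0, 2, 1, T.m 0, T.w 1, by decide, by decide, by decide, (h2 _).1, (h2 _).1, (h2 _).1, ?_⟩
            refine Or.inr (Or.inr (Or.inl ⟨?_, ?_, ?_, ?_, ?_, ?_, ?_, ?_, ?_, ?_, ?_, ?_⟩))
            all_goals first | rfl | trivial | linarith
          · obtain ⟨ea12, eb12⟩ := e
            have hr0 : (-2) * T.m 0 + (1) * T.m 2 = 0 := by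
              have f2 : T.a 0 2 = T.w 0 := by linarith
              have h : T.w 0 * ((-2) * T.m 0 + (1) * T.m 2) = 0 := by
                rw [z01, f2] at r0
                linarith
              rcases mul_eq_zero.mp h with h' | h'
              · exfalso; linarith
              · exact h'
            have hr1 : (-2) * T.m 1 + (1) * T.m 2 = 0 := by
              have f2 : T.a 1 2 = T.w 1 := by linarith
              have h : T.w 1 * ((-2) * T.m 1 + (1) * T.m 2) = 0 := by
                rw [z01, f2] at r1
                linarith
              rcases mul_eq_zero.mp h with h' | h'
              · exfalso; linarith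
              · exact h'
            have hr2 : (-2) * T.m 2 + (1) * T.m 0 + (3) * T.m 1 = 0 := by
              have f0 : T.a 0 2 = T.w 2 := by linarith
              have f1 : T.a 1 2 = 3 * T.w 2 := by linarith
              have h : T.w 2 * ((-2) * T.m 2 + (1) * T.m 0 + (3) * T.m 1) = 0 := by
                rw [f0, f1] at r2
                linarith
              rcases mul_eq_zero.mp h with h' | h'
              · exfalso; linarith
              · exact h'
            have w1 : T.w 1 = 3 * T.w 0 := by linarith
            have w2 : T.w 2 = T.w 0 := by linarith
            have a02 : T.a 0 2 = T.w 0 := by linarith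
            have a12 : T.a 1 2 = 3 * T.w 0 := by linarith
            have m1 : T.m 1 = T.m 0 := by linarith
            have m2 : T.m 2 = 2 * T.m 0 := by linarith
            refine ⟨0, 2, 1, T.m 0, T.w 0, by decide, by decide, by decide, (h2 _).1, (h2 _).1, (h2 _).1, ?_⟩
            refine Or.inr (Or.inl ⟨?_, ?_, ?_, ?_, ?_, ?_, ?_, ?_, ?_, ?_, ?_, ?_⟩)
            all_goals first | rfl | trivial | linarith
      · obtain ⟨ea02, eb02⟩ := e
        rcases eq_or_lt_of_le nn12 with z | hp12
        · have z12 : T.a 1 2 = 0 := z.symm
          exfalso
          obtain ⟨i, hi, j, hj, hij⟩ := T.connected ({0, 2} : Finset (Fin 3)) (by decide) (by decide)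
          fin_cases i <;> fin_cases j <;> first | exact absurd hi (by decide) | exact hj (by decide) | (apply hij; first | exact z01 | exact s21.trans z12)
        · rcases Groth.Agent.Helper3.NumType.edge_casesT T h2 (by norm_num) (p := 1) (q := 2) (by decide) hp12 with e | e | e | e | e
          · obtain ⟨ea12, eb12⟩ := e
            have hr0 : (-2) * T.m 0 + (2) * T.m 2 = 0 := by
              have f2 : T.a 0 2 = 2 * T.w 0 := by linarith
              have h : T.w 0 * ((-2) * T.m 0 + (2) * T.m 2) = 0 := by
                rw [z01, f2] at r0
                linarith
              rcases mul_eq_zero.mp h with h' | h'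
              · exfalso; linarith
              · exact h'
            have hr1 : (-2) * T.m 1 + (1) * T.m 2 = 0 := by
              have f2 : T.a 1 2 = T.w 1 := by linarith
              have h : T.w 1 * ((-2) * T.m 1 + (1) * T.m 2) = 0 := by
                rw [z01, f2] at r1
                linarith
              rcases mul_eq_zero.mp h with h' | h'
              · exfalso; linarith
              · exact h'
            have hr2 : (-2) * T.m 2 + (1) * T.m 0 + (1) * T.m 1 = 0 := by
              have f0 : T.a 0 2 = T.w 2 := by linarith
              have f1 : T.a 1 2 = T.w 2 := by linarith
              have h : T.w 2 * ((-2) * T.m 2 + (1) * T.m 0 + (1) * T.m 1) = 0 := by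
                rw [f0, f1] at r2
                linarith
              rcases mul_eq_zero.mp h with h' | h'
              · exfalso; linarith
              · exact h'
            exfalso
            linarith
          · obtain ⟨ea12, eb12⟩ := e
            have hr0 : (-2) * T.m 0 + (2) * T.m 2 = 0 := by
              have f2 : T.a 0 2 = 2 * T.w 0 := by linarith
              have h : T.w 0 * ((-2) * T.m 0 + (2) * T.m 2) = 0 := by
                rw [z01, f2] at r0
                linarith
              rcases mul_eq_zero.mp h with h' | h'
              · exfalso; linarith
              · exact h'
            have hr1 : (-2) * T.m 1 + (2) * T.m 2 = 0 := by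
              have f2 : T.a 1 2 = 2 * T.w 1 := by linarith
              have h : T.w 1 * ((-2) * T.m 1 + (2) * T.m 2) = 0 := by
                rw [z01, f2] at r1
                linarith
              rcases mul_eq_zero.mp h with h' | h'
              · exfalso; linarith
              · exact h'
            have hr2 : (-2) * T.m 2 + (1) * T.m 0 + (1) * T.m 1 = 0 := by
              have f0 : T.a 0 2 = T.w 2 := by linarith
              have f1 : T.a 1 2 = T.w 2 := by linarith
              have h : T.w 2 * ((-2) * T.m 2 + (1) * T.m 0 + (1) * T.m 1) = 0 := by
                rw [f0, f1] at r2
                linarith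
              rcases mul_eq_zero.mp h with h' | h'
              · exfalso; linarith
              · exact h'
            have w1 : T.w 1 = T.w 0 := by linarith
            have w2 : T.w 2 = 2 * T.w 0 := by linarith
            have a02 : T.a 0 2 = 2 * T.w 0 := by linarith
            have a12 : T.a 1 2 = 2 * T.w 0 := by linarith
            have m1 : T.m 1 = T.m 0 := by linarith
            have m2 : T.m 2 = T.m 0 := by linarith
            refine ⟨0, 2, 1, T.m 0, T.w 0, by decide, by decide, by decide, (h2 _).1, (h2 _).1, (h2 _).1, ?_⟩
            refine Or.inr (Or.inr (Or.inr (Or.inr (Or.inl ⟨?_, ?_, ?_, ?_, ?_, ?_, ?_, ?_, ?_, ?_, ?_, ?_⟩))))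
            all_goals first | rfl | trivial | linarith
          · obtain ⟨ea12, eb12⟩ := e
            have hr0 : (-2) * T.m 0 + (2) * T.m 2 = 0 := by
              have f2 : T.a 0 2 = 2 * T.w 0 := by linarith
              have h : T.w 0 * ((-2) * T.m 0 + (2) * T.m 2) = 0 := by
                rw [z01, f2] at r0
                linarith
              rcases mul_eq_zero.mp h with h' | h'
              · exfalso; linarith
              · exact h'
            have hr1 : (-2) * T.m 1 + (1) * T.m 2 = 0 := by
              have f2 : T.a 1 2 = T.w 1 := by linarith
              have h : T.w 1 * ((-2) * T.m 1 + (1) * T.m 2) = 0 := by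
                rw [z01, f2] at r1
                linarith
              rcases mul_eq_zero.mp h with h' | h'
              · exfalso; linarith
              · exact h'
            have hr2 : (-2) * T.m 2 + (1) * T.m 0 + (2) * T.m 1 = 0 := by
              have f0 : T.a 0 2 = T.w 2 := by linarith
              have f1 : T.a 1 2 = 2 * T.w 2 := by linarith
              have h : T.w 2 * ((-2) * T.m 2 + (1) * T.m 0 + (2) * T.m 1) = 0 := by
                rw [f0, f1] at r2
                linarith
              rcases mul_eq_zero.mp h with h' | h'
              · exfalso; linarith
              · exact h'
            have w1 : T.w 1 = 4 * T.w 0 := by linarith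
            have w2 : T.w 2 = 2 * T.w 0 := by linarith
            have a02 : T.a 0 2 = 2 * T.w 0 := by linarith
            have a12 : T.a 1 2 = 4 * T.w 0 := by linarith
            have m0 : T.m 0 = 2 * T.m 1 := by linarith
            have m2 : T.m 2 = 2 * T.m 1 := by linarith
            refine ⟨0, 2, 1, T.m 1, T.w 0, by decide, by decide, by decide, (h2 _).1, (h2 _).1, (h2 _).1, ?_⟩
            refine Or.inr (Or.inr (Or.inr (Or.inl ⟨?_, ?_, ?_, ?_, ?_, ?_, ?_, ?_, ?_, ?_, ?_, ?_⟩)))
            all_goals first | rfl | trivial | linarith
          · obtain ⟨ea12, eb12⟩ := e
            have hr0 : (-2) * T.m 0 + (2) * T.m 2 = 0 := by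
              have f2 : T.a 0 2 = 2 * T.w 0 := by linarith
              have h : T.w 0 * ((-2) * T.m 0 + (2) * T.m 2) = 0 := by
                rw [z01, f2] at r0
                linarith
              rcases mul_eq_zero.mp h with h' | h'
              · exfalso; linarith
              · exact h'
            have hr1 : (-2) * T.m 1 + (3) * T.m 2 = 0 := by
              have f2 : T.a 1 2 = 3 * T.w 1 := by linarith
              have h : T.w 1 * ((-2) * T.m 1 + (3) * T.m 2) = 0 := by
                rw [z01, f2] at r1
                linarith
              rcases mul_eq_zero.mp h with h' | h'
              · exfalso; linarith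
              · exact h'
            have hr2 : (-2) * T.m 2 + (1) * T.m 0 + (1) * T.m 1 = 0 := by
              have f0 : T.a 0 2 = T.w 2 := by linarith
              have f1 : T.a 1 2 = T.w 2 := by linarith
              have h : T.w 2 * ((-2) * T.m 2 + (1) * T.m 0 + (1) * T.m 1) = 0 := by
                rw [f0, f1] at r2
                linarith
              rcases mul_eq_zero.mp h with h' | h'
              · exfalso; linarith
              · exact h'
            exfalso
            linarith
          · obtain ⟨ea12, eb12⟩ := e
            have hr0 : (-2) * T.m 0 + (2) * T.m 2 = 0 := by
              have f2 : T.a 0 2 = 2 * T.w 0 := by linarith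
              have h : T.w 0 * ((-2) * T.m 0 + (2) * T.m 2) = 0 := by
                rw [z01, f2] at r0
                linarith
              rcases mul_eq_zero.mp h with h' | h'
              · exfalso; linarith
              · exact h'
            have hr1 : (-2) * T.m 1 + (1) * T.m 2 = 0 := by
              have f2 : T.a 1 2 = T.w 1 := by linarith
              have h : T.w 1 * ((-2) * T.m 1 + (1) * T.m 2) = 0 := by
                rw [z01, f2] at r1
                linarith
              rcases mul_eq_zero.mp h with h' | h'
              · exfalso; linarith
              · exact h'
            have hr2 : (-2) * T.m 2 + (1) * T.m 0 + (3) * T.m 1 = 0 := by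
              have f0 : T.a 0 2 = T.w 2 := by linarith
              have f1 : T.a 1 2 = 3 * T.w 2 := by linarith
              have h : T.w 2 * ((-2) * T.m 2 + (1) * T.m 0 + (3) * T.m 1) = 0 := by
                rw [f0, f1] at r2
                linarith
              rcases mul_eq_zero.mp h with h' | h'
              · exfalso; linarith
              · exact h'
            exfalso
            linarith
      · obtain ⟨ea02, eb02⟩ := e
        rcases eq_or_lt_of_le nn12 with z | hp12
        · have z12 : T.a 1 2 = 0 := z.symm
          exfalso
          obtain ⟨i, hi, j, hj, hij⟩ := T.connected ({0, 2} : Finset (Fin 3)) (by decide) (by decide)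
          fin_cases i <;> fin_cases j <;> first | exact absurd hi (by decide) | exact hj (by decide) | (apply hij; first | exact z01 | exact s21.trans z12)
        · rcases Groth.Agent.Helper3.NumType.edge_casesT T h2 (by norm_num) (p := 1) (q := 2) (by decide) hp12 with e | e | e | e | e
          · obtain ⟨ea12, eb12⟩ := e
            have hr0 : (-2) * T.m 0 + (1) * T.m 2 = 0 := by
              have f2 : T.a 0 2 = T.w 0 := by linarith
              have h : T.w 0 * ((-2) * T.m 0 + (1) * T.m 2) = 0 := by
                rw [z01, f2] at r0
                linarith
              rcases mul_eq_zero.mp h with h' | h'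
              · exfalso; linarith
              · exact h'
            have hr1 : (-2) * T.m 1 + (1) * T.m 2 = 0 := by
              have f2 : T.a 1 2 = T.w 1 := by linarith
              have h : T.w 1 * ((-2) * T.m 1 + (1) * T.m 2) = 0 := by
                rw [z01, f2] at r1
                linarith
              rcases mul_eq_zero.mp h with h' | h'
              · exfalso; linarith
              · exact h'
            have hr2 : (-2) * T.m 2 + (2) * T.m 0 + (1) * T.m 1 = 0 := by
              have f0 : T.a 0 2 = 2 * T.w 2 := by linarith
              have f1 : T.a 1 2 = T.w 2 := by linarith
              have h : T.w 2 * ((-2) * T.m 2 + (2) * T.m 0 + (1) * T.m 1) = 0 := by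
                rw [f0, f1] at r2
                linarith
              rcases mul_eq_zero.mp h with h' | h'
              · exfalso; linarith
              · exact h'
            exfalso
            linarith
          · obtain ⟨ea12, eb12⟩ := e
            have hr0 : (-2) * T.m 0 + (1) * T.m 2 = 0 := by
              have f2 : T.a 0 2 = T.w 0 := by linarith
              have h : T.w 0 * ((-2) * T.m 0 + (1) * T.m 2) = 0 := by
                rw [z01, f2] at r0
                linarith
              rcases mul_eq_zero.mp h with h' | h'
              · exfalso; linarith
              · exact h'
            have hr1 : (-2) * T.m 1 + (2) * T.m 2 = 0 := by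
              have f2 : T.a 1 2 = 2 * T.w 1 := by linarith
              have h : T.w 1 * ((-2) * T.m 1 + (2) * T.m 2) = 0 := by
                rw [z01, f2] at r1
                linarith
              rcases mul_eq_zero.mp h with h' | h'
              · exfalso; linarith
              · exact h'
            have hr2 : (-2) * T.m 2 + (2) * T.m 0 + (1) * T.m 1 = 0 := by
              have f0 : T.a 0 2 = 2 * T.w 2 := by linarith
              have f1 : T.a 1 2 = T.w 2 := by linarith
              have h : T.w 2 * ((-2) * T.m 2 + (2) * T.m 0 + (1) * T.m 1) = 0 := by
                rw [f0, f1] at r2
                linarith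
              rcases mul_eq_zero.mp h with h' | h'
              · exfalso; linarith
              · exact h'
            have w0 : T.w 0 = 4 * T.w 1 := by linarith
            have w2 : T.w 2 = 2 * T.w 1 := by linarith
            have a02 : T.a 0 2 = 4 * T.w 1 := by linarith
            have a12 : T.a 1 2 = 2 * T.w 1 := by linarith
            have m1 : T.m 1 = 2 * T.m 0 := by linarith
            have m2 : T.m 2 = 2 * T.m 0 := by linarith
            refine ⟨1, 2, 0, T.m 0, T.w 1, by decide, by decide, by decide, (h2 _).1, (h2 _).1, (h2 _).1, ?_⟩
            refine Or.inr (Or.inr (Or.inr (Or.inl ⟨?_, ?_, ?_, ?_, ?_, ?_, ?_, ?_, ?_, ?_, ?_, ?_⟩)))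
            all_goals first | rfl | trivial | linarith
          · obtain ⟨ea12, eb12⟩ := e
            have hr0 : (-2) * T.m 0 + (1) * T.m 2 = 0 := by
              have f2 : T.a 0 2 = T.w 0 := by linarith
              have h : T.w 0 * ((-2) * T.m 0 + (1) * T.m 2) = 0 := by
                rw [z01, f2] at r0
                linarith
              rcases mul_eq_zero.mp h with h' | h'
              · exfalso; linarith
              · exact h'
            have hr1 : (-2) * T.m 1 + (1) * T.m 2 = 0 := by
              have f2 : T.a 1 2 = T.w 1 := by linarith
              have h : T.w 1 * ((-2) * T.m 1 + (1) * T.m 2) = 0 := by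
                rw [z01, f2] at r1
                linarith
              rcases mul_eq_zero.mp h with h' | h'
              · exfalso; linarith
              · exact h'
            have hr2 : (-2) * T.m 2 + (2) * T.m 0 + (2) * T.m 1 = 0 := by
              have f0 : T.a 0 2 = 2 * T.w 2 := by linarith
              have f1 : T.a 1 2 = 2 * T.w 2 := by linarith
              have h : T.w 2 * ((-2) * T.m 2 + (2) * T.m 0 + (2) * T.m 1) = 0 := by
                rw [f0, f1] at r2
                linarith
              rcases mul_eq_zero.mp h with h' | h'
              · exfalso; linarith
              · exact h'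
            have w0 : T.w 0 = 2 * T.w 2 := by linarith
            have w1 : T.w 1 = 2 * T.w 2 := by linarith
            have a02 : T.a 0 2 = 2 * T.w 2 := by linarith
            have a12 : T.a 1 2 = 2 * T.w 2 := by linarith
            have m1 : T.m 1 = T.m 0 := by linarith
            have m2 : T.m 2 = 2 * T.m 0 := by linarith
            refine ⟨0, 2, 1, T.m 0, T.w 2, by decide, by decide, by decide, (h2 _).1, (h2 _).1, (h2 _).1, ?_⟩
            refine Or.inr (Or.inr (Or.inr (Or.inr (Or.inr (⟨?_, ?_, ?_, ?_, ?_, ?_, ?_, ?_, ?_, ?_, ?_, ?_⟩)))))
            all_goals first | rfl | trivial | linarith
          · obtain ⟨ea12, eb12⟩ := e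
            have hr0 : (-2) * T.m 0 + (1) * T.m 2 = 0 := by
              have f2 : T.a 0 2 = T.w 0 := by linarith
              have h : T.w 0 * ((-2) * T.m 0 + (1) * T.m 2) = 0 := by
                rw [z01, f2] at r0
                linarith
              rcases mul_eq_zero.mp h with h' | h'
              · exfalso; linarith
              · exact h'
            have hr1 : (-2) * T.m 1 + (3) * T.m 2 = 0 := by
              have f2 : T.a 1 2 = 3 * T.w 1 := by linarith
              have h : T.w 1 * ((-2) * T.m 1 + (3) * T.m 2) = 0 := by
                rw [z01, f2] at r1
                linarith
              rcases mul_eq_zero.mp h with h' | h'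
              · exfalso; linarith
              · exact h'
            have hr2 : (-2) * T.m 2 + (2) * T.m 0 + (1) * T.m 1 = 0 := by
              have f0 : T.a 0 2 = 2 * T.w 2 := by linarith
              have f1 : T.a 1 2 = T.w 2 := by linarith
              have h : T.w 2 * ((-2) * T.m 2 + (2) * T.m 0 + (1) * T.m 1) = 0 := by
                rw [f0, f1] at r2
                linarith
              rcases mul_eq_zero.mp h with h' | h'
              · exfalso; linarith
              · exact h'
            exfalso
            linarith
          · obtain ⟨ea12, eb12⟩ := e
            have hr0 : (-2) * T.m 0 + (1) * T.m 2 = 0 := by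
              have f2 : T.a 0 2 = T.w 0 := by linarith
              have h : T.w 0 * ((-2) * T.m 0 + (1) * T.m 2) = 0 := by
                rw [z01, f2] at r0
                linarith
              rcases mul_eq_zero.mp h with h' | h'
              · exfalso; linarith
              · exact h'
            have hr1 : (-2) * T.m 1 + (1) * T.m 2 = 0 := by
              have f2 : T.a 1 2 = T.w 1 := by linarith
              have h : T.w 1 * ((-2) * T.m 1 + (1) * T.m 2) = 0 := by
                rw [z01, f2] at r1
                linarith
              rcases mul_eq_zero.mp h with h' | h'
              · exfalso; linarith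
              · exact h'
            have hr2 : (-2) * T.m 2 + (2) * T.m 0 + (3) * T.m 1 = 0 := by
              have f0 : T.a 0 2 = 2 * T.w 2 := by linarith
              have f1 : T.a 1 2 = 3 * T.w 2 := by linarith
              have h : T.w 2 * ((-2) * T.m 2 + (2) * T.m 0 + (3) * T.m 1) = 0 := by
                rw [f0, f1] at r2
                linarith
              rcases mul_eq_zero.mp h with h' | h'
              · exfalso; linarith
              · exact h'
            exfalso
            linarith
      · obtain ⟨ea02, eb02⟩ := e
        rcases eq_or_lt_of_le nn12 with z | hp12
        · have z12 : T.a 1 2 = 0 := z.symm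
          exfalso
          obtain ⟨i, hi, j, hj, hij⟩ := T.connected ({0, 2} : Finset (Fin 3)) (by decide) (by decide)
          fin_cases i <;> fin_cases j <;> first | exact absurd hi (by decide) | exact hj (by decide) | (apply hij; first | exact z01 | exact s21.trans z12)
        · rcases Groth.Agent.Helper3.NumType.edge_casesT T h2 (by norm_num) (p := 1) (q := 2) (by decide) hp12 with e | e | e | e | e
          · obtain ⟨ea12, eb12⟩ := e
            have hr0 : (-2) * T.m 0 + (3) * T.m 2 = 0 := by
              have f2 : T.a 0 2 = 3 * T.w 0 := by linarith
              have h : T.w 0 * ((-2) * T.m 0 + (3) * T.m 2) = 0 := by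
                rw [z01, f2] at r0
                linarith
              rcases mul_eq_zero.mp h with h' | h'
              · exfalso; linarith
              · exact h'
            have hr1 : (-2) * T.m 1 + (1) * T.m 2 = 0 := by
              have f2 : T.a 1 2 = T.w 1 := by linarith
              have h : T.w 1 * ((-2) * T.m 1 + (1) * T.m 2) = 0 := by
                rw [z01, f2] at r1
                linarith
              rcases mul_eq_zero.mp h with h' | h'
              · exfalso; linarith
              · exact h'
            have hr2 : (-2) * T.m 2 + (1) * T.m 0 + (1) * T.m 1 = 0 := by
              have f0 : T.a 0 2 = T.w 2 := by linarith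
              have f1 : T.a 1 2 = T.w 2 := by linarith
              have h : T.w 2 * ((-2) * T.m 2 + (1) * T.m 0 + (1) * T.m 1) = 0 := by
                rw [f0, f1] at r2
                linarith
              rcases mul_eq_zero.mp h with h' | h'
              · exfalso; linarith
              · exact h'
            have w1 : T.w 1 = 3 * T.w 0 := by linarith
            have w2 : T.w 2 = 3 * T.w 0 := by linarith
            have a02 : T.a 0 2 = 3 * T.w 0 := by linarith
            have a12 : T.a 1 2 = 3 * T.w 0 := by linarith
            have m0 : T.m 0 = 3 * T.m 1 := by linarith
            have m2 : T.m 2 = 2 * T.m 1 := by linarith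
            refine ⟨1, 2, 0, T.m 1, T.w 0, by decide, by decide, by decide, (h2 _).1, (h2 _).1, (h2 _).1, ?_⟩
            refine Or.inr (Or.inr (Or.inl ⟨?_, ?_, ?_, ?_, ?_, ?_, ?_, ?_, ?_, ?_, ?_, ?_⟩))
            all_goals first | rfl | trivial | linarith
          · obtain ⟨ea12, eb12⟩ := e
            have hr0 : (-2) * T.m 0 + (3) * T.m 2 = 0 := by
              have f2 : T.a 0 2 = 3 * T.w 0 := by linarith
              have h : T.w 0 * ((-2) * T.m 0 + (3) * T.m 2) = 0 := by
                rw [z01, f2] at r0
                linarith
              rcases mul_eq_zero.mp h with h' | h'
              · exfalso; linarith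
              · exact h'
            have hr1 : (-2) * T.m 1 + (2) * T.m 2 = 0 := by
              have f2 : T.a 1 2 = 2 * T.w 1 := by linarith
              have h : T.w 1 * ((-2) * T.m 1 + (2) * T.m 2) = 0 := by
                rw [z01, f2] at r1
                linarith
              rcases mul_eq_zero.mp h with h' | h'
              · exfalso; linarith
              · exact h'
            have hr2 : (-2) * T.m 2 + (1) * T.m 0 + (1) * T.m 1 = 0 := by
              have f0 : T.a 0 2 = T.w 2 := by linarith
              have f1 : T.a 1 2 = T.w 2 := by linarith
              have h : T.w 2 * ((-2) * T.m 2 + (1) * T.m 0 + (1) * T.m 1) = 0 := by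
                rw [f0, f1] at r2
                linarith
              rcases mul_eq_zero.mp h with h' | h'
              · exfalso; linarith
              · exact h'
            exfalso
            linarith
          · obtain ⟨ea12, eb12⟩ := e
            have hr0 : (-2) * T.m 0 + (3) * T.m 2 = 0 := by
              have f2 : T.a 0 2 = 3 * T.w 0 := by linarith
              have h : T.w 0 * ((-2) * T.m 0 + (3) * T.m 2) = 0 := by
                rw [z01, f2] at r0
                linarith
              rcases mul_eq_zero.mp h with h' | h'
              · exfalso; linarith
              · exact h'
            have hr1 : (-2) * T.m 1 + (1) * T.m 2 = 0 := by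
              have f2 : T.a 1 2 = T.w 1 := by linarith
              have h : T.w 1 * ((-2) * T.m 1 + (1) * T.m 2) = 0 := by
                rw [z01, f2] at r1
                linarith
              rcases mul_eq_zero.mp h with h' | h'
              · exfalso; linarith
              · exact h'
            have hr2 : (-2) * T.m 2 + (1) * T.m 0 + (2) * T.m 1 = 0 := by
              have f0 : T.a 0 2 = T.w 2 := by linarith
              have f1 : T.a 1 2 = 2 * T.w 2 := by linarith
              have h : T.w 2 * ((-2) * T.m 2 + (1) * T.m 0 + (2) * T.m 1) = 0 := by
                rw [f0, f1] at r2
                linarith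
              rcases mul_eq_zero.mp h with h' | h'
              · exfalso; linarith
              · exact h'
            exfalso
            linarith
          · obtain ⟨ea12, eb12⟩ := e
            have hr0 : (-2) * T.m 0 + (3) * T.m 2 = 0 := by
              have f2 : T.a 0 2 = 3 * T.w 0 := by linarith
              have h : T.w 0 * ((-2) * T.m 0 + (3) * T.m 2) = 0 := by
                rw [z01, f2] at r0
                linarith
              rcases mul_eq_zero.mp h with h' | h'
              · exfalso; linarith
              · exact h'
            have hr1 : (-2) * T.m 1 + (3) * T.m 2 = 0 := by
              have f2 : T.a 1 2 = 3 * T.w 1 := by linarith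
              have h : T.w 1 * ((-2) * T.m 1 + (3) * T.m 2) = 0 := by
                rw [z01, f2] at r1
                linarith
              rcases mul_eq_zero.mp h with h' | h'
              · exfalso; linarith
              · exact h'
            have hr2 : (-2) * T.m 2 + (1) * T.m 0 + (1) * T.m 1 = 0 := by
              have f0 : T.a 0 2 = T.w 2 := by linarith
              have f1 : T.a 1 2 = T.w 2 := by linarith
              have h : T.w 2 * ((-2) * T.m 2 + (1) * T.m 0 + (1) * T.m 1) = 0 := by
                rw [f0, f1] at r2
                linarith
              rcases mul_eq_zero.mp h with h' | h'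
              · exfalso; linarith
              · exact h'
            exfalso
            linarith
          · obtain ⟨ea12, eb12⟩ := e
            have hr0 : (-2) * T.m 0 + (3) * T.m 2 = 0 := by
              have f2 : T.a 0 2 = 3 * T.w 0 := by linarith
              have h : T.w 0 * ((-2) * T.m 0 + (3) * T.m 2) = 0 := by
                rw [z01, f2] at r0
                linarith
              rcases mul_eq_zero.mp h with h' | h'
              · exfalso; linarith
              · exact h'
            have hr1 : (-2) * T.m 1 + (1) * T.m 2 = 0 := by
              have f2 : T.a 1 2 = T.w 1 := by linarith
              have h : T.w 1 * ((-2) * T.m 1 + (1) * T.m 2) = 0 := by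
                rw [z01, f2] at r1
                linarith
              rcases mul_eq_zero.mp h with h' | h'
              · exfalso; linarith
              · exact h'
            have hr2 : (-2) * T.m 2 + (1) * T.m 0 + (3) * T.m 1 = 0 := by
              have f0 : T.a 0 2 = T.w 2 := by linarith
              have f1 : T.a 1 2 = 3 * T.w 2 := by linarith
              have h : T.w 2 * ((-2) * T.m 2 + (1) * T.m 0 + (3) * T.m 1) = 0 := by
                rw [f0, f1] at r2
                linarith
              rcases mul_eq_zero.mp h with h' | h'
              · exfalso; linarith
              · exact h'
            exfalso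
            linarith
      · obtain ⟨ea02, eb02⟩ := e
        rcases eq_or_lt_of_le nn12 with z | hp12
        · have z12 : T.a 1 2 = 0 := z.symm
          exfalso
          obtain ⟨i, hi, j, hj, hij⟩ := T.connected ({0, 2} : Finset (Fin 3)) (by decide) (by decide)
          fin_cases i <;> fin_cases j <;> first | exact absurd hi (by decide) | exact hj (by decide) | (apply hij; first | exact z01 | exact s21.trans z12)
        · rcases Groth.Agent.Helper3.NumType.edge_casesT T h2 (by norm_num) (p := 1) (q := 2) (by decide) hp12 with e | e | e | e | e
          · obtain ⟨ea12, eb12⟩ := e
            have hr0 : (-2) * T.m 0 + (1) * T.m 2 = 0 := by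
              have f2 : T.a 0 2 = T.w 0 := by linarith
              have h : T.w 0 * ((-2) * T.m 0 + (1) * T.m 2) = 0 := by
                rw [z01, f2] at r0
                linarith
              rcases mul_eq_zero.mp h with h' | h'
              · exfalso; linarith
              · exact h'
            have hr1 : (-2) * T.m 1 + (1) * T.m 2 = 0 := by
              have f2 : T.a 1 2 = T.w 1 := by linarith
              have h : T.w 1 * ((-2) * T.m 1 + (1) * T.m 2) = 0 := by
                rw [z01, f2] at r1
                linarith
              rcases mul_eq_zero.mp h with h' | h'
              · exfalso; linarith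
              · exact h'
            have hr2 : (-2) * T.m 2 + (3) * T.m 0 + (1) * T.m 1 = 0 := by
              have f0 : T.a 0 2 = 3 * T.w 2 := by linarith
              have f1 : T.a 1 2 = T.w 2 := by linarith
              have h : T.w 2 * ((-2) * T.m 2 + (3) * T.m 0 + (1) * T.m 1) = 0 := by
                rw [f0, f1] at r2
                linarith
              rcases mul_eq_zero.mp h with h' | h'
              · exfalso; linarith
              · exact h'
            have w0 : T.w 0 = 3 * T.w 1 := by linarith
            have w2 : T.w 2 = T.w 1 := by linarith
            have a02 : T.a 0 2 = 3 * T.w 1 := by linarith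
            have a12 : T.a 1 2 = T.w 1 := by linarith
            have m0 : T.m 0 = T.m 1 := by linarith
            have m2 : T.m 2 = 2 * T.m 1 := by linarith
            refine ⟨1, 2, 0, T.m 1, T.w 1, by decide, by decide, by decide, (h2 _).1, (h2 _).1, (h2 _).1, ?_⟩
            refine Or.inr (Or.inl ⟨?_, ?_, ?_, ?_, ?_, ?_, ?_, ?_, ?_, ?_, ?_, ?_⟩)
            all_goals first | rfl | trivial | linarith
          · obtain ⟨ea12, eb12⟩ := e
            have hr0 : (-2) * T.m 0 + (1) * T.m 2 = 0 := by
              have f2 : T.a 0 2 = T.w 0 := by linarith
              have h : T.w 0 * ((-2) * T.m 0 + (1) * T.m 2) = 0 := by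
                rw [z01, f2] at r0
                linarith
              rcases mul_eq_zero.mp h with h' | h'
              · exfalso; linarith
              · exact h'
            have hr1 : (-2) * T.m 1 + (2) * T.m 2 = 0 := by
              have f2 : T.a 1 2 = 2 * T.w 1 := by linarith
              have h : T.w 1 * ((-2) * T.m 1 + (2) * T.m 2) = 0 := by
                rw [z01, f2] at r1
                linarith
              rcases mul_eq_zero.mp h with h' | h'
              · exfalso; linarith
              · exact h'
            have hr2 : (-2) * T.m 2 + (3) * T.m 0 + (1) * T.m 1 = 0 := by
              have f0 : T.a 0 2 = 3 * T.w 2 := by linarith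
              have f1 : T.a 1 2 = T.w 2 := by linarith
              have h : T.w 2 * ((-2) * T.m 2 + (3) * T.m 0 + (1) * T.m 1) = 0 := by
                rw [f0, f1] at r2
                linarith
              rcases mul_eq_zero.mp h with h' | h'
              · exfalso; linarith
              · exact h'
            exfalso
            linarith
          · obtain ⟨ea12, eb12⟩ := e
            have hr0 : (-2) * T.m 0 + (1) * T.m 2 = 0 := by
              have f2 : T.a 0 2 = T.w 0 := by linarith
              have h : T.w 0 * ((-2) * T.m 0 + (1) * T.m 2) = 0 := by
                rw [z01, f2] at r0
                linarith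
              rcases mul_eq_zero.mp h with h' | h'
              · exfalso; linarith
              · exact h'
            have hr1 : (-2) * T.m 1 + (1) * T.m 2 = 0 := by
              have f2 : T.a 1 2 = T.w 1 := by linarith
              have h : T.w 1 * ((-2) * T.m 1 + (1) * T.m 2) = 0 := by
                rw [z01, f2] at r1
                linarith
              rcases mul_eq_zero.mp h with h' | h'
              · exfalso; linarith
              · exact h'
            have hr2 : (-2) * T.m 2 + (3) * T.m 0 + (2) * T.m 1 = 0 := by
              have f0 : T.a 0 2 = 3 * T.w 2 := by linarith
              have f1 : T.a 1 2 = 2 * T.w 2 := by linarith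
              have h : T.w 2 * ((-2) * T.m 2 + (3) * T.m 0 + (2) * T.m 1) = 0 := by
                rw [f0, f1] at r2
                linarith
              rcases mul_eq_zero.mp h with h' | h'
              · exfalso; linarith
              · exact h'
            exfalso
            linarith
          · obtain ⟨ea12, eb12⟩ := e
            have hr0 : (-2) * T.m 0 + (1) * T.m 2 = 0 := by
              have f2 : T.a 0 2 = T.w 0 := by linarith
              have h : T.w 0 * ((-2) * T.m 0 + (1) * T.m 2) = 0 := by
                rw [z01, f2] at r0
                linarith
              rcases mul_eq_zero.mp h with h' | h'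
              · exfalso; linarith
              · exact h'
            have hr1 : (-2) * T.m 1 + (3) * T.m 2 = 0 := by
              have f2 : T.a 1 2 = 3 * T.w 1 := by linarith
              have h : T.w 1 * ((-2) * T.m 1 + (3) * T.m 2) = 0 := by
                rw [z01, f2] at r1
                linarith
              rcases mul_eq_zero.mp h with h' | h'
              · exfalso; linarith
              · exact h'
            have hr2 : (-2) * T.m 2 + (3) * T.m 0 + (1) * T.m 1 = 0 := by
              have f0 : T.a 0 2 = 3 * T.w 2 := by linarith
              have f1 : T.a 1 2 = T.w 2 := by linarith
              have h : T.w 2 * ((-2) * T.m 2 + (3) * T.m 0 + (1) * T.m 1) = 0 := by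
                rw [f0, f1] at r2
                linarith
              rcases mul_eq_zero.mp h with h' | h'
              · exfalso; linarith
              · exact h'
            exfalso
            linarith
          · obtain ⟨ea12, eb12⟩ := e
            have hr0 : (-2) * T.m 0 + (1) * T.m 2 = 0 := by
              have f2 : T.a 0 2 = T.w 0 := by linarith
              have h : T.w 0 * ((-2) * T.m 0 + (1) * T.m 2) = 0 := by
                rw [z01, f2] at r0
                linarith
              rcases mul_eq_zero.mp h with h' | h'
              · exfalso; linarith
              · exact h'
            have hr1 : (-2) * T.m 1 + (1) * T.m 2 = 0 := by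
              have f2 : T.a 1 2 = T.w 1 := by linarith
              have h : T.w 1 * ((-2) * T.m 1 + (1) * T.m 2) = 0 := by
                rw [z01, f2] at r1
                linarith
              rcases mul_eq_zero.mp h with h' | h'
              · exfalso; linarith
              · exact h'
            have hr2 : (-2) * T.m 2 + (3) * T.m 0 + (3) * T.m 1 = 0 := by
              have f0 : T.a 0 2 = 3 * T.w 2 := by linarith
              have f1 : T.a 1 2 = 3 * T.w 2 := by linarith
              have h : T.w 2 * ((-2) * T.m 2 + (3) * T.m 0 + (3) * T.m 1) = 0 := by
                rw [f0, f1] at r2
                linarith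
              rcases mul_eq_zero.mp h with h' | h'
              · exfalso; linarith
              · exact h'
            exfalso
            linarith
  · rcases Groth.Agent.Helper3.NumType.edge_casesT T h2 (by norm_num) (p := 0) (q := 1) (by decide) hp01 with e | e | e | e | e
    · obtain ⟨ea01, eb01⟩ := e
      rcases eq_or_lt_of_le nn02 with z | hp02
      · have z02 : T.a 0 2 = 0 := z.symm
        rcases eq_or_lt_of_le nn12 with z | hp12
        · have z12 : T.a 1 2 = 0 := z.symm
          exfalso
          obtain ⟨i, hi, j, hj, hij⟩ := T.connected ({0, 1} : Finset (Fin 3)) (by decide) (by decide)
          fin_cases i <;> fin_cases j <;> first | exact absurd hi (by decide) | exact hj (by decide) | (apply hij; first | exact z02 | exact z12)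
        · rcases Groth.Agent.Helper3.NumType.edge_casesT T h2 (by norm_num) (p := 1) (q := 2) (by decide) hp12 with e | e | e | e | e
          · obtain ⟨ea12, eb12⟩ := e
            have hr0 : (-2) * T.m 0 + (1) * T.m 1 = 0 := by
              have f1 : T.a 0 1 = T.w 0 := by linarith
              have h : T.w 0 * ((-2) * T.m 0 + (1) * T.m 1) = 0 := by
                rw [f1, z02] at r0
                linarith
              rcases mul_eq_zero.mp h with h' | h'
              · exfalso; linarith
              · exact h'
            have hr1 : (-2) * T.m 1 + (1) * T.m 0 + (1) * T.m 2 = 0 := by
              have f0 : T.a 0 1 = T.w 1 := by linarith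
              have f2 : T.a 1 2 = T.w 1 := by linarith
              have h : T.w 1 * ((-2) * T.m 1 + (1) * T.m 0 + (1) * T.m 2) = 0 := by
                rw [f0, f2] at r1
                linarith
              rcases mul_eq_zero.mp h with h' | h'
              · exfalso; linarith
              · exact h'
            have hr2 : (-2) * T.m 2 + (1) * T.m 1 = 0 := by
              have f1 : T.a 1 2 = T.w 2 := by linarith
              have h : T.w 2 * ((-2) * T.m 2 + (1) * T.m 1) = 0 := by
                rw [z02, f1] at r2
                linarith
              rcases mul_eq_zero.mp h with h' | h'
              · exfalso; linarith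
              · exact h'
            exfalso
            linarith
          · obtain ⟨ea12, eb12⟩ := e
            have hr0 : (-2) * T.m 0 + (1) * T.m 1 = 0 := by
              have f1 : T.a 0 1 = T.w 0 := by linarith
              have h : T.w 0 * ((-2) * T.m 0 + (1) * T.m 1) = 0 := by
                rw [f1, z02] at r0
                linarith
              rcases mul_eq_zero.mp h with h' | h'
              · exfalso; linarith
              · exact h'
            have hr1 : (-2) * T.m 1 + (1) * T.m 0 + (2) * T.m 2 = 0 := by
              have f0 : T.a 0 1 = T.w 1 := by linarith
              have f2 : T.a 1 2 = 2 * T.w 1 := by linarith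
              have h : T.w 1 * ((-2) * T.m 1 + (1) * T.m 0 + (2) * T.m 2) = 0 := by
                rw [f0, f2] at r1
                linarith
              rcases mul_eq_zero.mp h with h' | h'
              · exfalso; linarith
              · exact h'
            have hr2 : (-2) * T.m 2 + (1) * T.m 1 = 0 := by
              have f1 : T.a 1 2 = T.w 2 := by linarith
              have h : T.w 2 * ((-2) * T.m 2 + (1) * T.m 1) = 0 := by
                rw [z02, f1] at r2
                linarith
              rcases mul_eq_zero.mp h with h' | h'
              · exfalso; linarith
              · exact h'
            exfalso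
            linarith
          · obtain ⟨ea12, eb12⟩ := e
            have hr0 : (-2) * T.m 0 + (1) * T.m 1 = 0 := by
              have f1 : T.a 0 1 = T.w 0 := by linarith
              have h : T.w 0 * ((-2) * T.m 0 + (1) * T.m 1) = 0 := by
                rw [f1, z02] at r0
                linarith
              rcases mul_eq_zero.mp h with h' | h'
              · exfalso; linarith
              · exact h'
            have hr1 : (-2) * T.m 1 + (1) * T.m 0 + (1) * T.m 2 = 0 := by
              have f0 : T.a 0 1 = T.w 1 := by linarith
              have f2 : T.a 1 2 = T.w 1 := by linarith
              have h : T.w 1 * ((-2) * T.m 1 + (1) * T.m 0 + (1) * T.m 2) = 0 := by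
                rw [f0, f2] at r1
                linarith
              rcases mul_eq_zero.mp h with h' | h'
              · exfalso; linarith
              · exact h'
            have hr2 : (-2) * T.m 2 + (2) * T.m 1 = 0 := by
              have f1 : T.a 1 2 = 2 * T.w 2 := by linarith
              have h : T.w 2 * ((-2) * T.m 2 + (2) * T.m 1) = 0 := by
                rw [z02, f1] at r2
                linarith
              rcases mul_eq_zero.mp h with h' | h'
              · exfalso; linarith
              · exact h'
            exfalso
            linarith
          · obtain ⟨ea12, eb12⟩ := e
            have hr0 : (-2) * T.m 0 + (1) * T.m 1 = 0 := by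
              have f1 : T.a 0 1 = T.w 0 := by linarith
              have h : T.w 0 * ((-2) * T.m 0 + (1) * T.m 1) = 0 := by
                rw [f1, z02] at r0
                linarith
              rcases mul_eq_zero.mp h with h' | h'
              · exfalso; linarith
              · exact h'
            have hr1 : (-2) * T.m 1 + (1) * T.m 0 + (3) * T.m 2 = 0 := by
              have f0 : T.a 0 1 = T.w 1 := by linarith
              have f2 : T.a 1 2 = 3 * T.w 1 := by linarith
              have h : T.w 1 * ((-2) * T.m 1 + (1) * T.m 0 + (3) * T.m 2) = 0 := by
                rw [f0, f2] at r1
                linarith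
              rcases mul_eq_zero.mp h with h' | h'
              · exfalso; linarith
              · exact h'
            have hr2 : (-2) * T.m 2 + (1) * T.m 1 = 0 := by
              have f1 : T.a 1 2 = T.w 2 := by linarith
              have h : T.w 2 * ((-2) * T.m 2 + (1) * T.m 1) = 0 := by
                rw [z02, f1] at r2
                linarith
              rcases mul_eq_zero.mp h with h' | h'
              · exfalso; linarith
              · exact h'
            have w1 : T.w 1 = T.w 0 := by linarith
            have w2 : T.w 2 = 3 * T.w 0 := by linarith
            have a01 : T.a 0 1 = T.w 0 := by linarith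
            have a12 : T.a 1 2 = 3 * T.w 0 := by linarith
            have m1 : T.m 1 = 2 * T.m 0 := by linarith
            have m2 : T.m 2 = T.m 0 := by linarith
            refine ⟨0, 1, 2, T.m 0, T.w 0, by decide, by decide, by decide, (h2 _).1, (h2 _).1, (h2 _).1, ?_⟩
            refine Or.inr (Or.inl ⟨?_, ?_, ?_, ?_, ?_, ?_, ?_, ?_, ?_, ?_, ?_, ?_⟩)
            all_goals first | rfl | trivial | linarith
          · obtain ⟨ea12, eb12⟩ := e
            have hr0 : (-2) * T.m 0 + (1) * T.m 1 = 0 := by
              have f1 : T.a 0 1 = T.w 0 := by linarith
              have h : T.w 0 * ((-2) * T.m 0 + (1) * T.m 1) = 0 := by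
                rw [f1, z02] at r0
                linarith
              rcases mul_eq_zero.mp h with h' | h'
              · exfalso; linarith
              · exact h'
            have hr1 : (-2) * T.m 1 + (1) * T.m 0 + (1) * T.m 2 = 0 := by
              have f0 : T.a 0 1 = T.w 1 := by linarith
              have f2 : T.a 1 2 = T.w 1 := by linarith
              have h : T.w 1 * ((-2) * T.m 1 + (1) * T.m 0 + (1) * T.m 2) = 0 := by
                rw [f0, f2] at r1
                linarith
              rcases mul_eq_zero.mp h with h' | h'
              · exfalso; linarith
              · exact h'
            have hr2 : (-2) * T.m 2 + (3) * T.m 1 = 0 := by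
              have f1 : T.a 1 2 = 3 * T.w 2 := by linarith
              have h : T.w 2 * ((-2) * T.m 2 + (3) * T.m 1) = 0 := by
                rw [z02, f1] at r2
                linarith
              rcases mul_eq_zero.mp h with h' | h'
              · exfalso; linarith
              · exact h'
            have w0 : T.w 0 = 3 * T.w 2 := by linarith
            have w1 : T.w 1 = 3 * T.w 2 := by linarith
            have a01 : T.a 0 1 = 3 * T.w 2 := by linarith
            have a12 : T.a 1 2 = 3 * T.w 2 := by linarith
            have m1 : T.m 1 = 2 * T.m 0 := by linarith
            have m2 : T.m 2 = 3 * T.m 0 := by linarith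
            refine ⟨0, 1, 2, T.m 0, T.w 2, by decide, by decide, by decide, (h2 _).1, (h2 _).1, (h2 _).1, ?_⟩
            refine Or.inr (Or.inr (Or.inl ⟨?_, ?_, ?_, ?_, ?_, ?_, ?_, ?_, ?_, ?_, ?_, ?_⟩))
            all_goals first | rfl | trivial | linarith
      · rcases Groth.Agent.Helper3.NumType.edge_casesT T h2 (by norm_num) (p := 0) (q := 2) (by decide) hp02 with e | e | e | e | e
        · obtain ⟨ea02, eb02⟩ := e
          rcases eq_or_lt_of_le nn12 with z | hp12
          · have z12 : T.a 1 2 = 0 := z.symm
            have hr0 : (-2) * T.m 0 + (1) * T.m 1 + (1) * T.m 2 = 0 := by
              have f1 : T.a 0 1 = T.w 0 := by linarith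
              have f2 : T.a 0 2 = T.w 0 := by linarith
              have h : T.w 0 * ((-2) * T.m 0 + (1) * T.m 1 + (1) * T.m 2) = 0 := by
                rw [f1, f2] at r0
                linarith
              rcases mul_eq_zero.mp h with h' | h'
              · exfalso; linarith
              · exact h'
            have hr1 : (-2) * T.m 1 + (1) * T.m 0 = 0 := by
              have f0 : T.a 0 1 = T.w 1 := by linarith
              have h : T.w 1 * ((-2) * T.m 1 + (1) * T.m 0) = 0 := by
                rw [f0, z12] at r1
                linarith
              rcases mul_eq_zero.mp h with h' | h'
              · exfalso; linarith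
              · exact h'
            have hr2 : (-2) * T.m 2 + (1) * T.m 0 = 0 := by
              have f0 : T.a 0 2 = T.w 2 := by linarith
              have h : T.w 2 * ((-2) * T.m 2 + (1) * T.m 0) = 0 := by
                rw [f0, z12] at r2
                linarith
              rcases mul_eq_zero.mp h with h' | h'
              · exfalso; linarith
              · exact h'
            exfalso
            linarith
          · rcases Groth.Agent.Helper3.NumType.edge_casesT T h2 (by norm_num) (p := 1) (q := 2) (by decide) hp12 with e | e | e | e | e
            · obtain ⟨ea12, eb12⟩ := e
              have hr0 : (-2) * T.m 0 + (1) * T.m 1 + (1) * T.m 2 = 0 := by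
                have f1 : T.a 0 1 = T.w 0 := by linarith
                have f2 : T.a 0 2 = T.w 0 := by linarith
                have h : T.w 0 * ((-2) * T.m 0 + (1) * T.m 1 + (1) * T.m 2) = 0 := by
                  rw [f1, f2] at r0
                  linarith
                rcases mul_eq_zero.mp h with h' | h'
                · exfalso; linarith
                · exact h'
              have hr1 : (-2) * T.m 1 + (1) * T.m 0 + (1) * T.m 2 = 0 := by
                have f0 : T.a 0 1 = T.w 1 := by linarith
                have f2 : T.a 1 2 = T.w 1 := by linarith
                have h : T.w 1 * ((-2) * T.m 1 + (1) * T.m 0 + (1) * T.m 2) = 0 := by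
                  rw [f0, f2] at r1
                  linarith
                rcases mul_eq_zero.mp h with h' | h'
                · exfalso; linarith
                · exact h'
              have hr2 : (-2) * T.m 2 + (1) * T.m 0 + (1) * T.m 1 = 0 := by
                have f0 : T.a 0 2 = T.w 2 := by linarith
                have f1 : T.a 1 2 = T.w 2 := by linarith
                have h : T.w 2 * ((-2) * T.m 2 + (1) * T.m 0 + (1) * T.m 1) = 0 := by
                  rw [f0, f1] at r2
                  linarith
                rcases mul_eq_zero.mp h with h' | h'
                · exfalso; linarith
                · exact h'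
              have w1 : T.w 1 = T.w 0 := by linarith
              have w2 : T.w 2 = T.w 0 := by linarith
              have a01 : T.a 0 1 = T.w 0 := by linarith
              have a02 : T.a 0 2 = T.w 0 := by linarith
              have a12 : T.a 1 2 = T.w 0 := by linarith
              have m1 : T.m 1 = T.m 0 := by linarith
              have m2 : T.m 2 = T.m 0 := by linarith
              refine ⟨0, 1, 2, T.m 0, T.w 0, by decide, by decide, by decide, (h2 _).1, (h2 _).1, (h2 _).1, ?_⟩
              refine Or.inl ⟨?_, ?_, ?_, ?_, ?_, ?_, ?_, ?_, ?_, ?_, ?_, ?_⟩
              all_goals first | rfl | trivial | linarith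
            · obtain ⟨ea12, eb12⟩ := e
              exfalso
              linarith
            · obtain ⟨ea12, eb12⟩ := e
              exfalso
              linarith
            · obtain ⟨ea12, eb12⟩ := e
              exfalso
              linarith
            · obtain ⟨ea12, eb12⟩ := e
              exfalso
              linarith
        · obtain ⟨ea02, eb02⟩ := e
          rcases eq_or_lt_of_le nn12 with z | hp12
          · have z12 : T.a 1 2 = 0 := z.symm
            have hr0 : (-2) * T.m 0 + (1) * T.m 1 + (2) * T.m 2 = 0 := by
              have f1 : T.a 0 1 = T.w 0 := by linarith
              have f2 : T.a 0 2 = 2 * T.w 0 := by linarith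
              have h : T.w 0 * ((-2) * T.m 0 + (1) * T.m 1 + (2) * T.m 2) = 0 := by
                rw [f1, f2] at r0
                linarith
              rcases mul_eq_zero.mp h with h' | h'
              · exfalso; linarith
              · exact h'
            have hr1 : (-2) * T.m 1 + (1) * T.m 0 = 0 := by
              have f0 : T.a 0 1 = T.w 1 := by linarith
              have h : T.w 1 * ((-2) * T.m 1 + (1) * T.m 0) = 0 := by
                rw [f0, z12] at r1
                linarith
              rcases mul_eq_zero.mp h with h' | h'
              · exfalso; linarith
              · exact h'
            have hr2 : (-2) * T.m 2 + (1) * T.m 0 = 0 := by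
              have f0 : T.a 0 2 = T.w 2 := by linarith
              have h : T.w 2 * ((-2) * T.m 2 + (1) * T.m 0) = 0 := by
                rw [f0, z12] at r2
                linarith
              rcases mul_eq_zero.mp h with h' | h'
              · exfalso; linarith
              · exact h'
            exfalso
            linarith
          · rcases Groth.Agent.Helper3.NumType.edge_casesT T h2 (by norm_num) (p := 1) (q := 2) (by decide) hp12 with e | e | e | e | e
            · obtain ⟨ea12, eb12⟩ := e
              exfalso
              linarith
            · obtain ⟨ea12, eb12⟩ := e
              have hr0 : (-2) * T.m 0 + (1) * T.m 1 + (2) * T.m 2 = 0 := by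
                have f1 : T.a 0 1 = T.w 0 := by linarith
                have f2 : T.a 0 2 = 2 * T.w 0 := by linarith
                have h : T.w 0 * ((-2) * T.m 0 + (1) * T.m 1 + (2) * T.m 2) = 0 := by
                  rw [f1, f2] at r0
                  linarith
                rcases mul_eq_zero.mp h with h' | h'
                · exfalso; linarith
                · exact h'
              have hr1 : (-2) * T.m 1 + (1) * T.m 0 + (2) * T.m 2 = 0 := by
                have f0 : T.a 0 1 = T.w 1 := by linarith
                have f2 : T.a 1 2 = 2 * T.w 1 := by linarith
                have h : T.w 1 * ((-2) * T.m 1 + (1) * T.m 0 + (2) * T.m 2) = 0 := by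
                  rw [f0, f2] at r1
                  linarith
                rcases mul_eq_zero.mp h with h' | h'
                · exfalso; linarith
                · exact h'
              have hr2 : (-2) * T.m 2 + (1) * T.m 0 + (1) * T.m 1 = 0 := by
                have f0 : T.a 0 2 = T.w 2 := by linarith
                have f1 : T.a 1 2 = T.w 2 := by linarith
                have h : T.w 2 * ((-2) * T.m 2 + (1) * T.m 0 + (1) * T.m 1) = 0 := by
                  rw [f0, f1] at r2
                  linarith
                rcases mul_eq_zero.mp h with h' | h'
                · exfalso; linarith
                · exact h'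
              exfalso
              linarith
            · obtain ⟨ea12, eb12⟩ := e
              exfalso
              linarith
            · obtain ⟨ea12, eb12⟩ := e
              exfalso
              linarith
            · obtain ⟨ea12, eb12⟩ := e
              exfalso
              linarith
        · obtain ⟨ea02, eb02⟩ := e
          rcases eq_or_lt_of_le nn12 with z | hp12
          · have z12 : T.a 1 2 = 0 := z.symm
            have hr0 : (-2) * T.m 0 + (1) * T.m 1 + (1) * T.m 2 = 0 := by
              have f1 : T.a 0 1 = T.w 0 := by linarith
              have f2 : T.a 0 2 = T.w 0 := by linarith
              have h : T.w 0 * ((-2) * T.m 0 + (1) * T.m 1 + (1) * T.m 2) = 0 := by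
                rw [f1, f2] at r0
                linarith
              rcases mul_eq_zero.mp h with h' | h'
              · exfalso; linarith
              · exact h'
            have hr1 : (-2) * T.m 1 + (1) * T.m 0 = 0 := by
              have f0 : T.a 0 1 = T.w 1 := by linarith
              have h : T.w 1 * ((-2) * T.m 1 + (1) * T.m 0) = 0 := by
                rw [f0, z12] at r1
                linarith
              rcases mul_eq_zero.mp h with h' | h'
              · exfalso; linarith
              · exact h'
            have hr2 : (-2) * T.m 2 + (2) * T.m 0 = 0 := by
              have f0 : T.a 0 2 = 2 * T.w 2 := by linarith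
              have h : T.w 2 * ((-2) * T.m 2 + (2) * T.m 0) = 0 := by
                rw [f0, z12] at r2
                linarith
              rcases mul_eq_zero.mp h with h' | h'
              · exfalso; linarith
              · exact h'
            exfalso
            linarith
          · rcases Groth.Agent.Helper3.NumType.edge_casesT T h2 (by norm_num) (p := 1) (q := 2) (by decide) hp12 with e | e | e | e | e
            · obtain ⟨ea12, eb12⟩ := e
              exfalso
              linarith
            · obtain ⟨ea12, eb12⟩ := e
              exfalso
              linarith
            · obtain ⟨ea12, eb12⟩ := e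
              have hr0 : (-2) * T.m 0 + (1) * T.m 1 + (1) * T.m 2 = 0 := by
                have f1 : T.a 0 1 = T.w 0 := by linarith
                have f2 : T.a 0 2 = T.w 0 := by linarith
                have h : T.w 0 * ((-2) * T.m 0 + (1) * T.m 1 + (1) * T.m 2) = 0 := by
                  rw [f1, f2] at r0
                  linarith
                rcases mul_eq_zero.mp h with h' | h'
                · exfalso; linarith
                · exact h'
              have hr1 : (-2) * T.m 1 + (1) * T.m 0 + (1) * T.m 2 = 0 := by
                have f0 : T.a 0 1 = T.w 1 := by linarith
                have f2 : T.a 1 2 = T.w 1 := by linarith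
                have h : T.w 1 * ((-2) * T.m 1 + (1) * T.m 0 + (1) * T.m 2) = 0 := by
                  rw [f0, f2] at r1
                  linarith
                rcases mul_eq_zero.mp h with h' | h'
                · exfalso; linarith
                · exact h'
              have hr2 : (-2) * T.m 2 + (2) * T.m 0 + (2) * T.m 1 = 0 := by
                have f0 : T.a 0 2 = 2 * T.w 2 := by linarith
                have f1 : T.a 1 2 = 2 * T.w 2 := by linarith
                have h : T.w 2 * ((-2) * T.m 2 + (2) * T.m 0 + (2) * T.m 1) = 0 := by
                  rw [f0, f1] at r2
                  linarith
                rcases mul_eq_zero.mp h with h' | h'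
                · exfalso; linarith
                · exact h'
              exfalso
              linarith
            · obtain ⟨ea12, eb12⟩ := e
              exfalso
              linarith
            · obtain ⟨ea12, eb12⟩ := e
              exfalso
              linarith
        · obtain ⟨ea02, eb02⟩ := e
          rcases eq_or_lt_of_le nn12 with z | hp12
          · have z12 : T.a 1 2 = 0 := z.symm
            have hr0 : (-2) * T.m 0 + (1) * T.m 1 + (3) * T.m 2 = 0 := by
              have f1 : T.a 0 1 = T.w 0 := by linarith
              have f2 : T.a 0 2 = 3 * T.w 0 := by linarith
              have h : T.w 0 * ((-2) * T.m 0 + (1) * T.m 1 + (3) * T.m 2) = 0 := by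
                rw [f1, f2] at r0
                linarith
              rcases mul_eq_zero.mp h with h' | h'
              · exfalso; linarith
              · exact h'
            have hr1 : (-2) * T.m 1 + (1) * T.m 0 = 0 := by
              have f0 : T.a 0 1 = T.w 1 := by linarith
              have h : T.w 1 * ((-2) * T.m 1 + (1) * T.m 0) = 0 := by
                rw [f0, z12] at r1
                linarith
              rcases mul_eq_zero.mp h with h' | h'
              · exfalso; linarith
              · exact h'
            have hr2 : (-2) * T.m 2 + (1) * T.m 0 = 0 := by
              have f0 : T.a 0 2 = T.w 2 := by linarith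
              have h : T.w 2 * ((-2) * T.m 2 + (1) * T.m 0) = 0 := by
                rw [f0, z12] at r2
                linarith
              rcases mul_eq_zero.mp h with h' | h'
              · exfalso; linarith
              · exact h'
            have w1 : T.w 1 = T.w 0 := by linarith
            have w2 : T.w 2 = 3 * T.w 0 := by linarith
            have a01 : T.a 0 1 = T.w 0 := by linarith
            have a02 : T.a 0 2 = 3 * T.w 0 := by linarith
            have m0 : T.m 0 = 2 * T.m 1 := by linarith
            have m2 : T.m 2 = T.m 1 := by linarith
            refine ⟨1, 0, 2, T.m 1, T.w 1, by decide, by decide, by decide, (h2 _).1, (h2 _).1, (h2 _).1, ?_⟩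
            refine Or.inr (Or.inl ⟨?_, ?_, ?_, ?_, ?_, ?_, ?_, ?_, ?_, ?_, ?_, ?_⟩)
            all_goals first | rfl | trivial | linarith
          · rcases Groth.Agent.Helper3.NumType.edge_casesT T h2 (by norm_num) (p := 1) (q := 2) (by decide) hp12 with e | e | e | e | e
            · obtain ⟨ea12, eb12⟩ := e
              exfalso
              linarith
            · obtain ⟨ea12, eb12⟩ := e
              exfalso
              linarith
            · obtain ⟨ea12, eb12⟩ := e
              exfalso
              linarith
            · obtain ⟨ea12, eb12⟩ := e
              have hr0 : (-2) * T.m 0 + (1) * T.m 1 + (3) * T.m 2 = 0 := by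
                have f1 : T.a 0 1 = T.w 0 := by linarith
                have f2 : T.a 0 2 = 3 * T.w 0 := by linarith
                have h : T.w 0 * ((-2) * T.m 0 + (1) * T.m 1 + (3) * T.m 2) = 0 := by
                  rw [f1, f2] at r0
                  linarith
                rcases mul_eq_zero.mp h with h' | h'
                · exfalso; linarith
                · exact h'
              have hr1 : (-2) * T.m 1 + (1) * T.m 0 + (3) * T.m 2 = 0 := by
                have f0 : T.a 0 1 = T.w 1 := by linarith
                have f2 : T.a 1 2 = 3 * T.w 1 := by linarith
                have h : T.w 1 * ((-2) * T.m 1 + (1) * T.m 0 + (3) * T.m 2) = 0 := by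
                  rw [f0, f2] at r1
                  linarith
                rcases mul_eq_zero.mp h with h' | h'
                · exfalso; linarith
                · exact h'
              have hr2 : (-2) * T.m 2 + (1) * T.m 0 + (1) * T.m 1 = 0 := by
                have f0 : T.a 0 2 = T.w 2 := by linarith
                have f1 : T.a 1 2 = T.w 2 := by linarith
                have h : T.w 2 * ((-2) * T.m 2 + (1) * T.m 0 + (1) * T.m 1) = 0 := by
                  rw [f0, f1] at r2
                  linarith
                rcases mul_eq_zero.mp h with h' | h'
                · exfalso; linarith
                · exact h'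
              exfalso
              linarith
            · obtain ⟨ea12, eb12⟩ := e
              exfalso
              linarith
        · obtain ⟨ea02, eb02⟩ := e
          rcases eq_or_lt_of_le nn12 with z | hp12
          · have z12 : T.a 1 2 = 0 := z.symm
            have hr0 : (-2) * T.m 0 + (1) * T.m 1 + (1) * T.m 2 = 0 := by
              have f1 : T.a 0 1 = T.w 0 := by linarith
              have f2 : T.a 0 2 = T.w 0 := by linarith
              have h : T.w 0 * ((-2) * T.m 0 + (1) * T.m 1 + (1) * T.m 2) = 0 := by
                rw [f1, f2] at r0
                linarith
              rcases mul_eq_zero.mp h with h' | h'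
              · exfalso; linarith
              · exact h'
            have hr1 : (-2) * T.m 1 + (1) * T.m 0 = 0 := by
              have f0 : T.a 0 1 = T.w 1 := by linarith
              have h : T.w 1 * ((-2) * T.m 1 + (1) * T.m 0) = 0 := by
                rw [f0, z12] at r1
                linarith
              rcases mul_eq_zero.mp h with h' | h'
              · exfalso; linarith
              · exact h'
            have hr2 : (-2) * T.m 2 + (3) * T.m 0 = 0 := by
              have f0 : T.a 0 2 = 3 * T.w 2 := by linarith
              have h : T.w 2 * ((-2) * T.m 2 + (3) * T.m 0) = 0 := by
                rw [f0, z12] at r2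
                linarith
              rcases mul_eq_zero.mp h with h' | h'
              · exfalso; linarith
              · exact h'
            have w0 : T.w 0 = 3 * T.w 2 := by linarith
            have w1 : T.w 1 = 3 * T.w 2 := by linarith
            have a01 : T.a 0 1 = 3 * T.w 2 := by linarith
            have a02 : T.a 0 2 = 3 * T.w 2 := by linarith
            have m0 : T.m 0 = 2 * T.m 1 := by linarith
            have m2 : T.m 2 = 3 * T.m 1 := by linarith
            refine ⟨1, 0, 2, T.m 1, T.w 2, by decide, by decide, by decide, (h2 _).1, (h2 _).1, (h2 _).1, ?_⟩
            refine Or.inr (Or.inr (Or.inl ⟨?_, ?_, ?_, ?_, ?_, ?_, ?_, ?_, ?_, ?_, ?_, ?_⟩))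
            all_goals first | rfl | trivial | linarith
          · rcases Groth.Agent.Helper3.NumType.edge_casesT T h2 (by norm_num) (p := 1) (q := 2) (by decide) hp12 with e | e | e | e | e
            · obtain ⟨ea12, eb12⟩ := e
              exfalso
              linarith
            · obtain ⟨ea12, eb12⟩ := e
              exfalso
              linarith
            · obtain ⟨ea12, eb12⟩ := e
              exfalso
              linarith
            · obtain ⟨ea12, eb12⟩ := e
              exfalso
              linarith
            · obtain ⟨ea12, eb12⟩ := e
              have hr0 : (-2) * T.m 0 + (1) * T.m 1 + (1) * T.m 2 = 0 := by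
                have f1 : T.a 0 1 = T.w 0 := by linarith
                have f2 : T.a 0 2 = T.w 0 := by linarith
                have h : T.w 0 * ((-2) * T.m 0 + (1) * T.m 1 + (1) * T.m 2) = 0 := by
                  rw [f1, f2] at r0
                  linarith
                rcases mul_eq_zero.mp h with h' | h'
                · exfalso; linarith
                · exact h'
              have hr1 : (-2) * T.m 1 + (1) * T.m 0 + (1) * T.m 2 = 0 := by
                have f0 : T.a 0 1 = T.w 1 := by linarith
                have f2 : T.a 1 2 = T.w 1 := by linarith
                have h : T.w 1 * ((-2) * T.m 1 + (1) * T.m 0 + (1) * T.m 2) = 0 := by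
                  rw [f0, f2] at r1
                  linarith
                rcases mul_eq_zero.mp h with h' | h'
                · exfalso; linarith
                · exact h'
              have hr2 : (-2) * T.m 2 + (3) * T.m 0 + (3) * T.m 1 = 0 := by
                have f0 : T.a 0 2 = 3 * T.w 2 := by linarith
                have f1 : T.a 1 2 = 3 * T.w 2 := by linarith
                have h : T.w 2 * ((-2) * T.m 2 + (3) * T.m 0 + (3) * T.m 1) = 0 := by
                  rw [f0, f1] at r2
                  linarith
                rcases mul_eq_zero.mp h with h' | h'
                · exfalso; linarith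
                · exact h'
              exfalso
              linarith
    · obtain ⟨ea01, eb01⟩ := e
      rcases eq_or_lt_of_le nn02 with z | hp02
      · have z02 : T.a 0 2 = 0 := z.symm
        rcases eq_or_lt_of_le nn12 with z | hp12
        · have z12 : T.a 1 2 = 0 := z.symm
          exfalso
          obtain ⟨i, hi, j, hj, hij⟩ := T.connected ({0, 1} : Finset (Fin 3)) (by decide) (by decide)
          fin_cases i <;> fin_cases j <;> first | exact absurd hi (by decide) | exact hj (by decide) | (apply hij; first | exact z02 | exact z12)
        · rcases Groth.Agent.Helper3.NumType.edge_casesT T h2 (by norm_num) (p := 1) (q := 2) (by decide) hp12 with e | e | e | e | e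
          · obtain ⟨ea12, eb12⟩ := e
            have hr0 : (-2) * T.m 0 + (2) * T.m 1 = 0 := by
              have f1 : T.a 0 1 = 2 * T.w 0 := by linarith
              have h : T.w 0 * ((-2) * T.m 0 + (2) * T.m 1) = 0 := by
                rw [f1, z02] at r0
                linarith
              rcases mul_eq_zero.mp h with h' | h'
              · exfalso; linarith
              · exact h'
            have hr1 : (-2) * T.m 1 + (1) * T.m 0 + (1) * T.m 2 = 0 := by
              have f0 : T.a 0 1 = T.w 1 := by linarith
              have f2 : T.a 1 2 = T.w 1 := by linarith
              have h : T.w 1 * ((-2) * T.m 1 + (1) * T.m 0 + (1) * T.m 2) = 0 := by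
                rw [f0, f2] at r1
                linarith
              rcases mul_eq_zero.mp h with h' | h'
              · exfalso; linarith
              · exact h'
            have hr2 : (-2) * T.m 2 + (1) * T.m 1 = 0 := by
              have f1 : T.a 1 2 = T.w 2 := by linarith
              have h : T.w 2 * ((-2) * T.m 2 + (1) * T.m 1) = 0 := by
                rw [z02, f1] at r2
                linarith
              rcases mul_eq_zero.mp h with h' | h'
              · exfalso; linarith
              · exact h'
            exfalso
            linarith
          · obtain ⟨ea12, eb12⟩ := e
            have hr0 : (-2) * T.m 0 + (2) * T.m 1 = 0 := by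
              have f1 : T.a 0 1 = 2 * T.w 0 := by linarith
              have h : T.w 0 * ((-2) * T.m 0 + (2) * T.m 1) = 0 := by
                rw [f1, z02] at r0
                linarith
              rcases mul_eq_zero.mp h with h' | h'
              · exfalso; linarith
              · exact h'
            have hr1 : (-2) * T.m 1 + (1) * T.m 0 + (2) * T.m 2 = 0 := by
              have f0 : T.a 0 1 = T.w 1 := by linarith
              have f2 : T.a 1 2 = 2 * T.w 1 := by linarith
              have h : T.w 1 * ((-2) * T.m 1 + (1) * T.m 0 + (2) * T.m 2) = 0 := by
                rw [f0, f2] at r1
                linarith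
              rcases mul_eq_zero.mp h with h' | h'
              · exfalso; linarith
              · exact h'
            have hr2 : (-2) * T.m 2 + (1) * T.m 1 = 0 := by
              have f1 : T.a 1 2 = T.w 2 := by linarith
              have h : T.w 2 * ((-2) * T.m 2 + (1) * T.m 1) = 0 := by
                rw [z02, f1] at r2
                linarith
              rcases mul_eq_zero.mp h with h' | h'
              · exfalso; linarith
              · exact h'
            have w1 : T.w 1 = 2 * T.w 0 := by linarith
            have w2 : T.w 2 = 4 * T.w 0 := by linarith
            have a01 : T.a 0 1 = 2 * T.w 0 := by linarith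
            have a12 : T.a 1 2 = 4 * T.w 0 := by linarith
            have m0 : T.m 0 = 2 * T.m 2 := by linarith
            have m1 : T.m 1 = 2 * T.m 2 := by linarith
            refine ⟨0, 1, 2, T.m 2, T.w 0, by decide, by decide, by decide, (h2 _).1, (h2 _).1, (h2 _).1, ?_⟩
            refine Or.inr (Or.inr (Or.inr (Or.inl ⟨?_, ?_, ?_, ?_, ?_, ?_, ?_, ?_, ?_, ?_, ?_, ?_⟩)))
            all_goals first | rfl | trivial | linarith
          · obtain ⟨ea12, eb12⟩ := e
            have hr0 : (-2) * T.m 0 + (2) * T.m 1 = 0 := by
              have f1 : T.a 0 1 = 2 * T.w 0 := by linarith
              have h : T.w 0 * ((-2) * T.m 0 + (2) * T.m 1) = 0 := by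
                rw [f1, z02] at r0
                linarith
              rcases mul_eq_zero.mp h with h' | h'
              · exfalso; linarith
              · exact h'
            have hr1 : (-2) * T.m 1 + (1) * T.m 0 + (1) * T.m 2 = 0 := by
              have f0 : T.a 0 1 = T.w 1 := by linarith
              have f2 : T.a 1 2 = T.w 1 := by linarith
              have h : T.w 1 * ((-2) * T.m 1 + (1) * T.m 0 + (1) * T.m 2) = 0 := by
                rw [f0, f2] at r1
                linarith
              rcases mul_eq_zero.mp h with h' | h'
              · exfalso; linarith
              · exact h'
            have hr2 : (-2) * T.m 2 + (2) * T.m 1 = 0 := by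
              have f1 : T.a 1 2 = 2 * T.w 2 := by linarith
              have h : T.w 2 * ((-2) * T.m 2 + (2) * T.m 1) = 0 := by
                rw [z02, f1] at r2
                linarith
              rcases mul_eq_zero.mp h with h' | h'
              · exfalso; linarith
              · exact h'
            have w1 : T.w 1 = 2 * T.w 0 := by linarith
            have w2 : T.w 2 = T.w 0 := by linarith
            have a01 : T.a 0 1 = 2 * T.w 0 := by linarith
            have a12 : T.a 1 2 = 2 * T.w 0 := by linarith
            have m1 : T.m 1 = T.m 0 := by linarith
            have m2 : T.m 2 = T.m 0 := by linarith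
            refine ⟨0, 1, 2, T.m 0, T.w 0, by decide, by decide, by decide, (h2 _).1, (h2 _).1, (h2 _).1, ?_⟩
            refine Or.inr (Or.inr (Or.inr (Or.inr (Or.inl ⟨?_, ?_, ?_, ?_, ?_, ?_, ?_, ?_, ?_, ?_, ?_, ?_⟩))))
            all_goals first | rfl | trivial | linarith
          · obtain ⟨ea12, eb12⟩ := e
            have hr0 : (-2) * T.m 0 + (2) * T.m 1 = 0 := by
              have f1 : T.a 0 1 = 2 * T.w 0 := by linarith
              have h : T.w 0 * ((-2) * T.m 0 + (2) * T.m 1) = 0 := by
                rw [f1, z02] at r0
                linarith
              rcases mul_eq_zero.mp h with h' | h'
              · exfalso; linarith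
              · exact h'
            have hr1 : (-2) * T.m 1 + (1) * T.m 0 + (3) * T.m 2 = 0 := by
              have f0 : T.a 0 1 = T.w 1 := by linarith
              have f2 : T.a 1 2 = 3 * T.w 1 := by linarith
              have h : T.w 1 * ((-2) * T.m 1 + (1) * T.m 0 + (3) * T.m 2) = 0 := by
                rw [f0, f2] at r1
                linarith
              rcases mul_eq_zero.mp h with h' | h'
              · exfalso; linarith
              · exact h'
            have hr2 : (-2) * T.m 2 + (1) * T.m 1 = 0 := by
              have f1 : T.a 1 2 = T.w 2 := by linarith
              have h : T.w 2 * ((-2) * T.m 2 + (1) * T.m 1) = 0 := by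
                rw [z02, f1] at r2
                linarith
              rcases mul_eq_zero.mp h with h' | h'
              · exfalso; linarith
              · exact h'
            exfalso
            linarith
          · obtain ⟨ea12, eb12⟩ := e
            have hr0 : (-2) * T.m 0 + (2) * T.m 1 = 0 := by
              have f1 : T.a 0 1 = 2 * T.w 0 := by linarith
              have h : T.w 0 * ((-2) * T.m 0 + (2) * T.m 1) = 0 := by
                rw [f1, z02] at r0
                linarith
              rcases mul_eq_zero.mp h with h' | h'
              · exfalso; linarith
              · exact h'
            have hr1 : (-2) * T.m 1 + (1) * T.m 0 + (1) * T.m 2 = 0 := by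
              have f0 : T.a 0 1 = T.w 1 := by linarith
              have f2 : T.a 1 2 = T.w 1 := by linarith
              have h : T.w 1 * ((-2) * T.m 1 + (1) * T.m 0 + (1) * T.m 2) = 0 := by
                rw [f0, f2] at r1
                linarith
              rcases mul_eq_zero.mp h with h' | h'
              · exfalso; linarith
              · exact h'
            have hr2 : (-2) * T.m 2 + (3) * T.m 1 = 0 := by
              have f1 : T.a 1 2 = 3 * T.w 2 := by linarith
              have h : T.w 2 * ((-2) * T.m 2 + (3) * T.m 1) = 0 := by
                rw [z02, f1] at r2
                linarith
              rcases mul_eq_zero.mp h with h' | h'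
              · exfalso; linarith
              · exact h'
            exfalso
            linarith
      · rcases Groth.Agent.Helper3.NumType.edge_casesT T h2 (by norm_num) (p := 0) (q := 2) (by decide) hp02 with e | e | e | e | e
        · obtain ⟨ea02, eb02⟩ := e
          rcases eq_or_lt_of_le nn12 with z | hp12
          · have z12 : T.a 1 2 = 0 := z.symm
            have hr0 : (-2) * T.m 0 + (2) * T.m 1 + (1) * T.m 2 = 0 := by
              have f1 : T.a 0 1 = 2 * T.w 0 := by linarith
              have f2 : T.a 0 2 = T.w 0 := by linarith
              have h : T.w 0 * ((-2) * T.m 0 + (2) * T.m 1 + (1) * T.m 2) = 0 := by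
                rw [f1, f2] at r0
                linarith
              rcases mul_eq_zero.mp h with h' | h'
              · exfalso; linarith
              · exact h'
            have hr1 : (-2) * T.m 1 + (1) * T.m 0 = 0 := by
              have f0 : T.a 0 1 = T.w 1 := by linarith
              have h : T.w 1 * ((-2) * T.m 1 + (1) * T.m 0) = 0 := by
                rw [f0, z12] at r1
                linarith
              rcases mul_eq_zero.mp h with h' | h'
              · exfalso; linarith
              · exact h'
            have hr2 : (-2) * T.m 2 + (1) * T.m 0 = 0 := by
              have f0 : T.a 0 2 = T.w 2 := by linarith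
              have h : T.w 2 * ((-2) * T.m 2 + (1) * T.m 0) = 0 := by
                rw [f0, z12] at r2
                linarith
              rcases mul_eq_zero.mp h with h' | h'
              · exfalso; linarith
              · exact h'
            exfalso
            linarith
          · rcases Groth.Agent.Helper3.NumType.edge_casesT T h2 (by norm_num) (p := 1) (q := 2) (by decide) hp12 with e | e | e | e | e
            · obtain ⟨ea12, eb12⟩ := e
              exfalso
              linarith
            · obtain ⟨ea12, eb12⟩ := e
              exfalso
              linarith
            · obtain ⟨ea12, eb12⟩ := e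
              have hr0 : (-2) * T.m 0 + (2) * T.m 1 + (1) * T.m 2 = 0 := by
                have f1 : T.a 0 1 = 2 * T.w 0 := by linarith
                have f2 : T.a 0 2 = T.w 0 := by linarith
                have h : T.w 0 * ((-2) * T.m 0 + (2) * T.m 1 + (1) * T.m 2) = 0 := by
                  rw [f1, f2] at r0
                  linarith
                rcases mul_eq_zero.mp h with h' | h'
                · exfalso; linarith
                · exact h'
              have hr1 : (-2) * T.m 1 + (1) * T.m 0 + (1) * T.m 2 = 0 := by
                have f0 : T.a 0 1 = T.w 1 := by linarith
                have f2 : T.a 1 2 = T.w 1 := by linarith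
                have h : T.w 1 * ((-2) * T.m 1 + (1) * T.m 0 + (1) * T.m 2) = 0 := by
                  rw [f0, f2] at r1
                  linarith
                rcases mul_eq_zero.mp h with h' | h'
                · exfalso; linarith
                · exact h'
              have hr2 : (-2) * T.m 2 + (1) * T.m 0 + (2) * T.m 1 = 0 := by
                have f0 : T.a 0 2 = T.w 2 := by linarith
                have f1 : T.a 1 2 = 2 * T.w 2 := by linarith
                have h : T.w 2 * ((-2) * T.m 2 + (1) * T.m 0 + (2) * T.m 1) = 0 := by
                  rw [f0, f1] at r2
                  linarith
                rcases mul_eq_zero.mp h with h' | h'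
                · exfalso; linarith
                · exact h'
              exfalso
              linarith
            · obtain ⟨ea12, eb12⟩ := e
              exfalso
              linarith
            · obtain ⟨ea12, eb12⟩ := e
              exfalso
              linarith
        · obtain ⟨ea02, eb02⟩ := e
          rcases eq_or_lt_of_le nn12 with z | hp12
          · have z12 : T.a 1 2 = 0 := z.symm
            have hr0 : (-2) * T.m 0 + (2) * T.m 1 + (2) * T.m 2 = 0 := by
              have f1 : T.a 0 1 = 2 * T.w 0 := by linarith
              have f2 : T.a 0 2 = 2 * T.w 0 := by linarith
              have h : T.w 0 * ((-2) * T.m 0 + (2) * T.m 1 + (2) * T.m 2) = 0 := by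
                rw [f1, f2] at r0
                linarith
              rcases mul_eq_zero.mp h with h' | h'
              · exfalso; linarith
              · exact h'
            have hr1 : (-2) * T.m 1 + (1) * T.m 0 = 0 := by
              have f0 : T.a 0 1 = T.w 1 := by linarith
              have h : T.w 1 * ((-2) * T.m 1 + (1) * T.m 0) = 0 := by
                rw [f0, z12] at r1
                linarith
              rcases mul_eq_zero.mp h with h' | h'
              · exfalso; linarith
              · exact h'
            have hr2 : (-2) * T.m 2 + (1) * T.m 0 = 0 := by
              have f0 : T.a 0 2 = T.w 2 := by linarith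
              have h : T.w 2 * ((-2) * T.m 2 + (1) * T.m 0) = 0 := by
                rw [f0, z12] at r2
                linarith
              rcases mul_eq_zero.mp h with h' | h'
              · exfalso; linarith
              · exact h'
            have w1 : T.w 1 = 2 * T.w 0 := by linarith
            have w2 : T.w 2 = 2 * T.w 0 := by linarith
            have a01 : T.a 0 1 = 2 * T.w 0 := by linarith
            have a02 : T.a 0 2 = 2 * T.w 0 := by linarith
            have m0 : T.m 0 = 2 * T.m 1 := by linarith
            have m2 : T.m 2 = T.m 1 := by linarith
            refine ⟨1, 0, 2, T.m 1, T.w 0, by decide, by decide, by decide, (h2 _).1, (h2 _).1, (h2 _).1, ?_⟩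
            refine Or.inr (Or.inr (Or.inr (Or.inr (Or.inr (⟨?_, ?_, ?_, ?_, ?_, ?_, ?_, ?_, ?_, ?_, ?_, ?_⟩)))))
            all_goals first | rfl | trivial | linarith
          · rcases Groth.Agent.Helper3.NumType.edge_casesT T h2 (by norm_num) (p := 1) (q := 2) (by decide) hp12 with e | e | e | e | e
            · obtain ⟨ea12, eb12⟩ := e
              have hr0 : (-2) * T.m 0 + (2) * T.m 1 + (2) * T.m 2 = 0 := by
                have f1 : T.a 0 1 = 2 * T.w 0 := by linarith
                have f2 : T.a 0 2 = 2 * T.w 0 := by linarith
                have h : T.w 0 * ((-2) * T.m 0 + (2) * T.m 1 + (2) * T.m 2) = 0 := by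
                  rw [f1, f2] at r0
                  linarith
                rcases mul_eq_zero.mp h with h' | h'
                · exfalso; linarith
                · exact h'
              have hr1 : (-2) * T.m 1 + (1) * T.m 0 + (1) * T.m 2 = 0 := by
                have f0 : T.a 0 1 = T.w 1 := by linarith
                have f2 : T.a 1 2 = T.w 1 := by linarith
                have h : T.w 1 * ((-2) * T.m 1 + (1) * T.m 0 + (1) * T.m 2) = 0 := by
                  rw [f0, f2] at r1
                  linarith
                rcases mul_eq_zero.mp h with h' | h'
                · exfalso; linarith
                · exact h'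
              have hr2 : (-2) * T.m 2 + (1) * T.m 0 + (1) * T.m 1 = 0 := by
                have f0 : T.a 0 2 = T.w 2 := by linarith
                have f1 : T.a 1 2 = T.w 2 := by linarith
                have h : T.w 2 * ((-2) * T.m 2 + (1) * T.m 0 + (1) * T.m 1) = 0 := by
                  rw [f0, f1] at r2
                  linarith
                rcases mul_eq_zero.mp h with h' | h'
                · exfalso; linarith
                · exact h'
              exfalso
              linarith
            · obtain ⟨ea12, eb12⟩ := e
              exfalso
              linarith
            · obtain ⟨ea12, eb12⟩ := e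
              exfalso
              linarith
            · obtain ⟨ea12, eb12⟩ := e
              exfalso
              linarith
            · obtain ⟨ea12, eb12⟩ := e
              exfalso
              linarith
        · obtain ⟨ea02, eb02⟩ := e
          rcases eq_or_lt_of_le nn12 with z | hp12
          · have z12 : T.a 1 2 = 0 := z.symm
            have hr0 : (-2) * T.m 0 + (2) * T.m 1 + (1) * T.m 2 = 0 := by
              have f1 : T.a 0 1 = 2 * T.w 0 := by linarith
              have f2 : T.a 0 2 = T.w 0 := by linarith
              have h : T.w 0 * ((-2) * T.m 0 + (2) * T.m 1 + (1) * T.m 2) = 0 := by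
                rw [f1, f2] at r0
                linarith
              rcases mul_eq_zero.mp h with h' | h'
              · exfalso; linarith
              · exact h'
            have hr1 : (-2) * T.m 1 + (1) * T.m 0 = 0 := by
              have f0 : T.a 0 1 = T.w 1 := by linarith
              have h : T.w 1 * ((-2) * T.m 1 + (1) * T.m 0) = 0 := by
                rw [f0, z12] at r1
                linarith
              rcases mul_eq_zero.mp h with h' | h'
              · exfalso; linarith
              · exact h'
            have hr2 : (-2) * T.m 2 + (2) * T.m 0 = 0 := by
              have f0 : T.a 0 2 = 2 * T.w 2 := by linarith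
              have h : T.w 2 * ((-2) * T.m 2 + (2) * T.m 0) = 0 := by
                rw [f0, z12] at r2
                linarith
              rcases mul_eq_zero.mp h with h' | h'
              · exfalso; linarith
              · exact h'
            have w0 : T.w 0 = 2 * T.w 2 := by linarith
            have w1 : T.w 1 = 4 * T.w 2 := by linarith
            have a01 : T.a 0 1 = 4 * T.w 2 := by linarith
            have a02 : T.a 0 2 = 2 * T.w 2 := by linarith
            have m0 : T.m 0 = 2 * T.m 1 := by linarith
            have m2 : T.m 2 = 2 * T.m 1 := by linarith
            refine ⟨2, 0, 1, T.m 1, T.w 2, by decide, by decide, by decide, (h2 _).1, (h2 _).1, (h2 _).1, ?_⟩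
            refine Or.inr (Or.inr (Or.inr (Or.inl ⟨?_, ?_, ?_, ?_, ?_, ?_, ?_, ?_, ?_, ?_, ?_, ?_⟩)))
            all_goals first | rfl | trivial | linarith
          · rcases Groth.Agent.Helper3.NumType.edge_casesT T h2 (by norm_num) (p := 1) (q := 2) (by decide) hp12 with e | e | e | e | e
            · obtain ⟨ea12, eb12⟩ := e
              exfalso
              linarith
            · obtain ⟨ea12, eb12⟩ := e
              exfalso
              linarith
            · obtain ⟨ea12, eb12⟩ := e
              exfalso
              linarith
            · obtain ⟨ea12, eb12⟩ := e
              exfalso
              linarith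
            · obtain ⟨ea12, eb12⟩ := e
              exfalso
              linarith
        · obtain ⟨ea02, eb02⟩ := e
          rcases eq_or_lt_of_le nn12 with z | hp12
          · have z12 : T.a 1 2 = 0 := z.symm
            have hr0 : (-2) * T.m 0 + (2) * T.m 1 + (3) * T.m 2 = 0 := by
              have f1 : T.a 0 1 = 2 * T.w 0 := by linarith
              have f2 : T.a 0 2 = 3 * T.w 0 := by linarith
              have h : T.w 0 * ((-2) * T.m 0 + (2) * T.m 1 + (3) * T.m 2) = 0 := by
                rw [f1, f2] at r0
                linarith
              rcases mul_eq_zero.mp h with h' | h'
              · exfalso; linarith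
              · exact h'
            have hr1 : (-2) * T.m 1 + (1) * T.m 0 = 0 := by
              have f0 : T.a 0 1 = T.w 1 := by linarith
              have h : T.w 1 * ((-2) * T.m 1 + (1) * T.m 0) = 0 := by
                rw [f0, z12] at r1
                linarith
              rcases mul_eq_zero.mp h with h' | h'
              · exfalso; linarith
              · exact h'
            have hr2 : (-2) * T.m 2 + (1) * T.m 0 = 0 := by
              have f0 : T.a 0 2 = T.w 2 := by linarith
              have h : T.w 2 * ((-2) * T.m 2 + (1) * T.m 0) = 0 := by
                rw [f0, z12] at r2
                linarith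
              rcases mul_eq_zero.mp h with h' | h'
              · exfalso; linarith
              · exact h'
            exfalso
            linarith
          · rcases Groth.Agent.Helper3.NumType.edge_casesT T h2 (by norm_num) (p := 1) (q := 2) (by decide) hp12 with e | e | e | e | e
            · obtain ⟨ea12, eb12⟩ := e
              exfalso
              linarith
            · obtain ⟨ea12, eb12⟩ := e
              exfalso
              linarith
            · obtain ⟨ea12, eb12⟩ := e
              exfalso
              linarith
            · obtain ⟨ea12, eb12⟩ := e
              exfalso
              linarith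
            · obtain ⟨ea12, eb12⟩ := e
              exfalso
              linarith
        · obtain ⟨ea02, eb02⟩ := e
          rcases eq_or_lt_of_le nn12 with z | hp12
          · have z12 : T.a 1 2 = 0 := z.symm
            have hr0 : (-2) * T.m 0 + (2) * T.m 1 + (1) * T.m 2 = 0 := by
              have f1 : T.a 0 1 = 2 * T.w 0 := by linarith
              have f2 : T.a 0 2 = T.w 0 := by linarith
              have h : T.w 0 * ((-2) * T.m 0 + (2) * T.m 1 + (1) * T.m 2) = 0 := by
                rw [f1, f2] at r0
                linarith
              rcases mul_eq_zero.mp h with h' | h'
              · exfalso; linarith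
              · exact h'
            have hr1 : (-2) * T.m 1 + (1) * T.m 0 = 0 := by
              have f0 : T.a 0 1 = T.w 1 := by linarith
              have h : T.w 1 * ((-2) * T.m 1 + (1) * T.m 0) = 0 := by
                rw [f0, z12] at r1
                linarith
              rcases mul_eq_zero.mp h with h' | h'
              · exfalso; linarith
              · exact h'
            have hr2 : (-2) * T.m 2 + (3) * T.m 0 = 0 := by
              have f0 : T.a 0 2 = 3 * T.w 2 := by linarith
              have h : T.w 2 * ((-2) * T.m 2 + (3) * T.m 0) = 0 := by
                rw [f0, z12] at r2
                linarith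
              rcases mul_eq_zero.mp h with h' | h'
              · exfalso; linarith
              · exact h'
            exfalso
            linarith
          · rcases Groth.Agent.Helper3.NumType.edge_casesT T h2 (by norm_num) (p := 1) (q := 2) (by decide) hp12 with e | e | e | e | e
            · obtain ⟨ea12, eb12⟩ := e
              exfalso
              linarith
            · obtain ⟨ea12, eb12⟩ := e
              exfalso
              linarith
            · obtain ⟨ea12, eb12⟩ := e
              exfalso
              linarith
            · obtain ⟨ea12, eb12⟩ := e
              exfalso
              linarith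
            · obtain ⟨ea12, eb12⟩ := e
              exfalso
              linarith
    · obtain ⟨ea01, eb01⟩ := e
      rcases eq_or_lt_of_le nn02 with z | hp02
      · have z02 : T.a 0 2 = 0 := z.symm
        rcases eq_or_lt_of_le nn12 with z | hp12
        · have z12 : T.a 1 2 = 0 := z.symm
          exfalso
          obtain ⟨i, hi, j, hj, hij⟩ := T.connected ({0, 1} : Finset (Fin 3)) (by decide) (by decide)
          fin_cases i <;> fin_cases j <;> first | exact absurd hi (by decide) | exact hj (by decide) | (apply hij; first | exact z02 | exact z12)
        · rcases Groth.Agent.Helper3.NumType.edge_casesT T h2 (by norm_num) (p := 1) (q := 2) (by decide) hp12 with e | e | e | e | e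
          · obtain ⟨ea12, eb12⟩ := e
            have hr0 : (-2) * T.m 0 + (1) * T.m 1 = 0 := by
              have f1 : T.a 0 1 = T.w 0 := by linarith
              have h : T.w 0 * ((-2) * T.m 0 + (1) * T.m 1) = 0 := by
                rw [f1, z02] at r0
                linarith
              rcases mul_eq_zero.mp h with h' | h'
              · exfalso; linarith
              · exact h'
            have hr1 : (-2) * T.m 1 + (2) * T.m 0 + (1) * T.m 2 = 0 := by
              have f0 : T.a 0 1 = 2 * T.w 1 := by linarith
              have f2 : T.a 1 2 = T.w 1 := by linarith
              have h : T.w 1 * ((-2) * T.m 1 + (2) * T.m 0 + (1) * T.m 2) = 0 := by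
                rw [f0, f2] at r1
                linarith
              rcases mul_eq_zero.mp h with h' | h'
              · exfalso; linarith
              · exact h'
            have hr2 : (-2) * T.m 2 + (1) * T.m 1 = 0 := by
              have f1 : T.a 1 2 = T.w 2 := by linarith
              have h : T.w 2 * ((-2) * T.m 2 + (1) * T.m 1) = 0 := by
                rw [z02, f1] at r2
                linarith
              rcases mul_eq_zero.mp h with h' | h'
              · exfalso; linarith
              · exact h'
            exfalso
            linarith
          · obtain ⟨ea12, eb12⟩ := e
            have hr0 : (-2) * T.m 0 + (1) * T.m 1 = 0 := by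
              have f1 : T.a 0 1 = T.w 0 := by linarith
              have h : T.w 0 * ((-2) * T.m 0 + (1) * T.m 1) = 0 := by
                rw [f1, z02] at r0
                linarith
              rcases mul_eq_zero.mp h with h' | h'
              · exfalso; linarith
              · exact h'
            have hr1 : (-2) * T.m 1 + (2) * T.m 0 + (2) * T.m 2 = 0 := by
              have f0 : T.a 0 1 = 2 * T.w 1 := by linarith
              have f2 : T.a 1 2 = 2 * T.w 1 := by linarith
              have h : T.w 1 * ((-2) * T.m 1 + (2) * T.m 0 + (2) * T.m 2) = 0 := by
                rw [f0, f2] at r1
                linarith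
              rcases mul_eq_zero.mp h with h' | h'
              · exfalso; linarith
              · exact h'
            have hr2 : (-2) * T.m 2 + (1) * T.m 1 = 0 := by
              have f1 : T.a 1 2 = T.w 2 := by linarith
              have h : T.w 2 * ((-2) * T.m 2 + (1) * T.m 1) = 0 := by
                rw [z02, f1] at r2
                linarith
              rcases mul_eq_zero.mp h with h' | h'
              · exfalso; linarith
              · exact h'
            have w0 : T.w 0 = 2 * T.w 1 := by linarith
            have w2 : T.w 2 = 2 * T.w 1 := by linarith
            have a01 : T.a 0 1 = 2 * T.w 1 := by linarith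
            have a12 : T.a 1 2 = 2 * T.w 1 := by linarith
            have m1 : T.m 1 = 2 * T.m 0 := by linarith
            have m2 : T.m 2 = T.m 0 := by linarith
            refine ⟨0, 1, 2, T.m 0, T.w 1, by decide, by decide, by decide, (h2 _).1, (h2 _).1, (h2 _).1, ?_⟩
            refine Or.inr (Or.inr (Or.inr (Or.inr (Or.inr (⟨?_, ?_, ?_, ?_, ?_, ?_, ?_, ?_, ?_, ?_, ?_, ?_⟩)))))
            all_goals first | rfl | trivial | linarith
          · obtain ⟨ea12, eb12⟩ := e
            have hr0 : (-2) * T.m 0 + (1) * T.m 1 = 0 := by
              have f1 : T.a 0 1 = T.w 0 := by linarith
              have h : T.w 0 * ((-2) * T.m 0 + (1) * T.m 1) = 0 := by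
                rw [f1, z02] at r0
                linarith
              rcases mul_eq_zero.mp h with h' | h'
              · exfalso; linarith
              · exact h'
            have hr1 : (-2) * T.m 1 + (2) * T.m 0 + (1) * T.m 2 = 0 := by
              have f0 : T.a 0 1 = 2 * T.w 1 := by linarith
              have f2 : T.a 1 2 = T.w 1 := by linarith
              have h : T.w 1 * ((-2) * T.m 1 + (2) * T.m 0 + (1) * T.m 2) = 0 := by
                rw [f0, f2] at r1
                linarith
              rcases mul_eq_zero.mp h with h' | h'
              · exfalso; linarith
              · exact h'
            have hr2 : (-2) * T.m 2 + (2) * T.m 1 = 0 := by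
              have f1 : T.a 1 2 = 2 * T.w 2 := by linarith
              have h : T.w 2 * ((-2) * T.m 2 + (2) * T.m 1) = 0 := by
                rw [z02, f1] at r2
                linarith
              rcases mul_eq_zero.mp h with h' | h'
              · exfalso; linarith
              · exact h'
            have w0 : T.w 0 = 4 * T.w 2 := by linarith
            have w1 : T.w 1 = 2 * T.w 2 := by linarith
            have a01 : T.a 0 1 = 4 * T.w 2 := by linarith
            have a12 : T.a 1 2 = 2 * T.w 2 := by linarith
            have m1 : T.m 1 = 2 * T.m 0 := by linarith
            have m2 : T.m 2 = 2 * T.m 0 := by linarith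
            refine ⟨2, 1, 0, T.m 0, T.w 2, by decide, by decide, by decide, (h2 _).1, (h2 _).1, (h2 _).1, ?_⟩
            refine Or.inr (Or.inr (Or.inr (Or.inl ⟨?_, ?_, ?_, ?_, ?_, ?_, ?_, ?_, ?_, ?_, ?_, ?_⟩)))
            all_goals first | rfl | trivial | linarith
          · obtain ⟨ea12, eb12⟩ := e
            have hr0 : (-2) * T.m 0 + (1) * T.m 1 = 0 := by
              have f1 : T.a 0 1 = T.w 0 := by linarith
              have h : T.w 0 * ((-2) * T.m 0 + (1) * T.m 1) = 0 := by
                rw [f1, z02] at r0
                linarith
              rcases mul_eq_zero.mp h with h' | h'
              · exfalso; linarith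
              · exact h'
            have hr1 : (-2) * T.m 1 + (2) * T.m 0 + (3) * T.m 2 = 0 := by
              have f0 : T.a 0 1 = 2 * T.w 1 := by linarith
              have f2 : T.a 1 2 = 3 * T.w 1 := by linarith
              have h : T.w 1 * ((-2) * T.m 1 + (2) * T.m 0 + (3) * T.m 2) = 0 := by
                rw [f0, f2] at r1
                linarith
              rcases mul_eq_zero.mp h with h' | h'
              · exfalso; linarith
              · exact h'
            have hr2 : (-2) * T.m 2 + (1) * T.m 1 = 0 := by
              have f1 : T.a 1 2 = T.w 2 := by linarith
              have h : T.w 2 * ((-2) * T.m 2 + (1) * T.m 1) = 0 := by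
                rw [z02, f1] at r2
                linarith
              rcases mul_eq_zero.mp h with h' | h'
              · exfalso; linarith
              · exact h'
            exfalso
            linarith
          · obtain ⟨ea12, eb12⟩ := e
            have hr0 : (-2) * T.m 0 + (1) * T.m 1 = 0 := by
              have f1 : T.a 0 1 = T.w 0 := by linarith
              have h : T.w 0 * ((-2) * T.m 0 + (1) * T.m 1) = 0 := by
                rw [f1, z02] at r0
                linarith
              rcases mul_eq_zero.mp h with h' | h'
              · exfalso; linarith
              · exact h'
            have hr1 : (-2) * T.m 1 + (2) * T.m 0 + (1) * T.m 2 = 0 := by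
              have f0 : T.a 0 1 = 2 * T.w 1 := by linarith
              have f2 : T.a 1 2 = T.w 1 := by linarith
              have h : T.w 1 * ((-2) * T.m 1 + (2) * T.m 0 + (1) * T.m 2) = 0 := by
                rw [f0, f2] at r1
                linarith
              rcases mul_eq_zero.mp h with h' | h'
              · exfalso; linarith
              · exact h'
            have hr2 : (-2) * T.m 2 + (3) * T.m 1 = 0 := by
              have f1 : T.a 1 2 = 3 * T.w 2 := by linarith
              have h : T.w 2 * ((-2) * T.m 2 + (3) * T.m 1) = 0 := by
                rw [z02, f1] at r2
                linarith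
              rcases mul_eq_zero.mp h with h' | h'
              · exfalso; linarith
              · exact h'
            exfalso
            linarith
      · rcases Groth.Agent.Helper3.NumType.edge_casesT T h2 (by norm_num) (p := 0) (q := 2) (by decide) hp02 with e | e | e | e | e
        · obtain ⟨ea02, eb02⟩ := e
          rcases eq_or_lt_of_le nn12 with z | hp12
          · have z12 : T.a 1 2 = 0 := z.symm
            have hr0 : (-2) * T.m 0 + (1) * T.m 1 + (1) * T.m 2 = 0 := by
              have f1 : T.a 0 1 = T.w 0 := by linarith
              have f2 : T.a 0 2 = T.w 0 := by linarith
              have h : T.w 0 * ((-2) * T.m 0 + (1) * T.m 1 + (1) * T.m 2) = 0 := by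
                rw [f1, f2] at r0
                linarith
              rcases mul_eq_zero.mp h with h' | h'
              · exfalso; linarith
              · exact h'
            have hr1 : (-2) * T.m 1 + (2) * T.m 0 = 0 := by
              have f0 : T.a 0 1 = 2 * T.w 1 := by linarith
              have h : T.w 1 * ((-2) * T.m 1 + (2) * T.m 0) = 0 := by
                rw [f0, z12] at r1
                linarith
              rcases mul_eq_zero.mp h with h' | h'
              · exfalso; linarith
              · exact h'
            have hr2 : (-2) * T.m 2 + (1) * T.m 0 = 0 := by
              have f0 : T.a 0 2 = T.w 2 := by linarith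
              have h : T.w 2 * ((-2) * T.m 2 + (1) * T.m 0) = 0 := by
                rw [f0, z12] at r2
                linarith
              rcases mul_eq_zero.mp h with h' | h'
              · exfalso; linarith
              · exact h'
            exfalso
            linarith
          · rcases Groth.Agent.Helper3.NumType.edge_casesT T h2 (by norm_num) (p := 1) (q := 2) (by decide) hp12 with e | e | e | e | e
            · obtain ⟨ea12, eb12⟩ := e
              exfalso
              linarith
            · obtain ⟨ea12, eb12⟩ := e
              have hr0 : (-2) * T.m 0 + (1) * T.m 1 + (1) * T.m 2 = 0 := by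
                have f1 : T.a 0 1 = T.w 0 := by linarith
                have f2 : T.a 0 2 = T.w 0 := by linarith
                have h : T.w 0 * ((-2) * T.m 0 + (1) * T.m 1 + (1) * T.m 2) = 0 := by
                  rw [f1, f2] at r0
                  linarith
                rcases mul_eq_zero.mp h with h' | h'
                · exfalso; linarith
                · exact h'
              have hr1 : (-2) * T.m 1 + (2) * T.m 0 + (2) * T.m 2 = 0 := by
                have f0 : T.a 0 1 = 2 * T.w 1 := by linarith
                have f2 : T.a 1 2 = 2 * T.w 1 := by linarith
                have h : T.w 1 * ((-2) * T.m 1 + (2) * T.m 0 + (2) * T.m 2) = 0 := by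
                  rw [f0, f2] at r1
                  linarith
                rcases mul_eq_zero.mp h with h' | h'
                · exfalso; linarith
                · exact h'
              have hr2 : (-2) * T.m 2 + (1) * T.m 0 + (1) * T.m 1 = 0 := by
                have f0 : T.a 0 2 = T.w 2 := by linarith
                have f1 : T.a 1 2 = T.w 2 := by linarith
                have h : T.w 2 * ((-2) * T.m 2 + (1) * T.m 0 + (1) * T.m 1) = 0 := by
                  rw [f0, f1] at r2
                  linarith
                rcases mul_eq_zero.mp h with h' | h'
                · exfalso; linarith
                · exact h'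
              exfalso
              linarith
            · obtain ⟨ea12, eb12⟩ := e
              exfalso
              linarith
            · obtain ⟨ea12, eb12⟩ := e
              exfalso
              linarith
            · obtain ⟨ea12, eb12⟩ := e
              exfalso
              linarith
        · obtain ⟨ea02, eb02⟩ := e
          rcases eq_or_lt_of_le nn12 with z | hp12
          · have z12 : T.a 1 2 = 0 := z.symm
            have hr0 : (-2) * T.m 0 + (1) * T.m 1 + (2) * T.m 2 = 0 := by
              have f1 : T.a 0 1 = T.w 0 := by linarith
              have f2 : T.a 0 2 = 2 * T.w 0 := by linarith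
              have h : T.w 0 * ((-2) * T.m 0 + (1) * T.m 1 + (2) * T.m 2) = 0 := by
                rw [f1, f2] at r0
                linarith
              rcases mul_eq_zero.mp h with h' | h'
              · exfalso; linarith
              · exact h'
            have hr1 : (-2) * T.m 1 + (2) * T.m 0 = 0 := by
              have f0 : T.a 0 1 = 2 * T.w 1 := by linarith
              have h : T.w 1 * ((-2) * T.m 1 + (2) * T.m 0) = 0 := by
                rw [f0, z12] at r1
                linarith
              rcases mul_eq_zero.mp h with h' | h'
              · exfalso; linarith
              · exact h'
            have hr2 : (-2) * T.m 2 + (1) * T.m 0 = 0 := by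
              have f0 : T.a 0 2 = T.w 2 := by linarith
              have h : T.w 2 * ((-2) * T.m 2 + (1) * T.m 0) = 0 := by
                rw [f0, z12] at r2
                linarith
              rcases mul_eq_zero.mp h with h' | h'
              · exfalso; linarith
              · exact h'
            have w0 : T.w 0 = 2 * T.w 1 := by linarith
            have w2 : T.w 2 = 4 * T.w 1 := by linarith
            have a01 : T.a 0 1 = 2 * T.w 1 := by linarith
            have a02 : T.a 0 2 = 4 * T.w 1 := by linarith
            have m0 : T.m 0 = 2 * T.m 2 := by linarith
            have m1 : T.m 1 = 2 * T.m 2 := by linarith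
            refine ⟨1, 0, 2, T.m 2, T.w 1, by decide, by decide, by decide, (h2 _).1, (h2 _).1, (h2 _).1, ?_⟩
            refine Or.inr (Or.inr (Or.inr (Or.inl ⟨?_, ?_, ?_, ?_, ?_, ?_, ?_, ?_, ?_, ?_, ?_, ?_⟩)))
            all_goals first | rfl | trivial | linarith
          · rcases Groth.Agent.Helper3.NumType.edge_casesT T h2 (by norm_num) (p := 1) (q := 2) (by decide) hp12 with e | e | e | e | e
            · obtain ⟨ea12, eb12⟩ := e
              exfalso
              linarith
            · obtain ⟨ea12, eb12⟩ := e
              exfalso
              linarith
            · obtain ⟨ea12, eb12⟩ := e
              exfalso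
              linarith
            · obtain ⟨ea12, eb12⟩ := e
              exfalso
              linarith
            · obtain ⟨ea12, eb12⟩ := e
              exfalso
              linarith
        · obtain ⟨ea02, eb02⟩ := e
          rcases eq_or_lt_of_le nn12 with z | hp12
          · have z12 : T.a 1 2 = 0 := z.symm
            have hr0 : (-2) * T.m 0 + (1) * T.m 1 + (1) * T.m 2 = 0 := by
              have f1 : T.a 0 1 = T.w 0 := by linarith
              have f2 : T.a 0 2 = T.w 0 := by linarith
              have h : T.w 0 * ((-2) * T.m 0 + (1) * T.m 1 + (1) * T.m 2) = 0 := by
                rw [f1, f2] at r0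
                linarith
              rcases mul_eq_zero.mp h with h' | h'
              · exfalso; linarith
              · exact h'
            have hr1 : (-2) * T.m 1 + (2) * T.m 0 = 0 := by
              have f0 : T.a 0 1 = 2 * T.w 1 := by linarith
              have h : T.w 1 * ((-2) * T.m 1 + (2) * T.m 0) = 0 := by
                rw [f0, z12] at r1
                linarith
              rcases mul_eq_zero.mp h with h' | h'
              · exfalso; linarith
              · exact h'
            have hr2 : (-2) * T.m 2 + (2) * T.m 0 = 0 := by
              have f0 : T.a 0 2 = 2 * T.w 2 := by linarith
              have h : T.w 2 * ((-2) * T.m 2 + (2) * T.m 0) = 0 := by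
                rw [f0, z12] at r2
                linarith
              rcases mul_eq_zero.mp h with h' | h'
              · exfalso; linarith
              · exact h'
            have w0 : T.w 0 = 2 * T.w 1 := by linarith
            have w2 : T.w 2 = T.w 1 := by linarith
            have a01 : T.a 0 1 = 2 * T.w 1 := by linarith
            have a02 : T.a 0 2 = 2 * T.w 1 := by linarith
            have m0 : T.m 0 = T.m 1 := by linarith
            have m2 : T.m 2 = T.m 1 := by linarith
            refine ⟨1, 0, 2, T.m 1, T.w 1, by decide, by decide, by decide, (h2 _).1, (h2 _).1, (h2 _).1, ?_⟩
            refine Or.inr (Or.inr (Or.inr (Or.inr (Or.inl ⟨?_, ?_, ?_, ?_, ?_, ?_, ?_, ?_, ?_, ?_, ?_, ?_⟩))))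
            all_goals first | rfl | trivial | linarith
          · rcases Groth.Agent.Helper3.NumType.edge_casesT T h2 (by norm_num) (p := 1) (q := 2) (by decide) hp12 with e | e | e | e | e
            · obtain ⟨ea12, eb12⟩ := e
              have hr0 : (-2) * T.m 0 + (1) * T.m 1 + (1) * T.m 2 = 0 := by
                have f1 : T.a 0 1 = T.w 0 := by linarith
                have f2 : T.a 0 2 = T.w 0 := by linarith
                have h : T.w 0 * ((-2) * T.m 0 + (1) * T.m 1 + (1) * T.m 2) = 0 := by
                  rw [f1, f2] at r0
                  linarith
                rcases mul_eq_zero.mp h with h' | h'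
                · exfalso; linarith
                · exact h'
              have hr1 : (-2) * T.m 1 + (2) * T.m 0 + (1) * T.m 2 = 0 := by
                have f0 : T.a 0 1 = 2 * T.w 1 := by linarith
                have f2 : T.a 1 2 = T.w 1 := by linarith
                have h : T.w 1 * ((-2) * T.m 1 + (2) * T.m 0 + (1) * T.m 2) = 0 := by
                  rw [f0, f2] at r1
                  linarith
                rcases mul_eq_zero.mp h with h' | h'
                · exfalso; linarith
                · exact h'
              have hr2 : (-2) * T.m 2 + (2) * T.m 0 + (1) * T.m 1 = 0 := by
                have f0 : T.a 0 2 = 2 * T.w 2 := by linarith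
                have f1 : T.a 1 2 = T.w 2 := by linarith
                have h : T.w 2 * ((-2) * T.m 2 + (2) * T.m 0 + (1) * T.m 1) = 0 := by
                  rw [f0, f1] at r2
                  linarith
                rcases mul_eq_zero.mp h with h' | h'
                · exfalso; linarith
                · exact h'
              exfalso
              linarith
            · obtain ⟨ea12, eb12⟩ := e
              exfalso
              linarith
            · obtain ⟨ea12, eb12⟩ := e
              exfalso
              linarith
            · obtain ⟨ea12, eb12⟩ := e
              exfalso
              linarith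
            · obtain ⟨ea12, eb12⟩ := e
              exfalso
              linarith
        · obtain ⟨ea02, eb02⟩ := e
          rcases eq_or_lt_of_le nn12 with z | hp12
          · have z12 : T.a 1 2 = 0 := z.symm
            have hr0 : (-2) * T.m 0 + (1) * T.m 1 + (3) * T.m 2 = 0 := by
              have f1 : T.a 0 1 = T.w 0 := by linarith
              have f2 : T.a 0 2 = 3 * T.w 0 := by linarith
              have h : T.w 0 * ((-2) * T.m 0 + (1) * T.m 1 + (3) * T.m 2) = 0 := by
                rw [f1, f2] at r0
                linarith
              rcases mul_eq_zero.mp h with h' | h'
              · exfalso; linarith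
              · exact h'
            have hr1 : (-2) * T.m 1 + (2) * T.m 0 = 0 := by
              have f0 : T.a 0 1 = 2 * T.w 1 := by linarith
              have h : T.w 1 * ((-2) * T.m 1 + (2) * T.m 0) = 0 := by
                rw [f0, z12] at r1
                linarith
              rcases mul_eq_zero.mp h with h' | h'
              · exfalso; linarith
              · exact h'
            have hr2 : (-2) * T.m 2 + (1) * T.m 0 = 0 := by
              have f0 : T.a 0 2 = T.w 2 := by linarith
              have h : T.w 2 * ((-2) * T.m 2 + (1) * T.m 0) = 0 := by
                rw [f0, z12] at r2
                linarith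
              rcases mul_eq_zero.mp h with h' | h'
              · exfalso; linarith
              · exact h'
            exfalso
            linarith
          · rcases Groth.Agent.Helper3.NumType.edge_casesT T h2 (by norm_num) (p := 1) (q := 2) (by decide) hp12 with e | e | e | e | e
            · obtain ⟨ea12, eb12⟩ := e
              exfalso
              linarith
            · obtain ⟨ea12, eb12⟩ := e
              exfalso
              linarith
            · obtain ⟨ea12, eb12⟩ := e
              exfalso
              linarith
            · obtain ⟨ea12, eb12⟩ := e
              exfalso
              linarith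
            · obtain ⟨ea12, eb12⟩ := e
              exfalso
              linarith
        · obtain ⟨ea02, eb02⟩ := e
          rcases eq_or_lt_of_le nn12 with z | hp12
          · have z12 : T.a 1 2 = 0 := z.symm
            have hr0 : (-2) * T.m 0 + (1) * T.m 1 + (1) * T.m 2 = 0 := by
              have f1 : T.a 0 1 = T.w 0 := by linarith
              have f2 : T.a 0 2 = T.w 0 := by linarith
              have h : T.w 0 * ((-2) * T.m 0 + (1) * T.m 1 + (1) * T.m 2) = 0 := by
                rw [f1, f2] at r0
                linarith
              rcases mul_eq_zero.mp h with h' | h'
              · exfalso; linarith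
              · exact h'
            have hr1 : (-2) * T.m 1 + (2) * T.m 0 = 0 := by
              have f0 : T.a 0 1 = 2 * T.w 1 := by linarith
              have h : T.w 1 * ((-2) * T.m 1 + (2) * T.m 0) = 0 := by
                rw [f0, z12] at r1
                linarith
              rcases mul_eq_zero.mp h with h' | h'
              · exfalso; linarith
              · exact h'
            have hr2 : (-2) * T.m 2 + (3) * T.m 0 = 0 := by
              have f0 : T.a 0 2 = 3 * T.w 2 := by linarith
              have h : T.w 2 * ((-2) * T.m 2 + (3) * T.m 0) = 0 := by
                rw [f0, z12] at r2
                linarith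
              rcases mul_eq_zero.mp h with h' | h'
              · exfalso; linarith
              · exact h'
            exfalso
            linarith
          · rcases Groth.Agent.Helper3.NumType.edge_casesT T h2 (by norm_num) (p := 1) (q := 2) (by decide) hp12 with e | e | e | e | e
            · obtain ⟨ea12, eb12⟩ := e
              exfalso
              linarith
            · obtain ⟨ea12, eb12⟩ := e
              exfalso
              linarith
            · obtain ⟨ea12, eb12⟩ := e
              exfalso
              linarith
            · obtain ⟨ea12, eb12⟩ := e
              exfalso
              linarith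
            · obtain ⟨ea12, eb12⟩ := e
              exfalso
              linarith
    · obtain ⟨ea01, eb01⟩ := e
      rcases eq_or_lt_of_le nn02 with z | hp02
      · have z02 : T.a 0 2 = 0 := z.symm
        rcases eq_or_lt_of_le nn12 with z | hp12
        · have z12 : T.a 1 2 = 0 := z.symm
          exfalso
          obtain ⟨i, hi, j, hj, hij⟩ := T.connected ({0, 1} : Finset (Fin 3)) (by decide) (by decide)
          fin_cases i <;> fin_cases j <;> first | exact absurd hi (by decide) | exact hj (by decide) | (apply hij; first | exact z02 | exact z12)
        · rcases Groth.Agent.Helper3.NumType.edge_casesT T h2 (by norm_num) (p := 1) (q := 2) (by decide) hp12 with e | e | e | e | e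
          · obtain ⟨ea12, eb12⟩ := e
            have hr0 : (-2) * T.m 0 + (3) * T.m 1 = 0 := by
              have f1 : T.a 0 1 = 3 * T.w 0 := by linarith
              have h : T.w 0 * ((-2) * T.m 0 + (3) * T.m 1) = 0 := by
                rw [f1, z02] at r0
                linarith
              rcases mul_eq_zero.mp h with h' | h'
              · exfalso; linarith
              · exact h'
            have hr1 : (-2) * T.m 1 + (1) * T.m 0 + (1) * T.m 2 = 0 := by
              have f0 : T.a 0 1 = T.w 1 := by linarith
              have f2 : T.a 1 2 = T.w 1 := by linarith
              have h : T.w 1 * ((-2) * T.m 1 + (1) * T.m 0 + (1) * T.m 2) = 0 := by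
                rw [f0, f2] at r1
                linarith
              rcases mul_eq_zero.mp h with h' | h'
              · exfalso; linarith
              · exact h'
            have hr2 : (-2) * T.m 2 + (1) * T.m 1 = 0 := by
              have f1 : T.a 1 2 = T.w 2 := by linarith
              have h : T.w 2 * ((-2) * T.m 2 + (1) * T.m 1) = 0 := by
                rw [z02, f1] at r2
                linarith
              rcases mul_eq_zero.mp h with h' | h'
              · exfalso; linarith
              · exact h'
            have w1 : T.w 1 = 3 * T.w 0 := by linarith
            have w2 : T.w 2 = 3 * T.w 0 := by linarith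
            have a01 : T.a 0 1 = 3 * T.w 0 := by linarith
            have a12 : T.a 1 2 = 3 * T.w 0 := by linarith
            have m0 : T.m 0 = 3 * T.m 2 := by linarith
            have m1 : T.m 1 = 2 * T.m 2 := by linarith
            refine ⟨2, 1, 0, T.m 2, T.w 0, by decide, by decide, by decide, (h2 _).1, (h2 _).1, (h2 _).1, ?_⟩
            refine Or.inr (Or.inr (Or.inl ⟨?_, ?_, ?_, ?_, ?_, ?_, ?_, ?_, ?_, ?_, ?_, ?_⟩))
            all_goals first | rfl | trivial | linarith
          · obtain ⟨ea12, eb12⟩ := e
            have hr0 : (-2) * T.m 0 + (3) * T.m 1 = 0 := by
              have f1 : T.a 0 1 = 3 * T.w 0 := by linarith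
              have h : T.w 0 * ((-2) * T.m 0 + (3) * T.m 1) = 0 := by
                rw [f1, z02] at r0
                linarith
              rcases mul_eq_zero.mp h with h' | h'
              · exfalso; linarith
              · exact h'
            have hr1 : (-2) * T.m 1 + (1) * T.m 0 + (2) * T.m 2 = 0 := by
              have f0 : T.a 0 1 = T.w 1 := by linarith
              have f2 : T.a 1 2 = 2 * T.w 1 := by linarith
              have h : T.w 1 * ((-2) * T.m 1 + (1) * T.m 0 + (2) * T.m 2) = 0 := by
                rw [f0, f2] at r1
                linarith
              rcases mul_eq_zero.mp h with h' | h'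
              · exfalso; linarith
              · exact h'
            have hr2 : (-2) * T.m 2 + (1) * T.m 1 = 0 := by
              have f1 : T.a 1 2 = T.w 2 := by linarith
              have h : T.w 2 * ((-2) * T.m 2 + (1) * T.m 1) = 0 := by
                rw [z02, f1] at r2
                linarith
              rcases mul_eq_zero.mp h with h' | h'
              · exfalso; linarith
              · exact h'
            exfalso
            linarith
          · obtain ⟨ea12, eb12⟩ := e
            have hr0 : (-2) * T.m 0 + (3) * T.m 1 = 0 := by
              have f1 : T.a 0 1 = 3 * T.w 0 := by linarith
              have h : T.w 0 * ((-2) * T.m 0 + (3) * T.m 1) = 0 := by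
                rw [f1, z02] at r0
                linarith
              rcases mul_eq_zero.mp h with h' | h'
              · exfalso; linarith
              · exact h'
            have hr1 : (-2) * T.m 1 + (1) * T.m 0 + (1) * T.m 2 = 0 := by
              have f0 : T.a 0 1 = T.w 1 := by linarith
              have f2 : T.a 1 2 = T.w 1 := by linarith
              have h : T.w 1 * ((-2) * T.m 1 + (1) * T.m 0 + (1) * T.m 2) = 0 := by
                rw [f0, f2] at r1
                linarith
              rcases mul_eq_zero.mp h with h' | h'
              · exfalso; linarith
              · exact h'
            have hr2 : (-2) * T.m 2 + (2) * T.m 1 = 0 := by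
              have f1 : T.a 1 2 = 2 * T.w 2 := by linarith
              have h : T.w 2 * ((-2) * T.m 2 + (2) * T.m 1) = 0 := by
                rw [z02, f1] at r2
                linarith
              rcases mul_eq_zero.mp h with h' | h'
              · exfalso; linarith
              · exact h'
            exfalso
            linarith
          · obtain ⟨ea12, eb12⟩ := e
            have hr0 : (-2) * T.m 0 + (3) * T.m 1 = 0 := by
              have f1 : T.a 0 1 = 3 * T.w 0 := by linarith
              have h : T.w 0 * ((-2) * T.m 0 + (3) * T.m 1) = 0 := by
                rw [f1, z02] at r0
                linarith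
              rcases mul_eq_zero.mp h with h' | h'
              · exfalso; linarith
              · exact h'
            have hr1 : (-2) * T.m 1 + (1) * T.m 0 + (3) * T.m 2 = 0 := by
              have f0 : T.a 0 1 = T.w 1 := by linarith
              have f2 : T.a 1 2 = 3 * T.w 1 := by linarith
              have h : T.w 1 * ((-2) * T.m 1 + (1) * T.m 0 + (3) * T.m 2) = 0 := by
                rw [f0, f2] at r1
                linarith
              rcases mul_eq_zero.mp h with h' | h'
              · exfalso; linarith
              · exact h'
            have hr2 : (-2) * T.m 2 + (1) * T.m 1 = 0 := by
              have f1 : T.a 1 2 = T.w 2 := by linarith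
              have h : T.w 2 * ((-2) * T.m 2 + (1) * T.m 1) = 0 := by
                rw [z02, f1] at r2
                linarith
              rcases mul_eq_zero.mp h with h' | h'
              · exfalso; linarith
              · exact h'
            exfalso
            linarith
          · obtain ⟨ea12, eb12⟩ := e
            have hr0 : (-2) * T.m 0 + (3) * T.m 1 = 0 := by
              have f1 : T.a 0 1 = 3 * T.w 0 := by linarith
              have h : T.w 0 * ((-2) * T.m 0 + (3) * T.m 1) = 0 := by
                rw [f1, z02] at r0
                linarith
              rcases mul_eq_zero.mp h with h' | h'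
              · exfalso; linarith
              · exact h'
            have hr1 : (-2) * T.m 1 + (1) * T.m 0 + (1) * T.m 2 = 0 := by
              have f0 : T.a 0 1 = T.w 1 := by linarith
              have f2 : T.a 1 2 = T.w 1 := by linarith
              have h : T.w 1 * ((-2) * T.m 1 + (1) * T.m 0 + (1) * T.m 2) = 0 := by
                rw [f0, f2] at r1
                linarith
              rcases mul_eq_zero.mp h with h' | h'
              · exfalso; linarith
              · exact h'
            have hr2 : (-2) * T.m 2 + (3) * T.m 1 = 0 := by
              have f1 : T.a 1 2 = 3 * T.w 2 := by linarith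
              have h : T.w 2 * ((-2) * T.m 2 + (3) * T.m 1) = 0 := by
                rw [z02, f1] at r2
                linarith
              rcases mul_eq_zero.mp h with h' | h'
              · exfalso; linarith
              · exact h'
            exfalso
            linarith
      · rcases Groth.Agent.Helper3.NumType.edge_casesT T h2 (by norm_num) (p := 0) (q := 2) (by decide) hp02 with e | e | e | e | e
        · obtain ⟨ea02, eb02⟩ := e
          rcases eq_or_lt_of_le nn12 with z | hp12
          · have z12 : T.a 1 2 = 0 := z.symm
            have hr0 : (-2) * T.m 0 + (3) * T.m 1 + (1) * T.m 2 = 0 := by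
              have f1 : T.a 0 1 = 3 * T.w 0 := by linarith
              have f2 : T.a 0 2 = T.w 0 := by linarith
              have h : T.w 0 * ((-2) * T.m 0 + (3) * T.m 1 + (1) * T.m 2) = 0 := by
                rw [f1, f2] at r0
                linarith
              rcases mul_eq_zero.mp h with h' | h'
              · exfalso; linarith
              · exact h'
            have hr1 : (-2) * T.m 1 + (1) * T.m 0 = 0 := by
              have f0 : T.a 0 1 = T.w 1 := by linarith
              have h : T.w 1 * ((-2) * T.m 1 + (1) * T.m 0) = 0 := by
                rw [f0, z12] at r1
                linarith
              rcases mul_eq_zero.mp h with h' | h'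
              · exfalso; linarith
              · exact h'
            have hr2 : (-2) * T.m 2 + (1) * T.m 0 = 0 := by
              have f0 : T.a 0 2 = T.w 2 := by linarith
              have h : T.w 2 * ((-2) * T.m 2 + (1) * T.m 0) = 0 := by
                rw [f0, z12] at r2
                linarith
              rcases mul_eq_zero.mp h with h' | h'
              · exfalso; linarith
              · exact h'
            have w1 : T.w 1 = 3 * T.w 0 := by linarith
            have w2 : T.w 2 = T.w 0 := by linarith
            have a01 : T.a 0 1 = 3 * T.w 0 := by linarith
            have a02 : T.a 0 2 = T.w 0 := by linarith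
            have m0 : T.m 0 = 2 * T.m 2 := by linarith
            have m1 : T.m 1 = T.m 2 := by linarith
            refine ⟨2, 0, 1, T.m 2, T.w 2, by decide, by decide, by decide, (h2 _).1, (h2 _).1, (h2 _).1, ?_⟩
            refine Or.inr (Or.inl ⟨?_, ?_, ?_, ?_, ?_, ?_, ?_, ?_, ?_, ?_, ?_, ?_⟩)
            all_goals first | rfl | trivial | linarith
          · rcases Groth.Agent.Helper3.NumType.edge_casesT T h2 (by norm_num) (p := 1) (q := 2) (by decide) hp12 with e | e | e | e | e
            · obtain ⟨ea12, eb12⟩ := e
              exfalso
              linarith
            · obtain ⟨ea12, eb12⟩ := e
              exfalso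
              linarith
            · obtain ⟨ea12, eb12⟩ := e
              exfalso
              linarith
            · obtain ⟨ea12, eb12⟩ := e
              exfalso
              linarith
            · obtain ⟨ea12, eb12⟩ := e
              have hr0 : (-2) * T.m 0 + (3) * T.m 1 + (1) * T.m 2 = 0 := by
                have f1 : T.a 0 1 = 3 * T.w 0 := by linarith
                have f2 : T.a 0 2 = T.w 0 := by linarith
                have h : T.w 0 * ((-2) * T.m 0 + (3) * T.m 1 + (1) * T.m 2) = 0 := by
                  rw [f1, f2] at r0
                  linarith
                rcases mul_eq_zero.mp h with h' | h'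
                · exfalso; linarith
                · exact h'
              have hr1 : (-2) * T.m 1 + (1) * T.m 0 + (1) * T.m 2 = 0 := by
                have f0 : T.a 0 1 = T.w 1 := by linarith
                have f2 : T.a 1 2 = T.w 1 := by linarith
                have h : T.w 1 * ((-2) * T.m 1 + (1) * T.m 0 + (1) * T.m 2) = 0 := by
                  rw [f0, f2] at r1
                  linarith
                rcases mul_eq_zero.mp h with h' | h'
                · exfalso; linarith
                · exact h'
              have hr2 : (-2) * T.m 2 + (1) * T.m 0 + (3) * T.m 1 = 0 := by
                have f0 : T.a 0 2 = T.w 2 := by linarith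
                have f1 : T.a 1 2 = 3 * T.w 2 := by linarith
                have h : T.w 2 * ((-2) * T.m 2 + (1) * T.m 0 + (3) * T.m 1) = 0 := by
                  rw [f0, f1] at r2
                  linarith
                rcases mul_eq_zero.mp h with h' | h'
                · exfalso; linarith
                · exact h'
              exfalso
              linarith
        · obtain ⟨ea02, eb02⟩ := e
          rcases eq_or_lt_of_le nn12 with z | hp12
          · have z12 : T.a 1 2 = 0 := z.symm
            have hr0 : (-2) * T.m 0 + (3) * T.m 1 + (2) * T.m 2 = 0 := by
              have f1 : T.a 0 1 = 3 * T.w 0 := by linarith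
              have f2 : T.a 0 2 = 2 * T.w 0 := by linarith
              have h : T.w 0 * ((-2) * T.m 0 + (3) * T.m 1 + (2) * T.m 2) = 0 := by
                rw [f1, f2] at r0
                linarith
              rcases mul_eq_zero.mp h with h' | h'
              · exfalso; linarith
              · exact h'
            have hr1 : (-2) * T.m 1 + (1) * T.m 0 = 0 := by
              have f0 : T.a 0 1 = T.w 1 := by linarith
              have h : T.w 1 * ((-2) * T.m 1 + (1) * T.m 0) = 0 := by
                rw [f0, z12] at r1
                linarith
              rcases mul_eq_zero.mp h with h' | h'
              · exfalso; linarith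
              · exact h'
            have hr2 : (-2) * T.m 2 + (1) * T.m 0 = 0 := by
              have f0 : T.a 0 2 = T.w 2 := by linarith
              have h : T.w 2 * ((-2) * T.m 2 + (1) * T.m 0) = 0 := by
                rw [f0, z12] at r2
                linarith
              rcases mul_eq_zero.mp h with h' | h'
              · exfalso; linarith
              · exact h'
            exfalso
            linarith
          · rcases Groth.Agent.Helper3.NumType.edge_casesT T h2 (by norm_num) (p := 1) (q := 2) (by decide) hp12 with e | e | e | e | e
            · obtain ⟨ea12, eb12⟩ := e
              exfalso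
              linarith
            · obtain ⟨ea12, eb12⟩ := e
              exfalso
              linarith
            · obtain ⟨ea12, eb12⟩ := e
              exfalso
              linarith
            · obtain ⟨ea12, eb12⟩ := e
              exfalso
              linarith
            · obtain ⟨ea12, eb12⟩ := e
              exfalso
              linarith
        · obtain ⟨ea02, eb02⟩ := e
          rcases eq_or_lt_of_le nn12 with z | hp12
          · have z12 : T.a 1 2 = 0 := z.symm
            have hr0 : (-2) * T.m 0 + (3) * T.m 1 + (1) * T.m 2 = 0 := by
              have f1 : T.a 0 1 = 3 * T.w 0 := by linarith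
              have f2 : T.a 0 2 = T.w 0 := by linarith
              have h : T.w 0 * ((-2) * T.m 0 + (3) * T.m 1 + (1) * T.m 2) = 0 := by
                rw [f1, f2] at r0
                linarith
              rcases mul_eq_zero.mp h with h' | h'
              · exfalso; linarith
              · exact h'
            have hr1 : (-2) * T.m 1 + (1) * T.m 0 = 0 := by
              have f0 : T.a 0 1 = T.w 1 := by linarith
              have h : T.w 1 * ((-2) * T.m 1 + (1) * T.m 0) = 0 := by
                rw [f0, z12] at r1
                linarith
              rcases mul_eq_zero.mp h with h' | h'
              · exfalso; linarith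
              · exact h'
            have hr2 : (-2) * T.m 2 + (2) * T.m 0 = 0 := by
              have f0 : T.a 0 2 = 2 * T.w 2 := by linarith
              have h : T.w 2 * ((-2) * T.m 2 + (2) * T.m 0) = 0 := by
                rw [f0, z12] at r2
                linarith
              rcases mul_eq_zero.mp h with h' | h'
              · exfalso; linarith
              · exact h'
            exfalso
            linarith
          · rcases Groth.Agent.Helper3.NumType.edge_casesT T h2 (by norm_num) (p := 1) (q := 2) (by decide) hp12 with e | e | e | e | e
            · obtain ⟨ea12, eb12⟩ := e
              exfalso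
              linarith
            · obtain ⟨ea12, eb12⟩ := e
              exfalso
              linarith
            · obtain ⟨ea12, eb12⟩ := e
              exfalso
              linarith
            · obtain ⟨ea12, eb12⟩ := e
              exfalso
              linarith
            · obtain ⟨ea12, eb12⟩ := e
              exfalso
              linarith
        · obtain ⟨ea02, eb02⟩ := e
          rcases eq_or_lt_of_le nn12 with z | hp12
          · have z12 : T.a 1 2 = 0 := z.symm
            have hr0 : (-2) * T.m 0 + (3) * T.m 1 + (3) * T.m 2 = 0 := by
              have f1 : T.a 0 1 = 3 * T.w 0 := by linarith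
              have f2 : T.a 0 2 = 3 * T.w 0 := by linarith
              have h : T.w 0 * ((-2) * T.m 0 + (3) * T.m 1 + (3) * T.m 2) = 0 := by
                rw [f1, f2] at r0
                linarith
              rcases mul_eq_zero.mp h with h' | h'
              · exfalso; linarith
              · exact h'
            have hr1 : (-2) * T.m 1 + (1) * T.m 0 = 0 := by
              have f0 : T.a 0 1 = T.w 1 := by linarith
              have h : T.w 1 * ((-2) * T.m 1 + (1) * T.m 0) = 0 := by
                rw [f0, z12] at r1
                linarith
              rcases mul_eq_zero.mp h with h' | h'
              · exfalso; linarith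
              · exact h'
            have hr2 : (-2) * T.m 2 + (1) * T.m 0 = 0 := by
              have f0 : T.a 0 2 = T.w 2 := by linarith
              have h : T.w 2 * ((-2) * T.m 2 + (1) * T.m 0) = 0 := by
                rw [f0, z12] at r2
                linarith
              rcases mul_eq_zero.mp h with h' | h'
              · exfalso; linarith
              · exact h'
            exfalso
            linarith
          · rcases Groth.Agent.Helper3.NumType.edge_casesT T h2 (by norm_num) (p := 1) (q := 2) (by decide) hp12 with e | e | e | e | e
            · obtain ⟨ea12, eb12⟩ := e
              have hr0 : (-2) * T.m 0 + (3) * T.m 1 + (3) * T.m 2 = 0 := by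
                have f1 : T.a 0 1 = 3 * T.w 0 := by linarith
                have f2 : T.a 0 2 = 3 * T.w 0 := by linarith
                have h : T.w 0 * ((-2) * T.m 0 + (3) * T.m 1 + (3) * T.m 2) = 0 := by
                  rw [f1, f2] at r0
                  linarith
                rcases mul_eq_zero.mp h with h' | h'
                · exfalso; linarith
                · exact h'
              have hr1 : (-2) * T.m 1 + (1) * T.m 0 + (1) * T.m 2 = 0 := by
                have f0 : T.a 0 1 = T.w 1 := by linarith
                have f2 : T.a 1 2 = T.w 1 := by linarith
                have h : T.w 1 * ((-2) * T.m 1 + (1) * T.m 0 + (1) * T.m 2) = 0 := by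
                  rw [f0, f2] at r1
                  linarith
                rcases mul_eq_zero.mp h with h' | h'
                · exfalso; linarith
                · exact h'
              have hr2 : (-2) * T.m 2 + (1) * T.m 0 + (1) * T.m 1 = 0 := by
                have f0 : T.a 0 2 = T.w 2 := by linarith
                have f1 : T.a 1 2 = T.w 2 := by linarith
                have h : T.w 2 * ((-2) * T.m 2 + (1) * T.m 0 + (1) * T.m 1) = 0 := by
                  rw [f0, f1] at r2
                  linarith
                rcases mul_eq_zero.mp h with h' | h'
                · exfalso; linarith
                · exact h'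
              exfalso
              linarith
            · obtain ⟨ea12, eb12⟩ := e
              exfalso
              linarith
            · obtain ⟨ea12, eb12⟩ := e
              exfalso
              linarith
            · obtain ⟨ea12, eb12⟩ := e
              exfalso
              linarith
            · obtain ⟨ea12, eb12⟩ := e
              exfalso
              linarith
        · obtain ⟨ea02, eb02⟩ := e
          rcases eq_or_lt_of_le nn12 with z | hp12
          · have z12 : T.a 1 2 = 0 := z.symm
            have hr0 : (-2) * T.m 0 + (3) * T.m 1 + (1) * T.m 2 = 0 := by
              have f1 : T.a 0 1 = 3 * T.w 0 := by linarith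
              have f2 : T.a 0 2 = T.w 0 := by linarith
              have h : T.w 0 * ((-2) * T.m 0 + (3) * T.m 1 + (1) * T.m 2) = 0 := by
                rw [f1, f2] at r0
                linarith
              rcases mul_eq_zero.mp h with h' | h'
              · exfalso; linarith
              · exact h'
            have hr1 : (-2) * T.m 1 + (1) * T.m 0 = 0 := by
              have f0 : T.a 0 1 = T.w 1 := by linarith
              have h : T.w 1 * ((-2) * T.m 1 + (1) * T.m 0) = 0 := by
                rw [f0, z12] at r1
                linarith
              rcases mul_eq_zero.mp h with h' | h'
              · exfalso; linarith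
              · exact h'
            have hr2 : (-2) * T.m 2 + (3) * T.m 0 = 0 := by
              have f0 : T.a 0 2 = 3 * T.w 2 := by linarith
              have h : T.w 2 * ((-2) * T.m 2 + (3) * T.m 0) = 0 := by
                rw [f0, z12] at r2
                linarith
              rcases mul_eq_zero.mp h with h' | h'
              · exfalso; linarith
              · exact h'
            exfalso
            linarith
          · rcases Groth.Agent.Helper3.NumType.edge_casesT T h2 (by norm_num) (p := 1) (q := 2) (by decide) hp12 with e | e | e | e | e
            · obtain ⟨ea12, eb12⟩ := e
              exfalso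
              linarith
            · obtain ⟨ea12, eb12⟩ := e
              exfalso
              linarith
            · obtain ⟨ea12, eb12⟩ := e
              exfalso
              linarith
            · obtain ⟨ea12, eb12⟩ := e
              exfalso
              linarith
            · obtain ⟨ea12, eb12⟩ := e
              exfalso
              linarith
    · obtain ⟨ea01, eb01⟩ := e
      rcases eq_or_lt_of_le nn02 with z | hp02
      · have z02 : T.a 0 2 = 0 := z.symm
        rcases eq_or_lt_of_le nn12 with z | hp12
        · have z12 : T.a 1 2 = 0 := z.symm
          exfalso
          obtain ⟨i, hi, j, hj, hij⟩ := T.connected ({0, 1} : Finset (Fin 3)) (by decide) (by decide)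
          fin_cases i <;> fin_cases j <;> first | exact absurd hi (by decide) | exact hj (by decide) | (apply hij; first | exact z02 | exact z12)
        · rcases Groth.Agent.Helper3.NumType.edge_casesT T h2 (by norm_num) (p := 1) (q := 2) (by decide) hp12 with e | e | e | e | e
          · obtain ⟨ea12, eb12⟩ := e
            have hr0 : (-2) * T.m 0 + (1) * T.m 1 = 0 := by
              have f1 : T.a 0 1 = T.w 0 := by linarith
              have h : T.w 0 * ((-2) * T.m 0 + (1) * T.m 1) = 0 := by
                rw [f1, z02] at r0
                linarith
              rcases mul_eq_zero.mp h with h' | h'
              · exfalso; linarith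
              · exact h'
            have hr1 : (-2) * T.m 1 + (3) * T.m 0 + (1) * T.m 2 = 0 := by
              have f0 : T.a 0 1 = 3 * T.w 1 := by linarith
              have f2 : T.a 1 2 = T.w 1 := by linarith
              have h : T.w 1 * ((-2) * T.m 1 + (3) * T.m 0 + (1) * T.m 2) = 0 := by
                rw [f0, f2] at r1
                linarith
              rcases mul_eq_zero.mp h with h' | h'
              · exfalso; linarith
              · exact h'
            have hr2 : (-2) * T.m 2 + (1) * T.m 1 = 0 := by
              have f1 : T.a 1 2 = T.w 2 := by linarith
              have h : T.w 2 * ((-2) * T.m 2 + (1) * T.m 1) = 0 := by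
                rw [z02, f1] at r2
                linarith
              rcases mul_eq_zero.mp h with h' | h'
              · exfalso; linarith
              · exact h'
            have w0 : T.w 0 = 3 * T.w 1 := by linarith
            have w2 : T.w 2 = T.w 1 := by linarith
            have a01 : T.a 0 1 = 3 * T.w 1 := by linarith
            have a12 : T.a 1 2 = T.w 1 := by linarith
            have m0 : T.m 0 = T.m 2 := by linarith
            have m1 : T.m 1 = 2 * T.m 2 := by linarith
            refine ⟨2, 1, 0, T.m 2, T.w 2, by decide, by decide, by decide, (h2 _).1, (h2 _).1, (h2 _).1, ?_⟩
            refine Or.inr (Or.inl ⟨?_, ?_, ?_, ?_, ?_, ?_, ?_, ?_, ?_, ?_, ?_, ?_⟩)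
            all_goals first | rfl | trivial | linarith
          · obtain ⟨ea12, eb12⟩ := e
            have hr0 : (-2) * T.m 0 + (1) * T.m 1 = 0 := by
              have f1 : T.a 0 1 = T.w 0 := by linarith
              have h : T.w 0 * ((-2) * T.m 0 + (1) * T.m 1) = 0 := by
                rw [f1, z02] at r0
                linarith
              rcases mul_eq_zero.mp h with h' | h'
              · exfalso; linarith
              · exact h'
            have hr1 : (-2) * T.m 1 + (3) * T.m 0 + (2) * T.m 2 = 0 := by
              have f0 : T.a 0 1 = 3 * T.w 1 := by linarith
              have f2 : T.a 1 2 = 2 * T.w 1 := by linarith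
              have h : T.w 1 * ((-2) * T.m 1 + (3) * T.m 0 + (2) * T.m 2) = 0 := by
                rw [f0, f2] at r1
                linarith
              rcases mul_eq_zero.mp h with h' | h'
              · exfalso; linarith
              · exact h'
            have hr2 : (-2) * T.m 2 + (1) * T.m 1 = 0 := by
              have f1 : T.a 1 2 = T.w 2 := by linarith
              have h : T.w 2 * ((-2) * T.m 2 + (1) * T.m 1) = 0 := by
                rw [z02, f1] at r2
                linarith
              rcases mul_eq_zero.mp h with h' | h'
              · exfalso; linarith
              · exact h'
            exfalso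
            linarith
          · obtain ⟨ea12, eb12⟩ := e
            have hr0 : (-2) * T.m 0 + (1) * T.m 1 = 0 := by
              have f1 : T.a 0 1 = T.w 0 := by linarith
              have h : T.w 0 * ((-2) * T.m 0 + (1) * T.m 1) = 0 := by
                rw [f1, z02] at r0
                linarith
              rcases mul_eq_zero.mp h with h' | h'
              · exfalso; linarith
              · exact h'
            have hr1 : (-2) * T.m 1 + (3) * T.m 0 + (1) * T.m 2 = 0 := by
              have f0 : T.a 0 1 = 3 * T.w 1 := by linarith
              have f2 : T.a 1 2 = T.w 1 := by linarith
              have h : T.w 1 * ((-2) * T.m 1 + (3) * T.m 0 + (1) * T.m 2) = 0 := by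
                rw [f0, f2] at r1
                linarith
              rcases mul_eq_zero.mp h with h' | h'
              · exfalso; linarith
              · exact h'
            have hr2 : (-2) * T.m 2 + (2) * T.m 1 = 0 := by
              have f1 : T.a 1 2 = 2 * T.w 2 := by linarith
              have h : T.w 2 * ((-2) * T.m 2 + (2) * T.m 1) = 0 := by
                rw [z02, f1] at r2
                linarith
              rcases mul_eq_zero.mp h with h' | h'
              · exfalso; linarith
              · exact h'
            exfalso
            linarith
          · obtain ⟨ea12, eb12⟩ := e
            have hr0 : (-2) * T.m 0 + (1) * T.m 1 = 0 := by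
              have f1 : T.a 0 1 = T.w 0 := by linarith
              have h : T.w 0 * ((-2) * T.m 0 + (1) * T.m 1) = 0 := by
                rw [f1, z02] at r0
                linarith
              rcases mul_eq_zero.mp h with h' | h'
              · exfalso; linarith
              · exact h'
            have hr1 : (-2) * T.m 1 + (3) * T.m 0 + (3) * T.m 2 = 0 := by
              have f0 : T.a 0 1 = 3 * T.w 1 := by linarith
              have f2 : T.a 1 2 = 3 * T.w 1 := by linarith
              have h : T.w 1 * ((-2) * T.m 1 + (3) * T.m 0 + (3) * T.m 2) = 0 := by
                rw [f0, f2] at r1
                linarith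
              rcases mul_eq_zero.mp h with h' | h'
              · exfalso; linarith
              · exact h'
            have hr2 : (-2) * T.m 2 + (1) * T.m 1 = 0 := by
              have f1 : T.a 1 2 = T.w 2 := by linarith
              have h : T.w 2 * ((-2) * T.m 2 + (1) * T.m 1) = 0 := by
                rw [z02, f1] at r2
                linarith
              rcases mul_eq_zero.mp h with h' | h'
              · exfalso; linarith
              · exact h'
            exfalso
            linarith
          · obtain ⟨ea12, eb12⟩ := e
            have hr0 : (-2) * T.m 0 + (1) * T.m 1 = 0 := by
              have f1 : T.a 0 1 = T.w 0 := by linarith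
              have h : T.w 0 * ((-2) * T.m 0 + (1) * T.m 1) = 0 := by
                rw [f1, z02] at r0
                linarith
              rcases mul_eq_zero.mp h with h' | h'
              · exfalso; linarith
              · exact h'
            have hr1 : (-2) * T.m 1 + (3) * T.m 0 + (1) * T.m 2 = 0 := by
              have f0 : T.a 0 1 = 3 * T.w 1 := by linarith
              have f2 : T.a 1 2 = T.w 1 := by linarith
              have h : T.w 1 * ((-2) * T.m 1 + (3) * T.m 0 + (1) * T.m 2) = 0 := by
                rw [f0, f2] at r1
                linarith
              rcases mul_eq_zero.mp h with h' | h'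
              · exfalso; linarith
              · exact h'
            have hr2 : (-2) * T.m 2 + (3) * T.m 1 = 0 := by
              have f1 : T.a 1 2 = 3 * T.w 2 := by linarith
              have h : T.w 2 * ((-2) * T.m 2 + (3) * T.m 1) = 0 := by
                rw [z02, f1] at r2
                linarith
              rcases mul_eq_zero.mp h with h' | h'
              · exfalso; linarith
              · exact h'
            exfalso
            linarith
      · rcases Groth.Agent.Helper3.NumType.edge_casesT T h2 (by norm_num) (p := 0) (q := 2) (by decide) hp02 with e | e | e | e | e
        · obtain ⟨ea02, eb02⟩ := e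
          rcases eq_or_lt_of_le nn12 with z | hp12
          · have z12 : T.a 1 2 = 0 := z.symm
            have hr0 : (-2) * T.m 0 + (1) * T.m 1 + (1) * T.m 2 = 0 := by
              have f1 : T.a 0 1 = T.w 0 := by linarith
              have f2 : T.a 0 2 = T.w 0 := by linarith
              have h : T.w 0 * ((-2) * T.m 0 + (1) * T.m 1 + (1) * T.m 2) = 0 := by
                rw [f1, f2] at r0
                linarith
              rcases mul_eq_zero.mp h with h' | h'
              · exfalso; linarith
              · exact h'
            have hr1 : (-2) * T.m 1 + (3) * T.m 0 = 0 := by
              have f0 : T.a 0 1 = 3 * T.w 1 := by linarith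
              have h : T.w 1 * ((-2) * T.m 1 + (3) * T.m 0) = 0 := by
                rw [f0, z12] at r1
                linarith
              rcases mul_eq_zero.mp h with h' | h'
              · exfalso; linarith
              · exact h'
            have hr2 : (-2) * T.m 2 + (1) * T.m 0 = 0 := by
              have f0 : T.a 0 2 = T.w 2 := by linarith
              have h : T.w 2 * ((-2) * T.m 2 + (1) * T.m 0) = 0 := by
                rw [f0, z12] at r2
                linarith
              rcases mul_eq_zero.mp h with h' | h'
              · exfalso; linarith
              · exact h'
            have w0 : T.w 0 = 3 * T.w 1 := by linarith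
            have w2 : T.w 2 = 3 * T.w 1 := by linarith
            have a01 : T.a 0 1 = 3 * T.w 1 := by linarith
            have a02 : T.a 0 2 = 3 * T.w 1 := by linarith
            have m0 : T.m 0 = 2 * T.m 2 := by linarith
            have m1 : T.m 1 = 3 * T.m 2 := by linarith
            refine ⟨2, 0, 1, T.m 2, T.w 1, by decide, by decide, by decide, (h2 _).1, (h2 _).1, (h2 _).1, ?_⟩
            refine Or.inr (Or.inr (Or.inl ⟨?_, ?_, ?_, ?_, ?_, ?_, ?_, ?_, ?_, ?_, ?_, ?_⟩))
            all_goals first | rfl | trivial | linarith
          · rcases Groth.Agent.Helper3.NumType.edge_casesT T h2 (by norm_num) (p := 1) (q := 2) (by decide) hp12 with e | e | e | e | e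
            · obtain ⟨ea12, eb12⟩ := e
              exfalso
              linarith
            · obtain ⟨ea12, eb12⟩ := e
              exfalso
              linarith
            · obtain ⟨ea12, eb12⟩ := e
              exfalso
              linarith
            · obtain ⟨ea12, eb12⟩ := e
              have hr0 : (-2) * T.m 0 + (1) * T.m 1 + (1) * T.m 2 = 0 := by
                have f1 : T.a 0 1 = T.w 0 := by linarith
                have f2 : T.a 0 2 = T.w 0 := by linarith
                have h : T.w 0 * ((-2) * T.m 0 + (1) * T.m 1 + (1) * T.m 2) = 0 := by
                  rw [f1, f2] at r0
                  linarith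
                rcases mul_eq_zero.mp h with h' | h'
                · exfalso; linarith
                · exact h'
              have hr1 : (-2) * T.m 1 + (3) * T.m 0 + (3) * T.m 2 = 0 := by
                have f0 : T.a 0 1 = 3 * T.w 1 := by linarith
                have f2 : T.a 1 2 = 3 * T.w 1 := by linarith
                have h : T.w 1 * ((-2) * T.m 1 + (3) * T.m 0 + (3) * T.m 2) = 0 := by
                  rw [f0, f2] at r1
                  linarith
                rcases mul_eq_zero.mp h with h' | h'
                · exfalso; linarith
                · exact h'
              have hr2 : (-2) * T.m 2 + (1) * T.m 0 + (1) * T.m 1 = 0 := by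
                have f0 : T.a 0 2 = T.w 2 := by linarith
                have f1 : T.a 1 2 = T.w 2 := by linarith
                have h : T.w 2 * ((-2) * T.m 2 + (1) * T.m 0 + (1) * T.m 1) = 0 := by
                  rw [f0, f1] at r2
                  linarith
                rcases mul_eq_zero.mp h with h' | h'
                · exfalso; linarith
                · exact h'
              exfalso
              linarith
            · obtain ⟨ea12, eb12⟩ := e
              exfalso
              linarith
        · obtain ⟨ea02, eb02⟩ := e
          rcases eq_or_lt_of_le nn12 with z | hp12
          · have z12 : T.a 1 2 = 0 := z.symm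
            have hr0 : (-2) * T.m 0 + (1) * T.m 1 + (2) * T.m 2 = 0 := by
              have f1 : T.a 0 1 = T.w 0 := by linarith
              have f2 : T.a 0 2 = 2 * T.w 0 := by linarith
              have h : T.w 0 * ((-2) * T.m 0 + (1) * T.m 1 + (2) * T.m 2) = 0 := by
                rw [f1, f2] at r0
                linarith
              rcases mul_eq_zero.mp h with h' | h'
              · exfalso; linarith
              · exact h'
            have hr1 : (-2) * T.m 1 + (3) * T.m 0 = 0 := by
              have f0 : T.a 0 1 = 3 * T.w 1 := by linarith
              have h : T.w 1 * ((-2) * T.m 1 + (3) * T.m 0) = 0 := by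
                rw [f0, z12] at r1
                linarith
              rcases mul_eq_zero.mp h with h' | h'
              · exfalso; linarith
              · exact h'
            have hr2 : (-2) * T.m 2 + (1) * T.m 0 = 0 := by
              have f0 : T.a 0 2 = T.w 2 := by linarith
              have h : T.w 2 * ((-2) * T.m 2 + (1) * T.m 0) = 0 := by
                rw [f0, z12] at r2
                linarith
              rcases mul_eq_zero.mp h with h' | h'
              · exfalso; linarith
              · exact h'
            exfalso
            linarith
          · rcases Groth.Agent.Helper3.NumType.edge_casesT T h2 (by norm_num) (p := 1) (q := 2) (by decide) hp12 with e | e | e | e | e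
            · obtain ⟨ea12, eb12⟩ := e
              exfalso
              linarith
            · obtain ⟨ea12, eb12⟩ := e
              exfalso
              linarith
            · obtain ⟨ea12, eb12⟩ := e
              exfalso
              linarith
            · obtain ⟨ea12, eb12⟩ := e
              exfalso
              linarith
            · obtain ⟨ea12, eb12⟩ := e
              exfalso
              linarith
        · obtain ⟨ea02, eb02⟩ := e
          rcases eq_or_lt_of_le nn12 with z | hp12
          · have z12 : T.a 1 2 = 0 := z.symm
            have hr0 : (-2) * T.m 0 + (1) * T.m 1 + (1) * T.m 2 = 0 := by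
              have f1 : T.a 0 1 = T.w 0 := by linarith
              have f2 : T.a 0 2 = T.w 0 := by linarith
              have h : T.w 0 * ((-2) * T.m 0 + (1) * T.m 1 + (1) * T.m 2) = 0 := by
                rw [f1, f2] at r0
                linarith
              rcases mul_eq_zero.mp h with h' | h'
              · exfalso; linarith
              · exact h'
            have hr1 : (-2) * T.m 1 + (3) * T.m 0 = 0 := by
              have f0 : T.a 0 1 = 3 * T.w 1 := by linarith
              have h : T.w 1 * ((-2) * T.m 1 + (3) * T.m 0) = 0 := by
                rw [f0, z12] at r1
                linarith
              rcases mul_eq_zero.mp h with h' | h'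
              · exfalso; linarith
              · exact h'
            have hr2 : (-2) * T.m 2 + (2) * T.m 0 = 0 := by
              have f0 : T.a 0 2 = 2 * T.w 2 := by linarith
              have h : T.w 2 * ((-2) * T.m 2 + (2) * T.m 0) = 0 := by
                rw [f0, z12] at r2
                linarith
              rcases mul_eq_zero.mp h with h' | h'
              · exfalso; linarith
              · exact h'
            exfalso
            linarith
          · rcases Groth.Agent.Helper3.NumType.edge_casesT T h2 (by norm_num) (p := 1) (q := 2) (by decide) hp12 with e | e | e | e | e
            · obtain ⟨ea12, eb12⟩ := e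
              exfalso
              linarith
            · obtain ⟨ea12, eb12⟩ := e
              exfalso
              linarith
            · obtain ⟨ea12, eb12⟩ := e
              exfalso
              linarith
            · obtain ⟨ea12, eb12⟩ := e
              exfalso
              linarith
            · obtain ⟨ea12, eb12⟩ := e
              exfalso
              linarith
        · obtain ⟨ea02, eb02⟩ := e
          rcases eq_or_lt_of_le nn12 with z | hp12
          · have z12 : T.a 1 2 = 0 := z.symm
            have hr0 : (-2) * T.m 0 + (1) * T.m 1 + (3) * T.m 2 = 0 := by
              have f1 : T.a 0 1 = T.w 0 := by linarith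
              have f2 : T.a 0 2 = 3 * T.w 0 := by linarith
              have h : T.w 0 * ((-2) * T.m 0 + (1) * T.m 1 + (3) * T.m 2) = 0 := by
                rw [f1, f2] at r0
                linarith
              rcases mul_eq_zero.mp h with h' | h'
              · exfalso; linarith
              · exact h'
            have hr1 : (-2) * T.m 1 + (3) * T.m 0 = 0 := by
              have f0 : T.a 0 1 = 3 * T.w 1 := by linarith
              have h : T.w 1 * ((-2) * T.m 1 + (3) * T.m 0) = 0 := by
                rw [f0, z12] at r1
                linarith
              rcases mul_eq_zero.mp h with h' | h'
              · exfalso; linarith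
              · exact h'
            have hr2 : (-2) * T.m 2 + (1) * T.m 0 = 0 := by
              have f0 : T.a 0 2 = T.w 2 := by linarith
              have h : T.w 2 * ((-2) * T.m 2 + (1) * T.m 0) = 0 := by
                rw [f0, z12] at r2
                linarith
              rcases mul_eq_zero.mp h with h' | h'
              · exfalso; linarith
              · exact h'
            exfalso
            linarith
          · rcases Groth.Agent.Helper3.NumType.edge_casesT T h2 (by norm_num) (p := 1) (q := 2) (by decide) hp12 with e | e | e | e | e
            · obtain ⟨ea12, eb12⟩ := e
              exfalso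
              linarith
            · obtain ⟨ea12, eb12⟩ := e
              exfalso
              linarith
            · obtain ⟨ea12, eb12⟩ := e
              exfalso
              linarith
            · obtain ⟨ea12, eb12⟩ := e
              exfalso
              linarith
            · obtain ⟨ea12, eb12⟩ := e
              exfalso
              linarith
        · obtain ⟨ea02, eb02⟩ := e
          rcases eq_or_lt_of_le nn12 with z | hp12
          · have z12 : T.a 1 2 = 0 := z.symm
            have hr0 : (-2) * T.m 0 + (1) * T.m 1 + (1) * T.m 2 = 0 := by
              have f1 : T.a 0 1 = T.w 0 := by linarith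
              have f2 : T.a 0 2 = T.w 0 := by linarith
              have h : T.w 0 * ((-2) * T.m 0 + (1) * T.m 1 + (1) * T.m 2) = 0 := by
                rw [f1, f2] at r0
                linarith
              rcases mul_eq_zero.mp h with h' | h'
              · exfalso; linarith
              · exact h'
            have hr1 : (-2) * T.m 1 + (3) * T.m 0 = 0 := by
              have f0 : T.a 0 1 = 3 * T.w 1 := by linarith
              have h : T.w 1 * ((-2) * T.m 1 + (3) * T.m 0) = 0 := by
                rw [f0, z12] at r1
                linarith
              rcases mul_eq_zero.mp h with h' | h'
              · exfalso; linarith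
              · exact h'
            have hr2 : (-2) * T.m 2 + (3) * T.m 0 = 0 := by
              have f0 : T.a 0 2 = 3 * T.w 2 := by linarith
              have h : T.w 2 * ((-2) * T.m 2 + (3) * T.m 0) = 0 := by
                rw [f0, z12] at r2
                linarith
              rcases mul_eq_zero.mp h with h' | h'
              · exfalso; linarith
              · exact h'
            exfalso
            linarith
          · rcases Groth.Agent.Helper3.NumType.edge_casesT T h2 (by norm_num) (p := 1) (q := 2) (by decide) hp12 with e | e | e | e | e
            · obtain ⟨ea12, eb12⟩ := e
              have hr0 : (-2) * T.m 0 + (1) * T.m 1 + (1) * T.m 2 = 0 := by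
                have f1 : T.a 0 1 = T.w 0 := by linarith
                have f2 : T.a 0 2 = T.w 0 := by linarith
                have h : T.w 0 * ((-2) * T.m 0 + (1) * T.m 1 + (1) * T.m 2) = 0 := by
                  rw [f1, f2] at r0
                  linarith
                rcases mul_eq_zero.mp h with h' | h'
                · exfalso; linarith
                · exact h'
              have hr1 : (-2) * T.m 1 + (3) * T.m 0 + (1) * T.m 2 = 0 := by
                have f0 : T.a 0 1 = 3 * T.w 1 := by linarith
                have f2 : T.a 1 2 = T.w 1 := by linarith
                have h : T.w 1 * ((-2) * T.m 1 + (3) * T.m 0 + (1) * T.m 2) = 0 := by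
                  rw [f0, f2] at r1
                  linarith
                rcases mul_eq_zero.mp h with h' | h'
                · exfalso; linarith
                · exact h'
              have hr2 : (-2) * T.m 2 + (3) * T.m 0 + (1) * T.m 1 = 0 := by
                have f0 : T.a 0 2 = 3 * T.w 2 := by linarith
                have f1 : T.a 1 2 = T.w 2 := by linarith
                have h : T.w 2 * ((-2) * T.m 2 + (3) * T.m 0 + (1) * T.m 1) = 0 := by
                  rw [f0, f1] at r2
                  linarith
                rcases mul_eq_zero.mp h with h' | h'
                · exfalso; linarith
                · exact h'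
              exfalso
              linarith
            · obtain ⟨ea12, eb12⟩ := e
              exfalso
              linarith
            · obtain ⟨ea12, eb12⟩ := e
              exfalso
              linarith
            · obtain ⟨ea12, eb12⟩ := e
              exfalso
              linarith
            · obtain ⟨ea12, eb12⟩ := e
              exfalso
              linarith

end Groth.Agent.S7363
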