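import Groth.Statements.S7364
import Mathlib
import Groth.Agent.Helper3.NumTypeG4_A
import Groth.Agent.Helper3.NumTypeG4_B
import Groth.Agent.Helper3.NumTypeG4_C
import Groth.Agent.Helper3.NumTypeG4_D

set_option autoImplicit false
open Finset
open Models Models.NumericalType

namespace Groth.Agent.S7364

/-- Genus one classification: case n = 4: let T be a minimal numerical type of genus 1 on 4 indices.
Then all g_i = 0 and, for some permutation σ of the indices and some integers m, w, the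
multiplicities, weights and intersection matrix (m_{σ(i)}, w_{σ(i)}, a_{σ(i)σ(j)}) are those of one
of the following 6 types: [four cycle] m = (m, m, m, m), w = (w, w, w, w), a = (-2 * w w 0 w / w -2
* w w 0 / 0 w -2 * w w / w 0 w -2 * w); [up equal up] m = (2 * m, 2 * m, 2 * m, m), w = (w, 2 * w, 2
* w, 4 * w), a = (-2 * w 2 * w 0 0 / 2 * w -4 * w 2 * w 0 / 0 2 * w -4 * w 4 * w / 0 0 4 * w -8 *
w); [up equal down] m = (m, m, m, m), w = (w, 2 * w, 2 * w, w), a = (-2 * w 2 * w 0 0 / 2 * w -4 * w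
2 * w 0 / 0 2 * w -4 * w 2 * w / 0 0 2 * w -2 * w); [down equal up] m = (m, 2 * m, 2 * m, m), w = (2
* w, w, w, 2 * w), a = (-4 * w 2 * w 0 0 / 2 * w -2 * w w 0 / 0 w -2 * w 2 * w / 0 0 2 * w -4 * w);
[triple with up] m = (2 * m, m, m, m), w = (w, w, w, 2 * w), a = (-2 * w w w 2 * w / w -2 * w 0 0 /
w 0 -2 * w 0 / 2 * w 0 0 -4 * w); [triple with down] m = (2 * m, m, m, 2 * m), w = (2 * w, 2 * w, 2
* w, w), a = (-4 * w 2 * w 2 * w 2 * w / 2 * w -4 * w 0 0 / 2 * w 0 -4 * w 0 / 2 * w 0 0 -2 * w).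
Only the classification direction is stated. -/
theorem result (T : Models.NumericalType 4) (hmin : T.IsMinimal) (hg : T.genus = 1) :
    (∀ i, T.g i = 0) ∧ ∃ (σ : Equiv.Perm (Fin 4)) (m w : ℤ),
      ((T.m (σ 0) = m ∧ T.m (σ 1) = m ∧ T.m (σ 2) = m ∧ T.m (σ 3) = m ∧ T.w (σ 0) = w ∧ T.w (σ 1) = w ∧ T.w (σ 2) = w ∧ T.w (σ 3) = w ∧ T.a (σ 0) (σ 0) = -2 * w ∧ T.a (σ 0) (σ 1) = w ∧ T.a (σ 0) (σ 2) = 0 ∧ T.a (σ 0) (σ 3) = w ∧ T.a (σ 1) (σ 1) = -2 * w ∧ T.a (σ 1) (σ 2) = w ∧ T.a (σ 1) (σ 3) = 0 ∧ T.a (σ 2) (σ 2) = -2 * w ∧ T.a (σ 2) (σ 3) = w ∧ T.a (σ 3) (σ 3) = -2 * w) ∨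
      (T.m (σ 0) = 2 * m ∧ T.m (σ 1) = 2 * m ∧ T.m (σ 2) = 2 * m ∧ T.m (σ 3) = m ∧ T.w (σ 0) = w ∧ T.w (σ 1) = 2 * w ∧ T.w (σ 2) = 2 * w ∧ T.w (σ 3) = 4 * w ∧ T.a (σ 0) (σ 0) = -2 * w ∧ T.a (σ 0) (σ 1) = 2 * w ∧ T.a (σ 0) (σ 2) = 0 ∧ T.a (σ 0) (σ 3) = 0 ∧ T.a (σ 1) (σ 1) = -4 * w ∧ T.a (σ 1) (σ 2) = 2 * w ∧ T.a (σ 1) (σ 3) = 0 ∧ T.a (σ 2) (σ 2) = -4 * w ∧ T.a (σ 2) (σ 3) = 4 * w ∧ T.a (σ 3) (σ 3) = -8 * w) ∨
      (T.m (σ 0) = m ∧ T.m (σ 1) = m ∧ T.m (σ 2) = m ∧ T.m (σ 3) = m ∧ T.w (σ 0) = w ∧ T.w (σ 1) = 2 * w ∧ T.w (σ 2) = 2 * w ∧ T.w (σ 3) = w ∧ T.a (σ 0) (σ 0) = -2 * w ∧ T.a (σ 0) (σ 1) = 2 * w ∧ T.a (σ 0) (σ 2) = 0 ∧ T.a (σ 0) (σ 3) = 0 ∧ T.a (σ 1) (σ 1) = -4 * w ∧ T.a (σ 1) (σ 2) = 2 * w ∧ T.a (σ 1) (σ 3) = 0 ∧ T.a (σ 2) (σ 2) = -4 * w ∧ T.a (σ 2) (σ 3) = 2 * w ∧ T.a (σ 3) (σ 3) = -2 * w) ∨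
      (T.m (σ 0) = m ∧ T.m (σ 1) = 2 * m ∧ T.m (σ 2) = 2 * m ∧ T.m (σ 3) = m ∧ T.w (σ 0) = 2 * w ∧ T.w (σ 1) = w ∧ T.w (σ 2) = w ∧ T.w (σ 3) = 2 * w ∧ T.a (σ 0) (σ 0) = -4 * w ∧ T.a (σ 0) (σ 1) = 2 * w ∧ T.a (σ 0) (σ 2) = 0 ∧ T.a (σ 0) (σ 3) = 0 ∧ T.a (σ 1) (σ 1) = -2 * w ∧ T.a (σ 1) (σ 2) = w ∧ T.a (σ 1) (σ 3) = 0 ∧ T.a (σ 2) (σ 2) = -2 * w ∧ T.a (σ 2) (σ 3) = 2 * w ∧ T.a (σ 3) (σ 3) = -4 * w) ∨
      (T.m (σ 0) = 2 * m ∧ T.m (σ 1) = m ∧ T.m (σ 2) = m ∧ T.m (σ 3) = m ∧ T.w (σ 0) = w ∧ T.w (σ 1) = w ∧ T.w (σ 2) = w ∧ T.w (σ 3) = 2 * w ∧ T.a (σ 0) (σ 0) = -2 * w ∧ T.a (σ 0) (σ 1) = w ∧ T.a (σ 0) (σ 2) = w ∧ T.a (σ 0) (σ 3) = 2 * w ∧ T.a (σ 1) (σ 1) = -2 * w ∧ T.a (σ 1) (σ 2) = 0 ∧ T.a (σ 1) (σ 3) = 0 ∧ T.a (σ 2) (σ 2) = -2 * w ∧ T.a (σ 2) (σ 3) = 0 ∧ T.a (σ 3) (σ 3) = -4 * w) ∨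
      (T.m (σ 0) = 2 * m ∧ T.m (σ 1) = m ∧ T.m (σ 2) = m ∧ T.m (σ 3) = 2 * m ∧ T.w (σ 0) = 2 * w ∧ T.w (σ 1) = 2 * w ∧ T.w (σ 2) = 2 * w ∧ T.w (σ 3) = w ∧ T.a (σ 0) (σ 0) = -4 * w ∧ T.a (σ 0) (σ 1) = 2 * w ∧ T.a (σ 0) (σ 2) = 2 * w ∧ T.a (σ 0) (σ 3) = 2 * w ∧ T.a (σ 1) (σ 1) = -4 * w ∧ T.a (σ 1) (σ 2) = 0 ∧ T.a (σ 1) (σ 3) = 0 ∧ T.a (σ 2) (σ 2) = -4 * w ∧ T.a (σ 2) (σ 3) = 0 ∧ T.a (σ 3) (σ 3) = -2 * w)) := by
  have h2 := Groth.Agent.Helper3.NumType.all_minusTwo T (by norm_num) hmin hg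
  have nn01 := T.offDiag_nonneg 0 1 (by decide)
  have nn02 := T.offDiag_nonneg 0 2 (by decide)
  have nn03 := T.offDiag_nonneg 0 3 (by decide)
  have nn12 := T.offDiag_nonneg 1 2 (by decide)
  have nn13 := T.offDiag_nonneg 1 3 (by decide)
  have nn23 := T.offDiag_nonneg 2 3 (by decide)
  refine ⟨fun i => (h2 i).1, ?_⟩
  show Groth.Agent.Helper3.NumType.Goal4 T
  rcases eq_or_lt_of_le nn01 with z | hp01
  · have z01 : T.a 0 1 = 0 := z.symm
    rcases eq_or_lt_of_le nn02 with z | hp02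
    · have z02 : T.a 0 2 = 0 := z.symm
      exact Groth.Agent.Helper3.NumType.g4_ZZ T h2 z01 z02
    · rcases Groth.Agent.Helper3.NumType.edge_casesT T h2 (by norm_num) (p := 0) (q := 2) (by decide) hp02 with e | e | e | e | e
      · obtain ⟨ea02, eb02⟩ := e
        exact Groth.Agent.Helper3.NumType.g4_ZE T h2 z01 hp02 ea02 eb02
      · obtain ⟨ea02, eb02⟩ := e
        exact Groth.Agent.Helper3.NumType.g4_ZU2 T h2 z01 hp02 ea02 eb02
      · obtain ⟨ea02, eb02⟩ := e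
        exact Groth.Agent.Helper3.NumType.g4_ZD2 T h2 z01 hp02 ea02 eb02
      · obtain ⟨ea02, eb02⟩ := e
        exact Groth.Agent.Helper3.NumType.g4_ZU3 T h2 z01 hp02 ea02 eb02
      · obtain ⟨ea02, eb02⟩ := e
        exact Groth.Agent.Helper3.NumType.g4_ZD3 T h2 z01 hp02 ea02 eb02
  · rcases Groth.Agent.Helper3.NumType.edge_casesT T h2 (by norm_num) (p := 0) (q := 1) (by decide) hp01 with e | e | e | e | e
    · obtain ⟨ea01, eb01⟩ := e
      rcases eq_or_lt_of_le nn02 with z | hp02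
      · have z02 : T.a 0 2 = 0 := z.symm
        exact Groth.Agent.Helper3.NumType.g4_EZ T h2 hp01 ea01 eb01 z02
      · rcases Groth.Agent.Helper3.NumType.edge_casesT T h2 (by norm_num) (p := 0) (q := 2) (by decide) hp02 with e | e | e | e | e
        · obtain ⟨ea02, eb02⟩ := e
          exact Groth.Agent.Helper3.NumType.g4_EE T h2 hp01 ea01 eb01 hp02 ea02 eb02
        · obtain ⟨ea02, eb02⟩ := e
          exact Groth.Agent.Helper3.NumType.g4_EU2 T h2 hp01 ea01 eb01 hp02 ea02 eb02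
        · obtain ⟨ea02, eb02⟩ := e
          exact Groth.Agent.Helper3.NumType.g4_ED2 T h2 hp01 ea01 eb01 hp02 ea02 eb02
        · obtain ⟨ea02, eb02⟩ := e
          exfalso
          have t := Groth.Agent.Helper3.NumType.QT4 T h2 2 1 1 0 (by norm_num) (by norm_num)
          linarith
        · obtain ⟨ea02, eb02⟩ := e
          exfalso
          have t := Groth.Agent.Helper3.NumType.QT4 T h2 2 1 3 0 (by norm_num) (by norm_num)
          linarith
    · obtain ⟨ea01, eb01⟩ := e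
      rcases eq_or_lt_of_le nn02 with z | hp02
      · have z02 : T.a 0 2 = 0 := z.symm
        exact Groth.Agent.Helper3.NumType.g4_U2Z T h2 hp01 ea01 eb01 z02
      · rcases Groth.Agent.Helper3.NumType.edge_casesT T h2 (by norm_num) (p := 0) (q := 2) (by decide) hp02 with e | e | e | e | e
        · obtain ⟨ea02, eb02⟩ := e
          exact Groth.Agent.Helper3.NumType.g4_U2E T h2 hp01 ea01 eb01 hp02 ea02 eb02
        · obtain ⟨ea02, eb02⟩ := e
          exfalso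
          have t := Groth.Agent.Helper3.NumType.QT4 T h2 2 1 1 0 (by norm_num) (by norm_num)
          linarith
        · obtain ⟨ea02, eb02⟩ := e
          exfalso
          have t := Groth.Agent.Helper3.NumType.QT4 T h2 2 1 2 0 (by norm_num) (by norm_num)
          linarith
        · obtain ⟨ea02, eb02⟩ := e
          exfalso
          have t := Groth.Agent.Helper3.NumType.QT4 T h2 2 1 1 0 (by norm_num) (by norm_num)
          linarith
        · obtain ⟨ea02, eb02⟩ := e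
          exfalso
          have t := Groth.Agent.Helper3.NumType.QT4 T h2 2 1 2 0 (by norm_num) (by norm_num)
          linarith
    · obtain ⟨ea01, eb01⟩ := e
      rcases eq_or_lt_of_le nn02 with z | hp02
      · have z02 : T.a 0 2 = 0 := z.symm
        exact Groth.Agent.Helper3.NumType.g4_D2Z T h2 hp01 ea01 eb01 z02
      · rcases Groth.Agent.Helper3.NumType.edge_casesT T h2 (by norm_num) (p := 0) (q := 2) (by decide) hp02 with e | e | e | e | e
        · obtain ⟨ea02, eb02⟩ := e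
          exact Groth.Agent.Helper3.NumType.g4_D2E T h2 hp01 ea01 eb01 hp02 ea02 eb02
        · obtain ⟨ea02, eb02⟩ := e
          exfalso
          have t := Groth.Agent.Helper3.NumType.QT4 T h2 2 2 1 0 (by norm_num) (by norm_num)
          linarith
        · obtain ⟨ea02, eb02⟩ := e
          exfalso
          have t := Groth.Agent.Helper3.NumType.QT4 T h2 1 1 1 0 (by norm_num) (by norm_num)
          linarith
        · obtain ⟨ea02, eb02⟩ := e
          exfalso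
          have t := Groth.Agent.Helper3.NumType.QT4 T h2 2 1 1 0 (by norm_num) (by norm_num)
          linarith
        · obtain ⟨ea02, eb02⟩ := e
          exfalso
          have t := Groth.Agent.Helper3.NumType.QT4 T h2 1 1 1 0 (by norm_num) (by norm_num)
          linarith
    · obtain ⟨ea01, eb01⟩ := e
      rcases eq_or_lt_of_le nn02 with z | hp02
      · have z02 : T.a 0 2 = 0 := z.symm
        exact Groth.Agent.Helper3.NumType.g4_U3Z T h2 hp01 ea01 eb01 z02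
      · rcases Groth.Agent.Helper3.NumType.edge_casesT T h2 (by norm_num) (p := 0) (q := 2) (by decide) hp02 with e | e | e | e | e
        · obtain ⟨ea02, eb02⟩ := e
          exfalso
          have t := Groth.Agent.Helper3.NumType.QT4 T h2 2 1 1 0 (by norm_num) (by norm_num)
          linarith
        · obtain ⟨ea02, eb02⟩ := e
          exfalso
          have t := Groth.Agent.Helper3.NumType.QT4 T h2 2 1 1 0 (by norm_num) (by norm_num)
          linarith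
        · obtain ⟨ea02, eb02⟩ := e
          exfalso
          have t := Groth.Agent.Helper3.NumType.QT4 T h2 2 1 1 0 (by norm_num) (by norm_num)
          linarith
        · obtain ⟨ea02, eb02⟩ := e
          exfalso
          have t := Groth.Agent.Helper3.NumType.QT4 T h2 2 1 1 0 (by norm_num) (by norm_num)
          linarith
        · obtain ⟨ea02, eb02⟩ := e
          exfalso
          have t := Groth.Agent.Helper3.NumType.QT4 T h2 2 1 1 0 (by norm_num) (by norm_num)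
          linarith
    · obtain ⟨ea01, eb01⟩ := e
      rcases eq_or_lt_of_le nn02 with z | hp02
      · have z02 : T.a 0 2 = 0 := z.symm
        exact Groth.Agent.Helper3.NumType.g4_D3Z T h2 hp01 ea01 eb01 z02
      · rcases Groth.Agent.Helper3.NumType.edge_casesT T h2 (by norm_num) (p := 0) (q := 2) (by decide) hp02 with e | e | e | e | e
        · obtain ⟨ea02, eb02⟩ := e
          exfalso
          have t := Groth.Agent.Helper3.NumType.QT4 T h2 2 3 1 0 (by norm_num) (by norm_num)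
          linarith
        · obtain ⟨ea02, eb02⟩ := e
          exfalso
          have t := Groth.Agent.Helper3.NumType.QT4 T h2 2 2 1 0 (by norm_num) (by norm_num)
          linarith
        · obtain ⟨ea02, eb02⟩ := e
          exfalso
          have t := Groth.Agent.Helper3.NumType.QT4 T h2 1 1 1 0 (by norm_num) (by norm_num)
          linarith
        · obtain ⟨ea02, eb02⟩ := e
          exfalso
          have t := Groth.Agent.Helper3.NumType.QT4 T h2 2 1 1 0 (by norm_num) (by norm_num)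
          linarith
        · obtain ⟨ea02, eb02⟩ := e
          exfalso
          have t := Groth.Agent.Helper3.NumType.QT4 T h2 1 1 1 0 (by norm_num) (by norm_num)
          linarith

end Groth.Agent.S7364
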