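import Groth.Statements.S7365
import Mathlib
import Groth.Agent.Helper3.NumTypeG5_00
import Groth.Agent.Helper3.NumTypeG5_01
import Groth.Agent.Helper3.NumTypeG5_02
import Groth.Agent.Helper3.NumTypeG5_03
import Groth.Agent.Helper3.NumTypeG5_04
import Groth.Agent.Helper3.NumTypeG5_05
import Groth.Agent.Helper3.NumTypeG5_06
import Groth.Agent.Helper3.NumTypeG5_07
import Groth.Agent.Helper3.NumTypeG5_08
import Groth.Agent.Helper3.NumTypeG5_09
import Groth.Agent.Helper3.NumTypeG5_10
import Groth.Agent.Helper3.NumTypeG5_11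
import Groth.Agent.Helper3.NumTypeG5_12
import Groth.Agent.Helper3.NumTypeG5_13
import Groth.Agent.Helper3.NumTypeG5_14
import Groth.Agent.Helper3.NumTypeG5_15
import Groth.Agent.Helper3.NumTypeG5_16
import Groth.Agent.Helper3.NumTypeG5_17

set_option autoImplicit false
open Finset
open Models Models.NumericalType

namespace Groth.Agent.S7365

/-- Genus one classification: case n = 5: let T be a minimal numerical type of genus 1 on 5 indices.
Then all g_i = 0 and, for some permutation σ of the indices and some integers m, w, the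
multiplicities, weights and intersection matrix (m_{σ(i)}, w_{σ(i)}, a_{σ(i)σ(j)}) are those of one
of the following 9 types: [five cycle] m = (m, m, m, m, m), w = (w, w, w, w, w), a = (-2 * w w 0 0 w
/ w -2 * w w 0 0 / 0 w -2 * w w 0 / 0 0 w -2 * w w / w 0 0 w -2 * w); [equal equal up equal] m = (m,
2 * m, 3 * m, 2 * m, m), w = (w, w, w, 2 * w, 2 * w), a = (-2 * w w 0 0 0 / w -2 * w w 0 0 / 0 w -2
* w 2 * w 0 / 0 0 2 * w -4 * w 2 * w / 0 0 0 2 * w -4 * w); [equal equal down equal] m = (m, 2 * m,
3 * m, 4 * m, 2 * m), w = (2 * w, 2 * w, 2 * w, w, w), a = (-4 * w 2 * w 0 0 0 / 2 * w -4 * w 2 * w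
0 0 / 0 2 * w -4 * w 2 * w 0 / 0 0 2 * w -2 * w w / 0 0 0 w -2 * w); [up equal equal up] m = (2 * m,
2 * m, 2 * m, 2 * m, m), w = (w, 2 * w, 2 * w, 2 * w, 4 * w), a = (-2 * w 2 * w 0 0 0 / 2 * w -4 * w
2 * w 0 0 / 0 2 * w -4 * w 2 * w 0 / 0 0 2 * w -4 * w 4 * w / 0 0 0 4 * w -8 * w); [up equal equal
down] m = (m, m, m, m, m), w = (w, 2 * w, 2 * w, 2 * w, w), a = (-2 * w 2 * w 0 0 0 / 2 * w -4 * w 2
* w 0 0 / 0 2 * w -4 * w 2 * w 0 / 0 0 2 * w -4 * w 2 * w / 0 0 0 2 * w -2 * w); [down equal equal
up] m = (m, 2 * m, 2 * m, 2 * m, m), w = (2 * w, w, w, w, 2 * w), a = (-4 * w 2 * w 0 0 0 / 2 * w -2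
* w w 0 0 / 0 w -2 * w w 0 / 0 0 w -2 * w 2 * w / 0 0 0 2 * w -4 * w); [quadruple] m = (2 * m, m, m,
m, m), w = (w, w, w, w, w), a = (-2 * w w w w w / w -2 * w 0 0 0 / w 0 -2 * w 0 0 / w 0 0 -2 * w 0 /
w 0 0 0 -2 * w); [triple extended up] m = (m, 2 * m, 2 * m, m, m), w = (2 * w, w, w, w, w), a = (-4
* w 2 * w 0 0 0 / 2 * w -2 * w w 0 0 / 0 w -2 * w w w / 0 0 w -2 * w 0 / 0 0 w 0 -2 * w); [triple
extended down] m = (2 * m, 2 * m, 2 * m, m, m), w = (w, 2 * w, 2 * w, 2 * w, 2 * w), a = (-2 * w 2 *
w 0 0 0 / 2 * w -4 * w 2 * w 0 0 / 0 2 * w -4 * w 2 * w 2 * w / 0 0 2 * w -4 * w 0 / 0 0 2 * w 0 -4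
* w). Only the classification direction is stated. -/
theorem result (T : Models.NumericalType 5) (hmin : T.IsMinimal) (hg : T.genus = 1) :
    (∀ i, T.g i = 0) ∧ ∃ (σ : Equiv.Perm (Fin 5)) (m w : ℤ),
      ((T.m (σ 0) = m ∧ T.m (σ 1) = m ∧ T.m (σ 2) = m ∧ T.m (σ 3) = m ∧ T.m (σ 4) = m ∧ T.w (σ 0) = w ∧ T.w (σ 1) = w ∧ T.w (σ 2) = w ∧ T.w (σ 3) = w ∧ T.w (σ 4) = w ∧ T.a (σ 0) (σ 0) = -2 * w ∧ T.a (σ 0) (σ 1) = w ∧ T.a (σ 0) (σ 2) = 0 ∧ T.a (σ 0) (σ 3) = 0 ∧ T.a (σ 0) (σ 4) = w ∧ T.a (σ 1) (σ 1) = -2 * w ∧ T.a (σ 1) (σ 2) = w ∧ T.a (σ 1) (σ 3) = 0 ∧ T.a (σ 1) (σ 4) = 0 ∧ T.a (σ 2) (σ 2) = -2 * w ∧ T.a (σ 2) (σ 3) = w ∧ T.a (σ 2) (σ 4) = 0 ∧ T.a (σ 3) (σ 3) = -2 * w ∧ T.a (σ 3) (σ 4) = w ∧ T.a (σ 4) (σ 4) = -2 * w) ∨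
      (T.m (σ 0) = m ∧ T.m (σ 1) = 2 * m ∧ T.m (σ 2) = 3 * m ∧ T.m (σ 3) = 2 * m ∧ T.m (σ 4) = m ∧ T.w (σ 0) = w ∧ T.w (σ 1) = w ∧ T.w (σ 2) = w ∧ T.w (σ 3) = 2 * w ∧ T.w (σ 4) = 2 * w ∧ T.a (σ 0) (σ 0) = -2 * w ∧ T.a (σ 0) (σ 1) = w ∧ T.a (σ 0) (σ 2) = 0 ∧ T.a (σ 0) (σ 3) = 0 ∧ T.a (σ 0) (σ 4) = 0 ∧ T.a (σ 1) (σ 1) = -2 * w ∧ T.a (σ 1) (σ 2) = w ∧ T.a (σ 1) (σ 3) = 0 ∧ T.a (σ 1) (σ 4) = 0 ∧ T.a (σ 2) (σ 2) = -2 * w ∧ T.a (σ 2) (σ 3) = 2 * w ∧ T.a (σ 2) (σ 4) = 0 ∧ T.a (σ 3) (σ 3) = -4 * w ∧ T.a (σ 3) (σ 4) = 2 * w ∧ T.a (σ 4) (σ 4) = -4 * w) ∨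
      (T.m (σ 0) = m ∧ T.m (σ 1) = 2 * m ∧ T.m (σ 2) = 3 * m ∧ T.m (σ 3) = 4 * m ∧ T.m (σ 4) = 2 * m ∧ T.w (σ 0) = 2 * w ∧ T.w (σ 1) = 2 * w ∧ T.w (σ 2) = 2 * w ∧ T.w (σ 3) = w ∧ T.w (σ 4) = w ∧ T.a (σ 0) (σ 0) = -4 * w ∧ T.a (σ 0) (σ 1) = 2 * w ∧ T.a (σ 0) (σ 2) = 0 ∧ T.a (σ 0) (σ 3) = 0 ∧ T.a (σ 0) (σ 4) = 0 ∧ T.a (σ 1) (σ 1) = -4 * w ∧ T.a (σ 1) (σ 2) = 2 * w ∧ T.a (σ 1) (σ 3) = 0 ∧ T.a (σ 1) (σ 4) = 0 ∧ T.a (σ 2) (σ 2) = -4 * w ∧ T.a (σ 2) (σ 3) = 2 * w ∧ T.a (σ 2) (σ 4) = 0 ∧ T.a (σ 3) (σ 3) = -2 * w ∧ T.a (σ 3) (σ 4) = w ∧ T.a (σ 4) (σ 4) = -2 * w) ∨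
      (T.m (σ 0) = 2 * m ∧ T.m (σ 1) = 2 * m ∧ T.m (σ 2) = 2 * m ∧ T.m (σ 3) = 2 * m ∧ T.m (σ 4) = m ∧ T.w (σ 0) = w ∧ T.w (σ 1) = 2 * w ∧ T.w (σ 2) = 2 * w ∧ T.w (σ 3) = 2 * w ∧ T.w (σ 4) = 4 * w ∧ T.a (σ 0) (σ 0) = -2 * w ∧ T.a (σ 0) (σ 1) = 2 * w ∧ T.a (σ 0) (σ 2) = 0 ∧ T.a (σ 0) (σ 3) = 0 ∧ T.a (σ 0) (σ 4) = 0 ∧ T.a (σ 1) (σ 1) = -4 * w ∧ T.a (σ 1) (σ 2) = 2 * w ∧ T.a (σ 1) (σ 3) = 0 ∧ T.a (σ 1) (σ 4) = 0 ∧ T.a (σ 2) (σ 2) = -4 * w ∧ T.a (σ 2) (σ 3) = 2 * w ∧ T.a (σ 2) (σ 4) = 0 ∧ T.a (σ 3) (σ 3) = -4 * w ∧ T.a (σ 3) (σ 4) = 4 * w ∧ T.a (σ 4) (σ 4) = -8 * w) ∨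
      (T.m (σ 0) = m ∧ T.m (σ 1) = m ∧ T.m (σ 2) = m ∧ T.m (σ 3) = m ∧ T.m (σ 4) = m ∧ T.w (σ 0) = w ∧ T.w (σ 1) = 2 * w ∧ T.w (σ 2) = 2 * w ∧ T.w (σ 3) = 2 * w ∧ T.w (σ 4) = w ∧ T.a (σ 0) (σ 0) = -2 * w ∧ T.a (σ 0) (σ 1) = 2 * w ∧ T.a (σ 0) (σ 2) = 0 ∧ T.a (σ 0) (σ 3) = 0 ∧ T.a (σ 0) (σ 4) = 0 ∧ T.a (σ 1) (σ 1) = -4 * w ∧ T.a (σ 1) (σ 2) = 2 * w ∧ T.a (σ 1) (σ 3) = 0 ∧ T.a (σ 1) (σ 4) = 0 ∧ T.a (σ 2) (σ 2) = -4 * w ∧ T.a (σ 2) (σ 3) = 2 * w ∧ T.a (σ 2) (σ 4) = 0 ∧ T.a (σ 3) (σ 3) = -4 * w ∧ T.a (σ 3) (σ 4) = 2 * w ∧ T.a (σ 4) (σ 4) = -2 * w) ∨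
      (T.m (σ 0) = m ∧ T.m (σ 1) = 2 * m ∧ T.m (σ 2) = 2 * m ∧ T.m (σ 3) = 2 * m ∧ T.m (σ 4) = m ∧ T.w (σ 0) = 2 * w ∧ T.w (σ 1) = w ∧ T.w (σ 2) = w ∧ T.w (σ 3) = w ∧ T.w (σ 4) = 2 * w ∧ T.a (σ 0) (σ 0) = -4 * w ∧ T.a (σ 0) (σ 1) = 2 * w ∧ T.a (σ 0) (σ 2) = 0 ∧ T.a (σ 0) (σ 3) = 0 ∧ T.a (σ 0) (σ 4) = 0 ∧ T.a (σ 1) (σ 1) = -2 * w ∧ T.a (σ 1) (σ 2) = w ∧ T.a (σ 1) (σ 3) = 0 ∧ T.a (σ 1) (σ 4) = 0 ∧ T.a (σ 2) (σ 2) = -2 * w ∧ T.a (σ 2) (σ 3) = w ∧ T.a (σ 2) (σ 4) = 0 ∧ T.a (σ 3) (σ 3) = -2 * w ∧ T.a (σ 3) (σ 4) = 2 * w ∧ T.a (σ 4) (σ 4) = -4 * w) ∨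
      (T.m (σ 0) = 2 * m ∧ T.m (σ 1) = m ∧ T.m (σ 2) = m ∧ T.m (σ 3) = m ∧ T.m (σ 4) = m ∧ T.w (σ 0) = w ∧ T.w (σ 1) = w ∧ T.w (σ 2) = w ∧ T.w (σ 3) = w ∧ T.w (σ 4) = w ∧ T.a (σ 0) (σ 0) = -2 * w ∧ T.a (σ 0) (σ 1) = w ∧ T.a (σ 0) (σ 2) = w ∧ T.a (σ 0) (σ 3) = w ∧ T.a (σ 0) (σ 4) = w ∧ T.a (σ 1) (σ 1) = -2 * w ∧ T.a (σ 1) (σ 2) = 0 ∧ T.a (σ 1) (σ 3) = 0 ∧ T.a (σ 1) (σ 4) = 0 ∧ T.a (σ 2) (σ 2) = -2 * w ∧ T.a (σ 2) (σ 3) = 0 ∧ T.a (σ 2) (σ 4) = 0 ∧ T.a (σ 3) (σ 3) = -2 * w ∧ T.a (σ 3) (σ 4) = 0 ∧ T.a (σ 4) (σ 4) = -2 * w) ∨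
      (T.m (σ 0) = m ∧ T.m (σ 1) = 2 * m ∧ T.m (σ 2) = 2 * m ∧ T.m (σ 3) = m ∧ T.m (σ 4) = m ∧ T.w (σ 0) = 2 * w ∧ T.w (σ 1) = w ∧ T.w (σ 2) = w ∧ T.w (σ 3) = w ∧ T.w (σ 4) = w ∧ T.a (σ 0) (σ 0) = -4 * w ∧ T.a (σ 0) (σ 1) = 2 * w ∧ T.a (σ 0) (σ 2) = 0 ∧ T.a (σ 0) (σ 3) = 0 ∧ T.a (σ 0) (σ 4) = 0 ∧ T.a (σ 1) (σ 1) = -2 * w ∧ T.a (σ 1) (σ 2) = w ∧ T.a (σ 1) (σ 3) = 0 ∧ T.a (σ 1) (σ 4) = 0 ∧ T.a (σ 2) (σ 2) = -2 * w ∧ T.a (σ 2) (σ 3) = w ∧ T.a (σ 2) (σ 4) = w ∧ T.a (σ 3) (σ 3) = -2 * w ∧ T.a (σ 3) (σ 4) = 0 ∧ T.a (σ 4) (σ 4) = -2 * w) ∨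
      (T.m (σ 0) = 2 * m ∧ T.m (σ 1) = 2 * m ∧ T.m (σ 2) = 2 * m ∧ T.m (σ 3) = m ∧ T.m (σ 4) = m ∧ T.w (σ 0) = w ∧ T.w (σ 1) = 2 * w ∧ T.w (σ 2) = 2 * w ∧ T.w (σ 3) = 2 * w ∧ T.w (σ 4) = 2 * w ∧ T.a (σ 0) (σ 0) = -2 * w ∧ T.a (σ 0) (σ 1) = 2 * w ∧ T.a (σ 0) (σ 2) = 0 ∧ T.a (σ 0) (σ 3) = 0 ∧ T.a (σ 0) (σ 4) = 0 ∧ T.a (σ 1) (σ 1) = -4 * w ∧ T.a (σ 1) (σ 2) = 2 * w ∧ T.a (σ 1) (σ 3) = 0 ∧ T.a (σ 1) (σ 4) = 0 ∧ T.a (σ 2) (σ 2) = -4 * w ∧ T.a (σ 2) (σ 3) = 2 * w ∧ T.a (σ 2) (σ 4) = 2 * w ∧ T.a (σ 3) (σ 3) = -4 * w ∧ T.a (σ 3) (σ 4) = 0 ∧ T.a (σ 4) (σ 4) = -4 * w)) := by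
  have h2 := Groth.Agent.Helper3.NumType.all_minusTwo T (by norm_num) hmin hg
  have hw0 := T.w_pos 0
  have hw1 := T.w_pos 1
  have hw2 := T.w_pos 2
  have hw3 := T.w_pos 3
  have hw4 := T.w_pos 4
  have nn01 := T.offDiag_nonneg 0 1 (by decide)
  have s10 := Groth.Agent.Helper3.NumType.a_symm T 1 0
  have nn02 := T.offDiag_nonneg 0 2 (by decide)
  have s20 := Groth.Agent.Helper3.NumType.a_symm T 2 0
  have nn03 := T.offDiag_nonneg 0 3 (by decide)
  have s30 := Groth.Agent.Helper3.NumType.a_symm T 3 0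
  have nn04 := T.offDiag_nonneg 0 4 (by decide)
  have s40 := Groth.Agent.Helper3.NumType.a_symm T 4 0
  have nn12 := T.offDiag_nonneg 1 2 (by decide)
  have s21 := Groth.Agent.Helper3.NumType.a_symm T 2 1
  have nn13 := T.offDiag_nonneg 1 3 (by decide)
  have s31 := Groth.Agent.Helper3.NumType.a_symm T 3 1
  have nn14 := T.offDiag_nonneg 1 4 (by decide)
  have s41 := Groth.Agent.Helper3.NumType.a_symm T 4 1
  have nn23 := T.offDiag_nonneg 2 3 (by decide)
  have s32 := Groth.Agent.Helper3.NumType.a_symm T 3 2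
  have nn24 := T.offDiag_nonneg 2 4 (by decide)
  have s42 := Groth.Agent.Helper3.NumType.a_symm T 4 2
  have nn34 := T.offDiag_nonneg 3 4 (by decide)
  have s43 := Groth.Agent.Helper3.NumType.a_symm T 4 3
  refine ⟨fun i => (h2 i).1, ?_⟩
  show Groth.Agent.Helper3.NumType.Goal5 T
  rcases eq_or_lt_of_le nn01 with z | hp01
  · have z01 : T.a 0 1 = 0 := z.symm
    rcases eq_or_lt_of_le nn02 with z | hp02
    · have z02 : T.a 0 2 = 0 := z.symm
      rcases eq_or_lt_of_le nn03 with z | hp03
      · have z03 : T.a 0 3 = 0 := z.symm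
        rcases eq_or_lt_of_le nn04 with z | hp04
        · have z04 : T.a 0 4 = 0 := z.symm
          exfalso
          obtain ⟨i, hi, j, hj, hij⟩ := T.connected ({0} : Finset (Fin 5)) (by decide) (by decide)
          fin_cases i <;> fin_cases j <;> first | exact absurd hi (by decide) | exact hj (by decide) | (apply hij; first | exact z01 | exact z02 | exact z03 | exact z04)
        · rcases Groth.Agent.Helper3.NumType.edge_casesT T h2 (by norm_num) (p := 0) (q := 4) (by decide) hp04 with e | e | e | e | e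
          · obtain ⟨ea04, eb04⟩ := e
            rcases eq_or_lt_of_le nn12 with z | hp12
            · have z12 : T.a 1 2 = 0 := z.symm
              rcases eq_or_lt_of_le nn13 with z | hp13
              · have z13 : T.a 1 3 = 0 := z.symm
                exact Groth.Agent.Helper3.NumType.g5_ZZZEZZ T h2 z01 z02 z03 hp04 ea04 eb04 z12 z13
              · rcases Groth.Agent.Helper3.NumType.edge_casesT T h2 (by norm_num) (p := 1) (q := 3) (by decide) hp13 with e | e | e | e | e
                · obtain ⟨ea13, eb13⟩ := e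
                  exact Groth.Agent.Helper3.NumType.g5_ZZZEZE T h2 z01 z02 z03 hp04 ea04 eb04 z12 hp13 ea13 eb13
                · obtain ⟨ea13, eb13⟩ := e
                  exact Groth.Agent.Helper3.NumType.g5_ZZZEZU2 T h2 z01 z02 z03 hp04 ea04 eb04 z12 hp13 ea13 eb13
                · obtain ⟨ea13, eb13⟩ := e
                  exact Groth.Agent.Helper3.NumType.g5_ZZZEZD2 T h2 z01 z02 z03 hp04 ea04 eb04 z12 hp13 ea13 eb13
                · obtain ⟨ea13, eb13⟩ := e
                  exact Groth.Agent.Helper3.NumType.g5_ZZZEZU3 T h2 z01 z02 z03 hp04 ea04 eb04 z12 hp13 ea13 eb13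
                · obtain ⟨ea13, eb13⟩ := e
                  exact Groth.Agent.Helper3.NumType.g5_ZZZEZD3 T h2 z01 z02 z03 hp04 ea04 eb04 z12 hp13 ea13 eb13
            · rcases Groth.Agent.Helper3.NumType.edge_casesT T h2 (by norm_num) (p := 1) (q := 2) (by decide) hp12 with e | e | e | e | e
              · obtain ⟨ea12, eb12⟩ := e
                exact Groth.Agent.Helper3.NumType.g5_ZZZEE T h2 z01 z02 z03 hp04 ea04 eb04 hp12 ea12 eb12
              · obtain ⟨ea12, eb12⟩ := e
                exact Groth.Agent.Helper3.NumType.g5_ZZZEU2 T h2 z01 z02 z03 hp04 ea04 eb04 hp12 ea12 eb12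
              · obtain ⟨ea12, eb12⟩ := e
                exact Groth.Agent.Helper3.NumType.g5_ZZZED2 T h2 z01 z02 z03 hp04 ea04 eb04 hp12 ea12 eb12
              · obtain ⟨ea12, eb12⟩ := e
                exact Groth.Agent.Helper3.NumType.g5_ZZZEU3 T h2 z01 z02 z03 hp04 ea04 eb04 hp12 ea12 eb12
              · obtain ⟨ea12, eb12⟩ := e
                exact Groth.Agent.Helper3.NumType.g5_ZZZED3 T h2 z01 z02 z03 hp04 ea04 eb04 hp12 ea12 eb12
          · obtain ⟨ea04, eb04⟩ := e
            rcases eq_or_lt_of_le nn12 with z | hp12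
            · have z12 : T.a 1 2 = 0 := z.symm
              exact Groth.Agent.Helper3.NumType.g5_ZZZU2Z T h2 z01 z02 z03 hp04 ea04 eb04 z12
            · rcases Groth.Agent.Helper3.NumType.edge_casesT T h2 (by norm_num) (p := 1) (q := 2) (by decide) hp12 with e | e | e | e | e
              · obtain ⟨ea12, eb12⟩ := e
                exact Groth.Agent.Helper3.NumType.g5_ZZZU2E T h2 z01 z02 z03 hp04 ea04 eb04 hp12 ea12 eb12
              · obtain ⟨ea12, eb12⟩ := e
                exact Groth.Agent.Helper3.NumType.g5_ZZZU2U2 T h2 z01 z02 z03 hp04 ea04 eb04 hp12 ea12 eb12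
              · obtain ⟨ea12, eb12⟩ := e
                exact Groth.Agent.Helper3.NumType.g5_ZZZU2D2 T h2 z01 z02 z03 hp04 ea04 eb04 hp12 ea12 eb12
              · obtain ⟨ea12, eb12⟩ := e
                exact Groth.Agent.Helper3.NumType.g5_ZZZU2U3 T h2 z01 z02 z03 hp04 ea04 eb04 hp12 ea12 eb12
              · obtain ⟨ea12, eb12⟩ := e
                exact Groth.Agent.Helper3.NumType.g5_ZZZU2D3 T h2 z01 z02 z03 hp04 ea04 eb04 hp12 ea12 eb12
          · obtain ⟨ea04, eb04⟩ := e
            rcases eq_or_lt_of_le nn12 with z | hp12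
            · have z12 : T.a 1 2 = 0 := z.symm
              exact Groth.Agent.Helper3.NumType.g5_ZZZD2Z T h2 z01 z02 z03 hp04 ea04 eb04 z12
            · rcases Groth.Agent.Helper3.NumType.edge_casesT T h2 (by norm_num) (p := 1) (q := 2) (by decide) hp12 with e | e | e | e | e
              · obtain ⟨ea12, eb12⟩ := e
                exact Groth.Agent.Helper3.NumType.g5_ZZZD2E T h2 z01 z02 z03 hp04 ea04 eb04 hp12 ea12 eb12
              · obtain ⟨ea12, eb12⟩ := e
                exact Groth.Agent.Helper3.NumType.g5_ZZZD2U2 T h2 z01 z02 z03 hp04 ea04 eb04 hp12 ea12 eb12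
              · obtain ⟨ea12, eb12⟩ := e
                exact Groth.Agent.Helper3.NumType.g5_ZZZD2D2 T h2 z01 z02 z03 hp04 ea04 eb04 hp12 ea12 eb12
              · obtain ⟨ea12, eb12⟩ := e
                exact Groth.Agent.Helper3.NumType.g5_ZZZD2U3 T h2 z01 z02 z03 hp04 ea04 eb04 hp12 ea12 eb12
              · obtain ⟨ea12, eb12⟩ := e
                exact Groth.Agent.Helper3.NumType.g5_ZZZD2D3 T h2 z01 z02 z03 hp04 ea04 eb04 hp12 ea12 eb12
          · obtain ⟨ea04, eb04⟩ := e
            rcases eq_or_lt_of_le nn12 with z | hp12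
            · have z12 : T.a 1 2 = 0 := z.symm
              exact Groth.Agent.Helper3.NumType.g5_ZZZU3Z T h2 z01 z02 z03 hp04 ea04 eb04 z12
            · rcases Groth.Agent.Helper3.NumType.edge_casesT T h2 (by norm_num) (p := 1) (q := 2) (by decide) hp12 with e | e | e | e | e
              · obtain ⟨ea12, eb12⟩ := e
                exact Groth.Agent.Helper3.NumType.g5_ZZZU3E T h2 z01 z02 z03 hp04 ea04 eb04 hp12 ea12 eb12
              · obtain ⟨ea12, eb12⟩ := e
                exact Groth.Agent.Helper3.NumType.g5_ZZZU3U2 T h2 z01 z02 z03 hp04 ea04 eb04 hp12 ea12 eb12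
              · obtain ⟨ea12, eb12⟩ := e
                exact Groth.Agent.Helper3.NumType.g5_ZZZU3D2 T h2 z01 z02 z03 hp04 ea04 eb04 hp12 ea12 eb12
              · obtain ⟨ea12, eb12⟩ := e
                exact Groth.Agent.Helper3.NumType.g5_ZZZU3U3 T h2 z01 z02 z03 hp04 ea04 eb04 hp12 ea12 eb12
              · obtain ⟨ea12, eb12⟩ := e
                exact Groth.Agent.Helper3.NumType.g5_ZZZU3D3 T h2 z01 z02 z03 hp04 ea04 eb04 hp12 ea12 eb12
          · obtain ⟨ea04, eb04⟩ := e
            rcases eq_or_lt_of_le nn12 with z | hp12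
            · have z12 : T.a 1 2 = 0 := z.symm
              exact Groth.Agent.Helper3.NumType.g5_ZZZD3Z T h2 z01 z02 z03 hp04 ea04 eb04 z12
            · rcases Groth.Agent.Helper3.NumType.edge_casesT T h2 (by norm_num) (p := 1) (q := 2) (by decide) hp12 with e | e | e | e | e
              · obtain ⟨ea12, eb12⟩ := e
                exact Groth.Agent.Helper3.NumType.g5_ZZZD3E T h2 z01 z02 z03 hp04 ea04 eb04 hp12 ea12 eb12
              · obtain ⟨ea12, eb12⟩ := e
                exact Groth.Agent.Helper3.NumType.g5_ZZZD3U2 T h2 z01 z02 z03 hp04 ea04 eb04 hp12 ea12 eb12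
              · obtain ⟨ea12, eb12⟩ := e
                exact Groth.Agent.Helper3.NumType.g5_ZZZD3D2 T h2 z01 z02 z03 hp04 ea04 eb04 hp12 ea12 eb12
              · obtain ⟨ea12, eb12⟩ := e
                exact Groth.Agent.Helper3.NumType.g5_ZZZD3U3 T h2 z01 z02 z03 hp04 ea04 eb04 hp12 ea12 eb12
              · obtain ⟨ea12, eb12⟩ := e
                exact Groth.Agent.Helper3.NumType.g5_ZZZD3D3 T h2 z01 z02 z03 hp04 ea04 eb04 hp12 ea12 eb12
      · rcases Groth.Agent.Helper3.NumType.edge_casesT T h2 (by norm_num) (p := 0) (q := 3) (by decide) hp03 with e | e | e | e | e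
        · obtain ⟨ea03, eb03⟩ := e
          rcases eq_or_lt_of_le nn04 with z | hp04
          · have z04 : T.a 0 4 = 0 := z.symm
            rcases eq_or_lt_of_le nn12 with z | hp12
            · have z12 : T.a 1 2 = 0 := z.symm
              rcases eq_or_lt_of_le nn13 with z | hp13
              · have z13 : T.a 1 3 = 0 := z.symm
                exact Groth.Agent.Helper3.NumType.g5_ZZEZZZ T h2 z01 z02 hp03 ea03 eb03 z04 z12 z13
              · rcases Groth.Agent.Helper3.NumType.edge_casesT T h2 (by norm_num) (p := 1) (q := 3) (by decide) hp13 with e | e | e | e | e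
                · obtain ⟨ea13, eb13⟩ := e
                  exact Groth.Agent.Helper3.NumType.g5_ZZEZZE T h2 z01 z02 hp03 ea03 eb03 z04 z12 hp13 ea13 eb13
                · obtain ⟨ea13, eb13⟩ := e
                  exact Groth.Agent.Helper3.NumType.g5_ZZEZZU2 T h2 z01 z02 hp03 ea03 eb03 z04 z12 hp13 ea13 eb13
                · obtain ⟨ea13, eb13⟩ := e
                  exact Groth.Agent.Helper3.NumType.g5_ZZEZZD2 T h2 z01 z02 hp03 ea03 eb03 z04 z12 hp13 ea13 eb13
                · obtain ⟨ea13, eb13⟩ := e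
                  exfalso
                  have t := Groth.Agent.Helper3.NumType.QT5 T h2 1 3 0 2 0 (by norm_num) (by norm_num)
                  linarith only [t, z01, ea03, eb03, ea13, eb13, hw0, hw1, hw3]
                · obtain ⟨ea13, eb13⟩ := e
                  exfalso
                  have t := Groth.Agent.Helper3.NumType.QT5 T h2 1 1 0 2 0 (by norm_num) (by norm_num)
                  linarith only [t, z01, ea03, eb03, ea13, eb13, hw0, hw1, hw3]
            · rcases Groth.Agent.Helper3.NumType.edge_casesT T h2 (by norm_num) (p := 1) (q := 2) (by decide) hp12 with e | e | e | e | e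
              · obtain ⟨ea12, eb12⟩ := e
                exact Groth.Agent.Helper3.NumType.g5_ZZEZE T h2 z01 z02 hp03 ea03 eb03 z04 hp12 ea12 eb12
              · obtain ⟨ea12, eb12⟩ := e
                exact Groth.Agent.Helper3.NumType.g5_ZZEZU2 T h2 z01 z02 hp03 ea03 eb03 z04 hp12 ea12 eb12
              · obtain ⟨ea12, eb12⟩ := e
                exact Groth.Agent.Helper3.NumType.g5_ZZEZD2 T h2 z01 z02 hp03 ea03 eb03 z04 hp12 ea12 eb12
              · obtain ⟨ea12, eb12⟩ := e
                exact Groth.Agent.Helper3.NumType.g5_ZZEZU3 T h2 z01 z02 hp03 ea03 eb03 z04 hp12 ea12 eb12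
              · obtain ⟨ea12, eb12⟩ := e
                exact Groth.Agent.Helper3.NumType.g5_ZZEZD3 T h2 z01 z02 hp03 ea03 eb03 z04 hp12 ea12 eb12
          · rcases Groth.Agent.Helper3.NumType.edge_casesT T h2 (by norm_num) (p := 0) (q := 4) (by decide) hp04 with e | e | e | e | e
            · obtain ⟨ea04, eb04⟩ := e
              rcases eq_or_lt_of_le nn12 with z | hp12
              · have z12 : T.a 1 2 = 0 := z.symm
                exact Groth.Agent.Helper3.NumType.g5_ZZEEZ T h2 z01 z02 hp03 ea03 eb03 hp04 ea04 eb04 z12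
              · rcases Groth.Agent.Helper3.NumType.edge_casesT T h2 (by norm_num) (p := 1) (q := 2) (by decide) hp12 with e | e | e | e | e
                · obtain ⟨ea12, eb12⟩ := e
                  exact Groth.Agent.Helper3.NumType.g5_ZZEEE T h2 z01 z02 hp03 ea03 eb03 hp04 ea04 eb04 hp12 ea12 eb12
                · obtain ⟨ea12, eb12⟩ := e
                  exact Groth.Agent.Helper3.NumType.g5_ZZEEU2 T h2 z01 z02 hp03 ea03 eb03 hp04 ea04 eb04 hp12 ea12 eb12
                · obtain ⟨ea12, eb12⟩ := e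
                  exact Groth.Agent.Helper3.NumType.g5_ZZEED2 T h2 z01 z02 hp03 ea03 eb03 hp04 ea04 eb04 hp12 ea12 eb12
                · obtain ⟨ea12, eb12⟩ := e
                  exact Groth.Agent.Helper3.NumType.g5_ZZEEU3 T h2 z01 z02 hp03 ea03 eb03 hp04 ea04 eb04 hp12 ea12 eb12
                · obtain ⟨ea12, eb12⟩ := e
                  exact Groth.Agent.Helper3.NumType.g5_ZZEED3 T h2 z01 z02 hp03 ea03 eb03 hp04 ea04 eb04 hp12 ea12 eb12
            · obtain ⟨ea04, eb04⟩ := e
              exact Groth.Agent.Helper3.NumType.g5_ZZEU2 T h2 z01 z02 hp03 ea03 eb03 hp04 ea04 eb04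
            · obtain ⟨ea04, eb04⟩ := e
              exact Groth.Agent.Helper3.NumType.g5_ZZED2 T h2 z01 z02 hp03 ea03 eb03 hp04 ea04 eb04
            · obtain ⟨ea04, eb04⟩ := e
              exfalso
              have t := Groth.Agent.Helper3.NumType.QT5 T h2 2 0 0 1 1 (by norm_num) (by norm_num)
              linarith only [t, ea03, eb03, ea04, eb04, nn34, hw0, hw3, hw4]
            · obtain ⟨ea04, eb04⟩ := e
              exfalso
              have t := Groth.Agent.Helper3.NumType.QT5 T h2 2 0 0 1 3 (by norm_num) (by norm_num)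
              linarith only [t, ea03, eb03, ea04, eb04, nn34, hw0, hw3, hw4]
        · obtain ⟨ea03, eb03⟩ := e
          rcases eq_or_lt_of_le nn04 with z | hp04
          · have z04 : T.a 0 4 = 0 := z.symm
            rcases eq_or_lt_of_le nn12 with z | hp12
            · have z12 : T.a 1 2 = 0 := z.symm
              exact Groth.Agent.Helper3.NumType.g5_ZZU2ZZ T h2 z01 z02 hp03 ea03 eb03 z04 z12
            · rcases Groth.Agent.Helper3.NumType.edge_casesT T h2 (by norm_num) (p := 1) (q := 2) (by decide) hp12 with e | e | e | e | e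
              · obtain ⟨ea12, eb12⟩ := e
                exact Groth.Agent.Helper3.NumType.g5_ZZU2ZE T h2 z01 z02 hp03 ea03 eb03 z04 hp12 ea12 eb12
              · obtain ⟨ea12, eb12⟩ := e
                exact Groth.Agent.Helper3.NumType.g5_ZZU2ZU2 T h2 z01 z02 hp03 ea03 eb03 z04 hp12 ea12 eb12
              · obtain ⟨ea12, eb12⟩ := e
                exact Groth.Agent.Helper3.NumType.g5_ZZU2ZD2 T h2 z01 z02 hp03 ea03 eb03 z04 hp12 ea12 eb12
              · obtain ⟨ea12, eb12⟩ := e
                exact Groth.Agent.Helper3.NumType.g5_ZZU2ZU3 T h2 z01 z02 hp03 ea03 eb03 z04 hp12 ea12 eb12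
              · obtain ⟨ea12, eb12⟩ := e
                exact Groth.Agent.Helper3.NumType.g5_ZZU2ZD3 T h2 z01 z02 hp03 ea03 eb03 z04 hp12 ea12 eb12
          · rcases Groth.Agent.Helper3.NumType.edge_casesT T h2 (by norm_num) (p := 0) (q := 4) (by decide) hp04 with e | e | e | e | e
            · obtain ⟨ea04, eb04⟩ := e
              exact Groth.Agent.Helper3.NumType.g5_ZZU2E T h2 z01 z02 hp03 ea03 eb03 hp04 ea04 eb04
            · obtain ⟨ea04, eb04⟩ := e
              exfalso
              have t := Groth.Agent.Helper3.NumType.QT5 T h2 2 0 0 1 1 (by norm_num) (by norm_num)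
              linarith only [t, ea03, eb03, ea04, eb04, nn34, hw0, hw3, hw4]
            · obtain ⟨ea04, eb04⟩ := e
              exfalso
              have t := Groth.Agent.Helper3.NumType.QT5 T h2 2 0 0 1 2 (by norm_num) (by norm_num)
              linarith only [t, ea03, eb03, ea04, eb04, nn34, hw0, hw3, hw4]
            · obtain ⟨ea04, eb04⟩ := e
              exfalso
              have t := Groth.Agent.Helper3.NumType.QT5 T h2 2 0 0 1 1 (by norm_num) (by norm_num)
              linarith only [t, ea03, eb03, ea04, eb04, nn34, hw0, hw3, hw4]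
            · obtain ⟨ea04, eb04⟩ := e
              exfalso
              have t := Groth.Agent.Helper3.NumType.QT5 T h2 2 0 0 1 2 (by norm_num) (by norm_num)
              linarith only [t, ea03, eb03, ea04, eb04, nn34, hw0, hw3, hw4]
        · obtain ⟨ea03, eb03⟩ := e
          rcases eq_or_lt_of_le nn04 with z | hp04
          · have z04 : T.a 0 4 = 0 := z.symm
            rcases eq_or_lt_of_le nn12 with z | hp12
            · have z12 : T.a 1 2 = 0 := z.symm
              exact Groth.Agent.Helper3.NumType.g5_ZZD2ZZ T h2 z01 z02 hp03 ea03 eb03 z04 z12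
            · rcases Groth.Agent.Helper3.NumType.edge_casesT T h2 (by norm_num) (p := 1) (q := 2) (by decide) hp12 with e | e | e | e | e
              · obtain ⟨ea12, eb12⟩ := e
                exact Groth.Agent.Helper3.NumType.g5_ZZD2ZE T h2 z01 z02 hp03 ea03 eb03 z04 hp12 ea12 eb12
              · obtain ⟨ea12, eb12⟩ := e
                exact Groth.Agent.Helper3.NumType.g5_ZZD2ZU2 T h2 z01 z02 hp03 ea03 eb03 z04 hp12 ea12 eb12
              · obtain ⟨ea12, eb12⟩ := e
                exact Groth.Agent.Helper3.NumType.g5_ZZD2ZD2 T h2 z01 z02 hp03 ea03 eb03 z04 hp12 ea12 eb12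
              · obtain ⟨ea12, eb12⟩ := e
                exact Groth.Agent.Helper3.NumType.g5_ZZD2ZU3 T h2 z01 z02 hp03 ea03 eb03 z04 hp12 ea12 eb12
              · obtain ⟨ea12, eb12⟩ := e
                exact Groth.Agent.Helper3.NumType.g5_ZZD2ZD3 T h2 z01 z02 hp03 ea03 eb03 z04 hp12 ea12 eb12
          · rcases Groth.Agent.Helper3.NumType.edge_casesT T h2 (by norm_num) (p := 0) (q := 4) (by decide) hp04 with e | e | e | e | e
            · obtain ⟨ea04, eb04⟩ := e
              exact Groth.Agent.Helper3.NumType.g5_ZZD2E T h2 z01 z02 hp03 ea03 eb03 hp04 ea04 eb04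
            · obtain ⟨ea04, eb04⟩ := e
              exfalso
              have t := Groth.Agent.Helper3.NumType.QT5 T h2 2 0 0 2 1 (by norm_num) (by norm_num)
              linarith only [t, ea03, eb03, ea04, eb04, nn34, hw0, hw3, hw4]
            · obtain ⟨ea04, eb04⟩ := e
              exfalso
              have t := Groth.Agent.Helper3.NumType.QT5 T h2 1 0 0 1 1 (by norm_num) (by norm_num)
              linarith only [t, ea03, eb03, ea04, eb04, nn34, hw0, hw3, hw4]
            · obtain ⟨ea04, eb04⟩ := e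
              exfalso
              have t := Groth.Agent.Helper3.NumType.QT5 T h2 2 0 0 1 1 (by norm_num) (by norm_num)
              linarith only [t, ea03, eb03, ea04, eb04, nn34, hw0, hw3, hw4]
            · obtain ⟨ea04, eb04⟩ := e
              exfalso
              have t := Groth.Agent.Helper3.NumType.QT5 T h2 1 0 0 1 1 (by norm_num) (by norm_num)
              linarith only [t, ea03, eb03, ea04, eb04, nn34, hw0, hw3, hw4]
        · obtain ⟨ea03, eb03⟩ := e
          exact Groth.Agent.Helper3.NumType.g5_ZZU3 T h2 z01 z02 hp03 ea03 eb03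
        · obtain ⟨ea03, eb03⟩ := e
          exact Groth.Agent.Helper3.NumType.g5_ZZD3 T h2 z01 z02 hp03 ea03 eb03
    · rcases Groth.Agent.Helper3.NumType.edge_casesT T h2 (by norm_num) (p := 0) (q := 2) (by decide) hp02 with e | e | e | e | e
      · obtain ⟨ea02, eb02⟩ := e
        rcases eq_or_lt_of_le nn03 with z | hp03
        · have z03 : T.a 0 3 = 0 := z.symm
          rcases eq_or_lt_of_le nn04 with z | hp04
          · have z04 : T.a 0 4 = 0 := z.symm
            rcases eq_or_lt_of_le nn12 with z | hp12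
            · have z12 : T.a 1 2 = 0 := z.symm
              rcases eq_or_lt_of_le nn13 with z | hp13
              · have z13 : T.a 1 3 = 0 := z.symm
                exact Groth.Agent.Helper3.NumType.g5_ZEZZZZ T h2 z01 hp02 ea02 eb02 z03 z04 z12 z13
              · rcases Groth.Agent.Helper3.NumType.edge_casesT T h2 (by norm_num) (p := 1) (q := 3) (by decide) hp13 with e | e | e | e | e
                · obtain ⟨ea13, eb13⟩ := e
                  exact Groth.Agent.Helper3.NumType.g5_ZEZZZE T h2 z01 hp02 ea02 eb02 z03 z04 z12 hp13 ea13 eb13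
                · obtain ⟨ea13, eb13⟩ := e
                  exact Groth.Agent.Helper3.NumType.g5_ZEZZZU2 T h2 z01 hp02 ea02 eb02 z03 z04 z12 hp13 ea13 eb13
                · obtain ⟨ea13, eb13⟩ := e
                  exact Groth.Agent.Helper3.NumType.g5_ZEZZZD2 T h2 z01 hp02 ea02 eb02 z03 z04 z12 hp13 ea13 eb13
                · obtain ⟨ea13, eb13⟩ := e
                  exact Groth.Agent.Helper3.NumType.g5_ZEZZZU3 T h2 z01 hp02 ea02 eb02 z03 z04 z12 hp13 ea13 eb13
                · obtain ⟨ea13, eb13⟩ := e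
                  exact Groth.Agent.Helper3.NumType.g5_ZEZZZD3 T h2 z01 hp02 ea02 eb02 z03 z04 z12 hp13 ea13 eb13
            · rcases Groth.Agent.Helper3.NumType.edge_casesT T h2 (by norm_num) (p := 1) (q := 2) (by decide) hp12 with e | e | e | e | e
              · obtain ⟨ea12, eb12⟩ := e
                exact Groth.Agent.Helper3.NumType.g5_ZEZZE T h2 z01 hp02 ea02 eb02 z03 z04 hp12 ea12 eb12
              · obtain ⟨ea12, eb12⟩ := e
                exact Groth.Agent.Helper3.NumType.g5_ZEZZU2 T h2 z01 hp02 ea02 eb02 z03 z04 hp12 ea12 eb12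
              · obtain ⟨ea12, eb12⟩ := e
                exact Groth.Agent.Helper3.NumType.g5_ZEZZD2 T h2 z01 hp02 ea02 eb02 z03 z04 hp12 ea12 eb12
              · obtain ⟨ea12, eb12⟩ := e
                exfalso
                have t := Groth.Agent.Helper3.NumType.QT5 T h2 1 3 2 0 0 (by norm_num) (by norm_num)
                linarith only [t, z01, ea02, eb02, ea12, eb12, hw0, hw1, hw2]
              · obtain ⟨ea12, eb12⟩ := e
                exfalso
                have t := Groth.Agent.Helper3.NumType.QT5 T h2 1 1 2 0 0 (by norm_num) (by norm_num)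
                linarith only [t, z01, ea02, eb02, ea12, eb12, hw0, hw1, hw2]
          · rcases Groth.Agent.Helper3.NumType.edge_casesT T h2 (by norm_num) (p := 0) (q := 4) (by decide) hp04 with e | e | e | e | e
            · obtain ⟨ea04, eb04⟩ := e
              rcases eq_or_lt_of_le nn12 with z | hp12
              · have z12 : T.a 1 2 = 0 := z.symm
                rcases eq_or_lt_of_le nn13 with z | hp13
                · have z13 : T.a 1 3 = 0 := z.symm
                  exact Groth.Agent.Helper3.NumType.g5_ZEZEZZ T h2 z01 hp02 ea02 eb02 z03 hp04 ea04 eb04 z12 z13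
                · rcases Groth.Agent.Helper3.NumType.edge_casesT T h2 (by norm_num) (p := 1) (q := 3) (by decide) hp13 with e | e | e | e | e
                  · obtain ⟨ea13, eb13⟩ := e
                    exact Groth.Agent.Helper3.NumType.g5_ZEZEZE T h2 z01 hp02 ea02 eb02 z03 hp04 ea04 eb04 z12 hp13 ea13 eb13
                  · obtain ⟨ea13, eb13⟩ := e
                    exact Groth.Agent.Helper3.NumType.g5_ZEZEZU2 T h2 z01 hp02 ea02 eb02 z03 hp04 ea04 eb04 z12 hp13 ea13 eb13
                  · obtain ⟨ea13, eb13⟩ := e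
                    exact Groth.Agent.Helper3.NumType.g5_ZEZEZD2 T h2 z01 hp02 ea02 eb02 z03 hp04 ea04 eb04 z12 hp13 ea13 eb13
                  · obtain ⟨ea13, eb13⟩ := e
                    exact Groth.Agent.Helper3.NumType.g5_ZEZEZU3 T h2 z01 hp02 ea02 eb02 z03 hp04 ea04 eb04 z12 hp13 ea13 eb13
                  · obtain ⟨ea13, eb13⟩ := e
                    exact Groth.Agent.Helper3.NumType.g5_ZEZEZD3 T h2 z01 hp02 ea02 eb02 z03 hp04 ea04 eb04 z12 hp13 ea13 eb13
              · rcases Groth.Agent.Helper3.NumType.edge_casesT T h2 (by norm_num) (p := 1) (q := 2) (by decide) hp12 with e | e | e | e | e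
                · obtain ⟨ea12, eb12⟩ := e
                  exact Groth.Agent.Helper3.NumType.g5_ZEZEE T h2 z01 hp02 ea02 eb02 z03 hp04 ea04 eb04 hp12 ea12 eb12
                · obtain ⟨ea12, eb12⟩ := e
                  exact Groth.Agent.Helper3.NumType.g5_ZEZEU2 T h2 z01 hp02 ea02 eb02 z03 hp04 ea04 eb04 hp12 ea12 eb12
                · obtain ⟨ea12, eb12⟩ := e
                  exact Groth.Agent.Helper3.NumType.g5_ZEZED2 T h2 z01 hp02 ea02 eb02 z03 hp04 ea04 eb04 hp12 ea12 eb12
                · obtain ⟨ea12, eb12⟩ := e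
                  exfalso
                  have t := Groth.Agent.Helper3.NumType.QT5 T h2 1 3 2 0 0 (by norm_num) (by norm_num)
                  linarith only [t, z01, ea02, eb02, ea12, eb12, hw0, hw1, hw2]
                · obtain ⟨ea12, eb12⟩ := e
                  exfalso
                  have t := Groth.Agent.Helper3.NumType.QT5 T h2 1 1 2 0 0 (by norm_num) (by norm_num)
                  linarith only [t, z01, ea02, eb02, ea12, eb12, hw0, hw1, hw2]
            · obtain ⟨ea04, eb04⟩ := e
              exact Groth.Agent.Helper3.NumType.g5_ZEZU2 T h2 z01 hp02 ea02 eb02 z03 hp04 ea04 eb04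
            · obtain ⟨ea04, eb04⟩ := e
              exact Groth.Agent.Helper3.NumType.g5_ZEZD2 T h2 z01 hp02 ea02 eb02 z03 hp04 ea04 eb04
            · obtain ⟨ea04, eb04⟩ := e
              exfalso
              have t := Groth.Agent.Helper3.NumType.QT5 T h2 2 0 1 0 1 (by norm_num) (by norm_num)
              linarith only [t, ea02, eb02, ea04, eb04, nn24, hw0, hw2, hw4]
            · obtain ⟨ea04, eb04⟩ := e
              exfalso
              have t := Groth.Agent.Helper3.NumType.QT5 T h2 2 0 1 0 3 (by norm_num) (by norm_num)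
              linarith only [t, ea02, eb02, ea04, eb04, nn24, hw0, hw2, hw4]
        · rcases Groth.Agent.Helper3.NumType.edge_casesT T h2 (by norm_num) (p := 0) (q := 3) (by decide) hp03 with e | e | e | e | e
          · obtain ⟨ea03, eb03⟩ := e
            rcases eq_or_lt_of_le nn04 with z | hp04
            · have z04 : T.a 0 4 = 0 := z.symm
              rcases eq_or_lt_of_le nn12 with z | hp12
              · have z12 : T.a 1 2 = 0 := z.symm
                exact Groth.Agent.Helper3.NumType.g5_ZEEZZ T h2 z01 hp02 ea02 eb02 hp03 ea03 eb03 z04 z12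
              · rcases Groth.Agent.Helper3.NumType.edge_casesT T h2 (by norm_num) (p := 1) (q := 2) (by decide) hp12 with e | e | e | e | e
                · obtain ⟨ea12, eb12⟩ := e
                  exact Groth.Agent.Helper3.NumType.g5_ZEEZE T h2 z01 hp02 ea02 eb02 hp03 ea03 eb03 z04 hp12 ea12 eb12
                · obtain ⟨ea12, eb12⟩ := e
                  exact Groth.Agent.Helper3.NumType.g5_ZEEZU2 T h2 z01 hp02 ea02 eb02 hp03 ea03 eb03 z04 hp12 ea12 eb12
                · obtain ⟨ea12, eb12⟩ := e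
                  exact Groth.Agent.Helper3.NumType.g5_ZEEZD2 T h2 z01 hp02 ea02 eb02 hp03 ea03 eb03 z04 hp12 ea12 eb12
                · obtain ⟨ea12, eb12⟩ := e
                  exfalso
                  have t := Groth.Agent.Helper3.NumType.QT5 T h2 1 3 2 0 0 (by norm_num) (by norm_num)
                  linarith only [t, z01, ea02, eb02, ea12, eb12, hw0, hw1, hw2]
                · obtain ⟨ea12, eb12⟩ := e
                  exfalso
                  have t := Groth.Agent.Helper3.NumType.QT5 T h2 1 1 2 0 0 (by norm_num) (by norm_num)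
                  linarith only [t, z01, ea02, eb02, ea12, eb12, hw0, hw1, hw2]
            · rcases Groth.Agent.Helper3.NumType.edge_casesT T h2 (by norm_num) (p := 0) (q := 4) (by decide) hp04 with e | e | e | e | e
              · obtain ⟨ea04, eb04⟩ := e
                exact Groth.Agent.Helper3.NumType.g5_ZEEE T h2 z01 hp02 ea02 eb02 hp03 ea03 eb03 hp04 ea04 eb04
              · obtain ⟨ea04, eb04⟩ := e
                exfalso
                have t := Groth.Agent.Helper3.NumType.QT5 T h2 2 0 1 1 1 (by norm_num) (by norm_num)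
                linarith only [t, ea02, eb02, ea03, eb03, ea04, eb04, nn23, nn24, nn34, hw0, hw2, hw3, hw4]
              · obtain ⟨ea04, eb04⟩ := e
                exfalso
                have t := Groth.Agent.Helper3.NumType.QT5 T h2 2 0 1 1 2 (by norm_num) (by norm_num)
                linarith only [t, ea02, eb02, ea03, eb03, ea04, eb04, nn23, nn24, nn34, hw0, hw2, hw3, hw4]
              · obtain ⟨ea04, eb04⟩ := e
                exfalso
                have t := Groth.Agent.Helper3.NumType.QT5 T h2 2 0 1 0 1 (by norm_num) (by norm_num)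
                linarith only [t, ea02, eb02, ea04, eb04, nn24, hw0, hw2, hw4]
              · obtain ⟨ea04, eb04⟩ := e
                exfalso
                have t := Groth.Agent.Helper3.NumType.QT5 T h2 2 0 1 0 3 (by norm_num) (by norm_num)
                linarith only [t, ea02, eb02, ea04, eb04, nn24, hw0, hw2, hw4]
          · obtain ⟨ea03, eb03⟩ := e
            exact Groth.Agent.Helper3.NumType.g5_ZEU2 T h2 z01 hp02 ea02 eb02 hp03 ea03 eb03
          · obtain ⟨ea03, eb03⟩ := e
            exact Groth.Agent.Helper3.NumType.g5_ZED2 T h2 z01 hp02 ea02 eb02 hp03 ea03 eb03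
          · obtain ⟨ea03, eb03⟩ := e
            exfalso
            have t := Groth.Agent.Helper3.NumType.QT5 T h2 2 0 1 1 0 (by norm_num) (by norm_num)
            linarith only [t, ea02, eb02, ea03, eb03, nn23, hw0, hw2, hw3]
          · obtain ⟨ea03, eb03⟩ := e
            exfalso
            have t := Groth.Agent.Helper3.NumType.QT5 T h2 2 0 1 3 0 (by norm_num) (by norm_num)
            linarith only [t, ea02, eb02, ea03, eb03, nn23, hw0, hw2, hw3]
      · obtain ⟨ea02, eb02⟩ := e
        rcases eq_or_lt_of_le nn03 with z | hp03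
        · have z03 : T.a 0 3 = 0 := z.symm
          rcases eq_or_lt_of_le nn04 with z | hp04
          · have z04 : T.a 0 4 = 0 := z.symm
            rcases eq_or_lt_of_le nn12 with z | hp12
            · have z12 : T.a 1 2 = 0 := z.symm
              exact Groth.Agent.Helper3.NumType.g5_ZU2ZZZ T h2 z01 hp02 ea02 eb02 z03 z04 z12
            · rcases Groth.Agent.Helper3.NumType.edge_casesT T h2 (by norm_num) (p := 1) (q := 2) (by decide) hp12 with e | e | e | e | e
              · obtain ⟨ea12, eb12⟩ := e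
                exact Groth.Agent.Helper3.NumType.g5_ZU2ZZE T h2 z01 hp02 ea02 eb02 z03 z04 hp12 ea12 eb12
              · obtain ⟨ea12, eb12⟩ := e
                exfalso
                have t := Groth.Agent.Helper3.NumType.QT5 T h2 1 1 1 0 0 (by norm_num) (by norm_num)
                linarith only [t, z01, ea02, eb02, ea12, eb12, hw0, hw1, hw2]
              · obtain ⟨ea12, eb12⟩ := e
                exfalso
                have t := Groth.Agent.Helper3.NumType.QT5 T h2 2 1 2 0 0 (by norm_num) (by norm_num)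
                linarith only [t, z01, ea02, eb02, ea12, eb12, hw0, hw1, hw2]
              · obtain ⟨ea12, eb12⟩ := e
                exfalso
                have t := Groth.Agent.Helper3.NumType.QT5 T h2 1 1 1 0 0 (by norm_num) (by norm_num)
                linarith only [t, z01, ea02, eb02, ea12, eb12, hw0, hw1, hw2]
              · obtain ⟨ea12, eb12⟩ := e
                exfalso
                have t := Groth.Agent.Helper3.NumType.QT5 T h2 1 1 2 0 0 (by norm_num) (by norm_num)
                linarith only [t, z01, ea02, eb02, ea12, eb12, hw0, hw1, hw2]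
          · rcases Groth.Agent.Helper3.NumType.edge_casesT T h2 (by norm_num) (p := 0) (q := 4) (by decide) hp04 with e | e | e | e | e
            · obtain ⟨ea04, eb04⟩ := e
              exact Groth.Agent.Helper3.NumType.g5_ZU2ZE T h2 z01 hp02 ea02 eb02 z03 hp04 ea04 eb04
            · obtain ⟨ea04, eb04⟩ := e
              exfalso
              have t := Groth.Agent.Helper3.NumType.QT5 T h2 2 0 1 0 1 (by norm_num) (by norm_num)
              linarith only [t, ea02, eb02, ea04, eb04, nn24, hw0, hw2, hw4]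
            · obtain ⟨ea04, eb04⟩ := e
              exfalso
              have t := Groth.Agent.Helper3.NumType.QT5 T h2 2 0 1 0 2 (by norm_num) (by norm_num)
              linarith only [t, ea02, eb02, ea04, eb04, nn24, hw0, hw2, hw4]
            · obtain ⟨ea04, eb04⟩ := e
              exfalso
              have t := Groth.Agent.Helper3.NumType.QT5 T h2 2 0 1 0 1 (by norm_num) (by norm_num)
              linarith only [t, ea02, eb02, ea04, eb04, nn24, hw0, hw2, hw4]
            · obtain ⟨ea04, eb04⟩ := e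
              exfalso
              have t := Groth.Agent.Helper3.NumType.QT5 T h2 2 0 1 0 2 (by norm_num) (by norm_num)
              linarith only [t, ea02, eb02, ea04, eb04, nn24, hw0, hw2, hw4]
        · rcases Groth.Agent.Helper3.NumType.edge_casesT T h2 (by norm_num) (p := 0) (q := 3) (by decide) hp03 with e | e | e | e | e
          · obtain ⟨ea03, eb03⟩ := e
            exact Groth.Agent.Helper3.NumType.g5_ZU2E T h2 z01 hp02 ea02 eb02 hp03 ea03 eb03
          · obtain ⟨ea03, eb03⟩ := e
            exfalso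
            have t := Groth.Agent.Helper3.NumType.QT5 T h2 2 0 1 1 0 (by norm_num) (by norm_num)
            linarith only [t, ea02, eb02, ea03, eb03, nn23, hw0, hw2, hw3]
          · obtain ⟨ea03, eb03⟩ := e
            exfalso
            have t := Groth.Agent.Helper3.NumType.QT5 T h2 2 0 1 2 0 (by norm_num) (by norm_num)
            linarith only [t, ea02, eb02, ea03, eb03, nn23, hw0, hw2, hw3]
          · obtain ⟨ea03, eb03⟩ := e
            exfalso
            have t := Groth.Agent.Helper3.NumType.QT5 T h2 2 0 1 1 0 (by norm_num) (by norm_num)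
            linarith only [t, ea02, eb02, ea03, eb03, nn23, hw0, hw2, hw3]
          · obtain ⟨ea03, eb03⟩ := e
            exfalso
            have t := Groth.Agent.Helper3.NumType.QT5 T h2 2 0 1 2 0 (by norm_num) (by norm_num)
            linarith only [t, ea02, eb02, ea03, eb03, nn23, hw0, hw2, hw3]
      · obtain ⟨ea02, eb02⟩ := e
        rcases eq_or_lt_of_le nn03 with z | hp03
        · have z03 : T.a 0 3 = 0 := z.symm
          rcases eq_or_lt_of_le nn04 with z | hp04
          · have z04 : T.a 0 4 = 0 := z.symm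
            rcases eq_or_lt_of_le nn12 with z | hp12
            · have z12 : T.a 1 2 = 0 := z.symm
              exact Groth.Agent.Helper3.NumType.g5_ZD2ZZZ T h2 z01 hp02 ea02 eb02 z03 z04 z12
            · rcases Groth.Agent.Helper3.NumType.edge_casesT T h2 (by norm_num) (p := 1) (q := 2) (by decide) hp12 with e | e | e | e | e
              · obtain ⟨ea12, eb12⟩ := e
                exact Groth.Agent.Helper3.NumType.g5_ZD2ZZE T h2 z01 hp02 ea02 eb02 z03 z04 hp12 ea12 eb12
              · obtain ⟨ea12, eb12⟩ := e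
                exfalso
                have t := Groth.Agent.Helper3.NumType.QT5 T h2 1 2 2 0 0 (by norm_num) (by norm_num)
                linarith only [t, z01, ea02, eb02, ea12, eb12, hw0, hw1, hw2]
              · obtain ⟨ea12, eb12⟩ := e
                exfalso
                have t := Groth.Agent.Helper3.NumType.QT5 T h2 1 1 2 0 0 (by norm_num) (by norm_num)
                linarith only [t, z01, ea02, eb02, ea12, eb12, hw0, hw1, hw2]
              · obtain ⟨ea12, eb12⟩ := e
                exfalso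
                have t := Groth.Agent.Helper3.NumType.QT5 T h2 1 2 2 0 0 (by norm_num) (by norm_num)
                linarith only [t, z01, ea02, eb02, ea12, eb12, hw0, hw1, hw2]
              · obtain ⟨ea12, eb12⟩ := e
                exfalso
                have t := Groth.Agent.Helper3.NumType.QT5 T h2 1 1 2 0 0 (by norm_num) (by norm_num)
                linarith only [t, z01, ea02, eb02, ea12, eb12, hw0, hw1, hw2]
          · rcases Groth.Agent.Helper3.NumType.edge_casesT T h2 (by norm_num) (p := 0) (q := 4) (by decide) hp04 with e | e | e | e | e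
            · obtain ⟨ea04, eb04⟩ := e
              exact Groth.Agent.Helper3.NumType.g5_ZD2ZE T h2 z01 hp02 ea02 eb02 z03 hp04 ea04 eb04
            · obtain ⟨ea04, eb04⟩ := e
              exfalso
              have t := Groth.Agent.Helper3.NumType.QT5 T h2 2 0 2 0 1 (by norm_num) (by norm_num)
              linarith only [t, ea02, eb02, ea04, eb04, nn24, hw0, hw2, hw4]
            · obtain ⟨ea04, eb04⟩ := e
              exfalso
              have t := Groth.Agent.Helper3.NumType.QT5 T h2 1 0 1 0 1 (by norm_num) (by norm_num)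
              linarith only [t, ea02, eb02, ea04, eb04, nn24, hw0, hw2, hw4]
            · obtain ⟨ea04, eb04⟩ := e
              exfalso
              have t := Groth.Agent.Helper3.NumType.QT5 T h2 2 0 1 0 1 (by norm_num) (by norm_num)
              linarith only [t, ea02, eb02, ea04, eb04, nn24, hw0, hw2, hw4]
            · obtain ⟨ea04, eb04⟩ := e
              exfalso
              have t := Groth.Agent.Helper3.NumType.QT5 T h2 1 0 1 0 1 (by norm_num) (by norm_num)
              linarith only [t, ea02, eb02, ea04, eb04, nn24, hw0, hw2, hw4]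
        · rcases Groth.Agent.Helper3.NumType.edge_casesT T h2 (by norm_num) (p := 0) (q := 3) (by decide) hp03 with e | e | e | e | e
          · obtain ⟨ea03, eb03⟩ := e
            exact Groth.Agent.Helper3.NumType.g5_ZD2E T h2 z01 hp02 ea02 eb02 hp03 ea03 eb03
          · obtain ⟨ea03, eb03⟩ := e
            exfalso
            have t := Groth.Agent.Helper3.NumType.QT5 T h2 2 0 2 1 0 (by norm_num) (by norm_num)
            linarith only [t, ea02, eb02, ea03, eb03, nn23, hw0, hw2, hw3]
          · obtain ⟨ea03, eb03⟩ := e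
            exfalso
            have t := Groth.Agent.Helper3.NumType.QT5 T h2 1 0 1 1 0 (by norm_num) (by norm_num)
            linarith only [t, ea02, eb02, ea03, eb03, nn23, hw0, hw2, hw3]
          · obtain ⟨ea03, eb03⟩ := e
            exfalso
            have t := Groth.Agent.Helper3.NumType.QT5 T h2 2 0 1 1 0 (by norm_num) (by norm_num)
            linarith only [t, ea02, eb02, ea03, eb03, nn23, hw0, hw2, hw3]
          · obtain ⟨ea03, eb03⟩ := e
            exfalso
            have t := Groth.Agent.Helper3.NumType.QT5 T h2 1 0 1 1 0 (by norm_num) (by norm_num)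
            linarith only [t, ea02, eb02, ea03, eb03, nn23, hw0, hw2, hw3]
      · obtain ⟨ea02, eb02⟩ := e
        exact Groth.Agent.Helper3.NumType.g5_ZU3 T h2 z01 hp02 ea02 eb02
      · obtain ⟨ea02, eb02⟩ := e
        exact Groth.Agent.Helper3.NumType.g5_ZD3 T h2 z01 hp02 ea02 eb02
  · rcases Groth.Agent.Helper3.NumType.edge_casesT T h2 (by norm_num) (p := 0) (q := 1) (by decide) hp01 with e | e | e | e | e
    · obtain ⟨ea01, eb01⟩ := e
      rcases eq_or_lt_of_le nn02 with z | hp02
      · have z02 : T.a 0 2 = 0 := z.symm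
        rcases eq_or_lt_of_le nn03 with z | hp03
        · have z03 : T.a 0 3 = 0 := z.symm
          rcases eq_or_lt_of_le nn04 with z | hp04
          · have z04 : T.a 0 4 = 0 := z.symm
            rcases eq_or_lt_of_le nn12 with z | hp12
            · have z12 : T.a 1 2 = 0 := z.symm
              rcases eq_or_lt_of_le nn13 with z | hp13
              · have z13 : T.a 1 3 = 0 := z.symm
                exact Groth.Agent.Helper3.NumType.g5_EZZZZZ T h2 hp01 ea01 eb01 z02 z03 z04 z12 z13
              · rcases Groth.Agent.Helper3.NumType.edge_casesT T h2 (by norm_num) (p := 1) (q := 3) (by decide) hp13 with e | e | e | e | e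
                · obtain ⟨ea13, eb13⟩ := e
                  exact Groth.Agent.Helper3.NumType.g5_EZZZZE T h2 hp01 ea01 eb01 z02 z03 z04 z12 hp13 ea13 eb13
                · obtain ⟨ea13, eb13⟩ := e
                  exact Groth.Agent.Helper3.NumType.g5_EZZZZU2 T h2 hp01 ea01 eb01 z02 z03 z04 z12 hp13 ea13 eb13
                · obtain ⟨ea13, eb13⟩ := e
                  exact Groth.Agent.Helper3.NumType.g5_EZZZZD2 T h2 hp01 ea01 eb01 z02 z03 z04 z12 hp13 ea13 eb13
                · obtain ⟨ea13, eb13⟩ := e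
                  exfalso
                  have t := Groth.Agent.Helper3.NumType.QT5 T h2 1 2 0 1 0 (by norm_num) (by norm_num)
                  linarith only [t, ea01, eb01, z03, ea13, eb13, hw0, hw1, hw3]
                · obtain ⟨ea13, eb13⟩ := e
                  exfalso
                  have t := Groth.Agent.Helper3.NumType.QT5 T h2 1 2 0 3 0 (by norm_num) (by norm_num)
                  linarith only [t, ea01, eb01, z03, ea13, eb13, hw0, hw1, hw3]
            · rcases Groth.Agent.Helper3.NumType.edge_casesT T h2 (by norm_num) (p := 1) (q := 2) (by decide) hp12 with e | e | e | e | e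
              · obtain ⟨ea12, eb12⟩ := e
                exact Groth.Agent.Helper3.NumType.g5_EZZZE T h2 hp01 ea01 eb01 z02 z03 z04 hp12 ea12 eb12
              · obtain ⟨ea12, eb12⟩ := e
                exact Groth.Agent.Helper3.NumType.g5_EZZZU2 T h2 hp01 ea01 eb01 z02 z03 z04 hp12 ea12 eb12
              · obtain ⟨ea12, eb12⟩ := e
                exact Groth.Agent.Helper3.NumType.g5_EZZZD2 T h2 hp01 ea01 eb01 z02 z03 z04 hp12 ea12 eb12
              · obtain ⟨ea12, eb12⟩ := e
                exfalso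
                have t := Groth.Agent.Helper3.NumType.QT5 T h2 1 2 1 0 0 (by norm_num) (by norm_num)
                linarith only [t, ea01, eb01, z02, ea12, eb12, hw0, hw1, hw2]
              · obtain ⟨ea12, eb12⟩ := e
                exfalso
                have t := Groth.Agent.Helper3.NumType.QT5 T h2 1 2 3 0 0 (by norm_num) (by norm_num)
                linarith only [t, ea01, eb01, z02, ea12, eb12, hw0, hw1, hw2]
          · rcases Groth.Agent.Helper3.NumType.edge_casesT T h2 (by norm_num) (p := 0) (q := 4) (by decide) hp04 with e | e | e | e | e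
            · obtain ⟨ea04, eb04⟩ := e
              rcases eq_or_lt_of_le nn12 with z | hp12
              · have z12 : T.a 1 2 = 0 := z.symm
                exact Groth.Agent.Helper3.NumType.g5_EZZEZ T h2 hp01 ea01 eb01 z02 z03 hp04 ea04 eb04 z12
              · rcases Groth.Agent.Helper3.NumType.edge_casesT T h2 (by norm_num) (p := 1) (q := 2) (by decide) hp12 with e | e | e | e | e
                · obtain ⟨ea12, eb12⟩ := e
                  exact Groth.Agent.Helper3.NumType.g5_EZZEE T h2 hp01 ea01 eb01 z02 z03 hp04 ea04 eb04 hp12 ea12 eb12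
                · obtain ⟨ea12, eb12⟩ := e
                  exact Groth.Agent.Helper3.NumType.g5_EZZEU2 T h2 hp01 ea01 eb01 z02 z03 hp04 ea04 eb04 hp12 ea12 eb12
                · obtain ⟨ea12, eb12⟩ := e
                  exact Groth.Agent.Helper3.NumType.g5_EZZED2 T h2 hp01 ea01 eb01 z02 z03 hp04 ea04 eb04 hp12 ea12 eb12
                · obtain ⟨ea12, eb12⟩ := e
                  exfalso
                  have t := Groth.Agent.Helper3.NumType.QT5 T h2 1 2 1 0 0 (by norm_num) (by norm_num)
                  linarith only [t, ea01, eb01, z02, ea12, eb12, hw0, hw1, hw2]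
                · obtain ⟨ea12, eb12⟩ := e
                  exfalso
                  have t := Groth.Agent.Helper3.NumType.QT5 T h2 1 2 3 0 0 (by norm_num) (by norm_num)
                  linarith only [t, ea01, eb01, z02, ea12, eb12, hw0, hw1, hw2]
            · obtain ⟨ea04, eb04⟩ := e
              exact Groth.Agent.Helper3.NumType.g5_EZZU2 T h2 hp01 ea01 eb01 z02 z03 hp04 ea04 eb04
            · obtain ⟨ea04, eb04⟩ := e
              exact Groth.Agent.Helper3.NumType.g5_EZZD2 T h2 hp01 ea01 eb01 z02 z03 hp04 ea04 eb04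
            · obtain ⟨ea04, eb04⟩ := e
              exfalso
              have t := Groth.Agent.Helper3.NumType.QT5 T h2 2 1 0 0 1 (by norm_num) (by norm_num)
              linarith only [t, ea01, eb01, ea04, eb04, nn14, hw0, hw1, hw4]
            · obtain ⟨ea04, eb04⟩ := e
              exfalso
              have t := Groth.Agent.Helper3.NumType.QT5 T h2 2 1 0 0 3 (by norm_num) (by norm_num)
              linarith only [t, ea01, eb01, ea04, eb04, nn14, hw0, hw1, hw4]
        · rcases Groth.Agent.Helper3.NumType.edge_casesT T h2 (by norm_num) (p := 0) (q := 3) (by decide) hp03 with e | e | e | e | e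
          · obtain ⟨ea03, eb03⟩ := e
            rcases eq_or_lt_of_le nn04 with z | hp04
            · have z04 : T.a 0 4 = 0 := z.symm
              rcases eq_or_lt_of_le nn12 with z | hp12
              · have z12 : T.a 1 2 = 0 := z.symm
                exact Groth.Agent.Helper3.NumType.g5_EZEZZ T h2 hp01 ea01 eb01 z02 hp03 ea03 eb03 z04 z12
              · rcases Groth.Agent.Helper3.NumType.edge_casesT T h2 (by norm_num) (p := 1) (q := 2) (by decide) hp12 with e | e | e | e | e
                · obtain ⟨ea12, eb12⟩ := e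
                  exact Groth.Agent.Helper3.NumType.g5_EZEZE T h2 hp01 ea01 eb01 z02 hp03 ea03 eb03 z04 hp12 ea12 eb12
                · obtain ⟨ea12, eb12⟩ := e
                  exact Groth.Agent.Helper3.NumType.g5_EZEZU2 T h2 hp01 ea01 eb01 z02 hp03 ea03 eb03 z04 hp12 ea12 eb12
                · obtain ⟨ea12, eb12⟩ := e
                  exact Groth.Agent.Helper3.NumType.g5_EZEZD2 T h2 hp01 ea01 eb01 z02 hp03 ea03 eb03 z04 hp12 ea12 eb12
                · obtain ⟨ea12, eb12⟩ := e
                  exfalso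
                  have t := Groth.Agent.Helper3.NumType.QT5 T h2 1 2 1 0 0 (by norm_num) (by norm_num)
                  linarith only [t, ea01, eb01, z02, ea12, eb12, hw0, hw1, hw2]
                · obtain ⟨ea12, eb12⟩ := e
                  exfalso
                  have t := Groth.Agent.Helper3.NumType.QT5 T h2 1 2 3 0 0 (by norm_num) (by norm_num)
                  linarith only [t, ea01, eb01, z02, ea12, eb12, hw0, hw1, hw2]
            · rcases Groth.Agent.Helper3.NumType.edge_casesT T h2 (by norm_num) (p := 0) (q := 4) (by decide) hp04 with e | e | e | e | e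
              · obtain ⟨ea04, eb04⟩ := e
                exact Groth.Agent.Helper3.NumType.g5_EZEE T h2 hp01 ea01 eb01 z02 hp03 ea03 eb03 hp04 ea04 eb04
              · obtain ⟨ea04, eb04⟩ := e
                exfalso
                have t := Groth.Agent.Helper3.NumType.QT5 T h2 2 1 0 1 1 (by norm_num) (by norm_num)
                linarith only [t, ea01, eb01, ea03, eb03, ea04, eb04, nn13, nn14, nn34, hw0, hw1, hw3, hw4]
              · obtain ⟨ea04, eb04⟩ := e
                exfalso
                have t := Groth.Agent.Helper3.NumType.QT5 T h2 2 1 0 1 2 (by norm_num) (by norm_num)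
                linarith only [t, ea01, eb01, ea03, eb03, ea04, eb04, nn13, nn14, nn34, hw0, hw1, hw3, hw4]
              · obtain ⟨ea04, eb04⟩ := e
                exfalso
                have t := Groth.Agent.Helper3.NumType.QT5 T h2 2 1 0 0 1 (by norm_num) (by norm_num)
                linarith only [t, ea01, eb01, ea04, eb04, nn14, hw0, hw1, hw4]
              · obtain ⟨ea04, eb04⟩ := e
                exfalso
                have t := Groth.Agent.Helper3.NumType.QT5 T h2 2 1 0 0 3 (by norm_num) (by norm_num)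
                linarith only [t, ea01, eb01, ea04, eb04, nn14, hw0, hw1, hw4]
          · obtain ⟨ea03, eb03⟩ := e
            exact Groth.Agent.Helper3.NumType.g5_EZU2 T h2 hp01 ea01 eb01 z02 hp03 ea03 eb03
          · obtain ⟨ea03, eb03⟩ := e
            exact Groth.Agent.Helper3.NumType.g5_EZD2 T h2 hp01 ea01 eb01 z02 hp03 ea03 eb03
          · obtain ⟨ea03, eb03⟩ := e
            exfalso
            have t := Groth.Agent.Helper3.NumType.QT5 T h2 2 1 0 1 0 (by norm_num) (by norm_num)
            linarith only [t, ea01, eb01, ea03, eb03, nn13, hw0, hw1, hw3]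
          · obtain ⟨ea03, eb03⟩ := e
            exfalso
            have t := Groth.Agent.Helper3.NumType.QT5 T h2 2 1 0 3 0 (by norm_num) (by norm_num)
            linarith only [t, ea01, eb01, ea03, eb03, nn13, hw0, hw1, hw3]
      · rcases Groth.Agent.Helper3.NumType.edge_casesT T h2 (by norm_num) (p := 0) (q := 2) (by decide) hp02 with e | e | e | e | e
        · obtain ⟨ea02, eb02⟩ := e
          rcases eq_or_lt_of_le nn03 with z | hp03
          · have z03 : T.a 0 3 = 0 := z.symm
            rcases eq_or_lt_of_le nn04 with z | hp04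
            · have z04 : T.a 0 4 = 0 := z.symm
              exact Groth.Agent.Helper3.NumType.g5_EEZZ T h2 hp01 ea01 eb01 hp02 ea02 eb02 z03 z04
            · rcases Groth.Agent.Helper3.NumType.edge_casesT T h2 (by norm_num) (p := 0) (q := 4) (by decide) hp04 with e | e | e | e | e
              · obtain ⟨ea04, eb04⟩ := e
                exact Groth.Agent.Helper3.NumType.g5_EEZE T h2 hp01 ea01 eb01 hp02 ea02 eb02 z03 hp04 ea04 eb04
              · obtain ⟨ea04, eb04⟩ := e
                exfalso
                have t := Groth.Agent.Helper3.NumType.QT5 T h2 2 1 1 0 1 (by norm_num) (by norm_num)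
                linarith only [t, ea01, eb01, ea02, eb02, ea04, eb04, nn12, nn14, nn24, hw0, hw1, hw2, hw4]
              · obtain ⟨ea04, eb04⟩ := e
                exfalso
                have t := Groth.Agent.Helper3.NumType.QT5 T h2 2 1 1 0 2 (by norm_num) (by norm_num)
                linarith only [t, ea01, eb01, ea02, eb02, ea04, eb04, nn12, nn14, nn24, hw0, hw1, hw2, hw4]
              · obtain ⟨ea04, eb04⟩ := e
                exfalso
                have t := Groth.Agent.Helper3.NumType.QT5 T h2 2 1 0 0 1 (by norm_num) (by norm_num)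
                linarith only [t, ea01, eb01, ea04, eb04, nn14, hw0, hw1, hw4]
              · obtain ⟨ea04, eb04⟩ := e
                exfalso
                have t := Groth.Agent.Helper3.NumType.QT5 T h2 2 1 0 0 3 (by norm_num) (by norm_num)
                linarith only [t, ea01, eb01, ea04, eb04, nn14, hw0, hw1, hw4]
          · rcases Groth.Agent.Helper3.NumType.edge_casesT T h2 (by norm_num) (p := 0) (q := 3) (by decide) hp03 with e | e | e | e | e
            · obtain ⟨ea03, eb03⟩ := e
              exact Groth.Agent.Helper3.NumType.g5_EEE T h2 hp01 ea01 eb01 hp02 ea02 eb02 hp03 ea03 eb03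
            · obtain ⟨ea03, eb03⟩ := e
              exfalso
              have t := Groth.Agent.Helper3.NumType.QT5 T h2 2 1 1 1 0 (by norm_num) (by norm_num)
              linarith only [t, ea01, eb01, ea02, eb02, ea03, eb03, nn12, nn13, nn23, hw0, hw1, hw2, hw3]
            · obtain ⟨ea03, eb03⟩ := e
              exfalso
              have t := Groth.Agent.Helper3.NumType.QT5 T h2 2 1 1 2 0 (by norm_num) (by norm_num)
              linarith only [t, ea01, eb01, ea02, eb02, ea03, eb03, nn12, nn13, nn23, hw0, hw1, hw2, hw3]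
            · obtain ⟨ea03, eb03⟩ := e
              exfalso
              have t := Groth.Agent.Helper3.NumType.QT5 T h2 2 1 0 1 0 (by norm_num) (by norm_num)
              linarith only [t, ea01, eb01, ea03, eb03, nn13, hw0, hw1, hw3]
            · obtain ⟨ea03, eb03⟩ := e
              exfalso
              have t := Groth.Agent.Helper3.NumType.QT5 T h2 2 1 0 3 0 (by norm_num) (by norm_num)
              linarith only [t, ea01, eb01, ea03, eb03, nn13, hw0, hw1, hw3]
        · obtain ⟨ea02, eb02⟩ := e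
          exact Groth.Agent.Helper3.NumType.g5_EU2 T h2 hp01 ea01 eb01 hp02 ea02 eb02
        · obtain ⟨ea02, eb02⟩ := e
          exact Groth.Agent.Helper3.NumType.g5_ED2 T h2 hp01 ea01 eb01 hp02 ea02 eb02
        · obtain ⟨ea02, eb02⟩ := e
          exfalso
          have t := Groth.Agent.Helper3.NumType.QT5 T h2 2 1 1 0 0 (by norm_num) (by norm_num)
          linarith only [t, ea01, eb01, ea02, eb02, nn12, hw0, hw1, hw2]
        · obtain ⟨ea02, eb02⟩ := e
          exfalso
          have t := Groth.Agent.Helper3.NumType.QT5 T h2 2 1 3 0 0 (by norm_num) (by norm_num)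
          linarith only [t, ea01, eb01, ea02, eb02, nn12, hw0, hw1, hw2]
    · obtain ⟨ea01, eb01⟩ := e
      rcases eq_or_lt_of_le nn02 with z | hp02
      · have z02 : T.a 0 2 = 0 := z.symm
        rcases eq_or_lt_of_le nn03 with z | hp03
        · have z03 : T.a 0 3 = 0 := z.symm
          exact Groth.Agent.Helper3.NumType.g5_U2ZZ T h2 hp01 ea01 eb01 z02 z03
        · rcases Groth.Agent.Helper3.NumType.edge_casesT T h2 (by norm_num) (p := 0) (q := 3) (by decide) hp03 with e | e | e | e | e
          · obtain ⟨ea03, eb03⟩ := e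
            exact Groth.Agent.Helper3.NumType.g5_U2ZE T h2 hp01 ea01 eb01 z02 hp03 ea03 eb03
          · obtain ⟨ea03, eb03⟩ := e
            exfalso
            have t := Groth.Agent.Helper3.NumType.QT5 T h2 2 1 0 1 0 (by norm_num) (by norm_num)
            linarith only [t, ea01, eb01, ea03, eb03, nn13, hw0, hw1, hw3]
          · obtain ⟨ea03, eb03⟩ := e
            exfalso
            have t := Groth.Agent.Helper3.NumType.QT5 T h2 2 1 0 2 0 (by norm_num) (by norm_num)
            linarith only [t, ea01, eb01, ea03, eb03, nn13, hw0, hw1, hw3]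
          · obtain ⟨ea03, eb03⟩ := e
            exfalso
            have t := Groth.Agent.Helper3.NumType.QT5 T h2 2 1 0 1 0 (by norm_num) (by norm_num)
            linarith only [t, ea01, eb01, ea03, eb03, nn13, hw0, hw1, hw3]
          · obtain ⟨ea03, eb03⟩ := e
            exfalso
            have t := Groth.Agent.Helper3.NumType.QT5 T h2 2 1 0 2 0 (by norm_num) (by norm_num)
            linarith only [t, ea01, eb01, ea03, eb03, nn13, hw0, hw1, hw3]
      · rcases Groth.Agent.Helper3.NumType.edge_casesT T h2 (by norm_num) (p := 0) (q := 2) (by decide) hp02 with e | e | e | e | e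
        · obtain ⟨ea02, eb02⟩ := e
          exact Groth.Agent.Helper3.NumType.g5_U2E T h2 hp01 ea01 eb01 hp02 ea02 eb02
        · obtain ⟨ea02, eb02⟩ := e
          exfalso
          have t := Groth.Agent.Helper3.NumType.QT5 T h2 2 1 1 0 0 (by norm_num) (by norm_num)
          linarith only [t, ea01, eb01, ea02, eb02, nn12, hw0, hw1, hw2]
        · obtain ⟨ea02, eb02⟩ := e
          exfalso
          have t := Groth.Agent.Helper3.NumType.QT5 T h2 2 1 2 0 0 (by norm_num) (by norm_num)
          linarith only [t, ea01, eb01, ea02, eb02, nn12, hw0, hw1, hw2]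
        · obtain ⟨ea02, eb02⟩ := e
          exfalso
          have t := Groth.Agent.Helper3.NumType.QT5 T h2 2 1 1 0 0 (by norm_num) (by norm_num)
          linarith only [t, ea01, eb01, ea02, eb02, nn12, hw0, hw1, hw2]
        · obtain ⟨ea02, eb02⟩ := e
          exfalso
          have t := Groth.Agent.Helper3.NumType.QT5 T h2 2 1 2 0 0 (by norm_num) (by norm_num)
          linarith only [t, ea01, eb01, ea02, eb02, nn12, hw0, hw1, hw2]
    · obtain ⟨ea01, eb01⟩ := e
      rcases eq_or_lt_of_le nn02 with z | hp02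
      · have z02 : T.a 0 2 = 0 := z.symm
        rcases eq_or_lt_of_le nn03 with z | hp03
        · have z03 : T.a 0 3 = 0 := z.symm
          exact Groth.Agent.Helper3.NumType.g5_D2ZZ T h2 hp01 ea01 eb01 z02 z03
        · rcases Groth.Agent.Helper3.NumType.edge_casesT T h2 (by norm_num) (p := 0) (q := 3) (by decide) hp03 with e | e | e | e | e
          · obtain ⟨ea03, eb03⟩ := e
            exact Groth.Agent.Helper3.NumType.g5_D2ZE T h2 hp01 ea01 eb01 z02 hp03 ea03 eb03
          · obtain ⟨ea03, eb03⟩ := e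
            exfalso
            have t := Groth.Agent.Helper3.NumType.QT5 T h2 2 2 0 1 0 (by norm_num) (by norm_num)
            linarith only [t, ea01, eb01, ea03, eb03, nn13, hw0, hw1, hw3]
          · obtain ⟨ea03, eb03⟩ := e
            exfalso
            have t := Groth.Agent.Helper3.NumType.QT5 T h2 1 1 0 1 0 (by norm_num) (by norm_num)
            linarith only [t, ea01, eb01, ea03, eb03, nn13, hw0, hw1, hw3]
          · obtain ⟨ea03, eb03⟩ := e
            exfalso
            have t := Groth.Agent.Helper3.NumType.QT5 T h2 2 1 0 1 0 (by norm_num) (by norm_num)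
            linarith only [t, ea01, eb01, ea03, eb03, nn13, hw0, hw1, hw3]
          · obtain ⟨ea03, eb03⟩ := e
            exfalso
            have t := Groth.Agent.Helper3.NumType.QT5 T h2 1 1 0 1 0 (by norm_num) (by norm_num)
            linarith only [t, ea01, eb01, ea03, eb03, nn13, hw0, hw1, hw3]
      · rcases Groth.Agent.Helper3.NumType.edge_casesT T h2 (by norm_num) (p := 0) (q := 2) (by decide) hp02 with e | e | e | e | e
        · obtain ⟨ea02, eb02⟩ := e
          exact Groth.Agent.Helper3.NumType.g5_D2E T h2 hp01 ea01 eb01 hp02 ea02 eb02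
        · obtain ⟨ea02, eb02⟩ := e
          exfalso
          have t := Groth.Agent.Helper3.NumType.QT5 T h2 2 2 1 0 0 (by norm_num) (by norm_num)
          linarith only [t, ea01, eb01, ea02, eb02, nn12, hw0, hw1, hw2]
        · obtain ⟨ea02, eb02⟩ := e
          exfalso
          have t := Groth.Agent.Helper3.NumType.QT5 T h2 1 1 1 0 0 (by norm_num) (by norm_num)
          linarith only [t, ea01, eb01, ea02, eb02, nn12, hw0, hw1, hw2]
        · obtain ⟨ea02, eb02⟩ := e
          exfalso
          have t := Groth.Agent.Helper3.NumType.QT5 T h2 2 1 1 0 0 (by norm_num) (by norm_num)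
          linarith only [t, ea01, eb01, ea02, eb02, nn12, hw0, hw1, hw2]
        · obtain ⟨ea02, eb02⟩ := e
          exfalso
          have t := Groth.Agent.Helper3.NumType.QT5 T h2 1 1 1 0 0 (by norm_num) (by norm_num)
          linarith only [t, ea01, eb01, ea02, eb02, nn12, hw0, hw1, hw2]
    · obtain ⟨ea01, eb01⟩ := e
      exact Groth.Agent.Helper3.NumType.g5_U3 T h2 hp01 ea01 eb01
    · obtain ⟨ea01, eb01⟩ := e
      exact Groth.Agent.Helper3.NumType.g5_D3 T h2 hp01 ea01 eb01

end Groth.Agent.S7365
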