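import Groth.Statements.S7367
import Groth.Agent.Helper8.NTMain

set_option autoImplicit false
open Finset
open Models Models.NumericalType

namespace Groth.Agent.S7367

/-- Genus one classification: case n = 6: let T be a minimal numerical type of genus 1 on 6 indices.
Then all g_i = 0 and, for some permutation σ of the indices and some integers m, w, the
multiplicities, weights and intersection matrix (m_{σ(i)}, w_{σ(i)}, a_{σ(i)σ(j)}) are those of one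
of the following 7 types: [cycle] m = (m, m, m, m, m, m), w = (w, w, w, w, w, w), a = (-2 * w w 0 0
0 w / w -2 * w w 0 0 0 / 0 w -2 * w w 0 0 / 0 0 w -2 * w w 0 / 0 0 0 w -2 * w w / w 0 0 0 w -2 * w);
[up chain equal up] m = (2 * m, 2 * m, 2 * m, 2 * m, 2 * m, m), w = (w, 2 * w, 2 * w, 2 * w, 2 * w,
4 * w), a = (-2 * w 2 * w 0 0 0 0 / 2 * w -4 * w 2 * w 0 0 0 / 0 2 * w -4 * w 2 * w 0 0 / 0 0 2 * w
-4 * w 2 * w 0 / 0 0 0 2 * w -4 * w 4 * w / 0 0 0 0 4 * w -8 * w); [up chain equal down] m = (m, m,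
m, m, m, m), w = (w, 2 * w, 2 * w, 2 * w, 2 * w, w), a = (-2 * w 2 * w 0 0 0 0 / 2 * w -4 * w 2 * w
0 0 0 / 0 2 * w -4 * w 2 * w 0 0 / 0 0 2 * w -4 * w 2 * w 0 / 0 0 0 2 * w -4 * w 2 * w / 0 0 0 0 2 *
w -2 * w); [down chain equal up] m = (m, 2 * m, 2 * m, 2 * m, 2 * m, m), w = (2 * w, w, w, w, w, 2 *
w), a = (-4 * w 2 * w 0 0 0 0 / 2 * w -2 * w w 0 0 0 / 0 w -2 * w w 0 0 / 0 0 w -2 * w w 0 / 0 0 0 w
-2 * w 2 * w / 0 0 0 0 2 * w -4 * w); [D extended up] m = (m, 2 * m, 2 * m, 2 * m, m, m), w = (2 *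
w, w, w, w, w, w), a = (-4 * w 2 * w 0 0 0 0 / 2 * w -2 * w w 0 0 0 / 0 w -2 * w w 0 0 / 0 0 w -2 *
w w w / 0 0 0 w -2 * w 0 / 0 0 0 w 0 -2 * w); [D extended down] m = (2 * m, 2 * m, 2 * m, 2 * m, m,
m), w = (w, 2 * w, 2 * w, 2 * w, 2 * w, 2 * w), a = (-2 * w 2 * w 0 0 0 0 / 2 * w -4 * w 2 * w 0 0 0
/ 0 2 * w -4 * w 2 * w 0 0 / 0 0 2 * w -4 * w 2 * w 2 * w / 0 0 0 2 * w -4 * w 0 / 0 0 0 2 * w 0 -4
* w); [double triple] m = (m, m, 2 * m, 2 * m, m, m), w = (w, w, w, w, w, w), a = (-2 * w 0 w 0 0 0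
/ 0 -2 * w w 0 0 0 / w w -2 * w w 0 0 / 0 0 w -2 * w w w / 0 0 0 w -2 * w 0 / 0 0 0 w 0 -2 * w).
Only the classification direction is stated. (In the family with weights (w, 2w, …, 2w, w) the
consecutive intersection numbers are 2w, as divisibility by the weights forces; the published list
prints w there, and omits m_{n-2} = 2m in the two D-type families.) -/
theorem result (T : Models.NumericalType 6) (hmin : T.IsMinimal) (hg : T.genus = 1) :
    (∀ i, T.g i = 0) ∧ ∃ (σ : Equiv.Perm (Fin 6)) (m w : ℤ),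
      ((T.m (σ 0) = m ∧ T.m (σ 1) = m ∧ T.m (σ 2) = m ∧ T.m (σ 3) = m ∧ T.m (σ 4) = m ∧ T.m (σ 5) = m ∧ T.w (σ 0) = w ∧ T.w (σ 1) = w ∧ T.w (σ 2) = w ∧ T.w (σ 3) = w ∧ T.w (σ 4) = w ∧ T.w (σ 5) = w ∧ T.a (σ 0) (σ 0) = -2 * w ∧ T.a (σ 0) (σ 1) = w ∧ T.a (σ 0) (σ 2) = 0 ∧ T.a (σ 0) (σ 3) = 0 ∧ T.a (σ 0) (σ 4) = 0 ∧ T.a (σ 0) (σ 5) = w ∧ T.a (σ 1) (σ 1) = -2 * w ∧ T.a (σ 1) (σ 2) = w ∧ T.a (σ 1) (σ 3) = 0 ∧ T.a (σ 1) (σ 4) = 0 ∧ T.a (σ 1) (σ 5) = 0 ∧ T.a (σ 2) (σ 2) = -2 * w ∧ T.a (σ 2) (σ 3) = w ∧ T.a (σ 2) (σ 4) = 0 ∧ T.a (σ 2) (σ 5) = 0 ∧ T.a (σ 3) (σ 3) = -2 * w ∧ T.a (σ 3) (σ 4) = w ∧ T.a (σ 3) (σ 5) = 0 ∧ T.a (σ 4) (σ 4) = -2 * w ∧ T.a (σ 4) (σ 5) = w ∧ T.a (σ 5) (σ 5) = -2 * w) ∨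
      (T.m (σ 0) = 2 * m ∧ T.m (σ 1) = 2 * m ∧ T.m (σ 2) = 2 * m ∧ T.m (σ 3) = 2 * m ∧ T.m (σ 4) = 2 * m ∧ T.m (σ 5) = m ∧ T.w (σ 0) = w ∧ T.w (σ 1) = 2 * w ∧ T.w (σ 2) = 2 * w ∧ T.w (σ 3) = 2 * w ∧ T.w (σ 4) = 2 * w ∧ T.w (σ 5) = 4 * w ∧ T.a (σ 0) (σ 0) = -2 * w ∧ T.a (σ 0) (σ 1) = 2 * w ∧ T.a (σ 0) (σ 2) = 0 ∧ T.a (σ 0) (σ 3) = 0 ∧ T.a (σ 0) (σ 4) = 0 ∧ T.a (σ 0) (σ 5) = 0 ∧ T.a (σ 1) (σ 1) = -4 * w ∧ T.a (σ 1) (σ 2) = 2 * w ∧ T.a (σ 1) (σ 3) = 0 ∧ T.a (σ 1) (σ 4) = 0 ∧ T.a (σ 1) (σ 5) = 0 ∧ T.a (σ 2) (σ 2) = -4 * w ∧ T.a (σ 2) (σ 3) = 2 * w ∧ T.a (σ 2) (σ 4) = 0 ∧ T.a (σ 2) (σ 5) = 0 ∧ T.a (σ 3) (σ 3) = -4 * w ∧ T.a (σ 3) (σ 4) = 2 * w ∧ T.a (σ 3) (σ 5) = 0 ∧ T.a (σ 4) (σ 4) = -4 * w ∧ T.a (σ 4) (σ 5) = 4 * w ∧ T.a (σ 5) (σ 5) = -8 * w) ∨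
      (T.m (σ 0) = m ∧ T.m (σ 1) = m ∧ T.m (σ 2) = m ∧ T.m (σ 3) = m ∧ T.m (σ 4) = m ∧ T.m (σ 5) = m ∧ T.w (σ 0) = w ∧ T.w (σ 1) = 2 * w ∧ T.w (σ 2) = 2 * w ∧ T.w (σ 3) = 2 * w ∧ T.w (σ 4) = 2 * w ∧ T.w (σ 5) = w ∧ T.a (σ 0) (σ 0) = -2 * w ∧ T.a (σ 0) (σ 1) = 2 * w ∧ T.a (σ 0) (σ 2) = 0 ∧ T.a (σ 0) (σ 3) = 0 ∧ T.a (σ 0) (σ 4) = 0 ∧ T.a (σ 0) (σ 5) = 0 ∧ T.a (σ 1) (σ 1) = -4 * w ∧ T.a (σ 1) (σ 2) = 2 * w ∧ T.a (σ 1) (σ 3) = 0 ∧ T.a (σ 1) (σ 4) = 0 ∧ T.a (σ 1) (σ 5) = 0 ∧ T.a (σ 2) (σ 2) = -4 * w ∧ T.a (σ 2) (σ 3) = 2 * w ∧ T.a (σ 2) (σ 4) = 0 ∧ T.a (σ 2) (σ 5) = 0 ∧ T.a (σ 3) (σ 3) = -4 * w ∧ T.a (σ 3) (σ 4) = 2 * w ∧ T.a (σ 3) (σ 5) = 0 ∧ T.a (σ 4) (σ 4) = -4 * w ∧ T.a (σ 4) (σ 5) = 2 * w ∧ T.a (σ 5) (σ 5) = -2 * w) ∨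
      (T.m (σ 0) = m ∧ T.m (σ 1) = 2 * m ∧ T.m (σ 2) = 2 * m ∧ T.m (σ 3) = 2 * m ∧ T.m (σ 4) = 2 * m ∧ T.m (σ 5) = m ∧ T.w (σ 0) = 2 * w ∧ T.w (σ 1) = w ∧ T.w (σ 2) = w ∧ T.w (σ 3) = w ∧ T.w (σ 4) = w ∧ T.w (σ 5) = 2 * w ∧ T.a (σ 0) (σ 0) = -4 * w ∧ T.a (σ 0) (σ 1) = 2 * w ∧ T.a (σ 0) (σ 2) = 0 ∧ T.a (σ 0) (σ 3) = 0 ∧ T.a (σ 0) (σ 4) = 0 ∧ T.a (σ 0) (σ 5) = 0 ∧ T.a (σ 1) (σ 1) = -2 * w ∧ T.a (σ 1) (σ 2) = w ∧ T.a (σ 1) (σ 3) = 0 ∧ T.a (σ 1) (σ 4) = 0 ∧ T.a (σ 1) (σ 5) = 0 ∧ T.a (σ 2) (σ 2) = -2 * w ∧ T.a (σ 2) (σ 3) = w ∧ T.a (σ 2) (σ 4) = 0 ∧ T.a (σ 2) (σ 5) = 0 ∧ T.a (σ 3) (σ 3) = -2 * w ∧ T.a (σ 3) (σ 4) = w ∧ T.a (σ 3) (σ 5) = 0 ∧ T.a (σ 4) (σ 4) = -2 * w ∧ T.a (σ 4) (σ 5) = 2 * w ∧ T.a (σ 5) (σ 5) = -4 * w) ∨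
      (T.m (σ 0) = m ∧ T.m (σ 1) = 2 * m ∧ T.m (σ 2) = 2 * m ∧ T.m (σ 3) = 2 * m ∧ T.m (σ 4) = m ∧ T.m (σ 5) = m ∧ T.w (σ 0) = 2 * w ∧ T.w (σ 1) = w ∧ T.w (σ 2) = w ∧ T.w (σ 3) = w ∧ T.w (σ 4) = w ∧ T.w (σ 5) = w ∧ T.a (σ 0) (σ 0) = -4 * w ∧ T.a (σ 0) (σ 1) = 2 * w ∧ T.a (σ 0) (σ 2) = 0 ∧ T.a (σ 0) (σ 3) = 0 ∧ T.a (σ 0) (σ 4) = 0 ∧ T.a (σ 0) (σ 5) = 0 ∧ T.a (σ 1) (σ 1) = -2 * w ∧ T.a (σ 1) (σ 2) = w ∧ T.a (σ 1) (σ 3) = 0 ∧ T.a (σ 1) (σ 4) = 0 ∧ T.a (σ 1) (σ 5) = 0 ∧ T.a (σ 2) (σ 2) = -2 * w ∧ T.a (σ 2) (σ 3) = w ∧ T.a (σ 2) (σ 4) = 0 ∧ T.a (σ 2) (σ 5) = 0 ∧ T.a (σ 3) (σ 3) = -2 * w ∧ T.a (σ 3) (σ 4) = w ∧ T.a (σ 3) (σ 5) = w ∧ T.a (σ 4) (σ 4) = -2 * w ∧ T.a (σ 4) (σ 5) = 0 ∧ T.a (σ 5) (σ 5) = -2 * w) ∨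
      (T.m (σ 0) = 2 * m ∧ T.m (σ 1) = 2 * m ∧ T.m (σ 2) = 2 * m ∧ T.m (σ 3) = 2 * m ∧ T.m (σ 4) = m ∧ T.m (σ 5) = m ∧ T.w (σ 0) = w ∧ T.w (σ 1) = 2 * w ∧ T.w (σ 2) = 2 * w ∧ T.w (σ 3) = 2 * w ∧ T.w (σ 4) = 2 * w ∧ T.w (σ 5) = 2 * w ∧ T.a (σ 0) (σ 0) = -2 * w ∧ T.a (σ 0) (σ 1) = 2 * w ∧ T.a (σ 0) (σ 2) = 0 ∧ T.a (σ 0) (σ 3) = 0 ∧ T.a (σ 0) (σ 4) = 0 ∧ T.a (σ 0) (σ 5) = 0 ∧ T.a (σ 1) (σ 1) = -4 * w ∧ T.a (σ 1) (σ 2) = 2 * w ∧ T.a (σ 1) (σ 3) = 0 ∧ T.a (σ 1) (σ 4) = 0 ∧ T.a (σ 1) (σ 5) = 0 ∧ T.a (σ 2) (σ 2) = -4 * w ∧ T.a (σ 2) (σ 3) = 2 * w ∧ T.a (σ 2) (σ 4) = 0 ∧ T.a (σ 2) (σ 5) = 0 ∧ T.a (σ 3) (σ 3) = -4 * w ∧ T.a (σ 3) (σ 4) = 2 * w ∧ T.a (σ 3) (σ 5) = 2 * w ∧ T.a (σ 4) (σ 4) = -4 * w ∧ T.a (σ 4) (σ 5) = 0 ∧ T.a (σ 5) (σ 5) = -4 * w) ∨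
      (T.m (σ 0) = m ∧ T.m (σ 1) = m ∧ T.m (σ 2) = 2 * m ∧ T.m (σ 3) = 2 * m ∧ T.m (σ 4) = m ∧ T.m (σ 5) = m ∧ T.w (σ 0) = w ∧ T.w (σ 1) = w ∧ T.w (σ 2) = w ∧ T.w (σ 3) = w ∧ T.w (σ 4) = w ∧ T.w (σ 5) = w ∧ T.a (σ 0) (σ 0) = -2 * w ∧ T.a (σ 0) (σ 1) = 0 ∧ T.a (σ 0) (σ 2) = w ∧ T.a (σ 0) (σ 3) = 0 ∧ T.a (σ 0) (σ 4) = 0 ∧ T.a (σ 0) (σ 5) = 0 ∧ T.a (σ 1) (σ 1) = -2 * w ∧ T.a (σ 1) (σ 2) = w ∧ T.a (σ 1) (σ 3) = 0 ∧ T.a (σ 1) (σ 4) = 0 ∧ T.a (σ 1) (σ 5) = 0 ∧ T.a (σ 2) (σ 2) = -2 * w ∧ T.a (σ 2) (σ 3) = w ∧ T.a (σ 2) (σ 4) = 0 ∧ T.a (σ 2) (σ 5) = 0 ∧ T.a (σ 3) (σ 3) = -2 * w ∧ T.a (σ 3) (σ 4) = w ∧ T.a (σ 3) (σ 5) = w ∧ T.a (σ 4) (σ 4) = -2 * w ∧ T.a (σ 4) (σ 5) = 0 ∧ T.a (σ 5) (σ 5) = -2 * w)) := by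
  obtain ⟨hg0, h2, h⟩ := Groth.Agent.Helper8.NT.classify T (by norm_num) hmin hg
  refine ⟨hg0, ?_⟩
  rcases h with ⟨σ, m, w, h | h | h | h | h | h | h⟩ | h | h | h
  · obtain ⟨hm1, hw1, ha1, ha2, ha0⟩ := h
    exact ⟨σ, m, w, Or.inl ⟨hm1 0,
      hm1 1,
      hm1 2,
      hm1 3,
      hm1 4,
      hm1 5,
      hw1 0,
      hw1 1,
      hw1 2,
      hw1 3,
      hw1 4,
      hw1 5,
      (by have e := h2 (σ 0); have e' := hw1 0; linarith),
      ha1 0 1 (by decide) (by decide),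
      ha0 0 2 (by decide) (by decide) (by decide),
      ha0 0 3 (by decide) (by decide) (by decide),
      ha0 0 4 (by decide) (by decide) (by decide),
      ha2 0 5 (by decide) (by decide),
      (by have e := h2 (σ 1); have e' := hw1 1; linarith),
      ha1 1 2 (by decide) (by decide),
      ha0 1 3 (by decide) (by decide) (by decide),
      ha0 1 4 (by decide) (by decide) (by decide),
      ha0 1 5 (by decide) (by decide) (by decide),
      (by have e := h2 (σ 2); have e' := hw1 2; linarith),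
      ha1 2 3 (by decide) (by decide),
      ha0 2 4 (by decide) (by decide) (by decide),
      ha0 2 5 (by decide) (by decide) (by decide),
      (by have e := h2 (σ 3); have e' := hw1 3; linarith),
      ha1 3 4 (by decide) (by decide),
      ha0 3 5 (by decide) (by decide) (by decide),
      (by have e := h2 (σ 4); have e' := hw1 4; linarith),
      ha1 4 5 (by decide) (by decide),
      (by have e := h2 (σ 5); have e' := hw1 5; linarith)⟩⟩
  · obtain ⟨hm1, hm2, hw1, hw2, hw3, ha1, ha2, ha0⟩ := h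
    exact ⟨σ, m, w, Or.inr (Or.inl ⟨hm1 0 (by decide),
      hm1 1 (by decide),
      hm1 2 (by decide),
      hm1 3 (by decide),
      hm1 4 (by decide),
      hm2 5 (by decide),
      hw1 0 (by decide),
      hw2 1 (by decide),
      hw2 2 (by decide),
      hw2 3 (by decide),
      hw2 4 (by decide),
      hw3 5 (by decide),
      (by have e := h2 (σ 0); have e' := hw1 0 (by decide); linarith),
      ha1 0 1 (by decide) (by decide),
      ha0 0 2 (by decide) (by decide) (by decide),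
      ha0 0 3 (by decide) (by decide) (by decide),
      ha0 0 4 (by decide) (by decide) (by decide),
      ha0 0 5 (by decide) (by decide) (by decide),
      (by have e := h2 (σ 1); have e' := hw2 1 (by decide); linarith),
      ha1 1 2 (by decide) (by decide),
      ha0 1 3 (by decide) (by decide) (by decide),
      ha0 1 4 (by decide) (by decide) (by decide),
      ha0 1 5 (by decide) (by decide) (by decide),
      (by have e := h2 (σ 2); have e' := hw2 2 (by decide); linarith),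
      ha1 2 3 (by decide) (by decide),
      ha0 2 4 (by decide) (by decide) (by decide),
      ha0 2 5 (by decide) (by decide) (by decide),
      (by have e := h2 (σ 3); have e' := hw2 3 (by decide); linarith),
      ha1 3 4 (by decide) (by decide),
      ha0 3 5 (by decide) (by decide) (by decide),
      (by have e := h2 (σ 4); have e' := hw2 4 (by decide); linarith),
      ha2 4 5 (by decide) (by decide),
      (by have e := h2 (σ 5); have e' := hw3 5 (by decide); linarith)⟩)⟩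
  · obtain ⟨hm1, hw1, hw2, hw3, ha1, ha0⟩ := h
    exact ⟨σ, m, w, Or.inr (Or.inr (Or.inl ⟨hm1 0,
      hm1 1,
      hm1 2,
      hm1 3,
      hm1 4,
      hm1 5,
      hw1 0 (by decide),
      hw2 1 (by decide),
      hw2 2 (by decide),
      hw2 3 (by decide),
      hw2 4 (by decide),
      hw3 5 (by decide),
      (by have e := h2 (σ 0); have e' := hw1 0 (by decide); linarith),
      ha1 0 1 (by decide) (by decide),
      ha0 0 2 (by decide) (by decide),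
      ha0 0 3 (by decide) (by decide),
      ha0 0 4 (by decide) (by decide),
      ha0 0 5 (by decide) (by decide),
      (by have e := h2 (σ 1); have e' := hw2 1 (by decide); linarith),
      ha1 1 2 (by decide) (by decide),
      ha0 1 3 (by decide) (by decide),
      ha0 1 4 (by decide) (by decide),
      ha0 1 5 (by decide) (by decide),
      (by have e := h2 (σ 2); have e' := hw2 2 (by decide); linarith),
      ha1 2 3 (by decide) (by decide),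
      ha0 2 4 (by decide) (by decide),
      ha0 2 5 (by decide) (by decide),
      (by have e := h2 (σ 3); have e' := hw2 3 (by decide); linarith),
      ha1 3 4 (by decide) (by decide),
      ha0 3 5 (by decide) (by decide),
      (by have e := h2 (σ 4); have e' := hw2 4 (by decide); linarith),
      ha1 4 5 (by decide) (by decide),
      (by have e := h2 (σ 5); have e' := hw3 5 (by decide); linarith)⟩))⟩
  · obtain ⟨hm1, hm2, hm3, hw1, hw2, hw3, ha1, ha2, ha3, ha0⟩ := h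
    exact ⟨σ, m, w, Or.inr (Or.inr (Or.inr (Or.inl ⟨hm1 0 (by decide),
      hm2 1 (by decide),
      hm2 2 (by decide),
      hm2 3 (by decide),
      hm2 4 (by decide),
      hm3 5 (by decide),
      hw1 0 (by decide),
      hw2 1 (by decide),
      hw2 2 (by decide),
      hw2 3 (by decide),
      hw2 4 (by decide),
      hw3 5 (by decide),
      (by have e := h2 (σ 0); have e' := hw1 0 (by decide); linarith),
      ha1 0 1 (by decide) (by decide),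
      ha0 0 2 (by decide) (by decide) (by decide) (by decide),
      ha0 0 3 (by decide) (by decide) (by decide) (by decide),
      ha0 0 4 (by decide) (by decide) (by decide) (by decide),
      ha0 0 5 (by decide) (by decide) (by decide) (by decide),
      (by have e := h2 (σ 1); have e' := hw2 1 (by decide); linarith),
      ha2 1 2 (by decide) (by decide),
      ha0 1 3 (by decide) (by decide) (by decide) (by decide),
      ha0 1 4 (by decide) (by decide) (by decide) (by decide),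
      ha0 1 5 (by decide) (by decide) (by decide) (by decide),
      (by have e := h2 (σ 2); have e' := hw2 2 (by decide); linarith),
      ha2 2 3 (by decide) (by decide),
      ha0 2 4 (by decide) (by decide) (by decide) (by decide),
      ha0 2 5 (by decide) (by decide) (by decide) (by decide),
      (by have e := h2 (σ 3); have e' := hw2 3 (by decide); linarith),
      ha2 3 4 (by decide) (by decide),
      ha0 3 5 (by decide) (by decide) (by decide) (by decide),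
      (by have e := h2 (σ 4); have e' := hw2 4 (by decide); linarith),
      ha3 4 5 (by decide) (by decide),
      (by have e := h2 (σ 5); have e' := hw3 5 (by decide); linarith)⟩)))⟩
  · obtain ⟨hm1, hm2, hm3, hw1, hw2, ha1, ha2, ha3, ha0⟩ := h
    exact ⟨σ, m, w, Or.inr (Or.inr (Or.inr (Or.inr (Or.inl ⟨hm1 0 (by decide),
      hm2 1 (by decide),
      hm2 2 (by decide),
      hm2 3 (by decide),
      hm3 4 (by decide),
      hm3 5 (by decide),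
      hw1 0 (by decide),
      hw2 1 (by decide),
      hw2 2 (by decide),
      hw2 3 (by decide),
      hw2 4 (by decide),
      hw2 5 (by decide),
      (by have e := h2 (σ 0); have e' := hw1 0 (by decide); linarith),
      ha1 0 1 (by decide) (by decide),
      ha0 0 2 (by decide) (by decide) (by decide) (by decide),
      ha0 0 3 (by decide) (by decide) (by decide) (by decide),
      ha0 0 4 (by decide) (by decide) (by decide) (by decide),
      ha0 0 5 (by decide) (by decide) (by decide) (by decide),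
      (by have e := h2 (σ 1); have e' := hw2 1 (by decide); linarith),
      ha2 1 2 (by decide) (by decide),
      ha0 1 3 (by decide) (by decide) (by decide) (by decide),
      ha0 1 4 (by decide) (by decide) (by decide) (by decide),
      ha0 1 5 (by decide) (by decide) (by decide) (by decide),
      (by have e := h2 (σ 2); have e' := hw2 2 (by decide); linarith),
      ha2 2 3 (by decide) (by decide),
      ha0 2 4 (by decide) (by decide) (by decide) (by decide),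
      ha0 2 5 (by decide) (by decide) (by decide) (by decide),
      (by have e := h2 (σ 3); have e' := hw2 3 (by decide); linarith),
      ha2 3 4 (by decide) (by decide),
      ha3 3 5 (by decide) (by decide),
      (by have e := h2 (σ 4); have e' := hw2 4 (by decide); linarith),
      ha0 4 5 (by decide) (by decide) (by decide) (by decide),
      (by have e := h2 (σ 5); have e' := hw2 5 (by decide); linarith)⟩))))⟩
  · obtain ⟨hm1, hm2, hw1, hw2, ha1, ha2, ha0⟩ := h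
    exact ⟨σ, m, w, Or.inr (Or.inr (Or.inr (Or.inr (Or.inr (Or.inl ⟨hm1 0 (by decide),
      hm1 1 (by decide),
      hm1 2 (by decide),
      hm1 3 (by decide),
      hm2 4 (by decide),
      hm2 5 (by decide),
      hw1 0 (by decide),
      hw2 1 (by decide),
      hw2 2 (by decide),
      hw2 3 (by decide),
      hw2 4 (by decide),
      hw2 5 (by decide),
      (by have e := h2 (σ 0); have e' := hw1 0 (by decide); linarith),
      ha1 0 1 (by decide) (by decide),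
      ha0 0 2 (by decide) (by decide) (by decide),
      ha0 0 3 (by decide) (by decide) (by decide),
      ha0 0 4 (by decide) (by decide) (by decide),
      ha0 0 5 (by decide) (by decide) (by decide),
      (by have e := h2 (σ 1); have e' := hw2 1 (by decide); linarith),
      ha1 1 2 (by decide) (by decide),
      ha0 1 3 (by decide) (by decide) (by decide),
      ha0 1 4 (by decide) (by decide) (by decide),
      ha0 1 5 (by decide) (by decide) (by decide),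
      (by have e := h2 (σ 2); have e' := hw2 2 (by decide); linarith),
      ha1 2 3 (by decide) (by decide),
      ha0 2 4 (by decide) (by decide) (by decide),
      ha0 2 5 (by decide) (by decide) (by decide),
      (by have e := h2 (σ 3); have e' := hw2 3 (by decide); linarith),
      ha1 3 4 (by decide) (by decide),
      ha2 3 5 (by decide) (by decide),
      (by have e := h2 (σ 4); have e' := hw2 4 (by decide); linarith),
      ha0 4 5 (by decide) (by decide) (by decide),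
      (by have e := h2 (σ 5); have e' := hw2 5 (by decide); linarith)⟩)))))⟩
  · obtain ⟨hm1, hm2, hm3, hw1, ha1, ha2, ha3, ha4, ha0⟩ := h
    exact ⟨σ, m, w, Or.inr (Or.inr (Or.inr (Or.inr (Or.inr (Or.inr (⟨hm1 0 (by decide),
      hm1 1 (by decide),
      hm2 2 (by decide),
      hm2 3 (by decide),
      hm3 4 (by decide),
      hm3 5 (by decide),
      hw1 0,
      hw1 1,
      hw1 2,
      hw1 3,
      hw1 4,
      hw1 5,
      (by have e := h2 (σ 0); have e' := hw1 0; linarith),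
      ha0 0 1 (by decide) (by decide) (by decide) (by decide) (by decide),
      ha1 0 2 (by decide) (by decide),
      ha0 0 3 (by decide) (by decide) (by decide) (by decide) (by decide),
      ha0 0 4 (by decide) (by decide) (by decide) (by decide) (by decide),
      ha0 0 5 (by decide) (by decide) (by decide) (by decide) (by decide),
      (by have e := h2 (σ 1); have e' := hw1 1; linarith),
      ha2 1 2 (by decide) (by decide),
      ha0 1 3 (by decide) (by decide) (by decide) (by decide) (by decide),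
      ha0 1 4 (by decide) (by decide) (by decide) (by decide) (by decide),
      ha0 1 5 (by decide) (by decide) (by decide) (by decide) (by decide),
      (by have e := h2 (σ 2); have e' := hw1 2; linarith),
      ha3 2 3 (by decide) (by decide),
      ha0 2 4 (by decide) (by decide) (by decide) (by decide) (by decide),
      ha0 2 5 (by decide) (by decide) (by decide) (by decide) (by decide),
      (by have e := h2 (σ 3); have e' := hw1 3; linarith),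
      ha3 3 4 (by decide) (by decide),
      ha4 3 5 (by decide) (by decide),
      (by have e := h2 (σ 4); have e' := hw1 4; linarith),
      ha0 4 5 (by decide) (by decide) (by decide) (by decide) (by decide),
      (by have e := h2 (σ 5); have e' := hw1 5; linarith)⟩))))))⟩
  · have := h.card_eq; omega
  · have := h.card_eq; omega
  · have := h.card_eq; omega

end Groth.Agent.S7367
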