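import Groth.Statements.S7369
import Groth.Agent.Helper8.NTMain

set_option autoImplicit false
open Finset
open Models Models.NumericalType

namespace Groth.Agent.S7369

/-- Genus one classification: case n = 8: let T be a minimal numerical type of genus 1 on 8 indices.
Then all g_i = 0 and, for some permutation σ of the indices and some integers m, w, the
multiplicities, weights and intersection matrix (m_{σ(i)}, w_{σ(i)}, a_{σ(i)σ(j)}) are those of one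
of the following 8 types: [cycle] m = (m, m, m, m, m, m, m, m), w = (w, w, w, w, w, w, w, w), a =
(-2 * w w 0 0 0 0 0 w / w -2 * w w 0 0 0 0 0 / 0 w -2 * w w 0 0 0 0 / 0 0 w -2 * w w 0 0 0 / 0 0 0 w
-2 * w w 0 0 / 0 0 0 0 w -2 * w w 0 / 0 0 0 0 0 w -2 * w w / w 0 0 0 0 0 w -2 * w); [up chain equal
up] m = (2 * m, 2 * m, 2 * m, 2 * m, 2 * m, 2 * m, 2 * m, m), w = (w, 2 * w, 2 * w, 2 * w, 2 * w, 2
* w, 2 * w, 4 * w), a = (-2 * w 2 * w 0 0 0 0 0 0 / 2 * w -4 * w 2 * w 0 0 0 0 0 / 0 2 * w -4 * w 2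
* w 0 0 0 0 / 0 0 2 * w -4 * w 2 * w 0 0 0 / 0 0 0 2 * w -4 * w 2 * w 0 0 / 0 0 0 0 2 * w -4 * w 2 *
w 0 / 0 0 0 0 0 2 * w -4 * w 4 * w / 0 0 0 0 0 0 4 * w -8 * w); [up chain equal down] m = (m, m, m,
m, m, m, m, m), w = (w, 2 * w, 2 * w, 2 * w, 2 * w, 2 * w, 2 * w, w), a = (-2 * w 2 * w 0 0 0 0 0 0
/ 2 * w -4 * w 2 * w 0 0 0 0 0 / 0 2 * w -4 * w 2 * w 0 0 0 0 / 0 0 2 * w -4 * w 2 * w 0 0 0 / 0 0 0
2 * w -4 * w 2 * w 0 0 / 0 0 0 0 2 * w -4 * w 2 * w 0 / 0 0 0 0 0 2 * w -4 * w 2 * w / 0 0 0 0 0 0 2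
* w -2 * w); [down chain equal up] m = (m, 2 * m, 2 * m, 2 * m, 2 * m, 2 * m, 2 * m, m), w = (2 * w,
w, w, w, w, w, w, 2 * w), a = (-4 * w 2 * w 0 0 0 0 0 0 / 2 * w -2 * w w 0 0 0 0 0 / 0 w -2 * w w 0
0 0 0 / 0 0 w -2 * w w 0 0 0 / 0 0 0 w -2 * w w 0 0 / 0 0 0 0 w -2 * w w 0 / 0 0 0 0 0 w -2 * w 2 *
w / 0 0 0 0 0 0 2 * w -4 * w); [D extended up] m = (m, 2 * m, 2 * m, 2 * m, 2 * m, 2 * m, m, m), w =
(2 * w, w, w, w, w, w, w, w), a = (-4 * w 2 * w 0 0 0 0 0 0 / 2 * w -2 * w w 0 0 0 0 0 / 0 w -2 * w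
w 0 0 0 0 / 0 0 w -2 * w w 0 0 0 / 0 0 0 w -2 * w w 0 0 / 0 0 0 0 w -2 * w w w / 0 0 0 0 0 w -2 * w
0 / 0 0 0 0 0 w 0 -2 * w); [D extended down] m = (2 * m, 2 * m, 2 * m, 2 * m, 2 * m, 2 * m, m, m), w
= (w, 2 * w, 2 * w, 2 * w, 2 * w, 2 * w, 2 * w, 2 * w), a = (-2 * w 2 * w 0 0 0 0 0 0 / 2 * w -4 * w
2 * w 0 0 0 0 0 / 0 2 * w -4 * w 2 * w 0 0 0 0 / 0 0 2 * w -4 * w 2 * w 0 0 0 / 0 0 0 2 * w -4 * w 2
* w 0 0 / 0 0 0 0 2 * w -4 * w 2 * w 2 * w / 0 0 0 0 0 2 * w -4 * w 0 / 0 0 0 0 0 2 * w 0 -4 * w);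
[double triple] m = (m, m, 2 * m, 2 * m, 2 * m, 2 * m, m, m), w = (w, w, w, w, w, w, w, w), a = (-2
* w 0 w 0 0 0 0 0 / 0 -2 * w w 0 0 0 0 0 / w w -2 * w w 0 0 0 0 / 0 0 w -2 * w w 0 0 0 / 0 0 0 w -2
* w w 0 0 / 0 0 0 0 w -2 * w w w / 0 0 0 0 0 w -2 * w 0 / 0 0 0 0 0 w 0 -2 * w); [E7 completed] m =
(m, 2 * m, 3 * m, 4 * m, 3 * m, 2 * m, m, 2 * m), w = (w, w, w, w, w, w, w, w), a = (-2 * w w 0 0 0
0 0 0 / w -2 * w w 0 0 0 0 0 / 0 w -2 * w w 0 0 0 0 / 0 0 w -2 * w w 0 0 w / 0 0 0 w -2 * w w 0 0 /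
0 0 0 0 w -2 * w w 0 / 0 0 0 0 0 w -2 * w 0 / 0 0 0 w 0 0 0 -2 * w). Only the classification
direction is stated. (In the family with weights (w, 2w, …, 2w, w) the consecutive intersection
numbers are 2w, as divisibility by the weights forces; the published list prints w there, and omits
m_{n-2} = 2m in the two D-type families.) -/
theorem result (T : Models.NumericalType 8) (hmin : T.IsMinimal) (hg : T.genus = 1) :
    (∀ i, T.g i = 0) ∧ ∃ (σ : Equiv.Perm (Fin 8)) (m w : ℤ),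
      ((T.m (σ 0) = m ∧ T.m (σ 1) = m ∧ T.m (σ 2) = m ∧ T.m (σ 3) = m ∧ T.m (σ 4) = m ∧ T.m (σ 5) = m ∧ T.m (σ 6) = m ∧ T.m (σ 7) = m ∧ T.w (σ 0) = w ∧ T.w (σ 1) = w ∧ T.w (σ 2) = w ∧ T.w (σ 3) = w ∧ T.w (σ 4) = w ∧ T.w (σ 5) = w ∧ T.w (σ 6) = w ∧ T.w (σ 7) = w ∧ T.a (σ 0) (σ 0) = -2 * w ∧ T.a (σ 0) (σ 1) = w ∧ T.a (σ 0) (σ 2) = 0 ∧ T.a (σ 0) (σ 3) = 0 ∧ T.a (σ 0) (σ 4) = 0 ∧ T.a (σ 0) (σ 5) = 0 ∧ T.a (σ 0) (σ 6) = 0 ∧ T.a (σ 0) (σ 7) = w ∧ T.a (σ 1) (σ 1) = -2 * w ∧ T.a (σ 1) (σ 2) = w ∧ T.a (σ 1) (σ 3) = 0 ∧ T.a (σ 1) (σ 4) = 0 ∧ T.a (σ 1) (σ 5) = 0 ∧ T.a (σ 1) (σ 6) = 0 ∧ T.a (σ 1) (σ 7) = 0 ∧ T.a (σ 2) (σ 2) = -2 * w ∧ T.a (σ 2) (σ 3) = w ∧ T.a (σ 2) (σ 4) = 0 ∧ T.a (σ 2) (σ 5) = 0 ∧ T.a (σ 2) (σ 6) = 0 ∧ T.a (σ 2) (σ 7) = 0 ∧ T.a (σ 3) (σ 3) = -2 * w ∧ T.a (σ 3) (σ 4) = w ∧ T.a (σ 3) (σ 5) = 0 ∧ T.a (σ 3) (σ 6) = 0 ∧ T.a (σ 3) (σ 7) = 0 ∧ T.a (σ 4) (σ 4) = -2 * w ∧ T.a (σ 4) (σ 5) = w ∧ T.a (σ 4) (σ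 6) = 0 ∧ T.a (σ 4) (σ 7) = 0 ∧ T.a (σ 5) (σ 5) = -2 * w ∧ T.a (σ 5) (σ 6) = w ∧ T.a (σ 5) (σ 7) = 0 ∧ T.a (σ 6) (σ 6) = -2 * w ∧ T.a (σ 6) (σ 7) = w ∧ T.a (σ 7) (σ 7) = -2 * w) ∨
      (T.m (σ 0) = 2 * m ∧ T.m (σ 1) = 2 * m ∧ T.m (σ 2) = 2 * m ∧ T.m (σ 3) = 2 * m ∧ T.m (σ 4) = 2 * m ∧ T.m (σ 5) = 2 * m ∧ T.m (σ 6) = 2 * m ∧ T.m (σ 7) = m ∧ T.w (σ 0) = w ∧ T.w (σ 1) = 2 * w ∧ T.w (σ 2) = 2 * w ∧ T.w (σ 3) = 2 * w ∧ T.w (σ 4) = 2 * w ∧ T.w (σ 5) = 2 * w ∧ T.w (σ 6) = 2 * w ∧ T.w (σ 7) = 4 * w ∧ T.a (σ 0) (σ 0) = -2 * w ∧ T.a (σ 0) (σ 1) = 2 * w ∧ T.a (σ 0) (σ 2) = 0 ∧ T.a (σ 0) (σ 3) = 0 ∧ T.a (σ 0) (σ 4) = 0 ∧ T.a (σ 0) (σ 5) = 0 ∧ T.a (σ 0) (σ 6) = 0 ∧ T.a (σ 0) (σ 7) = 0 ∧ T.a (σ 1) (σ 1) = -4 * w ∧ T.a (σ 1) (σ 2) = 2 * w ∧ T.a (σ 1) (σ 3) = 0 ∧ T.a (σ 1) (σ 4) = 0 ∧ T.a (σ 1) (σ 5) = 0 ∧ T.a (σ 1) (σ 6) = 0 ∧ T.a (σ 1) (σ 7) = 0 ∧ T.a (σ 2) (σ 2) = -4 * w ∧ T.a (σ 2) (σ 3) = 2 * w ∧ T.a (σ 2) (σ 4) =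 0 ∧ T.a (σ 2) (σ 5) = 0 ∧ T.a (σ 2) (σ 6) = 0 ∧ T.a (σ 2) (σ 7) = 0 ∧ T.a (σ 3) (σ 3) = -4 * w ∧ T.a (σ 3) (σ 4) = 2 * w ∧ T.a (σ 3) (σ 5) = 0 ∧ T.a (σ 3) (σ 6) = 0 ∧ T.a (σ 3) (σ 7) = 0 ∧ T.a (σ 4) (σ 4) = -4 * w ∧ T.a (σ 4) (σ 5) = 2 * w ∧ T.a (σ 4) (σ 6) = 0 ∧ T.a (σ 4) (σ 7) = 0 ∧ T.a (σ 5) (σ 5) = -4 * w ∧ T.a (σ 5) (σ 6) = 2 * w ∧ T.a (σ 5) (σ 7) = 0 ∧ T.a (σ 6) (σ 6) = -4 * w ∧ T.a (σ 6) (σ 7) = 4 * w ∧ T.a (σ 7) (σ 7) = -8 * w) ∨
      (T.m (σ 0) = m ∧ T.m (σ 1) = m ∧ T.m (σ 2) = m ∧ T.m (σ 3) = m ∧ T.m (σ 4) = m ∧ T.m (σ 5) = m ∧ T.m (σ 6) = m ∧ T.m (σ 7) = m ∧ T.w (σ 0) = w ∧ T.w (σ 1) = 2 * w ∧ T.w (σ 2) = 2 * w ∧ T.w (σ 3) = 2 * w ∧ T.w (σ 4) = 2 * w ∧ T.w (σ 5) = 2 * w ∧ T.w (σ 6) = 2 * w ∧ T.w (σ 7) = w ∧ T.a (σ 0) (σ 0) = -2 * w ∧ T.a (σ 0) (σ 1) = 2 * w ∧ T.a (σ 0) (σ 2) = 0 ∧ T.a (σ 0) (σ 3) = 0 ∧ T.a (σ 0) (σ 4) = 0 ∧ T.a (σ 0) (σ 5) = 0 ∧ T.a (σ 0) (σ 6) = 0 ∧ T.a (σ 0) (σ 7) = 0 ∧ T.a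 (σ 1) (σ 1) = -4 * w ∧ T.a (σ 1) (σ 2) = 2 * w ∧ T.a (σ 1) (σ 3) = 0 ∧ T.a (σ 1) (σ 4) = 0 ∧ T.a (σ 1) (σ 5) = 0 ∧ T.a (σ 1) (σ 6) = 0 ∧ T.a (σ 1) (σ 7) = 0 ∧ T.a (σ 2) (σ 2) = -4 * w ∧ T.a (σ 2) (σ 3) = 2 * w ∧ T.a (σ 2) (σ 4) = 0 ∧ T.a (σ 2) (σ 5) = 0 ∧ T.a (σ 2) (σ 6) = 0 ∧ T.a (σ 2) (σ 7) = 0 ∧ T.a (σ 3) (σ 3) = -4 * w ∧ T.a (σ 3) (σ 4) = 2 * w ∧ T.a (σ 3) (σ 5) = 0 ∧ T.a (σ 3) (σ 6) = 0 ∧ T.a (σ 3) (σ 7) = 0 ∧ T.a (σ 4) (σ 4) = -4 * w ∧ T.a (σ 4) (σ 5) = 2 * w ∧ T.a (σ 4) (σ 6) = 0 ∧ T.a (σ 4) (σ 7) = 0 ∧ T.a (σ 5) (σ 5) = -4 * w ∧ T.a (σ 5) (σ 6) = 2 * w ∧ T.a (σ 5) (σ 7) = 0 ∧ T.a (σ 6) (σ 6) = -4 * w ∧ T.a (σ 6) (σ 7) = 2 * w ∧ T.a (σ 7) (σ 7) = -2 * w) ∨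
      (T.m (σ 0) = m ∧ T.m (σ 1) = 2 * m ∧ T.m (σ 2) = 2 * m ∧ T.m (σ 3) = 2 * m ∧ T.m (σ 4) = 2 * m ∧ T.m (σ 5) = 2 * m ∧ T.m (σ 6) = 2 * m ∧ T.m (σ 7) = m ∧ T.w (σ 0) = 2 * w ∧ T.w (σ 1) = w ∧ T.w (σ 2) = w ∧ T.w (σ 3) = w ∧ T.w (σ 4) = w ∧ T.w (σ 5) = w ∧ T.w (σ 6) = w ∧ T.w (σ 7) = 2 * w ∧ T.a (σ 0) (σ 0) = -4 * w ∧ T.a (σ 0) (σ 1) = 2 * w ∧ T.a (σ 0) (σ 2) = 0 ∧ T.a (σ 0) (σ 3) = 0 ∧ T.a (σ 0) (σ 4) = 0 ∧ T.a (σ 0) (σ 5) = 0 ∧ T.a (σ 0) (σ 6) = 0 ∧ T.a (σ 0) (σ 7) = 0 ∧ T.a (σ 1) (σ 1) = -2 * w ∧ T.a (σ 1) (σ 2) = w ∧ T.a (σ 1) (σ 3) = 0 ∧ T.a (σ 1) (σ 4) = 0 ∧ T.a (σ 1) (σ 5) = 0 ∧ T.a (σ 1) (σ 6) = 0 ∧ T.a (σ 1) (σ 7) = 0 ∧ T.a (σ 2) (σ 2) = -2 * w ∧ T.a (σ 2) (σ 3) = w ∧ T.a (σ 2) (σ 4) = 0 ∧ T.a (σ 2) (σ 5) = 0 ∧ T.a (σ 2) (σ 6) = 0 ∧ T.a (σ 2) (σ 7) = 0 ∧ T.a (σ 3) (σ 3) = -2 * w ∧ T.a (σ 3) (σ 4) = w ∧ T.a (σ 3) (σ 5) = 0 ∧ T.a (σ 3) (σ 6) = 0 ∧ T.a (σ 3) (σ 7) = 0 ∧ T.a (σ 4) (σ 4) = -2 * w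 ∧ T.a (σ 4) (σ 5) = w ∧ T.a (σ 4) (σ 6) = 0 ∧ T.a (σ 4) (σ 7) = 0 ∧ T.a (σ 5) (σ 5) = -2 * w ∧ T.a (σ 5) (σ 6) = w ∧ T.a (σ 5) (σ 7) = 0 ∧ T.a (σ 6) (σ 6) = -2 * w ∧ T.a (σ 6) (σ 7) = 2 * w ∧ T.a (σ 7) (σ 7) = -4 * w) ∨
      (T.m (σ 0) = m ∧ T.m (σ 1) = 2 * m ∧ T.m (σ 2) = 2 * m ∧ T.m (σ 3) = 2 * m ∧ T.m (σ 4) = 2 * m ∧ T.m (σ 5) = 2 * m ∧ T.m (σ 6) = m ∧ T.m (σ 7) = m ∧ T.w (σ 0) = 2 * w ∧ T.w (σ 1) = w ∧ T.w (σ 2) = w ∧ T.w (σ 3) = w ∧ T.w (σ 4) = w ∧ T.w (σ 5) = w ∧ T.w (σ 6) = w ∧ T.w (σ 7) = w ∧ T.a (σ 0) (σ 0) = -4 * w ∧ T.a (σ 0) (σ 1) = 2 * w ∧ T.a (σ 0) (σ 2) = 0 ∧ T.a (σ 0) (σ 3) = 0 ∧ T.a (σ 0) (σ 4) = 0 ∧ T.a (σ 0) (σ 5) = 0 ∧ T.a (σ 0) (σ 6) = 0 ∧ T.a (σ 0) (σ 7) = 0 ∧ T.a (σ 1) (σ 1) = -2 * w ∧ T.a (σ 1) (σ 2) = w ∧ T.a (σ 1) (σ 3) = 0 ∧ T.a (σ 1) (σ 4) = 0 ∧ T.a (σ 1) (σ 5) = 0 ∧ T.a (σ 1) (σ 6) = 0 ∧ T.a (σ 1) (σ 7) = 0 ∧ T.a (σ 2) (σ 2) = -2 * w ∧ T.a (σ 2) (σ 3) = w ∧ T.a (σ 2) (σ 4)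 = 0 ∧ T.a (σ 2) (σ 5) = 0 ∧ T.a (σ 2) (σ 6) = 0 ∧ T.a (σ 2) (σ 7) = 0 ∧ T.a (σ 3) (σ 3) = -2 * w ∧ T.a (σ 3) (σ 4) = w ∧ T.a (σ 3) (σ 5) = 0 ∧ T.a (σ 3) (σ 6) = 0 ∧ T.a (σ 3) (σ 7) = 0 ∧ T.a (σ 4) (σ 4) = -2 * w ∧ T.a (σ 4) (σ 5) = w ∧ T.a (σ 4) (σ 6) = 0 ∧ T.a (σ 4) (σ 7) = 0 ∧ T.a (σ 5) (σ 5) = -2 * w ∧ T.a (σ 5) (σ 6) = w ∧ T.a (σ 5) (σ 7) = w ∧ T.a (σ 6) (σ 6) = -2 * w ∧ T.a (σ 6) (σ 7) = 0 ∧ T.a (σ 7) (σ 7) = -2 * w) ∨
      (T.m (σ 0) = 2 * m ∧ T.m (σ 1) = 2 * m ∧ T.m (σ 2) = 2 * m ∧ T.m (σ 3) = 2 * m ∧ T.m (σ 4) = 2 * m ∧ T.m (σ 5) = 2 * m ∧ T.m (σ 6) = m ∧ T.m (σ 7) = m ∧ T.w (σ 0) = w ∧ T.w (σ 1) = 2 * w ∧ T.w (σ 2) = 2 * w ∧ T.w (σ 3) = 2 * w ∧ T.w (σ 4) = 2 * w ∧ T.w (σ 5) = 2 * w ∧ T.w (σ 6) = 2 * w ∧ T.w (σ 7) = 2 * w ∧ T.a (σ 0) (σ 0) = -2 * w ∧ T.a (σ 0) (σ 1) = 2 * w ∧ T.a (σ 0) (σ 2) = 0 ∧ T.a (σ 0) (σ 3) = 0 ∧ T.a (σ 0) (σ 4) = 0 ∧ T.a (σ 0) (σ 5) = 0 ∧ T.a (σ 0) (σ 6) = 0 ∧ T.a (σ 0)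 (σ 7) = 0 ∧ T.a (σ 1) (σ 1) = -4 * w ∧ T.a (σ 1) (σ 2) = 2 * w ∧ T.a (σ 1) (σ 3) = 0 ∧ T.a (σ 1) (σ 4) = 0 ∧ T.a (σ 1) (σ 5) = 0 ∧ T.a (σ 1) (σ 6) = 0 ∧ T.a (σ 1) (σ 7) = 0 ∧ T.a (σ 2) (σ 2) = -4 * w ∧ T.a (σ 2) (σ 3) = 2 * w ∧ T.a (σ 2) (σ 4) = 0 ∧ T.a (σ 2) (σ 5) = 0 ∧ T.a (σ 2) (σ 6) = 0 ∧ T.a (σ 2) (σ 7) = 0 ∧ T.a (σ 3) (σ 3) = -4 * w ∧ T.a (σ 3) (σ 4) = 2 * w ∧ T.a (σ 3) (σ 5) = 0 ∧ T.a (σ 3) (σ 6) = 0 ∧ T.a (σ 3) (σ 7) = 0 ∧ T.a (σ 4) (σ 4) = -4 * w ∧ T.a (σ 4) (σ 5) = 2 * w ∧ T.a (σ 4) (σ 6) = 0 ∧ T.a (σ 4) (σ 7) = 0 ∧ T.a (σ 5) (σ 5) = -4 * w ∧ T.a (σ 5) (σ 6) = 2 * w ∧ T.a (σ 5) (σ 7) = 2 * w ∧ T.a (σ 6) (σ 6) = -4 * w ∧ T.a (σ 6) (σ 7) = 0 ∧ T.a (σ 7) (σ 7) = -4 * w) ∨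
      (T.m (σ 0) = m ∧ T.m (σ 1) = m ∧ T.m (σ 2) = 2 * m ∧ T.m (σ 3) = 2 * m ∧ T.m (σ 4) = 2 * m ∧ T.m (σ 5) = 2 * m ∧ T.m (σ 6) = m ∧ T.m (σ 7) = m ∧ T.w (σ 0) = w ∧ T.w (σ 1) = w ∧ T.w (σ 2) = w ∧ T.w (σ 3) = w ∧ T.w (σ 4) = w ∧ T.w (σ 5) = w ∧ T.w (σ 6) = w ∧ T.w (σ 7) = w ∧ T.a (σ 0) (σ 0) = -2 * w ∧ T.a (σ 0) (σ 1) = 0 ∧ T.a (σ 0) (σ 2) = w ∧ T.a (σ 0) (σ 3) = 0 ∧ T.a (σ 0) (σ 4) = 0 ∧ T.a (σ 0) (σ 5) = 0 ∧ T.a (σ 0) (σ 6) = 0 ∧ T.a (σ 0) (σ 7) = 0 ∧ T.a (σ 1) (σ 1) = -2 * w ∧ T.a (σ 1) (σ 2) = w ∧ T.a (σ 1) (σ 3) = 0 ∧ T.a (σ 1) (σ 4) = 0 ∧ T.a (σ 1) (σ 5) = 0 ∧ T.a (σ 1) (σ 6) = 0 ∧ T.a (σ 1) (σ 7) = 0 ∧ T.a (σ 2) (σ 2) = -2 * w ∧ T.a (σ 2) (σ 3) = w ∧ T.a (σ 2) (σ 4) = 0 ∧ T.a (σ 2) (σ 5) = 0 ∧ T.a (σ 2) (σ 6) = 0 ∧ T.a (σ 2) (σ 7) = 0 ∧ T.a (σ 3) (σ 3) = -2 * w ∧ T.a (σ 3) (σ 4) = w ∧ T.a (σ 3) (σ 5) = 0 ∧ T.a (σ 3) (σ 6) = 0 ∧ T.a (σ 3) (σ 7) = 0 ∧ T.a (σ 4) (σ 4) = -2 * w ∧ T.a (σ 4) (σ 5) =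 w ∧ T.a (σ 4) (σ 6) = 0 ∧ T.a (σ 4) (σ 7) = 0 ∧ T.a (σ 5) (σ 5) = -2 * w ∧ T.a (σ 5) (σ 6) = w ∧ T.a (σ 5) (σ 7) = w ∧ T.a (σ 6) (σ 6) = -2 * w ∧ T.a (σ 6) (σ 7) = 0 ∧ T.a (σ 7) (σ 7) = -2 * w) ∨
      (T.m (σ 0) = m ∧ T.m (σ 1) = 2 * m ∧ T.m (σ 2) = 3 * m ∧ T.m (σ 3) = 4 * m ∧ T.m (σ 4) = 3 * m ∧ T.m (σ 5) = 2 * m ∧ T.m (σ 6) = m ∧ T.m (σ 7) = 2 * m ∧ T.w (σ 0) = w ∧ T.w (σ 1) = w ∧ T.w (σ 2) = w ∧ T.w (σ 3) = w ∧ T.w (σ 4) = w ∧ T.w (σ 5) = w ∧ T.w (σ 6) = w ∧ T.w (σ 7) = w ∧ T.a (σ 0) (σ 0) = -2 * w ∧ T.a (σ 0) (σ 1) = w ∧ T.a (σ 0) (σ 2) = 0 ∧ T.a (σ 0) (σ 3) = 0 ∧ T.a (σ 0) (σ 4) = 0 ∧ T.a (σ 0) (σ 5) = 0 ∧ T.a (σ 0) (σ 6) = 0 ∧ T.a (σ 0) (σ 7) = 0 ∧ T.a (σ 1) (σ 1) = -2 * w ∧ T.a (σ 1) (σ 2) = w ∧ T.a (σ 1) (σ 3) = 0 ∧ T.a (σ 1) (σ 4) = 0 ∧ T.a (σ 1) (σ 5) = 0 ∧ T.a (σ 1) (σ 6) = 0 ∧ T.a (σ 1) (σ 7) = 0 ∧ T.a (σ 2) (σ 2) = -2 * w ∧ T.a (σ 2) (σ 3) = w ∧ T.a (σ 2) (σ 4) = 0 ∧ T.a (σ 2) (σ 5) = 0 ∧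 T.a (σ 2) (σ 6) = 0 ∧ T.a (σ 2) (σ 7) = 0 ∧ T.a (σ 3) (σ 3) = -2 * w ∧ T.a (σ 3) (σ 4) = w ∧ T.a (σ 3) (σ 5) = 0 ∧ T.a (σ 3) (σ 6) = 0 ∧ T.a (σ 3) (σ 7) = w ∧ T.a (σ 4) (σ 4) = -2 * w ∧ T.a (σ 4) (σ 5) = w ∧ T.a (σ 4) (σ 6) = 0 ∧ T.a (σ 4) (σ 7) = 0 ∧ T.a (σ 5) (σ 5) = -2 * w ∧ T.a (σ 5) (σ 6) = w ∧ T.a (σ 5) (σ 7) = 0 ∧ T.a (σ 6) (σ 6) = -2 * w ∧ T.a (σ 6) (σ 7) = 0 ∧ T.a (σ 7) (σ 7) = -2 * w)) := by
  obtain ⟨hg0, h2, h⟩ := Groth.Agent.Helper8.NT.classify T (by norm_num) hmin hg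
  refine ⟨hg0, ?_⟩
  rcases h with ⟨σ, m, w, h | h | h | h | h | h | h⟩ | h | h | h
  · obtain ⟨hm1, hw1, ha1, ha2, ha0⟩ := h
    exact ⟨σ, m, w, Or.inl ⟨hm1 0,
      hm1 1,
      hm1 2,
      hm1 3,
      hm1 4,
      hm1 5,
      hm1 6,
      hm1 7,
      hw1 0,
      hw1 1,
      hw1 2,
      hw1 3,
      hw1 4,
      hw1 5,
      hw1 6,
      hw1 7,
      (by have e := h2 (σ 0); have e' := hw1 0; linarith),
      ha1 0 1 (by decide) (by decide),
      ha0 0 2 (by decide) (by decide) (by decide),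
      ha0 0 3 (by decide) (by decide) (by decide),
      ha0 0 4 (by decide) (by decide) (by decide),
      ha0 0 5 (by decide) (by decide) (by decide),
      ha0 0 6 (by decide) (by decide) (by decide),
      ha2 0 7 (by decide) (by decide),
      (by have e := h2 (σ 1); have e' := hw1 1; linarith),
      ha1 1 2 (by decide) (by decide),
      ha0 1 3 (by decide) (by decide) (by decide),
      ha0 1 4 (by decide) (by decide) (by decide),
      ha0 1 5 (by decide) (by decide) (by decide),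
      ha0 1 6 (by decide) (by decide) (by decide),
      ha0 1 7 (by decide) (by decide) (by decide),
      (by have e := h2 (σ 2); have e' := hw1 2; linarith),
      ha1 2 3 (by decide) (by decide),
      ha0 2 4 (by decide) (by decide) (by decide),
      ha0 2 5 (by decide) (by decide) (by decide),
      ha0 2 6 (by decide) (by decide) (by decide),
      ha0 2 7 (by decide) (by decide) (by decide),
      (by have e := h2 (σ 3); have e' := hw1 3; linarith),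
      ha1 3 4 (by decide) (by decide),
      ha0 3 5 (by decide) (by decide) (by decide),
      ha0 3 6 (by decide) (by decide) (by decide),
      ha0 3 7 (by decide) (by decide) (by decide),
      (by have e := h2 (σ 4); have e' := hw1 4; linarith),
      ha1 4 5 (by decide) (by decide),
      ha0 4 6 (by decide) (by decide) (by decide),
      ha0 4 7 (by decide) (by decide) (by decide),
      (by have e := h2 (σ 5); have e' := hw1 5; linarith),
      ha1 5 6 (by decide) (by decide),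
      ha0 5 7 (by decide) (by decide) (by decide),
      (by have e := h2 (σ 6); have e' := hw1 6; linarith),
      ha1 6 7 (by decide) (by decide),
      (by have e := h2 (σ 7); have e' := hw1 7; linarith)⟩⟩
  · obtain ⟨hm1, hm2, hw1, hw2, hw3, ha1, ha2, ha0⟩ := h
    exact ⟨σ, m, w, Or.inr (Or.inl ⟨hm1 0 (by decide),
      hm1 1 (by decide),
      hm1 2 (by decide),
      hm1 3 (by decide),
      hm1 4 (by decide),
      hm1 5 (by decide),
      hm1 6 (by decide),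
      hm2 7 (by decide),
      hw1 0 (by decide),
      hw2 1 (by decide),
      hw2 2 (by decide),
      hw2 3 (by decide),
      hw2 4 (by decide),
      hw2 5 (by decide),
      hw2 6 (by decide),
      hw3 7 (by decide),
      (by have e := h2 (σ 0); have e' := hw1 0 (by decide); linarith),
      ha1 0 1 (by decide) (by decide),
      ha0 0 2 (by decide) (by decide) (by decide),
      ha0 0 3 (by decide) (by decide) (by decide),
      ha0 0 4 (by decide) (by decide) (by decide),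
      ha0 0 5 (by decide) (by decide) (by decide),
      ha0 0 6 (by decide) (by decide) (by decide),
      ha0 0 7 (by decide) (by decide) (by decide),
      (by have e := h2 (σ 1); have e' := hw2 1 (by decide); linarith),
      ha1 1 2 (by decide) (by decide),
      ha0 1 3 (by decide) (by decide) (by decide),
      ha0 1 4 (by decide) (by decide) (by decide),
      ha0 1 5 (by decide) (by decide) (by decide),
      ha0 1 6 (by decide) (by decide) (by decide),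
      ha0 1 7 (by decide) (by decide) (by decide),
      (by have e := h2 (σ 2); have e' := hw2 2 (by decide); linarith),
      ha1 2 3 (by decide) (by decide),
      ha0 2 4 (by decide) (by decide) (by decide),
      ha0 2 5 (by decide) (by decide) (by decide),
      ha0 2 6 (by decide) (by decide) (by decide),
      ha0 2 7 (by decide) (by decide) (by decide),
      (by have e := h2 (σ 3); have e' := hw2 3 (by decide); linarith),
      ha1 3 4 (by decide) (by decide),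
      ha0 3 5 (by decide) (by decide) (by decide),
      ha0 3 6 (by decide) (by decide) (by decide),
      ha0 3 7 (by decide) (by decide) (by decide),
      (by have e := h2 (σ 4); have e' := hw2 4 (by decide); linarith),
      ha1 4 5 (by decide) (by decide),
      ha0 4 6 (by decide) (by decide) (by decide),
      ha0 4 7 (by decide) (by decide) (by decide),
      (by have e := h2 (σ 5); have e' := hw2 5 (by decide); linarith),
      ha1 5 6 (by decide) (by decide),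
      ha0 5 7 (by decide) (by decide) (by decide),
      (by have e := h2 (σ 6); have e' := hw2 6 (by decide); linarith),
      ha2 6 7 (by decide) (by decide),
      (by have e := h2 (σ 7); have e' := hw3 7 (by decide); linarith)⟩)⟩
  · obtain ⟨hm1, hw1, hw2, hw3, ha1, ha0⟩ := h
    exact ⟨σ, m, w, Or.inr (Or.inr (Or.inl ⟨hm1 0,
      hm1 1,
      hm1 2,
      hm1 3,
      hm1 4,
      hm1 5,
      hm1 6,
      hm1 7,
      hw1 0 (by decide),
      hw2 1 (by decide),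
      hw2 2 (by decide),
      hw2 3 (by decide),
      hw2 4 (by decide),
      hw2 5 (by decide),
      hw2 6 (by decide),
      hw3 7 (by decide),
      (by have e := h2 (σ 0); have e' := hw1 0 (by decide); linarith),
      ha1 0 1 (by decide) (by decide),
      ha0 0 2 (by decide) (by decide),
      ha0 0 3 (by decide) (by decide),
      ha0 0 4 (by decide) (by decide),
      ha0 0 5 (by decide) (by decide),
      ha0 0 6 (by decide) (by decide),
      ha0 0 7 (by decide) (by decide),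
      (by have e := h2 (σ 1); have e' := hw2 1 (by decide); linarith),
      ha1 1 2 (by decide) (by decide),
      ha0 1 3 (by decide) (by decide),
      ha0 1 4 (by decide) (by decide),
      ha0 1 5 (by decide) (by decide),
      ha0 1 6 (by decide) (by decide),
      ha0 1 7 (by decide) (by decide),
      (by have e := h2 (σ 2); have e' := hw2 2 (by decide); linarith),
      ha1 2 3 (by decide) (by decide),
      ha0 2 4 (by decide) (by decide),
      ha0 2 5 (by decide) (by decide),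
      ha0 2 6 (by decide) (by decide),
      ha0 2 7 (by decide) (by decide),
      (by have e := h2 (σ 3); have e' := hw2 3 (by decide); linarith),
      ha1 3 4 (by decide) (by decide),
      ha0 3 5 (by decide) (by decide),
      ha0 3 6 (by decide) (by decide),
      ha0 3 7 (by decide) (by decide),
      (by have e := h2 (σ 4); have e' := hw2 4 (by decide); linarith),
      ha1 4 5 (by decide) (by decide),
      ha0 4 6 (by decide) (by decide),
      ha0 4 7 (by decide) (by decide),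
      (by have e := h2 (σ 5); have e' := hw2 5 (by decide); linarith),
      ha1 5 6 (by decide) (by decide),
      ha0 5 7 (by decide) (by decide),
      (by have e := h2 (σ 6); have e' := hw2 6 (by decide); linarith),
      ha1 6 7 (by decide) (by decide),
      (by have e := h2 (σ 7); have e' := hw3 7 (by decide); linarith)⟩))⟩
  · obtain ⟨hm1, hm2, hm3, hw1, hw2, hw3, ha1, ha2, ha3, ha0⟩ := h
    exact ⟨σ, m, w, Or.inr (Or.inr (Or.inr (Or.inl ⟨hm1 0 (by decide),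
      hm2 1 (by decide),
      hm2 2 (by decide),
      hm2 3 (by decide),
      hm2 4 (by decide),
      hm2 5 (by decide),
      hm2 6 (by decide),
      hm3 7 (by decide),
      hw1 0 (by decide),
      hw2 1 (by decide),
      hw2 2 (by decide),
      hw2 3 (by decide),
      hw2 4 (by decide),
      hw2 5 (by decide),
      hw2 6 (by decide),
      hw3 7 (by decide),
      (by have e := h2 (σ 0); have e' := hw1 0 (by decide); linarith),
      ha1 0 1 (by decide) (by decide),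
      ha0 0 2 (by decide) (by decide) (by decide) (by decide),
      ha0 0 3 (by decide) (by decide) (by decide) (by decide),
      ha0 0 4 (by decide) (by decide) (by decide) (by decide),
      ha0 0 5 (by decide) (by decide) (by decide) (by decide),
      ha0 0 6 (by decide) (by decide) (by decide) (by decide),
      ha0 0 7 (by decide) (by decide) (by decide) (by decide),
      (by have e := h2 (σ 1); have e' := hw2 1 (by decide); linarith),
      ha2 1 2 (by decide) (by decide),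
      ha0 1 3 (by decide) (by decide) (by decide) (by decide),
      ha0 1 4 (by decide) (by decide) (by decide) (by decide),
      ha0 1 5 (by decide) (by decide) (by decide) (by decide),
      ha0 1 6 (by decide) (by decide) (by decide) (by decide),
      ha0 1 7 (by decide) (by decide) (by decide) (by decide),
      (by have e := h2 (σ 2); have e' := hw2 2 (by decide); linarith),
      ha2 2 3 (by decide) (by decide),
      ha0 2 4 (by decide) (by decide) (by decide) (by decide),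
      ha0 2 5 (by decide) (by decide) (by decide) (by decide),
      ha0 2 6 (by decide) (by decide) (by decide) (by decide),
      ha0 2 7 (by decide) (by decide) (by decide) (by decide),
      (by have e := h2 (σ 3); have e' := hw2 3 (by decide); linarith),
      ha2 3 4 (by decide) (by decide),
      ha0 3 5 (by decide) (by decide) (by decide) (by decide),
      ha0 3 6 (by decide) (by decide) (by decide) (by decide),
      ha0 3 7 (by decide) (by decide) (by decide) (by decide),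
      (by have e := h2 (σ 4); have e' := hw2 4 (by decide); linarith),
      ha2 4 5 (by decide) (by decide),
      ha0 4 6 (by decide) (by decide) (by decide) (by decide),
      ha0 4 7 (by decide) (by decide) (by decide) (by decide),
      (by have e := h2 (σ 5); have e' := hw2 5 (by decide); linarith),
      ha2 5 6 (by decide) (by decide),
      ha0 5 7 (by decide) (by decide) (by decide) (by decide),
      (by have e := h2 (σ 6); have e' := hw2 6 (by decide); linarith),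
      ha3 6 7 (by decide) (by decide),
      (by have e := h2 (σ 7); have e' := hw3 7 (by decide); linarith)⟩)))⟩
  · obtain ⟨hm1, hm2, hm3, hw1, hw2, ha1, ha2, ha3, ha0⟩ := h
    exact ⟨σ, m, w, Or.inr (Or.inr (Or.inr (Or.inr (Or.inl ⟨hm1 0 (by decide),
      hm2 1 (by decide),
      hm2 2 (by decide),
      hm2 3 (by decide),
      hm2 4 (by decide),
      hm2 5 (by decide),
      hm3 6 (by decide),
      hm3 7 (by decide),
      hw1 0 (by decide),
      hw2 1 (by decide),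
      hw2 2 (by decide),
      hw2 3 (by decide),
      hw2 4 (by decide),
      hw2 5 (by decide),
      hw2 6 (by decide),
      hw2 7 (by decide),
      (by have e := h2 (σ 0); have e' := hw1 0 (by decide); linarith),
      ha1 0 1 (by decide) (by decide),
      ha0 0 2 (by decide) (by decide) (by decide) (by decide),
      ha0 0 3 (by decide) (by decide) (by decide) (by decide),
      ha0 0 4 (by decide) (by decide) (by decide) (by decide),
      ha0 0 5 (by decide) (by decide) (by decide) (by decide),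
      ha0 0 6 (by decide) (by decide) (by decide) (by decide),
      ha0 0 7 (by decide) (by decide) (by decide) (by decide),
      (by have e := h2 (σ 1); have e' := hw2 1 (by decide); linarith),
      ha2 1 2 (by decide) (by decide),
      ha0 1 3 (by decide) (by decide) (by decide) (by decide),
      ha0 1 4 (by decide) (by decide) (by decide) (by decide),
      ha0 1 5 (by decide) (by decide) (by decide) (by decide),
      ha0 1 6 (by decide) (by decide) (by decide) (by decide),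
      ha0 1 7 (by decide) (by decide) (by decide) (by decide),
      (by have e := h2 (σ 2); have e' := hw2 2 (by decide); linarith),
      ha2 2 3 (by decide) (by decide),
      ha0 2 4 (by decide) (by decide) (by decide) (by decide),
      ha0 2 5 (by decide) (by decide) (by decide) (by decide),
      ha0 2 6 (by decide) (by decide) (by decide) (by decide),
      ha0 2 7 (by decide) (by decide) (by decide) (by decide),
      (by have e := h2 (σ 3); have e' := hw2 3 (by decide); linarith),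
      ha2 3 4 (by decide) (by decide),
      ha0 3 5 (by decide) (by decide) (by decide) (by decide),
      ha0 3 6 (by decide) (by decide) (by decide) (by decide),
      ha0 3 7 (by decide) (by decide) (by decide) (by decide),
      (by have e := h2 (σ 4); have e' := hw2 4 (by decide); linarith),
      ha2 4 5 (by decide) (by decide),
      ha0 4 6 (by decide) (by decide) (by decide) (by decide),
      ha0 4 7 (by decide) (by decide) (by decide) (by decide),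
      (by have e := h2 (σ 5); have e' := hw2 5 (by decide); linarith),
      ha2 5 6 (by decide) (by decide),
      ha3 5 7 (by decide) (by decide),
      (by have e := h2 (σ 6); have e' := hw2 6 (by decide); linarith),
      ha0 6 7 (by decide) (by decide) (by decide) (by decide),
      (by have e := h2 (σ 7); have e' := hw2 7 (by decide); linarith)⟩))))⟩
  · obtain ⟨hm1, hm2, hw1, hw2, ha1, ha2, ha0⟩ := h
    exact ⟨σ, m, w, Or.inr (Or.inr (Or.inr (Or.inr (Or.inr (Or.inl ⟨hm1 0 (by decide),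
      hm1 1 (by decide),
      hm1 2 (by decide),
      hm1 3 (by decide),
      hm1 4 (by decide),
      hm1 5 (by decide),
      hm2 6 (by decide),
      hm2 7 (by decide),
      hw1 0 (by decide),
      hw2 1 (by decide),
      hw2 2 (by decide),
      hw2 3 (by decide),
      hw2 4 (by decide),
      hw2 5 (by decide),
      hw2 6 (by decide),
      hw2 7 (by decide),
      (by have e := h2 (σ 0); have e' := hw1 0 (by decide); linarith),
      ha1 0 1 (by decide) (by decide),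
      ha0 0 2 (by decide) (by decide) (by decide),
      ha0 0 3 (by decide) (by decide) (by decide),
      ha0 0 4 (by decide) (by decide) (by decide),
      ha0 0 5 (by decide) (by decide) (by decide),
      ha0 0 6 (by decide) (by decide) (by decide),
      ha0 0 7 (by decide) (by decide) (by decide),
      (by have e := h2 (σ 1); have e' := hw2 1 (by decide); linarith),
      ha1 1 2 (by decide) (by decide),
      ha0 1 3 (by decide) (by decide) (by decide),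
      ha0 1 4 (by decide) (by decide) (by decide),
      ha0 1 5 (by decide) (by decide) (by decide),
      ha0 1 6 (by decide) (by decide) (by decide),
      ha0 1 7 (by decide) (by decide) (by decide),
      (by have e := h2 (σ 2); have e' := hw2 2 (by decide); linarith),
      ha1 2 3 (by decide) (by decide),
      ha0 2 4 (by decide) (by decide) (by decide),
      ha0 2 5 (by decide) (by decide) (by decide),
      ha0 2 6 (by decide) (by decide) (by decide),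
      ha0 2 7 (by decide) (by decide) (by decide),
      (by have e := h2 (σ 3); have e' := hw2 3 (by decide); linarith),
      ha1 3 4 (by decide) (by decide),
      ha0 3 5 (by decide) (by decide) (by decide),
      ha0 3 6 (by decide) (by decide) (by decide),
      ha0 3 7 (by decide) (by decide) (by decide),
      (by have e := h2 (σ 4); have e' := hw2 4 (by decide); linarith),
      ha1 4 5 (by decide) (by decide),
      ha0 4 6 (by decide) (by decide) (by decide),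
      ha0 4 7 (by decide) (by decide) (by decide),
      (by have e := h2 (σ 5); have e' := hw2 5 (by decide); linarith),
      ha1 5 6 (by decide) (by decide),
      ha2 5 7 (by decide) (by decide),
      (by have e := h2 (σ 6); have e' := hw2 6 (by decide); linarith),
      ha0 6 7 (by decide) (by decide) (by decide),
      (by have e := h2 (σ 7); have e' := hw2 7 (by decide); linarith)⟩)))))⟩
  · obtain ⟨hm1, hm2, hm3, hw1, ha1, ha2, ha3, ha4, ha0⟩ := h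
    exact ⟨σ, m, w, Or.inr (Or.inr (Or.inr (Or.inr (Or.inr (Or.inr (Or.inl ⟨hm1 0 (by decide),
      hm1 1 (by decide),
      hm2 2 (by decide),
      hm2 3 (by decide),
      hm2 4 (by decide),
      hm2 5 (by decide),
      hm3 6 (by decide),
      hm3 7 (by decide),
      hw1 0,
      hw1 1,
      hw1 2,
      hw1 3,
      hw1 4,
      hw1 5,
      hw1 6,
      hw1 7,
      (by have e := h2 (σ 0); have e' := hw1 0; linarith),
      ha0 0 1 (by decide) (by decide) (by decide) (by decide) (by decide),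
      ha1 0 2 (by decide) (by decide),
      ha0 0 3 (by decide) (by decide) (by decide) (by decide) (by decide),
      ha0 0 4 (by decide) (by decide) (by decide) (by decide) (by decide),
      ha0 0 5 (by decide) (by decide) (by decide) (by decide) (by decide),
      ha0 0 6 (by decide) (by decide) (by decide) (by decide) (by decide),
      ha0 0 7 (by decide) (by decide) (by decide) (by decide) (by decide),
      (by have e := h2 (σ 1); have e' := hw1 1; linarith),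
      ha2 1 2 (by decide) (by decide),
      ha0 1 3 (by decide) (by decide) (by decide) (by decide) (by decide),
      ha0 1 4 (by decide) (by decide) (by decide) (by decide) (by decide),
      ha0 1 5 (by decide) (by decide) (by decide) (by decide) (by decide),
      ha0 1 6 (by decide) (by decide) (by decide) (by decide) (by decide),
      ha0 1 7 (by decide) (by decide) (by decide) (by decide) (by decide),
      (by have e := h2 (σ 2); have e' := hw1 2; linarith),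
      ha3 2 3 (by decide) (by decide),
      ha0 2 4 (by decide) (by decide) (by decide) (by decide) (by decide),
      ha0 2 5 (by decide) (by decide) (by decide) (by decide) (by decide),
      ha0 2 6 (by decide) (by decide) (by decide) (by decide) (by decide),
      ha0 2 7 (by decide) (by decide) (by decide) (by decide) (by decide),
      (by have e := h2 (σ 3); have e' := hw1 3; linarith),
      ha3 3 4 (by decide) (by decide),
      ha0 3 5 (by decide) (by decide) (by decide) (by decide) (by decide),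
      ha0 3 6 (by decide) (by decide) (by decide) (by decide) (by decide),
      ha0 3 7 (by decide) (by decide) (by decide) (by decide) (by decide),
      (by have e := h2 (σ 4); have e' := hw1 4; linarith),
      ha3 4 5 (by decide) (by decide),
      ha0 4 6 (by decide) (by decide) (by decide) (by decide) (by decide),
      ha0 4 7 (by decide) (by decide) (by decide) (by decide) (by decide),
      (by have e := h2 (σ 5); have e' := hw1 5; linarith),
      ha3 5 6 (by decide) (by decide),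
      ha4 5 7 (by decide) (by decide),
      (by have e := h2 (σ 6); have e' := hw1 6; linarith),
      ha0 6 7 (by decide) (by decide) (by decide) (by decide) (by decide),
      (by have e := h2 (σ 7); have e' := hw1 7; linarith)⟩))))))⟩
  · have := h.card_eq; omega
  · obtain ⟨e, m, w, hb, hm, hw, ha⟩ := h
    exact ⟨Equiv.ofBijective e hb, m, w, Or.inr (Or.inr (Or.inr (Or.inr (Or.inr (Or.inr (Or.inr (⟨(by have := hm 0; rw [show Groth.Agent.Helper8.NT.E7M 0 = 1 from by decide] at this; simpa using this),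
      (by have := hm 1; rw [show Groth.Agent.Helper8.NT.E7M 1 = 2 from by decide] at this; simpa using this),
      (by have := hm 2; rw [show Groth.Agent.Helper8.NT.E7M 2 = 3 from by decide] at this; simpa using this),
      (by have := hm 3; rw [show Groth.Agent.Helper8.NT.E7M 3 = 4 from by decide] at this; simpa using this),
      (by have := hm 4; rw [show Groth.Agent.Helper8.NT.E7M 4 = 3 from by decide] at this; simpa using this),
      (by have := hm 5; rw [show Groth.Agent.Helper8.NT.E7M 5 = 2 from by decide] at this; simpa using this),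
      (by have := hm 6; rw [show Groth.Agent.Helper8.NT.E7M 6 = 1 from by decide] at this; simpa using this),
      (by have := hm 7; rw [show Groth.Agent.Helper8.NT.E7M 7 = 2 from by decide] at this; simpa using this),
      (by simpa using hw 0),
      (by simpa using hw 1),
      (by simpa using hw 2),
      (by simpa using hw 3),
      (by simpa using hw 4),
      (by simpa using hw 5),
      (by simpa using hw 6),
      (by simpa using hw 7),
      (by have := ha 0 0; rw [show Groth.Agent.Helper8.NT.E7A 0 0 = -2 from by decide] at this; simpa using this),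
      (by have := ha 0 1; rw [show Groth.Agent.Helper8.NT.E7A 0 1 = 1 from by decide] at this; simpa using this),
      (by have := ha 0 2; rw [show Groth.Agent.Helper8.NT.E7A 0 2 = 0 from by decide] at this; simpa using this),
      (by have := ha 0 3; rw [show Groth.Agent.Helper8.NT.E7A 0 3 = 0 from by decide] at this; simpa using this),
      (by have := ha 0 4; rw [show Groth.Agent.Helper8.NT.E7A 0 4 = 0 from by decide] at this; simpa using this),
      (by have := ha 0 5; rw [show Groth.Agent.Helper8.NT.E7A 0 5 = 0 from by decide] at this; simpa using this),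
      (by have := ha 0 6; rw [show Groth.Agent.Helper8.NT.E7A 0 6 = 0 from by decide] at this; simpa using this),
      (by have := ha 0 7; rw [show Groth.Agent.Helper8.NT.E7A 0 7 = 0 from by decide] at this; simpa using this),
      (by have := ha 1 1; rw [show Groth.Agent.Helper8.NT.E7A 1 1 = -2 from by decide] at this; simpa using this),
      (by have := ha 1 2; rw [show Groth.Agent.Helper8.NT.E7A 1 2 = 1 from by decide] at this; simpa using this),
      (by have := ha 1 3; rw [show Groth.Agent.Helper8.NT.E7A 1 3 = 0 from by decide] at this; simpa using this),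
      (by have := ha 1 4; rw [show Groth.Agent.Helper8.NT.E7A 1 4 = 0 from by decide] at this; simpa using this),
      (by have := ha 1 5; rw [show Groth.Agent.Helper8.NT.E7A 1 5 = 0 from by decide] at this; simpa using this),
      (by have := ha 1 6; rw [show Groth.Agent.Helper8.NT.E7A 1 6 = 0 from by decide] at this; simpa using this),
      (by have := ha 1 7; rw [show Groth.Agent.Helper8.NT.E7A 1 7 = 0 from by decide] at this; simpa using this),
      (by have := ha 2 2; rw [show Groth.Agent.Helper8.NT.E7A 2 2 = -2 from by decide] at this; simpa using this),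
      (by have := ha 2 3; rw [show Groth.Agent.Helper8.NT.E7A 2 3 = 1 from by decide] at this; simpa using this),
      (by have := ha 2 4; rw [show Groth.Agent.Helper8.NT.E7A 2 4 = 0 from by decide] at this; simpa using this),
      (by have := ha 2 5; rw [show Groth.Agent.Helper8.NT.E7A 2 5 = 0 from by decide] at this; simpa using this),
      (by have := ha 2 6; rw [show Groth.Agent.Helper8.NT.E7A 2 6 = 0 from by decide] at this; simpa using this),
      (by have := ha 2 7; rw [show Groth.Agent.Helper8.NT.E7A 2 7 = 0 from by decide] at this; simpa using this),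
      (by have := ha 3 3; rw [show Groth.Agent.Helper8.NT.E7A 3 3 = -2 from by decide] at this; simpa using this),
      (by have := ha 3 4; rw [show Groth.Agent.Helper8.NT.E7A 3 4 = 1 from by decide] at this; simpa using this),
      (by have := ha 3 5; rw [show Groth.Agent.Helper8.NT.E7A 3 5 = 0 from by decide] at this; simpa using this),
      (by have := ha 3 6; rw [show Groth.Agent.Helper8.NT.E7A 3 6 = 0 from by decide] at this; simpa using this),
      (by have := ha 3 7; rw [show Groth.Agent.Helper8.NT.E7A 3 7 = 1 from by decide] at this; simpa using this),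
      (by have := ha 4 4; rw [show Groth.Agent.Helper8.NT.E7A 4 4 = -2 from by decide] at this; simpa using this),
      (by have := ha 4 5; rw [show Groth.Agent.Helper8.NT.E7A 4 5 = 1 from by decide] at this; simpa using this),
      (by have := ha 4 6; rw [show Groth.Agent.Helper8.NT.E7A 4 6 = 0 from by decide] at this; simpa using this),
      (by have := ha 4 7; rw [show Groth.Agent.Helper8.NT.E7A 4 7 = 0 from by decide] at this; simpa using this),
      (by have := ha 5 5; rw [show Groth.Agent.Helper8.NT.E7A 5 5 = -2 from by decide] at this; simpa using this),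
      (by have := ha 5 6; rw [show Groth.Agent.Helper8.NT.E7A 5 6 = 1 from by decide] at this; simpa using this),
      (by have := ha 5 7; rw [show Groth.Agent.Helper8.NT.E7A 5 7 = 0 from by decide] at this; simpa using this),
      (by have := ha 6 6; rw [show Groth.Agent.Helper8.NT.E7A 6 6 = -2 from by decide] at this; simpa using this),
      (by have := ha 6 7; rw [show Groth.Agent.Helper8.NT.E7A 6 7 = 0 from by decide] at this; simpa using this),
      (by have := ha 7 7; rw [show Groth.Agent.Helper8.NT.E7A 7 7 = -2 from by decide] at this; simpa using this)⟩)))))))⟩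
  · have := h.card_eq; omega

end Groth.Agent.S7369
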