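import Groth.Statements.S7384
import Groth.Agent.Helper4.NApx4
import Groth.Agent.S0590
import Mathlib

set_option autoImplicit false
universe u
open CategoryTheory AlgebraicGeometry
open Lim

namespace Groth.Agent.S7384


/-- Let `f : X → S` be a morphism of quasi-compact quasi-separated schemes. Then `f` is a limit of
morphisms `f_i : X_i → S_i` indexed by a nonempty directed set: there are inverse systems `X_i`,
`S_i` of quasi-compact schemes locally of finite type over `ℤ` with affine transition morphisms, a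
compatible family of morphisms `f_i`, and limit cones identified with `X` and `S` compatibly with
`f`. -/
theorem result {X S : Scheme.{u}} (f : X ⟶ S) [CompactSpace X]
    [QuasiSeparatedSpace X] [CompactSpace S] [QuasiSeparatedSpace S] :
    ∃ (I : Type u) (_ : Preorder I) (_ : IsDirected I (fun a b => a ≤ b)) (_ : Nonempty I)
      (DX DS : Iᵒᵖ ⥤ Scheme.{u}) (φ : DX ⟶ DS)
      (cX : Limits.Cone DX) (cS : Limits.Cone DS) (_ : Limits.IsLimit cX) (_ : Limits.IsLimit cS)
      (eX : cX.pt ≅ X) (eS : cS.pt ≅ S),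
      (∀ (i j : Iᵒᵖ) (a : i ⟶ j), IsAffineHom (DX.map a) ∧ IsAffineHom (DS.map a)) ∧
      (∀ i, CompactSpace (DX.obj i) ∧ CompactSpace (DS.obj i) ∧
        LocallyOfFiniteType (Limits.IsTerminal.from specULiftZIsTerminal (DX.obj i)) ∧
        LocallyOfFiniteType (Limits.IsTerminal.from specULiftZIsTerminal (DS.obj i))) ∧
      (∀ i, cX.π.app i ≫ φ.app i = eX.hom ≫ f ≫ eS.inv ≫ cS.π.app i) := by

  obtain ⟨A, hPA, hDA, hNA, DA, cA, hcA, hA1, hA2, ⟨eA⟩⟩ := Groth.Agent.S0590.result X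
  obtain ⟨B, hPB, hDB, hNB, DB, cB, hcB, hB1, hB2, ⟨eB⟩⟩ := Groth.Agent.S0590.result S
  obtain ⟨I, hP, hD, hN, DX, DS, φ, cX, cS, hcX, hcS, eX, eS, h1, h2, h3⟩ :=
    Groth.Agent.Helper4.NApx4.arrow_limit DA DB cA cB hcA hcB (eA.hom ≫ f ≫ eB.inv)
      hA1 hA2 hB1 hB2
  refine ⟨I, hP, hD, hN, DX, DS, φ, cX, cS, hcX, hcS, eX ≪≫ eA, eS ≪≫ eB, h1, h2, ?_⟩
  intro i
  rw [h3 i]
  simp

end Groth.Agent.S7384
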