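import Groth.Statements.S7386
import Groth.Agent.Lead.QcClosure
import Groth.Agent.S9682

set_option autoImplicit false
universe u
open CategoryTheory AlgebraicGeometry
open Mor

namespace Groth.Agent.S7386

/-- a maximal point outside an affine open of a quasi-separated scheme is outside its closure -/
theorem notMem_closure_of_maximal (X : Scheme.{u}) [QuasiSeparatedSpace X] (U : X.Opens)
    (hU : IsAffineOpen U) (η : X) (hη : ∀ y : X, y ⤳ η → y = η) (hηU : η ∉ U) :
    η ∉ closure (U : Set X) := by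
  intro hcl
  haveI : IsAffine U := hU
  haveI : QuasiCompact U.ι := inferInstance
  have hrange : Set.range U.ι.base = (U : Set X) := by simp
  rw [← hrange] at hcl
  obtain ⟨u, hu⟩ := Groth.Agent.Lead.QcClosure.exists_specializes_of_mem_closure_range U.ι η hcl
  have := hη _ hu
  apply hηU
  rw [← this]
  exact u.2

/-- a maximal point outside an affine open has an affine open neighbourhood disjoint from it,
which can moreover be taken inside any given open neighbourhood -/
theorem exists_disjoint_affine (X : Scheme.{u}) [QuasiSeparatedSpace X] (U : X.Opens)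
    (hU : IsAffineOpen U) (η : X) (hη : ∀ y : X, y ⤳ η → y = η) (hηU : η ∉ U)
    (V : X.Opens) (hηV : η ∈ V) :
    ∃ W : X.Opens, IsAffineOpen W ∧ η ∈ W ∧ Disjoint U W ∧ W ≤ V := by
  have h1 := notMem_closure_of_maximal X U hU η hη hηU
  let C : X.Opens := ⟨(closure (U : Set X))ᶜ, isClosed_closure.isOpen_compl⟩
  have hηC : η ∈ C ⊓ V := ⟨h1, hηV⟩
  obtain ⟨W, hW, hηW, hWC⟩ := exists_isAffineOpen_mem_and_subset (x := η) (U := C ⊓ V) hηC
  refine ⟨W, hW, hηW, ?_, fun z hz => (hWC hz).2⟩
  rw [disjoint_iff, eq_bot_iff]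
  intro z hz
  exact ((hWC hz.2).1 (subset_closure hz.1)).elim

theorem list_aux (X : Scheme.{u}) [QuasiSeparatedSpace X] (x : X) (l : List X)
    (hl : ∀ p ∈ l, ∀ y : X, y ⤳ p → y = p) :
    ∃ U : X.Opens, IsAffineOpen U ∧ x ∈ U ∧ ∀ p ∈ l, p ∈ U := by
  induction l with
  | nil =>
    obtain ⟨U, hU, hxU, -⟩ := exists_isAffineOpen_mem_and_subset (x := x) (U := ⊤) trivial
    exact ⟨U, hU, hxU, by simp⟩
  | cons p l ih =>
    obtain ⟨U, hU, hxU, hlU⟩ := ih (fun q hq => hl q (List.mem_cons_of_mem _ hq))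
    by_cases hp : p ∈ U
    · refine ⟨U, hU, hxU, ?_⟩
      intro q hq
      rcases List.mem_cons.mp hq with rfl | hq
      · exact hp
      · exact hlU q hq
    · obtain ⟨W, hW, hpW, hdisj, -⟩ :=
        exists_disjoint_affine X U hU p (hl p List.mem_cons_self) hp ⊤ trivial
      refine ⟨U ⊔ W, hU.sup_of_disjoint hW hdisj, Or.inl hxU, ?_⟩
      intro q hq
      rcases List.mem_cons.mp hq with rfl | hq
      · exact Or.inr hpW
      · exact Or.inl (hlU q hq)

theorem aux (X : Scheme.{u}) [QuasiSeparatedSpace X] {n : ℕ}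
    (η : Fin n → X) (hη : ∀ i, closure ({η i} : Set X) ∈ irreducibleComponents (X : Type u)) (x : X) :
    ∃ U : X.Opens, IsAffineOpen U ∧ x ∈ U ∧ ∀ i, η i ∈ U := by
  obtain ⟨U, hU, hxU, hl⟩ := list_aux X x (List.ofFn η) (by
    intro p hp
    obtain ⟨i, rfl⟩ := (List.mem_ofFn' η p).mp hp
    exact (Groth.Agent.S9682.generic_iff (η i)).mp (hη i))
  exact ⟨U, hU, hxU, fun i => hl _ ((List.mem_ofFn' η _).mpr ⟨i, rfl⟩)⟩

/-- Let `X` be a quasi-separated scheme, `η_1, …, η_n` generic points of irreducible components of `X`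
and `x` any point of `X`. Then some affine open of `X` contains `x` and all the `η_i`. -/
theorem result (X : Scheme.{u}) [QuasiSeparatedSpace X] {n : ℕ}
    (η : Fin n → X) (hη : ∀ i, closure ({η i} : Set X) ∈ irreducibleComponents (X : Type u)) (x : X) :
    ∃ U : X.Opens, IsAffineOpen U ∧ x ∈ U ∧ ∀ i, η i ∈ U := by
  exact aux X η hη x

end Groth.Agent.S7386
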