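import Groth.Statements.S7385
import Groth.Agent.S7386

set_option autoImplicit false
universe u
open CategoryTheory AlgebraicGeometry
open Mor

namespace Groth.Agent.S7385

open scoped Function in
theorem ind_aux (X : Scheme.{u}) [QuasiSeparatedSpace X] :
    ∀ (n : ℕ) (η : Fin n → X), (∀ i, ∀ y : X, y ⤳ η i → y = η i) → Function.Injective η →
    ∀ (F : Finset X), (∀ p ∈ F, ∀ y : X, y ⤳ p → y = p) →
    ∃ U : Fin n → X.Opens, (∀ i, IsAffineOpen (U i) ∧ η i ∈ U i) ∧
      (∀ i j, i ≠ j → Disjoint (U i) (U j)) ∧ (∀ i, ∀ p ∈ F, p ≠ η i → p ∉ U i) := by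
  classical
  intro n
  induction n with
  | zero =>
    intro η _ _ F _
    exact ⟨fun _ => ⊥, fun i => i.elim0, fun i => i.elim0, fun i => i.elim0⟩
  | succ n ih =>
    intro η hmax hinj F hF
    let η' : Fin n → X := fun i => η i.castSucc
    let ηl : X := η (Fin.last n)
    have hne : ∀ i : Fin n, ηl ≠ η' i := by
      intro i h
      have := hinj h
      exact (Fin.castSucc_lt_last i).ne this.symm
    obtain ⟨U', hU'1, hU'2, hU'3⟩ := ih η' (fun i => hmax _)
      (fun a b hab => Fin.castSucc_injective n (hinj hab)) (insert ηl F) (by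
        intro p hp
        rcases Finset.mem_insert.mp hp with rfl | hp
        · exact hmax _
        · exact hF p hp)
    let T : X.Opens := ⨆ i, U' i
    have hT : IsAffineOpen T := IsAffineOpen.iSup_of_disjoint (fun i => (hU'1 i).1)
      (fun i j hij => hU'2 i j hij)
    have hηlT : ηl ∉ T := by
      intro h
      obtain ⟨i, hi⟩ := TopologicalSpace.Opens.mem_iSup.mp h
      exact hU'3 i ηl (Finset.mem_insert_self _ _) (hne i) hi
    -- the open set avoiding the other points of F
    let Cset : Set X := ⋃ p ∈ (F.filter (· ≠ ηl) : Finset X), closure {p}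
    have hCclosed : IsClosed Cset :=
      (F.filter (· ≠ ηl)).finite_toSet.isClosed_biUnion fun p _ => isClosed_closure
    let V : X.Opens := ⟨Csetᶜ, hCclosed.isOpen_compl⟩
    have hηlV : ηl ∈ V := by
      intro h
      obtain ⟨p, hp, hpcl⟩ := Set.mem_iUnion₂.mp h
      have hp' := Finset.mem_filter.mp hp
      have : p ⤳ ηl := specializes_iff_mem_closure.mpr hpcl
      exact hp'.2 (hmax (Fin.last n) p this)
    obtain ⟨W, hW, hηlW, hdisj, hWV⟩ :=
      Groth.Agent.S7386.exists_disjoint_affine X T hT ηl (hmax _) hηlT V hηlV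
    refine ⟨Fin.snoc (α := fun _ => X.Opens) U' W, ?_, ?_, ?_⟩
    · intro i
      refine Fin.lastCases ?_ (fun j => ?_) i
      · simp only [Fin.snoc_last]; exact ⟨hW, hηlW⟩
      · simp only [Fin.snoc_castSucc]; exact hU'1 j
    · intro i j
      refine Fin.lastCases ?_ (fun a => ?_) i <;> refine Fin.lastCases ?_ (fun b => ?_) j
      · intro h; exact absurd rfl h
      · intro _
        simp only [Fin.snoc_last, Fin.snoc_castSucc]
        exact (hdisj.mono_left (le_iSup U' b)).symm
      · intro _
        simp only [Fin.snoc_last, Fin.snoc_castSucc]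
        exact hdisj.mono_left (le_iSup U' a)
      · intro hab
        simp only [Fin.snoc_castSucc]
        exact hU'2 a b (fun h => hab (by rw [h]))
    · intro i
      refine Fin.lastCases ?_ (fun a => ?_) i
      · intro p hp hpne
        simp only [Fin.snoc_last]
        intro hpW
        have : p ∈ V := hWV hpW
        apply this
        exact Set.mem_iUnion₂.mpr ⟨p, Finset.mem_filter.mpr ⟨hp, hpne⟩, subset_closure rfl⟩
      · intro p hp hpne
        simp only [Fin.snoc_castSucc]
        exact hU'3 a p (Finset.mem_insert_of_mem hp) hpne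

open scoped Function in
theorem aux (X : Scheme.{u}) [QuasiSeparatedSpace X] {n : ℕ}
    (η : Fin n → X) (hη : ∀ i, closure ({η i} : Set X) ∈ irreducibleComponents (X : Type u))
    (hinj : Function.Injective η) :
    ∃ U : Fin n → X.Opens, (∀ i, IsAffineOpen (U i) ∧ η i ∈ U i) ∧
      (∀ i j, i ≠ j → Disjoint (U i) (U j)) ∧ IsAffineOpen (⨆ i, U i) := by
  obtain ⟨U, h1, h2, -⟩ := ind_aux X n η
    (fun i => (Groth.Agent.S9682.generic_iff (η i)).mp (hη i)) hinj ∅ (by simp)
  exact ⟨U, h1, h2, IsAffineOpen.iSup_of_disjoint (fun i => (h1 i).1) (fun i j hij => h2 i j hij)⟩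

/-- Let `X` be a quasi-separated scheme and `η_1, …, η_n` pairwise distinct points, each the generic
point of an irreducible component of `X`. Then there are affine open neighbourhoods `U_i ∋ η_i`
which are pairwise disjoint, and their union is an affine open containing all the `η_i`. -/
theorem result (X : Scheme.{u}) [QuasiSeparatedSpace X] {n : ℕ}
    (η : Fin n → X) (hη : ∀ i, closure ({η i} : Set X) ∈ irreducibleComponents (X : Type u))
    (hinj : Function.Injective η) :
    ∃ U : Fin n → X.Opens, (∀ i, IsAffineOpen (U i) ∧ η i ∈ U i) ∧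
      (∀ i j, i ≠ j → Disjoint (U i) (U j)) ∧ IsAffineOpen (⨆ i, U i) := by
  exact aux X η hη hinj

end Groth.Agent.S7385
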