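import Groth.Statements.S7389
import Mathlib

set_option autoImplicit false
universe u
open CategoryTheory AlgebraicGeometry
open Mor

namespace Groth.Agent.S7389

/-- prime avoidance: finitely many points of an open of `Spec R` lie in a basic open inside it -/
theorem exists_basicOpen_of_finite (R : Type u) [CommRing R] (V : Set (PrimeSpectrum R))
    (hV : IsOpen V) (S : Set (PrimeSpectrum R)) (hS : S.Finite) (hSV : S ⊆ V) :
    ∃ f : R, S ⊆ (PrimeSpectrum.basicOpen f : Set (PrimeSpectrum R)) ∧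
      (PrimeSpectrum.basicOpen f : Set (PrimeSpectrum R)) ⊆ V := by
  classical
  rcases S.eq_empty_or_nonempty with hemp | ⟨p0, hp0⟩
  · refine ⟨0, by rw [hemp]; exact Set.empty_subset _, ?_⟩
    rw [PrimeSpectrum.basicOpen_zero]
    exact Set.empty_subset _
  obtain ⟨s, hs⟩ := (PrimeSpectrum.isClosed_iff_zeroLocus Vᶜ).mp hV.isClosed_compl
  let I : Ideal R := Ideal.span s
  have hI : Vᶜ = PrimeSpectrum.zeroLocus (I : Set R) := by
    rw [hs, PrimeSpectrum.zeroLocus_span]
  have hnot : ¬ ((I : Set R) ⊆ ⋃ p ∈ (hS.toFinset : Set (PrimeSpectrum R)), (p.asIdeal : Set R)) := by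
    rw [Ideal.subset_union_prime (f := fun p : PrimeSpectrum R => p.asIdeal)
      p0 p0 (fun p _ _ _ => p.isPrime)]
    rintro ⟨p, hp, hIp⟩
    have hpS : p ∈ S := hS.mem_toFinset.mp hp
    have : p ∈ Vᶜ := by
      rw [hI, PrimeSpectrum.mem_zeroLocus]; exact hIp
    exact this (hSV hpS)
  obtain ⟨f, hfI, hf⟩ := Set.not_subset.mp hnot
  refine ⟨f, ?_, ?_⟩
  · intro p hp
    show f ∉ p.asIdeal
    intro hfp
    apply hf
    simp only [Set.mem_iUnion]
    exact ⟨p, by simpa using hp, hfp⟩
  · intro q hq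
    by_contra hqV
    have : q ∈ Vᶜ := hqV
    rw [hI, PrimeSpectrum.mem_zeroLocus] at this
    exact hq (this hfI)

open Set.Notation in
theorem aux (R : CommRingCat.{u}) {X : Scheme.{u}} (ι : X ⟶ Spec R)
    [IsImmersion ι] (E : Set X) (hE : E.Finite) :
    ∃ U : X.Opens, IsAffineOpen U ∧ E ⊆ U := by
  have hsub : ι '' E ⊆ (ι.coborderRange : Set (Spec R)) := by
    rintro _ ⟨e, _, rfl⟩
    exact subset_coborder ⟨e, rfl⟩
  obtain ⟨f, hf1, hf2⟩ := exists_basicOpen_of_finite R (ι.coborderRange : Set (Spec R))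
    ι.coborderRange.isOpen (ι '' E) (hE.image _) hsub
  let W : (Spec R).Opens := PrimeSpectrum.basicOpen f
  have hW : IsAffineOpen W := by
    have := (isAffineOpen_top (Spec R)).basicOpen ((Scheme.ΓSpecIso R).inv f)
    rwa [basicOpen_eq_of_affine] at this
  refine ⟨ι ⁻¹ᵁ W, ?_, ?_⟩
  · have hcl : IsClosed (Set.range (ι ∣_ W)) := by
      have hr : Set.range (ι ∣_ W) = ((W : Set (Spec R)) ↓∩ Set.range ι) := by
        ext w
        constructor
        · rintro ⟨x, rfl⟩
          exact ⟨x.1, (morphismRestrict_base_coe ι W x).symm⟩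
        · rintro ⟨x, hx⟩
          have hxW : x ∈ ι ⁻¹ᵁ W := by
            show ι x ∈ W
            rw [hx]; exact w.2
          exact ⟨⟨x, hxW⟩, Subtype.ext ((morphismRestrict_base_coe ι W ⟨x, hxW⟩).trans hx)⟩
      rw [hr]
      have h1 : IsClosed ((ι.coborderRange : Set (Spec R)) ↓∩ Set.range ι) :=
        isClosed_preimage_val_coborder
      have h2 : (W : Set (Spec R)) ↓∩ Set.range ι =
          (Set.inclusion hf2) ⁻¹' ((ι.coborderRange : Set (Spec R)) ↓∩ Set.range ι) := by
        ext x; rfl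
      rw [h2]
      exact h1.preimage (continuous_inclusion hf2)
    have : IsClosedImmersion (ι ∣_ W) := IsClosedImmersion.of_isPreimmersion _ hcl
    have hWaff : IsAffine W.toScheme := hW
    have : IsAffine (ι ⁻¹ᵁ W).toScheme := isAffine_of_isAffineHom (ι ∣_ W)
    exact this
  · intro e he
    exact hf1 ⟨e, he, rfl⟩

/-- Let `X` be a scheme admitting an immersion into an affine scheme. Then any finite set of points of
`X` is contained in an affine open of `X`. -/
theorem result {X Y : Scheme.{u}} [IsAffine Y] (ι : X ⟶ Y)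
    [IsImmersion ι] (E : Set X) (hE : E.Finite) :
    ∃ U : X.Opens, IsAffineOpen U ∧ E ⊆ U := by
  have : IsImmersion (ι ≫ Y.isoSpec.hom) := inferInstance
  exact aux _ (ι ≫ Y.isoSpec.hom) E hE

end Groth.Agent.S7389
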