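import Groth.Statements.S7388
import Groth.Agent.Lead.GradedAvoid
import Groth.Agent.S7389
import Mathlib

set_option autoImplicit false
universe u
open CategoryTheory AlgebraicGeometry
open Mor

namespace Groth.Agent.S7388

/-- Let `X` be a scheme admitting an immersion into `Proj S` for some graded ring `S`. Then any finite
set of points of `X` is contained in an affine open of `X`. -/
theorem result {R A : Type u} [CommRing R] [CommRing A] [Algebra R A]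
    (𝒜 : ℕ → Submodule R A) [GradedAlgebra 𝒜] {X : Scheme.{u}} (ι : X ⟶ Proj 𝒜) [IsImmersion ι]
    (E : Set X) (hE : E.Finite) :
    ∃ U : X.Opens, IsAffineOpen U ∧ E ⊆ U := by
  classical
  obtain ⟨d, f, hd, hf, hfs⟩ := Groth.Agent.Lead.GradedAvoid.exists_homogeneous_notMem 𝒜
    (hE.image (fun e : X => (ι e : ProjectiveSpectrum 𝒜))).toFinset
  have hW : IsAffineOpen (Proj.basicOpen 𝒜 f) := Proj.isAffineOpen_basicOpen 𝒜 f hf hd
  have hEW : ∀ e ∈ E, e ∈ ι ⁻¹ᵁ Proj.basicOpen 𝒜 f := by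
    intro e he
    show ι e ∈ Proj.basicOpen 𝒜 f
    rw [Proj.mem_basicOpen]
    exact hfs _ ((Set.Finite.mem_toFinset _).mpr ⟨e, he, rfl⟩)
  haveI : IsAffine (Proj.basicOpen 𝒜 f).toScheme := hW
  haveI : IsImmersion (ι ∣_ Proj.basicOpen 𝒜 f) :=
    IsZariskiLocalAtTarget.restrict (P := @IsImmersion) ‹IsImmersion ι› _
  obtain ⟨U', hU', hEU'⟩ := Groth.Agent.S7389.result (ι ∣_ Proj.basicOpen 𝒜 f)
    ((ι ⁻¹ᵁ Proj.basicOpen 𝒜 f).ι ⁻¹' E)
    (hE.preimage ((ι ⁻¹ᵁ Proj.basicOpen 𝒜 f).ι.isOpenEmbedding.injective.injOn))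
  refine ⟨(ι ⁻¹ᵁ Proj.basicOpen 𝒜 f).ι ''ᵁ U', hU'.image_of_isOpenImmersion _, ?_⟩
  intro e he
  exact ⟨⟨e, hEW e he⟩, hEU' (show (ι ⁻¹ᵁ Proj.basicOpen 𝒜 f).ι ⟨e, hEW e he⟩ ∈ E from he), rfl⟩

end Groth.Agent.S7388
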