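import Groth.Statements.S7390
import Groth.Agent.Helper4.GenLoc
import Mathlib

set_option autoImplicit false
universe u
open CategoryTheory AlgebraicGeometry
open Mor

namespace Groth.Agent.S7390


/-- Let `X` be a scheme such that every point lies in some affine open `X_s`, the locus where a global
section `s` generates an invertible `O_X`-module `L` (both depending on the point). Then the
diagonal of `X` is an affine morphism. -/
theorem result (X : Scheme.{u})
    (h : ∀ x : X, ∃ (L : X.Modules) (s : Coh.structureModule X ⟶ L), PicF.IsInvertible L ∧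
      x ∈ CohB1.genLocus L s ∧ IsAffineOpen (CohB1.genLocus L s)) :
    IsAffineHom (Limits.pullback.diagonal (Limits.terminal.from X)) := by

  apply isAffineHom_of_forall_exists_isAffineOpen
  intro z
  obtain ⟨L₁, s₁, hL₁, hx₁, hA₁⟩ := h
    ((Limits.pullback.fst (Limits.terminal.from X) (Limits.terminal.from X)) z)
  obtain ⟨L₂, s₂, hL₂, hx₂, hA₂⟩ := h
    ((Limits.pullback.snd (Limits.terminal.from X) (Limits.terminal.from X)) z)
  have hιU := Groth.Agent.Helper4.GenLoc.isAffineHom_genLocus_ι L₁ hL₁ s₁
  generalize CohB1.genLocus L₁ s₁ = U at hx₁ hA₁ hιU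
  generalize CohB1.genLocus L₂ s₂ = V at hx₂ hA₂
  haveI : IsAffine (U : Scheme.{u}) := hA₁
  haveI : IsAffine (V : Scheme.{u}) := hA₂
  -- the open immersion U × V → X × X
  let q : Limits.pullback (U.ι ≫ Limits.terminal.from X) (V.ι ≫ Limits.terminal.from X) ⟶
      Limits.pullback (Limits.terminal.from X) (Limits.terminal.from X) :=
    Limits.pullback.map _ _ _ _ U.ι V.ι (𝟙 _) (by simp) (by simp)
  have hq : (q.opensRange : Set _) =
      (Limits.pullback.fst (Limits.terminal.from X) (Limits.terminal.from X)) ⁻¹' (U : Set X) ∩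
      (Limits.pullback.snd (Limits.terminal.from X) (Limits.terminal.from X)) ⁻¹' (V : Set X) := by
    have := Scheme.Pullback.range_map (f := U.ι ≫ Limits.terminal.from X)
      (g := V.ι ≫ Limits.terminal.from X) (Limits.terminal.from X) (Limits.terminal.from X)
      U.ι V.ι (𝟙 _) (by simp) (by simp)
    simpa using this
  refine ⟨q.opensRange, ?_, isAffineOpen_opensRange q, ?_⟩
  · change z ∈ (q.opensRange : Set _)
    rw [hq]
    exact ⟨hx₁, hx₂⟩
  · have hpre : Limits.pullback.diagonal (Limits.terminal.from X) ⁻¹ᵁ q.opensRange = U ⊓ V := by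
      ext x
      change (Limits.pullback.diagonal (Limits.terminal.from X)) x ∈ (q.opensRange : Set _) ↔ _
      rw [hq]
      simp only [Set.mem_inter_iff, Set.mem_preimage, SetLike.mem_coe]
      rw [← Scheme.Hom.comp_apply, ← Scheme.Hom.comp_apply]
      simp
    rw [hpre]
    have h1 : IsAffineOpen (U.ι ⁻¹ᵁ V) := hA₂.preimage U.ι
    have h2 : U.ι ''ᵁ (U.ι ⁻¹ᵁ V) = U ⊓ V := by
      rw [Scheme.Hom.image_preimage_eq_opensRange_inf, Scheme.Opens.opensRange_ι]
    rw [← h2]
    exact h1.image_of_isOpenImmersion U.ι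

end Groth.Agent.S7390
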