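import Groth.Statements.S7397
import Mathlib

set_option autoImplicit false
universe u
open Mor

namespace Groth.Agent.S7397

/-- Let `A ⊆ B` be a ring extension and `b ∈ B`, `b ∉ A`, with `b^n, b^(n+1) ∈ A` for some `n ≥ 2`. Then
some `b' ∈ B` with `b' ∉ A` has `b'^2 ∈ A` and `b'^3 ∈ A`. -/
theorem result {B : Type u} [CommRing B] (A : Subring B) (b : B) (hb : b ∉ A)
    (n : ℕ) (hn : 2 ≤ n) (h1 : b ^ n ∈ A) (h2 : b ^ (n + 1) ∈ A) :
    ∃ b' : B, b' ∉ A ∧ b' ^ 2 ∈ A ∧ b' ^ 3 ∈ A := by
  classical
  -- all large powers are in A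
  have hbig : ∀ k, n * n ≤ k → b ^ k ∈ A := by
    intro k hk
    have hnpos : 0 < n := by omega
    have hq : n ≤ k / n := by
      rw [Nat.le_div_iff_mul_le hnpos]; exact hk
    have hr : k % n < n := Nat.mod_lt _ hnpos
    have hk' : k = (k / n - k % n) * n + (k % n) * (n + 1) := by
      have := Nat.div_add_mod k n
      have h3 : k / n - k % n + k % n = k / n := by omega
      calc k = n * (k / n) + k % n := this.symm
        _ = n * (k / n - k % n + k % n) + k % n := by rw [h3]
        _ = (k / n - k % n) * n + (k % n) * (n + 1) := by ring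
    rw [hk', pow_add, pow_mul', pow_mul']
    exact A.mul_mem (A.pow_mem h1 _) (A.pow_mem h2 _)
  -- the set of k with b^k ∉ A, k < n*n, nonempty (contains 1)
  let T : Finset ℕ := (Finset.range (n * n)).filter (fun k => b ^ k ∉ A)
  have h1T : 1 ∈ T := by
    simp only [T, Finset.mem_filter, Finset.mem_range, pow_one]
    refine ⟨?_, hb⟩
    nlinarith
  have hT : T.Nonempty := ⟨1, h1T⟩
  set m := T.max' hT with hm
  have hmT : m ∈ T := Finset.max'_mem T hT
  have hm1 : 1 ≤ m := Finset.le_max' T 1 h1T
  have hmem : ∀ k, m < k → b ^ k ∈ A := by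
    intro k hk
    by_contra hkA
    by_cases hkn : k < n * n
    · have : k ∈ T := by
        simp only [T, Finset.mem_filter, Finset.mem_range]
        exact ⟨hkn, hkA⟩
      have := Finset.le_max' T k this
      omega
    · exact hkA (hbig k (by omega))
  refine ⟨b ^ m, ?_, ?_, ?_⟩
  · simp only [T, Finset.mem_filter] at hmT
    exact hmT.2
  · rw [← pow_mul]; exact hmem _ (by omega)
  · rw [← pow_mul]; exact hmem _ (by omega)

end Groth.Agent.S7397
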