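import Groth.Statements.S7404
import Groth.Agent.Lead.UnivHomeo

set_option autoImplicit false
universe u
open CategoryTheory AlgebraicGeometry
open Mor

namespace Groth.Agent.S7404

open CategoryTheory.Limits in
theorem univInj_of_comp {X Y Z : Scheme.{u}} (g : X ⟶ Y) (f' : Y ⟶ Z)
    [h : UniversallyInjective (g ≫ f')] : UniversallyInjective g := by
  have h2 := ((tfae_universallyInjective (g ≫ f')).out 0 1).mp h
  refine ((tfae_universallyInjective g).out 0 1).mpr ?_
  intro K hK h₁ h₂ e
  apply h2 K
  change h₁ ≫ g ≫ f' = h₂ ≫ g ≫ f'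
  have e' : h₁ ≫ g = h₂ ≫ g := e
  rw [← Category.assoc, e', Category.assoc]

open CategoryTheory.Limits in
theorem univInj_of_comp_surjective {X Y Z : Scheme.{u}} (g : X ⟶ Y) (f' : Y ⟶ Z)
    [h : UniversallyInjective (g ≫ f')] [Surjective g] : UniversallyInjective f' := by
  refine ⟨fun X' Y' i₁ i₂ φ H => ?_⟩
  have hpaste := (IsPullback.of_hasPullback i₁ g).paste_horiz H
  have hinj : Function.Injective (pullback.fst i₁ g ≫ φ) :=
    h.universally_injective _ _ _ hpaste
  have hsurj : Function.Surjective (pullback.fst i₁ g) := (pullback.fst i₁ g).surjective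
  intro a b hab
  obtain ⟨a', rfl⟩ := hsurj a
  obtain ⟨b', rfl⟩ := hsurj b
  have : a' = b' := hinj (by simpa [Scheme.Hom.comp_apply] using hab)
  rw [this]

open CategoryTheory.Limits in
/-- universally closed + universally injective + surjective ⇒ universal homeomorphism -/
theorem isUnivHomeo_of {X Y : Scheme.{u}} (g : X ⟶ Y) [UniversallyClosed g]
    [UniversallyInjective g] [Surjective g] : FlatMor.IsUnivHomeo g := by
  intro X' Y' i₁ i₂ φ H
  haveI : UniversallyClosed φ := MorphismProperty.of_isPullback H.flip ‹UniversallyClosed g›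
  haveI : UniversallyInjective φ := MorphismProperty.of_isPullback H.flip ‹UniversallyInjective g›
  haveI : Surjective φ := MorphismProperty.of_isPullback H.flip ‹Surjective g›
  have hemb : Topology.IsClosedEmbedding φ :=
    Topology.IsClosedEmbedding.of_continuous_injective_isClosedMap φ.continuous φ.injective
      φ.isClosedMap
  exact isHomeomorph_iff_isEmbedding_surjective.mpr ⟨hemb.isEmbedding, φ.surjective⟩

theorem univClosed_of_isUnivHomeo {X Y : Scheme.{u}} {f : X ⟶ Y} (hf : FlatMor.IsUnivHomeo f) :
    UniversallyClosed f :=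
  ⟨fun _ _ i₁ i₂ f' H => (hf i₁ i₂ f' H).isClosedMap⟩

theorem residue_surj_of_comp {X Y Z : Scheme.{u}} (g : X ⟶ Y) (f' : Y ⟶ Z) (x : X)
    (h : Function.Surjective ((g ≫ f').residueFieldMap x)) :
    Function.Surjective (f'.residueFieldMap (g x)) := by
  rw [Scheme.residueFieldMap_comp] at h
  intro a
  obtain ⟨b, hb⟩ := h (g.residueFieldMap x a)
  refine ⟨b, ?_⟩
  exact (g.residueFieldMap x).hom.injective hb

theorem aux {A B : Type u} [CommRing A] [CommRing B] [Algebra A B]
    (B' : Subalgebra A B) :
    (FlatMor.IsUnivHomeo (Spec.map (CommRingCat.ofHom (algebraMap A B))) →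
      FlatMor.IsUnivHomeo (Spec.map (CommRingCat.ofHom (algebraMap A B')))) ∧
    ((FlatMor.IsUnivHomeo (Spec.map (CommRingCat.ofHom (algebraMap A B))) ∧
      ∀ x : Spec (CommRingCat.of B),
        Function.Surjective ((Spec.map (CommRingCat.ofHom (algebraMap A B))).residueFieldMap x)) →
      FlatMor.IsUnivHomeo (Spec.map (CommRingCat.ofHom (algebraMap A B'))) ∧
      ∀ x : Spec (CommRingCat.of B'),
        Function.Surjective ((Spec.map (CommRingCat.ofHom (algebraMap A B'))).residueFieldMap x)) ∧
    (UniversallyClosed (Spec.map (CommRingCat.ofHom (algebraMap A B))) →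
      UniversallyClosed (Spec.map (CommRingCat.ofHom (algebraMap A B')))) ∧
    (UniversallyClosed (Spec.map (CommRingCat.ofHom (algebraMap A B))) →
      UniversallyInjective (Spec.map (CommRingCat.ofHom (algebraMap A B))) →
      UniversallyClosed (Spec.map (CommRingCat.ofHom (algebraMap A B'))) ∧
      UniversallyInjective (Spec.map (CommRingCat.ofHom (algebraMap A B')))) := by
  set f := Spec.map (CommRingCat.ofHom (algebraMap A B)) with hf
  set f' := Spec.map (CommRingCat.ofHom (algebraMap A B')) with hf'
  let g := Spec.map (CommRingCat.ofHom (algebraMap B' B))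
  have hfg : f = g ≫ f' := by
    rw [hf, hf', ← Spec.map_comp]
    rfl
  -- key: universally closed f gives g integral and surjective
  have key : UniversallyClosed f → IsIntegralHom g ∧ Surjective g := by
    intro h
    have h1 : IsIntegralHom f := IsIntegralHom.iff_universallyClosed_and_isAffineHom.mpr
      ⟨h, inferInstance⟩
    rw [hf, IsIntegralHom.SpecMap_iff] at h1
    have h2 : (algebraMap B' B).IsIntegral := by
      have : (algebraMap A B) = (algebraMap B' B).comp (algebraMap A B') := rfl
      exact RingHom.IsIntegral.tower_top (algebraMap A B') (algebraMap B' B) (by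
        rw [← this]; exact h1)
    refine ⟨IsIntegralHom.SpecMap_iff.mpr h2, ⟨?_⟩⟩
    exact h2.comap_surjective Subtype.val_injective
  have part3 : UniversallyClosed f → UniversallyClosed f' := by
    intro h
    obtain ⟨-, hs⟩ := key h
    haveI : UniversallyClosed (g ≫ f') := hfg ▸ h
    exact UniversallyClosed.of_comp_surjective g f'
  have part4 : UniversallyClosed f → UniversallyInjective f →
      UniversallyClosed f' ∧ UniversallyInjective f' := by
    intro h h'
    obtain ⟨-, hs⟩ := key h
    haveI : UniversallyInjective (g ≫ f') := hfg ▸ h'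
    exact ⟨part3 h, univInj_of_comp_surjective g f'⟩
  have part1 : FlatMor.IsUnivHomeo f → FlatMor.IsUnivHomeo f' := by
    intro h
    have hc := univClosed_of_isUnivHomeo h
    obtain ⟨hi, hs⟩ := key hc
    haveI : UniversallyInjective (g ≫ f') :=
      hfg ▸ Groth.Agent.Lead.universallyInjective_of_isUnivHomeo h
    haveI : UniversallyInjective g := univInj_of_comp g f'
    have hg : FlatMor.IsUnivHomeo g := isUnivHomeo_of g
    exact (Groth.Agent.Lead.isUnivHomeo_two_out_of_three g f').1 (hfg ▸ h) hg
  refine ⟨part1, ?_, part3, part4⟩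
  rintro ⟨h, hres⟩
  refine ⟨part1 h, fun x' => ?_⟩
  obtain ⟨-, hs⟩ := key (univClosed_of_isUnivHomeo h)
  obtain ⟨x, rfl⟩ := g.surjective x'
  rw [hfg] at hres
  exact residue_surj_of_comp g f' x (hres x)

/-- Let `A → B` be a ring map and `B' ⊆ B` an `A`-subalgebra, with `f : Spec B → Spec A` and `f' : Spec
B' → Spec A` the induced morphisms. Each of the following properties passes from `f` to `f'`: being
a universal homeomorphism; being a universal homeomorphism with trivial residue field extensions;
being universally closed; being both universally closed and universally injective. -/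
theorem result {A B : Type u} [CommRing A] [CommRing B] [Algebra A B]
    (B' : Subalgebra A B) :
    (FlatMor.IsUnivHomeo (Spec.map (CommRingCat.ofHom (algebraMap A B))) →
      FlatMor.IsUnivHomeo (Spec.map (CommRingCat.ofHom (algebraMap A B')))) ∧
    ((FlatMor.IsUnivHomeo (Spec.map (CommRingCat.ofHom (algebraMap A B))) ∧
      ∀ x : Spec (CommRingCat.of B),
        Function.Surjective ((Spec.map (CommRingCat.ofHom (algebraMap A B))).residueFieldMap x)) →
      FlatMor.IsUnivHomeo (Spec.map (CommRingCat.ofHom (algebraMap A B'))) ∧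
      ∀ x : Spec (CommRingCat.of B'),
        Function.Surjective ((Spec.map (CommRingCat.ofHom (algebraMap A B'))).residueFieldMap x)) ∧
    (UniversallyClosed (Spec.map (CommRingCat.ofHom (algebraMap A B))) →
      UniversallyClosed (Spec.map (CommRingCat.ofHom (algebraMap A B')))) ∧
    (UniversallyClosed (Spec.map (CommRingCat.ofHom (algebraMap A B))) →
      UniversallyInjective (Spec.map (CommRingCat.ofHom (algebraMap A B))) →
      UniversallyClosed (Spec.map (CommRingCat.ofHom (algebraMap A B'))) ∧
      UniversallyInjective (Spec.map (CommRingCat.ofHom (algebraMap A B')))) := by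
  exact aux B'

end Groth.Agent.S7404
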