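import Groth.Statements.S7415
import Mathlib
import Groth.Agent.S4650

set_option autoImplicit false
universe u
open CategoryTheory AlgebraicGeometry
open Mor

namespace Groth.Agent.S7415

/-- irreducible components of the source of an open embedding inject into those of the target -/
theorem finite_irreducibleComponents_of_isOpenEmbedding {A B : Type*} [TopologicalSpace A]
    [TopologicalSpace B] [QuasiSober A] [QuasiSober B] (j : A → B)
    (hj : Topology.IsOpenEmbedding j) (h : (irreducibleComponents B).Finite) :
    (irreducibleComponents A).Finite := by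
  apply Set.Finite.of_injOn (f := fun T : Set A => closure (j '' T)) (t := irreducibleComponents B)
    _ _ h
  · intro T hT
    obtain ⟨ξ, -, -, hmem⟩ := Groth.Agent.S4650.closure_image_mem_irreducibleComponents j
      hj.continuous hj.generalizingMap T hT
    exact hmem
  · intro T hT T' hT' heq
    have h1 : IsClosed T := isClosed_of_mem_irreducibleComponents T hT
    have h2 : IsClosed T' := isClosed_of_mem_irreducibleComponents T' hT'
    rw [← h1.closure_eq, ← h2.closure_eq, hj.isInducing.closure_eq_preimage_closure_image,
      hj.isInducing.closure_eq_preimage_closure_image T']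
    exact congrArg _ heq

theorem isGermInjective_Spec_of_finite_minimalPrimes (R : CommRingCat.{u}) [_root_.IsReduced R]
    (hfin : (minimalPrimes R).Finite) : (Spec R).IsGermInjective := by
  classical
  refine Scheme.IsGermInjective.Spec fun I hI => ?_
  let S := hfin.toFinset.filter (fun p => ¬ p ≤ I)
  have hS : ∀ p ∈ S, ∃ g : R, g ∈ p ∧ g ∉ I := by
    intro p hp
    have : ¬ p ≤ I := (Finset.mem_filter.mp hp).2
    exact Set.not_subset.mp this
  choose! g hg using hS
  refine ⟨∏ p ∈ S, g p, ?_, ?_⟩
  · rw [hI.prod_mem_iff]
    rintro ⟨p, hp, hgp⟩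
    exact (hg p hp).2 hgp
  · intro x y hyx hy
    refine ⟨1, ?_⟩
    rw [pow_one]
    have hmem : (∏ p ∈ S, g p) * x ∈ sInf (minimalPrimes R) := by
      rw [Submodule.mem_sInf]
      intro (p : Ideal R) hp
      have hpprime : Ideal.IsPrime p := hp.1.1
      by_cases hpI : p ≤ I
      · have hyp : y ∉ p := fun h => hy (hpI h)
        have : y * x ∈ p := by rw [hyx]; exact p.zero_mem
        exact Ideal.mul_mem_left p _ ((hpprime.mem_or_mem this).resolve_left hyp)
      · have hpS : p ∈ S := Finset.mem_filter.mpr ⟨hfin.mem_toFinset.mpr hp, hpI⟩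
        exact Ideal.mul_mem_right _ p
          (Ideal.mem_of_dvd _ (Finset.dvd_prod_of_mem _ hpS) (hg p hpS).1)
    have hrad : sInf (minimalPrimes R) = ⊥ := by
      show sInf (⊥ : Ideal R).minimalPrimes = ⊥
      rw [Ideal.sInf_minimalPrimes]
      exact nilradical_eq_zero R
    rw [hrad] at hmem
    exact hmem

/-- Let `X` be a reduced scheme with finitely many irreducible components and `x ∈ X`. Then `x` has an
affine open neighbourhood `U` such that `O_X(U) → O_{X,x}` is injective. -/
theorem result (X : Scheme.{u}) [AlgebraicGeometry.IsReduced X]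
    (hirr : (irreducibleComponents (X : Type u)).Finite) (x : X) : X.IsGermInjectiveAt x := by
  obtain ⟨i, y, rfl⟩ := X.affineOpenCover.openCover.exists_eq x
  change X.IsGermInjectiveAt ((X.affineOpenCover.f i) y)
  rw [isGermInjectiveAt_iff_of_isOpenImmersion]
  have hred : AlgebraicGeometry.IsReduced (Spec (X.affineOpenCover.X i)) :=
    isReduced_of_isOpenImmersion (X.affineOpenCover.f i)
  have hredR : _root_.IsReduced (X.affineOpenCover.X i) := affine_isReduced_iff _ |>.mp hred
  have h1 : (irreducibleComponents (PrimeSpectrum (X.affineOpenCover.X i))).Finite :=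
    finite_irreducibleComponents_of_isOpenEmbedding (X.affineOpenCover.f i)
      (X.affineOpenCover.f i).isOpenEmbedding hirr
  have h2 : (minimalPrimes (X.affineOpenCover.X i)).Finite := by
    rw [← PrimeSpectrum.vanishingIdeal_irreducibleComponents]
    exact h1.image _
  exact isGermInjective_Spec_of_finite_minimalPrimes _ h2 y

end Groth.Agent.S7415
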