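import Groth.Statements.S7416


set_option autoImplicit false
universe u
open CategoryTheory AlgebraicGeometry
open Mor

namespace Groth.Agent.S7416

theorem aux {U V W : Scheme.{u}} [IsAffine U]
    [IsAffine V] (i : W ⟶ U) (j : W ⟶ V) [IsOpenImmersion i] [IsOpenImmersion j] (w : W) :
    ∃ (W' : W.Opens) (f : Γ(U, ⊤)) (g : Γ(V, ⊤)), w ∈ W' ∧ i ''ᵁ W' = U.basicOpen f ∧ j ''ᵁ W' = V.basicOpen g := by
  have hU := isAffineOpen_top U
  have hV := isAffineOpen_top V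
  obtain ⟨f₀, hf₀, hwf₀⟩ := hU.exists_basicOpen_le (V := i.opensRange) ⟨i w, ⟨w, rfl⟩⟩ trivial
  have hD : IsAffineOpen (U.basicOpen f₀) := hU.basicOpen f₀
  set W₁ : W.Opens := i ⁻¹ᵁ (U.basicOpen f₀) with hW₁def
  have hW₁ : IsAffineOpen W₁ := hD.preimage_of_isOpenImmersion i hf₀
  have hwW₁ : w ∈ W₁ := hwf₀
  have hjW₁ : IsAffineOpen (j ''ᵁ W₁) := hW₁.image_of_isOpenImmersion j
  obtain ⟨g, hg, hwg⟩ := hV.exists_basicOpen_le (V := j ''ᵁ W₁) ⟨j w, ⟨w, hwW₁, rfl⟩⟩ trivial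
  set s : Γ(W, W₁) := j.appLE ⊤ W₁ le_top g with hs
  have hbs : W.basicOpen s = W₁ ⊓ j ⁻¹ᵁ (V.basicOpen g) := Scheme.basicOpen_appLE _ _ _ _ _
  have heq : i ''ᵁ W₁ = U.basicOpen f₀ := by
    rw [hW₁def, i.image_preimage_eq_opensRange_inf, inf_eq_right.mpr hf₀]
  obtain ⟨f', hf'⟩ := hU.basicOpen_basicOpen_is_basicOpen f₀
    (U.presheaf.map (eqToHom heq.symm).op ((i.appIso W₁).inv s))
  rw [Scheme.basicOpen_res_eq] at hf'
  refine ⟨W.basicOpen s, f', g, ?_, ?_, ?_⟩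
  · rw [hbs]
    exact ⟨hwW₁, hwg⟩
  · rw [hf', Scheme.image_basicOpen]
  · rw [hbs]
    ext y
    constructor
    · rintro ⟨x, ⟨_, hx⟩, rfl⟩
      exact hx
    · intro hy
      obtain ⟨x, hx, rfl⟩ := hg hy
      exact ⟨x, ⟨hx, hy⟩, rfl⟩

/-- Let `U`, `V` be affine schemes and `W → U`, `W → V` open immersions. Then every `w ∈ W` has an open
neighbourhood `W' ⊆ W` whose images in `U` and in `V` are standard opens `D(f) ⊆ U`, `D(g) ⊆ V` (in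
particular `W'` is affine). -/
theorem result {U V W : Scheme.{u}} [IsAffine U]
    [IsAffine V] (i : W ⟶ U) (j : W ⟶ V) [IsOpenImmersion i] [IsOpenImmersion j] (w : W) :
    ∃ (W' : W.Opens) (f : Γ(U, ⊤)) (g : Γ(V, ⊤)), w ∈ W' ∧ i ''ᵁ W' = U.basicOpen f ∧ j ''ᵁ W' = V.basicOpen g := by
  exact aux i j w

end Groth.Agent.S7416
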