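import Groth.Statements.S7421
import Mathlib

set_option autoImplicit false
universe u
open scoped TensorProduct
open CategoryTheory AlgebraicGeometry
open HTop

namespace Groth.Agent.S7421

/-- A seminormal ring is reduced, and a seminormal scheme is reduced. -/
theorem result :
    (∀ (A : Type u) [CommRing A], HTop.IsSeminormalRing A → IsReduced A) ∧
    ∀ (X : Scheme.{u}), HTop.IsSeminormal X → AlgebraicGeometry.IsReduced X := by
  have hring : ∀ (A : Type u) [CommRing A], HTop.IsSeminormalRing A → _root_.IsReduced A := by
    intro A _ hA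
    rw [isReduced_iff_pow_one_lt 2 one_lt_two]
    intro a ha
    obtain ⟨b, -, hb⟩ := hA 0 0 (by simp)
    have h0 : (0 : A) = b := hb 0 ⟨by simp, by simp⟩
    have h1 : a = b := hb a ⟨ha.symm, by rw [pow_succ, ha, zero_mul]⟩
    rw [h1, ← h0]
  refine ⟨hring, ?_⟩
  intro X hX
  choose U hxU hU using hX
  have hred : ∀ x, _root_.IsReduced Γ(X, (U x : X.Opens)) := fun x => hring _ (hU x)
  haveI : ∀ x, AlgebraicGeometry.IsReduced ((U x : X.Opens) : Scheme) := by
    intro x
    haveI : IsAffine ((U x : X.Opens) : Scheme) := (U x).2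
    haveI : _root_.IsReduced Γ(((U x : X.Opens) : Scheme), ⊤) := by
      haveI := hred x
      exact isReduced_of_injective ((U x : X.Opens).topIso.hom.hom)
        ((U x : X.Opens).topIso.commRingCatIsoToRingEquiv.injective)
    exact isReduced_of_isAffine_isReduced _
  have hcov : TopologicalSpace.IsOpenCover (fun x : X => (U x : X.Opens)) := by
    apply TopologicalSpace.IsOpenCover.mk
    rw [eq_top_iff]
    intro x _
    exact TopologicalSpace.Opens.mem_iSup.2 ⟨x, hxU x⟩
  exact @IsReduced.of_openCover X (X.openCoverOfIsOpenCover _ hcov) (fun i => this i)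

end Groth.Agent.S7421
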