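import Groth.Statements.S7432
import Groth.Agent.Lead.TopBCO
import Groth.Agent.Helper1.RpCoh
import Groth.Agent.Helper1.Dev3

set_option autoImplicit false
universe u
open Lim

namespace Groth.Agent.S7432

open AlgebraicGeometry CategoryTheory in
/-- Assume `f : X → Y` is a proper morphism whose fibres all have dimension no greater than `d`, and
consider an `O_X`-module `F` that is quasi-coherent and of finite type. Then `R^d f_* F` is again an
`O_Y`-module that is quasi-coherent and of finite type. (Being 'quasi-coherent of finite type' is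
expressed via the prelude's predicate `Coh.IsCoh`, which on an arbitrary scheme means precisely
this; `R^d f_*` denotes the right derived functor of `f_*` on `O`-modules, defined under the
instance binder asserting that `O_X`-modules admit injective resolutions.) -/
theorem result {X Y : Scheme.{u}} (f : X ⟶ Y) [IsProper f] (d : ℕ)
    (hd : ∀ y : Y, topologicalKrullDim ↥(f.fiber y) ≤ d) [HasInjectiveResolutions X.Modules] (M : X.Modules)
    (hM : Coh.IsCoh M) : Coh.IsCoh ((Coh.Rpush f d).obj M) := by
  haveI : Coh.IsQCoh M := hM.1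
  have hdx : ∀ x : X, FlatMor.fibreDimAt f x ≤ d :=
    Groth.Agent.Lead.FibVan.forall_of_fiber_dim_le f d hd
  apply Groth.Agent.Helper1.RpCoh.isCoh_Rpush_of_finite f M d
  intro D hD
  haveI : IsAffine (D : Scheme) := hD
  have sq : IsPullback (f ⁻¹ᵁ D).ι (f ∣_ D) f D.ι := (isPullback_morphismRestrict f D).flip
  haveI : IsProper (f ∣_ D) := MorphismProperty.of_isPullback sq inferInstance
  have hdD : ∀ x, FlatMor.fibreDimAt (f ∣_ D) x ≤ d := fun x =>
    (Groth.Agent.S9358.result f D.ι (f ⁻¹ᵁ D).ι (f ∣_ D) sq d).2.1 hdx x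
  have hMD : Coh.IsCoh (M.restrict (f ⁻¹ᵁ D).ι) :=
    Groth.Agent.Helper1.Dev.isCoh_restrict hM (f ⁻¹ᵁ D)
  exact Groth.Agent.Lead.TopBC.finite_HH_top_coh' (f ∣_ D) d hdD _ hMD

end Groth.Agent.S7432
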