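import Groth.Statements.S7447
import Groth.Agent.Lead.NApxM
import Mathlib

set_option autoImplicit false
universe u
open CategoryTheory AlgebraicGeometry
open Opposite
open Lim

namespace Groth.Agent.S7447

/-- Noetherian approximation relative to a quasi-compact open: let `S` be quasi-compact and
quasi-separated, `V ⊆ S` a quasi-compact open, and `V = lim V_i` the limit of an inverse system,
over a nonempty directed set `I`, of schemes of finite type over `ℤ` with affine transition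
morphisms. Then there are a nonempty directed set `J`, an inverse system `(S_j)` of schemes of
finite type over `ℤ` with affine transition morphisms and `S = lim S_j`, an order preserving map `α
: J → I`, opens `V'_j ⊆ S_j` and isomorphisms `V'_j ≅ V_{α(j)}` such that: the transition maps
satisfy `g_{jj'}⁻¹(V'_{j'}) = V'_j`; `V` is the inverse image of each `V'_j` under `S → S_j` (which
identifies `V` with `lim V'_j`); the composite `V → V'_j → V_{α(j)}` is the projection; and the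
squares `V'_j → V_{α(j)} → V_{α(j')}`, `V'_j → V'_{j'} → V_{α(j')}` commute. -/
theorem result (S : Scheme.{u}) [CompactSpace S] [QuasiSeparatedSpace S]
    (V : S.Opens) (hV : IsCompact (V : Set S)) (I : Type u) [Preorder I] [IsDirected I (fun a b => a ≤ b)] [Nonempty I]
    (DV : Iᵒᵖ ⥤ Scheme.{u}) (haff : ∀ (i i' : Iᵒᵖ) (a : i ⟶ i'), IsAffineHom (DV.map a))
    (hft : ∀ i, CompactSpace (DV.obj i) ∧ LocallyOfFiniteType (Limits.IsTerminal.from specULiftZIsTerminal (DV.obj i)))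
    (cV : Limits.Cone DV) (hcV : Limits.IsLimit cV) (eV : cV.pt ≅ (V : Scheme.{u})) :
    ∃ (J : Type u) (_ : Preorder J) (_ : IsDirected J (fun a b => a ≤ b)) (_ : Nonempty J)
      (DS : Jᵒᵖ ⥤ Scheme.{u}) (cS : Limits.Cone DS) (_ : Limits.IsLimit cS) (eS : cS.pt ≅ S)
      (α : J →o I) (V' : ∀ j : J, (DS.obj (op j)).Opens)
      (φ : ∀ j : J, (V' j : Scheme.{u}) ≅ DV.obj (op (α j))),
      (∀ (j j' : Jᵒᵖ) (a : j ⟶ j'), IsAffineHom (DS.map a)) ∧
      (∀ j, CompactSpace (DS.obj j) ∧ LocallyOfFiniteType (Limits.IsTerminal.from specULiftZIsTerminal (DS.obj j))) ∧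
      (∀ (j j' : J) (h : j' ≤ j), (DS.map (homOfLE h).op) ⁻¹ᵁ (V' j') = V' j) ∧
      (∀ j : J, (eS.inv ≫ cS.π.app (op j)) ⁻¹ᵁ (V' j) = V) ∧
      (∀ j : J, ∃ ρ : (V : Scheme.{u}) ⟶ (V' j : Scheme.{u}),
        ρ ≫ (V' j).ι = V.ι ≫ eS.inv ≫ cS.π.app (op j) ∧ ρ ≫ (φ j).hom = eV.inv ≫ cV.π.app (op (α j))) ∧
      (∀ (j j' : J) (h : j' ≤ j), ∃ τ : (V' j : Scheme.{u}) ⟶ (V' j' : Scheme.{u}),
        τ ≫ (V' j').ι = (V' j).ι ≫ DS.map (homOfLE h).op ∧
        (φ j).hom ≫ DV.map (homOfLE (α.mono h)).op = τ ≫ (φ j').hom) := by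
    classical
  obtain ⟨J, i1, i2, i3, DS, cS, hcS, e, α, u, h1, h2, h3, h4, h5⟩ :=
    Groth.Agent.Lead.NApxM.hasExt_of_qcqs DV haff hft cV hcV S V eV
  haveI := h1
  let V' : ∀ j : J, (DS.obj (op j)).Opens := fun j ↦ (u j).opensRange
  let φ : ∀ j : J, (V' j : Scheme.{u}) ≅ DV.obj (op (α j)) := fun j ↦ (u j).isoOpensRange.symm
  have hφι : ∀ j : J, (φ j).inv ≫ (V' j).ι = u j := fun j ↦ (u j).isoOpensRange_hom_ι
  have hφι' : ∀ j : J, (φ j).hom ≫ u j = (V' j).ι := fun j ↦ by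
    rw [← hφι j, Iso.hom_inv_id_assoc]
  refine ⟨J, i1, i2, i3, DS, cS, hcS, e, α, V', φ, h2, h3, ?_, ?_, ?_, ?_⟩
  · intro j j' h
    exact (Groth.Agent.Lead.NApxB.opensRange_snd_of_isPullback (h4 j j' h)).symm
  · intro j
    have hp := Groth.Agent.Lead.NApxB.opensRange_snd_of_isPullback (h5 j)
    rw [Scheme.Hom.comp_preimage]
    change e.inv ⁻¹ᵁ (cS.π.app (op j) ⁻¹ᵁ (u j).opensRange) = V
    rw [← hp]
    ext x
    constructor
    · rintro ⟨z, hz⟩
      have hz' : e.inv (V.ι (eV.hom z)) = e.inv x := by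
        simpa [Scheme.Hom.comp_apply] using hz
      have hinj : Function.Injective e.inv := e.inv.isOpenEmbedding.injective
      have := hinj hz'
      rw [← this]
      exact (eV.hom z).2
    · intro hx
      obtain ⟨z, hz⟩ := eV.hom.surjective ⟨x, hx⟩
      refine ⟨z, ?_⟩
      simp only [Scheme.Hom.comp_apply]
      rw [hz]
      rfl
  · intro j
    refine ⟨eV.inv ≫ cV.π.app (op (α j)) ≫ (φ j).inv, ?_, ?_⟩
    · rw [Category.assoc, Category.assoc, hφι j, (h5 j).w]
      simp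
    · simp
  · intro j j' h
    refine ⟨(φ j).hom ≫ DV.map (homOfLE (α.mono h)).op ≫ (φ j').inv, ?_, ?_⟩
    · rw [Category.assoc, Category.assoc, hφι j', (h4 j j' h).w, ← Category.assoc, hφι' j]
    · simp

end Groth.Agent.S7447
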