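import Groth.Statements.S7453
import Mathlib
import Groth.Agent.Helper2.Grpd2
import Groth.Agent.Helper2.Grpd4
open Groth.Agent.Helper2.Grpd2 Groth.Agent.Helper2.Grpd4
-- import your own Groth.Agent.* helpers here

set_option autoImplicit false
universe u
open CategoryTheory CategoryTheory.Limits AlgebraicGeometry
open Grpd

namespace Groth.Agent.S7453

/-- Let (U, R, s, t, c) be a groupoid scheme over S with U the spectrum of a field. Then R is a
separated scheme. (A groupoid scheme carries U, R, s, t, c, e, i over S with the groupoid axioms on
T-points; c is defined on the fibre product of s and t and sends a pair (a, b) with s(a) = t(b) to a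
composed with b.) -/
theorem result (S : Scheme.{u}) (G : Grpd.GroupoidScheme S) (k : Type u) [Field k] (eU : G.U ≅ Spec (CommRingCat.of k)) : G.R.IsSeparated := by
  have hs : Subsingleton G.U := eU.hom.homeomorph.subsingleton
  have h1 : IsSeparated G.s := isSeparated_s G hs
  have h2 : IsAffine G.U := IsAffine.of_isIso eU.hom
  refine ⟨?_⟩
  rw [← terminal.comp_from G.s]
  infer_instance

end Groth.Agent.S7453
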