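import Groth.Statements.S7454
import Groth.Agent.Helper2.GrpdSmooth
import Groth.Agent.Helper2.PtDesc
import Groth.Agent.Helper2.Grpd3
import Groth.Agent.Helper2.Grpd19
import Groth.Agent.Helper2.RedNhd
import Groth.Agent.Helper8.GrpdCartier
open Groth.Agent.Helper2 Groth.Agent.Helper2.GrpdSmooth

set_option autoImplicit false
universe u
open CategoryTheory CategoryTheory.Limits AlgebraicGeometry
open Grpd

namespace Groth.Agent.S7454

/-- Let (U, R, s, t, c) be a groupoid scheme over S with U the spectrum of a field of characteristic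
zero and s, t locally of finite type. Then s and t are smooth. (A groupoid scheme carries U, R, s,
t, c, e, i over S with the groupoid axioms on T-points; c is defined on the fibre product of s and t
and sends a pair (a, b) with s(a) = t(b) to a composed with b.) -/
theorem result (S : Scheme.{u}) (G : Grpd.GroupoidScheme S) (k : Type u) [Field k] [CharZero k] (eU : G.U ≅ Spec (CommRingCat.of k)) [LocallyOfFiniteType G.s] [LocallyOfFiniteType G.t] : Smooth G.s ∧ Smooth G.t := by
  obtain ⟨hint, hsub⟩ := Grpd3.isIntegral_subsingleton_of_iso k eU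
  have hnoeth : IsLocallyNoetherian G.U := isLocallyNoetherian_of_isOpenImmersion eU.hom
  haveI : IsLocallyNoetherian G.R := LocallyOfFiniteType.isLocallyNoetherian G.s
  have hflat : Flat G.s := inferInstance
  have hQ' := RingHom.FormallySmooth.respectsIso
  haveI : PerfectField k := PerfectField.ofCharZero
  haveI := Groth.Agent.Helper8.GrpdCartier.isReduced_stalk G eU
  obtain ⟨W, hxW, hW⟩ := RedNhd.exists_isReduced_nhd (Groth.Agent.Helper8.GrpdCartier.x0 G eU)
  haveI : Nonempty W := ⟨⟨_, hxW⟩⟩
  obtain ⟨y, hy⟩ := (W.ι ≫ G.s ≫ eU.hom).dense_smoothLocus_of_perfectField.nonempty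
  rw [← Scheme.Hom.preimage_smoothLocus_eq] at hy
  have hs : Smooth G.s := by
    rw [← Scheme.Hom.smoothLocus_eq_top_iff, eq_top_iff]
    intro r _
    have hne : Nonempty G.R := ⟨r⟩
    set w := W.ι y with hwdef
    have hw : ((G.s ≫ eU.hom).stalkMap w).hom.FormallySmooth := hy
    have hw' : (G.s.stalkMap w).hom.FormallySmooth := by
      exact (Groth.Agent.Helper3.UnramBC.stalkMap_iff_of_square hQ' (G.s ≫ eU.hom) G.s (𝟙 _)
        eU.hom (Category.id_comp _) w).mpr hw
    obtain ⟨z, hz1, hz2⟩ := exists_point G w r (Subsingleton.elim _ _)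
    have h3 : ∃ U' : (pullback G.s G.t).Opens, z ∈ U' ∧ Smooth (U'.ι ≫ pullback.snd G.s G.t) := by
      apply smooth_nbhd_of_isPullback (IsPullback.of_hasPullback G.s G.t) z
      rw [hz1]
      exact (PtDesc.smooth_nbhd_iff G.s w).mpr hw'
    have h4 : ((pullback.snd G.s G.t).stalkMap z).hom.FormallySmooth :=
      (PtDesc.smooth_nbhd_iff _ z).mp h3
    have h5 := PtDesc.stalkMap_formallySmooth_of_isPullback (Grpd2.isPullback_c G) z h4
    rw [Scheme.Hom.mem_smoothLocus]
    rwa [hQ'.arrow_mk_iso_iff (G.s.arrowStalkMapIsoOfEq hz2.symm)]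
  refine ⟨hs, ?_⟩
  rw [← G.i_s]
  infer_instance

end Groth.Agent.S7454
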