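import Groth.Statements.S7459
import Mathlib
import Groth.Agent.Helper2.GrpBridge
import Groth.Agent.Helper2.Grpd3
import Groth.Agent.Helper2.Grpd5
open Groth.Agent.Helper2 Groth.Agent.Helper2.GrpBridge CategoryTheory.Limits
-- import your own Groth.Agent.* helpers here

set_option autoImplicit false
universe u
open CategoryTheory MonoidalCategory CartesianMonoidalCategory MonObj GrpObj AlgebraicGeometry
open GrpSch

namespace Groth.Agent.S7459

/-- Let G be a group scheme over a field k, W an open subscheme of G and f : T -> G a morphism of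
schemes (T becomes a k-scheme through f). Then the image of the composition T x_k W -> G x_k G -> G,
the second map being the multiplication, is open. -/
theorem result (K : Type u) [Field K] (G : Over (Spec (CommRingCat.of K))) [GrpObj G] (W : G.left.Opens) (T : Scheme.{u}) (f : T ⟶ G.left) : IsOpen (Set.range ⇑(((Over.homMk f rfl : Over.mk (f ≫ G.hom) ⟶ G) ⊗ₘ (Over.homMk W.ι rfl : Over.mk (W.ι ≫ G.hom) ⟶ G)) ≫ μ[G]).left) := by
  obtain ⟨h1, h2⟩ := Grpd3.isIntegral_subsingleton_of_iso (U := (toGrpd G).U) K (Iso.refl _)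
  have key := Grpd5.isOpen_range_translate (toGrpd G) (Z := T) f h1 h2 W
  have heq : (((Over.homMk f rfl : Over.mk (f ≫ G.hom) ⟶ G) ⊗ₘ (Over.homMk W.ι rfl : Over.mk (W.ι ≫ G.hom) ⟶ G)) ≫ μ[G]).left =
      pullback.lift (pullback.fst (f ≫ (toGrpd G).s) (W.ι ≫ (toGrpd G).t) ≫ f)
        (pullback.snd (f ≫ (toGrpd G).s) (W.ι ≫ (toGrpd G).t) ≫ W.ι)
        ((Category.assoc _ _ _).trans (pullback.condition.trans (Category.assoc _ _ _).symm)) ≫
          (toGrpd G).c := by
    rw [Over.comp_left]
    congr 1
  rw [heq]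
  exact key

end Groth.Agent.S7459
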