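import Groth.Statements.S7470
import Mathlib

set_option autoImplicit false
universe w u
open HTop

namespace Groth.Agent.S7470

open CategoryTheory CategoryTheory.Limits AlgebraicGeometry in
/-- Let E be a standard V covering of an affine scheme T and, for every member T_j of E, let F_j be a
standard V covering of T_j. Then the composite family of all T_ji -> T is a standard V covering. -/
theorem result {T : Scheme.{u}} (E : PreZeroHypercover.{w} T) (hE : HTop.IsStandardV E) (F : ∀ j, PreZeroHypercover.{w} (E.X j)) (hF : ∀ j, HTop.IsStandardV (F j)) : HTop.IsStandardV (E.bind F) := by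
  obtain ⟨hT, hfin, haff, hlift⟩ := hE
  haveI := hfin
  haveI : ∀ j, Finite (F j).I₀ := fun j => (hF j).finite_index
  refine ⟨hT, ?_, ?_, ?_⟩
  · exact inferInstanceAs (Finite (Σ (i : E.I₀), (F i).I₀))
  · rintro ⟨j, k⟩
    exact (hF j).isAffine_obj k
  · intro V _ _ g
    obtain ⟨W, hW1, hW2, φ, ⟨hφ1, hφ2⟩, j, g', hg'⟩ := hlift V g
    obtain ⟨W', hW'1, hW'2, ψ, ⟨hψ1, hψ2⟩, k, g'', hg''⟩ := (hF j).lift W g'
    refine ⟨W', hW'1, hW'2, φ ≫ ψ, ⟨?_, ?_⟩, ⟨j, k⟩, g'', ?_⟩
    · rw [CommRingCat.hom_comp]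
      exact hψ1.comp hφ1
    · rw [CommRingCat.hom_comp]
      exact RingHom.isLocalHom_comp _ _
    · show g'' ≫ ((F j).f k ≫ E.f j) = _
      rw [← Category.assoc, hg'', Category.assoc, hg', Spec.map_comp, Category.assoc]

end Groth.Agent.S7470
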