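import Groth.Statements.S7474
import Mathlib
import Groth.Agent.Lead.VSheaf

set_option autoImplicit false
universe w u
open HTop

namespace Groth.Agent.S7474

open CategoryTheory CategoryTheory.Limits AlgebraicGeometry in
theorem aux (F : Scheme.{u}ᵒᵖ ⥤ Type w) : HTop.IsVSheaf F ↔ (Presieve.IsSheaf Scheme.zariskiTopology F ∧ ∀ (T : Scheme.{u}) (E : PreZeroHypercover.{u} T), HTop.IsStandardV E → Presieve.IsSheafFor F E.presieve₀) := by
  constructor
  · intro hV
    exact ⟨Groth.Agent.Lead.VSheaf.isSheaf_zariski_of_isVSheaf hV,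
      fun T E hE => Groth.Agent.Lead.VSheaf.isSheafFor_of_isStandardV hV E hE⟩
  · rintro ⟨hZ, H⟩
    refine Groth.Agent.Lead.VSheaf.isVSheaf_of_singletonHyp hZ ?_
    intro U V f hU hV hf
    rw [← PreZeroHypercover.presieve₀_singleton.{_, _, u}]
    refine H U _ ⟨hU, ?_, ?_, ?_⟩
    · exact inferInstanceAs (Finite PUnit)
    · intro j; exact hV
    · intro W _ _ g
      obtain ⟨W', hW1, hW2, φ, hφ, j, ℓ, hℓ⟩ := hf W g
      exact ⟨W', hW1, hW2, φ, hφ, PUnit.unit, ℓ, hℓ⟩

open CategoryTheory CategoryTheory.Limits AlgebraicGeometry in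
/-- A presheaf F of sets on the category of all schemes has the sheaf property for every V covering
family exactly when F is a sheaf for the Zariski topology and has the sheaf property for each
standard V covering. -/
theorem result (F : Scheme.{u}ᵒᵖ ⥤ Type w) : HTop.IsVSheaf F ↔ (Presieve.IsSheaf Scheme.zariskiTopology F ∧ ∀ (T : Scheme.{u}) (E : PreZeroHypercover.{u} T), HTop.IsStandardV E → Presieve.IsSheafFor F E.presieve₀) := by
  exact aux F

end Groth.Agent.S7474
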