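import Groth.Statements.S7475
import Mathlib
import Groth.Agent.Lead.VSheaf

set_option autoImplicit false
universe w u
open HTop

namespace Groth.Agent.S7475

open CategoryTheory CategoryTheory.Limits AlgebraicGeometry in
theorem aux (F : Scheme.{u}ᵒᵖ ⥤ Type w) : HTop.IsVSheaf F ↔ (Presieve.IsSheaf Scheme.zariskiTopology F ∧ ∀ (U V : Scheme.{u}) (f : V ⟶ U), HTop.IsStandardV (PreZeroHypercover.singleton f) → Presieve.IsSheafFor F (Presieve.singleton f)) := by
  constructor
  · intro hV
    refine ⟨Groth.Agent.Lead.VSheaf.isSheaf_zariski_of_isVSheaf hV, fun U V f hf => ?_⟩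
    have := Groth.Agent.Lead.VSheaf.isSheafFor_of_isStandardV hV _ hf
    rwa [PreZeroHypercover.presieve₀_singleton] at this
  · rintro ⟨hZ, H⟩
    refine Groth.Agent.Lead.VSheaf.isVSheaf_of_singletonHyp hZ ?_
    intro U V f hU hV hf
    refine H U V f ⟨hU, ?_, ?_, ?_⟩
    · exact inferInstanceAs (Finite PUnit)
    · intro j; exact hV
    · intro W _ _ g
      obtain ⟨W', hW1, hW2, φ, hφ, j, ℓ, hℓ⟩ := hf W g
      exact ⟨W', hW1, hW2, φ, hφ, PUnit.unit, ℓ, hℓ⟩

open CategoryTheory CategoryTheory.Limits AlgebraicGeometry in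
/-- Variant with a single arrow: a presheaf of sets on all schemes has the sheaf property for every V
covering family exactly when it is a Zariski sheaf and has the sheaf property for every morphism V
-> U of affine schemes that on its own forms a standard V covering. -/
theorem result (F : Scheme.{u}ᵒᵖ ⥤ Type w) : HTop.IsVSheaf F ↔ (Presieve.IsSheaf Scheme.zariskiTopology F ∧ ∀ (U V : Scheme.{u}) (f : V ⟶ U), HTop.IsStandardV (PreZeroHypercover.singleton f) → Presieve.IsSheafFor F (Presieve.singleton f)) := by
  exact aux F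

end Groth.Agent.S7475
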