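import Groth.Statements.S7490
import Mathlib
import Groth.Agent.Helper2.QuotEpi
open Groth.Agent.Helper2 Groth.Agent.Helper2.QuotIff Groth.Agent.Helper2.QuotEpi
-- import your own Groth.Agent.* helpers here

set_option autoImplicit false
open CategoryTheory CategoryTheory.Limits AlgebraicGeometry
universe u
open QuotSh

namespace Groth.Agent.S7490

/-- Let K be a precoverage on schemes (the topology τ), S a scheme, s, t : R -> U morphisms of schemes
over S (a pre-relation) and q : U -> M a morphism over S such that (1) q coequalizes s and t, (2)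
the induced map of τ-sheaves h_U -> h_M is an epimorphism, and (3) the map h_R -> h_(U x_M U)
induced by (t, s) is an epimorphism of τ-sheaves. Then M, through q, represents the quotient sheaf
U/R: the canonical map from the coequalizer of h_s, h_t to h_M is an isomorphism. (The published
statement takes τ to be the Zariski, étale, fppf, smooth or syntomic topology; this row allows the
topology generated by any precoverage K.) -/
theorem result (K : Precoverage Scheme.{u}) {S : Scheme.{u}} {R U M : Over S} (s t : R ⟶ U) (q : U ⟶ M) (w : s ≫ q = t ≫ q) (w' : t.left ≫ q.left = s.left ≫ q.left) (h₂ : Epi (QuotSh.repMap K q)) (h₃ : Epi (QuotSh.repMap K (Over.homMk (pullback.lift t.left s.left w') (((Category.assoc _ _ _).symm.trans (congrArg (fun k => k ≫ U.hom) (pullback.lift_fst t.left s.left w'))).trans (Over.w t)) : R ⟶ Over.mk (pullback.fst q.left q.left ≫ U.hom)))) : QuotSh.IsQuotient K s t q := by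
  refine ⟨w, ?_⟩
  set P : Over S := Over.mk (pullback.fst q.left q.left ≫ U.hom) with hP
  let p₁ : P ⟶ U := Over.homMk (pullback.fst q.left q.left) rfl
  let p₂ : P ⟶ U := Over.homMk (pullback.snd q.left q.left) (by
    change pullback.snd q.left q.left ≫ U.hom = pullback.fst q.left q.left ≫ U.hom
    rw [← Over.w q, ← Category.assoc, ← pullback.condition, Category.assoc])
  have hpw : p₁ ≫ q = p₂ ≫ q := by
    ext
    exact pullback.condition
  have hkp : IsKernelPair q p₁ p₂ :=
    IsPullback.of_map (Over.forget S) hpw (IsPullback.of_hasPullback q.left q.left)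
  set e : R ⟶ P := Over.homMk (pullback.lift t.left s.left w') (((Category.assoc _ _ _).symm.trans (congrArg (fun k => k ≫ U.hom) (pullback.lift_fst t.left s.left w'))).trans (Over.w t)) with he
  have he1 : e ≫ p₁ = t := by
    ext
    exact pullback.lift_fst _ _ _
  have he2 : e ≫ p₂ = s := by
    ext
    exact pullback.lift_snd _ _ _
  have hkp' : IsKernelPair ((Fun K).map q) ((Fun K).map p₁) ((Fun K).map p₂) := hkp.map (Fun K)
  haveI : Epi ((Fun K).map q) := h₂
  haveI : IsRegularEpi ((Fun K).map q) := IsRegularEpiCategory.regularEpiOfEpi _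
  have hcol : IsColimit (Cofork.ofπ ((Fun K).map q) hkp'.w) := hkp'.toCoequalizer'
  haveI : Epi ((Fun K).map e) := h₃
  have hcol2 := isColimit_of_epi_comp ((Fun K).map e) hkp'.w hcol
  have w2 : QuotSh.repMap K s ≫ QuotSh.repMap K q = QuotSh.repMap K t ≫ QuotSh.repMap K q := by
    change (Fun K).map s ≫ (Fun K).map q = (Fun K).map t ≫ (Fun K).map q
    rw [← Functor.map_comp, ← Functor.map_comp, w]
  let inv : QuotSh.rep K M ⟶ QuotSh.quot K s t :=
    Cofork.IsColimit.desc hcol2 (QuotSh.quotπ K s t) (by
      change ((Fun K).map e ≫ (Fun K).map p₁) ≫ _ = ((Fun K).map e ≫ (Fun K).map p₂) ≫ _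
      rw [← Functor.map_comp, ← Functor.map_comp, he1, he2]
      exact (QuotSh.quot_condition K s t).symm)
  have h1 : QuotSh.repMap K q ≫ inv = QuotSh.quotπ K s t :=
    Cofork.IsColimit.π_desc' hcol2 _ _
  have h2 : QuotSh.quotπ K s t ≫ QuotSh.quotDesc K q w = QuotSh.repMap K q :=
    coequalizer.π_desc _ _
  refine ⟨inv, ?_, ?_⟩
  · apply coequalizer.hom_ext
    change QuotSh.quotπ K s t ≫ _ = QuotSh.quotπ K s t ≫ _
    rw [← Category.assoc, h2, h1, Category.comp_id]
  · apply Cofork.IsColimit.hom_ext hcol2
    change QuotSh.repMap K q ≫ _ = QuotSh.repMap K q ≫ _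
    rw [← Category.assoc, h1, h2, Category.comp_id]

end Groth.Agent.S7490
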