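import Groth.Statements.S7494
import Mathlib
import Groth.Agent.Helper9.ExactH1
-- import your own Groth.Agent.* helpers here

set_option autoImplicit false
universe u
open CategoryTheory MonoidalCategory CartesianMonoidalCategory MonObj GrpObj AlgebraicGeometry
open AlgGrp

namespace Groth.Agent.S7494

/-- Let G be a group scheme over S acting on a scheme X over S by a. The action is free, meaning that
for every scheme T over S and all T-points g of G and x of X with g · x = x one has g = 1, if and
only if the morphism G x_S X -> X x_S X, (g, x) ↦ (a(g, x), x), is a monomorphism of schemes. -/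
theorem result {S : Scheme.{u}} (G X : Over S) [GrpObj G] (a : AlgGrp.Action G X) : (∀ (T : Over S) (g : T ⟶ G) (x : T ⟶ X), lift g x ≫ a.act = x → g = toUnit T ≫ η[G]) ↔ Mono (lift a.act (snd G X)).left := by
  constructor
  · intro hfree
    haveI : Mono (lift a.act (snd G X)) := by
      refine ⟨fun {T} e₁ e₂ h12 => ?_⟩
      have e1 : ∀ e : T ⟶ G ⊗ X, e = lift (e ≫ fst _ _) (e ≫ snd _ _) := by
        intro e
        rw [← comp_lift, lift_fst_snd, Category.comp_id]
      rw [e1 e₁, e1 e₂] at h12 ⊢
      set g₁ := e₁ ≫ fst G X
      set x₁ := e₁ ≫ snd G X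
      set g₂ := e₂ ≫ fst G X
      set x₂ := e₂ ≫ snd G X
      rw [comp_lift, comp_lift, lift_snd, lift_snd] at h12
      have hx : x₁ = x₂ := by
        have := congrArg (fun f => f ≫ snd X X) h12
        simpa using this
      have hgx : lift g₁ x₁ ≫ a.act = lift g₂ x₂ ≫ a.act := by
        have := congrArg (fun f => f ≫ fst X X) h12
        simpa using this
      have h3 : lift (g₂⁻¹ * g₁) x₁ ≫ a.act = x₁ := by
        rw [AlgGrp.Action.lift_mul_act, hgx, ← hx, ← AlgGrp.Action.lift_mul_act,
          inv_mul_cancel, AlgGrp.Action.lift_one_act]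
      have h4 := hfree T _ _ h3
      have h5 : g₂⁻¹ * g₁ = 1 := h4
      have h6 : g₁ = g₂ := by
        rw [inv_mul_eq_one] at h5
        exact h5.symm
      rw [h6, hx]
    infer_instance
  · intro hmono
    haveI : Mono (lift a.act (snd G X)) :=
      (Over.forget S).mono_of_mono_map hmono
    intro T g x hgx
    have h1 : lift g x ≫ lift a.act (snd G X) = lift (1 : T ⟶ G) x ≫ lift a.act (snd G X) := by
      rw [comp_lift, comp_lift, lift_snd, lift_snd, hgx, AlgGrp.Action.lift_one_act]
    have h2 : lift g x = lift (1 : T ⟶ G) x := by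
      rwa [cancel_mono] at h1
    have h3 := congrArg (fun f => f ≫ fst G X) h2
    beta_reduce at h3
    rw [lift_fst, lift_fst] at h3
    exact h3

end Groth.Agent.S7494
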