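import Groth.Statements.S7496
import Mathlib

set_option autoImplicit false
universe w u
open CategoryTheory CategoryTheory.Limits AlgebraicGeometry
open HTop

namespace Groth.Agent.S7496

theorem isCompact_inf_preimage {X T : Scheme.{u}} [QuasiSeparatedSpace T] (f : X ⟶ T)
    (V : X.Opens) (hV : IsCompact (V : Set X)) (O : T.Opens) (hO : IsCompact (O : Set T)) :
    IsCompact ((V ⊓ f ⁻¹ᵁ O : X.Opens) : Set X) := by
  haveI : CompactSpace (V : Scheme.{u}) := isCompact_iff_compactSpace.mp hV
  haveI : QuasiCompact (V.ι ≫ f) := quasiCompact_of_compactSpace _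
  have h1 : IsCompact ((V.ι ≫ f) ⁻¹' (O : Set T)) :=
    QuasiCompact.isCompact_preimage (f := V.ι ≫ f) _ O.2 hO
  have h2 := h1.image V.ι.continuous
  convert h2 using 1
  ext x
  simp only [TopologicalSpace.Opens.coe_inf, TopologicalSpace.Opens.map_coe, Set.mem_inter_iff,
    SetLike.mem_coe, Set.mem_preimage, Set.mem_image]
  constructor
  · rintro ⟨hxV, hxO⟩
    exact ⟨⟨x, hxV⟩, hxO, rfl⟩
  · rintro ⟨y, hy, rfl⟩
    exact ⟨y.2, hy⟩

theorem aux {T : Scheme.{u}} [QuasiSeparatedSpace T] (E : PreZeroHypercover.{w} T) : QuasiCompactCover E ↔ ∀ t : T, ∃ (n : ℕ) (i : Fin n → E.I₀) (V : ∀ j, (E.X (i j)).Opens), (∀ j, IsCompact (V j : Set (E.X (i j)))) ∧ (⋃ j, ⇑(E.f (i j)) '' (V j : Set (E.X (i j)))) ∈ nhds t := by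
  constructor
  · intro h t
    obtain ⟨U, hU, htU, -⟩ := exists_isAffineOpen_mem_and_subset (x := t) (U := ⊤) trivial
    obtain ⟨n, i, V, hV, hVU⟩ := QuasiCompactCover.exists_isAffineOpen_of_isCompact E hU.isCompact
    refine ⟨n, i, V, fun j => (hV j).isCompact, ?_⟩
    rw [hVU]
    exact U.2.mem_nhds htU
  · intro h
    refine ⟨fun {U} hU => ?_⟩
    refine IsCompactOpenCovered.of_isCompact_of_forall_exists_isCompactOpenCovered hU.isCompact ?_
    intro x hx
    obtain ⟨n, i, V, hV, hN⟩ := h x
    have hN' : (⋃ j, ⇑(E.f (i j)) '' (V j : Set (E.X (i j)))) ∩ (U : Set T) ∈ nhds x :=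
      Filter.inter_mem hN (U.2.mem_nhds hx)
    obtain ⟨O', hO'sub, hO'open, hxO'⟩ := mem_nhds_iff.mp hN'
    obtain ⟨O, hO, hxO, hOle⟩ :=
      exists_isAffineOpen_mem_and_subset (x := x) (U := ⟨O', hO'open⟩) hxO'
    have hOsub : (O : Set T) ⊆ (⋃ j, ⇑(E.f (i j)) '' (V j : Set (E.X (i j)))) ∩ (U : Set T) :=
      fun y hy => hO'sub (hOle hy)
    refine ⟨O, fun y hy => (hOsub hy).2, hxO, O.2, ?_⟩
    refine IsCompactOpenCovered.of_finite i (fun j => V j ⊓ (E.f (i j)) ⁻¹ᵁ O)
      (fun j => isCompact_inf_preimage (E.f (i j)) (V j) (hV j) O hO.isCompact) ?_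
    ext y
    simp only [Set.mem_iUnion, Set.mem_image]
    constructor
    · rintro ⟨j, z, ⟨-, hz⟩, rfl⟩
      exact hz
    · intro hy
      obtain ⟨j, z, hz, rfl⟩ := Set.mem_iUnion.mp (hOsub hy).1
      exact ⟨j, z, ⟨hz, hy⟩, rfl⟩

/-- Let T be a quasi-separated scheme and {f_i : T_i -> T} a family of morphisms. Then every affine open
of T is the union of the images of finitely many quasi-compact opens of the T_i (the
quasi-compactness condition in the definition of an fpqc covering) if and only if for every point t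
of T there are finitely many quasi-compact opens U_j of members T_(i_j) such that the union of the
f_(i_j)(U_j) is a neighbourhood of t. (The published statement also asks every f_i to be flat, on
both sides, and lists two more equivalent forms of the quasi-compactness condition; this row omits
flatness, which plays no part in the equivalence, and states only the equivalence of the
quasi-compactness condition with the neighbourhood condition.) -/
theorem result {T : Scheme.{u}} [QuasiSeparatedSpace T] (E : PreZeroHypercover.{w} T) : QuasiCompactCover E ↔ ∀ t : T, ∃ (n : ℕ) (i : Fin n → E.I₀) (V : ∀ j, (E.X (i j)).Opens), (∀ j, IsCompact (V j : Set (E.X (i j)))) ∧ (⋃ j, ⇑(E.f (i j)) '' (V j : Set (E.X (i j)))) ∈ nhds t := by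
  exact aux E

end Groth.Agent.S7496
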