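import Groth.Statements.S7497
import Mathlib
import Groth.Agent.Lead.QCBind

set_option autoImplicit false
universe u
open CategoryTheory CategoryTheory.Limits AlgebraicGeometry
open HTop

namespace Groth.Agent.S7497

theorem aux {T : Scheme.{u}} (E : PreZeroHypercover.{u} T) (hflat : ∀ i, Flat (E.f i)) (𝒱 : Scheme.Cover Scheme.fpqcPrecoverage T) (hloc : ∀ j, (E.pullback₁ (𝒱.f j)).presieve₀ ∈ Scheme.fpqcPrecoverage (𝒱.X j)) : E.presieve₀ ∈ Scheme.fpqcPrecoverage T := by
  haveI : ∀ j, QuasiCompactCover (E.pullback₁ (𝒱.f j)) := fun j =>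
    Scheme.presieve₀_mem_qcPrecoverage_iff.mp (hloc j).1
  let 𝒲 := 𝒱.toPreZeroHypercover.bind (fun j => E.pullback₁ (𝒱.f j))
  haveI : QuasiCompactCover 𝒱.toPreZeroHypercover := inferInstance
  haveI : QuasiCompactCover 𝒲 := Groth.Agent.Lead.QCBind.quasiCompactCover_bind _ _
  let φ : 𝒲.Hom E :=
    { s₀ := fun p => p.2
      h₀ := fun p => pullback.snd (𝒱.f p.1) (E.f p.2)
      w₀ := fun p => pullback.condition.symm }
  refine ⟨Scheme.presieve₀_mem_qcPrecoverage_iff.mpr (QuasiCompactCover.of_hom φ),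
    (Scheme.presieve₀_mem_precoverage_iff E).mpr ⟨?_, hflat⟩⟩
  intro t
  obtain ⟨j, y, rfl⟩ := 𝒱.forgetQc.exists_eq t
  obtain ⟨i, z, hz⟩ := ((Scheme.presieve₀_mem_precoverage_iff _).mp (hloc j).2).1 y
  refine ⟨i, pullback.snd (𝒱.f j) (E.f i) z, ?_⟩
  rw [← Scheme.Hom.comp_apply, ← pullback.condition, Scheme.Hom.comp_apply]
  exact congrArg _ hz

/-- Let {f_i : T_i -> T} be a family of flat morphisms of schemes and {g_j : S_j -> T} an fpqc covering
such that for every j the family of base changes {S_j x_T T_i -> S_j} is an fpqc covering. Then {f_i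
: T_i -> T} is an fpqc covering. (fpqc coverings are Mathlib's: flat, jointly surjective, every
affine open of the target covered by images of finitely many quasi-compact opens.) -/
theorem result {T : Scheme.{u}} (E : PreZeroHypercover.{u} T) (hflat : ∀ i, Flat (E.f i)) (𝒱 : Scheme.Cover Scheme.fpqcPrecoverage T) (hloc : ∀ j, (E.pullback₁ (𝒱.f j)).presieve₀ ∈ Scheme.fpqcPrecoverage (𝒱.X j)) : E.presieve₀ ∈ Scheme.fpqcPrecoverage T := by
  exact aux E hflat 𝒱 hloc

end Groth.Agent.S7497
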