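import Groth.Statements.S7501
import Mathlib
import Groth.Agent.Lead.Finest

set_option autoImplicit false
universe w u
open HTop

namespace Groth.Agent.S7501

open CategoryTheory CategoryTheory.Limits AlgebraicGeometry in
theorem zariski_ofArrows_mem {X : Scheme.{u}} {ι : Type*} (Y : ι → Scheme.{u}) (f : ∀ i, Y i ⟶ X)
    [∀ i, IsOpenImmersion (f i)] (hcov : ∀ x : X, ∃ i y, f i y = x) :
    Sieve.ofArrows Y f ∈ Scheme.zariskiTopology X :=
  (Scheme.Cover.mkOfCovers (P := @IsOpenImmersion) ι Y f hcov).mem_grothendieckTopology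

open CategoryTheory CategoryTheory.Limits AlgebraicGeometry in
theorem aux (F : Scheme.{u}ᵒᵖ ⥤ Type w) (h₁ : Presieve.IsSheaf Scheme.zariskiTopology F) (h₂ : ∀ (U V : Scheme.{u}) (f : V ⟶ U), IsProper f → Surjective f → Presieve.IsSheafFor F (Presieve.singleton f)) : HTop.IsPhSheaf F := by
  intro X R hR
  obtain ⟨E, rfl⟩ := R.exists_eq_preZeroHypercover
  rw [HTop.presieve₀_mem_phPrecoverage_iff] at hR
  obtain ⟨-, hE⟩ := hR
  apply Groth.Agent.Lead.Finest.isSheafFor_of_generate_mem
  have hZ : Scheme.zariskiTopology ≤ Sheaf.finestTopologySingle F :=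
    Groth.Agent.Lead.Finest.le_finestTopologySingle F _ h₁
  have hps : ∀ {U V : Scheme.{u}} (f : V ⟶ U), IsProper f → Surjective f →
      Sieve.generate (Presieve.singleton f) ∈ Sheaf.finestTopologySingle F U :=
    fun f hf1 hf2 => Groth.Agent.Lead.Finest.generate_singleton_mem F f
      (fun Y g => h₂ _ _ _ inferInstance inferInstance)
  refine Groth.Agent.Lead.Finest.mem_of_ofArrows (fun U : X.affineOpens => (U.1 : Scheme.{u}))
    (fun U => U.1.ι) ?_ _ ?_
  · apply hZ
    apply zariski_ofArrows_mem
    intro x
    obtain ⟨U, hU, hxU, -⟩ := exists_isAffineOpen_mem_and_subset (x := x) (U := ⊤) trivial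
    exact ⟨⟨U, hU⟩, ⟨x, hxU⟩, rfl⟩
  · intro U
    obtain ⟨G, hG, hr⟩ := hE U
    obtain ⟨hT, hfin, haff, P, p, ι, hprop, hsurj, hopen, hfac, hcov⟩ := hG
    refine Groth.Agent.Lead.Finest.mem_of_singleton p (hps p hprop hsurj) _ ?_
    haveI := hopen
    refine (Sheaf.finestTopologySingle F).superset_covering ?_
      (hZ _ (zariski_ofArrows_mem G.X ι (fun x => by
        obtain ⟨j, y, hy⟩ := hcov x
        exact ⟨j, y, hy⟩)))
    rintro Z g ⟨W, a, b, ⟨k⟩, rfl⟩
    obtain ⟨i, h, hh⟩ := hr k
    show (Sieve.generate E.presieve₀).arrows (((a ≫ ι k) ≫ p) ≫ U.1.ι)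
    have : ((a ≫ ι k) ≫ p) ≫ U.1.ι = (a ≫ h) ≫ E.f i := by
      rw [Category.assoc, Category.assoc, ← Category.assoc (ι k), hfac k, Category.assoc, hh]
    rw [this]
    exact ⟨_, a ≫ h, E.f i, ⟨i⟩, rfl⟩

open CategoryTheory CategoryTheory.Limits AlgebraicGeometry in
/-- Let F be a presheaf of sets on the category of schemes. If F is a sheaf for the Zariski topology
and, for every proper surjective morphism f : V -> U, F has the sheaf property for the one-arrow
family {f} (sections over V whose two pullbacks to V x_U V agree come from exactly one section over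
U), then F has the sheaf property for every ph covering. (The published statement is an equivalence
for presheaves on the big ph site of a base scheme and adds that, for a Zariski sheaf, the condition
on proper surjective morphisms may be asked only for affine targets; this row states, for presheaves
on all schemes, only that the two conditions imply the sheaf property for ph coverings.) -/
theorem result (F : Scheme.{u}ᵒᵖ ⥤ Type w) (h₁ : Presieve.IsSheaf Scheme.zariskiTopology F) (h₂ : ∀ (U V : Scheme.{u}) (f : V ⟶ U), IsProper f → Surjective f → Presieve.IsSheafFor F (Presieve.singleton f)) : HTop.IsPhSheaf F := by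
  exact aux F h₁ h₂

end Groth.Agent.S7501
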