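import Groth.Statements.S7511
import Mathlib
import Groth.Agent.Lead.QCBind

set_option autoImplicit false
universe u
open CategoryTheory CategoryTheory.Limits AlgebraicGeometry
open HTop

namespace Groth.Agent.S7511

theorem aux {T : Scheme.{u}} (E : PreZeroHypercover.{u} T) : E.presieve₀ ∈ Scheme.fpqcPrecoverage T ↔ Presieve.singleton (Sigma.desc E.f) ∈ Scheme.fpqcPrecoverage T := by
  rw [← PreZeroHypercover.presieve₀_singleton.{u} (Sigma.desc E.f)]
  constructor
  · rintro ⟨h1, h2⟩
    haveI : QuasiCompactCover E := Scheme.presieve₀_mem_qcPrecoverage_iff.mp h1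
    obtain ⟨hs, hf⟩ := (Scheme.presieve₀_mem_precoverage_iff E).mp h2
    let φ : E.Hom (PreZeroHypercover.singleton.{u} (Sigma.desc E.f)) :=
      { s₀ := fun _ => PUnit.unit
        h₀ := fun i => Sigma.ι E.X i
        w₀ := fun i => Sigma.ι_desc _ _ }
    refine ⟨Scheme.presieve₀_mem_qcPrecoverage_iff.mpr (QuasiCompactCover.of_hom φ),
      (Scheme.presieve₀_mem_precoverage_iff _).mpr ⟨?_, ?_⟩⟩
    · intro t
      obtain ⟨i, x, hx⟩ := hs t
      refine ⟨PUnit.unit, Sigma.ι E.X i x, ?_⟩
      show (Sigma.desc E.f) (Sigma.ι E.X i x) = t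
      rw [← Scheme.Hom.comp_apply, Sigma.ι_desc]
      exact hx
    · intro _
      exact IsZariskiLocalAtSource.sigmaDesc (P := @Flat) hf
  · rintro ⟨h1, h2⟩
    haveI : QuasiCompactCover (PreZeroHypercover.singleton.{u} (Sigma.desc E.f)) :=
      Scheme.presieve₀_mem_qcPrecoverage_iff.mp h1
    obtain ⟨hs, hf⟩ := (Scheme.presieve₀_mem_precoverage_iff _).mp h2
    haveI : Flat (Sigma.desc E.f) := hf PUnit.unit
    let 𝒲 := (PreZeroHypercover.singleton.{u} (Sigma.desc E.f)).bind
      (fun _ => (AlgebraicGeometry.sigmaOpenCover E.X).toPreZeroHypercover)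
    haveI hq : QuasiCompactCover (AlgebraicGeometry.sigmaOpenCover E.X).toPreZeroHypercover :=
      inferInstance
    haveI : QuasiCompactCover 𝒲 :=
      @Groth.Agent.Lead.QCBind.quasiCompactCover_bind _
        (PreZeroHypercover.singleton.{u} (Sigma.desc E.f)) _
        (fun _ => (AlgebraicGeometry.sigmaOpenCover E.X).toPreZeroHypercover) (fun _ => hq)
    let φ : 𝒲.Hom E :=
      { s₀ := fun p => p.2
        h₀ := fun p => 𝟙 _
        w₀ := fun p => by
          show 𝟙 _ ≫ E.f p.2 = Sigma.ι E.X p.2 ≫ Sigma.desc E.f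
          rw [Category.id_comp, Sigma.ι_desc] }
    refine ⟨Scheme.presieve₀_mem_qcPrecoverage_iff.mpr (QuasiCompactCover.of_hom φ),
      (Scheme.presieve₀_mem_precoverage_iff _).mpr ⟨?_, ?_⟩⟩
    · intro t
      obtain ⟨_, z, hz⟩ := hs t
      obtain ⟨i, x, rfl⟩ := (AlgebraicGeometry.sigmaOpenCover E.X).exists_eq z
      refine ⟨i, x, ?_⟩
      have : (Sigma.ι E.X i ≫ Sigma.desc E.f) x = t := hz
      rwa [Sigma.ι_desc] at this
    · intro i
      rw [← Sigma.ι_desc E.f i]
      infer_instance

/-- Let {f_i : T_i -> T} be a family of morphisms of schemes (indexed by a type in the universe of T, so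
that the coproduct exists). Then it is an fpqc covering if and only if the one-arrow family
consisting of the induced morphism from the coproduct of the T_i to T is an fpqc covering. -/
theorem result {T : Scheme.{u}} (E : PreZeroHypercover.{u} T) : E.presieve₀ ∈ Scheme.fpqcPrecoverage T ↔ Presieve.singleton (Sigma.desc E.f) ∈ Scheme.fpqcPrecoverage T := by
  exact aux E

end Groth.Agent.S7511
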