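import Groth.Statements.S7512
import Mathlib
import Groth.Agent.Lead.QCBind

set_option autoImplicit false
universe w u
open HTop

namespace Groth.Agent.S7512

open CategoryTheory CategoryTheory.Limits AlgebraicGeometry in
theorem aux {T : Scheme.{u}} (E : PreZeroHypercover.{w} T) (hflat : ∀ i, Flat (E.f i)) (href : ∀ (Z : Scheme.{u}) [IsAffine Z] (h : Z ⟶ T), ∃ F : PreZeroHypercover.{0} Z, Finite F.I₀ ∧ (∀ j, IsAffine (F.X j)) ∧ (∀ j, Flat (F.f j)) ∧ (∀ z : Z, ∃ (j : F.I₀) (x : F.X j), F.f j x = z) ∧ HTop.RefinesOver h F E) : E.presieve₀ ∈ Scheme.fpqcPrecoverage T := by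
  let 𝒰 := T.affineCover
  choose F hfin haff hFflat hsurj href' using fun x : 𝒰.I₀ => href (𝒰.X x) (𝒰.f x)
  haveI : ∀ x, QuasiCompactCover (F x) := fun x => by
    haveI := hfin x
    refine Groth.Agent.Lead.QCBind.quasiCompactCover_of_finite (F x) (fun i => ?_) (fun z => ?_)
    · haveI := haff x i
      infer_instance
    · obtain ⟨j, y, hy⟩ := hsurj x z
      exact ⟨j, y, hy⟩
  let 𝒲 := 𝒰.toPreZeroHypercover.bind F
  haveI : QuasiCompactCover 𝒰.toPreZeroHypercover := inferInstance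
  haveI : QuasiCompactCover 𝒲 := Groth.Agent.Lead.QCBind.quasiCompactCover_bind _ _
  choose i h hh using href'
  let φ : 𝒲.Hom E :=
    { s₀ := fun p => i p.1 p.2
      h₀ := fun p => h p.1 p.2
      w₀ := fun p => hh p.1 p.2 }
  refine ⟨Scheme.presieve₀_mem_qcPrecoverage_iff.mpr (QuasiCompactCover.of_hom φ),
    (Scheme.presieve₀_mem_precoverage_iff E).mpr ⟨?_, hflat⟩⟩
  intro t
  obtain ⟨x, y, rfl⟩ := 𝒰.exists_eq t
  obtain ⟨j, z, hz⟩ := hsurj x y
  refine ⟨i x j, h x j z, ?_⟩
  rw [← Scheme.Hom.comp_apply, hh, Scheme.Hom.comp_apply, hz]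

open CategoryTheory CategoryTheory.Limits AlgebraicGeometry in
/-- Let {f_i : T_i -> T} be a family of flat morphisms of schemes. Assume that for every affine scheme Z
and every morphism h : Z -> T there is a standard fpqc covering of Z (a finite family of flat
morphisms Z_j -> Z with Z_j affine whose images cover Z) refining the family of base changes {T_i
x_T Z -> Z} (every Z_j -> Z factors through some T_i compatibly with h). Then {f_i : T_i -> T} is an
fpqc covering (in Mathlib's sense). -/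
theorem result {T : Scheme.{u}} (E : PreZeroHypercover.{w} T) (hflat : ∀ i, Flat (E.f i)) (href : ∀ (Z : Scheme.{u}) [IsAffine Z] (h : Z ⟶ T), ∃ F : PreZeroHypercover.{0} Z, Finite F.I₀ ∧ (∀ j, IsAffine (F.X j)) ∧ (∀ j, Flat (F.f j)) ∧ (∀ z : Z, ∃ (j : F.I₀) (x : F.X j), F.f j x = z) ∧ HTop.RefinesOver h F E) : E.presieve₀ ∈ Scheme.fpqcPrecoverage T := by
  exact aux E hflat href

end Groth.Agent.S7512
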