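import Groth.Statements.S7517
import Mathlib
import Groth.Agent.Helper2.HS6

set_option autoImplicit false
universe u
open scoped TensorProduct
open CategoryTheory MonoidalCategory CartesianMonoidalCategory MonObj GrpObj AlgebraicGeometry
open GrpSch

namespace Groth.Agent.S7517

/-- Let G be a group scheme over a field k and Z the irreducible component of G passing through the
identity e (there is exactly one). Then Z is geometrically irreducible over k: for any closed
immersion incl : Z -> G from an irreducible scheme whose image is an irreducible component of G
containing e, the composite Z -> G -> Spec k is geometrically irreducible. (Parts (1) and (2) of the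
source are not stated here.) -/
theorem result (K : Type u) [Field K] (G : Over (Spec (CommRingCat.of K))) [GrpObj G] (Z : Scheme.{u}) (incl : Z ⟶ G.left) [IsClosedImmersion incl] [IrreducibleSpace Z] (hZ : Set.range ⇑incl ∈ irreducibleComponents ↥G.left) (he : η[G].left (IsLocalRing.closedPoint K) ∈ Set.range ⇑incl) : GeometricallyIrreducible (incl ≫ G.hom) := by
  refine ⟨geometrically_iff_of_isClosedUnderIsomorphisms.mpr fun L _ y ↦ ?_⟩
  change IrreducibleSpace ↥(Limits.pullback (incl ≫ G.hom) y)
  let e := Limits.pullbackRightPullbackFstIso G.hom y incl
  rw [← e.hom.homeomorph.irreducibleSpace_iff]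
  let j := Limits.pullback.snd incl (Limits.pullback.fst G.hom y)
  haveI : IsClosedImmersion j := inferInstance
  apply Groth.Agent.Helper2.HS5.irreducibleSpace_of_isEmbedding j j.isEmbedding
  rw [Scheme.Pullback.range_snd]
  exact Groth.Agent.Helper2.HS3.geomIrr G (Set.range ⇑incl) hZ (IsLocalRing.closedPoint K) he y

end Groth.Agent.S7517
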