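import Groth.Statements.S7521
import Groth.Agent.S7483
import Groth.Agent.Helper4.AmpleFinite

set_option autoImplicit false
open CategoryTheory CategoryTheory.Limits AlgebraicGeometry
universe u
open Desc

namespace Groth.Agent.S7521

/-- Let p : X -> Y be a surjective finite locally free morphism and V a scheme over X which has an
invertible module ample relative to V -> X. Then every descent datum on V relative to p is
effective. (A quasi-projective morphism V -> X, in particular a projective one, carries such a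
module.) (Descent data are taken in functor-of-points form.) -/
theorem result {X Y : Scheme.{u}} (p : X ⟶ Y) [Surjective p] [IsFinite p] [Flat p] [LocallyOfFinitePresentation p] (D : Desc.SchDD p) (L : D.obj.left.Modules) (hL : RelAmple.IsRelAmple D.obj.hom L) : ∃ W : Over Y, Nonempty ((Desc.toDD p).obj W ≅ D) := by
  classical
  refine Groth.Agent.S7483.result p D (fun y s hs => ?_)
  obtain ⟨_, ⟨Y₀, hY₀ : IsAffineOpen Y₀, rfl⟩, hyY₀, -⟩ :=
    Y.isBasis_affineOpens.exists_subset_of_mem_open (Set.mem_univ y) isOpen_univ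
  let X₀ : X.Opens := p ⁻¹ᵁ Y₀
  have hX₀ : IsAffineOpen X₀ := hY₀.preimage p
  let V₀ : D.obj.left.Opens := D.obj.hom ⁻¹ᵁ X₀
  have hamp : CohB1.IsAmple (L.restrict V₀.ι) := hL.2 ⟨X₀, hX₀⟩
  have hsV₀ : ∀ v ∈ s, v ∈ V₀ := by
    intro v hv
    show p (D.obj.hom v) ∈ Y₀
    rw [hs v hv]
    exact hyY₀
  let Z : Set V₀.toScheme := Subtype.val ⁻¹' (↑s : Set D.obj.left)
  have hZ : Z.Finite := Set.Finite.preimage Subtype.val_injective.injOn s.finite_toSet
  obtain ⟨n, t, hZt, -, hA⟩ :=
    Groth.Agent.Helper4.AmpleFinite.exists_affine_genLocus_of_finite hamp Z hZ ⊤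
      (fun _ _ => trivial)
  refine ⟨V₀.ι ''ᵁ (CohB1.genLocus _ t), hA.image_of_isOpenImmersion V₀.ι, fun v hv => ?_⟩
  exact ⟨⟨v, hsV₀ v hv⟩, hZt (Finset.mem_coe.mpr hv), rfl⟩

end Groth.Agent.S7521
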