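import Groth.Statements.S7522
import Mathlib
-- import your own Groth.Agent.* helpers here

set_option autoImplicit false
universe u
open CategoryTheory CategoryTheory.Limits AlgebraicGeometry
open Grpd

namespace Groth.Agent.S7522

/-- Let S be a scheme, U a scheme over S and j : R -> U x_S U a pre-equivalence relation, that is a
morphism such that for every scheme T the image of the T-points of R in pairs of T-points of U is an
equivalence relation; write t = pr_0 ∘ j and s = pr_1 ∘ j. Then the relation on the points of U in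
which x ∼ y when some point r of R has t(r) = x and s(r) = y is an equivalence relation. -/
theorem result {S U R : Scheme.{u}} (pU : U ⟶ S) (j : R ⟶ pullback pU pU) (hj : ∀ T : Scheme.{u}, Equivalence (fun a b : T ⟶ U => ∃ r : T ⟶ R, r ≫ j ≫ pullback.fst pU pU = a ∧ r ≫ j ≫ pullback.snd pU pU = b)) : Equivalence (fun x y : ↥U => ∃ r : R, (j ≫ pullback.fst pU pU) r = x ∧ (j ≫ pullback.snd pU pU) r = y) := by
  set t := j ≫ pullback.fst pU pU with ht
  set s := j ≫ pullback.snd pU pU with hs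
  refine ⟨fun x => ?_, fun {x y} hxy => ?_, fun {x y z} hxy hyz => ?_⟩
  · obtain ⟨r, hr1, hr2⟩ := (hj U).refl (𝟙 U)
    refine ⟨r x, ?_, ?_⟩
    · rw [← Scheme.Hom.comp_apply, hr1]; rfl
    · rw [← Scheme.Hom.comp_apply, hr2]; rfl
  · obtain ⟨r, rfl, rfl⟩ := hxy
    have h0 : ∃ r' : R ⟶ R, r' ≫ t = t ∧ r' ≫ s = s := ⟨𝟙 R, Category.id_comp _, Category.id_comp _⟩
    obtain ⟨σ, hσ1, hσ2⟩ := (hj R).symm h0
    refine ⟨σ r, ?_, ?_⟩
    · rw [← Scheme.Hom.comp_apply, hσ1]
    · rw [← Scheme.Hom.comp_apply, hσ2]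
  · obtain ⟨r1, rfl, rfl⟩ := hxy
    obtain ⟨r2, h2, rfl⟩ := hyz
    let T := pullback s t
    have h1 : ∃ r' : T ⟶ R, r' ≫ t = pullback.fst s t ≫ t ∧ r' ≫ s = pullback.fst s t ≫ s :=
      ⟨pullback.fst s t, rfl, rfl⟩
    have h2' : ∃ r' : T ⟶ R, r' ≫ t = pullback.fst s t ≫ s ∧ r' ≫ s = pullback.snd s t ≫ s :=
      ⟨pullback.snd s t, pullback.condition.symm, rfl⟩
    obtain ⟨τ, hτ1, hτ2⟩ := (hj T).trans h1 h2'
    obtain ⟨z, hz1, hz2⟩ := Scheme.Pullback.exists_preimage_pullback (f := s) (g := t) r1 r2 h2.symm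
    refine ⟨τ z, ?_, ?_⟩
    · rw [← Scheme.Hom.comp_apply, hτ1, Scheme.Hom.comp_apply, hz1]
    · rw [← Scheme.Hom.comp_apply, hτ2, Scheme.Hom.comp_apply, hz2]

end Groth.Agent.S7522
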