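import Groth.Statements.S7524
import Mathlib
import Groth.Agent.Lead.Spectral3

set_option autoImplicit false
universe u
open SpecSp

namespace Groth.Agent.S7524

/-- A continuous map f : X → Y of spectral spaces is spectral if and only if it is continuous when X and
Y both carry their constructible topologies. -/
theorem result {X Y : Type u} [TopologicalSpace X] [TopologicalSpace Y]
    [SpectralSpace X] [SpectralSpace Y] (f : X → Y) (hf : Continuous f) :
    IsSpectralMap f ↔ @Continuous X Y (constructibleTopology X) (constructibleTopology Y) f := by
  classical
  have hle : ∀ (Z : Type u) [tZ : TopologicalSpace Z] [PrespectralSpace Z],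
      constructibleTopology Z ≤ tZ := by
    intro Z tZ _
    rw [TopologicalSpace.le_def]
    intro s hs
    have hb := PrespectralSpace.isTopologicalBasis (X := Z)
    obtain ⟨S, hS, rfl⟩ := hb.open_eq_sUnion hs
    apply @isOpen_sUnion _ (constructibleTopology Z)
    intro t ht
    exact (hS ht).2.isOpen_constructibleTopology_of_isOpen (hS ht).1
  constructor
  · intro hsp
    apply continuous_generateFrom_iff.mpr
    rintro s (⟨hso, hsc⟩ | ⟨hscl, hsc⟩)
    · exact (hsp.isCompact_preimage_of_isOpen hso hsc).isOpen_constructibleTopology_of_isOpen
        (hso.preimage hf)
    · apply IsCompact.isOpen_constructibleTopology_of_isClosed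
      · rw [← Set.preimage_compl]
        exact hsp.isCompact_preimage_of_isOpen hscl.isOpen_compl hsc
      · exact hscl.preimage hf
  · intro hc
    refine ⟨hf, fun s hso hsc => ?_⟩
    have h1 : @IsClosed Y (constructibleTopology Y) s :=
      Groth.Agent.Lead.Spectral.cclosed_of_isCompact_isOpen hsc hso
    have h2 : @IsClosed X (constructibleTopology X) (f ⁻¹' s) :=
      @IsClosed.preimage X Y (constructibleTopology X) (constructibleTopology Y) f hc s h1
    have h3 : @IsCompact X (constructibleTopology X) (f ⁻¹' s) :=
      @IsClosed.isCompact X (constructibleTopology X) _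
        Groth.Agent.Lead.Spectral.compactSpace_constructible h2
    have h4 := @IsCompact.image X X (constructibleTopology X) _ (f ⁻¹' s) id h3
      (continuous_id_of_le (hle X))
    simpa using h4

end Groth.Agent.S7524
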