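import Groth.Statements.S7525
import Mathlib
import Groth.Agent.Helper3.SpecSp

set_option autoImplicit false
universe u
open SpecSp

namespace Groth.Agent.S7525

/-- Let X be a spectral space and let E ⊆ X be closed in the constructible topology (for instance a
constructible or a closed subset). Then E, with the topology induced from X, is a spectral space. -/
theorem result {X : Type u} [TopologicalSpace X] [SpectralSpace X]
    (E : Set X) (hE : @IsClosed X (constructibleTopology X) E) :
    SpectralSpace E := by
  classical
  have hE' : Groth.Agent.Lead.Spectral.CClosed E := hE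
  have hb := PrespectralSpace.isTopologicalBasis (X := X)
  -- compactness of traces of constructible-closed sets
  have hcomp : ∀ C : Set X, Groth.Agent.Lead.Spectral.CClosed C →
      IsCompact ((Subtype.val : E → X) ⁻¹' C) := by
    intro C hC
    rw [Subtype.isCompact_iff, Subtype.image_preimage_coe]
    exact Groth.Agent.Helper3.SpecSp.isCompact_of_cclosed'
      (Groth.Agent.Lead.Spectral.CClosed.inter hE' hC)
  have hbasis : TopologicalSpace.IsTopologicalBasis
      (Set.range (fun U : {U : Set X // IsOpen U ∧ IsCompact U} =>
        (Subtype.val : E → X) ⁻¹' U.1)) := by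
    have := hb.isInducing (Topology.IsInducing.subtypeVal (t := E))
    convert this using 1
    ext s
    constructor
    · rintro ⟨U, rfl⟩
      exact ⟨U.1, U.2, rfl⟩
    · rintro ⟨U, hU, rfl⟩
      exact ⟨⟨U, hU⟩, rfl⟩
  haveI : CompactSpace E := isCompact_iff_compactSpace.mp
    (Groth.Agent.Helper3.SpecSp.isCompact_of_cclosed' hE')
  haveI : PrespectralSpace E := PrespectralSpace.of_isTopologicalBasis' hbasis
    (fun U => hcomp U.1 (Groth.Agent.Lead.Spectral.cclosed_of_isCompact_isOpen U.2.2 U.2.1))
  haveI : QuasiSeparatedSpace E := QuasiSeparatedSpace.of_isTopologicalBasis hbasis (by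
    intro U V
    rw [← Set.preimage_inter]
    apply hcomp
    exact Groth.Agent.Lead.Spectral.CClosed.inter
      (Groth.Agent.Lead.Spectral.cclosed_of_isCompact_isOpen U.2.2 U.2.1)
      (Groth.Agent.Lead.Spectral.cclosed_of_isCompact_isOpen V.2.2 V.2.1))
  haveI : QuasiSober E := by
    refine ⟨fun {S} hS hSc => ?_⟩
    have hirr : IsIrreducible (closure ((Subtype.val : E → X) '' S)) :=
      (hS.image _ continuous_subtype_val.continuousOn).closure
    obtain ⟨η, hη⟩ := QuasiSober.sober hirr isClosed_closure
    -- val '' S is constructible-closed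
    obtain ⟨C, hC, rfl⟩ := isClosed_induced_iff.mp hSc
    have hcc : Groth.Agent.Lead.Spectral.CClosed ((Subtype.val : E → X) '' (Subtype.val ⁻¹' C)) := by
      rw [Subtype.image_preimage_coe]
      exact Groth.Agent.Lead.Spectral.CClosed.inter hE'
        (Groth.Agent.Lead.Spectral.cclosed_of_isClosed hC)
    have hηcl : η ∈ closure ((Subtype.val : E → X) '' (Subtype.val ⁻¹' C)) := by
      rw [← hη.def]; exact subset_closure rfl
    obtain ⟨e, he, heη⟩ := Groth.Agent.Helper3.SpecSp.exists_specializes_of_mem_closure hcc hηcl
    have hηe : η ⤳ e := by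
      rw [specializes_iff_mem_closure, hη.def]
      exact subset_closure he
    have heq : e = η := (heη.antisymm hηe).eq
    obtain ⟨e', he', rfl⟩ := he
    refine ⟨e', ?_⟩
    rw [isGenericPoint_def, Topology.IsInducing.subtypeVal.closure_eq_preimage_closure_image,
      Set.image_singleton, heq, hη.def,
      ← Topology.IsInducing.subtypeVal.closure_eq_preimage_closure_image]
    exact hSc.closure_eq
  exact { }

end Groth.Agent.S7525
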