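import Groth.Statements.S7526
import Mathlib
import Groth.Agent.Lead.Spectral3

set_option autoImplicit false
universe u
open SpecSp

namespace Groth.Agent.S7526

/-- Let X be a spectral space. If E ⊆ X is closed in the constructible topology then (1) every point of
the closure of E is a specialization of some point of E, and (2) E is closed as soon as it is also
stable under specialization. (3) Any E' ⊆ X that is stable under generalization and constructibly
open is open. -/
theorem result {X : Type u} [TopologicalSpace X] [SpectralSpace X] :
    (∀ E : Set X, @IsClosed X (constructibleTopology X) E →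
      (∀ x ∈ closure E, ∃ e ∈ E, e ⤳ x) ∧ (StableUnderSpecialization E → IsClosed E)) ∧
    (∀ E' : Set X, @IsOpen X (constructibleTopology X) E' → StableUnderGeneralization E' → IsOpen E') := by
  have key : ∀ E : Set X, @IsClosed X (constructibleTopology X) E →
      ∀ x ∈ closure E, ∃ e ∈ E, e ⤳ x := by
    intro E hE x hx
    by_contra hcon
    push Not at hcon
    obtain ⟨O, hO, hxO, hOE⟩ := Groth.Agent.Lead.Spectral.exists_open_nhds_disjoint
      (y := x) (C := E) hE (fun w hw hxw => hcon w hw (specializes_iff_mem_closure.mpr hxw))
    obtain ⟨y, hyO, hyE⟩ := mem_closure_iff.mp hx O hO hxO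
    exact Set.disjoint_left.mp hOE hyO hyE
  have key2 : ∀ E : Set X, @IsClosed X (constructibleTopology X) E →
      StableUnderSpecialization E → IsClosed E := by
    intro E hE hs
    rw [← closure_subset_iff_isClosed]
    intro x hx
    obtain ⟨e, he, hex⟩ := key E hE x hx
    exact hs hex he
  refine ⟨fun E hE => ⟨key E hE, key2 E hE⟩, fun E' hE' hg => ?_⟩
  rw [← isClosed_compl_iff]
  apply key2
  · exact (@isClosed_compl_iff X (constructibleTopology X) E').mpr hE'
  · exact stableUnderSpecialization_compl_iff.mpr hg

end Groth.Agent.S7526
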