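import Groth.Statements.S7527
import Mathlib
import Groth.Agent.Lead.Spectral3

set_option autoImplicit false
universe u
open SpecSp

namespace Groth.Agent.S7527

/-- Let X be a spectral space and x, y ∈ X. Then either there is a third point specializing to both x
and y, or there are disjoint open neighbourhoods of x and of y. -/
theorem result {X : Type u} [TopologicalSpace X] [SpectralSpace X] (x y : X) :
    (∃ z : X, z ⤳ x ∧ z ⤳ y) ∨
    (∃ U V : Set X, IsOpen U ∧ IsOpen V ∧ x ∈ U ∧ y ∈ V ∧ Disjoint U V) := by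
  classical
  by_cases hz : ∃ z : X, z ⤳ x ∧ z ⤳ y
  · exact Or.inl hz
  right
  push Not at hz
  let ι := {V : Set X // IsOpen V ∧ IsCompact V ∧ (x ∈ V ∨ y ∈ V)}
  have hb := PrespectralSpace.isTopologicalBasis (X := X)
  have hempty : ⋂ i : ι, (i.1 : Set X) = ∅ := by
    rw [Set.eq_empty_iff_forall_notMem]
    intro w hw
    rw [Set.mem_iInter] at hw
    have h1 : w ⤳ x := by
      rw [specializes_iff_forall_open]
      intro s hs hxs
      obtain ⟨V, hV, hxV, hVs⟩ := hb.exists_subset_of_mem_open hxs hs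
      exact hVs (hw ⟨V, hV.1, hV.2, Or.inl hxV⟩)
    have h2 : w ⤳ y := by
      rw [specializes_iff_forall_open]
      intro s hs hys
      obtain ⟨V, hV, hyV, hVs⟩ := hb.exists_subset_of_mem_open hys hs
      exact hVs (hw ⟨V, hV.1, hV.2, Or.inr hyV⟩)
    exact hz w h1 h2
  obtain ⟨u, hu⟩ := Groth.Agent.Lead.Spectral.exists_finite_of_iInter_eq_empty
    (fun i : ι => (i.1 : Set X))
    (fun i => Groth.Agent.Lead.Spectral.cclosed_of_isCompact_isOpen i.2.2.1 i.2.1) hempty
  refine ⟨⋂ i ∈ u.filter (fun i : ι => x ∈ i.1), i.1, ⋂ i ∈ u.filter (fun i : ι => y ∈ i.1), i.1,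
    isOpen_biInter_finset fun i _ => i.2.1, isOpen_biInter_finset fun i _ => i.2.1, ?_, ?_, ?_⟩
  · exact Set.mem_iInter₂.mpr fun i hi => (Finset.mem_filter.mp hi).2
  · exact Set.mem_iInter₂.mpr fun i hi => (Finset.mem_filter.mp hi).2
  · rw [Set.disjoint_iff_inter_eq_empty, Set.eq_empty_iff_forall_notMem]
    rintro w ⟨hw1, hw2⟩
    have : w ∈ ⋂ i ∈ u, (i.1 : Set X) := by
      refine Set.mem_iInter₂.mpr fun i hi => ?_
      rcases i.2.2.2 with hx | hy
      · exact Set.mem_iInter₂.mp hw1 i (Finset.mem_filter.mpr ⟨hi, hx⟩)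
      · exact Set.mem_iInter₂.mp hw2 i (Finset.mem_filter.mpr ⟨hi, hy⟩)
    rw [hu] at this
    exact this

end Groth.Agent.S7527
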