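import Groth.Statements.S7528
import Mathlib
import Groth.Agent.Helper3.SpecSp

set_option autoImplicit false
universe u
open SpecSp

namespace Groth.Agent.S7528

/-- For a spectral space X the following are equivalent: (1) X is profinite, i.e. quasi-compact,
Hausdorff and totally disconnected (quasi-compactness being automatic); (2) X is Hausdorff; (3) X is
totally disconnected; (4) every quasi-compact open subset is closed; (5) there are no nontrivial
specializations between points; (6) every point is closed; (7) every point is the generic point of
an irreducible component; (8) the constructible topology coincides with the topology of X. -/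
theorem result (X : Type u) [tX : TopologicalSpace X] [SpectralSpace X] :
    List.TFAE [
      T2Space X ∧ TotallyDisconnectedSpace X,
      T2Space X,
      TotallyDisconnectedSpace X,
      ∀ U : Set X, IsOpen U → IsCompact U → IsClosed U,
      ∀ x y : X, x ⤳ y → x = y,
      ∀ x : X, IsClosed ({x} : Set X),
      ∀ x : X, closure ({x} : Set X) ∈ irreducibleComponents X,
      constructibleTopology X = tX] := by
  tfae_have 1 → 2 := fun h => h.1
  tfae_have 2 → 1 := fun h => ⟨h, inferInstance⟩
  tfae_have 1 → 3 := fun h => h.2
  tfae_have 3 → 5 := by
    intro h x y hxy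
    have hpre : IsPreconnected (closure ({x} : Set X)) := isPreconnected_singleton.closure
    have hy : y ∈ closure ({x} : Set X) := specializes_iff_mem_closure.mp hxy
    have hx : x ∈ closure ({x} : Set X) := subset_closure rfl
    exact hpre.subsingleton hx hy
  tfae_have 5 → 6 := by
    intro h x
    rw [← closure_subset_iff_isClosed]
    intro y hy
    have := h x y (specializes_iff_mem_closure.mpr hy)
    rw [Set.mem_singleton_iff]
    exact this.symm
  tfae_have 6 → 7 := by
    intro h x
    rw [(h x).closure_eq]
    refine ⟨isIrreducible_singleton, fun Z hZ hxZ => ?_⟩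
    obtain ⟨η, hη⟩ := QuasiSober.sober hZ.closure isClosed_closure
    have hcl : closure Z = {η} := by rw [← hη.def, (h η).closure_eq]
    intro z hz
    have hz' : z ∈ ({η} : Set X) := hcl ▸ subset_closure hz
    have hx' : x ∈ ({η} : Set X) := hcl ▸ subset_closure (hxZ rfl)
    rw [Set.mem_singleton_iff] at hz' hx' ⊢
    rw [hz', hx']
  tfae_have 7 → 5 := by
    intro h x y hxy
    have hy : y ∈ closure ({x} : Set X) := specializes_iff_mem_closure.mp hxy
    have hsub : closure ({y} : Set X) ⊆ closure {x} :=
      closure_minimal (Set.singleton_subset_iff.mpr hy) isClosed_closure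
    have hmax := (h y).2 (h x).1 hsub
    have heq : closure ({x} : Set X) = closure {y} := le_antisymm hmax hsub
    exact (inseparable_iff_closure_eq.mpr heq).eq
  tfae_have 5 → 4 := by
    intro h U hUo hUc
    apply Groth.Agent.Helper3.SpecSp.isClosed_of_cclosed_of_stable
      (Groth.Agent.Lead.Spectral.cclosed_of_isCompact_isOpen hUc hUo)
    intro x y hxy hx
    rwa [← h x y hxy]
  tfae_have 4 → 8 := by
    intro h
    apply le_antisymm (Groth.Agent.Helper3.SpecSp.constructible_le X)
    apply le_generateFrom
    rintro s (⟨hso, hsc⟩ | ⟨hscl, hsc⟩)
    · exact hso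
    · exact isClosed_compl_iff.mp (h sᶜ hscl.isOpen_compl hsc)
  tfae_have 8 → 2 := by
    intro h
    have := Groth.Agent.Helper3.SpecSp.t2_constructible (X := X)
    rwa [h] at this
  tfae_finish

end Groth.Agent.S7528
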