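import Groth.Statements.S7529
import Mathlib
import Groth.Agent.Helper3.SpecLim

set_option autoImplicit false
universe u
open SpecSp

namespace Groth.Agent.S7529

/-- The product X × Y of two spectral spaces X and Y is a spectral space. -/
theorem result (X Y : Type u) [TopologicalSpace X] [TopologicalSpace Y]
    [SpectralSpace X] [SpectralSpace Y] : SpectralSpace (X × Y) := by
  have hbX := PrespectralSpace.isTopologicalBasis (X := X)
  have hbY := PrespectralSpace.isTopologicalBasis (X := Y)
  refine Groth.Agent.Helper3.Hochster.spectralSpace_of_patch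
    (@instTopologicalSpaceProd X Y (constructibleTopology X) (constructibleTopology Y))
    (@instCompactSpaceProd X Y (constructibleTopology X) (constructibleTopology Y)
      Groth.Agent.Lead.Spectral.compactSpace_constructible
      Groth.Agent.Lead.Spectral.compactSpace_constructible)
    _ (hbX.prod hbY) ?_ ?_
  · rintro b ⟨U, hU, V, hV, rfl⟩
    exact @IsOpen.prod X Y (constructibleTopology X) (constructibleTopology Y) U V
      (Groth.Agent.Helper3.SpecSp.copen_of_qc hU.1 hU.2)
      (Groth.Agent.Helper3.SpecSp.copen_of_qc hV.1 hV.2)
  · rintro b ⟨U, hU, V, hV, rfl⟩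
    exact @IsClosed.prod X Y (constructibleTopology X) (constructibleTopology Y) U V
      (Groth.Agent.Lead.Spectral.cclosed_of_isCompact_isOpen hU.2 hU.1)
      (Groth.Agent.Lead.Spectral.cclosed_of_isCompact_isOpen hV.2 hV.1)

end Groth.Agent.S7529
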