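import Groth.Statements.S7530
import Mathlib
import Groth.Agent.Helper3.SpecSp

set_option autoImplicit false
universe u
open SpecSp

namespace Groth.Agent.S7530

/-- Let f : X → Y be a map of spectral spaces which is spectral and bijective, and assume that
generalizations lift along f or that specializations lift along f. Then f is a homeomorphism. -/
theorem result {X Y : Type u} [TopologicalSpace X] [TopologicalSpace Y]
    [SpectralSpace X] [SpectralSpace Y] (f : X → Y) (hf : IsSpectralMap f) (hb : Function.Bijective f)
    (hlift : GeneralizingMap f ∨ SpecializingMap f) :
    IsHomeomorph f := by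
  classical
  have hcont : Continuous f := hf.continuous
  rcases hlift with hg | hs
  · -- open map
    have hopen : IsOpenMap f := by
      have hbas := PrespectralSpace.isTopologicalBasis (X := X)
      rw [hbas.isOpenMap_iff]
      intro U hU
      apply Groth.Agent.Helper3.SpecSp.isOpen_of_copen_of_stable
      · have h1 : Groth.Agent.Lead.Spectral.CClosed (f '' Uᶜ) :=
          Groth.Agent.Helper3.SpecSp.cclosed_image hf
            (Groth.Agent.Lead.Spectral.cclosed_of_isClosed hU.1.isClosed_compl)
        rw [Set.image_compl_eq hb] at h1
        exact (@isClosed_compl_iff Y (constructibleTopology Y) (f '' U)).mp h1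
      · exact hg.stableUnderGeneralization_image hU.1.stableUnderGeneralization
    exact ⟨hcont, hopen, hb⟩
  · have hclosed : IsClosedMap f := by
      intro Z hZ
      apply Groth.Agent.Helper3.SpecSp.isClosed_of_cclosed_of_stable
      · exact Groth.Agent.Helper3.SpecSp.cclosed_image hf
          (Groth.Agent.Lead.Spectral.cclosed_of_isClosed hZ)
      · exact hs.stableUnderSpecialization_image hZ.stableUnderSpecialization
    exact (isHomeomorph_iff_continuous_isClosedMap_bijective).mpr ⟨hcont, hclosed, hb⟩

end Groth.Agent.S7530
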