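import Groth.Statements.S7531
import Mathlib
import Groth.Agent.Helper3.SpecLim

set_option autoImplicit false
universe u
open CategoryTheory CategoryTheory.Limits
open SpecSp

namespace Groth.Agent.S7531

/-- Let J be a nonempty directed preordered set and let (X_j) be an inverse system of finite sober
topological spaces indexed by J (a functor from the opposite of J to topological spaces). Then any
limit of this system in the category of topological spaces is a spectral space. -/
theorem result {J : Type u} [Preorder J] [Nonempty J] [IsDirected J (· ≤ ·)]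
    (F : Jᵒᵖ ⥤ TopCat.{u})
    (hF : ∀ j : Jᵒᵖ, Finite (F.obj j) ∧ T0Space (F.obj j) ∧ QuasiSober (F.obj j))
    (c : Cone F) (hc : IsLimit c) :
    SpectralSpace c.pt := by
  have hsp : ∀ j : Jᵒᵖ, SpectralSpace (F.obj j) := by
    intro j
    obtain ⟨h1, h2, h3⟩ := hF j
    haveI := h1
    haveI := h2
    haveI := h3
    haveI : QuasiSeparatedSpace (F.obj j) :=
      ⟨fun U V _ _ _ _ => (Set.toFinite (U ∩ V)).isCompact⟩
    exact { }
  have hmaps : ∀ {i j : Jᵒᵖ} (a : i ⟶ j), IsSpectralMap (F.map a : F.obj i → F.obj j) := by
    intro i j a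
    haveI := (hF i).1
    exact ⟨(F.map a).hom.continuous, fun s _ _ => (Set.toFinite _).isCompact⟩
  exact Groth.Agent.Helper3.SpecLim.spectralSpace_pt F c hc hsp hmaps

end Groth.Agent.S7531
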