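import Groth.Statements.S7532
import Mathlib
import Groth.Agent.Helper3.SpecPi
import Groth.Agent.S7525

set_option autoImplicit false
universe u
open SpecSp

namespace Groth.Agent.S7532

/-- Let W be the two-point space with one closed and one non-closed point (here the Sierpiński topology
on Prop). A topological space X is spectral exactly when, for some index type I, X admits a
topological embedding into the power W^I whose image is a closed set for the constructible topology
on W^I. -/
theorem result (X : Type u) [TopologicalSpace X] :
    SpectralSpace X ↔ ∃ (I : Type u) (f : X → (I → Prop)),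
      Topology.IsEmbedding f ∧ @IsClosed (I → Prop) (constructibleTopology (I → Prop)) (Set.range f) := by
  classical
  constructor
  · intro hX
    have hb := PrespectralSpace.isTopologicalBasis (X := X)
    let I := {U : Set X // IsOpen U ∧ IsCompact U}
    let f : X → (I → Prop) := fun x U => x ∈ U.1
    have hfc : Continuous f := continuous_pi fun U => isOpen_iff_continuous_mem.mp U.2.1
    haveI : SpectralSpace (I → Prop) := Groth.Agent.Helper3.SpecPi.spectralSpace_pi (fun _ : I => Prop)
    refine ⟨I, f, ⟨⟨?_⟩, ?_⟩, ?_⟩
    · -- inducing
      apply le_antisymm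
      · exact continuous_iff_le_induced.mp hfc
      · rw [TopologicalSpace.le_def]
        intro s hs
        obtain ⟨S, hS, rfl⟩ := hb.open_eq_sUnion hs
        apply @isOpen_sUnion _ (TopologicalSpace.induced f inferInstance)
        intro V hV
        rw [isOpen_induced_iff]
        refine ⟨(fun p : I → Prop => p ⟨V, hS hV⟩) ⁻¹' {True},
          isOpen_singleton_true.preimage (continuous_apply _), ?_⟩
        ext x
        simp [f]
    · -- injective
      intro x y hxy
      by_contra hne
      obtain ⟨U, hU, hxor⟩ := exists_isOpen_xor_mem hne
      rcases hxor with ⟨hxU, hyU⟩ | ⟨hyU, hxU⟩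
      · obtain ⟨V, hV, hxV, hVU⟩ := hb.exists_subset_of_mem_open hxU hU
        have := congrFun hxy ⟨V, hV⟩
        simp only [f, eq_iff_iff] at this
        exact hyU (hVU (this.mp hxV))
      · obtain ⟨V, hV, hyV, hVU⟩ := hb.exists_subset_of_mem_open hyU hU
        have := congrFun hxy ⟨V, hV⟩
        simp only [f, eq_iff_iff] at this
        exact hxU (hVU (this.mpr hyV))
    · -- range is constructible-closed
      have hbasis := isTopologicalBasis_pi
        (fun _ : I => PrespectralSpace.isTopologicalBasis (X := Prop))
      have hsp : IsSpectralMap f := by
        refine Groth.Agent.Helper3.SpecPi.isSpectralMap_of_basis hfc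
          (fun b : {S : Set (I → Prop) // ∃ (U : I → Set Prop) (F : Finset I),
            (∀ i, i ∈ F → U i ∈ {U : Set Prop | IsOpen U ∧ IsCompact U}) ∧
              S = (F : Set I).pi U} => b.1) ?_ ?_ ?_
        · convert hbasis using 1
          exact Subtype.range_coe
        · rintro ⟨S, U, F, hU, rfl⟩
          exact Groth.Agent.Helper3.SpecPi.isCompact_pi_basis _ F U (fun i hi => (hU i hi).2)
        · rintro ⟨S, U, F, hU, rfl⟩
          have hpre : f ⁻¹' ((F : Set I).pi U) = ⋂ V ∈ F, {x | (x ∈ V.1) ∈ U V} := by
            ext x
            simp [f, Set.mem_pi]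
          show IsCompact (f ⁻¹' ((F : Set I).pi U))
          rw [hpre]
          have key : ∀ G : Finset I, G ⊆ F →
              IsOpen (⋂ V ∈ G, {x | (x ∈ V.1) ∈ U V}) ∧
              IsCompact (⋂ V ∈ G, {x | (x ∈ V.1) ∈ U V}) := by
            intro G
            induction G using Finset.induction_on with
            | empty => intro _; simp [isCompact_univ]
            | insert a G _ ih =>
              intro hG
              have h1 := ih (fun x hx => hG (Finset.mem_insert_of_mem hx))
              have h2 := Groth.Agent.Helper3.SpecPi.qc_open_preimage_mem a.2.1 a.2.2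
                (hU a (hG (Finset.mem_insert_self _ _))).1
              rw [Finset.set_biInter_insert]
              exact ⟨h2.1.inter h1.1,
                QuasiSeparatedSpace.inter_isCompact _ _ h2.1 h2.2 h1.1 h1.2⟩
          exact (key F le_rfl).2
      rw [← Set.image_univ]
      exact Groth.Agent.Helper3.SpecSp.cclosed_image hsp
        (@isClosed_univ X (constructibleTopology X))
  · rintro ⟨I, f, hemb, hcl⟩
    haveI : SpectralSpace (I → Prop) := Groth.Agent.Helper3.SpecPi.spectralSpace_pi (fun _ : I => Prop)
    haveI : SpectralSpace (Set.range f) := Groth.Agent.S7525.result (Set.range f) hcl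
    let e : X ≃ₜ Set.range f := hemb.toHomeomorph
    haveI : CompactSpace X := e.symm.compactSpace
    exact e.isOpenEmbedding.spectralSpace

end Groth.Agent.S7532
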