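import Groth.Statements.S7534
import Mathlib
import Groth.Agent.Helper3.SpecLim

set_option autoImplicit false
universe u
open CategoryTheory CategoryTheory.Limits
open SpecSp

namespace Groth.Agent.S7534

/-- Let j ↦ X_j be a cofiltered diagram of spectral spaces with spectral transition maps, and X its
limit in topological spaces with projections p_j. (1) If Z_j ⊆ X_j are nonempty, closed in the
constructible topology, and carried into each other by the transition maps, then lim Z_j is
nonempty, i.e. some x ∈ X has p_j(x) ∈ Z_j for all j. (2) If every X_j is nonempty then X is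
nonempty. -/
theorem result {J : Type u} [SmallCategory J] [IsCofiltered J] (F : J ⥤ TopCat.{u})
    (hF : ∀ j, SpectralSpace (F.obj j))
    (hFm : ∀ {i j : J} (a : i ⟶ j), IsSpectralMap (F.map a : F.obj i → F.obj j))
    (c : Cone F) (hc : IsLimit c) :
    (∀ Z : ∀ j, Set (F.obj j),
      (∀ j, (Z j).Nonempty) →
      (∀ j, @IsClosed (F.obj j) (constructibleTopology (F.obj j)) (Z j)) →
      (∀ {i j : J} (a : i ⟶ j), Set.MapsTo (F.map a) (Z i) (Z j)) →
      ∃ x : c.pt, ∀ j, c.π.app j x ∈ Z j) ∧
    ((∀ j, Nonempty (F.obj j)) → Nonempty c.pt) := by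
  classical
  have := hF
  have hT2 : ∀ j, T2Space (WithConstructibleTopology (F.obj j)) :=
    fun j => Groth.Agent.Helper3.SpecLim.t2Space_withConstr
  have main : ∀ Z : ∀ j, Set (F.obj j),
      (∀ j, (Z j).Nonempty) →
      (∀ j, @IsClosed (F.obj j) (constructibleTopology (F.obj j)) (Z j)) →
      (∀ {i j : J} (a : i ⟶ j), Set.MapsTo (F.map a) (Z i) (Z j)) →
      ∃ x : c.pt, ∀ j, c.π.app j x ∈ Z j := by
    intro Z hne hcl hmaps
    let F' : J ⥤ TopCat.{u} :=
      { obj := fun j => TopCat.of {z : WithConstructibleTopology (F.obj j) //
          WithTopology.ofTopology z ∈ Z j}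
        map := fun {i j} a => TopCat.ofHom
          ⟨fun z => ⟨WithTopology.toTopology _ (F.map a (WithTopology.ofTopology z.1)),
            hmaps a z.2⟩,
            Continuous.subtype_mk ((Groth.Agent.Helper3.SpecLim.continuous_withConstr
              (hFm a)).comp continuous_subtype_val) _⟩
        map_id := by
          intro i
          ext z
          simp
        map_comp := by
          intro i j k a b
          ext z
          simp }
    haveI : ∀ j, Nonempty (F'.obj j) := fun j => by
      obtain ⟨z, hz⟩ := hne j
      exact ⟨⟨WithTopology.toTopology _ z, hz⟩⟩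
    haveI : ∀ j, CompactSpace (F'.obj j) := fun j => by
      apply isCompact_iff_compactSpace.mp
      apply IsClosed.isCompact
      rw [WithConstructibleTopology.isClosed_iff]
      exact hcl j
    haveI : ∀ j, T2Space (F'.obj j) := fun j => by
      show T2Space {z : WithConstructibleTopology (F.obj j) // WithTopology.ofTopology z ∈ Z j}
      infer_instance
    obtain ⟨u, hu⟩ := TopCat.nonempty_limitCone_of_compact_t2_cofiltered_system F'
    obtain ⟨x, hx⟩ := Groth.Agent.Helper3.SpecLim.exists_of_compatible F c hc
      (fun j => WithTopology.ofTopology (u j).1)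
      (fun {i j} a => by
        have h1 := hu a
        have h2 := congrArg (fun z => WithTopology.ofTopology z.1) h1
        exact h2)
    exact ⟨x, fun j => by rw [hx j]; exact (u j).2⟩
  refine ⟨main, fun hne => ?_⟩
  obtain ⟨x, -⟩ := main (fun _ => Set.univ) (fun j => Set.univ_nonempty)
    (fun j => @isClosed_univ _ (constructibleTopology (F.obj j)))
    (fun _ => Set.mapsTo_univ _ _)
  exact ⟨x⟩

end Groth.Agent.S7534
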