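import Groth.Statements.S7535
import Mathlib
import Groth.Agent.Helper3.SpecLim
import Groth.Agent.S7534

set_option autoImplicit false
universe u
open CategoryTheory CategoryTheory.Limits
open SpecSp

namespace Groth.Agent.S7535

/-- Let j ↦ X_j be a cofiltered diagram of spectral spaces with spectral transition maps f_a, X its
limit with projections p_j, i an object, and E, F ⊆ X_i subsets, E constructibly closed and F
constructibly open in X_i. The inclusion p_i⁻¹(E) ⊆ p_i⁻¹(F) holds exactly when some morphism a : j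
→ i already gives f_a⁻¹(E) ⊆ f_a⁻¹(F). -/
theorem result {J : Type u} [SmallCategory J] [IsCofiltered J] (F : J ⥤ TopCat.{u})
    (hF : ∀ j, SpectralSpace (F.obj j))
    (hFm : ∀ {i j : J} (a : i ⟶ j), IsSpectralMap (F.map a : F.obj i → F.obj j))
    (c : Cone F) (hc : IsLimit c)
    (i : J) (E F' : Set (F.obj i)) (hE : @IsClosed (F.obj i) (constructibleTopology (F.obj i)) E)
    (hF' : @IsOpen (F.obj i) (constructibleTopology (F.obj i)) F') :
    (c.π.app i ⁻¹' E ⊆ c.π.app i ⁻¹' F') ↔ ∃ (j : J) (a : j ⟶ i), F.map a ⁻¹' E ⊆ F.map a ⁻¹' F' := by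
  classical
  have := hF
  constructor
  · intro hsub
    by_contra hcon
    push Not at hcon
    -- D = E \ F' is constructible-closed
    set D : Set (F.obj i) := E \ F' with hD
    have hDc : Groth.Agent.Lead.Spectral.CClosed D := by
      rw [hD, Set.diff_eq]
      exact Groth.Agent.Lead.Spectral.CClosed.inter hE
        ((@isClosed_compl_iff _ (constructibleTopology (F.obj i)) F').mpr hF')
    have hw : ∀ (j : J) (a : j ⟶ i), ∃ w : F.obj j, F.map a w ∈ D := by
      intro j a
      obtain ⟨w, hwE, hwF⟩ := Set.not_subset.mp (hcon j a)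
      exact ⟨w, hwE, hwF⟩
    let Z : ∀ j, Set (F.obj j) := fun j => ⋂ a : j ⟶ i, (F.map a ⁻¹' D)
    have hZc : ∀ j, @IsClosed (F.obj j) (constructibleTopology (F.obj j)) (Z j) := fun j =>
      @isClosed_iInter _ _ (constructibleTopology (F.obj j)) _ fun a =>
        Groth.Agent.Helper3.SpecSp.cclosed_preimage (hFm a) hDc
    have hZm : ∀ {j k : J} (b : j ⟶ k), Set.MapsTo (F.map b) (Z j) (Z k) := by
      intro j k b z hz
      refine Set.mem_iInter.mpr fun a => ?_
      have h1 := Set.mem_iInter.mp hz (b ≫ a)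
      have h2 : F.map (b ≫ a) z = F.map a (F.map b z) := by
        rw [F.map_comp]; rfl
      show F.map a (F.map b z) ∈ D
      rw [← h2]; exact h1
    have hZne : ∀ j, (Z j).Nonempty := by
      intro j
      by_contra hempty
      rw [Set.not_nonempty_iff_eq_empty] at hempty
      obtain ⟨u, hu⟩ := Groth.Agent.Lead.Spectral.exists_finite_of_iInter_eq_empty
        (fun a : j ⟶ i => (F.map a ⁻¹' D))
        (fun a => Groth.Agent.Helper3.SpecSp.cclosed_preimage (hFm a) hDc) hempty
      let O : Finset J := {j, i}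
      have mj : j ∈ O := by simp [O]
      have mi : i ∈ O := by simp [O]
      let H : Finset (Σ' (X Y : J) (_ : X ∈ O) (_ : Y ∈ O), X ⟶ Y) :=
        u.image (fun a => ⟨j, i, mj, mi, a⟩)
      obtain ⟨k, T, hT⟩ := IsCofiltered.inf_exists O H
      obtain ⟨w, hw'⟩ := hw k (T mi)
      have : F.map (T mj) w ∈ ⋂ a ∈ u, (F.map a ⁻¹' D) := by
        refine Set.mem_iInter₂.mpr fun a ha => ?_
        have h1 : T mj ≫ a = T mi := hT mj mi (Finset.mem_image.mpr ⟨a, ha, rfl⟩)
        show F.map a (F.map (T mj) w) ∈ D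
        have h2 : F.map (T mj ≫ a) w = F.map a (F.map (T mj) w) := by
          rw [F.map_comp]; rfl
        rw [← h2, h1]; exact hw'
      rw [hu] at this
      exact this
    obtain ⟨x, hx⟩ := (Groth.Agent.S7534.result F hF hFm c hc).1 Z hZne hZc hZm
    have h1 := Set.mem_iInter.mp (hx i) (𝟙 i)
    have h2 : F.map (𝟙 i) (c.π.app i x) = c.π.app i x := by
      rw [F.map_id]; rfl
    have h3 : c.π.app i x ∈ D := by
      have : F.map (𝟙 i) (c.π.app i x) ∈ D := h1
      rwa [h2] at this
    exact h3.2 (hsub h3.1)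
  · rintro ⟨j, a, hsub⟩ x hx
    have h1 := ConcreteCategory.congr_hom (c.w a) x
    rw [ConcreteCategory.comp_apply] at h1
    have h2 : c.π.app j x ∈ F.map a ⁻¹' E := by
      show F.map a (c.π.app j x) ∈ E
      rw [h1]; exact hx
    have h3 := hsub h2
    show c.π.app i x ∈ F'
    rw [← h1]; exact h3

end Groth.Agent.S7535
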