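import Groth.Statements.S7571
import Mathlib

set_option autoImplicit false
universe u
open CategoryTheory CategoryTheory.Limits
open PtTop

namespace Groth.Agent.S7571

/-- Let j ↦ X_j be a diagram of topological spaces over a cofiltered category with limit X and
projections f_j. (1) Every open of X is a union of subsets of the form f_j⁻¹(U_j) with U_j ⊆ X_j
open. (2) Every quasi-compact open of X equals f_i⁻¹(U_i) for some i and some open U_i ⊆ X_i. -/
theorem result {J : Type u} [SmallCategory J] [IsCofiltered J]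
    (F : J ⥤ TopCat.{u}) (c : Cone F) (hc : IsLimit c) :
    (∀ W : Set c.pt, IsOpen W →
      ∃ S : Set (Σ j, Set (F.obj j)), (∀ s ∈ S, IsOpen s.2) ∧ W = ⋃ s ∈ S, c.π.app s.1 ⁻¹' s.2) ∧
    (∀ W : Set c.pt, IsOpen W → IsCompact W →
      ∃ (i : J) (Ui : Set (F.obj i)), IsOpen Ui ∧ W = c.π.app i ⁻¹' Ui) := by
  classical
  have hbasis := TopCat.isTopologicalBasis_cofiltered_limit F c hc (fun j => {U | IsOpen U})
    (fun j => TopologicalSpace.isTopologicalBasis_opens) (fun j => isOpen_univ)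
    (fun j U1 U2 h1 h2 => IsOpen.inter h1 h2)
    (fun i j f V hV => IsOpen.preimage (F.map f).hom.continuous hV)
  have part1 : ∀ W : Set c.pt, IsOpen W →
      ∃ S : Set (Σ j, Set (F.obj j)), (∀ s ∈ S, IsOpen s.2) ∧
        W = ⋃ s ∈ S, c.π.app s.1 ⁻¹' s.2 := by
    intro W hW
    refine ⟨{s | IsOpen s.2 ∧ c.π.app s.1 ⁻¹' s.2 ⊆ W}, fun s hs => hs.1, ?_⟩
    apply le_antisymm
    · intro x hx
      obtain ⟨b, ⟨j, V, hV, rfl⟩, hxb, hbW⟩ := hbasis.exists_subset_of_mem_open hx hW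
      exact Set.mem_iUnion₂.mpr ⟨⟨j, V⟩, ⟨hV, hbW⟩, hxb⟩
    · exact Set.iUnion₂_subset fun s hs => hs.2
  refine ⟨part1, fun W hWo hWc => ?_⟩
  obtain ⟨S, hS, hWS⟩ := part1 W hWo
  have hcov : W ⊆ ⋃ s : S, c.π.app s.1.1 ⁻¹' s.1.2 := by
    rw [hWS]
    intro x hx
    obtain ⟨s, hs, hxs⟩ := Set.mem_iUnion₂.mp hx
    exact Set.mem_iUnion.mpr ⟨⟨s, hs⟩, hxs⟩
  obtain ⟨t, ht⟩ := hWc.elim_finite_subcover (fun s : S => c.π.app s.1.1 ⁻¹' s.1.2)
    (fun s => IsOpen.preimage (c.π.app s.1.1).hom.continuous (hS s.1 s.2)) hcov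
  obtain ⟨k, hk⟩ := IsCofiltered.inf_objs_exists (t.image (fun s : S => s.1.1))
  have hmap : ∀ s ∈ t, Nonempty (k ⟶ s.1.1) := fun s hs =>
    hk (Finset.mem_image.mpr ⟨s, hs, rfl⟩)
  let g : ∀ s : S, s ∈ t → (k ⟶ s.1.1) := fun s hs => (hmap s hs).some
  refine ⟨k, ⋃ s : S, ⋃ hs : s ∈ t, F.map (g s hs) ⁻¹' s.1.2, ?_, ?_⟩
  · exact isOpen_iUnion fun s => isOpen_iUnion fun hs =>
      IsOpen.preimage (F.map (g s hs)).hom.continuous (hS s.1 s.2)
  · have hcomp : ∀ (s : S) (hs : s ∈ t) (x : c.pt),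
        F.map (g s hs) (c.π.app k x) = c.π.app s.1.1 x := by
      intro s hs x
      have h1 := ConcreteCategory.congr_hom (c.w (g s hs)) x
      rw [ConcreteCategory.comp_apply] at h1
      exact h1
    apply le_antisymm
    · intro x hx
      obtain ⟨s, hs, hxs⟩ := Set.mem_iUnion₂.mp (ht hx)
      refine Set.mem_iUnion.mpr ⟨s, Set.mem_iUnion.mpr ⟨hs, ?_⟩⟩
      show F.map (g s hs) (c.π.app k x) ∈ s.1.2
      rw [hcomp s hs]; exact hxs
    · intro x hx
      obtain ⟨s, hx'⟩ := Set.mem_iUnion.mp hx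
      obtain ⟨hs, hx''⟩ := Set.mem_iUnion.mp hx'
      rw [hWS]
      refine Set.mem_iUnion₂.mpr ⟨s.1, s.2, ?_⟩
      show c.π.app s.1.1 x ∈ s.1.2
      rw [← hcomp s hs]; exact hx''

end Groth.Agent.S7571
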