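import Groth.Statements.S7538
import Mathlib
import Groth.Agent.Helper3.SpecLim
import Groth.Agent.S7535
import Groth.Agent.S7571

set_option autoImplicit false
universe u
open CategoryTheory CategoryTheory.Limits
open SpecSp

namespace Groth.Agent.S7538

/-- Let j ↦ X_j be a cofiltered diagram of spectral spaces with spectral transition maps f_a and X its
limit with projections p_j. (1) Any quasi-compact open U ⊆ X is p_i⁻¹(U_i) for some i and some
quasi-compact open U_i ⊆ X_i. (2) If U_i ⊆ X_i and U_j ⊆ X_j are quasi-compact opens with p_i⁻¹(U_i)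
⊆ p_j⁻¹(U_j), there are k and a : k → i, b : k → j with f_a⁻¹(U_i) ⊆ f_b⁻¹(U_j). (3) If U_i and
finitely many U_{l,i} are quasi-compact opens of X_i with p_i⁻¹(U_i) = ⋃_l p_i⁻¹(U_{l,i}), then
f_a⁻¹(U_i) = ⋃_l f_a⁻¹(U_{l,i}) for some a : j → i. (4) The same with intersections. -/
theorem result {J : Type u} [SmallCategory J] [IsCofiltered J] (F : J ⥤ TopCat.{u})
    (hF : ∀ j, SpectralSpace (F.obj j))
    (hFm : ∀ {i j : J} (a : i ⟶ j), IsSpectralMap (F.map a : F.obj i → F.obj j))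
    (c : Cone F) (hc : IsLimit c) :
    (∀ U : Set c.pt, IsOpen U → IsCompact U →
      ∃ (i : J) (Ui : Set (F.obj i)), IsOpen Ui ∧ IsCompact Ui ∧ c.π.app i ⁻¹' Ui = U) ∧
    (∀ (i j : J) (Ui : Set (F.obj i)) (Uj : Set (F.obj j)),
      IsOpen Ui → IsCompact Ui → IsOpen Uj → IsCompact Uj →
      c.π.app i ⁻¹' Ui ⊆ c.π.app j ⁻¹' Uj →
      ∃ (k : J) (a : k ⟶ i) (b : k ⟶ j), F.map a ⁻¹' Ui ⊆ F.map b ⁻¹' Uj) ∧
    (∀ (i : J) (n : ℕ) (Ui : Set (F.obj i)) (V : Fin n → Set (F.obj i)),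
      IsOpen Ui → IsCompact Ui → (∀ l, IsOpen (V l) ∧ IsCompact (V l)) →
      (c.π.app i ⁻¹' Ui = ⋃ l, c.π.app i ⁻¹' V l →
        ∃ (j : J) (a : j ⟶ i), F.map a ⁻¹' Ui = ⋃ l, F.map a ⁻¹' V l) ∧
      (c.π.app i ⁻¹' Ui = ⋂ l, c.π.app i ⁻¹' V l →
        ∃ (j : J) (a : j ⟶ i), F.map a ⁻¹' Ui = ⋂ l, F.map a ⁻¹' V l)) := by
  classical
  have := hF
  -- composition of transition maps
  have hcompF : ∀ {i j k : J} (b : k ⟶ j) (a : j ⟶ i) (S : Set (F.obj i)),
      F.map (b ≫ a) ⁻¹' S = F.map b ⁻¹' (F.map a ⁻¹' S) := by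
    intro i j k b a S
    ext x
    simp only [Set.mem_preimage]
    rw [F.map_comp]; rfl
  have hπ : ∀ {i j : J} (a : j ⟶ i) (S : Set (F.obj i)),
      c.π.app j ⁻¹' (F.map a ⁻¹' S) = c.π.app i ⁻¹' S := by
    intro i j a S
    ext x
    simp only [Set.mem_preimage]
    have h1 := ConcreteCategory.congr_hom (c.w a) x
    rw [ConcreteCategory.comp_apply] at h1
    rw [h1]
  have pull : ∀ (i : J) (E F' : Set (F.obj i)),
      @IsClosed (F.obj i) (constructibleTopology (F.obj i)) E →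
      @IsOpen (F.obj i) (constructibleTopology (F.obj i)) F' →
      c.π.app i ⁻¹' E ⊆ c.π.app i ⁻¹' F' →
      ∃ (j : J) (a : j ⟶ i), F.map a ⁻¹' E ⊆ F.map a ⁻¹' F' := fun i E F' hE hF' h =>
    (Groth.Agent.S7535.result F hF hFm c hc i E F' hE hF').mp h
  have eqLemma : ∀ (i : J) (A B : Set (F.obj i)),
      @IsClopen (F.obj i) (constructibleTopology (F.obj i)) A →
      @IsClopen (F.obj i) (constructibleTopology (F.obj i)) B →
      c.π.app i ⁻¹' A = c.π.app i ⁻¹' B →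
      ∃ (j : J) (a : j ⟶ i), F.map a ⁻¹' A = F.map a ⁻¹' B := by
    intro i A B hA hB h
    obtain ⟨j₁, a₁, h₁⟩ := pull i A B hA.1 hB.2 h.le
    obtain ⟨j₂, a₂, h₂⟩ := pull i B A hB.1 hA.2 h.ge
    obtain ⟨j, b₁, b₂, hb⟩ := IsCofiltered.cospan a₁ a₂
    refine ⟨j, b₁ ≫ a₁, le_antisymm ?_ ?_⟩
    · rw [hcompF, hcompF]; exact Set.preimage_mono h₁
    · rw [hb, hcompF, hcompF]; exact Set.preimage_mono h₂
  have qc_clopen : ∀ (i : J) (U : Set (F.obj i)), IsOpen U → IsCompact U →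
      @IsClopen (F.obj i) (constructibleTopology (F.obj i)) U := fun i U hUo hUc =>
    ⟨Groth.Agent.Lead.Spectral.cclosed_of_isCompact_isOpen hUc hUo,
      Groth.Agent.Helper3.SpecSp.copen_of_qc hUo hUc⟩
  refine ⟨?_, ?_, ?_⟩
  · intro U hUo hUc
    obtain ⟨i, V, hV, hUV⟩ := (Groth.Agent.S7571.result F c hc).2 U hUo hUc
    have hb := PrespectralSpace.isTopologicalBasis (X := F.obj i)
    obtain ⟨S, hS, rfl⟩ := hb.open_eq_sUnion hV
    have hcov : U ⊆ ⋃ s : S, c.π.app i ⁻¹' s.1 := by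
      rw [hUV, Set.sUnion_eq_iUnion, Set.preimage_iUnion]
    obtain ⟨t, ht⟩ := hUc.elim_finite_subcover (fun s : S => c.π.app i ⁻¹' s.1)
      (fun s => IsOpen.preimage (c.π.app i).hom.continuous (hS s.2).1) hcov
    refine ⟨i, ⋃ s ∈ t, s.1, isOpen_biUnion fun s _ => (hS s.2).1,
      Finset.isCompact_biUnion _ fun s _ => (hS s.2).2, ?_⟩
    apply le_antisymm
    · rw [hUV]
      apply Set.preimage_mono
      exact Set.iUnion₂_subset fun s _ => Set.subset_sUnion_of_mem s.2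
    · rw [Set.preimage_iUnion₂]; exact ht
  · intro i j Ui Uj hUio hUic hUjo hUjc hsub
    obtain ⟨k₀, a₀, b₀, -⟩ : ∃ (k₀ : J) (a₀ : k₀ ⟶ i) (b₀ : k₀ ⟶ j), True :=
      ⟨IsCofiltered.min i j, IsCofiltered.minToLeft i j, IsCofiltered.minToRight i j, trivial⟩
    have hE := Groth.Agent.Helper3.SpecSp.cclosed_preimage (hFm a₀) (qc_clopen i Ui hUio hUic).1
    have hF' := @IsOpen.preimage _ _ (constructibleTopology (F.obj k₀))
      (constructibleTopology (F.obj j)) (F.map b₀)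
      (Groth.Agent.Helper3.SpecSp.continuous_constr_of_isSpectralMap (hFm b₀)) Uj
      (qc_clopen j Uj hUjo hUjc).2
    obtain ⟨k, d, hd⟩ := pull k₀ (F.map a₀ ⁻¹' Ui) (F.map b₀ ⁻¹' Uj) hE hF'
      (by rw [hπ, hπ]; exact hsub)
    refine ⟨k, d ≫ a₀, d ≫ b₀, ?_⟩
    rw [hcompF, hcompF]; exact hd
  · intro i n Ui V hUio hUic hV
    constructor
    · intro h
      have hB : @IsClopen (F.obj i) (constructibleTopology (F.obj i)) (⋃ l, V l) :=
        ⟨@isClosed_iUnion_of_finite _ _ (constructibleTopology (F.obj i)) _ _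
            fun l => (qc_clopen i (V l) (hV l).1 (hV l).2).1,
          @isOpen_iUnion _ _ (constructibleTopology (F.obj i)) _
            fun l => (qc_clopen i (V l) (hV l).1 (hV l).2).2⟩
      obtain ⟨j, a, ha⟩ := eqLemma i Ui (⋃ l, V l) (qc_clopen i Ui hUio hUic) hB
        (by rw [h, Set.preimage_iUnion])
      exact ⟨j, a, by rw [ha, Set.preimage_iUnion]⟩
    · intro h
      have hB : @IsClopen (F.obj i) (constructibleTopology (F.obj i)) (⋂ l, V l) :=
        ⟨@isClosed_iInter _ _ (constructibleTopology (F.obj i)) _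
            fun l => (qc_clopen i (V l) (hV l).1 (hV l).2).1,
          @isOpen_iInter_of_finite _ _ (constructibleTopology (F.obj i)) _ _
            fun l => (qc_clopen i (V l) (hV l).1 (hV l).2).2⟩
      obtain ⟨j, a, ha⟩ := eqLemma i Ui (⋂ l, V l) (qc_clopen i Ui hUio hUic) hB
        (by rw [h, Set.preimage_iInter])
      exact ⟨j, a, by rw [ha, Set.preimage_iInter]⟩

end Groth.Agent.S7538
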