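import Groth.Statements.S7536
import Mathlib
import Groth.Agent.Helper3.SpecLim
import Groth.Agent.S7538

set_option autoImplicit false
universe u
open CategoryTheory CategoryTheory.Limits
open SpecSp

namespace Groth.Agent.S7536

/-- Let j ↦ X_j be a cofiltered diagram of spectral spaces with spectral transition maps and X its limit
with projections p_j. For every constructible E ⊆ X there are an object i and a constructible E_i ⊆
X_i with p_i⁻¹(E_i) = E; if E is open, resp. closed, then E_i may be chosen open, resp. closed. -/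
theorem result {J : Type u} [SmallCategory J] [IsCofiltered J] (F : J ⥤ TopCat.{u})
    (hF : ∀ j, SpectralSpace (F.obj j))
    (hFm : ∀ {i j : J} (a : i ⟶ j), IsSpectralMap (F.map a : F.obj i → F.obj j))
    (c : Cone F) (hc : IsLimit c)
    (E : Set c.pt) (hE : Topology.IsConstructible E) :
    (∃ (i : J) (Ei : Set (F.obj i)), Topology.IsConstructible Ei ∧ c.π.app i ⁻¹' Ei = E) ∧
    (IsOpen E → ∃ (i : J) (Ei : Set (F.obj i)), Topology.IsConstructible Ei ∧ IsOpen Ei ∧ c.π.app i ⁻¹' Ei = E) ∧
    (IsClosed E → ∃ (i : J) (Ei : Set (F.obj i)), Topology.IsConstructible Ei ∧ IsClosed Ei ∧ c.π.app i ⁻¹' Ei = E) := by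
  classical
  have := hF
  haveI : SpectralSpace c.pt := Groth.Agent.Helper3.SpecLim.spectralSpace_pt F c hc hF hFm
  have hqc := (Groth.Agent.S7538.result F hF hFm c hc).1
  have hπ : ∀ {i j : J} (a : j ⟶ i) (S : Set (F.obj i)),
      c.π.app j ⁻¹' (F.map a ⁻¹' S) = c.π.app i ⁻¹' S := by
    intro i j a S
    ext x
    simp only [Set.mem_preimage]
    have h1 := ConcreteCategory.congr_hom (c.w a) x
    rw [ConcreteCategory.comp_apply] at h1
    rw [h1]
  have hpre : ∀ {i j : J} (a : j ⟶ i) (S : Set (F.obj i)), Topology.IsConstructible S →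
      Topology.IsConstructible (F.map a ⁻¹' S) := by
    intro i j a S hS
    refine hS.preimage (F.map a).hom.continuous ?_
    intro s hso hsr
    exact ((hFm a).isCompact_preimage_of_isOpen hso hsr.isCompact).isRetrocompact
      (hso.preimage (F.map a).hom.continuous)
  have partA : ∀ E : Set c.pt, Topology.IsConstructible E →
      ∃ (i : J) (Ei : Set (F.obj i)), Topology.IsConstructible Ei ∧ c.π.app i ⁻¹' Ei = E := by
    intro E hE
    induction hE using Topology.IsConstructible.empty_union_induction with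
    | open_retrocompact U hUo hUc =>
      obtain ⟨i, Ui, h1, h2, h3⟩ := hqc U hUo hUc.isCompact
      exact ⟨i, Ui, h2.isConstructible h1, h3⟩
    | union s _ t _ hs ht =>
      obtain ⟨i, Ei, hEi, rfl⟩ := hs
      obtain ⟨j, Ej, hEj, rfl⟩ := ht
      refine ⟨IsCofiltered.min i j, F.map (IsCofiltered.minToLeft i j) ⁻¹' Ei ∪
        F.map (IsCofiltered.minToRight i j) ⁻¹' Ej,
        (hpre _ _ hEi).union (hpre _ _ hEj), ?_⟩
      rw [Set.preimage_union, hπ, hπ]
    | compl s _ hs =>
      obtain ⟨i, Ei, hEi, rfl⟩ := hs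
      exact ⟨i, Eiᶜ, hEi.compl, Set.preimage_compl⟩
  have partB : ∀ E : Set c.pt, Topology.IsConstructible E → IsOpen E →
      ∃ (i : J) (Ei : Set (F.obj i)), Topology.IsConstructible Ei ∧ IsOpen Ei ∧
        c.π.app i ⁻¹' Ei = E := by
    intro E hE hEo
    have hEc : IsCompact E := Groth.Agent.Helper3.SpecSp.isCompact_of_cclosed'
      (Groth.Agent.Helper3.SpecSp.cclopen_of_isConstructible hE).1
    obtain ⟨i, Ui, h1, h2, h3⟩ := hqc E hEo hEc
    exact ⟨i, Ui, h2.isConstructible h1, h1, h3⟩
  refine ⟨partA E hE, partB E hE, fun hEcl => ?_⟩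
  obtain ⟨i, Ui, h1, h2, h3⟩ := partB Eᶜ hE.compl hEcl.isOpen_compl
  refine ⟨i, Uiᶜ, h1.compl, h2.isClosed_compl, ?_⟩
  rw [Set.preimage_compl, h3, compl_compl]

end Groth.Agent.S7536
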