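import Groth.Statements.S7540
import Mathlib
import Groth.Agent.Lead.Spectral3

set_option autoImplicit false
universe u
open SpecSp

namespace Groth.Agent.S7540

/-- Let X be a spectral space, I a nonempty index set and U_i ⊆ X quasi-compact opens such that for all
i, j some U_k lies in U_i ∩ U_j; put W = ⋂ U_i. Then every open subset of X containing W contains
some U_i. The published statement also asserts that W is spectral and is the limit of the U_i; this
row states the neighbourhood property. -/
theorem result {X : Type u} [TopologicalSpace X] [SpectralSpace X]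
    {I : Type u} [Nonempty I] (U : I → Set X) (hU : ∀ i, IsOpen (U i) ∧ IsCompact (U i))
    (hdir : ∀ i j, ∃ k, U k ⊆ U i ∩ U j) :
    ∀ V : Set X, IsOpen V → (⋂ i, U i) ⊆ V → ∃ i, U i ⊆ V := by
  classical
  intro V hV hWV
  have hfin : ∀ s : Finset I, ∃ k, ∀ i ∈ s, U k ⊆ U i := by
    intro s
    induction s using Finset.induction_on with
    | empty => exact ⟨Classical.arbitrary I, by simp⟩
    | insert a s _ ih =>
      obtain ⟨k, hk⟩ := ih
      obtain ⟨k', hk'⟩ := hdir k a
      refine ⟨k', fun i hi => ?_⟩
      rcases Finset.mem_insert.mp hi with rfl | hi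
      · exact hk'.trans Set.inter_subset_right
      · exact (hk'.trans Set.inter_subset_left).trans (hk i hi)
  let t : Option I → Set X := fun o => match o with
    | none => Vᶜ
    | some i => U i
  have ht : ∀ o, Groth.Agent.Lead.Spectral.CClosed (t o) := by
    intro o
    cases o with
    | none => exact Groth.Agent.Lead.Spectral.cclosed_of_isClosed hV.isClosed_compl
    | some i => exact Groth.Agent.Lead.Spectral.cclosed_of_isCompact_isOpen (hU i).2 (hU i).1
  have hempty : ⋂ o, t o = ∅ := by
    rw [Set.eq_empty_iff_forall_notMem]
    intro w hw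
    rw [Set.mem_iInter] at hw
    have h1 : w ∈ ⋂ i, U i := Set.mem_iInter.mpr fun i => hw (some i)
    exact (hw none) (hWV h1)
  obtain ⟨u, hu⟩ := Groth.Agent.Lead.Spectral.exists_finite_of_iInter_eq_empty t ht hempty
  obtain ⟨k, hk⟩ := hfin (u.preimage some (Option.some_injective I).injOn)
  refine ⟨k, fun w hw => ?_⟩
  by_contra hwV
  have : w ∈ ⋂ o ∈ u, t o := by
    refine Set.mem_iInter₂.mpr fun o ho => ?_
    cases o with
    | none => exact hwV
    | some i => exact hk i (Finset.mem_preimage.mpr ho) hw
  rw [hu] at this
  exact this

end Groth.Agent.S7540
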