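import Groth.Statements.S7542

set_option autoImplicit false
universe u
open ConstrTop

namespace Groth.Agent.S7542

/-- Let X be a topological space such that the quasi-compact opens form a basis for the topology, and
let T ⊆ X be retrocompact in X. Then for any constructible subset E ⊆ X, the intersection E ∩ T is
constructible in T (with the induced topology). -/
theorem result {X : Type u} [TopologicalSpace X] [PrespectralSpace X]
    (T : Set X) (hT : IsRetrocompact T) (E : Set X) (hE : Topology.IsConstructible E) :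
    Topology.IsConstructible ((Subtype.val : T → X) ⁻¹' E) := by
  refine Topology.IsConstructible.preimage continuous_subtype_val ?_ hE
  intro U hUo hUr V hVc hVo
  -- V is open and compact in T
  obtain ⟨W, hW, rfl⟩ := isOpen_induced_iff.1 hVo
  -- cover W by compact opens
  have hVc' : IsCompact (Subtype.val '' (Subtype.val ⁻¹' W : Set T)) := hVc.image continuous_subtype_val
  obtain ⟨W', hW'c, hW'o, hVW', hW'W⟩ := PrespectralSpace.exists_isCompact_and_isOpen_between
    hVc' hW (by rintro _ ⟨y, hy, rfl⟩; exact hy)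
  have h1 : IsCompact (T ∩ (U ∩ W')) := hT (hUr hW'c hW'o) (hUo.inter hW'o)
  have h2 : (Subtype.val ⁻¹' U ∩ Subtype.val ⁻¹' W : Set T) = Subtype.val ⁻¹' (T ∩ (U ∩ W')) := by
    ext y
    constructor
    · rintro ⟨hyU, hyW⟩
      exact ⟨y.2, hyU, hVW' ⟨y, hyW, rfl⟩⟩
    · rintro ⟨_, hyU, hyW'⟩
      exact ⟨hyU, hW'W hyW'⟩
  rw [h2]
  rw [Topology.IsEmbedding.subtypeVal.isCompact_iff, Set.image_preimage_eq_inter_range,
    Subtype.range_coe]
  have : T ∩ (U ∩ W') ∩ T = T ∩ (U ∩ W') := by
    ext y
    exact ⟨fun h => h.1, fun h => ⟨h, h.1⟩⟩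
  rw [this]
  exact h1

end Groth.Agent.S7542
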