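import Groth.Statements.S7544

set_option autoImplicit false
universe u
open ConstrTop

namespace Groth.Agent.S7544

/-- Let X be a quasi-compact topological space whose quasi-compact opens form a basis and are closed
under pairwise intersection. Take T ⊆ X to be locally closed, quasi-compact, and with retrocompact
complement. Then T is constructible in X. -/
theorem result {X : Type u} [TopologicalSpace X]
    [CompactSpace X] [PrespectralSpace X] [QuasiSeparatedSpace X]
    (T : Set X) (hT : IsLocallyClosed T) (hTc : IsCompact T) (hTr : IsRetrocompact Tᶜ) :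
    Topology.IsConstructible T := by
  obtain ⟨W, C, hW, hC, rfl⟩ := hT
  obtain ⟨U, hUc, hUo, hTU, hUW⟩ :=
    PrespectralSpace.exists_isCompact_and_isOpen_between hTc hW Set.inter_subset_left
  have hclos : closure (W ∩ C) ⊆ C := closure_minimal Set.inter_subset_right hC
  have h1 : U ∩ (W ∩ C)ᶜ = U ∩ Cᶜ := by
    ext y
    constructor
    · rintro ⟨hyU, hy⟩
      exact ⟨hyU, fun hyC => hy ⟨hUW hyU, hyC⟩⟩
    · rintro ⟨hyU, hyC⟩
      exact ⟨hyU, fun hy => hyC hy.2⟩
  have h2 : IsOpen (U ∩ (W ∩ C)ᶜ) := by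
    rw [h1]
    exact hUo.inter hC.isOpen_compl
  have h3 : IsCompact (U ∩ (W ∩ C)ᶜ) := by
    rw [Set.inter_comm]
    exact hTr hUc hUo
  have h4 : W ∩ C = U \ (U ∩ (W ∩ C)ᶜ) := by
    ext y
    constructor
    · intro hy
      exact ⟨hTU hy, fun h => h.2 hy⟩
    · rintro ⟨hyU, hy⟩
      by_contra hy'
      exact hy ⟨hyU, hy'⟩
  rw [h4]
  exact (hUc.isConstructible hUo).sdiff (h3.isConstructible h2)

end Groth.Agent.S7544
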