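import Groth.Statements.S7546

set_option autoImplicit false
universe u
open ConstrTop

namespace Groth.Agent.S7546

/-- Let X be a topological space, Z ⊆ X irreducible and E ⊆ X a finite union of locally closed subsets
(for instance a constructible set). Then E ∩ Z is dense in Z if and only if E ∩ Z contains a subset
of the form U ∩ Z, U open in X, which is dense in Z. If moreover ξ ∈ Z is a generic point of Z,
these conditions are equivalent to ξ ∈ E. -/
theorem result {X : Type u} [TopologicalSpace X] (Z : Set X) (hZ : IsIrreducible Z)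
    {n : ℕ} (L : Fin n → Set X) (hL : ∀ i, IsLocallyClosed (L i)) (E : Set X) (hE : E = ⋃ i, L i) :
    (Z ⊆ closure (E ∩ Z) ↔ ∃ U : Set X, IsOpen U ∧ U ∩ Z ⊆ E ∧ Z ⊆ closure (U ∩ Z)) ∧
    (∀ ξ : X, ξ ∈ Z → Z ⊆ closure {ξ} → (Z ⊆ closure (E ∩ Z) ↔ ξ ∈ E)) := by
  classical
  have hA : Z ⊆ closure (E ∩ Z) ↔ ∃ U : Set X, IsOpen U ∧ U ∩ Z ⊆ E ∧ Z ⊆ closure (U ∩ Z) := by
    constructor
    · intro h
      have hcov : Z ⊆ ⋃₀ ↑(Finset.univ.image (fun i => closure (L i ∩ Z))) := by
        intro z hz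
        have hz' := h hz
        have : E ∩ Z = ⋃ i, (L i ∩ Z) := by rw [hE, Set.iUnion_inter]
        rw [this, closure_iUnion_of_finite] at hz'
        obtain ⟨i, hi⟩ := Set.mem_iUnion.1 hz'
        exact Set.mem_sUnion.2 ⟨closure (L i ∩ Z), by simp, hi⟩
      obtain ⟨c, hc, hZc⟩ := (isIrreducible_iff_sUnion_isClosed.1 hZ) _
        (by
          intro c hc
          simp only [Finset.mem_image, Finset.mem_univ, true_and] at hc
          obtain ⟨i, rfl⟩ := hc
          exact isClosed_closure) hcov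
      simp only [Finset.mem_image, Finset.mem_univ, true_and] at hc
      obtain ⟨i, rfl⟩ := hc
      obtain ⟨V, C, hV, hC, hLi⟩ := hL i
      have hZC : Z ⊆ C := by
        refine hZc.trans (closure_minimal ?_ hC)
        rw [hLi]
        exact fun a ha => ha.1.2
      have hVZ : V ∩ Z = L i ∩ Z := by
        rw [hLi]
        ext a
        constructor
        · rintro ⟨haV, haZ⟩
          exact ⟨⟨haV, hZC haZ⟩, haZ⟩
        · rintro ⟨⟨haV, _⟩, haZ⟩
          exact ⟨haV, haZ⟩
      refine ⟨V, hV, ?_, ?_⟩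
      · rw [hVZ, hE]
        exact fun a ha => Set.mem_iUnion.2 ⟨i, ha.1⟩
      · rw [hVZ]
        exact hZc
    · rintro ⟨U, _, hUE, hZU⟩
      refine hZU.trans (closure_mono ?_)
      exact fun a ha => ⟨hUE ha, ha.2⟩
  refine ⟨hA, ?_⟩
  intro ξ hξZ hZξ
  constructor
  · intro h
    obtain ⟨U, hU, hUE, hZU⟩ := hA.1 h
    have hne : (U ∩ Z).Nonempty := by
      by_contra hemp
      rw [Set.not_nonempty_iff_eq_empty] at hemp
      rw [hemp, closure_empty] at hZU
      exact hZU hξZ
    obtain ⟨z, hzU, hzZ⟩ := hne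
    have hξz : ξ ⤳ z := specializes_iff_mem_closure.2 (hZξ hzZ)
    exact hUE ⟨hξz.mem_open hU hzU, hξZ⟩
  · intro hξE
    refine hZξ.trans (closure_mono ?_)
    rintro _ rfl
    exact ⟨hξE, hξZ⟩

end Groth.Agent.S7546
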