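import Groth.Statements.S7547

set_option autoImplicit false
universe u
open PtTop

namespace Groth.Agent.S7547

/-- Let X be a Kolmogorov topological space whose quasi-compact opens form a basis for the topology. If
X is not Jacobson, there is a point x ∈ X which is not closed but such that {x} is locally closed. -/
theorem result {X : Type u} [TopologicalSpace X]
    [T0Space X] [PrespectralSpace X] (hX : ¬ JacobsonSpace X) :
    ∃ x : X, ¬ IsClosed ({x} : Set X) ∧ IsLocallyClosed ({x} : Set X) := by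
  rw [jacobsonSpace_iff_locallyClosed] at hX
  push Not at hX
  obtain ⟨Z, ⟨z, hz⟩, hZlc, hZ0⟩ := hX
  obtain ⟨V, C, hV, hC, rfl⟩ := hZlc
  obtain ⟨W, ⟨hWo, hWc⟩, hzW, hWV⟩ :=
    PrespectralSpace.isTopologicalBasis.exists_subset_of_mem_open hz.1 hV
  have hZ'c : IsCompact (W ∩ C) := hWc.inter_right hC
  have : CompactSpace ↥(W ∩ C) := isCompact_iff_compactSpace.1 hZ'c
  obtain ⟨x, -, hx⟩ := IsClosed.exists_closed_singleton
    (isClosed_univ : IsClosed (Set.univ : Set ↥(W ∩ C))) ⟨⟨z, hzW, hz.2⟩, trivial⟩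
  refine ⟨x.1, ?_, ?_⟩
  · intro hcl
    have : x.1 ∈ V ∩ C ∩ closedPoints X := ⟨⟨hWV x.2.1, x.2.2⟩, hcl⟩
    rw [hZ0] at this
    exact this
  · obtain ⟨D, hD, hDx⟩ := isClosed_induced_iff.1 hx
    refine ⟨W, C ∩ D, hWo, hC.inter hD, ?_⟩
    ext y
    constructor
    · rintro rfl
      refine ⟨x.2.1, x.2.2, ?_⟩
      have : x ∈ Subtype.val ⁻¹' D := by rw [hDx]; rfl
      exact this
    · rintro ⟨hyW, hyC, hyD⟩
      have : (⟨y, hyW, hyC⟩ : ↥(W ∩ C)) ∈ Subtype.val ⁻¹' D := hyD
      rw [hDx] at this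
      exact congrArg Subtype.val this

end Groth.Agent.S7547
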