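import Groth.Statements.S7548

set_option autoImplicit false
universe u
open PtTop

namespace Groth.Agent.S7548

/-- Let X be a Jacobson space and let T = ⋃ T_i be a union of subsets T_i ⊆ X each locally closed in X
(open, closed, locally closed and constructible subsets are of this form). Then T is Jacobson and
every point of T closed in T is closed in X. -/
theorem result {X : Type u} [TopologicalSpace X] [JacobsonSpace X]
    {ι : Type u} (T : ι → Set X) (hT : ∀ i, IsLocallyClosed (T i)) :
    JacobsonSpace ↥(⋃ i, T i) ∧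
      closedPoints ↥(⋃ i, T i) ⊆ (Subtype.val : ↥(⋃ i, T i) → X) ⁻¹' closedPoints X := by
  constructor
  · rw [jacobsonSpace_iff_locallyClosed]
    intro Z ⟨z, hz⟩ hZ
    obtain ⟨Z', hZ', rfl⟩ := (Topology.IsInducing.subtypeVal.isLocallyClosed_iff).1 hZ
    obtain ⟨i, hi⟩ := Set.mem_iUnion.1 z.2
    obtain ⟨y, ⟨hyZ', hyT⟩, hy⟩ := nonempty_inter_closedPoints (Z := Z' ∩ T i) ⟨z.1, hz, hi⟩
      (hZ'.inter (hT i))
    refine ⟨⟨y, Set.mem_iUnion.2 ⟨i, hyT⟩⟩, hyZ', ?_⟩
    exact preimage_closedPoints_subset Subtype.val_injective continuous_subtype_val hy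
  · intro x hx
    rw [mem_closedPoints_iff] at hx
    obtain ⟨D, hD, hDx⟩ := isClosed_induced_iff.1 hx
    obtain ⟨i, hi⟩ := Set.mem_iUnion.1 x.2
    have hxD : x.1 ∈ D := by
      have : x ∈ Subtype.val ⁻¹' D := by rw [hDx]; rfl
      exact this
    have : ({x.1} : Set X) = T i ∩ D := by
      ext y
      constructor
      · rintro rfl
        exact ⟨hi, hxD⟩
      · rintro ⟨hyT, hyD⟩
        have : (⟨y, Set.mem_iUnion.2 ⟨i, hyT⟩⟩ : ↥(⋃ i, T i)) ∈ Subtype.val ⁻¹' D := hyD
        rw [hDx] at this
        exact congrArg Subtype.val this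
    change IsClosed ({x.1} : Set X)
    apply isClosed_singleton_of_isLocallyClosed_singleton
    rw [this]
    exact (hT i).inter hD.isLocallyClosed

end Groth.Agent.S7548
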