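import Groth.Statements.S7550

set_option autoImplicit false
universe u
open PtTop

namespace Groth.Agent.S7550

/-- Let f : X → Y be a continuous and open map of topological spaces, with X Noetherian, every
irreducible closed subset of X having a generic point, and Y Kolmogorov. Then generalizations lift
along f. (Part (1), closed maps are specializing, is a library fact.) -/
theorem result {X Y : Type u} [TopologicalSpace X] [TopologicalSpace Y]
    [TopologicalSpace.NoetherianSpace X] [QuasiSober X] [T0Space Y]
    (f : X → Y) (hf : Continuous f) (hfo : IsOpenMap f) :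
    GeneralizingMap f := by
  intro x y hy
  set T : Set X := f ⁻¹' {y} with hT
  -- Step 1: x ∈ closure T
  have hx : x ∈ closure T := by
    rw [mem_closure_iff]
    intro U hU hxU
    have h1 : f x ∈ f '' U := ⟨x, hxU, rfl⟩
    have h2 : y ∈ f '' U := hy.mem_open (hfo U hU) h1
    obtain ⟨u, hu, huy⟩ := h2
    exact ⟨u, hu, huy⟩
  -- Step 2: a minimal closed set C with x ∈ closure (C ∩ T)
  let P : Set (TopologicalSpace.Closeds X) := {C | x ∈ closure ((C : Set X) ∩ T)}
  have hP : P.Nonempty := ⟨⊤, by simpa [P] using hx⟩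
  obtain ⟨C, hC, hmin⟩ := wellFounded_lt.has_min P hP
  have hCx : x ∈ closure ((C : Set X) ∩ T) := hC
  have hne : ((C : Set X) ∩ T).Nonempty := by
    by_contra h
    rw [Set.not_nonempty_iff_eq_empty] at h
    rw [h, closure_empty] at hCx
    exact hCx
  obtain ⟨t, htC, htT⟩ := hne
  have hirr : IsIrreducible (C : Set X) := by
    refine ⟨⟨t, htC⟩, ?_⟩
    rw [isPreirreducible_iff_isClosed_union_isClosed]
    intro z₁ z₂ hz₁ hz₂ hsub
    have hcov : (C : Set X) ∩ T ⊆ (((C : Set X) ∩ z₁) ∩ T) ∪ (((C : Set X) ∩ z₂) ∩ T) := by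
      rintro a ⟨haC, haT⟩
      rcases hsub haC with h | h
      · exact Or.inl ⟨⟨haC, h⟩, haT⟩
      · exact Or.inr ⟨⟨haC, h⟩, haT⟩
    have hx2 := closure_mono hcov hCx
    rw [closure_union] at hx2
    rcases hx2 with h | h
    · left
      let C1 : TopologicalSpace.Closeds X := ⟨(C : Set X) ∩ z₁, C.isClosed.inter hz₁⟩
      have hC1 : C1 ∈ P := h
      have hle : C1 ≤ C := fun a ha => ha.1
      have : ¬ C1 < C := hmin C1 hC1
      have heq : C1 = C := by
        by_contra hne
        exact this (lt_of_le_of_ne hle hne)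
      intro a ha
      have : a ∈ (C1 : Set X) := by rw [heq]; exact ha
      exact this.2
    · right
      let C2 : TopologicalSpace.Closeds X := ⟨(C : Set X) ∩ z₂, C.isClosed.inter hz₂⟩
      have hC2 : C2 ∈ P := h
      have hle : C2 ≤ C := fun a ha => ha.1
      have : ¬ C2 < C := hmin C2 hC2
      have heq : C2 = C := by
        by_contra hne
        exact this (lt_of_le_of_ne hle hne)
      intro a ha
      have : a ∈ (C2 : Set X) := by rw [heq]; exact ha
      exact this.2
  have hCcl : (C : Set X) ⊆ closure ((C : Set X) ∩ T) := by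
    let C3 : TopologicalSpace.Closeds X := ⟨closure ((C : Set X) ∩ T), isClosed_closure⟩
    have hle : C3 ≤ C := by
      intro a ha
      exact (closure_minimal Set.inter_subset_left C.isClosed) ha
    have hC3 : C3 ∈ P := by
      change x ∈ closure (closure ((C : Set X) ∩ T) ∩ T)
      refine closure_mono ?_ hCx
      intro a ha
      exact ⟨subset_closure ha, ha.2⟩
    have : ¬ C3 < C := hmin C3 hC3
    have heq : C3 = C := by
      by_contra hne
      exact this (lt_of_le_of_ne hle hne)
    intro a ha
    have : a ∈ (C3 : Set X) := by rw [heq]; exact ha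
    exact this
  obtain ⟨ξ, hξ⟩ := QuasiSober.sober hirr C.isClosed
  have hξC : ξ ∈ (C : Set X) := hξ ▸ subset_closure (Set.mem_singleton ξ)
  have hxC : x ∈ (C : Set X) := closure_minimal Set.inter_subset_left C.isClosed hCx
  have hξx : ξ ⤳ x := by
    rw [specializes_iff_mem_closure, hξ.def]
    exact hxC
  have hξt : ξ ⤳ t := by
    rw [specializes_iff_mem_closure, hξ.def]
    exact htC
  have h1 : f ξ ⤳ y := by
    have := hξt.map hf
    rwa [show f t = y from htT] at this
  have h2 : y ⤳ f ξ := by
    rw [specializes_iff_mem_closure]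
    have h3 : ξ ∈ closure T := closure_mono Set.inter_subset_right (hCcl hξC)
    have h4 : f ξ ∈ closure (f '' T) := image_closure_subset_closure_image hf ⟨ξ, h3, rfl⟩
    refine closure_mono ?_ h4
    rintro _ ⟨a, ha, rfl⟩
    exact ha
  exact ⟨ξ, hξx, (h1.antisymm h2).eq⟩

end Groth.Agent.S7550
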