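import Groth.Statements.S7551

set_option autoImplicit false
universe u
open PtTop

namespace Groth.Agent.S7551

/-- Let s, t : R → U and π : U → X be continuous maps between topological spaces satisfying: (1) π is an
open map, (2) U is a sober space, (3) s and t have finite fibres, (4) generalizations lift along s
and along t, and (5) the image of (t, s) : R → U × U is an equivalence relation on U and π
identifies X, as a set, with the quotient of U by it. Then X is Kolmogorov. -/
theorem result {R U X : Type u}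
    [TopologicalSpace R] [TopologicalSpace U] [TopologicalSpace X] [QuasiSober U] [T0Space U]
    (s t : R → U) (π : U → X) (hs : Continuous s) (ht : Continuous t) (hπ : Continuous π)
    (hπo : IsOpenMap π) (hsf : ∀ u, (s ⁻¹' {u}).Finite) (htf : ∀ u, (t ⁻¹' {u}).Finite)
    (hsg : GeneralizingMap s) (htg : GeneralizingMap t)
    (hE : Equivalence fun u u' : U => ∃ r, t r = u ∧ s r = u')
    (hπs : Function.Surjective π) (hπq : ∀ u u' : U, π u = π u' ↔ ∃ r, t r = u ∧ s r = u') :
    T0Space X := by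
  rw [t0Space_iff_inseparable]
  intro x x' hxx'
  have hfin : ∀ y : X, (π ⁻¹' {y}).Finite := by
    intro y
    obtain ⟨u, rfl⟩ := hπs y
    have hsub : π ⁻¹' {π u} ⊆ s '' (t ⁻¹' {u}) := by
      intro u' hu'
      obtain ⟨r, hr1, hr2⟩ := (hπq u u').1 (Eq.symm hu')
      exact ⟨r, hr1, hr2⟩
    exact ((htf u).image s).subset hsub
  have lift : ∀ (y y' : X), y' ⤳ y → ∀ u, π u = y → ∃ u', π u' = y' ∧ u' ⤳ u := by
    intro y y' h u hu
    have h1 : u ∈ closure (π ⁻¹' {y'}) := by
      rw [mem_closure_iff]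
      intro W hW huW
      have : y' ∈ π '' W := h.mem_open (hπo W hW) ⟨u, huW, hu⟩
      obtain ⟨w, hw, hwy⟩ := this
      exact ⟨w, hw, hwy⟩
    have h2 : π ⁻¹' {y'} = ⋃ u' ∈ π ⁻¹' {y'}, ({u'} : Set U) := by
      rw [Set.biUnion_of_singleton]
    rw [h2, (hfin y').closure_biUnion] at h1
    obtain ⟨u', hu'⟩ := Set.mem_iUnion.1 h1
    obtain ⟨hu'1, hu'2⟩ := Set.mem_iUnion.1 hu'
    exact ⟨u', hu'1, specializes_iff_mem_closure.2 hu'2⟩
  letI : PartialOrder U := specializationOrder U
  obtain ⟨u0, hu0⟩ := hπs x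
  obtain ⟨u, hu, humax⟩ := (hfin x).exists_maximal ⟨u0, hu0⟩
  obtain ⟨u', hu'1, hu'2⟩ := lift x x' hxx'.specializes' u hu
  obtain ⟨u2, hu21, hu22⟩ := lift x' x hxx'.specializes u' hu'1
  have h1 : u ≤ u' := hu'2
  have h2 : u' ≤ u2 := hu22
  have h3 : u2 ≤ u := humax hu21 (h1.trans h2)
  have h4 : u = u' := le_antisymm h1 (h2.trans h3)
  rw [← hu, ← hu'1, h4]

end Groth.Agent.S7551
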