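import Groth.Statements.S7552

set_option autoImplicit false
universe u
open PtTop

namespace Groth.Agent.S7552

/-- Let f : X → Y be a continuous surjective map of topological spaces with Y sober, and assume that
specializations lift along f or that generalizations lift along f. Then dim X ≥ dim Y (Krull
dimensions as suprema of lengths of chains of irreducible closed subsets). -/
theorem result {X Y : Type u}
    [TopologicalSpace X] [TopologicalSpace Y] [QuasiSober Y] [T0Space Y]
    (f : X → Y) (hf : Continuous f) (hsurj : Function.Surjective f)
    (hlift : SpecializingMap f ∨ GeneralizingMap f) :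
    topologicalKrullDim Y ≤ topologicalKrullDim X := by
  unfold topologicalKrullDim
  unfold Order.krullDim
  apply iSup_le
  intro p
  suffices h : ∃ q : LTSeries (TopologicalSpace.IrreducibleCloseds X), q.length = p.length by
    obtain ⟨q, hq⟩ := h
    rw [← hq]
    exact le_iSup (fun q : LTSeries (TopologicalSpace.IrreducibleCloseds X) =>
      (q.length : WithBot ℕ∞)) q
  -- the closure of a point as an irreducible closed set
  let cl : X → TopologicalSpace.IrreducibleCloseds X := fun x =>
    ⟨closure {x}, isIrreducible_singleton.closure, isClosed_closure⟩
  have hcl_lt : ∀ x x' : X, x' ⤳ x → ¬ (x ⤳ x') → cl x < cl x' := by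
    intro x x' h1 h2
    refine lt_of_le_of_ne ?_ ?_
    · change closure {x} ⊆ closure {x'}
      exact h1.closure_subset
    · intro heq
      apply h2
      rw [specializes_iff_mem_closure]
      have : (cl x : Set X) = cl x' := congrArg _ heq
      change closure {x} = closure {x'} at this
      rw [this]
      exact subset_closure rfl
  rcases hlift with hsp | hgen
  · -- specializing: build from the top
    have key : ∀ p : LTSeries (TopologicalSpace.IrreducibleCloseds Y),
        ∀ x : X, closure {f x} = (p.last : Set Y) →
        ∃ q : LTSeries (TopologicalSpace.IrreducibleCloseds X), q.length = p.length ∧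
          q.last = cl x := by
      intro p
      induction p using RelSeries.inductionOn' with
      | singleton Z =>
        intro x _
        exact ⟨RelSeries.singleton _ (cl x), rfl, rfl⟩
      | snoc p Z hZ ih =>
        intro x hx
        rw [RelSeries.last_snoc] at hx
        have hlt : p.last < Z := hZ
        obtain ⟨η, hη⟩ := QuasiSober.sober p.last.isIrreducible p.last.isClosed
        have hηZ : η ∈ (Z : Set Y) := hlt.le (hη.mem)
        have h1 : f x ⤳ η := by
          rw [specializes_iff_mem_closure, hx]
          exact hηZ
        obtain ⟨x', hxx', hfx'⟩ := hsp h1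
        have hxx'' : x ⤳ x' := hxx'
        obtain ⟨q, hql, hqlast⟩ := ih x' (by rw [hfx']; exact hη.def)
        have hnot : ¬ (x' ⤳ x) := by
          intro h
          have h2 : f x' ⤳ f x := h.map hf
          rw [hfx'] at h2
          have h3 : (Z : Set Y) ⊆ p.last := by
            rw [← hx, ← hη.def]
            exact h2.closure_subset
          exact absurd (le_antisymm hlt.le h3) (ne_of_lt hlt)
        have hrel : q.last < cl x := by
          rw [hqlast]
          exact hcl_lt x' x hxx'' hnot
        refine ⟨q.snoc (cl x) hrel, ?_, ?_⟩
        · simp [hql]
        · simp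
    obtain ⟨η, hη⟩ := QuasiSober.sober p.last.isIrreducible p.last.isClosed
    obtain ⟨x, hx⟩ := hsurj η
    obtain ⟨q, hq, -⟩ := key p x (by rw [hx]; exact hη.def)
    exact ⟨q, hq⟩
  · -- generalizing: build from the bottom
    have key : ∀ p : LTSeries (TopologicalSpace.IrreducibleCloseds Y),
        ∀ x : X, closure {f x} = (p.head : Set Y) →
        ∃ q : LTSeries (TopologicalSpace.IrreducibleCloseds X), q.length = p.length ∧
          q.head = cl x := by
      intro p
      induction p using RelSeries.inductionOn with
      | singleton Z =>
        intro x _
        exact ⟨RelSeries.singleton _ (cl x), rfl, rfl⟩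
      | cons p Z hZ ih =>
        intro x hx
        rw [RelSeries.head_cons] at hx
        have hlt : Z < p.head := hZ
        obtain ⟨η, hη⟩ := QuasiSober.sober p.head.isIrreducible p.head.isClosed
        have hfxZ : f x ∈ (Z : Set Y) := by
          rw [← hx]
          exact subset_closure rfl
        have h1 : η ⤳ f x := by
          rw [specializes_iff_mem_closure, hη.def]
          exact hlt.le hfxZ
        obtain ⟨x', hxx', hfx'⟩ := hgen h1
        have hxx'' : x' ⤳ x := hxx'
        obtain ⟨q, hql, hqhead⟩ := ih x' (by rw [hfx']; exact hη.def)
        have hnot : ¬ (x ⤳ x') := by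
          intro h
          have h2 : f x ⤳ f x' := h.map hf
          rw [hfx'] at h2
          have h3 : (p.head : Set Y) ⊆ Z := by
            rw [← hx, ← hη.def]
            exact h2.closure_subset
          exact absurd (le_antisymm hlt.le h3) (ne_of_lt hlt)
        have hrel : cl x < q.head := by
          rw [hqhead]
          exact hcl_lt x x' hxx'' hnot
        refine ⟨q.cons (cl x) hrel, ?_, ?_⟩
        · simp [hql]
        · simp
    obtain ⟨η, hη⟩ := QuasiSober.sober p.head.isIrreducible p.head.isClosed
    obtain ⟨x, hx⟩ := hsurj η
    obtain ⟨q, hq, -⟩ := key p x (by rw [hx]; exact hη.def)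
    exact ⟨q, hq⟩

end Groth.Agent.S7552
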