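import Groth.Statements.S7555

set_option autoImplicit false
universe u
open PtTop

namespace Groth.Agent.S7555

/-- Let f : X → X be a surjective continuous self-map of a Hausdorff topological space with f ≠ id. Then
there is a closed subset E ⊊ X such that X = E ∪ f(E). -/
theorem result {X : Type u} [TopologicalSpace X] [T2Space X]
    (f : X → X) (hf : Continuous f) (hsurj : Function.Surjective f) (hne : f ≠ id) :
    ∃ E : Set X, IsClosed E ∧ E ≠ Set.univ ∧ E ∪ f '' E = Set.univ := by
  have : ∃ x, f x ≠ x := by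
    by_contra h
    push_neg at h
    exact hne (funext h)
  obtain ⟨x, hx⟩ := this
  obtain ⟨V, U, hV, hU, hfxV, hxU, hVU⟩ := t2_separation hx
  set W : Set X := U ∩ f ⁻¹' V with hW
  have hWo : IsOpen W := hU.inter (hV.preimage hf)
  have hxW : x ∈ W := ⟨hxU, hfxV⟩
  refine ⟨Wᶜ, hWo.isClosed_compl, ?_, ?_⟩
  · intro h
    have : x ∈ Wᶜ := h ▸ Set.mem_univ x
    exact this hxW
  · rw [Set.eq_univ_iff_forall]
    intro y
    by_cases hy : y ∈ W
    · right
      obtain ⟨z, rfl⟩ := hsurj y
      refine ⟨z, ?_, rfl⟩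
      intro hz
      exact (Set.disjoint_left.1 hVU) hz.2 hy.1
    · left
      exact hy

end Groth.Agent.S7555
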