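import Groth.Statements.S7559
import Mathlib

set_option autoImplicit false
universe u
open PtTop

namespace Groth.Agent.S7559

/-- `W` is a union of atoms of the finite family `U` -/
def Meas {X : Type u} {ι : Type} (U : ι → Set X) (W : Set X) : Prop :=
  ∀ x y, (∀ a, x ∈ U a ↔ y ∈ U a) → (x ∈ W ↔ y ∈ W)

theorem Meas.gen {X : Type u} {ι : Type} (U : ι → Set X) (a : ι) : Meas U (U a) :=
  fun _ _ h => h a

theorem Meas.compl {X : Type u} {ι : Type} {U : ι → Set X} {W : Set X} (h : Meas U W) :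
    Meas U Wᶜ := fun x y hxy => not_congr (h x y hxy)

theorem Meas.union {X : Type u} {ι : Type} {U : ι → Set X} {W W' : Set X} (h : Meas U W)
    (h' : Meas U W') : Meas U (W ∪ W') := fun x y hxy => or_congr (h x y hxy) (h' x y hxy)

theorem Meas.inter {X : Type u} {ι : Type} {U : ι → Set X} {W W' : Set X} (h : Meas U W)
    (h' : Meas U W') : Meas U (W ∩ W') := fun x y hxy => and_congr (h x y hxy) (h' x y hxy)

theorem Meas.comp {X : Type u} {ι κ : Type} {U : ι → Set X} (f : κ → ι) {W : Set X}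
    (h : Meas (U ∘ f) W) : Meas U W := fun x y hxy => h x y fun a => hxy (f a)

/-- the atoms of a finite family of open sets form a stratification -/
theorem exists_stratification {X : Type u} [TopologicalSpace X] {ι : Type} [Fintype ι]
    (U : ι → Set X) (hU : ∀ a, IsOpen (U a)) :
    ∃ (S : Finset ι → Set X),
      (∀ A, S A = (⋂ a ∈ A, U a) ∩ (⋂ a ∈ (↑A : Set ι)ᶜ, (U a)ᶜ)) ∧
      (∀ i, IsLocallyClosed (S i)) ∧ (⋃ i, S i = Set.univ) ∧ (∀ i j, i ≠ j → Disjoint (S i) (S j)) ∧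
      (∀ j, closure (S j) ⊆ ⋃ i ∈ Set.Iic j, S i) ∧
      (∀ i (W : Set X), Meas U W → (S i ∩ W).Nonempty → S i ⊆ W) := by
  classical
  have hmem : ∀ (A : Finset ι) (x : X),
      x ∈ (⋂ a ∈ A, U a) ∩ (⋂ a ∈ (↑A : Set ι)ᶜ, (U a)ᶜ) ↔ ∀ a, x ∈ U a ↔ a ∈ A := by
    intro A x
    simp only [Set.mem_inter_iff, Set.mem_iInter, Set.mem_compl_iff, Finset.mem_coe]
    constructor
    · rintro ⟨h1, h2⟩ a
      exact ⟨fun h => by_contra fun ha => h2 a ha h, h1 a⟩
    · intro h
      exact ⟨fun a ha => (h a).mpr ha, fun a ha hx => ha ((h a).mp hx)⟩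
  refine ⟨fun A => (⋂ a ∈ A, U a) ∩ (⋂ a ∈ (↑A : Set ι)ᶜ, (U a)ᶜ), fun A => rfl, ?_, ?_, ?_, ?_, ?_⟩
  · intro A
    refine IsLocallyClosed.inter (IsOpen.isLocallyClosed ?_) (IsClosed.isLocallyClosed ?_)
    · exact isOpen_biInter_finset fun a _ => hU a
    · exact isClosed_biInter fun a _ => (hU a).isClosed_compl
  · ext x
    simp only [Set.mem_iUnion, Set.mem_univ, iff_true]
    refine ⟨Finset.univ.filter fun a => x ∈ U a, (hmem _ x).mpr fun a => by simp⟩
  · intro A B hAB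
    rw [Set.disjoint_left]
    intro x hxA hxB
    apply hAB
    ext a
    rw [← (hmem A x).mp hxA a, ← (hmem B x).mp hxB a]
  · intro B
    have hcl : IsClosed (⋂ a ∈ (↑B : Set ι)ᶜ, (U a)ᶜ) :=
      isClosed_biInter fun a _ => (hU a).isClosed_compl
    have h1 : closure ((⋂ a ∈ B, U a) ∩ (⋂ a ∈ (↑B : Set ι)ᶜ, (U a)ᶜ)) ⊆
        ⋂ a ∈ (↑B : Set ι)ᶜ, (U a)ᶜ := closure_minimal Set.inter_subset_right hcl
    intro x hx
    have hx' := h1 hx
    simp only [Set.mem_iInter, Set.mem_compl_iff, Finset.mem_coe] at hx'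
    simp only [Set.mem_iUnion, Set.mem_Iic, exists_prop]
    refine ⟨Finset.univ.filter fun a => x ∈ U a, ?_, (hmem _ x).mpr fun a => by simp⟩
    intro a ha
    simp only [Finset.mem_filter, Finset.mem_univ, true_and] at ha
    by_contra hcon
    exact hx' a hcon ha
  · rintro A W hW ⟨x, hxA, hxW⟩ y hyA
    refine (hW x y fun a => ?_).mp hxW
    rw [(hmem A x).mp hxA a, (hmem A y).mp hyA a]


theorem aux {X : Type u} [TopologicalSpace X]
    {n : ℕ} (P : Fin n → Set X) (hP : ∀ k, IsLocallyClosed (P k)) (hcov : ⋃ k, P k = Set.univ)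
    (hdisj : ∀ k k', k ≠ k' → Disjoint (P k) (P k')) :
    ∃ (I : Type) (_ : Fintype I) (_ : PartialOrder I) (S : I → Set X),
      (∀ i, IsLocallyClosed (S i)) ∧ (⋃ i, S i = Set.univ) ∧ (∀ i j, i ≠ j → Disjoint (S i) (S j)) ∧
      (∀ j, closure (S j) ⊆ ⋃ i ∈ Set.Iic j, S i) ∧
      (∀ i k, (S i ∩ P k).Nonempty → S i ⊆ P k) := by
  classical
  choose O Z hO hZ hPk using hP
  let U : Fin n ⊕ Fin n → Set X := Sum.elim O (fun k => (Z k)ᶜ)
  have hU : ∀ a, IsOpen (U a) := by
    rintro (k | k)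
    · exact hO k
    · exact (hZ k).isOpen_compl
  obtain ⟨S, -, h1, h2, h3, h4, h5⟩ := exists_stratification U hU
  refine ⟨Finset (Fin n ⊕ Fin n), inferInstance, inferInstance, S, h1, h2, h3, h4, ?_⟩
  intro i k
  refine h5 i (P k) ?_
  rw [hPk k]
  have e1 : Meas U (O k) := Meas.gen U (Sum.inl k)
  have e2 : Meas U (Z k) := by
    have := (Meas.gen U (Sum.inr k)).compl
    simpa [U] using this
  exact e1.inter e2

/-- Let X be a topological space and X = ∐ P_k a finite partition into locally closed parts. Then there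
is a finite stratification of X refining it: a finite partially ordered index set I and pairwise
disjoint locally closed strata S_i covering X with closure(S_j) ⊆ ⋃_{i ≤ j} S_i, such that every
part P_k is a union of strata. -/
theorem result {X : Type u} [TopologicalSpace X]
    {n : ℕ} (P : Fin n → Set X) (hP : ∀ k, IsLocallyClosed (P k)) (hcov : ⋃ k, P k = Set.univ)
    (hdisj : ∀ k k', k ≠ k' → Disjoint (P k) (P k')) :
    ∃ (I : Type) (_ : Fintype I) (_ : PartialOrder I) (S : I → Set X),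
      (∀ i, IsLocallyClosed (S i)) ∧ (⋃ i, S i = Set.univ) ∧ (∀ i j, i ≠ j → Disjoint (S i) (S j)) ∧
      (∀ j, closure (S j) ⊆ ⋃ i ∈ Set.Iic j, S i) ∧
      (∀ i k, (S i ∩ P k).Nonempty → S i ⊆ P k) := by
  exact aux P hP hcov hdisj

end Groth.Agent.S7559
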