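import Groth.Statements.S7560
import Mathlib
import Groth.Agent.S7559

set_option autoImplicit false
universe u
open ConstrTop

namespace Groth.Agent.S7560

open Groth.Agent.S7559 in
/-- every constructible set is a union of atoms of a finite family of retrocompact opens -/
theorem exists_family {X : Type u} [TopologicalSpace X] {T : Set X}
    (hT : Topology.IsConstructible T) :
    ∃ (ι : Type) (_ : Fintype ι) (U : ι → Set X),
      (∀ a, IsOpen (U a) ∧ IsRetrocompact (U a)) ∧ Meas U T := by
  induction hT using Topology.IsConstructible.empty_union_induction with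
  | open_retrocompact V hVo hVr =>
    exact ⟨Unit, inferInstance, fun _ => V, fun _ => ⟨hVo, hVr⟩, Meas.gen (fun _ : Unit => V) ()⟩
  | union s hs t ht ihs iht =>
    obtain ⟨ι₁, _, U₁, h1, h1'⟩ := ihs
    obtain ⟨ι₂, _, U₂, h2, h2'⟩ := iht
    refine ⟨ι₁ ⊕ ι₂, inferInstance, Sum.elim U₁ U₂, ?_, ?_⟩
    · rintro (a | a)
      · exact h1 a
      · exact h2 a
    · exact (Meas.comp (U := Sum.elim U₁ U₂) Sum.inl h1').union
        (Meas.comp (U := Sum.elim U₁ U₂) Sum.inr h2')
  | compl s hs ihs =>
    obtain ⟨ι₁, _, U₁, h1, h1'⟩ := ihs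
    exact ⟨ι₁, inferInstance, U₁, h1, h1'.compl⟩

open Groth.Agent.S7559 in
theorem aux {X : Type u} [TopologicalSpace X]
    {n : ℕ} (T : Fin n → Set X) (hT : ∀ k, Topology.IsConstructible (T k)) (hcov : ⋃ k, T k = Set.univ) :
    ∃ (I : Type) (_ : Fintype I) (_ : PartialOrder I) (S : I → Set X),
      (∀ i, IsLocallyClosed (S i) ∧ Topology.IsConstructible (S i)) ∧ (⋃ i, S i = Set.univ) ∧
      (∀ i j, i ≠ j → Disjoint (S i) (S j)) ∧
      (∀ j, closure (S j) ⊆ ⋃ i ∈ Set.Iic j, S i) ∧
      (∀ i k, (S i ∩ T k).Nonempty → S i ⊆ T k) := by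
  classical
  choose ι hι U hU hM using fun k => exists_family (hT k)
  let V : (Σ k, ι k) → Set X := fun p => U p.1 p.2
  have hV : ∀ a, IsOpen (V a) := fun a => (hU a.1 a.2).1
  obtain ⟨S, hS, h1, h2, h3, h4, h5⟩ := exists_stratification V hV
  refine ⟨Finset (Σ k, ι k), inferInstance, inferInstance, S, fun i => ⟨h1 i, ?_⟩, h2, h3, h4, ?_⟩
  · rw [hS i]
    refine Topology.IsConstructible.inter ?_ ?_
    · exact Topology.IsConstructible.biInter i.finite_toSet fun a _ =>
        (hU a.1 a.2).2.isConstructible (hU a.1 a.2).1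
    · exact Topology.IsConstructible.biInter (Set.toFinite _) fun a _ =>
        ((hU a.1 a.2).2.isConstructible (hU a.1 a.2).1).compl
  · intro i k
    refine h5 i (T k) ?_
    exact Meas.comp (U := V) (fun a : ι k => (⟨k, a⟩ : Σ k, ι k)) (hM k)

/-- Let X be a topological space written as a finite union X = T_1 ∪ … ∪ T_n of constructible subsets.
Then there is a finite stratification X = ∐ S_i (pairwise disjoint locally closed strata indexed by
a finite partially ordered set, with closure(S_j) ⊆ ⋃_{i ≤ j} S_i) whose strata are constructible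
and such that every T_k is a union of strata. -/
theorem result {X : Type u} [TopologicalSpace X]
    {n : ℕ} (T : Fin n → Set X) (hT : ∀ k, Topology.IsConstructible (T k)) (hcov : ⋃ k, T k = Set.univ) :
    ∃ (I : Type) (_ : Fintype I) (_ : PartialOrder I) (S : I → Set X),
      (∀ i, IsLocallyClosed (S i) ∧ Topology.IsConstructible (S i)) ∧ (⋃ i, S i = Set.univ) ∧
      (∀ i j, i ≠ j → Disjoint (S i) (S j)) ∧
      (∀ j, closure (S j) ⊆ ⋃ i ∈ Set.Iic j, S i) ∧
      (∀ i k, (S i ∩ T k).Nonempty → S i ⊆ T k) := by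
  exact aux T hT hcov

end Groth.Agent.S7560
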