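import Groth.Statements.S7561
import Mathlib

set_option autoImplicit false
universe u
open PtTop

namespace Groth.Agent.S7561

/-- a nonempty set covered by finitely many locally closed sets has a nonempty relatively open
subset contained in one of them -/
theorem exists_open_piece {X : Type u} [TopologicalSpace X] :
    ∀ (n : ℕ) (P : Fin n → Set X) (_ : ∀ k, IsLocallyClosed (P k)) (A : Set X)
      (_ : A ⊆ ⋃ k, P k) (_ : A.Nonempty),
      ∃ (k : Fin n) (V : Set X), IsOpen V ∧ (A ∩ V).Nonempty ∧ A ∩ V ⊆ P k := by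
  intro n
  induction n with
  | zero =>
    intro P _ A hA hne
    obtain ⟨x, hx⟩ := hne
    obtain ⟨k, -⟩ := Set.mem_iUnion.mp (hA hx)
    exact k.elim0
  | succ n ih =>
    intro P hP A hA hne
    obtain ⟨O, C, hO, hC, hOC⟩ := hP (Fin.last n)
    by_cases hAC : A ⊆ C
    · by_cases hAO : (A ∩ O).Nonempty
      · refine ⟨Fin.last n, O, hO, hAO, ?_⟩
        rw [hOC]
        rintro x ⟨hxA, hxO⟩
        exact ⟨hxO, hAC hxA⟩
      · have hA' : A ⊆ ⋃ k : Fin n, P k.castSucc := by
          intro x hx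
          obtain ⟨k, hk⟩ := Set.mem_iUnion.mp (hA hx)
          induction k using Fin.lastCases with
          | last =>
            rw [hOC] at hk
            exact absurd ⟨x, hx, hk.1⟩ hAO
          | cast k => exact Set.mem_iUnion.mpr ⟨k, hk⟩
        obtain ⟨k, V, hV, h1, h2⟩ := ih (fun k => P k.castSucc) (fun k => hP _) A hA' hne
        exact ⟨k.castSucc, V, hV, h1, h2⟩
    · have hne' : (A ∩ Cᶜ).Nonempty := by
        rw [Set.not_subset] at hAC
        obtain ⟨x, hx, hxC⟩ := hAC
        exact ⟨x, hx, hxC⟩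
      have hA' : A ∩ Cᶜ ⊆ ⋃ k : Fin n, P k.castSucc := by
        rintro x ⟨hx, hxC⟩
        obtain ⟨k, hk⟩ := Set.mem_iUnion.mp (hA hx)
        induction k using Fin.lastCases with
        | last =>
          rw [hOC] at hk
          exact absurd hk.2 hxC
        | cast k => exact Set.mem_iUnion.mpr ⟨k, hk⟩
      obtain ⟨k, V, hV, h1, h2⟩ := ih (fun k => P k.castSucc) (fun k => hP _) (A ∩ Cᶜ) hA' hne'
      refine ⟨k.castSucc, V ∩ Cᶜ, hV.inter hC.isOpen_compl, ?_, ?_⟩
      · obtain ⟨x, ⟨hxA, hxC⟩, hxV⟩ := h1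
        exact ⟨x, hxA, hxV, hxC⟩
      · rintro x ⟨hxA, hxV, hxC⟩
        exact h2 ⟨⟨hxA, hxC⟩, hxV⟩


theorem strat {X : Type u} [TopologicalSpace X] [TopologicalSpace.NoetherianSpace X]
    (Z : TopologicalSpace.Closeds X) :
    ∀ (ι : Type) [Finite ι] (P : ι → Set X), (∀ k, IsLocallyClosed (P k)) →
      (⋃ k, P k = (Z : Set X)) → (∀ k k', k ≠ k' → Disjoint (P k) (P k')) →
      ∃ (m : ℕ) (S : Fin m → Set X),
        (∀ i, IsLocallyClosed (S i)) ∧ (⋃ i, S i = (Z : Set X)) ∧
        (∀ i j, i ≠ j → Disjoint (S i) (S j)) ∧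
        (∀ i j, (S i ∩ closure (S j)).Nonempty → S i ⊆ closure (S j)) ∧
        (∀ i k, (S i ∩ P k).Nonempty → S i ⊆ P k) := by
  classical
  induction Z using WellFoundedLT.induction with
  | ind Z ih =>
  intro ι _ P hP hcov hdisj
  by_cases hZ : (Z : Set X) = ∅
  · refine ⟨0, fun i => i.elim0, fun i => i.elim0, ?_, fun i => i.elim0, fun i => i.elim0,
      fun i => i.elim0⟩
    rw [hZ]; simp
  have hne : (Z : Set X).Nonempty := Set.nonempty_iff_ne_empty.mpr hZ
  -- find the open piece
  obtain ⟨n, ⟨e⟩⟩ := Finite.exists_equiv_fin ι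
  obtain ⟨k₀', V, hV, hUne, hUsub'⟩ := exists_open_piece n (fun j => P (e.symm j))
    (fun j => hP _) (Z : Set X) (by
      rw [← hcov]
      intro x hx
      obtain ⟨k, hk⟩ := Set.mem_iUnion.mp hx
      exact Set.mem_iUnion.mpr ⟨e k, by simpa using hk⟩) hne
  set k₀ := e.symm k₀' with hk₀
  set U : Set X := (Z : Set X) ∩ V with hUdef
  have hUsub : U ⊆ P k₀ := hUsub'
  let Z' : TopologicalSpace.Closeds X := ⟨(Z : Set X) \ V, Z.2.sdiff hV⟩
  have hZ'lt : Z' < Z := by
    refine lt_of_le_of_ne (fun x hx => hx.1) ?_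
    intro heq
    obtain ⟨x, hxZ, hxV⟩ := hUne
    have : x ∈ (Z' : Set X) := by rw [heq]; exact hxZ
    exact this.2 hxV
  let P' : ι × Bool → Set X := fun p =>
    P p.1 ∩ (Z' : Set X) ∩ (if p.2 then closure U else (closure U)ᶜ)
  have hP' : ∀ p, IsLocallyClosed (P' p) := by
    rintro ⟨k, b⟩
    refine ((hP k).inter Z'.2.isLocallyClosed).inter ?_
    cases b
    · simpa using isClosed_closure.isOpen_compl.isLocallyClosed
    · simpa using isClosed_closure.isLocallyClosed
  have hcov' : ⋃ p, P' p = (Z' : Set X) := by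
    ext x
    simp only [Set.mem_iUnion, Prod.exists, P']
    constructor
    · rintro ⟨k, b, hx⟩
      exact hx.1.2
    · intro hx
      have hxZ : x ∈ (Z : Set X) := hx.1
      rw [← hcov] at hxZ
      obtain ⟨k, hk⟩ := Set.mem_iUnion.mp hxZ
      by_cases hxU : x ∈ closure U
      · exact ⟨k, true, ⟨hk, hx⟩, by simpa using hxU⟩
      · exact ⟨k, false, ⟨hk, hx⟩, by simpa using hxU⟩
  have hdisj' : ∀ p p', p ≠ p' → Disjoint (P' p) (P' p') := by
    rintro ⟨k, b⟩ ⟨k', b'⟩ hne
    rw [Set.disjoint_left]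
    rintro x ⟨⟨hx1, -⟩, hx2⟩ ⟨⟨hx1', -⟩, hx2'⟩
    by_cases hk : k = k'
    · subst hk
      have hb : b ≠ b' := fun h => hne (by rw [h])
      cases b <;> cases b' <;> simp_all
    · exact Set.disjoint_left.mp (hdisj k k' hk) hx1 hx1'
  obtain ⟨m, T, hT1, hT2, hT3, hT4, hT5⟩ := ih Z' hZ'lt (ι × Bool) P' hP' hcov' hdisj'
  have hTZ' : ∀ α, T α ⊆ (Z' : Set X) := fun α => by
    rw [← hT2]; exact Set.subset_iUnion T α
  have hUZ' : Disjoint U (Z' : Set X) := by
    rw [Set.disjoint_left]
    rintro x ⟨-, hxV⟩ ⟨-, hxV'⟩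
    exact hxV' hxV
  refine ⟨m + 1, Fin.cons U T, ?_, ?_, ?_, ?_, ?_⟩
  · intro i
    induction i using Fin.cases with
    | zero => simpa using Z.2.isLocallyClosed.inter hV.isLocallyClosed
    | succ α => simpa using hT1 α
  · ext x
    simp only [Set.mem_iUnion]
    constructor
    · rintro ⟨i, hi⟩
      induction i using Fin.cases with
      | zero => exact (by simpa using hi : x ∈ U).1
      | succ α => exact (hTZ' α (by simpa using hi)).1
    · intro hx
      by_cases hxV : x ∈ V
      · exact ⟨0, by rw [Fin.cons_zero]; exact ⟨hx, hxV⟩⟩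
      · have : x ∈ ⋃ i, T i := by rw [hT2]; exact ⟨hx, hxV⟩
        obtain ⟨α, hα⟩ := Set.mem_iUnion.mp this
        exact ⟨α.succ, by simpa using hα⟩
  · intro i j hij
    induction i using Fin.cases with
    | zero =>
      induction j using Fin.cases with
      | zero => exact absurd rfl hij
      | succ β =>
        simp only [Fin.cons_zero, Fin.cons_succ]
        exact hUZ'.mono_right (hTZ' β)
    | succ α =>
      induction j using Fin.cases with
      | zero =>
        simp only [Fin.cons_zero, Fin.cons_succ]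
        exact (hUZ'.mono_right (hTZ' α)).symm
      | succ β =>
        simp only [Fin.cons_succ]
        exact hT3 α β (fun h => hij (by rw [h]))
  · intro i j
    induction i using Fin.cases with
    | zero =>
      induction j using Fin.cases with
      | zero =>
        intro _
        simpa using subset_closure
      | succ β =>
        simp only [Fin.cons_zero, Fin.cons_succ]
        rintro ⟨x, hxU, hxT⟩
        have : closure (T β) ⊆ (Z' : Set X) := closure_minimal (hTZ' β) Z'.2
        exact absurd (this hxT) (Set.disjoint_left.mp hUZ' hxU)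
    | succ α =>
      induction j using Fin.cases with
      | zero =>
        simp only [Fin.cons_zero, Fin.cons_succ]
        rintro ⟨x, hxT, hxU⟩
        have hxZ' : x ∈ (Z' : Set X) := hTZ' α hxT
        have hxZ : x ∈ (Z : Set X) := hxZ'.1
        rw [← hcov] at hxZ
        obtain ⟨k, hk⟩ := Set.mem_iUnion.mp hxZ
        have hxP' : x ∈ P' (k, true) := ⟨⟨hk, hxZ'⟩, by simpa using hxU⟩
        have := hT5 α (k, true) ⟨x, hxT, hxP'⟩
        intro y hy
        have hy' := (this hy).2
        simpa using hy'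
      | succ β =>
        simp only [Fin.cons_succ]
        exact hT4 α β
  · intro i k
    induction i using Fin.cases with
    | zero =>
      simp only [Fin.cons_zero]
      rintro ⟨x, hxU, hxk⟩
      have : k = k₀ := by
        by_contra hne'
        exact Set.disjoint_left.mp (hdisj k k₀ hne') hxk (hUsub hxU)
      rw [this]
      exact hUsub
    | succ α =>
      simp only [Fin.cons_succ]
      rintro ⟨x, hxT, hxk⟩
      have hxZ' : x ∈ (Z' : Set X) := hTZ' α hxT
      by_cases hxU : x ∈ closure U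
      · have hxP' : x ∈ P' (k, true) := ⟨⟨hxk, hxZ'⟩, by simpa using hxU⟩
        exact fun y hy => (hT5 α (k, true) ⟨x, hxT, hxP'⟩ hy).1.1
      · have hxP' : x ∈ P' (k, false) := ⟨⟨hxk, hxZ'⟩, by simpa using hxU⟩
        exact fun y hy => (hT5 α (k, false) ⟨x, hxT, hxP'⟩ hy).1.1

theorem aux {X : Type u} [TopologicalSpace X]
    [TopologicalSpace.NoetherianSpace X]
    {n : ℕ} (P : Fin n → Set X) (hP : ∀ k, IsLocallyClosed (P k)) (hcov : ⋃ k, P k = Set.univ)
    (hdisj : ∀ k k', k ≠ k' → Disjoint (P k) (P k')) :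
    ∃ (m : ℕ) (S : Fin m → Set X),
      (∀ i, IsLocallyClosed (S i)) ∧ (⋃ i, S i = Set.univ) ∧ (∀ i j, i ≠ j → Disjoint (S i) (S j)) ∧
      (∀ i j, (S i ∩ closure (S j)).Nonempty → S i ⊆ closure (S j)) ∧
      (∀ i k, (S i ∩ P k).Nonempty → S i ⊆ P k) := by
  obtain ⟨m, S, h1, h2, h3, h4, h5⟩ := strat (⊤ : TopologicalSpace.Closeds X) (Fin n) P hP
    (by simpa using hcov) hdisj
  exact ⟨m, S, h1, by simpa using h2, h3, h4, h5⟩

/-- Let X be a Noetherian topological space and X = ∐ P_k a finite partition into locally closed parts.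
Then it is refined by a finite good stratification: a finite partition X = ∐ S_i into locally closed
strata such that S_i ∩ closure(S_j) ≠ ∅ implies S_i ⊆ closure(S_j), with every P_k a union of
strata. -/
theorem result {X : Type u} [TopologicalSpace X]
    [TopologicalSpace.NoetherianSpace X]
    {n : ℕ} (P : Fin n → Set X) (hP : ∀ k, IsLocallyClosed (P k)) (hcov : ⋃ k, P k = Set.univ)
    (hdisj : ∀ k k', k ≠ k' → Disjoint (P k) (P k')) :
    ∃ (m : ℕ) (S : Fin m → Set X),
      (∀ i, IsLocallyClosed (S i)) ∧ (⋃ i, S i = Set.univ) ∧ (∀ i j, i ≠ j → Disjoint (S i) (S j)) ∧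
      (∀ i j, (S i ∩ closure (S j)).Nonempty → S i ⊆ closure (S j)) ∧
      (∀ i k, (S i ∩ P k).Nonempty → S i ⊆ P k) := by
  exact aux P hP hcov hdisj

end Groth.Agent.S7561
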