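import Groth.Statements.S7563

set_option autoImplicit false
universe u
open PtTop

namespace Groth.Agent.S7563

/-- Let X be a topological space and X = X_1 ∪ … ∪ X_n with each X_i irreducible and closed and no X_i
contained in the union of the others. Then the irreducible components of X are precisely the sets
X_1, …, X_n. -/
theorem result {X : Type u} [TopologicalSpace X]
    {n : ℕ} (Z : Fin n → Set X) (hZ : ∀ i, IsIrreducible (Z i) ∧ IsClosed (Z i))
    (hcov : ⋃ i, Z i = Set.univ) (hirr : ∀ i, ¬ Z i ⊆ ⋃ j ∈ ({i}ᶜ : Set (Fin n)), Z j) :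
    irreducibleComponents X = Set.range Z := by
  classical
  have key : ∀ s : Set X, IsIrreducible s → ∃ j, s ⊆ Z j := by
    intro s hs
    obtain ⟨z, hz, hsz⟩ := (isIrreducible_iff_sUnion_isClosed.1 hs) (Finset.univ.image Z)
      (by
        intro z hz
        simp only [Finset.mem_image, Finset.mem_univ, true_and] at hz
        obtain ⟨i, rfl⟩ := hz
        exact (hZ i).2)
      (by
        intro x _
        have hx : x ∈ ⋃ i, Z i := hcov ▸ Set.mem_univ x
        obtain ⟨i, hi⟩ := Set.mem_iUnion.1 hx
        exact Set.mem_sUnion.2 ⟨Z i, by simp, hi⟩)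
    simp only [Finset.mem_image, Finset.mem_univ, true_and] at hz
    obtain ⟨j, rfl⟩ := hz
    exact ⟨j, hsz⟩
  have hmax : ∀ i, Z i ∈ irreducibleComponents X := by
    intro i
    refine ⟨(hZ i).1, ?_⟩
    intro s hs his
    obtain ⟨j, hj⟩ := key s hs
    by_cases hji : j = i
    · subst hji
      exact hj
    · exfalso
      apply hirr i
      intro x hx
      exact Set.mem_biUnion (x := j) hji (hj (his hx))
  ext s
  constructor
  · intro hs
    obtain ⟨j, hj⟩ := key s hs.1
    exact ⟨j, (Set.Subset.antisymm (hs.2 (hZ j).1 hj) hj)⟩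
  · rintro ⟨i, rfl⟩
    exact hmax i

end Groth.Agent.S7563
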