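import Groth.Statements.S7564

set_option autoImplicit false
universe u
open PtTop

namespace Groth.Agent.S7564

/-- For a continuous surjection f : X → Y, if X has finitely many irreducible components, say n of them,
then Y has at most n irreducible components. -/
theorem result {X Y : Type u} [TopologicalSpace X] [TopologicalSpace Y]
    (f : X → Y) (hf : Continuous f) (hs : Function.Surjective f) (hfin : (irreducibleComponents X).Finite) :
    (irreducibleComponents Y).Finite ∧ (irreducibleComponents Y).ncard ≤ (irreducibleComponents X).ncard := by
  classical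
  have hsub : irreducibleComponents Y ⊆ (fun W => closure (f '' W)) '' irreducibleComponents X := by
    intro C hC
    have hcov : C ⊆ ⋃₀ ↑(hfin.toFinset.image (fun W => closure (f '' W))) := by
      intro y _
      obtain ⟨x, rfl⟩ := hs y
      have hx : x ∈ ⋃₀ irreducibleComponents X := by rw [sUnion_irreducibleComponents]; exact Set.mem_univ x
      obtain ⟨W, hW, hxW⟩ := Set.mem_sUnion.1 hx
      refine Set.mem_sUnion.2 ⟨closure (f '' W), ?_, subset_closure ⟨x, hxW, rfl⟩⟩
      simp only [Finset.coe_image, Set.Finite.coe_toFinset, Set.mem_image]
      exact ⟨W, hW, rfl⟩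
    obtain ⟨z, hz, hCz⟩ := (isIrreducible_iff_sUnion_isClosed.1 hC.1) _
      (by
        intro z hz
        simp only [Finset.mem_image, Set.Finite.mem_toFinset] at hz
        obtain ⟨W, _, rfl⟩ := hz
        exact isClosed_closure) hcov
    simp only [Finset.mem_image, Set.Finite.mem_toFinset] at hz
    obtain ⟨W, hW, rfl⟩ := hz
    refine ⟨W, hW, ?_⟩
    have hirr : IsIrreducible (closure (f '' W)) :=
      (hW.1.image f hf.continuousOn).closure
    exact Set.Subset.antisymm (hC.2 hirr hCz) hCz
  have hfinY : (irreducibleComponents Y).Finite := (hfin.image _).subset hsub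
  refine ⟨hfinY, ?_⟩
  calc (irreducibleComponents Y).ncard
      ≤ ((fun W => closure (f '' W)) '' irreducibleComponents X).ncard :=
        Set.ncard_le_ncard hsub (hfin.image _)
    _ ≤ (irreducibleComponents X).ncard := Set.ncard_image_le hfin

end Groth.Agent.S7564
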