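import Groth.Statements.S7566
import Mathlib.Topology.Separation.Regular

set_option autoImplicit false
universe u
open PtTop

namespace Groth.Agent.S7566

open Set in
/-- A compact set disjoint from the intersection of all clopen neighbourhoods of `x` is disjoint
from one of them. -/
theorem exists_isClopen_disjoint_of_isCompact {X : Type u} [TopologicalSpace X] (x : X)
    {K : Set X} (hK : IsCompact K)
    (hKS : K ∩ ⋂₀ {Z : Set X | IsClopen Z ∧ x ∈ Z} = ∅) :
    ∃ Z : Set X, IsClopen Z ∧ x ∈ Z ∧ K ∩ Z = ∅ := by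
  have h1 := hK.elim_finite_subfamily_closed
    (fun s : { s : Set X // IsClopen s ∧ x ∈ s } => (s : Set X)) (fun s => s.2.1.1)
    (by
      rw [← hKS]
      congr 1
      ext y
      simp only [mem_iInter, Subtype.forall, mem_sInter, mem_setOf_eq])
  obtain ⟨u, hu⟩ := h1
  refine ⟨⋂ U ∈ u, Subtype.val U, isClopen_biInter_finset fun s _ => s.2.1,
    mem_iInter₂.2 fun s _ => s.2.2, hu⟩

open Set in
/-- Let X be a quasi-compact topological space whose quasi-compact opens form a basis, any two of them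
meeting in a quasi-compact set. Then for every x ∈ X the connected component of x equals the
intersection of every clopen subset of X that contains x. -/
theorem result {X : Type u} [TopologicalSpace X]
    [CompactSpace X] [PrespectralSpace X] [QuasiSeparatedSpace X] (x : X) :
    connectedComponent x = ⋂₀ {Z : Set X | IsClopen Z ∧ x ∈ Z} := by
  apply Subset.antisymm
  · intro y hy
    rw [mem_sInter]
    rintro Z ⟨hZ, hxZ⟩
    exact hZ.connectedComponent_subset hxZ hy
  refine IsPreconnected.subset_connectedComponent ?_ (mem_sInter.2 fun Z hZ => hZ.2)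
  have hSc : IsClosed (⋂₀ {Z : Set X | IsClopen Z ∧ x ∈ Z}) :=
    isClosed_sInter fun Z hZ => hZ.1.1
  rw [isPreconnected_iff_subset_of_fully_disjoint_closed hSc]
  intro a b ha hb hab ab_disj
  set S := ⋂₀ {Z : Set X | IsClopen Z ∧ x ∈ Z} with hS
  have hxS : x ∈ S := mem_sInter.2 fun Z hZ => hZ.2
  -- compact opens separating
  obtain ⟨u, huc, huo, hBu, huC⟩ := PrespectralSpace.exists_isCompact_and_isOpen_between
    (K := S ∩ a) (U := bᶜ) ((hSc.inter ha).isCompact) hb.isOpen_compl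
    (fun y hy hyb => (disjoint_left.1 ab_disj) hy.2 hyb)
  obtain ⟨v, hvc, hvo, hCv, hvB⟩ := PrespectralSpace.exists_isCompact_and_isOpen_between
    (K := S ∩ b) (U := aᶜ) ((hSc.inter hb).isCompact) ha.isOpen_compl
    (fun y hy hya => (disjoint_left.1 ab_disj) hya hy.2)
  have huv : IsCompact (u ∩ v) := QuasiSeparatedSpace.inter_isCompact u v huo huc hvo hvc
  have h1 : (u ∩ v) ∩ S = ∅ := by
    ext y
    simp only [mem_inter_iff, mem_empty_iff_false, iff_false, not_and]
    rintro ⟨hyu, hyv⟩ hyS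
    rcases hab hyS with hya | hyb
    · exact hvB hyv hya
    · exact huC hyu hyb
  have h2 : (u ∪ v)ᶜ ∩ S = ∅ := by
    ext y
    simp only [mem_inter_iff, mem_compl_iff, mem_union, mem_empty_iff_false, iff_false, not_and]
    intro hy hyS
    rcases hab hyS with hya | hyb
    · exact hy (Or.inl (hBu ⟨hyS, hya⟩))
    · exact hy (Or.inr (hCv ⟨hyS, hyb⟩))
  obtain ⟨Z1, hZ1, hxZ1, hZ1d⟩ := exists_isClopen_disjoint_of_isCompact x huv h1
  obtain ⟨Z2, hZ2, hxZ2, hZ2d⟩ := exists_isClopen_disjoint_of_isCompact x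
    ((huo.union hvo).isClosed_compl.isCompact) h2
  have hZ : IsClopen (Z1 ∩ Z2) := hZ1.inter hZ2
  have hZsub : Z1 ∩ Z2 ⊆ u ∪ v := by
    intro y hy
    by_contra hyn
    have : y ∈ (u ∪ v)ᶜ ∩ Z2 := ⟨hyn, hy.2⟩
    rw [hZ2d] at this
    exact this
  have hZdisj : ∀ y, y ∈ Z1 ∩ Z2 → y ∈ u → y ∈ v → False := by
    intro y hy hyu hyv
    have : y ∈ (u ∩ v) ∩ Z1 := ⟨⟨hyu, hyv⟩, hy.1⟩
    rw [hZ1d] at this
    exact this
  have hZu : IsClopen ((Z1 ∩ Z2) ∩ u) := by
    refine ⟨?_, hZ.2.inter huo⟩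
    have : (Z1 ∩ Z2) ∩ u = (Z1 ∩ Z2) ∩ vᶜ := by
      ext y
      constructor
      · rintro ⟨hy, hyu⟩
        exact ⟨hy, fun hyv => hZdisj y hy hyu hyv⟩
      · rintro ⟨hy, hyv⟩
        exact ⟨hy, (hZsub hy).resolve_right hyv⟩
    rw [this]
    exact hZ.1.inter hvo.isClosed_compl
  have hZv : IsClopen ((Z1 ∩ Z2) ∩ v) := by
    refine ⟨?_, hZ.2.inter hvo⟩
    have : (Z1 ∩ Z2) ∩ v = (Z1 ∩ Z2) ∩ uᶜ := by
      ext y
      constructor
      · rintro ⟨hy, hyv⟩
        exact ⟨hy, fun hyu => hZdisj y hy hyu hyv⟩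
      · rintro ⟨hy, hyu⟩
        exact ⟨hy, (hZsub hy).resolve_left hyu⟩
    rw [this]
    exact hZ.1.inter huo.isClosed_compl
  by_cases hxu : x ∈ u
  · left
    have hSu : S ⊆ (Z1 ∩ Z2) ∩ u := sInter_subset_of_mem ⟨hZu, ⟨hxZ1, hxZ2⟩, hxu⟩
    intro y hy
    rcases hab hy with hya | hyb
    · exact hya
    · exact absurd hyb (huC (hSu hy).2)
  · right
    have hxv : x ∈ v := (hZsub ⟨hxZ1, hxZ2⟩).resolve_left hxu
    have hSv : S ⊆ (Z1 ∩ Z2) ∩ v := sInter_subset_of_mem ⟨hZv, ⟨hxZ1, hxZ2⟩, hxv⟩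
    intro y hy
    rcases hab hy with hya | hyb
    · exact absurd hya (hvB (hSv hy).2)
    · exact hyb

end Groth.Agent.S7566
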