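import Groth.Statements.S7567
import Groth.Agent.S7566

set_option autoImplicit false
universe u
open PtTop

namespace Groth.Agent.S7567

open Set in
/-- Let X be a quasi-compact topological space whose quasi-compact opens form a basis, any two of them
meeting in a quasi-compact set. For a subset T ⊆ X these two conditions are equivalent: (a) T can be
written as an intersection of clopen subsets of X; (b) T is closed and is a union of connected
components of X. -/
theorem result {X : Type u} [TopologicalSpace X]
    [CompactSpace X] [PrespectralSpace X] [QuasiSeparatedSpace X] (T : Set X) :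
    (∃ S : Set (Set X), (∀ Z ∈ S, IsClopen Z) ∧ T = ⋂₀ S) ↔
      (IsClosed T ∧ ∀ x ∈ T, connectedComponent x ⊆ T) := by
  constructor
  · rintro ⟨S, hS, rfl⟩
    refine ⟨isClosed_sInter fun Z hZ => (hS Z hZ).1, ?_⟩
    intro x hx y hy
    rw [mem_sInter] at hx ⊢
    intro Z hZ
    exact (hS Z hZ).connectedComponent_subset (hx Z hZ) hy
  · rintro ⟨hT, hTc⟩
    refine ⟨{Z | IsClopen Z ∧ T ⊆ Z}, fun Z hZ => hZ.1, ?_⟩
    apply Subset.antisymm
    · exact subset_sInter fun Z hZ => hZ.2
    · intro y hy
      by_contra hyT
      have hdisj : T ∩ ⋂₀ {Z : Set X | IsClopen Z ∧ y ∈ Z} = ∅ := by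
        rw [← Groth.Agent.S7566.result y]
        ext t
        simp only [mem_inter_iff, mem_empty_iff_false, iff_false, not_and]
        intro htT hty
        have : connectedComponent t = connectedComponent y :=
          connectedComponent_eq hty |>.symm
        exact hyT (hTc t htT (this ▸ mem_connectedComponent))
      obtain ⟨Z, hZ, hyZ, hTZ⟩ :=
        Groth.Agent.S7566.exists_isClopen_disjoint_of_isCompact y hT.isCompact hdisj
      have : y ∈ Zᶜ := by
        rw [mem_sInter] at hy
        refine hy Zᶜ ⟨hZ.compl, ?_⟩
        intro t ht htZ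
        have : t ∈ T ∩ Z := ⟨ht, htZ⟩
        rw [hTZ] at this
        exact this
      exact this hyZ

end Groth.Agent.S7567
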