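import Groth.Statements.S7568
import Mathlib

set_option autoImplicit false
universe u
open PtTop

namespace Groth.Agent.S7568

/-- Let X be a Hausdorff quasi-compact space, X = ⋃ U_i an open covering, p ≥ 0 an integer, and for
every (p+1)-tuple (i_0, …, i_p) an open covering of U_{i_0} ∩ … ∩ U_{i_p} by opens W_{i_0…i_p,k}.
Then there are an open covering X = ⋃_{j ∈ J} V_j and a map α : J → I with closure(V_j) ⊆ U_{α(j)}
such that each V_{j_0} ∩ … ∩ V_{j_p} is contained in W_{α(j_0)…α(j_p),k} for some k. The published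
statement allows a covering of an empty intersection to have no members; this row requires every
covering W_{i_0…i_p} to have at least one member (possibly empty), without which the conclusion
fails. -/
theorem result {X : Type u} [TopologicalSpace X] [CompactSpace X] [T2Space X]
    {ι : Type u} (U : ι → Set X) (hU : ∀ i, IsOpen (U i)) (hcov : ⋃ i, U i = Set.univ) (p : ℕ)
    (W : (Fin (p + 1) → ι) → Set (Set X)) (hWo : ∀ t, ∀ w ∈ W t, IsOpen w)
    (hWc : ∀ t, ⋃₀ W t = ⋂ l, U (t l)) (hWne : ∀ t, (W t).Nonempty) :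
    ∃ (J : Type u) (V : J → Set X) (α : J → ι), (∀ j, IsOpen (V j)) ∧ (⋃ j, V j = Set.univ) ∧
      (∀ j, closure (V j) ⊆ U (α j)) ∧
      (∀ t : Fin (p + 1) → J, ∃ w ∈ W (α ∘ t), (⋂ l, V (t l)) ⊆ w) := by
  classical
  rcases isEmpty_or_nonempty ι with hι | hι
  · -- then X is empty
    have hX : IsEmpty X := ⟨fun x => by
      have : x ∈ ⋃ i, U i := hcov ▸ Set.mem_univ x
      obtain ⟨i, -⟩ := Set.mem_iUnion.mp this
      exact hι.false i⟩
    refine ⟨PEmpty, fun j => j.elim, fun j => j.elim, fun j => j.elim, ?_, fun j => j.elim, ?_⟩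
    · ext x; exact (hX.false x).elim
    · intro t; exact (t 0).elim
  have h1 : ∀ z : X, ∃ i : ι, ∃ N : Set X, IsOpen N ∧ z ∈ N ∧ closure N ⊆ U i := by
    intro z
    have hz : z ∈ ⋃ i, U i := hcov ▸ Set.mem_univ z
    obtain ⟨i, hi⟩ := Set.mem_iUnion.mp hz
    obtain ⟨N, hNo, hzN, hNU, -⟩ := exists_open_between_and_isCompact_closure
      (isCompact_singleton (x := z)) (hU i) (Set.singleton_subset_iff.mpr hi)
    exact ⟨i, N, hNo, Set.singleton_subset_iff.mp hzN, hNU⟩
  choose idx N hNo hzN hNU using h1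
  obtain ⟨S, -, hScov⟩ := (isCompact_univ (X := X)).elim_nhds_subcover N
    (fun z _ => (hNo z).mem_nhds (hzN z))
  set V' : ι → Set X := fun j => ⋃ z ∈ S.filter (fun z => idx z = j), N z with hV'
  have hV'o : ∀ j, IsOpen (V' j) := fun j => isOpen_biUnion fun z _ => hNo z
  have hV'cl : ∀ j, closure (V' j) = ⋃ z ∈ S.filter (fun z => idx z = j), closure (N z) :=
    fun j => Finset.closure_biUnion _ _
  have hV'U : ∀ j, closure (V' j) ⊆ U j := by
    intro j
    rw [hV'cl]
    refine Set.iUnion₂_subset fun z hz => ?_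
    have hz' := Finset.mem_filter.mp hz
    rw [← hz'.2]
    exact hNU z
  have hXV' : ∀ x : X, ∃ j, x ∈ V' j := by
    intro x
    obtain ⟨z, hzS, hxz⟩ := Set.mem_iUnion₂.mp (hScov (Set.mem_univ x))
    exact ⟨idx z, Set.mem_iUnion₂.mpr ⟨z, Finset.mem_filter.mpr ⟨hzS, rfl⟩, hxz⟩⟩
  set F : Finset ι := S.image idx with hF
  have hV'F : ∀ j x, x ∈ V' j → j ∈ F := by
    intro j x hx
    obtain ⟨z, hz, -⟩ := Set.mem_iUnion₂.mp hx
    have hz' := Finset.mem_filter.mp hz
    exact Finset.mem_image.mpr ⟨z, hz'.1, hz'.2⟩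
  set Fx : X → Finset ι := fun x => F.filter (fun i => x ∈ closure (V' i)) with hFx
  set Tx : X → Finset (Fin (p + 1) → ι) := fun x => Fintype.piFinset (fun _ => Fx x) with hTx
  have hw : ∀ x t, t ∈ Tx x → ∃ w : Set X, w ∈ W t ∧ x ∈ w := by
    intro x t ht
    rw [hTx, Fintype.mem_piFinset] at ht
    have hx : x ∈ ⋂ l, U (t l) := by
      refine Set.mem_iInter.mpr fun l => hV'U (t l) ?_
      exact (Finset.mem_filter.mp (ht l)).2
    rw [← hWc t] at hx
    obtain ⟨w, hwW, hxw⟩ := Set.mem_sUnion.mp hx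
    exact ⟨w, hwW, hxw⟩
  choose! w hwW hxw using hw
  set G : X → Set X := fun x =>
    (⋂ t ∈ Tx x, w x t) ∩ (⋂ i ∈ F \ Fx x, (closure (V' i))ᶜ) with hG
  have hGo : ∀ x, IsOpen (G x) := by
    intro x
    refine (isOpen_biInter_finset fun t ht => hWo t _ (hwW x t ht)).inter
      (isOpen_biInter_finset fun i _ => isClosed_closure.isOpen_compl)
  have hxG : ∀ x, x ∈ G x := by
    intro x
    refine ⟨Set.mem_iInter₂.mpr fun t ht => hxw x t ht, Set.mem_iInter₂.mpr fun i hi => ?_⟩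
    have hi' := Finset.mem_sdiff.mp hi
    intro hxi
    exact hi'.2 (Finset.mem_filter.mpr ⟨hi'.1, hxi⟩)
  refine ⟨X × ι, fun j => G j.1 ∩ V' j.2, fun j => j.2, fun j => (hGo j.1).inter (hV'o j.2),
    ?_, ?_, ?_⟩
  · ext y
    simp only [Set.mem_iUnion, Set.mem_univ, iff_true]
    obtain ⟨i, hi⟩ := hXV' y
    exact ⟨(y, i), hxG y, hi⟩
  · intro j
    exact (closure_mono Set.inter_subset_right).trans (hV'U j.2)
  · intro s
    by_cases hne : (⋂ l, G (s l).1 ∩ V' (s l).2).Nonempty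
    · obtain ⟨y, hy⟩ := hne
      have hy' : ∀ l, y ∈ G (s l).1 ∩ V' (s l).2 := fun l => Set.mem_iInter.mp hy l
      have htT : ((fun j : X × ι => j.2) ∘ s) ∈ Tx (s 0).1 := by
        rw [hTx, Fintype.mem_piFinset]
        intro l
        have hlF : (s l).2 ∈ F := hV'F _ y (hy' l).2
        by_contra hcon
        have hmem : (s l).2 ∈ F \ Fx (s 0).1 := Finset.mem_sdiff.mpr ⟨hlF, hcon⟩
        have := Set.mem_iInter₂.mp (hy' 0).1.2 (s l).2 hmem
        exact this (subset_closure (hy' l).2)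
      refine ⟨w (s 0).1 ((fun j : X × ι => j.2) ∘ s), hwW _ _ htT, ?_⟩
      intro z hz
      have hz0 : z ∈ G (s 0).1 ∩ V' (s 0).2 := Set.mem_iInter.mp hz 0
      exact Set.mem_iInter₂.mp hz0.1.1 _ htT
    · obtain ⟨w₀, hw₀⟩ := hWne ((fun j : X × ι => j.2) ∘ s)
      refine ⟨w₀, hw₀, ?_⟩
      rw [Set.not_nonempty_iff_eq_empty] at hne
      rw [hne]
      exact Set.empty_subset _

end Groth.Agent.S7568
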