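import Groth.Statements.S7569
import Mathlib

set_option autoImplicit false
universe u
open PtTop

namespace Groth.Agent.S7569

/-- Let X be a Hausdorff, locally quasi-compact space and Z ⊆ X a quasi-compact subset. Let p ≥ 0, let
U_i ⊆ X be opens with Z ⊆ ⋃ U_i, and for every (p+1)-tuple (i_0, …, i_p) let W_{i_0…i_p} ⊆ U_{i_0} ∩
… ∩ U_{i_p} be an open with W_{i_0…i_p} ∩ Z = U_{i_0} ∩ … ∩ U_{i_p} ∩ Z. Then there are opens V_i ⊆
X with Z ⊆ ⋃ V_i, closure(V_i) ⊆ U_i for all i, and V_{i_0} ∩ … ∩ V_{i_p} ⊆ W_{i_0…i_p} for all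
(p+1)-tuples. -/
theorem result {X : Type u} [TopologicalSpace X]
    [T2Space X] [LocallyCompactSpace X] (Z : Set X) (hZ : IsCompact Z)
    {ι : Type u} (U : ι → Set X) (hU : ∀ i, IsOpen (U i)) (hcov : Z ⊆ ⋃ i, U i) (p : ℕ)
    (W : (Fin (p + 1) → ι) → Set X) (hWo : ∀ t, IsOpen (W t)) (hWU : ∀ t, W t ⊆ ⋂ l, U (t l))
    (hWZ : ∀ t, W t ∩ Z = (⋂ l, U (t l)) ∩ Z) :
    ∃ V : ι → Set X, (∀ i, IsOpen (V i)) ∧ (Z ⊆ ⋃ i, V i) ∧ (∀ i, closure (V i) ⊆ U i) ∧
      (∀ t : Fin (p + 1) → ι, (⋂ l, V (t l)) ⊆ W t) := by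
  classical
  rcases isEmpty_or_nonempty ι with hι | hι
  · refine ⟨fun _ => ∅, fun _ => isOpen_empty, ?_, fun i => (hι.false i).elim,
      fun t => (hι.false (t 0)).elim⟩
    intro x hx
    obtain ⟨i, -⟩ := Set.mem_iUnion.mp (hcov hx)
    exact (hι.false i).elim
  have h1 : ∀ z : X, z ∈ Z → ∃ i : ι, ∃ N : Set X, IsOpen N ∧ z ∈ N ∧ closure N ⊆ U i ∧
      IsCompact (closure N) := by
    intro z hz
    obtain ⟨i, hi⟩ := Set.mem_iUnion.mp (hcov hz)
    obtain ⟨N, hNo, hzN, hNU, hNc⟩ := exists_open_between_and_isCompact_closure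
      (isCompact_singleton (x := z)) (hU i) (Set.singleton_subset_iff.mpr hi)
    exact ⟨i, N, hNo, Set.singleton_subset_iff.mp hzN, hNU, hNc⟩
  choose! idx N hNo hzN hNU hNc using h1
  obtain ⟨S, hSZ, hScov⟩ := hZ.elim_nhds_subcover N (fun z hz => (hNo z hz).mem_nhds (hzN z hz))
  set V' : ι → Set X := fun j => ⋃ z ∈ S.filter (fun z => idx z = j), N z with hV'
  have hV'o : ∀ j, IsOpen (V' j) := fun j =>
    isOpen_biUnion fun z hz => hNo z (hSZ z (Finset.mem_of_mem_filter z hz))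
  have hV'cl : ∀ j, closure (V' j) = ⋃ z ∈ S.filter (fun z => idx z = j), closure (N z) :=
    fun j => Finset.closure_biUnion _ _
  have hV'U : ∀ j, closure (V' j) ⊆ U j := by
    intro j
    rw [hV'cl]
    refine Set.iUnion₂_subset fun z hz => ?_
    have hz' := Finset.mem_filter.mp hz
    rw [← hz'.2]
    exact hNU z (hSZ z hz'.1)
  have hV'c : ∀ j, IsCompact (closure (V' j)) := by
    intro j
    rw [hV'cl]
    exact Finset.isCompact_biUnion _ fun z hz => hNc z (hSZ z (Finset.mem_of_mem_filter z hz))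
  have hZV' : Z ⊆ ⋃ j, V' j := by
    intro x hx
    obtain ⟨z, hzS, hxz⟩ := Set.mem_iUnion₂.mp (hScov hx)
    exact Set.mem_iUnion.mpr ⟨idx z, Set.mem_iUnion₂.mpr ⟨z, Finset.mem_filter.mpr ⟨hzS, rfl⟩, hxz⟩⟩
  set F : Finset ι := S.image idx with hF
  have hV'F : ∀ j x, x ∈ V' j → j ∈ F := by
    intro j x hx
    obtain ⟨z, hz, -⟩ := Set.mem_iUnion₂.mp hx
    have hz' := Finset.mem_filter.mp hz
    exact Finset.mem_image.mpr ⟨z, hz'.1, hz'.2⟩
  set T : Finset (Fin (p + 1) → ι) := Fintype.piFinset (fun _ => F) with hT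
  set K : (Fin (p + 1) → ι) → Set X := fun t => (⋂ l, closure (V' (t l))) \ W t with hK
  have hKc : ∀ t, IsCompact (K t) := by
    intro t
    refine (hV'c (t 0)).of_isClosed_subset
      ((isClosed_iInter fun l => isClosed_closure).sdiff (hWo t)) ?_
    intro x hx
    exact Set.mem_iInter.mp hx.1 0
  have hKZ : ∀ t, Disjoint Z (K t) := by
    intro t
    rw [Set.disjoint_left]
    intro x hxZ hxK
    have hxU : x ∈ ⋂ l, U (t l) :=
      Set.mem_iInter.mpr fun l => hV'U (t l) (Set.mem_iInter.mp hxK.1 l)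
    have : x ∈ W t ∩ Z := by rw [hWZ t]; exact ⟨hxU, hxZ⟩
    exact hxK.2 this.1
  have hKK : IsCompact (⋃ t ∈ T, K t) := Finset.isCompact_biUnion _ fun t _ => hKc t
  have hdisj : Disjoint Z (⋃ t ∈ T, K t) := by
    rw [Set.disjoint_iUnion₂_right]
    exact fun t _ => hKZ t
  obtain ⟨O, O', hOo, -, hZO, hKO', hOO'⟩ := SeparatedNhds.of_isCompact_isCompact hZ hKK hdisj
  refine ⟨fun j => V' j ∩ O, fun j => (hV'o j).inter hOo, ?_, ?_, ?_⟩
  · intro x hx
    obtain ⟨j, hj⟩ := Set.mem_iUnion.mp (hZV' hx)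
    exact Set.mem_iUnion.mpr ⟨j, hj, hZO hx⟩
  · intro j
    exact (closure_mono Set.inter_subset_left).trans (hV'U j)
  · intro t x hx
    have hx' : ∀ l, x ∈ V' (t l) ∩ O := fun l => Set.mem_iInter.mp hx l
    have htT : t ∈ T := by
      rw [hT, Fintype.mem_piFinset]
      exact fun l => hV'F (t l) x (hx' l).1
    by_contra hxW
    have hxK : x ∈ K t :=
      ⟨Set.mem_iInter.mpr fun l => subset_closure (hx' l).1, hxW⟩
    have hxO' : x ∈ O' := hKO' (Set.mem_iUnion₂.mpr ⟨t, htT, hxK⟩)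
    exact Set.disjoint_left.mp hOO' (hx' 0).2 hxO'

end Groth.Agent.S7569
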