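import Groth.Statements.S7570
import Mathlib

set_option autoImplicit false
universe u
open PtTop

namespace Groth.Agent.S7570

/-- Let X be a topological space and Z ⊆ X a quasi-compact subset such that any two distinct points of Z
have disjoint open neighbourhoods in X. Let p ≥ 0, let U_i ⊆ X be opens with Z ⊆ ⋃ U_i, and for
every (p+1)-tuple let W_{i_0…i_p} ⊆ U_{i_0} ∩ … ∩ U_{i_p} be an open with W_{i_0…i_p} ∩ Z = U_{i_0}
∩ … ∩ U_{i_p} ∩ Z. Then there are opens V_i with (1) Z ⊆ ⋃ V_i, (2) V_i ⊆ U_i, (3) closure(V_i) ∩ Z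
⊆ U_i, and (4) V_{i_0} ∩ … ∩ V_{i_p} ⊆ W_{i_0…i_p} for all (p+1)-tuples. -/
theorem result {X : Type u} [TopologicalSpace X]
    (Z : Set X) (hZ : IsCompact Z)
    (hZsep : ∀ z ∈ Z, ∀ z' ∈ Z, z ≠ z' → ∃ A B : Set X, IsOpen A ∧ IsOpen B ∧ z ∈ A ∧ z' ∈ B ∧ Disjoint A B)
    {ι : Type u} (U : ι → Set X) (hU : ∀ i, IsOpen (U i)) (hcov : Z ⊆ ⋃ i, U i) (p : ℕ)
    (W : (Fin (p + 1) → ι) → Set X) (hWo : ∀ t, IsOpen (W t)) (hWU : ∀ t, W t ⊆ ⋂ l, U (t l))
    (hWZ : ∀ t, W t ∩ Z = (⋂ l, U (t l)) ∩ Z) :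
    ∃ V : ι → Set X, (∀ i, IsOpen (V i)) ∧ (Z ⊆ ⋃ i, V i) ∧ (∀ i, V i ⊆ U i) ∧
      (∀ i, closure (V i) ∩ Z ⊆ U i) ∧ (∀ t : Fin (p + 1) → ι, (⋂ l, V (t l)) ⊆ W t) := by
  classical
  rcases isEmpty_or_nonempty ι with hι | hι
  · refine ⟨fun _ => ∅, fun _ => isOpen_empty, ?_, fun i => (hι.false i).elim,
      fun i => (hι.false i).elim, fun t => (hι.false (t 0)).elim⟩
    intro x hx
    obtain ⟨i, -⟩ := Set.mem_iUnion.mp (hcov hx)
    exact (hι.false i).elim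
  have h1 : ∀ z : X, z ∈ Z → ∃ i : ι, ∃ N : Set X, IsOpen N ∧ z ∈ N ∧ N ⊆ U i ∧
      closure N ∩ Z ⊆ U i := by
    intro z hz
    obtain ⟨i, hi⟩ := Set.mem_iUnion.mp (hcov hz)
    have hC : IsCompact (Z \ U i) := hZ.diff (hU i)
    have hsep : ∀ z' : X, z' ∈ Z \ U i → ∃ A B : Set X, IsOpen A ∧ IsOpen B ∧ z ∈ A ∧ z' ∈ B ∧
        Disjoint A B := by
      intro z' hz'
      exact hZsep z hz z' hz'.1 (fun h => hz'.2 (h ▸ hi))
    choose! A B hA hB hzA hz'B hAB using hsep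
    obtain ⟨S', hS'C, hS'cov⟩ := hC.elim_nhds_subcover B
      (fun z' hz' => (hB z' hz').mem_nhds (hz'B z' hz'))
    refine ⟨i, U i ∩ ⋂ z' ∈ S', A z', (hU i).inter
      (isOpen_biInter_finset fun z' hz' => hA z' (hS'C z' hz')), ⟨hi, ?_⟩,
      Set.inter_subset_left, ?_⟩
    · exact Set.mem_iInter₂.mpr fun z' hz' => hzA z' (hS'C z' hz')
    · rintro x ⟨hxcl, hxZ⟩
      by_contra hxU
      obtain ⟨z', hz'S, hxB⟩ := Set.mem_iUnion₂.mp (hS'cov ⟨hxZ, hxU⟩)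
      obtain ⟨y, hyB, hyN⟩ := mem_closure_iff.mp hxcl (B z') (hB z' (hS'C z' hz'S)) hxB
      have hyA : y ∈ A z' := Set.mem_iInter₂.mp hyN.2 z' hz'S
      exact Set.disjoint_left.mp (hAB z' (hS'C z' hz'S)) hyA hyB
  choose! idx N hNo hzN hNU hNcl using h1
  obtain ⟨S, hSZ, hScov⟩ := hZ.elim_nhds_subcover N (fun z hz => (hNo z hz).mem_nhds (hzN z hz))
  set V' : ι → Set X := fun j => ⋃ z ∈ S.filter (fun z => idx z = j), N z with hV'
  have hV'o : ∀ j, IsOpen (V' j) := fun j =>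
    isOpen_biUnion fun z hz => hNo z (hSZ z (Finset.mem_of_mem_filter z hz))
  have hV'cl : ∀ j, closure (V' j) = ⋃ z ∈ S.filter (fun z => idx z = j), closure (N z) :=
    fun j => Finset.closure_biUnion _ _
  have hV'sub : ∀ j, V' j ⊆ U j := by
    intro j
    refine Set.iUnion₂_subset fun z hz => ?_
    have hz' := Finset.mem_filter.mp hz
    rw [← hz'.2]
    exact hNU z (hSZ z hz'.1)
  have hV'U : ∀ j, closure (V' j) ∩ Z ⊆ U j := by
    intro j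
    rw [hV'cl, Set.iUnion₂_inter]
    refine Set.iUnion₂_subset fun z hz => ?_
    have hz' := Finset.mem_filter.mp hz
    rw [← hz'.2]
    exact hNcl z (hSZ z hz'.1)
  have hZV' : Z ⊆ ⋃ j, V' j := by
    intro x hx
    obtain ⟨z, hzS, hxz⟩ := Set.mem_iUnion₂.mp (hScov hx)
    exact Set.mem_iUnion.mpr ⟨idx z, Set.mem_iUnion₂.mpr ⟨z, Finset.mem_filter.mpr ⟨hzS, rfl⟩, hxz⟩⟩
  set F : Finset ι := S.image idx with hF
  have hV'F : ∀ j x, x ∈ V' j → j ∈ F := by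
    intro j x hx
    obtain ⟨z, hz, -⟩ := Set.mem_iUnion₂.mp hx
    have hz' := Finset.mem_filter.mp hz
    exact Finset.mem_image.mpr ⟨z, hz'.1, hz'.2⟩
  set T : Finset (Fin (p + 1) → ι) := Fintype.piFinset (fun _ => F) with hT
  set D : (Fin (p + 1) → ι) → Set X := fun t => (⋂ l, V' (t l)) \ W t with hD
  have hDZ : ∀ t, Disjoint Z (closure (D t)) := by
    intro t
    rw [Set.disjoint_left]
    intro x hxZ hxD
    have hxU : x ∈ ⋂ l, U (t l) := by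
      refine Set.mem_iInter.mpr fun l => hV'U (t l) ⟨?_, hxZ⟩
      refine closure_mono ?_ hxD
      intro y hy
      exact Set.mem_iInter.mp hy.1 l
    have hxW : x ∈ W t := by
      have : x ∈ W t ∩ Z := by rw [hWZ t]; exact ⟨hxU, hxZ⟩
      exact this.1
    obtain ⟨y, hyW, hyD⟩ := mem_closure_iff.mp hxD (W t) (hWo t) hxW
    exact hyD.2 hyW
  set O : Set X := (⋃ t ∈ T, closure (D t))ᶜ with hO
  have hOo : IsOpen O := by
    rw [hO, isOpen_compl_iff]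
    exact Set.Finite.isClosed_biUnion T.finite_toSet fun t _ => isClosed_closure
  have hZO : Z ⊆ O := by
    intro x hx hxK
    obtain ⟨t, -, hxt⟩ := Set.mem_iUnion₂.mp hxK
    exact Set.disjoint_left.mp (hDZ t) hx hxt
  refine ⟨fun j => V' j ∩ O, fun j => (hV'o j).inter hOo, ?_, ?_, ?_, ?_⟩
  · intro x hx
    obtain ⟨j, hj⟩ := Set.mem_iUnion.mp (hZV' hx)
    exact Set.mem_iUnion.mpr ⟨j, hj, hZO hx⟩
  · intro j
    exact Set.inter_subset_left.trans (hV'sub j)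
  · intro j
    exact (Set.inter_subset_inter_left _ (closure_mono Set.inter_subset_left)).trans (hV'U j)
  · intro t x hx
    have hx' : ∀ l, x ∈ V' (t l) ∩ O := fun l => Set.mem_iInter.mp hx l
    have htT : t ∈ T := by
      rw [hT, Fintype.mem_piFinset]
      exact fun l => hV'F (t l) x (hx' l).1
    by_contra hxW
    have hxD : x ∈ D t := ⟨Set.mem_iInter.mpr fun l => (hx' l).1, hxW⟩
    exact (hx' 0).2 (Set.mem_iUnion₂.mpr ⟨t, htT, subset_closure hxD⟩)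

end Groth.Agent.S7570
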