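import Groth.Statements.S7573
import Mathlib
import Groth.Agent.Helper9.ClosedEmb
-- import your own Groth.Agent.* helpers here

set_option autoImplicit false
universe u
open CategoryTheory TopologicalSpace
open ShSp

namespace Groth.Agent.S7573

/-- Let i : Z → X be the inclusion of a closed subset (a closed embedding). Then i_* : Sh(Z) → Sh(X) on
sheaves of sets is fully faithful, and its essential image consists exactly of the sheaves G whose
stalk G_x is a one-point set for every x ∈ X not in Z. -/
theorem result {Z X : TopCat.{u}} (i : Z ⟶ X) (hi : Topology.IsClosedEmbedding i) :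
    (TopCat.Sheaf.pushforward (Type u) i).Full ∧ (TopCat.Sheaf.pushforward (Type u) i).Faithful ∧
    ∀ G : X.Sheaf (Type u), (TopCat.Sheaf.pushforward (Type u) i).essImage G ↔
      ∀ x : X, x ∉ Set.range i → Nonempty (Unique (G.presheaf.stalk x)) := by
  have ff := Groth.Agent.Helper9.ClosedEmb.fullyFaithful (A := Type u) i hi
  refine ⟨ff.full, ff.faithful, ?_⟩
  intro G
  rw [Groth.Agent.Helper9.ClosedEmb.essImage_iff_trivOff i hi G,
    Groth.Agent.Helper9.ClosedEmb.trivOff_iff_stalk i hi G]

end Groth.Agent.S7573
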