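import Groth.Statements.S7579
import Mathlib
import Groth.Agent.Lead.Spectral3

set_option autoImplicit false
universe u
open SpecSp

namespace Groth.Agent.S7579

/-- Let X be a spectral space. Then X with its constructible topology is Hausdorff and totally
disconnected. The published statement also asserts that the constructible topology is quasi-compact;
this row states the Hausdorff and totally disconnected parts. -/
theorem result (X : Type u) [TopologicalSpace X] [SpectralSpace X] :
    T2Space (WithConstructibleTopology X) ∧ TotallyDisconnectedSpace (WithConstructibleTopology X) := by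
  classical
  have hb := PrespectralSpace.isTopologicalBasis (X := X)
  -- clopen sets coming from quasi-compact opens
  have hclopen : ∀ V : Set X, IsOpen V → IsCompact V →
      IsClopen ((WithTopology.ofTopology (t := constructibleTopology X)) ⁻¹' V) := by
    intro V hVo hVc
    constructor
    · rw [WithConstructibleTopology.isClosed_iff]
      exact Groth.Agent.Lead.Spectral.cclosed_of_isCompact_isOpen hVc hVo
    · rw [WithConstructibleTopology.isOpen_iff]
      exact hVc.isOpen_constructibleTopology_of_isOpen hVo
  have hTS : TotallySeparatedSpace (WithConstructibleTopology X) := by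
    rw [totallySeparatedSpace_iff_exists_isClopen]
    intro x y hxy
    have hxy' : WithTopology.ofTopology x ≠ WithTopology.ofTopology y :=
      fun h => hxy (WithTopology.ofTopology_injective _ h)
    obtain ⟨U, hU, hxor⟩ := exists_isOpen_xor'_mem hxy'
    rcases hxor with ⟨hxU, hyU⟩ | ⟨hyU, hxU⟩
    · obtain ⟨V, hV, hxV, hVU⟩ := hb.exists_subset_of_mem_open hxU hU
      exact ⟨_, hclopen V hV.1 hV.2, hxV, fun hyV => hyU (hVU hyV)⟩
    · obtain ⟨V, hV, hyV, hVU⟩ := hb.exists_subset_of_mem_open hyU hU
      refine ⟨_, (hclopen V hV.1 hV.2).compl, fun hxV => hxU (hVU hxV), ?_⟩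
      rw [compl_compl]
      exact hyV
  exact ⟨inferInstance, inferInstance⟩

end Groth.Agent.S7579
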