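import Groth.Statements.S7582
import Mathlib

set_option autoImplicit false
universe u
open PtTop

namespace Groth.Agent.S7582

open TopologicalSpace Topology in
/-- the open subset of the soberification attached to a subset `U` of `X` -/
def O {X : Type u} [TopologicalSpace X] (U : Set X) : Set (PtTop.Sob X) :=
  {Z : IrreducibleCloseds X | ((Z : Set X) ∩ U).Nonempty}

open TopologicalSpace Topology in
/-- a point of the soberification viewed as an irreducible closed subset -/
def ic {X : Type u} [TopologicalSpace X] (Z : PtTop.Sob X) : IrreducibleCloseds X := Z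

open TopologicalSpace Topology in
theorem mem_O {X : Type u} [TopologicalSpace X] (U : Set X) (Z : PtTop.Sob X) :
    Z ∈ O U ↔ ((ic Z : Set X) ∩ U).Nonempty := Iff.rfl

open TopologicalSpace Topology in
theorem isOpen_O {X : Type u} [TopologicalSpace X] {U : Set X} (hU : IsOpen U) :
    IsOpen (O U) :=
  TopologicalSpace.GenerateOpen.basic _ ⟨⟨U, hU⟩, rfl⟩

open TopologicalSpace Topology in
theorem isOpen_iff {X : Type u} [TopologicalSpace X] (S : Set (PtTop.Sob X)) :
    IsOpen S ↔ ∃ U : Set X, IsOpen U ∧ S = O U := by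
  constructor
  · intro hS
    change TopologicalSpace.GenerateOpen _ S at hS
    induction hS with
    | basic s hs =>
      obtain ⟨U, rfl⟩ := hs
      exact ⟨U, U.2, rfl⟩
    | univ =>
      refine ⟨Set.univ, isOpen_univ, ?_⟩
      ext Z
      simp only [Set.mem_univ, true_iff]
      rw [mem_O, Set.inter_univ]
      exact (ic Z).isIrreducible.nonempty
    | inter s t _ _ ihs iht =>
      obtain ⟨U, hU, rfl⟩ := ihs
      obtain ⟨V, hV, rfl⟩ := iht
      refine ⟨U ∩ V, hU.inter hV, ?_⟩
      ext Z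
      constructor
      · rintro ⟨h1, h2⟩
        exact (ic Z).isIrreducible.isPreirreducible U V hU hV h1 h2
      · rintro ⟨x, hxZ, hxU, hxV⟩
        exact ⟨⟨x, hxZ, hxU⟩, ⟨x, hxZ, hxV⟩⟩
    | sUnion 𝒮 _ ih =>
      choose U hU hSU using ih
      refine ⟨⋃ (s : Set (PtTop.Sob X)) (hs : s ∈ 𝒮), U s hs, isOpen_iUnion fun s => isOpen_iUnion fun hs => hU s hs, ?_⟩
      ext Z
      constructor
      · rintro ⟨s, hs, hZs⟩
        rw [hSU s hs] at hZs
        obtain ⟨x, hxZ, hxU⟩ := hZs
        exact ⟨x, hxZ, Set.mem_iUnion₂.mpr ⟨s, hs, hxU⟩⟩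
      · rintro ⟨x, hxZ, hxU⟩
        obtain ⟨s, hs, hxs⟩ := Set.mem_iUnion₂.mp hxU
        refine ⟨s, hs, ?_⟩
        rw [hSU s hs]
        exact ⟨x, hxZ, hxs⟩
  · rintro ⟨U, hU, rfl⟩
    exact isOpen_O hU

open TopologicalSpace Topology in
theorem toSob_preimage_O {X : Type u} [TopologicalSpace X] {U : Set X} (hU : IsOpen U) :
    PtTop.toSob X ⁻¹' O U = U := by
  ext x
  change (closure {x} ∩ U).Nonempty ↔ x ∈ U
  rw [closure_inter_open_nonempty_iff hU]
  simp


open TopologicalSpace Topology in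
theorem continuous_toSob {X : Type u} [TopologicalSpace X] : Continuous (PtTop.toSob X) := by
  rw [continuous_def]
  intro S hS
  obtain ⟨U, hU, rfl⟩ := (isOpen_iff S).mp hS
  rw [toSob_preimage_O hU]
  exact hU

open TopologicalSpace Topology in
theorem ic_injective {X : Type u} [TopologicalSpace X] : Function.Injective (ic (X := X)) :=
  fun _ _ h => h

open TopologicalSpace Topology in
theorem not_mem_O_iff {X : Type u} [TopologicalSpace X] (U : Set X) (Z : PtTop.Sob X) :
    Z ∉ O U ↔ (ic Z : Set X) ⊆ Uᶜ := by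
  rw [mem_O, Set.not_nonempty_iff_eq_empty, ← Set.disjoint_iff_inter_eq_empty,
    Set.subset_compl_iff_disjoint_right]

open TopologicalSpace Topology in
theorem t0Space_sob {X : Type u} [TopologicalSpace X] : T0Space (PtTop.Sob X) := by
  refine ⟨fun Z Z' h => ?_⟩
  rw [inseparable_iff_forall_isOpen] at h
  have key : ∀ A B : PtTop.Sob X, (∀ s, IsOpen s → (A ∈ s ↔ B ∈ s)) →
      (ic A : Set X) ⊆ (ic B : Set X) := by
    intro A B hAB
    have h1 : B ∉ O (ic B : Set X)ᶜ := by
      rw [not_mem_O_iff, compl_compl]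
    have h2 : A ∉ O (ic B : Set X)ᶜ := fun hA =>
      h1 ((hAB _ (isOpen_O (ic B).isClosed.isOpen_compl)).mp hA)
    rw [not_mem_O_iff, compl_compl] at h2
    exact h2
  apply ic_injective
  exact IrreducibleCloseds.ext (Set.Subset.antisymm (key Z Z' h) (key Z' Z fun s hs => (h s hs).symm))

open TopologicalSpace Topology in
theorem quasiSober_sob {X : Type u} [TopologicalSpace X] : QuasiSober (PtTop.Sob X) := by
  refine ⟨fun {S} hS hSc => ?_⟩
  obtain ⟨U, hU, hSU⟩ := (isOpen_iff Sᶜ).mp hSc.isOpen_compl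
  have hmem : ∀ Z : PtTop.Sob X, Z ∈ S ↔ (ic Z : Set X) ⊆ Uᶜ := by
    intro Z
    rw [← not_mem_O_iff, ← hSU, Set.mem_compl_iff, not_not]
  have hCcl : IsClosed Uᶜ := hU.isClosed_compl
  have hCirr : IsIrreducible Uᶜ := by
    constructor
    · obtain ⟨Z, hZ⟩ := hS.nonempty
      obtain ⟨x, hx⟩ := (ic Z).isIrreducible.nonempty
      exact ⟨x, (hmem Z).mp hZ hx⟩
    · intro u v hu hv ⟨x, hxC, hxu⟩ ⟨y, hyC, hyv⟩
      have hx1 : PtTop.toSob X x ∈ S := by
        rw [hmem]
        exact closure_minimal (Set.singleton_subset_iff.mpr hxC) hCcl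
      have hy1 : PtTop.toSob X y ∈ S := by
        rw [hmem]
        exact closure_minimal (Set.singleton_subset_iff.mpr hyC) hCcl
      have hx2 : PtTop.toSob X x ∈ O u := ⟨x, subset_closure rfl, hxu⟩
      have hy2 : PtTop.toSob X y ∈ O v := ⟨y, subset_closure rfl, hyv⟩
      obtain ⟨Z, hZS, hZu, hZv⟩ := hS.isPreirreducible (O u) (O v) (isOpen_O hu) (isOpen_O hv)
        ⟨_, hx1, hx2⟩ ⟨_, hy1, hy2⟩
      obtain ⟨z, hzZ, hzuv⟩ := (ic Z).isIrreducible.isPreirreducible u v hu hv hZu hZv
      exact ⟨z, (hmem Z).mp hZS hzZ, hzuv⟩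
  let C₀ : PtTop.Sob X := (⟨Uᶜ, hCirr, hCcl⟩ : IrreducibleCloseds X)
  have hC₀S : C₀ ∈ S := (hmem C₀).mpr subset_rfl
  refine ⟨C₀, ?_⟩
  rw [isGenericPoint_iff_forall_closed hSc hC₀S]
  intro T hT hC₀T Z hZS
  obtain ⟨V, hV, hTV⟩ := (isOpen_iff Tᶜ).mp hT.isOpen_compl
  have h1 : C₀ ∉ O V := by
    rw [← hTV]; exact fun h => h hC₀T
  rw [not_mem_O_iff] at h1
  have h2 : Z ∉ O V := by
    rw [not_mem_O_iff]
    exact ((hmem Z).mp hZS).trans h1
  rw [← hTV, Set.mem_compl_iff, not_not] at h2
  exact h2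

open TopologicalSpace Topology in
theorem exists_factor {X : Type u} [TopologicalSpace X] (Y : Type u) [TopologicalSpace Y]
    [QuasiSober Y] [T0Space Y] (f : X → Y) (hf : Continuous f) :
    ∃ g : PtTop.Sob X → Y, Continuous g ∧ g ∘ PtTop.toSob X = f := by
  have hirr : ∀ Z : PtTop.Sob X, IsIrreducible (f '' (ic Z : Set X)) := fun Z =>
    (ic Z).isIrreducible.image f hf.continuousOn
  let g : PtTop.Sob X → Y := fun Z => (hirr Z).genericPoint
  have hg : ∀ Z, IsGenericPoint (g Z) (closure (f '' (ic Z : Set X))) := fun Z =>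
    (hirr Z).isGenericPoint_genericPoint_closure
  refine ⟨g, ?_, ?_⟩
  · rw [continuous_def]
    intro V hV
    have : g ⁻¹' V = O (f ⁻¹' V) := by
      ext Z
      rw [Set.mem_preimage, (hg Z).mem_open_set_iff hV, closure_inter_open_nonempty_iff hV, mem_O]
      constructor
      · rintro ⟨_, ⟨x, hx, rfl⟩, hxV⟩
        exact ⟨x, hx, hxV⟩
      · rintro ⟨x, hx, hxV⟩
        exact ⟨f x, ⟨x, hx, rfl⟩, hxV⟩
    rw [this]
    exact isOpen_O (hV.preimage hf)
  · funext x
    refine (hg (PtTop.toSob X x)).eq ?_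
    rw [isGenericPoint_def]
    apply Set.Subset.antisymm
    · exact closure_mono (Set.singleton_subset_iff.mpr ⟨x, subset_closure rfl, rfl⟩)
    · refine closure_minimal ?_ isClosed_closure
      have : (ic (PtTop.toSob X x) : Set X) = closure {x} := rfl
      rw [this]
      refine (image_closure_subset_closure_image hf).trans ?_
      rw [Set.image_singleton]

open TopologicalSpace Topology in
theorem aux (X : Type u) [TopologicalSpace X] :
    QuasiSober (PtTop.Sob X) ∧ T0Space (PtTop.Sob X) ∧ Continuous (PtTop.toSob X) ∧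
    Set.BijOn (fun U' : Set (PtTop.Sob X) => PtTop.toSob X ⁻¹' U') {U' | IsOpen U'} {U : Set X | IsOpen U} ∧
    ∀ (Y : Type u) [TopologicalSpace Y] [QuasiSober Y] [T0Space Y] (f : X → Y), Continuous f →
      ∃ g : PtTop.Sob X → Y, Continuous g ∧ g ∘ PtTop.toSob X = f := by
  refine ⟨quasiSober_sob, t0Space_sob, continuous_toSob, ⟨?_, ?_, ?_⟩, ?_⟩
  · intro S hS
    exact (hS : IsOpen S).preimage continuous_toSob
  · intro S hS S' hS' h
    obtain ⟨U, hU, rfl⟩ := (isOpen_iff S).mp hS
    obtain ⟨V, hV, rfl⟩ := (isOpen_iff S').mp hS'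
    simp only [toSob_preimage_O hU, toSob_preimage_O hV] at h
    rw [h]
  · intro U hU
    exact ⟨O U, isOpen_O hU, toSob_preimage_O hU⟩
  · intro Y _ _ _ f hf
    exact exists_factor Y f hf

/-- Let X be a topological space and c : X → X′ the canonical map to its soberification (X′ =
irreducible closed subsets of X, with opens the sets of those meeting a given open of X; c(x) =
closure of {x}). Then X′ is sober, c is continuous, the rule U′ ↦ c⁻¹(U′) is a bijection from the
open subsets of X′ onto the open subsets of X (it automatically respects finite intersections and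
arbitrary unions), and every continuous map from X to a sober space Y is of the form g ∘ c for a
continuous g : X′ → Y. The published statement also asserts that g is unique and that c(X) is a
Kolmogorov space universal for maps to Kolmogorov spaces; this row omits those clauses and lets Y
range over the universe of X. -/
theorem result (X : Type u) [TopologicalSpace X] :
    QuasiSober (PtTop.Sob X) ∧ T0Space (PtTop.Sob X) ∧ Continuous (PtTop.toSob X) ∧
    Set.BijOn (fun U' : Set (PtTop.Sob X) => PtTop.toSob X ⁻¹' U') {U' | IsOpen U'} {U : Set X | IsOpen U} ∧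
    ∀ (Y : Type u) [TopologicalSpace Y] [QuasiSober Y] [T0Space Y] (f : X → Y), Continuous f →
      ∃ g : PtTop.Sob X → Y, Continuous g ∧ g ∘ PtTop.toSob X = f := by
  exact aux X

end Groth.Agent.S7582
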