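import Groth.Statements.S7583
import Mathlib
import Groth.Agent.S7582

set_option autoImplicit false
universe u
open PtTop

namespace Groth.Agent.S7583

open Groth.Agent.S7582 in
theorem O_mono {X : Type u} [TopologicalSpace X] {U V : Set X} (h : U ⊆ V) : O U ⊆ O V := by
  rintro Z ⟨x, hxZ, hxU⟩
  exact ⟨x, hxZ, h hxU⟩

open Groth.Agent.S7582 in
theorem O_iUnion {X : Type u} [TopologicalSpace X] {ι : Sort*} (U : ι → Set X) :
    O (⋃ i, U i) = ⋃ i, O (U i) := by
  ext Z
  constructor
  · rintro ⟨x, hxZ, hxU⟩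
    obtain ⟨i, hi⟩ := Set.mem_iUnion.mp hxU
    exact Set.mem_iUnion.mpr ⟨i, x, hxZ, hi⟩
  · intro h
    obtain ⟨i, x, hxZ, hi⟩ := Set.mem_iUnion.mp h
    exact ⟨x, hxZ, Set.mem_iUnion.mpr ⟨i, hi⟩⟩

open Groth.Agent.S7582 in
theorem O_inter {X : Type u} [TopologicalSpace X] {U V : Set X} (hU : IsOpen U) (hV : IsOpen V) :
    O (U ∩ V) = O U ∩ O V := by
  ext Z
  constructor
  · rintro ⟨x, hxZ, hxU, hxV⟩
    exact ⟨⟨x, hxZ, hxU⟩, ⟨x, hxZ, hxV⟩⟩
  · rintro ⟨h1, h2⟩
    exact (ic Z).isIrreducible.isPreirreducible U V hU hV h1 h2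

open Groth.Agent.S7582 in
theorem subset_of_O_subset {X : Type u} [TopologicalSpace X] {U V : Set X} (hU : IsOpen U)
    (hV : IsOpen V) (h : O U ⊆ O V) : U ⊆ V := by
  rw [← toSob_preimage_O hU, ← toSob_preimage_O hV]
  exact Set.preimage_mono h

open Groth.Agent.S7582 in
theorem isCompact_O_iff {X : Type u} [TopologicalSpace X] {U : Set X} (hU : IsOpen U) :
    IsCompact (O U) ↔ IsCompact U := by
  constructor
  · intro hc
    rw [isCompact_iff_finite_subcover]
    intro ι V hVo hcov
    obtain ⟨t, ht⟩ := hc.elim_finite_subcover (fun i => O (V i)) (fun i => isOpen_O (hVo i)) (by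
      rw [← O_iUnion]; exact O_mono hcov)
    refine ⟨t, subset_of_O_subset hU (isOpen_biUnion fun i _ => hVo i) ?_⟩
    simpa only [O_iUnion] using ht
  · intro hc
    rw [isCompact_iff_finite_subcover]
    intro ι W hWo hcov
    choose V hVo hVW using fun i => (isOpen_iff (W i)).mp (hWo i)
    have hUV : U ⊆ ⋃ i, V i := by
      refine subset_of_O_subset hU (isOpen_iUnion hVo) ?_
      rw [O_iUnion]
      simpa only [← hVW] using hcov
    obtain ⟨t, ht⟩ := hc.elim_finite_subcover V hVo hUV
    refine ⟨t, ?_⟩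
    have := O_mono ht
    simpa only [O_iUnion, ← hVW] using this

open Groth.Agent.S7582 in
theorem O_univ {X : Type u} [TopologicalSpace X] : O (Set.univ : Set X) = Set.univ := by
  ext Z
  simp only [Set.mem_univ, iff_true]
  rw [mem_O, Set.inter_univ]
  exact (ic Z).isIrreducible.nonempty

open Groth.Agent.S7582 in
theorem compactSpace_sob {X : Type u} [TopologicalSpace X] [CompactSpace X] :
    CompactSpace (PtTop.Sob X) := by
  refine ⟨?_⟩
  rw [← O_univ, isCompact_O_iff isOpen_univ]
  exact isCompact_univ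

open Groth.Agent.S7582 in
theorem spectralSpace_sob {X : Type u} [TopologicalSpace X] [CompactSpace X] [PrespectralSpace X]
    [QuasiSeparatedSpace X] : SpectralSpace (PtTop.Sob X) := by
  haveI := t0Space_sob (X := X)
  haveI := quasiSober_sob (X := X)
  haveI := compactSpace_sob (X := X)
  haveI : QuasiSeparatedSpace (PtTop.Sob X) := by
    refine ⟨fun S S' hS hSc hS' hS'c => ?_⟩
    obtain ⟨U, hU, rfl⟩ := (isOpen_iff S).mp hS
    obtain ⟨V, hV, rfl⟩ := (isOpen_iff S').mp hS'
    rw [← O_inter hU hV, isCompact_O_iff (hU.inter hV)]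
    exact QuasiSeparatedSpace.inter_isCompact U V hU ((isCompact_O_iff hU).mp hSc) hV
      ((isCompact_O_iff hV).mp hS'c)
  haveI : PrespectralSpace (PtTop.Sob X) := by
    refine PrespectralSpace.of_isTopologicalBasis
      (B := {S | ∃ K : Set X, IsOpen K ∧ IsCompact K ∧ S = O K}) ?_ ?_
    · refine TopologicalSpace.isTopologicalBasis_of_isOpen_of_nhds ?_ ?_
      · rintro _ ⟨K, hK, -, rfl⟩
        exact isOpen_O hK
      · intro Z S hZS hS
        obtain ⟨W, hW, rfl⟩ := (isOpen_iff S).mp hS
        obtain ⟨x, hxZ, hxW⟩ := hZS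
        obtain ⟨K, ⟨hKo, hKc⟩, hxK, hKW⟩ :=
          PrespectralSpace.isTopologicalBasis.exists_subset_of_mem_open hxW hW
        exact ⟨O K, ⟨K, hKo, hKc, rfl⟩, ⟨x, hxZ, hxK⟩, O_mono hKW⟩
    · rintro _ ⟨K, hK, hKc, rfl⟩
      exact (isCompact_O_iff hK).mpr hKc
  exact { }

open Groth.Agent.S7582 in
theorem aux (X : Type u) [TopologicalSpace X] :
    (CompactSpace X → CompactSpace (PtTop.Sob X)) ∧
    (CompactSpace X → PrespectralSpace X → QuasiSeparatedSpace X → SpectralSpace (PtTop.Sob X)) ∧
    (TopologicalSpace.NoetherianSpace X →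
      TopologicalSpace.NoetherianSpace (PtTop.Sob X) ∧ SpectralSpace (PtTop.Sob X)) := by
  refine ⟨fun _ => compactSpace_sob, fun _ _ _ => spectralSpace_sob, fun hN => ⟨?_, ?_⟩⟩
  · rw [TopologicalSpace.noetherianSpace_iff_opens]
    intro S
    obtain ⟨U, hU, hSU⟩ := (isOpen_iff (S : Set (PtTop.Sob X))).mp S.2
    rw [hSU, isCompact_O_iff hU]
    exact TopologicalSpace.NoetherianSpace.isCompact U
  · haveI : QuasiSeparatedSpace X :=
      ⟨fun U V _ _ _ _ => TopologicalSpace.NoetherianSpace.isCompact _⟩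
    exact spectralSpace_sob

/-- Let X be a topological space and c : X → X′ the canonical map to its soberification (X′ =
irreducible closed subsets of X, with opens the sets of those meeting a given open of X). (1)
Quasi-compactness of X passes to X′. (2) When X is quasi-compact, its quasi-compact opens form a
basis, and any two quasi-compact opens meet in a quasi-compact set, the soberification X′ is a
spectral space. (3) When X is Noetherian, X′ is both spectral and Noetherian. -/
theorem result (X : Type u) [TopologicalSpace X] :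
    (CompactSpace X → CompactSpace (PtTop.Sob X)) ∧
    (CompactSpace X → PrespectralSpace X → QuasiSeparatedSpace X → SpectralSpace (PtTop.Sob X)) ∧
    (TopologicalSpace.NoetherianSpace X →
      TopologicalSpace.NoetherianSpace (PtTop.Sob X) ∧ SpectralSpace (PtTop.Sob X)) := by
  exact aux X

end Groth.Agent.S7583
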