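import Groth.Statements.S7591
import Groth.Agent.Helper4.ConnFinSep
import Mathlib

set_option autoImplicit false
universe u
open CategoryTheory CategoryTheory.Limits AlgebraicGeometry
open Variety

namespace Groth.Agent.S7591


/-- For a scheme X over a field k, geometric connectedness of X over k holds exactly when, for each
finite separable extension field k' of k, the base change X_{k'} is a connected (so nonempty)
scheme. -/
theorem result (k : Type u) [Field k] (X : Scheme.{u}) [X.Over (Spec (CommRingCat.of k))] :
    GeometricallyConnected (X ↘ (Spec (CommRingCat.of k))) ↔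
      ∀ (k' : Type u) [Field k'] [Algebra k k'] [FiniteDimensional k k'] [Algebra.IsSeparable k k'],
        ConnectedSpace ↥(Curv2.bc k X k') := by

  constructor
  · intro h k' _ _ _ _
    exact (Groth.Agent.Helper4.GeomConnSch.geometricallyConnected_iff
      (X ↘ (Spec (CommRingCat.of k)))).mp h k'
  · intro h
    haveI : ConnectedSpace ↥(pullback (X ↘ (Spec (CommRingCat.of k)))
        (Spec.map (CommRingCat.ofHom (algebraMap k (SeparableClosure k))))) := by
      refine Groth.Agent.Helper4.ConnFinSep.connectedSpace_bc_of_forall_fd
        (X ↘ (Spec (CommRingCat.of k))) (SeparableClosure k) (fun E hE => ?_)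
      haveI : Algebra.IsSeparable k E :=
        Algebra.isSeparable_tower_bot_of_isSeparable k E (SeparableClosure k)
      exact h E
    exact Groth.Agent.Helper4.GeomConnSch.geometricallyConnected_of_sepClosure
      (X ↘ (Spec (CommRingCat.of k)))

end Groth.Agent.S7591
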