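import Groth.Statements.S7603
import Groth.Agent.Helper4.LocIntConn
import Groth.Agent.Helper4.GeomConnSch
import Mathlib

set_option autoImplicit false
universe u
open CategoryTheory CategoryTheory.Limits AlgebraicGeometry
open Variety

namespace Groth.Agent.S7603


/-- (2) ⇔ (3): let X be a proper scheme over a field k which is geometrically normal (X_K is a normal
scheme for every extension field K of k). Then X is geometrically connected over k exactly when it
is geometrically irreducible over k. (The published statement lists geometric integrality as a
further equivalent condition; given geometric normality it is equivalent to geometric irreducibility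
by a direct argument, so this row omits it.) -/
theorem result (k : Type u) [Field k] (X : Scheme.{u}) [X.Over (Spec (CommRingCat.of k))] [IsProper (X ↘ (Spec (CommRingCat.of k)))]
    (hX : ∀ (K : Type u) [Field K] [Algebra k K], Pi1.IsNormalScheme (Curv2.bc k X K)) :
    GeometricallyConnected (X ↘ (Spec (CommRingCat.of k))) ↔ GeometricallyIrreducible (X ↘ (Spec (CommRingCat.of k))) := by

  set f := X ↘ (Spec (CommRingCat.of k)) with hf
  constructor
  · intro hc
    rw [Groth.Agent.Helper4.GeomIrrSch.geometricallyIrreducible_iff]
    intro K _ _
    haveI : ConnectedSpace ↥(pullback f (Spec.map (CommRingCat.ofHom (algebraMap k K)))) :=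
      (Groth.Agent.Helper4.GeomConnSch.geometricallyConnected_iff f).mp hc K
    haveI : IsLocallyNoetherian (pullback f (Spec.map (CommRingCat.ofHom (algebraMap k K)))) :=
      LocallyOfFiniteType.isLocallyNoetherian
        (pullback.snd f (Spec.map (CommRingCat.ofHom (algebraMap k K))))
    haveI : CompactSpace ↥(pullback f (Spec.map (CommRingCat.ofHom (algebraMap k K)))) :=
      QuasiCompact.compactSpace_of_compactSpace
        (pullback.snd f (Spec.map (CommRingCat.ofHom (algebraMap k K))))
    haveI : IsNoetherian (pullback f (Spec.map (CommRingCat.ofHom (algebraMap k K)))) := {}
    exact Groth.Agent.Helper4.LocIntConn.irreducibleSpace_of_connectedSpace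
      (fun y => (hX K y).1) TopologicalSpace.NoetherianSpace.finite_irreducibleComponents
  · intro hi
    rw [Groth.Agent.Helper4.GeomConnSch.geometricallyConnected_iff]
    intro K _ _
    haveI := (Groth.Agent.Helper4.GeomIrrSch.geometricallyIrreducible_iff f).mp hi K
    infer_instance

end Groth.Agent.S7603
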