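import Groth.Statements.S7612
import Mathlib.AlgebraicGeometry.Morphisms.UniversallyOpen

set_option autoImplicit false
universe u
open CategoryTheory CategoryTheory.Limits AlgebraicGeometry
open Variety

namespace Groth.Agent.S7612

theorem key {P X Y S : Scheme.{u}} {p : P ⟶ X} {q : P ⟶ Y} {f : X ⟶ S} {g : Y ⟶ S}
    (h : IsPullback p q f g)
    (hopen : ∀ x : X, UniversallyOpen (X.fromSpecResidueField x ≫ f)) (A : Set X) (C : Set Y) :
    p ⁻¹' A ∩ q ⁻¹' (closure C) ⊆ closure (p ⁻¹' A ∩ q ⁻¹' C) := by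
  rintro w ⟨hwA, hwC⟩
  set a := p w with ha
  let ι := X.fromSpecResidueField a
  let r := pullback.fst p ι
  let s := pullback.snd p ι
  have hsq : IsPullback s (r ≫ q) (ι ≫ f) g :=
    ((IsPullback.of_hasPullback p ι).paste_horiz h.flip).flip
  haveI : UniversallyOpen (ι ≫ f) := hopen a
  haveI : UniversallyOpen (r ≫ q) :=
    MorphismProperty.of_isPullback (P := @UniversallyOpen) hsq inferInstance
  have hι : ∀ t : Spec (X.residueField a), ι t = a := fun t => by
    have : ι t ∈ Set.range ι := ⟨t, rfl⟩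
    rw [Scheme.range_fromSpecResidueField] at this
    exact this
  obtain ⟨w', hw'1, -⟩ := Scheme.Pullback.exists_preimage_pullback (f := p) (g := ι) w
    (Classical.arbitrary _) (by rw [hι])
  rw [mem_closure_iff]
  intro W hW hwW
  have hopenW : IsOpen ((r ≫ q) '' (r ⁻¹' W)) :=
    (r ≫ q).isOpenMap _ (hW.preimage r.continuous)
  have hmem : q w ∈ (r ≫ q) '' (r ⁻¹' W) := by
    refine ⟨w', ?_, ?_⟩
    · show r w' ∈ W
      rw [hw'1]; exact hwW
    · rw [Scheme.Hom.comp_apply, hw'1]
  obtain ⟨c, hc1, hcC⟩ := mem_closure_iff.mp hwC _ hopenW hmem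
  obtain ⟨w'', hw''W, hw''c⟩ := hc1
  refine ⟨r w'', hw''W, ?_, ?_⟩
  · show p (r w'') ∈ A
    have : p (r w'') = ι (s w'') := by
      rw [← Scheme.Hom.comp_apply, ← Scheme.Hom.comp_apply, pullback.condition]
    rw [this, hι]; exact hwA
  · show q (r w'') ∈ C
    rw [← Scheme.Hom.comp_apply, hw''c]; exact hcC

theorem aux (k : Type u) [Field k] (X : Scheme.{u}) [X.Over (Spec (CommRingCat.of k))] (Y : Scheme.{u}) [Y.Over (Spec (CommRingCat.of k))] (A : Set ↥X) (B : Set ↥Y) :
    closure ((pullback.fst (X ↘ (Spec (CommRingCat.of k))) (Y ↘ (Spec (CommRingCat.of k)))).base ⁻¹' A ∩ (pullback.snd (X ↘ (Spec (CommRingCat.of k))) (Y ↘ (Spec (CommRingCat.of k)))).base ⁻¹' B) =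
      (pullback.fst (X ↘ (Spec (CommRingCat.of k))) (Y ↘ (Spec (CommRingCat.of k)))).base ⁻¹' closure A ∩ (pullback.snd (X ↘ (Spec (CommRingCat.of k))) (Y ↘ (Spec (CommRingCat.of k)))).base ⁻¹' closure B := by
  set f := X ↘ (Spec (CommRingCat.of k))
  set g := Y ↘ (Spec (CommRingCat.of k))
  set p := pullback.fst f g
  set q := pullback.snd f g
  have h : IsPullback p q f g := IsPullback.of_hasPullback f g
  apply subset_antisymm
  · apply closure_minimal
    · exact Set.inter_subset_inter (Set.preimage_mono subset_closure)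
        (Set.preimage_mono subset_closure)
    · exact (isClosed_closure.preimage p.continuous).inter (isClosed_closure.preimage q.continuous)
  · have h1 : p ⁻¹' A ∩ q ⁻¹' (closure B) ⊆ closure (p ⁻¹' A ∩ q ⁻¹' B) :=
      key h (fun x => inferInstance) A B
    have h2 : q ⁻¹' (closure B) ∩ p ⁻¹' (closure A) ⊆ closure (q ⁻¹' (closure B) ∩ p ⁻¹' A) :=
      key h.flip (fun x => inferInstance) (closure B) A
    intro z hz
    have hz' : z ∈ closure (q ⁻¹' (closure B) ∩ p ⁻¹' A) := h2 ⟨hz.2, hz.1⟩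
    rw [Set.inter_comm] at hz'
    exact closure_minimal h1 isClosed_closure hz'

/-- Let X and Y be schemes over a field k and A ⊆ X, B ⊆ Y subsets. Inside X ×_k Y, the closure of the
set of points projecting into A and into B equals the set of points projecting into the closure of A
and into the closure of B. -/
theorem result (k : Type u) [Field k] (X : Scheme.{u}) [X.Over (Spec (CommRingCat.of k))] (Y : Scheme.{u}) [Y.Over (Spec (CommRingCat.of k))] (A : Set ↥X) (B : Set ↥Y) :
    closure ((pullback.fst (X ↘ (Spec (CommRingCat.of k))) (Y ↘ (Spec (CommRingCat.of k)))).base ⁻¹' A ∩ (pullback.snd (X ↘ (Spec (CommRingCat.of k))) (Y ↘ (Spec (CommRingCat.of k)))).base ⁻¹' B) =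
      (pullback.fst (X ↘ (Spec (CommRingCat.of k))) (Y ↘ (Spec (CommRingCat.of k)))).base ⁻¹' closure A ∩ (pullback.snd (X ↘ (Spec (CommRingCat.of k))) (Y ↘ (Spec (CommRingCat.of k)))).base ⁻¹' closure B := by
  exact aux k X Y A B

end Groth.Agent.S7612
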