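import Groth.Statements.S7614
import Mathlib
import Groth.Agent.Lead.QAff3

set_option autoImplicit false
universe u
open CategoryTheory CategoryTheory.Limits AlgebraicGeometry
open Variety

namespace Groth.Agent.S7614

/-- Let X be a scheme over a field k and K an extension field of k. If X_K is quasi-affine, then X is
quasi-affine. -/
theorem result (k : Type u) [Field k] (X : Scheme.{u}) [X.Over (Spec (CommRingCat.of k))] (K : Type u) [Field K] [Algebra k K]
    [(Curv2.bc k X K).IsQuasiAffine] : X.IsQuasiAffine := by
  have sq := IsPullback.of_hasPullback (X ↘ Spec (CommRingCat.of k))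
    (Spec.map (CommRingCat.ofHom (algebraMap k K)))
  have hflat : Flat (Spec.map (CommRingCat.ofHom (algebraMap k K))) := by
    rw [HasRingHomProperty.Spec_iff (P := @Flat)]
    simp only [CommRingCat.hom_ofHom]
    rw [RingHom.flat_algebraMap_iff]
    infer_instance
  have hsurj : Surjective (Spec.map (CommRingCat.ofHom (algebraMap k K))) := by
    constructor
    intro y
    obtain ⟨x⟩ : Nonempty (Spec (CommRingCat.of K)) := inferInstance
    refine ⟨x, ?_⟩
    have : Subsingleton (Spec (CommRingCat.of k)) :=
      inferInstanceAs (Subsingleton (PrimeSpectrum k))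
    exact Subsingleton.elim _ _
  have hs : Surjective (pullback.fst (X ↘ Spec (CommRingCat.of k))
      (Spec.map (CommRingCat.ofHom (algebraMap k K)))) := inferInstance
  have hc : CompactSpace X := by
    constructor
    have h1 := (isCompact_univ (X := (Curv2.bc k X K))).image (pullback.fst (X ↘ Spec (CommRingCat.of k))
      (Spec.map (CommRingCat.ofHom (algebraMap k K)))).continuous
    rwa [Set.image_univ, Set.range_eq_univ.mpr hs.surj] at h1
  exact Groth.Agent.Lead.QAff.isQuasiAffine_of_isPullback sq

end Groth.Agent.S7614
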