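import Groth.Statements.S7618


set_option autoImplicit false
universe u
open CategoryTheory CategoryTheory.Limits AlgebraicGeometry
open Variety

namespace Groth.Agent.S7618

open Polynomial in
theorem isField_aux {k A : Type*} [Field k] [CommRing A] [Algebra k A] [Algebra.IsIntegral k A]
    [IsReduced A] [Nontrivial A] (hidem : ∀ e : A, IsIdempotentElem e → e = 0 ∨ e = 1) :
    IsField A := by
  refine ⟨exists_pair_ne A, mul_comm, fun {a} ha => ?_⟩
  have hint : IsIntegral k a := Algebra.IsIntegral.isIntegral a
  have hp0 : minpoly k a ≠ 0 := minpoly.ne_zero hint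
  obtain ⟨q, hq, hndvd⟩ :=
    Polynomial.exists_eq_pow_rootMultiplicity_mul_and_not_dvd (minpoly k a) hp0 0
  set m := (minpoly k a).rootMultiplicity 0 with hm
  simp only [map_zero, sub_zero] at hq hndvd
  have hcop : IsCoprime ((X : k[X]) ^ (m + 1)) q := by
    apply IsCoprime.pow_left
    exact (Polynomial.irreducible_X (R := k)).coprime_iff_not_dvd.mpr hndvd
  obtain ⟨u, v, huv⟩ := hcop
  have h0 : a ^ (m + 1) * aeval a q = 0 := by
    have h1 : aeval a (minpoly k a) = 0 := minpoly.aeval k a
    rw [hq] at h1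
    simp only [map_mul, map_pow, aeval_X] at h1
    rw [pow_succ, mul_assoc, mul_comm a, ← mul_assoc, h1, zero_mul]
  have hef : aeval a u * a ^ (m + 1) + aeval a v * aeval a q = 1 := by
    have := congrArg (aeval a) huv
    simpa only [map_add, map_mul, map_pow, aeval_X, map_one] using this
  set e := aeval a v * aeval a q with he
  set f := aeval a u * a ^ (m + 1) with hf
  have hfe : f * e = 0 := by
    rw [he, hf]
    calc aeval a u * a ^ (m + 1) * (aeval a v * aeval a q)
        = aeval a u * aeval a v * (a ^ (m + 1) * aeval a q) := by ring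
      _ = 0 := by rw [h0, mul_zero]
  have hidem_e : IsIdempotentElem e := by
    have : e = e * (f + e) := by rw [hef, mul_one]
    unfold IsIdempotentElem
    rw [mul_add, mul_comm e f, hfe, zero_add] at this
    exact this.symm
  rcases hidem e hidem_e with h | h
  · refine ⟨aeval a u * a ^ m, ?_⟩
    rw [h, add_zero] at hef
    rw [← hef, hf, pow_succ]; ring
  · exfalso
    have hf0 : f = 0 := by rw [h] at hef; exact add_eq_right.mp hef
    have : a ^ (m + 1) = 0 := by
      calc a ^ (m + 1) = a ^ (m + 1) * (f + e) := by rw [hef, mul_one]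
        _ = a ^ (m + 1) * f + aeval a v * (a ^ (m + 1) * aeval a q) := by rw [he]; ring
        _ = 0 := by rw [hf0, h0]; simp
    exact ha (IsNilpotent.eq_zero ⟨_, this⟩)

theorem idem_trivial (X : Scheme.{u}) [ConnectedSpace ↥X] [IsReduced X] (e : Γ(X, ⊤))
    (he : IsIdempotentElem e) : e = 0 ∨ e = 1 := by
  have hdisj : X.basicOpen e ⊓ X.basicOpen (1 - e) = ⊥ := by
    rw [← Scheme.basicOpen_mul]
    have : e * (1 - e) = 0 := by rw [mul_sub, mul_one, he.eq, sub_self]
    rw [this, Scheme.basicOpen_zero]
  have hcov : ∀ x : X, x ∈ X.basicOpen e ∨ x ∈ X.basicOpen (1 - e) := by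
    intro x
    have hx : x ∈ (⊤ : X.Opens) := trivial
    rw [Scheme.mem_basicOpen _ _ _ hx, Scheme.mem_basicOpen _ _ _ hx]
    apply IsLocalRing.isUnit_or_isUnit_of_add_one
    rw [← map_add]; simp
  have hclopen : IsClopen (X.basicOpen e : Set X) := by
    refine ⟨?_, (X.basicOpen e).isOpen⟩
    have : (X.basicOpen e : Set X) = ((X.basicOpen (1 - e) : Set X))ᶜ := by
      ext x
      constructor
      · intro hx hx'
        have : x ∈ X.basicOpen e ⊓ X.basicOpen (1 - e) := ⟨hx, hx'⟩
        rw [hdisj] at this; exact this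
      · intro hx
        rcases hcov x with h | h
        · exact h
        · exact absurd h hx
    rw [this]
    exact (X.basicOpen (1 - e)).isOpen.isClosed_compl
  rcases isClopen_iff.mp hclopen with h | h
  · left
    have : X.basicOpen e = ⊥ := by ext1; simpa using h
    exact (AlgebraicGeometry.basicOpen_eq_bot_iff e).mp this
  · right
    have : X.basicOpen (1 - e) = ⊥ := by
      rw [eq_bot_iff]
      intro x hx
      have hx' : x ∈ X.basicOpen e := by
        show x ∈ (X.basicOpen e : Set X); rw [h]; trivial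
      have : x ∈ X.basicOpen e ⊓ X.basicOpen (1 - e) := ⟨hx', hx⟩
      rw [hdisj] at this; exact this
    have := (AlgebraicGeometry.basicOpen_eq_bot_iff (1 - e)).mp this
    exact (sub_eq_zero.mp this).symm

theorem aux (k : Type u) [Field k] (X : Scheme.{u}) [X.Over (Spec (CommRingCat.of k))] [ConnectedSpace ↥X] [IsReduced X] :
    letI := ((X ↘ (Spec (CommRingCat.of k))).appTop.hom.comp (Scheme.ΓSpecIso (CommRingCat.of k)).inv.hom : k →+* Γ(X, ⊤)).toAlgebra
    IsField ↥(integralClosure k ↑Γ(X, ⊤)) := by
  letI alg : Algebra k Γ(X, ⊤) := ((X ↘ (Spec (CommRingCat.of k))).appTop.hom.comp (Scheme.ΓSpecIso (CommRingCat.of k)).inv.hom : k →+* Γ(X, ⊤)).toAlgebra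
  show IsField ↥(integralClosure k ↑Γ(X, ⊤))
  haveI : Nonempty X := inferInstance
  haveI : Nonempty (⊤ : X.Opens) := ⟨⟨Classical.arbitrary X, trivial⟩⟩
  haveI : Nontrivial Γ(X, ⊤) := inferInstance
  haveI : IsReduced ↥(integralClosure k ↑Γ(X, ⊤)) :=
    isReduced_of_injective (integralClosure k ↑Γ(X, ⊤)).val Subtype.val_injective
  apply isField_aux (k := k)
  intro e he
  have := idem_trivial X (e : Γ(X, ⊤)) (by
    unfold IsIdempotentElem at he ⊢
    exact_mod_cast congrArg Subtype.val he)
  rcases this with h | h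
  · left; exact Subtype.ext h
  · right; exact Subtype.ext h

/-- Let X be a connected reduced scheme over a field k. Then the global functions on X that are integral
over k form a field. -/
theorem result (k : Type u) [Field k] (X : Scheme.{u}) [X.Over (Spec (CommRingCat.of k))] [ConnectedSpace ↥X] [IsReduced X] :
    letI := ((X ↘ (Spec (CommRingCat.of k))).appTop.hom.comp (Scheme.ΓSpecIso (CommRingCat.of k)).inv.hom : k →+* Γ(X, ⊤)).toAlgebra
    IsField ↥(integralClosure k ↑Γ(X, ⊤)) := by
  exact aux k X

end Groth.Agent.S7618
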