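import Groth.Statements.S7632
import Groth.Agent.Helper5.GSSd

set_option autoImplicit false
universe u
open CategoryTheory CategoryTheory.Limits AlgebraicGeometry
open Variety

namespace Groth.Agent.S7632

/-- Let X be a scheme of finite type over a field k. Then one can find a finite purely inseparable field
extension k'/k, some t ≥ 0, and a descending chain Z_0 ⊇ … ⊇ Z_t = ∅ of closed subschemes of X_{k'},
given by an increasing chain of quasi-coherent ideal sheaves I_0 ≤ … ≤ I_t = O on X_{k'}, such that
Z_0 = (X_{k'})_red (I_0 is the ideal of nilpotents) and the open subscheme Z_i ∖ Z_{i+1} of Z_i is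
smooth over k' for every i < t. -/
theorem result (k : Type u) [Field k] (X : Scheme.{u}) [X.Over (Spec (CommRingCat.of k))] [LocallyOfFiniteType (X ↘ (Spec (CommRingCat.of k)))] [QuasiCompact (X ↘ (Spec (CommRingCat.of k)))] :
    ∃ (k' : Type u) (_ : Field k') (_ : Algebra k k') (_ : FiniteDimensional k k') (_ : IsPurelyInseparable k k')
      (t : ℕ) (I : Fin (t + 1) → (Curv2.bc k X k').IdealSheafData),
      Monotone I ∧ I 0 = Scheme.IdealSheafData.vanishingIdeal ⊤ ∧ I (Fin.last t) = ⊤ ∧
        ∀ i : Fin t,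
          Smooth (((I i.castSucc).subschemeι ⁻¹ᵁ (I i.succ).support.compl).ι ≫ (I i.castSucc).subschemeι ≫ Curv2.bcSnd k X k') := by
  obtain ⟨k', _, _, _, _, t, C, hC, hC0, hCl, hCs⟩ :=
    Groth.Agent.Helper5.GSS.chain_all (X ↘ Spec (CommRingCat.of k)) ⊤
  refine ⟨k', inferInstance, inferInstance, inferInstance, inferInstance, t,
    fun i => Scheme.IdealSheafData.vanishingIdeal
      (Groth.Agent.Helper5.GSS.pre (Curv2.bcFst k X k') (C i)), ?_, ?_, ?_, ?_⟩
  · rw [Fin.monotone_iff_le_succ]
    intro i
    apply Scheme.IdealSheafData.vanishingIdeal_antimono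
    intro x hx
    exact hC i hx
  · show Scheme.IdealSheafData.vanishingIdeal
      (Groth.Agent.Helper5.GSS.pre (Curv2.bcFst k X k') (C 0)) = _
    rw [hC0]
    congr 1
  · show Scheme.IdealSheafData.vanishingIdeal
      (Groth.Agent.Helper5.GSS.pre (Curv2.bcFst k X k') (C (Fin.last t))) = _
    rw [hCl]
    have h0 : Groth.Agent.Helper5.GSS.pre (Curv2.bcFst k X k') ⊥ = ⊥ :=
      TopologicalSpace.Closeds.ext rfl
    rw [h0, Scheme.IdealSheafData.vanishingIdeal_bot]
  · intro i
    show Smooth (((Scheme.IdealSheafData.vanishingIdeal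
      (Groth.Agent.Helper5.GSS.pre (Curv2.bcFst k X k') (C i.castSucc))).subschemeι ⁻¹ᵁ
        (Scheme.IdealSheafData.vanishingIdeal
          (Groth.Agent.Helper5.GSS.pre (Curv2.bcFst k X k') (C i.succ))).support.compl).ι ≫
      (Scheme.IdealSheafData.vanishingIdeal
        (Groth.Agent.Helper5.GSS.pre (Curv2.bcFst k X k') (C i.castSucc))).subschemeι ≫
      Curv2.bcSnd k X k')
    rw [Groth.Agent.Helper5.GSS.support_vanishingIdeal]
    have h := hCs i
    unfold Groth.Agent.Helper5.GSS.Str Groth.Agent.Helper5.GSS.StrG at h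
    rw [Category.assoc] at h
    exact h

end Groth.Agent.S7632
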