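import Groth.Statements.S7653
import Mathlib

set_option autoImplicit false
universe u
open CategoryTheory CategoryTheory.Limits AlgebraicGeometry
open Variety

namespace Groth.Agent.S7653


section aux
variable {A : Type u} [CommRing A]

/-- In a reduced ring, an element of a minimal prime is killed by an element outside. -/
theorem exists_notMem_mul_eq_zero [IsReduced A] {p : Ideal A} (hp : p ∈ minimalPrimes A) {x : A}
    (hx : x ∈ p) : ∃ u : A, u ∉ p ∧ u * x = 0 := by
  haveI : p.IsPrime := hp.1.1
  have hrad := IsLocalization.AtPrime.radical_map_of_mem_minimalPrimes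
    (A := Localization.AtPrime p) p ⊥ hp
  have hmem : algebraMap A (Localization.AtPrime p) x ∈
      (p.map (algebraMap A (Localization.AtPrime p))) := Ideal.mem_map_of_mem _ hx
  rw [← hrad, Ideal.map_bot] at hmem
  obtain ⟨K, hK⟩ := hmem
  have hK' : algebraMap A (Localization.AtPrime p) (x ^ K) = 0 := by
    rw [map_pow]; simpa using hK
  obtain ⟨u, hu⟩ := (IsLocalization.map_eq_zero_iff p.primeCompl _ _).mp hK'
  refine ⟨u, u.2, ?_⟩
  have : (u * x) ^ (K + 1) = 0 := by
    have : ((u : A) * x) ^ (K + 1) = (u : A) ^ K * x * (u * x ^ K) := by ring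
    rw [this, hu, mul_zero]
  exact IsReduced.eq_zero _ ⟨K + 1, this⟩

theorem noZeroDivisors_of_intClosed [IsLocalRing A] [IsReduced A] [IsNoetherianRing A]
    (hcl : ∀ x : FractionRing A, IsIntegral A x → ∃ y : A, algebraMap A (FractionRing A) y = x) :
    NoZeroDivisors A := by
  classical
  refine ⟨fun {x y₀} hxy => ?_⟩
  by_contra hcon
  push Not at hcon
  obtain ⟨hx0, hy0⟩ := hcon
  set I : Ideal A := Ideal.span {x} ⊔ (Ideal.span {x}).annihilator with hI
  have hImin : ∀ p ∈ minimalPrimes A, ¬ I ≤ p := by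
    intro p hp hle
    have hxp : x ∈ p := hle (Ideal.mem_sup_left (Ideal.mem_span_singleton_self x))
    obtain ⟨u, hup, hux⟩ := exists_notMem_mul_eq_zero hp hxp
    apply hup
    apply hle
    apply Ideal.mem_sup_right
    rw [Submodule.mem_annihilator_span_singleton, smul_eq_mul, hux]
  have hfin := minimalPrimes.finite_of_isNoetherianRing A
  have hnot : ¬ ((I : Set A) ⊆ ⋃ p ∈ (hfin.toFinset : Set (Ideal A)), (p : Set A)) := by
    intro hsub
    obtain ⟨p, hp, hle⟩ := (Ideal.subset_union_prime (s := hfin.toFinset) (f := fun p => p) ⊥ ⊥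
      (fun p hp _ _ => ((hfin.mem_toFinset).mp hp).1.1)).mp hsub
    exact hImin p ((hfin.mem_toFinset).mp hp) hle
  obtain ⟨n, hnI, hn⟩ := Set.not_subset.mp hnot
  have hnmin : ∀ p ∈ minimalPrimes A, n ∉ p := by
    intro p hp hnp
    apply hn
    exact Set.mem_biUnion (show p ∈ (hfin.toFinset : Set (Ideal A)) from
      Finset.mem_coe.mpr ((hfin.mem_toFinset).mpr hp)) hnp
  have hnz : n ∈ nonZeroDivisors A := by
    rw [mem_nonZeroDivisors_iff_right]
    intro w hw
    have hwnil : w ∈ nilradical A := by
      rw [nilradical, ← Ideal.sInf_minimalPrimes]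
      refine Submodule.mem_sInf.mpr fun (p : Ideal A) hp => ?_
      have hpp : p.IsPrime := hp.1.1
      have : w * n ∈ p := hw ▸ p.zero_mem
      exact (hpp.mem_or_mem this).resolve_right (hnmin p hp)
    rw [nilradical_eq_zero] at hwnil
    simpa using hwnil
  obtain ⟨s, hs, t, ht, hst⟩ := Submodule.mem_sup.mp hnI
  obtain ⟨a, rfl⟩ := Ideal.mem_span_singleton'.mp hs
  rw [Submodule.mem_annihilator_span_singleton, smul_eq_mul] at ht
  -- the idempotent
  have hunit : IsUnit (algebraMap A (FractionRing A) n) :=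
    IsLocalization.map_units (FractionRing A) (⟨n, hnz⟩ : nonZeroDivisors A)
  obtain ⟨v, hv⟩ := hunit.exists_right_inv
  set σ := algebraMap A (FractionRing A) (a * x) with hσ
  set τ := algebraMap A (FractionRing A) t with hτ
  set υ := algebraMap A (FractionRing A) n with hυ
  have h2 : σ * τ = 0 := by
    rw [hσ, hτ, ← map_mul, mul_assoc, mul_comm x t, ht, mul_zero, map_zero]
  have h3 : υ = σ + τ := by rw [hυ, hσ, hτ, ← map_add, hst]
  have hidem : σ * v * (σ * v) = σ * v := by
    linear_combination (σ * v) * hv - (σ * v ^ 2) * h3 - v ^ 2 * h2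
  have hint : IsIntegral A (σ * v) := by
    refine ⟨Polynomial.X ^ 2 - Polynomial.X, Polynomial.monic_X_pow_sub ?_, ?_⟩
    · rw [Polynomial.degree_X]; norm_num
    · simp only [Polynomial.eval₂_sub, Polynomial.eval₂_pow, Polynomial.eval₂_X]
      rw [pow_two, hidem, sub_self]
  obtain ⟨c, hc⟩ := hcl _ hint
  have hinj : Function.Injective (algebraMap A (FractionRing A)) :=
    IsLocalization.injective (FractionRing A) (le_refl (nonZeroDivisors A))
  have hcn : c * n = a * x := by
    apply hinj
    rw [map_mul, hc, ← hυ, ← hσ, mul_assoc, mul_comm v υ, hv, mul_one]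
  have hcc : c * c = c := by
    apply hinj
    rw [map_mul, hc, hidem]
  have hc01 : c = 0 ∨ c = 1 := by
    rcases IsLocalRing.isUnit_or_isUnit_one_sub_self c with hu | hu
    · right
      have : c * (c - 1) = 0 := by rw [mul_sub, hcc, mul_one, sub_self]
      have := (hu.mul_right_eq_zero).mp this
      exact sub_eq_zero.mp this
    · left
      have : (1 - c) * c = 0 := by rw [sub_mul, hcc, one_mul, sub_self]
      exact (hu.mul_right_eq_zero).mp this
  rcases hc01 with rfl | rfl
  · -- a * x = 0, so n = t kills x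
    rw [zero_mul] at hcn
    have : n * x = 0 := by rw [← hst, ← hcn, zero_add, ht]
    exact hx0 ((mul_left_mem_nonZeroDivisors_eq_zero_iff hnz).mp this)
  · rw [one_mul] at hcn
    have : n * y₀ = 0 := by rw [hcn, mul_assoc, hxy, mul_zero]
    exact hy0 ((mul_left_mem_nonZeroDivisors_eq_zero_iff hnz).mp this)

end aux

/-- For a reduced local Nagata ring A of Krull dimension one, the δ-invariant of A is zero exactly when
A is a DVR (in particular a domain). -/
theorem result (A : Type u) [CommRing A] [IsLocalRing A]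
    [IsReduced A] (hN : CAlg.IsNagata A) (hdim : ringKrullDim A = 1) :
    Curv2.deltaInv A = 0 ↔ ∃ _ : IsDomain A, IsDiscreteValuationRing A := by
  haveI : IsNoetherianRing A := hN.1
  have hK : Ring.KrullDimLE 1 A := ⟨by
    have : Order.krullDim (PrimeSpectrum A) = 1 := hdim
    rw [this]; rfl⟩
  constructor
  · intro h
    unfold Curv2.deltaInv at h
    rw [Module.length_eq_zero_iff, Submodule.Quotient.subsingleton_iff] at h
    have hcl : ∀ x : FractionRing A, IsIntegral A x →
        ∃ y : A, algebraMap A (FractionRing A) y = x := by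
      intro x hx
      have : (⟨x, hx⟩ : integralClosure A (FractionRing A)) ∈
          LinearMap.range (Algebra.linearMap A ↥(integralClosure A (FractionRing A))) := by
        rw [h]; trivial
      obtain ⟨y, hy⟩ := this
      exact ⟨y, congrArg Subtype.val hy⟩
    haveI : NoZeroDivisors A := noZeroDivisors_of_intClosed hcl
    haveI hD : IsDomain A := NoZeroDivisors.to_isDomain A
    refine ⟨hD, ?_⟩
    have hnf : ¬ IsField A := by
      intro hf
      have := ringKrullDim_eq_zero_of_isField hf
      rw [hdim] at this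
      exact one_ne_zero this
    have hIC : IsIntegrallyClosed A := (isIntegrallyClosed_iff (FractionRing A)).mpr
      (fun {x} hx => hcl x hx)
    have h03 : IsDiscreteValuationRing A ↔
        (IsIntegrallyClosed A ∧ ∃! P : Ideal A, P ≠ ⊥ ∧ P.IsPrime) :=
      (IsDiscreteValuationRing.TFAE A hnf).out 0 3
    refine h03.mpr ⟨hIC, IsLocalRing.maximalIdeal A, ⟨?_, inferInstance⟩, ?_⟩
    · intro hbot
      exact hnf (IsLocalRing.isField_iff_maximalIdeal_eq.mpr hbot)
    · rintro P ⟨hP0, hPp⟩
      exact IsLocalRing.eq_maximalIdeal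
        (Ring.krullDimLE_one_iff_of_noZeroDivisors.mp hK P hP0 hPp)
  · rintro ⟨hD, hDVR⟩
    unfold Curv2.deltaInv
    rw [Module.length_eq_zero_iff, Submodule.Quotient.subsingleton_iff, eq_top_iff]
    rintro ⟨z, hz⟩ -
    obtain ⟨y, hy⟩ := IsIntegrallyClosed.isIntegral_iff.mp hz
    exact ⟨y, Subtype.ext hy⟩

end Groth.Agent.S7653
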