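import Groth.Statements.S7654
import Mathlib
import Groth.Agent.Helper7.DeltaBCD

set_option autoImplicit false
universe u
open CategoryTheory CategoryTheory.Limits AlgebraicGeometry
open Variety

namespace Groth.Agent.S7654

/-- For a reduced local Nagata ring A of Krull dimension one, the δ-invariant does not change on passing
to a henselization of A, to a strict henselization of A, or to the completion of A. -/
theorem result (A : Type u) [CommRing A] [IsLocalRing A]
    [IsReduced A] (hN : CAlg.IsNagata A) (hdim : ringKrullDim A = 1) :
    (∀ (B : Type u) [CommRing B] [IsLocalRing B] [Algebra A B] [IsLocalHom (algebraMap A B)],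
        Hensel.IsHenselization A B → Curv2.deltaInv B = Curv2.deltaInv A) ∧
      (∀ (B : Type u) [CommRing B] [IsLocalRing B] [Algebra A B] [IsLocalHom (algebraMap A B)],
        Hensel.IsStrictHenselization A B → Curv2.deltaInv B = Curv2.deltaInv A) ∧
      Curv2.deltaInv (Curv2.cpl A) = Curv2.deltaInv A := by
  haveI : IsNoetherianRing A := hN.1
  haveI hfin : Module.Finite A (integralClosure A (FractionRing A)) := by
    apply Groth.Agent.Helper7.NormProd.finite_closure
    intro i
    exact hN.2 i.1 (FractionRing (A ⧸ i.1)) inferInstance
  refine ⟨fun B _ _ _ _ hB => ?_, fun B _ _ _ _ hB => ?_, ?_⟩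
  · haveI := hB
    exact Groth.Agent.Helper7.DeltaBCD.deltaInv_henselization A hdim B
  · haveI := hB
    exact Groth.Agent.Helper7.DeltaBCD.deltaInv_strictHenselization A hdim B
  · exact Groth.Agent.Helper7.DeltaBCD.deltaInv_completion A hdim

end Groth.Agent.S7654
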