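import Groth.Statements.S7664
import Groth.Agent.Helper5.Glue5
import Groth.Agent.Helper5.Glue1

set_option autoImplicit false
universe u
open CategoryTheory CategoryTheory.Limits AlgebraicGeometry
open Variety

namespace Groth.Agent.S7664

/-- Let K be a field, A ⊆ K a Noetherian semi-local domain of dimension one and B ⊆ K a discrete
valuation ring, both with fraction field K, and R = A ∩ B. (a) If some unit of A does not lie in R,
then Spec A and Spec B each map to Spec R by an open immersion, Spec R is the union of the two
images, and the natural map A ⊗_R B → K is an isomorphism. (b) If every unit of A lies in R, then B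
dominates the local ring of A at one of its maximal ideals (A ⊆ B and the maximal ideal of B
contracts to a maximal ideal of A) and A ⊗ B → K is not surjective. -/
theorem result (K : Type u) [Field K]
    (A : Subring K) [IsFractionRing A K] [IsNoetherianRing A] (hdim : ringKrullDim A = 1) (hsl : Finite (MaximalSpectrum A))
    (B : ValuationSubring K) [IsDiscreteValuationRing B] :
    ((∃ u : A, IsUnit u ∧ (u : K) ∉ B) →
      IsOpenImmersion (Spec.map (CommRingCat.ofHom (Subring.inclusion (inf_le_left : A ⊓ B.toSubring ≤ A)))) ∧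
      IsOpenImmersion (Spec.map (CommRingCat.ofHom (Subring.inclusion (inf_le_right : A ⊓ B.toSubring ≤ B.toSubring)))) ∧
      Set.range (Spec.map (CommRingCat.ofHom (Subring.inclusion (inf_le_left : A ⊓ B.toSubring ≤ A)))).base ∪
        Set.range (Spec.map (CommRingCat.ofHom (Subring.inclusion (inf_le_right : A ⊓ B.toSubring ≤ B.toSubring)))).base = Set.univ ∧
      IsPushout (CommRingCat.ofHom (Subring.inclusion (inf_le_left : A ⊓ B.toSubring ≤ A)))
        (CommRingCat.ofHom (Subring.inclusion (inf_le_right : A ⊓ B.toSubring ≤ B.toSubring)))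
        (CommRingCat.ofHom A.subtype) (CommRingCat.ofHom B.toSubring.subtype)) ∧
    ((∀ u : A, IsUnit u → (u : K) ∈ B) →
      (∃ h : A ≤ B.toSubring,
        (Ideal.comap (Subring.inclusion h) (IsLocalRing.maximalIdeal B)).IsMaximal) ∧ A ⊔ B.toSubring ≠ ⊤) := by
  have hKD : Ring.KrullDimLE 1 A := Ring.krullDimLE_iff.2 hdim.le
  constructor
  · rintro ⟨u, hu, huB⟩
    have hAB : ¬ A ≤ B.toSubring := fun h => huB (h u.2)
    obtain ⟨x, y, hxy, hxA, hxB, hxiA, hyiB, hx0, hy0, h1, h2⟩ :=
      Groth.Agent.Helper5.Glue.glue_dvr A hdim hsl B hAB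
    exact Groth.Agent.Helper5.Glue.glue A B.toSubring x y hxy hxA hxB hxiA hyiB hx0 hy0 h1 h2
  · intro hunits
    have hAB : A ≤ B.toSubring := by
      by_contra hAB
      obtain ⟨z, hz, hz0⟩ := Groth.Agent.Helper5.Glue.exists_ne_zero_mem_jacobson hdim hsl
      obtain ⟨α, hα, hαv⟩ := Groth.Agent.Helper5.Glue.exists_jac_val_gt A z hz hz0 B hAB
      have hu : IsUnit (α * 1 + 1) := Ideal.mem_jacobson_bot.1 hα 1
      have h1 := hunits _ hu
      have h2 : B.valuation ((α * 1 + 1 : A) : K) = B.valuation (α : K) := by
        simp only [mul_one, Subring.coe_add, Subring.coe_one]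
        apply Valuation.map_add_eq_of_lt_left
        rw [map_one]; exact hαv
      rw [← B.valuation_le_one_iff, h2] at h1
      exact absurd h1 (not_le.2 hαv)
    have hBtop : B.toSubring ≠ ⊤ := by
      intro htop
      apply IsDiscreteValuationRing.not_isField B
      refine ⟨⟨0, 1, zero_ne_one⟩, mul_comm, fun {a} ha => ?_⟩
      have hmem : ((a : K))⁻¹ ∈ B := by
        rw [← ValuationSubring.mem_toSubring, htop]; trivial
      refine ⟨⟨_, hmem⟩, ?_⟩
      apply Subtype.ext
      have ha' : (a : K) ≠ 0 := fun h => ha (Subtype.ext h)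
      simp [mul_inv_cancel₀ ha']
    refine ⟨⟨hAB, ?_⟩, ?_⟩
    · obtain ⟨z, hz, hz0⟩ := Groth.Agent.Helper5.Glue.exists_ne_zero_mem_jacobson hdim hsl
      have hzK : (z : K) ≠ 0 := fun h => hz0 (Subtype.ext h)
      have hzB : (z : K) ∈ B := hAB z.2
      have hvz : B.valuation (z : K) < 1 := by
        rcases lt_or_eq_of_le ((B.valuation_le_one_iff _).2 hzB) with h | h
        · exact h
        · exfalso
          apply hBtop
          rw [eq_top_iff]
          intro k _
          obtain ⟨n, r, hr⟩ := Groth.Agent.Helper5.Glue.exists_pow_mul_eq (R := A) (K := K)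
            hdim.le z hz k
          have hr' : k * (z : K) ^ n = (r : K) := hr
          have hrB : (r : K) ∈ B := hAB r.2
          rw [ValuationSubring.mem_toSubring, ← B.valuation_le_one_iff]
          have := (B.valuation_le_one_iff _).2 hrB
          rw [← hr', map_mul, map_pow, h, one_pow, mul_one] at this
          exact this
      have hP : (Ideal.comap (Subring.inclusion hAB) (IsLocalRing.maximalIdeal B)).IsPrime :=
        Ideal.comap_isPrime _ _
      have hPbot : Ideal.comap (Subring.inclusion hAB) (IsLocalRing.maximalIdeal B) ≠ ⊥ := by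
        intro h
        have hzP : z ∈ Ideal.comap (Subring.inclusion hAB) (IsLocalRing.maximalIdeal B) := by
          rw [Ideal.mem_comap]
          exact (B.valuation_lt_one_iff ⟨(z : K), hzB⟩).2 hvz
        rw [h, Ideal.mem_bot] at hzP
        exact hz0 hzP
      exact (Ring.krullDimLE_one_iff_of_noZeroDivisors.1 hKD) _ hPbot hP
    · rw [sup_eq_right.2 hAB]
      exact hBtop

end Groth.Agent.S7664
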