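import Groth.Statements.S7665
import Groth.Agent.Helper5.Glue12

set_option autoImplicit false
universe u
open CategoryTheory CategoryTheory.Limits AlgebraicGeometry
open Variety

namespace Groth.Agent.S7665

/-- Let K be a field and A_1, …, A_r ⊆ K (r ≥ 1) Noetherian semi-local rings of dimension one with
fraction field K, and assume A_i and A_j generate K as a ring whenever i ≠ j. Then A = A_1 ∩ … ∩ A_r
is a Noetherian semi-local domain of dimension one with fraction field K contained in every A_i,
each Spec A_i → Spec A is an open immersion, Spec A is the union of their images, and every closed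
point of Spec A belongs to the image of exactly one Spec A_i. (The published statement asserts only
that some such subring A exists; this row takes A to be the intersection A_1 ∩ … ∩ A_r.) -/
theorem result (K : Type u) [Field K] (r : ℕ) (hr : 1 ≤ r)
    (A : Fin r → Subring K) [∀ i, IsNoetherianRing (A i)] [∀ i, IsFractionRing (A i) K]
    (hdim : ∀ i, ringKrullDim (A i) = 1) (hsl : ∀ i, Finite (MaximalSpectrum (A i)))
    (hgen : ∀ i j, i ≠ j → A i ⊔ A j = ⊤) :
    IsNoetherianRing ↥(⨅ i, A i) ∧ ringKrullDim ↥(⨅ i, A i) = 1 ∧ Finite (MaximalSpectrum ↥(⨅ i, A i)) ∧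
      IsFractionRing ↥(⨅ i, A i) K ∧
      (∀ i, IsOpenImmersion (Spec.map (CommRingCat.ofHom (Subring.inclusion (iInf_le A i))))) ∧
      (⋃ i, Set.range (Spec.map (CommRingCat.ofHom (Subring.inclusion (iInf_le A i)))).base) = Set.univ ∧
      (∀ m : PrimeSpectrum ↥(⨅ i, A i), m.asIdeal.IsMaximal →
        ∃! i, m ∈ Set.range (Spec.map (CommRingCat.ofHom (Subring.inclusion (iInf_le A i)))).base) := by
  classical
  have hne : (Finset.univ : Finset (Fin r)).Nonempty := ⟨⟨0, hr⟩, Finset.mem_univ _⟩
  obtain ⟨x, hx⟩ := Groth.Agent.Helper5.Glue.exists_cover A hdim hsl hgen Finset.univ hne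
  have e : (⨅ i ∈ (Finset.univ : Finset (Fin r)), A i) = ⨅ i, A i := by simp
  rw [e] at hx
  refine ⟨hx.isNoetherianRing, hx.ringKrullDim_eq_one hne hdim,
    hx.finite_maximalSpectrum hne hdim hsl, hx.isFractionRing hne, ?_, ?_, ?_⟩
  · intro i
    exact (hx.away i (Finset.mem_univ i)).isOpenImmersion
  · rw [Set.eq_univ_iff_forall]
    intro p
    obtain ⟨i, hi, hxp⟩ := hx.cover (p : PrimeSpectrum ↥(⨅ i, A i)).asIdeal
      (p : PrimeSpectrum ↥(⨅ i, A i)).2
    rw [Set.mem_iUnion]
    exact ⟨i, ((hx.away i hi).mem_range_iff p).2 hxp⟩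
  · intro m hm
    obtain ⟨i, hi, hxm⟩ := hx.cover m.asIdeal m.2
    refine ⟨i, ((hx.away i hi).mem_range_iff m).2 hxm, ?_⟩
    intro j hj
    have hxj := ((hx.away j (Finset.mem_univ j)).mem_range_iff m).1 hj
    exact hx.eq_of_maximal hne hdim hgen m.asIdeal hm (Finset.mem_univ j) hi hxj hxm

end Groth.Agent.S7665
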