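import Groth.Statements.S7666
import Mathlib

set_option autoImplicit false
universe u
open CategoryTheory CategoryTheory.Limits AlgebraicGeometry
open Variety

namespace Groth.Agent.S7666

/-- Let A be a one-dimensional Noetherian local ring and L = ∏ A_p, the product over the minimal primes
of A. If a_1, a_2 ∈ m_A have the same image in L, then a_1 and a_2 have equal n-th powers for some
positive integer n. -/
theorem result (A : Type u) [CommRing A]
    [IsLocalRing A] [IsNoetherianRing A] (hdim : ringKrullDim A = 1)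
    (a₁ a₂ : A) (h₁ : a₁ ∈ IsLocalRing.maximalIdeal A) (h₂ : a₂ ∈ IsLocalRing.maximalIdeal A)
    (heq : ∀ p : {p : PrimeSpectrum A // p.asIdeal ∈ minimalPrimes A},
      algebraMap A (Localization.AtPrime p.1.asIdeal) a₁ = algebraMap A (Localization.AtPrime p.1.asIdeal) a₂) :
    ∃ n : ℕ, 0 < n ∧ a₁ ^ n = a₂ ^ n := by
  classical
  have hK : Ring.KrullDimLE 1 A := ⟨by
    have : Order.krullDim (PrimeSpectrum A) = 1 := hdim
    rw [this]; rfl⟩
  set d := a₁ - a₂ with hd
  set J : Ideal A := (Ideal.span {d}).annihilator with hJ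
  have memJ : ∀ x, x ∈ J ↔ x * d = 0 := fun x => by
    rw [hJ, Submodule.mem_annihilator_span_singleton, smul_eq_mul]
  -- for each minimal prime, J ⊄ p
  have hmin : ∀ p : Ideal A, p ∈ minimalPrimes A → ¬ J ≤ p := by
    intro p hp hle
    haveI : p.IsPrime := hp.1.1
    have h := heq ⟨⟨p, hp.1.1⟩, hp⟩
    obtain ⟨c, hc⟩ := (IsLocalization.eq_iff_exists p.primeCompl _).mp h
    have : (c : A) ∈ J := by
      rw [memJ, hd, mul_sub, hc, sub_self]
    exact c.2 (hle this)
  by_cases htop : J = ⊤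
  · refine ⟨1, one_pos, ?_⟩
    have : (1 : A) ∈ J := htop ▸ Submodule.mem_top
    rw [memJ, one_mul, hd, sub_eq_zero] at this
    simpa using this
  -- radical J = maximal ideal
  have hrad : IsLocalRing.maximalIdeal A ≤ J.radical := by
    rw [Ideal.radical_eq_sInf]
    refine le_sInf ?_
    rintro q ⟨hJq, hq⟩
    rcases (Ring.krullDimLE_one_iff.mp hK) q hq with hqm | hqm
    · exact absurd hJq (hmin q hqm)
    · rw [IsLocalRing.eq_maximalIdeal hqm]
  obtain ⟨N, hN⟩ := Ideal.exists_pow_le_of_le_radical_of_fg hrad (IsNoetherian.noetherian _)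
  refine ⟨N + 1, Nat.succ_pos _, ?_⟩
  have hgeom := (Commute.all a₁ a₂).mul_geom_sum₂ (N + 1)
  -- (a₁ - a₂) * ∑ = a₁^(N+1) - a₂^(N+1)
  have hsum : (∑ i ∈ Finset.range (N + 1), a₁ ^ i * a₂ ^ (N + 1 - 1 - i)) ∈ IsLocalRing.maximalIdeal A ^ N := by
    refine Ideal.sum_mem _ fun i hi => ?_
    have hi' : i ≤ N := Nat.lt_succ_iff.mp (Finset.mem_range.mp hi)
    have : N = i + (N + 1 - 1 - i) := by omega
    rw [this, pow_add]
    conv_rhs => rw [← this]
    exact Ideal.mul_mem_mul (Ideal.pow_mem_pow h₁ _) (Ideal.pow_mem_pow h₂ _)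
  have := (memJ _).mp (hN hsum)
  rw [mul_comm, hgeom, sub_eq_zero] at this
  exact this

end Groth.Agent.S7666
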