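import Groth.Statements.S7667
import Mathlib

set_option autoImplicit false
universe u
open CategoryTheory CategoryTheory.Limits AlgebraicGeometry
open Variety

namespace Groth.Agent.S7667


section aux
variable {A : Type u} [CommRing A]

theorem exists_pow_le [IsLocalRing A] [IsNoetherianRing A] (hdim : ringKrullDim A = 1)
    (J : Ideal A) (h : ∀ p ∈ minimalPrimes A, ¬ J ≤ p) :
    ∃ N : ℕ, IsLocalRing.maximalIdeal A ^ N ≤ J := by
  have hK : Ring.KrullDimLE 1 A := ⟨by
    have : Order.krullDim (PrimeSpectrum A) = 1 := hdim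
    rw [this]; rfl⟩
  by_cases htop : J = ⊤
  · exact ⟨0, by rw [htop]; exact le_top⟩
  have hrad : IsLocalRing.maximalIdeal A ≤ J.radical := by
    rw [Ideal.radical_eq_sInf]
    refine le_sInf ?_
    rintro q ⟨hJq, hq⟩
    rcases (Ring.krullDimLE_one_iff.mp hK) q hq with hqm | hqm
    · exact absurd hJq (h q hqm)
    · rw [IsLocalRing.eq_maximalIdeal hqm]
  exact Ideal.exists_pow_le_of_le_radical_of_fg hrad (IsNoetherian.noetherian _)

abbrev Idx (A : Type u) [CommRing A] := {p : PrimeSpectrum A // p.asIdeal ∈ minimalPrimes A}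
abbrev LL (A : Type u) [CommRing A] := ∀ p : Idx A, Localization.AtPrime p.1.asIdeal

theorem kill (q₀ q : Idx A) (hne : q ≠ q₀) :
    ∃ t : A, t ∉ q₀.1.asIdeal ∧ algebraMap A (Localization.AtPrime q.1.asIdeal) t = 0 := by
  have hnle : ¬ q.1.asIdeal ≤ q₀.1.asIdeal := by
    intro hle
    have := q₀.2.2 ⟨q.1.isPrime, bot_le⟩ hle
    exact hne (Subtype.ext (PrimeSpectrum.ext (le_antisymm hle this)))
  obtain ⟨t, htq, htq₀⟩ := SetLike.not_le_iff_exists.mp hnle
  have hrad := IsLocalization.AtPrime.radical_map_of_mem_minimalPrimes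
    (A := Localization.AtPrime q.1.asIdeal) q.1.asIdeal ⊥ q.2
  have hmem : algebraMap A (Localization.AtPrime q.1.asIdeal) t ∈
      (q.1.asIdeal.map (algebraMap A (Localization.AtPrime q.1.asIdeal))) :=
    Ideal.mem_map_of_mem _ htq
  rw [← hrad, Ideal.map_bot] at hmem
  obtain ⟨K, hK⟩ := hmem
  refine ⟨t ^ K, fun h => htq₀ (q₀.1.isPrime.mem_of_pow_mem K h), ?_⟩
  rw [map_pow]
  simpa using hK

theorem exists_smul_mem_range [Fintype (Idx A)] (x : LL A) (p₀ : Idx A) :
    ∃ b : A, b ∉ p₀.1.asIdeal ∧ ∃ z : A, b • x = algebraMap A (LL A) z := by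
  classical
  choose t ht1 ht2 using fun q (hq : q ≠ p₀) => kill p₀ q hq
  let t' : Idx A → A := fun q => if h : q = p₀ then 1 else t q h
  have ht'1 : ∀ q, t' q ∉ p₀.1.asIdeal := by
    intro q
    by_cases h : q = p₀
    · simp only [t', dif_pos h]
      exact fun h1 => p₀.1.isPrime.ne_top ((Ideal.eq_top_iff_one _).mpr h1)
    · simp only [t', dif_neg h]
      exact ht1 q h
  set T : A := ∏ q, t' q with hT
  have hT1 : T ∉ p₀.1.asIdeal := by
    intro h
    obtain ⟨q, -, hq⟩ := (p₀.1.isPrime.prod_mem_iff).mp h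
    exact ht'1 q hq
  have hT2 : ∀ q, q ≠ p₀ → algebraMap A (Localization.AtPrime q.1.asIdeal) T = 0 := by
    intro q hq
    have hdvd : t' q ∣ T := Finset.dvd_prod_of_mem t' (Finset.mem_univ q)
    have := map_dvd (algebraMap A (Localization.AtPrime q.1.asIdeal)) hdvd
    simp only [t', dif_neg hq] at this
    rw [ht2 q hq] at this
    exact zero_dvd_iff.mp this
  obtain ⟨y, s, hys⟩ := IsLocalization.exists_mk'_eq p₀.1.asIdeal.primeCompl (x p₀)
  refine ⟨T * s, ?_, T * y, ?_⟩
  · intro h
    rcases p₀.1.isPrime.mem_or_mem h with h | h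
    · exact hT1 h
    · exact s.2 h
  · funext q
    rw [Pi.smul_apply, Pi.algebraMap_apply, Algebra.smul_def, map_mul, map_mul]
    by_cases hq : q = p₀
    · subst hq
      rw [← hys, mul_assoc, IsLocalization.mk'_spec']
    · rw [hT2 q hq, zero_mul, zero_mul, zero_mul]

end aux

/-- Let A be a one-dimensional Noetherian local ring, L the product of the localizations A_p over its
minimal primes p, and I the intersection of those primes (the nilradical of A). If f ∈ L equals i +
a with a in the maximal ideal of A and i ∈ I·L, then for some positive integer n, f^n belongs to the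
subring of L obtained as the image of the structure map from A. -/
theorem result (A : Type u) [CommRing A]
    [IsLocalRing A] [IsNoetherianRing A] (hdim : ringKrullDim A = 1)
    (a : A) (ha : a ∈ IsLocalRing.maximalIdeal A)
    (i : ∀ p : {p : PrimeSpectrum A // p.asIdeal ∈ minimalPrimes A}, Localization.AtPrime p.1.asIdeal)
    (hi : i ∈ (nilradical A).map (algebraMap A (∀ p : {p : PrimeSpectrum A // p.asIdeal ∈ minimalPrimes A}, Localization.AtPrime p.1.asIdeal))) :
    ∃ n : ℕ, 0 < n ∧ (i + algebraMap A (∀ p : {p : PrimeSpectrum A // p.asIdeal ∈ minimalPrimes A}, Localization.AtPrime p.1.asIdeal) a) ^ n ∈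
      (algebraMap A (∀ p : {p : PrimeSpectrum A // p.asIdeal ∈ minimalPrimes A}, Localization.AtPrime p.1.asIdeal)).range := by
  classical
  haveI : Finite (Idx A) := by
    haveI : Finite (minimalPrimes A) := (minimalPrimes.finite_of_isNoetherianRing A).to_subtype
    refine Finite.of_injective (fun p : Idx A => (⟨p.1.asIdeal, p.2⟩ : minimalPrimes A)) ?_
    intro p q h
    exact Subtype.ext (PrimeSpectrum.ext (congrArg Subtype.val h))
  haveI : Fintype (Idx A) := Fintype.ofFinite _
  -- every x has a power of a multiplying it into the range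
  have hpow : ∀ x : LL A, ∃ M : ℕ, algebraMap A (LL A) a ^ M * x ∈ (algebraMap A (LL A)).range := by
    intro x
    let J : Ideal A :=
      { carrier := {b | b • x ∈ (algebraMap A (LL A)).range}
        add_mem' := by
          intro b c hb hc
          show (b + c) • x ∈ (algebraMap A (LL A)).range
          rw [add_smul]; exact add_mem hb hc
        zero_mem' := by
          show (0 : A) • x ∈ (algebraMap A (LL A)).range
          rw [zero_smul]; exact zero_mem _
        smul_mem' := by
          intro c b hb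
          show (c • b) • x ∈ (algebraMap A (LL A)).range
          rw [smul_assoc, Algebra.smul_def]
          exact mul_mem (RingHom.mem_range_self _ c) hb }
    have hJ : ∀ p ∈ minimalPrimes A, ¬ J ≤ p := by
      intro p hp hle
      obtain ⟨b, hb, z, hz⟩ := exists_smul_mem_range x ⟨⟨p, hp.1.1⟩, hp⟩
      exact hb (hle (show b • x ∈ (algebraMap A (LL A)).range from ⟨z, hz.symm⟩))
    obtain ⟨M, hM⟩ := exists_pow_le hdim J hJ
    refine ⟨M, ?_⟩
    have : a ^ M ∈ J := hM (Ideal.pow_mem_pow ha M)
    have h2 : (a ^ M) • x ∈ (algebraMap A (LL A)).range := this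
    rwa [Algebra.smul_def, map_pow] at h2
  -- i is nilpotent
  obtain ⟨N, hN⟩ := IsNoetherianRing.isNilpotent_nilradical A
  have hiN : i ^ N = 0 := by
    have h1 : i ^ N ∈ ((nilradical A).map (algebraMap A (LL A))) ^ N := Ideal.pow_mem_pow hi N
    rw [← Ideal.map_pow, hN] at h1
    simpa using h1
  choose Mf hMf using fun k : ℕ => hpow (i ^ k)
  set M := ∑ k ∈ Finset.range N, Mf k with hMdef
  refine ⟨N + M + 1, Nat.succ_pos _, ?_⟩
  rw [add_pow]
  refine Subring.sum_mem _ fun k hk => ?_
  by_cases hkN : N ≤ k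
  · have : i ^ k = 0 := by
      obtain ⟨c, rfl⟩ := Nat.exists_eq_add_of_le hkN
      rw [pow_add, hiN, zero_mul]
    rw [this, zero_mul, zero_mul]; exact zero_mem _
  · push Not at hkN
    have hle : Mf k ≤ M := Finset.single_le_sum (f := Mf) (fun _ _ => Nat.zero_le _)
      (Finset.mem_range.mpr hkN)
    have hk' : k ≤ N + M + 1 := Nat.lt_succ_iff.mp (Finset.mem_range.mp hk)
    obtain ⟨c, hc⟩ : ∃ c, N + M + 1 - k = c + Mf k := ⟨N + M + 1 - k - Mf k, by omega⟩
    rw [hc, pow_add]
    have h3 : i ^ k * (algebraMap A (LL A) a ^ c * algebraMap A (LL A) a ^ Mf k) =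
        algebraMap A (LL A) a ^ c * (algebraMap A (LL A) a ^ Mf k * i ^ k) := by ring
    rw [h3]
    refine mul_mem (mul_mem (pow_mem (RingHom.mem_range_self _ a) _) (hMf k)) ?_
    exact ⟨(Nat.choose (N + M + 1) k : A), by simp⟩

end Groth.Agent.S7667
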