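import Groth.Statements.S7668
import Mathlib

set_option autoImplicit false
universe u
open CategoryTheory CategoryTheory.Limits AlgebraicGeometry
open Variety

namespace Groth.Agent.S7668


theorem exists_le_of_forall_mem {A : Type u} [CommRing A] {r : ℕ} (p : Fin r → PrimeSpectrum A)
    (q : Ideal A) (hsub : ∀ x ∈ q, ∃ i, x ∈ (p i).asIdeal) : ∃ i, q ≤ (p i).asIdeal := by
  rcases r with _ | r
  · obtain ⟨i, -⟩ := hsub 0 q.zero_mem
    exact i.elim0
  · have hsub' : (q : Set A) ⊆ ⋃ i ∈ ((Finset.univ : Finset (Fin (r+1))) : Set (Fin (r+1))),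
        ((p i).asIdeal : Set A) := by
      intro x hx
      obtain ⟨i, hi⟩ := hsub x hx
      exact Set.mem_biUnion (by simp) hi
    obtain ⟨i, -, hi⟩ := (Ideal.subset_union_prime (0 : Fin (r+1)) 0
      (fun i _ _ _ => (p i).isPrime)).mp hsub'
    exact ⟨i, hi⟩

/-- Let A be a ring, p_1, …, p_r primes of A and S = A ∖ ⋃ p_i. Then S is a multiplicative subset, S⁻¹A
is semi-local, and contraction to A is a bijection from the maximal ideals of S⁻¹A onto the maximal
elements of {p_1, …, p_r}. -/
theorem result (A : Type u) [CommRing A]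
    (r : ℕ) (p : Fin r → PrimeSpectrum A) :
    Finite (MaximalSpectrum (Localization (⨅ i, (p i).asIdeal.primeCompl))) ∧
      Set.BijOn (fun m : Ideal (Localization (⨅ i, (p i).asIdeal.primeCompl)) =>
          m.comap (algebraMap A (Localization (⨅ i, (p i).asIdeal.primeCompl))))
        {m | m.IsMaximal}
        {q | q ∈ Set.range (fun i => (p i).asIdeal) ∧
          ∀ j, q ≤ (p j).asIdeal → q = (p j).asIdeal} := by
  classical
  have memS : ∀ x, x ∈ (⨅ i, (p i).asIdeal.primeCompl : Submonoid A) ↔ ∀ i, x ∉ (p i).asIdeal := fun x => by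
    simp only [Submonoid.mem_iInf, Ideal.mem_primeCompl_iff]
  have hdisj_p : ∀ i, Disjoint ((⨅ i, (p i).asIdeal.primeCompl : Submonoid A) : Set A)
      ((p i).asIdeal : Set A) := fun i => by
    rw [Set.disjoint_left]; intro x hx hxi; exact (memS x).mp hx i hxi
  have hle_of_disj : ∀ q : Ideal A,
      Disjoint ((⨅ i, (p i).asIdeal.primeCompl : Submonoid A) : Set A) (q : Set A) →
      ∃ i, q ≤ (p i).asIdeal := by
    intro q hdis
    apply exists_le_of_forall_mem
    intro x hx
    by_contra hcon
    push Not at hcon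
    exact Set.disjoint_left.mp hdis ((memS x).mpr hcon) hx
  -- abbreviations
  have hmc : ∀ J : Ideal (Localization (⨅ i, (p i).asIdeal.primeCompl)),
      (J.comap (algebraMap A _)).map (algebraMap A _) = J := fun J =>
    IsLocalization.map_under (⨅ i, (p i).asIdeal.primeCompl : Submonoid A)
      (Localization (⨅ i, (p i).asIdeal.primeCompl)) J
  have hcm : ∀ i, ((p i).asIdeal.map (algebraMap A
      (Localization (⨅ i, (p i).asIdeal.primeCompl)))).comap (algebraMap A _) = (p i).asIdeal :=
    fun i => IsLocalization.under_map_of_isPrime_disjoint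
      (⨅ i, (p i).asIdeal.primeCompl : Submonoid A)
      (Localization (⨅ i, (p i).asIdeal.primeCompl)) (p i).isPrime (hdisj_p i)
  have hprime := fun i => IsLocalization.isPrime_of_isPrime_disjoint
    (⨅ i, (p i).asIdeal.primeCompl : Submonoid A)
    (Localization (⨅ i, (p i).asIdeal.primeCompl)) (p i).asIdeal (p i).isPrime (hdisj_p i)
  have hdisj_of_prime : ∀ m : Ideal (Localization (⨅ i, (p i).asIdeal.primeCompl)), m.IsPrime →
      Disjoint ((⨅ i, (p i).asIdeal.primeCompl : Submonoid A) : Set A)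
        ((m.comap (algebraMap A (Localization (⨅ i, (p i).asIdeal.primeCompl))) : Ideal A) : Set A) :=
    fun m hm => ((IsLocalization.isPrime_iff_isPrime_disjoint
      (⨅ i, (p i).asIdeal.primeCompl : Submonoid A) _ m).mp hm).2
  have key : ∀ m : Ideal (Localization (⨅ i, (p i).asIdeal.primeCompl)), m.IsMaximal →
      ∀ j, m.comap (algebraMap A _) ≤ (p j).asIdeal → m.comap (algebraMap A _) = (p j).asIdeal := by
    intro m hm j hle
    have h1 : m ≤ (p j).asIdeal.map (algebraMap A _) := by
      rw [← hmc m]; exact Ideal.map_mono hle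
    have h2 : m = (p j).asIdeal.map (algebraMap A _) := hm.eq_of_le (hprime j).ne_top h1
    rw [h2]; exact hcm j
  have hexists : ∀ m : Ideal (Localization (⨅ i, (p i).asIdeal.primeCompl)), m.IsMaximal →
      ∃ i, m.comap (algebraMap A _) = (p i).asIdeal := by
    intro m hm
    obtain ⟨i, hi⟩ := hle_of_disj _ (hdisj_of_prime m hm.isPrime)
    exact ⟨i, key m hm i hi⟩
  have hinj : ∀ m₁ m₂ : Ideal (Localization (⨅ i, (p i).asIdeal.primeCompl)),
      m₁.comap (algebraMap A _) = m₂.comap (algebraMap A _) → m₁ = m₂ := by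
    intro m₁ m₂ h
    rw [← hmc m₁, ← hmc m₂, h]
  refine ⟨?_, ?_, ?_, ?_⟩
  · let f : MaximalSpectrum (Localization (⨅ i, (p i).asIdeal.primeCompl)) → Fin r :=
      fun m => Classical.choose (hexists m.asIdeal m.isMaximal)
    have hf : ∀ m, (m.asIdeal).comap (algebraMap A _) = (p (f m)).asIdeal :=
      fun m => Classical.choose_spec (hexists m.asIdeal m.isMaximal)
    refine Finite.of_injective f ?_
    intro m₁ m₂ h
    apply MaximalSpectrum.ext
    apply hinj
    rw [hf m₁, hf m₂, h]
  · intro m hm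
    obtain ⟨i, hi⟩ := hexists m hm
    exact ⟨⟨i, hi.symm⟩, fun j hj => key m hm j hj⟩
  · intro m₁ _ m₂ _ h
    exact hinj m₁ m₂ h
  · rintro q ⟨⟨i, rfl⟩, hmax⟩
    obtain ⟨M, hM, hle⟩ := Ideal.exists_le_maximal _ (hprime i).ne_top
    obtain ⟨j, hj⟩ := hexists M hM
    have h1 : (p i).asIdeal ≤ (p j).asIdeal := by
      rw [← hj, ← hcm i]; exact Ideal.comap_mono hle
    have h2 := hmax j h1
    have h3 : (p i).asIdeal.map (algebraMap A _) = M := by
      apply hinj
      rw [hcm i, hj]; exact h2
    refine ⟨(p i).asIdeal.map (algebraMap A _), ?_, hcm i⟩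
    show Ideal.IsMaximal _
    rw [h3]; exact hM

end Groth.Agent.S7668
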