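import Groth.Statements.S7670
import Mathlib
import Groth.Agent.Helper3.ClosedCover2

set_option autoImplicit false
universe u
open scoped TensorProduct
open CategoryTheory CategoryTheory.Limits AlgebraicGeometry
open Variety

namespace Groth.Agent.S7670

/-- Let X be a reduced scheme and Z_1, …, Z_n ⊆ X closed subschemes with X = ⋃ Z_i set-theoretically and
Z_i ∩ Z_j discrete for i ≠ j, and let L_i be an invertible module on Z_i. Then there is an
invertible module L on X whose restriction to each Z_i is isomorphic to L_i. (The published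
statement also gives, for sections s_i of L_i that do not vanish at the points of Z_i ∩ Z_j, a
choice of L with a global section restricting to each s_i; this row states only the existence of L.) -/
theorem result (X : Scheme.{u}) [IsReduced X]
    (n : ℕ) (Z : Fin n → X.IdealSheafData)
    (hcov : ⋃ i, ((Z i).support : Set X) = Set.univ)
    (hdisc : ∀ i j, i ≠ j → DiscreteTopology ↥(((Z i).support : Set X) ∩ ((Z j).support : Set X)))
    (L : ∀ i, (Z i).subscheme.Modules) (hL : ∀ i, PicF.IsInvertible (L i)) :
    ∃ M : X.Modules, PicF.IsInvertible M ∧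
      ∀ i, Nonempty ((Scheme.Modules.pullback (Z i).subschemeι).obj M ≅ L i) := by
  have hr : ∀ i : Fin n, Set.range (Z i).subschemeι = ((Z i).support : Set X) :=
    fun i => (Z i).range_subschemeι
  have hcov' : ⋃ i : ULift.{u} (Fin n), Set.range (Z i.down).subschemeι = Set.univ := by
    rw [← hcov]
    ext y
    simp only [Set.mem_iUnion]
    constructor
    · rintro ⟨i, hi⟩
      exact ⟨i.down, (hr i.down) ▸ hi⟩
    · rintro ⟨i, hi⟩
      exact ⟨⟨i⟩, (hr i).symm ▸ hi⟩
  have hdisc' : ∀ i j : ULift.{u} (Fin n), i ≠ j →
      DiscreteTopology ↥(Set.range (Z i.down).subschemeι ∩ Set.range (Z j.down).subschemeι) := by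
    intro i j hij
    rw [hr i.down, hr j.down]
    exact hdisc i.down j.down (fun h => hij (ULift.ext _ _ h))
  obtain ⟨M, hM, hiso⟩ := Groth.Agent.Helper3.ClosedCover.main
    (I := ULift.{u} (Fin n)) (Zs := fun i => (Z i.down).subscheme)
    (fun i => (Z i.down).subschemeι) (fun i => L i.down) (fun i => hL i.down) hcov' hdisc'
  exact ⟨M, hM, fun i => hiso ⟨i⟩⟩

end Groth.Agent.S7670
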