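import Groth.Statements.S7675
import Groth.Agent.Helper6.ProjDim6
import Groth.Agent.Helper6.AffDim3

set_option autoImplicit false
universe u
open CategoryTheory CategoryTheory.Limits AlgebraicGeometry
open Variety

namespace Groth.Agent.S7675

open Groth.Agent.Helper6.ProjDim MvPolynomial

theorem eq_nat_of_add_one_eq {x : WithBot ℕ∞} {c : ℕ} (h : x + 1 = (c : WithBot ℕ∞)) :
    ∃ t : ℕ, x = (t : WithBot ℕ∞) ∧ c = t + 1 := by
  induction x using WithBot.recBotCoe with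
  | bot => simp at h
  | coe m =>
    induction m using ENat.recTopCoe with
    | top =>
      exfalso
      have h1 : ((⊤ : ℕ∞) : WithBot ℕ∞) + 1 = ((⊤ : ℕ∞) : WithBot ℕ∞) := by
        rw [← WithBot.coe_one, ← WithBot.coe_add, top_add]
      rw [h1] at h
      have : ((⊤ : ℕ∞) : WithBot ℕ∞) ≠ ((c : ℕ∞) : WithBot ℕ∞) := by
        rw [Ne, WithBot.coe_inj]
        exact ENat.top_ne_natCast c
      exact this h
    | coe t =>
      refine ⟨t, rfl, ?_⟩
      have : ((t + 1 : ℕ) : WithBot ℕ∞) = (c : WithBot ℕ∞) := by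
        rw [← h]; push_cast; rfl
      exact_mod_cast this.symm

/-- a closed set of dimension `r` contains a point whose cone has dimension at least `r + 1` -/
theorem exists_point_dim_ge {k : Type u} [Field k] {n : ℕ} (X : Set (PS k n)) (hX : IsClosed X)
    (r : ℕ) (hr : topologicalKrullDim ↥X = (r : WithBot ℕ∞)) :
    ∃ x ∈ X, ((r + 1 : ℕ) : WithBot ℕ∞) ≤
      ringKrullDim (MvPolynomial (Fin (n + 1)) k ⧸ x.asHomogeneousIdeal.toIdeal) := by
  rw [dim_closed _ _ hX] at hr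
  obtain ⟨l, hl⟩ := Order.le_krullDim_iff.1 hr.ge
  refine ⟨l.head.1, l.head.2, ?_⟩
  have h1 := dim_zeroLocus_add_one l.head.1.asHomogeneousIdeal.toIdeal
    (point_isHomogeneous l.head.1) (point_ne l.head.1)
  rw [dim_closed _ _ (ProjectiveSpectrum.isClosed_zeroLocus _ _)] at h1
  let q : LTSeries {y : PS k n // y ∈ ProjectiveSpectrum.zeroLocus (CohB1.polyGrading n k)
      (l.head.1.asHomogeneousIdeal.toIdeal : Set (MvPolynomial (Fin (n + 1)) k))} :=
    { length := l.length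
      toFun := fun i => ⟨(l i).1, (mem_zeroLocus_iff _ _).2
        ((le_iff _ _).1 (show l.head.1 ≤ (l i).1 from LTSeries.head_le l i))⟩
      step := fun i => l.step i }
  have hq := Order.LTSeries.length_le_krullDim q
  have hqlen : q.length = r := hl
  rw [hqlen] at hq
  rw [← h1]
  calc ((r + 1 : ℕ) : WithBot ℕ∞) = (r : WithBot ℕ∞) + 1 := by push_cast; rfl
    _ ≤ _ := by gcongr

theorem aux (k : Type u) [Field k] (n r s : ℕ)
    (X Y : Set (PS k n)) (hX : IsClosed X) (hY : IsClosed Y)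
    (hXr : topologicalKrullDim X = r) (hYs : topologicalKrullDim Y = s) (hrs : n ≤ r + s) :
    (X ∩ Y).Nonempty ∧ ((r + s : ℕ) : WithBot ℕ∞) ≤ topologicalKrullDim ↥(X ∩ Y) + (n : WithBot ℕ∞) := by
  obtain ⟨x, hxX, hxdim⟩ := exists_point_dim_ge X hX r hXr
  obtain ⟨y, hyY, hydim⟩ := exists_point_dim_ge Y hY s hYs
  set P := x.asHomogeneousIdeal.toIdeal with hP
  set Q := y.asHomogeneousIdeal.toIdeal with hQ
  haveI hPprime : P.IsPrime := x.isPrime
  haveI hQprime : Q.IsPrime := y.isPrime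
  have hJm : P ⊔ Q ≤ idealOfVars (Fin (n + 1)) k := sup_le (point_le x) (point_le y)
  have hJh : (P ⊔ Q).IsHomogeneous (homogeneousSubmodule (Fin (n + 1)) k) :=
    Ideal.IsHomogeneous.sup (point_isHomogeneous x) (point_isHomogeneous y)
  obtain ⟨𝔮, h𝔮min, h𝔮le⟩ := Ideal.exists_minimalPrimes_le hJm
  haveI h𝔮prime : 𝔮.IsPrime := h𝔮min.1.1
  have h𝔮h := Groth.Agent.Helper6.CINormal.isHomogeneous_of_mem_minimalPrimes k (Fin (n + 1)) _
    hJh 𝔮 h𝔮min
  have hADT := Groth.Agent.Helper6.AffDim.affine_dimension_theorem k (n + 1) P Q 𝔮 h𝔮min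
  obtain ⟨a, ha, -⟩ := exists_nat_dim P hPprime.ne_top
  obtain ⟨b, hb, -⟩ := exists_nat_dim Q hQprime.ne_top
  obtain ⟨c, hc, -⟩ := exists_nat_dim 𝔮 h𝔮prime.ne_top
  rw [ha] at hxdim
  rw [hb] at hydim
  rw [ha, hb, hc] at hADT
  have G1 : r + 1 ≤ a := by exact_mod_cast hxdim
  have G2 : s + 1 ≤ b := by exact_mod_cast hydim
  have G3 : a + b ≤ c + (n + 1) := by exact_mod_cast hADT
  have h𝔮ne : 𝔮 ≠ idealOfVars (Fin (n + 1)) k :=
    ne_idealOfVars_of_dim_pos 𝔮 c hc (by omega)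
  set z := mkPt 𝔮 h𝔮h h𝔮ne with hz
  have hxz : x ≤ z := le_sup_left.trans h𝔮min.1.2
  have hyz : y ≤ z := le_sup_right.trans h𝔮min.1.2
  have hsub : ProjectiveSpectrum.zeroLocus (CohB1.polyGrading n k)
      (𝔮 : Set (MvPolynomial (Fin (n + 1)) k)) ⊆ X ∩ Y := by
    intro w hw
    have hzw : z ≤ w := hw
    constructor
    · apply zeroLocus_point_subset_of_mem _ hX hxX
      rw [mem_zeroLocus_point]
      exact hxz.trans hzw
    · apply zeroLocus_point_subset_of_mem _ hY hyY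
      rw [mem_zeroLocus_point]
      exact hyz.trans hzw
  refine ⟨⟨z, hsub ((mem_zeroLocus_iff 𝔮 z).2 le_rfl)⟩, ?_⟩
  have hdim𝔮 := dim_zeroLocus_add_one 𝔮 h𝔮h h𝔮ne
  rw [hc] at hdim𝔮
  obtain ⟨t, ht, hct⟩ := eq_nat_of_add_one_eq hdim𝔮
  have hmono : topologicalKrullDim ↥(ProjectiveSpectrum.zeroLocus (CohB1.polyGrading n k)
      (𝔮 : Set (MvPolynomial (Fin (n + 1)) k))) ≤ topologicalKrullDim ↥(X ∩ Y) := by
    rw [dim_closed _ _ (ProjectiveSpectrum.isClosed_zeroLocus _ _), dim_closed _ _ (hX.inter hY)]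
    exact Order.krullDim_le_of_strictMono (fun w => ⟨w.1, hsub w.2⟩) (fun w w' h => h)
  rw [ht] at hmono
  calc ((r + s : ℕ) : WithBot ℕ∞) ≤ ((t + n : ℕ) : WithBot ℕ∞) := by
        exact_mod_cast (by omega : r + s ≤ t + n)
    _ = (t : WithBot ℕ∞) + (n : WithBot ℕ∞) := by push_cast; rfl
    _ ≤ _ := by gcongr

theorem result (k : Type u) [Field k] (n r s : ℕ)
    (X Y : Set ↥(CohB1.ProjSpace n k)) (hX : IsClosed X) (hY : IsClosed Y)
    (hXne : X.Nonempty) (hYne : Y.Nonempty)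
    (hXr : topologicalKrullDim X = r) (hYs : topologicalKrullDim Y = s) (hrs : n ≤ r + s) :
    (X ∩ Y).Nonempty ∧ ((r + s : ℕ) : WithBot ℕ∞) ≤ topologicalKrullDim ↥(X ∩ Y) + (n : WithBot ℕ∞) := by
  exact aux k n r s X Y hX hY hXr hYs hrs

end Groth.Agent.S7675
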