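import Groth.Statements.S8264
import Groth.Agent.Helper1.RP12

set_option autoImplicit false
universe u
open CategoryTheory CategoryTheory.Limits AlgebraicGeometry Opposite TopologicalSpace
open scoped HomogeneousIdeal
open EGA2

namespace Groth.Agent.S8264

open Groth.Agent.Helper1.RP in
theorem aux {Y P : Scheme.{u}} [IsIntegral Y] (𝒮 : RelProj.QCGrAlg Y)
    (hint : ∀ (U : Y.Opens) (hU : IsAffineOpen U), (U : Set Y).Nonempty →
      IsDomain (𝒮.presheaf.obj (op U)) ∧ ((𝒮.deg U hU)₊).toIdeal ≠ ⊥)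
    (p : P ⟶ Y)
    (chart : ∀ (U : Y.Opens) (hU : IsAffineOpen U), (((p ⁻¹ᵁ U : P.Opens) : Scheme.{u}) ≅ Proj (𝒮.deg U hU))) :
    IsIntegral P ∧ DenseRange p.base := by
  -- the charts are integral
  have hI : ∀ (U : Y.Opens) (hU : IsAffineOpen U), (U : Set Y).Nonempty →
      IsIntegral (Proj (𝒮.deg U hU)) := by
    intro U hU hne
    haveI := (hint U hU hne).1
    exact isIntegral_proj _ (hint U hU hne).2
  have hI2 : ∀ (U : Y.Opens) (hU : IsAffineOpen U), (U : Set Y).Nonempty →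
      IsIntegral ((p ⁻¹ᵁ U : P.Opens) : Scheme.{u}) := by
    intro U hU hne
    haveI := hI U hU hne
    haveI : Nonempty ((p ⁻¹ᵁ U : P.Opens) : Scheme.{u}) :=
      ⟨(chart U hU).inv (Classical.arbitrary _)⟩
    exact isIntegral_of_isOpenImmersion (chart U hU).hom
  have hirr : ∀ (U : Y.Opens) (hU : IsAffineOpen U), (U : Set Y).Nonempty →
      IsIrreducible ((p ⁻¹ᵁ U : P.Opens) : Set P) := by
    intro U hU hne
    haveI := hI2 U hU hne
    have h1 : IsIrreducible (Set.univ : Set ((p ⁻¹ᵁ U : P.Opens) : Scheme.{u})) :=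
      IrreducibleSpace.isIrreducible_univ _
    have h2 := h1.image (p ⁻¹ᵁ U).ι (p ⁻¹ᵁ U).ι.continuous.continuousOn
    rw [Set.image_univ, Scheme.Opens.range_ι] at h2
    exact h2
  -- small nonempty affine opens inside any nonempty open
  have hsmall : ∀ V : Y.Opens, (V : Set Y).Nonempty →
      ∃ (V₁ : Y.Opens) (_ : IsAffineOpen V₁), (V₁ : Set Y).Nonempty ∧ V₁ ≤ V := by
    rintro V ⟨y, hy⟩
    obtain ⟨_, ⟨V₁, hV₁, rfl⟩, hy1, hle⟩ :=
      Y.isBasis_affineOpens.exists_subset_of_mem_open hy V.isOpen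
    exact ⟨V₁, hV₁, ⟨y, hy1⟩, hle⟩
  let ι := {U : Y.affineOpens // ((U.1 : Y.Opens) : Set Y).Nonempty}
  have hcov : ∀ x : P, ∃ i : ι, x ∈ ((p ⁻¹ᵁ i.1.1 : P.Opens) : Set P) := by
    intro x
    obtain ⟨V₁, hV₁, _, hle⟩ := hsmall ⊤ ⟨p x, trivial⟩
    obtain ⟨_, ⟨V₂, hV₂, rfl⟩, hy2, -⟩ :=
      Y.isBasis_affineOpens.exists_subset_of_mem_open (Set.mem_univ (p x)) isOpen_univ
    exact ⟨⟨⟨V₂, hV₂⟩, ⟨p x, hy2⟩⟩, hy2⟩
  haveI : Nonempty ι := by
    obtain ⟨y⟩ := (inferInstance : Nonempty Y)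
    obtain ⟨V₁, hV₁, hne, -⟩ := hsmall ⊤ ⟨y, trivial⟩
    exact ⟨⟨⟨V₁, hV₁⟩, hne⟩⟩
  haveI : IrreducibleSpace P := by
    refine irreducibleSpace_of_cover (ι := ι)
      (fun i => ((p ⁻¹ᵁ i.1.1 : P.Opens) : Set P)) (fun i => (p ⁻¹ᵁ i.1.1).isOpen) hcov
      (fun i => hirr i.1.1 i.1.2 i.2) ?_
    rintro ⟨⟨U, hU⟩, hUne⟩ ⟨⟨V, hV⟩, hVne⟩
    have hUV : ((U ⊓ V : Y.Opens) : Set Y).Nonempty :=
      nonempty_preirreducible_inter U.isOpen V.isOpen hUne hVne
    obtain ⟨V₁, hV₁, hne, hle⟩ := hsmall (U ⊓ V) hUV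
    obtain ⟨x, hx⟩ := (hirr V₁ hV₁ hne).nonempty
    exact ⟨x, (p.preimage_mono (hle.trans inf_le_left)) hx,
      (p.preimage_mono (hle.trans inf_le_right)) hx⟩
  haveI : IsReduced P := by
    have hcov2 : TopologicalSpace.IsOpenCover (fun i : ι => p ⁻¹ᵁ i.1.1) := by
      rw [TopologicalSpace.IsOpenCover, eq_top_iff]
      intro x _
      obtain ⟨i, hi⟩ := hcov x
      exact TopologicalSpace.Opens.mem_iSup.2 ⟨i, hi⟩
    haveI : ∀ i, IsReduced ((P.openCoverOfIsOpenCover _ hcov2).X i) := by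
      intro i
      haveI := hI2 i.1.1 i.1.2 i.2
      show IsReduced ((p ⁻¹ᵁ i.1.1 : P.Opens) : Scheme.{u})
      infer_instance
    exact IsReduced.of_openCover _ (P.openCoverOfIsOpenCover _ hcov2)
  refine ⟨isIntegral_of_irreducibleSpace_of_isReduced _, ?_⟩
  rw [DenseRange, dense_iff_inter_open]
  intro V hV hVne
  obtain ⟨V₁, hV₁, hne, hle⟩ := hsmall ⟨V, hV⟩ hVne
  obtain ⟨x, hx⟩ := (hirr V₁ hV₁ hne).nonempty
  exact ⟨p x, hle hx, ⟨x, rfl⟩⟩

/-- Let Y be an integral scheme and 𝒮 a quasi-coherent positively graded O_Y-algebra with 𝒮_0 = O_Y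
which is integral, stated here affine-locally: over every nonempty affine open U the ring 𝒮(U) is an
integral domain whose irrelevant ideal is nonzero (for Y integral this is equivalent to the
stalkwise condition of the published text: every stalk 𝒮_y an integral domain with (𝒮_y)_+ ≠ 0).
Then Proj(𝒮) is integral and its structure morphism to Y is dominant. -/
theorem result {Y P : Scheme.{u}} [IsIntegral Y] (𝒮 : RelProj.QCGrAlg Y)
    (h0 : ∀ (U : Y.Opens) (hU : IsAffineOpen U), Function.Bijective (𝒮.strZero U hU).hom)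
    (hint : ∀ (U : Y.Opens) (hU : IsAffineOpen U), (U : Set Y).Nonempty →
      IsDomain (𝒮.presheaf.obj (op U)) ∧ ((𝒮.deg U hU)₊).toIdeal ≠ ⊥)
    (p : P ⟶ Y)
    (chart : ∀ (U : Y.Opens) (hU : IsAffineOpen U), (((p ⁻¹ᵁ U : P.Opens) : Scheme.{u}) ≅ Proj (𝒮.deg U hU)))
    (hP : RelProj.IsRelProj 𝒮 p chart) : IsIntegral P ∧ DenseRange p.base := by
  exact aux 𝒮 hint p chart

end Groth.Agent.S8264
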