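import Groth.Statements.S8265
import Groth.Agent.Helper1.RP14
import Groth.Agent.Helper1.RP9

set_option autoImplicit false
universe u
open CategoryTheory CategoryTheory.Limits AlgebraicGeometry Opposite TopologicalSpace
open scoped HomogeneousIdeal
open EGA2

namespace Groth.Agent.S8265

/-- Let Y be an integral scheme and 𝒮 a quasi-coherent positively graded O_Y-algebra with 𝒮_0 = O_Y
which is essentially reduced (affine-locally, every nilpotent element of the irrelevant ideal of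
𝒮(U) vanishes). If Proj(𝒮) is integral and dominant over Y, then 𝒮 is integral: over every nonempty
affine open U, 𝒮(U) is an integral domain with nonzero irrelevant ideal (for Y integral, the
affine-local form of the stalkwise condition of the text). -/
theorem result {Y P : Scheme.{u}} [IsIntegral Y] (𝒮 : RelProj.QCGrAlg Y)
    (h0 : ∀ (U : Y.Opens) (hU : IsAffineOpen U), Function.Bijective (𝒮.strZero U hU).hom)
    (hred : ∀ (U : Y.Opens) (hU : IsAffineOpen U) (x : 𝒮.presheaf.obj (op U)),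
      x ∈ (𝒮.deg U hU)₊ → IsNilpotent x → x = 0)
    (p : P ⟶ Y)
    (chart : ∀ (U : Y.Opens) (hU : IsAffineOpen U), (((p ⁻¹ᵁ U : P.Opens) : Scheme.{u}) ≅ Proj (𝒮.deg U hU)))
    (hP : RelProj.IsRelProj 𝒮 p chart) [IsIntegral P] (hdom : DenseRange p.base)
    (U : Y.Opens) (hU : IsAffineOpen U) (hne : (U : Set Y).Nonempty) :
    IsDomain (𝒮.presheaf.obj (op U)) ∧ ((𝒮.deg U hU)₊).toIdeal ≠ ⊥ := by
  open Groth.Agent.Helper1.RP in
  classical
  -- a point of P over U
  obtain ⟨x₀, hx₀⟩ := hdom.exists_mem_open U.isOpen hne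
  haveI : Nonempty ((p ⁻¹ᵁ U : P.Opens) : Scheme.{u}) := ⟨⟨x₀, hx₀⟩⟩
  haveI : IsIntegral ((p ⁻¹ᵁ U : P.Opens) : Scheme.{u}) :=
    isIntegral_of_isOpenImmersion (p ⁻¹ᵁ U).ι
  haveI : Nonempty (Proj (𝒮.deg U hU)) := ⟨(chart U hU).hom ⟨x₀, hx₀⟩⟩
  haveI : IsIntegral (Proj (𝒮.deg U hU)) := isIntegral_of_isOpenImmersion (chart U hU).inv
  haveI : Nonempty U := ⟨⟨p x₀, hx₀⟩⟩
  haveI : IsDomain Γ(Y, U) := inferInstance
  have hirr : ((𝒮.deg U hU)₊).toIdeal ≠ ⊥ := by
    intro h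
    let z : ProjectiveSpectrum (𝒮.deg U hU) := (chart U hU).hom ⟨x₀, hx₀⟩
    apply z.not_irrelevant_le
    intro a ha
    have : a ∈ ((𝒮.deg U hU)₊).toIdeal := ha
    rw [h, Ideal.mem_bot] at this
    rw [this]
    exact zero_mem _
  refine ⟨?_, hirr⟩
  refine isDomain_of_isIntegral_proj (𝒮.deg U hU) (hred U hU) ?_ ?_
  · intro a b hab
    obtain ⟨r, rfl⟩ := (h0 U hU).2 a
    obtain ⟨s, rfl⟩ := (h0 U hU).2 b
    rw [← map_mul, ← map_zero (𝒮.strZero U hU).hom] at hab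
    have := (h0 U hU).1 hab
    rcases mul_eq_zero.1 this with h | h
    · left; rw [h, map_zero]
    · right; rw [h, map_zero]
  · intro a ha
    obtain ⟨r, rfl⟩ := (h0 U hU).2 a
    have hr : r ≠ 0 := by
      rintro rfl
      exact ha (map_zero _)
    have hne' : ((Y.basicOpen r : Y.Opens) : Set Y).Nonempty := by
      rw [← Opens.ne_bot_iff_nonempty, Ne, AlgebraicGeometry.basicOpen_eq_bot_iff]
      exact hr
    obtain ⟨x, hx⟩ := hdom.exists_mem_open (Y.basicOpen r).isOpen hne'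
    have hxU : x ∈ p ⁻¹ᵁ U := Y.basicOpen_le r hx
    refine ⟨(chart U hU).hom ⟨x, hxU⟩, ?_⟩
    have h1 : (chart U hU).hom ⟨x, hxU⟩ ∈ str 𝒮 U hU ⁻¹ᵁ Y.basicOpen r := by
      show (str 𝒮 U hU) ((chart U hU).hom ⟨x, hxU⟩) ∈ Y.basicOpen r
      rw [← Scheme.Hom.comp_apply, chart_str hP U hU]
      exact hx
    have h2 : str 𝒮 U hU ⁻¹ᵁ Y.basicOpen r =
        Proj.toSpecZero (𝒮.deg U hU) ⁻¹ᵁ
          (PrimeSpectrum.basicOpen ((𝒮.strZero U hU).hom r)) := by
      unfold str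
      rw [Scheme.Hom.comp_preimage, Scheme.Hom.comp_preimage, hU.fromSpec_preimage_basicOpen]
      rfl
    rw [h2] at h1
    exact h1

end Groth.Agent.S8265
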