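import Groth.Statements.S8266
import Mathlib

set_option autoImplicit false
universe u
open CategoryTheory CategoryTheory.Limits AlgebraicGeometry Opposite TopologicalSpace
open scoped HomogeneousIdeal
open EGA2

namespace Groth.Agent.S8266


/-- If the quasi-coherent positively graded O_Y-algebra 𝒮 is essentially reduced (affine-locally, no
nonzero nilpotent element in the irrelevant ideal), then Proj(𝒮) is reduced. -/
theorem result {Y P : Scheme.{u}} (𝒮 : RelProj.QCGrAlg Y)
    (hred : ∀ (U : Y.Opens) (hU : IsAffineOpen U) (x : 𝒮.presheaf.obj (op U)),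
      x ∈ (𝒮.deg U hU)₊ → IsNilpotent x → x = 0)
    (p : P ⟶ Y)
    (chart : ∀ (U : Y.Opens) (hU : IsAffineOpen U), (((p ⁻¹ᵁ U : P.Opens) : Scheme.{u}) ≅ Proj (𝒮.deg U hU)))
    (hP : RelProj.IsRelProj 𝒮 p chart) : IsReduced P := by

  classical
  -- Step A: Proj of an essentially reduced graded ring is reduced
  have stepA : ∀ (U : Y.Opens) (hU : IsAffineOpen U), IsReduced (Proj (𝒮.deg U hU)) := by
    intro U hU
    have hred' := hred U hU
    set 𝒜 := 𝒮.deg U hU with h𝒜
    have hAway : ∀ i : (Proj.affineOpenCover 𝒜).I₀,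
        _root_.IsReduced (HomogeneousLocalization.Away 𝒜 (i.2 : 𝒮.presheaf.obj (op U))) := by
      intro i
      constructor
      intro z hz
      apply HomogeneousLocalization.val_injective
      rw [HomogeneousLocalization.val_zero]
      obtain ⟨k, hk⟩ := hz
      have h1 : z.val ^ k = 0 := by
        rw [← HomogeneousLocalization.val_pow, hk, HomogeneousLocalization.val_zero]
      rw [z.eq_num_div_den] at h1 ⊢
      rw [Localization.mk_pow, Localization.mk_eq_mk', IsLocalization.mk'_eq_zero_iff] at h1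
      obtain ⟨⟨c, N, rfl⟩, hc⟩ := h1
      simp only at hc
      have hnil : IsNilpotent ((i.2 : 𝒮.presheaf.obj (op U)) * z.num) := by
        refine ⟨N + k, ?_⟩
        rw [mul_pow, pow_add, pow_add]
        linear_combination ((i.2 : 𝒮.presheaf.obj (op U)) ^ k * z.num ^ N) * hc
      have hmem : (i.2 : 𝒮.presheaf.obj (op U)) * z.num ∈ 𝒜₊ :=
        Ideal.mul_mem_right _ _ (HomogeneousIdeal.mem_irrelevant_of_mem _ i.1.2 i.2.2)
      have h0 := hred' _ hmem hnil
      rw [Localization.mk_eq_mk', IsLocalization.mk'_eq_zero_iff]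
      exact ⟨⟨(i.2 : 𝒮.presheaf.obj (op U)), 1, pow_one _⟩, h0⟩
    haveI : ∀ i, IsReduced ((Proj.affineOpenCover 𝒜).openCover.X i) := by
      intro i
      haveI := hAway i
      show IsReduced (Spec (CommRingCat.of
        (HomogeneousLocalization.Away 𝒜 (i.2 : 𝒮.presheaf.obj (op U)))))
      infer_instance
    exact IsReduced.of_openCover _ (Proj.affineOpenCover 𝒜).openCover
  -- Step B: cover P by the preimages of affine opens
  have hcov : TopologicalSpace.IsOpenCover (fun U : Y.affineOpens => p ⁻¹ᵁ U.1) := by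
    have := iSup_affineOpens_eq_top Y
    show ⨆ U : Y.affineOpens, p ⁻¹ᵁ U.1 = ⊤
    rw [← Scheme.Hom.preimage_iSup, this]
    rfl
  haveI : ∀ i, IsReduced ((P.openCoverOfIsOpenCover _ hcov).X i) := by
    rintro ⟨U, hU⟩
    haveI := stepA U hU
    show IsReduced ((p ⁻¹ᵁ U : P.Opens) : Scheme.{u})
    exact isReduced_of_isOpenImmersion (chart U hU).hom
  exact IsReduced.of_openCover _ (P.openCoverOfIsOpenCover _ hcov)

end Groth.Agent.S8266
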