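import Groth.Statements.S8267
import Groth.Agent.Helper1.SY13

set_option autoImplicit false
universe u
open CategoryTheory CategoryTheory.Limits AlgebraicGeometry Opposite TopologicalSpace
open EGA2

namespace Groth.Agent.S8267

/-- Let E be a quasi-coherent O_S-module of finite type and A (through j : E → A) its symmetric algebra.
Then the vector bundle V(E) = Spec(A) is of finite type over S, i.e. its (affine) structure morphism
is locally of finite type. -/
theorem result {S : Scheme.{u}} (E : S.Modules) (hE : Coh.IsCoh E)
    (A : RelSpec.QCAlg S) (j : E ⟶ A.toModule) (hA : RelSpec.IsSymAlg E A j) :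
    LocallyOfFiniteType A.π := by
  haveI : E.IsQuasicoherent := hE.1
  refine (IsZariskiLocalAtSource.iff_of_openCover (P := @LocallyOfFiniteType) (f := A.π)
    (show A.spec.OpenCover from A.glueData.cover)).mpr ?_
  intro i
  have hfin : Module.Finite Γ(S, i.1) Γ(E, i.1) :=
    Groth.Agent.Helper4.SecDict.finite_sections i.2 E hE.1 hE.2
  have h1 : A.glueData.cover.f i ≫ A.π = Spec.map (A.str.app (op i.1)) ≫ i.2.fromSpec :=
    A.ι_π i.1 i.2
  change LocallyOfFiniteType (A.glueData.cover.f i ≫ A.π)
  rw [h1]
  have h2 : LocallyOfFiniteType (Spec.map (A.str.app (op i.1))) := by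
    rw [HasRingHomProperty.Spec_iff (P := @LocallyOfFiniteType)]
    exact Groth.Agent.Helper1.SY.str_finiteType_of_finite hA i.1 i.2
  have h3 : LocallyOfFiniteType i.2.fromSpec := inferInstance
  exact MorphismProperty.comp_mem (W := @LocallyOfFiniteType) _ _ h2 h3

end Groth.Agent.S8267
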