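import Groth.Statements.S8269
import Groth.Agent.Helper1.VB1
import Groth.Agent.S4354
import Groth.Agent.S4353

set_option autoImplicit false
universe u
open CategoryTheory CategoryTheory.Limits AlgebraicGeometry Opposite TopologicalSpace
open EGA2

namespace Groth.Agent.S8269

/-- Let Y be either a quasi-compact separated scheme or a scheme with Noetherian underlying space, and X
affine and of finite type over Y. Then X is Y-isomorphic to a closed subscheme of a vector bundle
V(E) with E a quasi-coherent O_Y-module of finite type: there are such an E, its symmetric algebra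
A, and a closed immersion X → Spec(A) over Y. -/
theorem result {X Y : Scheme.{u}}
    (hY : (CompactSpace Y ∧ Y.IsSeparated) ∨ NoetherianSpace Y) (f : X ⟶ Y) [IsAffineHom f]
    [LocallyOfFiniteType f] :
    ∃ (E : Y.Modules) (_ : Coh.IsCoh E) (A : RelSpec.QCAlg Y) (j : E ⟶ A.toModule)
      (_ : RelSpec.IsSymAlg E A j) (i : X ⟶ A.spec), IsClosedImmersion i ∧ i ≫ A.π = f := by
  classical
  let B := RelSpec.QCAlg.directImage f
  have hB : ∀ U : Y.affineOpens, (B.str.app (op (U : Y.Opens))).hom.FiniteType := by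
    intro U
    have hU' : IsAffineOpen (f ⁻¹ᵁ U.1) := U.2.preimage f
    have h1 := HasRingHomProperty.appLE (P := @LocallyOfFiniteType) f ‹_› U ⟨_, hU'⟩ le_rfl
    rw [Scheme.Hom.appLE_eq_app] at h1
    exact h1
  obtain ⟨E, j, -, hq, hft, hgen⟩ : ∃ (E : Y.Modules) (j : E ⟶ B.toModule), Mono j ∧ Coh.IsQCoh E ∧
      CohB1.IsFT E ∧ ∀ U : Y.affineOpens,
        Subring.closure (Set.range (B.str.app (op (U : Y.Opens))).hom ∪
          Set.range (fun e : E.val.obj (op (U : Y.Opens)) ↦
            (show B.presheaf.obj (op (U : Y.Opens)) from (j.val.app (op (U : Y.Opens))).hom e))) = ⊤ := by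
    rcases hY with ⟨h1, h2⟩ | h
    · exact Groth.Agent.S4354.result B hB
    · exact Groth.Agent.S4353.result B hB
  haveI : E.IsQuasicoherent := hq
  obtain ⟨c, hc, hcf⟩ := Groth.Agent.Helper1.VB.exists_iso_spec_directImage f
  have hci : IsClosedImmersion (RelSpec.QCAlg.specMap (Groth.Agent.Helper1.SY.symDesc B j)) :=
    Groth.Agent.Helper1.SP.isClosedImmersion_specMap _ (fun V hV =>
      Groth.Agent.Helper1.VB.symDesc_app_surjective B j V hV (hgen ⟨V, hV⟩))
  refine ⟨E, ⟨hq, hft⟩, Groth.Agent.Helper1.SY.symAlg E, Groth.Agent.Helper1.SY.symJ E,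
    Groth.Agent.Helper1.SY.isSymAlg_symAlg E,
    c ≫ RelSpec.QCAlg.specMap (Groth.Agent.Helper1.SY.symDesc B j), ?_, ?_⟩
  · infer_instance
  · rw [Category.assoc, RelSpec.QCAlg.specMap_π]
    exact hcf

end Groth.Agent.S8269
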