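import Groth.Statements.S8272
import Mathlib

set_option autoImplicit false
universe u
open CategoryTheory CategoryTheory.Limits AlgebraicGeometry Opposite TopologicalSpace
open EGA2

namespace Groth.Agent.S8272


/-- Let T be a positively graded ring, Z = Proj T and g ∈ T_d (d > 0) a homogeneous element that is not
a zero divisor in T. Then Z is the smallest closed subscheme of Z containing the open D_+(g);
equivalently the kernel (ideal sheaf) of the open immersion D_+(g) → Z vanishes. -/
theorem result {R A : Type u} [CommRing R] [CommRing A] [Algebra R A]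
    (𝒜 : ℕ → Submodule R A) [GradedAlgebra 𝒜] {d : ℕ} (hd : 0 < d) (g : A) (hg : g ∈ 𝒜 d)
    (hnz : g ∈ nonZeroDivisors A) :
    (Proj.basicOpen 𝒜 g).ι.ker = ⊥ := by

  classical
  let ι' := {f : A // ∃ m : ℕ, 0 < m ∧ f ∈ 𝒜 m}
  have hcover : ⨆ f : ι', Proj.basicOpen 𝒜 f.1 = ⊤ := by
    apply Proj.iSup_basicOpen_eq_top
    rw [HomogeneousIdeal.irrelevant_eq_span]
    apply Ideal.span_mono
    intro x hx
    simp only [Set.mem_iUnion] at hx
    obtain ⟨i, hi, hx⟩ := hx
    exact ⟨⟨x, i, hi, hx⟩, rfl⟩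
  have haff : ∀ f : ι', IsAffineOpen (Proj.basicOpen 𝒜 f.1) := fun f => by
    obtain ⟨m, hm, hf⟩ := f.2
    exact Proj.isAffineOpen_basicOpen 𝒜 f.1 hf hm
  refine Scheme.IdealSheafData.ext_of_iSup_eq_top (fun f : ι' => ⟨_, haff f⟩) hcover ?_
  intro f
  obtain ⟨m, hm, hf⟩ := f.2
  rw [Scheme.IdealSheafData.ideal_bot, Pi.bot_apply, eq_bot_iff]
  refine (Scheme.Hom.ideal_ker_le _ _).trans ?_
  rw [le_bot_iff, ← RingHom.injective_iff_ker_eq_bot]
  -- injectivity of the away map
  have hinjAway : Function.Injective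
      (HomogeneousLocalization.awayMap 𝒜 hg (rfl : f.1 * g = f.1 * g)) := by
    intro a b hab
    apply HomogeneousLocalization.val_injective
    have h1 := congrArg HomogeneousLocalization.val hab
    rw [HomogeneousLocalization.val_awayMap, HomogeneousLocalization.val_awayMap] at h1
    refine (IsLocalization.lift_injective_iff (M := Submonoid.powers f.1)
      (S := Localization.Away f.1) _).2 ?_ h1
    intro x y
    constructor
    · intro hxy
      obtain ⟨⟨c, k, rfl⟩, hc⟩ := (IsLocalization.eq_iff_exists (Submonoid.powers f.1) _).1 hxy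
      refine (IsLocalization.eq_iff_exists (Submonoid.powers (f.1 * g)) _).2
        ⟨⟨(f.1 * g) ^ k, k, rfl⟩, ?_⟩
      simp only at hc ⊢
      rw [mul_pow, mul_comm (f.1 ^ k), mul_assoc, mul_assoc, hc]
    · intro hxy
      obtain ⟨⟨c, k, rfl⟩, hc⟩ :=
        (IsLocalization.eq_iff_exists (Submonoid.powers (f.1 * g)) _).1 hxy
      refine (IsLocalization.eq_iff_exists (Submonoid.powers f.1) _).2 ⟨⟨f.1 ^ k, k, rfl⟩, ?_⟩
      simp only at hc ⊢
      have hgk : g ^ k ∈ nonZeroDivisors A := pow_mem hnz k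
      have h2 : g ^ k * (f.1 ^ k * x - f.1 ^ k * y) = 0 := by
        rw [mul_pow] at hc
        linear_combination hc
      have h3 : f.1 ^ k * x - f.1 ^ k * y = 0 :=
        (mul_left_mem_nonZeroDivisors_eq_zero_iff hgk).1 h2
      exact sub_eq_zero.1 h3
  have key : ∀ (W' : (Proj 𝒜).Opens) (_ : W' = Proj.basicOpen 𝒜 (f.1 * g))
      (h : W' ≤ Proj.basicOpen 𝒜 f.1),
      Function.Injective ((Proj 𝒜).presheaf.map (homOfLE h).op) := by
    intro W' hW' h
    subst hW'
    have e1 := Proj.awayMap_awayToSection 𝒜 (f := f.1) hg (rfl : f.1 * g = f.1 * g)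
    have hiso1 : Function.Bijective (Proj.awayToSection 𝒜 f.1) := by
      rw [← Proj.basicOpenIsoAway_hom 𝒜 f.1 hf hm]
      exact ConcreteCategory.bijective_of_isIso _
    have hiso2 : Function.Bijective (Proj.awayToSection 𝒜 (f.1 * g)) := by
      rw [← Proj.basicOpenIsoAway_hom 𝒜 (f.1 * g) (SetLike.mul_mem_graded hf hg)
        (hm.trans_le (Nat.le_add_right m d))]
      exact ConcreteCategory.bijective_of_isIso _
    have h4 : Function.Injective (⇑((Proj 𝒜).presheaf.map (homOfLE h).op) ∘
        ⇑(Proj.awayToSection 𝒜 f.1)) := by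
      have : ⇑((Proj 𝒜).presheaf.map (homOfLE h).op) ∘ ⇑(Proj.awayToSection 𝒜 f.1) =
          ⇑(Proj.awayToSection 𝒜 (f.1 * g)) ∘
            ⇑(HomogeneousLocalization.awayMap 𝒜 hg (rfl : f.1 * g = f.1 * g)) := by
        funext a
        have := congrArg (fun φ => φ a) e1
        simpa using this.symm
      rw [this]
      exact hiso2.injective.comp hinjAway
    exact Function.Injective.of_comp_right h4 hiso1.surjective
  rw [Scheme.Opens.ι_app]
  apply key
  rw [Scheme.Hom.image_preimage_eq_opensRange_inf, Scheme.Opens.opensRange_ι, Proj.basicOpen_mul,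
    inf_comm]

end Groth.Agent.S8272
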