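import Groth.Statements.S8275
import Groth.Agent.Helper4.Natural3
import Mathlib

set_option autoImplicit false
universe u
open EGA2

namespace Groth.Agent.S8275


/-- For a positively graded ring S and the graded ring S♮ with S♮_n = S_{≥ n} = ⊕_{m ≥ n} S_m (presented
here as a graded ring S' with an injective algebra homomorphism φ : S' → S[X] carrying S'_n onto
S_{≥ n}·X^n for every n, so that S'_0 is identified with S): S♮ is of finite type over S♮_0 = S if
and only if S is of finite type over S_0. -/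
theorem result {R A B : Type u} [CommRing R] [CommRing A] [Algebra R A]
    (𝒜 : ℕ → Submodule R A) [GradedAlgebra 𝒜] [CommRing B] [Algebra R B] (ℬ : ℕ → Submodule R B) [GradedAlgebra ℬ]
    (φ : B →ₐ[R] Polynomial A) (hφ : Function.Injective φ)
    (hdeg : ∀ n : ℕ, Submodule.map φ.toLinearMap (ℬ n) =
      Submodule.map ((Polynomial.monomial n : A →ₗ[A] Polynomial A).restrictScalars R) (⨆ (m : ℕ) (_ : n ≤ m), 𝒜 m)) :
    Algebra.FiniteType (ℬ 0) B ↔ Algebra.FiniteType (𝒜 0) A := by

  classical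
  have h : Groth.Agent.Helper4.Natural.IsNatural 𝒜 ℬ φ := ⟨hφ, hdeg⟩
  rw [← Groth.Agent.Helper2.irrelevant_fg_iff_finiteType, ← Groth.Agent.Helper2.irrelevant_fg_iff_finiteType]
  constructor
  · exact h.irrelevant_fg_of_irrelevant_fg
  · intro hA
    have hft : Algebra.FiniteType (𝒜 0) A := (Groth.Agent.Helper2.irrelevant_fg_iff_finiteType 𝒜).mp hA
    obtain ⟨s, hs, hs'⟩ := GradedAlgebra.exists_finset_adjoin_eq_top_and_homogeneous_ne_zero 𝒜
    have hE : ∀ e ∈ (s : Set A), ∃ d : ℕ, 0 < d ∧ e ∈ 𝒜 d := by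
      intro e he
      obtain ⟨n, hn, hen⟩ := hs' e he
      exact ⟨n, Nat.pos_of_ne_zero hn, hen⟩
    have hspan := (Groth.Agent.Helper2.irrelevant_eq_span_iff_adjoin_eq_top 𝒜 s hE).mpr hs
    have hE' : ∀ e : s, ∃ d : ℕ, 0 < d ∧ (e : A) ∈ 𝒜 d := fun e => hE e.1 e.2
    choose d hd hf using hE'
    refine h.irrelevant_fg_of_span (ι := s) (fun e => (e : A)) d hd hf ?_
    rw [hspan]
    congr 1
    ext x
    simp

end Groth.Agent.S8275
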