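import Groth.Statements.S8280
import Mathlib

set_option autoImplicit false
universe u
open CategoryTheory CategoryTheory.Limits AlgebraicGeometry Opposite TopologicalSpace
open scoped HomogeneousIdeal
open EGA2

namespace Groth.Agent.S8280


/-- Let (f_α) be global sections of the quasi-coherent positively graded O_Y-algebra 𝒮, homogeneous of
positive degrees, such that the ideal they generate contains all 𝒮_n from some degree on
(affine-locally). Then the opens X_{f_α} of Proj(𝒮) (characterised chartwise by the basic opens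
D_+(f_α|U)) cover Proj(𝒮). (The published hypothesis fixes one degree, valid over all of Y, from
which on the f_α generate; this row asks for such a degree over each affine open separately, which
is all the proof, carried out one affine open at a time, uses.) -/
theorem result {Y P : Scheme.{u}} (𝒮 : RelProj.QCGrAlg Y) (p : P ⟶ Y)
    (chart : ∀ (U : Y.Opens) (hU : IsAffineOpen U), (((p ⁻¹ᵁ U : P.Opens) : Scheme.{u}) ≅ Proj (𝒮.deg U hU)))
    (hP : RelProj.IsRelProj 𝒮 p chart) {ι : Type u} (d : ι → ℕ) (hd : ∀ a, 0 < d a)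
    (f : ι → 𝒮.presheaf.obj (op ⊤))
    (hf : ∀ (a : ι) (U : Y.Opens) (hU : IsAffineOpen U), (𝒮.presheaf.map (homOfLE le_top).op).hom (f a) ∈ 𝒮.deg U hU (d a))
    (hgen : ∀ (U : Y.Opens) (hU : IsAffineOpen U), ∃ n₀ : ℕ, ∀ n, n₀ ≤ n →
      (𝒮.deg U hU n : Set (𝒮.presheaf.obj (op U))) ⊆
        (Ideal.span (Set.range fun a => (𝒮.presheaf.map (homOfLE (le_top : U ≤ ⊤)).op).hom (f a)) :
          Set (𝒮.presheaf.obj (op U))))
    (X : ι → P.Opens)
    (hX : ∀ (a : ι) (U : Y.Opens) (hU : IsAffineOpen U),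
      X a ⊓ p ⁻¹ᵁ U =
        (p ⁻¹ᵁ U).ι ''ᵁ ((chart U hU).hom ⁻¹ᵁ
          Proj.basicOpen (𝒮.deg U hU) ((𝒮.presheaf.map (homOfLE le_top).op).hom (f a)))) :
    ⨆ a, X a = ⊤ := by

  classical
  rw [eq_top_iff]
  intro x _
  rw [TopologicalSpace.Opens.mem_iSup]
  -- an affine open around p x
  obtain ⟨_, ⟨U, hU : IsAffineOpen U, rfl⟩, hxU, -⟩ :=
    Y.isBasis_affineOpens.exists_subset_of_mem_open (Set.mem_univ (p x)) isOpen_univ
  have hx : x ∈ p ⁻¹ᵁ U := hxU
  set 𝒜 := 𝒮.deg U hU with h𝒜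
  set g : ι → 𝒮.presheaf.obj (op U) := fun a => (𝒮.presheaf.map (homOfLE (le_top : U ≤ ⊤)).op).hom (f a)
    with hg
  set z : Proj 𝒜 := (chart U hU).hom ⟨x, hx⟩ with hz
  obtain ⟨n₀, hn₀⟩ := hgen U hU
  -- some g a is not in z
  have hex : ∃ a, g a ∉ z.asHomogeneousIdeal := by
    by_contra hcon
    push Not at hcon
    have hspan : Ideal.span (Set.range g) ≤ z.asHomogeneousIdeal.toIdeal := by
      rw [Ideal.span_le]
      rintro _ ⟨a, rfl⟩
      exact hcon a
    apply z.not_irrelevant_le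
    show (HomogeneousIdeal.irrelevant 𝒜).toIdeal ≤ z.asHomogeneousIdeal.toIdeal
    rw [HomogeneousIdeal.toIdeal_irrelevant_le]
    intro i hi y hy
    have hy' : y ∈ 𝒜 i := hy
    have hpow : y ^ (n₀ + 1) ∈ 𝒜 ((n₀ + 1) • i) := SetLike.pow_mem_graded (n₀ + 1) hy'
    have hle : n₀ ≤ (n₀ + 1) • i := by
      rw [smul_eq_mul]
      nlinarith
    have h1 : y ^ (n₀ + 1) ∈ Ideal.span (Set.range g) := hn₀ _ hle hpow
    exact (z.isPrime.mem_of_pow_mem _ (hspan h1))
  obtain ⟨a, ha⟩ := hex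
  refine ⟨a, ?_⟩
  have hmem : x ∈ X a ⊓ p ⁻¹ᵁ U := by
    rw [hX a U hU]
    refine ⟨⟨x, hx⟩, ?_, rfl⟩
    show (chart U hU).hom ⟨x, hx⟩ ∈ Proj.basicOpen 𝒜 (g a)
    rw [Proj.mem_basicOpen]
    exact ha
  exact hmem.1

end Groth.Agent.S8280
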