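import Groth.Statements.S8304
import Groth.Agent.Helper1.QH3

set_option autoImplicit false
universe u
open CategoryTheory CategoryTheory.Limits AlgebraicGeometry Opposite TopologicalSpace
open scoped HomogeneousIdeal
noncomputable section
open EGA2

namespace Groth.Agent.S8304

/-- At the level of graded algebras: let E be a quasi-coherent O_Y-module and 𝒮 = Sym(E) its graded
symmetric algebra (j : E → 𝒮 landing in degree one), and let Ŝ = 𝒮[z] be given through a graded
homomorphism ι : 𝒮 → Ŝ and a global section z of degree one with 𝒮(U)[X] → Ŝ(U), X ↦ z, bijective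
over every affine open U. If k : O_Y → Ŝ is a module homomorphism sending the unit section to z over
every open, then Ŝ together with the map E ⊕ O_Y → Ŝ whose components are j followed by ι, and k, is
the graded symmetric algebra of E ⊕ O_Y. Consequently the projective cone of V(E) = Spec(Sym E),
which is Proj(Ŝ), is the projective bundle P(E ⊕ O_Y), and its locus at infinity Proj(𝒮) is P(E). -/
theorem result {Y : Scheme.{u}} (E : Y.Modules) (hE : Coh.IsQCoh E)
    (𝒮 𝒮h : RelProj.QCGrAlg Y) (j : E ⟶ 𝒮.toModule) (hS : RelProj.IsGrSymAlg E 𝒮 j)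
    (ι : 𝒮.toQCAlg ⟶ 𝒮h.toQCAlg) (z : 𝒮h.presheaf.obj (op ⊤)) (hz : RelCone.IsPolyOver 𝒮 𝒮h ι z)
    (k : Coh.structureModule Y ⟶ 𝒮h.toModule)
    (hk : ∀ U : Y.Opens, (k.app U) (1 : Γ(Y, U)) = RelCone.restrictTop 𝒮h z U) :
    RelProj.IsGrSymAlg (E ⊞ Coh.structureModule Y) 𝒮h
      (biprod.desc (j ≫ RelSpec.QCAlg.Hom.toModuleMap ι) k) := by
  open Groth.Agent.Helper1.QH in
  have hunit : ∀ {B : RelSpec.QCAlg Y} (κ : Coh.structureModule Y ⟶ B.toModule) (U : Y.Opens) (b : Γ(Y, U))
      (y : B.presheaf.obj (op U)), κ.app U (1 : Γ(Y, U)) = y →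
      κ.app U b = (B.str.app (op U)).hom b * y := by
    intro B κ U b y hy
    have := Scheme.Modules.Hom.app_smul κ b (1 : Γ(Y, U))
    rw [hy] at this
    refine Eq.trans ?_ (this.trans rfl)
    congr 1
    exact (mul_one b).symm
  have h3 : ∀ (U : Y.Opens) (b : Γ(Y, U)), k.app U b = (𝒮h.str.app (op U)).hom b * RelCone.restrictTop 𝒮h z U := by
    intro U b
    exact hunit k U b _ (hk U)
  refine ⟨?_, ?_⟩
  · intro B φ
    obtain ⟨ψ1, hψ1, hψ1u⟩ := hS.1 B (biprod.inl ≫ φ)
    let φ2 : Coh.structureModule Y ⟶ B.toModule := biprod.inr ≫ φ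
    let bb : ∀ U : Y.Opens, B.presheaf.obj (op U) := fun U => φ2.app U (1 : Γ(Y, U))
    have hbb : ∀ {U V : Y.Opens} (i : V ≤ U), (B.presheaf.map (homOfLE i).op).hom (bb U) = bb V := by
      intro U V i
      have := congrArg (fun k => k.hom (1 : Γ(Y, U))) (φ2.mapPresheaf.naturality (homOfLE i).op)
      simp only [Scheme.Modules.mapPresheaf_app, AddCommGrpCat.hom_comp, AddMonoidHom.coe_comp,
        Function.comp_apply] at this
      refine this.symm.trans ?_
      change φ2.app V ((Y.presheaf.map (homOfLE i).op).hom (1 : Γ(Y, U))) = φ2.app V (1 : Γ(Y, V))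
      rw [map_one]
    let a : AffHom 𝒮h.toQCAlg B :=
      { app := fun U hU => CommRingCat.ofHom (polyOverLift hz U hU (ψ1.hom.app (op U)).hom (bb U))
        naturality := fun U V hU hV i => by
          ext1
          apply polyOver_ringHom_ext hz U hU
          · intro a
            simp only [CommRingCat.hom_comp, RingHom.comp_apply, CommRingCat.hom_ofHom]
            rw [hom_naturality_apply ι i, polyOverLift_ι, polyOverLift_ι, hom_naturality_apply ψ1 i]
          · simp only [CommRingCat.hom_comp, RingHom.comp_apply, CommRingCat.hom_ofHom]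
            rw [restrictTop_res, polyOverLift_z, polyOverLift_z, hbb]
        str := fun U hU => by
          ext r
          simp only [CommRingCat.hom_comp, RingHom.comp_apply, CommRingCat.hom_ofHom]
          rw [← hom_str_apply ι U r, polyOverLift_ι, hom_str_apply ψ1] }
    have hιa : ι ≫ a.toHom = ψ1 := hom_ext_affine (fun U hU => by
      rw [RelSpec.QCAlg.comp_hom, NatTrans.comp_app, AffHom.toHom_app a U hU]
      ext x
      exact polyOverLift_ι hz U hU _ _ x)
    refine ⟨a.toHom, ?_, ?_⟩
    · apply biprod.hom_ext'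
      · rw [biprod.inl_desc_assoc, Category.assoc]
        have h2 : RelSpec.QCAlg.Hom.toModuleMap ι ≫ RelSpec.QCAlg.Hom.toModuleMap a.toHom =
            RelSpec.QCAlg.Hom.toModuleMap (ι ≫ a.toHom) := rfl
        rw [h2, hιa]
        exact hψ1
      · rw [biprod.inr_desc_assoc]
        apply modHom_ext_affine
        intro U hU
        ext r
        change (a.toHom.hom.app (op U)).hom (k.app U r) = φ2.app U r
        rw [h3, map_mul, hunit φ2 U r (bb U) rfl, AffHom.toHom_app a U hU]
        change polyOverLift hz U hU _ _ _ * polyOverLift hz U hU _ _ _ = _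
        rw [polyOverLift_z, ← hom_str_apply ι U r, polyOverLift_ι, hom_str_apply ψ1]
    · intro ψ' hψ'
      have h1' : ι ≫ ψ' = ψ1 := hψ1u _ (by
        rw [← hψ', biprod.inl_desc_assoc, Category.assoc]
        rfl)
      apply hom_ext_affine
      intro U hU
      rw [AffHom.toHom_app a U hU]
      ext1
      apply polyOver_ringHom_ext hz U hU
      · intro x
        rw [CommRingCat.hom_ofHom, polyOverLift_ι, ← h1']
        rfl
      · rw [CommRingCat.hom_ofHom, polyOverLift_z]
        have := congrArg (fun f : Coh.structureModule Y ⟶ B.toModule => f.app U (1 : Γ(Y, U)))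
          (show biprod.inr ≫ biprod.desc (j ≫ RelSpec.QCAlg.Hom.toModuleMap ι) k ≫ RelSpec.QCAlg.Hom.toModuleMap ψ' = φ2 by rw [hψ'])
        rw [biprod.inr_desc_assoc] at this
        simp only [Scheme.Modules.Hom.comp_app] at this
        rw [← hk U]
        exact this
  · intro U hU x
    have hx : x = (biprod.inl : E ⟶ E ⊞ Coh.structureModule Y).app U ((biprod.fst : E ⊞ Coh.structureModule Y ⟶ E).app U x) +
        (biprod.inr : Coh.structureModule Y ⟶ E ⊞ Coh.structureModule Y).app U ((biprod.snd : E ⊞ Coh.structureModule Y ⟶ _).app U x) := by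
      have h := congrArg (fun f : E ⊞ Coh.structureModule Y ⟶ E ⊞ Coh.structureModule Y => f.app U x)
        (biprod.total (X := E) (Y := Coh.structureModule Y))
      simp only [Scheme.Modules.Hom.add_app, Scheme.Modules.Hom.comp_app, Scheme.Modules.Hom.id_app] at h
      exact h.symm
    have h1 : ∀ a : Γ(E, U), (biprod.desc (j ≫ RelSpec.QCAlg.Hom.toModuleMap ι) k).app U
        ((biprod.inl : E ⟶ E ⊞ Coh.structureModule Y).app U a) = (ι.hom.app (op U)).hom (j.app U a) := by
      intro a
      have h := congrArg (fun f : E ⟶ 𝒮h.toModule => f.app U a)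
        (biprod.inl_desc (j ≫ RelSpec.QCAlg.Hom.toModuleMap ι) k)
      simp only [Scheme.Modules.Hom.comp_app] at h
      exact h
    have h2 : ∀ b : Γ(Coh.structureModule Y, U), (biprod.desc (j ≫ RelSpec.QCAlg.Hom.toModuleMap ι) k).app U
        ((biprod.inr : Coh.structureModule Y ⟶ E ⊞ Coh.structureModule Y).app U b) = k.app U b := by
      intro b
      have h := congrArg (fun f : Coh.structureModule Y ⟶ 𝒮h.toModule => f.app U b)
        (biprod.inr_desc (j ≫ RelSpec.QCAlg.Hom.toModuleMap ι) k)
      simp only [Scheme.Modules.Hom.comp_app] at h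
      exact h
    rw [hx, map_add, h1, h2]
    refine AddSubgroup.add_mem _ (hz.graded U hU 1 _ (hS.2 U hU _)) ?_
    rw [h3]
    have := SetLike.mul_mem_graded (A := 𝒮h.deg U hU) (𝒮h.str_mem U hU ((biprod.snd : E ⊞ Coh.structureModule Y ⟶ _).app U x)) (hz.deg_z U hU)
    rw [zero_add] at this
    exact this

end Groth.Agent.S8304
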