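import Groth.Statements.S8306
import Groth.Agent.Helper4.QcohLocal
import Groth.Agent.Helper4.QcohGlue
import Groth.Agent.Helper4.QcohEpi
import Mathlib

set_option autoImplicit false
universe u
open CategoryTheory CategoryTheory.Limits AlgebraicGeometry Opposite TopologicalSpace
noncomputable section
open EGA2

namespace Groth.Agent.S8306


/-- Exactness: in the form it takes for the direct image: let f : X → S be an affine morphism and v : F
→ G an epimorphism between quasi-coherent O_X-modules. Then the direct image f_*(v) : f_*F → f_*G, a
homomorphism of modules over the direct-image algebra f_*O_X, is again an epimorphism. (The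
published statement says that the module on X attached to a quasi-coherent f_*O_X-module is an exact
functor of that module; since this functor is inverse to the direct image on quasi-coherent modules
and the direct image is left exact, its exactness amounts to the direct image preserving
epimorphisms between quasi-coherent modules.) -/
theorem result {X S : Scheme.{u}} (f : X ⟶ S) [IsAffineHom f]
    (F G : X.Modules) (hF : Coh.IsQCoh F) (hG : Coh.IsQCoh G) (v : F ⟶ G) [Epi v] :
    Epi ((AMod.dirImg f).map v) := by

  haveI : F.IsQuasicoherent := hF
  haveI : G.IsQuasicoherent := hG
  haveI : ((Scheme.Modules.pushforward f).obj G).IsQuasicoherent :=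
    Groth.Agent.Helper4.QcohGlue.isQuasicoherent_pushforward f G
  have hepi : Epi ((Scheme.Modules.pushforward f).map v) := by
    apply Groth.Agent.Helper4.QcohLocal.epi_of_app_surjective_of_affine_cover
    intro y
    obtain ⟨U, hU, hyU, -⟩ := exists_isAffineOpen_mem_and_subset (X := S) (x := y)
      (U := ⊤) trivial
    refine ⟨U, hU, hyU, ?_⟩
    exact Groth.Agent.Helper4.QcohEpi.app_surjective_of_epi v
      (IsAffineHom.isAffine_preimage (f := f) U hU)
  haveI : (AMod.toOS (RelSpec.QCAlg.directImage f)).Faithful := by
    constructor
    intro M N φ ψ h
    have h1 : (PresheafOfModules.restrictScalars _).map φ.val =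
        (PresheafOfModules.restrictScalars _).map ψ.val := congrArg SheafOfModules.Hom.val h
    exact SheafOfModules.hom_ext ((PresheafOfModules.restrictScalars _).map_injective h1)
  have h2 : Epi ((AMod.toOS (RelSpec.QCAlg.directImage f)).map ((AMod.dirImg f).map v)) := hepi
  exact (AMod.toOS (RelSpec.QCAlg.directImage f)).epi_of_epi_map h2

end Groth.Agent.S8306
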