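import Groth.Statements.S8338
import Groth.Agent.Helper1.TR14

set_option autoImplicit false
universe u
open CategoryTheory CategoryTheory.Limits AlgebraicGeometry Opposite TopologicalSpace
noncomputable section
open EGA2

namespace Groth.Agent.S8338

/-- For an exact sequence M₁ → M₂ → M₃ of graded S-modules with degree-preserving maps u, v and every
integer n, the induced morphisms M₁(n)~ → M₂(n)~ → M₃(n)~ of modules on X = Proj S give an exact
sequence of sections over every basic open D_+(f), f homogeneous of positive degree (these opens are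
affine and cover X, so the sequence of modules is exact). Gradings by additive subgroups, modules
graded in non-negative degrees. -/
theorem result {A σ : Type u} [CommRing A] [SetLike σ A] [AddSubgroupClass σ A] (𝒜 : ℕ → σ)
    [GradedRing 𝒜] {M₁ τ₁ : Type u} [AddCommGroup M₁] [Module A M₁] [SetLike τ₁ M₁] [AddSubgroupClass τ₁ M₁]
    (ℳ₁ : ℕ → τ₁) [SetLike.GradedSMul 𝒜 ℳ₁] [DirectSum.Decomposition ℳ₁]
    {M₂ τ₂ : Type u} [AddCommGroup M₂] [Module A M₂] [SetLike τ₂ M₂] [AddSubgroupClass τ₂ M₂]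
    (ℳ₂ : ℕ → τ₂) [SetLike.GradedSMul 𝒜 ℳ₂] [DirectSum.Decomposition ℳ₂]
    {M₃ τ₃ : Type u} [AddCommGroup M₃] [Module A M₃] [SetLike τ₃ M₃] [AddSubgroupClass τ₃ M₃]
    (ℳ₃ : ℕ → τ₃) [SetLike.GradedSMul 𝒜 ℳ₃] [DirectSum.Decomposition ℳ₃]
    (u : M₁ →ₗ[A] M₂) (hu : ∀ (i : ℕ) (m : M₁), m ∈ ℳ₁ i → u m ∈ ℳ₂ i)
    (v : M₂ →ₗ[A] M₃) (hv : ∀ (i : ℕ) (m : M₂), m ∈ ℳ₂ i → v m ∈ ℳ₃ i)
    (hex : Function.Exact u v) (n : ℤ) {d : ℕ} (hd : 0 < d) (f : A) (hf : f ∈ 𝒜 d) :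
    Function.Exact ((GrMod.map 𝒜 u hu n).app (Proj.basicOpen 𝒜 f))
      ((GrMod.map 𝒜 v hv n).app (Proj.basicOpen 𝒜 f)) := by
  have w : GrMod.map 𝒜 u hu n ≫ GrMod.map 𝒜 v hv n = 0 := by
    apply Scheme.Modules.hom_ext
    intro V
    ext s
    apply Groth.Agent.Helper1.GM.sect_ext
    intro y
    show GrMod.val ((GrMod.map 𝒜 v hv n).app V ((GrMod.map 𝒜 u hu n).app V s)) y = 0
    rw [GrMod.map_app_val, GrMod.map_app_val]
    have key : ∀ q : GrMod.LocMod 𝒜 (M := M₁) y.1,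
        GrMod.locMap v y.1 (GrMod.locMap u y.1 q) = 0 := by
      intro q
      induction q using LocalizedModule.induction_on with
      | h m t =>
        rw [GrMod.locMap_mk, GrMod.locMap_mk, hex.apply_apply_eq_zero, LocalizedModule.zero_mk]
    exact key _
  have hE := Groth.Agent.Helper1.GM.exact_map 𝒜 u hu v hv n hex w
  haveI := Groth.Agent.Helper1.TRT.isQuasicoherent_tilde 𝒜 ℳ₁ n
  haveI := Groth.Agent.Helper1.TRT.isQuasicoherent_tilde 𝒜 ℳ₂ n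
  haveI := Groth.Agent.Helper1.TRT.isQuasicoherent_tilde 𝒜 ℳ₃ n
  haveI : (ShortComplex.mk (GrMod.map 𝒜 u hu n) (GrMod.map 𝒜 v hv n) w).X₁.IsQuasicoherent :=
    Groth.Agent.Helper1.TRT.isQuasicoherent_tilde 𝒜 ℳ₁ n
  haveI : (ShortComplex.mk (GrMod.map 𝒜 u hu n) (GrMod.map 𝒜 v hv n) w).X₂.IsQuasicoherent :=
    Groth.Agent.Helper1.TRT.isQuasicoherent_tilde 𝒜 ℳ₂ n
  haveI : (ShortComplex.mk (GrMod.map 𝒜 u hu n) (GrMod.map 𝒜 v hv n) w).X₃.IsQuasicoherent :=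
    Groth.Agent.Helper1.TRT.isQuasicoherent_tilde 𝒜 ℳ₃ n
  exact Groth.Agent.Helper1.TRT.app_exact_of_isAffineOpen _ hE
    (Proj.isAffineOpen_basicOpen 𝒜 f hf hd)

end Groth.Agent.S8338
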