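import Groth.Statements.S8345

set_option autoImplicit false
universe u
open ConstrTop

namespace Groth.Agent.S8345

open TopologicalSpace Topology in
theorem aux {X : Type u} [TopologicalSpace X]
    [NoetherianSpace X] (s : Set X) :
    Topology.IsConstructible s ↔
      ∃ S : Set (Set X), S.Finite ∧ (∀ t ∈ S, IsLocallyClosed t) ∧ s = ⋃₀ S := by
  have hretro : ∀ U : Set X, IsOpen U → IsRetrocompact U := fun U hU =>
    (NoetherianSpace.isCompact U).isRetrocompact hU
  constructor
  · intro hs
    induction s, hs using BooleanSubalgebra.closure_sdiff_sup_induction with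
    | isSublattice =>
      exact ⟨fun s hs t ht ↦ ⟨hs.1.union ht.1, hs.2.union ht.2⟩,
        fun s hs t ht ↦ ⟨hs.1.inter ht.1, hs.2.inter_isOpen ht.2 ht.1⟩⟩
    | bot_mem => exact ⟨isOpen_empty, .empty⟩
    | top_mem => exact ⟨isOpen_univ, .univ⟩
    | sdiff U hU V hV =>
      refine ⟨{U \ V}, Set.finite_singleton _, ?_, by simp⟩
      intro t ht
      rw [Set.mem_singleton_iff] at ht
      subst ht
      exact hU.1.isLocallyClosed.inter hV.1.isClosed_compl.isLocallyClosed
    | sup s _ t _ hs' ht' =>
      obtain ⟨S, hSf, hS, rfl⟩ := hs'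
      obtain ⟨T, hTf, hT, rfl⟩ := ht'
      refine ⟨S ∪ T, hSf.union hTf, ?_, ?_⟩
      · rintro t (ht | ht)
        · exact hS t ht
        · exact hT t ht
      · rw [Set.sUnion_union]; rfl
  · rintro ⟨S, hSf, hS, rfl⟩
    refine Topology.IsConstructible.sUnion hSf fun t ht => ?_
    obtain ⟨U, Z, hU, hZ, rfl⟩ := hS t ht
    have hZ' : Z = (Zᶜ)ᶜ := (compl_compl Z).symm
    rw [hZ']
    exact ((hretro U hU).isConstructible hU).inter
      ((hretro _ hZ.isOpen_compl).isConstructible hZ.isOpen_compl).compl

open TopologicalSpace in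
/-- Suppose X is a topological space that is Noetherian. Then a subset s of X is constructible exactly
when s can be written as the union of finitely many locally closed subsets of X. -/
theorem result {X : Type u} [TopologicalSpace X]
    [NoetherianSpace X] (s : Set X) :
    Topology.IsConstructible s ↔
      ∃ (n : ℕ) (Z : Fin n → Set X), (∀ i, IsLocallyClosed (Z i)) ∧ s = ⋃ i, Z i := by
  rw [aux]
  constructor
  · rintro ⟨S, hSf, hS, rfl⟩
    obtain ⟨n, f, hf, rfl⟩ := hSf.fin_param
    refine ⟨n, f, fun i => hS _ ⟨i, rfl⟩, by rw [Set.sUnion_range]⟩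
  · rintro ⟨n, Z, hZ, rfl⟩
    refine ⟨Set.range Z, Set.finite_range Z, ?_, by simp [Set.sUnion_range]⟩
    rintro t ⟨i, rfl⟩
    exact hZ i

end Groth.Agent.S8345
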