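import Groth.Statements.S8346
import Groth.Agent.S8344

set_option autoImplicit false
universe u
open ConstrTop

namespace Groth.Agent.S8346

open TopologicalSpace Topology in
/-- Let X be a topological space admitting a basis of open subsets which are retrocompact in X. Then
every locally constructible subset T of X is retrocompact in X. -/
theorem result {X : Type u} [TopologicalSpace X]
    {B : Set (Set X)} (hB : IsTopologicalBasis B) (hBr : ∀ U ∈ B, IsRetrocompact U) {T : Set X}
    (hT : Topology.IsLocallyConstructible T) : IsRetrocompact T := by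
  intro W hWc hWo
  -- for each x ∈ W choose U_x, V_x
  have key : ∀ x ∈ W, ∃ V : Set X, x ∈ V ∧ IsOpen V ∧ IsCompact (T ∩ (V ∩ W)) := by
    intro x hx
    obtain ⟨U, hUx, hUo, hUc⟩ := hT x
    obtain ⟨V, hVB, hxV, hVU⟩ := hB.exists_subset_of_mem_open (mem_of_mem_nhds hUx) hUo
    refine ⟨V, hxV, hB.isOpen hVB, ?_⟩
    have hK : IsCompact (V ∩ W) := hBr V hVB hWc hWo
    have hKo : IsOpen (V ∩ W) := (hB.isOpen hVB).inter hWo
    have hKU : V ∩ W ⊆ U := Set.inter_subset_left.trans hVU
    have hr : IsRetrocompact ((↑) ⁻¹' T : Set U) := Groth.Agent.S8344.result hUc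
    have hemb : IsEmbedding ((↑) : U → X) := IsEmbedding.subtypeVal
    have h1 : IsCompact ((↑) ⁻¹' (V ∩ W) : Set U) := by
      rw [hemb.isCompact_iff, Subtype.image_preimage_coe, Set.inter_eq_right.mpr hKU]
      exact hK
    have h2 : IsOpen ((↑) ⁻¹' (V ∩ W) : Set U) := hKo.preimage continuous_subtype_val
    have h3 := hr h1 h2
    rw [hemb.isCompact_iff, ← Set.preimage_inter, Subtype.image_preimage_coe] at h3
    have : U ∩ (T ∩ (V ∩ W)) = T ∩ (V ∩ W) :=
      Set.inter_eq_right.mpr (Set.inter_subset_right.trans hKU)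
    rwa [this] at h3
  choose! V hxV hVo hVc using key
  obtain ⟨t, ht, htf, htW⟩ := hWc.elim_finite_subcover_image (b := W) (c := V)
    (fun x hx => hVo x hx) (fun x hx => Set.mem_biUnion hx (hxV x hx))
  have : T ∩ W = ⋃ x ∈ t, T ∩ (V x ∩ W) := by
    ext y
    simp only [Set.mem_inter_iff, Set.mem_iUnion, exists_prop]
    constructor
    · rintro ⟨hyT, hyW⟩
      obtain ⟨x, hxt, hyx⟩ := Set.mem_iUnion₂.mp (htW hyW)
      exact ⟨x, hxt, hyT, hyx, hyW⟩
    · rintro ⟨x, hxt, hyT, hyx, hyW⟩
      exact ⟨hyT, hyW⟩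
  rw [this]
  exact htf.isCompact_biUnion fun x hx => hVc x (ht hx)

end Groth.Agent.S8346
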