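import Groth.Statements.S8351
import Groth.Agent.Helper4.PushShf
import Mathlib

set_option autoImplicit false
universe u
open CategoryTheory CategoryTheory.Limits TopologicalSpace
open CohCx

namespace Groth.Agent.S8351


/-- For abelian sheaves on topological spaces and a complex bounded below. Let f : X ⟶ Y be a continuous
map and K a bounded below complex of abelian sheaves on X. For every p, the p-th cohomology sheaf of
the derived direct image R f_*(K) (bounded below right derived functor of f_*, computed with
injective resolutions) is isomorphic to the sheaf associated with the presheaf U ↦ H^p(f⁻¹(U), K) on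
Y, where H^p(V, K) denotes hypercohomology (morphisms from the free abelian sheaf on V to K[p] in
the derived category). (The published statement is for modules over arbitrary ringed spaces,
complexes unbounded via Cartan-Eilenberg resolutions, and a canonical isomorphism; here only the
existence of an isomorphism is asserted, and the derived categories are assumed to exist with
morphism types in the universe of X and Y.) -/
theorem result {X Y : TopCat.{u}} (f : X ⟶ Y)
    [HasDerivedCategory.{u} (CohTop.Ab X)] [HasDerivedCategory.{u} (CohTop.Ab Y)]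
    (K : CochainComplex.Plus (CohTop.Ab X)) (p : ℤ) :
    Nonempty ((DerivedCategory.Plus.homologyFunctor (CohTop.Ab Y) p).obj
        ((CohTop.push f).rightDerivedFunctorPlus.obj
          (DerivedCategory.Plus.Qh.obj ((HomotopyCategory.Plus.quotient (CohTop.Ab X)).obj K))) ≅
      (presheafToSheaf (Opens.grothendieckTopology Y) AddCommGrpCat.{u}).obj
        ((Opens.map f).op ⋙ CohCx.HDUPresheaf (DerivedCategory.Q.obj K.obj) p)) := by

  let Ψ := CohTop.push f
  let E := DerivedCategory.Plus.Qh.obj ((HomotopyCategory.Plus.quotient (CohTop.Ab X)).obj K)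
  obtain ⟨n, hn⟩ := E.property
  haveI : E.IsGE n := (E.isGE_ι_obj_iff n).1 hn
  obtain ⟨L, _, ⟨e⟩⟩ := DerivedCategory.Plus.exists_injective_nonempty_iso E n
  let KL : CochainComplex.Plus (CohTop.Ab X) :=
    (InjectiveObject.ι (CohTop.Ab X)).mapCochainComplexPlus.obj L
  haveI : KL.obj.IsKInjective :=
    inferInstanceAs (CochainComplex.IsKInjective
      (((InjectiveObject.ι (CohTop.Ab X)).mapHomologicalComplex (.up ℤ)).obj L.obj))
  haveI : IsIso (Ψ.rightDerivedFunctorPlusUnit.app
      ((HomotopyCategory.Plus.quotient (CohTop.Ab X)).obj KL)) := inferInstance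
  let e2 := asIso (Ψ.rightDerivedFunctorPlusUnit.app
    ((HomotopyCategory.Plus.quotient (CohTop.Ab X)).obj KL))
  let e3 : Ψ.rightDerivedFunctorPlus.obj (DerivedCategory.Plus.Q.obj KL) ≅
      Ψ.rightDerivedFunctorPlus.obj E := Ψ.rightDerivedFunctorPlus.mapIso e
  let e4 := DerivedCategory.Plus.ι.mapIso (e2 ≪≫ e3)
  let e5 : DerivedCategory.Q.obj KL.obj ≅ E.obj := DerivedCategory.Plus.ι.mapIso e
  let e6 : DerivedCategory.Qh.obj ((Ψ.mapHomotopyCategory (ComplexShape.up ℤ)).obj
      ((HomotopyCategory.quotient _ _).obj KL.obj)) ≅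
      DerivedCategory.Q.obj (Groth.Agent.Helper4.PushShf.M f KL.obj) :=
    DerivedCategory.Qh.mapIso ((Ψ.mapHomotopyCategoryFactors (ComplexShape.up ℤ)).app KL.obj)
  obtain ⟨i⟩ := Groth.Agent.Helper4.PushShf.nonempty_iso f KL.obj p
  let e7 : CohCx.HDUPresheaf (DerivedCategory.Q.obj KL.obj) p ≅
      CohCx.HDUPresheaf (DerivedCategory.Q.obj K.obj) p :=
    Functor.isoWhiskerLeft _ (preadditiveYoneda.mapIso ((shiftFunctor _ p).mapIso e5))
  refine ⟨(DerivedCategory.homologyFunctor _ p).mapIso (e4.symm ≪≫ e6) ≪≫
    (DerivedCategory.homologyFunctorFactors _ p).app _ ≪≫ i.symm ≪≫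
    (presheafToSheaf _ _).mapIso (Functor.isoWhiskerLeft (Opens.map f).op e7)⟩

end Groth.Agent.S8351
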