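import Groth.Statements.S8352
import Groth.Agent.Helper4.NatOpSections
import Mathlib

set_option autoImplicit false
universe u
open CategoryTheory CategoryTheory.Limits Opposite
open HomAlg3

namespace Groth.Agent.S8352


/-- Category of abelian groups, system indexed by the natural numbers: Let (A_k) be an inverse system of
abelian groups satisfying the Mittag-Leffler condition, A = lim A_k with projections π_p : A ⟶ A_p.
Filter A and each A_k by the kernels of the maps to A_{p-1} (with A_{-1} = 0); the graded piece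
gr^p(A) is identified with Im(π_p) ∩ Ker(A_p ⟶ A_{p-1}) and gr^p(A_k), k ≥ p, with Im(A_k ⟶ A_p) ∩
Ker(A_p ⟶ A_{p-1}), a decreasing family of subgroups of A_p. The statement gr^p(A) ≅ lim_k gr^p(A_k)
then reads: Im(π_0) = ⋂_k Im(A_k ⟶ A_0), and for every p, Im(π_{p+1}) ∩ Ker(A_{p+1} ⟶ A_p) = ⋂_{k ≥
p+1} (Im(A_k ⟶ A_{p+1}) ∩ Ker(A_{p+1} ⟶ A_p)). -/
theorem result (F : ℕᵒᵖ ⥤ AddCommGrpCat.{u})
    (hF : (F ⋙ forget AddCommGrpCat).IsMittagLeffler) :
    (limit.π F (op 0)).hom.range = ⨅ k : ℕ, (F.map (homOfLE (Nat.zero_le k)).op).hom.range ∧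
      ∀ p : ℕ, (limit.π F (op (p + 1))).hom.range ⊓ (F.map (homOfLE (Nat.le_succ p)).op).hom.ker =
        ⨅ (k : ℕ) (hk : p + 1 ≤ k),
          (F.map (homOfLE hk).op).hom.range ⊓ (F.map (homOfLE (Nat.le_succ p)).op).hom.ker := by

  classical
  set G := F ⋙ forget AddCommGrpCat with hG
  have hE : ∀ n, Function.Surjective (G.toEventualRanges.map (homOfLE (Nat.le_succ n)).op) :=
    fun n => G.surjective_toEventualRanges hF _
  -- lifting lemma
  have lift : ∀ (p : ℕ) (x : F.obj (op p)),
      (∀ (k : ℕ) (hk : p ≤ k), x ∈ (F.map (homOfLE hk).op).hom.range) →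
      x ∈ (limit.π F (op p)).hom.range := by
    intro p x hx
    have hx' : x ∈ G.eventualRange (op p) := by
      rw [Functor.mem_eventualRange_iff]
      intro i f
      have hle : p ≤ i.unop := leOfHom f.unop
      obtain ⟨y, hy⟩ := hx i.unop hle
      refine ⟨y, ?_⟩
      have : f = (homOfLE hle).op := Subsingleton.elim _ _
      rw [this]
      exact hy
    obtain ⟨s, hs, hsx⟩ :=
      Groth.Agent.Helper4.NatOpSections.exists_section_of_surjective G.toEventualRanges hE p
        ⟨x, hx'⟩
    let s' : G.sections := G.toEventualRangesSectionsEquiv ⟨s, hs⟩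
    let hlim := isLimitOfPreserves (forget AddCommGrpCat) (limit.isLimit F)
    refine ⟨(Types.isLimitEquivSections hlim).symm s', ?_⟩
    have := Types.isLimitEquivSections_symm_apply hlim s' (op p)
    refine this.trans ?_
    show (s (op p)).1 = x
    rw [hsx]
  constructor
  · apply le_antisymm
    · rw [le_iInf_iff]
      intro k
      rintro _ ⟨y, rfl⟩
      refine ⟨(limit.π F (op k)).hom y, ?_⟩
      rw [← limit.w F (homOfLE (Nat.zero_le k)).op]
      rfl
    · intro x hx
      rw [AddSubgroup.mem_iInf] at hx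
      exact lift 0 x fun k _ => hx k
  · intro p
    apply le_antisymm
    · rw [le_iInf_iff]
      intro k
      rw [le_iInf_iff]
      intro hk
      rintro x ⟨⟨y, rfl⟩, hxk⟩
      refine ⟨⟨(limit.π F (op k)).hom y, ?_⟩, hxk⟩
      rw [← limit.w F (homOfLE hk).op]
      rfl
    · intro x hx
      simp only [AddSubgroup.mem_iInf] at hx
      refine ⟨lift (p + 1) x fun k hk => (hx k hk).1, (hx (p + 1) le_rfl).2⟩

end Groth.Agent.S8352
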