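import Groth.Statements.S8353
import Groth.Agent.Helper4.FiltComplete
import Mathlib

set_option autoImplicit false
universe u
open HomAlg3

namespace Groth.Agent.S8353


/-- Let S be a Noetherian ring which is separated and complete for the adic topology of an ideal J, and
let M be an S-module with a decreasing filtration (F^p M)_{p ∈ ℤ} by submodules such that F^p M = M
for some p, J·F^p M ⊆ F^{p+1} M for all p, and ⋂_p F^p M = 0. Then the following are equivalent: (a)
M is a finitely generated S-module and J·F^p M = F^{p+1} M for all large p; (c) every F^p M /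
F^{p+1} M is a finitely generated S-module and, for all large p, the map J ⊗ (F^p M/F^{p+1} M) ⟶
F^{p+1} M/F^{p+2} M is surjective, that is F^{p+1} M = J·F^p M + F^{p+2} M. (The published statement
also lists a third equivalent condition, finite generation of the associated graded module over the
associated graded ring; this row states the equivalence of the other two.) -/
theorem result {S : Type u} [CommRing S] [IsNoetherianRing S]
    (J : Ideal S) [IsAdicComplete J S] {M : Type u} [AddCommGroup M] [Module S M]
    (F : ℤ → Submodule S M) (hF : Antitone F) (hcod : ∃ p₀ : ℤ, F p₀ = ⊤)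
    (hJ : ∀ p : ℤ, J • F p ≤ F (p + 1)) (hsep : ⨅ p : ℤ, F p = ⊥) :
    (Module.Finite S M ∧ ∃ p₁ : ℤ, ∀ p : ℤ, p₁ ≤ p → J • F p = F (p + 1)) ↔
      ((∀ p : ℤ, (Submodule.map (F (p + 1)).mkQ (F p)).FG) ∧
        ∃ p₁ : ℤ, ∀ p : ℤ, p₁ ≤ p → F (p + 1) = J • F p ⊔ F (p + 2)) := by

  open Groth.Agent.Helper4.FiltComplete in
  constructor
  · rintro ⟨hfin, p₁, hp₁⟩
    have hN : IsNoetherian S M := isNoetherian_of_isNoetherianRing_of_finite S M
    refine ⟨fun p => IsNoetherian.noetherian _, p₁, fun p hp => ?_⟩
    apply le_antisymm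
    · rw [← hp₁ p hp]; exact le_sup_left
    · refine sup_le (hJ p) (hF (by omega))
  · rintro ⟨hB1, p₁, hp₁⟩
    obtain ⟨p₀, hp₀⟩ := hcod
    let P : ℤ := max p₁ p₀
    have hP1 : p₁ ≤ P := le_max_left _ _
    have hP0 : p₀ ≤ P := le_max_right _ _
    let G : ℕ → Submodule S M := fun k => F (P + (k : ℤ))
    have hG0 : G 0 = F P := by show F (P + ((0 : ℕ) : ℤ)) = F P; simp
    have hGs : ∀ k : ℕ, G (k + 1) = F (P + (k : ℤ) + 1) := by
      intro k
      show F (P + ((k + 1 : ℕ) : ℤ)) = _
      congr 1
      push_cast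
      ring
    have hGss : ∀ k : ℕ, G (k + 2) = F (P + (k : ℤ) + 2) := by
      intro k
      show F (P + ((k + 2 : ℕ) : ℤ)) = _
      congr 1
      push_cast
      ring
    have hyp : Hyp J G := by
      refine ⟨?_, ?_, ?_, ?_⟩
      · intro a b hab
        exact hF (by show P + (a : ℤ) ≤ P + (b : ℤ); omega)
      · intro k
        rw [hGs]
        exact hJ (P + k)
      · intro k
        rw [hGs, hGss]
        exact (hp₁ (P + k) (by omega)).le
      · rw [eq_bot_iff, ← hsep]
        refine le_iInf fun p => ?_
        refine (iInf_le G (p - P).toNat).trans ?_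
        exact hF (by show p ≤ P + ((p - P).toNat : ℤ); omega)
    -- generators of gr_0
    have hfg := hB1 P
    rw [Submodule.fg_iff_exists_fin_generating_family] at hfg
    obtain ⟨r, s, hs⟩ := hfg
    have hs' : ∀ i, ∃ x ∈ F P, (F (P + 1)).mkQ x = s i := by
      intro i
      have : s i ∈ Submodule.map (F (P + 1)).mkQ (F P) := by
        rw [← hs]; exact Submodule.subset_span (Set.mem_range_self i)
      exact this
    choose x hx hxs using hs'
    have hx0 : ∀ i, x i ∈ G 0 := fun i => by rw [hG0]; exact hx i
    have hG1 : G 1 = F (P + 1) := by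
      have := hGs 0
      simpa using this
    have hgen : G 0 ≤ Submodule.span S (Set.range x) ⊔ G 1 := by
      intro y hy
      rw [hG0] at hy
      have h1 : (F (P + 1)).mkQ y ∈ Submodule.map (F (P + 1)).mkQ (F P) := ⟨y, hy, rfl⟩
      rw [← hs] at h1
      have h2 : Set.range s = (F (P + 1)).mkQ '' Set.range x := by
        ext z
        constructor
        · rintro ⟨i, rfl⟩
          exact ⟨x i, ⟨i, rfl⟩, hxs i⟩
        · rintro ⟨_, ⟨i, rfl⟩, rfl⟩
          exact ⟨i, (hxs i).symm⟩
      rw [h2, ← Submodule.map_span] at h1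
      obtain ⟨z, hz, hzy⟩ := h1
      rw [Submodule.mem_sup]
      refine ⟨z, hz, y - z, ?_, by abel⟩
      rw [hG1, ← Submodule.ker_mkQ (F (P + 1)), LinearMap.mem_ker, map_sub, hzy, sub_self]
    have hmain := eq_pow_smul x hyp hx0 hgen
    have hFP : (F P).FG := by
      rw [← hG0, hmain 0, pow_zero, Ideal.one_eq_top, Submodule.top_smul]
      exact Submodule.fg_span (Set.finite_range x)
    -- downward induction
    have hdown : ∀ j : ℕ, (F (P - (j : ℤ))).FG := by
      intro j
      induction j with
      | zero => simpa using hFP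
      | succ j ih =>
        have e : P - ((j + 1 : ℕ) : ℤ) + 1 = P - (j : ℤ) := by push_cast; ring
        apply Submodule.fg_of_fg_map_of_fg_inf_ker (F (P - ((j + 1 : ℕ) : ℤ) + 1)).mkQ
          (hB1 (P - ((j + 1 : ℕ) : ℤ)))
        rw [Submodule.ker_mkQ, inf_eq_right.mpr (hF (by omega)), e]
        exact ih
    refine ⟨?_, P, ?_⟩
    · rw [Module.finite_def, ← hp₀]
      have := hdown (P - p₀).toNat
      have e : P - ((P - p₀).toNat : ℤ) = p₀ := by omega
      rw [e] at this
      exact this
    · intro p hp
      obtain ⟨k, rfl⟩ : ∃ k : ℕ, p = P + (k : ℤ) := ⟨(p - P).toNat, by omega⟩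
      have h1 := hmain (k + 1)
      have h2 := hmain k
      rw [hGs] at h1
      rw [h1, pow_succ', mul_smul, ← h2]

end Groth.Agent.S8353
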