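import Groth.Statements.S8355
import Mathlib

set_option autoImplicit false
universe v u
open CategoryTheory CategoryTheory.Limits
open SpSeq

namespace Groth.Agent.S8355


/-- Let E be a spectral sequence in an abelian category and suppose E_r^{p,q} = 0. Then E_k^{p,q} = 0
for every k ≥ r, and E_∞^{p,q} = 0: for any abutment data (H^n) of E, the graded piece gr^p H^{p+q},
identified by the abutment with the limit term at (p, q), is zero. -/
theorem result {C : Type u} [Category.{v} C] [Abelian C] {r₀ : ℤ}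
    (E : CohomologicalSpectralSequence C r₀) (r : ℤ) (hr : r₀ ≤ r) (pq : ℤ × ℤ)
    (h : IsZero ((E.page r hr).X pq)) :
    (∀ (k : ℤ) (hk : r ≤ k), IsZero ((E.page k (hr.trans hk)).X pq)) ∧
      ∀ (H : ℤ → C) (a : SpSeq.Abutment E H),
        IsZero (SpSeq.grPiece (a.fil (pq.1 + pq.2)) (a.anti (pq.1 + pq.2)) pq.1) := by

  have up : ∀ (k k' : ℤ) (hkk' : k + 1 = k') (hk : r₀ ≤ k), IsZero ((E.page k hk).X pq) →
      IsZero ((E.page k' (by lia)).X pq) := by
    intro k k' hkk' hk hz
    refine IsZero.of_iso ?_ (E.iso k k' pq hkk' hk).symm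
    exact ShortComplex.isZero_homology_of_isZero_X₂ _ hz
  have part1 : ∀ (k : ℤ) (hk : r ≤ k), IsZero ((E.page k (hr.trans hk)).X pq) := by
    intro k hk
    induction k, hk using Int.leInduction with
    | base => exact h
    | succ n hmn ih => exact up n (n + 1) rfl _ ih
  refine ⟨part1, ?_⟩
  intro H a
  refine IsZero.of_iso ?_ (a.β pq).symm
  obtain ⟨hrk0, hstat⟩ := a.stat pq
  have down : ∀ (k k' : ℤ) (hkk' : k + 1 = k') (hk : r₀ ≤ k), a.rk pq ≤ k →
      IsZero ((E.page k' (by lia)).X pq) → IsZero ((E.page k hk).X pq) := by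
    intro k k' hkk' hk hkr hz
    obtain ⟨hd1, hd2⟩ := hstat k hk hkr
    have hhom : IsZero ((E.page k hk).homology pq) := IsZero.of_iso hz (E.iso k k' pq hkk' hk)
    let S := (E.page k hk).sc pq
    have hf : S.f = 0 := by
      show (E.page k hk).d ((ComplexShape.up' (⟨k, 1 - k⟩ : ℤ × ℤ)).prev pq) pq = 0
      rw [ComplexShape.prev_eq' _ (show (ComplexShape.up' (⟨k, 1 - k⟩ : ℤ × ℤ)).Rel
        (pq - (k, 1 - k)) pq from sub_add_cancel _ _)]
      exact hd1
    have hg : S.g = 0 := by
      show (E.page k hk).d pq ((ComplexShape.up' (⟨k, 1 - k⟩ : ℤ × ℤ)).next pq) = 0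
      rw [ComplexShape.next_eq' _ (show (ComplexShape.up' (⟨k, 1 - k⟩ : ℤ × ℤ)).Rel pq
        (pq + (k, 1 - k)) from rfl)]
      exact hd2
    exact IsZero.of_iso hhom (ShortComplex.HomologyData.ofZeros S hf hg).left.homologyIso.symm
  have hK : IsZero ((E.page (max (a.rk pq) r) (hr.trans (le_max_right _ _))).X pq) :=
    part1 _ (le_max_right _ _)
  have main : ∀ (n : ℤ) (hn : n ≤ max (a.rk pq) r) (hn0 : r₀ ≤ n), a.rk pq ≤ n →
      IsZero ((E.page n hn0).X pq) := by
    intro n hn
    induction n, hn using Int.leInductionDown with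
    | base => intro _ _; exact hK
    | pred n hnm ih =>
      intro hn0 hle
      exact down (n - 1) n (by lia) hn0 hle (ih (by lia) (by lia))
  exact main (a.rk pq) (le_max_left _ _) _ le_rfl

end Groth.Agent.S8355
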