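import Groth.Statements.S8362
import Groth.Agent.Lead.SqZeroEndo

set_option autoImplicit false
universe u
open CategoryTheory AlgebraicGeometry
open SGA3

namespace Groth.Agent.S8362

open Groth.Agent.Lead Limits

theorem ker_sq {R : Type u} [CommRing R] (J : Ideal R) (hJ : J * J = ⊥) :
    RingHom.ker ((Spec.map (CommRingCat.ofHom (Ideal.Quotient.mk J))).app ⊤).hom *
      RingHom.ker ((Spec.map (CommRingCat.ofHom (Ideal.Quotient.mk J))).app ⊤).hom = ⊥ := by
  rw [eq_bot_iff, Ideal.mul_le]
  intro a ha b hb
  have nat := Scheme.ΓSpecIso_naturality (CommRingCat.ofHom (Ideal.Quotient.mk J))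
  have hmem : ∀ a ∈ RingHom.ker ((Spec.map (CommRingCat.ofHom (Ideal.Quotient.mk J))).app ⊤).hom,
      (Scheme.ΓSpecIso (CommRingCat.of R)).hom.hom a ∈ J := by
    intro a ha
    rw [RingHom.mem_ker] at ha
    have h1 := congrArg (fun g => g.hom a) nat
    simp only [CommRingCat.hom_comp, RingHom.comp_apply, CommRingCat.hom_ofHom] at h1
    have h2 : (Scheme.ΓSpecIso (CommRingCat.of (R ⧸ J))).hom.hom
        (((Spec.map (CommRingCat.ofHom (Ideal.Quotient.mk J))).appTop).hom a) = 0 := by
      have : ((Spec.map (CommRingCat.ofHom (Ideal.Quotient.mk J))).appTop).hom a = 0 := ha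
      rw [this, map_zero]
    rw [h2] at h1
    exact Ideal.Quotient.eq_zero_iff_mem.mp h1.symm
  have h3 : (Scheme.ΓSpecIso (CommRingCat.of R)).hom.hom (a * b) ∈ J * J := by
    rw [map_mul]; exact Ideal.mul_mem_mul (hmem a ha) (hmem b hb)
  rw [hJ] at h3
  have h4 : (Scheme.ΓSpecIso (CommRingCat.of R)).hom.hom (a * b) = 0 := h3
  have hinj : Function.Injective (Scheme.ΓSpecIso (CommRingCat.of R)).hom.hom :=
    (ConcreteCategory.bijective_of_isIso (Scheme.ΓSpecIso (CommRingCat.of R)).hom).1
  exact hinj (by rw [h4, map_zero])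

theorem surjective_specMap_mk {R : Type u} [CommRing R] (J : Ideal R) (hJ : J * J = ⊥) :
    Surjective (Spec.map (CommRingCat.ofHom (Ideal.Quotient.mk J))) := by
  constructor
  intro x
  have hle : J ≤ x.asIdeal := by
    intro j hj
    have : j * j ∈ J * J := Ideal.mul_mem_mul hj hj
    rw [hJ] at this
    have h0 : j * j = 0 := this
    have : j * j ∈ x.asIdeal := by rw [h0]; exact x.asIdeal.zero_mem
    exact (x.isPrime.mem_or_mem this).elim id id
  have hx : x ∈ Set.range (PrimeSpectrum.comap (Ideal.Quotient.mk J)) := by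
    rw [range_comap_of_surjective _ _ Ideal.Quotient.mk_surjective, Ideal.mk_ker]
    exact hle
  obtain ⟨y, hy⟩ := hx
  exact ⟨y, hy⟩

theorem aux (R : Type u) [CommRing R] (J : Ideal R) (hJ : J * J = ⊥)
    (X : Over (Spec (CommRingCat.of R))) (u : X ⟶ X)
    (h : (Over.pullback (Spec.map (CommRingCat.ofHom (Ideal.Quotient.mk J)))).map u = 𝟙 _) :
    IsIso u := by
  set iS := Spec.map (CommRingCat.ofHom (Ideal.Quotient.mk J)) with hiS
  haveI : IsClosedImmersion iS := IsClosedImmersion.spec_of_surjective _ Ideal.Quotient.mk_surjective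
  haveI : Surjective iS := surjective_specMap_mk J hJ
  have hc : IsPullback (pullback.fst X.hom iS) (pullback.snd X.hom iS) X.hom iS :=
    IsPullback.of_hasPullback _ _
  have h1 := congrArg (fun g => g.left ≫ pullback.fst X.hom iS) h
  simp at h1
  haveI : IsIso u.left :=
    SqZeroEndo.isIso_of_comp_eq hc (ker_sq J hJ) u.left (Over.w u)
      ((pullback.lift_fst _ _ _).symm.trans h1)
  haveI : IsIso ((Over.forget (Spec (CommRingCat.of R))).map u) := ‹IsIso u.left›
  exact isIso_of_reflects_iso u (Over.forget _)

/-- Over an affine base S = Spec R with S₀ = Spec (R/J) for an ideal J of square zero: for an arbitrary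
S-scheme X, every S-endomorphism of X inducing the identity on X ×_S S₀ is an automorphism. (The
published statement is over an arbitrary base scheme with a quasi-coherent ideal of square zero;
this row is its case of an affine base, to which it reduces since being an isomorphism is local on
the base.) -/
theorem result (R : Type u) [CommRing R] (J : Ideal R) (hJ : J * J = ⊥)
    (X : Over (Spec (CommRingCat.of R))) (u : X ⟶ X)
    (h : (Over.pullback (Spec.map (CommRingCat.ofHom (Ideal.Quotient.mk J)))).map u = 𝟙 _) :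
    IsIso u := by
  exact aux R J hJ X u h

end Groth.Agent.S8362
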