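import Groth.Statements.S8364
import Mathlib

set_option autoImplicit false
universe u
open SGA3

namespace Groth.Agent.S8364


/-- For a commutative ring R, an ideal J of R of square zero, a smooth R-algebra A and the extended
ideal I = J·A, every R-algebra automorphism of A/I lifts to an R-algebra automorphism of A. (The
published statement concerns the automorphism functor of a smooth affine S-scheme E and affine test
schemes Y; this row is the case Y = S = Spec R, E = Spec A, which gives the general one after
replacing R by the ring of Y.) -/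
theorem result (R A : Type u) [CommRing R] [CommRing A] [Algebra R A]
    [Algebra.Smooth R A] (J : Ideal R) (hJ : J * J = ⊥)
    (φ₀ : (A ⧸ Ideal.map (algebraMap R A) J) ≃ₐ[R] (A ⧸ Ideal.map (algebraMap R A) J)) :
    ∃ φ : A ≃ₐ[R] A,
      (Ideal.Quotient.mkₐ R (Ideal.map (algebraMap R A) J)).comp φ.toAlgHom =
        φ₀.toAlgHom.comp (Ideal.Quotient.mkₐ R (Ideal.map (algebraMap R A) J)) := by

  classical
  let I : Ideal A := Ideal.map (algebraMap R A) J
  have hI : I = Ideal.map (algebraMap R A) J := rfl
  have hI2 : I ^ 2 = ⊥ := by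
    rw [hI, ← Ideal.map_pow, pow_two, hJ, Ideal.map_bot]
  have hnil : IsNilpotent I := ⟨2, hI2⟩
  -- J kills I
  have hJI : ∀ j ∈ J, ∀ x ∈ I, algebraMap R A j * x = 0 := by
    intro j hj x hx
    have : algebraMap R A j * x ∈ I ^ 2 := by
      rw [pow_two]; exact Ideal.mul_mem_mul (Ideal.mem_map_of_mem _ hj) hx
    rw [hI2] at this
    exact this
  -- endomorphisms congruent to the identity are bijective
  have key : ∀ θ : A →ₐ[R] A, (∀ a, θ a - a ∈ I) → Function.Bijective θ := by
    intro θ hθ
    have hfix : ∀ x ∈ I, θ x = x := by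
      intro x hx
      rw [hI] at hx
      refine Submodule.span_induction (p := fun x _ => θ x = x) ?_ ?_ ?_ ?_ hx
      · rintro _ ⟨j, hj, rfl⟩
        exact θ.commutes j
      · exact map_zero θ
      · intro x y _ _ hx hy; rw [map_add, hx, hy]
      · intro a x hxm hx
        have hxI : x ∈ I := hxm
        rw [smul_eq_mul, map_mul, hx]
        have h1 : θ a * x - a * x = (θ a - a) * x := by ring
        have h2 : (θ a - a) * x ∈ I ^ 2 := by
          rw [pow_two]; exact Ideal.mul_mem_mul (hθ a) hxI
        rw [hI2] at h2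
        have h3 : (θ a - a) * x = 0 := h2
        rw [h3, sub_eq_zero] at h1
        exact h1
    constructor
    · rw [injective_iff_map_eq_zero]
      intro a ha
      have h1 := hθ a
      rw [ha, zero_sub] at h1
      have h2 : a ∈ I := by simpa using I.neg_mem h1
      rw [← hfix a h2, ha]
    · intro b
      refine ⟨b - (θ b - b), ?_⟩
      rw [map_sub, hfix _ (hθ b)]
      ring
  let mk := Ideal.Quotient.mkₐ R I
  let φ : A →ₐ[R] A := Algebra.FormallySmooth.lift I hnil (φ₀.toAlgHom.comp mk)
  let ψ : A →ₐ[R] A := Algebra.FormallySmooth.lift I hnil (φ₀.symm.toAlgHom.comp mk)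
  have hφ : ∀ a, mk (φ a) = φ₀ (mk a) := fun a =>
    Algebra.FormallySmooth.mk_lift I hnil (φ₀.toAlgHom.comp mk) a
  have hψ : ∀ a, mk (ψ a) = φ₀.symm (mk a) := fun a =>
    Algebra.FormallySmooth.mk_lift I hnil (φ₀.symm.toAlgHom.comp mk) a
  have h1 : Function.Bijective (φ.comp ψ) := by
    apply key
    intro a
    rw [← Ideal.Quotient.eq]
    show mk (φ (ψ a)) = mk a
    rw [hφ, hψ, AlgEquiv.apply_symm_apply]
  have h2 : Function.Bijective (ψ.comp φ) := by
    apply key
    intro a
    rw [← Ideal.Quotient.eq]
    show mk (ψ (φ a)) = mk a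
    rw [hψ, hφ, AlgEquiv.symm_apply_apply]
  have hbij : Function.Bijective φ := by
    constructor
    · exact Function.Injective.of_comp (f := ψ) h2.1
    · exact Function.Surjective.of_comp (g := ψ) h1.2
  refine ⟨AlgEquiv.ofBijective φ hbij, ?_⟩
  ext a
  exact hφ a

end Groth.Agent.S8364
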