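import Groth.Statements.S8369
import Groth.Agent.Helper4.AdicFlat
import Mathlib

set_option autoImplicit false
universe u v
open SGA3

namespace Groth.Agent.S8369


/-- Let A be a commutative ring, J a nilpotent ideal, N ⊆ M A-modules with M/N flat over A. If elements
of N have images generating the image of N in M/JM, then they generate N. (The published statement
takes finitely many elements; this row allows an arbitrary set, which the same argument permits.) -/
theorem result (A : Type u) [CommRing A] (J : Ideal A) (hJ : IsNilpotent J)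
    (M : Type v) [AddCommGroup M] [Module A M] (N : Submodule A M) [Module.Flat A (M ⧸ N)] (s : Set M)
    (hs : s ⊆ N)
    (hgen : (Submodule.span A s).map (J • (⊤ : Submodule A M)).mkQ = N.map (J • (⊤ : Submodule A M)).mkQ) :
    Submodule.span A s = N := by

  apply le_antisymm (Submodule.span_le.mpr hs)
  set N' := Submodule.span A s with hN'
  have hN'N : N' ≤ N := Submodule.span_le.mpr hs
  -- N ≤ N' ⊔ J • N   (where J • N means J-multiples of elements of N)
  have hpure : ∀ (I : Ideal A) (x : M), x ∈ N → x ∈ I • (⊤ : Submodule A M) →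
      x ∈ I • N := by
    intro I x hxN hxI
    have := Helper4.AdicFlat.pure_of_flat I N.subtype N.mkQ Subtype.val_injective
      (Submodule.mkQ_surjective N)
      (by
        intro y
        rw [Submodule.mkQ_apply, Submodule.Quotient.mk_eq_zero]
        simp)
      ⟨x, hxN⟩ hxI
    have h2 : (I • (⊤ : Submodule A ↥N)).map N.subtype = I • N := by
      rw [Submodule.map_smul'', Submodule.map_top, Submodule.range_subtype]
    rw [← h2]
    exact ⟨⟨x, hxN⟩, this, rfl⟩
  have hstep : N ≤ N' ⊔ J • N := by
    intro x hx
    have h1 : (J • (⊤ : Submodule A M)).mkQ x ∈ N.map (J • (⊤ : Submodule A M)).mkQ :=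
      ⟨x, hx, rfl⟩
    rw [← hgen] at h1
    obtain ⟨y, hy, hyx⟩ := h1
    have h2 : x - y ∈ J • (⊤ : Submodule A M) := by
      have : (J • (⊤ : Submodule A M)).mkQ (x - y) = 0 := by rw [map_sub, hyx, sub_self]
      rwa [Submodule.mkQ_apply, Submodule.Quotient.mk_eq_zero] at this
    have h3 : x - y ∈ N := N.sub_mem hx (hN'N hy)
    have h4 := hpure J (x - y) h3 h2
    have : x = y + (x - y) := by abel
    rw [this]
    exact Submodule.add_mem_sup hy h4
  -- iterate
  have hiter : ∀ k : ℕ, N ≤ N' ⊔ J ^ k • N := by
    intro k
    induction k with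
    | zero => rw [pow_zero, Ideal.one_eq_top, Submodule.top_smul]; exact le_sup_right
    | succ k ih =>
      calc N ≤ N' ⊔ J • N := hstep
        _ ≤ N' ⊔ J • (N' ⊔ J ^ k • N) := sup_le_sup_left (smul_mono_right _ ih) _
        _ ≤ N' ⊔ J ^ (k + 1) • N := by
          rw [Submodule.smul_sup, ← mul_smul, ← pow_succ']
          refine sup_le le_sup_left (sup_le ?_ le_sup_right)
          exact le_trans Submodule.smul_le_right le_sup_left
  obtain ⟨k, hk⟩ := hJ
  have := hiter k
  rw [hk, Submodule.zero_eq_bot, Submodule.bot_smul, sup_bot_eq] at this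
  exact this

end Groth.Agent.S8369
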