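import Groth.Statements.S8371
import Mathlib
-- import your own Groth.Agent.* helpers here

set_option autoImplicit false
universe u
open CategoryTheory MonObj AlgebraicGeometry
open LieS

namespace Groth.Agent.S8371

/-- The sequence of Lie algebras, with M = O_S: if 1 → G' → G → G'' → 1 is a sequence of homomorphisms
of group schemes over a scheme S which is exact on points with values in every S-scheme, then for
every affine S-scheme T = Spec B the derived morphisms give an exact sequence 1 → Lie(G'/S)(T) →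
Lie(G/S)(T) → Lie(G''/S)(T) → 1: the first is injective, the second surjective, and the kernel of
the second is the image of the first. -/
theorem result (S : Scheme.{u}) (G' G G'' : Over S) [GrpObj G'] [GrpObj G] [GrpObj G'']
    (i : G' ⟶ G) [IsMonHom i] (q : G ⟶ G'') [IsMonHom q]
    (hex : ∀ T : Over S, Function.Injective (fun a : T ⟶ G' => a ≫ i) ∧
      Function.Surjective (fun b : T ⟶ G => b ≫ q) ∧ ∀ b : T ⟶ G, b ≫ q = 1 ↔ ∃ a : T ⟶ G', a ≫ i = b)
    (B : Type u) [CommRing B] (f : Spec (CommRingCat.of B) ⟶ S) :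
    Function.Injective (LieS.map B f i) ∧ Function.Surjective (LieS.map B f q) ∧
      ∀ v : LieS.Lie G B f, LieS.map B f q v = 1 ↔ ∃ w : LieS.Lie G' B f, LieS.map B f i w = v := by
  have hval : ∀ {H₁ H₂ : Over S} [GrpObj H₁] [GrpObj H₂] (φ : H₁ ⟶ H₂) [IsMonHom φ]
      (v : LieS.Lie H₁ B f), (LieS.map B f φ v).1 = v.1 ≫ φ := by intros; rfl
  refine ⟨?_, ?_, ?_⟩
  · intro v w hvw
    apply Subtype.ext
    apply (hex (LieS.dpt B f)).1
    have := congrArg Subtype.val hvw
    rw [hval, hval] at this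
    exact this
  · intro v''
    obtain ⟨b, hb⟩ := (hex (LieS.dpt B f)).2.1 v''.1
    change b ≫ q = v''.1 at hb
    have hv'' : LieS.zeroSec B f ≫ v''.1 = 1 := (LieS.mem_Lie_iff G'' B f v''.1).1 v''.2
    let b₀ : LieS.pt B f ⟶ G := LieS.zeroSec B f ≫ b
    have hb₀ : b₀ ≫ q = 1 := by
      change (LieS.zeroSec B f ≫ b) ≫ q = 1
      rw [Category.assoc, hb, hv'']
    let b' : LieS.dpt B f ⟶ G := b * (LieS.proj B f ≫ b₀)⁻¹
    have hb' : LieS.zeroSec B f ≫ b' = 1 := by
      change LieS.zeroSec B f ≫ (b * (LieS.proj B f ≫ b₀)⁻¹) = 1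
      rw [MonObj.comp_mul, GrpObj.comp_inv, ← Category.assoc, LieS.zeroSec_proj, Category.id_comp]
      exact mul_inv_cancel _
    refine ⟨⟨b', (LieS.mem_Lie_iff G B f b').2 hb'⟩, ?_⟩
    apply Subtype.ext
    rw [hval]
    change (b * (LieS.proj B f ≫ b₀)⁻¹) ≫ q = v''.1
    rw [MonObj.mul_comp, GrpObj.inv_comp, Category.assoc, hb₀, MonObj.comp_one, inv_one,
      _root_.mul_one, hb]
  · intro v
    constructor
    · intro hv
      have h1 : v.1 ≫ q = 1 := by
        have := congrArg Subtype.val hv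
        rw [hval] at this
        exact this
      obtain ⟨a, ha⟩ := ((hex (LieS.dpt B f)).2.2 v.1).1 h1
      have hv0 : LieS.zeroSec B f ≫ v.1 = 1 := (LieS.mem_Lie_iff G B f v.1).1 v.2
      have ha0 : LieS.zeroSec B f ≫ a = 1 := by
        apply (hex (LieS.pt B f)).1
        change (LieS.zeroSec B f ≫ a) ≫ i = (1 : LieS.pt B f ⟶ G') ≫ i
        rw [Category.assoc, ha, hv0, MonObj.one_comp]
      refine ⟨⟨a, (LieS.mem_Lie_iff G' B f a).2 ha0⟩, ?_⟩
      apply Subtype.ext
      rw [hval]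
      exact ha
    · rintro ⟨w, rfl⟩
      apply Subtype.ext
      rw [hval, hval]
      change (w.1 ≫ i) ≫ q = 1
      exact ((hex (LieS.dpt B f)).2.2 (w.1 ≫ i)).2 ⟨w.1, rfl⟩

end Groth.Agent.S8371
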