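import Groth.Statements.S8383
import Groth.Agent.Helper4.RationalTransversal
import Mathlib

set_option autoImplicit false
universe u
open scoped TensorProduct
open SGA3t2b

namespace Groth.Agent.S8383


/-- Let k be a finite field with algebraic closure K, V a finite-dimensional vector space over k, and
θ₁, …, θₙ a basis of the dual of the K-vector space K ⊗ V. Then there is x ∈ V with θᵢ(1 ⊗ x) ≠ 0
for every i. -/
theorem result (k : Type u) [Field k] [Finite k]
    (V : Type u) [AddCommGroup V] [Module k V] [Module.Finite k V] {ι : Type} [Fintype ι]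
    (θ : Module.Basis ι (AlgebraicClosure k) (Module.Dual (AlgebraicClosure k) (AlgebraicClosure k ⊗[k] V))) :
    ∃ x : V, ∀ i : ι, θ i ((1 : AlgebraicClosure k) ⊗ₜ[k] x) ≠ 0 := by

  classical
  have hcard : Fintype.card ι = Module.finrank k V := by
    rw [← Module.finrank_eq_card_basis θ, Subspace.dual_finrank_eq, Module.finrank_baseChange]
  let v : Module.Basis ι k V :=
    (Module.finBasis k V).reindex (Fintype.equivFinOfCardEq hcard).symm
  let w : Module.Basis ι (AlgebraicClosure k) (AlgebraicClosure k ⊗[k] V) :=
    v.baseChange (AlgebraicClosure k)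
  have hw : ∀ j, w j = (1 : AlgebraicClosure k) ⊗ₜ[k] v j := fun j =>
    Module.Basis.baseChange_apply _ v j
  let M : Matrix ι ι (AlgebraicClosure k) := Matrix.of fun i j => θ i (w j)
  have hM : M.det ≠ 0 := by
    intro h0
    obtain ⟨c, hc, hMc⟩ := Matrix.exists_mulVec_eq_zero_iff.2 h0
    set y : AlgebraicClosure k ⊗[k] V := ∑ j, c j • w j with hy
    have hy' : ∀ i, θ i y = 0 := by
      intro i
      have := congrFun hMc i
      simp only [Matrix.mulVec, dotProduct, M, Matrix.of_apply, Pi.zero_apply] at this
      rw [hy, map_sum, ← this]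
      apply Finset.sum_congr rfl
      intro j _
      rw [map_smul, smul_eq_mul, mul_comm]
    have hy0 : y = 0 := by
      rw [← Module.forall_dual_apply_eq_zero_iff (AlgebraicClosure k)]
      intro φ
      rw [← θ.sum_repr φ, LinearMap.sum_apply]
      apply Finset.sum_eq_zero
      intro i _
      rw [LinearMap.smul_apply, hy' i, smul_zero]
    have hc0 : c = 0 := by
      have := Fintype.linearIndependent_iff.1 w.linearIndependent c hy0
      funext j
      exact this j
    exact hc hc0
  obtain ⟨lam, hlam⟩ :=
    Groth.Agent.Helper4.RationalTransversal.exists_functionals (k := k) M hM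
  set N : Matrix ι ι k := Matrix.of fun i j => lam i (M i j) with hN
  have hNu : IsUnit N.det := isUnit_iff_ne_zero.2 hlam
  let c : ι → k := Matrix.mulVec N⁻¹ (fun _ => 1)
  have hNc : Matrix.mulVec N c = fun _ => 1 := by
    rw [Matrix.mulVec_mulVec, Matrix.mul_nonsing_inv _ hNu, Matrix.one_mulVec]
  refine ⟨∑ j, c j • v j, fun i h0 => ?_⟩
  have h1 : lam i (θ i ((1 : AlgebraicClosure k) ⊗ₜ[k] ∑ j, c j • v j)) = 1 := by
    have e1 : (1 : AlgebraicClosure k) ⊗ₜ[k] (∑ j, c j • v j) = ∑ j, c j • w j := by
      rw [TensorProduct.tmul_sum]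
      apply Finset.sum_congr rfl
      intro j _
      rw [TensorProduct.tmul_smul, hw]
    rw [e1, map_sum, map_sum]
    have e2 : ∀ j, lam i (θ i (c j • w j)) = N i j * c j := by
      intro j
      rw [LinearMap.map_smul_of_tower, map_smul, smul_eq_mul, mul_comm]
      rfl
    simp_rw [e2]
    have := congrFun hNc i
    simpa [Matrix.mulVec, dotProduct] using this
  rw [h0, map_zero] at h1
  exact zero_ne_one h1

end Groth.Agent.S8383
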