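import Groth.Statements.S8384
import Mathlib

set_option autoImplicit false
universe u
open CategoryTheory MonoidalCategory CartesianMonoidalCategory MonObj GrpObj AlgebraicGeometry
open SGA3x

namespace Groth.Agent.S8384

/-- a morphism from an affine scheme landing in an affine open factors through `fromSpec`. -/
theorem eq_specMap_fromSpec {X : Scheme.{u}} {C : CommRingCat.{u}} (w : Spec C ⟶ X) {U : X.Opens}
    (hU : IsAffineOpen U) (hw : w ⁻¹ᵁ U = ⊤) :
    w = Spec.map (w.appLE U ⊤ hw.ge ≫ (Scheme.ΓSpecIso C).hom) ≫ hU.fromSpec := by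
  rw [Spec.map_comp, Category.assoc,
    IsAffineOpen.SpecMap_appLE_fromSpec w hU (isAffineOpen_top _) hw.ge,
    IsAffineOpen.fromSpec_top, Scheme.isoSpec_Spec_inv, ← Spec.map_comp_assoc,
    Iso.inv_hom_id, Spec.map_id, Category.id_comp]

theorem exists_eq_specMap_fromSpec {X : Scheme.{u}} {C : CommRingCat.{u}} (w : Spec C ⟶ X)
    {U : X.Opens} (hU : IsAffineOpen U) (hw : w ⁻¹ᵁ U = ⊤) :
    ∃ θ : Γ(X, U) ⟶ C, w = Spec.map θ ≫ hU.fromSpec :=
  ⟨_, eq_specMap_fromSpec w hU hw⟩

theorem specMap_fromSpec_injective {X : Scheme.{u}} {C : CommRingCat.{u}} {U : X.Opens}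
    (hU : IsAffineOpen U) (θ₁ θ₂ : Γ(X, U) ⟶ C)
    (h : Spec.map θ₁ ≫ hU.fromSpec = Spec.map θ₂ ≫ hU.fromSpec) : θ₁ = θ₂ := by
  rw [cancel_mono] at h
  exact Spec.map_injective h

section
variable (A : Type u) [CommRing A] [IsLocalRing A]

local notation "𝔪" => IsLocalRing.maximalIdeal A

/-- the closed immersion `Spec (A/𝔪ⁿ) ⟶ Spec A` -/
noncomputable abbrev clIm (n : ℕ) : Spec (CommRingCat.of (A ⧸ 𝔪 ^ n)) ⟶ Spec (CommRingCat.of A) :=
  Spec.map (CommRingCat.ofHom (Ideal.Quotient.mk (𝔪 ^ n)))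

/-- every point of `Spec (A/𝔪ⁿ)` maps to the closed point. -/
theorem clIm_apply (n : ℕ) (z : Spec (CommRingCat.of (A ⧸ 𝔪 ^ n))) :
    clIm A n z = IsLocalRing.closedPoint A := by
  have hz : clIm A n z ∈ Set.range (PrimeSpectrum.comap (Ideal.Quotient.mk (𝔪 ^ n))) := ⟨z, rfl⟩
  rw [range_comap_of_surjective _ _ Ideal.Quotient.mk_surjective, Ideal.mk_ker] at hz
  have h1 : 𝔪 ^ n ≤ (clIm A n z).asIdeal := hz
  have h2 : 𝔪 ≤ (clIm A n z).asIdeal := (clIm A n z).isPrime.le_of_pow_le h1
  apply PrimeSpectrum.ext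
  exact ((IsLocalRing.maximalIdeal.isMaximal A).eq_of_le (clIm A n z).isPrime.ne_top h2).symm

theorem exists_clIm_one : ∃ y : Spec (CommRingCat.of (A ⧸ 𝔪 ^ 1)), clIm A 1 y = IsLocalRing.closedPoint A := by
  have : IsLocalRing.closedPoint A ∈
      Set.range (PrimeSpectrum.comap (Ideal.Quotient.mk (𝔪 ^ 1))) := by
    rw [range_comap_of_surjective _ _ Ideal.Quotient.mk_surjective, Ideal.mk_ker, pow_one]
    exact (le_rfl : 𝔪 ≤ (IsLocalRing.closedPoint A).asIdeal)
  obtain ⟨y, hy⟩ := this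
  exact ⟨y, hy⟩

theorem clIm_injective (n : ℕ) : Function.Injective (clIm A n) := by
  haveI : IsClosedImmersion (clIm A n) :=
    IsClosedImmersion.spec_of_surjective _ Ideal.Quotient.mk_surjective
  exact (clIm A n).isClosedEmbedding.injective

/-- transition maps -/
noncomputable abbrev tr {m n : ℕ} (hle : m ≤ n) :
    Spec (CommRingCat.of (A ⧸ 𝔪 ^ m)) ⟶ Spec (CommRingCat.of (A ⧸ 𝔪 ^ n)) :=
  Spec.map (CommRingCat.ofHom (Ideal.Quotient.factorPow 𝔪 hle))

theorem tr_clIm {m n : ℕ} (hle : m ≤ n) : tr A hle ≫ clIm A n = clIm A m := by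
  rw [← Spec.map_comp, ← CommRingCat.ofHom_comp, Ideal.Quotient.factor_comp_mk]

theorem tr_tr {l m n : ℕ} (h1 : l ≤ m) (h2 : m ≤ n) : tr A h1 ≫ tr A h2 = tr A (h1.trans h2) := by
  rw [← Spec.map_comp, ← CommRingCat.ofHom_comp, Ideal.Quotient.factor_comp]

theorem tr_refl (n : ℕ) : tr A (le_refl n) = 𝟙 _ := by
  have : Ideal.Quotient.factorPow 𝔪 (le_refl n) = RingHom.id _ := by
    ext x; simp
  rw [tr, this]; exact Spec.map_id _

end

theorem aux (A : Type u) [CommRing A] [IsLocalRing A]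
    [IsAdicComplete (IsLocalRing.maximalIdeal A) A] (X : Scheme.{u}) :
    (∀ f g : (Spec (CommRingCat.of A)) ⟶ X,
      (∀ n : ℕ, (Spec.map (CommRingCat.ofHom (Ideal.Quotient.mk ((IsLocalRing.maximalIdeal A) ^ n)))) ≫ f = (Spec.map (CommRingCat.ofHom (Ideal.Quotient.mk ((IsLocalRing.maximalIdeal A) ^ n)))) ≫ g) → f = g) ∧
    (∀ u : (n : ℕ) → (Spec (CommRingCat.of (A ⧸ (IsLocalRing.maximalIdeal A) ^ n)) ⟶ X),
      (∀ n : ℕ, (Spec.map (CommRingCat.ofHom (Ideal.Quotient.factor
          (Ideal.pow_le_pow_right (I := (IsLocalRing.maximalIdeal A)) (Nat.le_succ n))))) ≫ u (n + 1) = u n) →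
      ∃ f : (Spec (CommRingCat.of A)) ⟶ X, ∀ n : ℕ, (Spec.map (CommRingCat.ofHom (Ideal.Quotient.mk ((IsLocalRing.maximalIdeal A) ^ n)))) ≫ f = u n) := by
  constructor
  · intro f g h
    obtain ⟨y, hy⟩ := exists_clIm_one A
    obtain ⟨U, hU, hxU, -⟩ := exists_isAffineOpen_mem_and_subset
      (x := f (IsLocalRing.closedPoint A)) (U := ⊤) trivial
    have hgx : g (IsLocalRing.closedPoint A) ∈ U := by
      have h1 := congrArg (fun w => w y) (h 1)
      simp only [Scheme.Hom.comp_apply] at h1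
      change f (clIm A 1 y) = g (clIm A 1 y) at h1
      rw [hy] at h1
      rw [← h1]; exact hxU
    have hf := Scheme.preimage_eq_top_of_closedPoint_mem f hxU
    have hg := Scheme.preimage_eq_top_of_closedPoint_mem g hgx
    obtain ⟨θf, rfl⟩ := exists_eq_specMap_fromSpec f hU hf
    obtain ⟨θg, rfl⟩ := exists_eq_specMap_fromSpec g hU hg
    have key : ∀ n, θf ≫ CommRingCat.ofHom (Ideal.Quotient.mk ((IsLocalRing.maximalIdeal A) ^ n)) =
        θg ≫ CommRingCat.ofHom (Ideal.Quotient.mk ((IsLocalRing.maximalIdeal A) ^ n)) := by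
      intro n
      apply specMap_fromSpec_injective hU
      rw [Spec.map_comp, Spec.map_comp, Category.assoc, Category.assoc]
      exact h n
    congr 2
    ext b
    have hb : ∀ n, θf.hom b - θg.hom b ∈ (IsLocalRing.maximalIdeal A) ^ n := by
      intro n
      have := congrArg (fun w => w.hom b) (key n)
      simp only [CommRingCat.hom_comp, CommRingCat.hom_ofHom, RingHom.comp_apply] at this
      exact Ideal.Quotient.eq.mp this
    have hH : IsHausdorff (IsLocalRing.maximalIdeal A) A := inferInstance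
    have := hH.haus' (θf.hom b - θg.hom b) (fun n => by
      rw [SModEq.zero, smul_eq_mul, Ideal.mul_top]; exact hb n)
    exact sub_eq_zero.mp this
  · intro u hu
    -- general compatibility
    have hu' : ∀ {m n : ℕ} (hle : m ≤ n), tr A hle ≫ u n = u m := by
      intro m n hle
      induction n, hle using Nat.le_induction with
      | base => rw [tr_refl, Category.id_comp]
      | succ n hmn ih =>
        rw [← ih, ← hu n, ← Category.assoc]
        congr 1
        exact (tr_tr A hmn (Nat.le_succ n)).symm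
    obtain ⟨y, hy⟩ := exists_clIm_one A
    obtain ⟨U, hU, hxU, -⟩ := exists_isAffineOpen_mem_and_subset
      (x := u 1 y) (U := ⊤) trivial
    have hpre : ∀ n, (u n) ⁻¹ᵁ U = ⊤ := by
      intro n
      rw [eq_top_iff]
      intro z _
      rcases Nat.eq_zero_or_pos n with rfl | hn
      · exfalso
        have h1 := clIm_apply A 0 z
        have hz : (IsLocalRing.maximalIdeal A) ^ 0 ≤ (clIm A 0 z).asIdeal := by
          have hz : clIm A 0 z ∈ Set.range (PrimeSpectrum.comap
            (Ideal.Quotient.mk ((IsLocalRing.maximalIdeal A) ^ 0))) := ⟨z, rfl⟩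
          rw [range_comap_of_surjective _ _ Ideal.Quotient.mk_surjective, Ideal.mk_ker] at hz
          exact hz
        have h1' : (1 : A) ∈ (clIm A 0 z).asIdeal :=
          hz (by rw [pow_zero, Ideal.one_eq_top]; exact Submodule.mem_top)
        exact (clIm A 0 z).isPrime.ne_top ((Ideal.eq_top_iff_one _).mpr h1')
      · have hle : 1 ≤ n := hn
        have hz : tr A hle y = z := by
          apply clIm_injective A n
          rw [← Scheme.Hom.comp_apply, tr_clIm, hy, clIm_apply]
        change u n z ∈ U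
        rw [← hz, ← Scheme.Hom.comp_apply, hu' hle]
        exact hxU
    choose θ hθ using fun n => exists_eq_specMap_fromSpec (u n) hU (hpre n)
    have hθc : ∀ {m n : ℕ} (hle : m ≤ n),
        (Ideal.Quotient.factorPow (IsLocalRing.maximalIdeal A) hle).comp (θ n).hom = (θ m).hom := by
      intro m n hle
      have : θ n ≫ CommRingCat.ofHom (Ideal.Quotient.factorPow (IsLocalRing.maximalIdeal A) hle) =
          θ m := by
        apply specMap_fromSpec_injective hU
        rw [Spec.map_comp, Category.assoc, ← hθ n, ← hθ m]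
        exact hu' hle
      rw [← this]; rfl
    let ψ := IsAdicComplete.liftRingHom (IsLocalRing.maximalIdeal A) (fun n => (θ n).hom) hθc
    refine ⟨Spec.map (CommRingCat.ofHom ψ) ≫ hU.fromSpec, fun n => ?_⟩
    rw [← Category.assoc, ← Spec.map_comp, ← CommRingCat.ofHom_comp,
      IsAdicComplete.mk_comp_liftRingHom]
    exact (hθ n).symm

/-- Let A be a local ring, separated and complete for the topology defined by its maximal ideal m, S =
Spec A and Sₙ = Spec(A/mⁿ). Then for every scheme X the canonical map Hom(S, X) → lim Hom(Sₙ, X) is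
bijective: two morphisms S → X that agree on every Sₙ are equal, and every family of morphisms Sₙ →
X compatible with the closed immersions Sₙ → Sₙ₊₁ is induced by a morphism S → X. -/
theorem result (A : Type u) [CommRing A] [IsLocalRing A]
    [IsAdicComplete (IsLocalRing.maximalIdeal A) A] (X : Scheme.{u}) :
    (∀ f g : (Spec (CommRingCat.of A)) ⟶ X,
      (∀ n : ℕ, (Spec.map (CommRingCat.ofHom (Ideal.Quotient.mk ((IsLocalRing.maximalIdeal A) ^ n)))) ≫ f = (Spec.map (CommRingCat.ofHom (Ideal.Quotient.mk ((IsLocalRing.maximalIdeal A) ^ n)))) ≫ g) → f = g) ∧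
    (∀ u : (n : ℕ) → (Spec (CommRingCat.of (A ⧸ (IsLocalRing.maximalIdeal A) ^ n)) ⟶ X),
      (∀ n : ℕ, (Spec.map (CommRingCat.ofHom (Ideal.Quotient.factor
          (Ideal.pow_le_pow_right (I := (IsLocalRing.maximalIdeal A)) (Nat.le_succ n))))) ≫ u (n + 1) = u n) →
      ∃ f : (Spec (CommRingCat.of A)) ⟶ X, ∀ n : ℕ, (Spec.map (CommRingCat.ofHom (Ideal.Quotient.mk ((IsLocalRing.maximalIdeal A) ^ n)))) ≫ f = u n) := by
  exact aux A X

end Groth.Agent.S8384
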