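import Groth.Statements.S8441
import Groth.Agent.Helper4.CoxeterBasis
import Mathlib

set_option autoImplicit false
universe u v w
open SGA3t2b

namespace Groth.Agent.S8441


/-- Let R be a root system with a system of simple roots a₁, …, aₙ and simple reflections rᵢ, and put θᵢ
= rₙ ⋯ rᵢ₊₁(aᵢ). Then the θᵢ form a basis of the group generated by the roots. Stated for a root
pairing over ℤ (Mathlib) with a base whose support is enumerated by Fin n: the θᵢ are ℤ-linearly
independent and their ℤ-span is the ℤ-span of all roots. -/
theorem result {ι : Type u} {M : Type v} {N : Type w} [AddCommGroup M] [Module ℤ M]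
    [AddCommGroup N] [Module ℤ N] (P : RootPairing ι ℤ M N) (b : P.Base) (n : ℕ) (e : Fin n ≃ ↥b.support) :
    LinearIndependent ℤ (fun i : Fin n =>
      ((List.finRange n).filter (fun j => i < j)).foldl (fun x j => P.reflection (e j : ι) x) (P.root (e i : ι))) ∧
    Submodule.span ℤ (Set.range (fun i : Fin n =>
      ((List.finRange n).filter (fun j => i < j)).foldl (fun x j => P.reflection (e j : ι) x) (P.root (e i : ι)))) =
      Submodule.span ℤ (Set.range P.root) := by

  classical
  rename_i iM iN0 iN
  obtain rfl : iM = AddCommGroup.toIntModule M := Subsingleton.elim _ _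
  let B : Module.Basis (Fin n) ℤ (P.rootSpan ℤ) := b.toWeightBasisInt.reindex e.symm
  have hB : ∀ i, (B i : M) = P.root (e i) := by
    intro i
    simp [B]
  have hfold : ∀ (i : Fin n) (l : List (Fin n)), (∀ j ∈ l, i < j) → ∀ x : M,
      x - P.root (e i) ∈ Submodule.span ℤ ((fun l : Fin n => P.root (e l)) '' {l | i < l}) →
      l.foldl (fun x j => P.reflection (e j : ι) x) x - P.root (e i) ∈
        Submodule.span ℤ ((fun l : Fin n => P.root (e l)) '' {l | i < l}) := by
    intro i l
    induction l with
    | nil =>
      intro _ x hx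
      simpa using hx
    | cons j l ih =>
      intro hl x hx
      rw [List.foldl_cons]
      apply ih (fun k hk => hl k (List.mem_cons_of_mem _ hk))
      rw [RootPairing.reflection_apply]
      have : x - (P.coroot' (e j) x) • P.root (e j) - P.root (e i) =
          (x - P.root (e i)) - (P.coroot' (e j) x) • P.root (e j) := by abel
      rw [this]
      exact Submodule.sub_mem _ hx (Submodule.smul_mem _ _
        (Submodule.subset_span ⟨j, hl j List.mem_cons_self, rfl⟩))
  set θ : Fin n → M := fun i => ((List.finRange n).filter (fun j => i < j)).foldl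
    (fun x j => P.reflection (e j : ι) x) (P.root (e i : ι)) with hθ
  have hθ1 : ∀ i, θ i - P.root (e i) ∈
      Submodule.span ℤ ((fun l : Fin n => P.root (e l)) '' {l | i < l}) := by
    intro i
    apply hfold i _ (fun j hj => by simpa using (List.mem_filter.1 hj).2)
    simp
  have hle : ∀ i, Submodule.span ℤ ((fun l : Fin n => P.root (e l)) '' {l | i < l}) ≤
      P.rootSpan ℤ := by
    intro i
    apply Submodule.span_mono
    rintro _ ⟨l, -, rfl⟩
    exact ⟨_, rfl⟩
  have hθmem : ∀ i, θ i ∈ P.rootSpan ℤ := by
    intro i
    have : θ i = P.root (e i) + (θ i - P.root (e i)) := by abel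
    rw [this]
    exact Submodule.add_mem _ (Submodule.subset_span ⟨_, rfl⟩) (hle i (hθ1 i))
  let θ' : Fin n → P.rootSpan ℤ := fun i => ⟨θ i, hθmem i⟩
  have h' : ∀ i, θ' i - B i ∈ Submodule.span ℤ (B '' {l | i < l}) := by
    intro i
    have h1 : (P.rootSpan ℤ).subtype (θ' i - B i) ∈
        Submodule.map (P.rootSpan ℤ).subtype (Submodule.span ℤ (B '' {l | i < l})) := by
      rw [Submodule.map_span, ← Set.image_comp]
      have h2 : ((P.rootSpan ℤ).subtype ∘ B) = fun l => P.root (e l) := funext hB
      rw [h2]
      simpa [hB, θ'] using hθ1 i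
    obtain ⟨y, hy, hyeq⟩ := h1
    rwa [(P.rootSpan ℤ).subtype_injective hyeq] at hy
  obtain ⟨hli, hspan⟩ := Groth.Agent.Helper4.CoxeterBasis.unitriangular_basis B θ' h'
  constructor
  · exact hli.map' (P.rootSpan ℤ).subtype (Submodule.ker_subtype _)
  · have h3 : Set.range θ = (P.rootSpan ℤ).subtype '' Set.range θ' := by
      rw [← Set.range_comp]
      rfl
    rw [h3, ← Submodule.map_span, hspan, Submodule.map_top, Submodule.range_subtype]

end Groth.Agent.S8441
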