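import Groth.Statements.S8525
import Mathlib
import Groth.Agent.Helper9.EtStalkExact
-- import your own Groth.Agent.* helpers here

set_option autoImplicit false
universe u
open CategoryTheory CategoryTheory.Limits AlgebraicGeometry Opposite
open EtAcyc

namespace Groth.Agent.S8525

/-- Let L be a set of primes and F an abelian sheaf on the small etale site of a scheme X. Then F is an
L-torsion sheaf if and only if for every geometric point ξ of X every element of the stalk F_ξ is
killed by a positive integer all of whose prime factors lie in L. -/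
theorem result {X : Scheme.{u}} (L : Set ℕ) (F : EtCoh.Ab X) :
    EtAcyc.IsLTorsion L F ↔
      ∀ (Ω : Type u) [Field Ω] [IsSepClosed Ω] (ξ : Spec (CommRingCat.of Ω) ⟶ X)
        (t : (EtCoh.stalk ξ).obj F), ∃ m : ℕ, EtAcyc.PrimesIn L m ∧ m • t = 0 := by
  have inst1 := Groth.Agent.Helper9.EtStalkExact.preservesFilteredColimits_forget_ab.{u}
  have key : ∀ {Ω : Type u} [Field Ω] [IsSepClosed Ω] (ξ : Spec (CommRingCat.of Ω) ⟶ X)
      (W : X.Etale) (w : (Scheme.pointSmallEtale ξ).fiber.obj W) (m : ℕ)
      (y : F.obj.obj (op W)),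
      ((Scheme.pointSmallEtale ξ).toPresheafFiber W w F.obj).hom (m • y) =
        m • (((Scheme.pointSmallEtale ξ).toPresheafFiber W w F.obj).hom y :
          (EtCoh.stalk ξ).obj F) := fun ξ W w m y =>
    map_nsmul ((Scheme.pointSmallEtale ξ).toPresheafFiber W w F.obj).hom m y
  have key0 : ∀ {Ω : Type u} [Field Ω] [IsSepClosed Ω] (ξ : Spec (CommRingCat.of Ω) ⟶ X)
      (W : X.Etale) (w : (Scheme.pointSmallEtale ξ).fiber.obj W),
      ((Scheme.pointSmallEtale ξ).toPresheafFiber W w F.obj).hom 0 =
        (0 : (EtCoh.stalk ξ).obj F) := fun ξ W w =>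
    map_zero ((Scheme.pointSmallEtale ξ).toPresheafFiber W w F.obj).hom
  constructor
  · intro h Ω _ _ ξ t
    obtain ⟨U, l, s, rfl⟩ := (Scheme.pointSmallEtale ξ).toPresheafFiber_jointly_surjective
      (P := F.obj) t
    let lU : Spec (CommRingCat.of Ω) ⟶ U.left := l.left
    obtain ⟨V, g, m, ⟨v, hv⟩, hm, hs⟩ := h U s (lU default)
    have : AlgebraicGeometry.Etale g.left := inferInstance
    obtain ⟨l', hl1, hl2⟩ := Scheme.exists_fac_of_etale_of_isSepClosed g.left lU v hv
    refine ⟨m, hm, ?_⟩
    let lV : (Scheme.pointSmallEtale ξ).fiber.obj V := Over.homMk l' (by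
      have h1 : g.left ≫ U.hom = V.hom := Over.w g.hom
      have h2 : lU ≫ U.hom = ξ := Over.w l
      show l' ≫ V.hom = ξ
      rw [← h1, ← Category.assoc, hl1]
      exact h2)
    have hl : (Scheme.pointSmallEtale ξ).fiber.map g lV = l := by
      apply Over.OverMorphism.ext
      exact hl1
    have e := (Scheme.pointSmallEtale ξ).toPresheafFiber_w_apply g lV F.obj s
    rw [hl] at e
    have e2 := key ξ V lV m (F.obj.map g.op s)
    rw [hs, key0] at e2
    rw [← e]
    exact e2.symm
  · intro h U s x
    have hi := Groth.Agent.Helper9.EtStalkExact.geomPt_default (U.hom x)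
    obtain ⟨l, hl⟩ := Scheme.pointSmallEtaleFiberObjToPreimage_surjective
      (Groth.Agent.Helper9.EtStalkExact.geomPt (U.hom x)) hi U ⟨x, by simp⟩
    rw [Subtype.ext_iff] at hl
    simp only [Functor.id_obj, Scheme.pointSmallEtaleFiberObjToPreimage_coe,
      Scheme.Etale.forget_obj_left] at hl
    obtain ⟨m, hm, hs⟩ := h _ (Groth.Agent.Helper9.EtStalkExact.geomPt (U.hom x))
      ((Scheme.pointSmallEtale _).toPresheafFiber U l F.obj s)
    have h1 : (Scheme.pointSmallEtale (Groth.Agent.Helper9.EtStalkExact.geomPt (U.hom x))).toPresheafFiber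
        U l F.obj (m • s) =
        (Scheme.pointSmallEtale (Groth.Agent.Helper9.EtStalkExact.geomPt (U.hom x))).toPresheafFiber
        U l F.obj 0 := by
      refine (key _ U l m s).trans (Eq.trans ?_ (key0 _ U l).symm)
      exact hs
    obtain ⟨V, g, v, hv, hg⟩ := ((Scheme.pointSmallEtale _).toPresheafFiber_eq_iff' U l _ _).1 h1
    let vV : Spec (CommRingCat.of (SeparableClosure (X.residueField (U.hom x)))) ⟶ V.left := v.left
    refine ⟨V, g, m, ⟨vV default, ?_⟩, hm, ?_⟩
    · refine Eq.trans ?_ hl
      rw [← hv]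
      rfl
    · have e3 : (F.obj.map g.op).hom (m • s) = m • (F.obj.map g.op).hom s :=
        map_nsmul (F.obj.map g.op).hom m s
      have e4 : (F.obj.map g.op).hom 0 = 0 := map_zero (F.obj.map g.op).hom
      exact e3.symm.trans (hg.trans e4)

end Groth.Agent.S8525
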