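import Groth.Statements.S8562
import Groth.Agent.Helper9.EtSievePt
-- import your own Groth.Agent.* helpers here

set_option autoImplicit false
universe u
open CategoryTheory CategoryTheory.Limits AlgebraicGeometry Opposite
open NonAbH1

namespace Groth.Agent.S8562

/-- Exactness of the sequence 0 → H¹(Y, f_*F) → H¹(X, F) → H⁰(Y, R¹f_*F) at its middle term, in terms of
torsors: let f : X ⟶ Y be a morphism of schemes, F a sheaf of groups on the small etale site of X,
f_*F its direct image on Y (sections over an etale Y-scheme V are the sections of F over X ×_Y V),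
and Q an F-torsor. Then Q is the image of a class in H¹(Y, f_*F), in the sense that there are an
f_*F-torsor P on Y and a morphism of sheaves of sets from P to the direct image of the sheaf
underlying Q which is equivariant for the actions of f_*F, if and only if the class of Q is locally
trivial over Y: there is a jointly surjective family of etale Y-schemes Y_i such that Q has a
section over every X ×_Y Y_i. -/
theorem result {X Y : Scheme.{u}} (f : X ⟶ Y)
    [EtCoh.BCCont f] (F : Sheaf X.smallEtaleTopology GrpCat.{u + 1}) (Q : NonAbH1.Torsor F) :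
    (∃ (P : NonAbH1.Torsor (((EtCoh.bc f).sheafPushforwardContinuous GrpCat.{u + 1}
        Y.smallEtaleTopology X.smallEtaleTopology).obj F))
      (φ : P.P ⟶ ((EtCoh.bc f).sheafPushforwardContinuous (Type (u + 1))
        Y.smallEtaleTopology X.smallEtaleTopology).obj Q.P),
      ∀ (V : Y.Etaleᵒᵖ) (g : F.obj.obj (op ((EtCoh.bc f).obj V.unop))) (s : P.P.obj.obj V),
        φ.hom.app V (P.smul g s) = Q.smul g (φ.hom.app V s)) ↔
    ∃ (ι : Type u) (V : ι → Y.Etale), EtCoh.Covers V ∧
      ∀ i, Nonempty (Q.P.obj.obj (op ((EtCoh.bc f).obj (V i)))) := by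
  classical
  constructor
  · rintro ⟨P, φ, -⟩
    let U₀ : Y.Etale := Scheme.Etale.mk (𝟙 Y)
    obtain ⟨S, hS, hne⟩ := P.isTorsor.2 U₀
    have key : ∀ y : Y, ∃ (W : Y.Etale) (g : W ⟶ U₀), S g ∧ y ∈ Set.range g.left :=
      fun y => Groth.Agent.Helper9.EtSievePt.exists_of_mem U₀ S hS y
    choose W g hg hy using key
    refine ⟨Y, W, ?_, ?_⟩
    · intro y
      obtain ⟨w, hw⟩ := hy y
      refine ⟨y, w, ?_⟩
      have h1 : (g y).left ≫ U₀.hom = (W y).hom := MorphismProperty.Over.w (g y)
      rw [← h1, Scheme.Hom.comp_apply]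
      exact hw
    · intro y
      obtain ⟨s⟩ := hne (g y) (hg y)
      exact ⟨φ.hom.app (op (W y)) s⟩
  · rintro ⟨ι, V, hV, hne⟩
    let PG : NonAbH1.GSheaf (((EtCoh.bc f).sheafPushforwardContinuous GrpCat.{u + 1}
        Y.smallEtaleTopology X.smallEtaleTopology).obj F) :=
      { P := ((EtCoh.bc f).sheafPushforwardContinuous (Type (u + 1))
          Y.smallEtaleTopology X.smallEtaleTopology).obj Q.P
        smul := fun {U} g p => Q.smul (U := (EtCoh.bc f).op.obj U) g p
        one_smul := fun {U} p => Q.one_smul (U := (EtCoh.bc f).op.obj U) p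
        mul_smul := fun {U} g h p => Q.mul_smul (U := (EtCoh.bc f).op.obj U) g h p
        map_smul := fun {U V} a g p => Q.map_smul ((EtCoh.bc f).op.map a) g p }
    have hps : PG.IsPseudoTorsor := fun U p q => Q.isTorsor.1 ((EtCoh.bc f).op.obj U) p q
    have hln : PG.LocallyNonempty := by
      intro U
      let S : Sieve U :=
        { arrows := fun W _ => Nonempty (Q.P.obj.obj (op ((EtCoh.bc f).obj W)))
          downward_closed := by
            rintro W W' g ⟨s⟩ h
            exact ⟨Q.P.obj.map ((EtCoh.bc f).map h).op s⟩ }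
      refine ⟨S, ?_, fun W g hg => hg⟩
      apply Groth.Agent.Helper9.EtSievePt.mem_of_forall_point
      intro x
      obtain ⟨i, v, hv⟩ := hV (U.hom x)
      haveI : Etale (pullback.fst U.hom (V i).hom ≫ U.hom) := inferInstance
      let W : Y.Etale := Scheme.Etale.mk (pullback.fst U.hom (V i).hom ≫ U.hom)
      let g : W ⟶ U := MorphismProperty.Over.homMk (pullback.fst U.hom (V i).hom) rfl trivial
      let g' : W ⟶ V i := MorphismProperty.Over.homMk (pullback.snd U.hom (V i).hom)
        (pullback.condition).symm trivial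
      refine ⟨W, g, ?_, ?_⟩
      · obtain ⟨s⟩ := hne i
        exact ⟨Q.P.obj.map ((EtCoh.bc f).map g').op s⟩
      · obtain ⟨w, hw1, -⟩ := Scheme.Pullback.exists_preimage_pullback x v hv.symm
        exact ⟨w, hw1⟩
    exact ⟨⟨PG, hps, hln⟩, 𝟙 _, fun V g s => rfl⟩

end Groth.Agent.S8562
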