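import Groth.Statements.S8569
import Mathlib
import Groth.Agent.Helper9.FunTopos
-- import your own Groth.Agent.* helpers here

set_option autoImplicit false
open CategoryTheory
universe v u
open SGA4

namespace Groth.Agent.S8569

/-- Let E be a topos (a category equivalent to the category of sheaves of sets on a small site, for the
universe u) and D a u-small category. Then the category of functors D ⥤ E, which is the category of
sections of the constant D-topos with value E, is a topos. (The published statement is for an
arbitrary D-topos, i.e. a category bifibred in topoi over D; this row is the case of a constant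
one.) -/
theorem result {E : Type v} [Category.{u} E] (hE : SGA4.IsTopos E)
    (D : Type u) [SmallCategory D] : SGA4.IsTopos (D ⥤ E) := by
  obtain ⟨C, hC, J, ⟨e⟩⟩ := hE
  letI := hC
  exact ⟨Dᵒᵖ × C, inferInstance, Groth.Agent.Helper9.FunTopos.prodTop (T := Dᵒᵖ) J,
    ⟨(e.congrRight (E := D)).trans (Groth.Agent.Helper9.FunTopos.functorSheafEquiv (D := D) J)⟩⟩

end Groth.Agent.S8569
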