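import Groth.Statements.S8591
import Mathlib

set_option autoImplicit false
universe u
open CAlg

namespace Groth.Agent.S8591

open Polynomial Matrix

theorem det_aeval_split {R : Type u} [Field R] (p : R[X]) (hp : p.Splits) (n : ℕ)
    (B : Matrix (Fin n) (Fin n) R) :
    (aeval B p).det = (-1) ^ (n * p.natDegree) * resultant p B.charpoly p.natDegree n := by
  have hdeg : B.charpoly.natDegree ≤ n := by
    rw [Matrix.charpoly_natDegree_eq_dim]; simp
  rw [resultant_eq_prod_eval p B.charpoly n hdeg hp]
  let ψ : R[X] →* R := (Matrix.detMonoidHom).comp (aeval B : R[X] →ₐ[R] _).toRingHom.toMonoidHom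
  have hψ : ∀ q, ψ q = (aeval B q).det := fun q => rfl
  have hlin : ∀ μ : R, ψ (X - C μ) = (-1) ^ n * B.charpoly.eval μ := by
    intro μ
    rw [hψ, Matrix.eval_charpoly, map_sub, aeval_X, aeval_C]
    have : B - algebraMap R _ μ = -(Matrix.scalar (Fin n) μ - B) := by
      rw [neg_sub]; rfl
    rw [this, Matrix.det_neg]
    simp
  rw [← hψ]
  conv_lhs => rw [hp.eq_prod_roots]
  rw [map_mul, map_multiset_prod, Multiset.map_map]
  have h1 : ψ (C p.leadingCoeff) = p.leadingCoeff ^ n := by
    rw [hψ, aeval_C]
    simp [Matrix.algebraMap_eq_diagonal]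
  rw [h1]
  have h2 : (Multiset.map (ψ ∘ fun x => X - C x) p.roots) =
      Multiset.map (fun μ => (-1) ^ n * B.charpoly.eval μ) p.roots := by
    apply Multiset.map_congr rfl
    intro μ _
    exact hlin μ
  rw [h2, Multiset.prod_map_mul, Multiset.map_const', Multiset.prod_replicate,
    ← hp.natDegree_eq_card_roots, pow_mul]
  ring

theorem map_aeval_matrix {R S : Type*} [CommRing R] [CommRing S] (φ : R →+* S) {n : ℕ}
    (B : Matrix (Fin n) (Fin n) R) (P : R[X]) :
    (aeval B P).map φ = aeval (B.map φ) (P.map φ) := by
  have h1 : (aeval B P).map φ = φ.mapMatrix (aeval B P) := rfl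
  rw [h1, aeval_def, aeval_def, hom_eval₂, eval₂_map]
  congr 1
  ext r i j
  simp [Matrix.algebraMap_matrix_apply]
  split_ifs <;> simp

/-- `det P(B)` is, up to sign, the resultant of `P` and the characteristic polynomial of `B`. -/
theorem det_aeval_eq_resultant {R : Type u} [CommRing R] (P : R[X]) :
    ∀ (n : ℕ) (B : Matrix (Fin n) (Fin n) R),
      (aeval B P).det = (-1) ^ (n * P.natDegree) * resultant P B.charpoly P.natDegree n := by
  induction P using induction_of_Splits_of_injective_of_surjective with
  | Splits R p hp =>
    intro n B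
    exact det_aeval_split p hp n B
  | injective R S φ hφ p IH =>
    intro n B
    apply hφ
    have := IH n (B.map φ)
    rw [← map_aeval_matrix, Matrix.charpoly_map, resultant_map_map,
      natDegree_map_eq_of_injective hφ] at this
    rw [RingHom.map_det, RingHom.mapMatrix_apply, this]
    simp
  | surjective R S φ hφ p IH =>
    intro n B
    obtain ⟨q, hq, e⟩ := exists_degree_eq_of_mem_lifts (Polynomial.map_surjective φ hφ p)
    have hB : ∃ B' : Matrix (Fin n) (Fin n) R, B'.map φ = B := by
      choose g hg using hφ
      exact ⟨B.map g, by ext i j; simp [hg]⟩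
    obtain ⟨B', rfl⟩ := hB
    have := congrArg φ (IH q n B')
    rw [RingHom.map_det, RingHom.mapMatrix_apply, map_aeval_matrix, hq] at this
    rw [this, Matrix.charpoly_map, ← hq, resultant_map_map, hq, natDegree_eq_natDegree e]
    simp

theorem minpoly_root_of_monic {R : Type*} [CommRing R] {g : R[X]} (hg : g.Monic) :
    minpoly R (AdjoinRoot.root g) = g := by
  symm
  apply minpoly.unique' R _ hg
  · rw [AdjoinRoot.aeval_eq, AdjoinRoot.mk_self]
  · intro q hq
    by_cases hq0 : q = 0
    · exact Or.inl hq0
    · right
      rw [AdjoinRoot.aeval_eq, Ne, AdjoinRoot.mk_eq_zero]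
      exact hg.not_dvd_of_degree_lt hq0 hq

/-- Let k be a commutative ring, M a finite free k-module, u an endomorphism of M with characteristic
polynomial χ, and P a polynomial over k. Then the norm, from the k-algebra k[T]/(χ) (free of rank
the rank of M) down to k, of the class of P(T) equals det(P(u)). (The published statement writes the
quotient by det(u - T), which generates the same ideal as χ(T) = det(T - u).) -/
theorem result (k : Type u) [CommRing k] (M : Type u) [AddCommGroup M] [Module k M]
    [Module.Free k M] [Module.Finite k M] (u : M →ₗ[k] M) (P : Polynomial k) :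
    Algebra.norm k (AdjoinRoot.mk u.charpoly P) = LinearMap.det (Polynomial.aeval u P) := by
  nontriviality k
  have hχ : u.charpoly.Monic := LinearMap.charpoly_monic u
  let pb := AdjoinRoot.powerBasis' hχ
  -- left hand side
  have hL : Algebra.norm k (AdjoinRoot.mk u.charpoly P) =
      (-1) ^ (pb.dim * P.natDegree) * resultant P u.charpoly P.natDegree pb.dim := by
    rw [Algebra.norm_eq_matrix_det pb.basis, ← AdjoinRoot.aeval_eq, ← aeval_algHom_apply,
      det_aeval_eq_resultant]
    have : (Algebra.leftMulMatrix pb.basis) (AdjoinRoot.root u.charpoly) =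
        (Algebra.leftMulMatrix pb.basis) pb.gen := rfl
    rw [this, charpoly_leftMulMatrix]
    have : pb.gen = AdjoinRoot.root u.charpoly := rfl
    rw [this, minpoly_root_of_monic hχ]
  -- right hand side
  let b := Module.finBasis k M
  have hR : LinearMap.det (Polynomial.aeval u P) =
      (-1) ^ (Module.finrank k M * P.natDegree) *
        resultant P u.charpoly P.natDegree (Module.finrank k M) := by
    rw [← LinearMap.det_toMatrix b]
    have : LinearMap.toMatrix b b (aeval u P) = aeval (LinearMap.toMatrix b b u) P := by
      have := aeval_algHom_apply (LinearMap.toMatrixAlgEquiv b) u P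
      simpa [LinearMap.toMatrixAlgEquiv] using this.symm
    rw [this, det_aeval_eq_resultant, LinearMap.charpoly_toMatrix]
  have hdim : pb.dim = Module.finrank k M := by
    have : pb.dim = u.charpoly.natDegree := rfl
    rw [this, LinearMap.charpoly_natDegree]
  rw [hL, hR, hdim]

end Groth.Agent.S8591
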