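import Groth.Statements.S8596
import Groth.Agent.Helper1.TorPrimes
open Groth.Agent.Helper1.TorLib CategoryTheory.Limits

set_option autoImplicit false
universe u
open CategoryTheory CategoryTheory.Limits
open CAlg

namespace Groth.Agent.S8596

/-- Case of a complex reduced to a single module in degree 0: let A be a commutative Noetherian ring, M
an A-module (not necessarily finitely generated) and n ≥ 0. Then M has tor-dimension at most n —
Tor_i^A(N, M) = 0 for every A-module N and every i > n, the Tor being the left derived functors of N
⊗ - evaluated at M — if and only if Tor_i^A(k(x), M) = 0 for every prime ideal x of A, with residue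
field k(x), and every i > n. (The published statement gives the equivalence for bounded-above
complexes K and the derived tensor product K ⊗^L k(x); this is the case K = M[0].) -/
theorem result (A : Type u) [CommRing A] [IsNoetherianRing A]
    (M : ModuleCat.{u} A) (n : ℕ) :
    (∀ (N : ModuleCat.{u} A) (i : ℕ), n < i → IsZero (((Tor (ModuleCat.{u} A) i).obj N).obj M)) ↔
    (∀ (x : Ideal A) [x.IsPrime] (i : ℕ), n < i →
      IsZero (((Tor (ModuleCat.{u} A) i).obj (ModuleCat.of A x.ResidueField)).obj M)) := by
  constructor
  · intro h x _ i hi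
    exact h _ i hi
  · intro h
    -- Claim A: vanishing on `A/p`
    have hA : ∀ p : Ideal A, p.IsPrime → ∀ i, n < i →
        IsZero (((Tor (ModuleCat.{u} A) i).obj (ModuleCat.of A (A ⧸ p))).obj M) := by
      intro p
      induction p using IsNoetherian.induction with
      | hgt p ih =>
        intro hp i hi
        haveI := hp
        refine isZero_tor_quotient_prime p M i (h p i hi) ?_
        intro f hf
        have hJ : ∀ (N : Type u) [AddCommGroup N] [Module A N] [Module.Finite A N],
            (p ⊔ Ideal.span {f}) ≤ Module.annihilator A N → ∀ j, n < j →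
            IsZero (((Tor (ModuleCat.{u} A) j).obj (ModuleCat.of A N)).obj M) := by
          intro N _ _ hN
          refine IsNoetherianRing.induction_on_isQuotientEquivQuotientPrime A hN
            (motive := fun N _ _ _ => (p ⊔ Ideal.span {f}) ≤ Module.annihilator A N → ∀ j, n < j →
              IsZero (((Tor (ModuleCat.{u} A) j).obj (ModuleCat.of A N)).obj M)) ?_ ?_ ?_
          · intro N _ _ _ _ _ j hj
            obtain ⟨k, rfl⟩ : ∃ k, j = k + 1 := ⟨j - 1, by omega⟩
            exact isZero_tor_of_flat_left _ _ k
          · intro N _ _ _ q e hann j hj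
            rw [e.annihilator_eq, Ideal.annihilator_quotient] at hann
            have hq : p < q.asIdeal := by
              refine lt_of_le_of_ne (le_sup_left.trans hann) ?_
              rintro rfl
              exact hf (hann (Ideal.mem_sup_right (Ideal.mem_span_singleton_self f)))
            exact isZero_tor_of_iso e.symm.toModuleIso M j (ih q.asIdeal hq q.2 j hj)
          · intro N₁ _ _ _ N₂ _ _ _ N₃ _ _ _ f' g' hf' hg' hfg h₁ h₃ hann j hj
            exact isZero_tor_X₂ (scOfLinear_shortExact f' g' hf' hg' hfg) M j
              (h₁ (hann.trans (f'.annihilator_le_of_injective hf')) j hj)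
              (h₃ (hann.trans (g'.annihilator_le_of_surjective hg')) j hj)
        have hann : (p ⊔ Ideal.span {f}) ≤ Module.annihilator A (A ⧸ (p ⊔ Ideal.span {f})) := by
          rw [Ideal.annihilator_quotient]
        exact ⟨hJ _ hann i hi, hJ _ hann (i + 1) (by omega)⟩
    -- Claim B: vanishing on finite modules
    have hB : ∀ (N : Type u) [AddCommGroup N] [Module A N] [Module.Finite A N], ∀ i, n < i →
        IsZero (((Tor (ModuleCat.{u} A) i).obj (ModuleCat.of A N)).obj M) := by
      intro N _ _ hN
      refine IsNoetherianRing.induction_on_isQuotientEquivQuotientPrime A hN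
        (motive := fun N _ _ _ => ∀ j, n < j →
          IsZero (((Tor (ModuleCat.{u} A) j).obj (ModuleCat.of A N)).obj M)) ?_ ?_ ?_
      · intro N _ _ _ _ j hj
        obtain ⟨k, rfl⟩ : ∃ k, j = k + 1 := ⟨j - 1, by omega⟩
        exact isZero_tor_of_flat_left _ _ k
      · intro N _ _ _ q e j hj
        exact isZero_tor_of_iso e.symm.toModuleIso M j (hA q.asIdeal q.2 j hj)
      · intro N₁ _ _ _ N₂ _ _ _ N₃ _ _ _ f' g' hf' hg' hfg h₁ h₃ j hj
        exact isZero_tor_X₂ (scOfLinear_shortExact f' g' hf' hg' hfg) M j (h₁ j hj) (h₃ j hj)
    -- Claim C: all modules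
    intro N i hi
    obtain ⟨k, rfl⟩ : ∃ k, i = k + 1 := ⟨i - 1, by omega⟩
    rw [isZero_tor_symm_iff]
    exact isZero_tor_of_forall_finite k M
      (fun N' _ _ _ => (isZero_tor_symm_iff _ _ _).mp (hB N' (k + 1) hi)) N

end Groth.Agent.S8596
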