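import Groth.Statements.S8597
import Groth.Agent.Helper1.TorRelative
import Groth.Agent.Helper1.TorSecond
open Groth.Agent.Helper1.TorLib

set_option autoImplicit false
universe u
open CategoryTheory CategoryTheory.Limits
open CAlg

namespace Groth.Agent.S8597

/-- Case of modules placed in degree 0: let A be a commutative Noetherian ring and u : M -> N a
homomorphism of A-modules such that for every prime ideal x of A, with residue field k(x), and every
i ≥ 0, the induced map Tor_i^A(k(x), M) -> Tor_i^A(k(x), N) (left derived functors of k(x) ⊗ -) is
an isomorphism. Then u is an isomorphism. (The published statement is for a morphism of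
bounded-above complexes and the derived tensor products with k(x); this is the case of two modules.) -/
theorem result (A : Type u) [CommRing A] [IsNoetherianRing A]
    {M N : ModuleCat.{u} A} (u : M ⟶ N)
    (h : ∀ (x : Ideal A) [x.IsPrime] (i : ℕ),
      IsIso (((Tor (ModuleCat.{u} A) i).obj (ModuleCat.of A x.ResidueField)).map u)) :
    IsIso u := by
  -- Claim A: bijectivity on `A/p`
  have hA : ∀ p : Ideal A, p.IsPrime → ∀ i, Function.Bijective
      (((Tor (ModuleCat.{u} A) i).obj (ModuleCat.of A (A ⧸ p))).map u).hom := by
    intro p
    induction p using IsNoetherian.induction with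
    | hgt p ih =>
      intro hp
      haveI := hp
      refine bijective_tor_map_quotient_prime p u (fun i => h p i) ?_
      intro f hf
      have hJ : ∀ (L : Type u) [AddCommGroup L] [Module A L] [Module.Finite A L],
          (p ⊔ Ideal.span {f}) ≤ Module.annihilator A L → ∀ j, Function.Bijective
            (((Tor (ModuleCat.{u} A) j).obj (ModuleCat.of A L)).map u).hom := by
        intro L _ _ hL
        refine IsNoetherianRing.induction_on_isQuotientEquivQuotientPrime A hL
          (motive := fun L _ _ _ => (p ⊔ Ideal.span {f}) ≤ Module.annihilator A L → ∀ j,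
            Function.Bijective (((Tor (ModuleCat.{u} A) j).obj (ModuleCat.of A L)).map u).hom)
          ?_ ?_ ?_
        · intro L _ _ _ _ _ j
          exact bijective_tor_map_of_subsingleton j (ModuleCat.of A L) u
        · intro L _ _ _ q e hann j
          rw [e.annihilator_eq, Ideal.annihilator_quotient] at hann
          have hq : p < q.asIdeal := by
            refine lt_of_le_of_ne (le_sup_left.trans hann) ?_
            rintro rfl
            exact hf (hann (Ideal.mem_sup_right (Ideal.mem_span_singleton_self f)))
          exact bijective_tor_map_of_iso j e.symm.toModuleIso u (ih q.asIdeal hq q.2 j)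
        · intro N₁ _ _ _ N₂ _ _ _ N₃ _ _ _ f' g' hf' hg' hfg h₁ h₃ hann j
          exact bijective_tor_map_X₂ (scOfLinear_shortExact f' g' hf' hg' hfg) u
            (h₁ (hann.trans (f'.annihilator_le_of_injective hf')))
            (h₃ (hann.trans (g'.annihilator_le_of_surjective hg'))) j
      have hann : (p ⊔ Ideal.span {f}) ≤ Module.annihilator A (A ⧸ (p ⊔ Ideal.span {f})) := by
        rw [Ideal.annihilator_quotient]
      exact hJ _ hann
  -- Claim B: bijectivity on finite modules
  have hB : ∀ (L : Type u) [AddCommGroup L] [Module A L] [Module.Finite A L], ∀ i,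
      Function.Bijective (((Tor (ModuleCat.{u} A) i).obj (ModuleCat.of A L)).map u).hom := by
    intro L _ _ hL
    refine IsNoetherianRing.induction_on_isQuotientEquivQuotientPrime A hL
      (motive := fun L _ _ _ => ∀ j,
        Function.Bijective (((Tor (ModuleCat.{u} A) j).obj (ModuleCat.of A L)).map u).hom)
      ?_ ?_ ?_
    · intro L _ _ _ _ j
      exact bijective_tor_map_of_subsingleton j (ModuleCat.of A L) u
    · intro L _ _ _ q e j
      exact bijective_tor_map_of_iso j e.symm.toModuleIso u (hA q.asIdeal q.2 j)
    · intro N₁ _ _ _ N₂ _ _ _ N₃ _ _ _ f' g' hf' hg' hfg h₁ h₃ j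
      exact bijective_tor_map_X₂ (scOfLinear_shortExact f' g' hf' hg' hfg) u h₁ h₃ j
  -- conclusion: `Tor_0(A, u) = u`
  have h0 := (bijective_iff_isIso _).mp (hB A 0)
  have h1 : IsIso ((MonoidalCategory.tensorLeft (ModuleCat.of A A)).map u) :=
    (NatIso.isIso_map_iff (torZeroIso₂ (ModuleCat.of A A)) u).mp h0
  exact (NatIso.isIso_map_iff (MonoidalCategory.leftUnitorNatIso (ModuleCat.{u} A)) u).mp h1

end Groth.Agent.S8597
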