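import Groth.Statements.S8619
import Groth.Agent.Helper6.ResC

set_option autoImplicit false
universe u
open CategoryTheory CategoryTheory.Limits AlgebraicGeometry
open SGA4h

namespace Groth.Agent.S8619

/-- Let X be a Noetherian scheme, Λ a commutative Noetherian ring and K a cochain complex of etale
sheaves of Λ-modules on X whose cohomology sheaves are constructible and vanish in large degrees.
Then there are a cochain complex K', zero in large degrees, whose components are constructible
sheaves of Λ-modules with flat geometric stalks, and a quasi-isomorphism K' → K. (The published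
statement allows a left-Noetherian, possibly non-commutative Λ.) -/
theorem result {Λ : Type (u + 1)} [CommRing Λ]
    [IsNoetherianRing Λ] {X : Scheme.{u}} [IsNoetherian X]
    (K : CochainComplex (EtModW.Mod Λ X) ℤ)
    (hK : ∀ i : ℤ, EtModW.IsConstructible Λ (K.homology i))
    (hb : ∃ m : ℤ, ∀ i : ℤ, m ≤ i → IsZero (K.homology i)) :
    ∃ (K' : CochainComplex (EtModW.Mod Λ X) ℤ) (φ : K' ⟶ K), QuasiIso φ ∧
      (∃ m : ℤ, ∀ i : ℤ, m ≤ i → IsZero (K'.X i)) ∧
      (∀ i : ℤ, EtModW.IsConstructible Λ (K'.X i)) ∧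
      ∀ (i : ℤ) (Ω : Type u) [Field Ω] [IsSepClosed Ω] (ξ : Spec (CommRingCat.of Ω) ⟶ X),
        Module.Flat Λ ((EtModW.stalk Λ ξ).obj (K'.X i)) := by
  obtain ⟨m, hm⟩ := hb
  obtain ⟨C, φ, hφ, hC0, hC⟩ := Groth.Agent.Helper6.ResC.exists_resolution_of_vanishing Λ
    (fun v hv hB => Groth.Agent.Helper6.ResC.star_noeth Λ v hv hB) K (m - 1) hK
    (fun i hi => hm i (by omega))
  refine ⟨C, φ, hφ, ⟨m, fun i hi => hC0 i (by omega)⟩, ?_, ?_⟩
  · intro i
    exact Groth.Agent.Helper6.ResC.isConstructible_of_isFinFree Λ (hC i)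
  · intro i Ω _ _ ξ
    exact Groth.Agent.Helper6.ResC.flat_stalk_of_isFinFree Λ (hC i) ξ

end Groth.Agent.S8619
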