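import Groth.Statements.S8625
import Mathlib.Tactic

set_option autoImplicit false
universe u
open SGA4h

namespace Groth.Agent.S8625

section
variable {G : Type u} [Group G] (F : G →* G)

/-- the relation "x = F g g⁻¹ and y = g⁻¹ F g" on fixed points -/
def Rel (x y : ↥(F.eqLocus (MonoidHom.id G))) : Prop :=
  ∃ g : G, F g * g⁻¹ = (x : G) ∧ g⁻¹ * F g = (y : G)

theorem fix_of (g : G) (h : F (F g * g⁻¹) = F g * g⁻¹) : F (g⁻¹ * F g) = g⁻¹ * F g := by
  have h1 : F g = (F g * g⁻¹) * g := by group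
  have : g⁻¹ * F g = g⁻¹ * (F g * g⁻¹) * g := by group
  rw [this, map_mul, map_mul, h, map_inv, h1]
  group

theorem fix_of' (g : G) (h : F (g⁻¹ * F g) = g⁻¹ * F g) : F (F g * g⁻¹) = F g * g⁻¹ := by
  have h1 : F g = g * (g⁻¹ * F g) := by group
  have : F g * g⁻¹ = g * (g⁻¹ * F g) * g⁻¹ := by group
  rw [this, map_mul, map_mul, h, map_inv, h1]
  group

theorem mem_fix (x : ↥(F.eqLocus (MonoidHom.id G))) : F (x : G) = x := x.2

theorem rel_conj {x y x' y' : ↥(F.eqLocus (MonoidHom.id G))} (h : Rel F x y) (h' : Rel F x' y')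
    (hc : IsConj x x') : IsConj y y' := by
  obtain ⟨g, hg1, hg2⟩ := h
  obtain ⟨g', hg'1, hg'2⟩ := h'
  rw [isConj_iff] at hc ⊢
  obtain ⟨c, hc⟩ := hc
  have hcG : (c : G) * x * (c : G)⁻¹ = x' := by
    have := congrArg Subtype.val hc
    simpa using this
  -- g'' = c g satisfies F g'' g''⁻¹ = x'
  have hFc : F (c : G) = c := c.2
  -- d = g'⁻¹ * c * g is fixed
  have hd : F (g'⁻¹ * c * g) = g'⁻¹ * c * g := by
    have e1 : F g = x * g := by rw [← hg1]; group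
    have e2 : F g' = x' * g' := by rw [← hg'1]; group
    rw [map_mul, map_mul, map_inv, hFc, e1, e2, ← hcG]
    group
  refine ⟨⟨g'⁻¹ * c * g, hd⟩, ?_⟩
  apply Subtype.ext
  simp only [Subgroup.coe_mul, InvMemClass.coe_inv]
  rw [← hg2, ← hg'2]
  have e1 : F g = x * g := by rw [← hg1]; group
  have e2 : F g' = x' * g' := by rw [← hg'1]; group
  rw [e1, e2, ← hcG]
  group

theorem rel_conj' {x y x' y' : ↥(F.eqLocus (MonoidHom.id G))} (h : Rel F x y) (h' : Rel F x' y')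
    (hc : IsConj y y') : IsConj x x' := by
  obtain ⟨g, hg1, hg2⟩ := h
  obtain ⟨g', hg'1, hg'2⟩ := h'
  rw [isConj_iff] at hc ⊢
  obtain ⟨c, hc⟩ := hc
  have hcG : (c : G) * y * (c : G)⁻¹ = y' := by
    have := congrArg Subtype.val hc
    simpa using this
  have hFc : F (c : G) = c := c.2
  have e1 : F g = g * y := by rw [← hg2]; group
  have e2 : F g' = g' * y' := by rw [← hg'2]; group
  have hd : F (g' * c * g⁻¹) = g' * c * g⁻¹ := by
    rw [map_mul, map_mul, map_inv, hFc, e1, e2, ← hcG]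
    group
  refine ⟨⟨g' * c * g⁻¹, hd⟩, ?_⟩
  apply Subtype.ext
  simp only [Subgroup.coe_mul, InvMemClass.coe_inv]
  rw [← hg1, ← hg'1, e1, e2, ← hcG]
  group

end

/-- Let G be a group with an endomorphism F, and assume the Lang map g ↦ F(g)g⁻¹ is surjective. -/
theorem result {G : Type u} [Group G] (F : G →* G)
    (hL : Function.Surjective fun g : G => F g * g⁻¹) :
    (∀ g : G, F (F g * g⁻¹) = F g * g⁻¹ → F (g⁻¹ * F g) = g⁻¹ * F g) ∧
    ∃ φ : ConjClasses ↥(F.eqLocus (MonoidHom.id G)) → ConjClasses ↥(F.eqLocus (MonoidHom.id G)),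
      Function.Bijective φ ∧
      ∀ (g : G) (h : F (F g * g⁻¹) = F g * g⁻¹) (h' : F (g⁻¹ * F g) = g⁻¹ * F g),
        φ (ConjClasses.mk (⟨F g * g⁻¹, h⟩ : ↥(F.eqLocus (MonoidHom.id G)))) =
          ConjClasses.mk (⟨g⁻¹ * F g, h'⟩ : ↥(F.eqLocus (MonoidHom.id G))) := by
  refine ⟨fix_of F, ?_⟩
  have ha : ∀ x : ↥(F.eqLocus (MonoidHom.id G)), ∃ y, Rel F x y := by
    intro x
    obtain ⟨g, hg⟩ := hL x
    simp only at hg
    have hx : F (F g * g⁻¹) = F g * g⁻¹ := by rw [hg]; exact x.2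
    exact ⟨⟨g⁻¹ * F g, fix_of F g hx⟩, g, hg, rfl⟩
  have hd : ∀ y : ↥(F.eqLocus (MonoidHom.id G)), ∃ x, Rel F x y := by
    intro y
    obtain ⟨g, hg⟩ := hL (y : G)⁻¹
    simp only at hg
    have hg' : (g⁻¹)⁻¹ * F g⁻¹ = y := by
      have := congrArg (·⁻¹) hg
      simp only [mul_inv_rev, inv_inv] at this
      rw [map_inv]; simpa using this
    have hy : F ((g⁻¹)⁻¹ * F g⁻¹) = (g⁻¹)⁻¹ * F g⁻¹ := by rw [hg']; exact y.2
    exact ⟨⟨F g⁻¹ * (g⁻¹)⁻¹, fix_of' F g⁻¹ hy⟩, g⁻¹, rfl, hg'⟩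
  choose f hf using ha
  let φ : ConjClasses ↥(F.eqLocus (MonoidHom.id G)) → ConjClasses ↥(F.eqLocus (MonoidHom.id G)) :=
    Quotient.lift (fun x => ConjClasses.mk (f x)) (fun x x' hxx' =>
      ConjClasses.mk_eq_mk_iff_isConj.mpr (rel_conj F (hf x) (hf x') hxx'))
  have hφ : ∀ x, φ (ConjClasses.mk x) = ConjClasses.mk (f x) := fun x => rfl
  refine ⟨φ, ⟨?_, ?_⟩, ?_⟩
  · intro a b hab
    obtain ⟨x, rfl⟩ := ConjClasses.mk_surjective a
    obtain ⟨x', rfl⟩ := ConjClasses.mk_surjective b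
    rw [hφ, hφ, ConjClasses.mk_eq_mk_iff_isConj] at hab
    exact ConjClasses.mk_eq_mk_iff_isConj.mpr (rel_conj' F (hf x) (hf x') hab)
  · intro b
    obtain ⟨y, rfl⟩ := ConjClasses.mk_surjective b
    obtain ⟨x, hx⟩ := hd y
    refine ⟨ConjClasses.mk x, ?_⟩
    rw [hφ, ConjClasses.mk_eq_mk_iff_isConj]
    exact rel_conj F (hf x) hx (IsConj.refl x)
  · intro g h h'
    rw [hφ, ConjClasses.mk_eq_mk_iff_isConj]
    exact rel_conj F (hf _) ⟨g, rfl, rfl⟩ (IsConj.refl _)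

end Groth.Agent.S8625
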