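import Groth.Statements.S8637
import Mathlib.Tactic

set_option autoImplicit false
open Zeta

namespace Groth.Agent.S8637

theorem coeff_mul_nonneg (g h : PowerSeries ℝ) (hg : ∀ n, 0 ≤ PowerSeries.coeff n g)
    (hh : ∀ n, 0 ≤ PowerSeries.coeff n h) (n : ℕ) : 0 ≤ PowerSeries.coeff n (g * h) := by
  rw [PowerSeries.coeff_mul]
  exact Finset.sum_nonneg fun p _ => mul_nonneg (hg _) (hh _)

theorem coeff_prod_nonneg {ι : Type} (s : Finset ι) (f : ι → PowerSeries ℝ)
    (hpos : ∀ i ∈ s, ∀ n : ℕ, 0 ≤ PowerSeries.coeff n (f i)) (n : ℕ) :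
    0 ≤ PowerSeries.coeff n (∏ j ∈ s, f j) := by
  classical
  induction s using Finset.induction_on generalizing n with
  | empty =>
    simp only [Finset.prod_empty, PowerSeries.coeff_one]
    split_ifs <;> norm_num
  | insert a s ha ih =>
    rw [Finset.prod_insert ha]
    apply coeff_mul_nonneg
    · exact hpos a (Finset.mem_insert_self a s)
    · exact fun n => ih (fun i hi => hpos i (Finset.mem_insert_of_mem hi)) n

/-- First assertion, for a finite family: let (f_i) be finitely many formal power series with real
coefficients, each with constant term 1 and all coefficients ≥ 0, and let f be their product. Then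
for every i and every n the n-th coefficient of f_i is at most the n-th coefficient of f (so the
radius of absolute convergence of f_i is at least that of f). (Stated for a finite family; for an
infinite product whose factors f_i - 1 have orders tending to infinity each coefficient is that of a
finite sub-product, so the same inequality holds.) -/
theorem result {ι : Type} (s : Finset ι) (f : ι → PowerSeries ℝ)
    (h0 : ∀ i ∈ s, PowerSeries.constantCoeff (f i) = 1)
    (hpos : ∀ i ∈ s, ∀ n : ℕ, 0 ≤ PowerSeries.coeff n (f i)) (i : ι) (hi : i ∈ s) (n : ℕ) :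
    PowerSeries.coeff n (f i) ≤ PowerSeries.coeff n (∏ j ∈ s, f j) := by
  classical
  rw [← Finset.mul_prod_erase s f hi, PowerSeries.coeff_mul]
  have hg0 : PowerSeries.coeff 0 (∏ j ∈ s.erase i, f j) = 1 := by
    rw [PowerSeries.coeff_zero_eq_constantCoeff_apply, map_prod]
    exact Finset.prod_eq_one fun j hj => h0 j (Finset.mem_of_mem_erase hj)
  have hgpos : ∀ m, 0 ≤ PowerSeries.coeff m (∏ j ∈ s.erase i, f j) :=
    coeff_prod_nonneg _ f fun j hj => hpos j (Finset.mem_of_mem_erase hj)
  have hmem : (n, 0) ∈ Finset.antidiagonal n := by simp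
  calc PowerSeries.coeff n (f i)
      = PowerSeries.coeff (n, 0).1 (f i) * PowerSeries.coeff (n, 0).2 (∏ j ∈ s.erase i, f j) := by
        simp [hg0]
    _ ≤ _ := Finset.single_le_sum (f := fun p : ℕ × ℕ =>
          PowerSeries.coeff p.1 (f i) * PowerSeries.coeff p.2 (∏ j ∈ s.erase i, f j))
        (fun p _ => mul_nonneg (hpos i hi _) (hgpos _)) hmem

end Groth.Agent.S8637
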