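import Groth.Statements.S8650
import Groth.Agent.Helper4.LamSeries
import Mathlib

set_option autoImplicit false
universe u
open Finset
open LambdaRing

namespace Groth.Agent.S8650


/-- Let K be a pre-λ-ring (λ^0 = 1, λ^1 = id, additive formula) in which λ^k(1) = 0 for all k ≥ 2. Then
for every x ∈ K and every n, λ^n(x + n − 1) = (−1)^n Σ_{i=0}^{n} (−1)^i λ^i(x + n). (The published
statement is for a λ-ring; its proof uses only additivity and λ_t(1) = 1 + t, the hypotheses taken
here.) -/
theorem result (K : Type u) [CommRing K] [LambdaRing.LambdaOps K]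
    (h1 : ∀ k : ℕ, 2 ≤ k → LambdaRing.LambdaOps.lam k (1 : K) = 0) (n : ℕ) (x : K) :
    LambdaRing.LambdaOps.lam n (x + (n : K) - 1) =
      (-1 : K) ^ n * ∑ i ∈ range (n + 1), (-1 : K) ^ i * LambdaRing.LambdaOps.lam i (x + (n : K)) := by

  have h := Helper4.LamSeries.lamSeries_sub_one h1 (x + (n : K))
  have h2 := congrArg (PowerSeries.coeff n) h
  rw [Helper4.LamSeries.coeff_lamSeries, PowerSeries.coeff_mul,
    Finset.Nat.sum_antidiagonal_eq_sum_range_succ_mk] at h2
  rw [h2, Finset.mul_sum]
  refine Finset.sum_congr rfl fun i hi => ?_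
  rw [Finset.mem_range] at hi
  rw [Helper4.LamSeries.coeff_lamSeries, PowerSeries.coeff_mk]
  have : (-1 : K) ^ (n - i) = (-1) ^ n * (-1) ^ i := by
    have hni : n = (n - i) + i := by lia
    conv_rhs => rw [hni, pow_add]
    rw [mul_assoc, ← mul_pow]
    simp
  rw [this]; ring

end Groth.Agent.S8650
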