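import Groth.Statements.S8652
import Groth.Agent.Lead.KoszulGeoC
import Mathlib

set_option autoImplicit false
universe u
open CategoryTheory CategoryTheory.Limits AlgebraicGeometry
open RegImm

namespace Groth.Agent.S8652

/-- Let i : Y ⟶ X be a Koszul-regular immersion (Koszul-regular: locally, in affine opens of X where the
image is closed, the ideal is generated by a sequence whose Koszul complex is acyclic in nonzero
degrees) and let g : X' ⟶ X be flat. For any cartesian square with i' : Y' ⟶ X' the base change of i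
along g, i' is a Koszul-regular immersion. -/
theorem result {X Y X' Y' : Scheme.{u}} (i : Y ⟶ X) (g : X' ⟶ X) [Flat g]
    (i' : Y' ⟶ X') (g' : Y' ⟶ Y) (hsq : IsPullback g' i' i g)
    (hi : RegImm.IsRegularImmersion .koszul i) : RegImm.IsRegularImmersion .koszul i' := by
  haveI := hi.1
  refine ⟨MorphismProperty.of_isPullback (P := @IsImmersion) hsq hi.1, fun y' => ?_⟩
  obtain ⟨U, hyU, hcU, rs, hrs, hker⟩ := hi.2 (g' y')
  haveI := hcU
  obtain ⟨U', hU', e, hy'U', hcl, hker'⟩ :=
    Groth.Agent.Lead.KoszulGeoC.baseChange_chart i g i' g' hsq y' U.1 U.2 hyU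
  have hflat : (g.appLE U.1 U' e).hom.Flat :=
    HasRingHomProperty.appLE (P := @Flat) g inferInstance U ⟨U', hU'⟩ e
  have hrs' : LCI.IsKoszulRegularSeq Γ(X, U.1) rs := hrs
  refine ⟨⟨U', hU'⟩, hy'U', hcl, rs.map (g.appLE U.1 U' e).hom, ?_, ?_⟩
  · letI := (g.appLE U.1 U' e).hom.toAlgebra
    haveI : Module.Flat Γ(X, U.1) Γ(X', U') := hflat
    exact Groth.Agent.Lead.KoszulFunC.isKoszulRegularSeq_of_flat rs hrs'
  · rw [hker', hker, Ideal.map_ofList]

end Groth.Agent.S8652
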