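import Groth.Statements.S8654
import Groth.Agent.Lead.KoszulGeoB
import Mathlib

set_option autoImplicit false
universe u
open CategoryTheory CategoryTheory.Limits AlgebraicGeometry
open RegImm

namespace Groth.Agent.S8654

/-- Let i : Y ⟶ X and j : Z ⟶ Y be Koszul-regular immersions (not necessarily closed). Then the
composite Z ⟶ X is a Koszul-regular immersion. -/
theorem result {X Y Z : Scheme.{u}} (i : Y ⟶ X) (j : Z ⟶ Y)
    (hi : RegImm.IsRegularImmersion .koszul i) (hj : RegImm.IsRegularImmersion .koszul j) :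
    RegImm.IsRegularImmersion .koszul (j ≫ i) := by
  haveI := hi.1
  haveI := hj.1
  refine ⟨inferInstance, fun z => ?_⟩
  obtain ⟨U, hzU, hcU, rs, hrs, hker⟩ := hi.2 (j z)
  obtain ⟨V, hzV, hcV, rs', hrs', hker'⟩ := hj.2 z
  obtain ⟨W, hzW, hcW, l, -, hl, hkerl⟩ := Groth.Agent.Lead.KoszulGeoB.comp_chart i j z U.1 U.2 hzU
    hcU rs hrs hker V.1 V.2 hzV hcV rs' hrs' hker'
  exact ⟨W, hzW, hcW, l, hl, hkerl⟩

end Groth.Agent.S8654
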