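import Groth.Statements.S8666
import Mathlib

set_option autoImplicit false
universe u
open CAlg

namespace Groth.Agent.S8666


/-- Let A be a Noetherian ring, M an invertible A-module and p_1, …, p_k finitely many primes of A
(points of Spec A). Then there is a single element s ∈ M whose image generates M_{p_i} as an
A_{p_i}-module for every i, i.e. s is a basis of the stalk of M at each of the given points. -/
theorem result (A : Type u) [CommRing A] [IsNoetherianRing A]
    (M : Type u) [AddCommGroup M] [Module A M] [Module.Invertible A M] (ι : Type) [Finite ι] (p : ι → PrimeSpectrum A) :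
    ∃ s : M, ∀ i : ι, Submodule.span (Localization.AtPrime (p i).asIdeal)
      {LocalizedModule.mkLinearMap (p i).asIdeal.primeCompl M s} = ⊤ := by

  classical
  -- the "bad" submodule at a prime
  have K : ∀ q : PrimeSpectrum A, ∃ N : Submodule A M, N ≠ ⊤ ∧
      (∀ a ∈ q.asIdeal, ∀ t : M, a • t ∈ N) ∧
      (∀ a : A, a ∉ q.asIdeal → ∀ t : M, t ∉ N → a • t ∉ N) ∧
      (∀ s : M, s ∉ N → Submodule.span (Localization.AtPrime q.asIdeal)
        {LocalizedModule.mkLinearMap q.asIdeal.primeCompl M s} = ⊤) := by
    intro q
    haveI : Module.Free (Localization.AtPrime q.asIdeal)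
        (LocalizedModule q.asIdeal.primeCompl M) := inferInstance
    obtain ⟨e⟩ := Module.Invertible.free_iff_linearEquiv.mp this
    let g : M →ₗ[A] Localization.AtPrime q.asIdeal :=
      (e.toLinearMap.restrictScalars A) ∘ₗ LocalizedModule.mkLinearMap q.asIdeal.primeCompl M
    have hg : ∀ (a : A) (t : M), g (a • t) = algebraMap A _ a * g t := by
      intro a t
      rw [map_smul, Algebra.smul_def]
    let N : Submodule A M :=
      Submodule.comap g ((IsLocalRing.maximalIdeal (Localization.AtPrime q.asIdeal)).restrictScalars A)
    have hN : ∀ t : M, t ∈ N ↔ g t ∈ IsLocalRing.maximalIdeal (Localization.AtPrime q.asIdeal) :=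
      fun t => Iff.rfl
    refine ⟨N, ?_, ?_, ?_, ?_⟩
    · intro htop
      obtain ⟨y, hy⟩ := e.surjective 1
      obtain ⟨⟨m, s⟩, hms⟩ := IsLocalizedModule.surj q.asIdeal.primeCompl
        (LocalizedModule.mkLinearMap q.asIdeal.primeCompl M) y
      have hm : m ∈ N := htop ▸ Submodule.mem_top
      rw [hN] at hm
      have h1 : g m = algebraMap A _ (s : A) := by
        show e (LocalizedModule.mkLinearMap q.asIdeal.primeCompl M m) = _
        rw [← hms]
        have : e ((s : A) • y) = (s : A) • e y := by
          have h2 : ((s : A) • y) = (algebraMap A (Localization.AtPrime q.asIdeal) (s : A)) • y :=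
            (algebraMap_smul _ _ _).symm
          rw [h2, map_smul, algebraMap_smul]
        erw [this]
        rw [hy, Algebra.smul_def, mul_one]
      rw [h1] at hm
      exact (IsLocalRing.mem_maximalIdeal _).mp hm
        (IsLocalization.map_units (Localization.AtPrime q.asIdeal) s)
    · intro a ha t
      rw [hN, hg]
      exact Ideal.mul_mem_right _ _
        ((IsLocalization.AtPrime.to_map_mem_maximal_iff _ q.asIdeal a).mpr ha)
    · intro a ha t ht
      rw [hN] at ht ⊢
      rw [hg]
      have hu1 : IsUnit (g t) := by
        by_contra hnu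
        exact ht ((IsLocalRing.mem_maximalIdeal _).mpr hnu)
      have hu2 : IsUnit (algebraMap A (Localization.AtPrime q.asIdeal) a) :=
        IsLocalization.map_units (Localization.AtPrime q.asIdeal)
          (⟨a, ha⟩ : q.asIdeal.primeCompl)
      exact fun h => (IsLocalRing.mem_maximalIdeal _).mp h (hu2.mul hu1)
    · intro s hs
      rw [hN] at hs
      have hu : IsUnit (g s) := by
        by_contra hnu
        exact hs ((IsLocalRing.mem_maximalIdeal _).mpr hnu)
      obtain ⟨u, hu'⟩ := hu
      rw [eq_top_iff]
      intro y _
      rw [Submodule.mem_span_singleton]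
      refine ⟨e y * (u⁻¹ : (Localization.AtPrime q.asIdeal)ˣ), ?_⟩
      apply e.injective
      rw [map_smul]
      have : e (LocalizedModule.mkLinearMap q.asIdeal.primeCompl M s) = (u : Localization.AtPrime q.asIdeal) :=
        hu'.symm
      rw [this, smul_eq_mul, mul_assoc, Units.inv_mul, mul_one]
  choose N hNtop hN1 hN2 hN3 using K
  -- finset induction
  have main : ∀ (n : ℕ) (T : Finset (PrimeSpectrum A)), T.card = n → ∃ s : M, ∀ q ∈ T, s ∉ N q := by
    intro n
    induction n with
    | zero =>
      intro T hT
      rw [Finset.card_eq_zero] at hT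
      subst hT
      exact ⟨0, fun q hq => absurd hq (Finset.notMem_empty q)⟩
    | succ n ih =>
      intro T hT
      have hne : T.Nonempty := Finset.card_pos.mp (by omega)
      obtain ⟨q₀, hq₀T, hq₀min⟩ := T.exists_minimal hne
      obtain ⟨s, hs⟩ := ih (T.erase q₀) (by rw [Finset.card_erase_of_mem hq₀T]; omega)
      by_cases hs0 : s ∉ N q₀
      · refine ⟨s, fun q hq => ?_⟩
        by_cases hqq : q = q₀
        · rw [hqq]; exact hs0
        · exact hs q (Finset.mem_erase.mpr ⟨hqq, hq⟩)
      · rw [not_not] at hs0
        have hprod : ¬ (∏ q ∈ T.erase q₀, q.asIdeal) ≤ q₀.asIdeal := by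
          intro hle
          obtain ⟨q, hqT, hq⟩ := (Ideal.IsPrime.prod_le q₀.2).mp hle
          have hq' := Finset.mem_erase.mp hqT
          have hle' : q ≤ q₀ := hq
          have := hq₀min hq'.2 hle'
          exact hq'.1 (le_antisymm hle' this)
        obtain ⟨a, haprod, haq₀⟩ := SetLike.not_le_iff_exists.mp hprod
        have ha : ∀ q ∈ T.erase q₀, a ∈ q.asIdeal := by
          intro q hq
          have := Ideal.prod_le_inf haprod
          rw [Finset.inf_eq_iInf] at this
          simp only [Ideal.mem_iInf] at this
          exact this q hq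
        obtain ⟨t, ht⟩ : ∃ t : M, t ∉ N q₀ := by
          by_contra hcon
          push Not at hcon
          exact hNtop q₀ (eq_top_iff.mpr fun t _ => hcon t)
        refine ⟨s + a • t, fun q hq => ?_⟩
        by_cases hqq : q = q₀
        · rw [hqq]
          intro hmem
          have : a • t ∈ N q₀ := by
            have := (N q₀).sub_mem hmem hs0
            rwa [add_sub_cancel_left] at this
          exact hN2 q₀ a haq₀ t ht this
        · have hqT : q ∈ T.erase q₀ := Finset.mem_erase.mpr ⟨hqq, hq⟩
          intro hmem
          have : s ∈ N q := by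
            have := (N q).sub_mem hmem (hN1 q a (ha q hqT) t)
            rwa [add_sub_cancel_right] at this
          exact hs q hqT this
  haveI := Fintype.ofFinite ι
  obtain ⟨s, hs⟩ := main _ (Finset.univ.image p) rfl
  exact ⟨s, fun i => hN3 (p i) s (hs (p i) (Finset.mem_image_of_mem p (Finset.mem_univ i)))⟩

end Groth.Agent.S8666
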