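import Groth.Statements.S8678
import Groth.Agent.Helper4.LamSeries
import Mathlib

set_option autoImplicit false
universe u
open Finset
open LambdaRing

namespace Groth.Agent.S8678


/-- As the identity it proves in the pre-λ-ring K(Y') of the exceptional divisor: let K be a pre-λ-ring
(λ^0 = 1, λ^1 = id, additive formula) with λ^k(1) = 0 for all k ≥ 2, let d ≥ 2, and let F, L, N' ∈ K
satisfy λ^j(L) = 0 for j ≥ 2 (L is the class of an invertible module), λ^i(N') = 0 for i ≥ d − 1 (N'
is the class of a bundle of rank d − 2) and F + L = N' + 2 (for the blowing up of a regular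
immersion of codimension d: on the exceptional divisor the pulled-back conormal class is F + L, and
N = N' + 2). Then 1 − L divides λ_{−1}(F) = Σ_{i<d} (−1)^i λ^i(F). (The published proof uses only
additivity of λ_t and λ_t(1) = 1 + t, the hypotheses taken here.) -/
theorem result (K : Type u) [CommRing K] [LambdaRing.LambdaOps K]
    (h1 : ∀ k : ℕ, 2 ≤ k → LambdaRing.LambdaOps.lam k (1 : K) = 0) (d : ℕ) (hd : 2 ≤ d) (F L N' : K)
    (hL : ∀ j : ℕ, 2 ≤ j → LambdaRing.LambdaOps.lam j L = 0) (hN' : ∀ i : ℕ, d - 1 ≤ i → LambdaRing.LambdaOps.lam i N' = 0)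
    (hrel : F + L = N' + 2) :
    (1 - L) ∣ ∑ i ∈ range d, (-1 : K) ^ i * LambdaRing.LambdaOps.lam i F := by

  open PowerSeries in
  set I : Ideal K := Ideal.span {1 - L} with hI
  let φ : K →+* K ⧸ I := Ideal.Quotient.mk I
  have hφL : φ L = 1 := by
    have : φ (1 - L) = 0 := Ideal.Quotient.eq_zero_iff_mem.mpr (Ideal.subset_span rfl)
    rw [map_sub, map_one, sub_eq_zero] at this
    exact this.symm
  -- λ_t(L) = 1 + L t
  have hlamL : LambdaRing.lamSeries L = 1 + PowerSeries.C L * PowerSeries.X := by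
    ext n
    rw [Helper4.LamSeries.coeff_lamSeries]
    rcases n with _ | _ | n
    · simp [LambdaRing.LambdaOps.lam_zero]
    · simp [LambdaRing.LambdaOps.lam_one]
    · rw [hL _ (by lia)]
      rw [map_add, PowerSeries.coeff_one, if_neg (by lia), zero_add, mul_comm,
        PowerSeries.coeff_succ_X_mul, PowerSeries.coeff_C, if_neg (by lia)]
  have hrel' : LambdaRing.lamSeries F * LambdaRing.lamSeries L =
      LambdaRing.lamSeries N' * (1 + PowerSeries.X) ^ 2 := by
    rw [← Helper4.LamSeries.lamSeries_add, hrel, Helper4.LamSeries.lamSeries_add]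
    have : (2 : K) = ((2 : ℕ) : K) := by norm_cast
    rw [this, Helper4.LamSeries.lamSeries_natCast h1]
  have hmap := congrArg (PowerSeries.map φ) hrel'
  rw [hlamL, map_mul, map_mul, map_add, map_mul, map_pow, map_add, PowerSeries.map_C,
    PowerSeries.map_X, map_one, hφL, map_one, one_mul] at hmap
  -- cancel 1 + X
  have hcancel : PowerSeries.map φ (LambdaRing.lamSeries F) =
      PowerSeries.map φ (LambdaRing.lamSeries N') * (1 + PowerSeries.X) := by
    have h3 := Helper4.LamSeries.one_add_X_mul_mk (K := K ⧸ I)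
    calc PowerSeries.map φ (LambdaRing.lamSeries F)
        = PowerSeries.map φ (LambdaRing.lamSeries F) * (1 + PowerSeries.X) *
            PowerSeries.mk (fun k => (-1 : K ⧸ I) ^ k) := by rw [mul_assoc, h3, mul_one]
      _ = PowerSeries.map φ (LambdaRing.lamSeries N') * (1 + PowerSeries.X) ^ 2 *
            PowerSeries.mk (fun k => (-1 : K ⧸ I) ^ k) := by rw [hmap]
      _ = PowerSeries.map φ (LambdaRing.lamSeries N') * (1 + PowerSeries.X) *
            ((1 + PowerSeries.X) * PowerSeries.mk (fun k => (-1 : K ⧸ I) ^ k)) := by ring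
      _ = PowerSeries.map φ (LambdaRing.lamSeries N') * (1 + PowerSeries.X) := by
          rw [h3, mul_one]
  have hcoef0 : φ (LambdaRing.LambdaOps.lam 0 F) = φ (LambdaRing.LambdaOps.lam 0 N') := by
    rw [LambdaRing.LambdaOps.lam_zero, LambdaRing.LambdaOps.lam_zero]
  have hcoef : ∀ i : ℕ, φ (LambdaRing.LambdaOps.lam (i + 1) F) =
      φ (LambdaRing.LambdaOps.lam (i + 1) N') + φ (LambdaRing.LambdaOps.lam i N') := by
    intro i
    have := congrArg (PowerSeries.coeff (i + 1)) hcancel
    rw [PowerSeries.coeff_map, Helper4.LamSeries.coeff_lamSeries, mul_add, mul_one, map_add,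
      PowerSeries.coeff_map, Helper4.LamSeries.coeff_lamSeries, PowerSeries.coeff_succ_mul_X,
      PowerSeries.coeff_map, Helper4.LamSeries.coeff_lamSeries] at this
    exact this
  have htel : ∀ n : ℕ, ∑ i ∈ Finset.range (n + 1), (-1 : K ⧸ I) ^ i * φ (LambdaRing.LambdaOps.lam i F) =
      (-1) ^ n * φ (LambdaRing.LambdaOps.lam n N') := by
    intro n
    induction n with
    | zero => simp [hcoef0]
    | succ n ih =>
      rw [Finset.sum_range_succ, ih, hcoef n]
      ring
  have hsum : φ (∑ i ∈ Finset.range d, (-1 : K) ^ i * LambdaRing.LambdaOps.lam i F) = 0 := by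
    obtain ⟨e, rfl⟩ : ∃ e, d = e + 1 := ⟨d - 1, by lia⟩
    rw [map_sum]
    have : ∀ i ∈ Finset.range (e + 1), φ ((-1 : K) ^ i * LambdaRing.LambdaOps.lam i F) =
        (-1 : K ⧸ I) ^ i * φ (LambdaRing.LambdaOps.lam i F) := by
      intro i _
      rw [map_mul, map_pow, map_neg, map_one]
    rw [Finset.sum_congr rfl this, htel e, hN' e (by lia), map_zero, mul_zero]
  have := Ideal.Quotient.eq_zero_iff_mem.mp hsum
  exact Ideal.mem_span_singleton.mp this

end Groth.Agent.S8678
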