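import Groth.Statements.S8691
import Groth.Agent.Helper4.LamDivCoef
import Groth.Agent.Helper4.GammaRank
import Mathlib

set_option autoImplicit false
universe u
open Finset
open LambdaRing

namespace Groth.Agent.S8691


/-- Let K be a λ-ring in the strict sense, d a natural number and N ∈ K with λ^i(N) = 0 for every i > d;
put λ_{−1}(N) = Σ_{i=0}^{d} (−1)^i λ^i(N). Then for every p ≥ 1 and every x ∈ K the element λ^p(x ·
λ_{−1}(N)) is divisible by λ_{−1}(N). (The published statement is for the λ-ring generated over the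
integers by N and x subject to λ^i(N) = 0 for i > d, a polynomial ring; the divisibility passes to
any λ-ring along the λ-homomorphism sending the generators to N and x, which is the substituted form
stated here.) The hypotheses hP and hQ, existence of the universal polynomials, are true statements
carried so that the identities of K can be used at every index. -/
theorem result (K : Type u) [CommRing K] [LambdaRing.LambdaOps K]
    (hK : LambdaRing.IsSpecial K)
    (hP : ∀ n : ℕ, ∃ P : MvPolynomial (Fin n ⊕ Fin n) ℤ, LambdaRing.IsMulPoly n P)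
    (hQ : ∀ i j : ℕ, ∃ Q : MvPolynomial (Fin (i * j)) ℤ, LambdaRing.IsCompPoly i j Q)
    (d : ℕ) (N : K) (hN : ∀ i : ℕ, d < i → LambdaRing.LambdaOps.lam i N = 0)
    (p : ℕ) (hp : 1 ≤ p) (x : K) :
    (∑ i ∈ range (d + 1), (-1 : K) ^ i * LambdaRing.LambdaOps.lam i N) ∣
      LambdaRing.LambdaOps.lam p (x * ∑ i ∈ range (d + 1), (-1 : K) ^ i * LambdaRing.LambdaOps.lam i N) := by

  classical
  have h1 : ∀ k : ℕ, 2 ≤ k → LambdaRing.LambdaOps.lam k (1 : K) = 0 := hK.lam_one_eq_zero
  rcases Nat.eq_zero_or_pos d with hd0 | hd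
  · subst hd0
    simp [LambdaRing.LambdaOps.lam_zero]
  set Λ : K := ∑ i ∈ range (d + 1), (-1 : K) ^ i * LambdaRing.LambdaOps.lam i N with hΛ
  set N' : K := N - (d : K) with hN'
  have hu : LambdaRing.gamma d N' = (-1) ^ d * Λ :=
    Groth.Agent.Helper4.GammaRank.gamma_sub_self h1 N d hN
  have hsq : ((-1 : K) ^ d) * (-1) ^ d = 1 := by rw [← mul_pow]; simp
  let xs : Fin 2 → K := ![(-1) ^ d * x, N']
  let φ : Groth.Agent.Helper4.LamTerm.C₀ →+* K :=
    (Int.castRingHom K).comp (Groth.Agent.Helper4.LamTransfer.evNat 0)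
  have hκ : ∀ n, LambdaRing.LambdaOps.lam n (0 : K) = φ (MvPolynomial.X n) := by
    intro n
    rcases n with _ | n
    · simp [φ, Groth.Agent.Helper4.LamTransfer.evNat, LambdaRing.LambdaOps.lam_zero]
    · rw [Groth.Agent.Helper4.GammaOps.lam_zero_arg (n + 1) (by omega)]
      simp [φ, Groth.Agent.Helper4.LamTransfer.evNat]
  have hev := Groth.Agent.Helper4.LamTerm.eval_L hK φ xs 0 hκ (Groth.Agent.Helper4.LamDivCoef.Td d) p
  rw [Groth.Agent.Helper4.LamDivCoef.eval_Td] at hev
  have hxs0 : xs 0 = (-1) ^ d * x := rfl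
  have hxs1 : xs 1 = N' := rfl
  have harg : (0 + xs 0) * LambdaRing.gamma d (xs 1) = x * Λ := by
    rw [hxs0, hxs1, hu, zero_add]
    calc (-1) ^ d * x * ((-1) ^ d * Λ) = (((-1 : K) ^ d) * (-1) ^ d) * (x * Λ) := by ring
      _ = x * Λ := by rw [hsq, one_mul]
  rw [harg] at hev
  have hdiv := Groth.Agent.Helper4.LamDiv.eval_eq_mul_quot φ
    (fun v : Fin 2 × ℕ => LambdaRing.gamma (v.2 + 1) (xs v.1)) d hd
    (Groth.Agent.Helper4.LamTerm.L (Groth.Agent.Helper4.LamDivCoef.Td d) p) ?_ ?_
  · rw [hev, hdiv]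
    have e : d - 1 + 1 = d := by omega
    simp only [e, hxs1, hu]
    rw [mul_comm ((-1 : K) ^ d) Λ, mul_assoc]
    exact Dvd.intro _ rfl
  · intro m hm
    simp only [φ, RingHom.comp_apply]
    rw [Groth.Agent.Helper4.LamDivCoef.claimA_L d hd p hp 0 m hm]
    simp
  · intro j hj
    simp only [hxs1]
    exact Groth.Agent.Helper4.GammaRank.gamma_sub_eq_zero h1 N d hN (j + 1) (by omega)

end Groth.Agent.S8691
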