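import Groth.Statements.S8696
import Groth.Agent.Helper4.LamDivAug2
import Mathlib

set_option autoImplicit false
universe u v
open Finset nonZeroDivisors
open LambdaRing

namespace Groth.Agent.S8696


/-- In the case where λ_{−1}(N) is a non-zero-divisor: let K be a binomial ring with its binomial
λ-structure, R a λ-ring in the strict sense which is an augmented K-λ-algebra with augmentation ε
and γ-filtration Fil^n R, d ≥ 1, N ∈ R of rank d (λ^k(N) = 0 for all k > d and ε(N) = d), λ_{−1}(N)
= Σ_{i ≤ d} (−1)^i λ^i(N) a non-zero-divisor, i a natural number and x ∈ Fil^i R. If y ∈ R satisfies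
y · λ_{−1}(N) = γ^{d+i}(x · λ_{−1}(N)), then y − (−1)^{d+i−1} (d+i−1)! · x ∈ Fil^{i+1} R. (The
published statement is about the element γ^{d+i}(N, x) defined by substitution from the universal
λ-ring, characterised there by γ^{q}(N, x) · λ_{−1}(N) = γ^{q}(x · λ_{−1}(N)); this row covers the
case in which that identity determines the element. The published statement also omits ε(N) = d,
which its proof uses when it maps the universal generator to N − d compatibly with the
augmentations; it is assumed here, together with the standing assumption d ≥ 1.) The hypotheses hP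
and hQ, existence of the universal polynomials, are true statements carried so that the identities
of R can be used at every index. -/
theorem result
    (K : Type u) [CommRing K] [LambdaRing.LambdaOps K] [BinomialRing K] (hKb : LambdaRing.IsBinomial K)
    (hK : LambdaRing.IsSpecial K)
    (A : Type v) [CommRing A] [LambdaRing.LambdaOps A] [Algebra K A] (hA : LambdaRing.IsSpecial A)
    (hP : ∀ n : ℕ, ∃ P : MvPolynomial (Fin n ⊕ Fin n) ℤ, LambdaRing.IsMulPoly n P)
    (hQ : ∀ i j : ℕ, ∃ Q : MvPolynomial (Fin (i * j)) ℤ, LambdaRing.IsCompPoly i j Q)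
    (ε : A →ₐ[K] K) (hε : LambdaRing.IsAugLambdaAlg K A ε)
    (d : ℕ) (hd : 1 ≤ d) (N : A) (hN : ∀ k : ℕ, d < k → LambdaRing.LambdaOps.lam k N = 0) (hNε : ε N = (d : K))
    (hnzd : (∑ j ∈ range (d + 1), (-1 : A) ^ j * LambdaRing.LambdaOps.lam j N) ∈ A⁰)
    (i : ℕ) (x : A) (hx : x ∈ LambdaRing.gammaFil (ε : A →+* K) i) (y : A)
    (hy : y * (∑ j ∈ range (d + 1), (-1 : A) ^ j * LambdaRing.LambdaOps.lam j N) = LambdaRing.gamma (d + i) (x * (∑ j ∈ range (d + 1), (-1 : A) ^ j * LambdaRing.LambdaOps.lam j N))) :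
    y - (-1 : A) ^ (d + i - 1) * ((d + i - 1).factorial : A) * x ∈ LambdaRing.gammaFil (ε : A →+* K) (i + 1) := by

  have hfac := Groth.Agent.Helper4.LamDivAug.gamma_eq ε d N x hKb hA hε hd hN (d + i) (by omega)
  have h := Groth.Agent.Helper4.LamDivAug.eq_of_mul_eq d hnzd (hy.trans hfac)
  have hsq : ((-1 : A) ^ d) * (-1) ^ d = 1 := by rw [← mul_pow]; simp
  have hsqK : ((-1 : K) ^ d) * (-1) ^ d = 1 := by rw [← mul_pow]; simp
  have hc : ((Groth.Agent.Helper4.LamModel.cZ (d + i) (d + i) : ℤ) : A) =
      (-1 : A) ^ (d + i - 1) * ((d + i - 1).factorial : A) := by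
    rw [Groth.Agent.Helper4.LamModel.cZ_self (d + i) (by omega)]
    push_cast
    rfl
  rw [← hc]
  rcases Nat.eq_zero_or_pos i with hi0 | hi
  · subst hi0
    apply Groth.Agent.Helper4.LamDivAug.mem_fil_one_of_aug
    rw [map_sub, map_mul, map_intCast, h, map_mul, map_pow, map_neg, map_one]
    simp only [Nat.add_zero]
    rw [Groth.Agent.Helper4.LamDivAug.aug_Q ε d N x hε hd hNε]
    calc (-1 : K) ^ d * (((Groth.Agent.Helper4.LamModel.cZ d d : ℤ) : K) * ((-1) ^ d * ε x)) -
          ((Groth.Agent.Helper4.LamModel.cZ d d : ℤ) : K) * ε x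
        = (((-1 : K) ^ d) * (-1) ^ d - 1) *
          (((Groth.Agent.Helper4.LamModel.cZ d d : ℤ) : K) * ε x) := by ring
      _ = 0 := by rw [hsqK, sub_self, zero_mul]
  · have hq := Groth.Agent.Helper4.LamDivAug.Q_sub_mem ε d N x hKb hA hε hd hNε i hi hx
    have e : y - ((Groth.Agent.Helper4.LamModel.cZ (d + i) (d + i) : ℤ) : A) * x =
        (-1) ^ d * (Groth.Agent.Helper4.LamDivAug.Q ε d N x (d + i) -
          ((Groth.Agent.Helper4.LamModel.cZ (d + i) (d + i) : ℤ) : A) * ((-1) ^ d * x)) := by
      rw [h]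
      calc (-1 : A) ^ d * Groth.Agent.Helper4.LamDivAug.Q ε d N x (d + i) -
            ((Groth.Agent.Helper4.LamModel.cZ (d + i) (d + i) : ℤ) : A) * x
          = (-1 : A) ^ d * Groth.Agent.Helper4.LamDivAug.Q ε d N x (d + i) -
            ((Groth.Agent.Helper4.LamModel.cZ (d + i) (d + i) : ℤ) : A) *
              ((((-1 : A) ^ d) * (-1) ^ d) * x) := by rw [hsq, one_mul]
        _ = _ := by ring
    rw [e]
    exact Ideal.mul_mem_left _ _ hq

end Groth.Agent.S8696
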