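import Groth.Statements.S8702
import Groth.Agent.Helper4.AdamsExp
import Mathlib

set_option autoImplicit false
universe u
open LambdaRing

namespace Groth.Agent.S8702


/-- Let K be a commutative ring which is an algebra over the rationals, and let ψ^k : K → K, k ≥ 1, be
additive maps with ψ^1 the identity. Then there is one and only one pre-λ-structure on K whose Adams
operations (defined through the logarithmic derivative of λ_t) are the ψ^k for every k ≥ 1, namely
λ_t(x) = exp(Σ_{k ≥ 1} (−1)^{k−1} ψ^k(x) t^k / k): in characteristic zero, pre-λ-structures and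
families of additive operations ψ^k with ψ^1 = id determine each other. (The value of the family at
k = 0 is ignored.) -/
theorem result (K : Type u) [CommRing K] [Algebra ℚ K]
    (ψ : ℕ → K →+ K) (hψ : ψ 1 = AddMonoidHom.id K) :
    ∃! L : LambdaRing.LambdaOps K, ∀ k : ℕ, 1 ≤ k → ∀ x : K, @LambdaRing.adamsOp K _ L k x = ψ k x := by

  refine ⟨Helper4.AdamsExp.lambdaOpsOf ψ hψ,
    fun k hk x => Helper4.AdamsExp.adamsOp_lambdaOpsOf ψ hψ k hk x, ?_⟩
  intro L' hL'
  refine Helper4.AdamsExp.lambdaOps_ext _ _ (fun i x => ?_)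
  have h := @Helper4.AdamsOps.map_lam_of_map_adamsOp K _ L' K _
    (Helper4.AdamsExp.lambdaOpsOf ψ hψ) _ (RingHom.id K) (fun k hk x => by
      rw [RingHom.id_apply, RingHom.id_apply, hL' k hk x,
        Helper4.AdamsExp.adamsOp_lambdaOpsOf ψ hψ k hk x]) i x
  simpa using h

end Groth.Agent.S8702
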