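import Groth.Statements.S8705
import Groth.Agent.Helper4.SymCocycle
import Mathlib

set_option autoImplicit false
universe u
open SGA7

namespace Groth.Agent.S8705


/-- In the case of the punctual topos (ordinary abelian groups): let P be an abelian group and consider
the complex of free abelian groups Z[P × P × P] ⊕ Z[P × P] → Z[P × P] → Z[P], augmented to P by [p]
↦ p, with d₀[p, q] = [p + q] − [p] − [q], with d₁ on the first summand given by [p, q, r] ↦ [p + q,
r] − [p, q + r] + [p, q] − [q, r] and on the second summand by [p, q] ↦ [p, q] − [q, p]. Then the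
augmentation is surjective with kernel the image of d₀ (so H₀ is P), and the kernel of d₀ is the sum
of the images of the two components of d₁ (so H₁ vanishes). (The published statement is for abelian
sheaves on an arbitrary topos; this row is its case of a one-point space.) -/
theorem result (P : Type u) [AddCommGroup P] :
    letI ε : (P →₀ ℤ) →ₗ[ℤ] P := Finsupp.linearCombination ℤ (fun p : P => p)
    letI d₀ : (P × P →₀ ℤ) →ₗ[ℤ] (P →₀ ℤ) := Finsupp.linearCombination ℤ
      (fun pq : P × P => Finsupp.single (pq.1 + pq.2) 1 - Finsupp.single pq.1 1 - Finsupp.single pq.2 1)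
    letI d₁ : (P × P × P →₀ ℤ) →ₗ[ℤ] (P × P →₀ ℤ) := Finsupp.linearCombination ℤ
      (fun t : P × P × P => Finsupp.single (t.1 + t.2.1, t.2.2) 1 - Finsupp.single (t.1, t.2.1 + t.2.2) 1
        + Finsupp.single (t.1, t.2.1) 1 - Finsupp.single (t.2.1, t.2.2) 1)
    letI d₁' : (P × P →₀ ℤ) →ₗ[ℤ] (P × P →₀ ℤ) := Finsupp.linearCombination ℤ
      (fun pq : P × P => Finsupp.single pq 1 - Finsupp.single (pq.2, pq.1) 1)
    Function.Surjective ε ∧ LinearMap.ker ε = LinearMap.range d₀ ∧
      LinearMap.ker d₀ = LinearMap.range d₁ ⊔ LinearMap.range d₁' := by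

  let ε : (P →₀ ℤ) →ₗ[ℤ] P := Finsupp.linearCombination ℤ (fun p : P => p)
  let d₀ := Groth.Agent.Helper4.symD0 P
  let d₁ := Groth.Agent.Helper4.symD1 P
  let d₁' := Groth.Agent.Helper4.symD1' P
  show Function.Surjective ε ∧ LinearMap.ker ε = LinearMap.range d₀ ∧
    LinearMap.ker d₀ = LinearMap.range d₁ ⊔ LinearMap.range d₁'
  refine ⟨?_, ?_, ?_⟩
  · intro p
    exact ⟨Finsupp.single p 1, by simp [ε]⟩
  · apply le_antisymm
    · -- ker ε ≤ range d₀
      have hadd : ∀ p q : P, (LinearMap.range d₀).mkQ (Finsupp.single (p + q) 1) =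
          (LinearMap.range d₀).mkQ (Finsupp.single p 1) +
            (LinearMap.range d₀).mkQ (Finsupp.single q 1) := by
        intro p q
        have h0 : d₀ (Finsupp.single (p, q) 1) =
            Finsupp.single (p + q) 1 - Finsupp.single p 1 - Finsupp.single q 1 := by
          simp [d₀, Groth.Agent.Helper4.symD0]
        have : (LinearMap.range d₀).mkQ (d₀ (Finsupp.single (p, q) 1)) = 0 := by
          rw [Submodule.mkQ_apply, Submodule.Quotient.mk_eq_zero]
          exact LinearMap.mem_range_self _ _
        rw [h0, map_sub, map_sub, sub_sub, sub_eq_zero] at this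
        exact this
      let s : P →+ (P →₀ ℤ) ⧸ LinearMap.range d₀ :=
        AddMonoidHom.mk' (fun p => (LinearMap.range d₀).mkQ (Finsupp.single p 1)) hadd
      have hs : (LinearMap.range d₀).mkQ = s.toIntLinearMap ∘ₗ ε := by
        apply Finsupp.lhom_ext'
        intro p
        apply LinearMap.ext_ring
        simp [ε, s]
      intro x hx
      have h1 : (LinearMap.range d₀).mkQ x = 0 := by
        rw [hs, LinearMap.comp_apply, LinearMap.mem_ker.mp hx, map_zero]
      exact (Submodule.Quotient.mk_eq_zero _).mp h1
    · rintro _ ⟨x, rfl⟩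
      rw [LinearMap.mem_ker, ← LinearMap.comp_apply]
      have : ε ∘ₗ d₀ = 0 := by
        apply Finsupp.lhom_ext'
        intro pq
        apply LinearMap.ext_ring
        simp [ε, d₀, Groth.Agent.Helper4.symD0]
      rw [this, LinearMap.zero_apply]
  · apply le_antisymm
    · exact Groth.Agent.Helper4.ker_symD0_le P
    · apply sup_le
      · rintro _ ⟨x, rfl⟩
        rw [LinearMap.mem_ker, ← LinearMap.comp_apply]
        have : d₀ ∘ₗ d₁ = 0 := by
          apply Finsupp.lhom_ext'
          intro t
          apply LinearMap.ext_ring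
          obtain ⟨p, q, r⟩ := t
          simp only [LinearMap.comp_apply, Finsupp.lsingle_apply, d₁, d₀, Groth.Agent.Helper4.symD0,
            Groth.Agent.Helper4.symD1,
            Finsupp.linearCombination_single, one_smul, map_sub, map_add, LinearMap.zero_apply]
          simp only [add_assoc]
          abel
        rw [this, LinearMap.zero_apply]
      · rintro _ ⟨x, rfl⟩
        rw [LinearMap.mem_ker, ← LinearMap.comp_apply]
        have : d₀ ∘ₗ d₁' = 0 := by
          apply Finsupp.lhom_ext'
          intro t
          apply LinearMap.ext_ring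
          obtain ⟨p, q⟩ := t
          simp only [LinearMap.comp_apply, Finsupp.lsingle_apply, d₁', d₀, Groth.Agent.Helper4.symD0,
            Groth.Agent.Helper4.symD1',
            Finsupp.linearCombination_single, one_smul, map_sub, LinearMap.zero_apply]
          rw [add_comm q p]
          abel
        rw [this, LinearMap.zero_apply]

end Groth.Agent.S8705
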