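import Groth.Statements.S8710
import Groth.Agent.Helper1.TorCrit
open Groth.Agent.Helper1.TorLib CategoryTheory CategoryTheory.Limits

set_option autoImplicit false
universe u
open CategoryTheory CategoryTheory.Limits
open SGA7

namespace Groth.Agent.S8710

/-- Let f : B' → B be a surjective map of R-algebras with B' flat over R, g : C → B a map of R-algebras,
P = B' ×_B C their fibre product (the equalizer of f ∘ pr₁ and g ∘ pr₂ in B' × C), S an R-algebra
and n a natural number. If Tor_i^R(C, S) = 0 for 0 < i < n and Tor_i^R(B, S) = 0 for 0 < i ≤ n, then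
Tor_i^R(P, S) = 0 for 0 < i < n. Here Tor_i^R(M, S) is the i-th left derived functor of M ⊗_R − on
R-modules, evaluated at S. (The published statement asks the vanishing for B only in degrees 0 < i <
n; the published proof and the corollary following it use it in degrees 0 < i ≤ n, which this row
assumes.) -/
theorem result (R B' B C S : Type u) [CommRing R] [CommRing B'] [CommRing B]
    [CommRing C] [CommRing S] [Algebra R B'] [Algebra R B] [Algebra R C] [Algebra R S]
    (f : B' →ₐ[R] B) (hf : Function.Surjective f) (g : C →ₐ[R] B) [Module.Flat R B'] (n : ℕ)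
    (hC : ∀ i : ℕ, 0 < i → i < n →
      IsZero (((Tor (ModuleCat.{u} R) i).obj (ModuleCat.of R C)).obj (ModuleCat.of R S)))
    (hB : ∀ i : ℕ, 0 < i → i ≤ n →
      IsZero (((Tor (ModuleCat.{u} R) i).obj (ModuleCat.of R B)).obj (ModuleCat.of R S))) :
    letI P := AlgHom.equalizer (f.comp (AlgHom.fst R B' C)) (g.comp (AlgHom.snd R B' C))
    ∀ i : ℕ, 0 < i → i < n →
      IsZero (((Tor (ModuleCat.{u} R) i).obj (ModuleCat.of R ↥P)).obj (ModuleCat.of R S)) := by
  intro i hi hin
  let P := AlgHom.equalizer (f.comp (AlgHom.fst R B' C)) (g.comp (AlgHom.snd R B' C))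
  -- the short exact sequence `0 → P → B' × C → B → 0`
  let ι : ↥P →ₗ[R] (B' × C) := P.val.toLinearMap
  let d : (B' × C) →ₗ[R] B :=
    f.toLinearMap ∘ₗ LinearMap.fst R B' C - g.toLinearMap ∘ₗ LinearMap.snd R B' C
  have hι : Function.Injective ι := Subtype.val_injective
  have hd : Function.Surjective d := by
    intro b
    obtain ⟨b', rfl⟩ := hf b
    exact ⟨(b', 0), by simp [d]⟩
  have hex : Function.Exact ι d := by
    intro x
    constructor
    · intro hx
      have hx' : f x.1 = g x.2 := by
        have : f x.1 - g x.2 = 0 := hx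
        exact sub_eq_zero.mp this
      exact ⟨⟨x, hx'⟩, rfl⟩
    · rintro ⟨y, rfl⟩
      have hy : f (y : B' × C).1 = g (y : B' × C).2 := y.2
      show f (y : B' × C).1 - g (y : B' × C).2 = 0
      rw [hy, sub_self]
  have hS := scOfLinear_shortExact ι d hι hd hex
  -- `Tor_i(B' × C, S) = 0`
  have hex2 : Function.Exact (LinearMap.inl R B' C) (LinearMap.snd R B' C) := by
    intro x
    constructor
    · intro hx
      exact ⟨x.1, Prod.ext rfl (by simpa using hx.symm)⟩
    · rintro ⟨y, rfl⟩
      rfl
  have hS2 := scOfLinear_shortExact (LinearMap.inl R B' C) (LinearMap.snd R B' C)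
    LinearMap.inl_injective LinearMap.snd_surjective hex2
  obtain ⟨k, rfl⟩ : ∃ k, i = k + 1 := ⟨i - 1, by omega⟩
  have hB' : IsZero (((Tor (ModuleCat.{u} R) (k + 1)).obj (ModuleCat.of R B')).obj
      (ModuleCat.of R S)) := isZero_tor_of_flat_left _ _ k
  have hprod : IsZero (((Tor (ModuleCat.{u} R) (k + 1)).obj (ModuleCat.of R (B' × C))).obj
      (ModuleCat.of R S)) :=
    isZero_tor_X₂ hS2 (ModuleCat.of R S) (k + 1) hB' (hC (k + 1) hi hin)
  have h3 : IsZero (((Tor (ModuleCat.{u} R) (k + 1 + 1)).obj (ModuleCat.of R B)).obj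
      (ModuleCat.of R S)) := hB (k + 1 + 1) (by omega) (by omega)
  exact (tor_exact₁ (ModuleCat.of R S) hS (k + 1)).isZero_of_both_zeros
    (h3.eq_of_src _ _) (hprod.eq_of_tgt _ _)

end Groth.Agent.S8710
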