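import Groth.Statements.S8731
import Groth.Agent.Helper1.Hyp8
import Groth.Agent.S19434

set_option autoImplicit false
universe u
open CategoryTheory CategoryTheory.Limits AlgebraicGeometry
open LefPen

namespace Groth.Agent.S8731

/-- (iv), the assertions on the structure sheaf: let k be an algebraically closed field, n >= 1, and Q a
quadratic form in n + 2 variables whose zero scheme X = V(Q) ⊂ P^{n+1}_k is smooth over k of
relative dimension n (a smooth quadric of dimension n). Then H^i(X, O_X) = 0 for every i >= 1, and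
the structure map identifies k with H^0(X, O_X). (The published item also computes H^1(X, O_X(1)),
the canonical sheaf and the Picard group, not stated here.) -/
theorem result (k : Type u) [Field k] [IsAlgClosed k] (n : ℕ) (hn : 1 ≤ n)
    (Q : LefPen.Form (n + 1) k 2)
    [SmoothOfRelativeDimension n ((LefPen.hypIdeal Q).subschemeι ≫ CohB1.ProjSpace.toSpec (n + 1) k)] :
    (∀ i : ℕ, 1 ≤ i → Subsingleton (Coh.HH (LefPen.hypIdeal Q).subscheme
        (Coh.structureModule (LefPen.hypIdeal Q).subscheme) i)) ∧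
      Function.Bijective ((LefPen.hypIdeal Q).subschemeι ≫ CohB1.ProjSpace.toSpec (n + 1) k).appTop.hom := by
  letI : ((LefPen.hypIdeal Q).subscheme).Over (Spec (CommRingCat.of k)) :=
    ⟨(LefPen.hypIdeal Q).subschemeι ≫ CohB1.ProjSpace.toSpec (n + 1) k⟩
  have hinst : (LefPen.hypIdeal Q).subscheme ↘ (Spec (CommRingCat.of k)) =
      (LefPen.hypIdeal Q).subschemeι ≫ CohB1.ProjSpace.toSpec (n + 1) k := rfl
  have main : (∀ i : ℕ, 1 ≤ i → Subsingleton (Coh.HH (LefPen.hypIdeal Q).subscheme
        (Coh.structureModule (LefPen.hypIdeal Q).subscheme) i)) ∧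
      Module.finrank k (Coh.HH (LefPen.hypIdeal Q).subscheme
        (Coh.structureModule (LefPen.hypIdeal Q).subscheme) 0) = 1 := by
    by_cases hQ0 : Q.1 = 0
    · have hQ : Q = 0 := Subtype.ext hQ0
      have hI : LefPen.hypIdeal Q = ⊥ := by rw [hQ]; exact Groth.Agent.Helper1.Hyp.hypIdeal_zero
      constructor
      · intro i hi
        obtain ⟨σ⟩ := Groth.Agent.Helper1.Hyp.nonempty_HH_equiv_bot (LefPen.hypIdeal Q) hI hinst i
        by_cases hiN : i = n + 1
        · subst hiN
          haveI := Groth.Agent.Helper1.ProjTop.subsingleton_top (n + 1) k 0 (by omega)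
            (by push_cast; omega)
          exact σ.toEquiv.subsingleton
        · haveI := Groth.Agent.Helper1.HypCoh.subsingleton_mid k (n + 1) 0 i hi hiN
          exact σ.toEquiv.subsingleton
      · obtain ⟨σ⟩ := Groth.Agent.Helper1.Hyp.nonempty_HH_equiv_bot (LefPen.hypIdeal Q) hI hinst 0
        rw [σ.finrank_eq, Groth.Agent.Helper1.HypCoh.finrank_H0 k (n + 1) (by omega) 0]
        have e1 : ((0 : ℤ) + ((n + 1 : ℕ) : ℤ)).toNat = n + 1 := by
          rw [zero_add]; exact Int.toNat_natCast _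
        rw [e1, Nat.choose_self]
    · obtain ⟨e⟩ := Groth.Agent.Helper1.Hyp.nonempty_idealMod_hypIdeal_iso Q hQ0
      obtain ⟨hv, ⟨-, h0⟩, ⟨hf, hn'⟩⟩ := Groth.Agent.S19434.result k n 2 hn (by norm_num)
        (LefPen.hypIdeal Q) ⟨e⟩ 0
      constructor
      · intro i hi
        obtain ⟨σ⟩ := Groth.Agent.Helper1.Hyp.nonempty_HH_equiv (LefPen.hypIdeal Q) hinst i
        by_cases hin : i = n
        · subst hin
          have e1 : (((2 : ℕ) : ℤ) - 2 - (i : ℤ) - 0 + ((i : ℤ) + 1)).toNat = 1 := by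
            have : ((2 : ℕ) : ℤ) - 2 - (i : ℤ) - 0 + ((i : ℤ) + 1) = 1 := by push_cast; ring
            rw [this]; rfl
          have e2 : (((2 : ℕ) : ℤ) - 2 - (i : ℤ) - 0 - ((2 : ℕ) : ℤ) + ((i : ℤ) + 1)).toNat = 0 := by
            have : ((2 : ℕ) : ℤ) - 2 - (i : ℤ) - 0 - ((2 : ℕ) : ℤ) + ((i : ℤ) + 1) = -1 := by
              push_cast; ring
            rw [this]; rfl
          rw [e1, e2, Nat.choose_eq_zero_of_lt (by omega : 1 < i + 1),
            Nat.choose_eq_zero_of_lt (by omega : 0 < i + 1)] at hn'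
          haveI := hf
          haveI : Subsingleton (Coh.HH (CohB1.ProjSpace (i + 1) k)
              (CohB1.tensorMod (ClSub.quotMod (LefPen.hypIdeal Q))
                (Twist.twistProjSpace (i + 1) k 0)) i) :=
            Module.finrank_zero_iff.1 hn'
          exact σ.toEquiv.subsingleton
        · haveI := hv i (by omega) hin
          exact σ.toEquiv.subsingleton
      · obtain ⟨σ⟩ := Groth.Agent.Helper1.Hyp.nonempty_HH_equiv (LefPen.hypIdeal Q) hinst 0
        rw [σ.finrank_eq]
        refine h0.trans ?_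
        have e1 : ((0 : ℤ) + ((n : ℤ) + 1)).toNat = n + 1 := by
          rw [zero_add]; exact Int.toNat_natCast (n + 1)
        have e2 : ((0 : ℤ) - ((2 : ℕ) : ℤ) + ((n : ℤ) + 1)).toNat = n - 1 := by
          push_cast; omega
        rw [e1, e2, Nat.choose_self, Nat.choose_eq_zero_of_lt (by omega : n - 1 < n + 1)]
  refine ⟨main.1, ?_⟩
  have hb := Groth.Agent.Helper1.Hyp.bijective_toGlobal_of_finrank_one
    ((LefPen.hypIdeal Q).subschemeι ≫ CohB1.ProjSpace.toSpec (n + 1) k) main.2
  have hcomp : ⇑((LefPen.hypIdeal Q).subschemeι ≫ CohB1.ProjSpace.toSpec (n + 1) k).appTop.hom =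
      ⇑(Coh.toGlobal ((LefPen.hypIdeal Q).subschemeι ≫ CohB1.ProjSpace.toSpec (n + 1) k)) ∘
        ⇑(Scheme.ΓSpecIso (CommRingCat.of k)).hom.hom := by
    funext x
    have hx : (Scheme.ΓSpecIso (CommRingCat.of k)).inv.hom
        ((Scheme.ΓSpecIso (CommRingCat.of k)).hom.hom x) = x :=
      congrArg (fun f => f.hom x) (Scheme.ΓSpecIso (CommRingCat.of k)).hom_inv_id
    change _ = ((LefPen.hypIdeal Q).subschemeι ≫ CohB1.ProjSpace.toSpec (n + 1) k).appTop.hom
      ((Scheme.ΓSpecIso (CommRingCat.of k)).inv.hom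
        ((Scheme.ΓSpecIso (CommRingCat.of k)).hom.hom x))
    rw [hx]
  rw [hcomp]
  exact hb.comp (ConcreteCategory.bijective_of_isIso (Scheme.ΓSpecIso (CommRingCat.of k)).hom)

end Groth.Agent.S8731
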