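import Groth.Statements.S8746
import Groth.Agent.Helper4.AdeqBC
import Groth.Agent.Helper4.AdeqFree
import Mathlib

set_option autoImplicit false
universe u
open CategoryTheory Limits
open Adeq

namespace Groth.Agent.S8746


/-- Let `F`, `G` be module-valued functors on `A`-algebras and `φ` a transformation of the underlying
set-valued functors which is additive and satisfies `φ(uξ) = uφ(ξ)` for units `u`. If `B' ⊗_B G(B) →
G(B')` is an isomorphism for every flat `B → B'`, then `φ` is `B`-linear for every `B`, i.e. a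
morphism of module-valued functors. -/
theorem result (A : Type u) [CommRing A] (F G : Adeq.MVF A)
    (φ : ∀ B : Adeq.Alg A, F.obj (Adeq.pt B) → G.obj (Adeq.pt B))
    (hnat : ∀ ⦃B B' : Adeq.Alg A⦄ (f : B ⟶ B') (x : F.obj (Adeq.pt B)),
      φ B' (F.map (Adeq.ptHom f) x) = G.map (Adeq.ptHom f) (φ B x))
    (hadd : ∀ (B : Adeq.Alg A) (x y : F.obj (Adeq.pt B)), φ B (x + y) = φ B x + φ B y)
    (hunit : ∀ (B : Adeq.Alg A) (v : (B : Type u)ˣ) (x : F.obj (Adeq.pt B)), φ B ((v : B) • x) = (v : B) • φ B x)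
    (hG : ∀ ⦃B B' : Adeq.Alg A⦄ (f : B ⟶ B'), f.hom.toRingHom.Flat → IsIso (G.bc f))
    (B : Adeq.Alg A) (b : B) (x : F.obj (Adeq.pt B)) : φ B (b • x) = b • φ B x := by

  classical
  rcases subsingleton_or_nontrivial (B : Type u) with hsub | hnt
  · haveI : Subsingleton (G.obj (Adeq.pt B)) := Module.subsingleton (B : Type u) _
    exact Subsingleton.elim _ _
  -- the quadratic extension in which `b` is a difference of units
  set P : Polynomial (B : Type u) := Polynomial.X ^ 2 + (Polynomial.C b * Polynomial.X - 1) with hPdef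
  have hdeg : (Polynomial.C b * Polynomial.X - 1 : Polynomial (B : Type u)).degree < ((2 : ℕ) : WithBot ℕ) := by
    refine lt_of_le_of_lt (Polynomial.degree_sub_le _ _) ?_
    refine max_lt ?_ ?_
    · refine lt_of_le_of_lt (Polynomial.degree_C_mul_X_le b) ?_
      exact_mod_cast (by norm_num : (1 : ℕ) < 2)
    · refine lt_of_le_of_lt Polynomial.degree_one_le ?_
      exact_mod_cast (by norm_num : (0 : ℕ) < 2)
  have hP : P.Monic := Polynomial.monic_X_pow_add hdeg
  let B' : Adeq.Alg A := Adeq.algOf A (AdjoinRoot P)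
  let f : B ⟶ B' := CommAlgCat.ofHom (IsScalarTower.toAlgHom A (B : Type u) (AdjoinRoot P))
  have hfhom : ∀ t : B, f.hom t = AdjoinRoot.of P t := fun t => rfl
  -- flatness
  have hflat : f.hom.toRingHom.Flat := by
    have h1 : f.hom.toRingHom = algebraMap (B : Type u) (AdjoinRoot P) := rfl
    rw [h1, RingHom.flat_algebraMap_iff]
    haveI : Module.Free (B : Type u) (AdjoinRoot P) :=
      Module.Free.of_basis (AdjoinRoot.powerBasis' hP).basis
    infer_instance
  -- a retraction of `B → B'`
  let r : AdjoinRoot P →+ (B : Type u) :=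
    ((Polynomial.lcoeff (B : Type u) 0).comp (AdjoinRoot.modByMonicHom hP)).toAddMonoidHom
  have hr1 : r 1 = 1 := by
    change ((AdjoinRoot.modByMonicHom hP) (1 : AdjoinRoot P)).coeff 0 = 1
    have : (1 : AdjoinRoot P) = AdjoinRoot.mk P 1 := (map_one _).symm
    rw [this, AdjoinRoot.modByMonicHom_mk]
    have hd : (1 : Polynomial (B : Type u)).degree < P.degree := by
      rw [hPdef, Polynomial.degree_add_eq_left_of_degree_lt
        (by rw [Polynomial.degree_X_pow]; exact hdeg), Polynomial.degree_X_pow]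
      refine lt_of_le_of_lt Polynomial.degree_one_le ?_
      exact_mod_cast (by norm_num : (0 : ℕ) < 2)
    rw [(Polynomial.modByMonic_eq_self_iff hP).2 hd, Polynomial.coeff_one_zero]
  have hr : ∀ (a : B) (s : AdjoinRoot P), r (f.hom.toRingHom a * s) = a * r s := by
    intro a s
    change ((AdjoinRoot.modByMonicHom hP) (AdjoinRoot.of P a * s)).coeff 0 =
      a * ((AdjoinRoot.modByMonicHom hP) s).coeff 0
    have : AdjoinRoot.of P a * s = a • s := by
      rw [Algebra.smul_def]; rfl
    rw [this, map_smul, Polynomial.coeff_smul, smul_eq_mul]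
  have hinj : Function.Injective (G.map (Adeq.ptHom f)) :=
    Groth.Agent.Helper4.AdeqBC.injective_of_isIso_adjoint f.hom.toRingHom r hr1 hr
      (G.obj (Adeq.pt B)) (G.obj (Adeq.pt B')) (G.map (Adeq.ptHom f)) (hG f hflat)
  -- units
  have hroot : AdjoinRoot.root P * (AdjoinRoot.root P + AdjoinRoot.of P b) = 1 := by
    have h0 : AdjoinRoot.mk P P = 0 := AdjoinRoot.mk_self
    have h1 : AdjoinRoot.mk P P =
        AdjoinRoot.root P ^ 2 + (AdjoinRoot.of P b * AdjoinRoot.root P - 1) := by
      rw [hPdef]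
      simp only [map_add, map_sub, map_mul, map_pow, AdjoinRoot.mk_X, AdjoinRoot.mk_C, map_one]
    rw [h1] at h0
    linear_combination h0
  let u₁ : (B' : Type u)ˣ :=
    Units.mkOfMulEqOne (AdjoinRoot.root P) (AdjoinRoot.root P + AdjoinRoot.of P b) hroot
  let u₂ : (B' : Type u)ˣ :=
    Units.mkOfMulEqOne (AdjoinRoot.root P + AdjoinRoot.of P b) (AdjoinRoot.root P)
      (by rw [mul_comm]; exact hroot)
  have hu : ((u₂ : (B' : Type u)ˣ) : (B' : Type u)) = (u₁ : (B' : Type u)) + f.hom b := rfl
  -- linearity over `B'` for the element `f b`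
  have key : ∀ ξ' : F.obj (Adeq.pt B'), φ B' (f.hom b • ξ') = f.hom b • φ B' ξ' := by
    intro ξ'
    have e1 := hunit B' u₁ ξ'
    have e2 := hunit B' u₂ ξ'
    rw [hu, add_smul, hadd, e1, add_smul] at e2
    exact add_left_cancel e2
  have h1 := hnat f (b • x)
  have h2 := hnat f x
  have h3 : F.map (Adeq.ptHom f) (b • x) =
      f.hom b • Groth.Agent.Helper4.AdeqFree.mp F f x :=
    Groth.Agent.Helper4.AdeqFree.mp_smul F f b x
  have h4 : G.map (Adeq.ptHom f) (b • φ B x) =
      f.hom b • Groth.Agent.Helper4.AdeqFree.mp G f (φ B x) :=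
    Groth.Agent.Helper4.AdeqFree.mp_smul G f b (φ B x)
  apply hinj
  rw [← h1, h3, key, h4]
  congr 1

end Groth.Agent.S8746
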