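import Groth.Statements.S8754
import Groth.Agent.Helper4.AdeqFree
import Mathlib

set_option autoImplicit false
universe u
open CategoryTheory Limits
open Adeq

namespace Groth.Agent.S8754


/-- The category of module-valued functors on `A`-algebras has enough injectives (it is a category of
presheaves of modules). -/
theorem result (A : Type u) [CommRing A] : EnoughInjectives (Adeq.MVF A) := by

  classical
  have hsep : ObjectProperty.IsSeparating
      (ObjectProperty.ofObj (fun D : Adeq.Alg A => Groth.Agent.Helper4.AdeqFree.freeMVF D)) := by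
    intro M N f₁ f₂ h
    apply PresheafOfModules.hom_ext
    intro X
    apply ModuleCat.hom_ext
    apply LinearMap.ext
    intro x
    have hx := h _ ⟨X.unop.unop⟩ (Groth.Agent.Helper4.AdeqFree.yon M (D := X.unop.unop) x)
    have h2 := congrArg (fun φ : Groth.Agent.Helper4.AdeqFree.freeMVF X.unop.unop ⟶ N =>
      φ.app (Adeq.pt X.unop.unop)
        (Finsupp.single (ULift.up (𝟙 X.unop.unop)) 1 :
          Groth.Agent.Helper4.AdeqFree.Car X.unop.unop X.unop.unop)) hx
    simp only [PresheafOfModules.comp_app] at h2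
    have h3 : (Groth.Agent.Helper4.AdeqFree.yon M (D := X.unop.unop) x).app (Adeq.pt X.unop.unop)
        (Finsupp.single (ULift.up (𝟙 X.unop.unop)) 1 :
          Groth.Agent.Helper4.AdeqFree.Car X.unop.unop X.unop.unop) = x := by
      rw [Groth.Agent.Helper4.AdeqFree.yon_app, Groth.Agent.Helper4.AdeqFree.lc_single, one_smul]
      exact Groth.Agent.Helper4.AdeqFree.mp_id M x
    change f₁.app X ((Groth.Agent.Helper4.AdeqFree.yon M (D := X.unop.unop) x).app _ _) =
      f₂.app X ((Groth.Agent.Helper4.AdeqFree.yon M (D := X.unop.unop) x).app _ _) at h2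
    rw [h3] at h2
    exact h2
  haveI : HasSeparator (Adeq.MVF A) :=
    ⟨⟨∐ (fun D : Adeq.Alg A => Groth.Agent.Helper4.AdeqFree.freeMVF D), hsep.isSeparator_coproduct⟩⟩
  haveI : AB5OfSize.{u + 1, u + 1} (Adeq.MVF A) :=
    ⟨fun J _ _ => HasExactColimitsOfShape.domain_of_functor J
      (PresheafOfModules.toPresheaf.{u + 1} (Adeq.ringOf A))⟩
  haveI : IsGrothendieckAbelian.{u + 1} (Adeq.MVF A) := {}
  infer_instance

end Groth.Agent.S8754
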