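import Groth.Statements.S8780
import Groth.Agent.Helper4.AdeqTFLib
import Groth.Agent.Helper4.AdeqFree
import Mathlib

set_option autoImplicit false
universe u
open CategoryTheory Limits
open AdeqTF

namespace Groth.Agent.S8780


/-- Take `I` injective in the category of module-valued functors on `A`-algebras. For every `A`-algebra
`B` and every short exact sequence `0 → N₁ → N → N₂ → 0` of `B`-modules, the induced map of tangent
modules `TI(B, N) → TI(B, N₂)` is surjective (`TI(B, N)` is the kernel of `I(B[N]) → I(B)`, `B[N]`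
the trivial square-zero extension). (The published statement asserts that `TI(B, N₁) → TI(B, N) →
TI(B, N₂) → 0` is exact; exactness at the middle term is false: for `A = B = ℚ`, the split sequence
`0 → ℚ → ℚ² → ℚ → 0` and the injective functor `D ↦ Map(Hom(D, ℚ[ε]/(ε²)), E)` with `E` an injective
hull of `ℚ[ε]/(ε²)`, the indicator function of the first coordinate form lies in the kernel of
`TI(B, ℚ²) → TI(B, ℚ)` and not in the image of `TI(B, ℚ) → TI(B, ℚ²)`. This row keeps the
surjectivity, which the published argument does establish.) -/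
theorem result (A : Type u) [CommRing A] (I : Adeq.MVF A) [Injective I]
    (B : Adeq.Alg A) (S : ShortComplex (ModuleCat.{u} B)) (hS : S.ShortExact) :
    Function.Surjective (AdeqTF.tangentMap B I S.g) := by

  classical
  intro z
  have hgs : Function.Surjective S.g := by
    haveI := hS.epi_g
    exact (ModuleCat.epi_iff_surjective S.g).1 inferInstance
  have hπs : Function.Surjective (AdeqTF.map B S.g).hom := by
    intro t
    obtain ⟨n, hn⟩ := hgs (TrivSqZeroExt.snd t)
    refine ⟨TrivSqZeroExt.inl (TrivSqZeroExt.fst t) + TrivSqZeroExt.inr n, ?_⟩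
    change TrivSqZeroExt.map S.g.hom _ = t
    ext
    · simp
    · simp only [TrivSqZeroExt.snd_map, TrivSqZeroExt.snd_add, TrivSqZeroExt.snd_inl,
        TrivSqZeroExt.snd_inr, zero_add]
      exact hn
  have hπ : ∀ (B' : Adeq.Alg A) (h₁ h₂ : AdeqTF.ext B S.X₃ ⟶ B'),
      AdeqTF.map B S.g ≫ h₁ = AdeqTF.map B S.g ≫ h₂ → h₁ = h₂ := by
    intro B' h₁ h₂ e
    apply CommAlgCat.hom_ext
    refine AlgHom.ext fun t => ?_
    obtain ⟨s, rfl⟩ := hπs t
    have := congrArg (fun φ : AdeqTF.ext B S.X₂ ⟶ B' => φ.hom s) e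
    exact this
  obtain ⟨y, hy⟩ := Groth.Agent.Helper4.AdeqFree.surjective_of_injective
    (AdeqTF.map B S.g) I hπ z.1
  have hz : Groth.Agent.Helper4.AdeqFree.mp I (AdeqTF.fst B S.X₃) z.1 = 0 :=
    (Groth.Agent.Helper4.AdeqTFLib.mem_tangent B I z.1).1 z.2
  have hfy : Groth.Agent.Helper4.AdeqFree.mp I (AdeqTF.fst B S.X₂) y = 0 := by
    rw [← AdeqTF.map_fst B S.g, Groth.Agent.Helper4.AdeqFree.mp_comp, hy, hz]
  have hyT : y ∈ AdeqTF.tangent B S.X₂ I := by
    rw [Groth.Agent.Helper4.AdeqTFLib.mem_tangent]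
    exact hfy
  refine ⟨⟨y, hyT⟩, Subtype.ext ?_⟩
  rw [Groth.Agent.Helper4.AdeqTFLib.tangentMap_coe]
  exact hy

end Groth.Agent.S8780
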