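import Groth.Statements.S8781
import Groth.Agent.Helper4.AdeqTFLib
import Mathlib

set_option autoImplicit false
universe u
open CategoryTheory Limits
open AdeqTF

namespace Groth.Agent.S8781


/-- Say a module-valued functor `F` on `A`-algebras has right exact tangent functors if for every
`A`-algebra `B` and every short exact sequence `0 → N₁ → N → N₂ → 0` of `B`-modules the sequence
`TF(B, N₁) → TF(B, N) → TF(B, N₂) → 0` is exact. If `0 → F → G → H → 0` is a short exact sequence of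
module-valued functors and `F`, `G` have right exact tangent functors, so does `H`. -/
theorem result (A : Type u) [CommRing A] (C : ShortComplex (Adeq.MVF A))
    (hC : C.ShortExact)
    (h₁ : (∀ (B : Adeq.Alg A) (S : ShortComplex (ModuleCat.{u} B)), S.ShortExact →
        Function.Surjective (AdeqTF.tangentMap B C.X₁ S.g) ∧
          (AdeqTF.tangentMap B C.X₁ S.g).ker = (AdeqTF.tangentMap B C.X₁ S.f).range))
    (h₂ : (∀ (B : Adeq.Alg A) (S : ShortComplex (ModuleCat.{u} B)), S.ShortExact →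
        Function.Surjective (AdeqTF.tangentMap B C.X₂ S.g) ∧
          (AdeqTF.tangentMap B C.X₂ S.g).ker = (AdeqTF.tangentMap B C.X₂ S.f).range)) :
    (∀ (B : Adeq.Alg A) (S : ShortComplex (ModuleCat.{u} B)), S.ShortExact →
        Function.Surjective (AdeqTF.tangentMap B C.X₃ S.g) ∧
          (AdeqTF.tangentMap B C.X₃ S.g).ker = (AdeqTF.tangentMap B C.X₃ S.f).range) := by

  intro B S hS
  obtain ⟨hs₁, hk₁⟩ := h₁ B S hS
  obtain ⟨hs₂, hk₂⟩ := h₂ B S hS
  have hzero : ∀ (F : Adeq.MVF A) (w : AdeqTF.tangent B S.X₁ F),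
      AdeqTF.tangentMap B F S.g (AdeqTF.tangentMap B F S.f w) = 0 := by
    intro F w
    rw [← Groth.Agent.Helper4.AdeqTFLib.tangentMap_comp, S.zero,
      Groth.Agent.Helper4.AdeqTFLib.tangentMap_zero]
  refine ⟨?_, ?_⟩
  · intro z
    obtain ⟨y, rfl⟩ := Groth.Agent.Helper4.AdeqTFLib.tmap_surjective B C hC S.X₃ z
    obtain ⟨y', rfl⟩ := hs₂ y
    exact ⟨Groth.Agent.Helper4.AdeqTFLib.tmap B C.g S.X₂ y',
      (Groth.Agent.Helper4.AdeqTFLib.tmap_tangentMap B C.g S.g y').symm⟩
  · ext z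
    constructor
    · intro hz
      rw [AddMonoidHom.mem_ker] at hz
      obtain ⟨y, rfl⟩ := Groth.Agent.Helper4.AdeqTFLib.tmap_surjective B C hC S.X₂ z
      rw [← Groth.Agent.Helper4.AdeqTFLib.tmap_tangentMap] at hz
      obtain ⟨x, hx⟩ := Groth.Agent.Helper4.AdeqTFLib.tmap_exact B C hC S.X₃ _ hz
      obtain ⟨x', rfl⟩ := hs₁ x
      have h1 : y - Groth.Agent.Helper4.AdeqTFLib.tmap B C.f S.X₂ x' ∈
          (AdeqTF.tangentMap B C.X₂ S.g).ker := by
        rw [AddMonoidHom.mem_ker, map_sub, ← hx,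
          Groth.Agent.Helper4.AdeqTFLib.tmap_tangentMap, sub_self]
      rw [hk₂] at h1
      obtain ⟨y₁, hy₁⟩ := h1
      refine ⟨Groth.Agent.Helper4.AdeqTFLib.tmap B C.g S.X₁ y₁, ?_⟩
      rw [← Groth.Agent.Helper4.AdeqTFLib.tmap_tangentMap, hy₁, map_sub,
        Groth.Agent.Helper4.AdeqTFLib.tmap_comp_zero B C hC, sub_zero]
    · rintro ⟨w, rfl⟩
      rw [AddMonoidHom.mem_ker]
      exact hzero _ w

end Groth.Agent.S8781
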