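import Groth.Statements.S8782
import Groth.Agent.Helper4.AdeqTFLib
import Mathlib

set_option autoImplicit false
universe u
open CategoryTheory Limits
open AdeqTF

namespace Groth.Agent.S8782


/-- If `0 → F → G → H → 0` is a short exact sequence of module-valued functors on `A`-algebras and `F`,
`H` have right exact tangent functors (for every `A`-algebra `B` and short exact `0 → N₁ → N → N₂ →
0` of `B`-modules, `T(B, N₁) → T(B, N) → T(B, N₂) → 0` is exact), so does `G`. -/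
theorem result (A : Type u) [CommRing A] (C : ShortComplex (Adeq.MVF A))
    (hC : C.ShortExact)
    (h₁ : (∀ (B : Adeq.Alg A) (S : ShortComplex (ModuleCat.{u} B)), S.ShortExact →
        Function.Surjective (AdeqTF.tangentMap B C.X₁ S.g) ∧
          (AdeqTF.tangentMap B C.X₁ S.g).ker = (AdeqTF.tangentMap B C.X₁ S.f).range))
    (h₃ : (∀ (B : Adeq.Alg A) (S : ShortComplex (ModuleCat.{u} B)), S.ShortExact →
        Function.Surjective (AdeqTF.tangentMap B C.X₃ S.g) ∧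
          (AdeqTF.tangentMap B C.X₃ S.g).ker = (AdeqTF.tangentMap B C.X₃ S.f).range)) :
    (∀ (B : Adeq.Alg A) (S : ShortComplex (ModuleCat.{u} B)), S.ShortExact →
        Function.Surjective (AdeqTF.tangentMap B C.X₂ S.g) ∧
          (AdeqTF.tangentMap B C.X₂ S.g).ker = (AdeqTF.tangentMap B C.X₂ S.f).range) := by

  intro B S hS
  obtain ⟨hs₁, hk₁⟩ := h₁ B S hS
  obtain ⟨hs₃, hk₃⟩ := h₃ B S hS
  have hzero : ∀ (F : Adeq.MVF A) (w : AdeqTF.tangent B S.X₁ F),
      AdeqTF.tangentMap B F S.g (AdeqTF.tangentMap B F S.f w) = 0 := by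
    intro F w
    rw [← Groth.Agent.Helper4.AdeqTFLib.tangentMap_comp, S.zero,
      Groth.Agent.Helper4.AdeqTFLib.tangentMap_zero]
  refine ⟨?_, ?_⟩
  · intro z
    obtain ⟨w, hw⟩ := hs₃ (Groth.Agent.Helper4.AdeqTFLib.tmap B C.g S.X₃ z)
    obtain ⟨y, rfl⟩ := Groth.Agent.Helper4.AdeqTFLib.tmap_surjective B C hC S.X₂ w
    have h0 : Groth.Agent.Helper4.AdeqTFLib.tmap B C.g S.X₃
        (z - AdeqTF.tangentMap B C.X₂ S.g y) = 0 := by
      rw [map_sub, Groth.Agent.Helper4.AdeqTFLib.tmap_tangentMap, hw, sub_self]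
    obtain ⟨x, hx⟩ := Groth.Agent.Helper4.AdeqTFLib.tmap_exact B C hC S.X₃ _ h0
    obtain ⟨x', rfl⟩ := hs₁ x
    refine ⟨y + Groth.Agent.Helper4.AdeqTFLib.tmap B C.f S.X₂ x', ?_⟩
    rw [map_add, ← Groth.Agent.Helper4.AdeqTFLib.tmap_tangentMap, hx]
    abel
  · ext y
    constructor
    · intro hy
      rw [AddMonoidHom.mem_ker] at hy
      have h0 : Groth.Agent.Helper4.AdeqTFLib.tmap B C.g S.X₂ y ∈
          (AdeqTF.tangentMap B C.X₃ S.g).ker := by
        rw [AddMonoidHom.mem_ker, ← Groth.Agent.Helper4.AdeqTFLib.tmap_tangentMap, hy, map_zero]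
      rw [hk₃] at h0
      obtain ⟨w₁, hw₁⟩ := h0
      obtain ⟨y₁, rfl⟩ := Groth.Agent.Helper4.AdeqTFLib.tmap_surjective B C hC S.X₁ w₁
      have h1 : Groth.Agent.Helper4.AdeqTFLib.tmap B C.g S.X₂
          (y - AdeqTF.tangentMap B C.X₂ S.f y₁) = 0 := by
        rw [map_sub, Groth.Agent.Helper4.AdeqTFLib.tmap_tangentMap, hw₁, sub_self]
      obtain ⟨x, hx⟩ := Groth.Agent.Helper4.AdeqTFLib.tmap_exact B C hC S.X₂ _ h1
      have h2 : AdeqTF.tangentMap B C.X₁ S.g x = 0 := by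
        apply Groth.Agent.Helper4.AdeqTFLib.tmap_injective B C hC S.X₃
        rw [Groth.Agent.Helper4.AdeqTFLib.tmap_tangentMap, hx, map_sub, hy, hzero, sub_zero,
          map_zero]
      have h3 : x ∈ (AdeqTF.tangentMap B C.X₁ S.g).ker := h2
      rw [hk₁] at h3
      obtain ⟨x₁, rfl⟩ := h3
      refine ⟨y₁ + Groth.Agent.Helper4.AdeqTFLib.tmap B C.f S.X₁ x₁, ?_⟩
      rw [map_add, ← Groth.Agent.Helper4.AdeqTFLib.tmap_tangentMap, hx]
      abel
    · rintro ⟨w, rfl⟩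
      rw [AddMonoidHom.mem_ker]
      exact hzero _ w

end Groth.Agent.S8782
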