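import Groth.Statements.S8783
import Groth.Agent.Helper4.AdeqTFLib
import Mathlib

set_option autoImplicit false
universe u
open CategoryTheory Limits
open AdeqTF

namespace Groth.Agent.S8783


/-- Let `F` be a module-valued functor on `A`-algebras with right exact tangent functors (for every
`A`-algebra `B` and short exact `0 → N₁ → N → N₂ → 0` of `B`-modules, `TF(B, N₁) → TF(B, N) → TF(B,
N₂) → 0` is exact). Then `TF(B, N₁ ⊕ N₂) = TF(B, N₁) ⊕ TF(B, N₂)`: the map from the product induced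
by the two inclusions is bijective. -/
theorem result (A : Type u) [CommRing A] (F : Adeq.MVF A)
    (hF : (∀ (B : Adeq.Alg A) (S : ShortComplex (ModuleCat.{u} B)), S.ShortExact →
        Function.Surjective (AdeqTF.tangentMap B F S.g) ∧
          (AdeqTF.tangentMap B F S.g).ker = (AdeqTF.tangentMap B F S.f).range))
    (B : Adeq.Alg A) (N₁ N₂ : ModuleCat.{u} B) :
    Function.Bijective ((AdeqTF.tangentMap B F (biprod.inl : N₁ ⟶ N₁ ⊞ N₂)).coprod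
      (AdeqTF.tangentMap B F (biprod.inr : N₂ ⟶ N₁ ⊞ N₂))) := by

  have hcomp : ∀ {M M' M'' : ModuleCat.{u} B} (g : M ⟶ M') (h : M' ⟶ M'')
      (x : AdeqTF.tangent B M F),
      AdeqTF.tangentMap B F h (AdeqTF.tangentMap B F g x) = AdeqTF.tangentMap B F (g ≫ h) x :=
    fun g h x => (Groth.Agent.Helper4.AdeqTFLib.tangentMap_comp B F g h x).symm
  have h11 : ∀ x : AdeqTF.tangent B N₁ F, AdeqTF.tangentMap B F (biprod.fst : N₁ ⊞ N₂ ⟶ N₁)
      (AdeqTF.tangentMap B F (biprod.inl : N₁ ⟶ N₁ ⊞ N₂) x) = x := by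
    intro x
    rw [hcomp, biprod.inl_fst, Groth.Agent.Helper4.AdeqTFLib.tangentMap_id]
  have h12 : ∀ x : AdeqTF.tangent B N₁ F, AdeqTF.tangentMap B F (biprod.snd : N₁ ⊞ N₂ ⟶ N₂)
      (AdeqTF.tangentMap B F (biprod.inl : N₁ ⟶ N₁ ⊞ N₂) x) = 0 := by
    intro x
    rw [hcomp, biprod.inl_snd, Groth.Agent.Helper4.AdeqTFLib.tangentMap_zero]
  have h21 : ∀ x : AdeqTF.tangent B N₂ F, AdeqTF.tangentMap B F (biprod.fst : N₁ ⊞ N₂ ⟶ N₁)
      (AdeqTF.tangentMap B F (biprod.inr : N₂ ⟶ N₁ ⊞ N₂) x) = 0 := by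
    intro x
    rw [hcomp, biprod.inr_fst, Groth.Agent.Helper4.AdeqTFLib.tangentMap_zero]
  have h22 : ∀ x : AdeqTF.tangent B N₂ F, AdeqTF.tangentMap B F (biprod.snd : N₁ ⊞ N₂ ⟶ N₂)
      (AdeqTF.tangentMap B F (biprod.inr : N₂ ⟶ N₁ ⊞ N₂) x) = x := by
    intro x
    rw [hcomp, biprod.inr_snd, Groth.Agent.Helper4.AdeqTFLib.tangentMap_id]
  constructor
  · rintro ⟨x₁, x₂⟩ ⟨x₁', x₂'⟩ h
    simp only [AddMonoidHom.coprod_apply] at h
    have e1 := congrArg (AdeqTF.tangentMap B F (biprod.fst : N₁ ⊞ N₂ ⟶ N₁)) h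
    have e2 := congrArg (AdeqTF.tangentMap B F (biprod.snd : N₁ ⊞ N₂ ⟶ N₂)) h
    simp only [map_add, h11, h12, h21, h22, add_zero, zero_add] at e1 e2
    rw [e1, e2]
  · intro z
    let S : ShortComplex (ModuleCat.{u} B) :=
      ShortComplex.mk (biprod.inl : N₁ ⟶ N₁ ⊞ N₂) (biprod.snd : N₁ ⊞ N₂ ⟶ N₂) biprod.inl_snd
    have hS : S.ShortExact := (ShortComplex.Splitting.ofHasBinaryBiproduct N₁ N₂).shortExact
    obtain ⟨-, hk⟩ := hF B S hS
    have hz : z - AdeqTF.tangentMap B F (biprod.inr : N₂ ⟶ N₁ ⊞ N₂)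
        (AdeqTF.tangentMap B F (biprod.snd : N₁ ⊞ N₂ ⟶ N₂) z) ∈
        (AdeqTF.tangentMap B F S.g).ker := by
      rw [AddMonoidHom.mem_ker]
      change AdeqTF.tangentMap B F (biprod.snd : N₁ ⊞ N₂ ⟶ N₂) _ = 0
      rw [map_sub, h22, sub_self]
    rw [hk] at hz
    obtain ⟨x₁, hx₁⟩ := hz
    refine ⟨(x₁, AdeqTF.tangentMap B F (biprod.snd : N₁ ⊞ N₂ ⟶ N₂) z), ?_⟩
    simp only [AddMonoidHom.coprod_apply]
    change AdeqTF.tangentMap B F (biprod.inl : N₁ ⟶ N₁ ⊞ N₂) x₁ = _ at hx₁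
    rw [hx₁]
    abel

end Groth.Agent.S8783
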