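import Groth.Statements.S8797
import Mathlib
import Groth.Agent.Helper9.LF13
-- import your own Groth.Agent.* helpers here

set_option autoImplicit false
universe u
open CategoryTheory
open Dual2

namespace Groth.Agent.S8797

/-- Let I ⊆ 𝔞 be ideals of a Noetherian ring A with a dualizing complex, d a natural with cd(A, I) ≤ d,
M a finite A-module and s a natural. Assume (c): for every prime p ∉ V(I) and every prime q ∈ V(p) ∩
V(𝔞), either depth(M_p) > s or depth(M_p) + dim((A/p)_q) > d + s. Then for every q ∈ V(𝔞), writing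
A', I', M' for the I-adic completions of A_q, IA_q, M_q, one has depth(M'_{p'}) > s for every prime
p' of A' not containing I' such that the only primes containing both p' and I' are maximal. (The
published statement concludes that all standing conditions of the setting hold; the others follow at
once from the hypotheses, and this row states only this depth condition on completions.) -/
theorem result (A : Type u) [CommRing A] [IsNoetherianRing A] (hdc : ∃ ω : Dual.D A, Dual.IsDualizing A ω) (I 𝔞 : Ideal A) (hI𝔞 : I ≤ 𝔞) (d : ℕ) (hcd : LocCoh.CdLE A I d) (M : Type u) [AddCommGroup M] [Module A M] [Module.Finite A M] (s : ℕ) (hc : ∀ p q : PrimeSpectrum A, p ≤ q → ¬ I ≤ p.asIdeal → 𝔞 ≤ q.asIdeal → (s : ℕ∞) < LocCoh.depth (Localization.AtPrime p.asIdeal) (LocalizedModule p.asIdeal.primeCompl M) ∨ (((d + s : ℕ) : ℕ∞) : WithBot ℕ∞) < ((LocCoh.depth (Localization.AtPrime p.asIdeal) (LocalizedModule p.asIdeal.primeCompl M) : ℕ∞) : WithBot ℕ∞) + Formal2.dimBetween A p.asIdeal q.asIdeal) (T : Set (PrimeSpectrum A)) (hT : T = PrimeSpectrum.zeroLocus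 ((𝔞 : Ideal A) : Set A)) : ∀ q : PrimeSpectrum A, q ∈ T → ∀ p' : PrimeSpectrum (AdicCompletion (I.map (algebraMap A (Localization.AtPrime q.asIdeal))) (Localization.AtPrime q.asIdeal)), ¬ (I.map (algebraMap A (AdicCompletion (I.map (algebraMap A (Localization.AtPrime q.asIdeal))) (Localization.AtPrime q.asIdeal)))) ≤ p'.asIdeal → (∀ q' : PrimeSpectrum (AdicCompletion (I.map (algebraMap A (Localization.AtPrime q.asIdeal))) (Localization.AtPrime q.asIdeal)), p' ≤ q' → (I.map (algebraMap A (AdicCompletion (I.map (algebraMap A (Localization.AtPrime q.asIdeal))) (Localization.AtPrime q.asIdeal)))) ≤ q'.asIdeal → q'.asIdeal.IsMaximal) → (s : ℕ∞) < LocCoh.depth (Localization.AtPrime p'.asIdeal) (LocalizedModule p'.asIdeal.primeCompl (AdicCompletion (I.map (algebraMap A (Localization.AtPrime q.asIdeal))) (LocalizedModule q.asIdeal.primeCompl M))) := by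
  intro q hqT p' hp' hmax
  obtain ⟨ω, hω⟩ := hdc
  have h𝔞q : 𝔞 ≤ q.asIdeal := by
    rw [hT, PrimeSpectrum.mem_zeroLocus, SetLike.coe_subset_coe] at hqT
    exact hqT
  have hIq : I ≤ q.asIdeal := hI𝔞.trans h𝔞q
  obtain ⟨h1, hle, h, hhd, h2⟩ :=
    Groth.Agent.Helper9.LF13.loc_adic_main A I M q.asIdeal ω hω hIq d hcd p' hmax
  have hIP : ¬ I ≤ (PrimeSpectrum.comap (algebraMap A _) p').asIdeal :=
    fun hle' => hp' (Ideal.map_le_iff_le_comap.mpr hle')
  rcases hc (PrimeSpectrum.comap (algebraMap A _) p') q
    ((PrimeSpectrum.asIdeal_le_asIdeal _ _).mp hle) hIP h𝔞q with hcase | hcase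
  · exact lt_of_lt_of_le hcase h1
  · have hcase' := lt_of_lt_of_eq hcase h2.symm
    generalize LocCoh.depth (Localization.AtPrime p'.asIdeal) (LocalizedModule p'.asIdeal.primeCompl
      (AdicCompletion (Ideal.map (algebraMap A (Localization.AtPrime q.asIdeal)) I)
        (LocalizedModule q.asIdeal.primeCompl M))) = D at hcase' ⊢
    induction D using ENat.recTopCoe with
    | top => exact ENat.natCast_lt_top s
    | coe n =>
      have h3 : d + s < n + h := by exact_mod_cast hcase'
      have : s < n := by omega
      exact_mod_cast this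

end Groth.Agent.S8797
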