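import Groth.Statements.S8822
import Mathlib
import Groth.Agent.Helper1.CompleteNoeth
import Groth.Agent.Helper5.ComplDVR

set_option autoImplicit false
universe u v
open AdicRing

namespace Groth.Agent.S8822

/-- Let A be a Noetherian ring and I an ideal. Let B be an A-algebra which is complete for the IB-adic
topology and such that B/IB is of finite type over A, and let J be an ideal of B. Then B/J is
complete for the I(B/J)-adic topology (so B/J is again an object of the same category, the finite
type condition on (B/J)/I(B/J) being immediate). -/
theorem result (A : Type u) [CommRing A] [IsNoetherianRing A] (I : Ideal A) (B : Type v) [CommRing B] [Algebra A B] [IsAdicComplete (I.map (algebraMap A B)) B] (hB : Algebra.FiniteType A (B ⧸ I.map (algebraMap A B))) (J : Ideal B) : IsAdicComplete (I.map (algebraMap A (B ⧸ J))) (B ⧸ J) := by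
  haveI : IsNoetherianRing (B ⧸ I.map (algebraMap A B)) := Algebra.FiniteType.isNoetherianRing A _
  have hI : I.FG := IsNoetherian.noetherian I
  haveI hBN : IsNoetherianRing B := Helper1.CompleteNoeth.isNoetherianRing_of_isAdicComplete
    (I.map (algebraMap A B)) (Ideal.FG.map hI _)
  have hmap : I.map (algebraMap A (B ⧸ J)) =
      (I.map (algebraMap A B)).map (algebraMap B (B ⧸ J)) := by
    rw [Ideal.map_map, ← IsScalarTower.algebraMap_eq]
  rw [hmap, IsAdicComplete.map_algebraMap_iff]
  haveI h1 : IsPrecomplete (I.map (algebraMap A B)) (B ⧸ J) :=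
    Groth.Agent.Helper5.ComplDVR.isPrecomplete_of_finite _ _
  haveI h2 : IsHausdorff (I.map (algebraMap A B)) (B ⧸ J) :=
    IsHausdorff.of_le_jacobson _ _ (IsAdicComplete.le_jacobson_bot _)
  exact { }

end Groth.Agent.S8822
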