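import Groth.Statements.S8828
import Mathlib
import Groth.Agent.Helper9.LF14
-- import your own Groth.Agent.* helpers here

set_option autoImplicit false
universe u
open CategoryTheory
open Dual2

namespace Groth.Agent.S8828

/-- Let A be a Noetherian ring with a dualizing complex, I an ideal with cd(A, I) ≤ d, M a finite
A-module, T ⊆ V(I) stable under specialization and s a natural, satisfying: (4) for primes p ⊆ r ⊆ q
with p ∉ V(I), r ∈ V(I) ∖ T and q ∈ T, either depth(M_p) ≥ s or depth(M_p) + dim((A/p)_q) > d + s;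
(6) for q ∈ T, writing A_q', I_q', M_q' for the I-adic completions of A_q, IA_q, M_q, one has
depth((M_q')_{p'}) > s for every prime p' of A_q' not containing I_q' such that the only primes
containing both p' and I_q' are maximal. Let A', I', M' be the I-adic completions of A, I, M and T'
⊆ Spec A' the inverse image of T. Then A' has a dualizing complex, cd(A', I') ≤ d, and conditions
(4) and (6) hold for A', I', T', M' (so the completed data are again in the same situation). -/
theorem result (A : Type u) [CommRing A] [IsNoetherianRing A] (hdc : ∃ ω : Dual.D A, Dual.IsDualizing A ω) (I : Ideal A) (d : ℕ) (hcd : LocCoh.CdLE A I d) (M : Type u) [AddCommGroup M] [Module A M] [Module.Finite A M] (T : Set (PrimeSpectrum A)) (hTI : T ⊆ PrimeSpectrum.zeroLocus (I : Set A)) (hT : StableUnderSpecialization T) (s : ℕ) (h4 : ∀ p r q : PrimeSpectrum A, p ≤ r → r ≤ q → ¬ I ≤ p.asIdeal → I ≤ r.asIdeal → r ∉ T → q ∈ T → (s : ℕ∞) ≤ LocCoh.depth (Localization.AtPrime p.asIdeal) (LocalizedModule p.asIdeal.primeCompl M) ∨ ((d + s : ℕ)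 : WithBot ℕ∞) < (LocCoh.depth (Localization.AtPrime p.asIdeal) (LocalizedModule p.asIdeal.primeCompl M) : WithBot ℕ∞) + Formal2.dimBetween A p.asIdeal q.asIdeal) (h6 : ∀ q : PrimeSpectrum A, q ∈ T → ∀ p' : PrimeSpectrum (AdicCompletion (I.map (algebraMap A (Localization.AtPrime q.asIdeal))) (Localization.AtPrime q.asIdeal)), ¬ (I.map (algebraMap A (AdicCompletion (I.map (algebraMap A (Localization.AtPrime q.asIdeal))) (Localization.AtPrime q.asIdeal)))) ≤ p'.asIdeal → (∀ q' : PrimeSpectrum (AdicCompletion (I.map (algebraMap A (Localization.AtPrime q.asIdeal))) (Localization.AtPrime q.asIdeal)), p' ≤ q' → (I.map (algebraMap A (AdicCompletion (I.map (algebraMap A (Localization.AtPrime q.asIdeal))) (Localization.AtPrime q.asIdeal)))) ≤ q'.asIdeal → q'.asIdeal.IsMaximal) → (s : ℕ∞) < LocCoh.depth (Localization.AtPrime p'.asIdeal) (LocalizedModule p'.asIdeal.primeCompl (AdicCompletion (I.map (algebraMap A (Localization.AtPrime q.asIdeal))) (LocalizedModule q.asIdeal.primeCompl M)))) : (∃ ω' : Dual.D (AdicCompletion I A), Dual.IsDualizing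 (AdicCompletion I A) ω') ∧ LocCoh.CdLE (AdicCompletion I A) (I.map (algebraMap A (AdicCompletion I A))) d ∧ (∀ p r q : PrimeSpectrum (AdicCompletion I A), p ≤ r → r ≤ q → ¬ (I.map (algebraMap A (AdicCompletion I A))) ≤ p.asIdeal → (I.map (algebraMap A (AdicCompletion I A))) ≤ r.asIdeal → r ∉ ((PrimeSpectrum.comap (algebraMap A (AdicCompletion I A))) ⁻¹' T) → q ∈ ((PrimeSpectrum.comap (algebraMap A (AdicCompletion I A))) ⁻¹' T) → (s : ℕ∞) ≤ LocCoh.depth (Localization.AtPrime p.asIdeal) (LocalizedModule p.asIdeal.primeCompl (AdicCompletion I M)) ∨ ((d + s : ℕ) : WithBot ℕ∞) < (LocCoh.depth (Localization.AtPrime p.asIdeal) (LocalizedModule p.asIdeal.primeCompl (AdicCompletion I M)) : WithBot ℕ∞) + Formal2.dimBetween (AdicCompletion I A) p.asIdeal q.asIdeal) ∧ (∀ q : PrimeSpectrum (AdicCompletion I A), q ∈ ((PrimeSpectrum.comap (algebraMap A (AdicCompletion I A))) ⁻¹' T) → ∀ p' : PrimeSpectrum (AdicCompletion ((I.map (algebraMap A (AdicCompletion I A))).map (algebraMap (AdicCompletion I A) (Localization.AtPrime q.asIdeal)))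 (Localization.AtPrime q.asIdeal)), ¬ ((I.map (algebraMap A (AdicCompletion I A))).map (algebraMap (AdicCompletion I A) (AdicCompletion ((I.map (algebraMap A (AdicCompletion I A))).map (algebraMap (AdicCompletion I A) (Localization.AtPrime q.asIdeal))) (Localization.AtPrime q.asIdeal)))) ≤ p'.asIdeal → (∀ q' : PrimeSpectrum (AdicCompletion ((I.map (algebraMap A (AdicCompletion I A))).map (algebraMap (AdicCompletion I A) (Localization.AtPrime q.asIdeal))) (Localization.AtPrime q.asIdeal)), p' ≤ q' → ((I.map (algebraMap A (AdicCompletion I A))).map (algebraMap (AdicCompletion I A) (AdicCompletion ((I.map (algebraMap A (AdicCompletion I A))).map (algebraMap (AdicCompletion I A) (Localization.AtPrime q.asIdeal))) (Localization.AtPrime q.asIdeal)))) ≤ q'.asIdeal → q'.asIdeal.IsMaximal) → (s : ℕ∞) < LocCoh.depth (Localization.AtPrime p'.asIdeal) (LocalizedModule p'.asIdeal.primeCompl (AdicCompletion ((I.map (algebraMap A (AdicCompletion I A))).map (algebraMap (AdicCompletion I A) (Localization.AtPrime q.asIdeal))) (LocalizedModule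 q.asIdeal.primeCompl (AdicCompletion I M))))) := by
  obtain ⟨ω, hω⟩ := hdc
  have fg : I.FG := IsNoetherian.noetherian I
  have : IsNoetherianRing (AdicCompletion I A) := Groth.Agent.S0543.result A I
  have := AdicCompletion.isAdicComplete_self I fg
  have hJ : I.map (algebraMap A (AdicCompletion I A)) ≤
      (⊥ : Ideal (AdicCompletion I A)).jacobson := IsAdicComplete.le_jacobson_bot _
  have hmaxB := Groth.Agent.Helper6.FBC.exists_map_eq_of_jacobson (AdicCompletion I A) I
    (Groth.Agent.Helper9.LF12.adic_surj A I) hJ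
  have hωB := Groth.Agent.Helper6.FBC.isDualizing_bcD_of_maximal_map (AdicCompletion I A) hmaxB
    ω hω
  refine ⟨⟨_, hωB⟩, (Groth.Agent.S0379.result A (AdicCompletion I A) I d).1 hcd, ?_, ?_⟩
  · intro p r q hpr hrq hIp hIr hrT hqT
    have hpq : p ≤ q := hpr.trans hrq
    have hIq : I.map (algebraMap A (AdicCompletion I A)) ≤ q.asIdeal :=
      hIr.trans ((PrimeSpectrum.asIdeal_le_asIdeal _ _).mpr hrq)
    obtain ⟨h1, h2⟩ := Groth.Agent.Helper9.LF12.adic_main A I ω hω M p q hpq hIq
    have hmono : ∀ x y : PrimeSpectrum (AdicCompletion I A), x ≤ y →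
        PrimeSpectrum.comap (algebraMap A (AdicCompletion I A)) x ≤
          PrimeSpectrum.comap (algebraMap A (AdicCompletion I A)) y :=
      fun x y hxy => Ideal.comap_mono (f := algebraMap A (AdicCompletion I A)) hxy
    rcases h4 (PrimeSpectrum.comap (algebraMap A (AdicCompletion I A)) p)
      (PrimeSpectrum.comap (algebraMap A (AdicCompletion I A)) r)
      (PrimeSpectrum.comap (algebraMap A (AdicCompletion I A)) q) (hmono _ _ hpr) (hmono _ _ hrq)
      (fun hle => hIp (Ideal.map_le_iff_le_comap.mpr hle)) (Ideal.map_le_iff_le_comap.mp hIr)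
      hrT hqT with hcase | hcase
    · exact Or.inl (le_trans hcase h1)
    · refine Or.inr ?_
      rw [Groth.Agent.Helper9.LF9.dimBetween_eq] at hcase ⊢
      rw [h2]
      exact hcase
  · intro q hqT p' hp' hmax
    have hIq : I.map (algebraMap A (AdicCompletion I A)) ≤ q.asIdeal := by
      rw [Ideal.map_le_iff_le_comap]
      have := hTI hqT
      rw [PrimeSpectrum.mem_zeroLocus, SetLike.coe_subset_coe] at this
      exact this
    exact Groth.Agent.Helper9.LF14.cond6_completion A I M q.asIdeal ω hω hIq s
      (h6 (PrimeSpectrum.comap (algebraMap A (AdicCompletion I A)) q) hqT) p' hp' hmax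

end Groth.Agent.S8828
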