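import Groth.Statements.S8833
import Groth.Agent.Helper6.GrMapPoly2

set_option autoImplicit false
universe u
open scoped BigOperators TensorProduct
open LocCoh

namespace Groth.Agent.S8833

/-- Let A be a Noetherian ring, f_1, …, f_r ∈ A and I = (f_1, …, f_r) with cd(A, I) = 1; let c ≥ 1 and
φ_j : I^c → A be A-linear maps with x = Σ_j f_j φ_j(x) for all x ∈ I^c. Let B be a Noetherian
A-algebra and N a finite B-module. Then there is c' ≥ c with the following property. Write φ_j again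
for the restrictions of the φ_j to I^{c'} and let Φ be a graded A-algebra homomorphism from ⊕_{n ≥
0} I^{nc'} to A[T_1, …, T_r] with Φ(g) = Σ_j φ_j(g) T_j for g ∈ I^{c'} (there is exactly one; it is
encoded by functions Φ_n : A → A[T_1, …, T_r] whose values on I^{nc'} are additive, A-homogeneous,
homogeneous of degree n and multiplicative across degrees, with Φ_0 the structure map and Φ_1 as
prescribed). Then for every n there is a unique B-linear map Ψ_n from the submodule I^{nc'}N of N to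
N[T_1, …, T_r] = B[T_1, …, T_r] ⊗_B N with Ψ_n(g x) = Φ_n(g) ⊗ x for g ∈ I^{nc'} and x ∈ N; that is,
the Ψ_n form the unique graded B-module map from ⊕_n I^{nc'}N to N[T_1, …, T_r] with this property.
Moreover substituting T_j ↦ f_j after Ψ_n gives back the inclusion of I^{nc'}N into N. -/
theorem result (A : Type u) [CommRing A] [IsNoetherianRing A] (r : ℕ) (f : Fin r → A) (I : Ideal A) (hI : I = Ideal.span (Set.range f)) (h1 : LocCoh.CdLE A I 1) (h0 : ¬ LocCoh.CdLE A I 0) (c : ℕ) (hc : 1 ≤ c) (φ : Fin r → (↥(I ^ c) →ₗ[A] A)) (hφ : ∀ x : ↥(I ^ c), (x : A) = ∑ j, f j * φ j x) (B : Type u) [CommRing B] [Algebra A B] [IsNoetherianRing B] (N : Type u) [AddCommGroup N] [Module B N] [Module.Finite B N] : ∃ c' : ℕ, ∃ hcc' : c ≤ c', ∀ Φ : ℕ → A → MvPolynomial (Fin r) A, ((∀ n : ℕ, ∀ g ∈ I ^ (n * c'), ∀ h ∈ I ^ (n * c'), Φ n (g + h) = Φ n g + Φ n h) ∧ (∀ (n : ℕ) (a : A), ∀ g ∈ I ^ (n * c'),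 Φ n (a * g) = a • Φ n g) ∧ (∀ n : ℕ, ∀ g ∈ I ^ (n * c'), (Φ n g).IsHomogeneous n) ∧ (∀ n m : ℕ, ∀ g ∈ I ^ (n * c'), ∀ h ∈ I ^ (m * c'), Φ (n + m) (g * h) = Φ n g * Φ m h) ∧ (∀ a : A, Φ 0 a = MvPolynomial.C a) ∧ (∀ (g : A) (hg : g ∈ I ^ c'), Φ 1 g = ∑ j, MvPolynomial.C (φ j ⟨g, Ideal.pow_le_pow_right hcc' hg⟩) * MvPolynomial.X j)) → ∀ n : ℕ, ∃ Ψ : ↥(Submodule.span B {y : N | ∃ g ∈ I ^ (n * c'), ∃ x : N, y = algebraMap A B g • x}) →ₗ[B] (MvPolynomial (Fin r) B ⊗[B] N), (∀ (g : A) (hg : g ∈ I ^ (n * c')) (x : N), Ψ ⟨algebraMap A B g • x, Submodule.subset_span ⟨g, hg, x, rfl⟩⟩ = MvPolynomial.map (algebraMap A B) (Φ n g) ⊗ₜ[B] x) ∧ (∀ y : ↥(Submodule.span B {y : N | ∃ g ∈ I ^ (n * c'), ∃ x : N, y = algebraMap A B g • x}), TensorProduct.lift ((LinearMap.lsmul B N).comp (MvPolynomial.aeval (fun j ↦ algebraMap A B (f j))).toLinearMap) (Ψ y) = (y : N)) ∧ (∀ Ψ' : ↥(Submodule.span B {y : N | ∃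 g ∈ I ^ (n * c'), ∃ x : N, y = algebraMap A B g • x}) →ₗ[B] (MvPolynomial (Fin r) B ⊗[B] N), (∀ (g : A) (hg : g ∈ I ^ (n * c')) (x : N), Ψ' ⟨algebraMap A B g • x, Submodule.subset_span ⟨g, hg, x, rfl⟩⟩ = MvPolynomial.map (algebraMap A B) (Φ n g) ⊗ₜ[B] x) → Ψ' = Ψ) := by
  classical
  obtain ⟨c₁, hAR⟩ := Groth.Agent.Helper6.GrMapPoly2.exists_AR (N := N) (I.map (algebraMap A B))
  refine ⟨c₁ + c, Nat.le_add_left _ _, fun Φ hΦ n => ?_⟩
  have hle : I ^ (c₁ + c) ≤ I ^ c := Ideal.pow_le_pow_right (Nat.le_add_left _ _)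
  obtain ⟨φ', hφ'def⟩ : ∃ φ' : Fin r → (↥(I ^ (c₁ + c)) →ₗ[A] A),
      ∀ j (g : A) (hg : g ∈ I ^ (c₁ + c)), φ' j ⟨g, hg⟩ = φ j ⟨g, hle hg⟩ :=
    ⟨fun j => (φ j) ∘ₗ (Submodule.inclusion hle), fun j g hg => rfl⟩
  have hφ' : ∀ x : ↥(I ^ (c₁ + c)), (x : A) = ∑ j, f j * φ' j x := by
    intro x
    have h1 := hφ ⟨x.1, hle x.2⟩
    rw [h1]
    refine Finset.sum_congr rfl (fun j _ => ?_)
    rw [← hφ'def j x.1 x.2]
  have hΦeq : ∀ n g, g ∈ I ^ (n * (c₁ + c)) →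
      Φ n g = Groth.Agent.Helper6.GrMapPoly.Phi I (c₁ + c) φ' n g :=
    Groth.Agent.Helper6.GrMapPoly.Phi_unique φ' Φ hΦ.1 hΦ.2.2.2.1 hΦ.2.2.2.2.1
      (fun g hg => by
        rw [hΦ.2.2.2.2.2 g hg]
        refine Finset.sum_congr rfl (fun j _ => ?_)
        rw [hφ'def j g hg])
  have hα : ∀ j, ∃ α : ↥(Submodule.span B (Groth.Agent.Helper6.GrMapPoly2.gens I B N (c₁ + c))) →ₗ[B] N,
      ∀ (g : A) (hg : g ∈ I ^ (c₁ + c)) (x : N),
        α ⟨algebraMap A B g • x, Submodule.subset_span ⟨g, hg, x, rfl⟩⟩ =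
          algebraMap A B (φ' j ⟨g, hg⟩) • x := by
    intro j
    obtain ⟨α, hα⟩ := Groth.Agent.Helper6.GrMapPoly2.exists_alpha (N := N) I (φ j) hAR hle
    exact ⟨α, fun g hg x => by rw [hα g hg x, hφ'def j g hg]⟩
  choose α hα using hα
  have hker : ∀ l : {p : A × N // p.1 ∈ I ^ (n * (c₁ + c))} →₀ B,
      Finsupp.linearCombination B (fun p : {p : A × N // p.1 ∈ I ^ (n * (c₁ + c))} =>
        algebraMap A B p.1.1 • p.1.2) l = 0 →
      Finsupp.linearCombination B (fun p : {p : A × N // p.1 ∈ I ^ (n * (c₁ + c))} =>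
        MvPolynomial.map (algebraMap A B) (Φ n p.1.1) ⊗ₜ[B] p.1.2) l = 0 := by
    intro l hl
    rw [Finsupp.linearCombination_apply, Finsupp.sum] at hl ⊢
    have h2 := Groth.Agent.Helper6.GrMapPoly2.kernel_cond I (c₁ + c) φ' α hα n l.support
      (fun p => l p) (fun p => p.1.1) (fun p => p.1.2) (fun p _ => p.2) hl
    rw [← h2]
    refine Finset.sum_congr rfl (fun p _ => ?_)
    show l p • (MvPolynomial.map (algebraMap A B) (Φ n p.1.1) ⊗ₜ[B] p.1.2) = _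
    rw [hΦeq n _ p.2]
  obtain ⟨Ψ, hΨ⟩ := Groth.Agent.Helper6.GrMapPoly2.exists_linearMap_of_ker _ _ hker
    (Submodule.span B {y : N | ∃ g ∈ I ^ (n * (c₁ + c)), ∃ x : N, y = algebraMap A B g • x})
    (by rw [← Groth.Agent.Helper6.GrMapPoly2.gens_eq_range])
  refine ⟨Ψ, fun g hg x => hΨ ⟨⟨g, x⟩, hg⟩ _, ?_, ?_⟩
  · intro y
    have hcomp : (TensorProduct.lift ((LinearMap.lsmul B N).comp
        (MvPolynomial.aeval (fun j ↦ algebraMap A B (f j))).toLinearMap)) ∘ₗ Ψ =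
        Submodule.subtype _ := by
      refine Groth.Agent.Helper6.GrMapPoly2.span_ext _ _ _ (fun y hy => ?_)
      obtain ⟨g, hg, x, rfl⟩ := hy
      rw [LinearMap.comp_apply, hΨ ⟨⟨g, x⟩, hg⟩ _]
      simp only [TensorProduct.lift.tmul, LinearMap.comp_apply, LinearMap.lsmul_apply,
        AlgHom.toLinearMap_apply, Submodule.subtype_apply]
      rw [MvPolynomial.aeval_map_algebraMap B, hΦeq n g hg]
      have h3 := MvPolynomial.aeval_algebraMap_apply B f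
        (Groth.Agent.Helper6.GrMapPoly.Phi I (c₁ + c) φ' n g)
      rw [Groth.Agent.Helper6.GrMapPoly.Phi_aeval φ' f hφ' n g hg] at h3
      rw [← h3]
      rfl
    exact LinearMap.congr_fun hcomp y
  · intro Ψ' hΨ'
    refine Groth.Agent.Helper6.GrMapPoly2.span_ext _ _ _ (fun y hy => ?_)
    obtain ⟨g, hg, x, rfl⟩ := hy
    rw [hΨ' g hg x, hΨ ⟨⟨g, x⟩, hg⟩ _]

end Groth.Agent.S8833
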