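import Groth.Statements.S8849
import Mathlib
import Groth.Agent.Lead.EffCartier
import Groth.Agent.S1571
import Groth.Agent.S1701

set_option autoImplicit false
universe u
open CategoryTheory CategoryTheory.Limits AlgebraicGeometry TopologicalSpace
open SDiv

namespace Groth.Agent.S8849

open Function TensorProduct
open Groth.Agent.Lead.EffCartier


theorem flat_quot_pow {A B : Type*} [CommRing A] [CommRing B] [Algebra A B] (t : B)
    (ht : t ∈ nonZeroDivisors B) [Module.Flat A (B ⧸ Ideal.span {t})] (n : ℕ) :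
    Module.Flat A (B ⧸ Ideal.span {t ^ n}) := by
  induction n with
  | zero =>
    rw [pow_zero]
    have : Subsingleton (B ⧸ Ideal.span {(1 : B)}) := by
      rw [Ideal.span_singleton_one]
      exact Ideal.Quotient.subsingleton_iff.mpr rfl
    infer_instance
  | succ n ih =>
    rw [pow_succ']
    exact flat_quot_mul t (t ^ n) ht

/-- `t` a nonzerodivisor of `B`, `B/tB` and `B[1/t]` flat over `A` ⇒ `B` flat over `A`. -/
theorem flat_of_flat_quot_of_flat_away {A B Bt : Type*} [CommRing A] [CommRing B] [Algebra A B]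
    [CommRing Bt] [Algebra B Bt] [Algebra A Bt] [IsScalarTower A B Bt] (t : B)
    (ht : t ∈ nonZeroDivisors B) [IsLocalization.Away t Bt]
    [Module.Flat A (B ⧸ Ideal.span {t})] [Module.Flat A Bt] : Module.Flat A B := by
  rw [Module.Flat.iff_lTensor_preserves_injective_linearMap]
  intro N N' _ _ _ _ L hL
  rw [injective_iff_map_eq_zero]
  intro z hz
  let g : B →ₗ[B] Bt := Algebra.linearMap B Bt
  have hg : IsLocalizedModule (Submonoid.powers t) g := inferInstance
  have hloc : IsLocalizedModule (Submonoid.powers t) (AlgebraTensorModule.rTensor A N g) :=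
    IsLocalizedModule.rTensor (R := A) (N := N) B (Submonoid.powers t) g
  have hz' : (AlgebraTensorModule.rTensor A N g) z = 0 := by
    apply (Module.Flat.lTensor_preserves_injective_linearMap (M := Bt) L hL)
    rw [map_zero]
    have hcomm : (L.lTensor Bt) ∘ₗ ((g.restrictScalars A).rTensor N) =
        ((g.restrictScalars A).rTensor N') ∘ₗ (L.lTensor B) := by
      rw [LinearMap.lTensor_comp_rTensor, LinearMap.rTensor_comp_lTensor]
    have := congrArg (fun F => F z) hcomm
    simp only [LinearMap.comp_apply] at this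
    rw [hz, map_zero] at this
    exact this
  obtain ⟨⟨_, n, rfl⟩, hc⟩ := (IsLocalizedModule.eq_zero_iff (Submonoid.powers t)
    (AlgebraTensorModule.rTensor A N g)).mp hz'
  have hc' : (t ^ n) • z = 0 := hc
  -- multiplication by t^n on B ⊗ N is injective
  have := flat_quot_pow (A := A) t ht n
  let π : B →ₗ[A] (B ⧸ Ideal.span {t ^ n}) := (Ideal.Quotient.mkₐ A (Ideal.span {t ^ n})).toLinearMap
  let μ : B →ₗ[A] B := LinearMap.mulLeft A (t ^ n)
  have hπ : Surjective π := Ideal.Quotient.mk_surjective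
  have hμinj : Injective μ := by
    rw [injective_iff_map_eq_zero]
    intro b hb
    have hb' : t ^ n * b = 0 := hb
    exact (mem_nonZeroDivisors_iff.mp (pow_mem ht n)).1 b hb'
  have hex : Exact μ π := by
    intro c
    change Ideal.Quotient.mk _ c = 0 ↔ _
    rw [Ideal.Quotient.eq_zero_iff_mem, Ideal.mem_span_singleton']
    constructor
    · rintro ⟨d, rfl⟩; exact ⟨d, by simp [μ, mul_comm]⟩
    · rintro ⟨d, rfl⟩; exact ⟨d, by simp [μ, mul_comm]⟩
  have hinj : Injective (μ.rTensor N) := by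
    rw [← LinearMap.lTensor_inj_iff_rTensor_inj]
    exact LinearMap.lTensor_injective_of_exact_of_flat π hπ μ hμinj hex N
  have hμ : ∀ w : B ⊗[A] N, (μ.rTensor N) w = (t ^ n) • w := by
    intro w
    induction w using TensorProduct.induction_on with
    | zero => simp
    | tmul c i => simp [μ, TensorProduct.smul_tmul']
    | add x y hx hy => rw [map_add, hx, hy, smul_add]
  apply hinj
  rw [hμ, hc', map_zero]


theorem flat_appLE_of_flat_ι_comp {X S : Scheme.{u}} (f : X ⟶ S) (U : S.affineOpens) (D : X.affineOpens)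
    (e : D.1 ≤ f ⁻¹ᵁ U.1) (h1 : Flat (D.1.ι ≫ f)) : (f.appLE U.1 D.1 e).hom.Flat := by
  have h2 : Flat (f.resLE U.1 D.1 e) := by
    apply MorphismProperty.of_postcomp (W := @Flat) (W' := @IsOpenImmersion) _ U.1.ι inferInstance
    rw [Scheme.Hom.resLE_comp_ι]; exact h1
  have : IsAffine U.1.toScheme := U.2
  have : IsAffine D.1.toScheme := D.2
  have h3 := Scheme.Hom.flat_appTop (f.resLE U.1 D.1 e)
  rw [Scheme.Hom.appTop, Scheme.Hom.resLE_app_top] at h3
  rw [CommRingCat.hom_comp, RingHom.Flat.respectsIso.cancel_left_isIso, CommRingCat.hom_comp,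
    RingHom.Flat.respectsIso.cancel_right_isIso] at h3
  exact h3

/-- Let f : X ⟶ S be a morphism of schemes and 𝓘 the ideal sheaf of an effective Cartier divisor D ⊆ X
with D flat over S (a relative effective Cartier divisor). If f is flat at every point of X not in
D, then f is flat. -/
theorem result {X S : Scheme.{u}} (f : X ⟶ S) (𝓘 : X.IdealSheafData)
    (hD : BlowUp.IsEffCartierIdeal 𝓘 ∧ Flat (𝓘.subschemeι ≫ f))
    (hflat : ∀ x : ↥X, x ∉ 𝓘.support → (f.stalkMap x).hom.Flat) : Flat f := by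
  obtain ⟨hc, hf⟩ := hD
  apply Flat.of_stalkMap
  intro x
  by_cases hxsupp : x ∈ 𝓘.support
  swap
  · exact hflat x hxsupp
  obtain ⟨_, ⟨U, hU, rfl⟩, hfxU, -⟩ :=
    S.isBasis_affineOpens.exists_subset_of_mem_open (Set.mem_univ (f x)) isOpen_univ
  obtain ⟨W, hxW, hWU, g, hg, e⟩ := exists_le_of_isEffCartier 𝓘 hc x (f ⁻¹ᵁ U) hfxU
  have k := flat_quot_of_flat f 𝓘 ⟨U, hU⟩ W hWU
  rw [e] at k
  -- flatness over the basic open
  have hDg : X.basicOpen g ≤ 𝓘.support.compl := by
    rw [← Groth.Agent.S1571.compl_inf_eq_basicOpen 𝓘 W g e]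
    exact inf_le_left
  have hgU : X.basicOpen g ≤ f ⁻¹ᵁ U := (X.basicOpen_le g).trans hWU
  have hflatι : Flat ((X.basicOpen g).ι ≫ f) := by
    apply Flat.of_stalkMap
    intro y
    rw [Scheme.Hom.stalkMap_comp]
    exact RingHom.Flat.comp (hflat _ (hDg y.2)) (Flat.stalkMap (X.basicOpen g).ι y)
  have hBg : (f.appLE U (X.basicOpen g) hgU).hom.Flat :=
    flat_appLE_of_flat_ι_comp f ⟨U, hU⟩ (X.affineBasicOpen g) hgU hflatι
  have hB : (f.appLE U W.1 hWU).hom.Flat := by
    let _ := (f.appLE U W.1 hWU).hom.toAlgebra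
    let _ := (f.appLE U (X.basicOpen g) hgU).hom.toAlgebra
    have hloc := W.2.isLocalization_basicOpen g
    have htower : IsScalarTower Γ(S, U) Γ(X, W.1) Γ(X, X.basicOpen g) := by
      apply IsScalarTower.of_algebraMap_eq
      intro a
      have := Scheme.Hom.appLE_map f hWU (homOfLE (X.basicOpen_le g)).op
      have h := congrArg (fun φ => φ.hom a) this
      exact h.symm
    have h1 : Module.Flat Γ(S, U) (Γ(X, W.1) ⧸ Ideal.span {g}) := (ringHomFlat_quot_iff _ _).mp k
    have h2 : Module.Flat Γ(S, U) Γ(X, X.basicOpen g) := hBg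
    exact flat_of_flat_quot_of_flat_away (A := Γ(S, U)) (B := Γ(X, W.1))
      (Bt := Γ(X, X.basicOpen g)) g hg
  -- pass to stalks
  let _ := X.presheaf.algebra_section_stalk ⟨x, hxW⟩
  have hlocB := W.2.isLocalization_stalk ⟨x, hxW⟩
  let _ := S.presheaf.algebra_section_stalk ⟨f x, hfxU⟩
  have hlocA := hU.isLocalization_stalk ⟨f x, hfxU⟩
  apply Groth.Agent.S1701.flat_of_comp_localization (hU.primeIdealOf ⟨f x, hfxU⟩).asIdeal.primeCompl
  have hnat : (f.stalkMap x).hom.comp (algebraMap Γ(S, U) (S.presheaf.stalk (f x))) =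
      (algebraMap Γ(X, W.1) (X.presheaf.stalk x)).comp (f.appLE U W.1 hWU).hom := by
    ext a
    simp only [RingHom.comp_apply, RingHom.algebraMap_toAlgebra]
    erw [Scheme.Hom.germ_stalkMap_apply]
    simp only [Scheme.Hom.appLE, homOfLE_leOfHom, CommRingCat.hom_comp, RingHom.coe_comp,
      Function.comp_apply]
    erw [X.presheaf.germ_res_apply]
  rw [hnat]
  exact RingHom.Flat.comp hB (RingHom.flat_algebraMap_iff.mpr
    (IsLocalization.flat (X.presheaf.stalk x) (W.2.primeIdealOf ⟨x, hxW⟩).asIdeal.primeCompl))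

end Groth.Agent.S8849
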