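import Groth.Statements.S8853
import Mathlib
import Groth.Agent.S1571

set_option autoImplicit false
universe u
open CategoryTheory CategoryTheory.Limits AlgebraicGeometry TopologicalSpace
open SDiv

namespace Groth.Agent.S8853

/-- Let Z be a locally principal closed subscheme of a scheme S, with ideal sheaf 𝓘 generated by a
single section on some affine open neighbourhood of each point of its support, and let U be the open
complement of Z. Then the inclusion U ⟶ S is an affine morphism. -/
theorem result {S : Scheme.{u}} (𝓘 : S.IdealSheafData) (h : Curv2.IsLocPrincipal 𝓘) :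
    IsAffineHom (Scheme.Opens.ι 𝓘.support.compl) := by
  set U : S.Opens := 𝓘.support.compl with hU
  apply isAffineHom_of_forall_exists_isAffineOpen
  intro x
  by_cases hx : x ∈ 𝓘.support
  · obtain ⟨V, hxV, g, hg⟩ := h x hx
    refine ⟨V.1, hxV, V.2, ?_⟩
    rw [← U.ι.isAffineOpen_iff_of_isOpenImmersion, Scheme.Hom.image_preimage_eq_opensRange_inf,
      Scheme.Opens.opensRange_ι, Groth.Agent.S1571.compl_inf_eq_basicOpen 𝓘 V g hg]
    exact V.2.basicOpen g
  · have hxU : x ∈ U := hx
    obtain ⟨_, ⟨V, hV, rfl⟩, hxV, hVU⟩ :=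
      S.isBasis_affineOpens.exists_subset_of_mem_open hxU U.2
    refine ⟨V, hxV, hV, ?_⟩
    rw [← U.ι.isAffineOpen_iff_of_isOpenImmersion, Scheme.Hom.image_preimage_eq_opensRange_inf,
      Scheme.Opens.opensRange_ι]
    have : U ⊓ V = V := inf_eq_right.mpr hVU
    rw [this]
    exact hV

end Groth.Agent.S8853
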