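import Groth.Statements.S8854
import Mathlib

set_option autoImplicit false
universe u
open SDiv

namespace Groth.Agent.S8854

/-- Let R be a Noetherian unique factorisation domain and I ⊆ R an ideal such that every associated
prime of R/I is minimal over I (R/I has no embedded primes) and every prime minimal over I has
height 1. Then I is principal: it is generated by one element. -/
theorem result (R : Type u) [CommRing R] [IsDomain R] [IsNoetherianRing R]
    [UniqueFactorizationMonoid R] (I : Ideal R)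
    (h1 : ∀ p : Ideal R, p ∈ associatedPrimes R (R ⧸ I) → p ∈ I.minimalPrimes)
    (h2 : ∀ p : Ideal R, p ∈ I.minimalPrimes → p.height = 1) :
    ∃ f : R, I = Ideal.span {f} := by
  by_cases hI0 : I = ⊥
  · exact ⟨0, by simp [hI0]⟩
  let S : Set (Ideal R) := {J | ∃ d : R, I = Ideal.span {d} * J}
  have hS : S.Nonempty := ⟨I, 1, by simp⟩
  obtain ⟨J, ⟨d, hd⟩, hmax⟩ := (wellFounded_gt (α := Ideal R)).has_min S hS
  have hd0 : d ≠ 0 := by
    rintro rfl
    apply hI0
    rw [hd]
    simp
  have hJ0 : J ≠ ⊥ := by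
    rintro rfl
    apply hI0
    rw [hd]
    simp
  by_cases hJ : J = ⊤
  · exact ⟨d, by rw [hd, hJ, Ideal.mul_top]⟩
  exfalso
  have : Nontrivial (R ⧸ J) := Ideal.Quotient.nontrivial_iff.mpr hJ
  obtain ⟨p, hp⟩ := associatedPrimes.nonempty R (R ⧸ J)
  -- the injective linear map `R/J → R/I` induced by multiplication by `d`
  have hle : J ≤ Submodule.comap (LinearMap.mulLeft R d) I := by
    intro j hj
    rw [Submodule.mem_comap, LinearMap.mulLeft_apply, hd]
    exact Ideal.mul_mem_mul (Ideal.mem_span_singleton_self d) hj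
  let φ : (R ⧸ J) →ₗ[R] (R ⧸ I) := Submodule.mapQ J I (LinearMap.mulLeft R d) hle
  have hφ : Function.Injective φ := by
    rw [← LinearMap.ker_eq_bot, LinearMap.ker_eq_bot']
    intro x hx
    obtain ⟨r, rfl⟩ := Submodule.Quotient.mk_surjective _ x
    have hx' : d * r ∈ I := by
      have : φ (Submodule.Quotient.mk r) = Submodule.Quotient.mk (d * r) := rfl
      rw [this, Submodule.Quotient.mk_eq_zero] at hx
      exact hx
    rw [hd, Ideal.mem_span_singleton_mul] at hx'
    obtain ⟨z, hz, hdz⟩ := hx'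
    have : z = r := mul_left_cancel₀ hd0 hdz
    rw [Submodule.Quotient.mk_eq_zero]
    exact this ▸ hz
  have hpI : p ∈ associatedPrimes R (R ⧸ I) := associatedPrimes.subset_of_injective hφ hp
  have hpmin := h1 p hpI
  have hph := h2 p hpmin
  have hpprime : p.IsPrime := hp.isPrime
  have hJp : J ≤ p := by
    have := hp.annihilator_le
    rwa [Submodule.annihilator_top, Ideal.annihilator_quotient] at this
  have hpn : p ≠ ⊥ := p.ne_bot_of_height_eq_one hph
  obtain ⟨π, hπmem, hπ⟩ := Ideal.IsPrime.exists_mem_prime_of_ne_bot hpprime hpn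
  have hpeq : p = Ideal.span {π} := p.eq_span_singleton_of_height_eq_one hph hπmem hπ
  let J' : Ideal R := Submodule.comap (LinearMap.mulLeft R π) J
  have hJ'mem : ∀ x, x ∈ J' ↔ π * x ∈ J := fun x => Iff.rfl
  have hJJ' : J = Ideal.span {π} * J' := by
    apply le_antisymm
    · intro j hj
      have hjp : j ∈ Ideal.span {π} := hpeq ▸ hJp hj
      rw [Ideal.mem_span_singleton'] at hjp
      obtain ⟨a, ha⟩ := hjp
      rw [Ideal.mem_span_singleton_mul]
      refine ⟨a, ?_, by rw [mul_comm]; exact ha⟩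
      rw [hJ'mem, mul_comm, ha]
      exact hj
    · intro x hx
      rw [Ideal.mem_span_singleton_mul] at hx
      obtain ⟨z, hz, rfl⟩ := hx
      exact hz
  have hJ'S : J' ∈ S := by
    refine ⟨d * π, ?_⟩
    rw [← Ideal.span_singleton_mul_span_singleton, mul_assoc, ← hJJ']
    exact hd
  have hJleJ' : J ≤ J' := fun j hj => J.mul_mem_left π hj
  have hJeq : J = J' := eq_of_le_of_not_lt hJleJ' (fun hlt => hmax J' hJ'S hlt)
  have hnak : J ≤ Ideal.span {π} • J := by
    conv_lhs => rw [hJJ', ← hJeq]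
    exact le_of_eq rfl
  obtain ⟨r, hr1, hr2⟩ := Submodule.exists_sub_one_mem_and_smul_eq_zero_of_fg_of_le_smul
    (Ideal.span {π}) J (IsNoetherian.noetherian J) hnak
  obtain ⟨n, hnJ, hn0⟩ := Submodule.exists_mem_ne_zero_of_ne_bot hJ0
  have hrn := hr2 n hnJ
  rw [smul_eq_mul, mul_eq_zero] at hrn
  have hr0 : r = 0 := hrn.resolve_right hn0
  rw [hr0, zero_sub, Ideal.neg_mem_iff, Ideal.mem_span_singleton] at hr1
  exact hπ.not_isUnit (isUnit_of_dvd_one hr1)

end Groth.Agent.S8854
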