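import Groth.Statements.S8861
import Mathlib
import Groth.Agent.Helper9.IdealComap
import Groth.Agent.S1571
import Groth.Agent.Lead.WeakAss

set_option autoImplicit false
universe u
open CategoryTheory CategoryTheory.Limits AlgebraicGeometry TopologicalSpace
open SDiv

namespace Groth.Agent.S8861

/-- Let f : X ⟶ Y be a morphism of schemes and 𝓘 the ideal sheaf of an effective Cartier divisor D ⊆ Y.
If f x ∉ D for every weakly associated point x of X (weakly associated point of the structure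
sheaf), then the inverse image ideal sheaf of 𝓘 on X is the ideal of an effective Cartier divisor,
i.e. the pullback of D by f is defined. -/
theorem result {X Y : Scheme.{u}} (f : X ⟶ Y) (𝓘 : Y.IdealSheafData)
    (hD : BlowUp.IsEffCartierIdeal 𝓘)
    (h : ∀ x : ↥X, Curv2.IsWeakAssPoint (Coh.structureModule X) x → f x ∉ 𝓘.support) :
    BlowUp.IsEffCartierIdeal (𝓘.comap f) := by
  intro x
  obtain ⟨W', hxW', t, ht, eE⟩ := hD (f x)
  obtain ⟨_, ⟨V, hV, rfl⟩, hxV, hVW⟩ := X.isBasis_affineOpens.exists_subset_of_mem_open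
    (show x ∈ f ⁻¹ᵁ W'.1 from hxW') (f ⁻¹ᵁ W'.1).2
  have hg : (𝓘.comap f).ideal ⟨V, hV⟩ = Ideal.span {(f.appLE W'.1 V hVW).hom t} := by
    rw [Groth.Agent.Helper9.IdealComap.ideal_comap f 𝓘 W' ⟨V, hV⟩ hVW, eE, Ideal.map_span,
      Set.image_singleton]
  refine ⟨⟨V, hV⟩, hxV, (f.appLE W'.1 V hVW).hom t, ?_, hg⟩
  set g := (f.appLE W'.1 V hVW).hom t with hgdef
  apply Groth.Agent.Lead.WeakAss.nzd_of_forall_weakAss hV g
  intro ξ hξV hw
  rw [← Groth.Agent.S1571.compl_inf_eq_basicOpen (𝓘.comap f) ⟨V, hV⟩ g hg]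
  refine ⟨?_, hξV⟩
  change ξ ∉ (𝓘.comap f).support
  rw [Scheme.IdealSheafData.support_comap]
  exact h ξ hw

end Groth.Agent.S8861
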