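import Groth.Statements.S8865
import Mathlib
import Groth.Agent.Lead.EffCartier

set_option autoImplicit false
universe u
open CategoryTheory CategoryTheory.Limits AlgebraicGeometry TopologicalSpace
open SDiv

namespace Groth.Agent.S8865

theorem mk_pow {R : Type u} [CommRing R] {S : Submonoid R} (r : R) (n : ℕ) :
    (LocalizedModule.mk r (1 : S) : Localization S) ^ n = LocalizedModule.mk (r ^ n) (1 : S) := by
  induction n with
  | zero =>
    rw [pow_zero, pow_zero]
    exact (Mero.mk_self_eq_one (1 : S)).symm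
  | succ n ih =>
    rw [pow_succ, ih, pow_succ]
    exact LocalizedModule.mk_mul_mk.trans (Mero.mk_congr rfl (by rw [one_mul]))

theorem mk_eq_zero_of_nzd {R : Type u} [CommRing R] {S : Submonoid R} (hS : S ≤ nonZeroDivisors R)
    (r : R) (s : S) (h : (LocalizedModule.mk r s : Localization S) = 0) : r = 0 := by
  rw [← LocalizedModule.zero_mk (1 : S), LocalizedModule.mk_eq] at h
  obtain ⟨u, hu⟩ := h
  rw [smul_zero, smul_zero, one_smul, Submonoid.smul_def, smul_eq_mul] at hu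
  exact (mem_nonZeroDivisors_iff.mp (hS u.2)).1 _ hu

/-- local statement -/
theorem local_kill (X : Scheme.{u}) (h : Γ(X, ⊤)) (f : Γ(Mero.kmod X, ⊤))
    (hf : ∀ (y : X) (_ : y ∈ X.basicOpen h), f.1 ⟨y, trivial⟩ = 0) (x : X) :
    ∃ (V : X.Opens) (_ : x ∈ V) (n : ℕ), ∀ (y : X) (_ : y ∈ V),
      (LocalizedModule.mk (X.presheaf.germ ⊤ y trivial h) (1 : Mero.regStalk X y) : Mero.KStalk X y) ^ n *
        f.1 ⟨y, trivial⟩ = 0 := by
  obtain ⟨V0, hxV0, i, a0, b0, hab⟩ := f.2 ⟨x, trivial⟩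
  obtain ⟨_, ⟨V, hV, rfl⟩, hxV, hVV0⟩ := X.isBasis_affineOpens.exists_subset_of_mem_open hxV0 V0.2
  set a : Γ(X, V) := X.presheaf.map (homOfLE hVV0).op a0 with ha
  set b : Γ(X, V) := X.presheaf.map (homOfLE hVV0).op b0.1 with hb
  have hbreg : b ∈ Mero.regSub X V := Mero.regSub_res (homOfLE hVV0) b0.2
  have hfy : ∀ (y : X) (hy : y ∈ V), f.1 ⟨y, trivial⟩ =
      LocalizedModule.mk (X.presheaf.germ V y hy a) (Mero.regGerm ⟨y, hy⟩ ⟨b, hbreg⟩) := by
    intro y hy
    have := hab ⟨y, hVV0 hy⟩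
    dsimp only at this
    refine Eq.trans ?_ (this.trans (Mero.mk_congr ?_ ?_))
    · rfl
    · exact (TopCat.Presheaf.germ_res_apply X.presheaf (homOfLE hVV0) y hy a0).symm
    · exact (TopCat.Presheaf.germ_res_apply X.presheaf (homOfLE hVV0) y hy b0.1).symm
  set h' : Γ(X, V) := X.presheaf.map (homOfLE (le_top : V ≤ ⊤)).op h with hh'
  have hbo : X.basicOpen h' = V ⊓ X.basicOpen h := X.basicOpen_res h (homOfLE (le_top : V ≤ ⊤)).op
  -- a vanishes on basicOpen h'
  have hares : X.presheaf.map (homOfLE (X.basicOpen_le h')).op a = 0 := by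
    apply Groth.Agent.Lead.EffCartier.section_eq_zero
    intro y hy
    have hy2 : y ∈ V ⊓ X.basicOpen h := hbo ▸ hy
    rw [TopCat.Presheaf.germ_res_apply X.presheaf (homOfLE (X.basicOpen_le h')) y hy a]
    have h0 := hf y hy2.2
    rw [hfy y hy2.1] at h0
    exact mk_eq_zero_of_nzd (Mero.regStalk_le_nonZeroDivisors y) _ _ h0
  have hloc := hV.isLocalization_basicOpen h'
  have hares' : algebraMap Γ(X, V) Γ(X, X.basicOpen h') a = 0 := hares
  rw [IsLocalization.map_eq_zero_iff (Submonoid.powers h')] at hares'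
  obtain ⟨⟨_, n, rfl⟩, hn⟩ := hares'
  refine ⟨V, hxV, n, fun y hy => ?_⟩
  rw [hfy y hy, mk_pow]
  refine LocalizedModule.mk_mul_mk.trans ?_
  have : X.presheaf.germ ⊤ y trivial h ^ n * X.presheaf.germ V y hy a = 0 := by
    have e : X.presheaf.germ ⊤ y trivial h = X.presheaf.germ V y hy h' :=
      (TopCat.Presheaf.germ_res_apply X.presheaf (homOfLE (le_top : V ≤ ⊤)) y hy h).symm
    rw [e, ← map_pow, ← map_mul]
    change X.presheaf.germ V y hy (h' ^ n * a) = 0
    have hn' : h' ^ n * a = 0 := hn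
    rw [hn', map_zero]
  rw [this]
  exact LocalizedModule.zero_mk _

/-- Let X be a quasi-compact scheme, h a global section of O_X and f a global section of the sheaf of
meromorphic functions K_X whose restriction to the open X_h where h is invertible vanishes. Then h^n
f = 0 in K_X(X) for some natural number n. -/
theorem result (X : Scheme.{u}) [CompactSpace ↥X] (h : Γ(X, ⊤))
    (f : Γ(Mero.kmod X, ⊤)) (hf : (Mero.kmod X).presheaf.map (homOfLE (le_top : X.basicOpen h ≤ ⊤)).op f = 0) :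
    ∃ n : ℕ, Mero.toK X ⊤ h ^ n * f = 0 := by
  have hf' : ∀ (y : X) (hy : y ∈ X.basicOpen h), f.1 ⟨y, trivial⟩ = 0 := by
    intro y hy
    have := congrArg (fun g : Γ(Mero.kmod X, X.basicOpen h) => g.1 ⟨y, hy⟩) hf
    exact this
  choose V hxV n hn using local_kill X h f hf'
  obtain ⟨t, ht⟩ := CompactSpace.elim_nhds_subcover (fun x => (V x : Set X))
    (fun x => (V x).2.mem_nhds (hxV x))
  refine ⟨t.sup n, ?_⟩
  apply Subtype.ext
  funext y
  change Mero.evalK X ⊤ y (Mero.toK X ⊤ h ^ t.sup n * f) = 0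
  rw [map_mul, map_pow]
  have hy : (y : X) ∈ ⋃ x ∈ t, (V x : Set X) := by rw [ht]; trivial
  simp only [Set.mem_iUnion] at hy
  obtain ⟨x, hxt, hyx⟩ := hy
  have hle : n x ≤ t.sup n := Finset.le_sup hxt
  obtain ⟨k, hk⟩ := Nat.exists_eq_add_of_le hle
  rw [hk, pow_add, mul_comm (_ ^ n x), mul_assoc]
  have := hn x y.1 hyx
  change _ * (LocalizedModule.mk (X.presheaf.germ ⊤ y.1 y.2 h) 1 ^ n x * f.1 y) = 0
  rw [show f.1 y = f.1 ⟨y.1, trivial⟩ from rfl, this, mul_zero]

end Groth.Agent.S8865
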