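import Groth.Statements.S8870
import Groth.Agent.Helper4.AssExact
import Mathlib

set_option autoImplicit false
universe u
open CategoryTheory CategoryTheory.Limits AlgebraicGeometry TopologicalSpace
open SDiv

namespace Groth.Agent.S8870


/-- Let X be a scheme and 0 → F₁ → F₂ → F₃ → 0 a short exact sequence of quasi-coherent O_X-modules.
Then WeakAss(F₂) ⊆ WeakAss(F₁) ∪ WeakAss(F₃) and WeakAss(F₁) ⊆ WeakAss(F₂). -/
theorem result (X : Scheme.{u}) (S : ShortComplex X.Modules) (hS : S.ShortExact)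
    (h₁ : Coh.IsQCoh S.X₁) (h₂ : Coh.IsQCoh S.X₂) (h₃ : Coh.IsQCoh S.X₃) :
    (∀ x : ↥X, Curv2.IsWeakAssPoint S.X₂ x → Curv2.IsWeakAssPoint S.X₁ x ∨ Curv2.IsWeakAssPoint S.X₃ x) ∧
      (∀ x : ↥X, Curv2.IsWeakAssPoint S.X₁ x → Curv2.IsWeakAssPoint S.X₂ x) := by

  haveI := hS.mono_f
  constructor
  · intro x hx
    rw [← Groth.Agent.Helper4.AssDict.isAssPoint_iff_isWeakAssPoint] at hx ⊢
    rw [← Groth.Agent.Helper4.AssDict.isAssPoint_iff_isWeakAssPoint]
    exact Groth.Agent.Helper4.AssExact.isAssPoint_of_exact S hS.exact x hx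
  · intro x hx
    rw [← Groth.Agent.Helper4.AssDict.isAssPoint_iff_isWeakAssPoint] at hx ⊢
    exact Groth.Agent.Helper4.AssExact.isAssPoint_of_mono S.f x hx

end Groth.Agent.S8870
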