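import Groth.Statements.S8898
import Mathlib
import Groth.Agent.S1683

set_option autoImplicit false
universe u
open CategoryTheory CategoryTheory.Limits AlgebraicGeometry TopologicalSpace
open SDiv

namespace Groth.Agent.S8898

open Groth.Agent.Lead.EffCartier Groth.Agent.Helper9.IdealComap Groth.Agent.S1683

/-- pulling back a nonzerodivisor along a blow-up, on an affine chart where the exceptional ideal is
principal, gives a nonzerodivisor. -/
theorem nzd_appLE_of_blowUp {X' X'' : Scheme.{u}} (𝓙' : X'.IdealSheafData) (b' : X'' ⟶ X')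
    (hb' : BlowUp.IsBlowUp b' 𝓙') (W' : X'.affineOpens) (V : X''.affineOpens)
    (hVW : V.1 ≤ b' ⁻¹ᵁ W'.1) (s : Γ(X'', V.1)) (hs : s ∈ nonZeroDivisors Γ(X'', V.1))
    (eJ : (𝓙'.comap b').ideal V = Ideal.span {s})
    (t : Γ(X', W'.1)) (ht : t ∈ nonZeroDivisors Γ(X', W'.1)) :
    (b'.appLE W'.1 V.1 hVW).hom t ∈ nonZeroDivisors Γ(X'', V.1) := by
  have hDs : X''.basicOpen s ≤ b' ⁻¹ᵁ 𝓙'.support.compl := by
    rw [← Groth.Agent.S1571.compl_inf_eq_basicOpen (𝓙'.comap b') V s eJ]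
    intro z hz
    have hz1 : z ∉ (𝓙'.comap b').support := hz.1
    rw [Scheme.IdealSheafData.support_comap] at hz1
    exact hz1
  have hDW : X''.basicOpen s ≤ b' ⁻¹ᵁ W'.1 := (X''.basicOpen_le s).trans hVW
  have hflat := flat_appLE_of_le_compl_support 𝓙' b' hb' W' (X''.affineBasicOpen s) hDW hDs
  have hnzd := Groth.Agent.S1680.nzd_of_flat _ hflat t ht
  have := V.2.isLocalization_basicOpen s
  have hinj : Function.Injective (algebraMap Γ(X'', V.1) Γ(X'', X''.basicOpen s)) :=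
    IsLocalization.injective (M := Submonoid.powers s) Γ(X'', X''.basicOpen s)
      (Submonoid.powers_le.mpr hs)
  rw [mem_nonZeroDivisors_iff_right]
  intro z hz
  apply hinj
  rw [map_zero]
  apply (mem_nonZeroDivisors_iff_right.mp hnzd)
  have hcomp : (b'.appLE W'.1 (X''.basicOpen s) hDW).hom t =
      algebraMap Γ(X'', V.1) Γ(X'', X''.basicOpen s) ((b'.appLE W'.1 V.1 hVW).hom t) := by
    have := Scheme.Hom.appLE_map b' hVW (homOfLE (X''.basicOpen_le s)).op
    rw [← this]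
    rfl
  change algebraMap Γ(X'', V.1) Γ(X'', X''.basicOpen s) z *
    (b'.appLE W'.1 (X''.basicOpen s) hDW).hom t = 0
  rw [hcomp, ← map_mul, hz, map_zero]

/-- a germwise regular section restricts to a nonzerodivisor on any smaller open. -/
theorem nzd_res_of_regSub {X : Scheme.{u}} (U W : X.Opens) (hWU : W ≤ U) (s : Γ(X, U))
    (hs : s ∈ Mero.regSub X U) :
    X.presheaf.map (homOfLE hWU).op s ∈ nonZeroDivisors Γ(X, W) := by
  rw [mem_nonZeroDivisors_iff_right]
  intro c hc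
  apply section_eq_zero
  intro x hxW
  have h1 := hs ⟨x, hWU hxW⟩
  have h2 := congrArg (X.presheaf.germ W x hxW) hc
  rw [map_mul, map_zero] at h2
  have h3 : X.presheaf.germ W x hxW (X.presheaf.map (homOfLE hWU).op s) =
      X.presheaf.germ U x (hWU hxW) s := X.presheaf.germ_res_apply (homOfLE hWU) x hxW s
  rw [h3] at h2
  exact (mem_nonZeroDivisors_iff_right.mp h1) _ h2

/-- Let X be a scheme, 𝓘 a quasi-coherent ideal sheaf and b : X' ⟶ X a blowing up of X in 𝓘. Then the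
pullback b⁻¹D is defined for every effective Cartier divisor D ⊆ X (the inverse image ideal of the
ideal of D is again the ideal of an effective Cartier divisor), and pullbacks of meromorphic
functions are defined for b (b carries regular sections of O_X, i.e. sections whose germs are
nonzerodivisors, to regular sections of O_{X'}). -/
theorem result {X X' : Scheme.{u}} (𝓘 : X.IdealSheafData) (b : X' ⟶ X) (hb : BlowUp.IsBlowUp b 𝓘) :
    (∀ 𝓓 : X.IdealSheafData, BlowUp.IsEffCartierIdeal 𝓓 → BlowUp.IsEffCartierIdeal (𝓓.comap b)) ∧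
      ∀ (U : X.Opens) (s : Γ(X, U)), s ∈ Mero.regSub X U → b.app U s ∈ Mero.regSub X' (b ⁻¹ᵁ U) := by
  refine ⟨fun 𝓓 h𝓓 => isEffCartier_comap_blowUp 𝓘 b hb 𝓓 h𝓓, ?_⟩
  intro U s hs x
  obtain ⟨x, hxU⟩ := x
  -- affine `W ∋ b x` inside `U`
  obtain ⟨_, ⟨W, hW, rfl⟩, hbxW, hWU⟩ :=
    X.isBasis_affineOpens.exists_subset_of_mem_open (show b x ∈ (U : Set X) from hxU) U.2
  have hWU' : W ≤ U := hWU
  obtain ⟨V, hxV, hVW, τ, hτ, eJ⟩ :=
    exists_le_of_isEffCartier (𝓘.comap b) hb.1 x (b ⁻¹ᵁ W) hbxW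
  have hsW := nzd_res_of_regSub U W hWU' s hs
  have hσ := nzd_appLE_of_blowUp 𝓘 b hb ⟨W, hW⟩ V hVW τ hτ eJ _ hsW
  -- germ of σ at x
  let _ := X'.presheaf.algebra_section_stalk ⟨x, hxV⟩
  have hloc := V.2.isLocalization_stalk ⟨x, hxV⟩
  have hgermnzd : algebraMap Γ(X', V.1) (X'.presheaf.stalk x)
      ((b.appLE W V.1 hVW).hom (X.presheaf.map (homOfLE hWU').op s)) ∈
      nonZeroDivisors (X'.presheaf.stalk x) :=
    IsLocalization.map_nonZeroDivisors_le (V.2.primeIdealOf ⟨x, hxV⟩).asIdeal.primeCompl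
      (X'.presheaf.stalk x) (Submonoid.mem_map_of_mem _ hσ)
  have hVU : V.1 ≤ b ⁻¹ᵁ U := hVW.trans (fun z hz => hWU' hz)
  have heq : (b.appLE W V.1 hVW).hom (X.presheaf.map (homOfLE hWU').op s) =
      X'.presheaf.map (homOfLE hVU).op (b.app U s) := by
    have h1 := Scheme.Hom.map_appLE b hVW (homOfLE hWU').op
    have h2 : (X.presheaf.map (homOfLE hWU').op ≫ b.appLE W V.1 hVW) s =
        (b.appLE W V.1 hVW).hom (X.presheaf.map (homOfLE hWU').op s) := rfl
    rw [← h2, h1]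
    rfl
  rw [heq] at hgermnzd
  have h3 : X'.presheaf.germ V.1 x hxV (X'.presheaf.map (homOfLE hVU).op (b.app U s)) =
      X'.presheaf.germ (b ⁻¹ᵁ U) x hxU (b.app U s) :=
    X'.presheaf.germ_res_apply (homOfLE hVU) x hxV _
  rw [← h3]
  exact hgermnzd

end Groth.Agent.S8898
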