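import Groth.Statements.S8924
import Mathlib

set_option autoImplicit false
universe u v
open InjHull

namespace Groth.Agent.S8924


/-- For a submodule M of an R-module N, the inclusion of M into N is an essential injection if and only
if every nonzero element x of N has a multiple f • x which is a nonzero element of M. -/
theorem result (R : Type u) [CommRing R] (N : Type v) [AddCommGroup N] [Module R N] (M : Submodule R N) : InjHull.IsEssentialInj M.subtype ↔ ∀ x : N, x ≠ 0 → ∃ f : R, f • x ∈ M ∧ f • x ≠ 0 := by

  constructor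
  · intro h x hx
    have h1 : Submodule.span R {x} ≠ ⊥ := by
      intro hbot
      apply hx
      have : x ∈ Submodule.span R {x} := Submodule.mem_span_singleton_self x
      rw [hbot] at this
      exact (Submodule.mem_bot R).mp this
    have h2 := h.essential _ h1
    rw [Submodule.ne_bot_iff] at h2
    obtain ⟨y, hy, hy0⟩ := h2
    obtain ⟨hy1, hy2⟩ := Submodule.mem_inf.mp hy
    obtain ⟨f, rfl⟩ := Submodule.mem_span_singleton.mp hy1
    refine ⟨f, ?_, hy0⟩
    obtain ⟨m, hm⟩ := hy2
    rw [← hm]; exact m.2
  · intro h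
    refine ⟨Subtype.val_injective, ?_⟩
    intro P hP
    rw [Submodule.ne_bot_iff] at hP ⊢
    obtain ⟨x, hxP, hx0⟩ := hP
    obtain ⟨f, hfM, hf0⟩ := h x hx0
    refine ⟨f • x, Submodule.mem_inf.mpr ⟨P.smul_mem f hxP, ⟨⟨f • x, hfM⟩, rfl⟩⟩, hf0⟩

end Groth.Agent.S8924
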