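import Groth.Statements.S8927
import Mathlib

set_option autoImplicit false
universe u
open Disc

namespace Groth.Agent.S8927

/-- For a map A → B of Noetherian rings such that the localization B_q is flat over A for every
associated prime q of B, every nonzerodivisor of A maps to a nonzerodivisor of B. -/
theorem result (A B : Type u) [CommRing A] [CommRing B] [IsNoetherianRing A] [IsNoetherianRing B] [Algebra A B] (h3 : ∀ (q : Ideal B) [q.IsPrime], IsAssociatedPrime q B → Module.Flat A (Localization.AtPrime q)) : nonZeroDivisors A ≤ (nonZeroDivisors B).comap (algebraMap A B) := by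
  intro a ha
  rw [Submonoid.mem_comap, mem_nonZeroDivisors_iff_right]
  intro b hb
  by_contra hb0
  obtain ⟨q, hq, hle⟩ := exists_le_isAssociatedPrime_of_isNoetherianRing (R := B) b hb0
  have hqp : q.IsPrime := hq.isPrime
  have hflat := h3 q hq
  have hreg : IsSMulRegular A a := by
    rw [isSMulRegular_iff_right_eq_zero_of_smul]
    intro x hx
    exact (mem_nonZeroDivisors_iff_right.mp ha) x (by rw [mul_comm]; exact hx)
  have hreg' : IsSMulRegular (Localization.AtPrime q)
      (algebraMap A (Localization.AtPrime q) a) := hreg.of_flat
  have h0 : algebraMap A (Localization.AtPrime q) a • algebraMap B (Localization.AtPrime q) b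
      = 0 := by
    rw [IsScalarTower.algebraMap_apply A B (Localization.AtPrime q), smul_eq_mul, ← map_mul,
      mul_comm, hb, map_zero]
  have h1 : algebraMap B (Localization.AtPrime q) b = 0 := by
    apply hreg'
    simpa using h0
  rw [IsLocalization.map_eq_zero_iff q.primeCompl] at h1
  obtain ⟨s, hs⟩ := h1
  apply s.2
  apply hle
  rw [Submodule.mem_colon_singleton]
  simpa using hs

end Groth.Agent.S8927
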