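import Groth.Statements.S8928
import Groth.Agent.Helper4.FracFlat
import Mathlib

set_option autoImplicit false
universe u
open scoped TensorProduct
open Disc

namespace Groth.Agent.S8928


/-- Let A → B be a map of Noetherian rings such that nonzerodivisors of A map to nonzerodivisors of B
and Q(A) ⊗_A B is flat over the total ring of fractions Q(A). Then B_q is flat over A for every
associated prime q of B and for every prime q of B lying over an associated prime of A. -/
theorem result (A B : Type u) [CommRing A] [CommRing B] [IsNoetherianRing A] [IsNoetherianRing B] [Algebra A B] (h1 : nonZeroDivisors A ≤ (nonZeroDivisors B).comap (algebraMap A B)) (h2 : Module.Flat (FractionRing A) (FractionRing A ⊗[A] B)) : (∀ (q : Ideal B) [q.IsPrime], IsAssociatedPrime q B → Module.Flat A (Localization.AtPrime q)) ∧ (∀ (q : Ideal B) [q.IsPrime], IsAssociatedPrime (q.comap (algebraMap A B)) A → Module.Flat A (Localization.AtPrime q)) := by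

  refine ⟨fun q _ hq => ?_, fun q _ hq => ?_⟩
  · refine Groth.Agent.Helper4.FracFlat.flat_atPrime h2 q fun s hs hsq => ?_
    obtain ⟨hqp, x, hx⟩ := isAssociatedPrime_iff.mp hq
    have hx0 : x ≠ 0 := by
      rintro rfl
      apply hqp.ne_top
      rw [hx]
      ext r; simp [Submodule.mem_colon_singleton]
    rw [hx, Submodule.mem_colon_singleton, Submodule.mem_bot, smul_eq_mul] at hsq
    have hnzd : algebraMap A B s ∈ nonZeroDivisors B := h1 hs
    exact hx0 ((mem_nonZeroDivisors_iff.mp hnzd).1 x hsq)
  · refine Groth.Agent.Helper4.FracFlat.flat_atPrime h2 q fun s hs hsq => ?_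
    obtain ⟨hqp, x, hx⟩ := isAssociatedPrime_iff.mp hq
    have hx0 : x ≠ 0 := by
      rintro rfl
      apply hqp.ne_top
      rw [hx]
      ext r; simp [Submodule.mem_colon_singleton]
    have hsq' : s ∈ q.comap (algebraMap A B) := hsq
    rw [hx, Submodule.mem_colon_singleton, Submodule.mem_bot, smul_eq_mul] at hsq'
    exact hx0 ((mem_nonZeroDivisors_iff.mp hs).1 x hsq')

end Groth.Agent.S8928
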