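import Groth.Statements.S8936
import Mathlib

set_option autoImplicit false
universe u v
open InjHull

namespace Groth.Agent.S8936


/-- For a directed system (E_i) of R-modules over a nonempty directed preorder and a compatible family
of essential injections M → E_i, the induced map from M to the direct limit of the E_i is an
essential injection. -/
theorem result (R : Type u) [CommRing R] (ι : Type v) [Preorder ι] [IsDirectedOrder ι] [DecidableEq ι] (i₀ : ι) (E : ι → Type v) [∀ i, AddCommGroup (E i)] [∀ i, Module R (E i)] (f : ∀ i j, i ≤ j → E i →ₗ[R] E j) [DirectedSystem E fun i j h => f i j h] (M : Type v) [AddCommGroup M] [Module R M] (g : ∀ i, M →ₗ[R] E i) (hg : ∀ i j (h : i ≤ j), f i j h ∘ₗ g i = g j) (he : ∀ i, InjHull.IsEssentialInj (g i)) : InjHull.IsEssentialInj (Module.DirectLimit.of R ι E f i₀ ∘ₗ g i₀) := by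

  haveI : Nonempty ι := ⟨i₀⟩
  -- key: `of i (g i m) = 0 → m = 0`
  have hkey : ∀ (i : ι) (m : M), Module.DirectLimit.of R ι E f i (g i m) = 0 → m = 0 := by
    intro i m hm
    obtain ⟨j, hij, hj⟩ := Module.DirectLimit.of.zero_exact hm
    have : g j m = 0 := by
      rw [← hg i j hij]
      exact hj
    exact (he j).injective (by rw [this, map_zero])
  have hcompat : ∀ (i : ι) (m : M), Module.DirectLimit.of R ι E f i (g i m) =
      Module.DirectLimit.of R ι E f i₀ (g i₀ m) := by
    intro i m
    obtain ⟨j, h1, h2⟩ := exists_ge_ge i i₀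
    rw [← Module.DirectLimit.of_f (hij := h1), ← Module.DirectLimit.of_f (hij := h2)]
    congr 1
    have e1 : f i j h1 (g i m) = g j m := by rw [← hg i j h1]; rfl
    have e2 : f i₀ j h2 (g i₀ m) = g j m := by rw [← hg i₀ j h2]; rfl
    rw [e1, e2]
  refine ⟨?_, ?_⟩
  · rw [← LinearMap.ker_eq_bot, LinearMap.ker_eq_bot']
    intro m hm
    exact hkey i₀ m hm
  · intro N hN
    obtain ⟨z, hzN, hz0⟩ := (Submodule.ne_bot_iff N).mp hN
    obtain ⟨i, x, rfl⟩ := Module.DirectLimit.exists_of z
    have hx0 : x ≠ 0 := by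
      rintro rfl
      exact hz0 (map_zero _)
    -- the cyclic submodule generated by x meets the range of g i
    have hspan : Submodule.span R {x} ≠ ⊥ := by
      rw [Ne, Submodule.span_singleton_eq_bot]
      exact hx0
    obtain ⟨y, hy, hy0⟩ := (Submodule.ne_bot_iff _).mp ((he i).essential _ hspan)
    obtain ⟨hy1, ⟨m, rfl⟩⟩ := hy
    obtain ⟨r, hr⟩ := Submodule.mem_span_singleton.mp hy1
    have hm0 : m ≠ 0 := by
      rintro rfl
      exact hy0 (map_zero _)
    rw [Ne, Submodule.eq_bot_iff]
    intro hbot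
    have hmem : Module.DirectLimit.of R ι E f i₀ (g i₀ m) ∈
        N ⊓ LinearMap.range (Module.DirectLimit.of R ι E f i₀ ∘ₗ g i₀) := by
      refine ⟨?_, ⟨m, rfl⟩⟩
      rw [← hcompat i m, ← hr, map_smul]
      exact N.smul_mem r hzN
    have := hbot _ hmem
    rw [← hcompat i m] at this
    exact hm0 (hkey i m this)

end Groth.Agent.S8936
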