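import Groth.Statements.S8940
import Mathlib
import Groth.Agent.Helper9.CW3
-- import your own Groth.Agent.* helpers here

set_option autoImplicit false
universe u
open CategoryTheory
open LocCoh

namespace Groth.Agent.S8940

/-- Let A be a Noetherian ring of finite dimension, T ⊆ Spec A a specialization-stable subset whose
chains of primes have length at most e, (M_n) an inverse system of A-modules and i ≥ 0. If m′(m) ≥ m
is such that the maps H^i_{pA_p}(M_{k,p}) → H^i_{pA_p}(M_{m,p}) vanish for every p ∈ T and k ≥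
m′(m), then H^i_T(M_k) → H^i_T(M_m) vanishes for all k ≥ m″(m), m″ the 2^e-fold iterate of m′. (The
published statement uses exactly dim T; any bound e ≥ dim T gives the same conclusion since m′(m) ≥
m.) -/
theorem result (A : Type u) [CommRing A] [IsNoetherianRing A] (hA : ringKrullDim A < ⊤) (T : Set (PrimeSpectrum A)) (hT : StableUnderSpecialization T) (e : ℕ) (he : Order.krullDim ↥T ≤ (e : WithBot ℕ∞)) (M : ℕ → Type u) [∀ n, AddCommGroup (M n)] [∀ n, Module A (M n)] (φ : ∀ k m : ℕ, m ≤ k → (M k →ₗ[A] M m)) (hφ : ∀ (k l m : ℕ) (h₁ : m ≤ l) (h₂ : l ≤ k), φ k m (h₁.trans h₂) = φ l m h₁ ∘ₗ φ k l h₂) (i : ℕ) (m' : ℕ → ℕ) (hm' : ∀ m, m ≤ m' m) (hloc : ∀ (p : PrimeSpectrum A), p ∈ T → ∀ (m k : ℕ) (h : m ≤ k), m' m ≤ k → (localCohomology (IsLocalRing.maximalIdeal (Localization.AtPrime p.asIdeal)) i).map (ModuleCat.ofHom (LocalizedModule.map p.asIdeal.primeCompl (φ k m h))) = 0) (m k : ℕ) (h : m ≤ k) (hk : (m'^[2 ^ e]) m ≤ k) : (localCohomology.ofDiagram (Dual2.idealsInDiagram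 T) i).map (ModuleCat.ofHom (φ k m h)) = 0 := by
  apply ModuleCat.hom_ext
  apply LinearMap.ext
  intro ξ
  obtain ⟨J, hJ, ζ, rfl⟩ := Groth.Agent.Helper9.CW1.exists_rep_T T i _ ξ
  have hch : ∀ s : LTSeries (PrimeSpectrum.zeroLocus (J : Set A)), s.length < e + 1 := by
    intro s
    let s' : LTSeries T := s.map (Set.inclusion hJ) (fun a b hab => hab)
    have h1 : (s'.length : WithBot ℕ∞) ≤ (e : WithBot ℕ∞) :=
      (Order.LTSeries.length_le_krullDim s').trans he
    rw [LTSeries.map_length] at h1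
    have h2 : s.length ≤ e := by exact_mod_cast h1
    omega
  have hk' : (m'^[e + 1]) m ≤ k :=
    (Groth.Agent.Helper9.CW3.iterate_mono_count m' hm' (Nat.lt_two_pow_self (n := e)) m).trans hk
  have h0 := Groth.Agent.Helper9.CW3.lc_map_eq_zero M φ hφ i m' hm' T hloc (e + 1) J hJ hch m k h hk'
  have h1 := (Groth.Agent.Helper9.CW1.toT T J hJ i).naturality (ModuleCat.ofHom (φ k m h))
  have h2 := congrArg (fun t => t.hom ζ) h1
  simp only [ModuleCat.hom_comp, LinearMap.comp_apply] at h2
  rw [h0] at h2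
  simp only [ModuleCat.hom_zero, LinearMap.zero_apply, map_zero] at h2
  exact h2.symm

end Groth.Agent.S8940
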