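import Groth.Statements.S8987
import Groth.Agent.Helper4.SN394
import Groth.Agent.Helper4.SN395
import Groth.Agent.Helper4.SN396
import Groth.Agent.Helper4.NApx18

set_option autoImplicit false
universe u
open HTop

namespace Groth.Agent.S8987

open CategoryTheory CategoryTheory.Limits AlgebraicGeometry Opposite in
/-- An h sheaf on schemes over S turns every almost blow up square of S-schemes into a cartesian square
of sets of sections. -/
theorem result (S : Scheme.{u}) (F : HTop.ShH S) {E Z X' X : Over S} (e : E ⟶ X') (π : E ⟶ Z) (b : X' ⟶ X) (i : Z ⟶ X) (h : HTop.IsAlmostBlowUpSquare e.left π.left b.left i.left) (t : F.obj.obj (op Z)) (s' : F.obj.obj (op X')) (hts : F.obj.map π.op t = F.obj.map e.op s') : ∃! s : F.obj.obj (op X), F.obj.map i.op s = t ∧ F.obj.map b.op s = s' := by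
  haveI := h.isClosedImmersion
  haveI := h.finitePresentation_base
  haveI := h.isProper
  haveI := h.finitePresentation
  let U : X.left.Opens :=
    ⟨(Set.range i.left)ᶜ, i.left.isClosedEmbedding.isClosed_range.isOpen_compl⟩
  have hsupp : ∀ x : X.left, x ∈ (i.left.ker.support : Set X.left) ↔ x ∈ Set.range i.left := by
    intro x
    rw [Groth.Agent.Helper4.SN396.support_ker_of_isClosedImmersion]
  -- the blow-up `X'' ⟶ X` is an isomorphism over `U`
  have hiso1 : IsIso (((HTop.supportedOn (i.left.ker.comap b.left)).subschemeι ≫ b.left) ∣_ U) := by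
    apply Groth.Agent.Helper4.SN396.isIso_restrict_of_isBlowUp i.left.ker _ h.isBlowUp U
    intro x hx hx'
    exact hx ((hsupp x).mp hx')
  -- `b⁻¹ U` is the complement of the support of the inverse image ideal
  have hW : b.left ⁻¹ᵁ U = HTop.awayFrom (i.left.ker.comap b.left) := by
    ext x
    show b.left x ∈ (Set.range i.left)ᶜ ↔ x ∈ ((i.left.ker.comap b.left).support : Set X'.left)ᶜ
    rw [Scheme.IdealSheafData.support_comap]
    show _ ↔ ¬ (b.left x ∈ (i.left.ker.support : Set X.left))
    rw [hsupp]
    rfl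
  have hiso2 : IsIso ((HTop.supportedOn (i.left.ker.comap b.left)).subschemeι ∣_ (b.left ⁻¹ᵁ U)) := by
    rw [hW]
    exact Groth.Agent.Helper4.NApx18.isIso_imageι_restrict (HTop.awayFrom (i.left.ker.comap b.left))
  have hiso : IsIso (b.left ∣_ U) := by
    rw [morphismRestrict_comp] at hiso1
    exact @IsIso.of_isIso_comp_left _ _ _ _ _
      ((HTop.supportedOn (i.left.ker.comap b.left)).subschemeι ∣_ (b.left ⁻¹ᵁ U)) (b.left ∣_ U)
      hiso2 hiso1
  exact Groth.Agent.Helper4.SN394.main Groth.Agent.Helper4.SN395.pairCov_h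
    (fun _ hg => hg) F.obj ((isSheaf_iff_isSheaf_of_type _ _).mp F.cond) e π b i
    (inferInstanceAs (LocallyOfFinitePresentation b.left)) h.isPullback U rfl hiso t s' hts

end Groth.Agent.S8987
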