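import Groth.Statements.S8991
import Mathlib
import Groth.Agent.Lead.HCov

set_option autoImplicit false
universe u
open HTop

namespace Groth.Agent.S8991

open CategoryTheory CategoryTheory.Limits AlgebraicGeometry Opposite in
/-- A ph sheaf on schemes over S takes the same sections on an S-scheme and on any thickening of it. -/
theorem result (S : Scheme.{u}) (F : HTop.ShPh S) {X X' : Over S} (f : X ⟶ X') (hf : MoreMor.IsThickening f.left) : Function.Bijective (F.obj.map f.op) := by
  haveI := hf.1
  haveI := hf.2
  haveI : Mono f := (Over.forget S).mono_of_mono_map (inferInstanceAs (Mono f.left))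
  refine Groth.Agent.Lead.HCov.map_bijective_of_mono_of_mem (HTop.Jph S) F.obj
    ((isSheaf_iff_isSheaf_of_type _ _).mp F.cond) f ?_
  apply Groth.Agent.Lead.HCov.generate_singleton_mem_over
  have h := (HTop.presieve₀_mem_phPrecoverage_iff (PreZeroHypercover.singleton.{0} f.left)).mpr
    (Groth.Agent.Lead.HCov.isPhCover_singleton f.left)
  rw [PreZeroHypercover.presieve₀_singleton] at h
  exact h

end Groth.Agent.S8991
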