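import Groth.Statements.S8992
import Mathlib

set_option autoImplicit false
universe u
open HTop

namespace Groth.Agent.S8992


/-- An algebra over the prime field with p elements is absolutely weakly normal if and only if its p-th
power map is bijective (the algebra is perfect). -/
theorem result (p : ℕ) [Fact p.Prime] (A : Type u) [CommRing A] [Algebra (ZMod p) A] : HTop.IsAWNRing A ↔ PerfectRing A p := by

  have hp : p.Prime := Fact.out
  have hp0 : (p : A) = 0 := by
    have : (p : A) = algebraMap (ZMod p) A (p : ZMod p) := by rw [map_natCast]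
    rw [this, ZMod.natCast_self, map_zero]
  constructor
  · rintro ⟨_, h⟩
    refine ⟨?_⟩
    have hbij : ∀ x : A, ∃! a : A, a ^ p = x := by
      intro x
      have := h p hp x 0 (by rw [hp0, zero_pow hp.ne_zero, zero_mul])
      obtain ⟨a, ⟨ha, _⟩, huniq⟩ := this
      refine ⟨a, ha.symm, fun b hb => huniq b ⟨hb.symm, by rw [hp0, zero_mul]⟩⟩
    constructor
    · intro a b hab
      obtain ⟨c, _, hc⟩ := hbij (a ^ p)
      have hab' : b ^ p = a ^ p := hab.symm
      rw [hc a rfl, hc b hab']
    · intro x
      obtain ⟨a, ha, _⟩ := hbij x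
      exact ⟨a, ha⟩
  · rintro ⟨hinj, hsurj⟩
    have hinj' : ∀ a b : A, a ^ p = b ^ p → a = b := fun a b h => hinj h
    -- reducedness
    have hfrob : ∀ (k : ℕ) (a : A), a ^ (p ^ k) = 0 → a = 0 := by
      intro k
      induction k with
      | zero => intro a ha; simpa using ha
      | succ k ih =>
        intro a ha
        apply ih
        apply hinj'
        rw [← pow_mul, ← pow_succ, ha, zero_pow hp.ne_zero]
    have hred : ∀ (a : A) (n : ℕ), a ^ n = 0 → a = 0 := by
      intro a n han
      exact hfrob n a (pow_eq_zero_of_le (Nat.lt_pow_self hp.one_lt).le han)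
    refine ⟨?_, ?_⟩
    · intro x y hxy
      -- p = 2 i + 3 j
      obtain ⟨i, j, hij⟩ : ∃ i j : ℕ, p = 2 * i + 3 * j := by
        rcases Nat.even_or_odd' p with ⟨k, hk | hk⟩
        · exact ⟨k, 0, by lia⟩
        · have : 1 ≤ k := by
            by_contra hk0
            have : k = 0 := by lia
            subst this
            exact hp.one_lt.ne' (by lia)
          exact ⟨k - 1, 1, by lia⟩
      obtain ⟨a, ha⟩ := hsurj (x ^ i * y ^ j)
      have ha' : a ^ p = x ^ i * y ^ j := ha
      have h2 : a ^ 2 = x := by
        apply hinj'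
        rw [← pow_mul, mul_comm, pow_mul, ha', mul_pow, ← pow_mul, ← pow_mul, mul_comm j 2,
          pow_mul y 2 j, ← hxy, ← pow_mul, ← pow_add, hij]
        congr 1; ring
      have h3 : a ^ 3 = y := by
        apply hinj'
        rw [← pow_mul, mul_comm, pow_mul, ha', mul_pow, ← pow_mul, ← pow_mul, mul_comm i 3,
          pow_mul x 3 i, hxy, ← pow_mul, ← pow_add, hij]
        congr 1; ring
      refine ⟨a, ⟨h2.symm, h3.symm⟩, ?_⟩
      rintro b ⟨hb2, hb3⟩
      have : (b - a) ^ 3 = 0 := by
        have e : (b - a) ^ 3 = b ^ 3 - 3 * (b ^ 2) * a + 3 * b * (a ^ 2) - a ^ 3 := by ring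
        rw [e, ← hb3, ← hb2, h3, h2]
        have e2 : y - 3 * x * a + 3 * b * x - y = 3 * (b * x - x * a) := by ring
        rw [e2]
        have : b * x = x * a := by
          calc b * x = b * b ^ 2 := by rw [← hb2]
            _ = b ^ 3 := by ring
            _ = y := hb3.symm
            _ = a ^ 3 := h3.symm
            _ = a ^ 2 * a := by ring
            _ = x * a := by rw [h2]
        rw [this, sub_self, mul_zero]
      exact sub_eq_zero.mp (hred _ 3 this)
    · intro l hl x y hxy
      by_cases hlp : l = p
      · subst hlp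
        rw [hp0, zero_pow hp.ne_zero, zero_mul] at hxy
        have hy : y = 0 := hred y l hxy.symm
        obtain ⟨a, ha⟩ := hsurj x
        have ha' : a ^ l = x := ha
        refine ⟨a, ⟨ha'.symm, by rw [hy, hp0, zero_mul]⟩, ?_⟩
        rintro b ⟨hb, _⟩
        exact hinj' _ _ (hb.symm.trans ha'.symm)
      · have hunit : IsUnit (l : A) := by
          have h1 : IsUnit ((l : ZMod p)) := by
            rw [isUnit_iff_ne_zero]
            intro h0
            rw [ZMod.natCast_eq_zero_iff] at h0
            exact hlp ((Nat.prime_dvd_prime_iff_eq hp hl).mp h0).symm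
          have := h1.map (algebraMap (ZMod p) A)
          rwa [map_natCast] at this
        obtain ⟨u, hu⟩ := hunit.exists_left_inv
        refine ⟨u * y, ⟨?_, ?_⟩, ?_⟩
        · rw [mul_pow, ← hxy, ← mul_assoc, ← mul_pow, hu, one_pow, one_mul]
        · rw [← mul_assoc, mul_comm (l : A) u, hu, one_mul]
        · rintro b ⟨_, hb⟩
          rw [hb, ← mul_assoc, hu, one_mul]

end Groth.Agent.S8992
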