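import Groth.Statements.S9000
import Mathlib
import Groth.Agent.Helper9.PQF10
import Groth.Agent.Helper9.PQF18
import Groth.Agent.Helper9.PQF19
-- import your own Groth.Agent.* helpers here

set_option autoImplicit false
universe u
open FlatMor

namespace Groth.Agent.S9000

open IsLocalRing in
/-- For Spec B → Spec A of finite type, a finite B-module N and a prime p of A, an impurity of N above p
over an elementary etale neighbourhood of (A, p) yields an impurity of N above p over the
henselization of the local ring of A at p, based at its closed point. (The other implications of the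
published equivalence are separate results: from the henselization to an elementary etale
neighbourhood, and between elementary etale neighbourhoods and base rings quasi-finite at the
point.) -/
theorem result {A B : Type u} [CommRing A] [CommRing B] [Algebra A B] [Algebra.FiniteType A B] (N : Type u) [AddCommGroup N] [Module B N] [Module.Finite B N] (p : Ideal A) [p.IsPrime] (h : FlatCA.HasImpurity A B N p (fun A' _ _ t => ∃ _ : t.IsPrime, FlatCA.IsEtaleNhd A A' p t)) : FlatCA.HasImpurity A B N p (fun A' _ _ t => ∃ (_ : IsLocalRing A') (_ : Algebra (Localization.AtPrime p) A') (_ : IsScalarTower A (Localization.AtPrime p) A') (_ : IsLocalHom (algebraMap (Localization.AtPrime p) A')), Hensel.IsHenselization (Localization.AtPrime p) A' ∧ t = maximalIdeal A') := by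
  classical
  obtain ⟨A₁, B₁, N₁, _, _, _, _, _, _, _, _, _, _, _, _, _, _, f₁, t₁', t₁, _, _, P, _, himp,
    ⟨_, hnhd⟩⟩ := h
  have hle : t₁' ≤ t₁ := himp.2.2.1
  obtain ⟨i1, tw, t₂', ht₂'p, ht₂'le, ht₂'o, hmax⟩ :=
    Groth.Agent.Helper9.PQF19.exists_algebra_goingDown p t₁ hnhd t₁' hle
  obtain ⟨B₂, N₂, _, _, _, _, _, _, _, _, _, _, _, _, f₂, hpo₂, hf₂⟩ :=
    Groth.Agent.Helper9.PQF10.exists_model A B N (Groth.Agent.Helper9.PQF16.HA p)
  letI : Algebra A₁ B₂ := ((algebraMap (Groth.Agent.Helper9.PQF16.HA p) B₂).comp
    (algebraMap A₁ (Groth.Agent.Helper9.PQF16.HA p))).toAlgebra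
  haveI : IsScalarTower A₁ (Groth.Agent.Helper9.PQF16.HA p) B₂ :=
    IsScalarTower.of_algebraMap_eq (fun _ => rfl)
  have hmp := Groth.Agent.Helper9.PQF19.maximalIdeal_liesOver p
  obtain ⟨P₂, hP₂p, himp₂⟩ := Groth.Agent.Helper9.PQF18.exists_isImpurity_of_dominating p f₁ t₁' t₁ P
    hpo₂ f₂ hf₂ t₂' (IsLocalRing.maximalIdeal (Groth.Agent.Helper9.PQF16.HA p)) himp ht₂'le ht₂'o
    hmax hmp
  letI := Groth.Agent.Helper9.PQF16.algLoc p
  exact ⟨Groth.Agent.Helper9.PQF16.HA p, B₂, N₂, inferInstance, inferInstance, inferInstance,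
    inferInstance, inferInstance, inferInstance, inferInstance, inferInstance, inferInstance,
    inferInstance, inferInstance, inferInstance, inferInstance, inferInstance, f₂, t₂',
    IsLocalRing.maximalIdeal (Groth.Agent.Helper9.PQF16.HA p), ht₂'p, inferInstance, P₂, hP₂p,
    himp₂, ⟨inferInstance, Groth.Agent.Helper9.PQF16.algLoc p, inferInstance, inferInstance,
      Groth.Agent.Helper9.PQF16.isHenselization p, rfl⟩⟩

end Groth.Agent.S9000
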