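import Groth.Statements.S9007
import Mathlib

set_option autoImplicit false
universe u
open FlatMor

namespace Groth.Agent.S9007

open CategoryTheory CategoryTheory.Limits AlgebraicGeometry in
theorem result' {X S : Scheme.{u}} (p : X ⟶ S) {Y Y' : Scheme.{u}} (j : X ⟶ Y) (q : Y ⟶ S) [IsOpenImmersion j] [IsSeparated q] (h : j ≫ q = p) (j' : X ⟶ Y') (q' : Y' ⟶ S) [IsOpenImmersion j'] [IsSeparated q'] (h' : j' ≫ q' = p) (f : Y' ⟶ Y) (hf : f ≫ q = q') (hfj : j' ≫ f = j) (hd : Dense (Set.range j'.base)) : f ⁻¹ᵁ j.opensRange = j'.opensRange := by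
  haveI : IsSeparated (f ≫ q) := by rw [hf]; infer_instance
  haveI : IsSeparated f := IsSeparated.of_comp f q
  let V : Y'.Opens := f ⁻¹ᵁ j.opensRange
  let ρ : (V : Scheme) ⟶ X := (f ∣_ j.opensRange) ≫ j.isoOpensRange.inv
  have hρ : ρ ≫ j = V.ι ≫ f := by
    simp only [ρ, Category.assoc]
    have : j.isoOpensRange.inv ≫ j = j.opensRange.ι := by
      rw [Iso.inv_comp_eq]; exact (Scheme.Hom.isoOpensRange_hom_ι j).symm
    rw [this, morphismRestrict_ι]
  have hsub : Set.range j' ⊆ Set.range V.ι := by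
    rw [Scheme.Opens.range_ι]
    rintro _ ⟨x, rfl⟩
    show f (j' x) ∈ j.opensRange
    rw [← Scheme.Hom.comp_apply, hfj]
    exact ⟨x, rfl⟩
  let σ : X ⟶ V := IsOpenImmersion.lift V.ι j' hsub
  have hσ : σ ≫ V.ι = j' := IsOpenImmersion.lift_fac _ _ _
  have hσρ : σ ≫ ρ = 𝟙 X := by
    rw [← cancel_mono j, Category.assoc, hρ, ← Category.assoc, hσ, hfj, Category.id_comp]
  haveI : IsSeparated ρ := by
    simp only [ρ]; infer_instance
  haveI : IsClosedImmersion (σ ≫ ρ) := by rw [hσρ]; infer_instance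
  haveI : IsClosedImmersion σ := IsClosedImmersion.of_comp σ ρ
  have hclosed : IsClosed (Set.range σ) := σ.isClosedEmbedding.isClosed_range
  have hpre : V.ι ⁻¹' (Set.range j') = Set.range σ := by
    ext v
    constructor
    · rintro ⟨x, hx⟩
      refine ⟨x, ?_⟩
      apply V.ι.injective
      rw [← Scheme.Hom.comp_apply, hσ, hx]
    · rintro ⟨x, rfl⟩
      exact ⟨x, by rw [← hσ, Scheme.Hom.comp_apply]⟩
  have hdense : Dense (Set.range σ) := by
    rw [← hpre]
    exact hd.preimage V.ι.isOpenEmbedding.isOpenMap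
  have huniv : Set.range σ = Set.univ := by
    rw [← hclosed.closure_eq, hdense.closure_eq]
  apply le_antisymm
  · intro y hy
    have : (⟨y, hy⟩ : V) ∈ Set.range σ := by rw [huniv]; trivial
    obtain ⟨x, hx⟩ := this
    refine ⟨x, ?_⟩
    have := congrArg (fun v => V.ι v) hx
    simp only [← Scheme.Hom.comp_apply, hσ] at this
    exact this
  · rintro _ ⟨x, rfl⟩
    show f (j' x) ∈ j.opensRange
    rw [← Scheme.Hom.comp_apply, hfj]
    exact ⟨x, rfl⟩

open CategoryTheory CategoryTheory.Limits AlgebraicGeometry in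
/-- For a morphism f of compactifications of X over a quasi-compact quasi-separated S whose source
contains X as a dense open, the preimage under f of the image of X in the target is the image of X
in the source. -/
theorem result {X S : Scheme.{u}} [CompactSpace S] [QuasiSeparatedSpace S] (p : X ⟶ S) [IsSeparated p] [QuasiCompact p] [LocallyOfFiniteType p] {Y Y' : Scheme.{u}} (j : X ⟶ Y) (q : Y ⟶ S) [IsOpenImmersion j] [IsProper q] (h : j ≫ q = p) (j' : X ⟶ Y') (q' : Y' ⟶ S) [IsOpenImmersion j'] [IsProper q'] (h' : j' ≫ q' = p) (f : Y' ⟶ Y) (hf : f ≫ q = q') (hfj : j' ≫ f = j) (hd : Dense (Set.range j'.base)) : f ⁻¹ᵁ j.opensRange = j'.opensRange := by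
  exact result' p j q h j' q' h' f hf hfj hd

end Groth.Agent.S9007
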