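import Groth.Statements.S9008
import Mathlib

set_option autoImplicit false
universe u
open FlatMor

namespace Groth.Agent.S9008

/-- For Spec B → Spec A affine of finite type: a finite B-module is universally pure along the fibre
over a prime p of A exactly when every base change of it along a ring map A → A' is pure along the
fibre over every prime of A' above p. -/
theorem result {A B : Type u} [CommRing A] [CommRing B] [Algebra A B] [Algebra.FiniteType A B] (N : Type u) [AddCommGroup N] [Module B N] [Module.Finite B N] (p : Ideal A) [p.IsPrime] : FlatCA.IsUnivPureAlong A B N p ↔ ∀ (A' B' N' : Type u) [CommRing A'] [CommRing B'] [Algebra A A'] [Algebra B B'] [Algebra A' B'] [Algebra A B'] [IsScalarTower A B B'] [IsScalarTower A A' B'] [Algebra.IsPushout A B A' B'] [AddCommGroup N'] [Module B' N'] [Module B N'] [IsScalarTower B B' N'] (g : N →ₗ[B] N'), IsBaseChange B' g → ∀ (p' : Ideal A') [p'.IsPrime], p'.LiesOver p → FlatCA.IsPureAlong A' B' N' p' := by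
  constructor
  · intro hU A' B' N' _ _ _ _ _ _ _ _ hpo _ _ _ _ g hg p' _ hp'
    intro A'' B'' N'' _ _ _ _ _ _ _ _ _ _ _ _ _ _ f' t' t _ _ P _ hEt hImp
    obtain ⟨hpo2, hbc2, hle, hlies, hP, hass, hno⟩ := hImp
    letI iAA'' : Algebra A A'' := ((algebraMap A' A'').comp (algebraMap A A')).toAlgebra
    letI iBB'' : Algebra B B'' := ((algebraMap B' B'').comp (algebraMap B B')).toAlgebra
    letI iAB'' : Algebra A B'' := ((algebraMap A'' B'').comp (algebraMap A A'')).toAlgebra
    haveI t1 : IsScalarTower A A' A'' := IsScalarTower.of_algebraMap_eq (fun x => rfl)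
    haveI t2 : IsScalarTower B B' B'' := IsScalarTower.of_algebraMap_eq (fun x => rfl)
    haveI t3 : IsScalarTower A A'' B'' := IsScalarTower.of_algebraMap_eq (fun x => rfl)
    haveI t4 : IsScalarTower A B B'' := IsScalarTower.of_algebraMap_eq (fun x => by
      change algebraMap A'' B'' (algebraMap A' A'' (algebraMap A A' x)) =
        algebraMap B' B'' (algebraMap B B' (algebraMap A B x))
      rw [← IsScalarTower.algebraMap_apply A' A'' B'', IsScalarTower.algebraMap_apply A' B' B'',
        ← IsScalarTower.algebraMap_apply A A' B', IsScalarTower.algebraMap_apply A B B'])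
    haveI t5 : IsScalarTower A B' B'' := IsScalarTower.of_algebraMap_eq (fun x => by
      change algebraMap A'' B'' (algebraMap A' A'' (algebraMap A A' x)) =
        algebraMap B' B'' (algebraMap A B' x)
      rw [← IsScalarTower.algebraMap_apply A' A'' B'', IsScalarTower.algebraMap_apply A' B' B'',
        ← IsScalarTower.algebraMap_apply A A' B'])
    letI iBN'' : Module B N'' := Module.compHom N'' (algebraMap B B')
    haveI t6 : IsScalarTower B B' N'' := IsScalarTower.of_compHom B B' N''
    haveI t7 : IsScalarTower B B'' N'' := ⟨fun b b'' n => by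
      change (b • b'') • n = algebraMap B B' b • (b'' • n)
      rw [Algebra.smul_def]
      change (algebraMap B' B'' (algebraMap B B' b) * b'') • n = _
      rw [← Algebra.smul_def, smul_assoc]⟩
    refine hU A'' B'' N'' ((f'.restrictScalars B).comp g) t' t P
      ⟨?_, hg.comp hbc2, hle, ?_, hP, hass, hno⟩
    · have h1 : Algebra.IsPushout A A' B B' := hpo.symm
      have h2 : Algebra.IsPushout A' A'' B' B'' := hpo2.symm
      exact ((Algebra.IsPushout.comp_iff A A' B (S' := B') (T := A'') (T' := B'')).2 h2).symm
    · exact Ideal.LiesOver.trans t p' p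
  · intro H A' B' N' _ _ _ _ _ _ _ _ _ _ _ _ _ _ f t' t _ _ P _ hImp
    obtain ⟨hpo, hbc, hle, hlies, hP, hass, hno⟩ := hImp
    have hpure := H A' B' N' f hbc t hlies
    refine hpure A' B' N' LinearMap.id t' t P ⟨inferInstance, ⟨⟨rfl⟩, ?_⟩⟩
      ⟨inferInstance, ?_, hle, ⟨rfl⟩, hP, hass, hno⟩
    · have e : Ideal.ResidueField.mapₐ t t (Algebra.ofId A' A') rfl = AlgHom.id A' _ := by
        ext
      rw [e]
      exact Function.bijective_id
    · exact IsBaseChange.of_equiv (TensorProduct.lid B' N') (fun x => by simp)

end Groth.Agent.S9008
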