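import Groth.Statements.S9034
import Groth.Agent.Helper4.NApx70
import Groth.Agent.Helper4.NApx71
import Mathlib

set_option autoImplicit false
universe u
open Cpct

namespace Groth.Agent.S9034


open CategoryTheory CategoryTheory.Limits AlgebraicGeometry Opposite in
/-- Fix a scheme S which is quasi-separated and quasi-compact. Sending a pair (X, X̄) to X gives a
functor from the category of compactifications over S (pairs of a scheme X̄ proper over S and a
quasi-compact open X ⊆ X̄, with morphisms the S-morphisms X̄' → X̄ sending X' into X) to the
category of compactifyable schemes over S (the full subcategory of schemes over S that are the open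
part of such a pair), and this functor is a localization functor for the class of morphisms whose
open part X' → X is an isomorphism: it inverts that class and the induced functor from the localized
category is an equivalence. -/
theorem result (S : Scheme.{u}) [CompactSpace S] [QuasiSeparatedSpace S] :
    (Cpct.openFunctor S).IsLocalization (Cpct.isoOpen S) := by

  haveI := Groth.Agent.Helper4.NApx71.hasRightCalculusOfFractions (S := S)
  have hmapleft : ∀ {A B : Cpct.Pair S} (f : A ⟶ B),
      ((Cpct.openFunctor S).map f).hom.left = Cpct.restr f := fun _ => rfl
  have hinv : (Cpct.isoOpen S).IsInvertedBy (Cpct.openFunctor S) := by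
    intro A B f hf
    haveI : IsIso (Cpct.restr f) := hf
    rw [← ObjectProperty.isIso_hom_iff]
    haveI : IsIso ((Over.forget S).map ((Cpct.openFunctor S).map f).hom) := by
      show IsIso (Cpct.restr f)
      infer_instance
    exact isIso_of_reflects_iso _ (Over.forget S)
  haveI : (Cpct.openFunctor S).EssSurj := by
    refine ⟨fun X => ?_⟩
    obtain ⟨A, ⟨e⟩⟩ := X.property
    exact ⟨A, ⟨ObjectProperty.isoMk _ e⟩⟩
  refine Groth.Agent.Helper4.NApx70.isLocalization_of_fractions _ _ hinv ?_ ?_
  · intro A B g
    obtain ⟨A', t, ht, f, hf⟩ := Groth.Agent.Helper4.NApx71.exists_fraction (A := A) (B := B)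
      g.hom.left (Over.w g.hom)
    refine ⟨A', t, ht, f, ?_⟩
    apply ObjectProperty.hom_ext
    apply Over.OverMorphism.ext
    exact hf
  · intro A B f₁ f₂ h
    refine Groth.Agent.Helper4.NApx71.exists_eq_of_restr_eq f₁ f₂ ?_
    have := congrArg (fun k => k.hom.left) h
    exact this

end Groth.Agent.S9034
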