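import Groth.Statements.S9036
import Mathlib
import Groth.Agent.Helper9.CptR5
import Groth.Agent.Helper9.CptR7
import Groth.Agent.Helper4.QcSumF
import Groth.Agent.S0484
-- import your own Groth.Agent.* helpers here

set_option autoImplicit false
universe u
open CategoryTheory CategoryTheory.Limits Opposite
open ModSite

namespace Groth.Agent.S9036

/-- Let (C, O) be a ringed site in which every object has a covering by quasi-compact objects (an object
U is called quasi-compact here when the sheaf h_U^# is a quasi-compact object of the topos, which is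
equivalent to the site-level definition). Then every compact object of D(O) is a retract in D(O) of
the image of a bounded complex whose terms are finite direct sums of modules of the form j_{U!} O_U
with U quasi-compact. The derived category of O-modules, direct sums in it and finite biproducts of
O-modules (automatic) are instance hypotheses. -/
theorem result
    {C : Type u} [SmallCategory C] {J : GrothendieckTopology C} (O : Sheaf J CommRingCat.{u})
    [HasFiniteBiproducts (ModSite.Mod O)]
    [HasDerivedCategory.{u} (ModSite.Mod O)] [HasCoproducts.{u} (DerivedCategory (ModSite.Mod O))]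
    (hC : ∀ V : C, ∃ R ∈ J V, ∀ ⦃W : C⦄ (g : W ⟶ V), R g →
      ∃ (U : C) (a : W ⟶ U) (b : U ⟶ V), CohCx.IsQcObject ((presheafToSheaf J (Type u)).obj (yoneda.obj U)) ∧ a ≫ b = g)
    (K : DerivedCategory (ModSite.Mod O)) (hK : CohDer.IsCompactObject K) :
    ∃ (L : CochainComplex (ModSite.Mod O) ℤ) (a b : ℤ),
      (∀ i : ℤ, i < a ∨ b < i → IsZero (L.X i)) ∧
      (∀ i : ℤ, ∃ (n : ℕ) (U : Fin n → C),
        (∀ j, CohCx.IsQcObject ((presheafToSheaf J (Type u)).obj (yoneda.obj (U j)))) ∧
        Nonempty (L.X i ≅ ⨁ fun j => ModSite.freeOn O (U j))) ∧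
      Nonempty (Retract K (DerivedCategory.Q.obj L)) := by
  have : IsGrothendieckAbelian.{u} (ModSite.Mod O) :=
    Groth.Agent.S0484.result J (ModSite.ringSh O)
  let G : Set C := {U | CohCx.IsQcObject ((presheafToSheaf J (Type u)).obj (yoneda.obj U))}
  let S : Set (ModSite.Mod O) := {M | ∃ U ∈ G, M = ModSite.freeOn O U}
  have hG := Groth.Agent.Helper9.CptR7.exists_ofArrows (J := J) G hC
  have h1 : ∀ X : ModSite.Mod O, ∃ (ι : Type u) (E : ι → ModSite.Mod O) (π : ∐ E ⟶ X),
      (∀ i, E i ∈ S) ∧ Epi π := fun X => Groth.Agent.Helper9.CptR7.exists_epi O G hG X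
  have H2 : ∀ E ∈ S, ∀ (ι : Type u) (F : ι → ModSite.Mod O),
      Groth.Agent.Helper4.CptFam.AllFSupp E F := by
    rintro E ⟨U, hU, rfl⟩ ι F
    exact Groth.Agent.Helper4.QcSumF.allFSupp_freeOn O U hU F
  obtain ⟨L, a, b, hz, hf, hr⟩ := Groth.Agent.Helper9.CptR5.core S h1 H2 K hK
  refine ⟨L, a, b, hz, fun i => ?_, hr⟩
  obtain ⟨n, E, hE, ⟨e⟩⟩ := hf i
  choose U hU hEU using hE
  have hEq : E = fun j => ModSite.freeOn O (U j) := funext hEU
  subst hEq
  exact ⟨n, U, hU, ⟨e⟩⟩

end Groth.Agent.S9036
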