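import Groth.Statements.S9040
import Mathlib.Tactic

set_option autoImplicit false
universe u
open CategoryTheory Limits Opposite TopologicalSpace Topology
open CohTop

namespace Groth.Agent.S9040

theorem result
    {X Y : Type u} [TopologicalSpace X] [T2Space X] [LocallyCompactSpace X] [TopologicalSpace Y] [T2Space Y]
    (f : X → Y) (hf : IsProperMap f) (hsurj : Function.Surjective f) (y : Y) :
    ∃ E : Set X, IsCompact E ∧ f '' E ∈ 𝓝 y := by
  have hK : IsCompact (f ⁻¹' {y}) := hf.isCompact_preimage isCompact_singleton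
  obtain ⟨K', hK'c, hKK'⟩ := exists_compact_superset hK
  refine ⟨K', hK'c, ?_⟩
  have hclosed : IsClosed (f '' (interior K')ᶜ) :=
    hf.isClosedMap _ isOpen_interior.isClosed_compl
  have hy : y ∈ (f '' (interior K')ᶜ)ᶜ := by
    rintro ⟨x, hx, rfl⟩
    exact hx (hKK' (by simp))
  refine Filter.mem_of_superset (hclosed.isOpen_compl.mem_nhds hy) ?_
  intro v hv
  obtain ⟨x, rfl⟩ := hsurj v
  refine ⟨x, ?_, rfl⟩
  by_contra hx
  exact hv ⟨x, fun h => hx (interior_subset h), rfl⟩

end Groth.Agent.S9040
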