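import Groth.Statements.S9071
import Groth.Agent.Helper4.EpsMain
import Groth.Agent.Helper4.EpsFF
import Groth.Agent.Helper4.ModSep
import Groth.Agent.Helper4.ModRlim
import Groth.Agent.Helper9.FreeOnIso
import Groth.Agent.S0484
import Mathlib

set_option autoImplicit false
universe u
open CategoryTheory CategoryTheory.Limits Opposite
attribute [local instance] HasDerivedCategory.standard
open SiteCmp

namespace Groth.Agent.S9071


/-- Let τ' be a coarser topology than τ on a category C, O a τ-sheaf of rings and ε the comparison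
morphism from (C_τ, O) to (C_τ', O). Let B be a set of objects and A a full subcategory of
presheaves of O-modules such that (1) every object of A is a τ-sheaf, (2) A forms a weak Serre
subcategory inside Mod(O_τ), (3) each object of C admits a τ'-covering by members of B, and (4)
H^p_τ(U, F) = 0 for U ∈ B, F ∈ A, p > 0. Then the essential image of A under ε_* forms a weak Serre
subcategory inside Mod(O_τ') and ε^*, Rε_* are quasi-inverse equivalences between D_A(O_τ') and
D_A(O_τ): on objects with cohomology sheaves in the respective subcategory, ε^* and Rε_* preserve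
that condition and the unit and counit are isomorphisms. In the order of topologies used here the
finer topology τ is the larger one, J, and τ' is J' ≤ J; A is given as a property of τ-sheaves of
modules (condition (1) built in); flatness of ε, existence of the unbounded Rε_* and an adjunction
ε^* ⊣ Rε_* are hypotheses. -/
theorem result
    {C : Type u} [SmallCategory C] {J J' : GrothendieckTopology C} (h : J' ≤ J) (O : Sheaf J CommRingCat.{u})
    [PreservesFiniteLimits (SiteCmp.eps h O).pull] [SiteCmp.HasRpushD (SiteCmp.eps h O)]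
    (adj : SiteCmp.pullD (SiteCmp.eps h O) ⊣ SiteCmp.RpushD (SiteCmp.eps h O))
    (A : ObjectProperty (ModSite.Mod O)) [WSerre.IsWeakSerre A] (B : Set C)
    (h3 : ∀ U : C, ∃ (ι : Type u) (Y : ι → C) (g : ∀ i, Y i ⟶ U), Sieve.ofArrows Y g ∈ J' U ∧ ∀ i, Y i ∈ B)
    (h4 : ∀ U ∈ B, ∀ F : ModSite.Mod O, A F → ∀ p : ℕ, 0 < p → Subsingleton (ModSite.HU O F p U)) :
    WSerre.IsWeakSerre (A.map (SiteCmp.eps h O).push) ∧
    (∀ Y : DerivedCategory (ModSite.Mod (SiteCmp.epsRing h O)), WSerre.cohIn (A.map (SiteCmp.eps h O).push) Y →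
      WSerre.cohIn A ((SiteCmp.pullD (SiteCmp.eps h O)).obj Y) ∧ IsIso (adj.unit.app Y)) ∧
    (∀ X : DerivedCategory (ModSite.Mod O), WSerre.cohIn A X →
      WSerre.cohIn (A.map (SiteCmp.eps h O).push) ((SiteCmp.RpushD (SiteCmp.eps h O)).obj X) ∧
      IsIso (adj.counit.app X)) := by

  haveI : IsGrothendieckAbelian.{u} (ModSite.Mod O) :=
    Groth.Agent.S0484.result J (ModSite.ringSh O)
  haveI : IsGrothendieckAbelian.{u} (ModSite.Mod (SiteCmp.epsRing h O)) :=
    Groth.Agent.S0484.result J' (ModSite.ringSh (SiteCmp.epsRing h O))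
  have hB : ∀ U : C, ∃ (ι : Type u) (Y : ι → C) (g : ∀ i, Y i ⟶ U),
      Sieve.ofArrows Y g ∈ J U ∧ ∀ i, Y i ∈ B := by
    intro U
    obtain ⟨ι, Y, g, hcov, hY⟩ := h3 U
    exact ⟨ι, Y, g, h _ hcov, hY⟩
  haveI := (Groth.Agent.Helper4.EpsFF.fullyFaithful h O).full
  haveI := (Groth.Agent.Helper4.EpsFF.fullyFaithful h O).faithful
  have hε₀ : ∀ F : ModSite.Mod O, IsIso ((SiteCmp.eps h O).adj.counit.app F) :=
    fun F => inferInstance
  refine Groth.Agent.Helper4.EpsDer.main (SiteCmp.eps h O).pull (SiteCmp.eps h O).adj adj A hε₀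
    (Groth.Agent.Helper4.ModTest.isTest (ModSite.ringSh O)) B
    (fun g hg => Groth.Agent.Helper4.ModTest.hsep O B hB g hg)
    (Groth.Agent.Helper4.ModTest.isTest (ModSite.ringSh (SiteCmp.epsRing h O))) B
    (fun g hg => Groth.Agent.Helper4.ModTest.hsep (SiteCmp.epsRing h O) B h3 g hg)
    ?_ ?_ ?_ ?_
  · intro V T hT
    exact Groth.Agent.Helper4.ModRlim.exists_cover_in B hB V T hT
  · intro V hV F hF k hk
    exact Groth.Agent.Helper4.ModTest.subsingleton_ext O V F k (h4 V hV F hF k hk)
  · intro V T hT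
    exact Groth.Agent.Helper4.ModRlim.exists_cover_in B h3 V T hT
  · intro V hV F hF k hk
    obtain ⟨e⟩ := Groth.Agent.Helper9.FreeOnIso.nonempty_pull_freeOn_iso (SiteCmp.eps h O) V
    let e' : Groth.Agent.Helper4.ModTest.T (ModSite.ringSh O) V ≅
        (SiteCmp.eps h O).pull.obj
          (Groth.Agent.Helper4.ModTest.T (ModSite.ringSh (SiteCmp.epsRing h O)) V) :=
      (Groth.Agent.Helper9.FreeOnIso.freeOnIso O V).symm ≪≫ e.symm ≪≫
        (SiteCmp.eps h O).pull.mapIso
          (Groth.Agent.Helper9.FreeOnIso.freeOnIso (SiteCmp.epsRing h O) V)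
    exact Groth.Agent.Helper4.ModTest.subsingleton_ext_of_iso e' F k
      (Groth.Agent.Helper4.ModTest.subsingleton_ext O V F k (h4 V hV F hF k hk))

end Groth.Agent.S9071
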