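import Groth.Statements.S9089
import Mathlib

set_option autoImplicit false
universe u
open CategoryTheory Opposite
open ModSite

namespace Groth.Agent.S9089


/-- Part (1): ⇔ (2), for a ringed site (C, O) with C small and O a sheaf of commutative rings: the
following are equivalent. (1) For every object U and every section f of O over U there is a covering
sieve on U on each of whose arrows either f or 1 - f restricts to a unit. (2) For every object U,
every n ≥ 1 and all sections f₁, …, fₙ of O over U generating the unit ideal of O(U), there is a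
covering sieve on U on each of whose arrows some fᵢ restricts to a unit. -/
theorem result {C : Type u} [SmallCategory C] (J : GrothendieckTopology C)
    (O : Sheaf J CommRingCat.{u}) :
    (∀ (U : C) (f : O.obj.obj (op U)), ∃ S ∈ J U, ∀ ⦃V : C⦄ (g : V ⟶ U), S g →
        IsUnit ((O.obj.map g.op).hom f) ∨ IsUnit ((O.obj.map g.op).hom (1 - f))) ↔
    (∀ (U : C) (n : ℕ) (f : Fin n → O.obj.obj (op U)), 1 ≤ n → Ideal.span (Set.range f) = ⊤ →
        ∃ S ∈ J U, ∀ ⦃V : C⦄ (g : V ⟶ U), S g → ∃ i, IsUnit ((O.obj.map g.op).hom (f i))) := by

  classical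
  -- restriction along a composite
  have hcomp : ∀ {U V W : C} (g : V ⟶ U) (h : W ⟶ V) (x : O.obj.obj (op U)),
      (O.obj.map (h ≫ g).op).hom x = (O.obj.map h.op).hom ((O.obj.map g.op).hom x) := by
    intro U V W g h x
    rw [op_comp, Functor.map_comp, CommRingCat.hom_comp, RingHom.comp_apply]
  constructor
  · intro h1
    -- the sieve of arrows on which some f i becomes a unit
    let sieveOf : ∀ {U : C} {n : ℕ} (_ : Fin n → O.obj.obj (op U)), Sieve U := fun {U n} f =>
      { arrows := fun V g => ∃ i, IsUnit ((O.obj.map g.op).hom (f i))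
        downward_closed := by
          rintro V W g ⟨i, hi⟩ h
          exact ⟨i, by rw [hcomp]; exact hi.map _⟩ }
    have key : ∀ (m : ℕ) (U : C) (f : Fin (m + 1) → O.obj.obj (op U)),
        Ideal.span (Set.range f) = ⊤ → sieveOf f ∈ J U := by
      intro m
      induction m with
      | zero =>
        intro U f hf
        have hu : IsUnit (f 0) := by
          have : Set.range f = {f 0} := by
            ext x; constructor
            · rintro ⟨i, rfl⟩; rw [show i = 0 from Fin.ext (by lia)]; rfl
            · rintro rfl; exact ⟨0, rfl⟩
          rw [this, Ideal.span_singleton_eq_top] at hf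
          exact hf
        have : sieveOf f = ⊤ := by
          rw [← Sieve.id_mem_iff_eq_top]
          exact ⟨0, hu.map _⟩
        rw [this]
        exact J.top_mem U
      | succ m ih =>
        intro U f hf
        have h1mem : (1 : O.obj.obj (op U)) ∈ Ideal.span (Set.range f) := by rw [hf]; trivial
        obtain ⟨c, hc⟩ := (Ideal.mem_span_range_iff_exists_fun).mp h1mem
        rw [Fin.sum_univ_castSucc] at hc
        set u := ∑ i : Fin (m + 1), c (Fin.castSucc i) * f (Fin.castSucc i) with hu
        obtain ⟨S, hS, hSu⟩ := h1 U u
        refine J.transitive hS (sieveOf f) (fun V g hg => ?_)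
        rcases hSu g hg with hA | hB
        · -- u restricts to a unit: use the induction hypothesis on V
          let f' : Fin (m + 1) → O.obj.obj (op V) := fun i => (O.obj.map g.op).hom (f (Fin.castSucc i))
          have hf' : Ideal.span (Set.range f') = ⊤ := by
            refine Ideal.eq_top_of_isUnit_mem _ ?_ hA
            rw [hu, map_sum]
            refine Ideal.sum_mem _ (fun i _ => ?_)
            rw [map_mul]
            exact Ideal.mul_mem_left _ _ (Ideal.subset_span ⟨i, rfl⟩)
          refine J.superset_covering ?_ (ih V f' hf')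
          rintro W h ⟨i, hi⟩
          exact ⟨Fin.castSucc i, by rw [hcomp]; exact hi⟩
        · -- 1 - u restricts to a unit
          have hlast : IsUnit ((O.obj.map g.op).hom (f (Fin.last (m + 1)))) := by
            have e : (1 : O.obj.obj (op U)) - u = c (Fin.last (m + 1)) * f (Fin.last (m + 1)) := by
              rw [← hc]; ring
            rw [e, map_mul] at hB
            exact isUnit_of_mul_isUnit_right hB
          have hmem : (sieveOf f) g := ⟨Fin.last (m + 1), hlast⟩
          rw [Sieve.pullback_eq_top_of_mem _ hmem]
          exact J.top_mem V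
    intro U n f hn hf
    obtain ⟨m, rfl⟩ : ∃ m, n = m + 1 := ⟨n - 1, by lia⟩
    exact ⟨sieveOf f, key m U f hf, fun V g hg => hg⟩
  · intro h2 U f
    let F : Fin 2 → O.obj.obj (op U) := ![f, 1 - f]
    have hF : Ideal.span (Set.range F) = ⊤ := by
      rw [Ideal.eq_top_iff_one]
      have : (1 : O.obj.obj (op U)) = F 0 + F 1 := by simp [F]
      rw [this]
      exact Ideal.add_mem _ (Ideal.subset_span ⟨0, rfl⟩) (Ideal.subset_span ⟨1, rfl⟩)
    obtain ⟨S, hS, hSF⟩ := h2 U 2 F (by lia) hF
    refine ⟨S, hS, fun V g hg => ?_⟩
    obtain ⟨i, hi⟩ := hSF g hg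
    fin_cases i
    · left; simpa [F] using hi
    · right; simpa [F] using hi

end Groth.Agent.S9089
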