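import Groth.Statements.S9090
import Mathlib

set_option autoImplicit false
universe u
open CategoryTheory Opposite
open ModSite

namespace Groth.Agent.S9090


/-- Part (1): ⇒ (2), for a ringed site (C, O) with C small and O a sheaf of commutative rings: if for
every object U and every section f of O over U there is a covering sieve on U on each of whose
arrows either f or 1 - f restricts to a unit, then at every point p of the site the stalk O_p is the
zero ring or is local. -/
theorem result {C : Type u} [SmallCategory C] {J : GrothendieckTopology C}
    (O : Sheaf J CommRingCat.{u})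
    (h : ∀ (U : C) (f : O.obj.obj (op U)), ∃ S ∈ J U, ∀ ⦃V : C⦄ (g : V ⟶ U), S g →
        IsUnit ((O.obj.map g.op).hom f) ∨ IsUnit ((O.obj.map g.op).hom (1 - f)))
    (p : GrothendieckTopology.Point.{u} J) :
    Subsingleton (ModSite.stalkRing p O) ∨ IsLocalRing (ModSite.stalkRing p O) := by

  by_cases hsub : Subsingleton (ModSite.stalkRing p O)
  · exact Or.inl hsub
  · right
    haveI : Nontrivial (ModSite.stalkRing p O) := not_subsingleton_iff_nontrivial.mp hsub
    apply IsLocalRing.of_isUnit_or_isUnit_one_sub_self
    intro a
    obtain ⟨X, x, f, rfl⟩ := p.toPresheafFiber_jointly_surjective (P := O.obj) a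
    obtain ⟨S, hS, hSf⟩ := h X f
    obtain ⟨Y, g, hg, y, hy⟩ := p.jointly_surjective S hS x
    have key : ∀ r : O.obj.obj (op X), (p.toPresheafFiber X x O.obj).hom r =
        (p.toPresheafFiber Y y O.obj).hom ((O.obj.map g.op).hom r) := by
      intro r
      rw [← hy]
      exact (p.toPresheafFiber_w_apply g y O.obj r).symm
    rcases hSf g hg with hu | hu
    · left
      change IsUnit ((p.toPresheafFiber X x O.obj).hom f)
      rw [key]
      exact hu.map _
    · right
      have h1 : (1 : ((p.presheafFiber (A := CommRingCat.{u})).obj O.obj : CommRingCat.{u})) - (p.toPresheafFiber X x O.obj).hom f =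
          (p.toPresheafFiber X x O.obj).hom (1 - f) := by
        rw [map_sub, map_one]
      change IsUnit ((1 : ((p.presheafFiber (A := CommRingCat.{u})).obj O.obj : CommRingCat.{u})) - (p.toPresheafFiber X x O.obj).hom f)
      rw [h1, key]
      exact hu.map _

end Groth.Agent.S9090
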