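import Groth.Statements.S9091
import Mathlib

set_option autoImplicit false
universe u
open CategoryTheory Opposite
open ModSite

namespace Groth.Agent.S9091


/-- Part (2): ⇒ (1) when the site has enough points, for a ringed site (C, O) with C small and O a sheaf
of commutative rings: if at every point p of the site the stalk O_p is the zero ring or is local,
then for every object U and every section f of O over U there is a covering sieve on U on each of
whose arrows either f or 1 - f restricts to a unit. -/
theorem result {C : Type u} [SmallCategory C] {J : GrothendieckTopology C}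
    (O : Sheaf J CommRingCat.{u}) [GrothendieckTopology.HasEnoughPoints.{u} J]
    (h : ∀ p : GrothendieckTopology.Point.{u} J, Subsingleton (ModSite.stalkRing p O) ∨ IsLocalRing (ModSite.stalkRing p O))
    (U : C) (f : O.obj.obj (op U)) :
    ∃ S ∈ J U, ∀ ⦃V : C⦄ (g : V ⟶ U), S g →
        IsUnit ((O.obj.map g.op).hom f) ∨ IsUnit ((O.obj.map g.op).hom (1 - f)) := by

  classical
  -- germ of a unit is a unit on a neighbourhood
  have unit_nhd : ∀ (p : GrothendieckTopology.Point.{u} J) (X : C) (x : p.fiber.obj X)
      (r : O.obj.obj (op X)), IsUnit ((p.toPresheafFiber X x O.obj).hom r) →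
      ∃ (Y : C) (g : Y ⟶ X) (y : p.fiber.obj Y), p.fiber.map g y = x ∧
        IsUnit ((O.obj.map g.op).hom r) := by
    intro p X x r hu
    obtain ⟨b, hb⟩ := hu.exists_right_inv
    obtain ⟨Z, z, s, rfl⟩ := p.toPresheafFiber_jointly_surjective (P := O.obj) b
    let W := IsCofiltered.min (Functor.elementsMk p.fiber X x) (Functor.elementsMk p.fiber Z z)
    let gX := IsCofiltered.minToLeft (Functor.elementsMk p.fiber X x) (Functor.elementsMk p.fiber Z z)
    let gZ := IsCofiltered.minToRight (Functor.elementsMk p.fiber X x) (Functor.elementsMk p.fiber Z z)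
    have hX : (p.toPresheafFiber X x O.obj).hom r =
        (p.toPresheafFiber W.1 W.2 O.obj).hom ((O.obj.map gX.1.op).hom r) :=
      ((congrArg (fun t => (p.toPresheafFiber X t O.obj).hom r) gX.2).symm).trans
        (p.toPresheafFiber_w_apply gX.1 W.2 O.obj r).symm
    have hZ : (p.toPresheafFiber Z z O.obj).hom s =
        (p.toPresheafFiber W.1 W.2 O.obj).hom ((O.obj.map gZ.1.op).hom s) :=
      ((congrArg (fun t => (p.toPresheafFiber Z t O.obj).hom s) gZ.2).symm).trans
        (p.toPresheafFiber_w_apply gZ.1 W.2 O.obj s).symm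
    have h1 : (p.toPresheafFiber W.1 W.2 O.obj).hom
        ((O.obj.map gX.1.op).hom r * (O.obj.map gZ.1.op).hom s) =
        (p.toPresheafFiber W.1 W.2 O.obj).hom 1 := by
      rw [map_mul, ← hX, ← hZ, map_one]
      exact hb
    obtain ⟨Y, g, y, hy, hg⟩ := (p.toPresheafFiber_eq_iff' (P := O.obj) W.1 W.2 _ _).mp h1
    refine ⟨Y, g ≫ gX.1, y, ?_, ?_⟩
    · rw [Functor.map_comp_apply, hy]
      exact gX.2
    · have h2 : (O.obj.map (g ≫ gX.1).op).hom r * (O.obj.map (g ≫ gZ.1).op).hom s = 1 := by
        have := hg
        rw [map_mul, map_one] at this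
        simpa [op_comp, Functor.map_comp] using this
      exact IsUnit.of_mul_eq_one _ h2
  obtain ⟨P, hPs, hP⟩ := GrothendieckTopology.HasEnoughPoints.exists_objectProperty.{u} J
  let ι := Σ V : C, {g : V ⟶ U // IsUnit ((O.obj.map g.op).hom f) ∨ IsUnit ((O.obj.map g.op).hom (1 - f))}
  refine ⟨Sieve.ofArrows (fun i : ι => i.1) (fun i : ι => i.2.1), ?_, ?_⟩
  · rw [hP.jointly_reflect_ofArrows_mem_of_small]
    intro Φ x
    have key : IsUnit ((Φ.obj.toPresheafFiber U x O.obj).hom f) ∨
        IsUnit ((Φ.obj.toPresheafFiber U x O.obj).hom (1 - f)) := by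
      rcases h Φ.obj with hs | hl
      · left
        haveI : Subsingleton ((Φ.obj.presheafFiber (A := CommRingCat.{u})).obj O.obj : CommRingCat.{u}) := hs
        exact isUnit_of_subsingleton _
      · haveI : IsLocalRing ((Φ.obj.presheafFiber (A := CommRingCat.{u})).obj O.obj : CommRingCat.{u}) := hl
        have := IsLocalRing.isUnit_or_isUnit_one_sub_self
          ((Φ.obj.toPresheafFiber U x O.obj).hom f)
        rcases this with h1 | h1
        · exact Or.inl h1
        · right
          rw [map_sub, map_one]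
          exact h1
    rcases key with hu | hu
    · obtain ⟨Y, g, y, hy, hg⟩ := unit_nhd Φ.obj U x f hu
      exact ⟨⟨Y, g, Or.inl hg⟩, y, hy⟩
    · obtain ⟨Y, g, y, hy, hg⟩ := unit_nhd Φ.obj U x (1 - f) hu
      exact ⟨⟨Y, g, Or.inr hg⟩, y, hy⟩
  · rintro V g ⟨W, a, b, ⟨i⟩, rfl⟩
    rcases i.2.2 with hu | hu
    · left
      have : (O.obj.map (a ≫ i.2.1).op).hom f = (O.obj.map a.op).hom ((O.obj.map i.2.1.op).hom f) := by
        simp [op_comp, Functor.map_comp]
      rw [this]; exact hu.map _
    · right
      have : (O.obj.map (a ≫ i.2.1).op).hom (1 - f) = (O.obj.map a.op).hom ((O.obj.map i.2.1.op).hom (1 - f)) := by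
        simp [op_comp, Functor.map_comp]
      rw [this]; exact hu.map _

end Groth.Agent.S9091
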