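import Groth.Statements.S9109
import Mathlib

set_option autoImplicit false
universe u
open CategoryTheory CategoryTheory.Limits
open CohSite

namespace Groth.Agent.S9109


/-- Part (1): on a small site (C, J) with a point p: the skyscraper functor p_* from abelian groups to
abelian sheaves on C (right adjoint to the stalk functor at p; its value on A is the sheaf U ↦ ∏_{x
∈ p⁻¹U} A) is exact. As a right adjoint it preserves limits; the statement here is that it also
preserves finite colimits. -/
theorem result {C : Type u} [SmallCategory C] {J : GrothendieckTopology C}
    (p : GrothendieckTopology.Point.{u} J) :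
    PreservesFiniteColimits (p.skyscraperSheafFunctor (A := AddCommGrpCat.{u})) := by

  let F := p.skyscraperSheafFunctor (A := AddCommGrpCat.{u})
  haveI : F.IsRightAdjoint := inferInstance
  haveI : PreservesFiniteLimits F := inferInstance
  haveI : F.Additive := Functor.additive_of_preserves_binary_products F
  have hepi : ∀ {X Y : AddCommGrpCat.{u}} (φ : X ⟶ Y), Epi φ → Epi (F.map φ) := by
    intro X Y φ hφ
    rw [← Sheaf.isLocallySurjective_iff_epi']
    apply Presheaf.isLocallySurjective_of_surjective
    intro U
    rw [← AddCommGrpCat.epi_iff_surjective]
    change Epi (Limits.Pi.map fun _ : p.fiber.obj U.unop => φ)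
    have h1 : (Limits.Pi.map fun _ : p.fiber.obj U.unop => φ) =
        (lim (J := Discrete (p.fiber.obj U.unop)) (C := AddCommGrpCat.{u})).map
          (Discrete.natTrans fun _ => φ) := rfl
    rw [h1]
    haveI : Epi (Discrete.natTrans (F := Discrete.functor fun _ : p.fiber.obj U.unop => X)
        (G := Discrete.functor fun _ : p.fiber.obj U.unop => Y) fun _ => φ) := by
      haveI : ∀ (X_1 : Discrete (p.fiber.obj (Opposite.unop U))),
          Epi ((Discrete.natTrans (F := Discrete.functor fun _ : p.fiber.obj U.unop => X)
            (G := Discrete.functor fun _ : p.fiber.obj U.unop => Y) fun _ => φ).app X_1) :=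
        fun _ => hφ
      apply NatTrans.epi_of_epi_app _
    infer_instance
  have := (Functor.preservesFiniteColimits_tfae F).out 0 3
  rw [← this]
  intro S hS
  haveI := hS.epi_g
  haveI := hS.mono_f
  refine ⟨?_, hepi S.g inferInstance⟩
  exact hS.exact.map_of_mono_of_preservesKernel F inferInstance inferInstance

end Groth.Agent.S9109
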