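import Groth.Statements.S9115
import Groth.Agent.Helper4.CokC
import Mathlib

set_option autoImplicit false
universe u
open CategoryTheory CategoryTheory.Limits Opposite
open ModSite

namespace Groth.Agent.S9115


/-- Let (C, O) be a small ringed site with O commutative and B a set of objects of C such that every
object has a covering family by members of B and each member of B is quasi-compact (its sheaf h_U^#
is a quasi-compact object of the topos). If F and G are O-modules of the form Coker(⊕_{j≤m}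
j_{V_j!}O_{V_j} → ⊕_{i≤n} j_{U_i!}O_{U_i}) with finitely many Uᵢ, Vⱼ in B, then so is the cokernel
of any morphism F → G. -/
theorem result {C : Type u} [SmallCategory C] {J : GrothendieckTopology C}
    (O : Sheaf J CommRingCat.{u}) (B : Set C)
    (hB₁ : ∀ X : C, ∃ (κ : Type u) (Y : κ → C) (g : ∀ k, Y k ⟶ X), Sieve.ofArrows Y g ∈ J X ∧ ∀ k, Y k ∈ B)
    (hB₂ : ∀ U ∈ B, CohCx.IsQcObject ((presheafToSheaf J (Type u)).obj (yoneda.obj U))) (F G : ModSite.Mod O) (α : F ⟶ G)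
    (hF : (∃ (m' n' : ℕ) (V' : Fin m' → C) (U' : Fin n' → C)
        (ψ : (∐ fun j => ModSite.freeOn O (V' j)) ⟶ ∐ fun i => ModSite.freeOn O (U' i)),
        (∀ j, V' j ∈ B) ∧ (∀ i, U' i ∈ B) ∧ Nonempty (F ≅ cokernel ψ)))
    (hG : (∃ (m' n' : ℕ) (V' : Fin m' → C) (U' : Fin n' → C)
        (ψ : (∐ fun j => ModSite.freeOn O (V' j)) ⟶ ∐ fun i => ModSite.freeOn O (U' i)),
        (∀ j, V' j ∈ B) ∧ (∀ i, U' i ∈ B) ∧ Nonempty (G ≅ cokernel ψ))) :
    (∃ (m' n' : ℕ) (V' : Fin m' → C) (U' : Fin n' → C)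
        (ψ : (∐ fun j => ModSite.freeOn O (V' j)) ⟶ ∐ fun i => ModSite.freeOn O (U' i)),
        (∀ j, V' j ∈ B) ∧ (∀ i, U' i ∈ B) ∧ Nonempty (cokernel α ≅ cokernel ψ)) := by

  obtain ⟨mF, nF, VF, UF, ψF, hVF, hUF, ⟨eF⟩⟩ := hF
  obtain ⟨mG, nG, VG, UG, ψG, hVG, hUG, ⟨eG⟩⟩ := hG
  haveI hπF : Epi (cokernel.π ψF ≫ eF.inv) := epi_comp _ _
  haveI hπG : Epi (cokernel.π ψG ≫ eG.inv) := epi_comp _ _
  have hl := fun i : Fin nF => Groth.Agent.Helper4.CokB.exists_finite_lift O B hB₁ hB₂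
    (cokernel.π ψG ≫ eG.inv) (hUF i)
    (Sigma.ι (fun i => ModSite.freeOn O (UF i)) i ≫ (cokernel.π ψF ≫ eF.inv) ≫ α)
  choose r W g t hW ht hepi using hl
  obtain ⟨m', V', ψ, hV', hiso⟩ := Groth.Agent.Helper4.CokC.exists_presentation_cokernel
    (fun U : C => ModSite.freeOn O U) B α VG UG UF ψG eG hVG (cokernel.π ψF ≫ eF.inv) r W hW
    (fun i k => Groth.Agent.Helper4.CokB.fOmap O (g i k)) hepi t ht
  exact ⟨m', nG, V', UG, ψ, hV', hUG, hiso⟩

end Groth.Agent.S9115
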