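import Groth.Statements.S9121
import Mathlib

set_option autoImplicit false
universe u
open CategoryTheory CategoryTheory.Limits
open CohSite

namespace Groth.Agent.S9121


/-- Part (1): for the morphism of topoi f : Sh(C) → Sh(D) attached to a continuous functor u : D ⥤ C
between small sites whose induced pullback of sheaves of sets is exact (f_* is restriction along u):
if f_* transforms epimorphisms of sheaves of sets into epimorphisms, then f_* on abelian sheaves is
exact; being a right adjoint it preserves finite limits, and the statement is that it also preserves
finite colimits. -/
theorem result {C D : Type u} [SmallCategory C] [SmallCategory D]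
    (J : GrothendieckTopology C) (K : GrothendieckTopology D) (u : D ⥤ C) [u.IsContinuous K J]
    [PreservesFiniteLimits (u.sheafPullback (Type u) K J)]
    [(u.sheafPushforwardContinuous (Type u) K J).PreservesEpimorphisms] :
    PreservesFiniteColimits (u.sheafPushforwardContinuous AddCommGrpCat.{u} K J) := by

  let F := u.sheafPushforwardContinuous AddCommGrpCat.{u} K J
  haveI : F.IsRightAdjoint := inferInstance
  haveI : PreservesFiniteLimits F := inferInstance
  haveI : F.Additive := Functor.additive_of_preserves_binary_products F
  -- key: F preserves epimorphisms
  have hepi : ∀ {X Y : Sheaf J AddCommGrpCat.{u}} (φ : X ⟶ Y), Epi φ → Epi (F.map φ) := by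
    intro X Y φ hφ
    rw [← Sheaf.isLocallySurjective_iff_epi'] at hφ ⊢
    -- pass to sheaves of sets
    haveI := hφ
    have h1 : Epi ((sheafCompose J (forget AddCommGrpCat.{u})).map φ) := inferInstance
    have h2 : Epi ((u.sheafPushforwardContinuous (Type u) K J).map
        ((sheafCompose J (forget AddCommGrpCat.{u})).map φ)) := inferInstance
    rw [← Sheaf.isLocallySurjective_iff_epi] at h2
    exact (Presheaf.isLocallySurjective_iff_whisker_forget K (F.map φ).hom).2 h2
  have := (Functor.preservesFiniteColimits_tfae F).out 0 3
  rw [← this]
  intro S hS
  haveI := hS.epi_g
  haveI := hS.mono_f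
  refine ⟨?_, hepi S.g inferInstance⟩
  exact hS.exact.map_of_mono_of_preservesKernel F inferInstance inferInstance

end Groth.Agent.S9121
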