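import Groth.Statements.S9123
import Groth.Agent.Helper4.ChaoticSerre
import Mathlib

set_option autoImplicit false
universe u
open CategoryTheory CategoryTheory.Limits Opposite
open ModSite

namespace Groth.Agent.S9123


/-- Let C be a small category endowed with the chaotic topology (only maximal sieves are covering) and O
a sheaf of commutative rings on it such that for every morphism U → V of C the restriction map O(V)
→ O(U) is a flat ring homomorphism. Then the quasi-coherent O-modules form a weak Serre subcategory
of Mod(O): kernels and cokernels of morphisms between quasi-coherent modules are quasi-coherent, and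
in a short exact sequence 0 → F₁ → F₂ → F₃ → 0 with F₁ and F₃ quasi-coherent, F₂ is quasi-coherent. -/
theorem result {C : Type u} [SmallCategory C]
    (O : Sheaf (⊥ : GrothendieckTopology C) CommRingCat.{u})
    (hO : ∀ (U V : C) (g : U ⟶ V), (O.obj.map g.op).hom.Flat) :
    (∀ (F G : ModSite.Mod O) (α : F ⟶ G), SheafOfModules.IsQuasicoherent (R := ModSite.ringSh O) F → SheafOfModules.IsQuasicoherent (R := ModSite.ringSh O) G →
        SheafOfModules.IsQuasicoherent (R := ModSite.ringSh O) (kernel α) ∧ SheafOfModules.IsQuasicoherent (R := ModSite.ringSh O) (cokernel α)) ∧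
    (∀ (S : ShortComplex (ModSite.Mod O)), S.ShortExact → SheafOfModules.IsQuasicoherent (R := ModSite.ringSh O) S.X₁ → SheafOfModules.IsQuasicoherent (R := ModSite.ringSh O) S.X₃ → SheafOfModules.IsQuasicoherent (R := ModSite.ringSh O) S.X₂) := by

  have hK := Groth.Agent.Helper4.TrivTop.isTriv_bot (D := C)
  have toBc : ∀ (F : ModSite.Mod O), SheafOfModules.IsQuasicoherent (R := ModSite.ringSh O) F →
      ∀ {U V : C} (g : U ⟶ V), IsIso (Groth.Agent.Helper4.BaseChg.bc g F) := by
    intro F hF U V g
    exact Groth.Agent.Helper4.ChaoticQc.isIso_bc_of_isQuasicoherent hK F g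
  have ofBc : ∀ (F : ModSite.Mod O),
      (∀ {U V : C} (g : U ⟶ V), IsIso (Groth.Agent.Helper4.BaseChg.bc g F)) →
      SheafOfModules.IsQuasicoherent (R := ModSite.ringSh O) F := by
    intro F h
    exact Groth.Agent.Helper4.ChaoticQc.isQuasicoherent_of_isIso_bc hK F h
  refine ⟨?_, ?_⟩
  · intro F G α hF hG
    refine ⟨ofBc _ ?_, ofBc _ ?_⟩
    · intro U V g
      exact Groth.Agent.Helper4.ChaoticSerre.isIso_bc_kernel α g (hO U V g) (toBc F hF g) (toBc G hG g)
    · intro U V g
      exact Groth.Agent.Helper4.ChaoticSerre.isIso_bc_cokernel hK α g (toBc F hF g) (toBc G hG g)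
  · intro S hS h1 h3
    refine ofBc _ ?_
    intro U V g
    exact Groth.Agent.Helper4.ChaoticSerre.isIso_bc_extension hK S hS g (hO U V g)
      (toBc _ h1 g) (toBc _ h3 g)

end Groth.Agent.S9123
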