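import Groth.Statements.S9128
import Groth.Agent.Helper6.Caten4
import Groth.Agent.Helper6.Caten3
import Mathlib

set_option autoImplicit false
universe u
open CAlg

namespace Groth.Agent.S9128


/-- A Noetherian local ring A is catenary if and only if the assignment sending a prime p to the Krull
dimension of A/p is a dimension function on Spec A, i.e. it decreases strictly along strict
inclusions of primes and drops by exactly one along inclusions with no prime strictly in between. -/
theorem result (A : Type u) [CommRing A] [IsNoetherianRing A]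
    [IsLocalRing A] :
    CAlg.IsCatenary A ↔
      ∀ p q : PrimeSpectrum A, p < q →
        ringKrullDim (A ⧸ q.asIdeal) < ringKrullDim (A ⧸ p.asIdeal) ∧
          (p ⋖ q → ringKrullDim (A ⧸ p.asIdeal) = ringKrullDim (A ⧸ q.asIdeal) + 1) := by

  classical
  open Groth.Agent.Helper6.Caten in
  -- dimension of the quotient as coheight
  have hdim : ∀ p : PrimeSpectrum A, ringKrullDim (A ⧸ p.asIdeal) = (Order.coheight p : WithBot ℕ∞) := by
    intro p
    rw [ringKrullDim_quotient, Order.coheight_eq_krullDim_Ici]
    have : PrimeSpectrum.zeroLocus (p.asIdeal : Set A) = Set.Ici p := by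
      ext q
      simp [PrimeSpectrum.mem_zeroLocus, PrimeSpectrum.asIdeal_le_asIdeal]
    rw [this]
  have hfin : ∀ p : PrimeSpectrum A, Order.coheight p < ⊤ := fun p => Order.coheight_lt_top p
  -- the closed point is the greatest element
  have htop : ∀ p : PrimeSpectrum A, p ≤ IsLocalRing.closedPoint A := by
    intro p
    change p.asIdeal ≤ IsLocalRing.maximalIdeal A
    exact IsLocalRing.le_maximalIdeal p.2.ne_top
  have hcsup : ∀ p : PrimeSpectrum A,
      Groth.Agent.Helper6.Caten.csup p (IsLocalRing.closedPoint A) = Order.coheight p := by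
    intro p
    unfold Groth.Agent.Helper6.Caten.csup
    rw [Order.coheight_eq_iSup_head_eq]
    apply le_antisymm
    · apply iSup_le; intro s
      apply iSup_le; intro hs
      exact le_iSup₂_of_le s hs.1 le_rfl
    · apply iSup_le; intro s
      apply iSup_le; intro hs
      exact le_iSup₂_of_le s ⟨hs, htop _⟩ le_rfl
  -- translate the right hand side
  have hrhs : (∀ p q : PrimeSpectrum A, p < q →
        ringKrullDim (A ⧸ q.asIdeal) < ringKrullDim (A ⧸ p.asIdeal) ∧
          (p ⋖ q → ringKrullDim (A ⧸ p.asIdeal) = ringKrullDim (A ⧸ q.asIdeal) + 1)) ↔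
      ∀ p q : PrimeSpectrum A, p ⋖ q → Order.coheight p = Order.coheight q + 1 := by
    constructor
    · intro h p q hpq
      have := (h p q hpq.lt).2 hpq
      rw [hdim, hdim] at this
      exact_mod_cast this
    · intro h p q hpq
      refine ⟨?_, fun hc => ?_⟩
      · rw [hdim, hdim]
        exact_mod_cast Order.coheight_strictAnti hpq (hfin q)
      · rw [hdim, hdim, h p q hc]
        rfl
  rw [hrhs, Groth.Agent.Helper6.Caten.isCatenary_iff_catR]
  constructor
  · intro hR p q hpq
    have hP := Groth.Agent.Helper6.Caten.cat_iff_catR.mpr hR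
    have h1 := hP.csup_add hpq.le (htop q)
    rw [hcsup, hcsup] at h1
    have h2 : Groth.Agent.Helper6.Caten.csup p q = 1 := by
      have e := hP.csup_eq_length
        (Groth.Agent.Helper6.Caten.pair {(a, b) : PrimeSpectrum A × PrimeSpectrum A | a ⋖ b} p q hpq :
          Groth.Agent.Helper6.Caten.CovSeries (PrimeSpectrum A))
      rw [Groth.Agent.Helper6.Caten.pair_head, Groth.Agent.Helper6.Caten.pair_last,
        Groth.Agent.Helper6.Caten.pair_length] at e
      rw [e]; rfl
    rw [h1, h2, add_comm]
  · intro h
    refine ⟨?_, ?_⟩
    · intro p q _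
      refine ⟨(Order.coheight p).toNat, ?_⟩
      intro s hs _
      have h1 : (s.length : ℕ∞) ≤ Order.coheight p := by
        rw [Order.coheight_eq_iSup_head_eq]
        exact le_iSup₂_of_le s hs le_rfl
      have h2 : Order.coheight p = ((Order.coheight p).toNat : ℕ∞) :=
        (ENat.coe_toNat (hfin p).ne).symm
      rw [h2] at h1
      exact_mod_cast h1
    · intro s t hhead hlast hs ht
      let f : PrimeSpectrum A → ℤ := fun p => -((Order.coheight p).toNat : ℤ)
      have hf : ∀ a b : PrimeSpectrum A, a ⋖ b → f b = f a + 1 := by
        intro a b hab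
        have h1 := h a b hab
        have h2 : (Order.coheight a).toNat = (Order.coheight b).toNat + 1 := by
          rw [h1, ENat.toNat_add (hfin b).ne (by simp)]
          rfl
        simp only [f]
        rw [h2]
        push_cast
        ring
      have e1 := Groth.Agent.Helper6.Caten.chain_eq f hf s hs
      have e2 := Groth.Agent.Helper6.Caten.chain_eq f hf t ht
      rw [hhead, hlast] at e1
      have : (s.length : ℤ) = t.length := by linarith
      exact_mod_cast this

end Groth.Agent.S9128
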