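import Groth.Statements.S9135
import Groth.Agent.Helper4.MinPrimeFinite
import Mathlib

set_option autoImplicit false
universe u
open CAlg

namespace Groth.Agent.S9135


/-- Let R → S be of finite type and p a minimal prime of R over which only finitely many primes of S
lie. Then for some g ∈ R outside p the localized map R_g → S_g is finite. -/
theorem result (R S : Type u) [CommRing R] [CommRing S]
    [Algebra R S] [Algebra.FiniteType R S] (p : Ideal R) (hp : p ∈ minimalPrimes R)
    (hfin : (p.primesOver S).Finite) :
    ∃ g : R, g ∉ p ∧ (Localization.awayMap (algebraMap R S) g).Finite := by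

  classical
  haveI : p.IsPrime := hp.1.1
  haveI := Groth.Agent.Helper4.MinPrimeFinite.finite_fiber R S p hfin
  obtain ⟨t, ht⟩ := (Algebra.FiniteType.out : (⊤ : Subalgebra R S).FG)
  have key := fun x : S =>
    Groth.Agent.Helper4.MinPrimeFinite.exists_smul_isIntegral R S p hp x
  choose G hG1 hG2 using key
  refine ⟨∏ x ∈ t, G x, ?_, ?_⟩
  · intro h
    obtain ⟨x, -, hx⟩ := (Ideal.IsPrime.prod_mem_iff).mp h
    exact hG1 x hx
  · refine Groth.Agent.Helper4.MinPrimeFinite.finite_awayMap_of_smul_integral R S
      (t : Set S) ht _ ?_
    intro x hx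
    have hx' : x ∈ t := hx
    rw [← Finset.mul_prod_erase t G hx', mul_comm, mul_smul]
    exact (hG2 x).smul _

end Groth.Agent.S9135
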