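import Groth.Statements.S9139
import Mathlib

set_option autoImplicit false
universe u
open CAlg

namespace Groth.Agent.S9139

/-- Any element of `I • ⊤` lies in `J • ⊤` for a finitely generated subideal `J ≤ I`. -/
theorem exists_fg_le_mem_smul_top {R M : Type*} [CommRing R] [AddCommGroup M] [Module R M]
    (I : Ideal R) (z : M) (hz : z ∈ I • (⊤ : Submodule R M)) :
    ∃ J : Ideal R, J.FG ∧ J ≤ I ∧ z ∈ J • (⊤ : Submodule R M) := by
  refine Submodule.smul_induction_on hz ?_ ?_
  · intro r hr m _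
    refine ⟨Ideal.span {r}, ⟨{r}, by simp⟩, ?_, ?_⟩
    · rw [Ideal.span_le]; simpa using hr
    · exact Submodule.smul_mem_smul (Ideal.subset_span rfl) Submodule.mem_top
  · rintro x y ⟨J₁, h1, h2, h3⟩ ⟨J₂, h1', h2', h3'⟩
    refine ⟨J₁ ⊔ J₂, Submodule.FG.sup h1 h1', sup_le h2 h2', ?_⟩
    exact Submodule.add_mem _ (Submodule.smul_mono_left le_sup_left h3)
      (Submodule.smul_mono_left le_sup_right h3')

theorem top_le_of_nilpotent {R M : Type*} [CommRing R] [AddCommGroup M] [Module R M]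
    (J : Ideal R) (hJ : IsNilpotent J) (P : Submodule R M)
    (h : (⊤ : Submodule R M) ≤ P ⊔ J • ⊤) : (⊤ : Submodule R M) ≤ P := by
  obtain ⟨n, hn⟩ := hJ
  have key : ∀ k : ℕ, (⊤ : Submodule R M) ≤ P ⊔ J ^ k • ⊤ := by
    intro k
    induction k with
    | zero => simp
    | succ k ih =>
      calc (⊤ : Submodule R M) ≤ P ⊔ J ^ k • ⊤ := ih
        _ ≤ P ⊔ J ^ k • (P ⊔ J • ⊤) := sup_le_sup_left (Submodule.smul_mono le_rfl h) _
        _ = P ⊔ (J ^ k • P ⊔ J ^ k • J • ⊤) := by rw [Submodule.smul_sup]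
        _ ≤ P ⊔ J ^ (k + 1) • ⊤ := by
          refine sup_le le_sup_left (sup_le ?_ ?_)
          · exact le_sup_of_le_left Submodule.smul_le_right
          · rw [← Submodule.mul_smul, ← pow_succ]
            exact le_sup_right
  have := key n
  rwa [hn, Submodule.zero_eq_bot, Submodule.bot_smul, sup_bot_eq] at this

theorem exists_fg_sup {R : Type*} [CommRing R] {ι : Type*} (t : Finset ι) (J : ι → Ideal R)
    (hJ : ∀ i, (J i).FG) : (t.sup J).FG := by
  classical
  induction t using Finset.induction_on with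
  | empty => exact Submodule.fg_bot
  | insert a t _ ih => rw [Finset.sup_insert]; exact Submodule.FG.sup (hJ a) ih

/-- Let I be a locally nilpotent ideal of a ring R (every element of I is nilpotent) and S → S' a map of
R-algebras with S' of finite type over R. If S → S'/IS' is surjective then so is S → S'. -/
theorem result (R S S' : Type u) [CommRing R] [CommRing S]
    [CommRing S'] [Algebra R S] [Algebra R S'] [Algebra.FiniteType R S'] (I : Ideal R)
    (hI : ∀ x ∈ I, IsNilpotent x) (f : S →ₐ[R] S')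
    (hf : Function.Surjective ((Ideal.Quotient.mk (I.map (algebraMap R S'))).comp f.toRingHom)) :
    Function.Surjective f := by
  classical
  obtain ⟨t, ht⟩ := (inferInstance : Algebra.FiniteType R S').out
  -- each element is in `range f + J_x S'` for a f.g. ideal `J_x ≤ I`
  have hgen : ∀ x : S', ∃ (s : S) (J : Ideal R), J.FG ∧ J ≤ I ∧
      x - f s ∈ J • (⊤ : Submodule R S') := by
    intro x
    obtain ⟨s, hs⟩ := hf (Ideal.Quotient.mk _ x)
    have h1 : x - f s ∈ I.map (algebraMap R S') := by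
      rw [← Ideal.Quotient.eq]; exact hs.symm
    have h2 : x - f s ∈ I • (⊤ : Submodule R S') := by
      have := Ideal.smul_top_eq_map (R := R) (S := S') I
      rw [this]; exact h1
    obtain ⟨J, hJ1, hJ2, hJ3⟩ := exists_fg_le_mem_smul_top I _ h2
    exact ⟨s, J, hJ1, hJ2, hJ3⟩
  choose s J hJfg hJle hJmem using hgen
  let J₀ : Ideal R := t.sup J
  have hJ₀fg : J₀.FG := exists_fg_sup t J hJfg
  have hJ₀le : J₀ ≤ I := Finset.sup_le fun i _ => hJle i
  have hJ₀nil : IsNilpotent J₀ := by
    rw [hJ₀fg.isNilpotent_iff_le_nilradical]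
    intro x hx
    exact hI x (hJ₀le hx)
  -- the ideal `K = J₀ S'`
  let K : Ideal S' := J₀.map (algebraMap R S')
  have hK : K.restrictScalars R = J₀ • (⊤ : Submodule R S') := (Ideal.smul_top_eq_map J₀).symm
  -- every element is congruent to an element of the range modulo `K`
  have hmod : ∀ y : S', ∃ a : S, y - f a ∈ K := by
    intro y
    have hy : y ∈ Algebra.adjoin R (t : Set S') := by rw [ht]; trivial
    induction hy using Algebra.adjoin_induction with
    | mem y hy =>
      refine ⟨s y, ?_⟩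
      have h1 : y - f (s y) ∈ J₀ • (⊤ : Submodule R S') :=
        Submodule.smul_mono_left (Finset.le_sup (f := J) hy) (hJmem y)
      rw [← hK] at h1
      exact h1
    | algebraMap r =>
      exact ⟨algebraMap R S r, by simp⟩
    | add y₁ y₂ _ _ h₁ h₂ =>
      obtain ⟨a₁, h₁⟩ := h₁
      obtain ⟨a₂, h₂⟩ := h₂
      refine ⟨a₁ + a₂, ?_⟩
      have : y₁ + y₂ - f (a₁ + a₂) = (y₁ - f a₁) + (y₂ - f a₂) := by rw [map_add]; ring
      rw [this]
      exact K.add_mem h₁ h₂
    | mul y₁ y₂ _ _ h₁ h₂ =>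
      obtain ⟨a₁, h₁⟩ := h₁
      obtain ⟨a₂, h₂⟩ := h₂
      refine ⟨a₁ * a₂, ?_⟩
      have : y₁ * y₂ - f (a₁ * a₂) = y₁ * (y₂ - f a₂) + (y₁ - f a₁) * f a₂ := by
        rw [map_mul]; ring
      rw [this]
      exact K.add_mem (K.mul_mem_left _ h₂) (K.mul_mem_right _ h₁)
  have htop : (⊤ : Submodule R S') ≤ Subalgebra.toSubmodule f.range ⊔ J₀ • ⊤ := by
    intro y _
    obtain ⟨a, ha⟩ := hmod y
    have : y = f a + (y - f a) := by ring
    rw [this]
    refine Submodule.add_mem_sup ?_ ?_
    · exact ⟨a, rfl⟩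
    · rw [← hK]; exact ha
  have := top_le_of_nilpotent J₀ hJ₀nil _ htop
  intro y
  obtain ⟨a, ha⟩ := this (Submodule.mem_top (x := y))
  exact ⟨a, ha⟩

end Groth.Agent.S9139
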