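import Groth.Statements.S9140
import Groth.Agent.Helper4.AdicFlat
import Mathlib

set_option autoImplicit false
universe u
open CAlg

namespace Groth.Agent.S9140


/-- Let I be a locally nilpotent ideal of a ring R and S → S' a map of R-algebras with S of finite type
over R and S' of finite presentation and flat over R. If the induced map S/IS → S'/IS' is bijective
(stated as: S → S'/IS' is surjective with kernel IS), then S → S' is bijective. -/
theorem result (R S S' : Type u)
    [CommRing R] [CommRing S] [CommRing S'] [Algebra R S] [Algebra R S'] [Algebra.FiniteType R S]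
    [Algebra.FinitePresentation R S'] [Module.Flat R S'] (I : Ideal R) (hI : ∀ x ∈ I, IsNilpotent x)
    (f : S →ₐ[R] S')
    (hsurj : Function.Surjective ((Ideal.Quotient.mk (I.map (algebraMap R S'))).comp f.toRingHom))
    (hker : ∀ s : S, f s ∈ I.map (algebraMap R S') → s ∈ I.map (algebraMap R S)) :
    Function.Bijective f := by

  classical
  -- general: an element of I.map φ lies in I₀.map φ for some f.g. I₀ ≤ I
  have hfg : ∀ z ∈ I.map (algebraMap R S'), ∃ I₀ : Ideal R, I₀.FG ∧ I₀ ≤ I ∧
      z ∈ I₀.map (algebraMap R S') := by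
    intro z hz
    rw [Ideal.map, Ideal.span] at hz
    obtain ⟨T, hTsub, hzT⟩ := Submodule.mem_span_finite_of_mem_span hz
    obtain ⟨U, hUsub, hUimg⟩ := Finset.subset_set_image_iff.mp hTsub
    refine ⟨Ideal.span (U : Set R), ⟨U, rfl⟩, Ideal.span_le.mpr hUsub, ?_⟩
    rw [Ideal.map_span, ← Finset.coe_image, hUimg]
    exact hzT
  -- Step 1: surjectivity
  have hsurjf : Function.Surjective f := by
    obtain ⟨t, ht⟩ := (inferInstance : Algebra.FiniteType R S').out
    have h1 : ∀ x : S', ∃ s : S, x - f s ∈ I.map (algebraMap R S') := by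
      intro x
      obtain ⟨s, hs⟩ := hsurj (Ideal.Quotient.mk _ x)
      refine ⟨s, ?_⟩
      rw [← Ideal.Quotient.eq]
      exact hs.symm
    choose σ hσ using h1
    choose I₀x hI₀fg hI₀le hI₀mem using fun x => hfg (x - f (σ x)) (hσ x)
    let I₀ : Ideal R := t.sup I₀x
    have hI₀FG : I₀.FG := Submodule.fg_finset_sup t I₀x (fun x _ => hI₀fg x)
    have hI₀I : I₀ ≤ I := Finset.sup_le (fun x _ => hI₀le x)
    have hnil : IsNilpotent I₀ := by
      rw [hI₀FG.isNilpotent_iff_le_nilradical]
      intro a ha
      exact (mem_nilradical).mpr (hI a (hI₀I ha))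
    obtain ⟨N, hN⟩ := hnil
    -- modulo J = I₀ S', f is surjective
    let J : Ideal S' := I₀.map (algebraMap R S')
    let π : S' →ₐ[R] S' ⧸ J := Ideal.Quotient.mkₐ R J
    have hπf : Function.Surjective (π.comp f) := by
      rw [← AlgHom.range_eq_top, eq_top_iff]
      have h2 : (⊤ : Subalgebra R (S' ⧸ J)) = Algebra.adjoin R (π '' (t : Set S')) := by
        rw [← AlgHom.map_adjoin, ht, Algebra.map_top]
        exact ((AlgHom.range_eq_top π).mpr (Ideal.Quotient.mkₐ_surjective R J)).symm
      rw [h2]
      refine Algebra.adjoin_le ?_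
      rintro _ ⟨x, hx, rfl⟩
      refine ⟨σ x, ?_⟩
      change π (f (σ x)) = π x
      symm
      change Ideal.Quotient.mk J x = Ideal.Quotient.mk J (f (σ x))
      rw [Ideal.Quotient.eq]
      exact Ideal.map_mono (Finset.le_sup (f := I₀x) hx) (hI₀mem x)
    -- module-theoretic Nakayama with nilpotent ideal
    let T : Submodule R S' := LinearMap.range f.toLinearMap
    have hbase : (⊤ : Submodule R S') ≤ T ⊔ I₀ • ⊤ := by
      intro y _
      obtain ⟨s, hs⟩ := hπf (π y)
      have hy : y - f s ∈ J := by
        rw [← Ideal.Quotient.eq]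
        exact hs.symm
      have hy' : y - f s ∈ I₀ • (⊤ : Submodule R S') := by
        rw [Ideal.smul_top_eq_map]; exact hy
      have : y = f s + (y - f s) := by ring
      rw [this]
      exact Submodule.add_mem_sup ⟨s, rfl⟩ hy'
    have hind : ∀ k : ℕ, (⊤ : Submodule R S') ≤ T ⊔ I₀ ^ (k + 1) • ⊤ := by
      intro k
      induction k with
      | zero => simpa using hbase
      | succ k ih =>
        have h3 : I₀ ^ (k + 1) • (⊤ : Submodule R S') ≤ T ⊔ I₀ ^ (k + 1 + 1) • ⊤ := by
          calc I₀ ^ (k + 1) • (⊤ : Submodule R S')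
              ≤ I₀ ^ (k + 1) • (T ⊔ I₀ • ⊤) := Submodule.smul_mono le_rfl hbase
            _ = I₀ ^ (k + 1) • T ⊔ I₀ ^ (k + 1) • I₀ • ⊤ := Submodule.smul_sup _ _ _
            _ ≤ T ⊔ I₀ ^ (k + 1 + 1) • ⊤ := by
              refine sup_le_sup Submodule.smul_le_right ?_
              rw [← Submodule.mul_smul, ← pow_succ]
        exact ih.trans (sup_le le_sup_left h3)
    have hT : (⊤ : Submodule R S') ≤ T := by
      rcases N with _ | N
      · -- I₀^0 = ⊤ = ⊥ means R trivial
        rw [pow_zero] at hN
        have : Subsingleton R := by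
          have h1 : (1 : R) ∈ (1 : Ideal R) := by rw [Ideal.one_eq_top]; trivial
          rw [hN, Ideal.zero_eq_bot, Ideal.mem_bot] at h1
          exact subsingleton_of_zero_eq_one h1.symm
        intro y _
        have : Subsingleton S' := Module.subsingleton R S'
        exact ⟨0, Subsingleton.elim _ _⟩
      · have := hind N
        rw [hN] at this
        simpa using this
    intro y
    obtain ⟨s, hs⟩ := hT (Submodule.mem_top : y ∈ ⊤)
    exact ⟨s, hs⟩
  refine ⟨?_, hsurjf⟩
  -- Step 2: injectivity
  let K : Ideal S := RingHom.ker f.toRingHom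
  have hKfg : K.FG := by
    obtain ⟨n, g, hg⟩ := Algebra.FiniteType.iff_quotient_mvPolynomial''.mp
      (inferInstance : Algebra.FiniteType R S)
    have h1 := (Algebra.FinitePresentation.ker_fg_of_mvPolynomial (f.comp g)
      (hsurjf.comp hg)).map g.toRingHom
    convert h1
    simp_rw [K, RingHom.ker_eq_comap_bot, AlgHom.toRingHom_eq_coe, AlgHom.comp_toRingHom]
    rw [← Ideal.comap_comap, Ideal.map_comap_of_surjective (g : MvPolynomial (Fin n) R →+* S) hg]
  have hKle : K ≤ (I.map (algebraMap R S)) • K := by
    intro x hx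
    have hfx : f x = 0 := hx
    have hxIS : x ∈ I.map (algebraMap R S) := hker x (by rw [hfx]; exact zero_mem _)
    have hxIS' : ((K.restrictScalars R).subtype) ⟨x, hx⟩ ∈ I • (⊤ : Submodule R S) := by
      rw [Ideal.smul_top_eq_map]; exact hxIS
    have hpure := Groth.Agent.Helper4.AdicFlat.pure_of_flat I (K := K.restrictScalars R)
      (M := S) (N := S') (K.restrictScalars R).subtype f.toLinearMap
      (Submodule.injective_subtype _) hsurjf (by
        intro y
        constructor
        · intro hy
          exact ⟨⟨y, hy⟩, rfl⟩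
        · rintro ⟨z, rfl⟩
          exact z.2) ⟨x, hx⟩ hxIS'
    -- transfer
    have htrans : ∀ z : K.restrictScalars R, z ∈ I • (⊤ : Submodule R (K.restrictScalars R)) →
        (z : S) ∈ (I.map (algebraMap R S)) • K := by
      intro z hz
      refine Submodule.smul_induction_on hz ?_ ?_
      · intro a ha k _
        have : ((a • k : K.restrictScalars R) : S) = algebraMap R S a • (k : S) := by
          rw [Submodule.coe_smul, Algebra.smul_def, smul_eq_mul]
        rw [this]
        exact Submodule.smul_mem_smul (Ideal.mem_map_of_mem _ ha) k.2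
      · intro y z hy hz
        rw [Submodule.coe_add]
        exact Submodule.add_mem _ hy hz
    exact htrans ⟨x, hx⟩ hpure
  have hjac : I.map (algebraMap R S) ≤ Ideal.jacobson ⊥ := by
    refine le_trans ?_ (Ideal.radical_le_jacobson (I := (⊥ : Ideal S)))
    rw [Ideal.map_le_iff_le_comap]
    intro a ha
    rw [Ideal.mem_comap]
    exact (mem_nilradical).mpr ((hI a ha).map (algebraMap R S))
  have hK0 : K = ⊥ := Submodule.eq_bot_of_le_smul_of_le_jacobson_bot _ K hKfg hKle hjac
  rw [injective_iff_map_eq_zero]
  intro x hx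
  have : x ∈ K := hx
  rw [hK0] at this
  exact this

end Groth.Agent.S9140
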