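import Groth.Statements.S9157
import Mathlib

set_option autoImplicit false
universe u
open CAlg

namespace Groth.Agent.S9157


/-- If the localization S⁻¹M of an R-module M is finitely presented over S⁻¹R, then some finitely
presented R-module M' maps to M inducing an isomorphism S⁻¹M' → S⁻¹M. -/
theorem result (R : Type u) [CommRing R] (S : Submonoid R)
    (M : Type u) [AddCommGroup M] [Module R M]
    [Module.FinitePresentation (Localization S) (LocalizedModule S M)] :
    ∃ (M' : Type u) (_ : AddCommGroup M') (_ : Module R M') (φ : M' →ₗ[R] M),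
      Module.FinitePresentation R M' ∧ Function.Bijective (LocalizedModule.map S φ) := by

  classical
  obtain ⟨n, y, hy⟩ := Module.Finite.exists_fin (R := Localization S) (M := LocalizedModule S M)
  have hnum : ∀ j : Fin n, ∃ (m : M) (s : S), s • y j = LocalizedModule.mkLinearMap S M m := by
    intro j
    obtain ⟨⟨m, s⟩, h⟩ := IsLocalizedModule.surj S (LocalizedModule.mkLinearMap S M) (y j)
    exact ⟨m, s, h⟩
  choose m s hms using hnum
  let f : (Fin n → R) →ₗ[R] M := Fintype.linearCombination R m
  have hF_single : ∀ j, LocalizedModule.map S f (LocalizedModule.mk (Pi.single j 1) 1) =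
      LocalizedModule.mkLinearMap S M (m j) := by
    intro j
    rw [LocalizedModule.map_mk]
    simp only [f, Fintype.linearCombination_apply_single, one_smul]
    rfl
  have hFsurj : Function.Surjective (LocalizedModule.map S f) := by
    rw [← LinearMap.range_eq_top, eq_top_iff, ← hy, Submodule.span_le]
    rintro _ ⟨j, rfl⟩
    obtain ⟨u, hu'⟩ := IsLocalization.map_units (Localization S) (s j)
    have h1 : (u : Localization S) • y j = LocalizedModule.mkLinearMap S M (m j) := by
      rw [hu', algebraMap_smul, ← hms j]
      rfl
    have h2 : y j = (↑(u⁻¹) : Localization S) • LocalizedModule.mkLinearMap S M (m j) := by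
      rw [← h1, smul_smul, Units.inv_mul, one_smul]
    rw [h2]
    exact Submodule.smul_mem _ _ ⟨_, hF_single j⟩
  have hker : (LinearMap.ker (LocalizedModule.map S f)).FG :=
    Module.FinitePresentation.fg_ker _ hFsurj
  obtain ⟨r, k, hk⟩ := Submodule.fg_iff_exists_fin_generating_family.mp hker
  have hkmem : ∀ i, k i ∈ LinearMap.ker (LocalizedModule.map S f) := by
    intro i
    rw [← hk]
    exact Submodule.subset_span ⟨i, rfl⟩
  have hnum2 : ∀ i : Fin r, ∃ (w : Fin n → R) (t : S),
      t • k i = LocalizedModule.mkLinearMap S (Fin n → R) w ∧ f w = 0 := by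
    intro i
    obtain ⟨⟨v, t⟩, h⟩ := IsLocalizedModule.surj S (LocalizedModule.mkLinearMap S (Fin n → R)) (k i)
    have h0 : LocalizedModule.mkLinearMap S M (f v) = 0 := by
      have h1 : LocalizedModule.map S f (LocalizedModule.mkLinearMap S (Fin n → R) v) =
          LocalizedModule.mkLinearMap S M (f v) := by
        show LocalizedModule.map S f (LocalizedModule.mk v 1) = _
        rw [LocalizedModule.map_mk]
        rfl
      rw [← h1, ← h]
      have h2 : (t • k i) = (t : R) • k i := rfl
      rw [h2, LinearMap.map_smul_of_tower, LinearMap.mem_ker.mp (hkmem i), smul_zero]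
    obtain ⟨u, hu⟩ := (IsLocalizedModule.eq_zero_iff S (LocalizedModule.mkLinearMap S M)).mp h0
    refine ⟨u • v, u * t, ?_, ?_⟩
    · rw [mul_smul, h]
      show (u : R) • LocalizedModule.mkLinearMap S (Fin n → R) v =
        LocalizedModule.mkLinearMap S (Fin n → R) ((u : R) • v)
      rw [map_smul]
    · have : f (u • v) = u • f v := by
        show f ((u : R) • v) = (u : R) • f v
        rw [map_smul]
      rw [this, hu]
  choose w t htw hfw using hnum2
  let K : Submodule R (Fin n → R) := Submodule.span R (Set.range w)
  have hK : K ≤ LinearMap.ker f := by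
    rw [Submodule.span_le]
    rintro _ ⟨i, rfl⟩
    exact hfw i
  refine ⟨(Fin n → R) ⧸ K, inferInstance, inferInstance, K.liftQ f hK, ?_, ?_⟩
  · refine Module.finitePresentation_of_free_of_surjective K.mkQ (Submodule.mkQ_surjective K) ?_
    rw [Submodule.ker_mkQ]
    exact Submodule.fg_span (Set.finite_range w)
  · have hcomp : ∀ z, LocalizedModule.map S (K.liftQ f hK) (LocalizedModule.map S K.mkQ z) =
        LocalizedModule.map S f z := by
      intro z
      induction z using LocalizedModule.induction_on with
      | _ v s =>
        rw [LocalizedModule.map_mk, LocalizedModule.map_mk, LocalizedModule.map_mk]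
        rfl
    have hGsurj : Function.Surjective (LocalizedModule.map S K.mkQ) :=
      LocalizedModule.map_surjective S _ (Submodule.mkQ_surjective K)
    constructor
    · rw [injective_iff_map_eq_zero]
      intro x hx
      obtain ⟨z, rfl⟩ := hGsurj x
      rw [hcomp] at hx
      have hz : z ∈ LinearMap.ker (LocalizedModule.map S f) := hx
      rw [← hk] at hz
      have hle : Submodule.span (Localization S) (Set.range k) ≤
          LinearMap.ker (LocalizedModule.map S K.mkQ) := by
        rw [Submodule.span_le]
        rintro _ ⟨i, rfl⟩
        rw [SetLike.mem_coe, LinearMap.mem_ker]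
        apply IsLocalizedModule.smul_injective (LocalizedModule.mkLinearMap S ((Fin n → R) ⧸ K)) (t i)
        show (t i) • (LocalizedModule.map S K.mkQ (k i)) = (t i) • 0
        rw [smul_zero]
        have h2 : ((t i) • LocalizedModule.map S K.mkQ (k i)) =
            LocalizedModule.map S K.mkQ ((t i) • k i) := by
          show ((t i : R) • LocalizedModule.map S K.mkQ (k i)) =
            LocalizedModule.map S K.mkQ ((t i : R) • k i)
          rw [LinearMap.map_smul_of_tower]
        rw [h2, htw i]
        show LocalizedModule.map S K.mkQ (LocalizedModule.mk (w i) 1) = 0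
        rw [LocalizedModule.map_mk]
        have : K.mkQ (w i) = 0 := by
          rw [Submodule.mkQ_apply, Submodule.Quotient.mk_eq_zero]
          exact Submodule.subset_span ⟨i, rfl⟩
        rw [this, LocalizedModule.zero_mk]
      exact hle hz
    · intro y'
      obtain ⟨z, hz⟩ := hFsurj y'
      exact ⟨LocalizedModule.map S K.mkQ z, by rw [hcomp, hz]⟩

end Groth.Agent.S9157
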