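import Groth.Statements.S9160
import Mathlib
import Mathlib

set_option autoImplicit false
universe u
open CAlg

namespace Groth.Agent.S9160


/-- In a semi-local Noetherian ring of dimension one, for nonzerodivisors a and b the length of R/(ab)
is the sum of the lengths of R/(a) and R/(b), and these lengths are finite. -/
theorem result (R : Type u) [CommRing R] [IsNoetherianRing R]
    (hsemi : Finite (MaximalSpectrum R)) (hdim : ringKrullDim R = 1) (a b : R) (ha : IsRegular a)
    (hb : IsRegular b) :
    Module.length R (R ⧸ Ideal.span ({a * b} : Set R)) =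
        Module.length R (R ⧸ Ideal.span ({a} : Set R)) + Module.length R (R ⧸ Ideal.span ({b} : Set R)) ∧
      Module.length R (R ⧸ Ideal.span ({a} : Set R)) ≠ ⊤ ∧
      Module.length R (R ⧸ Ideal.span ({b} : Set R)) ≠ ⊤ := by

  classical
  -- finiteness of length of R/(c) for a regular element c
  have hfin : ∀ c : R, IsRegular c → Module.length R (R ⧸ Ideal.span ({c} : Set R)) ≠ ⊤ := by
    intro c hc
    have hc' : c ∈ nonZeroDivisors R := hc.mem_nonZeroDivisors
    have h1 := ringKrullDim_quotient_succ_le_of_nonZeroDivisor hc'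
    rw [hdim] at h1
    have h0 : ringKrullDim (R ⧸ Ideal.span ({c} : Set R)) ≤ 0 := by
      cases h : ringKrullDim (R ⧸ Ideal.span ({c} : Set R)) with
      | bot => exact bot_le
      | coe n =>
        rw [h] at h1
        have h2 : (n : WithBot ℕ∞) + 1 ≤ 1 := h1
        rw [← WithBot.coe_one, ← WithBot.coe_add, WithBot.coe_le_coe] at h2
        rw [← WithBot.coe_zero, WithBot.coe_le_coe]
        have h3 : n < 1 := (ENat.add_one_le_iff' (by simp)).mp h2
        exact Order.le_of_lt_add_one (by simpa using h3)
    have hK : Ring.KrullDimLE 0 (R ⧸ Ideal.span ({c} : Set R)) := by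
      rw [Ring.KrullDimLE, Order.krullDimLE_iff, ← ringKrullDim]
      simpa using h0
    haveI : IsArtinianRing (R ⧸ Ideal.span ({c} : Set R)) :=
      isArtinianRing_iff_krullDimLE_zero.mpr hK
    haveI : IsArtinian R (R ⧸ Ideal.span ({c} : Set R)) :=
      isArtinian_of_surjective_algebraMap (R := R ⧸ Ideal.span ({c} : Set R))
        Ideal.Quotient.mk_surjective
    exact Module.length_ne_top
  refine ⟨?_, hfin a ha, hfin b hb⟩
  -- the exact sequence
  let f : (R ⧸ Ideal.span ({a} : Set R)) →ₗ[R] (R ⧸ Ideal.span ({a * b} : Set R)) :=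
    Submodule.liftQ _ ((Ideal.span ({a * b} : Set R)).mkQ ∘ₗ LinearMap.mulLeft R b) (by
      intro x hx
      rw [Ideal.mem_span_singleton'] at hx
      obtain ⟨r, rfl⟩ := hx
      simp only [LinearMap.mem_ker, LinearMap.coe_comp, Function.comp_apply,
        LinearMap.mulLeft_apply, Submodule.mkQ_apply]
      rw [Submodule.Quotient.mk_eq_zero]
      exact Ideal.mem_span_singleton'.mpr ⟨r, by ring⟩)
  let g : (R ⧸ Ideal.span ({a * b} : Set R)) →ₗ[R] (R ⧸ Ideal.span ({b} : Set R)) :=
    Submodule.liftQ _ (Ideal.span ({b} : Set R)).mkQ (by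
      intro x hx
      rw [Ideal.mem_span_singleton'] at hx
      obtain ⟨r, rfl⟩ := hx
      simp only [LinearMap.mem_ker, Submodule.mkQ_apply]
      rw [Submodule.Quotient.mk_eq_zero]
      exact Ideal.mem_span_singleton'.mpr ⟨r * a, by ring⟩)
  have hf : Function.Injective f := by
    rw [injective_iff_map_eq_zero]
    intro x hx
    obtain ⟨x, rfl⟩ := Submodule.Quotient.mk_surjective _ x
    have : f (Submodule.Quotient.mk x) = Submodule.Quotient.mk (b * x) := rfl
    rw [this, Submodule.Quotient.mk_eq_zero, Ideal.mem_span_singleton'] at hx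
    obtain ⟨r, hr⟩ := hx
    rw [Submodule.Quotient.mk_eq_zero, Ideal.mem_span_singleton']
    refine ⟨r, hb.left ?_⟩
    simp only
    rw [← hr]; ring
  have hg : Function.Surjective g := by
    intro y
    obtain ⟨y, rfl⟩ := Submodule.Quotient.mk_surjective _ y
    exact ⟨Submodule.Quotient.mk y, rfl⟩
  have hfg : Function.Exact f g := by
    intro y
    obtain ⟨y, rfl⟩ := Submodule.Quotient.mk_surjective _ y
    have hgy : g (Submodule.Quotient.mk y) = Submodule.Quotient.mk y := rfl
    rw [hgy, Submodule.Quotient.mk_eq_zero, Ideal.mem_span_singleton']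
    constructor
    · rintro ⟨r, rfl⟩
      exact ⟨Submodule.Quotient.mk r, by
        change (Submodule.Quotient.mk (b * r) : R ⧸ Ideal.span ({a * b} : Set R)) = _
        exact congrArg _ (mul_comm b r)⟩
    · rintro ⟨x, hx⟩
      obtain ⟨x, rfl⟩ := Submodule.Quotient.mk_surjective _ x
      have : f (Submodule.Quotient.mk x) = Submodule.Quotient.mk (b * x) := rfl
      rw [this, Submodule.Quotient.eq, Ideal.mem_span_singleton'] at hx
      obtain ⟨r, hr⟩ := hx
      refine ⟨x - r * a, ?_⟩
      have : y = b * x - r * (a * b) := by rw [hr]; ring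
      rw [this]; ring
  exact Module.length_eq_add_of_exact f g hf hg hfg

end Groth.Agent.S9160
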