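import Groth.Statements.S9161
import Mathlib.Tactic

set_option autoImplicit false
universe u
open CAlg

namespace Groth.Agent.S9161

/-- If two two-term complexes of R-modules A₁ → A₀ and B₁ → B₀ are homotopy equivalent (maps of
complexes both ways whose composites are homotopic to the identity maps), then A₁ ⊕ B₀ and B₁ ⊕ A₀
are isomorphic R-modules. -/
theorem result (R : Type u) [CommRing R]
    (A₁ A₀ B₁ B₀ : Type u) [AddCommGroup A₁] [Module R A₁] [AddCommGroup A₀] [Module R A₀]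
    [AddCommGroup B₁] [Module R B₁] [AddCommGroup B₀] [Module R B₀]
    (dA : A₁ →ₗ[R] A₀) (dB : B₁ →ₗ[R] B₀) (φ₁ : A₁ →ₗ[R] B₁) (φ₀ : A₀ →ₗ[R] B₀)
    (ψ₁ : B₁ →ₗ[R] A₁) (ψ₀ : B₀ →ₗ[R] A₀) (hφ : dB ∘ₗ φ₁ = φ₀ ∘ₗ dA) (hψ : dA ∘ₗ ψ₁ = ψ₀ ∘ₗ dB)
    (h : A₀ →ₗ[R] A₁) (hh₁ : LinearMap.id - ψ₁ ∘ₗ φ₁ = h ∘ₗ dA) (hh₀ : LinearMap.id - ψ₀ ∘ₗ φ₀ = dA ∘ₗ h)
    (h' : B₀ →ₗ[R] B₁) (hh'₁ : LinearMap.id - φ₁ ∘ₗ ψ₁ = h' ∘ₗ dB)
    (hh'₀ : LinearMap.id - φ₀ ∘ₗ ψ₀ = dB ∘ₗ h') :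
    Nonempty ((A₁ × B₀) ≃ₗ[R] (B₁ × A₀)) := by
  have eφ : ∀ x, dB (φ₁ x) = φ₀ (dA x) := fun x => LinearMap.congr_fun hφ x
  have eψ : ∀ x, dA (ψ₁ x) = ψ₀ (dB x) := fun x => LinearMap.congr_fun hψ x
  have e1 : ∀ x, x - ψ₁ (φ₁ x) = h (dA x) := fun x => LinearMap.congr_fun hh₁ x
  have e0 : ∀ x, x - ψ₀ (φ₀ x) = dA (h x) := fun x => LinearMap.congr_fun hh₀ x
  have e1' : ∀ x, x - φ₁ (ψ₁ x) = h' (dB x) := fun x => LinearMap.congr_fun hh'₁ x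
  have e0' : ∀ x, x - φ₀ (ψ₀ x) = dB (h' x) := fun x => LinearMap.congr_fun hh'₀ x
  let α : (A₁ × B₀) →ₗ[R] (B₁ × A₀) :=
    ((φ₁ ∘ₗ LinearMap.fst R A₁ B₀) - (h' ∘ₗ LinearMap.snd R A₁ B₀)).prod
      ((dA ∘ₗ LinearMap.fst R A₁ B₀) + (ψ₀ ∘ₗ LinearMap.snd R A₁ B₀))
  have hα : ∀ a b, α (a, b) = (φ₁ a - h' b, dA a + ψ₀ b) := fun a b => rfl
  refine ⟨LinearEquiv.ofBijective α ⟨?_, ?_⟩⟩
  · rw [injective_iff_map_eq_zero]
    rintro ⟨a, b⟩ hab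
    rw [hα, Prod.mk_eq_zero] at hab
    obtain ⟨h1, h2⟩ := hab
    have hb : b = 0 := by
      have k1 := congrArg dB h1
      have k2 := congrArg φ₀ h2
      simp only [map_sub, map_add, map_zero] at k1 k2
      have k3 := e0' b
      have k4 := eφ a
      linear_combination (norm := abel) -k1 + k2 + k3 + k4
    subst hb
    simp only [map_zero, sub_zero, add_zero] at h1 h2
    have := e1 a
    rw [h1, h2, map_zero, map_zero, sub_zero] at this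
    simp [this]
  · rintro ⟨b₁, a₀⟩
    obtain ⟨b₁', hb₁'⟩ : ∃ x, x = b₁ - φ₁ (h a₀) + h' (φ₀ a₀) := ⟨_, rfl⟩
    refine ⟨(ψ₁ b₁' + h a₀, - dB b₁' + φ₀ a₀), ?_⟩
    rw [hα]
    ext
    · simp only [map_add, map_neg]
      have k := e1' b₁'
      linear_combination (norm := abel) -k + hb₁'
    · simp only [map_add, map_neg]
      have k1 := eψ b₁'
      have k2 := e0 a₀
      linear_combination (norm := abel) k1 - k2

end Groth.Agent.S9161
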