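import Groth.Statements.S9163
import Mathlib

set_option autoImplicit false
universe u
open CAlg

namespace Groth.Agent.S9163

open Polynomial

/-- If S is integral over R, then any finitely many elements of R and of S lie in a pair R₀ ⊆ R, S₀ ⊆ S
with R₀ a finite type ℤ-subalgebra, S₀ an R₀-subalgebra of S, and S₀ finite as an R₀-module; so R →
S is the directed colimit of finite maps between finite type ℤ-algebras. -/
theorem result (R S : Type u) [CommRing R] [CommRing S] [Algebra R S]
    [Algebra.IsIntegral R S] (E : Finset R) (F : Finset S) :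
    ∃ (R₀ : Subalgebra ℤ R) (S₀ : Subalgebra R₀ S), Algebra.FiniteType ℤ R₀ ∧ (E : Set R) ⊆ R₀ ∧
      (F : Set S) ⊆ S₀ ∧ Module.Finite R₀ S₀ := by
  classical
  have hint : ∀ y : S, ∃ p : R[X], p.Monic ∧ Polynomial.eval₂ (algebraMap R S) y p = 0 :=
    fun y => Algebra.IsIntegral.isIntegral y
  choose p hpm hp using hint
  let C : Set R := (E : Set R) ∪ ⋃ y ∈ F, ((p y).coeffs : Set R)
  have hC : C.Finite :=
    E.finite_toSet.union (F.finite_toSet.biUnion fun y _ => (p y).coeffs.finite_toSet)
  let R₀ : Subalgebra ℤ R := Algebra.adjoin ℤ C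
  have hft : Algebra.FiniteType ℤ R₀ :=
    (Subalgebra.fg_iff_finiteType R₀).mp ⟨hC.toFinset, by simp [R₀]⟩
  have hy : ∀ y ∈ (F : Set S), IsIntegral R₀ y := by
    intro y hyF
    have hsub : ((p y).coeffs : Set R) ⊆ R₀.toSubring := fun c hc =>
      Algebra.subset_adjoin (Or.inr (Set.mem_biUnion hyF hc))
    refine ⟨(p y).toSubring R₀.toSubring hsub, ((p y).monic_toSubring _ _).mpr (hpm y), ?_⟩
    rw [IsScalarTower.algebraMap_eq R₀ R S, ← Polynomial.eval₂_map]
    have hmap : Polynomial.map (algebraMap R₀ R) ((p y).toSubring R₀.toSubring hsub) = p y :=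
      (p y).map_toSubring R₀.toSubring hsub
    rw [hmap]
    exact hp y
  refine ⟨R₀, Algebra.adjoin R₀ (F : Set S), hft, ?_, Algebra.subset_adjoin, ?_⟩
  · intro e he
    exact Algebra.subset_adjoin (Or.inl he)
  · exact Algebra.finite_adjoin_of_finite_of_isIntegral F.finite_toSet hy

end Groth.Agent.S9163
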