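import Groth.Statements.S9167
import Groth.Agent.Helper4.FPQuotLoc
import Mathlib

set_option autoImplicit false
universe u
open CAlg

namespace Groth.Agent.S9167


/-- With R' = S⁻¹(R/I), every finitely presented R'-module is of the form S⁻¹(M/IM) for some finitely
presented R-module M. -/
theorem result (R : Type u) [CommRing R] (I : Ideal R)
    (S : Submonoid R) (M' : Type u) [AddCommGroup M']
    [Module (Localization (S.map (Ideal.Quotient.mk I))) M']
    [Module.FinitePresentation (Localization (S.map (Ideal.Quotient.mk I))) M'] :
    ∃ (M : Type u) (_ : AddCommGroup M) (_ : Module R M), Module.FinitePresentation R M ∧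
      Nonempty (LocalizedModule (S.map (Ideal.Quotient.mk I)) (M ⧸ (I • ⊤ : Submodule R M))
        ≃ₗ[Localization (S.map (Ideal.Quotient.mk I))] M') := by

  exact Groth.Agent.Helper4.FPQuotLoc.main R I (S.map (Ideal.Quotient.mk I)) M'

end Groth.Agent.S9167
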