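import Groth.Statements.S9170
import Groth.Agent.Helper5.RelGCI20
import Groth.Agent.Helper5.RelGCI13
import Groth.Agent.Helper3.KzCot

set_option autoImplicit false
universe u
open Synt

namespace Groth.Agent.S9170

/-- For a relative global complete intersection S = R[x_1, …, x_n]/(f_1, …, f_c) over a ring R and a
prime q' of the polynomial ring containing the ideal (f_1, …, f_c): (1) f_1, …, f_c is a regular
sequence in the localization R[x]_{q'} (a local ring); (2) every quotient R[x]_{q'}/(f_1, …, f_i) is
flat over R; (3) the conormal module (f)/(f)² is free over S with basis the classes of the f_i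
(stated as: these classes are linearly independent over S and span). -/
theorem result (R : Type u) [CommRing R] (n c : ℕ)
    (F : Fin c → MvPolynomial (Fin n) R) (h : Synt.IsRelGCI R n c F)
    (q' : Ideal (MvPolynomial (Fin n) R)) [q'.IsPrime] (hq' : Ideal.span (Set.range F) ≤ q') :
    RingTheory.Sequence.IsRegular (Localization.AtPrime q')
        ((List.ofFn F).map (algebraMap (MvPolynomial (Fin n) R) (Localization.AtPrime q'))) ∧
      (∀ i ≤ c, Module.Flat R (Localization.AtPrime q' ⧸ Ideal.ofList
        (((List.ofFn F).take i).map (algebraMap (MvPolynomial (Fin n) R) (Localization.AtPrime q'))))) ∧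
      LinearIndependent (Synt.RelGCIRing R n c F)
        (fun i : Fin c => (Ideal.span (Set.range F)).toCotangent ⟨F i, Ideal.subset_span (Set.mem_range_self i)⟩) ∧
      Submodule.span (Synt.RelGCIRing R n c F) (Set.range
        (fun i : Fin c => (Ideal.span (Set.range F)).toCotangent ⟨F i, Ideal.subset_span (Set.mem_range_self i)⟩)) = ⊤ := by
  obtain ⟨c1, c2⟩ := Groth.Agent.Helper5.RelGCI.core_general R n c F h q' hq'
  refine ⟨⟨c1, ?_⟩, ?_, ?_⟩
  · -- the sequence lies in the maximal ideal
    rw [smul_eq_mul, Ideal.mul_top]
    intro htop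
    have hle : Ideal.ofList ((List.ofFn F).map
        (algebraMap (MvPolynomial (Fin n) R) (Localization.AtPrime q'))) ≤
        IsLocalRing.maximalIdeal (Localization.AtPrime q') := by
      rw [Ideal.span_le]
      intro x hx
      obtain ⟨y, hy, rfl⟩ := List.mem_map.1 hx
      obtain ⟨j, rfl⟩ := (List.mem_ofFn' F y).1 hy
      exact (IsLocalization.AtPrime.to_map_mem_maximal_iff (Localization.AtPrime q') q' (F j)).2
        (hq' (Ideal.subset_span (Set.mem_range_self j)))
    exact (IsLocalRing.maximalIdeal.isMaximal (Localization.AtPrime q')).ne_top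
      (top_le_iff.1 (htop ▸ hle))
  · intro i hi
    rw [List.map_take]
    exact c2 i hi
  · have hI : Ideal.span (Set.range F) ≠ ⊤ := fun htop =>
      (inferInstance : q'.IsPrime).ne_top (top_le_iff.1 (htop ▸ hq'))
    obtain ⟨b, hb⟩ := Groth.Agent.Helper3.KzCot.main (I := Ideal.span (Set.range F)) hI c
      (fun i => ⟨F i, Ideal.subset_span (Set.mem_range_self i)⟩)
      (Groth.Agent.Helper5.RelGCI.s9254 R n c F h) rfl
    have hbv : (fun i : Fin c => (Ideal.span (Set.range F)).toCotangent
        ⟨F i, Ideal.subset_span (Set.mem_range_self i)⟩) = ⇑b := funext fun i => (hb i).symm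
    rw [hbv]
    exact ⟨b.linearIndependent, b.span_eq⟩

end Groth.Agent.S9170
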