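import Groth.Statements.S9177
import Groth.Agent.Helper4.WeakColimDescent
import Mathlib

set_option autoImplicit false
universe u
open CAlg

namespace Groth.Agent.S9177


open TensorProduct in
/-- Let R = colim R_i be a directed colimit of A-algebras (compatible transition maps), B and C
A-algebras. (1) If B is of finite type over A, two A-algebra maps B → C whose base changes to R
coincide already have equal base changes to some R_i. (2) If C is of finite type over A and u : B →
C has surjective base change to R, then its base change to some R_i is surjective. (The A-algebra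
structure on R is through any stage R_l; it does not depend on l.) -/
theorem result {ι : Type u} [Preorder ι]
    [Nonempty ι] [IsDirectedOrder ι] (G : ι → Type u) [∀ i, CommRing (G i)]
    (f : ∀ i j, i ≤ j → G i →+* G j) [DirectedSystem G (fun i j h => f i j h)]
    (A : Type u) [CommRing A] [∀ i, Algebra A (G i)]
    (hf : ∀ i j (h : i ≤ j), (f i j h).comp (algebraMap A (G i)) = algebraMap A (G j)) (l : ι)
    (B C : Type u) [CommRing B] [CommRing C] [Algebra A B] [Algebra A C] :
    letI : Algebra A (Ring.DirectLimit G (fun i j h => f i j h)) :=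
      ((Ring.DirectLimit.of G (fun i j h => f i j h) l).comp (algebraMap A (G l))).toAlgebra
    (Algebra.FiniteType A B → ∀ u u' : B →ₐ[A] C,
        Algebra.TensorProduct.map (AlgHom.id A (Ring.DirectLimit G (fun i j h => f i j h))) u =
            Algebra.TensorProduct.map (AlgHom.id A (Ring.DirectLimit G (fun i j h => f i j h))) u' →
          ∃ i : ι, Algebra.TensorProduct.map (AlgHom.id A (G i)) u =
            Algebra.TensorProduct.map (AlgHom.id A (G i)) u') ∧
      (Algebra.FiniteType A C → ∀ u : B →ₐ[A] C,
        Function.Surjective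
            (Algebra.TensorProduct.map (AlgHom.id A (Ring.DirectLimit G (fun i j h => f i j h))) u) →
          ∃ i : ι, Function.Surjective (Algebra.TensorProduct.map (AlgHom.id A (G i)) u)) := by

  classical
  letI : Algebra A (Ring.DirectLimit G (fun i j h => f i j h)) :=
    ((Ring.DirectLimit.of G (fun i j h => f i j h) l).comp (algebraMap A (G l))).toAlgebra
  have hcomm : ∀ i (a : A), Ring.DirectLimit.of G (fun i j h => f i j h) i (algebraMap A (G i) a) =
      algebraMap A (Ring.DirectLimit G (fun i j h => f i j h)) a := by
    intro i a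
    obtain ⟨k, hik, hlk⟩ := exists_ge_ge i l
    show _ = Ring.DirectLimit.of G (fun i j h => f i j h) l (algebraMap A (G l) a)
    rw [← Ring.DirectLimit.of_f hik, ← Ring.DirectLimit.of_f hlk]
    have h1 := congrArg (fun F => F a) (hf i k hik)
    have h2 := congrArg (fun F => F a) (hf l k hlk)
    simp only [RingHom.comp_apply] at h1 h2
    rw [h1, h2]
  let g : ∀ i, G i →ₐ[A] Ring.DirectLimit G (fun i j h => f i j h) := fun i =>
    { Ring.DirectLimit.of G (fun i j h => f i j h) i with commutes' := hcomm i }
  let F : ∀ i j, i ≤ j → (G i →ₐ[A] G j) := fun i j h =>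
    { f i j h with commutes' := fun a => congrArg (fun F => F a) (hf i j h) }
  have hW : Groth.Agent.Helper4.WeakColim.IsWeakColimit g :=
    Groth.Agent.Helper4.WeakColim.isWeakColimit_of_directed F g
      (fun i j h => by ext x; exact Ring.DirectLimit.of_f h x)
      (fun a => Ring.DirectLimit.exists_of a)
      (fun i x hx => Ring.DirectLimit.of.zero_exact hx)
  refine ⟨?_, ?_⟩
  · intro hB u u' huu'
    obtain ⟨s, hs⟩ := (Algebra.FiniteType.out : (⊤ : Subalgebra A B).FG)
    obtain ⟨j, φ, hφ, hφT⟩ := hW.tensor_ker_finset C l
      (s.image fun b => (1 : G l) ⊗ₜ[A] (u b - u' b)) (by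
        intro z hz
        obtain ⟨b, -, rfl⟩ := Finset.mem_image.mp hz
        have := congrArg (fun F => F ((1 : Ring.DirectLimit G (fun i j h => f i j h)) ⊗ₜ[A] b)) huu'
        simp only [Algebra.TensorProduct.map_tmul, AlgHom.coe_id, id_eq] at this
        rw [LinearMap.rTensor_tmul, AlgHom.toLinearMap_apply, map_one,
          TensorProduct.tmul_sub, this, sub_self])
    refine ⟨j, ?_⟩
    apply Algebra.TensorProduct.ext
    · ext x; simp
    · apply AlgHom.ext_of_adjoin_eq_top hs
      intro b hb
      have := hφT _ (Finset.mem_image_of_mem _ hb)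
      rw [LinearMap.rTensor_tmul, AlgHom.toLinearMap_apply, map_one,
        TensorProduct.tmul_sub, sub_eq_zero] at this
      simpa using this
  · intro hC u hu
    obtain ⟨s, hs⟩ := (Algebra.FiniteType.out : (⊤ : Subalgebra A C).FG)
    choose z hz using fun c : C => hu (1 ⊗ₜ c)
    obtain ⟨i, w, hw⟩ := hW.tensor_lift_finite B (fun c : s => z c)
    have hnat : ∀ {i j : ι} (ψ : G i →ₐ[A] G j) (y : G i ⊗[A] B),
        ψ.toLinearMap.rTensor C (Algebra.TensorProduct.map (AlgHom.id A (G i)) u y) =
          Algebra.TensorProduct.map (AlgHom.id A (G j)) u (ψ.toLinearMap.rTensor B y) := by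
      intro i j ψ y
      induction y using TensorProduct.induction_on with
      | zero => simp
      | tmul => simp
      | add _ _ h1 h2 => simp only [map_add, h1, h2]
    have hnat' : ∀ (y : G i ⊗[A] B),
        (g i).toLinearMap.rTensor C (Algebra.TensorProduct.map (AlgHom.id A (G i)) u y) =
          Algebra.TensorProduct.map (AlgHom.id A _) u ((g i).toLinearMap.rTensor B y) := by
      intro y
      induction y using TensorProduct.induction_on with
      | zero => simp
      | tmul => simp
      | add _ _ h1 h2 => simp only [map_add, h1, h2]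
    obtain ⟨j, φ, hφ, hφT⟩ := hW.tensor_ker_finset C i
      (Finset.univ.image fun c : s =>
        Algebra.TensorProduct.map (AlgHom.id A (G i)) u (w c) - 1 ⊗ₜ[A] c.1) (by
        intro y hy
        obtain ⟨c, -, rfl⟩ := Finset.mem_image.mp hy
        rw [map_sub, hnat', hw, hz]
        simp)
    refine ⟨j, ?_⟩
    have htop : (Algebra.TensorProduct.map (AlgHom.id (G j) (G j)) u).range = ⊤ := by
      apply Groth.Agent.Helper4.WeakColim.subalgebra_eq_top_of_generators (s : Set C) hs
      intro c hc
      have := hφT _ (Finset.mem_image_of_mem _ (Finset.mem_univ ⟨c, hc⟩))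
      rw [map_sub, hnat, sub_eq_zero] at this
      simp only [LinearMap.rTensor_tmul, AlgHom.toLinearMap_apply, map_one] at this
      exact ⟨φ.toLinearMap.rTensor B (w ⟨c, hc⟩), this⟩
    intro y
    have : y ∈ (Algebra.TensorProduct.map (AlgHom.id (G j) (G j)) u).range := htop ▸ Algebra.mem_top
    obtain ⟨x, hx⟩ := this
    exact ⟨x, hx⟩

end Groth.Agent.S9177
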