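import Groth.Statements.S9202
import Groth.Agent.Lead.PropStage
import Groth.Agent.S7409
import Groth.Agent.S2079
import Mathlib

set_option autoImplicit false
universe u
open CategoryTheory AlgebraicGeometry
open Lim

namespace Groth.Agent.S9202

/-- Let S be a scheme and X = lim X_i a cofiltered limit of S-schemes X_i (a diagram with a compatible
family of structure maps to S) with affine transition morphisms, every X_i quasi-compact and
quasi-separated; the structure map X → S is the composite X → X_{i₀} → S for any index i₀. Let h : Y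
→ X be a proper morphism such that the composite Y → X → S is locally of finite type. Then Y → X_i
is proper for all i beyond some index i₁. -/
theorem result {I : Type u} [SmallCategory I] [IsCofiltered I] (S : Scheme.{u})
    (D : I ⥤ Scheme.{u}) (t : D ⟶ (Functor.const I).obj S) (c : Limits.Cone D) (hc : Limits.IsLimit c)
    [∀ (i j : I) (a : i ⟶ j), IsAffineHom (D.map a)]
    [∀ i, CompactSpace (D.obj i)] [∀ i, QuasiSeparatedSpace (D.obj i)] (i₀ : I)
    {Y : Scheme.{u}} (h : Y ⟶ c.pt) [IsProper h] [LocallyOfFiniteType (h ≫ c.π.app i₀ ≫ t.app i₀)] :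
    ∃ i₁ : I, ∀ (i : I) (_ : i ⟶ i₁), IsProper (h ≫ c.π.app i) := by
  refine Groth.Agent.Lead.PropStage.eventually_isProper_to_stage
    (fun f => Groth.Agent.S7409.result f) ?_ S D t c hc i₀ h
  intro Y X h _ _ _
  obtain ⟨I', _, _, D', c', hc', e, h1, h2⟩ := Groth.Agent.S2079.result h
  let i : I' := (IsCofiltered.nonempty (C := I')).some
  refine ⟨(D'.obj i).left, (D'.obj i).hom, e.inv.left ≫ (c'.π.app i).left, (h2 i).2.1, (h2 i).2.2,
    ?_, ?_⟩
  · haveI := (h2 i).1
    haveI : IsIso e.inv.left := inferInstanceAs (IsIso ((Over.forget X).map e.inv))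
    infer_instance
  · rw [Category.assoc, Over.w (c'.π.app i)]
    exact Over.w e.inv

end Groth.Agent.S9202
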