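import Groth.Statements.S9219
import Groth.Agent.Lead.LimHom
import Mathlib

set_option autoImplicit false
universe u
open CategoryTheory CategoryTheory.Limits AlgebraicGeometry
open Lim

namespace Groth.Agent.S9219

open CategoryTheory Limits AlgebraicGeometry Groth.Agent.Lead.LimPullback Groth.Agent.Lead.LimHom in
set_option backward.isDefEq.respectTransparency false in
theorem aux {I : Type u} [SmallCategory I] [IsCofiltered I]
    (D : I ⥤ Scheme.{u}) (c : Limits.Cone D) (hc : Limits.IsLimit c)
    [∀ (i j : I) (f : i ⟶ j), IsAffineHom (D.map f)] (i : I)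
    {Xi Yi : Scheme.{u}} (xi : Xi ⟶ D.obj i) (yi : Yi ⟶ D.obj i)
    [CompactSpace Xi] [QuasiSeparatedSpace Xi] [LocallyOfFinitePresentation xi]
    [CompactSpace Yi] [QuasiSeparatedSpace Yi] [LocallyOfFinitePresentation yi]
    {X : Scheme.{u}} (qX : X ⟶ Xi) (pX : X ⟶ c.pt) (hX : IsPullback qX pX xi (c.π.app i))
    (fi gi : Xi ⟶ Yi) (hfi : fi ≫ yi = xi) (hgi : gi ≫ yi = xi) (h : qX ≫ fi = qX ≫ gi) :
    ∃ (j : I) (φ : j ⟶ i), pullback.fst xi (D.map φ) ≫ fi = pullback.fst xi (D.map φ) ≫ gi := by
  have hA : ∀ {i j : I} (f : i ⟶ j), IsAffineHom (D.map f) := fun f ↦ inferInstance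
  let j₀ : Over i := Over.mk (𝟙 i)
  have hsnd : hX.flip.isoPullback.hom ≫ pullback.snd (c.π.app i) xi = qX :=
    hX.flip.isoPullback_hom_snd
  obtain ⟨j, φ, hφ⟩ := hom_eq_eventually D c hc i xi yi j₀
    (pullback.snd (D.map j₀.hom) xi ≫ fi) (pullback.snd (D.map j₀.hom) xi ≫ gi)
    (by simp [hfi]) (by simp [hgi]) (by
      have e : (pbCone D c i xi).π.app j₀ ≫ pullback.snd (D.map j₀.hom) xi
          = pullback.snd (c.π.app i) xi := by simp [pbCone]
      rw [reassoc_of% e, reassoc_of% e, ← cancel_epi hX.flip.isoPullback.hom,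
        reassoc_of% hsnd, reassoc_of% hsnd, h])
  refine ⟨j.left, j.hom, ?_⟩
  have e2 : (pbDiag D i xi).map φ ≫ pullback.snd (D.map j₀.hom) xi
      = pullback.snd (D.map j.hom) xi := by simp [pbDiag]
  rw [reassoc_of% e2, reassoc_of% e2] at hφ
  rw [← pullbackSymmetry_hom_comp_snd, Category.assoc, Category.assoc, hφ]

/-- Let S = lim S_i be a cofiltered limit of schemes with affine transition morphisms (the S_i are not
assumed quasi-compact or quasi-separated), i an index, and X_i → S_i, Y_i → S_i morphisms locally of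
finite presentation with X_i, Y_i quasi-compact and quasi-separated; let X be the base change of X_i
to S (a pullback square). If two S_i-morphisms f_i, g_i : X_i → Y_i have the same base change to S
(equivalently, the same composite with X → X_i), then for some index j over i their base changes to
S_j agree, i.e. they have the same composite with X_i ×_{S_i} S_j → X_i. This is the faithfulness
part of the equivalence between the colimit of the categories of quasi-compact quasi-separated
schemes locally of finite presentation over the S_i and the corresponding category over S. -/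
theorem result {I : Type u} [SmallCategory I] [IsCofiltered I]
    (D : I ⥤ Scheme.{u}) (c : Limits.Cone D) (hc : Limits.IsLimit c)
    [∀ (i j : I) (f : i ⟶ j), IsAffineHom (D.map f)] (i : I)
    {Xi Yi : Scheme.{u}} (xi : Xi ⟶ D.obj i) (yi : Yi ⟶ D.obj i)
    [CompactSpace Xi] [QuasiSeparatedSpace Xi] [LocallyOfFinitePresentation xi]
    [CompactSpace Yi] [QuasiSeparatedSpace Yi] [LocallyOfFinitePresentation yi]
    {X : Scheme.{u}} (qX : X ⟶ Xi) (pX : X ⟶ c.pt) (hX : IsPullback qX pX xi (c.π.app i))
    (fi gi : Xi ⟶ Yi) (hfi : fi ≫ yi = xi) (hgi : gi ≫ yi = xi) (h : qX ≫ fi = qX ≫ gi) :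
    ∃ (j : I) (φ : j ⟶ i), pullback.fst xi (D.map φ) ≫ fi = pullback.fst xi (D.map φ) ≫ gi := by
  exact aux D c hc i xi yi qX pX hX fi gi hfi hgi h

end Groth.Agent.S9219
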