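import Groth.Statements.S9245
import Mathlib

set_option autoImplicit false
universe u
open CAlg

namespace Groth.Agent.S9245


/-- For an étale ring map A → B and a prime q of B with contraction p in A, the localization A_p is a
Noetherian ring exactly when the localization B_q is. -/
theorem result (A B : Type u) [CommRing A] [CommRing B]
    [Algebra A B] [Algebra.Etale A B] (q : Ideal B) [q.IsPrime] :
    IsNoetherianRing (Localization.AtPrime (Ideal.comap (algebraMap A B) q)) ↔
      IsNoetherianRing (Localization.AtPrime q) := by

  haveI : q.LiesOver (Ideal.comap (algebraMap A B) q) := ⟨rfl⟩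
  letI := Localization.AtPrime.algebraOfLiesOver (Ideal.comap (algebraMap A B) q) q
  haveI : IsLocalHom (algebraMap (Localization.AtPrime (Ideal.comap (algebraMap A B) q))
      (Localization.AtPrime q)) :=
    Localization.isLocalHom_localRingHom (Ideal.comap (algebraMap A B) q) q (algebraMap A B)
      Ideal.LiesOver.over
  constructor
  · intro hA
    haveI : Algebra.FiniteType A B := inferInstance
    haveI : Algebra.EssFiniteType A (Localization.AtPrime q) := inferInstance
    haveI : Algebra.EssFiniteType (Localization.AtPrime (Ideal.comap (algebraMap A B) q))
        (Localization.AtPrime q) :=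
      Algebra.EssFiniteType.of_comp A _ _
    haveI : IsNoetherianRing (Algebra.EssFiniteType.subalgebra
        (Localization.AtPrime (Ideal.comap (algebraMap A B) q)) (Localization.AtPrime q)) :=
      Algebra.FiniteType.isNoetherianRing (Localization.AtPrime (Ideal.comap (algebraMap A B) q)) _
    exact IsLocalization.isNoetherianRing
      (Algebra.EssFiniteType.submonoid (Localization.AtPrime (Ideal.comap (algebraMap A B) q))
        (Localization.AtPrime q)) _ inferInstance
  · intro hB
    haveI : Module.Flat A B := inferInstance
    haveI : Module.Flat (Localization.AtPrime (Ideal.comap (algebraMap A B) q))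
        (Localization.AtPrime q) := inferInstance
    haveI : Module.FaithfullyFlat (Localization.AtPrime (Ideal.comap (algebraMap A B) q))
        (Localization.AtPrime q) := Module.FaithfullyFlat.of_flat_of_isLocalHom
    rw [isNoetherianRing_iff_ideal_fg]
    intro I
    exact Ideal.FG.of_FG_map_of_faithfullyFlat (S := Localization.AtPrime q)
      ((isNoetherianRing_iff_ideal_fg _).mp hB _)

end Groth.Agent.S9245
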