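import Groth.Statements.S9248
import Mathlib
import Groth.Agent.Helper9.PV1
-- import your own Groth.Agent.* helpers here

set_option autoImplicit false
universe u
open CAlg

namespace Groth.Agent.S9248

/-- Let R be a valuation ring, K its field of fractions and κ its residue field, and let A be a local
ring with a flat, local homomorphism R → A essentially of finite type such that κ ⊗_R A is a regular
ring. Then K ⊗_R A has trivial Picard group. -/
theorem result (R A : Type u) [CommRing R] [IsDomain R]
    [ValuationRing R] [CommRing A] [IsLocalRing A] [Algebra R A] [IsLocalHom (algebraMap R A)]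
    [Module.Flat R A] [Algebra.EssFiniteType R A]
    (hreg : IsRegularRing (TensorProduct R (IsLocalRing.ResidueField R) A)) :
    Subsingleton (CommRing.Pic (TensorProduct R (FractionRing R) A)) := by
  have hI : Ideal.map (algebraMap R A) (IsLocalRing.maximalIdeal R) ≤
      IsLocalRing.maximalIdeal A :=
    ((IsLocalRing.local_hom_TFAE (algebraMap R A)).out 0 2).1 ‹_›
  have hne : Ideal.map (algebraMap R A) (IsLocalRing.maximalIdeal R) ≠ ⊤ :=
    fun h => (IsLocalRing.maximalIdeal.isMaximal A).ne_top (top_le_iff.1 (h ▸ hI))
  have hnt : Nontrivial (A ⧸ Ideal.map (algebraMap R A) (IsLocalRing.maximalIdeal R)) :=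
    Ideal.Quotient.nontrivial_iff.2 hne
  have hlocal : IsLocalRing (A ⧸ Ideal.map (algebraMap R A) (IsLocalRing.maximalIdeal R)) :=
    IsLocalRing.of_surjective' (Ideal.Quotient.mk _) Ideal.Quotient.mk_surjective
  let e := Algebra.TensorProduct.quotIdealMapEquivQuotTensor A (IsLocalRing.maximalIdeal R)
  have hreg1 : IsRegularRing (A ⧸ Ideal.map (algebraMap R A) (IsLocalRing.maximalIdeal R)) :=
    IsRegularRing.of_ringEquiv (R := TensorProduct R (IsLocalRing.ResidueField R) A)
      e.symm.toRingEquiv
  have hreg2 : IsRegularLocalRing
      (A ⧸ Ideal.map (algebraMap R A) (IsLocalRing.maximalIdeal R)) :=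
    IsRegularLocalRing.of_isRegularRing_of_isLocalRing _
  rw [CommRing.Pic.subsingleton_iff]
  intro M _ _ hM
  let _ : Algebra A (TensorProduct R (FractionRing R) A) := Algebra.TensorProduct.rightAlgebra
  have hloc : IsLocalization (Algebra.algebraMapSubmonoid A (nonZeroDivisors R))
      (TensorProduct R (FractionRing R) A) :=
    IsLocalization.tensorRight (FractionRing R) (nonZeroDivisors R)
  have := Groth.Agent.Helper9.PV1.isStablyFree hreg2 (TensorProduct R (FractionRing R) A) M
  exact Module.free_of_isStablyFree_of_invertible _ M

end Groth.Agent.S9248
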