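import Groth.Statements.S9256
import Groth.Agent.Helper4.ArtinReg2
import Mathlib

set_option autoImplicit false
universe u
open CAlg

namespace Groth.Agent.S9256


/-- For a field extension K of k, the ring map k → K is regular exactly when K is separable over k, that
is, geometrically reduced over k. -/
theorem result (k K : Type u) [Field k] [Field K]
    [Algebra k K] : CAlg.IsRegularHom k K ↔ Algebra.IsGeometricallyReduced k K := by

  classical
  constructor
  · rintro ⟨_, h⟩
    obtain ⟨_, hgr⟩ := h ⊥
    rw [Algebra.isGeometricallyReduced_field_iff]
    have hred : IsReduced (TensorProduct k K (AlgebraicClosure k)) := by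
      apply IsReduced.tensorProduct_of_flat_of_forall_fg
      intro B hB
      obtain ⟨s, hs⟩ := hB
      let L := IntermediateField.adjoin k (s : Set (AlgebraicClosure k))
      have hBL : B ≤ L.toSubalgebra := by
        rw [← hs]; exact IntermediateField.algebra_adjoin_le_adjoin k _
      haveI : FiniteDimensional k L :=
        IntermediateField.finiteDimensional_adjoin (fun x _ => Algebra.IsIntegral.isIntegral x)
      have hL : IsReduced (TensorProduct k K L) := by
        let e := (⊥ : Ideal k).algEquivResidueFieldOfField
        letI : Algebra (⊥ : Ideal k).ResidueField L :=
          ((algebraMap k L).comp (e.symm : (⊥ : Ideal k).ResidueField →+* k)).toAlgebra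
        haveI : IsScalarTower k (⊥ : Ideal k).ResidueField L :=
          IsScalarTower.of_algebraMap_eq (fun x => by
            rw [RingHom.algebraMap_toAlgebra]
            simp only [RingHom.comp_apply]
            congr 1
            have : algebraMap k (⊥ : Ideal k).ResidueField x = e x := rfl
            rw [this]
            exact (e.symm_apply_apply x).symm)
        haveI : Module.Finite (⊥ : Ideal k).ResidueField L :=
          Module.Finite.of_restrictScalars_finite k _ _
        have h1 := hgr L inferInstance
        have h2 : IsRegularRing (TensorProduct k K L) :=
          @IsRegularRing.of_ringEquiv _ _ _ _ (Groth.Agent.Helper4.ArtinReg.fiberEquiv k K ⊥ L) h1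
        exact (Groth.Agent.Helper4.ArtinReg.isRegularRing_tensor_iff k K L).mp h2
      exact isReduced_of_injective
        (Algebra.TensorProduct.map (AlgHom.id K K) (Subalgebra.inclusion hBL))
        (Module.Flat.lTensor_preserves_injective_linearMap _ (Subalgebra.inclusion_injective hBL))
    exact isReduced_of_injective (Algebra.TensorProduct.comm k (AlgebraicClosure k) K).toAlgHom
      (AlgEquiv.injective _)
  · intro hK
    refine ⟨inferInstance, fun p hp => ⟨?_, ?_⟩⟩
    · let e := p.algEquivResidueFieldOfField
      have e2 : p.Fiber K ≃+* K :=
        ((Algebra.TensorProduct.congr e.symm AlgEquiv.refl).trans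
          (Algebra.TensorProduct.lid k K)).toRingEquiv
      exact isNoetherianRing_of_ringEquiv K e2.symm
    · intro k' _ _ hfin
      letI : Algebra k k' :=
        ((algebraMap p.ResidueField k').comp (algebraMap k p.ResidueField)).toAlgebra
      haveI : IsScalarTower k p.ResidueField k' := IsScalarTower.of_algebraMap_eq (fun x => rfl)
      haveI : Module.Finite k p.ResidueField :=
        Module.Finite.equiv p.algEquivResidueFieldOfField.toLinearEquiv
      haveI : Module.Finite k k' := Module.Finite.trans p.ResidueField k'
      haveI : IsReduced (TensorProduct k k' K) := inferInstance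
      haveI : IsReduced (TensorProduct k K k') :=
        isReduced_of_injective (Algebra.TensorProduct.comm k K k').toAlgHom (AlgEquiv.injective _)
      have h3 := (Groth.Agent.Helper4.ArtinReg.isRegularRing_tensor_iff k K k').mpr inferInstance
      exact @IsRegularRing.of_ringEquiv _ _ _ _ (Groth.Agent.Helper4.ArtinReg.fiberEquiv k K p k').symm h3

end Groth.Agent.S9256
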