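import Groth.Statements.S9259
import Groth.Agent.Helper2.RegLoc

set_option autoImplicit false
universe u
open CAlg

namespace Groth.Agent.S9259

/-- Regularity of a ring map is a local property: for a ring map R → Λ with Noetherian target,
regularity of R → Λ is equivalent to regularity of every induced local map R_p → Λ_q (q a prime of
Λ, p = q ∩ R), and also to regularity of those induced maps at the maximal ideals q of Λ. (The maps
of local rings are the canonical localized maps.) -/
theorem result (R Λ : Type u) [CommRing R] [CommRing Λ] [Algebra R Λ]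
    [IsNoetherianRing Λ] :
    (CAlg.IsRegularHom R Λ ↔
      ∀ (q : Ideal Λ) [q.IsPrime],
        letI := (Localization.localRingHom (Ideal.comap (algebraMap R Λ) q) q (algebraMap R Λ) rfl).toAlgebra
        CAlg.IsRegularHom (Localization.AtPrime (Ideal.comap (algebraMap R Λ) q))
          (Localization.AtPrime q)) ∧
    (CAlg.IsRegularHom R Λ ↔
      ∀ (n : Ideal Λ) [n.IsMaximal],
        letI := (Localization.localRingHom (Ideal.comap (algebraMap R Λ) n) n (algebraMap R Λ) rfl).toAlgebra
        CAlg.IsRegularHom (Localization.AtPrime (Ideal.comap (algebraMap R Λ) n))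
          (Localization.AtPrime n)) := by
  exact ⟨⟨fun h q _ => Groth.Agent.Helper2.RegLoc.loc_of_isRegularHom R Λ h q,
      fun h => Groth.Agent.Helper2.RegLoc.isRegularHom_of_loc R Λ (fun n _ => h n)⟩,
    ⟨fun h n _ => Groth.Agent.Helper2.RegLoc.loc_of_isRegularHom R Λ h n,
      fun h => Groth.Agent.Helper2.RegLoc.isRegularHom_of_loc R Λ h⟩⟩

end Groth.Agent.S9259
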