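import Groth.Statements.S9261
import Mathlib

set_option autoImplicit false
universe u
open CAlg

namespace Groth.Agent.S9261


/-- Let G be a finite group acting on a ring R, S = R^G its ring of invariants (here: S → R injective
with image the invariants) and A a flat S-algebra. Then the map A → A ⊗_S R is injective with image
the invariants of G acting on A ⊗_S R through the second factor; that is, A → (A ⊗_S R)^G is an
isomorphism. -/
theorem result (S R A G : Type u) [CommRing S] [CommRing R] [Algebra S R]
    [FaithfulSMul S R] [Group G] [Finite G] [MulSemiringAction G R] [SMulCommClass G S R]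
    [Algebra.IsInvariant S R G] [CommRing A] [Algebra S A] [Module.Flat S A] :
    Function.Injective (algebraMap A (TensorProduct S A R)) ∧
      ∀ x : TensorProduct S A R,
        (∀ σ : G, Algebra.TensorProduct.map (AlgHom.id S A) (MulSemiringAction.toAlgHom S R σ) x = x) →
          x ∈ Set.range (algebraMap A (TensorProduct S A R)) := by

  classical
  cases nonempty_fintype G
  -- the exact sequence 0 → S → R → ∏_G R
  let f : S →ₗ[S] R := Algebra.linearMap S R
  let g : R →ₗ[S] (G → R) := LinearMap.pi (fun σ =>
    (MulSemiringAction.toAlgHom S R σ).toLinearMap - LinearMap.id)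
  have hg : ∀ r σ, g r σ = σ • r - r := fun r σ => rfl
  have hexact : Function.Exact f g := by
    intro r
    constructor
    · intro hr
      have : ∀ σ : G, σ • r = r := by
        intro σ
        have := congrFun hr σ
        rw [hg] at this
        exact sub_eq_zero.mp this
      obtain ⟨a, ha⟩ := Algebra.IsInvariant.isInvariant (A := S) (G := G) r this
      exact ⟨a, ha⟩
    · rintro ⟨a, rfl⟩
      funext σ
      rw [hg]
      change σ • algebraMap S R a - algebraMap S R a = 0
      rw [smul_algebraMap, sub_self]
  have hfinj : Function.Injective f := FaithfulSMul.algebraMap_injective S R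
  have hexactA : Function.Exact (f.lTensor A) (g.lTensor A) := Module.Flat.lTensor_exact A hexact
  have hinjA : Function.Injective (f.lTensor A) :=
    Module.Flat.lTensor_preserves_injective_linearMap f hfinj
  -- range of lTensor A f is the image of A
  have hrange : ∀ y : TensorProduct S A S,
      f.lTensor A y = algebraMap A (TensorProduct S A R) (TensorProduct.rid S A y) := by
    intro y
    induction y using TensorProduct.induction_on with
    | zero => simp
    | tmul a s =>
      rw [LinearMap.lTensor_tmul, TensorProduct.rid_tmul, Algebra.TensorProduct.algebraMap_apply]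
      change a ⊗ₜ[S] (algebraMap S R s) = _
      rw [Algebra.algebraMap_eq_smul_one, TensorProduct.tmul_smul, TensorProduct.smul_tmul']
      rfl
    | add x y hx hy => rw [map_add, map_add, map_add, hx, hy]
  constructor
  · intro a b hab
    have ha : algebraMap A (TensorProduct S A R) a = f.lTensor A ((TensorProduct.rid S A).symm a) := by
      rw [hrange, LinearEquiv.apply_symm_apply]
    have hb : algebraMap A (TensorProduct S A R) b = f.lTensor A ((TensorProduct.rid S A).symm b) := by
      rw [hrange, LinearEquiv.apply_symm_apply]
    rw [ha, hb] at hab
    exact (TensorProduct.rid S A).symm.injective (hinjA hab)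
  · intro x hx
    have hkey : (TensorProduct.piRight S S A (fun _ : G => R)).toLinearMap ∘ₗ (g.lTensor A) =
        LinearMap.pi (fun σ => (Algebra.TensorProduct.map (AlgHom.id S A)
          (MulSemiringAction.toAlgHom S R σ)).toLinearMap - LinearMap.id) := by
      refine TensorProduct.ext' (fun a r => ?_)
      funext σ
      simp only [LinearMap.coe_comp, LinearEquiv.coe_coe, Function.comp_apply,
        LinearMap.lTensor_tmul, TensorProduct.piRight_apply, TensorProduct.piRightHom_tmul,
        LinearMap.pi_apply, LinearMap.sub_apply, AlgHom.toLinearMap_apply,
        Algebra.TensorProduct.map_tmul, AlgHom.coe_id, id_eq, LinearMap.id_coe, hg,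
        TensorProduct.tmul_sub]
      rfl
    have h0 : g.lTensor A x = 0 := by
      apply (TensorProduct.piRight S S A (fun _ : G => R)).injective
      rw [map_zero]
      have := LinearMap.congr_fun hkey x
      rw [LinearMap.comp_apply] at this
      rw [LinearEquiv.coe_coe] at this
      rw [this]
      funext σ
      simp only [LinearMap.pi_apply, LinearMap.sub_apply, AlgHom.toLinearMap_apply,
        LinearMap.id_coe, id_eq, Pi.zero_apply]
      rw [hx σ, sub_self]
    obtain ⟨y, hy⟩ := (hexactA x).mp h0
    exact ⟨TensorProduct.rid S A y, by rw [← hrange, hy]⟩

end Groth.Agent.S9261
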