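import Groth.Statements.S9262
import Groth.Agent.Helper1.HensStrictReg
import Groth.Agent.Lead.RegLocal

set_option autoImplicit false
universe u
open Hensel

namespace Groth.Agent.S9262

open IsLocalRing in
theorem dvr_iff (A : Type u) [CommRing A] [IsLocalRing A] [IsNoetherianRing A] :
    (∃ _ : IsDomain A, IsDiscreteValuationRing A) ↔
      (IsRegularLocalRing A ∧ ringKrullDim A = 1) := by
  constructor
  · rintro ⟨hd, hdvr⟩
    refine ⟨inferInstance, ?_⟩
    exact IsPrincipalIdealRing.ringKrullDim_eq_one A (IsDiscreteValuationRing.not_isField A)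
  · rintro ⟨hreg, hdim⟩
    have hd : IsDomain A := Groth.Agent.Lead.RegLocal.isDomain_of_isRegularLocalRing A
    refine ⟨hd, ?_⟩
    have hnf : ¬ IsField A := by
      intro hf
      have := ringKrullDim_eq_zero_of_isField hf
      rw [hdim] at this
      exact one_ne_zero this
    refine ((IsDiscreteValuationRing.TFAE A hnf).out 0 5).2 ?_
    have h1 := (IsRegularLocalRing.iff_finrank_cotangentSpace A).1 hreg
    rw [hdim] at h1
    exact_mod_cast h1

/-- Let R be a Noetherian local ring with henselization S and strict henselization T. Then R is a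
discrete valuation ring exactly when S is one, and exactly when T is one. -/
theorem result (R S T : Type u)
    [CommRing R] [IsLocalRing R] [IsNoetherianRing R] [CommRing S] [IsLocalRing S] [Algebra R S]
    [IsLocalHom (algebraMap R S)] [Hensel.IsHenselization R S] [CommRing T] [IsLocalRing T]
    [Algebra R T] [IsLocalHom (algebraMap R T)] [Hensel.IsStrictHenselization R T] :
    ((∃ _ : IsDomain R, IsDiscreteValuationRing R) ↔ (∃ _ : IsDomain S, IsDiscreteValuationRing S)) ∧
      ((∃ _ : IsDomain R, IsDiscreteValuationRing R) ↔
        (∃ _ : IsDomain T, IsDiscreteValuationRing T)) := by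
  have hS : ringKrullDim S = ringKrullDim R :=
    Groth.Agent.Helper1.Hens.ringKrullDim_of_isHenselization R S
  have hT : ringKrullDim T = ringKrullDim R :=
    Groth.Agent.Helper1.Hens.ringKrullDim_of_isStrictHenselization R T
  haveI := Groth.Agent.Helper1.Hens.isNoetherianRing_of_isHenselization R S
  haveI := Groth.Agent.Helper1.Hens.isNoetherianRing_of_isStrictHenselization R T
  rw [dvr_iff R, dvr_iff S, dvr_iff T, hS, hT,
    ← Groth.Agent.Helper1.Hens.isRegularLocalRing_iff_of_isHenselization R S,
    ← Groth.Agent.Helper1.Hens.isRegularLocalRing_iff_of_isStrictHenselization R T]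
  exact ⟨Iff.rfl, Iff.rfl⟩

end Groth.Agent.S9262
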