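import Groth.Statements.S9275
import Mathlib

set_option autoImplicit false
universe u
open EtAlg

namespace Groth.Agent.S9275

/-- finite presentation of the double localization. -/
theorem fp_aux (A B : Type u) [CommRing A] [CommRing B] [Algebra A B] (g h : B)
    [Algebra.FinitePresentation A (Localization.Away h)] :
    Algebra.FinitePresentation A
      (Localization.Away (algebraMap B (Localization.Away g) h)) := by
  let T := Localization.Away (algebraMap B (Localization.Away g) h)
  let T' := Localization.Away (algebraMap B (Localization.Away h) g)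
  have h1 : IsLocalization.Away (h * g) T := inferInstance
  have h2 : IsLocalization.Away (g * h) T' := inferInstance
  rw [mul_comm] at h2
  have : Algebra.FinitePresentation (Localization.Away h) T' :=
    IsLocalization.Away.finitePresentation (algebraMap B (Localization.Away h) g)
  have : Algebra.FinitePresentation A T' :=
    Algebra.FinitePresentation.trans A (Localization.Away h) T'
  let e : T' ≃ₐ[B] T := IsLocalization.algEquiv (Submonoid.powers (h * g)) T' T
  exact Algebra.FinitePresentation.equiv (e.restrictScalars A)

/-- Let A → B be a ring map and J an ideal of B such that A → B is étale at every prime of V(J), in the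
sense that every prime q ⊇ J has some h ∉ q with A → B_h étale. Then there is g ∈ B mapping to a
unit of B/J such that A → B_g is étale. -/
theorem result (A B : Type u) [CommRing A] [CommRing B]
    [Algebra A B] (J : Ideal B)
    (h : ∀ (q : Ideal B) [q.IsPrime], J ≤ q → ∃ h : B, h ∉ q ∧ Algebra.Etale A (Localization.Away h)) :
    ∃ g : B, IsUnit (Ideal.Quotient.mk J g) ∧ Algebra.Etale A (Localization.Away g) := by
  classical
  -- the union of good basic opens
  let good : Set B := {h | Algebra.Etale A (Localization.Away h)}
  let U : Set (PrimeSpectrum B) := ⋃ h ∈ good, (PrimeSpectrum.basicOpen h : Set (PrimeSpectrum B))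
  have hUopen : IsOpen U :=
    isOpen_biUnion fun h _ => (PrimeSpectrum.basicOpen h).isOpen
  have hJU : PrimeSpectrum.zeroLocus (J : Set B) ⊆ U := by
    intro q hq
    obtain ⟨h', hh'q, hh'⟩ := h q.asIdeal ((PrimeSpectrum.mem_zeroLocus _ _).mp hq)
    exact Set.mem_biUnion (show h' ∈ good from hh') hh'q
  -- the complement
  set K : Ideal B := PrimeSpectrum.vanishingIdeal Uᶜ with hK
  have hKU : PrimeSpectrum.zeroLocus (K : Set B) = Uᶜ := by
    rw [hK, PrimeSpectrum.zeroLocus_vanishingIdeal_eq_closure, hUopen.isClosed_compl.closure_eq]
  have hJK : J ⊔ K = ⊤ := by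
    rw [← PrimeSpectrum.zeroLocus_empty_iff_eq_top, PrimeSpectrum.zeroLocus_sup, hKU]
    rw [Set.eq_empty_iff_forall_notMem]
    rintro q ⟨hq1, hq2⟩
    exact hq2 (hJU hq1)
  obtain ⟨j, hj, g, hg, hjg⟩ := Submodule.mem_sup.mp (hJK ▸ Submodule.mem_top : (1 : B) ∈ J ⊔ K)
  have hgU : (PrimeSpectrum.basicOpen g : Set (PrimeSpectrum B)) ⊆ U := by
    intro q hq
    by_contra hqU
    have : q ∈ PrimeSpectrum.zeroLocus (K : Set B) := by rw [hKU]; exact hqU
    exact hq ((PrimeSpectrum.mem_zeroLocus _ _).mp this hg)
  refine ⟨g, ?_, ?_⟩
  · have : Ideal.Quotient.mk J g = 1 := by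
      rw [← map_one (Ideal.Quotient.mk J), ← hjg, map_add,
        Ideal.Quotient.eq_zero_iff_mem.mpr hj, zero_add]
    rw [this]; exact isUnit_one
  · have hUE : U ⊆ Algebra.etaleLocus A B := by
      intro q hq
      obtain ⟨h', hh', hq'⟩ := Set.mem_iUnion₂.mp hq
      have : Algebra.Etale A (Localization.Away h') := hh'
      have h3 : Algebra.FormallyEtale A (Localization.Away h') := inferInstance
      exact (Algebra.basicOpen_subset_etaleLocus_iff.mpr h3) hq'
    have hfe : Algebra.FormallyEtale A (Localization.Away g) :=
      Algebra.basicOpen_subset_etaleLocus_iff.mp (hgU.trans hUE)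
    have hfp : Algebra.FinitePresentation A (Localization.Away g) := by
      refine Algebra.FinitePresentation.of_span_eq_top_target
        ((algebraMap B (Localization.Away g)) '' good) ?_ ?_
      · by_contra hne
        obtain ⟨P, hP, hle⟩ := Ideal.exists_le_maximal _ hne
        have hPprime : P.IsPrime := hP.isPrime
        let q : PrimeSpectrum B := ⟨P.comap (algebraMap B (Localization.Away g)), inferInstance⟩
        have hgq : q ∈ (PrimeSpectrum.basicOpen g : Set (PrimeSpectrum B)) := by
          intro hmem
          have h4 : algebraMap B (Localization.Away g) g ∈ P := hmem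
          have h5 : IsUnit (algebraMap B (Localization.Away g) g) :=
            IsLocalization.map_units _ (⟨g, Submonoid.mem_powers g⟩ : Submonoid.powers g)
          exact hPprime.ne_top (Ideal.eq_top_of_isUnit_mem _ h4 h5)
        obtain ⟨h', hh', hq'⟩ := Set.mem_iUnion₂.mp (hgU hgq)
        apply hq'
        change algebraMap B (Localization.Away g) h' ∈ P
        exact hle (Ideal.subset_span ⟨h', hh', rfl⟩)
      · rintro _ ⟨h', hh', rfl⟩
        have : Algebra.Etale A (Localization.Away h') := hh'
        exact fp_aux A B g h'
    exact ⟨hfe, hfp⟩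

end Groth.Agent.S9275
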