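import Groth.Statements.S9277
import Groth.Agent.Helper4.McCoy
import Mathlib

set_option autoImplicit false
universe u
open CAlgX

namespace Groth.Agent.S9277


/-- Let R be a local ring and φ : R^m → R^n a map of finite free modules with matrix M. Then φ is
injective if and only if the rank of M is m and the annihilator of the determinantal ideal I(M)
(generated by the minors of size the rank) is zero. -/
theorem result (R : Type u) [CommRing R] [IsLocalRing R]
    (m n : ℕ) (M : Matrix (Fin n) (Fin m) R) :
    Function.Injective (Matrix.mulVecLin M) ↔
      CAlgX.matrixRank M = m ∧ (CAlgX.detIdeal M).annihilator = ⊥ := by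

  classical
  have hzero : ∀ (r : ℕ) (f : Fin r → Fin n) (g : Fin r → Fin m), ¬ Function.Injective g →
      (M.submatrix f g).det = 0 := by
    intro r f g hg
    rw [Function.Injective] at hg
    push Not at hg
    obtain ⟨p, q, hpq, hne⟩ := hg
    apply Matrix.det_zero_of_column_eq hne
    intro i
    simp [Matrix.submatrix_apply, hpq]
  have hbig : ∀ r, m < r → CAlgX.minorIdeal M r = ⊥ := by
    intro r hr
    rw [CAlgX.minorIdeal, Ideal.span_eq_bot]
    rintro _ ⟨⟨f, g⟩, rfl⟩
    apply hzero
    intro hg
    have := Fintype.card_le_of_injective g hg
    simp at this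
    omega
  have hrank_of : CAlgX.minorIdeal M m ≠ ⊥ → CAlgX.matrixRank M = m := by
    intro hne
    rw [CAlgX.matrixRank]
    apply le_antisymm
    · apply csSup_le ⟨m, hne⟩
      intro r hr
      by_contra hlt
      exact hr (hbig r (by omega))
    · apply le_csSup
      · refine ⟨m, fun r hr => ?_⟩
        by_contra hlt
        exact hr (hbig r (by omega))
      · exact hne
  constructor
  · intro hM
    have hann : (CAlgX.minorIdeal M m).annihilator = ⊥ := by
      rw [eq_bot_iff]
      intro a ha
      rw [CAlgX.minorIdeal, Ideal.span, Submodule.mem_annihilator_span] at ha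
      have := Groth.Agent.Helper4.McCoy.kills_all M hM a
        (fun f g => by simpa using ha ⟨_, ⟨(f, g), rfl⟩⟩)
      simpa using this
    have hne : CAlgX.minorIdeal M m ≠ ⊥ := by
      intro h0
      rw [h0, Submodule.annihilator_bot] at hann
      exact top_ne_bot hann
    have hr := hrank_of hne
    refine ⟨hr, ?_⟩
    rw [CAlgX.detIdeal, hr]
    exact hann
  · rintro ⟨hr, hann⟩
    rw [CAlgX.detIdeal, hr] at hann
    apply Groth.Agent.Helper4.McCoy.injective_of_annihilator
    intro a ha
    have hmem : a ∈ (CAlgX.minorIdeal M m).annihilator := by
      rw [CAlgX.minorIdeal, Ideal.span, Submodule.mem_annihilator_span]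
      rintro ⟨_, ⟨⟨f, g⟩, rfl⟩⟩
      simp only [smul_eq_mul]
      by_cases hg : Function.Injective g
      · have hbij : Function.Bijective g := Finite.injective_iff_bijective.mp hg
        set σ : Equiv.Perm (Fin m) := Equiv.ofBijective g hbij with hσ
        have : M.submatrix f g = (M.submatrix f id).submatrix id σ := by
          ext p q
          simp [Matrix.submatrix_apply, hσ]
        rw [this, Matrix.det_permute', mul_left_comm, ha f, mul_zero]
      · rw [hzero m f g hg, mul_zero]
    rw [hann] at hmem
    simpa using hmem

end Groth.Agent.S9277
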