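import Groth.Statements.S9278
import Groth.Agent.S9277
import Mathlib

set_option autoImplicit false
universe u
open CAlgX

namespace Groth.Agent.S9278


/-- Let R be a Noetherian local ring and φ : R^m → R^n a map of finite free modules with matrix M. Then
φ is injective if and only if the rank of M is m and the determinantal ideal I(M) is the unit ideal
or contains a nonzerodivisor. -/
theorem result (R : Type u) [CommRing R]
    [IsLocalRing R] [IsNoetherianRing R] (m n : ℕ) (M : Matrix (Fin n) (Fin m) R) :
    Function.Injective (Matrix.mulVecLin M) ↔
      CAlgX.matrixRank M = m ∧ (CAlgX.detIdeal M = ⊤ ∨ ∃ a ∈ CAlgX.detIdeal M, IsRegular a) := by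

  rw [Groth.Agent.S9277.result R m n M]
  refine and_congr_right fun _ => ?_
  constructor
  · intro hann
    right
    by_contra hcon
    push Not at hcon
    have hdisj : Disjoint ((CAlgX.detIdeal M : Ideal R) : Set R) (nonZeroDivisors R) := by
      rw [Set.disjoint_left]
      intro a ha hnz
      exact hcon a ha (isRegular_iff_mem_nonZeroDivisors.mpr hnz)
    have := Ideal.bot_lt_annihilator_of_disjoint_nonZeroDivisors hdisj
    exact this.ne' hann
  · rintro (htop | ⟨a, ha, hreg⟩)
    · rw [htop]
      rw [eq_bot_iff]
      intro x hx
      rw [Submodule.mem_annihilator] at hx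
      simpa using hx 1 Submodule.mem_top
    · rw [eq_bot_iff]
      intro x hx
      rw [Submodule.mem_annihilator] at hx
      have := hx a ha
      rw [smul_eq_mul] at this
      have h0 : x * a = 0 * a := by rw [this, zero_mul]
      exact hreg.right h0

end Groth.Agent.S9278
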