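import Groth.Statements.S9283
import Mathlib.Tactic

set_option autoImplicit false
universe u
open CAlg

namespace Groth.Agent.S9283

theorem aux (R : Type u) [CommRing R] [IsLocalRing R] (s : Finset R)
    (hs : ∀ f ∈ s, f ∈ IsLocalRing.maximalIdeal R) :
    ∀ x : R, x ≠ 0 → (∀ f ∈ IsLocalRing.maximalIdeal R, ∃ n : ℕ, f ^ n * x = 0) →
      ∃ y : R, y ≠ 0 ∧ (∀ f ∈ IsLocalRing.maximalIdeal R, ∃ n : ℕ, f ^ n * y = 0) ∧
        ∀ f ∈ s, f * y = 0 := by
  classical
  induction s using Finset.induction_on with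
  | empty => intro x hx hg; exact ⟨x, hx, hg, by simp⟩
  | insert a s ha ih =>
    intro x hx hg
    obtain ⟨y, hy0, hyg, hys⟩ := ih (fun f hf => hs f (Finset.mem_insert_of_mem hf)) x hx hg
    have ham : a ∈ IsLocalRing.maximalIdeal R := hs a (Finset.mem_insert_self a s)
    have H : ∃ n : ℕ, a ^ n * y = 0 := hyg a ham
    have hn0 : Nat.find H ≠ 0 := by
      intro h0
      have := Nat.find_spec H
      rw [h0, pow_zero, one_mul] at this
      exact hy0 this
    refine ⟨a ^ (Nat.find H - 1) * y, Nat.find_min H (Nat.sub_one_lt hn0), ?_, ?_⟩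
    · intro f hf
      obtain ⟨n, hn⟩ := hyg f hf
      refine ⟨n, ?_⟩
      rw [mul_left_comm, hn, mul_zero]
    · intro f hf
      rcases Finset.mem_insert.mp hf with rfl | hf
      · rw [← mul_assoc, ← pow_succ', Nat.sub_add_cancel (Nat.one_le_iff_ne_zero.mpr hn0)]
        exact Nat.find_spec H
      · rw [mul_left_comm, hys f hf, mul_zero]

/-- Let R be an auto-associated ring. Then every proper finitely generated ideal of R has a nonzero
annihilator. -/
theorem result (R : Type u) [CommRing R] [IsLocalRing R]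
    (h : ∃ x : R, x ≠ 0 ∧ ∀ f ∈ IsLocalRing.maximalIdeal R, ∃ n : ℕ, f ^ n * x = 0)
    (I : Ideal R) (hI : I.FG) (hI' : I ≠ ⊤) : I.annihilator ≠ ⊥ := by
  obtain ⟨x, hx, hg⟩ := h
  obtain ⟨s, rfl⟩ := hI
  have hle : Ideal.span (s : Set R) ≤ IsLocalRing.maximalIdeal R := IsLocalRing.le_maximalIdeal hI'
  obtain ⟨y, hy0, -, hys⟩ := aux R s (fun f hf => hle (Ideal.subset_span hf)) x hx hg
  intro hbot
  apply hy0
  have : y ∈ (Ideal.span (s : Set R)).annihilator := by
    rw [Submodule.mem_annihilator_span]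
    rintro ⟨f, hf⟩
    simp only [smul_eq_mul]
    rw [mul_comm]; exact hys f hf
  rw [hbot] at this
  exact this

end Groth.Agent.S9283
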