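import Groth.Statements.S9284
import Groth.Agent.Helper4.PropertyP
import Mathlib

set_option autoImplicit false
universe u
open CAlgX

namespace Groth.Agent.S9284


/-- Let R be a ring such that every proper finitely generated ideal of R has a nonzero annihilator, and
let u : N → M be an R-linear map between projective R-modules. Then u stays injective after
tensoring with every R-module exactly when u is injective. -/
theorem result (R : Type u) [CommRing R]
    (hP : (∀ I : Ideal R, I.FG → I ≠ ⊤ → I.annihilator ≠ ⊥))
    (N M : Type u) [AddCommGroup N] [Module R N] [Module.Projective R N] [AddCommGroup M]
    [Module R M] [Module.Projective R M] (u : N →ₗ[R] M) :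
    CAlgX.UniversallyInjective R u ↔ Function.Injective u := by

  constructor
  · intro h
    have h1 := h R
    intro x y hxy
    have h2 : (TensorProduct.rid R N).symm x = (TensorProduct.rid R N).symm y := by
      apply h1
      simp only [TensorProduct.rid_symm_apply, LinearMap.rTensor_tmul, hxy]
    exact (TensorProduct.rid R N).symm.injective h2
  · intro hu Q _ _
    exact Groth.Agent.Helper4.PropertyP.rTensor_injective_of_projective hP u hu

end Groth.Agent.S9284
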