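import Groth.Statements.S9285
import Mathlib.Tactic

set_option autoImplicit false
universe u
open CAlg

namespace Groth.Agent.S9285

/-- A ring R has the property that every proper finitely generated ideal has a nonzero annihilator if
and only if every injective linear map R → R^n admits a retraction. -/
theorem result (R : Type u) [CommRing R] :
    (∀ I : Ideal R, I.FG → I ≠ ⊤ → I.annihilator ≠ ⊥) ↔
      ∀ (n : ℕ) (u : R →ₗ[R] (Fin n → R)), Function.Injective u →
        ∃ v : (Fin n → R) →ₗ[R] R, v.comp u = LinearMap.id := by
  classical
  constructor
  · intro H n u hu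
    set a : Fin n → R := u 1 with ha
    have hI : Ideal.span (Set.range a) = ⊤ := by
      by_contra hne
      have hfg : (Ideal.span (Set.range a)).FG := ⟨Finset.univ.image a, by simp⟩
      have hann := H _ hfg hne
      obtain ⟨y, hy, hy0⟩ := Submodule.exists_mem_ne_zero_of_ne_bot hann
      apply hy0
      apply hu
      rw [map_zero]
      have : u y = y • u 1 := by rw [← map_smul, smul_eq_mul, mul_one]
      rw [this]
      ext i
      rw [Submodule.mem_annihilator_span] at hy
      have := hy ⟨a i, Set.mem_range_self i⟩
      simpa [ha] using this
    have h1 : (1 : R) ∈ Ideal.span (Set.range a) := by rw [hI]; trivial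
    obtain ⟨c, hc⟩ := (Ideal.mem_span_range_iff_exists_fun).mp h1
    refine ⟨∑ i, c i • LinearMap.proj i, ?_⟩
    ext
    simp only [LinearMap.coe_comp, Function.comp_apply, LinearMap.coe_sum, Finset.sum_apply,
      LinearMap.smul_apply, LinearMap.proj_apply, smul_eq_mul, LinearMap.id_coe, id_eq]
    exact hc
  · intro H I hI hne hann
    obtain ⟨n, a, ha⟩ := Submodule.fg_iff_exists_fin_generating_family.mp hI
    let u : R →ₗ[R] (Fin n → R) := LinearMap.toSpanSingleton R (Fin n → R) a
    have hu : Function.Injective u := by
      rw [injective_iff_map_eq_zero]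
      intro r hr
      have hr' : r ∈ I.annihilator := by
        rw [← ha, Submodule.mem_annihilator_span]
        rintro ⟨_, i, rfl⟩
        have := congrFun hr i
        simpa [u] using this
      rw [hann] at hr'
      exact hr'
    obtain ⟨v, hv⟩ := H n u hu
    apply hne
    rw [Ideal.eq_top_iff_one]
    have h1 : v a = 1 := by
      have := LinearMap.congr_fun hv 1
      simpa [u] using this
    have h2 : a = ∑ i, a i • (Pi.single i (1 : R) : Fin n → R) := by
      ext j
      simp [Finset.sum_apply, Pi.single_apply]
    rw [← h1, h2, map_sum]
    refine Ideal.sum_mem _ fun i _ => ?_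
    rw [map_smul, smul_eq_mul]
    apply Ideal.mul_mem_right
    rw [← ha]
    exact Submodule.subset_span (Set.mem_range_self i)

end Groth.Agent.S9285
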