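import Groth.Statements.S9291
import Mathlib

set_option autoImplicit false
universe u
open EtAlg

namespace Groth.Agent.S9291

/-- Let A be a ring, I an ideal and u a unit of A/I. Then there is an étale ring map A → A' such that
A/I → A'/IA' is an isomorphism, together with a unit of A' mapping to the image of u. -/
theorem result (A : Type u) [CommRing A] (I : Ideal A) (u : (A ⧸ I)ˣ) :
    ∃ (A' : Type u) (_ : CommRing A') (_ : Algebra A A'), Algebra.Etale A A' ∧
      Function.Bijective (Ideal.quotientMap (Ideal.map (algebraMap A A') I) (algebraMap A A')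
        Ideal.le_comap_map) ∧
      ∃ u' : A'ˣ, Ideal.Quotient.mk (Ideal.map (algebraMap A A') I) (u' : A') =
        Ideal.quotientMap (Ideal.map (algebraMap A A') I) (algebraMap A A') Ideal.le_comap_map
          (u : A ⧸ I) := by
  obtain ⟨a, ha⟩ := Ideal.Quotient.mk_surjective (u : A ⧸ I)
  obtain ⟨b, hb⟩ := Ideal.Quotient.mk_surjective ((u⁻¹ : (A ⧸ I)ˣ) : A ⧸ I)
  have hab : ∀ n : ℕ, 1 - a ^ n * b ^ n ∈ I := by
    intro n
    rw [← Ideal.Quotient.eq_zero_iff_mem]
    simp only [map_sub, map_one, map_mul, map_pow, ha, hb]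
    rw [← mul_pow, Units.mul_inv, one_pow, sub_self]
  let A' := Localization.Away a
  refine ⟨A', inferInstance, inferInstance, Algebra.Etale.of_isLocalizationAway a, ⟨?_, ?_⟩, ?_⟩
  · -- injective
    rw [injective_iff_map_eq_zero]
    intro x hx
    obtain ⟨x, rfl⟩ := Ideal.Quotient.mk_surjective x
    rw [Ideal.quotientMap_mk, Ideal.Quotient.eq_zero_iff_mem,
      IsLocalization.mem_map_algebraMap_iff (Submonoid.powers a)] at hx
    obtain ⟨⟨⟨i, hi⟩, ⟨_, n, rfl⟩⟩, hx⟩ := hx
    simp only at hx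
    rw [← map_mul, IsLocalization.eq_iff_exists (Submonoid.powers a)] at hx
    obtain ⟨⟨_, m, rfl⟩, hx⟩ := hx
    simp only at hx
    have h1 : a ^ m * (x * a ^ n) ∈ I := by rw [hx]; exact I.mul_mem_left _ hi
    rw [← Ideal.Quotient.eq_zero_iff_mem] at h1
    simp only [map_mul, map_pow, ha] at h1
    have h2 : IsUnit ((u : A ⧸ I) ^ m) := (u ^ m).isUnit
    have h3 : IsUnit ((u : A ⧸ I) ^ n) := (u ^ n).isUnit
    have h4 := h2.mul_right_eq_zero.mp h1
    exact h3.mul_left_eq_zero.mp h4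
  · -- surjective
    intro y
    obtain ⟨y, rfl⟩ := Ideal.Quotient.mk_surjective y
    obtain ⟨x, ⟨_, n, rfl⟩, rfl⟩ := IsLocalization.exists_mk'_eq (Submonoid.powers a) y
    refine ⟨Ideal.Quotient.mk I (x * b ^ n), ?_⟩
    rw [Ideal.quotientMap_mk, Ideal.Quotient.eq, IsLocalization.mem_map_algebraMap_iff
      (Submonoid.powers a)]
    refine ⟨⟨⟨-(x * (1 - a ^ n * b ^ n)), I.neg_mem (I.mul_mem_left _ (hab n))⟩,
      ⟨a ^ n, n, rfl⟩⟩, ?_⟩
    simp only
    rw [sub_mul, IsLocalization.mk'_spec, ← map_mul, ← map_sub]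
    congr 1
    ring
  · have hu : IsUnit (algebraMap A A' a) :=
      IsLocalization.map_units A' (⟨a, Submonoid.mem_powers a⟩ : Submonoid.powers a)
    refine ⟨hu.unit, ?_⟩
    rw [← ha, Ideal.quotientMap_mk]
    rfl

end Groth.Agent.S9291
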