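import Groth.Statements.S9292
import Mathlib

set_option autoImplicit false
universe u
open EtAlg

namespace Groth.Agent.S9292


/-- Let A be a ring, I an ideal, and e_1, ..., e_n a complete system of orthogonal idempotents of A/I
(equivalently a finite disjoint open covering of Spec(A/I)). Then one can find an A-algebra A' that
is étale over A, such that the induced map A/I → A'/IA' is bijective, together with a complete
system of orthogonal idempotents of A' lifting the e_j. -/
theorem result (A : Type u) [CommRing A] (I : Ideal A)
    (n : ℕ) (e : Fin n → A ⧸ I) (he : CompleteOrthogonalIdempotents e) :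
    ∃ (A' : Type u) (_ : CommRing A') (_ : Algebra A A'), Algebra.Etale A A' ∧
      Function.Bijective (Ideal.quotientMap (Ideal.map (algebraMap A A') I) (algebraMap A A')
        Ideal.le_comap_map) ∧
      ∃ e' : Fin n → A', CompleteOrthogonalIdempotents e' ∧
        ∀ j, Ideal.Quotient.mk (Ideal.map (algebraMap A A') I) (e' j) =
          Ideal.quotientMap (Ideal.map (algebraMap A A') I) (algebraMap A A') Ideal.le_comap_map
            (e j) := by

  classical
  -- lifts
  have hlift : ∀ j, ∃ a : A, Ideal.Quotient.mk I a = e j := fun j => Ideal.Quotient.mk_surjective _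
  choose a ha using hlift
  let A' : Type u := Π j : Fin n, Localization.Away (a j)
  let I' : Ideal A' := Ideal.map (algebraMap A A') I
  let Ij : ∀ j, Ideal (Localization.Away (a j)) := fun j =>
    Ideal.map (algebraMap A (Localization.Away (a j))) I
  -- relations in A mod I
  have hidem : ∀ j, a j * a j - a j ∈ I := by
    intro j
    rw [← Ideal.Quotient.eq, map_mul, ha]
    exact he.idem j
  have horth : ∀ i j, i ≠ j → a i * a j ∈ I := by
    intro i j hij
    rw [← Ideal.Quotient.eq_zero_iff_mem, map_mul, ha, ha]
    exact he.ortho hij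
  have hunit : ∀ j, IsUnit (algebraMap A (Localization.Away (a j)) (a j)) := fun j =>
    IsLocalization.Away.algebraMap_isUnit (a j)
  -- F1, F2
  have F1 : ∀ j, algebraMap A (Localization.Away (a j)) (a j) - 1 ∈ Ij j := by
    intro j
    obtain ⟨v, hv⟩ := hunit j
    have h1 : algebraMap A (Localization.Away (a j)) (a j * a j - a j) ∈ Ij j :=
      Ideal.mem_map_of_mem _ (hidem j)
    have h2 : algebraMap A (Localization.Away (a j)) (a j) - 1 =
        (↑v⁻¹ : Localization.Away (a j)) * algebraMap A (Localization.Away (a j)) (a j * a j - a j) := by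
      rw [map_sub, map_mul, ← hv, mul_sub, ← mul_assoc, Units.inv_mul, one_mul]
    rw [h2]
    exact Ideal.mul_mem_left _ _ h1
  have F2 : ∀ i j, i ≠ j → algebraMap A (Localization.Away (a j)) (a i) ∈ Ij j := by
    intro i j hij
    obtain ⟨v, hv⟩ := hunit j
    have h1 : algebraMap A (Localization.Away (a j)) (a i * a j) ∈ Ij j :=
      Ideal.mem_map_of_mem _ (horth i j hij)
    have h2 : algebraMap A (Localization.Away (a j)) (a i) =
        (↑v⁻¹ : Localization.Away (a j)) * algebraMap A (Localization.Away (a j)) (a i * a j) := by
      rw [map_mul, ← hv, mul_comm _ (v : Localization.Away (a j)), ← mul_assoc, Units.inv_mul,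
        one_mul]
    rw [h2]
    exact Ideal.mul_mem_left _ _ h1
  -- componentwise description of I'
  have hI'1 : ∀ w : A', w ∈ I' → ∀ j, w j ∈ Ij j := by
    intro w hw j
    have h1 : Ideal.map (Pi.evalRingHom (fun j => Localization.Away (a j)) j) I' ≤ Ij j := by
      rw [Ideal.map_map]
      exact le_of_eq rfl
    exact h1 (Ideal.mem_map_of_mem _ hw)
  have hsingle : ∀ j (t : Localization.Away (a j)), t ∈ Ij j →
      (Pi.single j t : A') ∈ I' := by
    intro j t ht
    refine Submodule.span_induction ?_ ?_ ?_ ?_ ht
    · rintro _ ⟨i, hi, rfl⟩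
      have : (Pi.single j (algebraMap A (Localization.Away (a j)) i) : A') =
          algebraMap A A' i * Pi.single j 1 := by
        ext k
        by_cases hk : k = j
        · subst hk
          show (Pi.single k (algebraMap A (Localization.Away (a k)) i) :
              Π j : Fin n, Localization.Away (a j)) k =
            (algebraMap A (Π j : Fin n, Localization.Away (a j)) i) k *
              (Pi.single k (1 : Localization.Away (a k)) : Π j : Fin n, Localization.Away (a j)) k
          rw [Pi.single_eq_same, Pi.single_eq_same, mul_one, Pi.algebraMap_apply]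
        · show (Pi.single j (algebraMap A (Localization.Away (a j)) i) :
              Π j : Fin n, Localization.Away (a j)) k =
            (algebraMap A (Π j : Fin n, Localization.Away (a j)) i) k *
              (Pi.single j (1 : Localization.Away (a j)) : Π j : Fin n, Localization.Away (a j)) k
          rw [Pi.single_eq_of_ne hk, Pi.single_eq_of_ne hk, mul_zero]
      rw [this]
      exact Ideal.mul_mem_right _ _ (Ideal.mem_map_of_mem _ hi)
    · rw [Pi.single_zero]; exact I'.zero_mem
    · intro x y _ _ hx hy
      rw [Pi.single_add]; exact I'.add_mem hx hy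
    · intro c x _ hx
      have : (Pi.single j (c • x) : A') = Pi.single j c * Pi.single j x := by
        rw [smul_eq_mul, Pi.single_mul]
      rw [this]
      exact Ideal.mul_mem_left _ _ hx
  have hI'2 : ∀ w : A', (∀ j, w j ∈ Ij j) → w ∈ I' := by
    intro w hw
    have : w = ∑ j, Pi.single j (w j) := (Finset.univ_sum_single w).symm
    rw [this]
    exact I'.sum_mem fun j _ => hsingle j _ (hw j)
  refine ⟨A', inferInstance, inferInstance, inferInstance, ⟨?_, ?_⟩, ?_⟩
  · -- injective
    rw [injective_iff_map_eq_zero]
    intro y hy
    obtain ⟨y, rfl⟩ := Ideal.Quotient.mk_surjective y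
    rw [Ideal.quotientMap_mk, Ideal.Quotient.eq_zero_iff_mem] at hy
    have hj : ∀ j, e j * Ideal.Quotient.mk I y = 0 := by
      intro j
      have h1 := hI'1 _ hy j
      have h1' : algebraMap A (Localization.Away (a j)) y ∈ Ij j := h1
      rw [IsLocalization.mem_map_algebraMap_iff (Submonoid.powers (a j))] at h1'
      obtain ⟨⟨⟨i, hi⟩, ⟨_, k, rfl⟩⟩, hik⟩ := h1'
      simp only at hik
      rw [← map_mul, IsLocalization.eq_iff_exists (Submonoid.powers (a j))] at hik
      obtain ⟨⟨_, k', rfl⟩, hk'⟩ := hik
      simp only at hk'
      have h2 : a j ^ k' * (y * a j ^ k) ∈ I := by rw [hk']; exact I.mul_mem_left _ hi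
      have h3 : e j ^ (k' + k) * Ideal.Quotient.mk I y = 0 := by
        rw [← ha, ← map_pow, ← map_mul, Ideal.Quotient.eq_zero_iff_mem]
        convert h2 using 1
        ring
      have h4 : e j * e j ^ (k' + k) = e j := by
        cases hkk : k' + k with
        | zero => simp
        | succ m => rw [← pow_succ', (he.idem j).pow_succ_eq]
      rw [← h4, mul_assoc, h3, mul_zero]
    have : Ideal.Quotient.mk I y = (∑ j, e j) * Ideal.Quotient.mk I y := by
      rw [he.complete, one_mul]
    rw [this, Finset.sum_mul]
    exact Finset.sum_eq_zero fun j _ => hj j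
  · -- surjective
    intro z
    obtain ⟨z, rfl⟩ := Ideal.Quotient.mk_surjective z
    have hz : ∀ j, ∃ (x : A) (k : ℕ), z j * algebraMap A (Localization.Away (a j)) (a j) ^ k =
        algebraMap A (Localization.Away (a j)) x := by
      intro j
      obtain ⟨⟨x, ⟨_, k, rfl⟩⟩, hx⟩ := IsLocalization.surj (Submonoid.powers (a j)) (z j)
      exact ⟨x, k, by simpa using hx⟩
    choose x k hxk using hz
    refine ⟨Ideal.Quotient.mk I (∑ i, x i * a i), ?_⟩
    rw [Ideal.quotientMap_mk, Ideal.Quotient.eq]
    apply hI'2
    intro j
    show algebraMap A (Localization.Away (a j)) (∑ i, x i * a i) - z j ∈ Ij j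
    rw [← Ideal.Quotient.eq]
    -- compute in the quotient
    have e1 : Ideal.Quotient.mk (Ij j) (algebraMap A (Localization.Away (a j)) (a j)) = 1 := by
      rw [← map_one (Ideal.Quotient.mk (Ij j)), Ideal.Quotient.eq]; exact F1 j
    have e2 : ∀ i, i ≠ j →
        Ideal.Quotient.mk (Ij j) (algebraMap A (Localization.Away (a j)) (a i)) = 0 := by
      intro i hij
      rw [Ideal.Quotient.eq_zero_iff_mem]; exact F2 i j hij
    have e3 : Ideal.Quotient.mk (Ij j) (z j) =
        Ideal.Quotient.mk (Ij j) (algebraMap A (Localization.Away (a j)) (x j)) := by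
      rw [← hxk j, map_mul, map_pow, e1, one_pow, mul_one]
    rw [e3, map_sum, map_sum]
    rw [Finset.sum_eq_single j]
    · rw [map_mul, map_mul, e1, mul_one]
    · intro i _ hij
      rw [map_mul, map_mul, e2 i hij, mul_zero]
    · intro h; exact absurd (Finset.mem_univ j) h
  · refine ⟨fun j => Pi.single j 1, CompleteOrthogonalIdempotents.single _, fun j => ?_⟩
    rw [← ha j, Ideal.quotientMap_mk, Ideal.Quotient.eq]
    apply hI'2
    intro i
    by_cases hij : i = j
    · subst hij
      have : ((Pi.single i 1 : A') - algebraMap A A' (a i)) i =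
          -(algebraMap A (Localization.Away (a i)) (a i) - 1) := by
        show (Pi.single i (1 : Localization.Away (a i)) : Π j : Fin n, Localization.Away (a j)) i -
          (algebraMap A (Π j : Fin n, Localization.Away (a j)) (a i)) i = _
        rw [Pi.single_eq_same, Pi.algebraMap_apply]
        ring
      rw [this]
      exact (Ij i).neg_mem (F1 i)
    · have : ((Pi.single j 1 : A') - algebraMap A A' (a j)) i =
          -(algebraMap A (Localization.Away (a i)) (a j)) := by
        show (Pi.single j (1 : Localization.Away (a j)) : Π j : Fin n, Localization.Away (a j)) i -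
          (algebraMap A (Π j : Fin n, Localization.Away (a j)) (a j)) i = _
        rw [Pi.single_eq_of_ne hij, Pi.algebraMap_apply, zero_sub]
      rw [this]
      exact (Ij i).neg_mem (F2 j i (Ne.symm hij))

end Groth.Agent.S9292
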