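import Groth.Statements.S9300
import Mathlib.Tactic

set_option autoImplicit false
universe u
open CAlg

namespace Groth.Agent.S9300

theorem result (A B : Type u) [CommRing A] [IsDomain A]
    [CommRing B] [IsDomain B] (φ : A →+* B)
    (h : ∃! q : PrimeSpectrum B, Ideal.comap φ q.asIdeal = ⊥) (J : Ideal B) (hJ : J ≠ ⊥) :
    Ideal.comap φ J ≠ ⊥ := by
  intro hcomap
  obtain ⟨q, hq, huniq⟩ := h
  -- φ is injective
  have hinj : Function.Injective φ := by
    rw [injective_iff_map_eq_zero]
    intro a ha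
    have : a ∈ Ideal.comap φ q.asIdeal := by
      rw [Ideal.mem_comap, ha]; exact zero_mem _
    rw [hq] at this
    exact this
  -- bottom prime is the unique one
  have hbot : Ideal.comap φ (⊥ : Ideal B) = ⊥ := by
    rw [Ideal.comap_bot_of_injective φ hinj]
  have hqbot : q = ⟨⊥, Ideal.isPrime_bot⟩ := (huniq ⟨⊥, Ideal.isPrime_bot⟩ hbot).symm
  -- multiplicative set
  let S : Submonoid B := (nonZeroDivisors A).map φ
  have hdisj : Disjoint (J : Set B) (S : Set B) := by
    rw [Set.disjoint_left]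
    rintro b hbJ ⟨a, ha, rfl⟩
    have : a ∈ Ideal.comap φ J := hbJ
    rw [hcomap] at this
    exact (nonZeroDivisors.ne_zero ha) this
  obtain ⟨q', hq'p, hJq', hq'S⟩ := Ideal.exists_le_prime_disjoint J S hdisj
  have hq'0 : Ideal.comap φ q' = ⊥ := by
    rw [eq_bot_iff]
    intro a ha
    by_contra ha0
    have haS : φ a ∈ (S : Set B) := ⟨a, mem_nonZeroDivisors_of_ne_zero ha0, rfl⟩
    exact Set.disjoint_left.mp hq'S ha haS
  have := huniq ⟨q', hq'p⟩ hq'0
  rw [hqbot] at this
  have e : q' = ⊥ := congrArg PrimeSpectrum.asIdeal this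
  apply hJ
  rw [eq_bot_iff, ← e]; exact hJq'

end Groth.Agent.S9300
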