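import Groth.Statements.S9301
import Mathlib

set_option autoImplicit false
universe u
open CAlg

namespace Groth.Agent.S9301


/-- Let A and B be domains and A → B a flat ring map which is the localization of a quasi-finite ring
map A → B₀ (of finite type with finite fibres). Then every nonzero ideal of B has nonzero preimage
in A. -/
theorem result (A B₀ B : Type u) [CommRing A] [IsDomain A]
    [CommRing B₀] [CommRing B] [IsDomain B] [Algebra A B₀] [Algebra.FiniteType A B₀]
    [Algebra.QuasiFinite A B₀] (S : Submonoid B₀) [Algebra B₀ B] [IsLocalization S B] [Algebra A B]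
    [IsScalarTower A B₀ B] [Module.Flat A B] (J : Ideal B) (hJ : J ≠ ⊥) :
    Ideal.comap (algebraMap A B) J ≠ ⊥ := by

  by_cases hinj : Function.Injective (algebraMap A B)
  · haveI : Algebra.QuasiFinite A B := Algebra.QuasiFinite.of_isLocalization (R := A) (S := B₀) S
    obtain ⟨b, hbJ, hb0⟩ := Submodule.exists_mem_ne_zero_of_ne_bot hJ
    have halg : IsAlgebraic A b := by
      haveI : FaithfulSMul A B := (faithfulSMul_iff_algebraMap_injective A B).mpr hinj
      haveI : FaithfulSMul A (FractionRing B) :=
        (faithfulSMul_iff_algebraMap_injective A (FractionRing B)).mpr (by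
          rw [IsScalarTower.algebraMap_eq A B (FractionRing B)]
          exact (IsFractionRing.injective B (FractionRing B)).comp hinj)
      letI : Algebra (FractionRing A) (FractionRing B) := FractionRing.liftAlgebra A (FractionRing B)
      haveI : IsScalarTower A (FractionRing A) (FractionRing B) :=
        FractionRing.isScalarTower_liftAlgebra A (FractionRing B)
      haveI : Algebra.QuasiFinite A (FractionRing B) :=
        Algebra.QuasiFinite.of_isLocalization (R := A) (S := B) (nonZeroDivisors B)
      haveI : Algebra.QuasiFinite (FractionRing A) (FractionRing B) :=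
        Algebra.QuasiFinite.of_restrictScalars A _ _
      haveI : Module.Finite (FractionRing A) (FractionRing B) := Module.Finite.of_quasiFinite
      have h1 : IsAlgebraic (FractionRing A) (algebraMap B (FractionRing B) b) :=
        Algebra.IsAlgebraic.isAlgebraic _
      rw [← IsFractionRing.isAlgebraic_iff A (FractionRing A) (FractionRing B)] at h1
      exact (isAlgebraic_algebraMap_iff (IsFractionRing.injective B (FractionRing B))).mp h1
    obtain ⟨r, hr0, hdvd⟩ := halg.exists_nonzero_dvd (mem_nonZeroDivisors_of_ne_zero hb0)
    intro hbot
    have hmem : r ∈ Ideal.comap (algebraMap A B) J := by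
      rw [Ideal.mem_comap]
      obtain ⟨c, hc⟩ := hdvd
      rw [hc]
      exact J.mul_mem_right c hbJ
    rw [hbot] at hmem
    exact hr0 (by simpa using hmem)
  · intro hbot
    apply hinj
    rw [injective_iff_map_eq_zero]
    intro a ha
    have hmem : a ∈ Ideal.comap (algebraMap A B) J := by
      rw [Ideal.mem_comap, ha]
      exact J.zero_mem
    rw [hbot] at hmem
    simpa using hmem

end Groth.Agent.S9301
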