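import Groth.Statements.S9302
import Mathlib

set_option autoImplicit false
universe u
open CategoryTheory
open EtAlg

namespace Groth.Agent.S9302

open Limits Polynomial

theorem exists_of_compatible {J : Type u} [Category.{u} J] (F : J ⥤ CommRingCat.{u})
    (a : ∀ j, F.obj j) (h : ∀ (i j : J) (φ : i ⟶ j), (F.map φ).hom (a i) = a j) :
    ∃ x : (limit F : CommRingCat.{u}), ∀ j, (limit.π F j).hom x = a j := by
  let t := isLimitOfPreserves (forget CommRingCat.{u}) (limit.isLimit F)
  let s : (F ⋙ forget CommRingCat.{u}).sections := ⟨a, fun {i j} φ => h i j φ⟩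
  refine ⟨(Types.isLimitEquivSections t).symm s, fun j => ?_⟩
  exact Types.isLimitEquivSections_symm_apply t s j

theorem limit_ext' {J : Type u} [Category.{u} J] (F : J ⥤ CommRingCat.{u})
    (x y : (limit F : CommRingCat.{u})) (h : ∀ j, (limit.π F j).hom x = (limit.π F j).hom y) :
    x = y :=
  Concrete.limit_ext F x y h

theorem π_comp_apply {J : Type u} [Category.{u} J] (F : J ⥤ CommRingCat.{u}) {i j : J} (φ : i ⟶ j)
    (x : (limit F : CommRingCat.{u})) :
    (F.map φ).hom ((limit.π F i).hom x) = (limit.π F j).hom x := by
  have := limit.w F φ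
  rw [← this]
  rfl

/-- An element of a limit of commutative rings is a unit iff all its projections are units. -/
theorem isUnit_of_forall_isUnit {J : Type u} [Category.{u} J] (F : J ⥤ CommRingCat.{u})
    (x : (limit F : CommRingCat.{u})) (h : ∀ j, IsUnit ((limit.π F j).hom x)) : IsUnit x := by
  choose b hb using fun j => (isUnit_iff_exists_inv.mp (h j))
  have hcompat : ∀ (i j : J) (φ : i ⟶ j), (F.map φ).hom (b i) = b j := by
    intro i j φ
    have h1 : (limit.π F j).hom x * (F.map φ).hom (b i) = 1 := by
      rw [← π_comp_apply F φ x, ← map_mul, hb i, map_one]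
    calc (F.map φ).hom (b i) = (b j * (limit.π F j).hom x) * (F.map φ).hom (b i) := by
          rw [mul_comm (b j), hb j, one_mul]
      _ = b j := by rw [mul_assoc, h1, mul_one]
  obtain ⟨y, hy⟩ := exists_of_compatible F b hcompat
  refine isUnit_iff_exists_inv.mpr ⟨y, ?_⟩
  apply limit_ext'
  intro j
  rw [map_mul, hy j, hb j, map_one]

/-- Uniqueness of Hensel lifts over an ideal contained in the Jacobson radical. -/
theorem root_unique {R : Type*} [CommRing R] (I : Ideal R) (hI : I ≤ Ideal.jacobson ⊥)
    (f : R[X]) (a b : R) (ha : f.eval a = 0) (hb : f.eval b = 0) (hab : b - a ∈ I)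
    (hu : IsUnit (f.derivative.eval a)) : a = b := by
  obtain ⟨c, hc⟩ := exists_mul_sq_add_linear_part_eq_eval_add f a (b - a)
  have hc' : (c * (b - a) + eval a (derivative f)) * (b - a) = 0 := by
    have : a + (b - a) = b := by ring
    rw [this, hb, ha] at hc
    linear_combination hc
  have hunit : IsUnit (c * (b - a) + eval a (derivative f)) := by
    obtain ⟨d, hd⟩ := isUnit_iff_exists_inv.mp hu
    have h1 : IsUnit ((b - a) * (c * d) + 1) :=
      (Ideal.mem_jacobson_bot.mp (hI hab)) (c * d)
    have h2 : (c * (b - a) + eval a (derivative f)) * d = (b - a) * (c * d) + 1 := by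
      linear_combination hd
    exact isUnit_of_mul_isUnit_left (h2 ▸ h1)
  have := (hunit.mul_right_eq_zero).mp hc'
  exact (sub_eq_zero.mp this).symm

theorem eval_map_π {J : Type u} [Category.{u} J] (F : J ⥤ CommRingCat.{u})
    (f : ((limit F : CommRingCat.{u}) : Type u)[X]) (x : (limit F : CommRingCat.{u})) (j : J) :
    (f.map (limit.π F j).hom).eval ((limit.π F j).hom x) = (limit.π F j).hom (f.eval x) := by
  rw [Polynomial.eval_map, Polynomial.eval₂_at_apply]

/-- Henselian pairs are preserved under limits: for an inverse system (A_j, I_j) of henselian pairs over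
a preordered set J, the limit A = lim A_j with the ideal I = lim I_j (elements all of whose
projections lie in the I_j) is a henselian pair. -/
theorem result (J : Type u) [Preorder J] (F : J ⥤ CommRingCat.{u})
    (I : ∀ j : J, Ideal (F.obj j))
    (hI : ∀ (i j : J) (φ : i ⟶ j), Ideal.map (F.map φ).hom (I i) ≤ I j)
    (h : ∀ j : J, HenselianRing (F.obj j) (I j)) :
    HenselianRing ((Limits.limit F : CommRingCat.{u}) : Type u)
      (⨅ j : J, Ideal.comap (Limits.limit.π F j).hom (I j)) := by
  have hmem : ∀ x : (limit F : CommRingCat.{u}),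
      x ∈ (⨅ j : J, Ideal.comap (Limits.limit.π F j).hom (I j)) ↔
        ∀ j, (limit.π F j).hom x ∈ I j := by
    intro x
    simp [Ideal.mem_comap]
  constructor
  · intro x hx
    rw [hmem] at hx
    rw [Ideal.mem_jacobson_bot]
    intro y
    apply isUnit_of_forall_isUnit
    intro j
    rw [map_add, map_mul, map_one]
    exact Ideal.mem_jacobson_bot.mp ((h j).jac (hx j)) _
  · intro f hf a₀ hfa hu
    -- the derivative at a₀ is a unit
    have hu' : IsUnit (f.derivative.eval a₀) := by
      have hjac : (⨅ j : J, Ideal.comap (Limits.limit.π F j).hom (I j)) ≤ Ideal.jacobson ⊥ := by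
        intro x hx
        rw [hmem] at hx
        rw [Ideal.mem_jacobson_bot]
        intro y
        apply isUnit_of_forall_isUnit
        intro j
        rw [map_add, map_mul, map_one]
        exact Ideal.mem_jacobson_bot.mp ((h j).jac (hx j)) _
      have := isLocalHom_of_le_jacobson_bot _ hjac
      exact this.map_nonunit _ hu
    rw [hmem] at hfa
    -- solve at each level
    have hlev : ∀ j, ∃ a : F.obj j, (f.map (limit.π F j).hom).IsRoot a ∧
        a - (limit.π F j).hom a₀ ∈ I j := by
      intro j
      apply (h j).is_henselian (f.map (limit.π F j).hom) (hf.map _) ((limit.π F j).hom a₀)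
      · rw [eval_map_π]; exact hfa j
      · rw [Polynomial.derivative_map, eval_map_π]
        exact (hu'.map (limit.π F j).hom).map _
    choose a ha using hlev
    have hderiv : ∀ j, IsUnit ((f.map (limit.π F j).hom).derivative.eval (a j)) := by
      intro j
      have h1 : IsUnit ((f.map (limit.π F j).hom).derivative.eval ((limit.π F j).hom a₀)) := by
        rw [Polynomial.derivative_map, eval_map_π]
        exact hu'.map (limit.π F j).hom
      -- eval at a j differs from eval at π a₀ by an element of I j
      have h2 : (f.map (limit.π F j).hom).derivative.eval (a j) -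
          (f.map (limit.π F j).hom).derivative.eval ((limit.π F j).hom a₀) ∈ I j := by
        obtain ⟨q, hq⟩ := Polynomial.evalSubFactor (f.map (limit.π F j).hom).derivative (a j)
          ((limit.π F j).hom a₀)
        rw [hq]
        exact Ideal.mul_mem_left _ _ (ha j).2
      have := isLocalHom_of_le_jacobson_bot _ (h j).jac
      apply this.map_nonunit
      have h3 : Ideal.Quotient.mk (I j) ((f.map (limit.π F j).hom).derivative.eval (a j)) =
          Ideal.Quotient.mk (I j)
            ((f.map (limit.π F j).hom).derivative.eval ((limit.π F j).hom a₀)) :=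
        Ideal.Quotient.eq.mpr h2
      rw [h3]
      exact h1.map _
    have hcompat : ∀ (i j : J) (φ : i ⟶ j), (F.map φ).hom (a i) = a j := by
      intro i j φ
      symm
      have hfmap : (f.map (limit.π F i).hom).map (F.map φ).hom = f.map (limit.π F j).hom := by
        rw [Polynomial.map_map]
        congr 1
        ext x
        exact π_comp_apply F φ x
      apply root_unique (I j) (h j).jac (f.map (limit.π F j).hom)
      · exact (ha j).1
      · rw [← hfmap, Polynomial.eval_map, Polynomial.eval₂_at_apply]
        have := (ha i).1
        rw [Polynomial.IsRoot.def] at this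
        rw [this, map_zero]
      · have h1 : (F.map φ).hom (a i) - (limit.π F j).hom a₀ ∈ I j := by
          rw [← π_comp_apply F φ a₀, ← map_sub]
          exact hI i j φ (Ideal.mem_map_of_mem _ (ha i).2)
        have h2 := (ha j).2
        have : (F.map φ).hom (a i) - a j =
            ((F.map φ).hom (a i) - (limit.π F j).hom a₀) - (a j - (limit.π F j).hom a₀) := by ring
        rw [this]
        exact Ideal.sub_mem _ h1 h2
      · exact hderiv j
    obtain ⟨x, hx⟩ := exists_of_compatible F a hcompat
    refine ⟨x, ?_, ?_⟩
    · rw [Polynomial.IsRoot.def]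
      apply limit_ext'
      intro j
      rw [← eval_map_π, hx j, map_zero]
      exact (ha j).1
    · rw [hmem]
      intro j
      rw [map_sub, hx j]
      exact (ha j).2

end Groth.Agent.S9302
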