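import Groth.Statements.S9307
import Groth.Agent.Helper8.TmE

set_option autoImplicit false
universe u
open EtRam

namespace Groth.Agent.S9307

open TensorProduct in
/-- Let A → B be an injective local homomorphism of discrete valuation rings with fraction fields K ⊆ L,
and let K' be a finite separable extension of K that is tamely ramified relative to A. Then every
field F onto which K' ⊗_K L surjects is, as an extension of L, tamely ramified relative to B. (The
published statement also records that K' ⊗_K L is a finite product of fields, whose factors are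
these F; this row does not state that part.) -/
theorem result (A B K L K' : Type u) [CommRing A] [IsDomain A]
    [IsDiscreteValuationRing A] [CommRing B] [IsDomain B] [IsDiscreteValuationRing B] [Algebra A B]
    [IsLocalHom (algebraMap A B)] (hinj : Function.Injective (algebraMap A B))
    [Field K] [Field L] [Field K'] [Algebra A K] [IsFractionRing A K] [Algebra B L] [IsFractionRing B L]
    [Algebra K L] [Algebra A L] [IsScalarTower A K L] [IsScalarTower A B L]
    [Algebra K K'] [FiniteDimensional K K'] [Algebra.IsSeparable K K']
    (h : EtRam.IsTamelyRamified A ((algebraMap K K').comp (algebraMap A K)))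
    (F : Type u) [Field F] [Algebra (K' ⊗[K] L) F] (hF : Function.Surjective (algebraMap (K' ⊗[K] L) F)) :
    EtRam.IsTamelyRamified B ((algebraMap (K' ⊗[K] L) F).comp
      ((Algebra.TensorProduct.includeRight : L →ₐ[K] K' ⊗[K] L).toRingHom.comp (algebraMap B L))) := by
  letI algK'F : Algebra K' F := ((algebraMap (K' ⊗[K] L) F).comp
    (Algebra.TensorProduct.includeLeft : K' →ₐ[K] K' ⊗[K] L).toRingHom).toAlgebra
  letI algLF : Algebra L F := ((algebraMap (K' ⊗[K] L) F).comp
    (Algebra.TensorProduct.includeRight : L →ₐ[K] K' ⊗[K] L).toRingHom).toAlgebra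
  letI algKF : Algebra K F := ((algebraMap (K' ⊗[K] L) F).comp
    (algebraMap K (K' ⊗[K] L))).toAlgebra
  haveI : IsScalarTower K K' F := IsScalarTower.of_algebraMap_eq (fun k => rfl)
  haveI : IsScalarTower K L F := by
    refine IsScalarTower.of_algebraMap_eq (fun k => ?_)
    show algebraMap (K' ⊗[K] L) F (algebraMap K (K' ⊗[K] L) k) =
      algebraMap (K' ⊗[K] L) F ((1 : K') ⊗ₜ[K] (algebraMap K L k))
    congr 1
    rw [Algebra.TensorProduct.algebraMap_apply, Algebra.algebraMap_eq_smul_one,
      Algebra.algebraMap_eq_smul_one, TensorProduct.smul_tmul]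
  have hadj : Algebra.adjoin L (Set.range (algebraMap K' F)) = ⊤ := by
    rw [eq_top_iff]
    intro x _
    obtain ⟨t, rfl⟩ := hF x
    clear * - t
    induction t using TensorProduct.induction_on with
    | zero => rw [map_zero]; exact zero_mem _
    | tmul k' l =>
      have h1 : (k' ⊗ₜ[K] l : K' ⊗[K] L) = (k' ⊗ₜ[K] (1 : L)) * ((1 : K') ⊗ₜ[K] l) := by
        rw [Algebra.TensorProduct.tmul_mul_tmul, mul_one, one_mul]
      rw [h1, map_mul]
      refine mul_mem (Algebra.subset_adjoin ⟨k', rfl⟩) ?_
      exact Subalgebra.algebraMap_mem _ l
    | add x y hx hy => rw [map_add]; exact add_mem hx hy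
  exact Groth.Agent.Helper8.Tm.tame_core A B K L K' F hinj h hadj

end Groth.Agent.S9307
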