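import Groth.Statements.S9331
import Mathlib.AlgebraicGeometry.Morphisms.Proper
import Mathlib.AlgebraicGeometry.Morphisms.Integral

set_option autoImplicit false
universe u
open QFin

namespace Groth.Agent.S9331

open AlgebraicGeometry CategoryTheory in
theorem aux {X S : Scheme.{u}} (f : X ⟶ S) (x : X)
    (halg : @Algebra.IsAlgebraic (S.residueField (f.base x)) (X.residueField x) _ _ (f.residueFieldMap x).hom.toAlgebra) :
    IsClosed ({f.asFiber x} : Set ↑(f.fiber (f.base x))) ∧
      (IsClosed ({f.base x} : Set ↑S) → IsClosed ({x} : Set ↑X)) := by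
  set F := f.fiber (f.base x)
  set a := f.asFiberHom x
  set g := f.fiberToSpecResidueField (f x)
  set y := f.asFiber x
  have hag : a ≫ g = Spec.map (f.residueFieldMap x) := f.asFiberHom_fiberToSpecResidueField x
  have hint : (f.residueFieldMap x).hom.IsIntegral := by
    letI := (f.residueFieldMap x).hom.toAlgebra
    haveI : Algebra.IsIntegral (S.residueField (f.base x)) (X.residueField x) :=
      Algebra.IsAlgebraic.isIntegral
    exact Algebra.IsIntegral.isIntegral
  have huc : UniversallyClosed (a ≫ g) := by
    rw [hag]
    haveI : IsIntegralHom (Spec.map (f.residueFieldMap x)) := IsIntegralHom.SpecMap_iff.mpr hint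
    infer_instance
  have hcl : IsClosed ({y} : Set F) := by
    rw [← closure_subset_iff_isClosed]
    intro y' hy'
    have hsp : y ⤳ y' := specializes_iff_mem_closure.mpr hy'
    obtain ⟨W, hW, hy'W, -⟩ := exists_isAffineOpen_mem_and_subset (x := y') (U := ⊤) trivial
    have hyW : y ∈ W := hsp.mem_open W.isOpen hy'W
    have hrange : Set.range a.base ⊆ Set.range W.ι.base := by
      rw [f.range_asFiberHom]
      simp only [Scheme.Opens.range_ι, Set.singleton_subset_iff]
      exact hyW
    let a' := IsOpenImmersion.lift W.ι a hrange
    have ha' : a' ≫ W.ι = a := IsOpenImmersion.lift_fac _ _ _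
    haveI : IsAffine W := hW
    haveI : UniversallyClosed (a' ≫ (W.ι ≫ g)) := by
      rw [← Category.assoc, ha']; exact huc
    haveI : UniversallyClosed a' := UniversallyClosed.of_comp_of_isSeparated a' (W.ι ≫ g)
    have hcl' : IsClosed (Set.range a'.base) := a'.isClosedMap.isClosed_range
    have hra' : Set.range a'.base = {⟨y, hyW⟩} := by
      ext w
      constructor
      · rintro ⟨p, rfl⟩
        apply Subtype.ext
        change W.ι (a' p) = y
        rw [← Scheme.Hom.comp_apply, ha']
        exact f.asFiberHom_apply x p
      · rintro rfl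
        refine ⟨IsLocalRing.closedPoint _, ?_⟩
        apply Subtype.ext
        change W.ι (a' _) = y
        rw [← Scheme.Hom.comp_apply, ha']
        exact f.asFiberHom_apply x _
    rw [hra'] at hcl'
    have hsp' : (⟨y, hyW⟩ : W) ⤳ ⟨y', hy'W⟩ := by
      rw [Topology.IsInducing.subtypeVal.specializes_iff.symm]
      exact hsp
    have := hsp'.mem_closed hcl' rfl
    exact (congrArg Subtype.val this : y' = y)
  refine ⟨hcl, fun hs => ?_⟩
  haveI : IsClosedImmersion (S.fromSpecResidueField (f.base x)) :=
    isClosed_singleton_iff_isClosedImmersion.mp hs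
  haveI : IsClosedImmersion (f.fiberι (f.base x)) :=
    MorphismProperty.pullback_fst _ _ inferInstance
  have := (f.fiberι (f.base x)).isClosedEmbedding.isClosedMap _ hcl
  rwa [Set.image_singleton, f.fiberι_asFiber] at this

open AlgebraicGeometry CategoryTheory in
/-- Let f : X → S be a morphism of schemes, x ∈ X, s = f x. If κ(x) is algebraic over κ(s) (through the
residue field map of f at x), then x is a closed point of the fibre X_s, and if in addition s is
closed in S then x is closed in X. -/
theorem result {X S : Scheme.{u}} (f : X ⟶ S) (x : X)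
    (halg : @Algebra.IsAlgebraic (S.residueField (f.base x)) (X.residueField x) _ _ (f.residueFieldMap x).hom.toAlgebra) :
    IsClosed ({f.asFiber x} : Set ↑(f.fiber (f.base x))) ∧
      (IsClosed ({f.base x} : Set ↑S) → IsClosed ({x} : Set ↑X)) := by
  exact aux f x halg

end Groth.Agent.S9331
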