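import Groth.Statements.S9332


set_option autoImplicit false
universe u
open QFin

namespace Groth.Agent.S9332

open AlgebraicGeometry CategoryTheory in
theorem aux {X S : Scheme.{u}} (f : X ⟶ S) [LocallyOfFiniteType f] (x : X) :
    IsClosed ({f.asFiber x} : Set ↑(f.fiber (f.base x))) ↔ (f.residueFieldMap x).hom.Finite := by
  haveI : LocallyOfFiniteType (f.fiberToSpecResidueField (f x)) :=
    MorphismProperty.pullback_snd _ _ inferInstance
  rw [RingHom.finite_iff_finiteType_of_isJacobsonRing]
  constructor
  · intro hcl
    haveI : IsClosedImmersion (f.asFiberHom x) :=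
      .of_isPreimmersion _ (by rw [f.range_asFiberHom]; exact hcl)
    have h1 : LocallyOfFiniteType (f.asFiberHom x ≫ f.fiberToSpecResidueField _) := inferInstance
    rw [f.asFiberHom_fiberToSpecResidueField,
      HasRingHomProperty.Spec_iff (P := @LocallyOfFiniteType)] at h1
    exact h1
  · intro hfin
    have h1 : LocallyOfFiniteType (Spec.map (f.residueFieldMap x)) := by
      rw [HasRingHomProperty.Spec_iff (P := @LocallyOfFiniteType)]; exact hfin
    rw [← f.asFiberHom_fiberToSpecResidueField] at h1
    haveI : LocallyOfFiniteType (f.asFiberHom x) :=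
      locallyOfFiniteType_of_comp _ (f.fiberToSpecResidueField _)
    have := (f.asFiberHom x).closePoints_subset_preimage_closedPoints
      (IsLocalRing.isClosed_singleton_closedPoint _)
    simpa [f.asFiberHom_apply] using this

open AlgebraicGeometry CategoryTheory in
/-- Let f : X → S be locally of finite type and x ∈ X. Then x is closed in its fibre X_{f x} if and only
if κ(x) is a finite extension of κ(f x) (via the residue field map of f at x). -/
theorem result {X S : Scheme.{u}} (f : X ⟶ S) [LocallyOfFiniteType f] (x : X) :
    IsClosed ({f.asFiber x} : Set ↑(f.fiber (f.base x))) ↔ (f.residueFieldMap x).hom.Finite := by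
  exact aux f x

end Groth.Agent.S9332
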