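import Groth.Statements.S9333
import Mathlib.AlgebraicGeometry.Morphisms.QuasiFinite

set_option autoImplicit false
universe u
open QFin

namespace Groth.Agent.S9333

open AlgebraicGeometry CategoryTheory Limits in
theorem closed_transport {X S : Scheme.{u}} (f : X ⟶ S) (x : X) (s : S)
    (hx : f x = s) (y : f.fiber s) (hy : f.fiberι s y = x) :
    IsClosed ({y} : Set (f.fiber s)) ↔ IsClosed ({f.asFiber x} : Set (f.fiber (f x))) := by
  subst hx
  have : y = f.asFiber x := by
    apply (f.fiberι (f x)).isEmbedding.injective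
    rw [hy, f.fiberι_asFiber]
  subst this
  rfl

open AlgebraicGeometry CategoryTheory Limits in
theorem aux {X S X' S' : Scheme.{u}} (f : X ⟶ S) [LocallyOfFiniteType f] (g : S' ⟶ S)
    (g' : X' ⟶ X) (f' : X' ⟶ S') (hsq : IsPullback g' f' f g) (x' : X')
    (hx : IsClosed ({f.asFiber (g'.base x')} : Set ↑(f.fiber (f.base (g'.base x'))))) :
    IsClosed ({f'.asFiber x'} : Set ↑(f'.fiber (f'.base x'))) := by
  haveI : LocallyOfFiniteType f' := MorphismProperty.of_isPullback hsq ‹_›
  haveI : LocallyOfFiniteType (f.fiberToSpecResidueField (g (f' x'))) :=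
    MorphismProperty.pullback_snd _ _ inferInstance
  haveI : LocallyOfFiniteType (f'.fiberToSpecResidueField (f' x')) :=
    MorphismProperty.pullback_snd _ _ inferInstance
  let π : f'.fiber (f' x') ⟶ f.fiber (g (f' x')) :=
    pullback.map f' (S'.fromSpecResidueField (f' x')) f (S.fromSpecResidueField (g (f' x')))
    g' (Spec.map (g.residueFieldMap (f' x'))) g hsq.w.symm (by simp)
  have hpb : IsPullback π (f'.fiberToSpecResidueField (f' x')) (f.fiberToSpecResidueField (g (f' x')))
      (Spec.map (g.residueFieldMap (f' x'))) :=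
    isPullback_fiberToSpecResidueField_of_isPullback hsq (f' x')
  have hπ : π ≫ f.fiberι (g (f' x')) = f'.fiberι (f' x') ≫ g' := pullback.lift_fst _ _ _
  set y' := f'.asFiber x' with hy'
  set y := π y' with hy
  have hyx : f.fiberι (g (f' x')) y = g' x' := by
    have e1 : f.fiberι (g (f' x')) (π (f'.asFiber x')) =
        (π ≫ f.fiberι (g (f' x'))) (f'.asFiber x') := rfl
    have e2 : (f'.fiberι (f' x') ≫ g') (f'.asFiber x') =
        g' (f'.fiberι (f' x') (f'.asFiber x')) := rfl
    have e3 := congrArg (fun h : f'.fiber (f' x') ⟶ X => h (f'.asFiber x')) hπ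
    exact e1.trans (e3.trans (e2.trans (congrArg g' (f'.fiberι_asFiber x'))))
  have hfx : f (g' x') = g (f' x') := by
    rw [← Scheme.Hom.comp_apply, hsq.w, Scheme.Hom.comp_apply]
  have hycl : IsClosed ({y} : Set (f.fiber (g (f' x')))) :=
    (closed_transport f (g' x') (g (f' x')) hfx y hyx).mpr hx
  let ιy := (f.fiber (g (f' x'))).fromSpecResidueField y
  haveI : IsClosedImmersion ιy := isClosed_singleton_iff_isClosedImmersion.mp hycl
  haveI : IsClosedImmersion (pullback.snd ιy π) := MorphismProperty.pullback_snd _ _ inferInstance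
  obtain ⟨p, -, hp⟩ := Scheme.Pullback.exists_preimage_pullback (f := ιy) (g := π)
    (IsLocalRing.closedPoint _) y' (Scheme.fromSpecResidueField_apply _ _)
  -- P is discrete
  have hpaste : IsPullback (pullback.snd ιy π ≫ f'.fiberToSpecResidueField (f' x'))
      (pullback.fst ιy π) (Spec.map (g.residueFieldMap (f' x')))
      (ιy ≫ f.fiberToSpecResidueField (g (f' x'))) :=
    (IsPullback.of_hasPullback ιy π).flip.paste_horiz hpb.flip
  haveI : LocallyQuasiFinite (ιy ≫ f.fiberToSpecResidueField (g (f' x'))) := by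
    apply LocallyQuasiFinite.of_injective
    intro a b _
    exact Subsingleton.elim (α := PrimeSpectrum _) a b
  haveI : LocallyQuasiFinite (pullback.snd ιy π ≫ f'.fiberToSpecResidueField (f' x')) :=
    MorphismProperty.of_isPullback hpaste.flip ‹_›
  have hdisc := (pullback.snd ιy π ≫ f'.fiberToSpecResidueField (f' x')).isDiscrete_preimage_singleton
    ((pullback.snd ιy π ≫ f'.fiberToSpecResidueField (f' x')) p)
  have huniv : (pullback.snd ιy π ≫ f'.fiberToSpecResidueField (f' x')) ⁻¹'
      {(pullback.snd ιy π ≫ f'.fiberToSpecResidueField (f' x')) p} = Set.univ := by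
    ext q
    simp only [Set.mem_preimage, Set.mem_singleton_iff, Set.mem_univ, iff_true]
    exact Subsingleton.elim (α := PrimeSpectrum _) _ _
  rw [huniv, isDiscrete_univ_iff] at hdisc
  have hpcl : IsClosed ({p} : Set ↑(pullback ιy π)) := isClosed_discrete _
  have := (pullback.snd ιy π).isClosedEmbedding.isClosedMap _ hpcl
  rwa [Set.image_singleton, hp] at this

open AlgebraicGeometry CategoryTheory in
/-- Let f : X → S be locally of finite type, g : S' → S any morphism and X' = X ×_S S' with projections
g' : X' → X and f' : X' → S'. If x' ∈ X' maps to x ∈ X and x is closed in the fibre X_{f x}, then x'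
is closed in the fibre X'_{f' x'}. -/
theorem result {X S X' S' : Scheme.{u}} (f : X ⟶ S) [LocallyOfFiniteType f] (g : S' ⟶ S)
    (g' : X' ⟶ X) (f' : X' ⟶ S') (hsq : IsPullback g' f' f g) (x' : X')
    (hx : IsClosed ({f.asFiber (g'.base x')} : Set ↑(f.fiber (f.base (g'.base x'))))) :
    IsClosed ({f'.asFiber x'} : Set ↑(f'.fiber (f'.base x'))) := by
  exact aux f g g' f' hsq x' hx

end Groth.Agent.S9333
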