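import Groth.Statements.S9336
import Groth.Agent.S9331
import Groth.Agent.S9332
import Groth.Agent.S9333
import Groth.Agent.S9334
import Groth.Agent.S9335
import Groth.Agent.Helper1.SchemeTop

set_option autoImplicit false
universe u
open QFin

namespace Groth.Agent.S9336

open AlgebraicGeometry CategoryTheory in
theorem closedA {X Y S : Scheme.{u}} (f : X ⟶ Y) (g : Y ⟶ S)
    [LocallyQuasiFinite (f ≫ g)] [LocallyOfFiniteType (f ≫ g)] (x : X) :
    IsClosed ({g.asFiber (f x)} : Set (g.fiber (g (f x)))) := by
  have hq : (f ≫ g).QuasiFiniteAt x := (f ≫ g).quasiFiniteAt x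
  have hcl := ((Groth.Agent.S9334.result (f ≫ g) x).mp hq).1
  have hfin : ((f ≫ g).residueFieldMap x).hom.Finite :=
    (Groth.Agent.S9332.result (f ≫ g) x).mp hcl
  have hint : ((f ≫ g).residueFieldMap x).hom.IsIntegral := hfin.to_isIntegral
  rw [Scheme.residueFieldMap_comp] at hint
  have hint2 : ((f.residueFieldMap x).hom.comp (g.residueFieldMap (f x)).hom).IsIntegral := hint
  have hint' : (g.residueFieldMap (f x)).hom.IsIntegral :=
    RingHom.IsIntegral.tower_bot _ _ (f.residueFieldMap x).hom.injective hint2
  refine (Groth.Agent.S9331.result g (f x) ?_).1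
  letI := (g.residueFieldMap (f x)).hom.toAlgebra
  haveI : Algebra.IsIntegral (S.residueField (g (f x))) (Y.residueField (f x)) := ⟨hint'⟩
  exact Algebra.IsIntegral.isAlgebraic

open AlgebraicGeometry CategoryTheory in
theorem aux {X Y S : Scheme.{u}} (f : X ⟶ Y) (g : Y ⟶ S) [Surjective f]
    [LocallyQuasiFinite (f ≫ g)] [LocallyOfFiniteType (f ≫ g)] [LocallyOfFiniteType g] :
    LocallyQuasiFinite g := by
  rw [locallyQuasiFinite_iff_isDiscrete_preimage_singleton]
  intro s
  have hclosed : ∀ yG : g.fiber s, IsClosed ({yG} : Set (g.fiber s)) := by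
    intro yG
    obtain ⟨x, hx⟩ := f.surjective (g.fiberι s yG)
    have hgy : g (f x) = s := by
      rw [hx]
      exact (g.range_fiberι s).le ⟨yG, rfl⟩
    rw [Groth.Agent.S9333.closed_transport g (f x) s hgy yG hx.symm]
    exact closedA f g x
  haveI : LocallyOfFiniteType (g.fiberToSpecResidueField s) :=
    MorphismProperty.pullback_snd _ _ inferInstance
  haveI : IsNoetherianRing Γ(Spec (S.residueField s), ⊤) :=
    isNoetherianRing_of_ringEquiv _
      (Scheme.ΓSpecIso (S.residueField s)).symm.commRingCatIsoToRingEquiv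
  haveI : IsLocallyNoetherian (g.fiber s) :=
    Groth.Agent.S9335.isLocallyNoetherian_of_lft (g.fiberToSpecResidueField s)
  have hopen : ∀ yG : g.fiber s, IsOpen ({yG} : Set (g.fiber s)) := by
    intro yG
    refine Groth.Agent.Helper1.SchemeTop.isOpen_of_locallyNoetherian
      (Groth.Agent.Helper1.SchemeTop.nhds_noetherian (g.fiber s)) (hclosed yG) ?_
    intro a b hba ha
    rw [Set.mem_singleton_iff] at ha ⊢
    subst ha
    have := hba.mem_closed (hclosed b) rfl
    exact (Set.mem_singleton_iff.mp this).symm
  haveI : DiscreteTopology (g.fiber s) := discreteTopology_iff_isOpen_singleton.mpr hopen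
  rw [isDiscrete_iff_discreteTopology]
  exact (g.fiberHomeo s).symm.isEmbedding.discreteTopology

open AlgebraicGeometry CategoryTheory in
/-- Let f : X → Y be surjective and g : Y → S locally of finite type. If g ∘ f is locally quasi-finite
(and locally of finite type), then g is locally quasi-finite. -/
theorem result {X Y S : Scheme.{u}} (f : X ⟶ Y) (g : Y ⟶ S) [Surjective f]
    [LocallyQuasiFinite (f ≫ g)] [LocallyOfFiniteType (f ≫ g)] [LocallyOfFiniteType g] :
    LocallyQuasiFinite g := by
  exact aux f g

end Groth.Agent.S9336
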