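import Groth.Statements.S9337
import Groth.Agent.Lead.FtPts

set_option autoImplicit false
universe u
open FtPts

namespace Groth.Agent.S9337

open AlgebraicGeometry CategoryTheory in
theorem aux (S : Scheme.{u}) (k : Type u) [Field k] (f : Spec (CommRingCat.of k) ⟶ S) :
    LocallyOfFiniteType f ↔
      ∃ U : S.Opens, IsAffineOpen U ∧ ∃ hu : f.base (IsLocalRing.closedPoint k) ∈ U,
        IsClosed ({⟨f.base (IsLocalRing.closedPoint k), hu⟩} : Set ↥U) ∧
          (f.residueFieldMap (IsLocalRing.closedPoint k)).hom.Finite := by
  set pt : Spec (CommRingCat.of k) := IsLocalRing.closedPoint k with hpt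
  -- the residue field inclusion of `Spec k` at its point is an isomorphism
  have hptcl : IsClosed ({pt} : Set (Spec (CommRingCat.of k))) :=
    IsLocalRing.isClosed_singleton_closedPoint k
  haveI : IsClosedImmersion ((Spec (CommRingCat.of k)).fromSpecResidueField pt) :=
    isClosed_singleton_iff_isClosedImmersion.mp hptcl
  haveI : Surjective ((Spec (CommRingCat.of k)).fromSpecResidueField pt) := by
    constructor
    intro y
    exact ⟨IsLocalRing.closedPoint _, Subsingleton.elim _ _⟩
  haveI : IsIso ((Spec (CommRingCat.of k)).fromSpecResidueField pt) :=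
    isIso_of_isClosedImmersion_of_surjective _
  have hsq := Scheme.Hom.SpecMap_residueFieldMap_fromSpecResidueField f pt
  constructor
  · intro hf
    obtain ⟨U, hU, hu, hcl⟩ := Groth.Agent.Lead.FtPts.exists_affineOpen_isClosed_of_lft f
    refine ⟨U, hU, hu, hcl, ?_⟩
    haveI : LocallyOfFiniteType (S.fromSpecResidueField (f pt)) :=
      Groth.Agent.Lead.FtPts.ft_of_lft_from_field f
    haveI : LocallyOfFiniteType (Spec.map (f.residueFieldMap pt) ≫
        S.fromSpecResidueField (f pt)) := by
      rw [hsq]; infer_instance
    have h2 : LocallyOfFiniteType (Spec.map (f.residueFieldMap pt)) :=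
      locallyOfFiniteType_of_comp _ (S.fromSpecResidueField (f pt))
    rw [HasRingHomProperty.Spec_iff (P := @LocallyOfFiniteType)] at h2
    exact RingHom.finite_iff_finiteType_of_isJacobsonRing.mpr h2
  · rintro ⟨U, hU, hu, hcl, hfin⟩
    haveI : LocallyOfFiniteType (S.fromSpecResidueField (f pt)) :=
      Groth.Agent.Lead.FtPts.ft_of_isClosed_in_open S U ⟨_, hu⟩ hcl
    haveI : LocallyOfFiniteType (Spec.map (f.residueFieldMap pt)) := by
      rw [HasRingHomProperty.Spec_iff (P := @LocallyOfFiniteType)]
      exact RingHom.FiniteType.of_finite hfin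
    have h3 : LocallyOfFiniteType ((Spec (CommRingCat.of k)).fromSpecResidueField pt ≫ f) := by
      rw [← hsq]; infer_instance
    exact (MorphismProperty.cancel_left_of_respectsIso @LocallyOfFiniteType _ _).mp h3

open AlgebraicGeometry CategoryTheory in
/-- Let k be a field and f : Spec k → S a morphism of schemes with image point u. Then f is locally of
finite type if and only if some affine open U ∋ u of S has u as a closed point and the residue field
of Spec k (that is, k) is finite over κ(u). -/
theorem result (S : Scheme.{u}) (k : Type u) [Field k] (f : Spec (CommRingCat.of k) ⟶ S) :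
    LocallyOfFiniteType f ↔
      ∃ U : S.Opens, IsAffineOpen U ∧ ∃ hu : f.base (IsLocalRing.closedPoint k) ∈ U,
        IsClosed ({⟨f.base (IsLocalRing.closedPoint k), hu⟩} : Set ↥U) ∧
          (f.residueFieldMap (IsLocalRing.closedPoint k)).hom.Finite := by
  exact aux S k f

end Groth.Agent.S9337
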