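import Groth.Statements.S9338
import Mathlib.RingTheory.HopkinsLevitzki

set_option autoImplicit false
universe u
open FtPts

namespace Groth.Agent.S9338

theorem ft_of_quotient_nilpotent {R A : Type*} [CommRing R] [CommRing A] [Algebra R A]
    (I : Ideal A) (hfg : I.FG) (hnil : IsNilpotent I) (h : Algebra.FiniteType R (A ⧸ I)) :
    Algebra.FiniteType R A := by
  classical
  obtain ⟨T, hT⟩ := h.out
  obtain ⟨M, hM⟩ := hfg
  let lift : A ⧸ I → A := Function.surjInv Ideal.Quotient.mk_surjective
  have hlift : ∀ t, Ideal.Quotient.mk I (lift t) = t := Function.surjInv_eq _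
  let G : Finset A := T.image lift ∪ M
  let B : Subalgebra R A := Algebra.adjoin R (G : Set A)
  have hMB : ∀ m ∈ M, m ∈ B := fun m hm => Algebra.subset_adjoin (by simp [G, hm])
  have hMI : ∀ m ∈ M, m ∈ I := fun m hm => by rw [← hM]; exact Ideal.subset_span hm
  have h1 : ∀ a : A, ∃ b ∈ B, a - b ∈ I := by
    intro a
    have hmem : Ideal.Quotient.mk I a ∈ (Algebra.adjoin R (T : Set (A ⧸ I))) := by
      rw [hT]; trivial
    have hle : Algebra.adjoin R (T : Set (A ⧸ I)) ≤ B.map (Ideal.Quotient.mkₐ R I) := by
      apply Algebra.adjoin_le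
      intro t ht
      refine ⟨lift t, Algebra.subset_adjoin ?_, hlift t⟩
      simp only [G, Finset.coe_union, Finset.coe_image, Set.mem_union, Set.mem_image]
      exact Or.inl ⟨t, ht, rfl⟩
    obtain ⟨b, hb, hba⟩ := hle hmem
    refine ⟨b, hb, ?_⟩
    rw [← Ideal.Quotient.eq]
    exact hba.symm
  have h2 : ∀ n, ∀ c ∈ I ^ n, ∃ b ∈ B, c - b ∈ I ^ (n + 1) := by
    intro n
    induction n with
    | zero => intro c _; simpa using h1 c
    | succ n ih =>
      have key : ∀ m ∈ I, ∀ x ∈ I ^ n, ∃ b ∈ B, x * m - b ∈ I ^ (n + 1 + 1) := by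
        intro m hm
        rw [← hM] at hm
        induction hm using Submodule.span_induction with
        | mem m hm =>
          intro x hx
          obtain ⟨b, hb, hxb⟩ := ih x hx
          refine ⟨b * m, B.mul_mem hb (hMB m hm), ?_⟩
          have : x * m - b * m = (x - b) * m := by ring
          rw [this, pow_succ (I) (n + 1)]
          exact Ideal.mul_mem_mul hxb (hMI m hm)
        | zero => intro x _; exact ⟨0, B.zero_mem, by simp⟩
        | add m1 m2 _ _ h1' h2' =>
          intro x hx
          obtain ⟨b1, hb1, e1⟩ := h1' x hx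
          obtain ⟨b2, hb2, e2⟩ := h2' x hx
          refine ⟨b1 + b2, B.add_mem hb1 hb2, ?_⟩
          have : x * (m1 + m2) - (b1 + b2) = (x * m1 - b1) + (x * m2 - b2) := by ring
          rw [this]; exact Ideal.add_mem _ e1 e2
        | smul a m _ h' =>
          intro x hx
          obtain ⟨b, hb, e⟩ := h' (x * a) (Ideal.mul_mem_right a _ hx)
          refine ⟨b, hb, ?_⟩
          have : x * (a • m) - b = x * a * m - b := by rw [smul_eq_mul]; ring
          rw [this]; exact e
      intro c hc
      rw [pow_succ] at hc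
      refine Submodule.mul_induction_on hc (fun x hx m hm => key m hm x hx) ?_
      rintro c1 c2 ⟨b1, hb1, e1⟩ ⟨b2, hb2, e2⟩
      refine ⟨b1 + b2, B.add_mem hb1 hb2, ?_⟩
      have : c1 + c2 - (b1 + b2) = (c1 - b1) + (c2 - b2) := by ring
      rw [this]; exact Ideal.add_mem _ e1 e2
  have h3 : ∀ n, ∀ a : A, ∃ b ∈ B, a - b ∈ I ^ n := by
    intro n
    induction n with
    | zero => intro a; exact ⟨0, B.zero_mem, by simp⟩
    | succ n ih =>
      intro a
      obtain ⟨b, hb, e⟩ := ih a
      obtain ⟨b', hb', e'⟩ := h2 n _ e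
      refine ⟨b + b', B.add_mem hb hb', ?_⟩
      have : a - (b + b') = a - b - b' := by ring
      rw [this]; exact e'
  obtain ⟨N, hN⟩ := hnil
  refine ⟨⟨G, ?_⟩⟩
  rw [eq_top_iff]
  intro a _
  obtain ⟨b, hb, e⟩ := h3 N a
  rw [hN] at e
  have : a = b := by
    have : a - b = 0 := by simpa using e
    exact sub_eq_zero.mp this
  rw [this]; exact hb

theorem ft_ringHom {R A : Type*} [CommRing R] [CommRing A] (φ : R →+* A)
    (I : Ideal A) (hfg : I.FG) (hnil : IsNilpotent I)
    (h : ((Ideal.Quotient.mk I).comp φ).FiniteType) : φ.FiniteType := by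
  letI : Algebra R A := φ.toAlgebra
  change Algebra.FiniteType R A
  refine ft_of_quotient_nilpotent I hfg hnil ?_
  rw [← RingHom.finiteType_algebraMap]
  exact h

open AlgebraicGeometry CategoryTheory in
theorem aux (S : Scheme.{u}) (A : Type u) [CommRing A] [IsArtinianRing A] [IsLocalRing A]
    (f : Spec (CommRingCat.of A) ⟶ S) :
    LocallyOfFiniteType f ↔
      LocallyOfFiniteType (Spec.map (CommRingCat.ofHom (IsLocalRing.residue A)) ≫ f) := by
  constructor
  · intro h
    haveI : LocallyOfFiniteType (Spec.map (CommRingCat.ofHom (IsLocalRing.residue A))) := by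
      rw [HasRingHomProperty.Spec_iff (P := @LocallyOfFiniteType)]
      exact RingHom.FiniteType.of_surjective _ IsLocalRing.residue_surjective
    infer_instance
  · intro h
    have hpt : ∀ p : Spec (CommRingCat.of A), p = IsLocalRing.closedPoint A := by
      intro p
      haveI := p.isPrime
      have hmax : p.asIdeal.IsMaximal := IsArtinianRing.isMaximal_of_isPrime p.asIdeal
      apply PrimeSpectrum.ext
      exact IsLocalRing.eq_maximalIdeal hmax
    let s := f (IsLocalRing.closedPoint A)
    obtain ⟨U, hU, hsU, -⟩ := exists_isAffineOpen_mem_and_subset (x := s) (U := ⊤) trivial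
    have hrange : Set.range f.base ⊆ Set.range hU.fromSpec.base := by
      rw [hU.range_fromSpec]
      rintro _ ⟨p, rfl⟩
      rw [hpt p]; exact hsU
    let f' := IsOpenImmersion.lift hU.fromSpec f hrange
    have hf' : f' ≫ hU.fromSpec = f := IsOpenImmersion.lift_fac _ _ _
    let φ : Γ(S, U) ⟶ CommRingCat.of A := Spec.preimage f'
    have hφ : Spec.map φ = f' := Spec.map_preimage _
    have h1 : LocallyOfFiniteType ((Spec.map (CommRingCat.ofHom (IsLocalRing.residue A)) ≫
        Spec.map φ) ≫ hU.fromSpec) := by
      rw [Category.assoc, hφ, hf']; exact h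
    have h2 : LocallyOfFiniteType (Spec.map (CommRingCat.ofHom (IsLocalRing.residue A)) ≫
        Spec.map φ) := locallyOfFiniteType_of_comp _ hU.fromSpec
    rw [← Spec.map_comp, HasRingHomProperty.Spec_iff (P := @LocallyOfFiniteType)] at h2
    have hnil : IsNilpotent (IsLocalRing.maximalIdeal A) := by
      have := IsArtinianRing.isNilpotent_jacobson_bot (R := A)
      rwa [IsLocalRing.jacobson_eq_maximalIdeal ⊥ bot_ne_top] at this
    have hfg : (IsLocalRing.maximalIdeal A).FG := by
      haveI : IsNoetherianRing A := inferInstance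
      exact IsNoetherian.noetherian (R := A) (M := A) _
    have h3 : φ.hom.FiniteType :=
      ft_ringHom φ.hom (IsLocalRing.maximalIdeal A) hfg hnil h2
    have h4 : LocallyOfFiniteType (Spec.map φ) := by
      rw [HasRingHomProperty.Spec_iff (P := @LocallyOfFiniteType)]; exact h3
    rw [← hf', ← hφ]
    infer_instance

open AlgebraicGeometry CategoryTheory in
/-- For an Artinian local ring A with residue field κ, a morphism f : Spec A → S is (locally) of finite
type exactly when the composite Spec κ → Spec A → S is. -/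
theorem result (S : Scheme.{u}) (A : Type u) [CommRing A] [IsArtinianRing A] [IsLocalRing A]
    (f : Spec (CommRingCat.of A) ⟶ S) :
    LocallyOfFiniteType f ↔
      LocallyOfFiniteType (Spec.map (CommRingCat.ofHom (IsLocalRing.residue A)) ≫ f) := by
  exact aux S A f

end Groth.Agent.S9338
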