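import Groth.Statements.S9340
import Groth.Agent.Lead.FtPts

set_option autoImplicit false
universe u
open FtPts

namespace Groth.Agent.S9340

open AlgebraicGeometry CategoryTheory CategoryTheory.Limits in
theorem aux {T S : Scheme.{u}} (f : T ⟶ S) [LocallyOfFiniteType f] [Surjective f] :
    f.base '' {t : ↑T | LocallyOfFiniteType (T.fromSpecResidueField t)} =
      {s : ↑S | LocallyOfFiniteType (S.fromSpecResidueField s)} := by
  apply subset_antisymm
  · rintro _ ⟨t, ht, rfl⟩
    exact Groth.Agent.Lead.FtPts.ft_image f t ht
  intro s hs
  haveI : LocallyOfFiniteType (S.fromSpecResidueField s) := hs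
  obtain ⟨x, hx⟩ := f.surjective s
  obtain ⟨p₀, -, -⟩ := Scheme.Pullback.exists_preimage_pullback (f := f)
    (g := S.fromSpecResidueField s) x (IsLocalRing.closedPoint (S.residueField s))
    (by rw [hx, Scheme.fromSpecResidueField_apply])
  haveI : JacobsonSpace (Spec (S.residueField s)) :=
    PrimeSpectrum.isJacobsonRing_iff_jacobsonSpace.mp inferInstance
  haveI : JacobsonSpace ↑(pullback f (S.fromSpecResidueField s)) :=
    LocallyOfFiniteType.jacobsonSpace (pullback.snd f (S.fromSpecResidueField s))
  obtain ⟨p, -, hp⟩ := nonempty_inter_closedPoints (X := ↑(pullback f (S.fromSpecResidueField s)))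
    (Z := Set.univ) ⟨p₀, trivial⟩ isClosed_univ.isLocallyClosed
  haveI : IsClosedImmersion ((pullback f (S.fromSpecResidueField s)).fromSpecResidueField p) :=
    isClosed_singleton_iff_isClosedImmersion.mp hp
  have h1 := Groth.Agent.Lead.FtPts.ft_of_lft_from_field
    (L := (pullback f (S.fromSpecResidueField s)).residueField p)
    ((pullback f (S.fromSpecResidueField s)).fromSpecResidueField p ≫
      pullback.fst f (S.fromSpecResidueField s))
  rw [Scheme.Hom.comp_apply, Scheme.fromSpecResidueField_apply] at h1
  refine ⟨pullback.fst f (S.fromSpecResidueField s) p, h1, ?_⟩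
  rw [← Scheme.Hom.comp_apply, pullback.condition, Scheme.Hom.comp_apply,
    Scheme.fromSpecResidueField_apply]

open AlgebraicGeometry CategoryTheory in
/-- A surjective morphism locally of finite type maps the set of finite type points of the source onto
the set of finite type points of the target. -/
theorem result {T S : Scheme.{u}} (f : T ⟶ S) [LocallyOfFiniteType f] [Surjective f] :
    f.base '' {t : ↑T | LocallyOfFiniteType (T.fromSpecResidueField t)} =
      {s : ↑S | LocallyOfFiniteType (S.fromSpecResidueField s)} := by
  exact aux f

end Groth.Agent.S9340
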