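import Groth.Statements.S9345
import Mathlib

set_option autoImplicit false
universe u
open Dom

namespace Groth.Agent.S9345

/-- Topological core. -/
theorem topological {X S : Type*} [TopologicalSpace X] [TopologicalSpace S] [QuasiSober X]
    [QuasiSober S] [T0Space S] (f : X → S) (hf : Continuous f)
    (hX : (irreducibleComponents X).Finite) :
    (DenseRange f ↔ ∀ s : S, closure {s} ∈ irreducibleComponents S → s ∈ Set.range f) ∧
      (DenseRange f → (irreducibleComponents S).Finite) := by
  classical
  have key : DenseRange f → ∀ T ∈ irreducibleComponents S,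
      ∃ Z ∈ irreducibleComponents X, T = closure (f '' Z) := by
    intro hd T hT
    have hcover : (Set.univ : Set S) ⊆ ⋃ Z ∈ irreducibleComponents X, closure (f '' Z) := by
      have hclosed : IsClosed (⋃ Z ∈ irreducibleComponents X, closure (f '' Z)) :=
        hX.isClosed_biUnion fun Z _ => isClosed_closure
      have hsub : Set.range f ⊆ ⋃ Z ∈ irreducibleComponents X, closure (f '' Z) := by
        rintro _ ⟨x, rfl⟩
        have hZ := irreducibleComponent_mem_irreducibleComponents x
        refine Set.mem_biUnion hZ ?_
        exact subset_closure ⟨x, mem_irreducibleComponent, rfl⟩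
      have := closure_minimal hsub hclosed
      rwa [hd.closure_range] at this
    -- T is irreducible so lies in one of them
    have hTirr : IsIrreducible T := hT.1
    have := (isIrreducible_iff_sUnion_isClosed.mp hTirr)
      (hX.toFinset.image fun Z => closure (f '' Z))
      (by
        intro z hz
        simp only [Finset.mem_image] at hz
        obtain ⟨Z, -, rfl⟩ := hz
        exact isClosed_closure)
      (by
        intro t ht
        have := hcover (Set.mem_univ t)
        simp only [Set.mem_iUnion] at this
        obtain ⟨Z, hZ, htZ⟩ := this
        refine ⟨closure (f '' Z), ?_, htZ⟩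
        simp only [Finset.coe_image, Set.Finite.coe_toFinset, Set.mem_image]
        exact ⟨Z, hZ, rfl⟩)
    obtain ⟨z, hz, hTz⟩ := this
    simp only [Finset.mem_image, Set.Finite.mem_toFinset] at hz
    obtain ⟨Z, hZ, rfl⟩ := hz
    refine ⟨Z, hZ, ?_⟩
    have hirr : IsIrreducible (closure (f '' Z)) := (hZ.1.image f hf.continuousOn).closure
    exact le_antisymm hTz (hT.2 hirr hTz)
  refine ⟨⟨?_, ?_⟩, ?_⟩
  · intro hd s hs
    obtain ⟨Z, hZ, hEq⟩ := key hd _ hs
    obtain ⟨ξ, hξ⟩ := QuasiSober.sober hZ.1 (isClosed_of_mem_irreducibleComponents Z hZ)
    have hξ' : closure {ξ} = Z := hξ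
    have h2 : closure (f '' Z) = closure {f ξ} := by
      rw [← hξ', closure_image_closure hf, Set.image_singleton]
    have hins : Inseparable s (f ξ) := inseparable_iff_closure_eq.mpr (hEq.trans h2)
    exact ⟨ξ, hins.eq.symm⟩
  · intro h s
    have hT := irreducibleComponent_mem_irreducibleComponents s
    obtain ⟨η, hη⟩ := QuasiSober.sober hT.1 (isClosed_of_mem_irreducibleComponents _ hT)
    have hη' : closure {η} = irreducibleComponent s := hη
    have hmem : η ∈ Set.range f := h η (hη'.symm ▸ hT)
    have : s ∈ closure {η} := hη' ▸ mem_irreducibleComponent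
    exact closure_mono (Set.singleton_subset_iff.mpr hmem) this
  · intro hd
    apply (hX.image fun Z => closure (f '' Z)).subset
    intro T hT
    obtain ⟨Z, hZ, hEq⟩ := key hd T hT
    exact ⟨Z, hZ, hEq.symm⟩

open AlgebraicGeometry CategoryTheory in
/-- For a morphism f : X → S whose source has only finitely many irreducible components, the image of f
is dense exactly when it contains the generic point of each irreducible component of S, and then S
too has finitely many. -/
theorem result {X S : Scheme.{u}} (f : X ⟶ S)
    (hX : (irreducibleComponents (↑X : Type u)).Finite) :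
    (IsDominant f ↔ ∀ s : ↑S, closure {s} ∈ irreducibleComponents (↑S : Type u) → s ∈ Set.range f.base) ∧
      (IsDominant f → (irreducibleComponents (↑S : Type u)).Finite) := by
  have := topological f.base f.continuous hX
  rw [isDominant_iff]
  exact this

end Groth.Agent.S9345
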