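import Groth.Statements.S9348
import Mathlib

set_option autoImplicit false
universe u
open Dom

namespace Groth.Agent.S9348

open AlgebraicGeometry CategoryTheory in
/-- Let f : X → Y be a morphism and g : Y' → Y open and surjective. If the base change f' : X ×_Y Y' →
Y' of f is quasi-compact, then so is f. -/
theorem result {X Y X' Y' : Scheme.{u}} (f : X ⟶ Y) (g : Y' ⟶ Y) [Surjective g]
    (hg : IsOpenMap g.base) (g' : X' ⟶ X) (f' : X' ⟶ Y') (hsq : IsPullback g' f' f g) [QuasiCompact f'] :
    QuasiCompact f := by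
  refine ⟨fun V hVo hVc => ?_⟩
  -- choose for each `y ∈ V` an affine open in `g⁻¹ V` meeting the fibre over `y`
  have hex : ∀ y ∈ V, ∃ W : Y'.Opens, IsAffineOpen W ∧ (W : Set Y') ⊆ g.base ⁻¹' V ∧
      y ∈ g.base '' (W : Set Y') := by
    intro y hy
    obtain ⟨y', rfl⟩ := g.surjective y
    let P : Y'.Opens := ⟨g.base ⁻¹' V, hVo.preimage g.continuous⟩
    obtain ⟨W, hW, hyW, hWP⟩ := exists_isAffineOpen_mem_and_subset (x := y') (U := P) hy
    exact ⟨W, hW, hWP, ⟨y', hyW, rfl⟩⟩
  choose! W hWaff hWsub hWmem using hex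
  obtain ⟨t, ht⟩ := hVc.elim_nhds_subcover' (fun y _ => g.base '' (W y : Set Y'))
    (fun y hy => (hg _ (W y).2).mem_nhds (hWmem y hy))
  let T : Set Y' := ⋃ x ∈ t, (W (x : V) : Set Y')
  have hTo : IsOpen T := isOpen_biUnion fun x _ => (W x).2
  have hTc : IsCompact T := t.isCompact_biUnion fun x _ => (hWaff x x.2).isCompact
  have hgT : g.base '' T = V := by
    apply subset_antisymm
    · rintro _ ⟨y', hy', rfl⟩
      simp only [T, Set.mem_iUnion] at hy'
      obtain ⟨x, hx, hy'⟩ := hy'
      exact hWsub x x.2 hy'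
    · intro y hy
      have := ht hy
      simp only [Set.mem_iUnion] at this
      obtain ⟨x, hx, y', hy', rfl⟩ := this
      exact ⟨y', Set.mem_biUnion hx hy', rfl⟩
  have hcomp : IsCompact (f'.base ⁻¹' T) := QuasiCompact.isCompact_preimage (f := f') T hTo hTc
  have key := Scheme.image_preimage_eq_of_isPullback hsq.flip T
  rw [hgT] at key
  rw [← key]
  exact hcomp.image g'.continuous

end Groth.Agent.S9348
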