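import Groth.Statements.S9356
-- (no helper imports)

set_option autoImplicit false
universe u
open FibDim

namespace Groth.Agent.S9356

open AlgebraicGeometry CategoryTheory in
/-- Let f : X → S be locally of finite type and x ⤳ x' a nontrivial specialization of points of the
fibre X_s. Then dim_x(X_s) ≤ dim_{x'}(X_s) and dim O_{X_s,x} < dim O_{X_s,x'}. (The assertion on
transcendence degrees of residue fields is a separate statement.) -/
theorem result {X S : Scheme.{u}} (f : X ⟶ S) [LocallyOfFiniteType f] (s : S)
    (x x' : ↑(f.fiber s)) (hsp : x ⤳ x') (hne : x ≠ x') :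
    FlatMor.localDim ↑(f.fiber s) x ≤ FlatMor.localDim ↑(f.fiber s) x' ∧
      ringKrullDim ((f.fiber s).presheaf.stalk x) < ringKrullDim ((f.fiber s).presheaf.stalk x') := by
  refine ⟨?_, ?_⟩
  · unfold FlatMor.localDim
    refine le_iInf fun U => ?_
    exact iInf_le (fun V : {V : TopologicalSpace.Opens ↥(f.fiber s) // x ∈ V} =>
      topologicalKrullDim ↥(V.1 : Set ↥(f.fiber s))) ⟨U.1, hsp.mem_open U.1.isOpen U.2⟩
  · have hft : LocallyOfFiniteType (f.fiberToSpecResidueField s) :=
      inferInstanceAs (LocallyOfFiniteType (Limits.pullback.snd f (S.fromSpecResidueField s)))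
    have hN : IsLocallyNoetherian (f.fiber s) :=
      LocallyOfFiniteType.isLocallyNoetherian (f.fiberToSpecResidueField s)
    have hfin : FiniteRingKrullDim ((f.fiber s).presheaf.stalk x) := inferInstance
    have h0 := ringKrullDim_lt_top (R := (f.fiber s).presheaf.stalk x)
    rw [ringKrullDim_stalk_eq_coheight] at h0
    rw [ringKrullDim_stalk_eq_coheight, ringKrullDim_stalk_eq_coheight]
    have hle : x' ≤ x := hsp
    have hlt : x' < x := lt_of_le_not_ge hle (fun h => hne (Specializes.antisymm hsp h).eq)
    have h1 := Order.coheight_add_one_le hlt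
    have h2 : Order.coheight x ≠ ⊤ := by
      intro h
      rw [h] at h0
      exact lt_irrefl _ h0
    have h3 : Order.coheight x < Order.coheight x' :=
      lt_of_lt_of_le ((ENat.lt_add_one_iff h2).2 le_rfl) h1
    exact_mod_cast h3

end Groth.Agent.S9356
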