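import Groth.Statements.S9360
import Mathlib
import Groth.Agent.S4372
import Groth.Agent.S4370

set_option autoImplicit false
universe u
open SchDense

namespace Groth.Agent.S9360

open AlgebraicGeometry CategoryTheory in
theorem isReduced_of_nilradical_eq_bot (X : Scheme.{u}) (h : X.nilradical = ⊥) : IsReduced X := by
  have h1 : IsReduced X.nilradical.subscheme :=
    Groth.Agent.S4370.isReduced_nilradical_subscheme X
  rw [h] at h1
  exact isReduced_of_isOpenImmersion (inv (Scheme.IdealSheafData.subschemeι (⊥ : X.IdealSheafData)))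

open AlgebraicGeometry CategoryTheory in
theorem aux (X : Scheme.{u}) (U : X.Opens) [IsReduced (↑U : Scheme.{u})]
    (h : IsSchemeTheoreticallyDominant U.ι) : IsReduced X ∧ Dense (U : Set X) := by
  have hker : U.ι.ker = Scheme.IdealSheafData.vanishingIdeal (.closure (Set.range U.ι)) :=
    Groth.Agent.S4372.ker_eq_vanishingIdeal U.ι
  rw [U.ι.ker_eq_bot] at hker
  have hnil : X.nilradical = ⊥ := by
    apply le_bot_iff.mp
    rw [hker, ← Scheme.IdealSheafData.vanishingIdeal_top]
    exact Scheme.IdealSheafData.vanishingIdeal_antimono le_top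
  have hred : IsReduced X := isReduced_of_nilradical_eq_bot X hnil
  refine ⟨hred, ?_⟩
  have h2 : (Scheme.IdealSheafData.vanishingIdeal (.closure (Set.range U.ι))).support =
      (⊥ : X.IdealSheafData).support := by rw [← hker]
  rw [Groth.Agent.S4372.support_vanishingIdeal, Scheme.IdealSheafData.support_bot] at h2
  have h3 : closure (Set.range U.ι) = Set.univ := by
    have := congrArg (fun C : TopologicalSpace.Closeds X => (C : Set X)) h2
    simpa using this
  rw [dense_iff_closure_eq, ← h3]
  congr 1
  exact (Scheme.Opens.range_ι U).symm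

open AlgebraicGeometry CategoryTheory in
/-- Let U ⊆ X be a reduced open subscheme. Then the scheme-theoretic closure of U in X is X if and only
if U is scheme-theoretically dense in X (for every open W the scheme-theoretic closure of U ∩ W in W
is W); and in that case X is reduced. -/
theorem result (X : Scheme.{u}) (U : X.Opens) [IsReduced (↑U : Scheme.{u})] :
    (IsSchemeTheoreticallyDominant U.ι ↔
        ∀ W : X.Opens, IsSchemeTheoreticallyDominant (X.homOfLE (inf_le_right : U ⊓ W ≤ W))) ∧
      (IsSchemeTheoreticallyDominant U.ι → IsReduced X) := by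
  refine ⟨⟨?_, ?_⟩, fun h => (aux X U h).1⟩
  · intro h W
    obtain ⟨hred, hd⟩ := aux X U h
    have : IsReduced W.toScheme := isReduced_of_isOpenImmersion W.ι
    have : IsDominant (X.homOfLE (inf_le_right : U ⊓ W ≤ W)) := by
      constructor
      rw [DenseRange, dense_iff_inter_open]
      intro O hO ⟨w, hw⟩
      have hO' : IsOpen (W.ι '' O) := W.ι.isOpenEmbedding.isOpenMap O hO
      obtain ⟨y, hy1, hyU⟩ := hd.inter_open_nonempty (W.ι '' O) hO' ⟨_, w, hw, rfl⟩
      obtain ⟨w', hw', rfl⟩ := hy1
      have hmem : (W.ι w') ∈ (U ⊓ W : X.Opens) := ⟨hyU, w'.2⟩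
      refine ⟨w', hw', ⟨(W.ι w'), hmem⟩, ?_⟩
      apply W.ι.isOpenEmbedding.injective
      rw [← Scheme.Hom.comp_apply, Scheme.homOfLE_ι]
      rfl
    exact IsSchemeTheoreticallyDominant.of_isDominant _
  · intro h
    have h1 := h ⊤
    have e : U ⊓ (⊤ : X.Opens) = U := inf_top_eq U
    have hι : U.ι = (X.isoOfEq e).inv ≫ X.homOfLE (inf_le_right : U ⊓ ⊤ ≤ ⊤) ≫
        (⊤ : X.Opens).ι := by
      rw [Iso.eq_inv_comp]
      simp
    have h2 : IsIso (⊤ : X.Opens).ι := by
      change IsIso X.topIso.hom
      infer_instance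
    rw [hι]
    infer_instance

end Groth.Agent.S9360
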