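import Groth.Statements.S9385
import Mathlib
import Groth.Agent.S4372

set_option autoImplicit false
universe u
open SchDense

namespace Groth.Agent.S9385

open AlgebraicGeometry CategoryTheory in
theorem std_toImage {Z X : Scheme.{u}} (h : Z ⟶ X) [QuasiCompact h] :
    IsSchemeTheoreticallyDominant h.toImage := by
  rw [isSchemeTheoreticallyDominant_iff]
  refine Scheme.IdealSheafData.ext_of_iSup_eq_top (ι := X.affineOpens)
    (fun U ↦ ⟨h.imageι ⁻¹ᵁ U.1, U.2.preimage h.imageι⟩) ?_ ?_
  · have h1 : (⨆ U : X.affineOpens, (U : X.Opens)) = ⊤ := iSup_affineOpens_eq_top X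
    have h2 : h.imageι ⁻¹ᵁ (⨆ U : X.affineOpens, (U : X.Opens)) = ⊤ := by
      rw [h1]; rfl
    rw [← h2]
    ext x
    simp
  · intro U
    rw [Scheme.Hom.ker_apply]
    simp only [Scheme.IdealSheafData.ideal_bot, Pi.bot_apply]
    exact (RingHom.injective_iff_ker_eq_bot _).mp (h.toImage_app_injective U)

open AlgebraicGeometry CategoryTheory in
theorem isOpenImmersion_toImage_of_isReduced {Z X : Scheme.{u}} (h : Z ⟶ X) [IsImmersion h]
    [IsReduced Z] : IsOpenImmersion h.toImage ∧ IsReduced h.image ∧
      Set.range h.imageι = closure (Set.range h) := by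
  have hker : h.ker = Scheme.IdealSheafData.vanishingIdeal (.closure (Set.range h)) :=
    Groth.Agent.S4372.ker_eq_vanishingIdeal h
  have hred : IsReduced h.image := by
    change IsReduced h.ker.subscheme
    rw [hker]
    exact Groth.Agent.S4372.isReduced_vanishingIdeal_subscheme _
  have hrange : Set.range h.imageι = closure (Set.range h) := by
    change Set.range h.ker.subschemeι = _
    rw [Scheme.IdealSheafData.range_subschemeι, hker, Groth.Agent.S4372.support_vanishingIdeal]
    rfl
  refine ⟨?_, hred, hrange⟩
  have hpb : IsPullback h.liftCoborder h.toImage h.coborderRange.ι h.imageι := by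
    apply isPullback_of_isClosedImmersion
    · rw [h.liftCoborder_ι, h.toImage_imageι]
    · rw [← Scheme.IdealSheafData.ker_fst_of_isClosedImmersion]
      have hPred : IsReduced (Limits.pullback h.coborderRange.ι h.imageι) :=
        isReduced_of_isOpenImmersion (Limits.pullback.snd h.coborderRange.ι h.imageι)
      rw [Groth.Agent.S4372.ker_eq_vanishingIdeal, Groth.Agent.S4372.ker_eq_vanishingIdeal]
      congr 2
      rw [Scheme.Pullback.range_fst, hrange]
      ext u
      simp only [Set.mem_preimage, Set.mem_range]
      constructor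
      · intro hu
        have hu2 : (h.coborderRange.ι u) ∈ coborder (Set.range h) ∩ closure (Set.range h) :=
          ⟨u.2, hu⟩
        rw [coborder_inter_closure] at hu2
        obtain ⟨z, hz⟩ := hu2
        refine ⟨z, ?_⟩
        apply h.coborderRange.ι.isOpenEmbedding.injective
        rw [← Scheme.Hom.comp_apply, h.liftCoborder_ι]
        exact hz
      · rintro ⟨z, rfl⟩
        rw [← Scheme.Hom.comp_apply, h.liftCoborder_ι]
        exact subset_closure ⟨z, rfl⟩
  exact MorphismProperty.of_isPullback (P := @IsOpenImmersion) hpb inferInstance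

open AlgebraicGeometry CategoryTheory in
theorem denseRange_toImage_of_isReduced {Z X : Scheme.{u}} (h : Z ⟶ X) [IsImmersion h]
    [IsReduced Z] : DenseRange h.toImage.base := by
  obtain ⟨-, -, hrange⟩ := isOpenImmersion_toImage_of_isReduced h
  rw [denseRange_iff_closure_range, h.imageι.isEmbedding.closure_eq_preimage_closure_image,
      ← Set.univ_subset_iff, ← Set.image_subset_iff, Set.image_univ, hrange, ← Set.range_comp]
  apply closure_mono
  rintro _ ⟨z, rfl⟩
  refine ⟨z, ?_⟩
  simp only [Function.comp_apply]
  rw [← Scheme.Hom.comp_apply, h.toImage_imageι]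

open AlgebraicGeometry CategoryTheory in
/-- Let h : Z → X be an immersion, and suppose that either Z is reduced or h is quasi-compact. Write Z̄
⊆ X for the scheme-theoretic image of h. Then Z → Z̄ is an open immersion identifying Z with a
scheme-theoretically dense (in the for-every-open sense) and topologically dense open subscheme of
Z̄. -/
theorem result {Z X : Scheme.{u}} (h : Z ⟶ X) [IsImmersion h]
    (hyp : QuasiCompact h ∨ IsReduced Z) :
    ∃ hI : IsOpenImmersion h.toImage,
      (∀ W : h.image.Opens, IsSchemeTheoreticallyDominant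
          (h.image.homOfLE (inf_le_right : @Scheme.Hom.opensRange _ _ h.toImage hI ⊓ W ≤ W))) ∧
        DenseRange h.toImage.base := by
  rcases hyp with hqc | hred
  · have hI : IsOpenImmersion h.toImage := inferInstance
    refine ⟨hI, ?_, h.toImage.denseRange⟩
    intro W
    have hstd : IsSchemeTheoreticallyDominant h.toImage := std_toImage h
    have hι : h.toImage.opensRange.ι = h.toImage.isoOpensRange.inv ≫ h.toImage := by
      rw [Iso.eq_inv_comp]
      simp
    have h1 : IsSchemeTheoreticallyDominant h.toImage.opensRange.ι := by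
      rw [hι]; infer_instance
    have h2 : QuasiCompact h.toImage.opensRange.ι := by
      rw [hι]; infer_instance
    exact IsSchemeTheoreticallyDominant.of_isPullback
      (isPullback_opens_inf h.toImage.opensRange W)
  · obtain ⟨hI, hredI, hrange⟩ := isOpenImmersion_toImage_of_isReduced h
    have hd : DenseRange h.toImage.base := denseRange_toImage_of_isReduced h
    refine ⟨hI, ?_, hd⟩
    intro W
    have : IsReduced W.toScheme := isReduced_of_isOpenImmersion W.ι
    have : IsDominant (h.image.homOfLE
        (inf_le_right : @Scheme.Hom.opensRange _ _ h.toImage hI ⊓ W ≤ W)) := by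
      constructor
      rw [DenseRange, dense_iff_inter_open]
      intro O hO ⟨w, hw⟩
      -- O open in W, nonempty
      have hO' : IsOpen (W.ι '' O) := W.ι.isOpenEmbedding.isOpenMap O hO
      obtain ⟨y, hy1, z, hz⟩ := hd.inter_open_nonempty (W.ι '' O) hO' ⟨_, w, hw, rfl⟩
      obtain ⟨w', hw', rfl⟩ := hy1
      have hmem : (W.ι w') ∈ (@Scheme.Hom.opensRange _ _ h.toImage hI ⊓ W : h.image.Opens) :=
        ⟨⟨z, hz⟩, w'.2⟩
      refine ⟨w', hw', ⟨(W.ι w'), hmem⟩, ?_⟩
      apply W.ι.isOpenEmbedding.injective
      rw [← Scheme.Hom.comp_apply, Scheme.homOfLE_ι]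
      rfl
    exact IsSchemeTheoreticallyDominant.of_isDominant _

end Groth.Agent.S9385
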