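import Groth.Statements.S9389
import Mathlib.AlgebraicGeometry.ZariskisMainTheorem
import Mathlib.AlgebraicGeometry.Morphisms.UniversallyOpen

set_option autoImplicit false
universe u
open QFin

namespace Groth.Agent.S9389

open AlgebraicGeometry CategoryTheory Limits in
theorem qf_of_open {X S : Scheme.{u}} (f : X ⟶ S) [LocallyOfFiniteType f] (x : X) (s : S)
    (hx : f x = s) (y : f.fiber s) (hy : f.fiberι s y = x) (ho : IsOpen ({y} : Set (f.fiber s))) :
    f.QuasiFiniteAt x := by
  subst hx
  have : y = f.asFiber x := by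
    apply (f.fiberι (f x)).isEmbedding.injective
    rw [hy, f.fiberι_asFiber]
  subst this
  exact Scheme.Hom.quasiFiniteAt_iff_isOpen_singleton_asFiber.mpr ho

open AlgebraicGeometry CategoryTheory Limits in
theorem aux {X S X' S' : Scheme.{u}} (f : X ⟶ S) [LocallyOfFiniteType f] (g : S' ⟶ S)
    (g' : X' ⟶ X) (f' : X' ⟶ S') (hsq : IsPullback g' f' f g) :
    {x' : ↑X' | f'.QuasiFiniteAt x'} = g'.base ⁻¹' {x : ↑X | f.QuasiFiniteAt x} := by
  haveI : LocallyOfFiniteType f' := MorphismProperty.of_isPullback hsq ‹_›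
  ext x'
  simp only [Set.mem_ofPred_eq, Set.mem_preimage]
  constructor
  · intro hq
    have ho : IsOpen ({f'.asFiber x'} : Set (f'.fiber (f' x'))) :=
      Scheme.Hom.quasiFiniteAt_iff_isOpen_singleton_asFiber.mp hq
    let π : f'.fiber (f' x') ⟶ f.fiber (g (f' x')) :=
      pullback.map f' (S'.fromSpecResidueField (f' x')) f (S.fromSpecResidueField (g (f' x')))
      g' (Spec.map (g.residueFieldMap (f' x'))) g hsq.w.symm (by simp)
    have hpb : IsPullback π (f'.fiberToSpecResidueField (f' x')) (f.fiberToSpecResidueField (g (f' x')))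
        (Spec.map (g.residueFieldMap (f' x'))) :=
      isPullback_fiberToSpecResidueField_of_isPullback hsq (f' x')
    haveI : UniversallyOpen (Spec.map (g.residueFieldMap (f' x'))) := inferInstance
    haveI : UniversallyOpen π := MorphismProperty.of_isPullback hpb.flip ‹_›
    have ho' : IsOpen (π '' {f'.asFiber x'}) := π.isOpenMap _ ho
    have himg : (π '' {f'.asFiber x'} : Set _) = {π (f'.asFiber x')} := Set.image_singleton
    rw [himg] at ho'
    have hπ : π ≫ f.fiberι (g (f' x')) = f'.fiberι (f' x') ≫ g' := pullback.lift_fst _ _ _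
    refine qf_of_open f (g' x') (g (f' x')) ?_ (π (f'.asFiber x')) ?_ ho'
    · rw [← Scheme.Hom.comp_apply, hsq.w, Scheme.Hom.comp_apply]
    · have e1 : f.fiberι (g (f' x')) (π (f'.asFiber x')) =
          (π ≫ f.fiberι (g (f' x'))) (f'.asFiber x') := rfl
      have e2 : (f'.fiberι (f' x') ≫ g') (f'.asFiber x') =
          g' (f'.fiberι (f' x') (f'.asFiber x')) := rfl
      have e3 := congrArg (fun h : f'.fiber (f' x') ⟶ X => h (f'.asFiber x')) hπ
      exact e1.trans (e3.trans (e2.trans (congrArg g' (f'.fiberι_asFiber x'))))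
  · intro hq
    let U := f.quasiFiniteLocus
    have hxU : g' x' ∈ U := hq
    have hU : LocallyQuasiFinite (U.ι ≫ f) := by
      rw [← Scheme.Hom.quasiFiniteLocus_eq_top_iff, Scheme.Hom.quasiFiniteLocus_comp]
      rw [eq_top_iff]
      intro z _
      exact z.2
    have hpb : IsPullback (g' ∣_ U) ((g' ⁻¹ᵁ U).ι ≫ f') (U.ι ≫ f) g :=
      (isPullback_morphismRestrict g' U).paste_vert hsq
    haveI : LocallyQuasiFinite ((g' ⁻¹ᵁ U).ι ≫ f') := MorphismProperty.of_isPullback hpb hU
    have := ((g' ⁻¹ᵁ U).ι ≫ f').quasiFiniteAt ⟨x', hxU⟩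
    rwa [Scheme.Hom.quasiFiniteAt_comp_iff_of_isOpenImmersion] at this

open AlgebraicGeometry CategoryTheory in
/-- For f : X → S locally of finite type and a cartesian square with base change f' : X' → S', g' : X' →
X, the quasi-finite locus of f' is the inverse image under g' of the quasi-finite locus of f. -/
theorem result {X S X' S' : Scheme.{u}} (f : X ⟶ S) [LocallyOfFiniteType f] (g : S' ⟶ S)
    (g' : X' ⟶ X) (f' : X' ⟶ S') (hsq : IsPullback g' f' f g) :
    {x' : ↑X' | f'.QuasiFiniteAt x'} = g'.base ⁻¹' {x : ↑X | f.QuasiFiniteAt x} := by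
  exact aux f g g' f' hsq

end Groth.Agent.S9389
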