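import Groth.Statements.S9395
import Groth.Agent.Helper4.Japanese
import Mathlib

set_option autoImplicit false
universe u
open CAlg

namespace Groth.Agent.S9395


/-- For a Noetherian domain R, if the Laurent polynomial ring R[X, 1/X] (the localization of R[X] away
from X) is N-1, then R is N-1. -/
theorem result (R : Type u) [CommRing R] [IsDomain R] [IsNoetherianRing R]
    (S : Type u) [CommRing S] [IsDomain S] [Algebra (Polynomial R) S]
    [IsLocalization.Away (Polynomial.X : Polynomial R) S] (h : CAlg.IsN1 S) : CAlg.IsN1 R := by

  classical
  -- R-algebra structure on S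
  letI : Algebra R S := ((algebraMap (Polynomial R) S).comp Polynomial.C).toAlgebra
  haveI : IsScalarTower R (Polynomial R) S := IsScalarTower.of_algebraMap_eq (fun _ => rfl)
  have hinjPS : Function.Injective (algebraMap (Polynomial R) S) :=
    IsLocalization.injective S (M := Submonoid.powers (Polynomial.X : Polynomial R))
      (powers_le_nonZeroDivisors_of_noZeroDivisors Polynomial.X_ne_zero)
  have hinjRS : Function.Injective (algebraMap R S) :=
    hinjPS.comp Polynomial.C_injective
  -- evaluation X ↦ 1
  let ev : S →+* R := IsLocalization.Away.lift (Polynomial.X : Polynomial R)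
    (g := Polynomial.evalRingHom (1 : R)) (by simp)
  have hev : ∀ r : R, ev (algebraMap R S r) = r := by
    intro r
    change ev (algebraMap (Polynomial R) S (Polynomial.C r)) = r
    rw [IsLocalization.Away.lift_eq]
    simp
  -- fraction fields
  let K := FractionRing R
  let L := FractionRing S
  have hinjSL : Function.Injective (algebraMap S L) := IsFractionRing.injective S L
  have hinjRL : Function.Injective (algebraMap R L) := by
    rw [IsScalarTower.algebraMap_eq R S L]
    exact hinjSL.comp hinjRS
  letI : Algebra K L := (IsFractionRing.lift (A := R) (K := K) (g := algebraMap R L) hinjRL).toAlgebra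
  haveI : IsScalarTower R K L := IsScalarTower.of_algebraMap_eq
    (fun r => (IsFractionRing.lift_algebraMap hinjRL r).symm)
  have hinjKL : Function.Injective (algebraMap K L) := (algebraMap K L).injective
  -- Noetherianity
  haveI : IsNoetherianRing S :=
    IsLocalization.isNoetherianRing (Submonoid.powers (Polynomial.X : Polynomial R)) S inferInstance
  haveI hfin : Module.Finite S (integralClosure S L) := h
  haveI : IsNoetherian S (integralClosure S L) := isNoetherian_of_isNoetherianRing_of_finite S _
  -- the S-span of A inside L
  let A : Set K := (integralClosure R K : Set K)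
  let N : Submodule S L := Submodule.span S (algebraMap K L '' A)
  have hNle : N ≤ Subalgebra.toSubmodule (integralClosure S L) := by
    refine Submodule.span_le.mpr ?_
    rintro _ ⟨a, ha, rfl⟩
    have ha' : IsIntegral R a := ha
    have : IsIntegral R (algebraMap K L a) := ha'.map (IsScalarTower.toAlgHom R K L)
    exact this.tower_top
  have hNfg : N.FG := by
    have h1 : (Submodule.comap (Subalgebra.toSubmodule (integralClosure S L)).subtype N).FG :=
      IsNoetherian.noetherian _
    have h2 := h1.map (Subalgebra.toSubmodule (integralClosure S L)).subtype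
    rwa [Submodule.map_comap_eq, Submodule.range_subtype, inf_eq_right.mpr hNle] at h2
  obtain ⟨T, hTsub, hTspan⟩ := (Submodule.fg_span_iff_fg_span_finset_subset _).mp hNfg
  obtain ⟨T₀, hT₀sub, hT₀img⟩ := Finset.subset_set_image_iff.mp hTsub
  -- now show A = span R T₀
  rw [Groth.Agent.Helper4.Japanese.isN1_iff K]
  suffices hS : (Subalgebra.toSubmodule (integralClosure R K)).FG from
    (Module.Finite.iff_fg (N := Subalgebra.toSubmodule (integralClosure R K))).mpr hS
  refine ⟨T₀, le_antisymm (Submodule.span_le.mpr hT₀sub) ?_⟩
  intro a ha
  have haN : algebraMap K L a ∈ Submodule.span S (T : Set L) := by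
    rw [← hTspan]; exact Submodule.subset_span ⟨a, ha, rfl⟩
  obtain ⟨c, -, hc⟩ := Submodule.mem_span_finset.mp haN
  rw [← hT₀img, Finset.sum_image (fun x _ y _ hxy => hinjKL hxy)] at hc
  -- common denominator
  obtain ⟨b, hb⟩ := IsLocalization.exist_integer_multiples_of_finset (nonZeroDivisors R)
    (insert a T₀)
  choose! r hr using hb
  have hb0 : algebraMap R K (b : R) ≠ 0 :=
    IsFractionRing.to_map_ne_zero_of_mem_nonZeroDivisors b.2
  -- equation in S
  have hS : algebraMap R S (r a) =
      ∑ k ∈ T₀, c (algebraMap K L k) * algebraMap R S (r k) := by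
    apply hinjSL
    rw [map_sum]
    have e1 : ∀ k ∈ insert a T₀, algebraMap S L (algebraMap R S (r k)) =
        algebraMap R L (b : R) * algebraMap K L k := by
      intro k hk
      rw [← IsScalarTower.algebraMap_apply R S L, IsScalarTower.algebraMap_apply R K L, hr k hk,
        Algebra.smul_def, map_mul, ← IsScalarTower.algebraMap_apply R K L]
    rw [e1 a (Finset.mem_insert_self a T₀), ← hc, Finset.mul_sum]
    refine Finset.sum_congr rfl fun k hk => ?_
    rw [map_mul, e1 k (Finset.mem_insert_of_mem hk), Algebra.smul_def]
    ring
  have hR := congrArg ev hS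
  rw [hev, map_sum] at hR
  simp only [map_mul, hev] at hR
  -- back to K
  have hK : a = ∑ k ∈ T₀, ev (c (algebraMap K L k)) • k := by
    apply mul_left_cancel₀ hb0
    have e2 : ∀ k ∈ insert a T₀, algebraMap R K (b : R) * k = algebraMap R K (r k) := by
      intro k hk
      rw [hr k hk, Algebra.smul_def]
    rw [e2 a (Finset.mem_insert_self a T₀), hR, map_sum, Finset.mul_sum]
    refine Finset.sum_congr rfl fun k hk => ?_
    rw [map_mul, ← e2 k (Finset.mem_insert_of_mem hk), Algebra.smul_def]
    ring
  rw [hK]
  exact Submodule.sum_mem _ fun k hk => Submodule.smul_mem _ _ (Submodule.subset_span hk)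

end Groth.Agent.S9395
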