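import Groth.Statements.S9397
import Groth.Agent.Helper4.Japanese
import Mathlib

set_option autoImplicit false
universe u
open CAlg

namespace Groth.Agent.S9397


/-- A ring R is universally Japanese provided that each R-algebra of finite type which is a domain is
N-1. -/
theorem result (R : Type u) [CommRing R]
    (h : ∀ (S : Type u) [CommRing S] [IsDomain S] [Algebra R S], Algebra.FiniteType R S → CAlg.IsN1 S) :
    CAlg.IsUniversallyJapanese R := by

  intro S _ _ _ hft L _ _ _ _ hfin
  classical
  obtain ⟨s, b, hb⟩ := FiniteDimensional.exists_is_basis_integral S (FractionRing S) L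
  let S' : Subalgebra S L := Algebra.adjoin S (Set.range b)
  have hfg : (Subalgebra.toSubmodule S').FG :=
    fg_adjoin_of_finite (Set.finite_range b) (by rintro _ ⟨i, rfl⟩; exact hb i)
  haveI hfinS' : Module.Finite S S' :=
    (Module.Finite.iff_fg (N := Subalgebra.toSubmodule S')).mpr hfg
  letI : Algebra R S' := ((algebraMap S S').comp (algebraMap R S)).toAlgebra
  haveI : IsScalarTower R S S' := IsScalarTower.of_algebraMap_eq (fun _ => rfl)
  haveI := hft
  have hftS' : Algebra.FiniteType R S' := Algebra.FiniteType.trans hft inferInstance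
  have hN1 : CAlg.IsN1 S' := h S' hftS'
  haveI : IsFractionRing S' L := by
    refine IsFractionRing.of_field (R := S') (K := L) (fun z => ?_)
    have hz : z ∈ Submodule.span (FractionRing S) (Set.range b) := by
      rw [b.span_eq]; trivial
    obtain ⟨y, hy, t, rfl⟩ := (IsLocalization.mem_span_iff (nonZeroDivisors S)).mp hz
    have hyS' : y ∈ S' := Algebra.span_le_adjoin S _ hy
    refine ⟨⟨y, hyS'⟩, algebraMap S S' t, ?_⟩
    have ht0 : algebraMap S L t ≠ 0 := by
      rw [IsScalarTower.algebraMap_apply S (FractionRing S) L]
      intro h0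
      have := (map_eq_zero (algebraMap (FractionRing S) L)).mp h0
      exact nonZeroDivisors.ne_zero t.2 (IsFractionRing.to_map_eq_zero_iff.mp this)
    have h1 : algebraMap S' L (algebraMap S S' t) = algebraMap S L t := rfl
    have h2 : algebraMap S' L ⟨y, hyS'⟩ = y := rfl
    rw [h1, h2, eq_div_iff ht0, Algebra.smul_def, mul_comm, ← mul_assoc,
      IsScalarTower.algebraMap_apply S (FractionRing S) L, ← map_mul,
      IsLocalization.mk'_spec', map_one, map_one, one_mul]
  have hfinB' : Module.Finite S' (integralClosure S' L) :=
    (Groth.Agent.Helper4.Japanese.isN1_iff L).mp hN1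
  haveI : Module.Finite S (integralClosure S' L) := Module.Finite.trans S' _
  haveI : Algebra.IsIntegral S S' := Algebra.IsIntegral.of_finite S S'
  have hset : ∀ x : L, IsIntegral S' x → IsIntegral S x := fun x hx => isIntegral_trans x hx
  let e : (integralClosure S' L) →ₗ[S] (integralClosure S L) :=
    { toFun := fun x => ⟨x.1, hset _ x.2⟩
      map_add' := fun x y => rfl
      map_smul' := fun c x => rfl }
  refine Module.Finite.of_surjective e ?_
  rintro ⟨x, hx⟩
  exact ⟨⟨x, (hx : IsIntegral S x).tower_top⟩, rfl⟩

end Groth.Agent.S9397
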