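import Groth.Statements.S9402
import Mathlib

set_option autoImplicit false
universe u
open CAlg

namespace Groth.Agent.S9402

theorem nsmul_eq_zero_of_ratAlgebra {S : Type*} [CommRing S] [Algebra ℚ S] (n : ℕ) (x : S)
    (h : (n + 1) • x = 0) : x = 0 := by
  have h1 : ((n + 1 : ℕ) : ℚ) • x = 0 := by
    rw [Nat.cast_smul_eq_nsmul ℚ]; exact h
  have h2 : ((n + 1 : ℕ) : ℚ) ≠ 0 := by positivity
  calc x = (((n + 1 : ℕ) : ℚ)⁻¹ * ((n + 1 : ℕ) : ℚ)) • x := by rw [inv_mul_cancel₀ h2, one_smul]
    _ = 0 := by rw [mul_smul, h1, smul_zero]

/-- Let R → S be a ring map with S a nonzero algebra over the rationals and f ∈ S such that some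
S-linear form on the module of differentials of S over R sends df to 1 (that is, df spans a free
direct summand of rank one). Then f is not nilpotent. (The published statement asks only that S·df
be a direct summand of the module of differentials, which also holds for the rationals with a
square-zero element adjoined and for the zero ring, where f is nilpotent; this row asks for an
S-linear form on the differentials sending df to 1, as the published proof uses, and S nonzero.) -/
theorem result (R : Type u) [CommRing R] (S : Type u)
    [CommRing S] [Nontrivial S] [Algebra R S] [Algebra ℚ S] (f : S)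
    (θ : Ω[S⁄R] →ₗ[S] S) (hθ : θ (KaehlerDifferential.D R S f) = 1) : ¬ IsNilpotent f := by
  intro hnil
  have key : ∀ n : ℕ, f ^ (n + 1) = 0 → f ^ n = 0 := by
    intro n hn
    have h1 : θ (KaehlerDifferential.D R S (f ^ (n + 1))) = 0 := by rw [hn]; simp
    rw [Derivation.leibniz_pow, map_nsmul, map_smul, hθ, Nat.add_sub_cancel, smul_eq_mul,
      mul_one] at h1
    exact nsmul_eq_zero_of_ratAlgebra n _ h1
  obtain ⟨n, hn⟩ := hnil
  induction n with
  | zero => simp at hn
  | succ n ih => exact ih (key n hn)

end Groth.Agent.S9402
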