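import Groth.Statements.S9403
import Groth.Agent.S9402

set_option autoImplicit false
universe u
open CAlg

namespace Groth.Agent.S9403

/-- Let R → S be a ring map with S a Noetherian local ring which is an algebra over the rationals, and f
∈ S such that some S-linear form on the module of differentials of S over R sends df to 1 (df spans
a free direct summand of rank one). Then f is a nonzerodivisor of S. (The published statement asks
only that S·df be a direct summand of the module of differentials, which also holds for the
rationals with a square-zero element adjoined, where f is a zero divisor; this row asks for an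
S-linear form on the differentials sending df to 1, as the published proof uses.) -/
theorem result (R : Type u) [CommRing R]
    (S : Type u) [CommRing S] [IsLocalRing S] [IsNoetherianRing S] [Algebra R S] [Algebra ℚ S]
    (f : S) (θ : Ω[S⁄R] →ₗ[S] S) (hθ : θ (KaehlerDifferential.D R S f) = 1) : f ∈ nonZeroDivisors S := by
  by_cases hfu : IsUnit f
  · exact hfu.mem_nonZeroDivisors
  -- the derivation `D = θ ∘ d`
  set D : S → S := fun x => θ (KaehlerDifferential.D R S x) with hD
  have hDmul : ∀ a b : S, D (a * b) = a * D b + b * D a := by
    intro a b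
    simp only [hD, Derivation.leibniz, map_add, map_smul, smul_eq_mul]
  have hDpow : ∀ n : ℕ, D (f ^ (n + 1)) = (n + 1) • f ^ n := by
    intro n
    simp only [hD]
    rw [Derivation.leibniz_pow, map_nsmul, map_smul, hθ, Nat.add_sub_cancel, smul_eq_mul,
      mul_one]
  have hD0 : D 0 = 0 := by simp [hD]
  -- the ideals `J k = Ann(f^k)` and their union
  let J : ℕ → Ideal S := fun k => LinearMap.ker (LinearMap.mulLeft S (f ^ k))
  have hJmem : ∀ k g, g ∈ J k ↔ f ^ k * g = 0 := fun k g => Iff.rfl
  let Jinf : Ideal S := ⨆ k, J k
  have hJle : ∀ k, J k ≤ Jinf := fun k => le_iSup J k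
  have key : ∀ k g, f ^ k * g = 0 → g ∈ Ideal.span {f} * Jinf := by
    intro k
    induction k with
    | zero =>
      intro g hg
      have : g = 0 := by simpa using hg
      rw [this]; exact zero_mem _
    | succ k ih =>
      intro g hg
      -- apply D
      have h1 : D (f ^ (k + 1) * g) = 0 := by rw [hg, hD0]
      rw [hDmul, hDpow] at h1
      set h : S := (k + 1) • g + f * D g with hh
      have hh0 : f ^ k * h = 0 := by
        rw [hh]
        have : f ^ k * ((k + 1) • g + f * D g) = f ^ (k + 1) * D g + g * (k + 1) • f ^ k := by
          rw [pow_succ]; simp only [nsmul_eq_mul]; ring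
        rw [this, h1]
      have hhmem := ih h hh0
      have hDg : D g ∈ Jinf := by
        apply hJle (k + 2)
        rw [hJmem]
        have : f ^ (k + 2) * D g = f * (f ^ k * h) - (k + 1) • (f ^ (k + 1) * g) := by
          rw [hh]; simp only [nsmul_eq_mul]; ring
        rw [this, hh0, hg]; simp
      have hfDg : f * D g ∈ Ideal.span {f} * Jinf :=
        Ideal.mul_mem_mul (Ideal.mem_span_singleton_self f) hDg
      have h2 : (k + 1) • g ∈ Ideal.span {f} * Jinf := by
        have : (k + 1) • g = h - f * D g := by rw [hh]; ring
        rw [this]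
        exact Ideal.sub_mem _ hhmem hfDg
      -- divide by k+1
      have h3 : ((k + 1 : ℕ) : ℚ) ≠ 0 := by positivity
      have h4 : g = algebraMap ℚ S (((k + 1 : ℕ) : ℚ)⁻¹) * ((k + 1) • g) := by
        rw [← Nat.cast_smul_eq_nsmul ℚ, ← Algebra.smul_def, smul_smul, inv_mul_cancel₀ h3,
          one_smul]
      rw [h4]
      exact Ideal.mul_mem_left _ _ h2
  have hle : Jinf ≤ Ideal.span {f} • Jinf := by
    apply iSup_le
    intro k g hg
    exact key k g ((hJmem k g).mp hg)
  have hjac : Ideal.span {f} ≤ Ideal.jacobson ⊥ := by
    rw [Ideal.span_singleton_le_iff_mem, IsLocalRing.jacobson_eq_maximalIdeal ⊥ bot_ne_top]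
    exact (IsLocalRing.mem_maximalIdeal f).mpr hfu
  have hbot : Jinf = ⊥ :=
    Submodule.eq_bot_of_le_smul_of_le_jacobson_bot (Ideal.span {f}) Jinf
      (IsNoetherian.noetherian Jinf) hle hjac
  rw [mem_nonZeroDivisors_iff_right]
  intro g hg
  have : g ∈ Jinf := by
    apply hJle 1
    rw [hJmem, pow_one, mul_comm]; exact hg
  rw [hbot] at this
  simpa using this

end Groth.Agent.S9403
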