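import Groth.Statements.S9412
import Mathlib

set_option autoImplicit false
universe u
open EGA4

namespace Groth.Agent.S9412


/-- A localization of a geometrically normal algebra over a field k is geometrically normal over k. -/
theorem result (k : Type u) [Field k] (A : Type u) [CommRing A]
    [Algebra k A] (M : Submonoid A) (B : Type u) [CommRing B] [Algebra A B] [IsLocalization M B]
    [Algebra k B] [IsScalarTower k A B] (h : EGA4.IsGeomNormal k A) :
    EGA4.IsGeomNormal k B := by

  classical
  -- localization of a normal ring is normal
  have hnorm : ∀ (R R' : Type u) [CommRing R] [CommRing R'] [Algebra R R'] (N : Submonoid R)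
      [IsLocalization N R'], EGA4.IsNormalRing R → EGA4.IsNormalRing R' := by
    intro R R' _ _ _ N _ hR q hq
    haveI : (q.comap (algebraMap R R')).IsPrime := Ideal.IsPrime.comap _
    haveI : IsLocalization.AtPrime (Localization.AtPrime q) (q.comap (algebraMap R R')) :=
      IsLocalization.isLocalization_isLocalization_atPrime_isLocalization N
        (Localization.AtPrime q) q
    let e : Localization.AtPrime (q.comap (algebraMap R R')) ≃ₐ[R] Localization.AtPrime q :=
      IsLocalization.algEquiv (q.comap (algebraMap R R')).primeCompl _ _
    obtain ⟨h1, h2⟩ := hR (q.comap (algebraMap R R'))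
    exact ⟨MulEquiv.isDomain (Localization.AtPrime (q.comap (algebraMap R R')))
      e.symm.toMulEquiv, IsIntegrallyClosed.of_equiv e.toRingEquiv⟩
  intro k' _ _ hfin
  letI : Algebra (TensorProduct k k' A) (TensorProduct k k' B) :=
    (Algebra.TensorProduct.map (AlgHom.id k' k') (IsScalarTower.toAlgHom k A B)).toRingHom.toAlgebra
  haveI : IsScalarTower k' (TensorProduct k k' A) (TensorProduct k k' B) :=
    IsScalarTower.of_algebraMap_eq (fun c => by
      change _ = Algebra.TensorProduct.map (AlgHom.id k' k') (IsScalarTower.toAlgHom k A B)
        (algebraMap k' (TensorProduct k k' A) c)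
      rw [Algebra.TensorProduct.algebraMap_apply, Algebra.TensorProduct.algebraMap_apply,
        Algebra.TensorProduct.map_tmul]
      simp)
  haveI := IsLocalization.tensorProduct_tensorProduct_right k k' M B (by
    ext a
    change Algebra.TensorProduct.map (AlgHom.id k' k') (IsScalarTower.toAlgHom k A B)
      ((1 : k') ⊗ₜ[k] a) = (1 : k') ⊗ₜ[k] (algebraMap A B a)
    rw [Algebra.TensorProduct.map_tmul]
    simp)
  exact hnorm (TensorProduct k k' A) (TensorProduct k k' B)
    (M.map (Algebra.TensorProduct.includeRight (R := k) (A := k'))) (h k' hfin)

end Groth.Agent.S9412
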