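import Groth.Statements.S9414
import Mathlib

set_option autoImplicit false
universe u
open CAlg

namespace Groth.Agent.S9414


open TensorProduct in
/-- For an algebraically closed field k, a finite type k-algebra S and a maximal ideal m of S with
residue field κ = S/m, the κ-vector spaces κ ⊗_S Ω_{S/k} and m/m² have the same dimension. -/
theorem result (k : Type u) [Field k]
    [IsAlgClosed k] (S : Type u) [CommRing S] [Algebra k S] [Algebra.FiniteType k S]
    (m : Ideal S) [m.IsMaximal] :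
    Module.finrank (S ⧸ m) ((S ⧸ m) ⊗[S] Ω[S⁄k]) = Module.finrank (S ⧸ m) m.Cotangent := by

  classical
  letI : Field (S ⧸ m) := Ideal.Quotient.field m
  have hsurj : Function.Surjective (algebraMap S (S ⧸ m)) := Ideal.Quotient.mk_surjective
  haveI : Algebra.FiniteType k (S ⧸ m) :=
    Algebra.FiniteType.of_surjective (Ideal.Quotient.mkₐ k m) (Ideal.Quotient.mkₐ_surjective k m)
  haveI : Module.Finite k (S ⧸ m) := finite_of_finite_type_of_isJacobsonRing k (S ⧸ m)
  haveI : Algebra.IsIntegral k (S ⧸ m) := Algebra.IsIntegral.of_finite k (S ⧸ m)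
  have hbij : Function.Bijective (algebraMap k (S ⧸ m)) :=
    IsAlgClosed.algebraMap_bijective_of_isIntegral
  -- section
  let e0 : k ≃ₐ[k] (S ⧸ m) := AlgEquiv.ofBijective (Algebra.ofId k (S ⧸ m)) hbij
  let g : (S ⧸ m) →ₐ[k] (S ⧸ (RingHom.ker (algebraMap S (S ⧸ m)) ^ 2)) :=
    (Algebra.ofId k _).comp e0.symm.toAlgHom
  have hg : (IsScalarTower.toAlgHom k S (S ⧸ m)).kerSquareLift.comp g = AlgHom.id k (S ⧸ m) := by
    ext x
    obtain ⟨c, rfl⟩ := hbij.2 x
    simp
  obtain ⟨l, hl⟩ := (retractionKerCotangentToTensorEquivSection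
    (R := k) (P := S) (S := S ⧸ m) hsurj).symm ⟨g, hg⟩
  have hinj : Function.Injective (KaehlerDifferential.kerCotangentToTensor k S (S ⧸ m)) := by
    intro x y hxy
    have := congrArg l hxy
    rwa [← LinearMap.comp_apply, ← LinearMap.comp_apply, hl] at this
  have hsub : Subsingleton (Ω[(S ⧸ m)⁄k]) :=
    KaehlerDifferential.subsingleton_of_surjective k (S ⧸ m) hbij.2
  have hsur : Function.Surjective (KaehlerDifferential.kerCotangentToTensor k S (S ⧸ m)) := by
    intro y
    exact ((KaehlerDifferential.exact_kerCotangentToTensor_mapBaseChange k S (S ⧸ m) hsurj) y).mp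
      (Subsingleton.elim _ _)
  let e1 : (RingHom.ker (algebraMap S (S ⧸ m))).Cotangent ≃ₗ[S] (S ⧸ m) ⊗[S] Ω[S⁄k] :=
    LinearEquiv.ofBijective _ ⟨hinj, hsur⟩
  have hker : RingHom.ker (algebraMap S (S ⧸ m)) = m := Ideal.mk_ker
  let e2 : m.Cotangent ≃ₗ[S] (S ⧸ m) ⊗[S] Ω[S⁄k] :=
    (Ideal.Cotangent.equivOfEq _ _ hker.symm).trans e1
  exact (LinearEquiv.finrank_eq (e2.extendScalarsOfSurjective hsurj)).symm

end Groth.Agent.S9414
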