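import Groth.Statements.S9415
import Groth.Agent.Helper1.FieldSmooth7
import Mathlib

set_option autoImplicit false
universe u
open CAlg

namespace Groth.Agent.S9415


/-- Let R be a Noetherian local algebra over a field k whose residue field κ is a finitely generated,
separable (that is, geometrically reduced) field extension of k. Then the map from m/m² (m the
maximal ideal, realised as the kernel of R → κ) to κ ⊗_R Ω_{R/k} sending the class of x to 1 ⊗ dx is
injective. -/
theorem result (k : Type u) [Field k] (R : Type u)
    [CommRing R] [IsLocalRing R] [IsNoetherianRing R] [Algebra k R]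
    [Algebra.EssFiniteType k (IsLocalRing.ResidueField R)]
    [Algebra.IsGeometricallyReduced k (IsLocalRing.ResidueField R)] :
    Function.Injective
      (KaehlerDifferential.kerCotangentToTensor k R (IsLocalRing.ResidueField R)) := by

  classical
  haveI : Algebra.FormallySmooth k (IsLocalRing.ResidueField R) :=
    Groth.Agent.Helper1.FieldSmooth.formallySmooth_iff_isGeometricallyReduced.mpr inferInstance
  have hsurj : Function.Surjective (algebraMap R (IsLocalRing.ResidueField R)) :=
    IsLocalRing.residue_surjective
  let F := (IsScalarTower.toAlgHom k R (IsLocalRing.ResidueField R)).kerSquareLift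
  have hF : Function.Surjective F := by
    intro x
    obtain ⟨r, rfl⟩ := hsurj x
    exact ⟨Ideal.Quotient.mk _ r, rfl⟩
  have hnil : IsNilpotent (RingHom.ker F) := by
    refine ⟨2, ?_⟩
    have h1 : RingHom.ker F = RingHom.ker F.toRingHom := rfl
    rw [h1, AlgHom.ker_kerSquareLift, Ideal.cotangentIdeal_square]
    rfl
  let g := Algebra.FormallySmooth.liftOfSurjective (AlgHom.id k (IsLocalRing.ResidueField R)) F hF hnil
  have hg : F.comp g = AlgHom.id k _ := Algebra.FormallySmooth.comp_liftOfSurjective _ _ hF hnil
  obtain ⟨l, hl⟩ := (retractionKerCotangentToTensorEquivSection (R := k) hsurj).symm ⟨g, hg⟩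
  intro x y hxy
  have := congrArg l hxy
  rw [← LinearMap.comp_apply, ← LinearMap.comp_apply, hl] at this
  exact this

end Groth.Agent.S9415
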