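import Groth.Statements.S9425
import Groth.Agent.S9424

set_option autoImplicit false
universe u
open CAlg

namespace Groth.Agent.S9425

/-- A directed colimit of formally étale R-algebras is formally étale over R. The colimit is encoded by
compatible R-algebra maps S_i → S which are jointly surjective and whose kernels die further along
the system. -/
theorem result {ι : Type u} [Preorder ι] [IsDirected ι (· ≤ ·)] [Nonempty ι]
    (R : Type u) [CommRing R] (G : ι → Type u) [∀ i, CommRing (G i)] [∀ i, Algebra R (G i)]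
    (f : ∀ i j, i ≤ j → (G i →ₐ[R] G j)) (S : Type u) [CommRing S] [Algebra R S]
    (g : ∀ i, G i →ₐ[R] S) (hg : ∀ i j (h : i ≤ j), (g j).comp (f i j h) = g i)
    (hsurj : ∀ s : S, ∃ i, ∃ x : G i, g i x = s)
    (hker : ∀ i (x : G i), g i x = 0 → ∃ j, ∃ h : i ≤ j, f i j h x = 0)
    (h : ∀ i, Algebra.FormallyEtale R (G i)) : Algebra.FormallyEtale R S := by
  have hunr : Algebra.FormallyUnramified R S :=
    Groth.Agent.S9424.result R G f S g hg hsurj hker (fun i => inferInstance)
  have hsm : Algebra.FormallySmooth R S := by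
    apply Algebra.FormallySmooth.of_comp_surjective
    intro B _ _ I hI φ
    -- lifts at each level
    have hlift : ∀ i, ∃ ψ : G i →ₐ[R] B, (Ideal.Quotient.mkₐ R I).comp ψ = φ.comp (g i) :=
      fun i => Algebra.FormallySmooth.comp_surjective R (G i) I hI (φ.comp (g i))
    choose ψ hψ using hlift
    have hg' : ∀ i j (hij : i ≤ j) (x : G i), g j (f i j hij x) = g i x := fun i j hij x =>
      DFunLike.congr_fun (hg i j hij) x
    have hcompat : ∀ i j (hij : i ≤ j), (ψ j).comp (f i j hij) = ψ i := by
      intro i j hij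
      apply Algebra.FormallyUnramified.comp_injective I hI
      rw [← AlgHom.comp_assoc, hψ j, AlgHom.comp_assoc, hg i j hij, hψ i]
    have hcompat' : ∀ i j (hij : i ≤ j) (x : G i), ψ j (f i j hij x) = ψ i x := fun i j hij x =>
      DFunLike.congr_fun (hcompat i j hij) x
    have hkerψ : ∀ k (z : G k), g k z = 0 → ψ k z = 0 := by
      intro k z hz
      obtain ⟨l, hkl, hl⟩ := hker k z hz
      rw [← hcompat' k l hkl, hl, map_zero]
    have hwd : ∀ i (x : G i) j (y : G j), g i x = g j y → ψ i x = ψ j y := by
      intro i x j y hxy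
      obtain ⟨k, hik, hjk⟩ := exists_ge_ge i j
      have hz : g k (f i k hik x - f j k hjk y) = 0 := by
        rw [map_sub, hg', hg', hxy, sub_self]
      have := hkerψ k _ hz
      rw [map_sub, sub_eq_zero, hcompat', hcompat'] at this
      exact this
    choose ix rx hrx using hsurj
    let Ψ : S → B := fun s => ψ (ix s) (rx s)
    have hΨ : ∀ i (x : G i), Ψ (g i x) = ψ i x := fun i x =>
      hwd _ _ _ _ (hrx (g i x))
    have hrep2 : ∀ s t : S, ∃ k, ∃ x y : G k, g k x = s ∧ g k y = t := by
      intro s t
      obtain ⟨k, hik, hjk⟩ := exists_ge_ge (ix s) (ix t)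
      exact ⟨k, f _ k hik (rx s), f _ k hjk (rx t), by rw [hg', hrx], by rw [hg', hrx]⟩
    let i₀ : ι := Classical.arbitrary ι
    let Ψalg : S →ₐ[R] B :=
      { toFun := Ψ
        map_one' := by rw [← map_one (g i₀), hΨ, map_one]
        map_mul' := by
          intro s t
          obtain ⟨k, x, y, rfl, rfl⟩ := hrep2 s t
          rw [← map_mul, hΨ, hΨ, hΨ, map_mul]
        map_zero' := by rw [← map_zero (g i₀), hΨ, map_zero]
        map_add' := by
          intro s t
          obtain ⟨k, x, y, rfl, rfl⟩ := hrep2 s t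
          rw [← map_add, hΨ, hΨ, hΨ, map_add]
        commutes' := by
          intro r
          rw [← (g i₀).commutes r, hΨ, (ψ i₀).commutes] }
    refine ⟨Ψalg, ?_⟩
    ext s
    obtain ⟨i, x, rfl⟩ : ∃ i, ∃ x : G i, g i x = s := ⟨ix s, rx s, hrx s⟩
    have h1 : Ψalg (g i x) = ψ i x := hΨ i x
    rw [AlgHom.comp_apply, h1]
    exact DFunLike.congr_fun (hψ i) x
  exact Algebra.FormallyEtale.of_formallyUnramified_and_formallySmooth

end Groth.Agent.S9425
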