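import Groth.Statements.S9428
import Mathlib

set_option autoImplicit false
universe u
open CAlg

namespace Groth.Agent.S9428

/-- If R → S is formally étale and J ⊆ S is an ideal with R → S/J surjective, I ⊆ R its kernel (the
preimage of J), then R/I^n → S/J^n is bijective for all n. (The published statement adds that the
associated graded rings are then isomorphic, which follows from these bijections.) -/
theorem result (R : Type u) [CommRing R] (S : Type u)
    [CommRing S] [Algebra R S] [Algebra.FormallyEtale R S] (J : Ideal S)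
    (hJ : Function.Surjective (algebraMap R (S ⧸ J))) (n : ℕ) :
    Function.Bijective (Ideal.quotientMap (J ^ n) (algebraMap R S)
      (le_of_le_of_eq (Ideal.le_comap_pow (algebraMap R S) n) rfl :
        (J.comap (algebraMap R S)) ^ n ≤ (J ^ n).comap (algebraMap R S))) := by
  set I : Ideal R := J.comap (algebraMap R S) with hI
  set φ := Ideal.quotientMap (J ^ n) (algebraMap R S)
      (le_of_le_of_eq (Ideal.le_comap_pow (algebraMap R S) n) rfl :
        I ^ n ≤ (J ^ n).comap (algebraMap R S)) with hφ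
  have hφmk : ∀ r : R, φ (Ideal.Quotient.mk _ r) = Ideal.Quotient.mk _ (algebraMap R S r) :=
    fun r => Ideal.quotientMap_mk
  rcases Nat.eq_zero_or_pos n with rfl | hn
  · have h1 : Subsingleton (R ⧸ I ^ 0) := by
      rw [Ideal.Quotient.subsingleton_iff, pow_zero, Ideal.one_eq_top]
    have h2 : Subsingleton (S ⧸ J ^ 0) := by
      rw [Ideal.Quotient.subsingleton_iff, pow_zero, Ideal.one_eq_top]
    exact ⟨fun a b _ => Subsingleton.elim a b, fun y => ⟨0, Subsingleton.elim _ _⟩⟩
  -- the map `g : R/I^n → S/J`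
  have hIn : ∀ a ∈ I ^ n, (Algebra.ofId R (S ⧸ J)) a = 0 := by
    intro a ha
    have : a ∈ I := Ideal.pow_le_self hn.ne' ha
    change algebraMap R (S ⧸ J) a = 0
    rw [IsScalarTower.algebraMap_apply R S (S ⧸ J), Ideal.Quotient.algebraMap_eq,
      Ideal.Quotient.eq_zero_iff_mem]
    exact this
  let g : (R ⧸ I ^ n) →ₐ[R] (S ⧸ J) := Ideal.Quotient.liftₐ (I ^ n) (Algebra.ofId R (S ⧸ J)) hIn
  have hgmk : ∀ r : R, g (Ideal.Quotient.mk _ r) = algebraMap R (S ⧸ J) r := fun r => rfl
  have hg : Function.Surjective g := by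
    intro y
    obtain ⟨r, rfl⟩ := hJ y
    exact ⟨Ideal.Quotient.mk _ r, rfl⟩
  have hker : RingHom.ker (g : (R ⧸ I ^ n) →+* (S ⧸ J)) = I.map (Ideal.Quotient.mk (I ^ n)) := by
    ext x
    obtain ⟨r, rfl⟩ := Ideal.Quotient.mk_surjective x
    rw [RingHom.mem_ker]
    change algebraMap R (S ⧸ J) r = 0 ↔ _
    rw [IsScalarTower.algebraMap_apply R S (S ⧸ J), Ideal.Quotient.algebraMap_eq,
      Ideal.Quotient.eq_zero_iff_mem]
    constructor
    · intro h
      exact Ideal.mem_map_of_mem _ h
    · intro h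
      rw [Ideal.mem_map_iff_of_surjective _ Ideal.Quotient.mk_surjective] at h
      obtain ⟨r', hr', hrr'⟩ := h
      rw [Ideal.Quotient.eq] at hrr'
      have h1 : r' - r ∈ I := Ideal.pow_le_self hn.ne' hrr'
      have h2 : r = r' - (r' - r) := by ring
      change r ∈ I
      rw [h2]
      exact sub_mem hr' h1
  have hkerpow : RingHom.ker (g : (R ⧸ I ^ n) →+* (S ⧸ J)) ^ n = ⊥ := by
    rw [hker, ← Ideal.map_pow, Ideal.map_quotient_self]
  have hg' : IsNilpotent (RingHom.ker (g : (R ⧸ I ^ n) →+* (S ⧸ J))) := ⟨n, hkerpow⟩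
  let f : S →ₐ[R] (S ⧸ J) := Ideal.Quotient.mkₐ R J
  let σ : S →ₐ[R] (R ⧸ I ^ n) := Algebra.FormallySmooth.liftOfSurjective f g hg hg'
  have hσ : ∀ x, g (σ x) = f x := Algebra.FormallySmooth.liftOfSurjective_apply f g hg hg'
  have hσJ : ∀ x ∈ J ^ n, σ x = 0 := by
    intro x hx
    have h1 : J ≤ (RingHom.ker (g : (R ⧸ I ^ n) →+* (S ⧸ J))).comap (σ : S →+* (R ⧸ I ^ n)) := by
      intro y hy
      rw [Ideal.mem_comap, RingHom.mem_ker]
      change g (σ y) = 0
      rw [hσ y]
      exact Ideal.Quotient.eq_zero_iff_mem.mpr hy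
    have h2 : J ^ n ≤ (RingHom.ker (g : (R ⧸ I ^ n) →+* (S ⧸ J)) ^ n).comap
        (σ : S →+* (R ⧸ I ^ n)) :=
      (Ideal.pow_right_mono h1 n).trans (Ideal.le_comap_pow _ n)
    have h3 := h2 hx
    rw [hkerpow, Ideal.mem_comap, Ideal.mem_bot] at h3
    exact h3
  let σ' : (S ⧸ J ^ n) →ₐ[R] (R ⧸ I ^ n) := Ideal.Quotient.liftₐ (J ^ n) σ hσJ
  have hσ'mk : ∀ x : S, σ' (Ideal.Quotient.mk _ x) = σ x := fun x => rfl
  constructor
  · -- left inverse
    have : Function.LeftInverse σ' φ := by
      intro b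
      obtain ⟨r, rfl⟩ := Ideal.Quotient.mk_surjective b
      rw [hφmk, hσ'mk, AlgHom.commutes]
      rfl
    exact this.injective
  · -- right inverse, by uniqueness of lifts
    let φ' : (R ⧸ I ^ n) →ₐ[R] (S ⧸ J ^ n) :=
      { φ with
        commutes' := fun r => by
          change φ (Ideal.Quotient.mk _ r) = _
          rw [hφmk]; rfl }
    let g₁ : S →ₐ[R] (S ⧸ J ^ n) := Ideal.Quotient.mkₐ R (J ^ n)
    let g₂ : S →ₐ[R] (S ⧸ J ^ n) := φ'.comp σ
    let q : (S ⧸ J ^ n) →+* (S ⧸ J) := Ideal.Quotient.factor (Ideal.pow_le_self hn.ne')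
    have hq : IsNilpotent (RingHom.ker q) := by
      refine ⟨n, ?_⟩
      have : RingHom.ker q = J.map (Ideal.Quotient.mk (J ^ n)) := by
        ext x
        obtain ⟨s, rfl⟩ := Ideal.Quotient.mk_surjective x
        rw [RingHom.mem_ker]
        change Ideal.Quotient.mk J s = 0 ↔ _
        rw [Ideal.Quotient.eq_zero_iff_mem]
        constructor
        · exact fun h => Ideal.mem_map_of_mem _ h
        · intro h
          rw [Ideal.mem_map_iff_of_surjective _ Ideal.Quotient.mk_surjective] at h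
          obtain ⟨s', hs', hss'⟩ := h
          rw [Ideal.Quotient.eq] at hss'
          have h1 : s' - s ∈ J := Ideal.pow_le_self hn.ne' hss'
          have h2 : s = s' - (s' - s) := by ring
          rw [h2]
          exact sub_mem hs' h1
      rw [this, ← Ideal.map_pow, Ideal.map_quotient_self]
      rfl
    have hqφ : ∀ b, q (φ b) = g b := by
      intro b
      obtain ⟨r, rfl⟩ := Ideal.Quotient.mk_surjective b
      rw [hφmk, hgmk]
      rfl
    have h12 : g₁ = g₂ := by
      refine Algebra.FormallyUnramified.ext' q hq g₁ g₂ fun x => ?_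
      change q (Ideal.Quotient.mk _ x) = q (φ (σ x))
      rw [hqφ, hσ]
      rfl
    intro y
    obtain ⟨x, rfl⟩ := Ideal.Quotient.mk_surjective y
    refine ⟨σ x, ?_⟩
    have := AlgHom.congr_fun h12 x
    exact this.symm

end Groth.Agent.S9428
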