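import Groth.Statements.S9431
import Groth.Agent.Helper1.FieldSmooth7
import Mathlib

set_option autoImplicit false
universe u
open CAlg

namespace Groth.Agent.S9431


/-- For a separable (geometrically reduced) field extension K/k, every finite subset of K lies in a
k-subalgebra of K which is smooth over k; in particular K is a filtered colimit of smooth
k-algebras. -/
theorem result (k : Type u) [Field k]
    (K : Type u) [Field K] [Algebra k K] [Algebra.IsGeometricallyReduced k K] (E : Finset K) :
    ∃ A : Subalgebra k K, (↑E : Set K) ⊆ (A : Set K) ∧ Algebra.Smooth k A := by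

  classical
  open scoped IntermediateField.algebraAdjoinAdjoin in
  let K' := IntermediateField.adjoin k (E : Set K)
  let B := Algebra.adjoin k (E : Set K)
  haveI : Algebra.IsGeometricallyReduced k K' :=
    Algebra.IsGeometricallyReduced.of_injective K'.val Subtype.val_injective
  haveI : Algebra.FormallySmooth k K' :=
    Groth.Agent.Helper1.FieldSmooth.formallySmooth_iff_isGeometricallyReduced.mpr inferInstance
  haveI : Algebra.FiniteType k B :=
    (Subalgebra.fg_iff_finiteType B).mp (Subalgebra.fg_adjoin_finset E)
  haveI : Algebra.FinitePresentation k B := Algebra.FinitePresentation.of_finiteType.mp inferInstance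
  haveI : IsLocalization (⊥ : Ideal B).primeCompl K' := by
    rw [Ideal.primeCompl_bot]
    exact (inferInstance : IsFractionRing B K')
  let e : Localization.AtPrime (⊥ : Ideal B) ≃ₐ[B] K' :=
    IsLocalization.algEquiv (⊥ : Ideal B).primeCompl _ _
  haveI : Algebra.IsSmoothAt k (⊥ : Ideal B) :=
    Algebra.FormallySmooth.of_equiv (e.restrictScalars k).symm
  obtain ⟨f, hf, hsm⟩ := Algebra.IsSmoothAt.exists_notMem_smooth k (⊥ : Ideal B)
  have hf0 : f ≠ 0 := fun h => hf (by rw [h]; exact Ideal.zero_mem _)
  have hunit : ∀ y : Submonoid.powers f, IsUnit (B.val y) := by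
    rintro ⟨_, n, rfl⟩
    rw [map_pow]
    refine IsUnit.pow n (isUnit_iff_ne_zero.mpr ?_)
    exact fun h => hf0 (Subtype.ext h)
  let φ : Localization.Away f →ₐ[k] K := IsLocalization.liftAlgHom (M := Submonoid.powers f) (f := B.val) hunit
  have hφinj : Function.Injective φ := by
    change Function.Injective (IsLocalization.lift hunit)
    rw [IsLocalization.lift_injective_iff]
    intro x y
    have h1 : Function.Injective (algebraMap B (Localization.Away f)) :=
      IsLocalization.injective _ (powers_le_nonZeroDivisors_of_noZeroDivisors hf0)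
    constructor
    · intro h; rw [h1 h]
    · intro h; rw [Subtype.val_injective h]
  refine ⟨φ.range, ?_, ?_⟩
  · intro x hx
    refine ⟨algebraMap B _ ⟨x, Algebra.subset_adjoin hx⟩, ?_⟩
    change IsLocalization.lift hunit _ = x
    rw [IsLocalization.lift_eq]
    rfl
  · exact Algebra.Smooth.of_equiv (AlgEquiv.ofInjective φ hφinj)

end Groth.Agent.S9431
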