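import Groth.Statements.S9435
import Mathlib

set_option autoImplicit false
universe u
open CAlg

namespace Groth.Agent.S9435

open Polynomial IntermediateField

/-- A primitive element whose minimal polynomial lifts to a monic polynomial over `R`. -/
theorem exists_monic_lift (R : Type u) [CommRing R]
    (p : Ideal R) [p.IsPrime] (L : Type u) [Field L] [Algebra p.ResidueField L] [Algebra R L]
    [IsScalarTower R p.ResidueField L] [Module.Finite p.ResidueField L]
    [Algebra.IsSeparable p.ResidueField L] :
    ∃ (f : R[X]) (β : L), f.Monic ∧ aeval β f = 0 ∧ aeval β (derivative f) ≠ 0 ∧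
      (p.ResidueField)⟮β⟯ = ⊤ := by
  classical
  set K := p.ResidueField with hK
  obtain ⟨α, hα⟩ := Field.exists_primitive_element K L
  set m := minpoly K α with hm
  have hαint : IsIntegral K α := Algebra.IsIntegral.isIntegral α
  have hmmonic : m.Monic := minpoly.monic hαint
  obtain ⟨b, hb⟩ := IsLocalization.exist_integer_multiples_of_finset (nonZeroDivisors (R ⧸ p))
    ((Finset.range (m.natDegree + 1)).image m.coeff)
  set b' : K := algebraMap (R ⧸ p) K b with hb'
  have hb'0 : b' ≠ 0 :=
    map_ne_zero_of_mem_nonZeroDivisors _ p.injective_algebraMap_quotient_residueField b.2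
  set m' := scaleRoots m b' with hm'
  have hm'monic : m'.Monic := (monic_scaleRoots_iff b').mpr hmmonic
  -- the new primitive element
  set β : L := algebraMap K L b' * α with hβ
  have hβroot : aeval β m' = 0 := scaleRoots_aeval_eq_zero (minpoly.aeval K α)
  have hβint : IsIntegral K β := Algebra.IsIntegral.isIntegral β
  have hbL : algebraMap K L b' ≠ 0 := by
    rwa [Ne, map_eq_zero]
  have hβtop : K⟮β⟯ = ⊤ := by
    rw [eq_top_iff, ← hα, adjoin_simple_le_iff]
    have h1 : β ∈ K⟮β⟯ := mem_adjoin_simple_self K β
    have h2 : algebraMap K L b' ∈ K⟮β⟯ := IntermediateField.algebraMap_mem _ b'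
    have h3 : α = (algebraMap K L b')⁻¹ * β := by
      rw [hβ, ← mul_assoc, inv_mul_cancel₀ hbL, one_mul]
    rw [h3]
    exact mul_mem (inv_mem h2) h1
  -- the minimal polynomial of `β`
  have hdeg : m'.natDegree = (minpoly K β).natDegree := by
    rw [hm', natDegree_scaleRoots, ← adjoin.finrank hαint, ← adjoin.finrank hβint, hα, hβtop]
  have hmin : m' = minpoly K β :=
    eq_of_monic_of_dvd_of_natDegree_le (minpoly.monic hβint) hm'monic
      (minpoly.dvd K β hβroot) hdeg.le
  have hsep : m'.Separable := hmin ▸ Algebra.IsSeparable.isSeparable K β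
  -- `m'` lifts to `R`
  have hlift : m' ∈ lifts (algebraMap R K) := by
    rw [lifts_iff_coeff_lifts]
    intro i
    rw [hm', coeff_scaleRoots]
    rcases lt_trichotomy i m.natDegree with hi | hi | hi
    · have hmem : m.coeff i ∈ (Finset.range (m.natDegree + 1)).image m.coeff :=
        Finset.mem_image.mpr ⟨i, Finset.mem_range.mpr (by omega), rfl⟩
      obtain ⟨c, hc⟩ := hb _ hmem
      obtain ⟨c, rfl⟩ := Ideal.Quotient.mk_surjective c
      obtain ⟨b₀, hb₀⟩ := Ideal.Quotient.mk_surjective (b : R ⧸ p)
      obtain ⟨k, hk⟩ : ∃ k, m.natDegree - i = k + 1 := ⟨m.natDegree - i - 1, by omega⟩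
      refine ⟨c * b₀ ^ k, ?_⟩
      rw [hk, pow_succ, map_mul, map_pow]
      have e2 : algebraMap R K b₀ = b' := by
        rw [hb', ← hb₀]; rfl
      have e3 : algebraMap R K c = b' * m.coeff i := by
        have : algebraMap (R ⧸ p) K (Ideal.Quotient.mk p c) = algebraMap R K c := rfl
        rw [← this, hc, Algebra.smul_def]
      rw [e2, e3]; ring
    · subst hi
      refine ⟨1, ?_⟩
      rw [map_one, Nat.sub_self, pow_zero, mul_one]
      exact hmmonic.coeff_natDegree.symm
    · refine ⟨0, ?_⟩
      rw [map_zero, coeff_eq_zero_of_natDegree_lt hi, zero_mul]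
  obtain ⟨f, hf, -, hfmonic⟩ := lifts_and_natDegree_eq_and_monic hlift hm'monic
  refine ⟨f, β, hfmonic, ?_, ?_, hβtop⟩
  · rw [← aeval_map_algebraMap K, hf]; exact hβroot
  · have : aeval β (derivative f) = aeval β (derivative m') := by
      rw [← hf, derivative_map, aeval_map_algebraMap]
    rw [this]
    exact hsep.aeval_derivative_ne_zero hβroot

/-- Given a prime p of a ring R and a finite separable extension L of κ(p), there is an étale R-algebra
R' with a prime p' over p whose residue field is κ(p)-isomorphic to L. Stated through an R-algebra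
map ψ : R' → L whose image generates the field L: its kernel is such a prime p' and the induced
κ(p') → L is then an isomorphism over κ(p). -/
theorem result (R : Type u) [CommRing R]
    (p : Ideal R) [p.IsPrime] (L : Type u) [Field L] [Algebra p.ResidueField L] [Algebra R L]
    [IsScalarTower R p.ResidueField L] [Module.Finite p.ResidueField L]
    [Algebra.IsSeparable p.ResidueField L] :
    ∃ (R' : Type u) (_ : CommRing R') (_ : Algebra R R') (_ : Algebra.Etale R R') (ψ : R' →ₐ[R] L),
      Subfield.closure (Set.range ψ) = ⊤ := by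
  obtain ⟨f, β, hfmonic, hroot, hder, hβtop⟩ := exists_monic_lift R p L
  let P : StandardEtalePair R :=
    { f := f
      monic_f := hfmonic
      g := derivative f
      cond := ⟨1, 0, 1, by simp⟩ }
  have hmap : P.HasMap β := ⟨hroot, isUnit_iff_ne_zero.mpr hder⟩
  refine ⟨P.Ring, inferInstance, inferInstance, inferInstance, P.lift β hmap, ?_⟩
  set F := Subfield.closure (Set.range (P.lift β hmap)) with hF
  rw [eq_top_iff]
  intro x _
  -- `F` contains the image of `R`
  have hR : ∀ r : R, algebraMap R L r ∈ F := fun r =>
    Subfield.subset_closure ⟨algebraMap R P.Ring r, by simp⟩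
  have hβF : β ∈ F := Subfield.subset_closure ⟨P.X, P.lift_X β hmap⟩
  -- `F` contains the image of `K`
  have hKF : ∀ y : p.ResidueField, algebraMap p.ResidueField L y ∈ F := by
    intro y
    obtain ⟨a, c, hc, rfl⟩ := IsFractionRing.div_surjective (A := R ⧸ p) y
    obtain ⟨a, rfl⟩ := Ideal.Quotient.mk_surjective a
    obtain ⟨c, rfl⟩ := Ideal.Quotient.mk_surjective c
    rw [map_div₀]
    refine div_mem ?_ ?_
    · have : algebraMap p.ResidueField L (algebraMap (R ⧸ p) p.ResidueField (Ideal.Quotient.mk p a))
          = algebraMap R L a := by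
        rw [Ideal.algebraMap_quotient_residueField_mk, ← IsScalarTower.algebraMap_apply]
      rw [this]; exact hR a
    · have : algebraMap p.ResidueField L (algebraMap (R ⧸ p) p.ResidueField (Ideal.Quotient.mk p c))
          = algebraMap R L c := by
        rw [Ideal.algebraMap_quotient_residueField_mk, ← IsScalarTower.algebraMap_apply]
      rw [this]; exact hR c
  -- conclude
  have hx : x ∈ (p.ResidueField)⟮β⟯ := by rw [hβtop]; trivial
  have hle : (p.ResidueField)⟮β⟯.toSubfield ≤ F := by
    rw [IntermediateField.adjoin_toSubfield, Subfield.closure_le]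
    rintro y (⟨y, rfl⟩ | hy)
    · exact hKF y
    · rw [Set.mem_singleton_iff] at hy; rw [hy]; exact hβF
  exact hle hx

end Groth.Agent.S9435
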