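import Groth.Statements.S9445
import Groth.Agent.Helper4.FEtLift
import Mathlib

set_option autoImplicit false
universe u
open CAlg

namespace Groth.Agent.S9445


open TensorProduct in
/-- For ring maps R → S → S' with S → S' formally étale and k ≥ 0, let J' ⊆ S' ⊗_R S' be the kernel of
multiplication and I ⊆ S' ⊗_R S its preimage under the map induced by S → S' (I is the kernel of S'
⊗_R S → S', and (S' ⊗_R S)/I^{k+1} is S' ⊗_S P^k_{S/R}); then (S' ⊗_R S)/I^{k+1} → (S' ⊗_R
S')/J'^{k+1} is bijective. (The consequence S' ⊗_S Ω_{S/R} ≅ Ω_{S'/R} is Mathlib's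
KaehlerDifferential.isBaseChange_of_formallyEtale.) -/
theorem result (R : Type u) [CommRing R]
    (S : Type u) [CommRing S] [Algebra R S] (S' : Type u) [CommRing S'] [Algebra R S']
    [Algebra S S'] [IsScalarTower R S S'] [Algebra.FormallyEtale S S'] (k : ℕ) :
    Function.Bijective (Ideal.quotientMap (KaehlerDifferential.ideal R S' ^ (k + 1))
      (Algebra.TensorProduct.map (AlgHom.id S' S') (IsScalarTower.toAlgHom R S S')).toRingHom
      (Ideal.le_comap_pow
        (Algebra.TensorProduct.map (AlgHom.id S' S') (IsScalarTower.toAlgHom R S S')).toRingHom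
        (K := KaehlerDifferential.ideal R S') (k + 1))) := by

  classical
  -- notation
  let P := S' ⊗[R] S
  let Q := S' ⊗[R] S'
  let f : P →ₐ[S'] Q := Algebra.TensorProduct.map (AlgHom.id S' S') (IsScalarTower.toAlgHom R S S')
  let J' : Ideal Q := KaehlerDifferential.ideal R S'
  let I : Ideal P := J'.comap f.toRingHom
  have hle : I ^ (k + 1) ≤ (J' ^ (k + 1)).comap f.toRingHom := Ideal.le_comap_pow _ _
  change Function.Bijective (Ideal.quotientMap (J' ^ (k + 1)) f.toRingHom hle)
  set fbar := Ideal.quotientMap (J' ^ (k + 1)) f.toRingHom hle with hfbar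
  have hf_tmul : ∀ (a : S') (b : S), f (a ⊗ₜ b) = a ⊗ₜ (algebraMap S S' b) := fun a b => rfl
  have hfbar_mk : ∀ p : P, fbar (Ideal.Quotient.mk _ p) = Ideal.Quotient.mk _ (f p) := fun p => rfl
  -- the target T = P / I^(k+1)
  let T := P ⧸ I ^ (k + 1)
  let algST : Algebra S T := ((Ideal.Quotient.mk (I ^ (k + 1))).comp
    (Algebra.TensorProduct.includeRight : S →ₐ[R] P).toRingHom).toAlgebra
  have hST : ∀ s : S, algebraMap S T s = Ideal.Quotient.mk _ ((1 : S') ⊗ₜ[R] s) := fun s => rfl
  let N : Ideal T := I.map (Ideal.Quotient.mk (I ^ (k + 1)))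
  have hN : IsNilpotent N := by
    refine ⟨k + 1, ?_⟩
    rw [← Ideal.map_pow, Ideal.zero_eq_bot, Ideal.map_quotient_self]
  let w : S' →+* T := (Ideal.Quotient.mk (I ^ (k + 1))).comp
    (Algebra.TensorProduct.includeLeft : S' →ₐ[R] P).toRingHom
  have hwdef : ∀ s', w s' = Ideal.Quotient.mk _ (s' ⊗ₜ[R] (1 : S)) := fun s' => rfl
  have hmemI : ∀ s : S, (algebraMap S S' s) ⊗ₜ[R] (1 : S) - (1 : S') ⊗ₜ[R] s ∈ I := by
    intro s
    change f _ ∈ J'
    rw [map_sub, hf_tmul, hf_tmul, map_one]
    change Algebra.TensorProduct.lmul' R _ = 0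
    simp
  have hw : ∀ s, w (algebraMap S S' s) - algebraMap S T s ∈ N := by
    intro s
    rw [hwdef, hST, ← map_sub]
    exact Ideal.mem_map_of_mem _ (hmemI s)
  obtain ⟨v, hv⟩ := Helper4.FEtLift.exists_lift N hN w hw
  let wR : S' →ₐ[R] T :=
    (Ideal.Quotient.mkₐ R (I ^ (k + 1))).comp Algebra.TensorProduct.includeLeft
  have hwR : ∀ s', wR s' = w s' := fun s' => rfl
  let vR : S' →ₐ[R] T :=
    { toRingHom := v.toRingHom
      commutes' := by
        intro r
        change v (algebraMap R S' r) = algebraMap R T r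
        rw [IsScalarTower.algebraMap_apply R S S', v.commutes, hST]
        change _ = Ideal.Quotient.mk _ (algebraMap R P r)
        congr 1
        rw [Algebra.TensorProduct.algebraMap_apply, Algebra.algebraMap_eq_smul_one,
          Algebra.algebraMap_eq_smul_one, TensorProduct.smul_tmul] }
  have hvR : ∀ s', vR s' = v s' := fun s' => rfl
  let g : Q →ₐ[R] T := Algebra.TensorProduct.lift wR vR (fun _ _ => Commute.all _ _)
  have hg_tmul : ∀ a b : S', g (a ⊗ₜ b) = w a * v b := fun a b => by
    rw [Algebra.TensorProduct.lift_tmul, hwR, hvR]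
  have hgJ : J'.map g.toRingHom ≤ N := by
    have hJ'span : J' = Ideal.span (Set.range fun s : S' => (1 : S') ⊗ₜ[R] s - s ⊗ₜ[R] (1 : S')) :=
      (KaehlerDifferential.span_range_eq_ideal R S').symm
    rw [hJ'span, Ideal.map_span, Ideal.span_le]
    rintro _ ⟨_, ⟨s', rfl⟩, rfl⟩
    change g _ ∈ N
    rw [map_sub, hg_tmul, hg_tmul, map_one, map_one, one_mul, mul_one]
    exact hv s'
  have hgJk : J' ^ (k + 1) ≤ RingHom.ker g.toRingHom := by
    rw [← Ideal.map_eq_bot_iff_le_ker, Ideal.map_pow, eq_bot_iff]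
    refine (Ideal.pow_right_mono hgJ (k + 1)).trans ?_
    rw [← Ideal.map_pow, Ideal.map_quotient_self]
  let gbar : Q ⧸ J' ^ (k + 1) →+* T := Ideal.Quotient.lift (J' ^ (k + 1)) g.toRingHom
    (fun x hx => hgJk hx)
  have hgf : ∀ p : P, g (f p) = Ideal.Quotient.mk _ p := by
    intro p
    induction p using TensorProduct.induction_on with
    | zero => simp
    | add x y hx hy => rw [map_add, map_add, hx, hy, map_add]
    | tmul a b =>
      rw [hf_tmul, hg_tmul, v.commutes, hST, hwdef, ← map_mul,
        Algebra.TensorProduct.tmul_mul_tmul, mul_one, one_mul]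
  constructor
  · -- injective via the left inverse gbar
    have hleft : Function.LeftInverse gbar fbar := by
      intro t
      obtain ⟨p, rfl⟩ := Ideal.Quotient.mk_surjective t
      rw [hfbar_mk]
      change g (f p) = _
      exact hgf p
    exact hleft.injective
  · -- surjective
    let T' := Q ⧸ J' ^ (k + 1)
    let algST' : Algebra S T' := (fbar.comp (algebraMap S T)).toAlgebra
    have hST' : ∀ s, algebraMap S T' s = fbar (algebraMap S T s) := fun s => rfl
    let N' : Ideal T' := J'.map (Ideal.Quotient.mk (J' ^ (k + 1)))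
    have hN' : IsNilpotent N' :=
      ⟨k + 1, by rw [← Ideal.map_pow, Ideal.zero_eq_bot, Ideal.map_quotient_self]⟩
    let v₁ : S' →ₐ[S] T' :=
      { toRingHom := fbar.comp v.toRingHom
        commutes' := fun s => by
          change fbar (v (algebraMap S S' s)) = _
          rw [v.commutes]; rfl }
    let v₂ : S' →ₐ[S] T' :=
      { toRingHom := (Ideal.Quotient.mk (J' ^ (k + 1))).comp
          (Algebra.TensorProduct.includeRight : S' →ₐ[R] Q).toRingHom
        commutes' := fun s => by
          change Ideal.Quotient.mk _ ((1 : S') ⊗ₜ[R] (algebraMap S S' s)) = fbar (algebraMap S T s)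
          rw [hST, hfbar_mk, hf_tmul] }
    have h12 : v₁ = v₂ := by
      apply Helper4.FEtLift.lift_unique N' hN'
      intro s'
      change fbar (v s') - Ideal.Quotient.mk _ ((1 : S') ⊗ₜ[R] s') ∈ N'
      have hNN' : N.map fbar ≤ N' := by
        rw [Ideal.map_map, Ideal.map_le_iff_le_comap]
        intro x hx
        rw [Ideal.mem_comap]
        change fbar (Ideal.Quotient.mk _ x) ∈ N'
        rw [hfbar_mk]
        exact Ideal.mem_map_of_mem _ hx
      have h1 : fbar (v s') - fbar (w s') ∈ N' := by
        rw [← map_sub]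
        exact hNN' (Ideal.mem_map_of_mem _ (hv s'))
      have h2 : fbar (w s') - Ideal.Quotient.mk _ ((1 : S') ⊗ₜ[R] s') ∈ N' := by
        rw [hwdef, hfbar_mk, hf_tmul, map_one, ← map_sub]
        apply Ideal.mem_map_of_mem
        have := KaehlerDifferential.one_smul_sub_smul_one_mem_ideal R s'
        rw [← neg_sub]
        exact neg_mem this
      have := add_mem h1 h2
      simpa using this
    intro y
    obtain ⟨q, rfl⟩ := Ideal.Quotient.mk_surjective y
    induction q using TensorProduct.induction_on with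
    | zero => exact ⟨0, by simp⟩
    | add x y hx hy =>
      obtain ⟨a, ha⟩ := hx
      obtain ⟨b, hb⟩ := hy
      exact ⟨a + b, by rw [map_add, ha, hb, map_add]⟩
    | tmul a b =>
      refine ⟨w a * v b, ?_⟩
      rw [map_mul]
      have : fbar (v b) = Ideal.Quotient.mk _ ((1 : S') ⊗ₜ[R] b) := DFunLike.congr_fun h12 b
      rw [this, hwdef, hfbar_mk, hf_tmul, map_one, ← map_mul,
        Algebra.TensorProduct.tmul_mul_tmul, mul_one, one_mul]

end Groth.Agent.S9445
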