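import Groth.Statements.S9450
import Groth.Agent.Helper4.CotSeq
import Mathlib

set_option autoImplicit false
universe u
open CAlg

namespace Groth.Agent.S9450


/-- For ring maps A → B → C with A → C surjective and A → B formally smooth, writing I = ker(A → C) and
J = ker(B → C), the sequence 0 → I/I² → J/J² → C ⊗_B Ω_{B/A} → 0 is split exact: the first map is
injective and admits an A-linear retraction, its range is the kernel of the second map (class of x ↦
1 ⊗ dx), and the second map is surjective. -/
theorem result (A : Type u) [CommRing A]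
    (B : Type u) [CommRing B] [Algebra A B] [Algebra.FormallySmooth A B] (C : Type u) [CommRing C]
    [Algebra B C] [Algebra A C] [IsScalarTower A B C] (hC : Function.Surjective (algebraMap A C)) :
    Function.Injective (Ideal.mapCotangent (RingHom.ker (algebraMap A C))
        (RingHom.ker (algebraMap B C)) (Algebra.ofId A B)
        (le_of_eq (congrArg RingHom.ker (IsScalarTower.algebraMap_eq A B C)))) ∧
      (∃ r : (RingHom.ker (algebraMap B C)).Cotangent →ₗ[A] (RingHom.ker (algebraMap A C)).Cotangent,
        r ∘ₗ (Ideal.mapCotangent (RingHom.ker (algebraMap A C)) (RingHom.ker (algebraMap B C))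
          (Algebra.ofId A B)
          (le_of_eq (congrArg RingHom.ker (IsScalarTower.algebraMap_eq A B C)))) = LinearMap.id) ∧
      LinearMap.range (Ideal.mapCotangent (RingHom.ker (algebraMap A C))
          (RingHom.ker (algebraMap B C)) (Algebra.ofId A B)
          (le_of_eq (congrArg RingHom.ker (IsScalarTower.algebraMap_eq A B C)))) =
        LinearMap.ker ((KaehlerDifferential.kerCotangentToTensor A B C).restrictScalars A) ∧
      Function.Surjective (KaehlerDifferential.kerCotangentToTensor A B C) := by

  classical
  have hle : RingHom.ker (algebraMap A C) ≤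
      (RingHom.ker (algebraMap B C)).comap (Algebra.ofId A B) :=
    le_of_eq (congrArg RingHom.ker (IsScalarTower.algebraMap_eq A B C))
  have hBC : Function.Surjective (algebraMap B C) := by
    intro c
    obtain ⟨a, rfl⟩ := hC c
    exact ⟨algebraMap A B a, (IsScalarTower.algebraMap_apply A B C a).symm⟩
  have hexact := Groth.Agent.Helper4.CotSeq.exact_mapCotangent_kerCotangentToTensor A B C hC hle
  -- the lift B → A / I²
  let F := (Algebra.ofId A C).kerSquareLift
  have hF : Function.Surjective F := by
    intro x
    obtain ⟨r, rfl⟩ := hC x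
    exact ⟨Ideal.Quotient.mk _ r, rfl⟩
  have hnil : IsNilpotent (RingHom.ker F) := by
    refine ⟨2, ?_⟩
    have h1 : RingHom.ker F = RingHom.ker F.toRingHom := rfl
    rw [h1, AlgHom.ker_kerSquareLift, Ideal.cotangentIdeal_square]
    rfl
  obtain ⟨ψ, hψ⟩ : ∃ ψ : B →ₐ[A] A ⧸ RingHom.ker (Algebra.ofId A C).toRingHom ^ 2,
      ∀ b, F (ψ b) = algebraMap B C b :=
    ⟨Algebra.FormallySmooth.liftOfSurjective (IsScalarTower.toAlgHom A B C) F hF hnil,
      Algebra.FormallySmooth.liftOfSurjective_apply _ _ hF hnil⟩
  set I := RingHom.ker (algebraMap A C) with hI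
  set J := RingHom.ker (algebraMap B C) with hJ
  have hmem : ∀ j : J, ψ j ∈ I.cotangentIdeal := by
    intro j
    have h1 : RingHom.ker F.toRingHom = I.cotangentIdeal := AlgHom.ker_kerSquareLift _
    rw [← h1]
    show F (ψ j) = 0
    rw [hψ]
    exact j.2
  let e := I.cotangentEquivIdeal
  let r₀ : J →ₗ[A] I.Cotangent :=
    { toFun := fun j => e.symm ⟨ψ j, hmem j⟩
      map_add' := by
        intro x y
        rw [← map_add]
        congr 1
        ext
        exact map_add ψ _ _
      map_smul' := by
        intro a x
        rw [RingHom.id_apply, ← map_smul]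
        congr 1
        ext
        exact map_smul ψ _ _ }
  have hr₀ : ∀ x y : J, r₀ (x * y) = 0 := by
    intro x y
    show e.symm ⟨ψ ((x * y : J) : B), _⟩ = 0
    rw [LinearEquiv.symm_apply_eq, map_zero]
    ext
    simp only [MulMemClass.coe_mul, map_mul, ZeroMemClass.coe_zero]
    have h2 : I.cotangentIdeal * I.cotangentIdeal = ⊥ := by
      rw [← sq]; exact Ideal.cotangentIdeal_square I
    have : ψ x * ψ y ∈ I.cotangentIdeal * I.cotangentIdeal :=
      Ideal.mul_mem_mul (hmem x) (hmem y)
    rw [h2] at this
    exact this
  let r : J.Cotangent →ₗ[A] I.Cotangent := Ideal.Cotangent.lift r₀ hr₀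
  have hr : r ∘ₗ (Ideal.mapCotangent I J (Algebra.ofId A B) hle) = LinearMap.id := by
    ext x
    obtain ⟨x, rfl⟩ := I.toCotangent_surjective x
    simp only [LinearMap.comp_apply, Ideal.mapCotangent_toCotangent, LinearMap.id_apply, r,
      Ideal.Cotangent.lift_toCotangent]
    show e.symm ⟨ψ (Algebra.ofId A B x), _⟩ = _
    rw [LinearEquiv.symm_apply_eq]
    ext
    rw [Ideal.cotangentEquivIdeal_apply]
    simp only [Algebra.ofId_apply, AlgHom.commutes, Ideal.toCotangent_to_quotient_square]
    rfl
  refine ⟨?_, ⟨r, hr⟩, ?_, ?_⟩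
  · intro x y hxy
    have := congrArg r hxy
    rw [← LinearMap.comp_apply, ← LinearMap.comp_apply, hr] at this
    exact this
  · ext y
    rw [LinearMap.mem_range, LinearMap.mem_ker]
    exact (hexact y).symm
  · intro z
    have h1 := KaehlerDifferential.exact_kerCotangentToTensor_mapBaseChange A B C hBC
    haveI : Subsingleton Ω[C⁄A] := KaehlerDifferential.subsingleton_of_surjective A C hC
    exact (h1 z).mp (Subsingleton.elim _ _)

end Groth.Agent.S9450
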