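import Groth.Statements.S9462
import Groth.Agent.Helper4.EtaleLift
import Mathlib

set_option autoImplicit false
universe u
open CAlg

namespace Groth.Agent.S9462


open TensorProduct in
/-- Consider surjections A' → A and B' → B with square-zero kernels I and J and a commutative square A'
→ B', A → B. If A → B is étale and J = I ⊗_A B — that is, J = IB' and the multiplication map B'
⊗_{A'} I → B' is injective — then A' → B' is étale. -/
theorem result (A' : Type u) [CommRing A'] (A : Type u) [CommRing A]
    [Algebra A' A] (hA : Function.Surjective (algebraMap A' A))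
    (hI : RingHom.ker (algebraMap A' A) ^ 2 = ⊥)
    (B' : Type u) [CommRing B'] [Algebra A' B'] (B : Type u) [CommRing B] [Algebra B' B]
    [Algebra A B] [Algebra A' B] [IsScalarTower A' A B] [IsScalarTower A' B' B]
    (hB : Function.Surjective (algebraMap B' B)) (hJ : RingHom.ker (algebraMap B' B) ^ 2 = ⊥)
    [Algebra.Etale A B]
    (hJI : RingHom.ker (algebraMap B' B) = (RingHom.ker (algebraMap A' A)).map (algebraMap A' B'))
    (hinj : Function.Injective ((RingHom.ker (algebraMap A' A)).subtype.baseChange B')) :
    Algebra.Etale A' B' := by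

  classical
  set I : Ideal A' := RingHom.ker (algebraMap A' A) with hIdef
  obtain ⟨S, _, _, ψ, hS, hψsurj, hψker⟩ :=
    Groth.Agent.Helper4.EtaleLift.exists_etale_lift' A' A B hA
  let πB : B' →ₐ[A'] B := IsScalarTower.toAlgHom A' B' B
  have hπB : Function.Surjective πB := hB
  have hJ' : IsNilpotent (RingHom.ker (πB : B' →+* B)) := ⟨2, hJ⟩
  let g : S →ₐ[A'] B' := Algebra.FormallySmooth.liftOfSurjective ψ πB hπB hJ'
  have hg : ∀ s, algebraMap B' B (g s) = ψ s := fun s =>
    Algebra.FormallySmooth.liftOfSurjective_apply ψ πB hπB hJ' s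
  -- I² = 0 elementwise
  have hI2 : ∀ a ∈ I, ∀ b ∈ I, a * b = 0 := by
    intro a ha b hb
    have : a * b ∈ I ^ 2 := by rw [pow_two]; exact Ideal.mul_mem_mul ha hb
    rw [hI] at this
    exact this
  have hJ2 : ∀ a ∈ RingHom.ker (algebraMap B' B), ∀ b ∈ RingHom.ker (algebraMap B' B), a * b = 0 := by
    intro a ha b hb
    have : a * b ∈ RingHom.ker (algebraMap B' B) ^ 2 := by rw [pow_two]; exact Ideal.mul_mem_mul ha hb
    rw [hJ] at this
    exact this
  -- surjectivity
  have hgsurj : Function.Surjective g := by
    have hdecomp : ∀ b' : B', ∃ s : S, b' - g s ∈ RingHom.ker (algebraMap B' B) := by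
      intro b'
      obtain ⟨s, hs⟩ := hψsurj (algebraMap B' B b')
      exact ⟨s, by rw [RingHom.mem_ker, map_sub, hg, hs, sub_self]⟩
    have hJT : ∀ y ∈ I.map (algebraMap A' B'), y ∈ g.range := by
      intro y hy
      have hy' := hy
      rw [Ideal.map] at hy
      induction hy using Submodule.span_induction with
      | mem x hx =>
        obtain ⟨i, _, rfl⟩ := hx
        exact Subalgebra.algebraMap_mem _ i
      | zero => exact Subalgebra.zero_mem _
      | add x y hx hy ihx ihy =>
        exact Subalgebra.add_mem _ (ihx (Ideal.span_le.mpr (fun _ h => Ideal.subset_span h) hx))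
          (ihy (Ideal.span_le.mpr (fun _ h => Ideal.subset_span h) hy))
      | smul c x hx ih =>
        have hxJ : x ∈ RingHom.ker (algebraMap B' B) := by rw [hJI]; exact hx
        obtain ⟨s, hs⟩ := hdecomp c
        have h1 : c • x = g s * x := by
          have : (c - g s) * x = 0 := hJ2 _ hs _ hxJ
          rw [smul_eq_mul]
          linear_combination this
        rw [h1]
        exact Subalgebra.mul_mem _ ⟨s, rfl⟩ (ih hx)
    intro b'
    obtain ⟨s, hs⟩ := hdecomp b'
    rw [hJI] at hs
    obtain ⟨s', hs'⟩ := hJT _ hs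
    have hs'' : g s' = b' - g s := hs'
    exact ⟨s + s', by rw [map_add, hs'']; ring⟩
  -- injectivity
  have hginj : Function.Injective g := by
    rw [injective_iff_map_eq_zero]
    intro x hx
    have hkerIS : ∀ k : S, g k = 0 → k ∈ I.map (algebraMap A' S) := by
      intro k hk
      rw [← hψker, RingHom.mem_ker]
      change ψ k = 0
      rw [← hg, hk, map_zero]
    have hxψ := hkerIS x hx
    let mS : S ⊗[A'] I →ₗ[A'] S :=
      (TensorProduct.rid A' S).toLinearMap ∘ₗ (LinearMap.lTensor S I.subtype)
    let mB : B' ⊗[A'] I →ₗ[A'] B' :=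
      (TensorProduct.rid A' B').toLinearMap ∘ₗ (LinearMap.lTensor B' I.subtype)
    have hmS : ∀ (s : S) (i : I), mS (s ⊗ₜ i) = (i : A') • s := by intro s i; simp [mS]
    have hmB : ∀ (s : B') (i : I), mB (s ⊗ₜ i) = (i : A') • s := by intro s i; simp [mB]
    have hmBinj : Function.Injective mB := by
      refine (TensorProduct.rid A' B').injective.comp ?_
      exact hinj
    have hmSsmul : ∀ (c : S) (ξ : S ⊗[A'] I), mS (c • ξ) = c * mS ξ := by
      intro c ξ
      induction ξ using TensorProduct.induction_on with
      | zero => simp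
      | tmul s i => rw [TensorProduct.smul_tmul', hmS, hmS, smul_eq_mul, mul_smul_comm]
      | add a b ha hb => rw [smul_add, map_add, ha, hb, map_add, mul_add]
    have hrange : ∀ y ∈ I.map (algebraMap A' S), ∃ ξ, mS ξ = y := by
      intro y hy
      rw [Ideal.map] at hy
      induction hy using Submodule.span_induction with
      | mem y hy =>
        obtain ⟨i, hi, rfl⟩ := hy
        exact ⟨(1 : S) ⊗ₜ ⟨i, hi⟩, by rw [hmS, Algebra.algebraMap_eq_smul_one]⟩
      | zero => exact ⟨0, map_zero _⟩
      | add a b _ _ ha hb =>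
        obtain ⟨ξa, ha⟩ := ha
        obtain ⟨ξb, hb⟩ := hb
        exact ⟨ξa + ξb, by rw [map_add, ha, hb]⟩
      | smul c a _ ha =>
        obtain ⟨ξa, ha⟩ := ha
        exact ⟨c • ξa, by rw [hmSsmul, ha, smul_eq_mul]⟩
    obtain ⟨ξ, hξ⟩ := hrange x hxψ
    have hcomp : ∀ ξ, mB (LinearMap.rTensor I g.toLinearMap ξ) = g (mS ξ) := by
      intro ξ
      induction ξ using TensorProduct.induction_on with
      | zero => simp
      | tmul s i =>
        rw [LinearMap.rTensor_tmul, hmS, AlgHom.toLinearMap_apply, hmB, map_smul]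
      | add a b ha hb => rw [map_add, map_add, ha, hb, map_add, map_add]
    have h0 : LinearMap.rTensor I g.toLinearMap ξ = 0 :=
      hmBinj (by rw [hcomp, hξ, hx, map_zero])
    have hex := rTensor_exact I (LinearMap.exact_subtype_ker_map g.toLinearMap) hgsurj
    obtain ⟨ζ, hζ⟩ := (hex ξ).mp h0
    have hkill : ∀ y ∈ I.map (algebraMap A' S), ∀ i : I, y ⊗ₜ[A'] i = (0 : S ⊗[A'] I) := by
      intro y hk i
      rw [Ideal.map] at hk
      induction hk using Submodule.span_induction with
      | mem y hy =>
        obtain ⟨a, ha, rfl⟩ := hy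
        rw [Algebra.algebraMap_eq_smul_one, TensorProduct.smul_tmul]
        have : a • i = 0 := Subtype.ext (by simpa using hI2 a ha i i.2)
        rw [this, TensorProduct.tmul_zero]
      | zero => rw [TensorProduct.zero_tmul]
      | add a b _ _ ha hb => rw [TensorProduct.add_tmul, ha, hb, add_zero]
      | smul c a _ ha =>
        rw [← TensorProduct.smul_tmul', ha, smul_zero]
    have hzero : ∀ ζ, LinearMap.rTensor I (LinearMap.ker g.toLinearMap).subtype ζ = 0 := by
      intro ζ
      induction ζ using TensorProduct.induction_on with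
      | zero => simp
      | tmul k i =>
        rw [LinearMap.rTensor_tmul, Submodule.subtype_apply]
        exact hkill _ (hkerIS k k.2) i
      | add a b ha hb => rw [map_add, ha, hb, add_zero]
    rw [← hξ, ← hζ, hzero, map_zero]
  exact Algebra.Etale.of_equiv (AlgEquiv.ofBijective g ⟨hginj, hgsurj⟩)

end Groth.Agent.S9462
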