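import Groth.Statements.S9469
import Groth.Agent.Helper4.EtPairs
import Mathlib

set_option autoImplicit false
universe u
open Hensel

namespace Groth.Agent.S9469


/-- Let R be a ring and p a prime of R. Consider pairs (S, q) with S an étale R-algebra and q a prime of
S lying over p such that κ(p) → κ(q) is bijective; a morphism of pairs is an R-algebra map pulling
the second prime back to the first. Then any two parallel morphisms of pairs φ, ψ : (S₁, q₁) → (S₂,
q₂) are coequalized by a morphism of pairs (S₂, q₂) → (S₃, q₃). -/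
theorem result (R : Type u) [CommRing R]
    (p : Ideal R) [p.IsPrime] (S₁ : Type u) [CommRing S₁] [Algebra R S₁] [Algebra.Etale R S₁] (q₁ : Ideal S₁) [q₁.IsPrime] (hq₁ : p = q₁.comap (algebraMap R S₁))
    (hq₁κ : Function.Bijective (Ideal.ResidueField.map p q₁ (algebraMap R S₁) hq₁))
    (S₂ : Type u) [CommRing S₂] [Algebra R S₂] [Algebra.Etale R S₂] (q₂ : Ideal S₂) [q₂.IsPrime] (hq₂ : p = q₂.comap (algebraMap R S₂))
    (hq₂κ : Function.Bijective (Ideal.ResidueField.map p q₂ (algebraMap R S₂) hq₂))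
    (φ ψ : S₁ →ₐ[R] S₂) (hφ : q₂.comap φ.toRingHom = q₁) (hψ : q₂.comap ψ.toRingHom = q₁) :
    ∃ (S₃ : Type u) (_ : CommRing S₃) (_ : Algebra R S₃) (_ : Algebra.Etale R S₃) (q₃ : Ideal S₃)
      (_ : q₃.IsPrime) (hq₃ : p = q₃.comap (algebraMap R S₃)),
      Function.Bijective (Ideal.ResidueField.map p q₃ (algebraMap R S₃) hq₃) ∧
        ∃ χ : S₂ →ₐ[R] S₃, q₃.comap χ.toRingHom = q₂ ∧ χ.comp φ = χ.comp ψ := by

  classical
  have hunr : Algebra.FormallyUnramified R S₁ := inferInstance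
  obtain ⟨t, ht1, ht2⟩ := Algebra.FormallyUnramified.iff_exists_tensorProduct.mp hunr
  let f₁ := Groth.Agent.Helper4.EtPairs.toRes p q₁ hq₁ hq₁κ
  let f₂ := Groth.Agent.Helper4.EtPairs.toRes p q₂ hq₂ hq₂κ
  have hk₂ : RingHom.ker f₂.toRingHom = q₂ := Groth.Agent.Helper4.EtPairs.ker_toRes p q₂ hq₂ hq₂κ
  have hfφ : f₂.comp φ = f₁ := by
    apply Groth.Agent.Helper4.EtPairs.eq_toRes
    rw [← hφ, ← hk₂]; rfl
  have hfψ : f₂.comp ψ = f₁ := by
    apply Groth.Agent.Helper4.EtPairs.eq_toRes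
    rw [← hψ, ← hk₂]; rfl
  let P : TensorProduct R S₁ S₁ →ₐ[R] S₂ := Algebra.TensorProduct.productMap φ ψ
  set e : S₂ := P t with he
  have hF : f₂.comp P = f₁.comp (Algebra.TensorProduct.lmul' R) := by
    apply Algebra.TensorProduct.ext'
    intro a b
    simp only [AlgHom.comp_apply, P, Algebra.TensorProduct.productMap_apply_tmul,
      Algebra.TensorProduct.lmul'_apply_tmul, map_mul]
    rw [← AlgHom.comp_apply, ← AlgHom.comp_apply, hfφ, hfψ]
  have hfe : f₂ e = 1 := by
    rw [he, ← AlgHom.comp_apply, hF, AlgHom.comp_apply, ht2, map_one]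
  have hes : ∀ s : S₁, (ψ s - φ s) * e = 0 := by
    intro s
    have := congrArg P (ht1 s)
    simpa [P, map_mul, map_sub] using this
  have hu : ∀ y : Submonoid.powers e, IsUnit (f₂ (y : S₂)) := by
    rintro ⟨y, n, rfl⟩
    simp [hfe]
  let F₃ : Localization.Away e →ₐ[R] p.ResidueField :=
    IsLocalization.liftAlgHom (M := Submonoid.powers e) (f := f₂) hu
  haveI : Algebra.Etale S₂ (Localization.Away e) := inferInstance
  haveI : Algebra.Etale R (Localization.Away e) := Algebra.Etale.comp R S₂ _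
  obtain ⟨q₃, hq₃p, hq₃, hbij, hker⟩ := Groth.Agent.Helper4.EtPairs.exists_pair_of_algHom p F₃
  refine ⟨Localization.Away e, inferInstance, inferInstance, inferInstance, q₃, hq₃p, hq₃, hbij,
    IsScalarTower.toAlgHom R S₂ (Localization.Away e), ?_, ?_⟩
  · rw [hker, ← hk₂]
    ext s
    simp only [Ideal.mem_comap, RingHom.mem_ker]
    change F₃ (algebraMap S₂ _ s) = 0 ↔ f₂ s = 0
    simp [F₃]
  · ext s
    simp only [AlgHom.comp_apply, IsScalarTower.coe_toAlgHom']
    symm
    rw [← sub_eq_zero, ← map_sub]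
    rw [IsLocalization.map_eq_zero_iff (Submonoid.powers e)]
    exact ⟨⟨e, Submonoid.mem_powers e⟩, by rw [mul_comm]; exact hes s⟩

end Groth.Agent.S9469
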