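import Groth.Statements.S9470
import Groth.Agent.Helper4.HensPrime
import Groth.Agent.Helper4.EtPairs
import Mathlib

set_option autoImplicit false
universe u
open Hensel

namespace Groth.Agent.S9470


/-- Let R be a ring, p a prime of R and R^h a henselization of the local ring R_p, regarded as an
R-algebra through R_p. For pairs (S, q) with S an étale R-algebra and q a prime of S over p such
that κ(p) → κ(q) is bijective: (a) there is exactly one R-algebra map f : S → R^h under which the
maximal ideal pulls back to q; (b) every element of R^h is f(s) for some such pair, map f and s ∈ S;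
(c) if such an f sends s to 0, then some R-algebra map S → S' to another such pair (S', q'), pulling
q' back to q, already sends s to 0. Together with filteredness of the category of pairs this
expresses that R^h is canonically the colimit of S over all pairs (S, q). (The published statement
also records the equal colimit of the local rings S_q.) -/
theorem result (R : Type u) [CommRing R]
    (p : Ideal R) [p.IsPrime] (Rh : Type u) [CommRing Rh] [IsLocalRing Rh]
    [Algebra (Localization.AtPrime p) Rh] [IsLocalHom (algebraMap (Localization.AtPrime p) Rh)]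
    [Hensel.IsHenselization (Localization.AtPrime p) Rh] [Algebra R Rh]
    [IsScalarTower R (Localization.AtPrime p) Rh] :
    (∀ (S : Type u) [CommRing S] [Algebra R S] [Algebra.Etale R S] (q : Ideal S) [q.IsPrime]
        (hq : p = q.comap (algebraMap R S)),
        Function.Bijective (Ideal.ResidueField.map p q (algebraMap R S) hq) →
          ∃! f : S →ₐ[R] Rh, (IsLocalRing.maximalIdeal Rh).comap f.toRingHom = q) ∧
    (∀ x : Rh, ∃ (S : Type u) (_ : CommRing S) (_ : Algebra R S) (_ : Algebra.Etale R S) (q : Ideal S)
        (_ : q.IsPrime) (hq : p = q.comap (algebraMap R S)),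
        Function.Bijective (Ideal.ResidueField.map p q (algebraMap R S) hq) ∧
          ∃ (f : S →ₐ[R] Rh) (s : S), (IsLocalRing.maximalIdeal Rh).comap f.toRingHom = q ∧ f s = x) ∧
    (∀ (S : Type u) [CommRing S] [Algebra R S] [Algebra.Etale R S] (q : Ideal S) [q.IsPrime]
        (hq : p = q.comap (algebraMap R S)),
        Function.Bijective (Ideal.ResidueField.map p q (algebraMap R S) hq) →
          ∀ (f : S →ₐ[R] Rh), (IsLocalRing.maximalIdeal Rh).comap f.toRingHom = q → ∀ s : S, f s = 0 →
            ∃ (S' : Type u) (_ : CommRing S') (_ : Algebra R S') (_ : Algebra.Etale R S') (q' : Ideal S')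
              (_ : q'.IsPrime) (hq' : p = q'.comap (algebraMap R S')),
              Function.Bijective (Ideal.ResidueField.map p q' (algebraMap R S') hq') ∧
                ∃ φ : S →ₐ[R] S', q'.comap φ.toRingHom = q ∧ φ s = 0) := by

  classical
  open Groth.Agent.Helper1.Hens Groth.Agent.Helper4.EtPairs IsLocalRing in
  letI := Groth.Agent.Helper4.HensPrime.algLoc p
  open Groth.Agent.Helper1.Hens Groth.Agent.Helper4.EtPairs IsLocalRing in
  haveI := Groth.Agent.Helper4.HensPrime.isScalarTower_algLoc p
  open Groth.Agent.Helper1.Hens Groth.Agent.Helper4.EtPairs IsLocalRing in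
  haveI := Groth.Agent.Helper4.HensPrime.isLocalHom_algLoc p
  open Groth.Agent.Helper1.Hens Groth.Agent.Helper4.EtPairs IsLocalRing in
  haveI := Groth.Agent.Helper4.HensPrime.isHenselization p
  open Groth.Agent.Helper1.Hens Groth.Agent.Helper4.EtPairs IsLocalRing in
  let e₀ := Groth.Agent.Helper4.HensPrime.equivOfTwo (Localization.AtPrime p) Rh
    (Hens R p.ResidueField)
  open Groth.Agent.Helper1.Hens Groth.Agent.Helper4.EtPairs IsLocalRing in
  let e : Rh ≃ₐ[R] Hens R p.ResidueField := e₀.restrictScalars R
  open Groth.Agent.Helper1.Hens Groth.Agent.Helper4.EtPairs IsLocalRing in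
  have hmax : ∀ x : Rh, x ∈ maximalIdeal Rh ↔ Hens.γ (e x) = 0 := by
    intro x
    rw [Hens.γ_eq_zero_iff]
    simp only [mem_maximalIdeal, mem_nonunits_iff]
    rw [not_iff_not]
    exact (isUnit_map_iff e x).symm
  open Groth.Agent.Helper1.Hens Groth.Agent.Helper4.EtPairs IsLocalRing in
  have key : ∀ (S : Type u) [CommRing S] [Algebra R S] [Algebra.Etale R S] (q : Ideal S)
      [q.IsPrime] (hq : p = q.comap (algebraMap R S))
      (hκ : Function.Bijective (Ideal.ResidueField.map p q (algebraMap R S) hq))
      (f : S →ₐ[R] Rh), (maximalIdeal Rh).comap f.toRingHom = q ↔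
        (e : Rh →ₐ[R] Hens R p.ResidueField).comp f = Hens.ι (toRes p q hq hκ) := by
    intro S _ _ _ q _ hq hκ f
    constructor
    · intro hf
      apply Hens.ι_unique
      have h1 : (Hens.γ : Hens R p.ResidueField →ₐ[R] p.ResidueField).comp
          ((e : Rh →ₐ[R] Hens R p.ResidueField).comp f) = toRes p q hq hκ := by
        apply eq_toRes
        rw [← hf]
        ext s
        simp only [RingHom.mem_ker, Ideal.mem_comap]
        exact (hmax (f s)).symm
      intro c
      exact congr($h1 c)
    · intro hf
      ext s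
      simp only [Ideal.mem_comap]
      rw [show f.toRingHom s = f s from rfl, hmax]
      have : e (f s) = Hens.ι (toRes p q hq hκ) s := congr($hf s)
      rw [this, Hens.γ_ι, toRes_eq_zero_iff]
  open Groth.Agent.Helper1.Hens Groth.Agent.Helper4.EtPairs IsLocalRing in
  refine ⟨?_, ?_, ?_⟩
  · intro S _ _ _ q _ hq hκ
    refine ⟨(e.symm : Hens R p.ResidueField →ₐ[R] Rh).comp (Hens.ι (toRes p q hq hκ)), ?_, ?_⟩
    · show (maximalIdeal Rh).comap _ = q
      rw [key S q hq hκ]
      ext s
      simp
    · intro f' hf'
      rw [key S q hq hκ] at hf'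
      ext s
      have := congr($hf' s)
      simp only [AlgHom.comp_apply, AlgEquiv.coe_algHom] at this ⊢
      rw [← this, AlgEquiv.symm_apply_apply]
  · intro x
    obtain ⟨C, _, _, _, γ, c, hc⟩ := Hens.exists_ι_eq (e x)
    obtain ⟨q, hqp, hq, hbij, hker⟩ := exists_pair_of_algHom p γ
    refine ⟨C, inferInstance, inferInstance, inferInstance, q, hqp, hq, hbij,
      (e.symm : Hens R p.ResidueField →ₐ[R] Rh).comp (Hens.ι γ), c, ?_, ?_⟩
    · ext s
      simp only [Ideal.mem_comap]
      rw [show ((e.symm : Hens R p.ResidueField →ₐ[R] Rh).comp (Hens.ι γ)).toRingHom s =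
        e.symm (Hens.ι γ s) from rfl, hmax, AlgEquiv.apply_symm_apply, Hens.γ_ι, hker]
      rfl
    · show e.symm (Hens.ι γ c) = x
      rw [hc, AlgEquiv.symm_apply_apply]
  · intro S _ _ _ q _ hq hκ f hf s hs
    rw [key S q hq hκ] at hf
    have h0 : Hens.ι (toRes p q hq hκ) s = 0 := by
      rw [← hf]
      show e (f s) = 0
      rw [hs, map_zero]
    obtain ⟨D, _, _, _, δ, φ, hδ, hφ⟩ := Hens.exists_of_ι_eq_zero (toRes p q hq hκ) s h0
    obtain ⟨q', hq'p, hq', hbij, hker⟩ := exists_pair_of_algHom p δ
    refine ⟨D, inferInstance, inferInstance, inferInstance, q', hq'p, hq', hbij, φ, ?_, hφ⟩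
    ext c
    simp only [Ideal.mem_comap]
    rw [hker, RingHom.mem_ker, show δ.toRingHom (φ.toRingHom c) = δ (φ c) from rfl, hδ,
      toRes_eq_zero_iff]

end Groth.Agent.S9470
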