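import Groth.Statements.S9495
import Mathlib.AlgebraicGeometry.Morphisms.QuasiCompact

set_option autoImplicit false
universe u
open SchMor

namespace Groth.Agent.S9495

open AlgebraicGeometry CategoryTheory

theorem auxA {R A : CommRingCat.{u}} (f : Spec R ⟶ Spec A)
    (H : StableUnderSpecialization (Set.range f)) : IsClosed (Set.range f) := by
  obtain ⟨φ, rfl⟩ := Spec.homEquiv.symm.surjective f
  exact PrimeSpectrum.isClosed_range_of_stableUnderSpecialization φ.hom H

theorem auxB {X : Scheme.{u}} {A : CommRingCat.{u}} (f : X ⟶ Spec A) [QuasiCompact f]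
    (H : StableUnderSpecialization (Set.range f)) : IsClosed (Set.range f) := by
  obtain ⟨R, g, hg⟩ := compactSpace_iff_exists.mp (QuasiCompact.compactSpace_of_compactSpace f)
  have h : Set.range (g ≫ f) = Set.range f := by
    simp only [Scheme.Hom.comp_base, TopCat.coe_comp]
    exact hg.range_comp _
  rw [← h] at H ⊢
  exact auxA _ H

theorem auxC {X Y : Scheme.{u}} [IsAffine Y] (f : X ⟶ Y) [QuasiCompact f]
    (H : StableUnderSpecialization (Set.range f)) : IsClosed (Set.range f) := by
  have e := Y.isoSpec
  have hq : QuasiCompact (f ≫ Y.isoSpec.hom) := inferInstance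
  have hr : Set.range (f ≫ Y.isoSpec.hom) = Y.isoSpec.hom '' Set.range f := by
    simp only [Scheme.Hom.comp_base, TopCat.coe_comp]
    exact Set.range_comp _ _
  have hhomeo := Y.isoSpec.hom.homeomorph
  have : IsClosed (Set.range (f ≫ Y.isoSpec.hom)) := by
    apply auxB
    rw [hr]
    exact H.image (Y.isoSpec.hom.homeomorph.isClosedMap.specializingMap)
  rw [hr] at this
  exact (Y.isoSpec.hom.homeomorph.isClosed_image).mp this

theorem result
    {X S : Scheme.{u}} (f : X ⟶ S) [QuasiCompact f] :
    IsClosed (Set.range f) ↔ StableUnderSpecialization (Set.range f) := by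
  refine ⟨fun h => h.stableUnderSpecialization, fun H => ?_⟩
  rw [TopologicalSpace.IsOpenCover.isClosed_iff_coe_preimage (iSup_affineOpens_eq_top S)]
  intro U
  have h1 : ((Subtype.val : U.1 → S) ⁻¹' Set.range f) = Set.range (f ∣_ U.1) := by
    rw [morphismRestrict_base]
    ext x
    simp only [Set.mem_preimage, Set.mem_range, Set.restrictPreimage]
    constructor
    · rintro ⟨y, hy⟩
      exact ⟨⟨y, by simp [hy]⟩, Subtype.ext hy⟩
    · rintro ⟨y, hy⟩
      exact ⟨y.1, congrArg Subtype.val hy⟩
  rw [h1]
  have : IsAffine (U.1 : Scheme) := U.2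
  apply auxC
  rw [← h1]
  intro x y hxy hx
  exact H (hxy.map continuous_subtype_val) hx

end Groth.Agent.S9495
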