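import Groth.Statements.S9500
import Mathlib

set_option autoImplicit false
universe u
open SchMor

namespace Groth.Agent.S9500

open AlgebraicGeometry in
open CategoryTheory Limits in
/-- a monomorphism to the spectrum of a field from a nonempty scheme is an isomorphism -/
theorem isIso_of_mono_of_field {P : Scheme.{u}} (K : Type u) [Field K]
    (p : P ⟶ Spec (CommRingCat.of K)) [Mono p] [Nonempty P] : IsIso p := by
  have hinj : Function.Injective p := p.injective
  have hsub : Subsingleton P := by
    constructor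
    intro a b
    apply hinj
    exact Subsingleton.elim (α := PrimeSpectrum K) _ _
  have : Surjective p := by
    constructor
    intro s
    obtain ⟨a⟩ := (inferInstance : Nonempty P)
    exact ⟨a, Subsingleton.elim (α := PrimeSpectrum K) _ _⟩
  have : IsAffine P := inferInstance
  have : QuasiCompact p := inferInstance
  have : Flat p := inferInstance
  exact Flat.isIso_of_surjective_of_mono p

open AlgebraicGeometry in
open CategoryTheory Limits in
theorem aux
    {ι : Type u} (k : ι → Type u) [∀ i, Field (k i)]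
    {Y : Scheme.{u}} (f : Y ⟶ ∐ fun i => Spec (CommRingCat.of (k i))) [Mono f] :
    ∃ (J : Set ι) (e : Y ≅ ∐ fun j : J => Spec (CommRingCat.of (k j.1))),
      e.hom ≫ Sigma.desc (fun j : J => Sigma.ι (fun i => Spec (CommRingCat.of (k i))) j.1) = f := by
  let G : ι → Scheme.{u} := fun i => Spec (CommRingCat.of (k i))
  let J : Set ι := {i | ∃ y : Y, f y ∈ Set.range (Sigma.ι G i)}
  let G' : J → Scheme.{u} := fun j => Spec (CommRingCat.of (k j.1))
  let g : ∐ G' ⟶ ∐ G := Sigma.desc (fun j : J => Sigma.ι G j.1)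
  have hg : IsOpenImmersion g := by
    apply isOpenImmersion_sigmaDesc
    intro j j' hjj'
    have hne : j.1 ≠ j'.1 := fun h => hjj' (Subtype.ext h)
    have := disjoint_opensRange_sigmaι G j.1 j'.1 hne
    rw [Function.onFun]
    rw [Set.disjoint_iff]
    rintro x ⟨⟨a, ha⟩, ⟨b, hb⟩⟩
    have hx1 : x ∈ (Sigma.ι G j.1).opensRange := ⟨a, ha⟩
    have hx2 : x ∈ (Sigma.ι G j'.1).opensRange := ⟨b, hb⟩
    have hbot : x ∈ (⊥ : (∐ G).Opens) := this.le_bot ⟨hx1, hx2⟩
    exact hbot.elim
  have hιg : ∀ j : J, Sigma.ι G' j ≫ g = Sigma.ι G j.1 := fun j => Sigma.ι_desc _ _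
  have hrange : Set.range f ⊆ Set.range g := by
    rintro _ ⟨y, rfl⟩
    obtain ⟨i, s, hs⟩ := (sigmaOpenCover G).exists_eq (f y)
    have hi : i ∈ J := ⟨y, s, hs⟩
    refine ⟨Sigma.ι G' ⟨i, hi⟩ s, ?_⟩
    rw [← Scheme.Hom.comp_apply, hιg]
    exact hs
  let h : Y ⟶ ∐ G' := IsOpenImmersion.lift g f hrange
  have hh : h ≫ g = f := IsOpenImmersion.lift_fac _ _ _
  have hmono : Mono h := mono_of_mono_fac hh
  have hiso : IsIso h := by
    change MorphismProperty.isomorphisms Scheme h
    rw [IsZariskiLocalAtTarget.iff_of_openCover (P := MorphismProperty.isomorphisms Scheme)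
      (sigmaOpenCover G')]
    intro j
    change IsIso (pullback.snd h (Sigma.ι G' j))
    have hne : Nonempty ↥(pullback h (Sigma.ι G' j)) := by
      obtain ⟨y, s, hs⟩ := j.2
      have hy : h y = Sigma.ι G' j s := by
        apply g.injective
        rw [← Scheme.Hom.comp_apply, ← Scheme.Hom.comp_apply, hh, hιg]
        exact hs.symm
      obtain ⟨z, -, -⟩ := Scheme.Pullback.exists_preimage_pullback (f := h) (g := Sigma.ι G' j) y s hy
      exact ⟨z⟩
    exact isIso_of_mono_of_field (k j.1) (pullback.snd h (Sigma.ι G' j))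
  exact ⟨J, asIso h, hh⟩

open AlgebraicGeometry in
open CategoryTheory Limits in
/-- Let (k_i)_{i ∈ ι} be a family of fields, X = ∐_i Spec(k_i) the disjoint union, and f : Y → X a
monomorphism of schemes. Then there are a subset J of ι and an isomorphism Y ≅ ∐_{j ∈ J} Spec(k_j)
over X, where ∐_{j ∈ J} Spec(k_j) maps to X by the coproduct inclusions. -/
theorem result
    {ι : Type u} (k : ι → Type u) [∀ i, Field (k i)]
    {Y : Scheme.{u}} (f : Y ⟶ ∐ fun i => Spec (CommRingCat.of (k i))) [Mono f] :
    ∃ (J : Set ι) (e : Y ≅ ∐ fun j : J => Spec (CommRingCat.of (k j.1))),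
      e.hom ≫ Sigma.desc (fun j : J => Sigma.ι (fun i => Spec (CommRingCat.of (k i))) j.1) = f := by
  exact aux k f

end Groth.Agent.S9500
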