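import Groth.Statements.S9499
import Groth.Agent.S9500
import Mathlib

set_option autoImplicit false
universe u
open SchMor

namespace Groth.Agent.S9499

open AlgebraicGeometry in
open CategoryTheory in
theorem aux
    {ι : Type u} [Finite ι] (k : ι → Type u) [∀ i, Field (k i)]
    {X : Scheme.{u}} (f : X ⟶ Spec (CommRingCat.of (Π i, k i))) [Mono f] :
    ∃ (I : Set ι) (e : X ≅ Spec (CommRingCat.of (Π i : I, k i))),
      e.hom ≫ Spec.map (CommRingCat.ofHom (Pi.ringHom fun i : I => Pi.evalRingHom k i.1)) = f := by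
  let R : ι → CommRingCat.{u} := fun i => CommRingCat.of (k i)
  let f' : X ⟶ ∐ fun i => Spec (CommRingCat.of (k i)) := f ≫ inv (sigmaSpec R)
  have : Mono f' := mono_comp _ _
  obtain ⟨J, e, he⟩ := Groth.Agent.S9500.result k f'
  let R' : J → CommRingCat.{u} := fun j => CommRingCat.of (k j.1)
  have hf : f = e.hom ≫ Limits.Sigma.desc (fun j : J => Limits.Sigma.ι (fun i => Spec (CommRingCat.of (k i))) j.1) ≫
      sigmaSpec R := by
    rw [← Category.assoc, he, Category.assoc, IsIso.inv_hom_id, Category.comp_id]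
  have key : sigmaSpec R' ≫ Spec.map (CommRingCat.ofHom (Pi.ringHom fun i : J => Pi.evalRingHom k i.1)) =
      Limits.Sigma.desc (fun j : J => Limits.Sigma.ι (fun i => Spec (CommRingCat.of (k i))) j.1) ≫
      sigmaSpec R := by
    apply Limits.Sigma.hom_ext
    intro j
    rw [← Category.assoc, ι_sigmaSpec, ← Category.assoc, Limits.Sigma.ι_desc, ι_sigmaSpec R j.1,
      ← Spec.map_comp]
    rfl
  refine ⟨J, e ≪≫ asIso (sigmaSpec R'), ?_⟩
  rw [Iso.trans_hom, asIso_hom, Category.assoc, key, hf]

open AlgebraicGeometry in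
open CategoryTheory in
/-- Let (k_i) be a finite family of fields and f : X → Spec(∏_i k_i) a monomorphism of schemes. Then
there are a subset I of the index set and an isomorphism X ≅ Spec(∏_{i∈I} k_i) over Spec(∏_i k_i),
where Spec(∏_{i∈I} k_i) maps to Spec(∏_i k_i) through the projection ring homomorphism ∏_i k_i →
∏_{i∈I} k_i. -/
theorem result
    {ι : Type u} [Finite ι] (k : ι → Type u) [∀ i, Field (k i)]
    {X : Scheme.{u}} (f : X ⟶ Spec (CommRingCat.of (Π i, k i))) [Mono f] :
    ∃ (I : Set ι) (e : X ≅ Spec (CommRingCat.of (Π i : I, k i))),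
      e.hom ≫ Spec.map (CommRingCat.ofHom (Pi.ringHom fun i : I => Pi.evalRingHom k i.1)) = f := by
  exact aux k f

end Groth.Agent.S9499
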