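import Groth.Statements.S9504
import Groth.Agent.Helper1.TildeExt

set_option autoImplicit false
universe u
open AffSch

namespace Groth.Agent.S9504

open AlgebraicGeometry in
open CategoryTheory in
/-- Let A be a commutative ring, M an A-module and n a natural number. On X = Spec A the O_X-module
associated to the A-module ⋀^n M is an n-th exterior power of M~: on every affine open U its
sections are identified, linearly over Γ(U, O_X), with the n-th exterior power of the sections of M~
over U, compatibly with restrictions on decomposable elements. -/
theorem result
    (A : Type u) [CommRing A] (M : Type u) [AddCommGroup M] [Module A M] (n : ℕ) :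
    ExtPow.IsExtPow n (tilde (R := CommRingCat.of A) (ModuleCat.of A M))
      (tilde (R := CommRingCat.of A) (ModuleCat.of A ↥(⋀[A]^n M))) := by
  refine ⟨fun U => Groth.Agent.Helper1.TildeExt.phi (R := CommRingCat.of A) (ModuleCat.of A M) n U.2, ?_⟩
  intro U V h e
  exact Groth.Agent.Helper1.TildeExt.phi_compat (R := CommRingCat.of A) (ModuleCat.of A M) n U.2 V.2 h e

end Groth.Agent.S9504
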