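import Groth.Statements.S9508
import Mathlib

set_option autoImplicit false
universe u
open SchMor

namespace Groth.Agent.S9508

open AlgebraicGeometry in
/-- An open subset of a scheme in which any two affine opens meet in a quasi-compact set is
quasi-separated. -/
theorem isQuasiSeparated_of_affine (X : Scheme.{u}) (O : X.Opens)
    (H : ∀ U V : X.affineOpens, (U : X.Opens) ≤ O → (V : X.Opens) ≤ O →
      IsCompact ((U : Set X) ∩ (V : Set X))) :
    IsQuasiSeparated (O : Set X) := by
  -- first step: affine against compact
  have step1 : ∀ (U : X.affineOpens), (U : X.Opens) ≤ O → ∀ (V : X.Opens), IsCompact (V : Set X) →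
      V ≤ O → IsCompact ((U : Set X) ∩ (V : Set X)) := by
    intro U hU V hV
    refine compact_open_induction_on (P := fun V => V ≤ O → IsCompact ((U : Set X) ∩ (V : Set X)))
      V hV ?_ ?_
    · intro _; simp
    · intro S _ U' ih hle
      have h1 : S ≤ O := le_sup_left.trans hle
      have h2 : (U' : X.Opens) ≤ O := le_sup_right.trans hle
      change IsCompact ((U : Set X) ∩ ((S : Set X) ∪ (U' : Set X)))
      rw [Set.inter_union_distrib_left]
      exact (ih h1).union (H U U' hU h2)
  have step2 : ∀ (U : X.Opens), IsCompact (U : Set X) → U ≤ O →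
      ∀ (V : X.Opens), IsCompact (V : Set X) → V ≤ O → IsCompact ((U : Set X) ∩ (V : Set X)) := by
    intro U hU
    refine compact_open_induction_on (P := fun U => U ≤ O →
      ∀ (V : X.Opens), IsCompact (V : Set X) → V ≤ O → IsCompact ((U : Set X) ∩ (V : Set X)))
      U hU ?_ ?_
    · intro _ V _ _; simp
    · intro S _ U' ih hle V hV hVO
      have h1 : S ≤ O := le_sup_left.trans hle
      have h2 : (U' : X.Opens) ≤ O := le_sup_right.trans hle
      change IsCompact (((S : Set X) ∪ (U' : Set X)) ∩ (V : Set X))
      rw [Set.union_inter_distrib_right]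
      exact (ih h1 V hV hVO).union (step1 U' h2 V hV hVO)
  intro U V hUO hUo hUc hVO hVo hVc
  exact step2 ⟨U, hUo⟩ hUc hUO ⟨V, hVo⟩ hVc hVO

set_option backward.isDefEq.respectTransparency.types false in
open AlgebraicGeometry in
open CategoryTheory in
/-- (1) ⇔ (2): A morphism of schemes f : X → S is quasi-separated if and only if, whenever two affine
opens U and V of X both lie in the preimage f⁻¹(W) of one affine open W of S, their intersection U ∩
V is quasi-compact (equivalently, is covered by finitely many affine opens). -/
theorem result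
    {X S : Scheme.{u}} (f : X ⟶ S) :
    QuasiSeparated f ↔
      ∀ (U V : X.affineOpens) (W : S.affineOpens),
        (U : X.Opens) ≤ f ⁻¹ᵁ (W : S.Opens) → (V : X.Opens) ≤ f ⁻¹ᵁ (W : S.Opens) →
          IsCompact ((U : Set X) ∩ (V : Set X)) := by
  constructor
  · intro hf U V W hU hV
    have := f.isQuasiSeparated_preimage W.2.isQuasiSeparated
    exact this U V hU U.1.2 U.2.isCompact hV V.1.2 V.2.isCompact
  · intro H
    refine HasAffineProperty.of_iSup_eq_top (P := @QuasiSeparated)
      (Q := fun X _ _ _ ↦ QuasiSeparatedSpace X) (fun W : S.affineOpens => W)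
      (iSup_affineOpens_eq_top S) fun W => ?_
    change QuasiSeparatedSpace ↥(f ⁻¹ᵁ (W : S.Opens))
    refine (isQuasiSeparated_iff_quasiSeparatedSpace _ (f ⁻¹ᵁ (W : S.Opens)).2).mp ?_
    exact isQuasiSeparated_of_affine X _ fun U V hU hV => H U V W hU hV

end Groth.Agent.S9508
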