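import Groth.Statements.S9509
import Mathlib

set_option autoImplicit false
universe u
open SchMor

namespace Groth.Agent.S9509

set_option backward.isDefEq.respectTransparency.types false in
open AlgebraicGeometry in
open CategoryTheory in
/-- (3) ⇒ (1): Let f : X → S be a morphism of schemes. Suppose S is covered by affine opens W_i, each
preimage f⁻¹(W_i) is covered by affine opens V_{i,j}, and any two V_{i,j}, V_{i,j'} with the same
index i meet in a quasi-compact open (one covered by finitely many affine opens). Then f is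
quasi-separated. -/
theorem result
    {X S : Scheme.{u}} (f : X ⟶ S) {ι : Type u} (W : ι → S.affineOpens)
    (hW : ⨆ i, (W i : S.Opens) = ⊤) {κ : ι → Type u} (V : ∀ i, κ i → X.affineOpens)
    (hV : ∀ i, ⨆ j, (V i j : X.Opens) = f ⁻¹ᵁ (W i : S.Opens))
    (hVV : ∀ i (j j' : κ i), IsCompact ((V i j : Set X) ∩ (V i j' : Set X))) :
    QuasiSeparated f := by
  refine HasAffineProperty.of_iSup_eq_top (P := @QuasiSeparated)
    (Q := fun X _ _ _ ↦ QuasiSeparatedSpace X) W hW fun i => ?_
  change QuasiSeparatedSpace ↥(f ⁻¹ᵁ (W i : S.Opens))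
  set O : X.Opens := f ⁻¹ᵁ (W i : S.Opens) with hO
  have hle : ∀ j, (V i j : X.Opens) ≤ O := fun j => by
    rw [hO, ← hV i]; exact le_iSup (fun j => (V i j : X.Opens)) j
  refine Scheme.quasiSeparatedSpace_of_isOpenCover (X := O.toScheme)
    (fun j => O.ι ⁻¹ᵁ (V i j : X.Opens)) ?_ ?_ ?_
  · change (⨆ j, O.ι ⁻¹ᵁ (V i j : X.Opens)) = ⊤
    rw [← Scheme.Hom.preimage_iSup, hV i, ← hO, Scheme.Opens.ι_preimage_self]
  · intro j
    refine (V i j).2.preimage_of_isOpenImmersion O.ι ?_
    rw [Scheme.Opens.opensRange_ι]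
    exact hle j
  · intro j j'
    have hemb : Topology.IsInducing (O.ι : O.toScheme → X) :=
      O.ι.isOpenEmbedding.isInducing
    have : ((O.ι ⁻¹ᵁ (V i j : X.Opens) : O.toScheme.Opens) : Set O.toScheme) ∩
        ((O.ι ⁻¹ᵁ (V i j' : X.Opens) : O.toScheme.Opens) : Set O.toScheme) =
        (O.ι : O.toScheme → X) ⁻¹' ((V i j : Set X) ∩ (V i j' : Set X)) := rfl
    rw [this, hemb.isCompact_preimage_iff]
    · exact hVV i j j'
    · intro x hx
      have : x ∈ (O : Set X) := hle j hx.1
      rw [← Scheme.Opens.range_ι] at this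
      exact this

end Groth.Agent.S9509
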