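import Groth.Statements.S9511
import Mathlib.AlgebraicGeometry.Limits

set_option autoImplicit false
universe u
open LRSImm

namespace Groth.Agent.S9511

open AlgebraicGeometry in
open CategoryTheory TopologicalSpace in
theorem aux
    (X : LocallyRingedSpace.{u}) (U V : Opens X.toTopCat) (hUV : IsCompl U V)
    (A B : CommRingCat.{u})
    (eU : X.restrict U.isOpenEmbedding ≅ (Spec A).toLocallyRingedSpace)
    (eV : X.restrict V.isOpenEmbedding ≅ (Spec B).toLocallyRingedSpace) :
    IsIso X.toΓSpec := by
  have hcov : ∀ x : X.toTopCat, x ∈ U ∨ x ∈ V := by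
    intro x
    have : x ∈ (U ⊔ V : Opens X.toTopCat) := by rw [hUV.sup_eq_top]; trivial
    exact this
  let X' : Scheme.{u} :=
    { toLocallyRingedSpace := X
      local_affine := by
        intro x
        rcases hcov x with hx | hx
        · exact ⟨⟨U, hx⟩, A, ⟨eU⟩⟩
        · exact ⟨⟨V, hx⟩, B, ⟨eV⟩⟩ }
  let U' : X'.Opens := U
  let V' : X'.Opens := V
  have hU : IsAffineOpen U' := by
    let e : U'.toScheme ≅ Spec A :=
      Scheme.fullyFaithfulForgetToLocallyRingedSpace.preimageIso eU
    exact IsAffine.of_isIso e.hom
  have hV : IsAffineOpen V' := by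
    let e : V'.toScheme ≅ Spec B :=
      Scheme.fullyFaithfulForgetToLocallyRingedSpace.preimageIso eV
    exact IsAffine.of_isIso e.hom
  have hdisj : Disjoint U' V' := hUV.disjoint
  have htop : IsAffineOpen (U' ⊔ V') := hU.sup_of_disjoint hV hdisj
  have hsup : U' ⊔ V' = ⊤ := hUV.sup_eq_top
  rw [hsup] at htop
  haveI : IsAffine X' := by
    haveI : IsAffine (⊤ : X'.Opens).toScheme := htop
    exact IsAffine.of_isIso X'.topIso.inv
  have : IsIso X'.toSpecΓ := inferInstance
  have h2 : IsIso (Scheme.forgetToLocallyRingedSpace.map X'.toSpecΓ) := inferInstance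
  exact h2

open AlgebraicGeometry in
open CategoryTheory TopologicalSpace in
/-- Let X be a locally ringed space and U, V ⊆ X open with X = U ⊔ V (they cover X and are disjoint),
such that the open subspaces X|_U and X|_V are affine schemes. Then X is an affine scheme: the
canonical morphism X → Spec Γ(X, O_X) is an isomorphism of locally ringed spaces. -/
theorem result
    (X : LocallyRingedSpace.{u}) (U V : Opens X.toTopCat) (hUV : IsCompl U V)
    (A B : CommRingCat.{u})
    (eU : X.restrict U.isOpenEmbedding ≅ (Spec A).toLocallyRingedSpace)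
    (eV : X.restrict V.isOpenEmbedding ≅ (Spec B).toLocallyRingedSpace) :
    IsIso X.toΓSpec := by
  exact aux X U V hUV A B eU eV

end Groth.Agent.S9511
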