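import Groth.Statements.S9522
import Groth.Agent.Helper1.Dev28

set_option autoImplicit false
universe u
open CategoryTheory CategoryTheory.Limits AlgebraicGeometry
attribute [local instance] HasDerivedCategory.standard
open Coherent

namespace Groth.Agent.S9522

/-- Let X be a Noetherian scheme, Z₀ ⊆ X an irreducible closed subset with generic point ξ, and P an
isomorphism-invariant property of O_X-modules that holds for every zero module and such that (1) for
every short exact sequence 0 → F₁ → F → F₂ → 0 of coherent modules, P(F₁) and P(F₂) imply P(F); (2)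
for coherent F, P(F^⊕r) for some r ≥ 1 implies P(F); (3) P holds for i_*I for every closed immersion
i : Z → X with Z integral, i(Z) a proper subset of Z₀, and every quasi-coherent ideal sheaf I ⊆ O_Z;
(4) there is a coherent module G with support equal to Z₀, whose stalk at ξ is annihilated by the
maximal ideal of O_{X,ξ}, and such that for every quasi-coherent sheaf of ideals J on X with ξ ∉
V(J) there is a quasi-coherent submodule G' ⊆ J·G whose inclusion into G induces an isomorphism on
stalks at ξ and for which P holds. Then P holds for every coherent O_X-module whose support is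
contained in Z₀. (The published statement does not ask that P hold for the zero module, although its
proof uses this for a filtration with no steps; without it the conclusion fails for the zero module
when Z₀ is a closed point: on the spectrum of a field, with P(F) meaning that F is nonzero, every
other hypothesis holds. This row assumes that P holds for every zero module.) -/
theorem result (X : Scheme.{u}) [IsNoetherian X]
    (Z₀ : Set X) (hZ₀ : IsClosed Z₀) (hirr : IsIrreducible Z₀) (ξ : X) (hξ : ξ ∈ Z₀ ∧ closure {ξ} = Z₀)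
    (P : X.Modules → Prop) (hP : ∀ M N : X.Modules, Nonempty (M ≅ N) → P M → P N)
    (h₀ : ∀ M : X.Modules, IsZero M → P M)
    (h₁ : ∀ S : ShortComplex X.Modules, S.ShortExact → Coh.IsCoh S.X₁ → Coh.IsCoh S.X₂ → Coh.IsCoh S.X₃ →
      P S.X₁ → P S.X₃ → P S.X₂)
    (h₂ : ∀ (F : X.Modules) (r : ℕ), Coh.IsCoh F → 1 ≤ r → P (∐ fun _ : Fin r => F) → P F)
    (h₃ : ∀ (Z : Scheme.{u}) (i : Z ⟶ X), IsClosedImmersion i → IsIntegral Z →
      Set.range ⇑i ⊆ Z₀ → Set.range ⇑i ≠ Z₀ →
      ∀ (I : Z.Modules) (ι : I ⟶ Coh.structureModule Z), Mono ι → Coh.IsQCoh I → P ((Coh.push i).obj I))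
    (h₄ : ∃ G : X.Modules, Coh.IsCoh G ∧ CohB1.support G = Z₀ ∧
      (∀ a ∈ IsLocalRing.maximalIdeal (X.presheaf.stalk ξ), ∀ m : ↑(G.presheaf.stalk ξ), a • m = 0) ∧
      ∀ J : X.IdealSheafData, ξ ∉ (J.support : Set X) →
        ∃ (G' : X.Modules) (ι' : G' ⟶ (Dual3.idealMul J).obj G), Mono ι' ∧ Coh.IsQCoh G' ∧
          IsIso ((TopCat.Presheaf.stalkFunctor _ ξ).map (ι' ≫ Dual3.idealMulι J G).mapPresheaf) ∧ P G')
    (F : X.Modules) (hF : Coh.IsCoh F) (hsupp : CohB1.support F ⊆ Z₀) : P F := by
  obtain ⟨G₀, hG₀, hs₀, hann₀, hdeep₀⟩ := h₄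
  let K : ObjectProperty X.Modules := fun N => P N ∧ CohB1.support N ⊆ Z₀
  have hK : Groth.Agent.Helper1.Dev.HalfClass K :=
    { iso := fun {A B} e h => ⟨hP _ _ ⟨e⟩ h.1, by
        rw [← Groth.Agent.Helper1.Dev.support_eq_of_iso e]; exact h.2⟩
      zero := fun N hN => ⟨h₀ N hN, by
        rw [Groth.Agent.Helper1.Dev.support_eq_empty_of_isZero N hN]
        exact Set.empty_subset _⟩
      ext := fun S hS c₁ c₂ c₃ a b => ⟨h₁ S hS c₁ c₂ c₃ a.1 b.1,
        (Groth.Agent.Helper1.Dev.support_subset_union S hS).trans (Set.union_subset a.2 b.2)⟩ }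
  have hroot : ∀ (F : X.Modules) (r : ℕ), Coh.IsCoh F → 1 ≤ r → K (∐ fun _ : Fin r => F) → K F := by
    intro F r hF hr hKF
    refine ⟨h₂ F r hF hr hKF.1, ?_⟩
    have hfac : Sigma.ι (fun _ : Fin r => F) ⟨0, hr⟩ ≫
        Groth.Agent.Helper1.HHSum.proj (fun _ : Fin r => F) ⟨0, hr⟩ = 𝟙 F := by
      rw [Groth.Agent.Helper1.HHSum.ι_proj, dif_pos rfl]
      rfl
    haveI : Mono (Sigma.ι (fun _ : Fin r => F) ⟨0, hr⟩) := mono_of_mono_fac hfac
    exact (Groth.Agent.Helper1.Dev.support_subset_of_mono
      (Sigma.ι (fun _ : Fin r => F) ⟨0, hr⟩)).trans hKF.2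
  refine (hK.core ⟨Z₀, hZ₀⟩ ?_ F hF hsupp).1
  intro Y hYZ hirrY hB E hE
  have hint := Groth.Agent.Helper1.Dev.isIntegral_subscheme Y hirrY
  have := Groth.Agent.Helper1.Dev.isNoetherian_of_isClosedImmersion
    (Scheme.IdealSheafData.vanishingIdeal Y).subschemeι
  have hr := Groth.Agent.Helper1.Dev.range_ι_vanishingIdeal Y
  have hK'' := Groth.Agent.Helper1.Dev.pushClass_halfClass
    (Scheme.IdealSheafData.vanishingIdeal Y).subschemeι hK
  have hsmall := fun E hE hs => Groth.Agent.Helper1.Dev.small_of_below (K := K) Y hB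
    (genericPoint (Scheme.IdealSheafData.vanishingIdeal Y).subscheme) E hE hs
  refine hK''.integral_main ?_ hsmall E hE
  by_cases hYeq : (Y : Set X) = Z₀
  · have hξ' := Groth.Agent.Helper1.Dev.eq_ι_genericPoint Y ξ (by rw [hYeq]; exact hξ.2)
    refine Groth.Agent.Helper1.Dev.ideals_of_deep hK Y hB hroot G₀ hG₀ ?_ ?_ ?_
    · rw [← hξ']
      have : ξ ∈ CohB1.support G₀ := by rw [hs₀]; exact hξ.1
      exact this
    · rw [← hξ']
      exact hann₀
    · rw [← hξ']
      intro J hJ
      obtain ⟨G', ι', hι', hq', hiso, hPG'⟩ := hdeep₀ J hJ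
      refine ⟨G', ι', hι', hq', (ConcreteCategory.isIso_iff_bijective _).1 hiso, hPG', ?_⟩
      haveI := hι'
      have h1 : CohB1.support G' ⊆ CohB1.support G₀ :=
        Groth.Agent.Helper1.Dev.support_subset_of_mono (ι' ≫ Dual3.idealMulι J G₀)
      exact h1.trans hs₀.le
  · intro I ι hι hI
    refine ⟨h₃ _ (Scheme.IdealSheafData.vanishingIdeal Y).subschemeι inferInstance hint
      (by rw [hr]; exact hYZ) (by rw [hr]; exact hYeq) I ι hι hI, ?_⟩
    refine (Groth.Agent.Helper1.Dev.support_push_subset _ _).trans ?_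
    rw [hr]
    exact hYZ

end Groth.Agent.S9522
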