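import Groth.Statements.S9535
import Groth.Agent.Helper1.AffAlgz3
import Groth.Agent.Helper1.Dev3

set_option autoImplicit false
universe u
open CategoryTheory CategoryTheory.Limits AlgebraicGeometry Opposite
open Algz

namespace Groth.Agent.S9535

/-- (6) ⇒ (2): Let A be a Noetherian ring complete for the I-adic topology, I ⊆ 𝔞 ideals, U = Spec A ∖
V(𝔞) and (F_n) an object of Coh(U, I O_U). If (F_n) extends to Spec A, then (F_n) is isomorphic to
the completion of a coherent O_U-module. -/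
theorem result (A : Type u) [CommRing A] [IsNoetherianRing A] (I 𝔞 : Ideal A) (hI𝔞 : I ≤ 𝔞)
    (G : ℕᵒᵖ ⥤ (↑(LocCoh.puncturedOpen A 𝔞) : Scheme.{u}).Modules) (hG : Formal.IsCohFormal I G) [IsAdicComplete I A]
    (h : @Algz.Extends A _ (Spec (CommRingCat.of A)) ⟨𝟙 (Spec (CommRingCat.of A))⟩ I (LocCoh.puncturedOpen A 𝔞) G) :
    ∃ F : (↑(LocCoh.puncturedOpen A 𝔞) : Scheme.{u}).Modules, Coh.IsCoh F ∧ Nonempty (Formal.completion I F ≅ G) := by
  obtain ⟨G', hG', ⟨r⟩⟩ := h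
  letI iX : (Spec (CommRingCat.of A)).Over (Spec (CommRingCat.of A)) := ⟨𝟙 _⟩
  haveI : (LocCoh.puncturedOpen A 𝔞).ι.IsOver (Spec (CommRingCat.of A)) := ⟨Category.comp_id _⟩
  obtain ⟨𝓜, h𝓜, ⟨e⟩⟩ := Groth.Agent.Helper1.AffAlgz.exists_coh_completion_iso (I := I) hG'
  refine ⟨(Scheme.Modules.restrictFunctor (LocCoh.puncturedOpen A 𝔞).ι).obj 𝓜,
    Groth.Agent.Helper1.Dev.isCoh_restrict h𝓜 _, ?_⟩
  obtain ⟨c⟩ := Groth.Agent.Helper1.Form.exists_completion_restrict_iso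
    (LocCoh.puncturedOpen A 𝔞).ι I 𝓜
  exact ⟨c ≪≫ Functor.isoWhiskerRight e
    (Scheme.Modules.restrictFunctor (LocCoh.puncturedOpen A 𝔞).ι) ≪≫ r⟩

end Groth.Agent.S9535
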