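import Groth.Statements.S9570
import Groth.Agent.Helper4.SN265
import Groth.Agent.Helper1.ProjVanish
import Mathlib

set_option autoImplicit false
universe u
open CategoryTheory CategoryTheory.Limits AlgebraicGeometry TopologicalSpace Opposite
open Constr

namespace Groth.Agent.S9570


/-- Let R be a ring and i : Z → P^n_R a closed immersion. For d ≥ 0 let I_d be the kernel of the map
from the degree-d forms of R[T_0, …, T_n] to the global sections of i^*O(d), sending a form F to the
inverse image of the global section F of O(d). Then I = ⊕ I_d is a graded ideal and Z is the closed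
subscheme Proj(R[T_0, …, T_n]/I) of P^n_R: for every surjective homomorphism of graded rings φ from
R[T_0, …, T_n] onto a graded ring B whose kernel in each degree d is exactly I_d, there is an
isomorphism Z ≅ Proj B whose composite with the morphism Proj B → P^n_R induced by φ is i. -/
theorem result {R : Type u} [CommRing R] (n : ℕ)
    {Z : Scheme.{u}} (i : Z ⟶ CohB1.ProjSpace n R) [IsClosedImmersion i]
    {B : Type u} [CommRing B] [Algebra R B] (ℬ : ℕ → Submodule R B) [GradedAlgebra ℬ]
    (φ : CohB1.polyGrading n R →+*ᵍ ℬ) (hφs : Function.Surjective φ)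
    (hker : ∀ (d : ℕ) (F : MvPolynomial (Fin (n + 1)) R) (hF : F ∈ CohB1.polyGrading n R d),
      φ F = 0 ↔ ProjUP.pullSec i (Twist.twistProjSpace n R d) (Twist.globalOf (CohB1.polyGrading n R) ⟨F, hF⟩) = 0)
    (hφ : HomogeneousIdeal.irrelevant ℬ ≤ (HomogeneousIdeal.irrelevant (CohB1.polyGrading n R)).map φ) :
    ∃ e : Z ≅ Proj ℬ, e.hom ≫ Proj.map φ hφ = i := by

  classical
  have hX1 : ∀ l : Fin (n + 1), (MvPolynomial.X l : MvPolynomial (Fin (n + 1)) R) ∈
      CohB1.polyGrading n R 1 := fun l => MvPolynomial.isHomogeneous_X R l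
  have hirr := Groth.Agent.Helper1.ProjVanish.irrelevant_eq_span_of_adjoin (CohB1.polyGrading n R)
    (fun l : Fin (n + 1) => (MvPolynomial.X l : MvPolynomial (Fin (n + 1)) R)) hX1
    (MvPolynomial.adjoin_range_X)
  have hci : @IsClosedImmersion Z (Proj (CohB1.polyGrading n R)) i := ‹IsClosedImmersion i›
  refine @Groth.Agent.Helper4.SN265.main R _ _ _ _ (CohB1.polyGrading n R) _ Z i B _ _ ℬ _ φ
    (fun d F hF => hker d F hF)
    (Finset.univ.image (fun l : Fin (n + 1) => (MvPolynomial.X l : MvPolynomial (Fin (n + 1)) R)))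
    (fun f hf => ?_) hci ?_ hφs hφ
  · obtain ⟨l, -, rfl⟩ := Finset.mem_image.mp hf
    exact hX1 l
  · rw [hirr, Finset.coe_image, Finset.coe_univ, Set.image_univ]

end Groth.Agent.S9570
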