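import Groth.Statements.S9576
import Mathlib

set_option autoImplicit false
universe u
open CategoryTheory CategoryTheory.Limits AlgebraicGeometry TopologicalSpace Opposite
open Constr

namespace Groth.Agent.S9576


/-- For a ring R and n ≥ 0, projective n-space Proj R[T_0, …, T_n] is covered by the n + 1 standard
opens D_+(T_i), and each D_+(T_i) = Spec R[T_0, …, T_n]_(T_i) is an affine n-space: the ring
homomorphism from the polynomial ring over R in the variables T_j, j ≠ i, to the degree-zero
localization R[T_0, …, T_n]_(T_i), sending T_j to T_j/T_i and a constant r to r/1, is bijective.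
(The published statement is over ℤ; this row is over any ring R.) -/
theorem result (n : ℕ) (R : Type u) [CommRing R] :
    (⨆ i : Fin (n + 1), Proj.basicOpen (CohB1.polyGrading n R) (MvPolynomial.X i)) = ⊤ ∧
      ∀ i : Fin (n + 1), Function.Bijective
        (MvPolynomial.eval₂Hom
          ((HomogeneousLocalization.fromZeroRingHom (CohB1.polyGrading n R) (Submonoid.powers (MvPolynomial.X i))).comp
            (algebraMap R (CohB1.polyGrading n R 0)))
          (fun j : {j : Fin (n + 1) // j ≠ i} =>
            (HomogeneousLocalization.mk ⟨1, ⟨MvPolynomial.X j.1, MvPolynomial.isHomogeneous_X R j.1⟩,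
              ⟨MvPolynomial.X i, MvPolynomial.isHomogeneous_X R i⟩, ⟨1, pow_one _⟩⟩ :
              HomogeneousLocalization.Away (CohB1.polyGrading n R) (MvPolynomial.X i)))) := by

  classical
  constructor
  · apply Proj.iSup_basicOpen_eq_top' (CohB1.polyGrading n R) (fun i : Fin (n + 1) => (MvPolynomial.X i : MvPolynomial (Fin (n + 1)) R))
    · intro i
      exact ⟨1, MvPolynomial.isHomogeneous_X R i⟩
    · rw [eq_top_iff]
      rintro p -
      induction p using MvPolynomial.induction_on with
      | C r =>
        exact Subalgebra.algebraMap_mem _ (⟨MvPolynomial.C r, MvPolynomial.isHomogeneous_C _ r⟩ : CohB1.polyGrading n R 0)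
      | add p q hp hq => exact Subalgebra.add_mem _ hp hq
      | mul_X p j hp => exact Subalgebra.mul_mem _ hp (Algebra.subset_adjoin ⟨j, rfl⟩)
  · intro i
    set 𝒜 := CohB1.polyGrading n R with h𝒜
    set Φ := (MvPolynomial.eval₂Hom
          ((HomogeneousLocalization.fromZeroRingHom 𝒜 (Submonoid.powers (MvPolynomial.X i))).comp
            (algebraMap R (𝒜 0)))
          (fun j : {j : Fin (n + 1) // j ≠ i} =>
            (HomogeneousLocalization.mk ⟨1, ⟨MvPolynomial.X j.1, MvPolynomial.isHomogeneous_X R j.1⟩,
              ⟨MvPolynomial.X i, MvPolynomial.isHomogeneous_X R i⟩, ⟨1, pow_one _⟩⟩ :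
              HomogeneousLocalization.Away 𝒜 (MvPolynomial.X i)))) with hΦ
    have hXi : (MvPolynomial.X i : MvPolynomial (Fin (n + 1)) R) ∈ Submonoid.powers (MvPolynomial.X i : MvPolynomial (Fin (n + 1)) R) := ⟨1, pow_one _⟩
    -- the fractions X_j / X_i
    let t : Fin (n + 1) → Localization.Away (MvPolynomial.X i : MvPolynomial (Fin (n + 1)) R) :=
      fun j => Localization.mk (MvPolynomial.X j) ⟨MvPolynomial.X i, hXi⟩
    have hz0 : ∀ c : 𝒜 0, (HomogeneousLocalization.fromZeroRingHom 𝒜 (Submonoid.powers (MvPolynomial.X i : MvPolynomial (Fin (n + 1)) R)) c).val =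
        Localization.mk (c : MvPolynomial (Fin (n + 1)) R) 1 := fun c => rfl
    have hΦC : ∀ r : R, (Φ (MvPolynomial.C r)).val = algebraMap _ _ (MvPolynomial.C r : MvPolynomial (Fin (n + 1)) R) := by
      intro r
      rw [hΦ, MvPolynomial.eval₂Hom_C, RingHom.comp_apply, hz0, ← Localization.mk_one_eq_algebraMap]
      rfl
    have hΦX : ∀ j : {j : Fin (n + 1) // j ≠ i}, (Φ (MvPolynomial.X j)).val = t j.1 := by
      intro j
      rw [hΦ, MvPolynomial.eval₂Hom_X', HomogeneousLocalization.val_mk]
    have htspec : ∀ j, t j * algebraMap _ _ (MvPolynomial.X i : MvPolynomial (Fin (n + 1)) R) = algebraMap _ _ (MvPolynomial.X j : MvPolynomial (Fin (n + 1)) R) := by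
      intro j
      simp only [t]
      rw [Localization.mk_eq_mk']
      exact IsLocalization.mk'_spec _ _ _
    have hti : t i = 1 := by
      simp only [t]
      exact Localization.mk_self ⟨MvPolynomial.X i, hXi⟩
    constructor
    · -- injectivity via a retraction
      let ρ : MvPolynomial (Fin (n + 1)) R →+* MvPolynomial {j : Fin (n + 1) // j ≠ i} R :=
        MvPolynomial.eval₂Hom MvPolynomial.C (fun j => if h : j = i then 1 else MvPolynomial.X ⟨j, h⟩)
      have hρi : ρ (MvPolynomial.X i) = 1 := by simp [ρ]
      have hρu : IsUnit (ρ (MvPolynomial.X i)) := by rw [hρi]; exact isUnit_one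
      let L : Localization.Away (MvPolynomial.X i : MvPolynomial (Fin (n + 1)) R) →+* MvPolynomial {j : Fin (n + 1) // j ≠ i} R :=
        IsLocalization.Away.lift (MvPolynomial.X i) hρu
      have hL : ∀ a, L (algebraMap _ _ a) = ρ a := fun a => IsLocalization.Away.lift_eq _ hρu a
      let σ : HomogeneousLocalization.Away 𝒜 (MvPolynomial.X i) →+* MvPolynomial {j : Fin (n + 1) // j ≠ i} R :=
        L.comp (algebraMap _ _)
      have hσ : σ.comp Φ = RingHom.id _ := by
        apply MvPolynomial.ringHom_ext
        · intro r
          simp only [σ, RingHom.comp_apply, HomogeneousLocalization.algebraMap_apply, RingHom.id_apply]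
          rw [hΦC, hL]
          simp [ρ]
        · intro j
          simp only [σ, RingHom.comp_apply, HomogeneousLocalization.algebraMap_apply, RingHom.id_apply]
          rw [hΦX]
          have h1 : L (t j.1) = L (t j.1) * ρ (MvPolynomial.X i) := by rw [hρi, mul_one]
          rw [h1, ← hL, ← map_mul, htspec, hL]
          simp [ρ, j.2]
      intro p q hpq
      have := congrArg σ hpq
      rwa [← RingHom.comp_apply, ← RingHom.comp_apply, hσ] at this
    · -- surjectivity
      have hX1 : (MvPolynomial.X i : MvPolynomial (Fin (n + 1)) R) ∈ 𝒜 1 := MvPolynomial.isHomogeneous_X R i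
      have hadj : Algebra.adjoin (𝒜 0) (Set.range (fun j : Fin (n + 1) => (MvPolynomial.X j : MvPolynomial (Fin (n + 1)) R))) = ⊤ := by
        rw [eq_top_iff]
        rintro p -
        induction p using MvPolynomial.induction_on with
        | C r =>
          exact Subalgebra.algebraMap_mem _ (⟨MvPolynomial.C r, MvPolynomial.isHomogeneous_C _ r⟩ : 𝒜 0)
        | add p q hp hq => exact Subalgebra.add_mem _ hp hq
        | mul_X p j hp => exact Subalgebra.mul_mem _ hp (Algebra.subset_adjoin ⟨j, rfl⟩)
      have hspan := HomogeneousLocalization.Away.span_mk_prod_pow_eq_top (𝒜 := 𝒜) hX1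
        (fun j : Fin (n + 1) => (MvPolynomial.X j : MvPolynomial (Fin (n + 1)) R)) hadj (fun _ => 1)
        (fun j => MvPolynomial.isHomogeneous_X R j)
      -- the range of Φ as a submodule
      let T : Submodule (𝒜 0) (HomogeneousLocalization.Away 𝒜 (MvPolynomial.X i)) :=
        { carrier := Set.range Φ
          add_mem' := by
            rintro _ _ ⟨p, rfl⟩ ⟨q, rfl⟩
            exact ⟨p + q, map_add _ _ _⟩
          zero_mem' := ⟨0, map_zero _⟩
          smul_mem' := by
            rintro c _ ⟨p, rfl⟩
            have hc : (c : MvPolynomial (Fin (n + 1)) R) ∈ (1 : Submodule R (MvPolynomial (Fin (n + 1)) R)) := by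
              have : (c : MvPolynomial (Fin (n + 1)) R) ∈ MvPolynomial.homogeneousSubmodule (Fin (n + 1)) R 0 := c.2
              rwa [MvPolynomial.homogeneousSubmodule_zero] at this
            rw [Submodule.mem_one] at hc
            obtain ⟨r, hr⟩ := hc
            refine ⟨MvPolynomial.C r * p, ?_⟩
            rw [map_mul, Algebra.smul_def]
            congr 1
            apply HomogeneousLocalization.val_injective
            rw [hΦC, HomogeneousLocalization.algebraMap_eq, hz0, ← Localization.mk_one_eq_algebraMap, ← hr]
            rfl }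
      intro z
      have hz : z ∈ (⊤ : Submodule (𝒜 0) (HomogeneousLocalization.Away 𝒜 (MvPolynomial.X i))) := trivial
      rw [← hspan] at hz
      refine (Submodule.span_le (p := T)).mpr ?_ hz
      · rintro _ ⟨a, ai, hai, rfl⟩
        refine ⟨∏ j : {j : Fin (n + 1) // j ≠ i}, MvPolynomial.X j ^ ai j.1, ?_⟩
        apply HomogeneousLocalization.val_injective
        rw [HomogeneousLocalization.Away.val_mk, map_prod]
        have hval : ∀ (s : Finset {j : Fin (n + 1) // j ≠ i}) (g : {j : Fin (n + 1) // j ≠ i} → HomogeneousLocalization.Away 𝒜 (MvPolynomial.X i)),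
            (∏ j ∈ s, g j).val = ∏ j ∈ s, (g j).val := by
          intro s g
          exact map_prod (algebraMap (HomogeneousLocalization.Away 𝒜 (MvPolynomial.X i)) (Localization.Away (MvPolynomial.X i : MvPolynomial (Fin (n + 1)) R))) g s
        rw [hval]
        simp only [map_pow, HomogeneousLocalization.val_pow, hΦX]
        -- now a computation in the localization
        have ha : a = ∑ j, ai j := by simpa using hai.symm
        have h2 : (∏ j : {j : Fin (n + 1) // j ≠ i}, t j.1 ^ ai j.1) = ∏ j : Fin (n + 1), t j ^ ai j := by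
          rw [← Finset.mul_prod_erase Finset.univ _ (Finset.mem_univ i), hti, one_pow, one_mul]
          rw [Finset.prod_subtype (Finset.univ.erase i) (p := fun j => j ≠ i) (by simp)]
        rw [h2]
        have h3 : ∀ j, t j ^ ai j = Localization.mk (MvPolynomial.X j ^ ai j) (⟨MvPolynomial.X i, hXi⟩ ^ ai j) := by
          intro j
          simp only [t]
          rw [Localization.mk_pow]
        simp_rw [h3]
        rw [Localization.mk_prod]
        congr 1
        apply Subtype.ext
        simp only [SubmonoidClass.coe_finsetProd, SubmonoidClass.coe_pow]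
        rw [Finset.prod_pow_eq_pow_sum, ha]

end Groth.Agent.S9576
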