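import Groth.Statements.S9580
import Groth.Agent.Helper1.InvRestrict
import Groth.Agent.Helper1.TwistMul5

set_option autoImplicit false
universe u
open CategoryTheory CategoryTheory.Limits AlgebraicGeometry TopologicalSpace Opposite
open Constr

namespace Groth.Agent.S9580

/-- Let S be a graded ring, X = Proj S and Y ⊆ X a quasi-compact open subscheme. Then there is an
integer d ≥ 1 such that Y is contained in the open W_d, the union of the standard opens D_+(ab) over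
homogeneous a, b with deg a = deg b + d, and such that the restriction O_Y(nd) of O_X(nd) to Y is
invertible for every integer n. (The remaining assertions — the multiplication maps among the
O_Y(nd) and M~(nd) are isomorphisms, D_+(f) ∩ Y = Y_s, and the loci Y_s form a basis — are not
stated here.) -/
theorem result {R A : Type u} [CommRing R] [CommRing A] [Algebra R A] (𝒜 : ℕ → Submodule R A) [GradedAlgebra 𝒜]
    (Y : (Proj 𝒜).Opens) (hY : IsCompact (Y : Set (Proj 𝒜))) :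
    ∃ d : ℕ, 0 < d ∧
      (∀ y : Proj 𝒜, y ∈ Y → ∃ (i j : ℕ) (a b : A), a ∈ 𝒜 i ∧ b ∈ 𝒜 j ∧ i = j + d ∧ y ∈ Proj.basicOpen 𝒜 (a * b)) ∧
      ∀ n : ℤ, PicF.IsInvertible ((Twist.twist 𝒜 (n * d)).restrict Y.ι) := by
  classical
  open AlgebraicGeometry in
  have hpt : ∀ y : Proj 𝒜, ∃ (m : ℕ) (f : A), 0 < m ∧ f ∈ 𝒜 m ∧ y ∈ Proj.basicOpen 𝒜 f := by
    intro y
    have h := (Proj.affineOpenCover 𝒜).covers y
    refine ⟨((Proj.affineOpenCover 𝒜).idx y).1, (((Proj.affineOpenCover 𝒜).idx y).2 : A),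
      ((Proj.affineOpenCover 𝒜).idx y).1.2, ((Proj.affineOpenCover 𝒜).idx y).2.2, ?_⟩
    have h2 : y ∈ (Proj.awayι 𝒜 (((Proj.affineOpenCover 𝒜).idx y).2 : A)
        ((Proj.affineOpenCover 𝒜).idx y).2.2 ((Proj.affineOpenCover 𝒜).idx y).1.2).opensRange := h
    rwa [Proj.opensRange_awayι] at h2
  choose m f hm hf hyf using hpt
  obtain ⟨t, ht⟩ := hY.elim_finite_subcover
    (fun y : AlgebraicGeometry.Proj 𝒜 => (AlgebraicGeometry.Proj.basicOpen 𝒜 (f y) : Set (AlgebraicGeometry.Proj 𝒜)))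
    (fun y => (AlgebraicGeometry.Proj.basicOpen 𝒜 (f y)).2) (fun y _ => Set.mem_iUnion.2 ⟨y, hyf y⟩)
  have hcov : ∀ y ∈ Y, ∃ z ∈ t, y ∈ AlgebraicGeometry.Proj.basicOpen 𝒜 (f z) := by
    intro y hy
    have := ht hy
    simp only [Set.mem_iUnion] at this
    obtain ⟨z, hz, hyz⟩ := this
    exact ⟨z, hz, hyz⟩
  obtain ⟨d, hdd⟩ : ∃ d, d = ∏ y ∈ t, m y := ⟨_, rfl⟩
  have hd : 0 < d := hdd ▸ Finset.prod_pos (fun y _ => hm y)
  have hdvd : ∀ y ∈ t, m y ∣ d := fun y hy => hdd ▸ Finset.dvd_prod_of_mem m hy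
  have hg : ∀ y ∈ t, (f y) ^ (d / m y) ∈ 𝒜 d := by
    intro y hy
    have := SetLike.pow_mem_graded (d / m y) (hf y)
    rwa [smul_eq_mul, Nat.div_mul_cancel (hdvd y hy)] at this
  have hpos : ∀ y ∈ t, 0 < d / m y := fun y hy =>
    Nat.div_pos (Nat.le_of_dvd hd (hdvd y hy)) (hm y)
  refine ⟨d, hd, ?_, ?_⟩
  · intro y hy
    obtain ⟨z, hz, hyz⟩ := hcov y hy
    refine ⟨d, 0, f z ^ (d / m z), 1, hg z hz, SetLike.GradedOne.one_mem, by omega, ?_⟩
    rw [mul_one, AlgebraicGeometry.Proj.basicOpen_pow _ _ _ (hpos z hz)]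
    exact hyz
  · intro n
    apply Groth.Agent.Helper1.InvRestrict.isInvertible_restrict_of_cover
    intro x hx
    obtain ⟨z, hz, hxz⟩ := hcov x hx
    refine ⟨Y ⊓ AlgebraicGeometry.Proj.basicOpen 𝒜 (f z), inf_le_left, ⟨hx, hxz⟩, ?_⟩
    obtain ⟨P⟩ := Groth.Agent.Helper1.TwistMul.nonempty_invPair_of_le_basicOpen 𝒜
      (Y ⊓ AlgebraicGeometry.Proj.basicOpen 𝒜 (f z)) (f z ^ (d / m z)) (hg z hz)
      (by rw [AlgebraicGeometry.Proj.basicOpen_pow _ _ _ (hpos z hz)]; exact inf_le_right) n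
    exact P.nonempty_iso_twist

end Groth.Agent.S9580
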