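import Groth.Statements.S9581
import Groth.Agent.Helper4.WeakAss
import Mathlib

set_option autoImplicit false
universe u
open CAlg

namespace Groth.Agent.S9581


/-- (1) ⇔ (3): for a ring R, an R-module M and a prime p of R, the prime p is weakly associated to M
(minimal among the primes containing the annihilator of some element of M) if and only if the
localization M_p contains an element whose annihilator in R_p has radical equal to the maximal ideal
p R_p. -/
theorem result {R : Type u} [CommRing R] (M : Type u) [AddCommGroup M] [Module R M] (p : Ideal R) [p.IsPrime] :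
    p ∈ FlatCA.weakAss R M ↔ IsAssociatedPrime (IsLocalRing.maximalIdeal (Localization.AtPrime p)) (LocalizedModule p.primeCompl M) := by

  set A := Localization.AtPrime p with hA
  have hmax : p.map (algebraMap R A) = IsLocalRing.maximalIdeal A :=
    IsLocalization.AtPrime.map_eq_maximalIdeal p A
  have hcolon : ∀ z : LocalizedModule p.primeCompl M,
      (⊥ : Submodule A (LocalizedModule p.primeCompl M)).colon {z} = Helper4.WeakAss.ann A z :=
    fun z => Submodule.bot_colon'
  constructor
  · rintro ⟨m, hm⟩
    refine ⟨inferInstance, LocalizedModule.mk m 1, ?_⟩
    rw [hcolon, Helper4.WeakAss.ann_mk,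
      IsLocalization.AtPrime.radical_map_of_mem_minimalPrimes A p _ hm, hmax]
  · rintro ⟨-, z, hz⟩
    rw [hcolon] at hz
    induction z using LocalizedModule.induction_on with
    | h m s =>
      rw [Helper4.WeakAss.ann_mk] at hz
      refine ⟨m, ?_⟩
      have h1 : IsLocalRing.maximalIdeal A ∈
          ((Helper4.WeakAss.ann R m).map (algebraMap R A)).minimalPrimes := by
        refine ⟨⟨inferInstance, ?_⟩, ?_⟩
        · rw [hz]; exact Ideal.le_radical
        · rintro q ⟨hq, hle⟩ -
          rw [hz]
          exact hq.radical_le_iff.mpr hle
      rw [IsLocalization.minimalPrimes_map p.primeCompl A, Set.mem_preimage,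
        IsLocalization.AtPrime.under_maximalIdeal A p] at h1
      exact h1

end Groth.Agent.S9581
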