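import Groth.Statements.S9582
import Groth.Agent.Helper4.WeakAss
import Mathlib

set_option autoImplicit false
universe u
open CAlg

namespace Groth.Agent.S9582


/-- For a reduced ring R, the primes weakly associated to the R-module R (primes minimal over the
annihilator of some element) are exactly the minimal primes of R. -/
theorem result {R : Type u} [CommRing R] [IsReduced R] :
    FlatCA.weakAss R R = minimalPrimes R := by

  ext p
  constructor
  · rintro ⟨x, hx⟩
    have hpprime : p.IsPrime := hx.1.1
    -- x ∉ p
    have hxp : x ∉ p := by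
      intro hxp
      obtain ⟨y, hy, hxy⟩ := Ideal.exists_mul_mem_of_mem_minimalPrimes hx hxp
      rw [Helper4.WeakAss.mem_ann, smul_eq_mul] at hy hxy
      apply hy
      have h2 : (y * x) ^ 2 = 0 := by
        rw [pow_two]
        calc y * x * (y * x) = y * (x * y * x) := by ring
          _ = 0 := by rw [hxy, mul_zero]
      exact pow_eq_zero_iff (two_ne_zero) |>.mp h2
    refine ⟨⟨hpprime, bot_le⟩, ?_⟩
    rintro q ⟨hqprime, -⟩ hqp
    apply hx.2 ⟨hqprime, ?_⟩ hqp
    intro r hr
    rw [Helper4.WeakAss.mem_ann, smul_eq_mul] at hr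
    have : r * x ∈ q := by rw [hr]; exact zero_mem q
    exact (hqprime.mem_or_mem this).resolve_right (fun h => hxp (hqp h))
  · intro hp
    refine ⟨1, ?_⟩
    have : Helper4.WeakAss.ann R (1 : R) = ⊥ := by
      ext r
      rw [Helper4.WeakAss.mem_ann, smul_eq_mul, mul_one, Ideal.mem_bot]
    change p ∈ (Helper4.WeakAss.ann R (1 : R)).minimalPrimes
    rw [this]
    exact hp

end Groth.Agent.S9582
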