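import Groth.Statements.S9583
import Groth.Agent.Helper4.WeakAss
import Mathlib

set_option autoImplicit false
universe u
open CAlg

namespace Groth.Agent.S9583


/-- For a ring R and a short exact sequence 0 → M' → M → M'' → 0 of R-modules, every prime weakly
associated to M' is weakly associated to M, and every prime weakly associated to M is weakly
associated to M' or to M''. -/
theorem result {R : Type u} [CommRing R] {M' M M'' : Type u} [AddCommGroup M'] [Module R M'] [AddCommGroup M] [Module R M] [AddCommGroup M''] [Module R M''] (f : M' →ₗ[R] M) (g : M →ₗ[R] M'') (hf : Function.Injective f) (hg : Function.Surjective g) (hfg : Function.Exact f g) :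
    FlatCA.weakAss R M' ⊆ FlatCA.weakAss R M ∧ FlatCA.weakAss R M ⊆ FlatCA.weakAss R M' ∪ FlatCA.weakAss R M'' := by

  have hann : ∀ m' : M', Helper4.WeakAss.ann R (f m') = Helper4.WeakAss.ann R m' := by
    intro m'
    ext r
    rw [Helper4.WeakAss.mem_ann, Helper4.WeakAss.mem_ann, ← map_smul]
    exact ⟨fun h => hf (by rw [h, map_zero]), fun h => by rw [h, map_zero]⟩
  constructor
  · rintro p ⟨m', hm'⟩
    refine ⟨f m', ?_⟩
    change p ∈ (Helper4.WeakAss.ann R (f m')).minimalPrimes
    rw [hann]
    exact hm'
  · rintro p ⟨m, hm⟩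
    have hpprime : p.IsPrime := hm.1.1
    by_cases hle : Helper4.WeakAss.ann R (g m) ≤ p
    · right
      refine ⟨g m, Helper4.WeakAss.minimal_of_le hm ?_ hle⟩
      intro r hr
      rw [Helper4.WeakAss.mem_ann] at hr ⊢
      rw [← map_smul, hr, map_zero]
    · left
      obtain ⟨t, ht, htp⟩ := SetLike.not_le_iff_exists.mp hle
      rw [Helper4.WeakAss.mem_ann, ← map_smul] at ht
      obtain ⟨m', hm'⟩ := (hfg (t • m)).mp ht
      refine ⟨m', ?_⟩
      change p ∈ (Helper4.WeakAss.ann R m').minimalPrimes
      rw [← hann m', hm']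
      refine Helper4.WeakAss.minimal_of_le hm ?_ ?_
      · intro r hr
        rw [Helper4.WeakAss.mem_ann] at hr ⊢
        rw [smul_comm, hr, smul_zero]
      · intro r hr
        rw [Helper4.WeakAss.mem_ann, smul_smul] at hr
        have : r * t ∈ p := hm.1.2 (Helper4.WeakAss.mem_ann.mpr hr)
        exact (hpprime.mem_or_mem this).resolve_right htp

end Groth.Agent.S9583
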