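import Groth.Statements.S9584
import Groth.Agent.Helper4.WeakAss
import Mathlib

set_option autoImplicit false
universe u
open CAlg

namespace Groth.Agent.S9584


/-- For a ring R and an R-module M, M has no weakly associated prime (no prime minimal over the
annihilator of an element) if and only if M = 0. -/
theorem result {R : Type u} [CommRing R] (M : Type u) [AddCommGroup M] [Module R M] :
    FlatCA.weakAss R M = ∅ ↔ Subsingleton M := by

  constructor
  · intro h
    refine ⟨fun a b => ?_⟩
    by_contra hab
    have hne : a - b ≠ 0 := sub_ne_zero.mpr hab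
    obtain ⟨p, -, hp⟩ := Helper4.WeakAss.exists_mem_weakAss_of_ne_zero (R := R) hne
    rw [h] at hp
    exact hp
  · intro h
    ext p
    simp only [Set.mem_empty_iff_false, iff_false]
    rintro ⟨m, hm⟩
    have : Helper4.WeakAss.ann R m = ⊤ :=
      Helper4.WeakAss.ann_eq_top_iff.mpr (Subsingleton.elim m 0)
    have h2 : p ∈ (⊤ : Ideal R).minimalPrimes := this ▸ hm
    rw [Ideal.minimalPrimes_top] at h2
    exact h2

end Groth.Agent.S9584
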