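import Groth.Statements.S9585
import Groth.Agent.Helper4.WeakAss
import Mathlib

set_option autoImplicit false
universe u
open CAlg

namespace Groth.Agent.S9585


/-- For a ring R and an R-module M, an element of R lies in some weakly associated prime of M exactly
when multiplication by it on M is not injective; in other words the union of the weakly associated
primes of M equals the set of zerodivisors on M. -/
theorem result {R : Type u} [CommRing R] (M : Type u) [AddCommGroup M] [Module R M] :
    ⋃ q ∈ FlatCA.weakAss R M, (q : Set R) = {f : R | ¬ IsSMulRegular M f} := by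

  ext f
  simp only [Set.mem_iUnion, SetLike.mem_coe, exists_prop, Set.mem_ofPred_eq]
  constructor
  · rintro ⟨p, ⟨m, hm⟩, hfp⟩ hreg
    obtain ⟨y, hy, hfy⟩ := Ideal.exists_mul_mem_of_mem_minimalPrimes hm hfp
    rw [Helper4.WeakAss.mem_ann] at hy
    rw [Helper4.WeakAss.mem_ann, mul_smul] at hfy
    exact hy (hreg (by change f • y • m = f • 0; rw [hfy, smul_zero]))
  · intro hnreg
    obtain ⟨a, b, hab, hne⟩ : ∃ a b : M, f • a = f • b ∧ a ≠ b := by
      by_contra h
      push Not at h
      exact hnreg (fun a b hab => h a b hab)
    have hne' : a - b ≠ 0 := sub_ne_zero.mpr hne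
    obtain ⟨p, hpmin, hp⟩ := Helper4.WeakAss.exists_mem_weakAss_of_ne_zero (R := R) hne'
    refine ⟨p, hp, hpmin.1.2 ?_⟩
    rw [Helper4.WeakAss.mem_ann, smul_sub, hab, sub_self]

end Groth.Agent.S9585
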