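import Groth.Statements.S9590
import Groth.Agent.Helper4.WeakAss
import Mathlib

set_option autoImplicit false
universe u
open CAlg

namespace Groth.Agent.S9590


/-- For a ring R, an R-module M and a multiplicative subset S of R such that every element of S is a
nonzerodivisor on M, the primes of R weakly associated to M are the same as those weakly associated
to the R-module S⁻¹M. -/
theorem result {R : Type u} [CommRing R] (S : Submonoid R) (M : Type u) [AddCommGroup M] [Module R M] (hS : ∀ s ∈ S, IsSMulRegular M s) :
    FlatCA.weakAss R M = FlatCA.weakAss R (LocalizedModule S M) := by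

  have hann : ∀ (m : M) (s : S), Helper4.WeakAss.ann R (LocalizedModule.mk m s) =
      Helper4.WeakAss.ann R m := by
    intro m s
    ext r
    rw [Helper4.WeakAss.mem_ann, Helper4.WeakAss.mem_ann, LocalizedModule.smul'_mk,
      ← LocalizedModule.zero_mk s, LocalizedModule.mk_eq]
    constructor
    · rintro ⟨c, hc⟩
      rw [smul_zero, smul_zero] at hc
      have h1 : IsSMulRegular M ((c * s : S) : R) := hS _ (c * s).2
      apply h1
      change ((c * s : S) : R) • r • m = ((c * s : S) : R) • 0
      rw [smul_zero, ← hc]
      simp only [Submonoid.smul_def, Submonoid.coe_mul, smul_smul, mul_assoc]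
    · intro h
      exact ⟨1, by rw [h]⟩
  ext p
  constructor
  · rintro ⟨m, hm⟩
    refine ⟨LocalizedModule.mk m 1, ?_⟩
    change p ∈ (Helper4.WeakAss.ann R (LocalizedModule.mk m 1)).minimalPrimes
    rw [hann]
    exact hm
  · rintro ⟨z, hz⟩
    induction z using LocalizedModule.induction_on with
    | h m s =>
      change p ∈ (Helper4.WeakAss.ann R (LocalizedModule.mk m s)).minimalPrimes at hz
      rw [hann] at hz
      exact ⟨m, hz⟩

end Groth.Agent.S9590
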