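import Groth.Statements.S9591
import Groth.Agent.Helper4.WeakAss
import Mathlib

set_option autoImplicit false
universe u
open CAlg

namespace Groth.Agent.S9591


/-- For a ring R and an R-module M, the map from M to the product of the localizations M_p over all
primes p weakly associated to M is injective: an element vanishing in every such M_p is zero. -/
theorem result {R : Type u} [CommRing R] {M : Type u} [AddCommGroup M] [Module R M] (x : M) (hx : ∀ (p : Ideal R) [p.IsPrime], p ∈ FlatCA.weakAss R M → LocalizedModule.mkLinearMap p.primeCompl M x = 0) :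
    x = 0 := by

  by_contra hne
  obtain ⟨p, hpmin, hp⟩ := Helper4.WeakAss.exists_mem_weakAss_of_ne_zero (R := R) hne
  have : p.IsPrime := hpmin.1.1
  have h0 := hx p hp
  rw [LocalizedModule.mkLinearMap_apply, ← LocalizedModule.zero_mk 1,
    LocalizedModule.mk_eq] at h0
  obtain ⟨s, hs⟩ := h0
  simp only [one_smul, smul_zero] at hs
  have : (s : R) ∈ Helper4.WeakAss.ann R x := Helper4.WeakAss.mem_ann.mpr hs
  exact s.2 (hpmin.1.2 this)

end Groth.Agent.S9591
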