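import Groth.Statements.S9594
import Groth.Agent.Helper4.WeakAss
import Mathlib

set_option autoImplicit false
universe u
open CAlg

namespace Groth.Agent.S9594


/-- For a ring R, an R-module M and a multiplicative subset S of R, (1) the primes of R associated to
the R-module S⁻¹M are the inverse images of the primes of S⁻¹R associated to S⁻¹M, and (2) a prime
of R associated to M which does not meet S is associated to the R-module S⁻¹M. Here a prime is
associated to a module when it equals the annihilator of some element. -/
theorem result {R : Type u} [CommRing R] (S : Submonoid R) (M : Type u) [AddCommGroup M] [Module R M] :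
    FlatCA.ass R (LocalizedModule S M) = Ideal.comap (algebraMap R (Localization S)) '' FlatCA.ass (Localization S) (LocalizedModule S M) ∧
      ∀ p ∈ FlatCA.ass R M, Disjoint (S : Set R) (p : Set R) → p ∈ FlatCA.ass R (LocalizedModule S M) := by

  have hcomap : ∀ z : LocalizedModule S M,
      (Helper4.WeakAss.ann (Localization S) z).comap (algebraMap R (Localization S)) =
        Helper4.WeakAss.ann R z := by
    intro z
    ext r
    rw [Ideal.mem_comap, Helper4.WeakAss.mem_ann, Helper4.WeakAss.mem_ann, algebraMap_smul]
  refine ⟨?_, ?_⟩
  · ext p
    constructor
    · rintro ⟨hp, z, hz⟩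
      have : p.IsPrime := hp
      -- p is disjoint from S
      have hdisj : Disjoint (S : Set R) (p : Set R) := by
        rw [Set.disjoint_left]
        intro s hsS hsp
        rw [SetLike.mem_coe, hz, Helper4.WeakAss.mem_ann] at hsp
        have hz0 : z = 0 := by
          have hu : IsUnit (algebraMap R (Localization S) s) :=
            IsLocalization.map_units (Localization S) (⟨s, hsS⟩ : S)
          rw [← algebraMap_smul (Localization S)] at hsp
          exact (hu.smul_eq_zero).mp hsp
        apply hp.ne_top
        rw [hz, Helper4.WeakAss.ann_eq_top_iff]
        exact hz0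
      refine ⟨Helper4.WeakAss.ann (Localization S) z, ⟨?_, z, rfl⟩, ?_⟩
      · have h1 : Helper4.WeakAss.ann (Localization S) z =
            p.map (algebraMap R (Localization S)) := by
          have h2 := hcomap z
          rw [← IsLocalization.map_under S (Localization S)
            (Helper4.WeakAss.ann (Localization S) z)]
          change Ideal.map _ (Ideal.comap _ _) = _
          rw [h2]
          exact congrArg _ hz.symm
        rw [h1]
        exact IsLocalization.isPrime_of_isPrime_disjoint S (Localization S) p hp hdisj
      · exact (hcomap z).trans hz.symm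
    · rintro ⟨q, ⟨hq, z, hz⟩, rfl⟩
      have : q.IsPrime := hq
      refine ⟨Ideal.comap_isPrime _ _, z, ?_⟩
      rw [hz]
      exact hcomap z
  · rintro p ⟨hp, m, hm⟩ hdisj
    refine ⟨hp, LocalizedModule.mk m 1, ?_⟩
    ext r
    rw [Helper4.WeakAss.mem_ann_mk_base]
    constructor
    · intro hr
      refine ⟨1, ?_⟩
      rw [hm, Helper4.WeakAss.mem_ann] at hr
      rw [mul_smul, hr, smul_zero]
    · rintro ⟨t, ht⟩
      have h1 : (t : R) * r ∈ p := by rw [hm, Helper4.WeakAss.mem_ann]; exact ht
      refine (hp.mem_or_mem h1).resolve_left ?_
      intro htp
      exact (Set.disjoint_left.mp hdisj) t.2 htp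

end Groth.Agent.S9594
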