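import Groth.Statements.S9595
import Groth.Agent.Helper4.WeakAss
import Mathlib

set_option autoImplicit false
universe u
open CAlg

namespace Groth.Agent.S9595


/-- For a ring R, an R-module M and a multiplicative subset S of R whose elements are all
nonzerodivisors on M, a prime of R is the annihilator of an element of M if and only if it is the
annihilator in R of an element of S⁻¹M. -/
theorem result {R : Type u} [CommRing R] (S : Submonoid R) (M : Type u) [AddCommGroup M] [Module R M] (hS : ∀ s ∈ S, IsSMulRegular M s) :
    FlatCA.ass R M = FlatCA.ass R (LocalizedModule S M) := by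

  have key : ∀ (m : M) (s : S),
      Helper4.WeakAss.ann R (LocalizedModule.mk m s) = Helper4.WeakAss.ann R m := by
    intro m s
    ext r
    rw [Helper4.WeakAss.mem_ann_mk_base, Helper4.WeakAss.mem_ann]
    constructor
    · rintro ⟨t, ht⟩
      rw [mul_smul] at ht
      have h0 : (t : R) • (r • m) = (t : R) • (0 : M) := by rw [ht, smul_zero]
      exact hS t t.2 h0
    · intro h
      exact ⟨1, by rw [mul_smul, h, smul_zero]⟩
  ext p
  constructor
  · rintro ⟨hp, m, hm⟩
    exact ⟨hp, LocalizedModule.mk m 1, hm.trans (key m 1).symm⟩
  · rintro ⟨hp, z, hz⟩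
    induction z using LocalizedModule.induction_on with
    | h m s => exact ⟨hp, m, hz.trans (key m s)⟩

end Groth.Agent.S9595
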