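import Groth.Statements.S9597
import Mathlib

set_option autoImplicit false
universe u
open CAlg

namespace Groth.Agent.S9597


/-- Let R be a Noetherian ring, M a finite R-module whose associated primes are pairwise incomparable
under inclusion (M has no embedded associated primes), and I the annihilator of M. Then the
associated primes of R/I, viewed as a module over itself, are again pairwise incomparable: R/I has
no embedded primes either. -/
theorem result {R : Type u} [CommRing R] [IsNoetherianRing R] (M : Type u) [AddCommGroup M] [Module R M] [Module.Finite R M] (hM : ∀ p ∈ associatedPrimes R M, ∀ q ∈ associatedPrimes R M, p ≤ q → p = q) :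
    ∀ p ∈ associatedPrimes (R ⧸ Module.annihilator R M) (R ⧸ Module.annihilator R M), ∀ q ∈ associatedPrimes (R ⧸ Module.annihilator R M) (R ⧸ Module.annihilator R M), p ≤ q → p = q := by

  classical
  set I := Module.annihilator R M with hI
  have key : ∀ p ∈ associatedPrimes (R ⧸ I) (R ⧸ I),
      p.comap (Ideal.Quotient.mk I) ∈ associatedPrimes R M := by
    intro p hp
    rw [AssociatedPrimes.mem_iff, isAssociatedPrime_iff] at hp
    obtain ⟨hpp, xb, hx⟩ := hp
    obtain ⟨x, rfl⟩ := Ideal.Quotient.mk_surjective xb
    have hP : (p.comap (Ideal.Quotient.mk I)).IsPrime := Ideal.comap_isPrime _ _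
    have hmemP : ∀ r : R, r ∈ p.comap (Ideal.Quotient.mk I) ↔ ∀ m : M, (r * x) • m = 0 := by
      intro r
      rw [Ideal.mem_comap, hx, Submodule.mem_colon_singleton, Submodule.mem_bot, smul_eq_mul,
        ← map_mul, Ideal.Quotient.eq_zero_iff_mem, hI, Module.mem_annihilator]
    obtain ⟨s, hs⟩ := (Module.Finite.fg_top : (⊤ : Submodule R M).FG)
    have hinf : s.inf (fun m => Submodule.colon (⊥ : Submodule R M) {x • m}) ≤
        p.comap (Ideal.Quotient.mk I) := by
      intro r hr
      rw [hmemP]
      intro m
      have hm : m ∈ Submodule.span R (s : Set M) := by rw [hs]; trivial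
      induction hm using Submodule.span_induction with
      | mem m hm =>
        have := (Finset.inf_le hm : s.inf (fun m => Submodule.colon (⊥ : Submodule R M) {x • m}) ≤ _) hr
        rw [Submodule.mem_colon_singleton, Submodule.mem_bot] at this
        rw [mul_smul]; exact this
      | zero => simp
      | add a b _ _ ha hb => rw [smul_add, ha, hb, add_zero]
      | smul c a _ ha => rw [smul_comm, ha, smul_zero]
    obtain ⟨m, -, hm⟩ := (Ideal.IsPrime.inf_le' hP).mp hinf
    rw [AssociatedPrimes.mem_iff, isAssociatedPrime_iff]
    refine ⟨hP, x • m, le_antisymm ?_ hm⟩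
    intro r hr
    rw [Submodule.mem_colon_singleton, Submodule.mem_bot, ← mul_smul]
    exact (hmemP r).mp hr m
  intro p hp q hq hpq
  have h1 := hM _ (key p hp) _ (key q hq) (Ideal.comap_mono hpq)
  exact Ideal.comap_injective_of_surjective _ Ideal.Quotient.mk_surjective h1

end Groth.Agent.S9597
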