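import Groth.Statements.S9598
import Mathlib

set_option autoImplicit false
universe u
open CAlg

namespace Groth.Agent.S9598


/-- For a field k and a finite type k-algebra S with dim S > 0, some element of S is a nonzerodivisor
and a nonunit. -/
theorem result {k S : Type u} [Field k] [CommRing S] [Algebra k S] [Algebra.FiniteType k S] (hdim : 0 < ringKrullDim S) :
    ∃ f : S, f ∈ nonZeroDivisors S ∧ ¬ IsUnit f := by

  classical
  have hN : IsNoetherianRing S := Algebra.FiniteType.isNoetherianRing k S
  have hJ : IsJacobsonRing S := isJacobsonRing_of_finiteType (A := k) (B := S)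
  by_contra hcon
  push Not at hcon
  -- every maximal ideal is an associated prime
  have hmax : ∀ J : Ideal S, J.IsMaximal → J ∈ associatedPrimes S S := by
    intro J hJm
    have hfin := associatedPrimes.finite S S
    have hsub : (J : Set S) ⊆ ⋃ I ∈ associatedPrimes S S, (I : Set S) := by
      rw [biUnion_associatedPrimes_eq_compl_nonZeroDivisors]
      intro x hx hnzd
      have hu := hcon x hnzd
      exact hJm.ne_top (Ideal.eq_top_of_isUnit_mem _ hx hu)
    exact (Ideal.subset_iUnion_iff_mem_of_isMaximal_of_finite hfin (⊥ : Ideal S) ⊥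
      (fun I hI _ _ => hI.isPrime) (by
        intro h; exact hJm.ne_top (top_le_iff.mp (h ▸ bot_le))) (by
        intro h; exact hJm.ne_top (top_le_iff.mp (h ▸ bot_le)))).mp hsub
  have hdim0 : Ring.KrullDimLE 0 S := by
    refine Ring.KrullDimLE.mk₀ fun P hP => ?_
    have hjac : P.jacobson = P := hJ.out hP.isRadical
    have hfin : {J : Ideal S | P ≤ J ∧ J.IsMaximal}.Finite :=
      (associatedPrimes.finite S S).subset fun J hJ' => hmax J hJ'.2
    have hle : hfin.toFinset.inf id ≤ P := by
      rw [Finset.inf_id_eq_sInf, Set.Finite.coe_toFinset]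
      exact hjac.le
    obtain ⟨J, hJmem, hJP⟩ := (Ideal.IsPrime.inf_le' hP).mp hle
    rw [Set.Finite.mem_toFinset] at hJmem
    have : P = J := le_antisymm hJmem.1 hJP
    rw [this]; exact hJmem.2
  have : ringKrullDim S ≤ 0 := by
    have := (Ring.krullDimLE_iff (n := 0) (R := S)).mp hdim0
    simpa using this
  exact absurd hdim (not_lt.mpr this)

end Groth.Agent.S9598
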