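import Groth.Statements.S9600
import Groth.Agent.Helper4.AdicFlat
import Mathlib

set_option autoImplicit false
universe u
open CAlg

namespace Groth.Agent.S9600


/-- Let R be a ring, I an ideal of R and 0 → M → N → Q → 0 a short exact sequence of R-modules in which
Q is killed by some power I^c of I. Then on I-adic completions the map M^ → N^ is injective, N^ → Q^
is surjective with kernel equal to the image of M^, and the canonical map Q → Q^ is bijective; so 0
→ M^ → N^ → Q → 0 is again short exact. -/
theorem result {R : Type u} [CommRing R] (I : Ideal R) {M N Q : Type u} [AddCommGroup M] [Module R M] [AddCommGroup N] [Module R N] [AddCommGroup Q] [Module R Q] (i : M →ₗ[R] N) (g : N →ₗ[R] Q) (hi : Function.Injective i) (hg : Function.Surjective g) (hig : Function.Exact i g) (c : ℕ) (hc : ∀ x ∈ I ^ c, ∀ q : Q, x • q = 0) :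
    Function.Injective (AdicCompletion.map I i) ∧ Function.Exact (AdicCompletion.map I i) (AdicCompletion.map I g) ∧ Function.Surjective (AdicCompletion.map I g) ∧ Function.Bijective (AdicCompletion.of I Q) := by

  have hIcN : ∀ y ∈ (I ^ c • ⊤ : Submodule R N), y ∈ LinearMap.range i := by
    intro y hy
    refine Submodule.smul_induction_on hy ?_ ?_
    · intro r hr n _
      apply (hig _).mp
      rw [map_smul]; exact hc r hr _
    · intro a b ha hb; exact Submodule.add_mem _ ha hb
  have hp : ∀ (n : ℕ) (x : M), i x ∈ I ^ (n + c) • (⊤ : Submodule R N) →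
      x ∈ I ^ n • (⊤ : Submodule R M) := by
    intro n x hx
    rw [pow_add, mul_smul] at hx
    have h1 : (I ^ c • ⊤ : Submodule R N) ≤ Submodule.map i ⊤ := by
      rw [Submodule.map_top]; exact hIcN
    have h2 : i x ∈ I ^ n • Submodule.map i ⊤ := smul_mono_right _ h1 hx
    rw [← Submodule.map_smul''] at h2
    obtain ⟨x', hx', hxx⟩ := h2
    rwa [← hi hxx]
  refine ⟨Helper4.AdicFlat.map_injective_of_shift I i c hp,
    Helper4.AdicFlat.map_exact_of_shift I i g c hp hg hig,
    AdicCompletion.map_surjective I hg, ?_⟩
  have hbot : (I ^ c • ⊤ : Submodule R Q) = ⊥ := by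
    rw [eq_bot_iff]
    intro q hq
    refine Submodule.smul_induction_on hq ?_ ?_
    · intro r hr n _
      rw [hc r hr n]; exact Submodule.zero_mem _
    · intro a b ha hb; exact Submodule.add_mem _ ha hb
  rw [AdicCompletion.of_bijective_iff]
  have h1 : IsHausdorff I Q := by
    rw [isHausdorff_iff]
    intro x hx
    have := hx c
    rw [SModEq.sub_mem, hbot, sub_zero] at this
    simpa using this
  have h2 : IsPrecomplete I Q := by
    rw [isPrecomplete_iff]
    intro f hf
    refine ⟨f c, fun n => ?_⟩
    rcases le_total n c with h | h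
    · exact hf h
    · have := hf h
      rw [SModEq.sub_mem, hbot, Submodule.mem_bot, sub_eq_zero] at this
      rw [this]
  exact { toIsHausdorff := h1, toIsPrecomplete := h2 }

end Groth.Agent.S9600
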