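import Groth.Statements.S9601
import Mathlib

set_option autoImplicit false
universe u
open CAlg

namespace Groth.Agent.S9601


/-- For a ring R, an ideal I of R and an R-module M, let M^ be the I-adic completion and K_n the kernel
of the projection M^ → M/IⁿM. The completion M^ is I-adically complete exactly when K_n = Iⁿ M^
holds for every n ≥ 1. -/
theorem result {R : Type u} [CommRing R] (I : Ideal R) (M : Type u) [AddCommGroup M] [Module R M] :
    IsAdicComplete I (AdicCompletion I M) ↔ ∀ n : ℕ, 1 ≤ n → LinearMap.ker (AdicCompletion.eval I M n) = I ^ n • (⊤ : Submodule R (AdicCompletion I M)) := by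

  have hofmem : ∀ (m : ℕ) (y : M), y ∈ (I ^ m • ⊤ : Submodule R M) →
      AdicCompletion.of I M y ∈ (I ^ m • ⊤ : Submodule R (AdicCompletion I M)) := by
    intro m y hy
    have : Submodule.map (AdicCompletion.of I M) (I ^ m • ⊤ : Submodule R M) ≤
        (I ^ m • ⊤ : Submodule R (AdicCompletion I M)) := by
      rw [Submodule.map_smul'']
      exact smul_mono_right _ le_top
    exact this ⟨y, hy, rfl⟩
  have hKmem : ∀ (m : ℕ) (z : AdicCompletion I M),
      z ∈ LinearMap.ker (AdicCompletion.eval I M m) ↔ z.val m = 0 := fun m z => Iff.rfl
  constructor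
  · intro hc n _
    apply le_antisymm _ (AdicCompletion.pow_smul_top_le_ker_eval I n)
    intro x hx
    -- step
    have step : ∀ (m : ℕ) (z : AdicCompletion I M), z ∈ LinearMap.ker (AdicCompletion.eval I M m) →
        ∃ z' ∈ LinearMap.ker (AdicCompletion.eval I M (m + 1)),
          z - z' ∈ (I ^ m • ⊤ : Submodule R (AdicCompletion I M)) := by
      intro m z
      apply AdicCompletion.induction_on I M z (fun a ↦ ?_)
      intro hz
      have ham : a m ∈ (I ^ m • ⊤ : Submodule R M) := by
        rw [hKmem] at hz
        simpa using hz
      have ham1 : a (m + 1) ∈ (I ^ m • ⊤ : Submodule R M) := by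
        have h1 : a m - a (m + 1) ∈ (I ^ m • ⊤ : Submodule R M) := by
          rw [← SModEq.sub_mem]; exact a.property (Nat.le_succ m)
        have : a (m + 1) = a m - (a m - a (m + 1)) := by abel
        rw [this]; exact Submodule.sub_mem _ ham h1
      refine ⟨AdicCompletion.mk I M a - AdicCompletion.of I M (a (m + 1)), ?_, ?_⟩
      · rw [hKmem]
        simp
      · rw [sub_sub_cancel]
        exact hofmem m _ ham1
    choose! nxt hnxt1 hnxt2 using step
    let t : ℕ → AdicCompletion I M := fun k => Nat.rec x (fun k z => nxt (n + k) z) k
    have ht0 : t 0 = x := rfl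
    have ht1 : ∀ k, t (k + 1) = nxt (n + k) (t k) := fun k => rfl
    have htK : ∀ k, t k ∈ LinearMap.ker (AdicCompletion.eval I M (n + k)) := by
      intro k
      induction k with
      | zero => exact hx
      | succ k ih => rw [ht1]; exact hnxt1 (n + k) (t k) ih
    have hsd : ∀ k, t k - t (k + 1) ∈ (I ^ (n + k) • ⊤ : Submodule R (AdicCompletion I M)) :=
      fun k => by rw [ht1]; exact hnxt2 (n + k) (t k) (htK k)
    let f : ℕ → AdicCompletion I M := fun m => t (m - n)
    have hf : ∀ m, f m ≡ f (m + 1) [SMOD (I ^ m • ⊤ : Submodule R (AdicCompletion I M))] := by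
      intro m
      rw [SModEq.sub_mem]
      by_cases hmn : m < n
      · have : m + 1 - n = m - n := by lia
        change t (m - n) - t (m + 1 - n) ∈ _
        rw [this, sub_self]; exact Submodule.zero_mem _
      · obtain ⟨j, rfl⟩ := Nat.exists_eq_add_of_le (not_lt.mp hmn)
        have h1 : n + j + 1 - n = j + 1 := by lia
        have h0 : n + j - n = j := by lia
        change t (n + j - n) - t (n + j + 1 - n) ∈ _
        rw [h1, h0]
        exact hsd j
    obtain ⟨L, hL⟩ := hc.toIsPrecomplete.prec ((AdicCompletion.isAdicCauchy_iff I _ f).mpr hf)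
    have hLK : ∀ m, n ≤ m → L.val m = 0 := by
      intro m hm
      have h1 : f m - L ∈ LinearMap.ker (AdicCompletion.eval I M m) :=
        AdicCompletion.pow_smul_top_le_ker_eval I m (SModEq.sub_mem.mp (hL m))
      have h2 : f m ∈ LinearMap.ker (AdicCompletion.eval I M m) := by
        obtain ⟨j, rfl⟩ := Nat.exists_eq_add_of_le hm
        have h0 : n + j - n = j := by lia
        change t (n + j - n) ∈ _
        rw [h0]; exact htK j
      have h4 : L = f m - (f m - L) := by abel
      have : L ∈ LinearMap.ker (AdicCompletion.eval I M m) := by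
        rw [h4]; exact Submodule.sub_mem _ h2 h1
      exact this
    have hL0 : L = 0 := by
      apply AdicCompletion.ext
      intro m
      rcases le_total n m with h | h
      · exact hLK m h
      · rw [← L.property h, hLK n le_rfl, map_zero]; rfl
    have := hL n
    rw [hL0, SModEq.sub_mem, sub_zero] at this
    have hfn : f n = x := by
      change t (n - n) = x
      rw [Nat.sub_self]; exact ht0
    rwa [hfn] at this
  · intro hK
    have h2 : IsPrecomplete I (AdicCompletion I M) := by
      rw [isPrecomplete_iff]
      intro f hf
      have hcompat : ∀ {m n : ℕ} (hmn : m ≤ n), (f n).val m = (f m).val m := by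
        intro m n hmn
        have h1 : f m - f n ∈ LinearMap.ker (AdicCompletion.eval I M m) :=
          AdicCompletion.pow_smul_top_le_ker_eval I m (SModEq.sub_mem.mp (hf hmn))
        rw [hKmem, AdicCompletion.val_sub_apply, sub_eq_zero] at h1
        exact h1.symm
      let L : AdicCompletion I M := ⟨fun n => (f n).val n, by
        intro m n hmn
        change AdicCompletion.transitionMap I M hmn ((f n).val n) = (f m).val m
        rw [(f n).property hmn, hcompat hmn]⟩
      refine ⟨L, fun n => ?_⟩
      rw [SModEq.sub_mem]
      rcases Nat.eq_zero_or_pos n with rfl | hn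
      · rw [pow_zero, Ideal.one_eq_top, Submodule.top_smul]; trivial
      · rw [← hK n hn, hKmem, AdicCompletion.val_sub_apply]
        exact sub_self _
    exact { toIsHausdorff := inferInstance, toIsPrecomplete := h2 }

end Groth.Agent.S9601
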