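import Groth.Statements.S9602
import Mathlib

set_option autoImplicit false
universe u
open CAlg

namespace Groth.Agent.S9602


/-- Let R be a ring, I an ideal of R and R^ = lim R/Iⁿ the I-adic completion. An element of R^ whose
image in R/I is invertible is itself invertible in R^; and the kernel of R^ → R/I as well as the
extended ideal I R^ both lie inside the Jacobson radical of R^. -/
theorem result {R : Type u} [CommRing R] (I : Ideal R) :
    (∀ x : AdicCompletion I R, IsUnit (AdicCompletion.evalOneₐ I x) → IsUnit x) ∧
      RingHom.ker (AdicCompletion.evalOneₐ I).toRingHom ≤ (⊥ : Ideal (AdicCompletion I R)).jacobson ∧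
      I.map (algebraMap R (AdicCompletion I R)) ≤ (⊥ : Ideal (AdicCompletion I R)).jacobson := by

  -- key claim: elements of the kernel plus one are units
  have key : ∀ w : AdicCompletion I R, AdicCompletion.evalOneₐ I w = 0 → IsUnit (1 + w) := by
    intro w hw
    have hnil : ∀ n, (w.val n : R ⧸ (I ^ n • ⊤ : Ideal R)) ^ n = 0 := by
      intro n
      revert hw
      apply AdicCompletion.induction_on I R w (fun a ↦ ?_)
      intro hw
      have ha1 : a 1 ∈ I := by
        have h1 : AdicCompletion.evalOneₐ I (AdicCompletion.mk I R a) =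
            Ideal.Quotient.mk I (a 1) := by
          rw [← AdicCompletion.factorₐ_evalₐ_one, AdicCompletion.evalₐ_mk]
          rfl
        rw [h1, Ideal.Quotient.eq_zero_iff_mem] at hw
        exact hw
      have han : ∀ n, 1 ≤ n → a n ∈ I := by
        intro n hn
        have h2 : a 1 - a n ∈ (I ^ 1 • ⊤ : Submodule R R) := by
          rw [← SModEq.sub_mem]; exact a.property hn
        have h3 : a 1 - a n ∈ I := by simpa using h2
        have : a n = a 1 - (a 1 - a n) := by abel
        rw [this]; exact I.sub_mem ha1 h3
      change (Ideal.Quotient.mk (I ^ n • ⊤ : Ideal R) (a n)) ^ n = 0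
      rw [← map_pow, Ideal.Quotient.eq_zero_iff_mem]
      rcases Nat.eq_zero_or_pos n with rfl | hn
      · simp
      · have : (a n) ^ n ∈ I ^ n := Ideal.pow_mem_pow (han n hn) n
        simpa using this
    have hunit : ∀ n, IsUnit ((1 + w).val n : R ⧸ (I ^ n • ⊤ : Ideal R)) := by
      intro n
      have : IsNilpotent (w.val n : R ⧸ (I ^ n • ⊤ : Ideal R)) := ⟨n, hnil n⟩
      have h1 := this.isUnit_one_add
      have h2 : (1 + w).val n = 1 + w.val n := by
        rw [AdicCompletion.val_add_apply, AdicCompletion.val_one]
      rw [h2]; exact h1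
    have hex : ∀ n, ∃ d : R ⧸ (I ^ n • ⊤ : Ideal R), (1 + w).val n * d = 1 :=
      fun n => (isUnit_iff_exists_inv.mp (hunit n))
    choose d hd using hex
    have hcompat : ∀ {m n : ℕ} (hmn : m ≤ n),
        AdicCompletion.transitionMap I R hmn (d n) = d m := by
      intro m n hmn
      have h1 : (1 + w).val m * AdicCompletion.transitionMap I R hmn (d n) = 1 := by
        rw [← (1 + w).property hmn, ← AdicCompletion.transitionMap_map_mul, hd n,
          AdicCompletion.transitionMap_map_one]
      have h2 := hd m
      calc AdicCompletion.transitionMap I R hmn (d n)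
          = (d m * (1 + w).val m) * AdicCompletion.transitionMap I R hmn (d n) := by
            rw [mul_comm (d m), h2, one_mul]
        _ = d m := by rw [mul_assoc, h1, mul_one]
    rw [isUnit_iff_exists_inv]
    let y : AdicCompletion I R := ⟨d, hcompat⟩
    refine ⟨y, ?_⟩
    apply AdicCompletion.ext
    intro n
    rw [AdicCompletion.val_mul, AdicCompletion.val_one]
    exact hd n
  have hker : RingHom.ker (AdicCompletion.evalOneₐ I).toRingHom ≤
      (⊥ : Ideal (AdicCompletion I R)).jacobson := by
    intro w hw
    rw [Ideal.mem_jacobson_bot]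
    intro y
    rw [add_comm]
    apply key
    have : (AdicCompletion.evalOneₐ I).toRingHom (w * y) = 0 := by
      rw [map_mul, (RingHom.mem_ker).mp hw, zero_mul]
    exact this
  refine ⟨?_, hker, ?_⟩
  · intro x hx
    obtain ⟨v, hv⟩ := isUnit_iff_exists_inv.mp hx
    obtain ⟨y, rfl⟩ := AdicCompletion.evalOneₐ_surjective I v
    have h1 : AdicCompletion.evalOneₐ I (x * y - 1) = 0 := by
      rw [map_sub, map_mul, hv, map_one, sub_self]
    have h2 := key _ h1
    rw [add_sub_cancel] at h2
    exact isUnit_of_mul_isUnit_left h2
  · refine le_trans ?_ hker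
    rw [Ideal.map_le_iff_le_comap]
    intro r hr
    rw [Ideal.mem_comap, RingHom.mem_ker]
    change AdicCompletion.evalOneₐ I (algebraMap R _ r) = 0
    rw [AlgHom.commutes]
    exact Ideal.Quotient.eq_zero_iff_mem.mpr hr

end Groth.Agent.S9602
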