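import Groth.Statements.S9603
import Mathlib

set_option autoImplicit false

universe u

open CAlg

namespace Groth.Agent.S9603

/-- Elements of `span (range g) • ⊤` are `Σ g i • z i`. -/
theorem exists_sum_of_mem_span_range_smul_top {A : Type u} [CommRing A] {r : ℕ} (g : Fin r → A)
    {M : Type u} [AddCommGroup M] [Module A M] {m : M}
    (hm : m ∈ (Ideal.span (Set.range g) • ⊤ : Submodule A M)) :
    ∃ z : Fin r → M, m = ∑ i, g i • z i := by
  refine Submodule.smul_induction_on hm ?_ ?_
  · intro a ha m' _
    obtain ⟨c, rfl⟩ := (Ideal.mem_span_range_iff_exists_fun).mp ha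
    refine ⟨fun i => c i • m', ?_⟩
    rw [Finset.sum_smul]
    refine Finset.sum_congr rfl fun i _ => ?_
    rw [smul_smul, mul_comm]
  · rintro x y ⟨zx, rfl⟩ ⟨zy, rfl⟩
    refine ⟨fun i => zx i + zy i, ?_⟩
    simp [smul_add, Finset.sum_add_distrib]

/-- For a ring A, elements f_1, …, f_r generating an ideal I and an A-module M, if the canonical map
from M to its (f_i)-adic completion is surjective for every i, then the canonical map from M to its
I-adic completion is surjective. -/
theorem result {A : Type u} [CommRing A] {r : ℕ} (f : Fin r → A) (M : Type u) [AddCommGroup M] [Module A M] (h : ∀ i, Function.Surjective (AdicCompletion.of (Ideal.span {f i}) M)) :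
    Function.Surjective (AdicCompletion.of (Ideal.span (Set.range f)) M) := by
  classical
  rw [AdicCompletion.of_surjective_iff]
  have hp : ∀ i, IsPrecomplete (Ideal.span {f i}) M := fun i =>
    AdicCompletion.of_surjective_iff.mp (h i)
  set I : Ideal A := Ideal.span (Set.range f) with hI
  -- the ideals J n = (f_i ^ n)
  let J : ℕ → Ideal A := fun n => Ideal.span (Set.range fun i => f i ^ n)
  have hIJ : ∀ n, ∃ k, I ^ k ≤ J n := by
    intro n
    refine Ideal.exists_pow_le_of_le_radical_of_fg ?_ ⟨Finset.univ.image f, by simp [hI]⟩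
    rw [hI, Ideal.span_le]
    rintro _ ⟨i, rfl⟩
    by_cases hn : n = 0
    · subst hn
      have : J 0 = ⊤ := by
        rw [Ideal.eq_top_iff_one]
        exact Ideal.subset_span ⟨i, by simp⟩
      show f i ∈ (J 0).radical
      rw [this, Ideal.radical_top]; trivial
    · exact ⟨n, Ideal.subset_span ⟨i, rfl⟩⟩
  choose k hk using hIJ
  let N : ℕ → ℕ := fun n => max n (k n)
  have hN : ∀ n, I ^ N n ≤ J n := fun n =>
    (Ideal.pow_le_pow_right (le_max_right _ _)).trans (hk n)
  let P : ℕ → ℕ := fun n => ∑ m ∈ Finset.range (n + 1), N m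
  have hPN : ∀ n, N n ≤ P n := fun n =>
    Finset.single_le_sum (f := N) (fun _ _ => Nat.zero_le _) (Finset.self_mem_range_succ n)
  have hPn : ∀ n, n ≤ P n := fun n => (le_max_left _ _).trans (hPN n)
  have hPmono : ∀ n, P n ≤ P (n + 1) := fun n => by
    simp only [P]
    rw [Finset.sum_range_succ _ (n + 1)]
    exact Nat.le_add_right _ _
  refine ⟨fun x hx => ?_⟩
  -- differences
  have hdiff : ∀ n, ∃ z : Fin r → M, x (P (n + 1)) - x (P n) = ∑ i, f i ^ n • z i := by
    intro n
    apply exists_sum_of_mem_span_range_smul_top (fun i => f i ^ n)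
    have h1 : x (P n) ≡ x (P (n + 1)) [SMOD (I ^ P n • ⊤ : Submodule A M)] := hx (hPmono n)
    have h2 := (SModEq.sub_mem.mp h1.symm)
    exact Submodule.smul_mono_left ((Ideal.pow_le_pow_right (hPN n)).trans (hN n)) h2
  choose z hz using hdiff
  -- partial sums for each i
  let s : Fin r → ℕ → M := fun i n => ∑ l ∈ Finset.range n, f i ^ l • z l i
  have hs : ∀ i, ∃ L : M, ∀ n, s i n ≡ L [SMOD ((Ideal.span {f i}) ^ n • ⊤ : Submodule A M)] := by
    intro i
    refine (hp i).prec' (s i) ?_
    intro m n hmn
    refine SModEq.symm ?_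
    rw [SModEq.sub_mem] -- s n - s m
    have : s i n - s i m = ∑ l ∈ Finset.Ico m n, f i ^ l • z l i := by
      simp only [s]
      rw [Finset.sum_Ico_eq_sub _ hmn]
    rw [this]
    refine Submodule.sum_mem _ fun l hl => ?_
    refine Submodule.smul_mem_smul ?_ Submodule.mem_top
    rw [Finset.mem_Ico] at hl
    exact Ideal.pow_le_pow_right hl.1 (Ideal.pow_mem_pow (Ideal.mem_span_singleton_self _) l)
  choose L hL using hs
  have hle : ∀ i, Ideal.span {f i} ≤ I := fun i => by
    rw [Ideal.span_le, Set.singleton_subset_iff]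
    exact Ideal.subset_span ⟨i, rfl⟩
  have hy : ∀ n, x (P n) = x (P 0) + ∑ i, s i n := by
    intro n
    induction n with
    | zero => simp [s]
    | succ n ih =>
      have : x (P (n + 1)) = x (P n) + ∑ i, f i ^ n • z n i := by rw [← hz n]; abel
      rw [this, ih, add_assoc, ← Finset.sum_add_distrib]
      congr 1
      refine Finset.sum_congr rfl fun i _ => ?_
      simp only [s]
      rw [Finset.sum_range_succ]
  refine ⟨x (P 0) + ∑ i, L i, fun n => ?_⟩
  have h1 : x n ≡ x (P n) [SMOD (I ^ n • ⊤ : Submodule A M)] := hx (hPn n)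
  refine h1.trans ?_
  rw [hy n]
  refine SModEq.add SModEq.rfl ?_
  refine SModEq.sum fun i _ => ?_
  have := hL i n
  rw [SModEq.sub_mem] at this ⊢
  exact Submodule.smul_mono_left (Ideal.pow_right_mono (hle i) n) this

end Groth.Agent.S9603
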