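import Groth.Statements.S9605
import Mathlib

set_option autoImplicit false
universe u
open CAlg

namespace Groth.Agent.S9605


/-- For a ring R, an ideal I of R, an I-adically complete R-module M and a submodule K of M, the
quotient M/K is I-adically complete if and only if K = ⋂ₙ (K + IⁿM). -/
theorem result {R : Type u} [CommRing R] (I : Ideal R) (M : Type u) [AddCommGroup M] [Module R M] [IsAdicComplete I M] (K : Submodule R M) :
    IsAdicComplete I (M ⧸ K) ↔ K = ⨅ n : ℕ, K ⊔ I ^ n • (⊤ : Submodule R M) := by

  have hmem : ∀ (n : ℕ) (x : M), K.mkQ x ∈ (I ^ n • ⊤ : Submodule R (M ⧸ K)) ↔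
      x ∈ K ⊔ I ^ n • (⊤ : Submodule R M) := by
    intro n x
    have h1 : (I ^ n • ⊤ : Submodule R (M ⧸ K)) = Submodule.map K.mkQ (I ^ n • ⊤) := by
      rw [Submodule.map_smul'', Submodule.map_top, Submodule.range_mkQ]
    rw [h1, ← Submodule.mem_comap, Submodule.comap_map_mkQ]
  have hpre : IsPrecomplete I (M ⧸ K) := by
    rw [← AdicCompletion.of_surjective_iff]
    intro y
    obtain ⟨x, rfl⟩ := AdicCompletion.map_surjective I (Submodule.mkQ_surjective K) y
    obtain ⟨m, rfl⟩ := AdicCompletion.of_surjective I M x
    exact ⟨K.mkQ m, (AdicCompletion.map_of I K.mkQ m).symm⟩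
  constructor
  · intro hc
    apply le_antisymm
    · exact le_iInf fun n => le_sup_left
    · intro x hx
      rw [Submodule.mem_iInf] at hx
      have : K.mkQ x = 0 := by
        apply hc.toIsHausdorff.haus
        intro n
        rw [SModEq.sub_mem, sub_zero, hmem]
        exact hx n
      simpa using this
  · intro hK
    have hH : IsHausdorff I (M ⧸ K) := by
      rw [isHausdorff_iff]
      intro xb hxb
      obtain ⟨x, rfl⟩ := Submodule.mkQ_surjective K xb
      have : x ∈ K := by
        rw [hK, Submodule.mem_iInf]
        intro n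
        have := hxb n
        rw [SModEq.sub_mem, sub_zero] at this
        exact (hmem n x).mp this
      simpa using this
    exact { toIsHausdorff := hH, toIsPrecomplete := hpre }

end Groth.Agent.S9605
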