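import Groth.Statements.S9606
import Groth.Agent.Helper4.Radicial
import Mathlib

set_option autoImplicit false
universe u
open CAlg

namespace Groth.Agent.S9606


/-- Let R → S be a ring map with locally nilpotent kernel such that S is generated over R by elements x
with x² and x³ in the image of R. Then the induced map on spectra is a homeomorphism and every
residue field map κ(p) → κ(q), for q a prime of S with inverse image p, is bijective. -/
theorem result {R S : Type u} [CommRing R] [CommRing S] [Algebra R S]
    (hgen : Algebra.adjoin R {x : S | x ^ 2 ∈ Set.range (algebraMap R S) ∧ x ^ 3 ∈ Set.range (algebraMap R S)} = ⊤)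
    (hker : ∀ r : R, algebraMap R S r = 0 → IsNilpotent r) :
    IsHomeomorph (PrimeSpectrum.comap (algebraMap R S)) ∧
      ∀ (q : Ideal S) [q.IsPrime], Function.Bijective (Ideal.ResidueField.map (q.comap (algebraMap R S)) q (algebraMap R S) rfl) := by

  classical
  -- integrality
  have hint : Algebra.IsIntegral R S := by
    rw [Algebra.isIntegral_def]
    have hle : Algebra.adjoin R {x : S | x ^ 2 ∈ Set.range (algebraMap R S) ∧
        x ^ 3 ∈ Set.range (algebraMap R S)} ≤ integralClosure R S := by
      apply Algebra.adjoin_le
      rintro x ⟨⟨r, hr⟩, _⟩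
      have h2 : IsIntegral R (x ^ 2) := hr ▸ isIntegral_algebraMap
      exact IsIntegral.of_pow (by norm_num) h2
    intro x
    exact hle (hgen ▸ Algebra.mem_top)
  -- field-valued points are determined by R
  have hrad : Groth.Agent.Helper4.Radicial.Rad R S := by
    intro K _ f g hfg
    letI : Algebra R K := (f.comp (algebraMap R S)).toAlgebra
    let f' : S →ₐ[R] K := { f with commutes' := fun r => rfl }
    let g' : S →ₐ[R] K := { g with commutes' := fun r => (congr($hfg r)).symm }
    have : f' = g' := by
      apply AlgHom.ext_of_adjoin_eq_top hgen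
      rintro x ⟨⟨r₂, hr₂⟩, ⟨r₃, hr₃⟩⟩
      show f x = g x
      have h2 : f x ^ 2 = g x ^ 2 := by
        rw [← map_pow, ← map_pow, ← hr₂]; exact congr($hfg r₂)
      have h3 : f x ^ 3 = g x ^ 3 := by
        rw [← map_pow, ← map_pow, ← hr₃]; exact congr($hfg r₃)
      by_cases hg0 : g x = 0
      · rw [hg0] at h2 ⊢
        simpa using h2
      · have h4 : f x ^ 2 * (f x - g x) = 0 := by
          have : f x ^ 2 * (f x - g x) = f x ^ 3 - g x * f x ^ 2 := by ring
          rw [this, h3, h2]; ring
        rcases mul_eq_zero.mp h4 with h5 | h5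
        · exfalso
          apply hg0
          have : g x ^ 2 = 0 := by rw [← h2, h5]
          exact pow_eq_zero_iff (by norm_num) |>.mp this
        · exact sub_eq_zero.mp h5
    ext s
    exact congr($this s)
  have hinj := Groth.Agent.Helper4.Radicial.inj_of_rad hrad
  -- surjectivity on spectra
  have hsurj : Function.Surjective (PrimeSpectrum.comap (algebraMap R S)) := by
    intro P
    obtain ⟨Q, -, hQ, hQP⟩ := Ideal.exists_ideal_over_prime_of_isIntegral (S := S) P.asIdeal ⊥ (by
      intro r hr
      rw [Ideal.mem_comap, Ideal.mem_bot] at hr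
      obtain ⟨n, hn⟩ := hker r hr
      exact P.isPrime.mem_of_pow_mem n (hn ▸ P.asIdeal.zero_mem))
    exact ⟨⟨Q, hQ⟩, PrimeSpectrum.ext hQP⟩
  refine ⟨?_, ?_⟩
  · rw [isHomeomorph_iff_continuous_isClosedMap_bijective]
    exact ⟨PrimeSpectrum.continuous_comap _,
      PrimeSpectrum.isClosedMap_comap_of_isIntegral _ (algebraMap_isIntegral_iff.mpr hint),
      hinj, hsurj⟩
  · intro q _
    refine ⟨RingHom.injective _, ?_⟩
    let F : Subfield q.ResidueField :=
      (Ideal.ResidueField.map (q.comap (algebraMap R S)) q (algebraMap R S) rfl).fieldRange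
    have hR : ∀ r : R, algebraMap S q.ResidueField (algebraMap R S r) ∈ F := by
      intro r
      refine ⟨algebraMap R _ r, ?_⟩
      rw [Ideal.ResidueField.map_algebraMap]
    have hS : ∀ s : S, algebraMap S q.ResidueField s ∈ F := by
      intro s
      have hs : s ∈ Algebra.adjoin R {x : S | x ^ 2 ∈ Set.range (algebraMap R S) ∧
        x ^ 3 ∈ Set.range (algebraMap R S)} := hgen ▸ Algebra.mem_top
      induction hs using Algebra.adjoin_induction with
      | mem x hx =>
        obtain ⟨⟨r₂, hr₂⟩, ⟨r₃, hr₃⟩⟩ := hx
        by_cases h0 : algebraMap S q.ResidueField x = 0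
        · rw [h0]; exact F.zero_mem
        · have h2 : algebraMap S q.ResidueField x ^ 2 ∈ F := by
            rw [← map_pow, ← hr₂]; exact hR r₂
          have h3 : algebraMap S q.ResidueField x ^ 3 ∈ F := by
            rw [← map_pow, ← hr₃]; exact hR r₃
          have : algebraMap S q.ResidueField x =
              algebraMap S q.ResidueField x ^ 3 / algebraMap S q.ResidueField x ^ 2 := by
            field_simp
          rw [this]
          exact F.div_mem h3 h2
      | algebraMap r => exact hR r
      | add x y _ _ hx hy => rw [map_add]; exact F.add_mem hx hy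
      | mul x y _ _ hx hy => rw [map_mul]; exact F.mul_mem hx hy
    intro y
    obtain ⟨a, b, -, rfl⟩ := IsFractionRing.div_surjective (A := S ⧸ q) y
    obtain ⟨a, rfl⟩ := Ideal.Quotient.mk_surjective a
    obtain ⟨b, rfl⟩ := Ideal.Quotient.mk_surjective b
    have : algebraMap (S ⧸ q) q.ResidueField (Ideal.Quotient.mk q a) /
        algebraMap (S ⧸ q) q.ResidueField (Ideal.Quotient.mk q b) ∈ F := by
      rw [Ideal.algebraMap_quotient_residueField_mk, Ideal.algebraMap_quotient_residueField_mk]
      exact F.div_mem (hS a) (hS b)
    exact this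

end Groth.Agent.S9606
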