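import Groth.Statements.S9607
import Mathlib

set_option autoImplicit false
universe u
open CAlg

namespace Groth.Agent.S9607


/-- For a prime number p and integers n, m > 0 there exists an integer a such that (x + y)^(p^a) and p^a
(x + y) both belong to the subring ℤ[x^(p^n), p^n x, y^(p^m), p^m y] of the polynomial ring ℤ[x, y]. -/
theorem result (p : ℕ) (hp : p.Prime) (n m : ℕ) (hn : 0 < n) (hm : 0 < m) :
    ∃ a : ℕ, ((MvPolynomial.X 0 + MvPolynomial.X 1 : MvPolynomial (Fin 2) ℤ) ^ (p ^ a) ∈ Algebra.adjoin ℤ ({MvPolynomial.X 0 ^ (p ^ n), (p : MvPolynomial (Fin 2) ℤ) ^ n * MvPolynomial.X 0, MvPolynomial.X 1 ^ (p ^ m), (p : MvPolynomial (Fin 2) ℤ) ^ m * MvPolynomial.X 1} : Set (MvPolynomial (Fin 2) ℤ)) ∧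
      (p : MvPolynomial (Fin 2) ℤ) ^ a * (MvPolynomial.X 0 + MvPolynomial.X 1) ∈ Algebra.adjoin ℤ ({MvPolynomial.X 0 ^ (p ^ n), (p : MvPolynomial (Fin 2) ℤ) ^ n * MvPolynomial.X 0, MvPolynomial.X 1 ^ (p ^ m), (p : MvPolynomial (Fin 2) ℤ) ^ m * MvPolynomial.X 1} : Set (MvPolynomial (Fin 2) ℤ))) := by

  classical
  set G : Set (MvPolynomial (Fin 2) ℤ) := {MvPolynomial.X 0 ^ (p ^ n), (p : MvPolynomial (Fin 2) ℤ) ^ n * MvPolynomial.X 0, MvPolynomial.X 1 ^ (p ^ m), (p : MvPolynomial (Fin 2) ℤ) ^ m * MvPolynomial.X 1} with hG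
  set B := Algebra.adjoin ℤ G with hB
  have hx1 : (MvPolynomial.X 0 : MvPolynomial (Fin 2) ℤ) ^ (p ^ n) ∈ B :=
    Algebra.subset_adjoin (by simp [hG])
  have hx2 : (p : MvPolynomial (Fin 2) ℤ) ^ n * MvPolynomial.X 0 ∈ B :=
    Algebra.subset_adjoin (by simp [hG])
  have hy1 : (MvPolynomial.X 1 : MvPolynomial (Fin 2) ℤ) ^ (p ^ m) ∈ B :=
    Algebra.subset_adjoin (by simp [hG])
  have hy2 : (p : MvPolynomial (Fin 2) ℤ) ^ m * MvPolynomial.X 1 ∈ B :=
    Algebra.subset_adjoin (by simp [hG])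
  have hnat : ∀ c : ℕ, (c : MvPolynomial (Fin 2) ℤ) ∈ B := fun c => natCast_mem B c
  set E : ℕ := n * p ^ n + m * p ^ m with hE
  have hterm : ∀ c k j : ℕ, ((p ^ n ∣ k ∧ p ^ m ∣ j) ∨ p ^ E ∣ c) →
      (MvPolynomial.X 0 : MvPolynomial (Fin 2) ℤ) ^ k * MvPolynomial.X 1 ^ j * (c : MvPolynomial (Fin 2) ℤ) ∈ B := by
    intro c k j h
    rcases h with ⟨⟨q, rfl⟩, ⟨q', rfl⟩⟩ | ⟨c', rfl⟩
    · rw [pow_mul, pow_mul]
      exact B.mul_mem (B.mul_mem (B.pow_mem hx1 _) (B.pow_mem hy1 _)) (hnat c)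
    · have hk : k = p ^ n * (k / p ^ n) + k % p ^ n := (Nat.div_add_mod k (p ^ n)).symm
      have hj : j = p ^ m * (j / p ^ m) + j % p ^ m := (Nat.div_add_mod j (p ^ m)).symm
      have hr : k % p ^ n < p ^ n := Nat.mod_lt _ (pow_pos hp.pos _)
      have hr' : j % p ^ m < p ^ m := Nat.mod_lt _ (pow_pos hp.pos _)
      set r := k % p ^ n
      set r' := j % p ^ m
      set q := k / p ^ n
      set q' := j / p ^ m
      have hle : n * r + m * r' ≤ E := by
        have h1 : n * r ≤ n * p ^ n := Nat.mul_le_mul_left _ hr.le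
        have h2 : m * r' ≤ m * p ^ m := Nat.mul_le_mul_left _ hr'.le
        omega
      obtain ⟨t, ht⟩ := Nat.exists_eq_add_of_le hle
      have key : (MvPolynomial.X 0 : MvPolynomial (Fin 2) ℤ) ^ k * MvPolynomial.X 1 ^ j *
          ((p ^ E * c' : ℕ) : MvPolynomial (Fin 2) ℤ) =
          (MvPolynomial.X 0 ^ (p ^ n)) ^ q * (MvPolynomial.X 1 ^ (p ^ m)) ^ q' *
            ((p : MvPolynomial (Fin 2) ℤ) ^ n * MvPolynomial.X 0) ^ r *
            ((p : MvPolynomial (Fin 2) ℤ) ^ m * MvPolynomial.X 1) ^ r' *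
            ((p ^ t * c' : ℕ) : MvPolynomial (Fin 2) ℤ) := by
        rw [hk, hj, ht]
        push_cast
        ring
      rw [key]
      exact B.mul_mem (B.mul_mem (B.mul_mem (B.mul_mem (B.pow_mem hx1 _) (B.pow_mem hy1 _))
        (B.pow_mem hx2 _)) (B.pow_mem hy2 _)) (hnat _)
  refine ⟨E + n + m, ?_, ?_⟩
  · rw [add_pow]
    refine B.sum_mem fun k hk => hterm _ _ _ ?_
    rw [Finset.mem_range] at hk
    have hkle : k ≤ p ^ (E + n + m) := by omega
    by_cases h1 : p ^ n ∣ k ∧ p ^ m ∣ (p ^ (E + n + m) - k)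
    · exact Or.inl h1
    · right
      have hdvd : ∀ (i e : ℕ), i ≤ p ^ (E + n + m) → i ≠ 0 → e ≤ n + m → ¬ p ^ e ∣ i →
          p ^ E ∣ (p ^ (E + n + m)).choose i := by
        intro i e hi hi0 he hnd
        have hpos : (p ^ (E + n + m)).choose i ≠ 0 := (Nat.choose_pos hi).ne'
        rw [hp.pow_dvd_iff_le_factorization hpos, Nat.factorization_choose_prime_pow hp hi hi0]
        rw [hp.pow_dvd_iff_le_factorization hi0] at hnd
        omega
      rw [not_and_or] at h1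
      rcases h1 with h1 | h1
      · have hk0 : k ≠ 0 := by
          rintro rfl
          exact h1 (dvd_zero _)
        exact hdvd k n hkle hk0 (by omega) h1
      · have hj0 : p ^ (E + n + m) - k ≠ 0 := by
          intro h0
          rw [h0] at h1
          exact h1 (dvd_zero _)
        rw [← Nat.choose_symm hkle]
        exact hdvd _ m (Nat.sub_le _ _) hj0 (by omega) h1
  · have : (p : MvPolynomial (Fin 2) ℤ) ^ (E + n + m) * (MvPolynomial.X 0 + MvPolynomial.X 1) =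
        (p : MvPolynomial (Fin 2) ℤ) ^ (E + m) * ((p : MvPolynomial (Fin 2) ℤ) ^ n * MvPolynomial.X 0) +
        (p : MvPolynomial (Fin 2) ℤ) ^ (E + n) * ((p : MvPolynomial (Fin 2) ℤ) ^ m * MvPolynomial.X 1) := by
      ring
    rw [this]
    have hpp : ∀ e : ℕ, (p : MvPolynomial (Fin 2) ℤ) ^ e ∈ B := fun e => B.pow_mem (hnat p) e
    exact B.add_mem (B.mul_mem (hpp _) hx2) (B.mul_mem (hpp _) hy2)

end Groth.Agent.S9607
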