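import Groth.Statements.S9608
import Mathlib

set_option autoImplicit false
universe u
open CAlg

namespace Groth.Agent.S9608


/-- Let k'/k be a field extension and p a prime number. Then k' is generated over k by elements x for
which some n > 0 has x^(p^n) ∈ k and p^n x ∈ k, if and only if either k' = k, or k has
characteristic p and k'/k is purely inseparable. -/
theorem result {k k' : Type u} [Field k] [Field k'] [Algebra k k'] (p : ℕ) (hp : p.Prime) :
    IntermediateField.adjoin k {x : k' | ∃ n : ℕ, 0 < n ∧ x ^ (p ^ n) ∈ Set.range (algebraMap k k') ∧ (p : k') ^ n * x ∈ Set.range (algebraMap k k')} = ⊤ ↔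
      (Function.Surjective (algebraMap k k') ∨ (CharP k p ∧ IsPurelyInseparable k k')) := by

  classical
  constructor
  · intro h
    by_cases hc : CharP k p
    · right
      refine ⟨hc, ?_⟩
      haveI : ExpChar k p := @ExpChar.prime k _ p hp hc
      rw [isPurelyInseparable_iff_perfectClosure_eq_top, eq_top_iff, ← h,
        IntermediateField.adjoin_le_iff]
      rintro x ⟨n, _, hx, _⟩
      exact (mem_perfectClosure_iff_pow_mem p).mpr ⟨n, hx⟩
    · left
      have hp0 : (p : k) ≠ 0 := by
        intro h0
        apply hc
        have h1 : ringChar k ∣ p := (ringChar.spec k p).mp h0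
        rcases (Nat.dvd_prime hp).mp h1 with h2 | h2
        · exact absurd h2 (CharP.ringChar_ne_one)
        · exact ringChar.of_eq h2
      have hp0' : (p : k') ≠ 0 := by
        intro h0
        apply hp0
        apply (algebraMap k k').injective
        rw [map_natCast, map_zero]
        exact h0
      have hT : IntermediateField.adjoin k {x : k' | ∃ n : ℕ, 0 < n ∧
          x ^ (p ^ n) ∈ Set.range (algebraMap k k') ∧
          (p : k') ^ n * x ∈ Set.range (algebraMap k k')} ≤ ⊥ := by
        rw [IntermediateField.adjoin_le_iff]
        rintro x ⟨n, _, _, y, hy⟩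
        rw [SetLike.mem_coe, IntermediateField.mem_bot]
        refine ⟨((p : k) ^ n)⁻¹ * y, ?_⟩
        rw [map_mul, hy, map_inv₀, map_pow, map_natCast, ← mul_assoc,
          inv_mul_cancel₀ (pow_ne_zero n hp0'), one_mul]
      intro x
      have : x ∈ (⊥ : IntermediateField k k') := hT (h ▸ IntermediateField.mem_top)
      exact IntermediateField.mem_bot.mp this
  · rintro (h | ⟨hc, hpi⟩)
    · rw [eq_top_iff]
      intro x _
      obtain ⟨y, rfl⟩ := h x
      exact IntermediateField.algebraMap_mem _ y
    · haveI : ExpChar k p := @ExpChar.prime k _ p hp hc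
      haveI : CharP k' p := charP_of_injective_algebraMap (algebraMap k k').injective p
      have hT : {x : k' | ∃ n : ℕ, 0 < n ∧
          x ^ (p ^ n) ∈ Set.range (algebraMap k k') ∧
          (p : k') ^ n * x ∈ Set.range (algebraMap k k')} = Set.univ := by
        rw [Set.eq_univ_iff_forall]
        intro x
        obtain ⟨n, y, hy⟩ := IsPurelyInseparable.pow_mem k p x
        refine ⟨n + 1, Nat.succ_pos n, ⟨y ^ p, ?_⟩, ⟨0, ?_⟩⟩
        · rw [map_pow, hy, ← pow_mul, ← pow_succ]
        · rw [map_zero, CharP.cast_eq_zero k' p, zero_pow (Nat.succ_ne_zero n), zero_mul]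
      rw [hT, IntermediateField.adjoin_univ]

end Groth.Agent.S9608
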