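import Groth.Statements.S9610
import Mathlib

set_option autoImplicit false
universe u
open CAlg

namespace Groth.Agent.S9610

open Polynomial

/-- Let k be a field and V a nonzero k-vector space with dim_k V < #k as cardinals. Then every k-linear
endomorphism T of V admits a monic polynomial P over k for which P(T) is not invertible. -/
theorem result {k V : Type u} [Field k] [AddCommGroup V] [Module k V] [Nontrivial V] (hV : Module.rank k V < Cardinal.mk k) (T : Module.End k V) :
    ∃ P : Polynomial k, P.Monic ∧ ¬ IsUnit (Polynomial.aeval T P) := by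
  classical
  by_contra hcon
  push Not at hcon
  obtain ⟨v, hv⟩ := exists_ne (0 : V)
  -- every nonzero polynomial acts injectively
  have hinj : ∀ p : k[X], p ≠ 0 → ∀ w : V, aeval T p w = 0 → w = 0 := by
    intro p hp w hw
    have hlc : p.leadingCoeff ≠ 0 := leadingCoeff_ne_zero.mpr hp
    have hmonic : (C p.leadingCoeff⁻¹ * p).Monic := by
      rw [Monic, leadingCoeff_mul, leadingCoeff_C, inv_mul_cancel₀ hlc]
    have hu := hcon _ hmonic
    have h1 : aeval T (C p.leadingCoeff⁻¹ * p) w = 0 := by
      rw [map_mul, Module.End.mul_apply, hw, map_zero]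
    have h2 : Function.Injective (aeval T (C p.leadingCoeff⁻¹ * p)) :=
      ((Module.End.isUnit_iff _).mp hu).injective
    exact h2 (by rw [h1, map_zero])
  -- the vectors `(T - a)⁻¹ v`
  let U : k → (Module.End k V)ˣ := fun a => (hcon (X - C a) (monic_X_sub_C a)).unit
  have hU : ∀ a, ((U a : (Module.End k V)ˣ) : Module.End k V) = aeval T (X - C a) := fun a => rfl
  let w : k → V := fun a => ((U a)⁻¹ : (Module.End k V)ˣ).1 v
  have hw : ∀ a, aeval T (X - C a) (w a) = v := by
    intro a
    change ((U a : (Module.End k V)ˣ) : Module.End k V) (((U a)⁻¹ : (Module.End k V)ˣ).1 v) = v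
    rw [← Module.End.mul_apply, Units.mul_inv, Module.End.one_apply]
  have hli : LinearIndependent k w := by
    refine linearIndependent_iff'.2 fun s m hm i hi ↦ ?_
    let p : Polynomial k := s.sum fun i ↦ .C (m i) * (s.erase i).prod fun j ↦ .X - .C j
    have hpv : aeval T p v = 0 := by
      have h1 : ∀ i ∈ s, aeval T (s.prod fun j ↦ X - C j) (m i • w i) =
          aeval T (C (m i) * (s.erase i).prod fun j ↦ .X - .C j) v := by
        intro i hi
        rw [← s.prod_erase_mul _ hi, map_mul, Module.End.mul_apply, map_smul, hw, map_mul,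
          Module.End.mul_apply, aeval_C, Module.algebraMap_end_apply, map_smul]
      have := congrArg (aeval T (s.prod fun j ↦ X - C j)) hm
      rw [map_sum, map_zero, Finset.sum_congr rfl h1] at this
      simp only [p, map_sum, LinearMap.sum_apply]
      exact this
    have hp0 : p = 0 := by
      by_contra hp
      exact hv (hinj p hp v hpv)
    have hm' := congrArg (Polynomial.eval i) hp0
    have h2 : ∀ j ∈ s.erase i, m j * ((s.erase j).prod fun x ↦ i - x) = 0 := fun j hj ↦ by
      have := Finset.mem_erase_of_ne_of_mem (Finset.ne_of_mem_erase hj).symm hi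
      simp_rw [← (s.erase j).prod_erase_mul _ this, sub_self, mul_zero]
    simp_rw [p, eval_finsetSum, eval_mul, eval_prod, eval_sub, eval_X, eval_C, eval_zero,
      ← s.sum_erase_add _ hi, Finset.sum_eq_zero h2, zero_add] at hm'
    exact eq_zero_of_ne_zero_of_mul_right_eq_zero (Finset.prod_ne_zero_iff.2 fun j hj ↦
      sub_ne_zero.2 (Finset.ne_of_mem_erase hj).symm) hm'
  exact absurd hli.cardinal_le_rank (not_le.mpr hV)

end Groth.Agent.S9610
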