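import Groth.Statements.S9611
import Mathlib

set_option autoImplicit false
universe u
open CAlg

namespace Groth.Agent.S9611


/-- Let R be a Jacobson ring, p a prime ideal of R which is not maximal, and f an element of R not in p.
Then the set of primes of R containing p and not containing f is infinite. -/
theorem result {R : Type u} [CommRing R] [IsJacobsonRing R] (p : Ideal R) [p.IsPrime] (hp : ¬ p.IsMaximal) (f : R) (hf : f ∉ p) :
    {q : PrimeSpectrum R | p ≤ q.asIdeal ∧ f ∉ q.asIdeal}.Infinite := by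

  classical
  intro hfin
  have hex : ∀ q : PrimeSpectrum R, ∃ g : R, g ∉ p ∧ (p < q.asIdeal → g ∈ q.asIdeal) := by
    intro q
    by_cases hq : p < q.asIdeal
    · obtain ⟨g, hgq, hgp⟩ := Set.exists_of_ssubset hq
      exact ⟨g, hgp, fun _ => hgq⟩
    · exact ⟨1, (Ideal.ne_top_iff_one p).mp (Ideal.IsPrime.ne_top ‹_›), fun h => absurd h hq⟩
  choose g hgp hgq using hex
  let G : R := f * ∏ q ∈ hfin.toFinset, g q
  have hGp : G ∉ p := by
    intro h
    rcases (Ideal.IsPrime.mem_or_mem ‹_› h) with h1 | h1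
    · exact hf h1
    · obtain ⟨q, _, hq⟩ := (Ideal.IsPrime.prod_mem_iff (p := p)).mp h1
      exact hgp q hq
  have hjac : p.jacobson = p := IsJacobsonRing.out ‹_› (Ideal.IsPrime.isRadical ‹_›)
  have hGj : G ∉ p.jacobson := by rw [hjac]; exact hGp
  rw [Ideal.jacobson, Ideal.mem_sInf] at hGj
  push Not at hGj
  obtain ⟨m, ⟨hpm, hm⟩, hGm⟩ := hGj
  have hfm : f ∉ m := fun h => hGm (Ideal.mul_mem_right _ _ h)
  let mq : PrimeSpectrum R := ⟨m, hm.isPrime⟩
  have hmF : mq ∈ hfin.toFinset := by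
    rw [Set.Finite.mem_toFinset]; exact ⟨hpm, hfm⟩
  have hlt : p < m := lt_of_le_of_ne hpm (fun h => hp (h ▸ hm))
  have h1 : g mq ∈ m := hgq mq hlt
  apply hGm
  apply Ideal.mul_mem_left
  exact Ideal.mem_of_dvd _ (Finset.dvd_prod_of_mem g hmF) h1

end Groth.Agent.S9611
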