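import Groth.Statements.S9613
import Mathlib

set_option autoImplicit false
universe u
open CAlg

namespace Groth.Agent.S9613

theorem aux {R K : Type*} [CommRing R] [Field K] [Algebra R K] [Algebra.FiniteType R K]
    (s : Finset K) (hs : Algebra.adjoin R (s : Set K) = ⊤) (y : R)
    (hyK : algebraMap R K y ≠ 0) (hy : ∀ z ∈ s, IsIntegral R (y • z))
    (Rf : Subalgebra R K) (hyinv : (algebraMap R K y)⁻¹ ∈ Rf) :
    IsField Rf ∧ Module.Finite Rf K := by
  have hint : ∀ x ∈ s, IsIntegral Rf x := by
    intro x hx
    have h1 : IsIntegral Rf (y • x) := (hy x hx).tower_top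
    have h2 : IsIntegral Rf (algebraMap Rf K ⟨(algebraMap R K y)⁻¹, hyinv⟩) :=
      isIntegral_algebraMap
    have h3 : x = algebraMap Rf K ⟨(algebraMap R K y)⁻¹, hyinv⟩ * (y • x) := by
      have h4 : algebraMap Rf K ⟨(algebraMap R K y)⁻¹, hyinv⟩ = (algebraMap R K y)⁻¹ := rfl
      rw [h4, Algebra.smul_def, ← mul_assoc, inv_mul_cancel₀ hyK, one_mul]
    rw [h3]
    exact h2.mul h1
  have hadj : Algebra.adjoin Rf (s : Set K) = ⊤ := by
    rw [eq_top_iff]
    intro x _
    have h1 : Algebra.adjoin R (s : Set K) ≤ (Algebra.adjoin Rf (s : Set K)).restrictScalars R := by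
      apply Algebra.adjoin_le
      intro z hz
      exact (Algebra.subset_adjoin hz : z ∈ Algebra.adjoin Rf (s : Set K))
    have : x ∈ Algebra.adjoin R (s : Set K) := by rw [hs]; trivial
    exact h1 this
  have hintK : Algebra.IsIntegral Rf K := by
    constructor
    intro x
    have h1 : Algebra.adjoin Rf (s : Set K) ≤ integralClosure Rf K :=
      Algebra.adjoin_le (fun z hz => hint z hz)
    have : x ∈ Algebra.adjoin Rf (s : Set K) := by rw [hadj]; trivial
    exact h1 this
  refine ⟨?_, ?_⟩
  · exact isField_of_isIntegral_of_isField (R := Rf) (S := K)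
      (Subtype.val_injective) (Field.toIsField K)
  · have : Algebra.FiniteType Rf K := Algebra.FiniteType.of_restrictScalars_finiteType R Rf K
    exact Algebra.IsIntegral.finite

/-- Let R → K be an injective ring map into a field K which makes K an R-algebra of finite type. Then
for some nonzero f ∈ R the localization R_f is a field over which K is finite; here R_f is realised
as the R-subalgebra of K that is a localization of R away from f. -/
theorem result {R K : Type u} [CommRing R] [Field K] [Algebra R K] (hinj : Function.Injective (algebraMap R K)) [Algebra.FiniteType R K] :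
    ∃ f : R, f ≠ 0 ∧ ∃ Rf : Subalgebra R K, IsLocalization.Away f Rf ∧ IsField Rf ∧ Module.Finite Rf K := by
  have hdom : IsDomain R := hinj.isDomain (algebraMap R K)
  -- `K` is algebraic over `R`
  have halg : Algebra.IsAlgebraic R K := by
    let F := FractionRing R
    let _ : Algebra F K := (IsFractionRing.lift hinj).toAlgebra
    have : IsScalarTower R F K :=
      IsScalarTower.of_algebraMap_eq (fun r => (IsFractionRing.lift_algebraMap hinj r).symm)
    have : Algebra.FiniteType F K := Algebra.FiniteType.of_restrictScalars_finiteType R F K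
    have : Module.Finite F K := finite_of_finite_type_of_isJacobsonRing F K
    have : Algebra.IsAlgebraic F K := Algebra.IsAlgebraic.of_finite F K
    exact (IsFractionRing.comap_isAlgebraic_iff (A := R) (K := F) (C := K)).mpr this
  obtain ⟨s, hs⟩ := (Algebra.FiniteType.out : (⊤ : Subalgebra R K).FG)
  obtain ⟨y, hy0, hy⟩ := Algebra.IsAlgebraic.exists_integral_multiples R s
  refine ⟨y, hy0, ?_⟩
  have hyK : algebraMap R K y ≠ 0 := fun h => hy0 (hinj (by rw [h, map_zero]))
  have hyu : ∀ z : Submonoid.powers y, IsUnit ((Algebra.ofId R K) z) := by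
    rintro ⟨z, n, rfl⟩
    simp only [Algebra.ofId_apply, map_pow]
    exact (isUnit_iff_ne_zero.mpr hyK).pow n
  let φ : Localization.Away y →ₐ[R] K := IsLocalization.liftAlgHom hyu
  have hφ : Function.Injective φ := by
    have : Function.Injective (IsLocalization.lift hyu : Localization.Away y → K) := by
      rw [IsLocalization.lift_injective_iff]
      intro a b
      constructor
      · intro h
        have := IsLocalization.injective (Localization.Away y)
          (powers_le_nonZeroDivisors_of_noZeroDivisors hy0) h
        rw [this]
      · intro h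
        have : a = b := hinj h
        rw [this]
    exact this
  have hloc : IsLocalization.Away y φ.range :=
    IsLocalization.isLocalization_of_algEquiv (Submonoid.powers y) (AlgEquiv.ofInjective φ hφ)
  -- the inverse of `y` lies in `Rf`
  have hyinv : (algebraMap R K y)⁻¹ ∈ φ.range := by
    refine ⟨IsLocalization.mk' (Localization.Away y) (1 : R) (⟨y, Submonoid.mem_powers y⟩ :
      Submonoid.powers y), ?_⟩
    apply eq_inv_of_mul_eq_one_left
    have h1 : algebraMap R K y = φ (algebraMap R (Localization.Away y) y) := by
      rw [AlgHom.commutes]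
    rw [h1]
    change φ _ * φ _ = 1
    rw [← map_mul, IsLocalization.mk'_spec, map_one, map_one]
  exact ⟨φ.range, hloc, aux s hs y hyK hy φ.range hyinv⟩

end Groth.Agent.S9613
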