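import Groth.Statements.S9615
import Mathlib

set_option autoImplicit false
universe u
open CAlg

namespace Groth.Agent.S9615

open Polynomial

attribute [local instance] Polynomial.algebra

/-- The "grading to polynomial" ring hom `s ↦ ∑ s_i X^i`. -/
noncomputable def toPoly {S : Type*} [CommRing S] (𝒮 : ℕ → AddSubgroup S) [GradedRing 𝒮] :
    S →+* S[X] :=
  (DirectSum.toSemiring (A := fun i => 𝒮 i)
    (fun i => (Polynomial.monomial i).toAddMonoidHom.comp (𝒮 i).subtype)
    (by simp [GradedMonoid.GOne.one])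
    (by
      intro i j ai aj
      simp [GradedMonoid.GMul.mul, Polynomial.monomial_mul_monomial])).comp
    (DirectSum.decomposeRingEquiv 𝒮).toRingHom

theorem toPoly_apply {S : Type*} [CommRing S] (𝒮 : ℕ → AddSubgroup S) [GradedRing 𝒮] (s : S) :
    toPoly 𝒮 s = DirectSum.toAddMonoid
      (fun i => (Polynomial.monomial i).toAddMonoidHom.comp (𝒮 i).subtype)
      (DirectSum.decompose 𝒮 s) := rfl

theorem toPoly_of_mem {S : Type*} [CommRing S] (𝒮 : ℕ → AddSubgroup S) [GradedRing 𝒮] {i : ℕ}
    {s : S} (hs : s ∈ 𝒮 i) : toPoly 𝒮 s = Polynomial.monomial i s := by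
  rw [toPoly_apply, DirectSum.decompose_of_mem 𝒮 hs, DirectSum.toAddMonoid_of]
  rfl

theorem toPoly_coeff {S : Type*} [CommRing S] (𝒮 : ℕ → AddSubgroup S) [GradedRing 𝒮] (s : S)
    (i : ℕ) : (toPoly 𝒮 s).coeff i = (DirectSum.decompose 𝒮 s i : S) := by
  classical
  have hs : s = ∑ j ∈ (DirectSum.decompose 𝒮 s).support, (DirectSum.decompose 𝒮 s j : S) :=
    (DirectSum.sum_support_decompose 𝒮 s).symm
  conv_lhs => rw [hs]
  rw [map_sum, Polynomial.finsetSum_coeff]
  have : ∀ j ∈ (DirectSum.decompose 𝒮 s).support,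
      (toPoly 𝒮 (DirectSum.decompose 𝒮 s j : S)).coeff i =
        if j = i then (DirectSum.decompose 𝒮 s j : S) else 0 := by
    intro j _
    rw [toPoly_of_mem 𝒮 (DirectSum.decompose 𝒮 s j).2, Polynomial.coeff_monomial]
  rw [Finset.sum_congr rfl this, Finset.sum_ite_eq']
  split_ifs with h
  · rfl
  · exact (by simpa using h : ((DirectSum.decompose 𝒮 s i : 𝒮 i) : S) = 0).symm

/-- Let R → S be a homomorphism of ℕ-graded rings, i.e. the structure map carries each graded piece R_i
into S_i. If an element s of S is integral over R, then each homogeneous component of s is integral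
over R; so the integral closure of R in S is a graded subring of S. -/
theorem result {R S : Type u} [CommRing R] [CommRing S] [Algebra R S] (ℛ : ℕ → AddSubgroup R) [GradedRing ℛ] (𝒮 : ℕ → AddSubgroup S) [GradedRing 𝒮]
    (hmap : ∀ i : ℕ, ∀ r ∈ ℛ i, algebraMap R S r ∈ 𝒮 i) (s : S) (hs : IsIntegral R s) (i : ℕ) :
    IsIntegral R ((DirectSum.decompose 𝒮 s i : 𝒮 i) : S) := by
  classical
  have hcomp : (algebraMap R[X] S[X]).comp (toPoly ℛ) = (toPoly 𝒮).comp (algebraMap R S) := by
    ext1 r
    simp only [RingHom.comp_apply]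
    induction r using DirectSum.Decomposition.inductionOn ℛ with
    | zero => simp
    | @homogeneous j m =>
      rw [toPoly_of_mem ℛ m.2, toPoly_of_mem 𝒮 (hmap j _ m.2)]
      simp [Polynomial.algebraMap_def, Polynomial.map_monomial]
    | add a b ha hb => simp only [map_add, ha, hb]
  have h1 : IsIntegral R[X] (toPoly 𝒮 s) :=
    IsIntegral.map_of_comp_eq (toPoly ℛ) (toPoly 𝒮) hcomp hs
  have := IsIntegral.coeff h1 i
  rwa [toPoly_coeff] at this

end Groth.Agent.S9615
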