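import Groth.Statements.S9616
import Mathlib

set_option autoImplicit false
universe u
open CAlg

namespace Groth.Agent.S9616

open DirectSum

section
variable {R S : Type u} [CommRing R] [CommRing S] [Algebra R S] (𝒜 : ℕ → Submodule R S)
  [GradedAlgebra 𝒜]

/-- A homogeneous ideal inside the irrelevant ideal which is not contained in a prime `q` contains a
homogeneous element of positive degree outside `q`. -/
theorem exists_homogeneous_not_mem (K : Ideal S) (hK : K.IsHomogeneous 𝒜)
    (hK0 : K ≤ (HomogeneousIdeal.irrelevant 𝒜).toIdeal) (q : Ideal S) (hKq : ¬ K ≤ q) :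
    ∃ y : S, ∃ e : ℕ, 0 < e ∧ y ∈ 𝒜 e ∧ y ∈ K ∧ y ∉ q := by
  classical
  obtain ⟨z, hzK, hzq⟩ := SetLike.not_le_iff_exists.mp hKq
  have : ∃ e, (decompose 𝒜 z e : S) ∉ q := by
    by_contra hcon
    push Not at hcon
    apply hzq
    rw [← sum_support_decompose 𝒜 z]
    exact Ideal.sum_mem _ fun e _ => hcon e
  obtain ⟨e, he⟩ := this
  have hyK : (decompose 𝒜 z e : S) ∈ K := hK e hzK
  refine ⟨(decompose 𝒜 z e : S), e, ?_, (decompose 𝒜 z e).2, hyK, he⟩
  rcases Nat.eq_zero_or_pos e with rfl | hpos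
  · exfalso
    apply he
    have h1 := hK0 hyK
    rw [HomogeneousIdeal.mem_iff, HomogeneousIdeal.mem_irrelevant_iff, GradedRing.proj_apply,
      decompose_of_mem_same 𝒜 (decompose 𝒜 z 0).2] at h1
    rw [h1]
    exact zero_mem _
  · exact hpos

theorem avoid (I : Ideal S) (hIh : I.IsHomogeneous 𝒜)
    (hI : I ≤ (HomogeneousIdeal.irrelevant 𝒜).toIdeal) :
    ∀ (n : ℕ) (s : Finset (Ideal S)), s.card = n → (∀ p ∈ s, p.IsPrime ∧ p.IsHomogeneous 𝒜) →
      (∀ p ∈ s, ¬ I ≤ p) → ∃ x : S, ∃ d : ℕ, 0 < d ∧ x ∈ 𝒜 d ∧ x ∈ I ∧ ∀ p ∈ s, x ∉ p := by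
  classical
  intro n
  induction n with
  | zero =>
    intro s hs _ _
    rw [Finset.card_eq_zero] at hs
    subst hs
    exact ⟨0, 1, Nat.one_pos, zero_mem _, zero_mem _, by simp⟩
  | succ n ih =>
    intro s hs hprime hnot
    by_cases hincl : ∃ p ∈ s, ∃ q ∈ s, p ≠ q ∧ p ≤ q
    · obtain ⟨p, hp, q, hq, hpq, hle⟩ := hincl
      obtain ⟨x, d, hd, hxd, hxI, hx⟩ := ih (s.erase p) (by rw [Finset.card_erase_of_mem hp, hs]; rfl)
        (fun p' hp' => hprime p' (Finset.mem_of_mem_erase hp'))
        (fun p' hp' => hnot p' (Finset.mem_of_mem_erase hp'))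
      refine ⟨x, d, hd, hxd, hxI, fun p' hp' => ?_⟩
      by_cases hp'p : p' = p
      · subst hp'p
        intro hxp
        exact hx q (Finset.mem_erase.mpr ⟨fun h => hpq h.symm, hq⟩) (hle hxp)
      · exact hx p' (Finset.mem_erase.mpr ⟨hp'p, hp'⟩)
    · push Not at hincl
      have hne : s.Nonempty := by
        rw [← Finset.card_pos, hs]; exact Nat.succ_pos n
      obtain ⟨q, hq⟩ := hne
      obtain ⟨x, d, hd, hxd, hxI, hx⟩ := ih (s.erase q) (by rw [Finset.card_erase_of_mem hq, hs]; rfl)
        (fun p' hp' => hprime p' (Finset.mem_of_mem_erase hp'))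
        (fun p' hp' => hnot p' (Finset.mem_of_mem_erase hp'))
      by_cases hxq : x ∈ q
      · -- the ideal `K`
        set K : Ideal S := I ⊓ (s.erase q).inf id with hKdef
        have hKh : K.IsHomogeneous 𝒜 := by
          refine Ideal.IsHomogeneous.inf hIh ?_
          have : (s.erase q).inf id = ⨅ p ∈ (s.erase q), p := by
            rw [Finset.inf_eq_iInf]; rfl
          rw [this]
          exact Ideal.IsHomogeneous.iInf₂ fun p hp => (hprime p (Finset.mem_of_mem_erase hp)).2
        have hqprime : q.IsPrime := (hprime q hq).1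
        have hKq : ¬ K ≤ q := by
          rw [hKdef, Ideal.IsPrime.inf_le hqprime, Ideal.IsPrime.inf_le' hqprime]
          rintro (h | ⟨p, hp, hpq⟩)
          · exact hnot q hq h
          · exact hincl p (Finset.mem_of_mem_erase hp) q hq (Finset.ne_of_mem_erase hp) hpq
        obtain ⟨y, e, he, hye, hyK, hyq⟩ :=
          exists_homogeneous_not_mem 𝒜 K hKh (inf_le_left.trans hI) q hKq
        have hyI : y ∈ I := (inf_le_left : K ≤ I) hyK
        have hyp : ∀ p ∈ s.erase q, y ∈ p := by
          intro p hp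
          have : K ≤ p := inf_le_right.trans (Finset.inf_le (f := id) hp)
          exact this hyK
        refine ⟨x ^ e + y ^ d, e * d, Nat.mul_pos he hd, ?_, ?_, ?_⟩
        · refine add_mem ?_ ?_
          · have := SetLike.pow_mem_graded e hxd
            rwa [smul_eq_mul] at this
          · have := SetLike.pow_mem_graded d hye
            rwa [smul_eq_mul, mul_comm] at this
        · exact add_mem (Ideal.pow_mem_of_mem _ hxI e he) (Ideal.pow_mem_of_mem _ hyI d hd)
        · intro p hp
          by_cases hpq : p = q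
          · subst hpq
            intro hmem
            have h1 : x ^ e ∈ p := Ideal.pow_mem_of_mem _ hxq e he
            have h2 : y ^ d ∈ p := (Ideal.add_mem_iff_right _ h1).mp hmem
            exact hyq (hqprime.mem_of_pow_mem d h2)
          · have hp' : p ∈ s.erase q := Finset.mem_erase.mpr ⟨hpq, hp⟩
            have hpprime : p.IsPrime := (hprime p hp).1
            intro hmem
            have h1 : y ^ d ∈ p := Ideal.pow_mem_of_mem _ (hyp p hp') d hd
            have h2 : x ^ e ∈ p := (Ideal.add_mem_iff_left _ h1).mp hmem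
            exact hx p hp' (hpprime.mem_of_pow_mem e h2)
      · refine ⟨x, d, hd, hxd, hxI, fun p hp => ?_⟩
        by_cases hpq : p = q
        · subst hpq; exact hxq
        · exact hx p (Finset.mem_erase.mpr ⟨hpq, hp⟩)

end

/-- Let S be an ℕ-graded ring, p_1, …, p_r homogeneous prime ideals of S and I ⊆ S₊ a homogeneous ideal
not contained in any p_i. Then there is a homogeneous element x ∈ I of positive degree with x ∉ p_i
for all i. -/
theorem result {R S : Type u} [CommRing R] [CommRing S] [Algebra R S] (𝒜 : ℕ → Submodule R S) [GradedAlgebra 𝒜]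
    {r : ℕ} (p : Fin r → HomogeneousIdeal 𝒜) (hp : ∀ i, (p i).toIdeal.IsPrime) (I : HomogeneousIdeal 𝒜) (hI : I ≤ HomogeneousIdeal.irrelevant 𝒜) (h : ∀ i, ¬ I ≤ p i) :
    ∃ x : S, ∃ d : ℕ, 0 < d ∧ x ∈ 𝒜 d ∧ x ∈ I ∧ ∀ i, x ∉ p i := by
  classical
  obtain ⟨x, d, hd, hxd, hxI, hx⟩ := avoid 𝒜 I.toIdeal I.isHomogeneous
    (fun x hx => hI hx) _ (Finset.univ.image fun i => (p i).toIdeal) rfl
    (by
      intro q hq
      rw [Finset.mem_image] at hq
      obtain ⟨i, _, rfl⟩ := hq
      exact ⟨hp i, (p i).isHomogeneous⟩)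
    (by
      intro q hq
      rw [Finset.mem_image] at hq
      obtain ⟨i, _, rfl⟩ := hq
      intro hle
      exact h i fun x hx => hle hx)
  refine ⟨x, d, hd, hxd, hxI, fun i hxi => ?_⟩
  exact hx (p i).toIdeal (Finset.mem_image.mpr ⟨i, Finset.mem_univ _, rfl⟩) hxi

end Groth.Agent.S9616
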