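import Groth.Statements.S9617
import Mathlib

set_option autoImplicit false
set_option linter.unusedSectionVars false
universe u
open CAlg

namespace Groth.Agent.S9617

open DirectSum

section General

variable {A S : Type u} [CommRing A] [CommRing S] [Algebra A S] (𝒜 : ℕ → Submodule A S)
  [GradedAlgebra 𝒜]
  {M : Type u} [AddCommGroup M] [Module A M] [Module S M] [IsScalarTower A S M]
  (ℳ : ℕ → Submodule A M) [DirectSum.Decomposition ℳ] [SetLike.GradedSMul 𝒜 ℳ]

theorem coe_decompose_sum {ι : Type*} (d : ℕ) (s : Finset ι) (f : ι → M) :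
    (decompose ℳ (∑ i ∈ s, f i) d : M) = ∑ i ∈ s, (decompose ℳ (f i) d : M) := by
  classical
  rw [decompose_sum, DFinsupp.finsetSum_apply, AddSubmonoidClass.coe_finsetSum]

theorem coe_decompose_of_mem (d e : ℕ) {m : M} (hm : m ∈ ℳ e) :
    (decompose ℳ m d : M) = if e = d then m else 0 := by
  classical
  split_ifs with hed
  · subst hed; exact decompose_of_mem_same ℳ hm
  · exact decompose_of_mem_ne ℳ hm hed

open Classical in
include 𝒜 in
theorem coe_decompose_smul (d : ℕ) (a : S) (m : M) :
    (decompose ℳ (a • m) d : M) =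
      ∑ e ∈ (decompose 𝒜 a).support, ∑ f ∈ (decompose ℳ m).support,
        if e + f = d then ((decompose 𝒜 a e : S) • (decompose ℳ m f : M)) else 0 := by
  classical
  conv_lhs => rw [← sum_support_decompose 𝒜 a, ← sum_support_decompose ℳ m,
    Finset.sum_smul_sum]
  rw [coe_decompose_sum]
  refine Finset.sum_congr rfl fun e _ => ?_
  rw [coe_decompose_sum]
  refine Finset.sum_congr rfl fun f _ => ?_
  exact coe_decompose_of_mem ℳ d (e + f)
    (SetLike.GradedSMul.smul_mem (decompose 𝒜 a e).2 (decompose ℳ m f).2)

/-- the `A`-linear map `c ↦ c • m`. -/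
noncomputable def φ (m : M) : S →ₗ[A] M := (LinearMap.toSpanSingleton S M m).restrictScalars A

@[simp] theorem φ_apply (m : M) (c : S) : φ (A := A) m c = c • m := rfl

/-- The candidate finite generating family of `ℳ n`. -/
noncomputable def cand (G : Finset M) (n : ℕ) : Submodule A M :=
  ⨆ g ∈ G, ⨆ f ∈ Finset.range (n + 1), (𝒜 (n - f)).map (φ (A := A) (decompose ℳ g f : M))

theorem cand_le (G : Finset M) (n : ℕ) : cand 𝒜 ℳ G n ≤ ℳ n := by
  refine iSup₂_le fun g _ => iSup₂_le fun f hf => ?_
  rw [Submodule.map_le_iff_le_comap]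
  intro c hc
  rw [Submodule.mem_comap, φ_apply]
  have : c • (decompose ℳ g f : M) ∈ ℳ (n - f + f) :=
    SetLike.GradedSMul.smul_mem hc (decompose ℳ g f).2
  rw [Finset.mem_range] at hf
  have h2 : n - f + f = n := by omega
  rwa [h2] at this

theorem mem_cand (G : Finset M) (n : ℕ) {x : M} (hx : x ∈ ℳ n)
    (hxG : x ∈ Submodule.span S (G : Set M)) : x ∈ cand 𝒜 ℳ G n := by
  classical
  obtain ⟨c, -, rfl⟩ := Submodule.mem_span_finset.mp hxG
  have h1 : (decompose ℳ (∑ g ∈ G, c g • g) n : M) = ∑ g ∈ G, c g • g := by
    rw [coe_decompose_of_mem ℳ n n hx, if_pos rfl]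
  rw [← h1, coe_decompose_sum]
  refine Submodule.sum_mem _ fun g hg => ?_
  rw [coe_decompose_smul 𝒜 ℳ]
  refine Submodule.sum_mem _ fun e _ => Submodule.sum_mem _ fun f _ => ?_
  split_ifs with hef
  · have hf : f ∈ Finset.range (n + 1) := by rw [Finset.mem_range]; omega
    refine Submodule.mem_iSup_of_mem g (Submodule.mem_iSup_of_mem hg
      (Submodule.mem_iSup_of_mem f (Submodule.mem_iSup_of_mem hf ?_)))
    have he : e = n - f := by omega
    refine ⟨(decompose 𝒜 (c g) e : S), ?_, rfl⟩
    rw [← he]
    exact (decompose 𝒜 (c g) e).2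
  · exact zero_mem _

theorem cand_fg (G : Finset M) (n : ℕ)
    (h : ∀ g ∈ G, ∀ f ≤ n, (decompose ℳ g f : M) = 0 ∨ (𝒜 (n - f)).FG) :
    (cand 𝒜 ℳ G n).FG := by
  refine Submodule.fg_biSup _ _ fun g hg => Submodule.fg_biSup _ _ fun f hf => ?_
  rw [Finset.mem_range] at hf
  rcases h g hg f (by omega) with h0 | hfg
  · rw [h0]
    have : φ (A := A) (S := S) (0 : M) = 0 := by
      ext c; simp
    rw [this, Submodule.map_zero]
    exact Submodule.fg_bot
  · exact hfg.map _

end General

/-- Let S be an ℕ-graded ring, presented as a graded algebra over a ring A mapping onto S₀, such that S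
is of finite type over A, i.e. over S₀. If M is a finitely generated graded S-module, graded in
nonnegative degrees (the source allows all integer degrees), then each graded piece M_n is a finite
module over A, i.e. over S₀. -/
theorem result {A S : Type u} [CommRing A] [CommRing S] [Algebra A S] (𝒜 : ℕ → Submodule A S) [GradedAlgebra 𝒜]
    (h0 : ∀ s ∈ 𝒜 0, s ∈ Set.range (algebraMap A S)) [Algebra.FiniteType A S]
    (M : Type u) [AddCommGroup M] [Module A M] [Module S M] [IsScalarTower A S M] [Module.Finite S M] (ℳ : ℕ → Submodule A M) [DirectSum.Decomposition ℳ] [SetLike.GradedSMul 𝒜 ℳ] (n : ℕ) :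
    Module.Finite A (ℳ n) := by
  classical
  -- homogeneous generators of positive degree
  have : IsScalarTower A (𝒜 0) S :=
    ⟨fun a x y => by
      change (a • (x : S)) * y = a • ((x : S) * y)
      exact smul_mul_assoc a _ y⟩
  have : Algebra.FiniteType (𝒜 0) S := Algebra.FiniteType.of_restrictScalars_finiteType A (𝒜 0) S
  obtain ⟨s, hs, hdeg⟩ := GradedAlgebra.exists_finset_adjoin_eq_top_and_homogeneous_ne_zero 𝒜
  -- positive degree pieces lie in the ideal generated by `s`
  have hP : ∀ x : S, ∀ d, 0 < d → (decompose 𝒜 x d : S) ∈ Ideal.span (s : Set S) := by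
    intro x
    have hx : x ∈ Algebra.adjoin (𝒜 0) (s : Set S) := by rw [hs]; trivial
    induction hx using Algebra.adjoin_induction with
    | mem t ht =>
      intro d hd
      obtain ⟨e, he, hte⟩ := hdeg t ht
      rw [coe_decompose_of_mem 𝒜 d e hte]
      split_ifs
      · exact Ideal.subset_span ht
      · exact zero_mem _
    | algebraMap r =>
      intro d hd
      rw [coe_decompose_of_mem 𝒜 d 0 (by exact r.2), if_neg (by omega)]
      exact zero_mem _
    | add x y _ _ hx hy =>
      intro d hd
      rw [decompose_add, DirectSum.add_apply, Submodule.coe_add]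
      exact add_mem (hx d hd) (hy d hd)
    | mul x y _ _ hx hy =>
      intro d hd
      have := coe_decompose_smul 𝒜 𝒜 d x y
      rw [smul_eq_mul] at this
      rw [this]
      refine Submodule.sum_mem _ fun e _ => Submodule.sum_mem _ fun f _ => ?_
      split_ifs with hef
      · rcases Nat.eq_zero_or_pos f with hf | hf
        · have he : 0 < e := by omega
          exact Ideal.mul_mem_right _ _ (hx e he)
        · exact Ideal.mul_mem_left _ _ (hy f hf)
      · exact zero_mem _
  -- each graded piece of `S` is finitely generated over `A`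
  have hA : ∀ d, (𝒜 d).FG := by
    intro d
    induction d using Nat.strong_induction_on with
    | _ d IH =>
      rcases Nat.eq_zero_or_pos d with rfl | hd
      · have : 𝒜 0 = Submodule.span A {(1 : S)} := by
          apply le_antisymm
          · intro x hx
            obtain ⟨a, rfl⟩ := h0 x hx
            rw [Algebra.algebraMap_eq_smul_one]
            exact Submodule.smul_mem _ _ (Submodule.mem_span_singleton_self _)
          · rw [Submodule.span_le, Set.singleton_subset_iff]
            exact SetLike.GradedOne.one_mem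
        rw [this]
        exact Submodule.fg_span_singleton _
      · have : 𝒜 d = cand 𝒜 𝒜 s d := by
          apply le_antisymm
          · intro x hx
            refine mem_cand 𝒜 𝒜 s d hx ?_
            have := hP x d hd
            rwa [coe_decompose_of_mem 𝒜 d d hx, if_pos rfl] at this
          · exact cand_le 𝒜 𝒜 s d
        rw [this]
        refine cand_fg 𝒜 𝒜 s d fun g hg f hf => ?_
        rcases Nat.eq_zero_or_pos f with rfl | hfpos
        · left
          obtain ⟨e, he, hge⟩ := hdeg g hg
          rw [coe_decompose_of_mem 𝒜 0 e hge, if_neg he]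
        · right
          exact IH (d - f) (by omega)
  -- now the module
  obtain ⟨G, hG⟩ := (Module.finite_def (R := S) (M := M)).mp inferInstance
  have : ℳ n = cand 𝒜 ℳ G n := by
    apply le_antisymm
    · intro x hx
      exact mem_cand 𝒜 ℳ G n hx (by rw [hG]; trivial)
    · exact cand_le 𝒜 ℳ G n
  rw [Module.Finite.iff_fg, this]
  exact cand_fg 𝒜 ℳ G n fun g _ f _ => Or.inr (hA _)

end Groth.Agent.S9617
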