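import Groth.Statements.S9618
import Groth.Agent.Helper4.SpecConnIdem

set_option autoImplicit false
universe u
open CAlg

namespace Groth.Agent.S9618

open PrimeSpectrum Groth.Agent.Helper4

/-- For a ring R and a subset T of Spec R the following are equivalent: (1) T is closed and contains the
connected component of each of its points; (2) T can be written as an intersection of subsets of
Spec R that are both open and closed; (3) T is the common zero locus of some set of idempotent
elements of R (equivalently, of the ideal they generate). -/
theorem result {R : Type u} [CommRing R] (T : Set (PrimeSpectrum R)) :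
    [IsClosed T ∧ ∀ x ∈ T, connectedComponent x ⊆ T,
      ∃ U : Set (Set (PrimeSpectrum R)), (∀ u ∈ U, IsClopen u) ∧ T = ⋂₀ U,
      ∃ E : Set R, (∀ e ∈ E, IsIdempotentElem e) ∧ T = PrimeSpectrum.zeroLocus E].TFAE := by
  tfae_have 3 → 2 := by
    rintro ⟨E, hE, rfl⟩
    refine ⟨(fun e => zeroLocus ({e} : Set R)) '' E, ?_, ?_⟩
    · rintro u ⟨e, he, rfl⟩
      exact isClopen_zeroLocus_singleton_of_isIdempotentElem (hE e he)
    · ext x
      simp only [mem_zeroLocus, Set.sInter_image, Set.mem_iInter, Set.singleton_subset_iff]
      rfl
  tfae_have 2 → 1 := by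
    rintro ⟨U, hU, rfl⟩
    refine ⟨isClosed_sInter fun u hu => (hU u hu).1, fun x hx => ?_⟩
    apply Set.subset_sInter
    intro u hu
    exact (hU u hu).connectedComponent_subset (hx u hu)
  tfae_have 1 → 3 := by
    rintro ⟨hclosed, hcomp⟩
    refine ⟨{e | IsIdempotentElem e ∧ T ⊆ zeroLocus ({e} : Set R)}, fun e he => he.1, ?_⟩
    apply Set.Subset.antisymm
    · intro x hx
      rw [mem_zeroLocus]
      intro e he
      have := he.2 hx
      rwa [mem_zeroLocus, Set.singleton_subset_iff] at this
    · intro q hq
      by_contra hqT
      -- `T = V(J)`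
      set J := vanishingIdeal T with hJ
      have hTJ : zeroLocus (J : Set R) = T := by
        rw [hJ, zeroLocus_vanishingIdeal_eq_closure, hclosed.closure_eq]
      -- the component of `q` does not meet `T`
      have hdisj : zeroLocus (idemSet q.asIdeal) ∩ T = ∅ := by
        rw [Set.eq_empty_iff_forall_notMem]
        rintro y ⟨hy1, hy2⟩
        rw [← connectedComponent_eq_zeroLocus_idemSet] at hy1
        have h1 : connectedComponent q = connectedComponent y := connectedComponent_eq hy1
        have h2 : q ∈ connectedComponent y := h1 ▸ mem_connectedComponent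
        exact hqT (hcomp y hy2 h2)
      have htop : Ideal.span (idemSet q.asIdeal) ⊔ J = ⊤ := by
        rw [← zeroLocus_empty_iff_eq_top, zeroLocus_sup, zeroLocus_span, hTJ]
        exact hdisj
      obtain ⟨a, ha, b, hb, hab⟩ := Submodule.mem_sup.mp
        (htop ▸ Submodule.mem_top : (1 : R) ∈ Ideal.span (idemSet q.asIdeal) ⊔ J)
      obtain ⟨e', he', he'q, hmul⟩ := exists_idem_mul_eq q.asIdeal a ha
      have h1 : 1 - e' ∈ J := by
        have : 1 - e' = (1 - e') * b := by
          linear_combination (-(1 - e')) * hab - hmul
        rw [this]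
        exact J.mul_mem_left _ hb
      have h2 : T ⊆ zeroLocus ({1 - e'} : Set R) := by
        rw [← hTJ]
        apply zeroLocus_anti_mono
        rw [Set.singleton_subset_iff]
        exact h1
      have h3 : (1 - e') ∈ q.asIdeal := by
        rw [mem_zeroLocus] at hq
        exact hq ⟨he'.one_sub, h2⟩
      have h4 : (1 : R) ∈ q.asIdeal := by
        have : (1 : R) = (1 - e') + e' := by ring
        rw [this]
        exact add_mem h3 he'q
      exact q.isPrime.ne_top ((Ideal.eq_top_iff_one _).mpr h4)
  tfae_finish

end Groth.Agent.S9618
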