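import Groth.Statements.S9621
import Mathlib

set_option autoImplicit false
universe u
open CAlg

namespace Groth.Agent.S9621


/-- Let R be a ring, p a minimal prime of R and W a quasi-compact open subset of Spec R not containing
p. Then there is an f ∈ R, f ∉ p, whose basic open D(f) is disjoint from W. -/
theorem result {R : Type u} [CommRing R] (p : PrimeSpectrum R) (hp : p.asIdeal ∈ minimalPrimes R) (W : Set (PrimeSpectrum R)) (hWo : IsOpen W) (hWc : IsCompact W) (hpW : p ∉ W) :
    ∃ f : R, f ∉ p.asIdeal ∧ Disjoint (PrimeSpectrum.basicOpen f : Set (PrimeSpectrum R)) W := by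

  classical
  obtain ⟨G, hG⟩ := PrimeSpectrum.isCompact_isOpen_iff.mp ⟨hWc, hWo⟩
  have hp' : p.asIdeal ∈ (⊥ : Ideal R).minimalPrimes := hp
  have hprime : p.asIdeal.IsPrime := p.2
  have hGp : ∀ g ∈ G, g ∈ p.asIdeal := by
    intro g hg
    by_contra hgp
    apply hpW
    rw [← hG, Set.mem_compl_iff, PrimeSpectrum.mem_zeroLocus]
    intro hsub
    exact hgp (hsub hg)
  have hex : ∀ g ∈ p.asIdeal, ∃ c ∉ p.asIdeal, ∃ k : ℕ, c * g ^ k = 0 := by
    intro g hg
    have hrad := IsLocalization.AtPrime.radical_map_of_mem_minimalPrimes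
      (Localization.AtPrime p.asIdeal) p.asIdeal (⊥ : Ideal R) hp'
    have h1 : algebraMap R (Localization.AtPrime p.asIdeal) g ∈
        ((⊥ : Ideal R).map (algebraMap R (Localization.AtPrime p.asIdeal))).radical := by
      rw [hrad]; exact Ideal.mem_map_of_mem _ hg
    rw [Ideal.map_bot] at h1
    obtain ⟨k, hk⟩ := h1
    rw [Ideal.mem_bot, ← map_pow, IsLocalization.map_eq_zero_iff p.asIdeal.primeCompl] at hk
    obtain ⟨c, hc⟩ := hk
    exact ⟨c.1, c.2, k, hc⟩
  choose! c hc k hck using hex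
  refine ⟨∏ g ∈ G, c g, ?_, ?_⟩
  · intro hmem
    obtain ⟨g, hgG, hcg⟩ := (hprime.prod_mem_iff).mp hmem
    exact hc g (hGp g hgG) hcg
  · rw [Set.disjoint_left]
    intro q hqf hqW
    rw [← hG, Set.mem_compl_iff, PrimeSpectrum.mem_zeroLocus, Set.not_subset] at hqW
    obtain ⟨g, hgG, hgq⟩ := hqW
    apply hqf
    have h0 : c g * g ^ k g ∈ q.asIdeal := by rw [hck g (hGp g hgG)]; exact Ideal.zero_mem _
    have hcq : c g ∈ q.asIdeal := by
      rcases q.2.mem_or_mem h0 with h | h
      · exact h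
      · exact absurd (q.2.mem_of_pow_mem _ h) hgq
    exact Ideal.mem_of_dvd _ (Finset.dvd_prod_of_mem c hgG) hcq

end Groth.Agent.S9621
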