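import Groth.Statements.S9622
import Mathlib

set_option autoImplicit false
universe u
open CAlg

namespace Groth.Agent.S9622

theorem maximalIdeal_le_nilradical {S : Type*} [CommRing S] [IsArtinianRing S] [IsLocalRing S] :
    IsLocalRing.maximalIdeal S ≤ nilradical S := by
  have h1 : (⊥ : Ideal S).jacobson = IsLocalRing.maximalIdeal S :=
    IsLocalRing.jacobson_eq_maximalIdeal ⊥ bot_ne_top
  have h2 : IsNilpotent (⊥ : Ideal S).jacobson := IsArtinianRing.isNilpotent_jacobson_bot
  rw [h1] at h2
  obtain ⟨n, hn⟩ := h2
  intro x hx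
  refine ⟨n, ?_⟩
  have : x ^ n ∈ IsLocalRing.maximalIdeal S ^ n := Ideal.pow_mem_pow hx n
  rw [hn] at this
  exact this

theorem finite_of_finite_quotient {R S : Type*} [CommRing R] [CommRing S] [Algebra R S]
    [IsArtinianRing S] [IsLocalRing S]
    (h : Module.Finite R (S ⧸ IsLocalRing.maximalIdeal S)) : Module.Finite R S := by
  have hN : IsNoetherianRing S := inferInstance
  refine Module.finite_of_surjective_of_ker_le_nilradical
    (Ideal.Quotient.mkₐ R (IsLocalRing.maximalIdeal S)) (Ideal.Quotient.mkₐ_surjective R _) ?_ ?_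
  · have hk : RingHom.ker (Ideal.Quotient.mkₐ R (IsLocalRing.maximalIdeal S)) =
        IsLocalRing.maximalIdeal S := Ideal.Quotient.mkₐ_ker R _
    rw [hk]
    exact maximalIdeal_le_nilradical
  · exact (isNoetherianRing_iff_ideal_fg S).mp hN _

theorem finiteType_of_finiteType_quotient {R S : Type*} [CommRing R] [CommRing S] [Algebra R S]
    [IsArtinianRing S] [IsLocalRing S]
    (h : Algebra.FiniteType R (S ⧸ IsLocalRing.maximalIdeal S)) : Algebra.FiniteType R S := by
  classical
  obtain ⟨t, ht⟩ := h.out
  -- lift the generators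
  have hsurj := Ideal.Quotient.mk_surjective (I := IsLocalRing.maximalIdeal S)
  choose lift hlift using hsurj
  let t' : Finset S := t.image lift
  let A' : Subalgebra R S := Algebra.adjoin R (t' : Set S)
  have hA'ft : Algebra.FiniteType R A' :=
    (Subalgebra.fg_iff_finiteType A').mp (Subalgebra.fg_adjoin_finset t')
  -- `S ⧸ m` is a quotient of `A'`
  let φ : A' →ₐ[R] (S ⧸ IsLocalRing.maximalIdeal S) :=
    (Ideal.Quotient.mkₐ R (IsLocalRing.maximalIdeal S)).comp A'.val
  have hφ : Function.Surjective φ := by
    rw [← AlgHom.range_eq_top, eq_top_iff, ← ht]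
    apply Algebra.adjoin_le
    intro x hx
    refine ⟨⟨lift x, Algebra.subset_adjoin ?_⟩, ?_⟩
    · exact Finset.mem_coe.mpr (Finset.mem_image_of_mem lift hx)
    · exact hlift x
  let _ : Algebra A' (S ⧸ IsLocalRing.maximalIdeal S) := φ.toRingHom.toAlgebra
  have : IsScalarTower A' S (S ⧸ IsLocalRing.maximalIdeal S) := IsScalarTower.of_algebraMap_eq fun x => rfl
  have : Module.Finite A' (S ⧸ IsLocalRing.maximalIdeal S) :=
    Module.Finite.of_surjective (Algebra.linearMap A' (S ⧸ IsLocalRing.maximalIdeal S)) hφ
  have hfin : Module.Finite A' S := finite_of_finite_quotient inferInstance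
  exact Algebra.FiniteType.trans hA'ft inferInstance

/-- Let R → S be a ring map whose target S is a local Artinian ring, and write m for the maximal ideal
of S. Then S is a finite R-module exactly when S/m is, and S is an R-algebra of finite type exactly
when S/m is. -/
theorem result {R S : Type u} [CommRing R] [CommRing S] [Algebra R S] [IsArtinianRing S] [IsLocalRing S] :
    (Module.Finite R S ↔ Module.Finite R (S ⧸ IsLocalRing.maximalIdeal S)) ∧
      (Algebra.FiniteType R S ↔ Algebra.FiniteType R (S ⧸ IsLocalRing.maximalIdeal S)) := by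
  refine ⟨⟨fun h => inferInstance, finite_of_finite_quotient⟩,
    ⟨fun h => ?_, finiteType_of_finiteType_quotient⟩⟩
  exact Algebra.FiniteType.of_surjective (Ideal.Quotient.mkₐ R (IsLocalRing.maximalIdeal S))
    (Ideal.Quotient.mkₐ_surjective R _)

end Groth.Agent.S9622
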