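import Groth.Statements.S9633
import Mathlib

set_option autoImplicit false
universe u
open CAlg

namespace Groth.Agent.S9633


/-- For a ring R with spectrum X the following are equivalent: (1) X is profinite, i.e. compact,
Hausdorff and totally disconnected; (2) X is Hausdorff; (3) X is totally disconnected; (4) every
quasi-compact open subset of X is closed; (5) there are no nontrivial inclusions among prime ideals
of R; (6) every prime ideal of R is maximal; (7) every prime ideal of R is a minimal prime; (8)
every standard open D(f) is closed. -/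
theorem result {R : Type u} [CommRing R] :
    [CompactSpace (PrimeSpectrum R) ∧ T2Space (PrimeSpectrum R) ∧ TotallyDisconnectedSpace (PrimeSpectrum R),
      T2Space (PrimeSpectrum R),
      TotallyDisconnectedSpace (PrimeSpectrum R),
      ∀ W : Set (PrimeSpectrum R), IsOpen W → IsCompact W → IsClosed W,
      ∀ p q : PrimeSpectrum R, p ≤ q → p = q,
      ∀ p : Ideal R, p.IsPrime → p.IsMaximal,
      ∀ p : Ideal R, p.IsPrime → p ∈ minimalPrimes R,
      ∀ f : R, IsClosed (PrimeSpectrum.basicOpen f : Set (PrimeSpectrum R))].TFAE := by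

  tfae_have 1 → 2 := fun h => h.2.1
  tfae_have 1 → 3 := fun h => h.2.2
  tfae_have 2 → 5 := by
    intro h p q hpq
    exact ((PrimeSpectrum.le_iff_specializes p q).mp hpq).eq
  tfae_have 3 → 5 := by
    intro h p q hpq
    exact ((PrimeSpectrum.le_iff_specializes p q).mp hpq).eq
  tfae_have 5 → 6 := by
    intro h p hp
    obtain ⟨m, hm, hpm⟩ := Ideal.exists_le_maximal p hp.ne_top
    have := h ⟨p, hp⟩ ⟨m, hm.isPrime⟩ hpm
    have hpm' : p = m := congrArg PrimeSpectrum.asIdeal this
    rw [hpm']; exact hm
  tfae_have 6 → 7 := by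
    intro h p hp
    refine ⟨⟨hp, bot_le⟩, fun q hq hqp => ?_⟩
    have hqm := h q hq.1
    exact (hqm.eq_of_le hp.ne_top hqp).ge
  tfae_have 7 → 5 := by
    intro h p q hpq
    have hq := h q.asIdeal q.2
    have : q.asIdeal ≤ p.asIdeal := hq.2 ⟨p.2, bot_le⟩ hpq
    exact le_antisymm hpq this
  tfae_have 5 → 4 := by
    intro h W hWo hWc
    apply PrimeSpectrum.isClosed_of_stableUnderSpecialization_of_isConstructible
    · intro p q hpq hp
      have := h p q ((PrimeSpectrum.le_iff_specializes p q).mpr hpq)
      rwa [← this]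
    · exact (hWc.isRetrocompact hWo).isConstructible hWo
  tfae_have 4 → 8 := by
    intro h f
    exact h _ (PrimeSpectrum.basicOpen f).2 (PrimeSpectrum.isCompact_basicOpen f)
  tfae_have 8 → 1 := by
    intro h
    have hTS : TotallySeparatedSpace (PrimeSpectrum R) := by
      rw [totallySeparatedSpace_iff_exists_isClopen]
      intro p q hpq
      by_cases hle : p.asIdeal ≤ q.asIdeal
      · have hnle : ¬ q.asIdeal ≤ p.asIdeal := fun h' => hpq (PrimeSpectrum.ext (le_antisymm hle h'))
        obtain ⟨f, hfq, hfp⟩ := SetLike.not_le_iff_exists.mp hnle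
        exact ⟨PrimeSpectrum.basicOpen f, ⟨h f, (PrimeSpectrum.basicOpen f).2⟩, hfp,
          fun hq => hq hfq⟩
      · obtain ⟨f, hfp, hfq⟩ := SetLike.not_le_iff_exists.mp hle
        refine ⟨(PrimeSpectrum.basicOpen f : Set (PrimeSpectrum R))ᶜ,
          ⟨(PrimeSpectrum.basicOpen f).2.isClosed_compl, (h f).isOpen_compl⟩, fun hp => hp hfp, ?_⟩
        rw [compl_compl]; exact hfq
    exact ⟨inferInstance, inferInstance, inferInstance⟩
  tfae_finish

end Groth.Agent.S9633
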