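import Groth.Statements.S9635
import Groth.Agent.Helper4.GeomRed3
import Mathlib

set_option autoImplicit false
universe u
open CAlg

namespace Groth.Agent.S9635


open TensorProduct in
/-- Let k ⊆ k' be fields with k' separable algebraic over k, and A a k'-algebra. Then A is geometrically
reduced over k (K ⊗_k A reduced for all field extensions K/k) if and only if A is geometrically
reduced over k' (K ⊗_{k'} A reduced for all field extensions K/k'). Here the test fields K range
over field extensions (of k, respectively of k') in the common universe of k and k'; this is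
equivalent to the unrestricted notions, since an algebraic closure of the base field suffices as a
test. -/
theorem result {k k' A : Type u} [Field k] [Field k'] [Algebra k k'] [Algebra.IsSeparable k k'] [CommRing A] [Algebra k' A] [Algebra k A] [IsScalarTower k k' A] :
    (∀ (K : Type u) [Field K] [Algebra k K], IsReduced (K ⊗[k] A)) ↔
      ∀ (K : Type u) [Field K] [Algebra k' K], IsReduced (K ⊗[k'] A) := by

  classical
  open Groth.Agent.Helper4.GeomRed in
  constructor
  · intro h K _ _
    letI : Algebra k K := ((algebraMap k' K).comp (algebraMap k k')).toAlgebra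
    haveI : IsScalarTower k k' K := IsScalarTower.of_algebraMap_eq fun _ => rfl
    haveI hK := h K
    constructor
    intro z hz
    obtain ⟨n, hn⟩ := hz
    obtain ⟨z', rfl⟩ := π_surjective (k := k) (k' := k') (K := K) (A := A) z
    have h1 : π k k' K A (z' ^ n) = 0 := by rw [map_pow, hn]
    obtain ⟨t, ht1, ht2⟩ := exists_mul_eq_zero_of_π_eq_zero (z' ^ n) h1
    have h2 : ψ k k' K A t * z' = 0 := by
      apply IsReduced.eq_zero
      refine ⟨n + 1, ?_⟩
      rw [mul_pow, pow_succ (ψ k k' K A t) n, pow_succ z' n]
      have : ψ k k' K A t ^ n * ψ k k' K A t * (z' ^ n * z') =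
          ψ k k' K A t ^ n * z' * (ψ k k' K A t * z' ^ n) := by ring
      rw [this, ht2, mul_zero]
    have h3 := congrArg (π k k' K A) h2
    rw [map_mul, π_ψ, ht1, map_one, one_mul, map_zero] at h3
    exact h3
  · intro h L _ _
    -- T = k' ⊗[k] L
    haveI hkL : IsReduced (k ⊗[k] L) :=
      isReduced_of_injective (Algebra.TensorProduct.lid k L).toAlgHom.toRingHom
        (Algebra.TensorProduct.lid k L).injective
    haveI hT : IsReduced (k' ⊗[k] L) := isReduced_tensor_of_tower (F := k) (K := k') L hkL
    haveI : Ring.KrullDimLE 0 (L ⊗[k] k') := by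
      refine Ring.KrullDimLE.mk₀ fun I hI => ?_
      refine Ideal.isMaximal_of_isIntegral_of_isMaximal_comap (R := L) I ?_
      have : I.comap (algebraMap L (L ⊗[k] k')) = ⊥ := Ideal.eq_bot_of_prime _
      rw [this]
      exact Ideal.bot_isMaximal
    haveI : Ring.KrullDimLE 0 (k' ⊗[k] L) := by
      refine Ring.KrullDimLE.mk₀ fun I hI => ?_
      let e : k' ⊗[k] L ≃+* L ⊗[k] k' := (Algebra.TensorProduct.comm k k' L).toRingEquiv
      haveI : (I.comap (e.symm : L ⊗[k] k' →+* k' ⊗[k] L)).IsPrime := Ideal.comap_isPrime _ _
      haveI : (I.comap (e.symm : L ⊗[k] k' →+* k' ⊗[k] L)).IsMaximal := Ideal.isMaximal_of_isPrime _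
      have h1 : I = (I.comap (e.symm : L ⊗[k] k' →+* k' ⊗[k] L)).comap (e : k' ⊗[k] L →+* L ⊗[k] k') := by
        rw [Ideal.comap_comap]
        ext x
        simp
      rw [h1]
      exact Ideal.comap_isMaximal_of_surjective _ e.surjective
    have h2 : IsReduced ((k' ⊗[k] L) ⊗[k'] A) :=
      isReduced_tensor_of_krullDimLE_zero (k := k') (k' ⊗[k] L) A (fun K _ _ => h K)
    let g : L ⊗[k] A ≃+* (k' ⊗[k] L) ⊗[k'] A :=
      ((Algebra.TensorProduct.comm k L A).toRingEquiv.trans
        (Algebra.TensorProduct.cancelBaseChange k k' k' A L).symm.toRingEquiv).trans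
        (Algebra.TensorProduct.comm k' A (k' ⊗[k] L)).toRingEquiv
    exact isReduced_of_injective (g : L ⊗[k] A →+* (k' ⊗[k] L) ⊗[k'] A) g.injective

end Groth.Agent.S9635
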