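import Groth.Statements.S9636
import Groth.Agent.Helper4.SepDiag
import Mathlib

set_option autoImplicit false
universe u
open CAlg

namespace Groth.Agent.S9636


open TensorProduct in
/-- Let k'/k be a separable algebraic field extension. Then for some multiplicative subset S of k' ⊗_k
k' the multiplication map k' ⊗_k k' → k' is a localization at S: there is a ring isomorphism S⁻¹(k'
⊗_k k') ≅ k' carrying the localization map to the multiplication map. -/
theorem result {k k' : Type u} [Field k] [Field k'] [Algebra k k'] [Algebra.IsSeparable k k'] :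
    ∃ (S : Submonoid (k' ⊗[k] k')) (e : Localization S ≃+* k'), ∀ x : k' ⊗[k] k', e (algebraMap (k' ⊗[k] k') (Localization S) x) = Algebra.TensorProduct.lmul' (S := k') k x := by

  classical
  let μ : TensorProduct k k' k' →+* k' := (Algebra.TensorProduct.lmul' (S := k') k).toRingHom
  haveI : (RingHom.ker μ).IsPrime := RingHom.ker_isPrime μ
  let M : Submonoid (TensorProduct k k' k') := (RingHom.ker μ).primeCompl
  letI : Algebra (TensorProduct k k' k') k' := μ.toAlgebra
  haveI : IsLocalization M k' := by
    rw [isLocalization_iff]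
    refine ⟨fun y => ?_, fun z => ?_, fun {x y} hxy => ?_⟩
    · have : μ y ≠ 0 := fun h => y.2 h
      exact isUnit_iff_ne_zero.mpr this
    · refine ⟨⟨z ⊗ₜ[k] 1, 1⟩, ?_⟩
      show z * μ 1 = μ (z ⊗ₜ[k] 1)
      simp [μ]
    · have h0 : Algebra.TensorProduct.lmul' (S := k') k (x - y) = 0 := by
        rw [map_sub, sub_eq_zero]; exact hxy
      obtain ⟨t, ht1, ht2⟩ := Groth.Agent.Helper4.SepDiag.exists_mul_eq_zero (x - y) h0
      refine ⟨⟨t, ?_⟩, ?_⟩
      · show t ∉ RingHom.ker μ
        rw [RingHom.mem_ker]
        show Algebra.TensorProduct.lmul' (S := k') k t ≠ 0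
        rw [ht1]; exact one_ne_zero
      · show t * x = t * y
        rw [← sub_eq_zero, ← mul_sub]; exact ht2
  refine ⟨M, (IsLocalization.algEquiv M (Localization M) k').toRingEquiv, fun x => ?_⟩
  exact (IsLocalization.algEquiv M (Localization M) k').commutes x

end Groth.Agent.S9636
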