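import Groth.Statements.S9637
import Mathlib

set_option autoImplicit false
universe u
open CAlg

namespace Groth.Agent.S9637


/-- Let R be a local Noetherian ring, I an ideal contained in its maximal ideal, and M a finite
R-module. Then I contains an M-regular element (one acting injectively on M) if and only if no
associated prime of M contains I. -/
theorem result {R : Type u} [CommRing R] [IsNoetherianRing R] [IsLocalRing R] (I : Ideal R) (hI : I ≤ IsLocalRing.maximalIdeal R) (M : Type u) [AddCommGroup M] [Module R M] [Module.Finite R M] :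
    (∃ x ∈ I, IsSMulRegular M x) ↔ ∀ q ∈ associatedPrimes R M, ¬ I ≤ q := by

  constructor
  · rintro ⟨x, hxI, hx⟩ q hq hIq
    rw [AssociatedPrimes.mem_iff, isAssociatedPrime_iff] at hq
    obtain ⟨hqp, m, hm⟩ := hq
    have hxq : x ∈ q := hIq hxI
    rw [hm, Submodule.mem_colon_singleton, Submodule.mem_bot] at hxq
    have hm0 : m = 0 := hx (by change x • m = x • 0; rw [hxq, smul_zero])
    apply hqp.ne_top
    rw [hm, Ideal.eq_top_iff_one, Submodule.mem_colon_singleton, hm0, smul_zero]
    exact Submodule.zero_mem _
  · intro h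
    have hfin := associatedPrimes.finite R M
    have hnot : ¬ ((I : Set R) ⊆ ⋃ q ∈ associatedPrimes R M, (q : Set R)) := by
      intro hsub
      obtain ⟨q, hq, hIq⟩ := (Ideal.subset_union_prime_finite hfin (⊥ : Ideal R) ⊥
        (fun q hq _ _ => hq.isPrime)).mp hsub
      exact h q hq hIq
    rw [Set.not_subset] at hnot
    obtain ⟨x, hxI, hx⟩ := hnot
    refine ⟨x, hxI, ?_⟩
    rw [biUnion_associatedPrimes_eq_zero_divisors] at hx
    intro a b hab
    by_contra hne
    apply hx
    refine ⟨a - b, sub_ne_zero.mpr hne, ?_⟩
    simp only [smul_sub]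
    exact sub_eq_zero.mpr hab

end Groth.Agent.S9637
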