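import Groth.Statements.S9642
import Mathlib

set_option autoImplicit false
universe u
open CAlg

namespace Groth.Agent.S9642


/-- In the general form stated there: let R → S be a ring map inducing an open map Spec(S) → Spec(R),
with Spec(R) irreducible, such that for a dense set of primes p of R the fibre ring κ(p) ⊗_R S has
irreducible spectrum. Then Spec(S) is irreducible. The flat and finitely presented case is the
special case in which the map on spectra is open by fppf-openness. -/
theorem result {R S : Type u} [CommRing R] [CommRing S] [Algebra R S]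
    (hopen : IsOpenMap (PrimeSpectrum.comap (algebraMap R S))) [IrreducibleSpace (PrimeSpectrum R)]
    (D : Set (PrimeSpectrum R)) (hD : Dense D) (hfib : ∀ p ∈ D, IrreducibleSpace (PrimeSpectrum (p.asIdeal.Fiber S))) :
    IrreducibleSpace (PrimeSpectrum S) := by

  have hfibre : ∀ p ∈ D, IsIrreducible (PrimeSpectrum.comap (algebraMap R S) ⁻¹' {p}) := by
    intro p hp
    have h1 : IrreducibleSpace (PrimeSpectrum (p.asIdeal.Fiber S)) := hfib p hp
    have h2 : IrreducibleSpace ↥(PrimeSpectrum.comap (algebraMap R S) ⁻¹' {p}) :=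
      (PrimeSpectrum.preimageHomeomorphFiber R S p).irreducibleSpace_iff.mpr h1
    exact (isIrreducible_iff_irreducibleSpace).mpr h2
  set f := PrimeSpectrum.comap (algebraMap R S) with hf
  have hDne : D.Nonempty := hD.nonempty
  obtain ⟨y0, hy0⟩ := hDne
  have hne : Nonempty (PrimeSpectrum S) := by
    obtain ⟨x, _⟩ := (hfibre y0 hy0).1
    exact ⟨x⟩
  have hpre : PreirreducibleSpace (PrimeSpectrum S) := by
    refine ⟨?_⟩
    intro U V hU hV hUne hVne
    rw [Set.univ_inter] at hUne hVne ⊢
    have hU' : IsOpen (f '' U) := hopen U hU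
    have hV' : IsOpen (f '' V) := hopen V hV
    have hint : (f '' U ∩ f '' V).Nonempty :=
      nonempty_preirreducible_inter hU' hV' (hUne.image f) (hVne.image f)
    obtain ⟨y, hyUV, hyD⟩ := hD.inter_open_nonempty _ (hU'.inter hV') hint
    obtain ⟨⟨u, huU, huy⟩, ⟨v, hvV, hvy⟩⟩ := hyUV
    have hirr := (hfibre y hyD).2
    have := hirr U V hU hV ⟨u, huy, huU⟩ ⟨v, hvy, hvV⟩
    obtain ⟨z, _, hz⟩ := this
    exact ⟨z, hz⟩
  exact { toPreirreducibleSpace := hpre, toNonempty := hne }

end Groth.Agent.S9642
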