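import Groth.Statements.S9643
import Mathlib

set_option autoImplicit false
universe u
open CAlg

namespace Groth.Agent.S9643


/-- Let R be a Noetherian ring, M a finite R-module and 0 = M_0 ⊆ M_1 ⊆ ⋯ ⊆ M_n = M a chain of
submodules whose successive quotients M_i/M_{i-1} are isomorphic to R/p_i for prime ideals p_i. Then
the primes minimal among p_1, …, p_n are exactly the primes minimal in the support of M. -/
theorem result {R : Type u} [CommRing R] [IsNoetherianRing R] (M : Type u) [AddCommGroup M] [Module R M] [Module.Finite R M]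
    {n : ℕ} (N : Fin (n + 1) → Submodule R M) (hN : Monotone N) (h0 : N 0 = ⊥) (hlast : N (Fin.last n) = ⊤)
    (p : Fin n → PrimeSpectrum R)
    (hquot : ∀ i : Fin n, Nonempty ((↥(N i.succ) ⧸ Submodule.comap (N i.succ).subtype (N i.castSucc)) ≃ₗ[R] (R ⧸ (p i).asIdeal))) :
    {q : PrimeSpectrum R | Minimal (fun x => x ∈ Set.range p) q} = {q : PrimeSpectrum R | Minimal (fun x => x ∈ Module.support R M) q} := by

  have hsupp : ∀ k : ℕ, ∀ hk : k < n + 1,
      Module.support R ↥(N ⟨k, hk⟩) = {q | ∃ i : Fin n, i.val < k ∧ p i ≤ q} := by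
    intro k
    induction k with
    | zero =>
      intro hk
      have h00 : N ⟨0, hk⟩ = ⊥ := h0
      have : Subsingleton ↥(N ⟨0, hk⟩) := by rw [h00]; infer_instance
      rw [Module.support_eq_empty]
      ext q; simp
    | succ k ih =>
      intro hk
      have hk' : k < n := by lia
      let i : Fin n := ⟨k, hk'⟩
      have hsucc : i.succ = ⟨k + 1, hk⟩ := rfl
      have hcast : i.castSucc = ⟨k, by lia⟩ := rfl
      obtain ⟨e⟩ := hquot i
      have hle : N i.castSucc ≤ N i.succ := hN (Fin.castSucc_lt_succ).le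
      -- exact sequence
      have hex := Module.support_of_exact
        (f := (Submodule.comap (N i.succ).subtype (N i.castSucc)).subtype)
        (g := (Submodule.comap (N i.succ).subtype (N i.castSucc)).mkQ)
        (by
          intro x
          rw [Submodule.mkQ_apply, Submodule.Quotient.mk_eq_zero]
          simp)
        (Submodule.injective_subtype _) (Submodule.mkQ_surjective _)
      have hq : Module.support R (R ⧸ (p i).asIdeal) =
          PrimeSpectrum.zeroLocus ((p i).asIdeal : Set R) := by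
        rw [Module.support_eq_zeroLocus, Ideal.annihilator_quotient]
      rw [← hsucc, hex, (Submodule.comapSubtypeEquivOfLe hle).support_eq, e.support_eq,
        hq, hcast, ih (by lia)]
      ext q
      simp only [Set.mem_union, Set.mem_ofPred_eq, PrimeSpectrum.mem_zeroLocus,
        SetLike.coe_subset_coe]
      constructor
      · rintro (⟨j, hj, hjq⟩ | h)
        · exact ⟨j, by lia, hjq⟩
        · exact ⟨i, by simp [i], h⟩
      · rintro ⟨j, hj, hjq⟩
        by_cases hjk : j.val < k
        · exact Or.inl ⟨j, hjk, hjq⟩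
        · right
          have : j = i := Fin.ext (by simp [i]; lia)
          rw [← this]; exact hjq
  have hsuppM : Module.support R M = {q | ∃ i : Fin n, p i ≤ q} := by
    have h1 := hsupp n (by lia)
    have h2 : N ⟨n, by lia⟩ = ⊤ := hlast
    rw [← Submodule.topEquiv.support_eq, ← h2, h1]
    ext q
    simp only [Set.mem_ofPred_eq]
    exact ⟨fun ⟨i, _, h⟩ => ⟨i, h⟩, fun ⟨i, h⟩ => ⟨i, i.2, h⟩⟩
  rw [hsuppM]
  ext q
  simp only [Set.mem_ofPred_eq]
  constructor
  · rintro ⟨⟨i, rfl⟩, hmin⟩
    refine ⟨⟨i, le_rfl⟩, ?_⟩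
    rintro q' ⟨j, hj⟩ hq'
    exact (hmin ⟨j, rfl⟩ (hj.trans hq')).trans hj
  · rintro ⟨⟨i, hi⟩, hmin⟩
    have h1 : q ≤ p i := hmin ⟨i, le_rfl⟩ hi
    have hq : q = p i := le_antisymm h1 hi
    refine ⟨⟨i, hq.symm⟩, ?_⟩
    rintro q' ⟨j, rfl⟩ hq'
    exact hmin ⟨j, le_rfl⟩ hq'

end Groth.Agent.S9643
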