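import Groth.Statements.S9644
import Groth.Agent.Helper4.NowhereDense
import Mathlib

set_option autoImplicit false
universe u
open CAlg

namespace Groth.Agent.S9644


/-- Let R be a Noetherian ring and M a finite R-module. Among the submodules K' of M whose support is
nowhere dense inside Supp(M) there is a largest one, K. The quotient M' = M/K then satisfies
Supp(M') = Supp(M), its associated primes are pairwise incomparable (no embedded ones), and whenever
f ∈ R belongs to every embedded associated prime of M the localized map M_f → M'_f is bijective. -/
theorem result {R : Type u} [CommRing R] [IsNoetherianRing R] (M : Type u) [AddCommGroup M] [Module R M] [Module.Finite R M] :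
    ∃ K : Submodule R M,
      IsGreatest {K' : Submodule R M | ∀ U : Set (PrimeSpectrum R), IsOpen U → U ∩ Module.support R M ⊆ closure (Module.support R ↥K') → U ∩ Module.support R M = ∅} K ∧
      Module.support R (M ⧸ K) = Module.support R M ∧
      (∀ p ∈ associatedPrimes R (M ⧸ K), ∀ q ∈ associatedPrimes R (M ⧸ K), p ≤ q → p = q) ∧
      ∀ f : R, (∀ p ∈ associatedPrimes R M, ¬ Minimal (fun x => x ∈ associatedPrimes R M) p → f ∈ p) →
        Function.Bijective (LocalizedModule.map (Submonoid.powers f) K.mkQ) := by

  refine ⟨Groth.Agent.Helper4.NowhereDense.K (R := R) M, ⟨?_, ?_⟩, ?_, ?_, ?_⟩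
  · exact fun U hU hsub => Groth.Agent.Helper4.NowhereDense.K_mem U hU hsub
  · intro K' hK'
    exact Groth.Agent.Helper4.NowhereDense.le_K K' hK'
  · exact Groth.Agent.Helper4.NowhereDense.support_quotient_K
  · intro p hp q hq hpq
    have hp' := Groth.Agent.Helper4.NowhereDense.associatedPrimes_quotient_K_subset hp
    have hq' := Groth.Agent.Helper4.NowhereDense.associatedPrimes_quotient_K_subset hq
    exact Groth.Agent.Helper4.NowhereDense.minimalPrimes_eq_of_le hp' hq' hpq
  · intro f hf
    exact Groth.Agent.Helper4.NowhereDense.localizedMap_bijective f hf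

end Groth.Agent.S9644
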