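import Groth.Statements.S9645
import Mathlib.RingTheory.Localization.Integral
import Mathlib.Tactic

set_option autoImplicit false
universe u
open CAlg

namespace Groth.Agent.S9645

theorem result {A B As Bs : Type u} [CommRing A] [CommRing B] [CommRing As] [CommRing Bs] [Algebra A B] [Algebra A As] [Algebra B Bs] [Algebra As Bs] [Algebra A Bs] [IsScalarTower A B Bs] [IsScalarTower A As Bs]
    (S : Submonoid A) [IsLocalization S As] [IsLocalization (Algebra.algebraMapSubmonoid B S) Bs] (x : Bs) :
    IsIntegral As x ↔ ∃ b : B, IsIntegral A b ∧ ∃ s ∈ S, x * algebraMap A Bs s = algebraMap B Bs b := by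
  constructor
  · intro hx
    obtain ⟨⟨y, _, m₁, hm₁, rfl⟩, e⟩ := IsLocalization.surj (Algebra.algebraMapSubmonoid B S) x
    simp only [← IsScalarTower.algebraMap_apply] at e
    obtain ⟨⟨m₂, hm₂⟩, hm₂s⟩ := IsIntegral.exists_multiple_integral_of_isLocalization S _ hx
    simp only [Submonoid.smul_def, Algebra.smul_def] at hm₂s
    obtain ⟨m₃, hm₃, hm₃s⟩ := IsLocalization.exists_isIntegral_smul_of_isIntegral_map (Sₘ := Bs)
      S (x := m₂ • y) <| by
        simp only [Algebra.smul_def, map_mul, ← IsScalarTower.algebraMap_apply, ← e, ← mul_assoc]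
        exact hm₂s.mul isIntegral_algebraMap
    refine ⟨_, hm₃s, m₁ * (m₂ * m₃), mul_mem hm₁ (mul_mem hm₂ hm₃), ?_⟩
    simp only [Algebra.smul_def, map_mul, ← IsScalarTower.algebraMap_apply, ← e]
    ring
  · rintro ⟨b, hb, s, hs, e⟩
    have h1 : IsIntegral As (algebraMap B Bs b) :=
      (hb.map (IsScalarTower.toAlgHom A B Bs)).tower_top
    have hu : IsUnit (algebraMap A As s) := IsLocalization.map_units As ⟨s, hs⟩
    obtain ⟨u, hu'⟩ := hu
    have h2 : x = algebraMap B Bs b * algebraMap As Bs (↑u⁻¹ : As) := by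
      rw [← e, mul_assoc, IsScalarTower.algebraMap_apply A As Bs, ← hu', ← map_mul]
      simp
    rw [h2]
    exact h1.mul isIntegral_algebraMap

end Groth.Agent.S9645
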