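import Groth.Statements.S9646
import Groth.Agent.S9645
import Mathlib.RingTheory.Localization.Integral
import Mathlib.Tactic

set_option autoImplicit false
universe u
open CAlg

namespace Groth.Agent.S9646

theorem result {R S : Type u} [CommRing R] [CommRing S] [Algebra R S] (x : S)
    (h : ∀ (p : Ideal R) [p.IsPrime] (Rp Sp : Type u) [CommRing Rp] [CommRing Sp] [Algebra R Rp] [Algebra S Sp] [Algebra Rp Sp] [Algebra R Sp] [IsScalarTower R S Sp] [IsScalarTower R Rp Sp] [IsLocalization.AtPrime Rp p] [IsLocalization (Algebra.algebraMapSubmonoid S p.primeCompl) Sp], IsIntegral Rp (algebraMap S Sp x)) :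
    IsIntegral R x := by
  let I : Ideal R :=
    { carrier := {a | IsIntegral R (a • x)}
      add_mem' := by
        intro a b ha hb
        simp only [Set.mem_ofPred_eq] at ha hb ⊢
        rw [add_smul]; exact ha.add hb
      zero_mem' := by
        simp only [Set.mem_ofPred_eq, zero_smul]; exact isIntegral_zero
      smul_mem' := by
        intro c a ha
        simp only [Set.mem_ofPred_eq, smul_eq_mul] at ha ⊢
        rw [mul_smul, Algebra.smul_def c]
        exact isIntegral_algebraMap.mul ha }
  have hI : I = ⊤ := by
    by_contra hne
    obtain ⟨m, hm, hIm⟩ := Ideal.exists_le_maximal I hne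
    have hmp : m.IsPrime := hm.isPrime
    have hx := h m (Localization.AtPrime m)
      (Localization (Algebra.algebraMapSubmonoid S m.primeCompl))
    obtain ⟨b, hb, s, hs, e⟩ := (Groth.Agent.S9645.result (A := R) (B := S)
      (As := Localization.AtPrime m)
      (Bs := Localization (Algebra.algebraMapSubmonoid S m.primeCompl)) m.primeCompl _).mp hx
    rw [IsScalarTower.algebraMap_apply R S, ← map_mul,
      IsLocalization.eq_iff_exists (Algebra.algebraMapSubmonoid S m.primeCompl)] at e
    obtain ⟨⟨_, t, ht, rfl⟩, e⟩ := e
    have hts : t * s ∈ I := by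
      change IsIntegral R ((t * s) • x)
      have : (t * s) • x = algebraMap R S t * b := by
        rw [← e, Algebra.smul_def, map_mul]; ring
      rw [this]
      exact isIntegral_algebraMap.mul hb
    rcases hmp.mem_or_mem (hIm hts) with h1 | h1
    · exact ht h1
    · exact hs h1
  have h1 : (1 : R) ∈ I := by rw [hI]; trivial
  have : IsIntegral R ((1 : R) • x) := h1
  simpa using this

end Groth.Agent.S9646
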