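import Groth.Statements.S9647
import Mathlib

set_option autoImplicit false
universe u
open CAlg

namespace Groth.Agent.S9647


set_option maxHeartbeats 400000 in
open TensorProduct in
/-- Let K/k be a field extension and k^sep a separable algebraic closure of k. Then the automorphism
group of k^sep over k acts transitively on the primes of k^sep ⊗_k K: for any two primes P, Q there
is a k-automorphism σ of k^sep with Q the inverse image of P under σ ⊗ id_K. -/
theorem result {k K : Type u} [Field k] [Field K] [Algebra k K]
    (P Q : Ideal (SeparableClosure k ⊗[k] K)) [P.IsPrime] [Q.IsPrime] :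
    ∃ σ : SeparableClosure k ≃ₐ[k] SeparableClosure k, Q = P.comap (Algebra.TensorProduct.map (σ : SeparableClosure k →ₐ[k] SeparableClosure k) (AlgHom.id k K)) := by

  classical
  let Ks := SeparableClosure k
  let G := (SeparableClosure k ≃ₐ[k] SeparableClosure k)
  let B := (SeparableClosure k ⊗[k] K)
  letI : Algebra K B := Algebra.TensorProduct.rightAlgebra
  have hPQ : P.under K = Q.under K := by
    rw [Ideal.eq_bot_of_prime (P.under K), Ideal.eq_bot_of_prime (Q.under K)]
  -- the action
  have hsm : ∀ (g : G) (x : B), g • x = Algebra.TensorProduct.map (g : Ks →ₐ[k] Ks) (AlgHom.id k K) x := by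
    intro g x
    induction x using TensorProduct.induction_on with
    | zero => simp
    | tmul a c =>
      refine (TensorProduct.smul_tmul' g a c).trans ?_
      rw [AlgEquiv.smul_def]; simp
    | add x y hx hy => rw [smul_add, hx, hy, map_add]
  letI : MulSemiringAction G B :=
    { (inferInstance : DistribMulAction G B) with
      smul_one := fun g => by
        change g • (1 : B) = 1
        rw [hsm, map_one]
      smul_mul := fun g x y => by
        change g • (x * y) = g • x * g • y
        rw [hsm, hsm, hsm, map_mul] }
  haveI : SMulCommClass G K B := by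
    constructor
    intro g c x
    change g • (c • x) = c • (g • x)
    rw [Algebra.smul_def, Algebra.smul_def, hsm, hsm, map_mul]
    congr 1
    change Algebra.TensorProduct.map (g : Ks →ₐ[k] Ks) (AlgHom.id k K) ((1 : Ks) ⊗ₜ[k] c) = (1 : Ks) ⊗ₜ[k] c
    simp
  letI : TopologicalSpace B := ⊥
  haveI : DiscreteTopology B := ⟨rfl⟩
  haveI : ContinuousSMul G B := by
    rw [continuousSMul_iff_stabilizer_isOpen]
    intro x
    induction x using TensorProduct.induction_on with
    | zero =>
      convert isOpen_univ
      ext g; simp
    | tmul a c =>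
      have h1 := stabilizer_isOpen_of_isIntegral (K := k) (L := Ks) a
      refine (Subgroup.isOpen_mono (H₁ := MulAction.stabilizer G a) ?_ h1)
      intro g hg
      rw [MulAction.mem_stabilizer_iff] at hg ⊢
      rw [TensorProduct.smul_tmul', hg]
    | add x y hx hy =>
      have h2 := (hx.inter hy)
      have h3 : ((MulAction.stabilizer G x ⊓ MulAction.stabilizer G y : Subgroup G) : Set G) =
          (MulAction.stabilizer G x : Set G) ∩ (MulAction.stabilizer G y : Set G) := rfl
      rw [← h3] at h2
      refine (Subgroup.isOpen_mono (H₁ := MulAction.stabilizer G x ⊓ MulAction.stabilizer G y) ?_ h2)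
      intro g hg
      rw [Subgroup.mem_inf, MulAction.mem_stabilizer_iff, MulAction.mem_stabilizer_iff] at hg
      rw [MulAction.mem_stabilizer_iff, smul_add, hg.1, hg.2]
  haveI : Algebra.IsInvariant K B G := by
    constructor
    intro b hb
    let e := Module.Basis.ofVectorSpace k K
    let eb := Algebra.TensorProduct.basis Ks e
    have hrepr : ∀ (g : G) (x : B) i, eb.repr (g • x) i = g (eb.repr x i) := by
      intro g x i
      induction x using TensorProduct.induction_on with
      | zero => simp
      | tmul a c =>
        rw [show g • (a ⊗ₜ[k] c : B) = (g • a) ⊗ₜ[k] c from TensorProduct.smul_tmul' g a c, AlgEquiv.smul_def]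
        simp only [eb, Algebra.TensorProduct.basis_repr_tmul, smul_eq_mul, map_mul, Finsupp.smul_apply, Algebra.smul_def]
        rw [Finsupp.mapRange_apply, g.commutes]
      | add x y hx hy => simp [smul_add, hx, hy]
    have hfix : ∀ i, eb.repr b i ∈ Set.range (algebraMap k Ks) := by
      intro i
      rw [InfiniteGalois.mem_range_algebraMap_iff_fixed]
      intro g
      rw [← hrepr, hb]
    choose c hc using hfix
    refine ⟨∑ i ∈ (eb.repr b).support, c i • e i, ?_⟩
    conv_rhs => rw [← eb.linearCombination_repr b, Finsupp.linearCombination_apply, Finsupp.sum]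
    rw [map_sum]
    refine Finset.sum_congr rfl fun i _ => ?_
    rw [← hc i]
    change (1 : Ks) ⊗ₜ[k] (c i • e i) = _
    rw [Algebra.TensorProduct.basis_apply, Algebra.algebraMap_eq_smul_one, TensorProduct.tmul_smul, smul_assoc, one_smul]
  have key := Algebra.IsInvariant.exists_smul_of_under_eq_of_profinite (A := K) (B := B) (G := G) P Q
  obtain ⟨g, hg⟩ := key hPQ
  refine ⟨g⁻¹, ?_⟩
  rw [hg, Ideal.pointwise_smul_eq_comap]
  ext x
  simp only [Ideal.mem_comap]
  have : (MulSemiringAction.toRingAut G B g).symm x = g⁻¹ • x := rfl
  rw [this, hsm]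

end Groth.Agent.S9647
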