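import Groth.Statements.S9649
import Groth.Agent.Helper1.FieldSmooth7
import Mathlib

set_option autoImplicit false
universe u
open CAlg

namespace Groth.Agent.S9649


/-- A separably generated field extension is separable. Precisely: let K/k be a field extension
admitting a transcendence basis x over whose generated subfield k(x) the field K is separable
algebraic; then every finitely generated subextension K' of K/k also admits such a transcendence
basis. -/
theorem result {k K : Type u} [Field k] [Field K] [Algebra k K]
    (h : ∃ (ι : Type u) (x : ι → K), IsTranscendenceBasis k x ∧ Algebra.IsSeparable (IntermediateField.adjoin k (Set.range x)) K)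
    (K' : IntermediateField k K) (hK' : ∃ s : Finset K, IntermediateField.adjoin k (s : Set K) = K') :
    ∃ (ι : Type u) (x : ι → K'), IsTranscendenceBasis k x ∧ Algebra.IsSeparable (IntermediateField.adjoin k (Set.range x)) K' := by

  classical
  obtain ⟨ι, x, hx, hsep⟩ := h
  haveI : Algebra.EssFiniteType k K' := by
    rw [IntermediateField.essFiniteType_iff]
    exact hK'
  obtain ⟨p, hp⟩ := CharP.exists k
  rcases CharP.char_is_prime_or_zero k p with hpp | hp0
  · -- characteristic p
    haveI : Fact p.Prime := ⟨hpp⟩
    haveI : ExpChar k p := ExpChar.prime hpp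
    haveI : CharP K p := charP_of_injective_algebraMap (algebraMap k K).injective p
    -- formal smoothness of K over k
    let F := IntermediateField.adjoin k (Set.range x)
    haveI : Algebra.FormallySmooth k F :=
      Algebra.FormallySmooth.of_equiv hx.1.aevalEquivField
    haveI : Algebra.FormallyEtale F K := Algebra.FormallyEtale.of_isSeparable F K
    haveI : Algebra.FormallySmooth k K := Algebra.FormallySmooth.comp k F K
    -- MacLane's condition for K
    have H : ∀ s : Finset K, LinearIndepOn k id (s : Set K) →
        LinearIndepOn k (fun y : K => y ^ p) (s : Set K) := by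
      open Groth.Agent.Helper1.FieldSmooth Groth.Agent.Helper1.PBasis
        Groth.Agent.Helper1.PBasisField EGA41 in
      letI : Algebra (PF.{u} p) k := (pfHom p k).toAlgebra
      letI : Algebra (PF.{u} p) K := ((algebraMap k K).comp (pfHom p k)).toAlgebra
      haveI : IsScalarTower (PF.{u} p) k K := IsScalarTower.of_algebraMap_eq fun _ => rfl
      obtain ⟨B, -, -, hB⟩ := exists_pBasis p (PF.{u} p) (K := k) Set.univ ∅ (Set.empty_subset _)
        (isPGenerating_univ p (PF.{u} p)) ((isPIndependent_val_iff p (PF.{u} p) ∅).mpr (pInd_empty p (PF.{u} p)))
      have h1 := formallySmooth_iff_injective p (F := PF.{u} p) (k := k) (K := K) (pf_perfect p)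
      have h2 := injective_iff_isPIndependent p (F := PF.{u} p) (k := k) (K := K) (Subtype.val : B → k) hB
      have h3 := h2.mp (h1.mp inferInstance)
      exact linearIndepOn_pow_of_isPIndependent p (pf_perfect p) (Subtype.val : B → k) hB.2 h3
    -- MacLane's condition for K'
    have H' : ∀ s : Finset K', LinearIndepOn k id (s : Set K') →
        LinearIndepOn k (· ^ p) (s : Set K') := by
      intro s hs
      rw [linearIndepOn_finset_iff] at hs ⊢
      intro f hf
      let t : Finset K := s.image (Subtype.val : K' → K)
      have ht := H t
      rw [linearIndepOn_finset_iff, linearIndepOn_finset_iff] at ht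
      let f' : K → k := fun y => if h : y ∈ K' then f ⟨y, h⟩ else 0
      have hf' : ∀ i : K', f' i = f i := fun i => by simp [f']
      have h1 : ∀ g : K → k, ∑ y ∈ t, g y • id y = 0 → ∀ y ∈ t, g y = 0 := by
        intro g hg
        rw [Finset.sum_image (fun a _ b _ h => Subtype.ext h)] at hg
        have hg' : ∑ i ∈ s, g (i : K) • id i = 0 := by
          apply Subtype.val_injective
          simpa using hg
        have := hs (fun i => g i) hg'
        intro y hy
        obtain ⟨i, hi, rfl⟩ := Finset.mem_image.mp hy
        exact this i hi
      have h2 := ht h1 f' (by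
        rw [Finset.sum_image (fun a _ b _ h => Subtype.ext h)]
        have : ((∑ i ∈ s, f i • i ^ p : K') : K) = 0 := by rw [hf]; rfl
        simpa [hf'] using this)
      intro i hi
      rw [← hf']
      exact h2 _ (Finset.mem_image_of_mem _ hi)
    obtain ⟨s, hs1, hs2⟩ :=
      exists_isTranscendenceBasis_and_isSeparable_of_linearIndepOn_pow_of_essFiniteType
      (k := k) (K := K') p hpp H'
    refine ⟨s, Subtype.val, hs1, ?_⟩
    have : Set.range (Subtype.val : s → K') = (s : Set K') := Subtype.range_coe
    rw [this]
    exact hs2
  · subst hp0
    haveI : CharZero k := CharP.charP_to_charZero k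
    obtain ⟨ι', x', hx'⟩ := exists_isTranscendenceBasis' k K'
    refine ⟨ι', x', hx', ?_⟩
    haveI := hx'.isAlgebraic_field
    exact Algebra.IsAlgebraic.isSeparable_of_perfectField

end Groth.Agent.S9649
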