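import Groth.Statements.S9650
import Groth.Agent.Helper4.SepGen
import Mathlib

set_option autoImplicit false
universe u
open CAlg

namespace Groth.Agent.S9650


/-- Let K/k be a finitely generated field extension that is separably generated, i.e. admits a
transcendence basis over whose generated subfield K is separable algebraic. Then K is generated over
k by finitely many elements x_1, …, x_r, y such that the x_i form a transcendence basis of K/k and y
is separable over the subfield k(x_1, …, x_r). -/
theorem result {k K : Type u} [Field k] [Field K] [Algebra k K]
    (hfg : ∃ s : Finset K, IntermediateField.adjoin k (s : Set K) = ⊤)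
    (hsep : ∃ (ι : Type u) (x : ι → K), IsTranscendenceBasis k x ∧ Algebra.IsSeparable (IntermediateField.adjoin k (Set.range x)) K) :
    ∃ (r : ℕ) (x : Fin r → K) (y : K), IsTranscendenceBasis k x ∧ IntermediateField.adjoin k (insert y (Set.range x)) = ⊤ ∧ IsSeparable (IntermediateField.adjoin k (Set.range x)) y := by

  classical
  haveI : Algebra.EssFiniteType k K := by
    rw [← IntermediateField.fg_top_iff]
    exact hfg
  haveI := Groth.Agent.Helper4.SepGen.formallySmooth_of_sepGen hsep
  obtain ⟨s, hs1, hs2⟩ := Groth.Agent.Helper4.SepGen.exists_finset_sepBasis_of_formallySmooth (k := k) (K := K)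
  let F := IntermediateField.adjoin k (s : Set K)
  haveI : Algebra.EssFiniteType F K := Algebra.EssFiniteType.of_comp k F K
  haveI : Module.Finite F K := Algebra.finite_of_essFiniteType_of_isAlgebraic
  obtain ⟨y, hy⟩ := Field.exists_primitive_element F K
  let e : Fin s.card ≃ s := s.equivFin.symm
  refine ⟨s.card, fun i => (e i : K), y, hs1.comp_equiv e, ?_, ?_⟩
  · have hr : Set.range (fun i => (e i : K)) = (s : Set K) := by
      ext z
      constructor
      · rintro ⟨i, rfl⟩
        exact (e i).2
      · intro hz
        exact ⟨e.symm ⟨z, hz⟩, by simp⟩
    rw [hr, Set.insert_eq, Set.union_comm, ← IntermediateField.adjoin_adjoin_left, hy]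
    rfl
  · have hr : Set.range (fun i => (e i : K)) = (s : Set K) := by
      ext z
      constructor
      · rintro ⟨i, rfl⟩
        exact (e i).2
      · intro hz
        exact ⟨e.symm ⟨z, hz⟩, by simp⟩
    rw [hr]
    exact Algebra.IsSeparable.isSeparable F y

end Groth.Agent.S9650
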