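import Groth.Statements.S9651
import Groth.Agent.Lead.GoodImage2
import Mathlib

set_option autoImplicit false
universe u
open CAlg

namespace Groth.Agent.S9651

theorem aux {R S : Type u} [CommRing R] [CommRing S] [Algebra R S] [Algebra.FiniteType R S]
    (E : Set (PrimeSpectrum S)) (hE : Topology.IsConstructible E) (ξ : PrimeSpectrum R) (hξ : ξ ∈ PrimeSpectrum.comap (algebraMap R S) '' E) :
    ∃ U : Set (PrimeSpectrum R), IsOpen U ∧ closure ({ξ} : Set (PrimeSpectrum R)) ⊆ closure (U ∩ closure {ξ}) ∧ U ∩ closure {ξ} ⊆ PrimeSpectrum.comap (algebraMap R S) '' E := by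
  obtain ⟨y, hyE, rfl⟩ := hξ
  obtain ⟨g, hg, Hg⟩ := Groth.Agent.Lead.GoodImage.exists_basicOpen_of_mem_constructible hE hyE
  obtain ⟨u, hu, Hu⟩ := Groth.Agent.Lead.GoodImage.exists_basicOpen_subset_image (R := R) y g hg
  refine ⟨PrimeSpectrum.basicOpen u, (PrimeSpectrum.basicOpen u).2, ?_, ?_⟩
  · apply closure_mono
    rw [Set.singleton_subset_iff]
    exact ⟨hu, subset_closure rfl⟩
  · rintro x ⟨hxu, hxc⟩
    have hspec : PrimeSpectrum.comap (algebraMap R S) y ⤳ x := specializes_iff_mem_closure.mpr hxc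
    obtain ⟨y', hyy', hgy', rfl⟩ := Hu x hspec hxu
    exact ⟨y', Hg y' hyy' hgy', rfl⟩

/-- Let R → S be a ring map of finite type, f : Spec(S) → Spec(R) the induced map and E ⊆ Spec(S) a
constructible subset. If ξ ∈ f(E) then f(E) ∩ cl{ξ} contains an open dense subset of the closure
cl{ξ}: some open U of Spec(R) has U ∩ cl{ξ} dense in cl{ξ} and contained in f(E). -/
theorem result {R S : Type u} [CommRing R] [CommRing S] [Algebra R S] [Algebra.FiniteType R S]
    (E : Set (PrimeSpectrum S)) (hE : Topology.IsConstructible E) (ξ : PrimeSpectrum R) (hξ : ξ ∈ PrimeSpectrum.comap (algebraMap R S) '' E) :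
    ∃ U : Set (PrimeSpectrum R), IsOpen U ∧ closure ({ξ} : Set (PrimeSpectrum R)) ⊆ closure (U ∩ closure {ξ}) ∧ U ∩ closure {ξ} ⊆ PrimeSpectrum.comap (algebraMap R S) '' E := by
  exact aux E hE ξ hξ

end Groth.Agent.S9651
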