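import Groth.Statements.S9652
import Groth.Agent.S9651
import Groth.Agent.Lead.GoodImage2
import Mathlib

set_option autoImplicit false
universe u
open CAlg

namespace Groth.Agent.S9652

/-- in a Jacobson spectrum, the points of a constructible set `E` that are closed in `E` are closed -/
theorem isClosed_of_mem_closedIn {S : Type u} [CommRing S] [IsJacobsonRing S]
    {E : Set (PrimeSpectrum S)} (hE : Topology.IsConstructible E) {y : PrimeSpectrum S}
    (hy : y ∈ E) (hy' : closure {y} ∩ E = {y}) : IsClosed ({y} : Set (PrimeSpectrum S)) := by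
  obtain ⟨A, B, hA, -, hB, -, hyA, hyB, hAB⟩ :=
    Groth.Agent.Lead.ProConsLib.exists_compact_opens_of_isConstructible hE y hy
  apply isClosed_singleton_of_isLocallyClosed_singleton
  have h1 : ({y} : Set (PrimeSpectrum S)) = (closure {y} ∩ Bᶜ) ∩ A := by
    apply le_antisymm
    · rintro _ rfl
      exact ⟨⟨subset_closure rfl, hyB⟩, hyA⟩
    · rintro z ⟨⟨hz1, hz2⟩, hz3⟩
      rw [← hy']
      exact ⟨hz1, hAB ⟨hz3, hz2⟩⟩
  rw [h1]
  exact ((isClosed_closure.inter hB.isClosed_compl).isLocallyClosed).inter hA.isLocallyClosed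

/-- closed points map to closed points -/
theorem isClosed_comap {R S : Type u} [CommRing R] [CommRing S] [Algebra R S] [IsJacobsonRing R]
    [Algebra.FiniteType R S] {y : PrimeSpectrum S} (hy : IsClosed ({y} : Set (PrimeSpectrum S))) :
    IsClosed ({PrimeSpectrum.comap (algebraMap R S) y} : Set (PrimeSpectrum R)) := by
  rw [PrimeSpectrum.isClosed_singleton_iff_isMaximal] at hy ⊢
  let M := y.asIdeal
  haveI : M.IsMaximal := hy
  letI : Field (S ⧸ M) := Ideal.Quotient.field M
  haveI : Algebra.FiniteType R (S ⧸ M) := inferInstance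
  haveI : Module.Finite R (S ⧸ M) := finite_of_finite_type_of_isJacobsonRing R (S ⧸ M)
  have hint : (algebraMap R (S ⧸ M)).IsIntegral :=
    RingHom.Finite.to_isIntegral (RingHom.finite_algebraMap.mpr ‹_›)
  have h1 : ((⊥ : Ideal (S ⧸ M)).comap (algebraMap R (S ⧸ M))).IsMaximal :=
    Ideal.isMaximal_comap_of_isIntegral_of_isMaximal' _ hint ⊥
  have h2 : (⊥ : Ideal (S ⧸ M)).comap (algebraMap R (S ⧸ M)) = M.comap (algebraMap R S) := by
    ext r
    rw [Ideal.mem_comap, Ideal.mem_comap, Ideal.mem_bot, IsScalarTower.algebraMap_apply R S (S ⧸ M)]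
    exact Ideal.Quotient.eq_zero_iff_mem
  rw [h2] at h1
  exact h1

theorem aux {R S : Type u} [CommRing R] [CommRing S] [Algebra R S] [IsJacobsonRing R] [IsJacobsonRing S] [Algebra.FiniteType R S]
    (E : Set (PrimeSpectrum S)) (hE : Topology.IsConstructible E) :
    {x | x ∈ PrimeSpectrum.comap (algebraMap R S) '' E ∧ closure {x} ∩ PrimeSpectrum.comap (algebraMap R S) '' E = {x}} =
        PrimeSpectrum.comap (algebraMap R S) '' {y | y ∈ E ∧ closure {y} ∩ E = {y}} ∧
      PrimeSpectrum.comap (algebraMap R S) '' {y | y ∈ E ∧ closure {y} ∩ E = {y}} =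
        {x | IsClosed ({x} : Set (PrimeSpectrum R))} ∩ PrimeSpectrum.comap (algebraMap R S) '' E := by
  have part2 : PrimeSpectrum.comap (algebraMap R S) '' {y | y ∈ E ∧ closure {y} ∩ E = {y}} =
        {x | IsClosed ({x} : Set (PrimeSpectrum R))} ∩ PrimeSpectrum.comap (algebraMap R S) '' E := by
    apply le_antisymm
    · rintro _ ⟨y, ⟨hyE, hy'⟩, rfl⟩
      exact ⟨isClosed_comap (isClosed_of_mem_closedIn hE hyE hy'), y, hyE, rfl⟩
    · rintro x ⟨hx, y, hyE, rfl⟩
      obtain ⟨A, B, hA, -, hB, -, hyA, hyB, hAB⟩ :=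
        Groth.Agent.Lead.ProConsLib.exists_compact_opens_of_isConstructible hE y hyE
      let Z : Set (PrimeSpectrum S) :=
        (PrimeSpectrum.comap (algebraMap R S) ⁻¹' {PrimeSpectrum.comap (algebraMap R S) y} ∩ Bᶜ) ∩ A
      have hZlc : IsLocallyClosed Z := by
        have hcl : IsClosed (PrimeSpectrum.comap (algebraMap R S) ⁻¹'
            {PrimeSpectrum.comap (algebraMap R S) y}) :=
          hx.preimage (PrimeSpectrum.continuous_comap (algebraMap R S))
        exact ((hcl.inter hB.isClosed_compl).isLocallyClosed).inter hA.isLocallyClosed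
      have hZne : Z.Nonempty := ⟨y, ⟨rfl, hyB⟩, hyA⟩
      obtain ⟨y', ⟨⟨hy'1, hy'2⟩, hy'3⟩, hy'c⟩ := nonempty_inter_closedPoints hZne hZlc
      have hy'c' : IsClosed ({y'} : Set (PrimeSpectrum S)) := hy'c
      refine ⟨y', ⟨hAB ⟨hy'3, hy'2⟩, ?_⟩, hy'1⟩
      rw [hy'c'.closure_eq]
      exact Set.inter_eq_left.mpr (Set.singleton_subset_iff.mpr (hAB ⟨hy'3, hy'2⟩))
  refine ⟨?_, part2⟩
  apply le_antisymm
  · rintro x ⟨hxE, hx'⟩
    rw [part2]
    refine ⟨?_, hxE⟩
    obtain ⟨U, hU, hU1, hU2⟩ := Groth.Agent.S9651.result E hE x hxE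
    have hsub : U ∩ closure {x} ⊆ {x} := by
      intro z hz
      have h3 : z ∈ closure {x} ∩ PrimeSpectrum.comap (algebraMap R S) '' E := ⟨hz.2, hU2 hz⟩
      rw [hx'] at h3
      exact h3
    have hne : (U ∩ closure {x}).Nonempty := by
      by_contra hemp
      rw [Set.not_nonempty_iff_eq_empty] at hemp
      rw [hemp, closure_empty] at hU1
      exact hU1 (subset_closure rfl)
    have heq : U ∩ closure {x} = {x} := by
      apply le_antisymm hsub
      obtain ⟨z, hz⟩ := hne
      have hzx : z = x := hsub hz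
      rw [hzx] at hz
      exact Set.singleton_subset_iff.mpr hz
    apply isClosed_singleton_of_isLocallyClosed_singleton
    rw [← heq]
    exact hU.isLocallyClosed.inter isClosed_closure.isLocallyClosed
  · intro x hx
    have := part2.le hx
    obtain ⟨hxc, hxE⟩ := this
    have hxc' : IsClosed ({x} : Set (PrimeSpectrum R)) := hxc
    refine ⟨hxE, ?_⟩
    rw [hxc'.closure_eq]
    exact Set.inter_eq_left.mpr (Set.singleton_subset_iff.mpr hxE)

/-- Let R and S be Jacobson rings, R → S a ring map of finite type with induced map f : Spec(S) →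
Spec(R), and E ⊆ Spec(S) a constructible subset. Writing T₀ for the set of points of a subspace T
which are closed in T, one has f(E)₀ = f(E₀) = (Spec R)₀ ∩ f(E). -/
theorem result {R S : Type u} [CommRing R] [CommRing S] [Algebra R S] [IsJacobsonRing R] [IsJacobsonRing S] [Algebra.FiniteType R S]
    (E : Set (PrimeSpectrum S)) (hE : Topology.IsConstructible E) :
    {x | x ∈ PrimeSpectrum.comap (algebraMap R S) '' E ∧ closure {x} ∩ PrimeSpectrum.comap (algebraMap R S) '' E = {x}} =
        PrimeSpectrum.comap (algebraMap R S) '' {y | y ∈ E ∧ closure {y} ∩ E = {y}} ∧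
      PrimeSpectrum.comap (algebraMap R S) '' {y | y ∈ E ∧ closure {y} ∩ E = {y}} =
        {x | IsClosed ({x} : Set (PrimeSpectrum R))} ∩ PrimeSpectrum.comap (algebraMap R S) '' E := by
  exact aux E hE

end Groth.Agent.S9652
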