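import Groth.Statements.S9653
import Groth.Agent.S9652
import Groth.Agent.Lead.ProConsLib8
import Mathlib

set_option autoImplicit false
universe u
open CAlg

namespace Groth.Agent.S9653

open AlgebraicGeometry CategoryTheory in
/-- closed subsets of a scheme are pro-constructible -/
theorem pro_of_isClosed {X : Scheme.{u}} {Z : Set X} (hZ : IsClosed Z) :
    ProCons.IsProConstructible Z := by
  rw [Groth.Agent.Lead.ProConsLib.pro_iff_pieces]
  intro x hx
  obtain ⟨V₁, hV₁, hxV₁, hsub⟩ := exists_isAffineOpen_mem_and_subset (x := x)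
    (U := (⟨Zᶜ, hZ.isOpen_compl⟩ : X.Opens)) hx
  refine ⟨V₁, ∅, hV₁, isOpen_empty, isCompact_empty, Set.empty_subset _, hxV₁,
    Set.notMem_empty x, ?_⟩
  intro y hy
  exact hsub hy.1

open AlgebraicGeometry CategoryTheory in
/-- intersections of pro-constructible sets are pro-constructible -/
theorem pro_inter {X : Scheme.{u}} {E F : Set X} (hE : ProCons.IsProConstructible E)
    (hF : ProCons.IsProConstructible F) : ProCons.IsProConstructible (E ∩ F) := by
  rw [Groth.Agent.Lead.ProConsLib.pro_iff_pieces] at hE hF ⊢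
  intro x hx
  by_cases hxE : x ∈ E
  · have hxF : x ∉ F := fun h => hx ⟨hxE, h⟩
    exact (hF x hxF).mono (Set.compl_subset_compl.mpr Set.inter_subset_right)
  · exact (hE x hxE).mono (Set.compl_subset_compl.mpr Set.inter_subset_left)

open AlgebraicGeometry CategoryTheory in
/-- a point in the closure of `closure {ξ} ∩ f(E)` lies in `f(E)` -/
theorem mem_image_of_mem_closure {R S : Type u} [CommRing R] [CommRing S] [Algebra R S]
    (E : Set (PrimeSpectrum S)) (hE : Topology.IsConstructible E) (ξ : PrimeSpectrum R)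
    (h : ξ ∈ closure (closure ({ξ} : Set (PrimeSpectrum R)) ∩
      PrimeSpectrum.comap (algebraMap R S) '' E)) :
    ξ ∈ PrimeSpectrum.comap (algebraMap R S) '' E := by
  let X : Scheme.{u} := Spec (CommRingCat.of R)
  let X' : Scheme.{u} := Spec (CommRingCat.of S)
  let f : X' ⟶ X := Spec.map (CommRingCat.ofHom (algebraMap R S))
  let E' : Set X' := E
  have hE' : ProCons.IsProConstructible E' :=
    Groth.Agent.Lead.ProConsLib.pro_of_isConstructible (X := X') hE
  have hfE : ProCons.IsProConstructible (f.base '' E') :=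
    Groth.Agent.Lead.ProConsLib.pro_image f hE'
  let ξ' : X := ξ
  have hcl : ProCons.IsProConstructible (closure ({ξ'} : Set X)) := pro_of_isClosed isClosed_closure
  have hZ := pro_inter hcl hfE
  have h' : ξ' ∈ closure (closure ({ξ'} : Set X) ∩ f.base '' E') := h
  obtain ⟨z, ⟨hz1, hz2⟩, hzξ⟩ :=
    Groth.Agent.Lead.ProConsLib.exists_specializes_of_mem_closure hZ h'
  have hξz : ξ' ⤳ z := specializes_iff_mem_closure.mpr hz1
  have hzeq : z = ξ' := (hzξ.antisymm hξz).eq
  rw [hzeq] at hz2
  exact hz2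

theorem aux {R S : Type u} [CommRing R] [CommRing S] [Algebra R S] [IsJacobsonRing R] [IsJacobsonRing S] [Algebra.FiniteType R S]
    (E : Set (PrimeSpectrum S)) (hE : Topology.IsConstructible E) (ξ : PrimeSpectrum R) :
    ξ ∈ PrimeSpectrum.comap (algebraMap R S) '' E ↔
      closure ({ξ} : Set (PrimeSpectrum R)) ⊆ closure (closure {ξ} ∩ PrimeSpectrum.comap (algebraMap R S) '' {y | y ∈ E ∧ closure {y} ∩ E = {y}}) := by
  have part2 := (Groth.Agent.S9652.result (R := R) E hE).2
  constructor
  · intro hξ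
    obtain ⟨U, hU, hU1, hU2⟩ := Groth.Agent.S9651.result E hE ξ hξ
    have hW : IsLocallyClosed (U ∩ closure ({ξ} : Set (PrimeSpectrum R))) :=
      hU.isLocallyClosed.inter isClosed_closure.isLocallyClosed
    have h1 := JacobsonSpace.closure_inter_closedPoints_eq_closure hW
    refine hU1.trans ?_
    rw [← h1]
    apply closure_mono
    rintro z ⟨⟨hzU, hzc⟩, hzcl⟩
    refine ⟨hzc, ?_⟩
    rw [part2]
    exact ⟨hzcl, hU2 ⟨hzU, hzc⟩⟩
  · intro h
    apply mem_image_of_mem_closure E hE ξ
    have h1 : ξ ∈ closure (closure ({ξ} : Set (PrimeSpectrum R)) ∩ PrimeSpectrum.comap (algebraMap R S) '' {y | y ∈ E ∧ closure {y} ∩ E = {y}}) :=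
      h (subset_closure rfl)
    refine closure_mono ?_ h1
    rintro z ⟨hz1, y, ⟨hyE, -⟩, rfl⟩
    exact ⟨hz1, y, hyE, rfl⟩

/-- Let R and S be Jacobson rings, R → S a ring map of finite type with induced map f : Spec(S) →
Spec(R), E ⊆ Spec(S) constructible and E₀ the set of points of E closed in E. Then a point ξ of
Spec(R) lies in f(E) if and only if cl{ξ} ∩ f(E₀) is dense in the closure cl{ξ}. -/
theorem result {R S : Type u} [CommRing R] [CommRing S] [Algebra R S] [IsJacobsonRing R] [IsJacobsonRing S] [Algebra.FiniteType R S]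
    (E : Set (PrimeSpectrum S)) (hE : Topology.IsConstructible E) (ξ : PrimeSpectrum R) :
    ξ ∈ PrimeSpectrum.comap (algebraMap R S) '' E ↔
      closure ({ξ} : Set (PrimeSpectrum R)) ⊆ closure (closure {ξ} ∩ PrimeSpectrum.comap (algebraMap R S) '' {y | y ∈ E ∧ closure {y} ∩ E = {y}}) := by
  exact aux E hE ξ

end Groth.Agent.S9653
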