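import Groth.Statements.S9656
import Mathlib.Tactic

set_option autoImplicit false
universe u
open CAlg

namespace Groth.Agent.S9656

open Polynomial

theorem result {ι : Type u} [Fintype ι] {R S : ι → Type u} [∀ i, CommRing (R i)] [∀ i, CommRing (S i)] (f : ∀ i, R i →+* S i) (s : ∀ i, S i) :
    (RingHom.pi fun i => (f i).comp (Pi.evalRingHom R i)).IsIntegralElem s ↔ ∀ i, (f i).IsIntegralElem (s i) := by
  classical
  set F := (RingHom.pi fun i => (f i).comp (Pi.evalRingHom R i)) with hF
  constructor
  · intro hx i
    have h1 := hx.map (Pi.evalRingHom S i)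
    have h2 : (Pi.evalRingHom S i).comp F = (f i).comp (Pi.evalRingHom R i) := by
      ext x; simp [hF]
    rw [h2] at h1
    exact RingHom.IsIntegralElem.of_comp h1
  · intro h
    choose p hpm hp using h
    set N := ∑ i, (p i).natDegree with hN
    have hle : ∀ i, (p i).natDegree ≤ N := fun i =>
      Finset.single_le_sum (f := fun i => (p i).natDegree) (fun _ _ => Nat.zero_le _) (Finset.mem_univ i)
    let p' : ∀ i, (R i)[X] := fun i => p i * X ^ (N - (p i).natDegree)
    have hp'm : ∀ i, (p' i).Monic := fun i => (hpm i).mul (monic_X_pow _)
    have hp'd : ∀ i, (p' i).natDegree ≤ N := by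
      intro i
      refine (natDegree_mul_le).trans ?_
      have := natDegree_X_pow_le (R := R i) (N - (p i).natDegree)
      have := hle i
      omega
    have hp'c : ∀ i, (p' i).coeff N = 1 := by
      intro i
      rcases subsingleton_or_nontrivial (R i) with h | h
      · exact Subsingleton.elim _ _
      · have : (p' i).natDegree = N := by
          rw [(hpm i).natDegree_mul (monic_X_pow _), natDegree_X_pow]
          have := hle i; omega
        rw [← this]; exact (hp'm i)
    have hp'e : ∀ i, eval₂ (f i) (s i) (p' i) = 0 := by
      intro i; simp only [p', eval₂_mul, hp i, zero_mul]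
    let P : (∀ i, R i)[X] := ∑ k ∈ Finset.range (N + 1), C (fun i => (p' i).coeff k) * X ^ k
    have hPc : ∀ k, P.coeff k = if k < N + 1 then (fun i => (p' i).coeff k) else 0 := by
      intro k
      simp only [P, finsetSum_coeff, coeff_C_mul, coeff_X_pow]
      split_ifs with hk
      · rw [Finset.sum_eq_single k]
        · simp
        · intro b _ hb; simp [hb.symm]
        · intro hk'; exact absurd (Finset.mem_range.mpr hk) hk'
      · apply Finset.sum_eq_zero
        intro b hb
        have : k ≠ b := by
          rintro rfl; exact hk (Finset.mem_range.mp hb)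
        simp [this]
    refine ⟨P, ?_, ?_⟩
    · apply monic_of_natDegree_le_of_coeff_eq_one N
      · rw [natDegree_le_iff_coeff_eq_zero]
        intro k hk
        rw [hPc, if_neg (by omega)]
      · rw [hPc, if_pos (by omega)]
        funext i; exact hp'c i
    · funext i
      have : eval₂ F s P = ∑ k ∈ Finset.range (N + 1), F (fun i => (p' i).coeff k) * s ^ k := by
        simp only [P, eval₂_finsetSum, eval₂_mul, eval₂_C, eval₂_X_pow]
      rw [this, Finset.sum_apply, Pi.zero_apply, ← hp'e i,
        eval₂_eq_sum_range' (f i) (Nat.lt_succ_of_le (hp'd i))]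
      apply Finset.sum_congr rfl
      intro k _
      simp [hF]

end Groth.Agent.S9656
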