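import Groth.Statements.S9658
import Mathlib

set_option autoImplicit false
universe u
open CAlg

namespace Groth.Agent.S9658

/-- partition of unity for powers -/
theorem exists_partition {R : Type u} [CommRing R] {ι : Type u} [Fintype ι] (f : ι → R)
    (hf : Ideal.span (Set.range f) = ⊤) (N : ℕ) : ∃ c : ι → R, ∑ i, c i * f i ^ N = 1 := by
  have h := Ideal.span_pow_eq_top _ hf N
  rw [← Set.range_comp] at h
  have h1 : (1 : R) ∈ Ideal.span (Set.range ((fun x => x ^ N) ∘ f)) := by rw [h]; trivial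
  obtain ⟨c, hc⟩ := Ideal.mem_span_range_iff_exists_fun.mp h1
  exact ⟨c, hc⟩

/-- Let R be a ring, f_1, …, f_n ∈ R generating the unit ideal and M an R-module. With M_i = M_{f_i},
M_ij = M_{f_i f_j} (any localizations, with the canonical compatible maps M → M_i → M_ij), the
sequence 0 → M → ⊕ M_i → ⊕ M_ij is exact: an element of M whose image vanishes in every M_i is zero,
and every family (m_i ∈ M_i) such that m_i and m_j have the same image in M_ij for all i, j is the
image of an element of M. -/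
theorem result {R : Type u} [CommRing R] {ι : Type u} [Fintype ι] (f : ι → R) (hf : Ideal.span (Set.range f) = ⊤)
    (M : Type u) [AddCommGroup M] [Module R M]
    (Mi : ι → Type u) [∀ i, AddCommGroup (Mi i)] [∀ i, Module R (Mi i)] (g : ∀ i, M →ₗ[R] Mi i) [∀ i, IsLocalizedModule (Submonoid.powers (f i)) (g i)]
    (Mij : ι → ι → Type u) [∀ i j, AddCommGroup (Mij i j)] [∀ i j, Module R (Mij i j)] (gij : ∀ i j, M →ₗ[R] Mij i j) [∀ i j, IsLocalizedModule (Submonoid.powers (f i * f j)) (gij i j)]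
    (ρ₁ : ∀ i j, Mi i →ₗ[R] Mij i j) (hρ₁ : ∀ i j, ρ₁ i j ∘ₗ g i = gij i j) (ρ₂ : ∀ i j, Mi j →ₗ[R] Mij i j) (hρ₂ : ∀ i j, ρ₂ i j ∘ₗ g j = gij i j) :
    (∀ m : M, (∀ i, g i m = 0) → m = 0) ∧
      ∀ s : ∀ i, Mi i, (∀ i j, ρ₁ i j (s i) = ρ₂ i j (s j)) → ∃ m : M, ∀ i, g i m = s i := by
  classical
  constructor
  · intro m hm
    have h1 : ∀ i, ∃ n : ℕ, f i ^ n • m = 0 := by
      intro i
      obtain ⟨⟨_, n, rfl⟩, hn⟩ := (IsLocalizedModule.eq_zero_iff (Submonoid.powers (f i)) (g i)).mp (hm i)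
      exact ⟨n, hn⟩
    choose n hn using h1
    let N := Finset.univ.sup n
    have hN : ∀ i, f i ^ N • m = 0 := by
      intro i
      have : n i ≤ N := Finset.le_sup (f := n) (Finset.mem_univ i)
      rw [← Nat.sub_add_cancel this, pow_add, mul_smul, hn i, smul_zero]
    obtain ⟨c, hc⟩ := exists_partition f hf N
    calc m = (1 : R) • m := (one_smul _ _).symm
      _ = ∑ i, (c i * f i ^ N) • m := by rw [← hc, Finset.sum_smul]
      _ = 0 := Finset.sum_eq_zero fun i _ => by rw [mul_smul, hN i, smul_zero]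
  · intro s hs
    -- numerators
    obtain ⟨N, m', hm'⟩ : ∃ (N : ℕ) (m' : ι → M), ∀ i, f i ^ N • s i = g i (m' i) := by
      have h1 : ∀ i, ∃ (m : M) (n : ℕ), f i ^ n • s i = g i m := by
        intro i
        obtain ⟨⟨m, ⟨_, n, rfl⟩⟩, hmn⟩ :=
          IsLocalizedModule.surj (Submonoid.powers (f i)) (g i) (s i)
        exact ⟨m, n, hmn⟩
      choose m n hmn using h1
      have hnN : ∀ i, n i ≤ Finset.univ.sup n :=
        fun i => Finset.le_sup (f := n) (Finset.mem_univ i)
      refine ⟨Finset.univ.sup n, fun i => f i ^ (Finset.univ.sup n - n i) • m i, fun i => ?_⟩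
      simp only [map_smul]
      rw [← hmn i, smul_smul, ← pow_add, Nat.sub_add_cancel (hnN i)]
    -- compatibility
    obtain ⟨K', hK'⟩ : ∃ K' : ℕ, ∀ i j,
        (f i * f j) ^ K' • (f j ^ N • m' i) = (f i * f j) ^ K' • (f i ^ N • m' j) := by
      have h2 : ∀ i j, ∃ K : ℕ,
          (f i * f j) ^ K • (f j ^ N • m' i) = (f i * f j) ^ K • (f i ^ N • m' j) := by
        intro i j
        have : gij i j (f j ^ N • m' i) = gij i j (f i ^ N • m' j) := by
          rw [map_smul, map_smul, ← hρ₁ i j, LinearMap.comp_apply, ← hm' i]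
          conv_rhs => rw [hρ₁ i j, ← hρ₂ i j, LinearMap.comp_apply, ← hm' j]
          rw [map_smul, map_smul, hs i j, smul_comm]
        obtain ⟨⟨_, K, rfl⟩, hK⟩ :=
          (IsLocalizedModule.eq_iff_exists (Submonoid.powers (f i * f j)) (gij i j)).mp this
        exact ⟨K, hK⟩
      choose K hK using h2
      have hKK' : ∀ i j, K i j ≤ Finset.univ.sup fun i => Finset.univ.sup (K i) := fun i j =>
        (Finset.le_sup (f := K i) (Finset.mem_univ j)).trans
          (Finset.le_sup (f := fun i => Finset.univ.sup (K i)) (Finset.mem_univ i))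
      refine ⟨Finset.univ.sup fun i => Finset.univ.sup (K i), fun i j => ?_⟩
      rw [← Nat.sub_add_cancel (hKK' i j), pow_add, mul_smul, mul_smul, hK i j]
    obtain ⟨N', m'', hm'', hcomp⟩ : ∃ (N' : ℕ) (m'' : ι → M),
        (∀ i, f i ^ N' • s i = g i (m'' i)) ∧ ∀ i j, f j ^ N' • m'' i = f i ^ N' • m'' j := by
      refine ⟨N + K', fun i => f i ^ K' • m' i, fun i => ?_, fun i j => ?_⟩
      · simp only [map_smul]
        rw [← hm' i, smul_smul, ← pow_add, add_comm]
      · have := hK' i j
        simp only [smul_smul] at this ⊢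
        have e1 : f j ^ (N + K') * f i ^ K' = (f i * f j) ^ K' * f j ^ N := by ring
        have e2 : f i ^ (N + K') * f j ^ K' = (f i * f j) ^ K' * f i ^ N := by ring
        rw [e1, e2]; exact this
    obtain ⟨c, hc⟩ := exists_partition f hf N'
    refine ⟨∑ i, c i • m'' i, fun j => ?_⟩
    apply IsLocalizedModule.smul_injective (g j) (⟨f j ^ N', N', rfl⟩ : Submonoid.powers (f j))
    change f j ^ N' • g j (∑ i, c i • m'' i) = f j ^ N' • s j
    rw [hm'' j, ← map_smul, Finset.smul_sum]
    congr 1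
    calc ∑ i, f j ^ N' • c i • m'' i = ∑ i, (c i * f i ^ N') • m'' j := by
          refine Finset.sum_congr rfl fun i _ => ?_
          rw [smul_comm, hcomp i j, smul_smul]
      _ = m'' j := by rw [← Finset.sum_smul, hc, one_smul]

end Groth.Agent.S9658
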