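import Groth.Statements.S9659
import Mathlib
import Groth.Agent.Helper3.GrUnit

set_option autoImplicit false
universe u
open scoped TensorProduct
open CAlg

namespace Groth.Agent.S9659

/-- Let S be a ℤ-graded ring which contains an invertible homogeneous element of positive degree. Then
the set of homogeneous prime ideals of S, with the topology induced from Spec(S), maps
homeomorphically onto Spec(S₀) by p ↦ p ∩ S₀. -/
theorem result {R S : Type u} [CommRing R] [CommRing S] [Algebra R S] (𝒜 : ℤ → Submodule R S) [GradedAlgebra 𝒜]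
    (f : S) (d : ℤ) (hd : 0 < d) (hf : f ∈ 𝒜 d) (hu : IsUnit f) :
    IsHomeomorph (fun p : {p : PrimeSpectrum S // p.asIdeal.IsHomogeneous 𝒜} => PrimeSpectrum.comap (SetLike.GradeZero.subring 𝒜).subtype p.1) := by
  obtain ⟨g, hfg⟩ := hu.exists_right_inv
  have hD : 0 < d.toNat := by omega
  have hf' : f ∈ 𝒜 ((d.toNat : ℕ) : ℤ) := by
    rw [Int.toNat_of_nonneg hd.le]
    exact hf
  exact Groth.Agent.Helper3.GrUnit.main 𝒜 f g d.toNat hD hf' hfg

end Groth.Agent.S9659
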