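import Groth.Statements.S9661
import Groth.Agent.Helper6.HilbProj3
import Groth.Agent.Helper5.DimBC

set_option autoImplicit false
universe u
attribute [local instance] MvPolynomial.gradedAlgebra
open CAlg

namespace Groth.Agent.S9661

open Polynomial Groth.Agent.Helper6.HilbProj Groth.Agent.Helper6.HSamuel in
theorem aux {k : Type u} [Field k] (n : ℕ)
    (I : Ideal (MvPolynomial (Fin (n + 1)) k))
    (hIh : I.IsHomogeneous (MvPolynomial.homogeneousSubmodule (Fin (n + 1)) k)) (hI : I ≠ ⊥) :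
    ∃ P : Polynomial ℚ, P.degree < ((n : ℕ) : WithBot ℕ) ∧ ∃ N : ℕ, ∀ t : ℕ, N ≤ t →
      ((H I t : ℕ) : ℚ) = P.eval (t : ℚ) := by
  by_cases hItop : I = ⊤
  · refine ⟨0, ?_, 0, fun t _ => ?_⟩
    · rw [degree_zero]; exact WithBot.bot_lt_coe _
    · rw [hItop, H_top, eval_zero, Nat.cast_zero]
  obtain ⟨Qp, ⟨N, hN⟩, hdeg⟩ := exists_samuel_poly k n I hIh hItop
  -- dimension bound
  have hdim : ringKrullDim (MvPolynomial (Fin (n + 1)) k ⧸ I) ≤ ((n : ℕ) : WithBot ℕ∞) := by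
    obtain ⟨f, hfI, hf0⟩ := Submodule.exists_mem_ne_zero_of_ne_bot hI
    have h1 := ringKrullDim_succ_le_of_surjective (Ideal.Quotient.mk I)
      Ideal.Quotient.mk_surjective (r := f) (mem_nonZeroDivisors_of_ne_zero hf0)
      (Ideal.Quotient.eq_zero_iff_mem.2 hfI)
    rw [Groth.Agent.Helper5.DimBC.dim_mvPolynomial] at h1
    generalize ringKrullDim (MvPolynomial (Fin (n + 1)) k ⧸ I) = x at h1 ⊢
    induction x using WithBot.recBotCoe with
    | bot => exact bot_le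
    | coe m =>
      have h2 : ((m + 1 : ℕ∞) : WithBot ℕ∞) ≤ ((n + 1 : ℕ∞) : WithBot ℕ∞) := by
        simpa using h1
      rw [WithBot.coe_le_coe] at h2
      have h3 : m ≤ (n : ℕ∞) := (ENat.add_le_add_iff_right ENat.one_ne_top).1 h2
      exact_mod_cast h3
  have hQn : Qp.natDegree ≤ n := by
    rw [← hdeg] at hdim
    exact_mod_cast hdim
  refine ⟨taylor 1 Qp - Qp, ?_, N, fun t ht => ?_⟩
  · by_cases hQ0 : Qp = 0
    · rw [hQ0, map_zero, sub_zero, degree_zero]; exact WithBot.bot_lt_coe _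
    · have h1 := degree_sub_taylor_lt Qp hQ0 1
      have h2 : (taylor 1 Qp - Qp).degree = (Qp - taylor 1 Qp).degree := by
        rw [← neg_sub, degree_neg]
      rw [h2]
      refine lt_of_lt_of_le h1 (degree_le_natDegree.trans ?_)
      exact_mod_cast hQn
  · rw [eval_sub, eval_taylor']
    have e : ((t : ℕ) : ℚ) + 1 = ((t + 1 : ℕ) : ℚ) := by push_cast; ring
    rw [e, hN (t + 1) (by omega), hN t ht, Finset.sum_range_succ]
    push_cast
    ring

theorem result {k : Type u} [Field k] (d : ℕ) (hd : 0 < d)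
    (I : HomogeneousIdeal (MvPolynomial.homogeneousSubmodule (Fin d) k)) (hI : I ≠ ⊥) :
    ∃ P : Polynomial ℚ, P.degree < ((d - 1 : ℕ) : WithBot ℕ) ∧ ∃ N : ℕ, ∀ n : ℕ, N ≤ n →
      ((Module.finrank k ↥(MvPolynomial.homogeneousSubmodule (Fin d) k n) : ℚ) -
        (Module.finrank k ↥(I.toIdeal.restrictScalars k ⊓ MvPolynomial.homogeneousSubmodule (Fin d) k n) : ℚ)) = P.eval (n : ℚ) := by
  obtain ⟨n, rfl⟩ : ∃ n, d = n + 1 := ⟨d - 1, by omega⟩
  have hI' : I.toIdeal ≠ ⊥ := by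
    intro h
    apply hI
    exact HomogeneousIdeal.toIdeal_injective (by rw [h]; rfl)
  obtain ⟨P, hP, N, hN⟩ := aux n I.toIdeal I.isHomogeneous hI'
  refine ⟨P, by simpa using hP, N, fun t ht => ?_⟩
  rw [← hN t ht, Groth.Agent.Helper6.HilbProj.H_cast]

end Groth.Agent.S9661
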