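import Groth.Statements.S9667
import Groth.Agent.Helper4.WeakAss
import Mathlib

set_option autoImplicit false
universe u
open CAlg

namespace Groth.Agent.S9667


open TensorProduct in
/-- Part (3): (B = B_fin): let R → S be a ring map with S Noetherian, N an S-module, M an R-module and q
a prime of S; an associated prime of a module is a prime ideal equal to the annihilator of some
element. If q is an associated prime of the S-module N ⊗_R M, then there is a finitely generated
R-submodule M' ⊆ M such that q is an associated prime of the S-module N ⊗_R M'. -/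
theorem result {R S : Type u} [CommRing R] [CommRing S] [Algebra R S] (N : Type u) [AddCommGroup N] [Module S N] [Module R N] [IsScalarTower R S N] [IsNoetherianRing S]
    (M : Type u) [AddCommGroup M] [Module R M] (q : Ideal S) [q.IsPrime] (h : q ∈ FlatCA.ass S (N ⊗[R] M)) :
    ∃ M' : Submodule R M, M'.FG ∧ q ∈ FlatCA.ass S (N ⊗[R] ↥M') := by

  classical
  -- lTensor version of `TensorProduct.eq_zero_of_fg_of_subtype_eq_zero`
  have hzero : ∀ {P : Submodule R M} (_ : P.FG) {t : N ⊗[R] P},
      LinearMap.lTensor N P.subtype t = 0 →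
      ∃ (Q : Submodule R M) (hPQ : P ≤ Q), Q.FG ∧
        LinearMap.lTensor N (Submodule.inclusion hPQ) t = 0 := by
    intro P hP t h
    rw [← (LinearMap.lTensor N P.subtype).map_zero] at h
    simp only [← Submodule.FG.lTensor.directLimit_apply' R N M P hP,
      EmbeddingLike.apply_eq_iff_eq] at h
    obtain ⟨Q, hPQ, h⟩ := Module.DirectLimit.exists_eq_of_of_eq h
    exact ⟨Q.val, Subtype.coe_le_coe.mpr hPQ, Q.property, by simpa using h⟩
  obtain ⟨hqp, z, hz⟩ := h
  obtain ⟨M', hfin, hM'⟩ := TensorProduct.exists_finite_submodule_right_of_setFinite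
    ({z} : Set (N ⊗[R] M)) (Set.finite_singleton z)
  obtain ⟨z', hz'⟩ := hM' (Set.mem_singleton z)
  have hM'fg : M'.FG := (Module.Finite.iff_fg).mp hfin
  obtain ⟨G, hG⟩ := (isNoetherianRing_iff_ideal_fg S).mp inferInstance q
  have hmemq : ∀ s : S, s ∈ q ↔ s • z = 0 := by
    intro s
    rw [hz]
    exact Helper4.WeakAss.mem_ann
  have key : ∀ G' : Finset S, (↑G' ⊆ (q : Set S)) → ∃ (Q : Submodule R M) (hQ : M' ≤ Q), Q.FG ∧
      ∀ g ∈ G', g • (TensorProduct.AlgebraTensorModule.lTensor S N (Submodule.inclusion hQ) z') = 0 := by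
    intro G'
    induction G' using Finset.induction_on with
    | empty => intro _; exact ⟨M', le_rfl, hM'fg, by simp⟩
    | insert g G' hg ih =>
      intro hsub
      obtain ⟨Q, hQ, hQfg, hkill⟩ := ih (fun x hx => hsub (Finset.mem_insert_of_mem hx))
      have hzQ : TensorProduct.AlgebraTensorModule.lTensor S N Q.subtype
          (TensorProduct.AlgebraTensorModule.lTensor S N (Submodule.inclusion hQ) z') = z := by
        rw [← LinearMap.comp_apply, ← TensorProduct.AlgebraTensorModule.lTensor_comp]
        exact hz'
      have h0 : LinearMap.lTensor N Q.subtype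
          (g • (TensorProduct.AlgebraTensorModule.lTensor S N (Submodule.inclusion hQ) z')) = 0 := by
        change TensorProduct.AlgebraTensorModule.lTensor S N Q.subtype _ = 0
        rw [map_smul, hzQ]
        exact (hmemq g).mp (hsub (Finset.mem_insert_self g G'))
      obtain ⟨Q', hQQ', hQ'fg, h1⟩ := hzero hQfg h0
      refine ⟨Q', hQ.trans hQQ', hQ'fg, ?_⟩
      intro g' hg'
      have hcomp : TensorProduct.AlgebraTensorModule.lTensor S N
          (Submodule.inclusion (hQ.trans hQQ')) z' =
          TensorProduct.AlgebraTensorModule.lTensor S N (Submodule.inclusion hQQ')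
            (TensorProduct.AlgebraTensorModule.lTensor S N (Submodule.inclusion hQ) z') := by
        rw [← LinearMap.comp_apply, ← TensorProduct.AlgebraTensorModule.lTensor_comp]
        rfl
      rw [hcomp, ← map_smul]
      rcases Finset.mem_insert.mp hg' with rfl | hg''
      · exact h1
      · rw [hkill g' hg'', map_zero]
  obtain ⟨Q, hQ, hQfg, hkill⟩ := key G (by rw [← hG]; exact Ideal.subset_span)
  refine ⟨Q, hQfg, hqp,
    TensorProduct.AlgebraTensorModule.lTensor S N (Submodule.inclusion hQ) z', ?_⟩
  have hzQ : TensorProduct.AlgebraTensorModule.lTensor S N Q.subtype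
      (TensorProduct.AlgebraTensorModule.lTensor S N (Submodule.inclusion hQ) z') = z := by
    rw [← LinearMap.comp_apply, ← TensorProduct.AlgebraTensorModule.lTensor_comp]
    exact hz'
  apply le_antisymm
  · rw [← hG, Ideal.span_le]
    intro g hg
    exact Helper4.WeakAss.mem_ann.mpr (hkill g hg)
  · intro s hs
    rw [hmemq, ← hzQ, ← map_smul, Helper4.WeakAss.mem_ann.mp hs, map_zero]

end Groth.Agent.S9667
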