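import Groth.Statements.S9668
import Groth.Agent.Helper4.WeakAss
import Mathlib

set_option autoImplicit false
universe u
open CAlg

namespace Groth.Agent.S9668


open TensorProduct in
/-- Part (4): (B = B_fin): let R → S be a ring map, N an S-module flat over R, M an R-module and q a
prime of S; an associated prime of a module is a prime ideal equal to the annihilator of some
element. If q is an associated prime of the S-module N ⊗_R M, then there is a finitely generated
R-submodule M' ⊆ M such that q is an associated prime of the S-module N ⊗_R M'. -/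
theorem result {R S : Type u} [CommRing R] [CommRing S] [Algebra R S] (N : Type u) [AddCommGroup N] [Module S N] [Module R N] [IsScalarTower R S N] [Module.Flat R N]
    (M : Type u) [AddCommGroup M] [Module R M] (q : Ideal S) [q.IsPrime] (h : q ∈ FlatCA.ass S (N ⊗[R] M)) :
    ∃ M' : Submodule R M, M'.FG ∧ q ∈ FlatCA.ass S (N ⊗[R] ↥M') := by

  obtain ⟨hqp, z, hz⟩ := h
  obtain ⟨M', hfin, hM'⟩ := TensorProduct.exists_finite_submodule_right_of_setFinite
    ({z} : Set (N ⊗[R] M)) (Set.finite_singleton z)
  obtain ⟨z', hz'⟩ := hM' (Set.mem_singleton z)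
  have hinj : Function.Injective (M'.subtype.lTensor N) :=
    Module.Flat.lTensor_preserves_injective_linearMap _ Subtype.val_injective
  let φ : N ⊗[R] ↥M' →ₗ[S] N ⊗[R] M :=
    TensorProduct.AlgebraTensorModule.map (LinearMap.id : N →ₗ[S] N) M'.subtype
  have hφ : ∀ x, φ x = M'.subtype.lTensor N x := by
    intro x
    induction x with
    | zero => simp
    | tmul a b => rfl
    | add a b ha hb => rw [map_add, map_add, ha, hb]
  refine ⟨M', (Module.Finite.iff_fg).mp hfin, hqp, z', ?_⟩
  rw [hz]
  ext s
  rw [Helper4.WeakAss.mem_ann, Helper4.WeakAss.mem_ann]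
  constructor
  · intro hs
    apply hinj
    rw [← hφ, map_smul, hφ, hz', hs, map_zero]
  · intro hs
    rw [← hz', ← hφ, ← map_smul, hs, map_zero]

end Groth.Agent.S9668
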