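import Groth.Statements.S9671
import Groth.Agent.Helper4.Homog2
import Mathlib

set_option autoImplicit false
universe u
open CAlg

namespace Groth.Agent.S9671


/-- Let R be a ring and R' an R-algebra of finite type. Then there are an ℕ-graded R-algebra S such that
R → S₀ is bijective and S is generated as an R-algebra by a finite set of degree-1 elements, an
element f ∈ S₁, and a ring isomorphism e between the degree-zero part S_(f) of the localization S_f
and R' which matches r/1 with the image of r in R' for every r ∈ R (so R' is identified with S_(f)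
as an R-algebra). The published statement also produces, from a finite R'-module, a finite graded
S-module whose degree-zero localization at f recovers it; that half is not part of this row. -/
theorem result (R R' : Type u) [CommRing R] [CommRing R'] [Algebra R R'] [Algebra.FiniteType R R'] :
    ∃ (S : Type u) (_ : CommRing S) (_ : Algebra R S) (𝒜 : ℕ → Submodule R S) (_ : GradedAlgebra 𝒜) (f : S) (_ : f ∈ 𝒜 1) (s : Finset S)
      (e : HomogeneousLocalization.Away 𝒜 f ≃+* R'),
      Function.Injective (algebraMap R S) ∧ (∀ x ∈ 𝒜 0, x ∈ Set.range (algebraMap R S)) ∧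
      (↑s ⊆ (𝒜 1 : Set S)) ∧ Algebra.adjoin R (s : Set S) = ⊤ ∧
      ∀ r : R, (e.symm (algebraMap R R' r)).val = algebraMap S (Localization.Away f) (algebraMap R S r) := by

  classical
  obtain ⟨G, hG⟩ := (Algebra.FiniteType.out : (⊤ : Subalgebra R R').FG)
  let S₀ := Groth.Agent.Helper4.Homog.S R R' G
  let gs : Finset S₀ := insert (Groth.Agent.Helper4.Homog.T₀ R R' G)
    (G.attach.image fun x => Groth.Agent.Helper4.Homog.Tx R R' G x.1 x.2)
  refine ⟨S₀, inferInstance, inferInstance, Groth.Agent.Helper4.Homog.ℬ R R' G, inferInstance,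
    Groth.Agent.Helper4.Homog.T₀ R R' G, Groth.Agent.Helper4.Homog.T₀_mem, gs,
    RingEquiv.ofBijective (Groth.Agent.Helper4.Homog.θ R R' G)
      ⟨Groth.Agent.Helper4.Homog.θ_injective, Groth.Agent.Helper4.Homog.θ_surjective hG⟩,
    Groth.Agent.Helper4.Homog.algebraMap_injective,
    fun x hx => Groth.Agent.Helper4.Homog.mem_range_of_mem_zero hx, ?_, ?_, ?_⟩
  · intro x hx
    simp only [gs, Finset.coe_insert, Finset.coe_image, Set.mem_insert_iff, Set.mem_image,
      Finset.mem_coe, Finset.mem_attach, true_and] at hx
    rcases hx with rfl | ⟨y, rfl⟩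
    · exact Groth.Agent.Helper4.Homog.T₀_mem
    · exact Groth.Agent.Helper4.Homog.Tx_mem _ _
  · have hpre : (gs : Set S₀) = ((↑) : S₀ → Polynomial (Groth.Agent.Helper4.Homog.Q R R')) ⁻¹'
        (Groth.Agent.Helper4.Homog.gens R R' G) := by
      ext x
      simp only [gs, Finset.coe_insert, Finset.coe_image, Set.mem_insert_iff, Set.mem_image,
        Finset.mem_coe, Finset.mem_attach, true_and, Set.mem_preimage,
        Groth.Agent.Helper4.Homog.gens]
      constructor
      · rintro (rfl | ⟨y, rfl⟩)
        · exact Or.inl rfl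
        · exact Or.inr ⟨y.1, y.2, rfl⟩
      · rintro (h | ⟨y, hy, h⟩)
        · exact Or.inl (Subtype.ext h)
        · exact Or.inr ⟨⟨y, hy⟩, Subtype.ext h⟩
    rw [hpre]
    exact Algebra.adjoin_adjoin_coe_preimage
  · intro r
    have h1 : (RingEquiv.ofBijective (Groth.Agent.Helper4.Homog.θ R R' G)
        ⟨Groth.Agent.Helper4.Homog.θ_injective, Groth.Agent.Helper4.Homog.θ_surjective hG⟩).symm
        (algebraMap R R' r) = Groth.Agent.Helper4.Homog.zr R R' G r := by
      rw [RingEquiv.symm_apply_eq]
      exact (Groth.Agent.Helper4.Homog.θ_zr r).symm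
    rw [h1]
    exact Groth.Agent.Helper4.Homog.zr_val r

end Groth.Agent.S9671
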