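import Groth.Statements.S9709
import Mathlib

set_option autoImplicit false
universe u
open Mor

namespace Groth.Agent.S9709

open AlgebraicGeometry CategoryTheory

theorem eq_of_specializes_of_integral {X S : Scheme.{u}} (f : X ⟶ S) [IsIntegralHom f] (x y : X)
    (hxy : x ⤳ y) (hf : f.base y = f.base x) : y = x := by
  obtain ⟨_, ⟨U, hU : IsAffineOpen U, rfl⟩, hyU, -⟩ :=
    S.isBasis_affineOpens.exists_subset_of_mem_open (Set.mem_univ (f.base y)) isOpen_univ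
  have hV : IsAffineOpen (f ⁻¹ᵁ U) := hU.preimage f
  have hy : y ∈ f ⁻¹ᵁ U := hyU
  have hx : x ∈ f ⁻¹ᵁ U := hxy.mem_open (f ⁻¹ᵁ U).2 hy
  set px := hV.primeIdealOf ⟨x, hx⟩ with hpx
  set py := hV.primeIdealOf ⟨y, hy⟩ with hpy
  have hsp : px ⤳ py := by
    have h1 : (⟨x, hx⟩ : (f ⁻¹ᵁ U : X.Opens)) ⤳ ⟨y, hy⟩ := (Topology.IsInducing.subtypeVal.specializes_iff (x := ⟨x, hx⟩) (y := ⟨y, hy⟩)).mp hxy
    exact h1.map hV.isoSpec.hom.continuous
  have hle : px.asIdeal ≤ py.asIdeal := (PrimeSpectrum.le_iff_specializes _ _).mpr hsp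
  have hcx := IsAffineOpen.comap_primeIdealOf_appLE (f := f) U hU (f ⁻¹ᵁ U) hV le_rfl hx
  have hcy := IsAffineOpen.comap_primeIdealOf_appLE (f := f) U hU (f ⁻¹ᵁ U) hV le_rfl hy
  have hcomap : px.comap (f.appLE U (f ⁻¹ᵁ U) le_rfl).hom = py.comap (f.appLE U (f ⁻¹ᵁ U) le_rfl).hom := by
    rw [hcx, hcy]
    congr 1
    exact Subtype.ext hf.symm
  have hint : (f.appLE U (f ⁻¹ᵁ U) le_rfl).hom.IsIntegral := by
    rw [Scheme.Hom.appLE_eq_app]
    exact f.isIntegral_app U hU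
  have heq : px = py := by
    by_contra hne
    have hlt : px.asIdeal < py.asIdeal := lt_of_le_of_ne hle (fun h => hne (PrimeSpectrum.ext h))
    let _ : Algebra Γ(S, U) Γ(X, f ⁻¹ᵁ U) := (f.appLE U (f ⁻¹ᵁ U) le_rfl).hom.toAlgebra
    have : Algebra.IsIntegral Γ(S, U) Γ(X, f ⁻¹ᵁ U) := ⟨hint⟩
    have := Ideal.IsIntegral.comap_lt_comap (R := Γ(S, U)) hlt
    have h2 : (px.comap (f.appLE U (f ⁻¹ᵁ U) le_rfl).hom).asIdeal =
        (py.comap (f.appLE U (f ⁻¹ᵁ U) le_rfl).hom).asIdeal := by rw [hcomap]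
    exact absurd h2 (ne_of_lt this)
  have h3 : hV.fromSpec.base px = x := hV.fromSpec_primeIdealOf ⟨x, hx⟩
  have h4 : hV.fromSpec.base py = y := hV.fromSpec_primeIdealOf ⟨y, hy⟩
  rw [← h3, ← h4, heq]

/-- Let f : X ⟶ S be an integral morphism. Then every point x of X is closed in its fibre: a point of
f⁻¹(f x) specialising from x equals x. -/
theorem result {X S : Scheme.{u}} (f : X ⟶ S) [IsIntegralHom f] (x : X) :
    closure {x} ∩ f.base ⁻¹' {f.base x} = {x} := by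
  ext y
  simp only [Set.mem_inter_iff, Set.mem_preimage, Set.mem_singleton_iff]
  constructor
  · rintro ⟨hy, hfy⟩
    exact eq_of_specializes_of_integral f x y (specializes_iff_mem_closure.mpr hy) hfy
  · rintro rfl
    exact ⟨subset_closure rfl, rfl⟩

end Groth.Agent.S9709
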