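import Groth.Statements.S9683
import Groth.Agent.S9709

set_option autoImplicit false
universe u
open Mor

namespace Groth.Agent.S9683

open AlgebraicGeometry CategoryTheory TopologicalSpace

section Top

variable {X Y : Type*} [TopologicalSpace X] [TopologicalSpace Y]

theorem map_strictMono [QuasiSober X] [T0Space Y] {f : X → Y} (hf : Continuous f)
    (hP : ∀ x x' : X, x ⤳ x' → f x' = f x → x' = x) :
    StrictMono (IrreducibleCloseds.map f hf) := by
  intro A B hlt
  refine lt_of_le_of_ne (IrreducibleCloseds.map_mono hf hlt.le) ?_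
  intro heq
  obtain ⟨a, ha⟩ := QuasiSober.sober A.2 A.3
  obtain ⟨b, hb⟩ := QuasiSober.sober B.2 B.3
  have ha' : closure {a} = (A : Set X) := ha
  have hb' : closure {b} = (B : Set X) := hb
  have h1 : closure (f '' (A : Set X)) = closure {f a} := by
    rw [← ha', closure_image_closure hf, Set.image_singleton]
  have h2 : closure (f '' (B : Set X)) = closure {f b} := by
    rw [← hb', closure_image_closure hf, Set.image_singleton]
  have h3 : closure {f a} = closure {f b} := by
    rw [← h1, ← h2]
    exact congrArg (fun Z : IrreducibleCloseds Y => (Z : Set Y)) heq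
  have h4 : f a = f b := (inseparable_iff_closure_eq.mpr h3).eq
  have hsp : b ⤳ a := by
    rw [specializes_iff_mem_closure, hb']
    have haA : a ∈ (A : Set X) := by rw [← ha']; exact subset_closure rfl
    exact hlt.le haA
  have := hP b a hsp h4
  apply hlt.ne
  apply IrreducibleCloseds.ext
  rw [← ha', ← hb', this]

theorem exists_lt_map_eq [QuasiSober X] [QuasiSober Y] [T0Space Y] {f : X → Y}
    (hf : Continuous f) (hcl : IsClosedMap f)
    (Z : IrreducibleCloseds X) (W : IrreducibleCloseds Y)
    (hW : W < IrreducibleCloseds.map f hf Z) :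
    ∃ Z' : IrreducibleCloseds X, Z' < Z ∧ IrreducibleCloseds.map f hf Z' = W := by
  obtain ⟨w, hw⟩ := QuasiSober.sober W.2 W.3
  have hw' : closure {w} = (W : Set Y) := hw
  have hmem : w ∈ f '' (Z : Set X) := by
    have hwW : w ∈ (W : Set Y) := by rw [← hw']; exact subset_closure rfl
    have h1 : w ∈ (IrreducibleCloseds.map f hf Z : Set Y) := hW.le hwW
    rw [IrreducibleCloseds.coe_map] at h1
    have h2 : closure (f '' (Z : Set X)) = f '' (Z : Set X) := (hcl _ Z.3).closure_eq
    rwa [h2] at h1
  obtain ⟨z, hz, rfl⟩ := hmem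
  let Z' : IrreducibleCloseds X := ⟨closure {z}, isIrreducible_singleton.closure, isClosed_closure⟩
  have hmap : IrreducibleCloseds.map f hf Z' = W := by
    apply IrreducibleCloseds.ext
    rw [IrreducibleCloseds.coe_map]
    show closure (f '' closure {z}) = _
    rw [closure_image_closure hf, Set.image_singleton, hw']
  have hle : Z' ≤ Z := by
    show closure {z} ⊆ (Z : Set X)
    exact closure_minimal (Set.singleton_subset_iff.mpr hz) Z.3
  refine ⟨Z', lt_of_le_of_ne hle ?_, hmap⟩
  rintro rfl
  exact hW.ne hmap.symm

theorem krullDim_le_of_closed_surjective [QuasiSober X] [QuasiSober Y] [T0Space Y] {f : X → Y}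
    (hf : Continuous f) (hcl : IsClosedMap f) (hsurj : Function.Surjective f) :
    topologicalKrullDim Y ≤ topologicalKrullDim X := by
  have key : ∀ p : LTSeries (IrreducibleCloseds Y), ∀ Z : IrreducibleCloseds X,
      IrreducibleCloseds.map f hf Z = p.last →
      ∃ q : LTSeries (IrreducibleCloseds X), q.length = p.length ∧ q.last = Z := by
    intro p
    induction p using RelSeries.inductionOn' with
    | singleton x =>
      intro Z _
      exact ⟨RelSeries.singleton _ Z, rfl, rfl⟩
    | snoc p x hx ih =>
      intro Z hZ
      rw [RelSeries.last_snoc] at hZ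
      obtain ⟨Z', hZ'lt, hZ'map⟩ := exists_lt_map_eq hf hcl Z p.last (hZ ▸ hx)
      obtain ⟨q', hq'len, hq'last⟩ := ih Z' hZ'map
      refine ⟨q'.snoc Z (hq'last ▸ hZ'lt), ?_, ?_⟩
      · simp [hq'len]
      · simp
  unfold topologicalKrullDim
  refine iSup_le fun p => ?_
  obtain ⟨w, hw⟩ := QuasiSober.sober p.last.2 p.last.3
  have hw' : closure {w} = (p.last : Set Y) := hw
  obtain ⟨z, rfl⟩ := hsurj w
  let Z : IrreducibleCloseds X := ⟨closure {z}, isIrreducible_singleton.closure, isClosed_closure⟩
  have hmap : IrreducibleCloseds.map f hf Z = p.last := by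
    apply IrreducibleCloseds.ext
    rw [IrreducibleCloseds.coe_map]
    show closure (f '' closure {z}) = _
    rw [closure_image_closure hf, Set.image_singleton, hw']
  obtain ⟨q, hq, -⟩ := key p Z hmap
  rw [← hq]
  exact Order.LTSeries.length_le_krullDim q

end Top

/-- For any integral morphism of schemes f : X ⟶ Y, the dimension of X is at most that of Y, and if f is
surjective then dim X = dim Y (dimensions of the underlying topological spaces). -/
theorem result {X Y : Scheme.{u}} (f : X ⟶ Y) [IsIntegralHom f] :
    topologicalKrullDim ↥X ≤ topologicalKrullDim ↥Y ∧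
      (Surjective f → topologicalKrullDim ↥X = topologicalKrullDim ↥Y) := by
  have hP : ∀ x x' : X, x ⤳ x' → f.base x' = f.base x → x' = x := fun x x' h h' =>
    Groth.Agent.S9709.eq_of_specializes_of_integral f x x' h h'
  have h1 : topologicalKrullDim ↥X ≤ topologicalKrullDim ↥Y :=
    Order.krullDim_le_of_strictMono _ (map_strictMono f.continuous hP)
  refine ⟨h1, fun hs => le_antisymm h1 ?_⟩
  exact krullDim_le_of_closed_surjective f.continuous f.isClosedMap hs.surj

end Groth.Agent.S9683
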