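import Groth.Statements.S9687
import Groth.Agent.Helper5.DimFormula8

set_option autoImplicit false
universe u
open CategoryTheory CategoryTheory.Limits AlgebraicGeometry
open Mor

namespace Groth.Agent.S9687

/-- Let S be locally Noetherian, f : X ⟶ S locally of finite type and x a point of X with image s. Let n
be the transcendence degree of κ(x) over κ(s) and let E bound the transcendence degree of κ(ξ) over
κ(f ξ) for every generic point ξ of an irreducible component of X passing through x. Then dim
O_{X,x} + n ≤ dim O_{S,s} + E. (The published statement takes E to be the maximum of these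
transcendence degrees; the statement with any upper bound E is equivalent.) -/
theorem result {X S : Scheme.{u}} [IsLocallyNoetherian S]
    (f : X ⟶ S) [LocallyOfFiniteType f] (x : X) (n E : ℕ)
    (hn : letI := (f.residueFieldMap x).hom.toAlgebra
      Algebra.trdeg (S.residueField (f.base x)) (X.residueField x) = n)
    (hE : ∀ ξ : X, closure {ξ} ∈ irreducibleComponents ↥X → ξ ⤳ x →
      letI := (f.residueFieldMap ξ).hom.toAlgebra
      Algebra.trdeg (S.residueField (f.base ξ)) (X.residueField ξ) ≤ E) :
    ringKrullDim (X.presheaf.stalk x) + n ≤ ringKrullDim (S.presheaf.stalk (f.base x)) + E := by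
  obtain ⟨ξ, a, c, hcomp, hsp, ha, hc, hineq⟩ :=
    Groth.Agent.Helper5.DimFormula.scheme_dimension_inequality f x
  have h1 := hE ξ hcomp hsp
  have h2 : (a : Cardinal.{u}) + (n : Cardinal.{u}) ≤ (c : Cardinal.{u}) + (E : Cardinal.{u}) := by
    have hn' : @Algebra.trdeg (S.residueField (f x)) (X.residueField x) _ _
        (f.residueFieldMap x).hom.toAlgebra = n := hn
    rw [hn'] at hineq
    exact hineq.trans (by gcongr)
  have h3 : a + n ≤ c + E := by exact_mod_cast h2
  change ringKrullDim (X.presheaf.stalk x) + n ≤ ringKrullDim (S.presheaf.stalk (f x)) + E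
  rw [ha, hc]
  exact_mod_cast h3

end Groth.Agent.S9687
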