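import Groth.Statements.S9692
import Groth.Agent.S1616
import Mathlib

set_option autoImplicit false
universe u
open CategoryTheory CategoryTheory.Limits AlgebraicGeometry
open Mor

namespace Groth.Agent.S9692


/-- A composition of H-projective morphisms (closed immersions into a projective space P^n over the
target, followed by the projection) is H-projective. -/
theorem result {X Y Z : Scheme.{u}} (f : X ⟶ Y) (g : Y ⟶ Z)
    (hf : RelProj.IsHProjective f) (hg : RelProj.IsHProjective g) :
    RelProj.IsHProjective (f ≫ g) := by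

  obtain ⟨n, i, hi, hif⟩ := hf
  obtain ⟨m, j, hj, hjg⟩ := hg
  obtain ⟨φ, hφ, hφb⟩ := Groth.Agent.S1616.result Z n m
  have ht : g ≫ specULiftZIsTerminal.from Z = specULiftZIsTerminal.from Y :=
    specULiftZIsTerminal.hom_ext _ _
  let e₁ : pullback (pullback.snd (CohB1.ProjSpace.toSpec n (ULift.{u} ℤ))
      (specULiftZIsTerminal.from Z)) g ≅
      pullback (CohB1.ProjSpace.toSpec n (ULift.{u} ℤ)) (g ≫ specULiftZIsTerminal.from Z) :=
    pullbackLeftPullbackSndIso (CohB1.ProjSpace.toSpec n (ULift.{u} ℤ))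
      (specULiftZIsTerminal.from Z) g
  let e₂ : pullback (CohB1.ProjSpace.toSpec n (ULift.{u} ℤ))
      (g ≫ specULiftZIsTerminal.from Z) ≅
      pullback (CohB1.ProjSpace.toSpec n (ULift.{u} ℤ)) (specULiftZIsTerminal.from Y) :=
    pullback.congrHom rfl ht
  have a1 : e₁.hom ≫ pullback.snd (CohB1.ProjSpace.toSpec n (ULift.{u} ℤ))
      (g ≫ specULiftZIsTerminal.from Z) =
      pullback.snd (pullback.snd (CohB1.ProjSpace.toSpec n (ULift.{u} ℤ))
        (specULiftZIsTerminal.from Z)) g := pullbackLeftPullbackSndIso_hom_snd _ _ _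
  have a2 : e₂.hom ≫ pullback.snd (CohB1.ProjSpace.toSpec n (ULift.{u} ℤ))
      (specULiftZIsTerminal.from Y) =
      pullback.snd (CohB1.ProjSpace.toSpec n (ULift.{u} ℤ))
        (g ≫ specULiftZIsTerminal.from Z) := by
    simp only [e₂, pullback.congrHom_hom]
    refine (pullback.lift_snd _ _ _).trans ?_
    exact Category.comp_id _
  let e : pullback (CohB1.ProjSpaceOver.toBase n Z) g ≅ CohB1.ProjSpaceOver n Y := e₁ ≪≫ e₂
  have h1 : e.hom ≫ CohB1.ProjSpaceOver.toBase n Y =
      pullback.snd (CohB1.ProjSpaceOver.toBase n Z) g := by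
    change (e₁.hom ≫ e₂.hom) ≫ pullback.snd (CohB1.ProjSpace.toSpec n (ULift.{u} ℤ))
      (specULiftZIsTerminal.from Y) = pullback.snd (pullback.snd
        (CohB1.ProjSpace.toSpec n (ULift.{u} ℤ)) (specULiftZIsTerminal.from Z)) g
    rw [Category.assoc, a2, a1]
  have h2 : e.inv ≫ pullback.snd (CohB1.ProjSpaceOver.toBase n Z) g =
      CohB1.ProjSpaceOver.toBase n Y := by
    rw [← h1, Iso.inv_hom_id_assoc]
  -- id × j
  have e₃ : CohB1.ProjSpaceOver.toBase n Z = 𝟙 _ ≫ CohB1.ProjSpaceOver.toBase n Z :=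
    (Category.id_comp _).symm
  let b : pullback (CohB1.ProjSpaceOver.toBase n Z) g ⟶
      pullback (CohB1.ProjSpaceOver.toBase n Z) (CohB1.ProjSpaceOver.toBase m Z) :=
    pullback.map (CohB1.ProjSpaceOver.toBase n Z) g (CohB1.ProjSpaceOver.toBase n Z)
      (CohB1.ProjSpaceOver.toBase m Z) (𝟙 _) j (𝟙 Z) ((Category.comp_id _).trans e₃)
      ((Category.comp_id _).trans hjg.symm)
  have hb : IsClosedImmersion b :=
    MorphismProperty.pullbackMap (P := @IsClosedImmersion)
      (inferInstanceAs (IsClosedImmersion (𝟙 (CohB1.ProjSpaceOver n Z)))) hj e₃ hjg.symm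
  have hb1 : b ≫ pullback.fst (CohB1.ProjSpaceOver.toBase n Z) (CohB1.ProjSpaceOver.toBase m Z) =
      pullback.fst (CohB1.ProjSpaceOver.toBase n Z) g := by
    refine (pullback.lift_fst _ _ _).trans ?_
    exact Category.comp_id _
  refine ⟨n * m + n + m, i ≫ e.inv ≫ b ≫ φ, inferInstance, ?_⟩
  simp only [Category.assoc]
  rw [hφb, ← Category.assoc b, hb1, pullback.condition, ← Category.assoc e.inv, h2,
    ← Category.assoc, hif]

end Groth.Agent.S9692
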