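import Groth.Statements.S9693
import Mathlib

set_option autoImplicit false
universe u
open CategoryTheory CategoryTheory.Limits AlgebraicGeometry
open Mor

namespace Groth.Agent.S9693


/-- A base change of an H-projective morphism (a closed immersion into some P^n over the base followed
by the projection) is H-projective. -/
theorem result {X S S' : Scheme.{u}} (f : X ⟶ S) (hf : RelProj.IsHProjective f)
    (g : S' ⟶ S) : RelProj.IsHProjective (pullback.snd f g) := by

  obtain ⟨n, i, hi, hif⟩ := hf
  let pZ := CohB1.ProjSpace.toSpec n (ULift.{u} ℤ)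
  let tS := specULiftZIsTerminal.from S
  let tS' := specULiftZIsTerminal.from S'
  have e : tS' = g ≫ tS := specULiftZIsTerminal.hom_ext _ _
  -- the map P^n_{S'} → P^n_S
  let m : CohB1.ProjSpaceOver n S' ⟶ CohB1.ProjSpaceOver n S :=
    (pullback.lift (pullback.fst pZ tS') (pullback.snd pZ tS' ≫ g)
      (by
        have h := pullback.condition (f := pZ) (g := tS')
        have h2 : pullback.snd pZ tS' ≫ tS' = (pullback.snd pZ tS' ≫ g) ≫ tS := by
          rw [Category.assoc, ← e]
        exact h.trans h2) : pullback pZ tS' ⟶ pullback pZ tS)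
  have hm1 : m ≫ pullback.fst pZ tS = pullback.fst pZ tS' := pullback.lift_fst _ _ _
  have hm2 : m ≫ CohB1.ProjSpaceOver.toBase n S = CohB1.ProjSpaceOver.toBase n S' ≫ g :=
    pullback.lift_snd _ _ _
  have h1 : IsPullback (pullback.fst pZ tS') (CohB1.ProjSpaceOver.toBase n S') pZ tS' :=
    IsPullback.of_hasPullback _ _
  have h3 : IsPullback (pullback.fst pZ tS) (CohB1.ProjSpaceOver.toBase n S) pZ tS :=
    IsPullback.of_hasPullback _ _
  have houter : IsPullback (m ≫ pullback.fst pZ tS) (CohB1.ProjSpaceOver.toBase n S') pZ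
      (g ≫ tS) := by
    rw [hm1, ← e]
    exact h1
  have hsq : IsPullback m (CohB1.ProjSpaceOver.toBase n S') (CohB1.ProjSpaceOver.toBase n S) g :=
    IsPullback.of_right houter hm2 h3
  -- the map i'
  let i' : pullback f g ⟶ CohB1.ProjSpaceOver n S' :=
    hsq.lift (pullback.fst f g ≫ i) (pullback.snd f g)
      (by rw [Category.assoc, hif, pullback.condition])
  have hi'1 : i' ≫ m = pullback.fst f g ≫ i := hsq.lift_fst _ _ _
  have hi'2 : i' ≫ CohB1.ProjSpaceOver.toBase n S' = pullback.snd f g := hsq.lift_snd _ _ _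
  refine ⟨n, i', ?_, hi'2⟩
  have houter2 : IsPullback (i' ≫ CohB1.ProjSpaceOver.toBase n S') (pullback.fst f g) g
      (i ≫ CohB1.ProjSpaceOver.toBase n S) := by
    rw [hi'2, hif]
    exact (IsPullback.of_hasPullback f g).flip
  have hleft : IsPullback i' (pullback.fst f g) m i :=
    IsPullback.of_right houter2 hi'1 hsq.flip
  exact MorphismProperty.of_isPullback hleft.flip hi

end Groth.Agent.S9693
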