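import Groth.Statements.S9695
import Groth.Agent.Helper1.VA13
import Groth.Agent.Helper4.AmpleLocal

set_option autoImplicit false
universe u
open CategoryTheory CategoryTheory.Limits AlgebraicGeometry
open Mor

namespace Groth.Agent.S9695

/-- Suppose f : X ⟶ S is a morphism of finite type and L is an invertible O_X-module. Then L is
f-relatively ample exactly when S can be covered by open subsets V with the following property: for
every such V there is an integer d ≥ 1 for which the tensor power L^{⊗d}, restricted to f⁻¹(V), is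
isomorphic to the pullback of O(1) under some V-immersion of f⁻¹(V) into a projective space P^n_V. -/
theorem result {X S : Scheme.{u}} (f : X ⟶ S)
    [LocallyOfFiniteType f] [QuasiCompact f] (L : X.Modules) (hLinv : PicF.IsInvertible L) :
    RelAmple.IsRelAmple f L ↔
      ∃ (ι : Type u) (V : ι → S.Opens), (⨆ j, V j) = ⊤ ∧
        ∀ j, ∃ d : ℕ, 0 < d ∧
          RelAmple.IsRelVeryAmplePn (f ∣_ V j) ((CohB1.tensorPow L d).restrict (f ⁻¹ᵁ V j).ι) := by
  constructor
  · intro h
    refine ⟨S.affineOpens, fun j => j.1, iSup_affineOpens_eq_top S, fun j => ?_⟩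
    haveI : IsAffine (j.1 : Scheme.{u}) := j.2
    obtain ⟨d, hd, hva⟩ := Groth.Agent.Helper1.VA.exists_pow_veryAmple (f ∣_ j.1) (h.2 j)
    exact ⟨d, hd, Groth.Agent.Helper1.VA.isRelVeryAmplePn_of_iso _
      (Groth.Agent.Helper4.AmpleRestrict.resPowIso (f ⁻¹ᵁ j.1).ι L d) hva⟩
  · rintro ⟨ι, V, hcov, hV⟩
    rw [Groth.Agent.Helper4.AmpleLocal.isRelAmple_iff_of_openCover f L V hcov]
    intro i
    obtain ⟨d, hd, hva⟩ := hV i
    refine ⟨inferInstance, fun V' => ?_⟩
    haveI : IsAffine (V'.1 : Scheme.{u}) := V'.2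
    have h1 := Groth.Agent.Helper1.VA.isRelVeryAmplePn_restrict (f ∣_ V i) V'.1 _ hva
    have h2 := Groth.Agent.Helper1.VA.isAmple_of_isRelVeryAmplePn _ _ h1
    have hinv : PicF.IsInvertible ((L.restrict (f ⁻¹ᵁ V i).ι).restrict
        ((f ∣_ V i) ⁻¹ᵁ V'.1).ι) :=
      Groth.Agent.Helper4.QAffSec.isInvertible_restrict _
        (Groth.Agent.Helper4.QAffSec.isInvertible_restrict _ hLinv)
    refine Groth.Agent.Helper4.TensorAssoc.isAmple_of_tensorPow hinv d hd ?_
    refine Groth.Agent.Helper4.AmpleIso.isAmple_of_iso ?_ h2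
    exact (Scheme.Modules.restrictFunctor ((f ∣_ V i) ⁻¹ᵁ V'.1).ι).mapIso
        (Groth.Agent.Helper4.AmpleRestrict.resPowIso (f ⁻¹ᵁ V i).ι L d).symm ≪≫
      (Groth.Agent.Helper4.AmpleRestrict.resPowIso ((f ∣_ V i) ⁻¹ᵁ V'.1).ι
        (L.restrict (f ⁻¹ᵁ V i).ι) d).symm

end Groth.Agent.S9695
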