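import Groth.Statements.S9696
import Mathlib
import Groth.Agent.S9697

set_option autoImplicit false
universe u
open scoped TensorProduct
open CategoryTheory CategoryTheory.Limits AlgebraicGeometry
open Mor

namespace Groth.Agent.S9696

/-- Let f : X ⟶ S be flat and locally of finite presentation and g : S' ⟶ S any morphism, with base
change f' : X ×_S S' ⟶ S' and projection g' : X ×_S S' ⟶ X. Then the open set of points where f' is
etale is the inverse image under g' of the open set of points where f is etale. -/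
theorem result {X S S' : Scheme.{u}} (f : X ⟶ S) [Flat f]
    [LocallyOfFinitePresentation f] (g : S' ⟶ S) (x' : ↑(pullback f g)) :
    (∃ U' : (pullback f g).Opens, x' ∈ U' ∧ Etale (U'.ι ≫ pullback.snd f g)) ↔
      (∃ U : X.Opens, (pullback.fst f g).base x' ∈ U ∧ Etale (U.ι ≫ f)) := by
  have key : ∀ {X S : Scheme.{u}} (f : X ⟶ S) [Flat f] [LocallyOfFinitePresentation f]
      (U : X.Opens), Etale (U.ι ≫ f) ↔ FormallyUnramified (U.ι ≫ f) := by
    intro X S f _ _ U
    constructor
    · intro h; infer_instance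
    · intro h
      exact Etale.of_formallyUnramified_of_flat (U.ι ≫ f)
  have h1 : (∃ U' : (pullback f g).Opens, x' ∈ U' ∧ Etale (U'.ι ≫ pullback.snd f g)) ↔
      (∃ U' : (pullback f g).Opens, x' ∈ U' ∧ FormallyUnramified (U'.ι ≫ pullback.snd f g)) := by
    constructor
    · rintro ⟨U', h, h'⟩; exact ⟨U', h, (key _ U').mp h'⟩
    · rintro ⟨U', h, h'⟩; exact ⟨U', h, (key _ U').mpr h'⟩
  have h2 : (∃ U : X.Opens, (pullback.fst f g).base x' ∈ U ∧ Etale (U.ι ≫ f)) ↔
      (∃ U : X.Opens, (pullback.fst f g).base x' ∈ U ∧ FormallyUnramified (U.ι ≫ f)) := by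
    constructor
    · rintro ⟨U', h, h'⟩; exact ⟨U', h, (key _ U').mp h'⟩
    · rintro ⟨U', h, h'⟩; exact ⟨U', h, (key _ U').mpr h'⟩
  rw [h1, h2]
  exact Groth.Agent.S9697.result f g x'

end Groth.Agent.S9696
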