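import Groth.Statements.S9712
import Groth.Agent.Helper1.VA14
import Groth.Agent.Helper4.AmpleLocal

set_option autoImplicit false
universe u
open CategoryTheory CategoryTheory.Limits AlgebraicGeometry
open Mor

namespace Groth.Agent.S9712

/-- A morphism f : X ⟶ S is locally quasi-projective (S is covered by opens U with f⁻¹(U) ⟶ U
quasi-projective) if and only if S is covered by opens U such that f⁻¹(U) ⟶ U is H-quasi-projective
(a quasi-compact immersion into some P^n_U followed by the projection). -/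
theorem result {X S : Scheme.{u}} (f : X ⟶ S) :
    (∀ s : S, ∃ U : S.Opens, s ∈ U ∧ RelProj.IsQuasiProjective (f ∣_ U)) ↔
      (∀ s : S, ∃ U : S.Opens, s ∈ U ∧ RelProj.IsHQuasiProjective (f ∣_ U)) := by
  constructor
  · intro h s
    obtain ⟨U, hsU, h1, h2, L, hL⟩ := h s
    obtain ⟨U', hU', hsU', hle⟩ := exists_isAffineOpen_mem_and_subset (X := S) (x := s) (U := U) hsU
    have hle' : U' ≤ U := hle
    refine ⟨U', hsU', ?_⟩
    haveI : IsAffine (U' : Scheme.{u}) := hU'
    have hpre : f ⁻¹ᵁ U' ≤ f ⁻¹ᵁ U := fun x hx => hle' hx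
    let j : ((f ⁻¹ᵁ U' : X.Opens) : Scheme.{u}) ⟶ ((f ⁻¹ᵁ U : X.Opens) : Scheme.{u}) :=
      X.homOfLE hpre
    let k : (U' : Scheme.{u}) ⟶ (U : Scheme.{u}) := S.homOfLE hle'
    have hsq : (f ∣_ U') ≫ k = j ≫ (f ∣_ U) := by
      rw [← cancel_mono U.ι]
      simp only [Category.assoc, j, k, Scheme.homOfLE_ι, morphismRestrict_ι,
        Scheme.homOfLE_ι_assoc]
    haveI : LocallyOfFiniteType ((f ∣_ U') ≫ k) := by rw [hsq]; infer_instance
    haveI : LocallyOfFiniteType (f ∣_ U') := locallyOfFiniteType_of_comp (f ∣_ U') k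
    have hV : IsAffineOpen k.opensRange := isAffineOpen_opensRange k
    have hrange : Set.range j = (((f ∣_ U) ⁻¹ᵁ k.opensRange : (f ⁻¹ᵁ U : Scheme.{u}).Opens) :
        Set (f ⁻¹ᵁ U : Scheme.{u})) := by
      ext y
      constructor
      · rintro ⟨y', rfl⟩
        refine ⟨(f ∣_ U') y', ?_⟩
        rw [← Scheme.Hom.comp_apply, ← Scheme.Hom.comp_apply, hsq]
      · rintro ⟨z, hz⟩
        have h3 : f y.1 ∈ U' := by
          have h4 : (U.ι ((f ∣_ U) y)) = f y.1 := by
            rw [← Scheme.Hom.comp_apply, morphismRestrict_ι, Scheme.Hom.comp_apply]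
            rfl
          rw [← h4, ← hz]
          have h5 : U.ι (k z) = U'.ι z := by
            rw [← Scheme.Hom.comp_apply]
            simp only [k, Scheme.homOfLE_ι]
          rw [h5]
          exact z.2
        refine ⟨⟨y.1, h3⟩, ?_⟩
        apply (f ⁻¹ᵁ U).ι.isOpenEmbedding.injective
        rw [← Scheme.Hom.comp_apply]
        simp only [j, Scheme.homOfLE_ι]
        rfl
    haveI : CompactSpace ((f ⁻¹ᵁ U' : X.Opens) : Scheme.{u}) := by
      apply isCompact_iff_compactSpace.mp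
      have h6 : ((f ⁻¹ᵁ U' : X.Opens) : Set X) = (f ⁻¹ᵁ U).ι '' (Set.range j) := by
        rw [← Set.range_comp]
        have h7 : (f ⁻¹ᵁ U).ι ∘ j = (f ⁻¹ᵁ U').ι := by
          have h8 : j ≫ (f ⁻¹ᵁ U).ι = (f ⁻¹ᵁ U').ι := X.homOfLE_ι hpre
          rw [← h8]
          rfl
        rw [h7, Scheme.Opens.range_ι]
      rw [h6, hrange]
      exact (QuasiCompact.isCompact_preimage (f := f ∣_ U) _ k.opensRange.isOpen
        hV.isCompact).image (f ⁻¹ᵁ U).ι.continuous
    have hamp : CohB1.IsAmple (L.restrict j) := by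
      apply Groth.Agent.Helper4.AmpleLocal.isAmple_restrict_of_range_le j
        ((f ∣_ U) ⁻¹ᵁ k.opensRange).ι _ (hL.2 ⟨_, hV⟩)
      rw [hrange, Scheme.Opens.range_ι]
    obtain ⟨n, i, hi, hqc, hf⟩ :=
      Groth.Agent.Helper1.VA.exists_immersion_of_isAmple (f ∣_ U') _ hamp
    exact ⟨n, i, hi, hqc, hf⟩
  · intro h s
    obtain ⟨U, hsU, n, i, hi, hqc, hf⟩ := h s
    refine ⟨U, hsU, ?_⟩
    haveI := Groth.Agent.Helper6.HProj.isProper_toBase n (U : Scheme.{u})
    rw [← hf]
    exact ⟨inferInstance, inferInstance, _, Groth.Agent.Helper1.VA.isRelAmple_of_immersion i⟩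

end Groth.Agent.S9712
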