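import Groth.Statements.S9742
import Mathlib
import Groth.Agent.Helper9.Chart15
import Groth.Agent.Helper9.Chart6
-- import your own Groth.Agent.* helpers here

set_option autoImplicit false
universe u
open Flatn

namespace Groth.Agent.S9742

open AlgebraicGeometry CategoryTheory Limits in
/-- Given a morphism f : X ⟶ S that is locally of finite type and a quasi-coherent O_X-module F, the
module F is relatively finitely presented over S (the defining condition on some affine open covers)
if and only if, for every affine open V of S and every affine open U of X contained in the preimage
of V, the sections F(U) are finitely presented relative to Γ(V) through the induced ring map. The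
published statement also asserts that, under these conditions, the restriction of F to any open of X
mapping into an open V of S is of finite presentation relative to V; this row states only the
equivalence. -/
theorem result {X S : Scheme.{u}} (f : X ⟶ S) [LocallyOfFiniteType f] (F : X.Modules) [Coh.IsQCoh F] :
    Flatn.IsRelFP f F ↔
      ∀ (U : X.affineOpens) (V : S.affineOpens) (h : (U : X.Opens) ≤ f ⁻¹ᵁ (V : S.Opens)), Flatn.RelFPOn f F U V h := by
  haveI : F.IsQuasicoherent := ‹Coh.IsQCoh F›
  have hq : Coh.IsQCoh F := ‹Coh.IsQCoh F›
  have h1 := Groth.Agent.Helper9.Chart15.rel_negOne_iff f F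
  have h2 := Groth.Agent.Helper9.Chart6.rel_iff f (-1) (DCoh.inD X F)
  constructor
  · intro h U V hUV
    exact (Groth.Agent.Helper9.Chart15.chart_negOne_iff_relFPOn f F U V hUV).1
      (h2.1 (h1.2 ⟨hq, h⟩) U V hUV)
  · intro h
    exact (h1.1 (h2.2 (fun U V hUV =>
      (Groth.Agent.Helper9.Chart15.chart_negOne_iff_relFPOn f F U V hUV).2 (h U V hUV)))).2

end Groth.Agent.S9742
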