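import Groth.Statements.S9763
import Groth.Agent.Lead.FEtLift

set_option autoImplicit false
universe u
open FlatMor

namespace Groth.Agent.S9763

open AlgebraicGeometry CategoryTheory Limits in
/-- Let f : X ⟶ S be formally smooth (infinitesimal lifting against square-zero thickenings of affine
schemes), and let U be an open of X and V an open of S with U contained in the preimage of V under
f. Then the induced morphism U ⟶ V is formally smooth. -/
theorem result {X S : Scheme.{u}} (f : X ⟶ S) (hf : MoreMor.IsFormallySmoothHom f)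
    (U : X.Opens) (V : S.Opens) (h : U ≤ f ⁻¹ᵁ V) : MoreMor.IsFormallySmoothHom (f.resLE V U h) := by
  intro A _ I hI a b comm
  have comm' : Spec.map (CommRingCat.ofHom (Ideal.Quotient.mk I)) ≫ (b ≫ V.ι) =
      (a ≫ U.ι) ≫ f := by
    rw [← Category.assoc, comm, Category.assoc, Category.assoc, Scheme.Hom.resLE_comp_ι]
  obtain ⟨l, hl1, hl2⟩ := hf A I hI (a ≫ U.ι) (b ≫ V.ι) comm'
  have hrange : Set.range l ⊆ Set.range U.ι := by
    rw [Scheme.Opens.range_ι]
    apply Groth.Agent.Lead.FEtLift.range_subset_of_comp _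
      (Groth.Agent.Lead.FEtLift.specMap_mk_surjective I hI)
    rw [hl1]
    rintro _ ⟨p, rfl⟩
    rw [Scheme.Hom.comp_apply]
    exact (a p).2
  refine ⟨IsOpenImmersion.lift U.ι l hrange, ?_, ?_⟩
  · rw [← cancel_mono U.ι, Category.assoc, IsOpenImmersion.lift_fac, hl1]
  · rw [← cancel_mono V.ι, Category.assoc, Scheme.Hom.resLE_comp_ι, ← Category.assoc,
      IsOpenImmersion.lift_fac, hl2]

end Groth.Agent.S9763
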