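import Groth.Statements.S9779
import Groth.Agent.S1411
import Groth.Agent.Helper3.SpecSp
import Mathlib

set_option autoImplicit false
universe u
open FlatMor

namespace Groth.Agent.S9779


open AlgebraicGeometry CategoryTheory Limits in
/-- Suppose S is locally Noetherian and the morphism f : X ⟶ S is locally of finite type; take x a point
of X closed in its fibre, and U ⊆ X an open subscheme not meeting the fibre through x but with x in
the closure of U. Then there is a closed subscheme Z of X passing through x such that Z ⟶ S is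
quasi-finite at x and Z contains a point z of U specializing to x with f z ≠ f x. -/
theorem result {X S : Scheme.{u}} (f : X ⟶ S) [LocallyOfFiniteType f] [IsLocallyNoetherian S] (x : X)
    (hcl : IsClosed (Subtype.val ⁻¹' {x} : Set ↑(f ⁻¹' {f x}))) (U : X.Opens)
    (hU : ∀ x' ∈ U, f x' ≠ f x) (hxU : x ∈ closure (U : Set ↑X)) :
    ∃ (I : X.IdealSheafData) (z₀ x₀ : ↑I.subscheme), I.subschemeι x₀ = x ∧ (I.subschemeι ≫ f).QuasiFiniteAt x₀ ∧
      I.subschemeι z₀ ∈ U ∧ I.subschemeι z₀ ⤳ x ∧ f (I.subschemeι z₀) ≠ f x := by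

  haveI : IsLocallyNoetherian X := LocallyOfFiniteType.isLocallyNoetherian f
  obtain ⟨_, ⟨W, hW, rfl⟩, hxW, -⟩ :=
    X.isBasis_affineOpens.exists_subset_of_mem_open (Set.mem_univ x) isOpen_univ
  haveI : IsNoetherianRing Γ(X, W) := IsLocallyNoetherian.component_noetherian ⟨W, hW⟩
  set j : Spec Γ(X, W) ⟶ X := hW.fromSpec with hj
  obtain ⟨y0, hy0⟩ : ∃ y0 : Spec Γ(X, W), j y0 = x := by
    have : x ∈ Set.range j := by rw [hj, hW.range_fromSpec]; exact hxW
    exact this
  set E : Set (PrimeSpectrum Γ(X, W)) := j ⁻¹' (U : Set X) with hE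
  have hEo : IsOpen E := U.2.preimage j.continuous
  have hEc : IsCompact E := TopologicalSpace.NoetherianSpace.isCompact E
  have hEcc : Groth.Agent.Lead.Spectral.CClosed E :=
    Groth.Agent.Lead.Spectral.cclosed_of_isCompact_isOpen hEc hEo
  have hy0cl : (y0 : PrimeSpectrum Γ(X, W)) ∈ closure E := by
    have h1 := j.isOpenEmbedding.isOpenMap.preimage_closure_eq_closure_preimage j.continuous
      (U : Set X)
    have h2 : y0 ∈ j ⁻¹' closure (U : Set X) := by
      show j y0 ∈ closure (U : Set X)
      rw [hy0]; exact hxU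
    rw [h1] at h2
    exact h2
  obtain ⟨e, heE, hey0⟩ := Groth.Agent.Helper3.SpecSp.exists_specializes_of_mem_closure hEcc hy0cl
  have hx' : ∃ x' : X, x' ∈ U ∧ x' ⤳ x ∧ f x' ≠ f x := by
    refine ⟨j e, heE, ?_, hU _ heE⟩
    have := hey0.map j.continuous
    rwa [hy0] at this
  exact Groth.Agent.S1411.result f x hcl U hx'

end Groth.Agent.S9779
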