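import Groth.Statements.S9792
import Mathlib

set_option autoImplicit false
universe u
open Props

namespace Groth.Agent.S9792

open AlgebraicGeometry CategoryTheory TopologicalSpace

theorem no_strict_specialization_seq {X : Type*} [TopologicalSpace X] [NoetherianSpace X]
    (t : ℕ → X) (h : ∀ n, t n ⤳ t (n + 1) ∧ ¬ (t (n + 1) ⤳ t n)) : False := by
  let c : ℕ → Closeds X := fun n => ⟨closure {t n}, isClosed_closure⟩
  have hc : ∀ n, c (n + 1) < c n := by
    intro n
    refine lt_of_le_of_ne ?_ ?_
    · show closure {t (n + 1)} ⊆ closure {t n}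
      exact (h n).1.closure_subset
    · intro heq
      apply (h n).2
      rw [specializes_iff_closure_subset]
      have : closure {t (n + 1)} = closure {t n} := congrArg (fun Z : Closeds X => (Z : Set X)) heq
      rw [this]
  exact (RelEmbedding.wellFounded_iff_isEmpty.mp
    (wellFounded_lt (α := Closeds X))).false (RelEmbedding.natGT c hc)

theorem no_strict_generization_seq (S : Scheme.{u}) [IsNoetherian S]
    (t : ℕ → S) (h : ∀ n, t (n + 1) ⤳ t n ∧ ¬ (t n ⤳ t (n + 1))) : False := by
  obtain ⟨_, ⟨U, hU : IsAffineOpen U, rfl⟩, htU, -⟩ :=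
    S.isBasis_affineOpens.exists_subset_of_mem_open (Set.mem_univ (t 0)) isOpen_univ
  have hN : IsNoetherianRing Γ(S, U) := IsLocallyNoetherian.component_noetherian ⟨U, hU⟩
  have hind : Topology.IsInducing hU.fromSpec.base := hU.fromSpec.isOpenEmbedding.isInducing
  have hsp0 : ∀ n, t n ⤳ t 0 := by
    intro n
    induction n with
    | zero => exact specializes_rfl
    | succ n ih => exact (h n).1.trans ih
  have hrange : ∀ n, ∃ p : PrimeSpectrum Γ(S, U), hU.fromSpec.base p = t n := by
    intro n
    have hs : t n ∈ U := (hsp0 n).mem_open U.2 htU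
    have : t n ∈ Set.range hU.fromSpec.base := by rw [hU.range_fromSpec]; exact hs
    exact this
  choose p hp using hrange
  have hlt : ∀ n, (p (n + 1)).asIdeal.height < (p n).asIdeal.height := by
    intro n
    have hsp : p (n + 1) ⤳ p n := hind.specializes_iff.mp (by rw [hp, hp]; exact (h n).1)
    have hle : (p (n + 1)).asIdeal ≤ (p n).asIdeal := (PrimeSpectrum.le_iff_specializes _ _).mpr hsp
    have hne : (p (n + 1)).asIdeal ≠ (p n).asIdeal := by
      intro heq
      apply (h n).2
      have : p (n + 1) = p n := PrimeSpectrum.ext heq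
      rw [← hp n, ← hp (n + 1), this]
    exact Ideal.height_strict_mono_of_isPrime (lt_of_le_of_ne hle hne)
  exact (RelEmbedding.wellFounded_iff_isEmpty.mp
    (wellFounded_lt (α := ℕ∞))).false (RelEmbedding.natGT _ hlt)

/-- In a Noetherian scheme, every infinite set of points contains an infinite subset no two distinct
members of which are related by specialization. -/
theorem result (S : Scheme.{u}) [IsNoetherian S]
    (T : Set S) (hT : T.Infinite) :
    ∃ T' : Set S, T' ⊆ T ∧ T'.Infinite ∧ ∀ a ∈ T', ∀ b ∈ T', a ⤳ b → a = b := by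
  let e := hT.natEmbedding
  let f : ℕ → S := fun n => (e n : S)
  have hfinj : Function.Injective f := fun m n hmn => e.injective (Subtype.ext hmn)
  have hfT : ∀ n, f n ∈ T := fun n => (e n).2
  -- strict specialization
  let r : S → S → Prop := fun a b => a ⤳ b ∧ ¬ (b ⤳ a)
  have hr : IsTrans S r := ⟨fun a b c hab hbc =>
    ⟨hab.1.trans hbc.1, fun hca => hab.2 (hbc.1.trans hca)⟩⟩
  obtain ⟨g, hg | hg⟩ := exists_increasing_or_nonincreasing_subseq r f
  · exact (no_strict_specialization_seq (fun n => f (g n)) fun n => hg n (n + 1) n.lt_succ_self).elim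
  let r' : S → S → Prop := fun a b => b ⤳ a ∧ ¬ (a ⤳ b)
  have hr' : IsTrans S r' := ⟨fun a b c hab hbc =>
    ⟨hbc.1.trans hab.1, fun hac => hab.2 (hac.trans hbc.1)⟩⟩
  obtain ⟨g', hg' | hg'⟩ := exists_increasing_or_nonincreasing_subseq r' (fun n => f (g n))
  · exact (no_strict_generization_seq S (fun n => f (g (g' n)))
      fun n => hg' n (n + 1) n.lt_succ_self).elim
  -- now no specializations at all among the subsequence
  let F : ℕ → S := fun n => f (g (g' n))
  have hFinj : Function.Injective F := fun m n hmn => g'.injective (g.injective (hfinj hmn))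
  have key : ∀ m n, m ≠ n → ¬ (F m ⤳ F n) := by
    intro m n hmn hsp
    have hne : F m ≠ F n := fun h => hmn (hFinj h)
    have hnot : ¬ (F n ⤳ F m) := fun h' => hne (h'.antisymm hsp).eq.symm
    rcases lt_or_gt_of_ne hmn with hlt | hgt
    · exact hg (g' m) (g' n) (g'.strictMono hlt) ⟨hsp, hnot⟩
    · exact hg' n m hgt ⟨hsp, hnot⟩
  refine ⟨Set.range F, ?_, Set.infinite_range_of_injective hFinj, ?_⟩
  · rintro _ ⟨n, rfl⟩
    exact hfT _
  · rintro _ ⟨m, rfl⟩ _ ⟨n, rfl⟩ hsp
    by_contra hne
    exact key m n (fun h => hne (h ▸ rfl)) hsp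

end Groth.Agent.S9792
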