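import Groth.Statements.S9793
import Mathlib

set_option autoImplicit false
universe u
open Props

namespace Groth.Agent.S9793

open AlgebraicGeometry CategoryTheory

/-- Let S be a Noetherian scheme and T a set of points of S. Every point of T is a specialization of
some point of T which admits no non-trivial generization lying in T. -/
theorem result (S : Scheme.{u}) [IsNoetherian S]
    (T : Set S) (t : S) (ht : t ∈ T) :
    ∃ t₀ ∈ T, (∀ t' ∈ T, t' ⤳ t₀ → t' = t₀) ∧ t₀ ⤳ t := by
  obtain ⟨_, ⟨U, hU : IsAffineOpen U, rfl⟩, htU, -⟩ :=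
    S.isBasis_affineOpens.exists_subset_of_mem_open (Set.mem_univ t) isOpen_univ
  have hN : IsNoetherianRing Γ(S, U) := IsLocallyNoetherian.component_noetherian ⟨U, hU⟩
  have hind : Topology.IsInducing hU.fromSpec.base := hU.fromSpec.isOpenEmbedding.isInducing
  have hrange : ∀ s : S, s ∈ U → ∃ p : PrimeSpectrum Γ(S, U), hU.fromSpec.base p = s := by
    intro s hs
    have : s ∈ Set.range hU.fromSpec.base := by rw [hU.range_fromSpec]; exact hs
    exact this
  let P : Set (PrimeSpectrum Γ(S, U)) := {p | hU.fromSpec.base p ∈ T ∧ hU.fromSpec.base p ⤳ t}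
  have hPne : P.Nonempty := by
    obtain ⟨p, hp⟩ := hrange t htU
    exact ⟨p, by simp only [P, Set.mem_ofPred_eq, hp]; exact ⟨ht, specializes_rfl⟩⟩
  have hwf : WellFounded (InvImage (· < ·) (fun p : PrimeSpectrum Γ(S, U) => p.asIdeal.height)) :=
    InvImage.wf _ wellFounded_lt
  obtain ⟨p₀, hp₀P, hmin⟩ := hwf.has_min P hPne
  refine ⟨hU.fromSpec.base p₀, hp₀P.1, ?_, hp₀P.2⟩
  intro t' ht'T ht'sp
  have ht't : t' ⤳ t := ht'sp.trans hp₀P.2
  have ht'U : t' ∈ U := ht't.mem_open U.2 htU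
  obtain ⟨p', rfl⟩ := hrange t' ht'U
  have hp'P : p' ∈ P := ⟨ht'T, ht't⟩
  have hsp : p' ⤳ p₀ := hind.specializes_iff.mp ht'sp
  have hle : p'.asIdeal ≤ p₀.asIdeal := (PrimeSpectrum.le_iff_specializes _ _).mpr hsp
  have hnot := hmin p' hp'P
  have : p' = p₀ := by
    by_contra hne
    have hlt : p'.asIdeal < p₀.asIdeal := lt_of_le_of_ne hle (fun h => hne (PrimeSpectrum.ext h))
    exact hnot (Ideal.height_strict_mono_of_isPrime hlt)
  rw [this]

end Groth.Agent.S9793
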