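import Groth.Statements.S9794
import Groth.Agent.S9793

set_option autoImplicit false
universe u
open Props

namespace Groth.Agent.S9794

open AlgebraicGeometry CategoryTheory TopologicalSpace

section Top

variable {X : Type*} [TopologicalSpace X]

/-- A point is good (for `T`) if its closure is the closure of a countable subset of `T`. -/
def Good (T : Set X) (x : X) : Prop := ∃ E : Set X, E ⊆ T ∧ E.Countable ∧ closure E = closure {x}

theorem good_of_mem {T : Set X} {x : X} (hx : x ∈ T) : Good T x :=
  ⟨{x}, Set.singleton_subset_iff.mpr hx, Set.countable_singleton x, rfl⟩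

theorem exists_finite_good [NoetherianSpace X] [QuasiSober X] (T : Set X) (C : Closeds X) :
    ∀ E : Set X, E ⊆ T → E.Countable → closure E = (C : Set X) →
      ∃ F : Set X, F.Finite ∧ (∀ z ∈ F, Good T z) ∧ (C : Set X) = ⋃ z ∈ F, closure {z} := by
  induction C using WellFoundedLT.induction with
  | ind C ih =>
    intro E hET hEc hEC
    by_cases hne : (C : Set X).Nonempty
    · by_cases hpre : IsPreirreducible (C : Set X)
      · obtain ⟨z, hz⟩ := QuasiSober.sober (⟨hne, hpre⟩ : IsIrreducible (C : Set X)) C.isClosed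
        have hz' : closure {z} = (C : Set X) := hz
        refine ⟨{z}, Set.finite_singleton z, ?_, ?_⟩
        · rintro _ rfl
          exact ⟨E, hET, hEc, hEC.trans hz'.symm⟩
        · simp [hz']
      · rw [isPreirreducible_iff_isClosed_union_isClosed] at hpre
        push Not at hpre
        obtain ⟨z₁, z₂, hz₁, hz₂, hsub, hn₁, hn₂⟩ := hpre
        have hEsubC : E ⊆ (C : Set X) := hEC ▸ subset_closure
        let C₁ : Closeds X := ⟨closure (E ∩ z₁), isClosed_closure⟩
        let C₂ : Closeds X := ⟨closure (E ∩ z₂), isClosed_closure⟩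
        have hC₁le : (C₁ : Set X) ⊆ C := closure_minimal (Set.inter_subset_left.trans hEsubC) C.isClosed
        have hC₂le : (C₂ : Set X) ⊆ C := closure_minimal (Set.inter_subset_left.trans hEsubC) C.isClosed
        have hC₁z : (C₁ : Set X) ⊆ z₁ := closure_minimal Set.inter_subset_right hz₁
        have hC₂z : (C₂ : Set X) ⊆ z₂ := closure_minimal Set.inter_subset_right hz₂
        have hlt₁ : C₁ < C := lt_of_le_of_ne hC₁le (fun h => hn₁ (h ▸ hC₁z))
        have hlt₂ : C₂ < C := lt_of_le_of_ne hC₂le (fun h => hn₂ (h ▸ hC₂z))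
        obtain ⟨F₁, hF₁fin, hF₁good, hF₁eq⟩ := ih C₁ hlt₁ (E ∩ z₁) (Set.inter_subset_left.trans hET)
          (hEc.mono Set.inter_subset_left) rfl
        obtain ⟨F₂, hF₂fin, hF₂good, hF₂eq⟩ := ih C₂ hlt₂ (E ∩ z₂) (Set.inter_subset_left.trans hET)
          (hEc.mono Set.inter_subset_left) rfl
        refine ⟨F₁ ∪ F₂, hF₁fin.union hF₂fin, ?_, ?_⟩
        · rintro z (hz | hz)
          · exact hF₁good z hz
          · exact hF₂good z hz
        · rw [Set.biUnion_union, ← hF₁eq, ← hF₂eq]
          show (C : Set X) = closure (E ∩ z₁) ∪ closure (E ∩ z₂)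
          rw [← closure_union, ← Set.inter_union_distrib_left,
            Set.inter_eq_left.mpr (hEsubC.trans hsub), hEC]
    · refine ⟨∅, Set.finite_empty, by simp, ?_⟩
      rw [Set.not_nonempty_iff_eq_empty] at hne
      simp [hne]

theorem exists_finite_good_of_countable [NoetherianSpace X] [QuasiSober X] (T : Set X)
    (E' : Set X) (hE'c : E'.Countable) (hE'good : ∀ x ∈ E', Good T x) :
    ∃ F : Set X, F.Finite ∧ (∀ z ∈ F, Good T z) ∧ closure E' = ⋃ z ∈ F, closure {z} := by
  choose! Ex hExT hExc hExcl using hE'good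
  let E'' : Set X := ⋃ x ∈ E', Ex x
  have h1 : E'' ⊆ T := Set.iUnion₂_subset fun x hx => hExT x hx
  have h2 : E''.Countable := hE'c.biUnion fun x hx => hExc x hx
  have h3 : closure E'' = closure E' := by
    apply subset_antisymm
    · apply closure_minimal _ isClosed_closure
      apply Set.iUnion₂_subset
      intro x hx
      calc Ex x ⊆ closure (Ex x) := subset_closure
        _ = closure {x} := hExcl x hx
        _ ⊆ closure E' := closure_mono (Set.singleton_subset_iff.mpr hx)
    · apply closure_minimal _ isClosed_closure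
      intro x hx
      have : x ∈ closure (Ex x) := by rw [hExcl x hx]; exact subset_closure rfl
      exact closure_mono (Set.subset_biUnion_of_mem hx) this
  obtain ⟨F, hF, hFg, hFeq⟩ := exists_finite_good T ⟨closure E'', isClosed_closure⟩ E'' h1 h2 rfl
  refine ⟨F, hF, hFg, ?_⟩
  rw [← h3]
  exact hFeq

end Top

/-- In a Noetherian scheme, an infinite dense set of points contains a countable subset which is dense. -/
theorem result (S : Scheme.{u}) [IsNoetherian S]
    (T : Set S) (hT : T.Infinite) (hd : Dense T) :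
    ∃ E : Set S, E ⊆ T ∧ E.Countable ∧ Dense E := by
  -- maximal good points
  let M : Set S := {x | Good T x ∧ ∀ x', Good T x' → x' ⤳ x → x' = x}
  have hcover : ∀ t, Good T t → ∃ x ∈ M, x ⤳ t := by
    intro t ht
    obtain ⟨t₀, ht₀, hmax, hsp⟩ := Groth.Agent.S9793.result S {x | Good T x} t ht
    exact ⟨t₀, ⟨ht₀, hmax⟩, hsp⟩
  have hMfin : M.Finite := by
    by_contra hinf
    have hinf : M.Infinite := hinf
    let e := hinf.natEmbedding
    let E' : Set S := Set.range fun n => (e n : S)
    have hE'inf : E'.Infinite :=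
      Set.infinite_range_of_injective fun m n hmn => e.injective (Subtype.ext hmn)
    have hE'M : E' ⊆ M := by rintro _ ⟨n, rfl⟩; exact (e n).2
    obtain ⟨F, hFfin, hFgood, hFeq⟩ := exists_finite_good_of_countable T E'
      (Set.countable_range _) (fun x hx => (hE'M hx).1)
    apply hE'inf
    apply hFfin.subset
    intro x hx
    have hxcl : x ∈ closure E' := subset_closure hx
    rw [hFeq] at hxcl
    simp only [Set.mem_iUnion] at hxcl
    obtain ⟨z, hzF, hxz⟩ := hxcl
    have hsp : z ⤳ x := specializes_iff_mem_closure.mpr hxz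
    have := (hE'M hx).2 z (hFgood z hzF) hsp
    exact this ▸ hzF
  have hMgood : ∀ x ∈ M, Good T x := fun x hx => hx.1
  choose! Ex hExT hExc hExcl using hMgood
  refine ⟨⋃ x ∈ M, Ex x, Set.iUnion₂_subset fun x hx => hExT x hx,
    hMfin.countable.biUnion fun x hx => hExc x hx, ?_⟩
  have hsub : T ⊆ closure (⋃ x ∈ M, Ex x) := by
    intro t ht
    obtain ⟨x, hxM, hsp⟩ := hcover t (good_of_mem ht)
    have h1 : t ∈ closure {x} := specializes_iff_mem_closure.mp hsp
    rw [← hExcl x hxM] at h1
    exact closure_mono (Set.subset_biUnion_of_mem hxM) h1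
  intro s
  have := closure_minimal hsub isClosed_closure
  exact this (hd s)

end Groth.Agent.S9794
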