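import Groth.Statements.S9796
import Groth.Agent.Helper4.DimZero

set_option autoImplicit false
universe u
open Props

namespace Groth.Agent.S9796

open AlgebraicGeometry CategoryTheory

theorem exists_isClopen_mem_not_mem {R : Type*} [CommRing R] [Ring.KrullDimLE 0 R]
    (p q : PrimeSpectrum R) (hpq : p ≠ q) :
    ∃ C : Set (PrimeSpectrum R), IsClopen C ∧ p ∈ C ∧ q ∉ C := by
  have hpm : p.asIdeal.IsMaximal := p.2.isMaximal'
  have hnle : ¬ p.asIdeal ≤ q.asIdeal := fun hle =>
    hpq (PrimeSpectrum.ext (hpm.eq_of_le q.2.ne_top hle))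
  obtain ⟨f, hfp, hfq⟩ := SetLike.not_le_iff_exists.mp hnle
  refine ⟨(PrimeSpectrum.basicOpen f : Set (PrimeSpectrum R))ᶜ,
    (Groth.Agent.Helper4.isClopen_basicOpen f).compl, ?_, ?_⟩
  · simpa using hfp
  · simpa using hfq

/-- (2) implies (3) with the complement on connected components: a separated scheme of dimension at most
zero is Hausdorff and totally disconnected. -/
theorem result (X : Scheme.{u}) [X.IsSeparated]
    (h : topologicalKrullDim X ≤ 0) : T2Space X ∧ TotallyDisconnectedSpace X := by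
  have hT2 : T2Space X := Groth.Agent.Helper4.t2Space_of_quasiSeparatedSpace X h
  refine ⟨hT2, ?_⟩
  have : TotallySeparatedSpace X := by
    rw [totallySeparatedSpace_iff_exists_isClopen]
    intro x y hxy
    obtain ⟨_, ⟨U, hU : IsAffineOpen U, rfl⟩, hxU, -⟩ :=
      X.isBasis_affineOpens.exists_subset_of_mem_open (Set.mem_univ x) isOpen_univ
    have hUclopen : IsClopen (U : Set X) := ⟨hU.isCompact.isClosed, U.2⟩
    by_cases hyU : y ∈ U
    · have := Groth.Agent.Helper4.krullDimLE_zero_of_isAffineOpen X h U hU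
      have hemb : Topology.IsOpenEmbedding hU.fromSpec.base := hU.fromSpec.isOpenEmbedding
      have hx' : x ∈ Set.range hU.fromSpec.base := by rw [hU.range_fromSpec]; exact hxU
      have hy' : y ∈ Set.range hU.fromSpec.base := by rw [hU.range_fromSpec]; exact hyU
      obtain ⟨p, rfl⟩ := hx'
      obtain ⟨q, rfl⟩ := hy'
      have hpq : p ≠ q := fun hpq => hxy (by rw [hpq])
      obtain ⟨C, hC, hpC, hqC⟩ := exists_isClopen_mem_not_mem (R := Γ(X, U)) p q hpq
      refine ⟨hU.fromSpec.base '' C, ⟨?_, hemb.isOpenMap _ hC.2⟩, ⟨p, hpC, rfl⟩, ?_⟩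
      · exact (hC.1.isCompact.image hU.fromSpec.continuous).isClosed
      · rintro ⟨r, hr, hrq⟩
        have : r = q := hemb.injective hrq
        rw [this] at hr
        exact hqC hr
    · exact ⟨U, hUclopen, hxU, hyU⟩
  infer_instance

end Groth.Agent.S9796
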