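import Groth.Statements.S9797
import Groth.Agent.Helper4.DimZero

set_option autoImplicit false
universe u
open Props

namespace Groth.Agent.S9797

open AlgebraicGeometry CategoryTheory

/-- In a separated scheme of dimension at most zero, every quasi-compact open is affine. -/
theorem result (X : Scheme.{u}) [X.IsSeparated]
    (h : topologicalKrullDim X ≤ 0) (U : X.Opens) (hU : IsCompact (U : Set X)) :
    IsAffineOpen U := by
  refine compact_open_induction_on (P := fun U => IsAffineOpen U) U hU (isAffineOpen_bot X) ?_
  · intro S hS W ih
    have hKc : IsCompact ((W : Set X) ∩ S) :=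
      QuasiSeparatedSpace.inter_isCompact _ _ W.1.2 W.2.isCompact S.2 hS
    obtain ⟨e, he⟩ := Groth.Agent.Helper4.exists_basicOpen_eq_diff X h W.1 W.2 ((W : Set X) ∩ S)
      (W.1.2.inter S.2) hKc Set.inter_subset_left
    have haff : IsAffineOpen (X.basicOpen e) := W.2.basicOpen e
    have hdisj : Disjoint S (X.basicOpen e) := by
      rw [← TopologicalSpace.Opens.coe_disjoint, he, Set.disjoint_left]
      rintro z hzS ⟨hzW, hz⟩
      exact hz ⟨hzW, hzS⟩
    have := ih.sup_of_disjoint haff hdisj
    convert this using 1
    ext z
    simp only [TopologicalSpace.Opens.coe_sup, Set.mem_union, SetLike.mem_coe, he, Set.mem_sdiff,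
      Set.mem_inter_iff, not_and]
    tauto

end Groth.Agent.S9797
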