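import Groth.Statements.S9798
import Mathlib

set_option autoImplicit false
universe u
open CategoryTheory AlgebraicGeometry TopologicalSpace
open Props

namespace Groth.Agent.S9798


/-- A point of a locally Noetherian scheme has local dimension zero exactly when it is isolated. -/
theorem result (X : Scheme.{u}) [IsLocallyNoetherian X] (x : X) :
    FlatMor.localDim X x = 0 ↔ IsOpen ({x} : Set X) := by

  unfold FlatMor.localDim
  constructor
  · intro h
    -- some neighbourhood has dimension ≤ 0
    have hex : ∃ U : {U : TopologicalSpace.Opens X // x ∈ U},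
        topologicalKrullDim (U.1 : Set X) ≤ 0 := by
      by_contra hcon
      push Not at hcon
      have h1 : (1 : WithBot ℕ∞) ≤
          ⨅ U : {U : TopologicalSpace.Opens X // x ∈ U}, topologicalKrullDim (U.1 : Set X) := by
        refine le_iInf fun U => ?_
        have hU := hcon U
        cases hd : topologicalKrullDim (U.1 : Set X) with
        | bot => rw [hd] at hU; exact absurd hU (by simp)
        | coe n =>
          rw [hd] at hU
          have hn : (0 : ℕ∞) < n := by exact_mod_cast hU
          have : (1 : ℕ∞) ≤ n := Order.one_le_iff_pos.mpr hn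
          exact_mod_cast this
      rw [h] at h1
      exact absurd h1 (by decide)
    obtain ⟨⟨U, hxU⟩, hU⟩ := hex
    have hU' : topologicalKrullDim (U : Scheme.{u}) ≤ 0 := hU
    haveI : IsLocallyArtinian (U : Scheme.{u}) :=
      IsLocallyArtinian.of_topologicalKrullDim_le_zero hU'
    have hopen : IsOpen ({⟨x, hxU⟩} : Set U) := isOpen_discrete _
    have := (U.2.isOpenEmbedding_subtypeVal).isOpenMap _ hopen
    convert this using 1
    ext y
    constructor
    · intro hy
      rw [Set.mem_singleton_iff] at hy
      subst hy
      exact ⟨⟨y, hxU⟩, rfl, rfl⟩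
    · rintro ⟨z, hz, rfl⟩
      have hz' : z = ⟨x, hxU⟩ := hz
      rw [hz']
      rfl
  · intro h
    apply le_antisymm
    · refine (iInf_le _ (⟨⟨{x}, h⟩, Set.mem_singleton x⟩ :
        {U : TopologicalSpace.Opens X // x ∈ U})).trans ?_
      haveI : DiscreteTopology (({x} : Set X)) := inferInstance
      exact topologicalKrullDim_zero_of_discreteTopology _
    · refine le_iInf fun U => ?_
      haveI : Nonempty (TopologicalSpace.IrreducibleCloseds (U.1 : Set X)) :=
        ⟨⟨closure {⟨x, U.2⟩}, isIrreducible_singleton.closure, isClosed_closure⟩⟩
      exact Order.krullDim_nonneg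

end Groth.Agent.S9798
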