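import Groth.Statements.S9799
import Mathlib
import Groth.Agent.S2279

set_option autoImplicit false
universe u
open CategoryTheory AlgebraicGeometry TopologicalSpace
open Props

namespace Groth.Agent.S9799

/-- topological lemma: if the components are pairwise disjoint and an open neighbourhood `V` of `x`
has finitely many irreducible components, the component through `x` is a neighbourhood of `x`. -/
theorem exists_open_subset_component {T : Type*} [TopologicalSpace T]
    (hdisj : (irreducibleComponents T).PairwiseDisjoint id) (V : Set T) (hV : IsOpen V)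
    (hfin : (irreducibleComponents ↥V).Finite) (Z : Set T) (hZ : Z ∈ irreducibleComponents T)
    (x : T) (hxV : x ∈ V) (hxZ : x ∈ Z) : ∃ O : Set T, IsOpen O ∧ x ∈ O ∧ O ⊆ Z := by
  classical
  -- for each component C of V choose a component of T containing its image
  have hψ : ∀ C : Set ↥V, C ∈ irreducibleComponents ↥V →
      ∃ Z' ∈ irreducibleComponents T, Subtype.val '' C ⊆ Z' := by
    intro C hC
    have hirr : IsIrreducible (Subtype.val '' C : Set T) :=
      hC.1.image _ continuous_subtype_val.continuousOn
    exact exists_mem_irreducibleComponents_subset_of_isIrreducible _ hirr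
  choose! ψ hψ1 hψ2 using hψ
  -- every component meeting V is a ψ C
  have hall : ∀ Z' ∈ irreducibleComponents T, (Z' ∩ V).Nonempty →
      ∃ C ∈ irreducibleComponents ↥V, ψ C = Z' := by
    intro Z' hZ' hne
    have hZ'irr : IsIrreducible Z' := hZ'.1
    have hW : IsIrreducible (Subtype.val ⁻¹' Z' : Set ↥V) := by
      refine ⟨?_, hZ'irr.2.preimage hV.isOpenEmbedding_subtypeVal⟩
      obtain ⟨y, hyZ', hyV⟩ := hne
      exact ⟨⟨y, hyV⟩, hyZ'⟩
    obtain ⟨C, hC, hWC⟩ := exists_mem_irreducibleComponents_subset_of_isIrreducible _ hW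
    refine ⟨C, hC, ?_⟩
    have h1 : Z' ∩ V ⊆ ψ C := by
      rintro y ⟨hyZ', hyV⟩
      apply hψ2 C hC
      exact ⟨⟨y, hyV⟩, hWC hyZ', rfl⟩
    have h2 : Z' ⊆ closure (Z' ∩ V) :=
      subset_closure_inter_of_isPreirreducible_of_isOpen hZ'irr.2 hV hne
    have h3 : IsClosed (ψ C) := isClosed_of_mem_irreducibleComponents _ (hψ1 C hC)
    have h4 : Z' ⊆ ψ C := h2.trans (h3.closure_subset_iff.mpr h1)
    exact (le_antisymm h4 (hZ'.2 (hψ1 C hC).1 h4)).symm
  -- the closed set K
  set F : Finset (Set ↥V) := hfin.toFinset.filter (fun C => ψ C ≠ Z) with hF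
  set K : Set T := ⋃ C ∈ F, ψ C with hK
  have hKcl : IsClosed K := by
    apply Set.Finite.isClosed_biUnion F.finite_toSet
    intro C hC
    have hC' : C ∈ irreducibleComponents ↥V := by
      have := (Finset.mem_filter.mp hC).1
      exact (Set.Finite.mem_toFinset hfin).mp this
    exact isClosed_of_mem_irreducibleComponents _ (hψ1 C hC')
  refine ⟨V \ K, hV.sdiff hKcl, ⟨hxV, ?_⟩, ?_⟩
  · intro hxK
    rw [hK, Set.mem_iUnion₂] at hxK
    obtain ⟨C, hCF, hxC⟩ := hxK
    have hC := Finset.mem_filter.mp hCF
    have hC' : C ∈ irreducibleComponents ↥V := (Set.Finite.mem_toFinset hfin).mp hC.1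
    have := hdisj (hψ1 C hC') hZ hC.2
    exact (Set.disjoint_left.mp this) hxC hxZ
  · rintro y ⟨hyV, hyK⟩
    obtain ⟨C, hC, hCeq⟩ := hall (irreducibleComponent y)
      (irreducibleComponent_mem_irreducibleComponents y) ⟨y, mem_irreducibleComponent, hyV⟩
    by_cases hCZ : ψ C = Z
    · rw [← hCZ, hCeq]
      exact mem_irreducibleComponent
    · exfalso
      apply hyK
      rw [hK, Set.mem_iUnion₂]
      refine ⟨C, Finset.mem_filter.mpr ⟨(Set.Finite.mem_toFinset hfin).mpr hC, hCZ⟩, ?_⟩
      rw [hCeq]
      exact mem_irreducibleComponent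

/-- Let X be a normal scheme (all local rings are integrally closed domains) such that every
quasi-compact open subset has finitely many irreducible components. Then the irreducible components
of X are open and pairwise disjoint; hence X is the disjoint union of its irreducible components,
each an open subscheme which is normal and integral. -/
theorem result (X : Scheme.{u})
    (hfin : ∀ U : X.Opens, IsCompact (U : Set X) → (irreducibleComponents ↥U).Finite)
    (hN : Pi1.IsNormalScheme X) :
    (∀ Z ∈ irreducibleComponents X, IsOpen Z) ∧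
      ∀ Z ∈ irreducibleComponents X, ∀ Z' ∈ irreducibleComponents X, Z ≠ Z' → Disjoint Z Z' := by
  have hnil : ∀ x : X, (nilradical (X.presheaf.stalk x)).IsPrime := by
    intro x
    have := (hN x).1
    rw [nilradical_eq_zero]
    exact Ideal.isPrime_bot
  have hdisj := (Groth.Agent.S2279.result X).mpr hnil
  refine ⟨?_, fun Z hZ Z' hZ' hne => hdisj hZ hZ' hne⟩
  intro Z hZ
  rw [isOpen_iff_forall_mem_open]
  intro x hxZ
  obtain ⟨_, ⟨V, hV : IsAffineOpen V, rfl⟩, hxV, -⟩ :=
    X.isBasis_affineOpens.exists_subset_of_mem_open (Set.mem_univ x) isOpen_univ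
  obtain ⟨O, hO, hxO, hOZ⟩ := exists_open_subset_component hdisj (V : Set X) V.isOpen
    (hfin V hV.isCompact) Z hZ x hxV hxZ
  exact ⟨O, hOZ, hO, hxO⟩

end Groth.Agent.S9799
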