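import Groth.Statements.S9800
import Mathlib

set_option autoImplicit false
universe u
open CategoryTheory AlgebraicGeometry TopologicalSpace
open Props

namespace Groth.Agent.S9800


/-- A locally Noetherian normal scheme of dimension at most one is regular, that is, all of its local
rings are regular local rings. -/
theorem result (X : Scheme.{u})
    [IsLocallyNoetherian X] (hN : Pi1.IsNormalScheme X) (hd : topologicalKrullDim X ≤ 1) (x : X) :
    IsRegularLocalRing (X.presheaf.stalk x) := by

  obtain ⟨hdom, hic⟩ := hN x
  -- dimension of the stalk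
  have h1 : ringKrullDim (X.presheaf.stalk x) ≤ 1 := by
    rw [← PrimeSpectrum.topologicalKrullDim_eq_ringKrullDim]
    have hemb : Topology.IsEmbedding (X.fromSpecStalk x) := (X.fromSpecStalk x).isEmbedding
    exact (hemb.isInducing.topologicalKrullDim_le).trans hd
  haveI : Ring.KrullDimLE 1 (X.presheaf.stalk x) := by
    rw [Ring.KrullDimLE, Order.krullDimLE_iff, ← ringKrullDim]
    simpa using h1
  haveI : Ring.DimensionLEOne (X.presheaf.stalk x) :=
    ⟨fun {p} hp0 hp => Ring.krullDimLE_one_iff_of_noZeroDivisors.mp inferInstance p hp0 hp⟩
  haveI : IsDedekindDomain (X.presheaf.stalk x) := { }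
  exact IsRegularLocalRing.of_isRegularRing_of_isLocalRing _

end Groth.Agent.S9800
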