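import Groth.Statements.S9805
import Groth.Agent.Helper4.FinLocFree2
import Mathlib

set_option autoImplicit false
universe u
open CategoryTheory AlgebraicGeometry TopologicalSpace
open Props

namespace Groth.Agent.S9805


/-- A quasi-coherent module on a scheme is flat and of finite presentation if and only if it is finite
locally free. -/
theorem result (X : Scheme.{u}) (M : X.Modules) (hM : Coh.IsQCoh M) :
    (FlatMod.IsFlat M ∧ CohB1.IsFP M) ↔ FlatMod.IsFinLocFree M := by

  haveI : M.IsQuasicoherent := hM
  constructor
  · rintro ⟨hflat, hfp⟩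
    apply Groth.Agent.Helper4.FinLocFree2.isFinLocFree_of_fp_of_free_stalks M hfp
    intro x
    have hft : SheafOfModules.IsFiniteType (R := X.ringCatSheaf) M :=
      @SheafOfModules.instIsFiniteTypeOfIsFinitePresentation _ _ _ X.ringCatSheaf _ _ M hfp
    haveI := Groth.Agent.Helper4.FinLocFree2.finite_stalk M hft x
    haveI : Module.Flat (X.presheaf.stalk x) (M.presheaf.stalk x) := hflat x
    exact Module.free_of_flat_of_isLocalRing
  · intro h
    refine ⟨fun x => ?_, Groth.Agent.Helper4.FinLocFree2.isFinitePresentation_of_isFinLocFree M h⟩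
    haveI := Groth.Agent.Helper4.FinLocFree2.free_stalk_of_isFinLocFree M h x
    exact (inferInstance : Module.Flat (X.presheaf.stalk x) (M.presheaf.stalk x))

end Groth.Agent.S9805
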