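import Groth.Statements.S9814
import Groth.Agent.Helper4.TensorInv
import Mathlib

set_option autoImplicit false
universe u
open CategoryTheory CategoryTheory.Limits AlgebraicGeometry TopologicalSpace
open Props

namespace Groth.Agent.S9814


/-- Let L be an invertible module on a scheme X. If the opens X_s (s a global section of a positive
tensor power of L) form a basis for the topology, then so do the affine ones among them. -/
theorem result (X : Scheme.{u}) (L : X.Modules) (hL : PicF.IsInvertible L)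
    (hB : Opens.IsBasis {U : X.Opens | ∃ (n : ℕ) (s : Coh.structureModule X ⟶ CohB1.tensorPow L (n + 1)),
      U = CohB1.genLocus _ s}) :
    Opens.IsBasis {U : X.Opens | IsAffineOpen U ∧ ∃ (n : ℕ) (s : Coh.structureModule X ⟶ CohB1.tensorPow L (n + 1)),
      U = CohB1.genLocus _ s} := by

  rw [TopologicalSpace.Opens.isBasis_iff_nbhd] at hB ⊢
  intro W x hxW
  obtain ⟨W₁, hW₁, hxW₁, hW₁W⟩ := exists_isAffineOpen_mem_and_subset (X := X) (x := x) (U := W) hxW
  obtain ⟨G, ⟨n, s, rfl⟩, hxG, hGW₁⟩ := hB hxW₁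
  refine ⟨_, ⟨?_, n, s, rfl⟩, hxG, hGW₁.trans hW₁W⟩
  haveI := Groth.Agent.Helper4.GenLoc.isAffineHom_genLocus_ι (CohB1.tensorPow L (n + 1))
    (Groth.Agent.Helper4.TensorInv.isInvertible_tensorPow hL (n + 1)) s
  have h1 : IsAffineOpen ((CohB1.genLocus (CohB1.tensorPow L (n + 1)) s).ι ⁻¹ᵁ W₁) :=
    hW₁.preimage _
  have h2 : (CohB1.genLocus (CohB1.tensorPow L (n + 1)) s).ι ''ᵁ
      ((CohB1.genLocus (CohB1.tensorPow L (n + 1)) s).ι ⁻¹ᵁ W₁) =
      CohB1.genLocus (CohB1.tensorPow L (n + 1)) s := by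
    rw [Scheme.Hom.image_preimage_eq_opensRange_inf, Scheme.Opens.opensRange_ι]
    exact inf_eq_left.mpr hGW₁
  rw [← h2]
  exact h1.image_of_isOpenImmersion _

end Groth.Agent.S9814
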