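import Groth.Statements.S9818
import Groth.Agent.Helper4.QcohLimits
import Mathlib

set_option autoImplicit false
universe u
open CategoryTheory CategoryTheory.Limits AlgebraicGeometry TopologicalSpace Opposite
open Props

namespace Groth.Agent.S9818


/-- For an open subscheme U of a scheme X with quasi-compact inclusion, a quasi-coherent module G on U
with a map to the restriction of a quasi-coherent module F on X extends to a quasi-coherent module H
on X with a map to F restricting to the given one. Taking F = 0, every quasi-coherent module on U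
extends to a quasi-coherent module on X. -/
theorem result {X : Scheme.{u}} (U : X.Opens) [QuasiCompact U.ι]
    (F : X.Modules) [Coh.IsQCoh F] (G : (U : Scheme.{u}).Modules) [Coh.IsQCoh G] (φ : G ⟶ F.restrict U.ι) :
    ∃ (H : X.Modules) (ψ : H ⟶ F) (e : H.restrict U.ι ≅ G), Coh.IsQCoh H ∧
      e.hom ≫ φ = (Scheme.Modules.restrictFunctor U.ι).map ψ := by

  haveI : F.IsQuasicoherent := ‹Coh.IsQCoh F›
  haveI : G.IsQuasicoherent := ‹Coh.IsQCoh G›
  let R := Scheme.Modules.restrictFunctor U.ι
  let P := Scheme.Modules.pushforward U.ι
  let adj := Scheme.Modules.restrictAdjunction U.ι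
  haveI : (P.obj G).IsQuasicoherent :=
    Groth.Agent.Helper4.QcohGlue.isQuasicoherent_pushforward U.ι G
  haveI : (F.restrict U.ι).IsQuasicoherent :=
    Scheme.Modules.isQuasicoherent_restrictFunctor U.ι F
  haveI : (P.obj (F.restrict U.ι)).IsQuasicoherent :=
    Groth.Agent.Helper4.QcohGlue.isQuasicoherent_pushforward U.ι _
  let a : P.obj G ⟶ P.obj (F.restrict U.ι) := P.map φ
  let b : F ⟶ P.obj (F.restrict U.ι) := adj.unit.app F
  have hq : (Limits.pullback a b).IsQuasicoherent :=
    Groth.Agent.Helper4.QcohLimits.isQuasicoherent_pullback a b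
  have hpb : IsPullback (R.map (Limits.pullback.fst a b)) (R.map (Limits.pullback.snd a b))
      (R.map a) (R.map b) := (IsPullback.of_hasPullback a b).map R
  have htri : R.map b ≫ adj.counit.app (R.obj F) = 𝟙 _ := adj.left_triangle_components F
  haveI : IsIso (adj.counit.app (R.obj F)) := inferInstance
  haveI : IsIso (R.map b) := by
    have : R.map b = inv (adj.counit.app (R.obj F)) := by
      rw [← cancel_mono (adj.counit.app (R.obj F)), htri, IsIso.inv_hom_id]
    rw [this]; infer_instance
  haveI : IsIso (R.map (Limits.pullback.fst a b)) := hpb.isIso_fst_of_isIso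
  haveI : IsIso (adj.counit.app G) := inferInstance
  refine ⟨Limits.pullback a b, Limits.pullback.snd a b,
    asIso (R.map (Limits.pullback.fst a b)) ≪≫ asIso (adj.counit.app G), hq, ?_⟩
  have hnat : adj.counit.app G ≫ φ = R.map a ≫ adj.counit.app (R.obj F) :=
    (adj.counit.naturality φ).symm
  simp only [Iso.trans_hom, asIso_hom, Category.assoc]
  rw [hnat, ← Category.assoc, hpb.w, Category.assoc, htri, Category.comp_id]

end Groth.Agent.S9818
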