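import Groth.Statements.S9821
import Mathlib

set_option autoImplicit false
universe u
open CategoryTheory CategoryTheory.Limits AlgebraicGeometry TopologicalSpace Opposite
open Props

namespace Groth.Agent.S9821


/-- An integral scheme is normal if and only if the coordinate ring of every nonempty affine open is an
integrally closed domain. -/
theorem result (X : Scheme.{u}) [IsIntegral X] :
    Pi1.IsNormalScheme X ↔ ∀ (U : X.Opens) [Nonempty U], IsAffineOpen U → IsIntegrallyClosed Γ(X, U) := by

  constructor
  · intro hN U _ hU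
    refine IsIntegrallyClosed.of_localization_maximal fun P _ hP => ?_
    let y : PrimeSpectrum Γ(X, U) := ⟨P, hP.isPrime⟩
    have hy : hU.fromSpec y ∈ U := by
      have := hU.range_fromSpec
      have h2 : hU.fromSpec y ∈ Set.range hU.fromSpec := ⟨y, rfl⟩
      rw [this] at h2
      exact h2
    letI := TopCat.Presheaf.algebra_section_stalk X.presheaf ⟨hU.fromSpec y, hy⟩
    haveI : IsLocalization.AtPrime (X.presheaf.stalk (hU.fromSpec y)) P :=
      hU.isLocalization_stalk' y hy
    haveI := (hN (hU.fromSpec y)).2
    exact IsIntegrallyClosed.of_equiv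
      (IsLocalization.algEquiv P.primeCompl (X.presheaf.stalk (hU.fromSpec y))
        (Localization.AtPrime P)).toRingEquiv
  · intro h x
    refine ⟨inferInstance, ?_⟩
    obtain ⟨U, hUa, hxU, -⟩ := exists_isAffineOpen_mem_and_subset (x := x) (U := ⊤) trivial
    haveI : Nonempty U := ⟨⟨x, hxU⟩⟩
    haveI := h _ hUa
    letI := TopCat.Presheaf.algebra_section_stalk X.presheaf (⟨x, hxU⟩ : U)
    haveI := hUa.isLocalization_stalk ⟨x, hxU⟩
    exact isIntegrallyClosed_of_isLocalization (X.presheaf.stalk x)
      (hUa.primeIdealOf ⟨x, hxU⟩).asIdeal.primeCompl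
      (Ideal.primeCompl_le_nonZeroDivisors _)

end Groth.Agent.S9821
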