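import Groth.Statements.S9822
import Mathlib

set_option autoImplicit false
universe u
open Props

namespace Groth.Agent.S9822

open AlgebraicGeometry CategoryTheory

/-- A scheme is irreducible if and only if it is nonempty and every nonempty affine open subset is
irreducible. -/
theorem result (X : Scheme.{u}) :
    IrreducibleSpace X ↔ Nonempty X ∧ ∀ U : X.Opens, IsAffineOpen U → (U : Set X).Nonempty → IsIrreducible (U : Set X) := by
  constructor
  · intro hX
    refine ⟨hX.toNonempty, fun U _ hne => ⟨hne, ?_⟩⟩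
    exact (IrreducibleSpace.isIrreducible_univ X).isPreirreducible.open_subset U.2 (Set.subset_univ _)
  · rintro ⟨hne, h⟩
    refine { toNonempty := hne, isPreirreducible_univ := ?_ }
    intro A B hA hB hA' hB'
    obtain ⟨a, -, haA⟩ := hA'
    obtain ⟨b, -, hbB⟩ := hB'
    obtain ⟨_, ⟨U, hU : IsAffineOpen U, rfl⟩, haU, hUA⟩ :=
      X.isBasis_affineOpens.exists_subset_of_mem_open haA hA
    obtain ⟨_, ⟨V, hV : IsAffineOpen V, rfl⟩, hbV, hVB⟩ :=
      X.isBasis_affineOpens.exists_subset_of_mem_open hbB hB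
    suffices hUV : ((U : Set X) ∩ V).Nonempty by
      obtain ⟨z, hzU, hzV⟩ := hUV
      exact ⟨z, Set.mem_univ _, hUA hzU, hVB hzV⟩
    by_contra hcon
    rw [Set.not_nonempty_iff_eq_empty] at hcon
    have hdisj : Disjoint U V := by
      rw [← TopologicalSpace.Opens.coe_disjoint, Set.disjoint_iff_inter_eq_empty]
      exact hcon
    have haff : IsAffineOpen (U ⊔ V) := hU.sup_of_disjoint hV hdisj
    have hirr := h (U ⊔ V) haff ⟨a, Or.inl haU⟩
    obtain ⟨z, -, hzU, hzV⟩ := hirr.isPreirreducible U V U.2 V.2 ⟨a, Or.inl haU, haU⟩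
      ⟨b, Or.inr hbV, hbV⟩
    have : z ∈ (U : Set X) ∩ V := ⟨hzU, hzV⟩
    rw [hcon] at this
    exact this

end Groth.Agent.S9822
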