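import Groth.Statements.S9825
import Groth.Agent.Helper4.FinLocFree5
import Mathlib

set_option autoImplicit false
universe u
open CategoryTheory CategoryTheory.Limits AlgebraicGeometry TopologicalSpace Opposite
open Props

namespace Groth.Agent.S9825


/-- A quasi-coherent module on a scheme is finite locally free if and only if it is of finite type with
free stalks and locally constant fibre rank. -/
theorem result (X : Scheme.{u}) (M : X.Modules) [Coh.IsQCoh M] :
    FlatMod.IsFinLocFree M ↔ CohB1.IsFT M ∧ (∀ x : X, Module.Free (X.presheaf.stalk x) (M.presheaf.stalk x)) ∧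
      IsLocallyConstant (fun x : X => Module.finrank (IsLocalRing.ResidueField (X.presheaf.stalk x))
          (TensorProduct (X.presheaf.stalk x) (IsLocalRing.ResidueField (X.presheaf.stalk x)) (M.presheaf.stalk x))) := by

  haveI : M.IsQuasicoherent := ‹Coh.IsQCoh M›
  have hrank : ∀ y : X, Module.Free (X.presheaf.stalk y) (M.presheaf.stalk y) →
      Module.finrank (IsLocalRing.ResidueField (X.presheaf.stalk y))
        (TensorProduct (X.presheaf.stalk y) (IsLocalRing.ResidueField (X.presheaf.stalk y))
          (M.presheaf.stalk y)) = Module.finrank (X.presheaf.stalk y) (M.presheaf.stalk y) := by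
    intro y hy
    exact Module.finrank_baseChange
  constructor
  · intro h
    have hfp := Groth.Agent.Helper4.FinLocFree2.isFinitePresentation_of_isFinLocFree M h
    have hfree := fun y => Groth.Agent.Helper4.FinLocFree2.free_stalk_of_isFinLocFree M h y
    refine ⟨Groth.Agent.Helper4.FinLocFree2.isFiniteType_of_isFinitePresentation M hfp,
      hfree, ?_⟩
    rw [IsLocallyConstant.iff_exists_open]
    intro x
    obtain ⟨V, n, hxV, hV⟩ := h x
    refine ⟨V, V.isOpen, hxV, fun y hy => ?_⟩
    have key : ∀ z ∈ V, Module.finrank (X.presheaf.stalk z) (M.presheaf.stalk z) = n := by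
      intro z hz
      obtain ⟨b⟩ := Groth.Agent.Helper4.FinLocFree2.nonempty_basis_stalk_of_isFreeAlong M hV z hz
      rw [Module.finrank_eq_card_basis b, Fintype.card_fin]
    rw [hrank y (hfree y), hrank x (hfree x), key y hy, key x hxV]
  · rintro ⟨hft, hfree, hlc⟩
    intro x
    rw [IsLocallyConstant.iff_exists_open] at hlc
    obtain ⟨W, hWo, hxW, hW⟩ := hlc x
    refine Groth.Agent.Helper4.FinLocFree5.exists_isFreeAlong_of_rank_const M hft
      (fun y => haveI := hfree y; inferInstance) x ⟨W, hWo⟩ hxW (fun y hy => ?_)
    have := hW y hy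
    rw [hrank y (hfree y), hrank x (hfree x)] at this
    exact this

end Groth.Agent.S9825
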