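import Groth.Statements.S9834
import Groth.Agent.Helper4.Japanese
import Groth.Agent.Helper4.AffineLocal
import Mathlib

set_option autoImplicit false
universe u
open CategoryTheory AlgebraicGeometry TopologicalSpace
open Props

namespace Groth.Agent.S9834


/-- If a scheme has an affine open covering by spectra of universally Japanese rings, then the
coordinate ring of every affine open is universally Japanese. -/
theorem result (X : Scheme.{u}) {ι : Type u} (U : ι → X.Opens)
    (hU : iSup U = ⊤) (haff : ∀ i, IsAffineOpen (U i)) (hJ : ∀ i, CAlg.IsUniversallyJapanese Γ(X, U i))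
    (V : X.Opens) (hV : IsAffineOpen V) : CAlg.IsUniversallyJapanese Γ(X, V) := by

  refine Helper4.AffineLocal.of_ringProp (Q := fun R _ => CAlg.IsUniversallyJapanese R) ?_ ?_
    X U hU haff hJ V hV
  · intro R S _ _ _ f _ hR
    haveI : Algebra.EssFiniteType R S := Algebra.EssFiniteType.of_isLocalization S (Submonoid.powers f)
    exact Helper4.Japanese.isUniversallyJapanese_of_essFiniteType R hR S
  · intro R _ s hs Rf _ _ _ hRf
    refine Helper4.Japanese.isUniversallyJapanese_of_span_eq_top R (fun f : s => f.1) ?_ Rf hRf
    rw [Subtype.range_coe_subtype]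
    exact hs

end Groth.Agent.S9834
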