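import Groth.Statements.S9835
import Groth.Agent.Helper4.Japanese
import Mathlib

set_option autoImplicit false
universe u
open CategoryTheory AlgebraicGeometry TopologicalSpace
open Props

namespace Groth.Agent.S9835


/-- If an integral scheme has an affine open covering by spectra of Japanese (N-2) domains, then the
coordinate ring of every nonempty affine open is a Japanese domain. -/
theorem result (X : Scheme.{u}) [IsIntegral X] {ι : Type u}
    (U : ι → X.Opens) [∀ i, Nonempty (U i)] (hU : iSup U = ⊤) (haff : ∀ i, IsAffineOpen (U i))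
    (hJ : ∀ i, CAlg.IsN2 Γ(X, U i)) (V : X.Opens) [Nonempty V] (hV : IsAffineOpen V) :
    CAlg.IsN2 Γ(X, V) := by

  classical
  have key := of_affine_open_cover (X := X)
    (P := fun W => ∀ (_ : Nonempty W.1), CAlg.IsN2 Γ(X, W.1))
    (fun i => ⟨U i, haff i⟩) (by simpa using hU) ⟨V, hV⟩ ?_ ?_ (fun i _ => hJ i)
  · exact key inferInstance
  · intro W f hW hne
    obtain ⟨⟨x, hx⟩⟩ := hne
    haveI : Nonempty W.1 := ⟨⟨x, X.basicOpen_le f hx⟩⟩
    haveI : Nonempty (X.basicOpen f) := ⟨⟨x, hx⟩⟩
    haveI := W.2.isLocalization_basicOpen f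
    exact Helper4.Japanese.isN2_of_isLocalization Γ(X, W.1) (Submonoid.powers f)
      Γ(X, X.basicOpen f) (hW inferInstance)
  · intro W s hs hW hne
    haveI : Nonempty W.1 := hne
    let ι' := {f : s // f.1 ≠ 0}
    haveI hne' : ∀ i : ι', Nonempty (X.basicOpen i.1.1) := fun i => by
      rw [Scheme.Opens.nonempty_iff, ← TopologicalSpace.Opens.ne_bot_iff_nonempty]
      intro h0
      exact i.2 ((basicOpen_eq_bot_iff _).mp h0)
    have hspan : Ideal.span (Set.range (fun i : ι' => i.1.1)) = ⊤ := by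
      rw [eq_top_iff, ← hs, Ideal.span_le]
      intro g hg
      by_cases h0 : g = 0
      · rw [h0]; exact zero_mem _
      · exact Ideal.subset_span ⟨⟨⟨g, hg⟩, h0⟩, rfl⟩
    haveI : ∀ i : ι', IsLocalization.Away i.1.1 Γ(X, X.basicOpen i.1.1) :=
      fun i => W.2.isLocalization_basicOpen i.1.1
    exact Helper4.Japanese.isN2_of_span_eq_top Γ(X, W.1) (fun i : ι' => i.1.1) hspan
      (fun i => Γ(X, X.basicOpen i.1.1)) (fun i => hW i.1 (hne' i))

end Groth.Agent.S9835
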