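import Groth.Statements.S9838
import Groth.Agent.Helper4.FinitePush
import Mathlib

set_option autoImplicit false
open CategoryTheory CategoryTheory.Limits AlgebraicGeometry Opposite
universe u
open Desc

namespace Groth.Agent.S9838


/-- Let f : X ⟶ Y be a finite morphism of schemes and F a quasi-coherent O_X-module. The pushforward
f_*F is of finite type as an O_Y-module exactly when F itself is of finite type as an O_X-module. -/
theorem result {X Y : Scheme.{u}} (f : X ⟶ Y) [IsFinite f]
    (F : X.Modules) [F.IsQuasicoherent] :
    SheafOfModules.IsFiniteType (R := X.ringCatSheaf) F ↔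
      SheafOfModules.IsFiniteType (R := Y.ringCatSheaf) ((Scheme.Modules.pushforward f).obj F) := by

  exact ⟨Groth.Agent.Helper4.FinitePush.isFiniteType_pushforward_of_isFinite f F,
    Groth.Agent.Helper4.FinitePush.isFiniteType_of_isFiniteType_pushforward f F⟩

end Groth.Agent.S9838
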