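import Groth.Statements.S9839
import Mathlib

set_option autoImplicit false
open CategoryTheory CategoryTheory.Limits AlgebraicGeometry Opposite
universe u
open Desc

namespace Groth.Agent.S9839


/-- Let f i : T i ⟶ T be an fpqc covering family of a scheme T (a family in the fpqc precoverage) and W
i ⊆ T i open subsets such that for all i, j the inverse images of W i and W j under the two
projections of T i ×_T T j coincide. Then there is a unique open subset W ⊆ T with (f i)⁻¹(W) = W i
for every i. -/
theorem result {ι : Type u} {T : Scheme.{u}} {Ti : ι → Scheme.{u}}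
    (f : ∀ i, Ti i ⟶ T) (hf : Presieve.ofArrows Ti f ∈ Scheme.fpqcPrecoverage T)
    (W : ∀ i, (Ti i).Opens)
    (hW : ∀ i j, (pullback.fst (f i) (f j)) ⁻¹ᵁ (W i) = (pullback.snd (f i) (f j)) ⁻¹ᵁ (W j)) :
    ∃! V : T.Opens, ∀ i, (f i) ⁻¹ᵁ V = W i := by

  have hsheaf := isSheaf_fpqcTopology_continuousMapPresheaf.{0, u} Prop
  rw [isSheaf_iff_isSheaf_of_type] at hsheaf
  have h1 : Presieve.IsSheafFor (continuousMapPresheaf.{0, u} Prop) (Presieve.ofArrows Ti f) := by
    rw [Presieve.isSheafFor_iff_generate]
    exact hsheaf (Sieve.generate (Presieve.ofArrows Ti f)) (Precoverage.generate_mem_toGrothendieck hf)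
  rw [Presieve.isSheafFor_arrows_iff_pullbacks] at h1
  let x : ∀ i, C(Ti i, Prop) := fun i =>
    (⟨fun t => t ∈ W i, isOpen_iff_continuous_mem.mp (W i).2⟩ : C(Ti i, Prop))
  have hx : Presieve.Arrows.PullbackCompatible (continuousMapPresheaf.{0, u} Prop) f x := by
    intro i j
    change ContinuousMap.comp (x i) (pullback.fst (f i) (f j)).base.hom =
      ContinuousMap.comp (x j) (pullback.snd (f i) (f j)).base.hom
    apply ContinuousMap.ext
    intro z
    have := congrArg (fun U : (pullback (f i) (f j)).Opens => z ∈ U) (hW i j)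
    simpa [x] using this
  obtain ⟨t0, ht0, htu⟩ := h1 x hx
  let t : C(T, Prop) := t0
  have ht : ∀ i, ContinuousMap.comp t (f i).base.hom = x i := ht0
  refine ⟨⟨{p | t p}, isOpen_iff_continuous_mem.mpr t.continuous⟩, ?_, ?_⟩
  · intro i
    ext z
    have := congrArg (fun g : C(Ti i, Prop) => g z) (ht i)
    simpa [x] using this
  · intro V' hV'
    let t' : C(T, Prop) := ⟨fun p => p ∈ V', isOpen_iff_continuous_mem.mp V'.2⟩
    have ht' : t' = t := by
      apply htu
      intro i
      change ContinuousMap.comp t' (f i).base.hom = x i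
      apply ContinuousMap.ext
      intro z
      have := congrArg (fun U : (Ti i).Opens => z ∈ U) (hV' i)
      simpa [x, t'] using this
    ext p
    have := congrArg (fun g : C(T, Prop) => g p) ht'
    simpa [t'] using this

end Groth.Agent.S9839
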