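import Groth.Statements.S9841
import Groth.Agent.Helper1.EtRed
import Mathlib

set_option autoImplicit false
open CategoryTheory CategoryTheory.Limits AlgebraicGeometry Opposite
universe u
open Desc

namespace Groth.Agent.S9841


/-- Being reduced is local in the smooth topology: for a jointly surjective family of smooth morphisms f
i : X i ⟶ S, the scheme S is reduced if and only if every X i is reduced. -/
theorem result {ι : Type u} {S : Scheme.{u}} {X : ι → Scheme.{u}} (f : ∀ i, X i ⟶ S)
    (hf : Presieve.ofArrows X f ∈ Scheme.precoverage @Smooth S) :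
    IsReduced S ↔ ∀ i, IsReduced (X i) := by

  obtain ⟨hsurj, hsm⟩ := (Scheme.ofArrows_mem_precoverage_iff (P := @Smooth)).mp hf
  constructor
  · intro hS i
    haveI : Smooth (f i) := hsm i
    apply (config := { allowSynthFailures := true }) isReduced_of_isReduced_stalk
    intro x
    obtain ⟨U, hU, V, hV, hxV, e, -⟩ := Smooth.exists_isStandardSmooth (f i) x
    have hsmooth : ((f i).appLE U V e).hom.Smooth := (f i).smooth_appLE hU hV e
    haveI : _root_.IsReduced Γ(X i, V) := by
      algebraize [((f i).appLE U V e).hom]
      exact Groth.Agent.Helper1.EtRed.isReduced_of_smooth Γ(S, U) Γ(X i, V)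
    letI := TopCat.Presheaf.algebra_section_stalk (X i).presheaf (⟨x, hxV⟩ : V)
    haveI := hV.isLocalization_stalk ⟨x, hxV⟩
    exact isReduced_localizationPreserves (hV.primeIdealOf ⟨x, hxV⟩).asIdeal.primeCompl _ inferInstance
  · intro h
    apply (config := { allowSynthFailures := true }) isReduced_of_isReduced_stalk
    intro s
    obtain ⟨i, x, rfl⟩ := hsurj s
    haveI : Smooth (f i) := hsm i
    haveI := h i
    have hflat := Flat.stalkMap (f i) x
    algebraize [((f i).stalkMap x).hom]
    haveI : IsLocalHom (algebraMap (S.presheaf.stalk ((f i) x)) ((X i).presheaf.stalk x)) :=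
      inferInstanceAs (IsLocalHom ((f i).stalkMap x).hom)
    haveI : Module.FaithfullyFlat (S.presheaf.stalk ((f i) x)) ((X i).presheaf.stalk x) :=
      Module.FaithfullyFlat.of_flat_of_isLocalHom
    exact isReduced_of_injective (algebraMap (S.presheaf.stalk ((f i) x)) ((X i).presheaf.stalk x))
      (FaithfulSMul.algebraMap_injective _ _)

end Groth.Agent.S9841
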