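import Groth.Statements.S9842
import Groth.Agent.S9344

set_option autoImplicit false
universe u
open Desc

namespace Groth.Agent.S9842

open AlgebraicGeometry CategoryTheory Limits

theorem isDominant_iff_of_open_surjective {X Y Y' : Scheme.{u}} (f : X ⟶ Y) (g : Y' ⟶ Y)
    [Surjective g] (hg : IsOpenMap g.base) :
    IsDominant f ↔ IsDominant (pullback.snd f g) := by
  constructor
  · intro hf
    exact Groth.Agent.S9344.result f g (pullback.fst f g) (pullback.snd f g)
      (IsPullback.of_hasPullback f g) hg
  · intro hdom
    refine ⟨fun y => ?_⟩
    obtain ⟨u, rfl⟩ := g.surjective y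
    have h1 : Set.range (pullback.snd f g).base = g.base ⁻¹' Set.range f.base := by
      have := Scheme.image_preimage_eq_of_isPullback (IsPullback.of_hasPullback f g) Set.univ
      simpa using this
    have h2 : u ∈ closure (g.base ⁻¹' Set.range f.base) := by
      rw [← h1]
      exact (pullback.snd f g).denseRange u
    have h3 := image_closure_subset_closure_image g.continuous (Set.mem_image_of_mem g.base h2)
    exact closure_mono (Set.image_preimage_subset _ _) h3

/-- Let E/k be a field extension, Y a scheme over k and f : X ⟶ Y a morphism. Writing Y_E = Y ×_k Spec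
E, the morphism f is dominant if and only if its base change X ×_Y Y_E ⟶ Y_E is dominant. -/
theorem result {k E : Type u} [Field k] [Field E] [Algebra k E]
    {X Y : Scheme.{u}} (f : X ⟶ Y) (q : Y ⟶ Spec (.of k)) :
    IsDominant f ↔
      IsDominant (pullback.snd f (pullback.fst q (Spec.map (CommRingCat.ofHom (algebraMap k E))))) := by
  have h1 : UniversallyOpen (Spec.map (CommRingCat.ofHom (algebraMap k E))) := inferInstance
  have h2 : Surjective (Spec.map (CommRingCat.ofHom (algebraMap k E))) := by
    refine ⟨fun x => ?_⟩
    have : Nonempty (Spec (CommRingCat.of E)) := inferInstance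
    obtain ⟨z⟩ := this
    exact ⟨z, Subsingleton.elim _ _⟩
  have h3 : UniversallyOpen (pullback.fst q (Spec.map (CommRingCat.ofHom (algebraMap k E)))) :=
    inferInstance
  have h4 : Surjective (pullback.fst q (Spec.map (CommRingCat.ofHom (algebraMap k E)))) :=
    inferInstance
  exact isDominant_iff_of_open_surjective f _ (Scheme.Hom.isOpenMap _)

end Groth.Agent.S9842
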