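import Groth.Statements.S9843
import Groth.Agent.S9344

set_option autoImplicit false
universe u
open Desc

namespace Groth.Agent.S9843

open AlgebraicGeometry CategoryTheory Limits

/-- Being dominant is fppf local on the base: for every fppf covering family Y i ⟶ Y (flat, locally of
finite presentation, jointly surjective), a morphism X ⟶ Y is dominant if and only if all its base
changes X ×_Y Y i ⟶ Y i are. -/
theorem result :
    MorphismProperty.IsLocalAtTarget (@IsDominant : MorphismProperty Scheme.{u}) Scheme.fppfPrecoverage := by
  refine MorphismProperty.IsLocalAtTarget.mk_of_iff fun X Y f R hR => ?_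
  have hR1 : ∀ y : Y, ∃ (U : Scheme.{u}) (g : U ⟶ Y), R g ∧ y ∈ Set.range g.base := by
    have := hR.1
    rw [Presieve.mem_comap_jointlySurjectivePrecoverage_iff] at this
    exact this
  have hR2 : ∀ {U : Scheme.{u}} (g : U ⟶ Y), R g → Flat g ∧ LocallyOfFinitePresentation g :=
    fun g hg => hR.2 hg
  constructor
  · intro hf U g _ hg
    obtain ⟨h1, h2⟩ := hR2 g hg
    exact Groth.Agent.S9344.result f g (pullback.fst f g) (pullback.snd f g)
      (IsPullback.of_hasPullback f g) g.isOpenMap
  · intro h
    refine ⟨fun y => ?_⟩
    obtain ⟨U, g, hg, u, rfl⟩ := hR1 y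
    have hdom : IsDominant (pullback.snd f g) := h g hg
    have h1 : Set.range (pullback.snd f g).base = g.base ⁻¹' Set.range f.base := by
      have := Scheme.image_preimage_eq_of_isPullback (IsPullback.of_hasPullback f g) Set.univ
      simpa using this
    have h2 : u ∈ closure (g.base ⁻¹' Set.range f.base) := by
      rw [← h1]
      exact (pullback.snd f g).denseRange u
    have h3 := image_closure_subset_closure_image g.continuous (Set.mem_image_of_mem g.base h2)
    exact closure_mono (Set.image_preimage_subset _ _) h3

end Groth.Agent.S9843
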