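import Groth.Statements.S9845
import Mathlib

set_option autoImplicit false
universe u
open Desc

namespace Groth.Agent.S9845

open AlgebraicGeometry CategoryTheory Limits

theorem isOpenMap_iff_of_mem_fppfPrecoverage {X Y : Scheme.{u}} (f : X ⟶ Y) {R : Presieve X}
    (hR : R ∈ Scheme.fppfPrecoverage X) :
    IsOpenMap f.base ↔ ∀ ⦃U : Scheme.{u}⦄ ⦃g : U ⟶ X⦄, R g → IsOpenMap (g ≫ f).base := by
  have hR1 : ∀ x : X, ∃ (U : Scheme.{u}) (g : U ⟶ X), R g ∧ x ∈ Set.range g.base := by
    have := hR.1
    rw [Presieve.mem_comap_jointlySurjectivePrecoverage_iff] at this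
    exact this
  have hR2 : ∀ {U : Scheme.{u}} (g : U ⟶ X), R g → Flat g ∧ LocallyOfFinitePresentation g :=
    fun g hg => hR.2 hg
  constructor
  · intro hf U g hg
    obtain ⟨h1, h2⟩ := hR2 g hg
    exact hf.comp g.isOpenMap
  · intro h V hV
    have : f.base '' V = ⋃ (U : Scheme.{u}) (g : U ⟶ X) (_ : R g), (g ≫ f).base '' (g.base ⁻¹' V) := by
      ext y
      simp only [Set.mem_image, Set.mem_iUnion, Set.mem_preimage]
      constructor
      · rintro ⟨x, hxV, rfl⟩
        obtain ⟨U, g, hg, u, rfl⟩ := hR1 x
        exact ⟨U, g, hg, u, hxV, rfl⟩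
      · rintro ⟨U, g, hg, u, huV, rfl⟩
        exact ⟨g.base u, huV, rfl⟩
    rw [this]
    exact isOpen_iUnion fun U => isOpen_iUnion fun g => isOpen_iUnion fun hg =>
      h hg _ (hV.preimage g.continuous)

/-- Being an open morphism (open underlying map) is fppf local on the source: for every fppf covering
family g i : X i ⟶ X, a morphism f : X ⟶ Y has open underlying map if and only if every composite g
i ≫ f does. -/
theorem result :
    MorphismProperty.IsLocalAtSource (topologically (fun f => IsOpenMap f) : MorphismProperty Scheme.{u})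
      Scheme.fppfPrecoverage := by
  have : (topologically (fun f => IsOpenMap f) : MorphismProperty Scheme.{u}).RespectsIso :=
    inferInstanceAs (topologically IsOpenMap).RespectsIso
  exact MorphismProperty.IsLocalAtSource.mk_of_iff fun {X Y} {f} {R} hR =>
    isOpenMap_iff_of_mem_fppfPrecoverage f hR

end Groth.Agent.S9845
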