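import Groth.Statements.S9847
import Groth.Agent.Helper4.SchemeSD2
import Mathlib

set_option autoImplicit false
open CategoryTheory CategoryTheory.Limits AlgebraicGeometry Opposite
universe u
open Desc

namespace Groth.Agent.S9847


set_option backward.isDefEq.respectTransparency.types false in
/-- Being etale is etale local on the source: for every etale covering family g i : X i ⟶ X (etale,
jointly surjective), a morphism f : X ⟶ Y is etale if and only if every composite g i ≫ f is. -/
theorem result :
    MorphismProperty.IsLocalAtSource (@Etale : MorphismProperty Scheme.{u}) Scheme.etalePrecoverage := by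

  open AlgebraicGeometry CategoryTheory in
  exact MorphismProperty.IsLocalAtSource.mk_of_iff fun {X Y} {f} {R} hR => by
    have hR1 : ∀ x : X, ∃ (U : Scheme.{u}) (g : U ⟶ X), R g ∧ x ∈ Set.range g.base := by
      have := hR.1
      rw [Presieve.mem_comap_jointlySurjectivePrecoverage_iff] at this
      exact this
    have hR2 : ∀ {U : Scheme.{u}} (g : U ⟶ X), R g → Etale g := fun g hg => hR.2 hg
    constructor
    · intro hf U g hg
      have := hR2 g hg
      exact MorphismProperty.comp_mem _ g f this hf
    · intro h
      refine Groth.Agent.Helper4.SchemeSD.of_forall_comp_etale_family @Etale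
        (fun e h he hes hP => ?_) f ?_
      · have := he
        have := hes
        have : Etale (e ≫ h) := hP
        exact Groth.Agent.Helper4.SchemeSD.etale_of_comp_etale_surjective e h
      · intro x
        obtain ⟨U, g, hg, hx⟩ := hR1 x
        exact ⟨U, g, hR2 g hg, hx, h hg⟩

end Groth.Agent.S9847
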