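import Groth.Statements.S9859
import Mathlib
import Groth.Agent.Helper2.MaxOpenTgt
open Groth.Agent.Helper2 Groth.Agent.Helper2.MaxOpenTgt
-- import your own Groth.Agent.* helpers here

set_option autoImplicit false
open CategoryTheory CategoryTheory.Limits AlgebraicGeometry Opposite
universe u
open Desc

namespace Groth.Agent.S9859

/-- Case τ = fppf: let P be a property of morphisms of schemes which is fppf local on the base and f : X
⟶ Y a morphism. There is a largest open W of Y such that the restriction of f over W has P;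
moreover, first, if g : Y' ⟶ Y is flat and locally of finite presentation and the base change of f
to Y' has P, then the image of g lies in W; and second, for such g the largest open of Y' over which
the base change of f has P is exactly g⁻¹(W). -/
theorem result (P : MorphismProperty Scheme.{u})
    [MorphismProperty.IsLocalAtTarget P Scheme.fppfPrecoverage] {X Y : Scheme.{u}} (f : X ⟶ Y) :
    ∃ W : Y.Opens, P (f ∣_ W) ∧ (∀ W₀ : Y.Opens, P (f ∣_ W₀) → W₀ ≤ W) ∧
      (∀ (Y' : Scheme.{u}) (g : Y' ⟶ Y), Flat g → LocallyOfFinitePresentation g →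
        P (pullback.snd f g) → Set.range g.base ⊆ (W : Set Y)) ∧
      (∀ (Y' : Scheme.{u}) (g : Y' ⟶ Y), Flat g → LocallyOfFinitePresentation g →
        ∀ W' : Y'.Opens, P (pullback.snd f g ∣_ W') → (∀ W₀ : Y'.Opens, P (pullback.snd f g ∣_ W₀) → W₀ ≤ W') →
          W' = g ⁻¹ᵁ W) := by
  haveI : P.IsLocalAtTarget (Scheme.precoverage (@Flat ⊓ @LocallyOfFinitePresentation)) :=
    inferInstanceAs (P.IsLocalAtTarget Scheme.fppfPrecoverage)
  obtain ⟨W, h1, h2, h3, h4⟩ := target_main (P := P) Groth.Agent.Helper2.MaxOpen.nice_fppf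
    (fun j _ => ⟨inferInstance, inferInstance⟩) f
  exact ⟨W, h1, h2, fun Y' g hg1 hg2 => h3 Y' g ⟨hg1, hg2⟩, fun Y' g hg1 hg2 => h4 Y' g ⟨hg1, hg2⟩⟩

end Groth.Agent.S9859
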