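import Groth.Statements.S9871
import Mathlib

set_option autoImplicit false
universe u
open CategoryTheory CategoryTheory.Limits AlgebraicGeometry
open AlgSp

namespace Groth.Agent.S9871

theorem isPullback_prod_map_fst {C : Type*} [Category C] [HasBinaryProducts C] {A A' : C}
    (g : A' ⟶ A) (B : C) :
    IsPullback (prod.map g (𝟙 B)) (prod.fst : A' ⨯ B ⟶ A') (prod.fst : A ⨯ B ⟶ A) g := by
  refine ⟨⟨by simp⟩, ⟨PullbackCone.IsLimit.mk _ (fun c => prod.lift c.snd (c.fst ≫ prod.snd))
    (fun c => ?_) (fun c => ?_) (fun c m h1 h2 => ?_)⟩⟩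
  · apply Limits.prod.hom_ext
    · rw [Category.assoc, prod.map_fst, prod.lift_fst_assoc, c.condition]
    · rw [Category.assoc, prod.map_snd, prod.lift_snd_assoc, Category.comp_id]
  · rw [prod.lift_fst]
  · apply Limits.prod.hom_ext
    · rw [prod.lift_fst, h2]
    · rw [prod.lift_snd, ← h1, Category.assoc, prod.map_snd, Category.comp_id]

theorem isPullback_prod_map_snd {C : Type*} [Category C] [HasBinaryProducts C] {B B' : C}
    (g : B' ⟶ B) (A : C) :
    IsPullback (prod.map (𝟙 A) g) (prod.snd : A ⨯ B' ⟶ B') (prod.snd : A ⨯ B ⟶ B) g := by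
  refine ⟨⟨by simp⟩, ⟨PullbackCone.IsLimit.mk _ (fun c => prod.lift (c.fst ≫ prod.fst) c.snd)
    (fun c => ?_) (fun c => ?_) (fun c m h1 h2 => ?_)⟩⟩
  · apply Limits.prod.hom_ext
    · rw [Category.assoc, prod.map_fst, prod.lift_fst_assoc, Category.comp_id]
    · rw [Category.assoc, prod.map_snd, prod.lift_snd_assoc, c.condition]
  · rw [prod.lift_snd]
  · apply Limits.prod.hom_ext
    · rw [prod.lift_fst, ← h1, Category.assoc, prod.map_fst, Category.comp_id]
    · rw [prod.lift_snd, h2]

/-- Let `s, t : R ⟶ U` be an etale equivalence relation on a scheme `U` over `S` and let `g : U' ⟶ U` be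
an etale morphism over `S`. Let `s', t' : R' ⟶ U'` be the restriction to `U'`: `R'`, with `(t', s')`
and `R' ⟶ R`, is the fibre product of `U' ×_S U'` and `R` over `U ×_S U`. Then `s', t'` is again an
etale equivalence relation. -/
theorem result (S : Scheme.{u}) {R U R' U' : Over S} (s t : R ⟶ U)
    (g : U' ⟶ U) (s' t' : R' ⟶ U') (r : R' ⟶ R)
    (hsq : IsPullback (prod.lift t' s') r (prod.map g g) (prod.lift t s))
    (h : AlgSp.IsEtaleEqvRel s t) [Etale g.left] :
    AlgSp.IsEtaleEqvRel s' t' := by
  have wt : t' ≫ g = r ≫ t := by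
    have := congrArg (· ≫ prod.fst) hsq.w
    rw [Category.assoc, Category.assoc, prod.map_fst, prod.lift_fst_assoc, prod.lift_fst] at this
    exact this
  have ws : s' ≫ g = r ≫ s := by
    have := congrArg (· ≫ prod.snd) hsq.w
    rw [Category.assoc, Category.assoc, prod.map_snd, prod.lift_snd_assoc, prod.lift_snd] at this
    exact this
  -- étaleness of `r`
  let Q : MorphismProperty (Over S) := MorphismProperty.inverseImage (@Etale) (Over.forget S)
  haveI : Q.IsStableUnderBaseChange :=
    AlgSp.inverseImage_forget_isStableUnderBaseChange (S := S) @Etale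
  have hg : Q g := (inferInstance : Etale g.left)
  have h1 : Q (prod.map g (𝟙 U')) := Q.of_isPullback (isPullback_prod_map_fst g U').flip hg
  have h2 : Q (prod.map (𝟙 U) g) := Q.of_isPullback (isPullback_prod_map_snd g U).flip hg
  have h3 : Q (prod.map g g) := by
    have e : prod.map g g = prod.map g (𝟙 U') ≫ prod.map (𝟙 U) g := by
      rw [prod.map_map, Category.comp_id, Category.id_comp]
    rw [e]
    have a1 : Etale (prod.map g (𝟙 U')).left := h1
    have a2 : Etale (prod.map (𝟙 U) g).left := h2
    change Etale ((prod.map g (𝟙 U')) ≫ (prod.map (𝟙 U) g)).left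
    rw [Over.comp_left]
    infer_instance
  have hr : Etale r.left := Q.of_isPullback hsq h3
  have hs : Etale s.left := h.etale_left
  have ht : Etale t.left := h.etale_right
  have lift_w : ∀ {T : Over S} (a b : T ⟶ U') (ρ : T ⟶ R), ρ ≫ t = a ≫ g → ρ ≫ s = b ≫ g →
      prod.lift a b ≫ prod.map g g = ρ ≫ prod.lift t s := by
    intro T a b ρ e1 e2
    apply Limits.prod.hom_ext
    · rw [Category.assoc, Category.assoc, prod.map_fst, prod.lift_fst_assoc, prod.lift_fst, e1]
    · rw [Category.assoc, Category.assoc, prod.map_snd, prod.lift_snd_assoc, prod.lift_snd, e2]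
  refine ⟨⟨?_, ?_⟩, ?_, ?_⟩
  · intro T r₁ r₂ e1 e2
    apply hsq.hom_ext
    · apply Limits.prod.hom_ext
      · rw [Category.assoc, Category.assoc, prod.lift_fst, e1]
      · rw [Category.assoc, Category.assoc, prod.lift_snd, e2]
    · apply h.injective T
      · rw [Category.assoc, Category.assoc, ← wt, reassoc_of% e1]
      · rw [Category.assoc, Category.assoc, ← ws, reassoc_of% e2]
  · intro T
    have key : ∀ a b : T ⟶ U', (∃ r' : T ⟶ R', r' ≫ t' = a ∧ r' ≫ s' = b) ↔
        ∃ ρ : T ⟶ R, ρ ≫ t = a ≫ g ∧ ρ ≫ s = b ≫ g := by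
      intro a b
      constructor
      · rintro ⟨r', rfl, rfl⟩
        exact ⟨r' ≫ r, by rw [Category.assoc, Category.assoc, wt],
          by rw [Category.assoc, Category.assoc, ws]⟩
      · rintro ⟨ρ, e1, e2⟩
        have hl := hsq.lift_fst (prod.lift a b) ρ (lift_w a b ρ e1 e2)
        refine ⟨hsq.lift (prod.lift a b) ρ (lift_w a b ρ e1 e2), ?_, ?_⟩
        · have := congrArg (· ≫ prod.fst) hl
          rw [Category.assoc, prod.lift_fst, prod.lift_fst] at this
          exact this
        · have := congrArg (· ≫ prod.snd) hl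
          rw [Category.assoc, prod.lift_snd, prod.lift_snd] at this
          exact this
    have E := h.equivalence T
    refine ⟨fun a => (key a a).2 (E.refl (a ≫ g)), fun {a b} hab => (key b a).2 (E.symm ((key a b).1 hab)),
      fun {a b c} hab hbc => (key a c).2 (E.trans ((key a b).1 hab) ((key b c).1 hbc))⟩
  · -- s' étale
    haveI : Etale (s'.left ≫ g.left) := by
      rw [← Over.comp_left, ws, Over.comp_left]
      infer_instance
    exact Etale.of_comp s'.left g.left
  · haveI : Etale (t'.left ≫ g.left) := by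
      rw [← Over.comp_left, wt, Over.comp_left]
      infer_instance
    exact Etale.of_comp t'.left g.left

end Groth.Agent.S9871
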