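import Groth.Statements.S9892
import Mathlib

set_option autoImplicit false
universe u
open CategoryTheory CategoryTheory.Limits AlgebraicGeometry Opposite
open AlgSp

namespace Groth.Agent.S9892

/-- Let `a : F ⟶ G` be a map of presheaves of sets on schemes over `S` which is representable by
schemes. If `G` is a sheaf for the fppf topology, then so is `F`. -/
theorem result (S : Scheme.{u}) (F G : AlgSp.PSp S) (a : F ⟶ G)
    (ha : (AlgSp.pyon S).relativelyRepresentable a) (hG : Presheaf.IsSheaf (AlgSp.J S) G) :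
    Presheaf.IsSheaf (AlgSp.J S) F := by
  rw [isSheaf_iff_isSheaf_of_type] at hG ⊢
  intro T R hR
  have hpbT : ∀ {E : Over S} {e : E ⟶ T} {c : (pyon S).obj E ⟶ F} {ξ : (pyon S).obj T ⟶ G}
      (_ : IsPullback c ((pyon S).map e) a ξ) (T' : Over S),
      IsPullback (c.app (op T')) (((pyon S).map e).app (op T')) (a.app (op T'))
        (ξ.app (op T')) := fun sq T' => sq.map ((evaluation _ _).obj (op T'))
  intro x hx
  have hxG : (x.map a).Compatible := hx.map a
  obtain ⟨y, hy, hyu⟩ := hG R hR _ hxG
  let ξ : (pyon S).obj T ⟶ G := CategoryTheory.uliftYonedaEquiv.symm y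
  have hξ : ∀ (T' : Over S) (f : T' ⟶ T), ξ.app (op T') ⟨f⟩ = G.map f.op y := fun T' f => rfl
  obtain ⟨E, e, c, sq⟩ := ha ξ
  have hEsheaf : Presieve.IsSheaf (J S) ((pyon S).obj E) :=
    (isSheaf_iff_isSheaf_of_type _ _).1 ((yon S).obj E).property
  -- the sections σ_f
  have hσ : ∀ ⦃T' : Over S⦄ (f : T' ⟶ T) (hf : R f),
      ∃ σ : ((pyon S).obj E).obj (op T'), c.app (op T') σ = x f hf ∧
        ((pyon S).map e).app (op T') σ = ⟨f⟩ := by
    intro T' f hf
    apply Types.exists_of_isPullback (hpbT sq T')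
    rw [hξ]
    exact (hy f hf).symm
  choose σ hσ1 hσ2 using hσ
  let σfam : Presieve.FamilyOfElements ((pyon S).obj E) R.arrows := fun T' f hf => σ f hf
  have hσcompat : σfam.Compatible := by
    rw [Presieve.compatible_iff_sieveCompatible]
    intro T' T'' f g hf
    apply Types.ext_of_isPullback (hpbT sq T'')
    · rw [hσ1]
      have h1 := NatTrans.naturality_apply c g.op (σ f hf)
      rw [h1, hσ1]
      exact ((Presieve.compatible_iff_sieveCompatible x).1 hx f g hf)
    · rw [hσ2]
      have h1 := NatTrans.naturality_apply ((pyon S).map e) g.op (σ f hf)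
      rw [h1, hσ2]
      rfl
  obtain ⟨σ₀, hσ₀, -⟩ := hEsheaf R hR σfam hσcompat
  refine ⟨c.app (op T) σ₀, ?_, ?_⟩
  · intro T' f hf
    have h1 := NatTrans.naturality_apply c f.op σ₀
    rw [← h1, hσ₀ f hf]
    exact hσ1 f hf
  · intro t ht
    have hat : a.app (op T) t = y := by
      apply hyu
      intro T' f hf
      have h1 := NatTrans.naturality_apply a f.op t
      rw [← h1, ht f hf]
      rfl
    have hξ1 : ξ.app (op T) ⟨𝟙 T⟩ = y := by
      rw [hξ]; simp
    obtain ⟨τ, hτ1, hτ2⟩ := Types.exists_of_isPullback (hpbT sq T) t ⟨𝟙 T⟩ (by rw [hat, hξ1])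
    have hτ : τ = σ₀ := by
      apply (hEsheaf.isSeparated R hR).ext
      intro T' f hf
      rw [hσ₀ f hf]
      apply Types.ext_of_isPullback (hpbT sq T')
      · have h1 := NatTrans.naturality_apply c f.op τ
        rw [h1, hτ1, ht f hf]
        exact (hσ1 f hf).symm
      · have h1 := NatTrans.naturality_apply ((pyon S).map e) f.op τ
        rw [h1, hτ2]
        show _ = ((pyon S).map e).app (op T') (σ f hf)
        rw [hσ2]
        simp
    rw [← hτ1, hτ]

end Groth.Agent.S9892
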