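import Groth.Statements.S9876
import Groth.Agent.S9892
import Groth.Agent.Helper4.AlgSpSrc
import Mathlib

set_option autoImplicit false
universe u
open CategoryTheory CategoryTheory.Limits AlgebraicGeometry
open AlgSp

namespace Groth.Agent.S9876

/-- A sheaf with a representable morphism to a sheaf with representable diagonal has
representable diagonal. -/
theorem representable_diag_of_representable {S : Scheme.{u}} {G X : Sp S}
    (hX : Representable (Limits.diag X)) (a : G ⟶ X) (ha : Representable a) :
    Representable (Limits.diag G) := by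
  apply Functor.relativelyRepresentable.diag_of_map_from_obj
  intro T g T' g'
  -- square A
  have hA : IsPullback (ha.fst (g' ≫ a)) ((yon S).map (ha.snd (g' ≫ a))) a (g' ≫ a) :=
    ha.isPullback _
  -- square B
  have hga : Representable (g ≫ a) := Functor.relativelyRepresentable.of_diag hX _
  have hB : IsPullback (hga.fst (g' ≫ a)) ((yon S).map (hga.snd (g' ≫ a))) (g ≫ a) (g' ≫ a) :=
    hga.isPullback _
  have hcomm : (hga.fst (g' ≫ a) ≫ g) ≫ a = (yon S).map (hga.snd (g' ≫ a)) ≫ g' ≫ a := by
    rw [Category.assoc]; exact hB.w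
  have hB' : IsPullback (hga.fst (g' ≫ a)) (hA.lift _ _ hcomm ≫ (yon S).map (ha.snd (g' ≫ a)))
      (g ≫ a) (g' ≫ a) := by
    rw [hA.lift_snd]; exact hB
  have hD : IsPullback (hga.fst (g' ≫ a)) (hA.lift _ _ hcomm) g (ha.fst (g' ≫ a)) :=
    IsPullback.of_bot hB' (hA.lift_fst _ _ hcomm).symm hA
  obtain ⟨κ, hκ⟩ := (yon S).map_surjective (hA.lift _ _ hcomm)
  obtain ⟨s', hs'⟩ := (yon S).map_surjective (hA.lift g' (𝟙 _) (by simp))
  have hC : IsPullback ((yon S).map (pullback.fst κ s')) ((yon S).map (pullback.snd κ s'))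
      ((yon S).map κ) ((yon S).map s') := (IsPullback.of_hasPullback κ s').map (yon S)
  rw [hκ] at hC
  have hbig := hC.paste_horiz hD
  rw [hs', hA.lift_fst] at hbig
  exact ⟨_, pullback.snd κ s', _, hbig⟩

/-- Let `X` be an algebraic space over `S` and `G` a presheaf of sets on schemes over `S` with a map `a
: G ⟶ X` of presheaves which is representable by schemes. Then `G` is an fppf sheaf and an algebraic
space over `S`. -/
theorem result (S : Scheme.{u}) (X : AlgSp.Space S)
    (G : AlgSp.PSp S) (a : G ⟶ X.obj.obj) (ha : (AlgSp.pyon S).relativelyRepresentable a) :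
    AlgSp.IsAlgSpaceP G := by
  have hGs : Presheaf.IsSheaf (J S) G := Groth.Agent.S9892.result S G X.obj.obj a ha X.obj.property
  refine ⟨hGs, ?_⟩
  let G' : Sp S := ⟨G, hGs⟩
  let a' : G' ⟶ X.obj := ObjectProperty.homMk a
  have ha' : Representable a' := by
    intro U ξ
    obtain ⟨E, e, c, sq⟩ := ha ξ.hom
    refine ⟨E, e, ObjectProperty.homMk c, ?_⟩
    exact IsPullback.of_map_of_faithful (sheafToPresheaf (J S) (Type (u + 1))) sq
  refine ⟨representable_diag_of_representable X.property.diag a' ha', ?_⟩
  obtain ⟨U, u, hue, hus⟩ := X.property.atlas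
  have hpb : IsPullback (ha'.fst u) ((yon S).map (ha'.snd u)) a' u := ha'.isPullback u
  have i1 := repWith_isStableUnderBaseChange (S := S) @Etale
  have i2 := repWith_isStableUnderBaseChange (S := S) @Surjective
  exact ⟨_, ha'.fst u, MorphismProperty.of_isPullback hpb.flip hue,
    MorphismProperty.of_isPullback hpb.flip hus⟩

end Groth.Agent.S9876
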