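import Groth.Statements.S9886
import Groth.Agent.Helper4.AlgSpSrc
import Mathlib

set_option autoImplicit false
universe u
open CategoryTheory CategoryTheory.Limits AlgebraicGeometry
open AlgSp

namespace Groth.Agent.S9886


set_option backward.isDefEq.respectTransparency false in
/-- Let `F` be an fppf sheaf of sets over `S` and `P` a property of morphisms of schemes stable under
base change. Assume that for all schemes `U`, `V` over `S` and all `a : h_U ⟶ F`, `b : h_V ⟶ F` the
fibre product `h_U ×_F h_V` is represented by some scheme `W` over `S` with its projections induced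
by morphisms `W ⟶ U`, `W ⟶ V`, and that for every such represented fibre product the morphism `W ⟶ U
×_S V` has `P`. Then the diagonal `F ⟶ F × F` is representable by schemes and has `P`. (The
published statement is for a presheaf of sets `F` and a property `P` that is also fppf local on the
base; this row takes `F` an fppf sheaf and `P` only stable under base change.) -/
theorem result (S : Scheme.{u}) (F : AlgSp.Sp S) (P : MorphismProperty Scheme.{u})
    [P.IsStableUnderBaseChange]
    (h₁ : ∀ ⦃U V : Over S⦄ (a : (AlgSp.yon S).obj U ⟶ F) (b : (AlgSp.yon S).obj V ⟶ F),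
      ∃ (W : Over S) (fst : W ⟶ U) (snd : W ⟶ V), IsPullback ((AlgSp.yon S).map fst) ((AlgSp.yon S).map snd) a b)
    (h₂ : ∀ ⦃U V W : Over S⦄ (a : (AlgSp.yon S).obj U ⟶ F) (b : (AlgSp.yon S).obj V ⟶ F) (fst : W ⟶ U)
      (snd : W ⟶ V), IsPullback ((AlgSp.yon S).map fst) ((AlgSp.yon S).map snd) a b → P (prod.lift fst snd).left) :
    AlgSp.RepWith P (Limits.diag F) := by

  have hrep : Representable (Limits.diag F) := by
    apply Functor.relativelyRepresentable.diag_of_map_from_obj
    intro U a V b
    obtain ⟨W, fst, snd, h⟩ := h₁ a b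
    exact ⟨W, snd, (yon S).map fst, h⟩
  refine ⟨hrep, ?_⟩
  intro T E ξ c e sq
  show P e.left
  obtain ⟨W, fst, snd, hW⟩ := h₁ (ξ ≫ Limits.prod.fst) (ξ ≫ Limits.prod.snd)
  have hP : P (prod.lift fst snd).left := h₂ _ _ fst snd hW
  have hc1 : c = (yon S).map e ≫ ξ ≫ Limits.prod.fst := by
    have := congrArg (fun φ => φ ≫ Limits.prod.fst) sq.w
    simpa [Limits.diag] using this
  have hc2 : c = (yon S).map e ≫ ξ ≫ Limits.prod.snd := by
    have := congrArg (fun φ => φ ≫ Limits.prod.snd) sq.w
    simpa [Limits.diag] using this
  have hm1 : Mono ((yon S).map e) := sq.mono_snd_of_mono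
  have hm2 : Mono e := (yon S).mono_of_mono_map hm1
  obtain ⟨k, hk⟩ := (yon S).map_surjective
    (hW.lift ((yon S).map e) ((yon S).map e) (by rw [← hc1, ← hc2]))
  have hk1 : k ≫ fst = e := by
    apply (yon S).map_injective
    rw [(yon S).map_comp, hk, hW.lift_fst]
  have hk2 : k ≫ snd = e := by
    apply (yon S).map_injective
    rw [(yon S).map_comp, hk, hW.lift_snd]
  have hpbO : IsPullback k e (prod.lift fst snd) (Limits.diag T) := by
    have hcomm : k ≫ prod.lift fst snd = e ≫ Limits.diag T := by
      apply Limits.prod.hom_ext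
      · simp [hk1, Limits.diag]
      · simp [hk2, Limits.diag]
    have key : ∀ (c' : PullbackCone (prod.lift fst snd) (Limits.diag T)),
        ∃ m : c'.pt ⟶ E, m ≫ k = c'.fst ∧ m ≫ e = c'.snd := by
      intro c'
      have e1 : c'.fst ≫ fst = c'.snd := by
        have := congrArg (fun φ => φ ≫ Limits.prod.fst) c'.condition
        simpa [Limits.diag] using this
      have e2 : c'.fst ≫ snd = c'.snd := by
        have := congrArg (fun φ => φ ≫ Limits.prod.snd) c'.condition
        simpa [Limits.diag] using this
      have hab : (yon S).map c'.snd ≫ ξ ≫ Limits.prod.fst =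
          (yon S).map c'.snd ≫ ξ ≫ Limits.prod.snd := by
        conv_lhs => rw [← e1, (yon S).map_comp, Category.assoc, hW.w]
        conv_rhs => rw [← e2, (yon S).map_comp, Category.assoc]
      have hcomm' : ((yon S).map c'.snd ≫ ξ ≫ Limits.prod.fst) ≫ Limits.diag F =
          (yon S).map c'.snd ≫ ξ := by
        apply Limits.prod.hom_ext
        · simp [Limits.diag]
        · simp only [Limits.diag, Category.assoc, prod.lift_snd, Category.comp_id]
          exact hab
      obtain ⟨m, hm⟩ := (yon S).map_surjective (sq.lift _ _ hcomm')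
      have hme : m ≫ e = c'.snd := by
        apply (yon S).map_injective
        rw [(yon S).map_comp, hm, sq.lift_snd]
      refine ⟨m, ?_, hme⟩
      apply (yon S).map_injective
      apply hW.hom_ext
      · rw [← (yon S).map_comp, ← (yon S).map_comp, Category.assoc, hk1, hme, e1]
      · rw [← (yon S).map_comp, ← (yon S).map_comp, Category.assoc, hk2, hme, e2]
    refine ⟨⟨hcomm⟩, ⟨PullbackCone.IsLimit.mk _ (fun c' => (key c').choose)
      (fun c' => (key c').choose_spec.1) (fun c' => (key c').choose_spec.2) ?_⟩⟩
    intro c' m' _ h2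
    rw [← cancel_mono e, h2, (key c').choose_spec.2]
  have hsch := hpbO.map (Over.forget S)
  exact MorphismProperty.of_isPullback hsch hP

end Groth.Agent.S9886
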