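import Groth.Statements.S9887
import Mathlib

set_option autoImplicit false
universe u
open CategoryTheory CategoryTheory.Limits AlgebraicGeometry
open AlgSp

namespace Groth.Agent.S9887

/-- Let `a : X ⟶ Y` be a morphism of algebraic spaces over `S` and `q : h_V ⟶ Y` representable etale and
surjective with `V` a scheme over `S`. Then there exist a scheme `U` over `S`, a representable etale
and surjective `p : h_U ⟶ X` and a morphism `α : U ⟶ V` with `p ≫ a = h_α ≫ q`. -/
theorem result (S : Scheme.{u}) (X Y : AlgSp.Space S) (a : X ⟶ Y) {V : Over S}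
    (q : (AlgSp.yon S).obj V ⟶ Y.obj) (hqe : AlgSp.RepWith @Etale q) (hqs : AlgSp.RepWith @Surjective q) :
    ∃ (U : Over S) (p : (AlgSp.yon S).obj U ⟶ X.obj) (α : U ⟶ V),
      AlgSp.RepWith @Etale p ∧ AlgSp.RepWith @Surjective p ∧ p ≫ a.hom = (AlgSp.yon S).map α ≫ q := by

  obtain ⟨U₀, p₀, hp₀e, hp₀s⟩ := X.property.atlas
  have hq := hqe.rep
  let U := hq.pullback (p₀ ≫ a.hom)
  let α : U ⟶ V := hq.fst' (p₀ ≫ a.hom)
  let β : U ⟶ U₀ := hq.snd (p₀ ≫ a.hom)
  have hpb : IsPullback ((yon S).map α) ((yon S).map β) q (p₀ ≫ a.hom) := hq.isPullback' _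
  have hβe : Etale β.left := hqe.property _ _ _ hpb
  have hβs : Surjective β.left := hqs.property _ _ _ hpb
  have i1 : (RepWith (S := S) @Etale).IsStableUnderComposition :=
    (repWith_isMultiplicative (S := S) @Etale).toIsStableUnderComposition
  have i2 : (RepWith (S := S) @Surjective).IsStableUnderComposition :=
    (repWith_isMultiplicative (S := S) @Surjective).toIsStableUnderComposition
  refine ⟨U, (yon S).map β ≫ p₀, α, ?_, ?_, ?_⟩
  · exact MorphismProperty.comp_mem _ _ _ ((repWith_yon_map_iff _ _).2 hβe) hp₀e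
  · exact MorphismProperty.comp_mem _ _ _ ((repWith_yon_map_iff _ _).2 hβs) hp₀s
  · rw [Category.assoc]; exact hpb.w.symm

end Groth.Agent.S9887
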