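import Groth.Statements.S9888
import Groth.Agent.Helper4.AlgSpBasic
import Mathlib

set_option autoImplicit false
universe u
open CategoryTheory CategoryTheory.Limits AlgebraicGeometry
open AlgSp

namespace Groth.Agent.S9888

/-- If `f₂` is mono and `g ≫ f₂ = f₁`, then `g` is a base change of `f₁` along `f₂`. -/
theorem isPullback_of_mono {C : Type*} [Category C] {A B D : C} (g : A ⟶ B) (f₂ : B ⟶ D)
    [Mono f₂] : IsPullback (𝟙 A) g (g ≫ f₂) f₂ := by
  refine ⟨⟨by simp⟩, ⟨PullbackCone.IsLimit.mk _ (fun c => c.fst) ?_ ?_ ?_⟩⟩
  · intro c; simp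
  · intro c
    rw [← cancel_mono f₂, Category.assoc, c.condition]
  · intro c m h1 _
    simpa using h1

/-- Let `F` be an algebraic space over `S`, `f₂ : F₂ ⟶ F` a map of fppf sheaves which is representable
by immersions, `f₁ : F₁ ⟶ F` a map which is representable with property `P`, and `g : F₁ ⟶ F₂` with
`g ≫ f₂ = f₁` (so `F₁ ⊆ F₂` as subsheaves of `F`). Then `g` is representable and has `P`. (The
published statement is the three cases `P` = immersion, open immersion, closed immersion, i.e. a
locally closed, open or closed subspace contained in a locally closed subspace is such a subspace of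
it; the same argument applies to any `P` stable under base change, and the row is stated for such
`P`.) -/
theorem result (S : Scheme.{u}) (F F₁ F₂ : AlgSp.Sp S) (hF : AlgSp.IsAlgSpace F)
    (f₁ : F₁ ⟶ F) (f₂ : F₂ ⟶ F) (P : MorphismProperty Scheme.{u}) [P.IsStableUnderBaseChange]
    (h₁ : AlgSp.RepWith P f₁) (h₂ : AlgSp.RepWith @IsImmersion f₂) (g : F₁ ⟶ F₂) (w : g ≫ f₂ = f₁) :
    AlgSp.RepWith P g := by

  have hm : Mono f₂ := by
    refine Groth.Agent.Helper4.AlgSpBasic.mono_of_repWith (P := @IsImmersion) ?_ f₂ h₂
    intro X Y g hg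
    have : IsImmersion g := hg
    infer_instance
  subst w
  have hpb := isPullback_of_mono g f₂
  have inst : (RepWith (S := S) P).IsStableUnderBaseChange :=
    repWith_isStableUnderBaseChange (S := S) P
  exact MorphismProperty.of_isPullback hpb h₁

end Groth.Agent.S9888
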