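import Groth.Statements.S9902
import Groth.Agent.Helper4.AlgSpDiag
import Mathlib

set_option autoImplicit false
universe u
open CategoryTheory CategoryTheory.Limits AlgebraicGeometry
open AlgSp

namespace Groth.Agent.S9902

/-- Let s be a section of a morphism f : X -> T of algebraic spaces. Then s is representable by schemes
and, in the representable sense, a separated monomorphism that is locally of finite type and locally
quasi-finite; when f is separated s is a closed immersion, and when f is quasi-separated s is
quasi-compact. (The published lemma also shows that s is an immersion when f is locally separated;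
this row omits that clause.) -/
theorem result {S : Scheme.{u}} {X T : AlgSp.Space S} (f : X ⟶ T) (s : T ⟶ X)
    (hs : s ≫ f = 𝟙 T) :
    AlgSp.Representable s.hom ∧
    AlgSp.RepWith @LocallyOfFiniteType s.hom ∧
    AlgSp.RepWith (@LocallyQuasiFinite ⊓ @LocallyOfFiniteType) s.hom ∧
    AlgSp.RepWith @IsSeparated s.hom ∧
    AlgSp.RepWith (MorphismProperty.monomorphisms Scheme.{u}) s.hom ∧
    (AlgSp.IsSeparatedMor f.hom → AlgSp.RepWith @IsClosedImmersion s.hom) ∧
    (AlgSp.IsQuasiSeparatedMor f.hom → AlgSp.RepWith @QuasiCompact s.hom) := by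

  obtain ⟨h1, h2, h3, h4⟩ :=
    Groth.Agent.Helper4.AlgSpDiag.diagonal_properties X.property f.hom
  have hs' : s.hom ≫ f.hom = 𝟙 T.obj := by
    have := congrArg (fun φ => φ.hom) hs
    simpa using this
  have key := pullback_lift_diagonal_isPullback s.hom f.hom
  have hiso : IsIso (s.hom ≫ f.hom) := by rw [hs']; infer_instance
  have hiso2 : IsIso (pullback.snd (s.hom ≫ f.hom) f.hom) := inferInstance
  have hfac : (pullback.lift (𝟙 T.obj) s.hom (by simp) : T.obj ⟶ pullback (s.hom ≫ f.hom) f.hom) ≫
      pullback.snd (s.hom ≫ f.hom) f.hom = s.hom := pullback.lift_snd _ _ _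
  have bc : ∀ (P : MorphismProperty Scheme.{u}), RepWith P (pullback.diagonal f.hom) →
      RepWith P s.hom := by
    intro P hP
    have := repWith_isStableUnderBaseChange (S := S) P
    have h5 : RepWith P (pullback.lift (𝟙 T.obj) s.hom (by simp) :
        T.obj ⟶ pullback (s.hom ≫ f.hom) f.hom) := MorphismProperty.of_isPullback key hP
    rw [← hfac]
    exact (MorphismProperty.cancel_right_of_respectsIso (RepWith (S := S) P) _ _).2 h5
  refine ⟨(bc _ h1).rep, bc _ h1, ?_, bc _ h3, bc _ h2, fun hs => bc _ hs, fun hq => bc _ hq⟩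
  refine ⟨(bc _ h1).rep, ?_⟩
  intro T E ξ c e sq
  exact ⟨(bc _ h4).property ξ c e sq, (bc _ h1).property ξ c e sq⟩

end Groth.Agent.S9902
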