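import Groth.Statements.S9905
import Groth.Agent.Helper4.RelRep
import Mathlib

set_option autoImplicit false
universe u
open CategoryTheory CategoryTheory.Limits AlgebraicGeometry
open AlgSp

namespace Groth.Agent.S9905

instance hasOfPostcomp_inverseImage {S : Scheme.{u}} (P Q : MorphismProperty Scheme.{u})
    [P.HasOfPostcompProperty Q] :
    (P.inverseImage (Over.forget S)).HasOfPostcompProperty (Q.inverseImage (Over.forget S)) where
  of_postcomp f g hg hfg := by
    have : P (f.left ≫ g.left) := hfg
    exact MorphismProperty.of_postcomp (W := P) (W' := Q) f.left g.left hg this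

theorem diag_of_repWith {S : Scheme.{u}} (P Q : MorphismProperty Scheme.{u})
    [P.IsStableUnderBaseChange] [P.IsMultiplicative] [P.HasOfPostcompProperty Q]
    {X Y : Sp S} (f : X ⟶ Y) (hf : RepWith Q f) : RepWith P (pullback.diagonal f) := by
  refine Groth.Agent.Helper4.RelRep.relative_of_section (yon S)
    (P.inverseImage (Over.forget S)) (Q.inverseImage (Over.forget S))
    (pullback.fst f f) ?_ (pullback.diagonal f) (by simp)
  exact MorphismProperty.pullback_fst _ _ hf

theorem repWith_of_diag {S : Scheme.{u}} (P Q : MorphismProperty Scheme.{u})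
    [P.IsStableUnderBaseChange]
    (hPQ : ∀ {A B : Scheme.{u}} (g : A ⟶ B), P (pullback.diagonal g) → Q g)
    {X Y : Sp S} (f : X ⟶ Y) (hf : Representable f) (hd : RepWith P (pullback.diagonal f)) :
    RepWith Q f := by
  refine ⟨hf, ?_⟩
  intro U V g fst snd sq
  have h1 : (RepWith (S := S) P).diagonal f := hd
  have h2 : (RepWith (S := S) P).diagonal ((yon S).map snd) :=
    MorphismProperty.of_isPullback sq h1
  exact hPQ _ ((repWith_diagonal_yon_map_iff P snd).1 h2)

/-- For a morphism of algebraic spaces representable by schemes, separated in the diagonal sense agrees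
with separated in the representable sense, and likewise for quasi-separated. -/
theorem result {S : Scheme.{u}} {X Y : AlgSp.Space S} (f : X ⟶ Y)
    (hf : AlgSp.Representable f.hom) :
    (AlgSp.IsSeparatedMor f.hom ↔ AlgSp.RepWith @IsSeparated f.hom) ∧
    (AlgSp.IsQuasiSeparatedMor f.hom ↔ AlgSp.RepWith @QuasiSeparated f.hom) := by
  refine ⟨⟨fun h => ?_, fun h => ?_⟩, ⟨fun h => ?_, fun h => ?_⟩⟩
  · exact repWith_of_diag @IsClosedImmersion @IsSeparated
      (fun g hg => (isSeparated_iff g).2 hg) f.hom hf h
  · exact diag_of_repWith @IsClosedImmersion @IsSeparated f.hom h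
  · exact repWith_of_diag @QuasiCompact @QuasiSeparated
      (fun g hg => (quasiSeparated_iff g).2 hg) f.hom hf h
  · exact diag_of_repWith @QuasiCompact @QuasiSeparated f.hom h

end Groth.Agent.S9905
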