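import Groth.Statements.S9911
import Groth.Agent.Helper4.AlgSpSrc
import Mathlib

set_option autoImplicit false
universe u
open CategoryTheory CategoryTheory.Limits AlgebraicGeometry Opposite
namespace Groth.Agent.S9911

/-- A morphism from an algebraic space to the spectrum of a field is universally open. -/
theorem result {S : Scheme.{u}} (X : AlgSp.Space S) {k : Type u} [Field k]
    (str : Spec (CommRingCat.of k) ⟶ S) (p : X ⟶ (AlgSp.ofScheme S).obj (Over.mk str)) :
    AlgSp.IsUnivOpenMor p.hom := by

  obtain ⟨U, q, hqe, hqs⟩ := X.property.atlas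
  apply Groth.Agent.Helper4.AlgSpSrc.univOpen_of_precomp_surjective q p.hom hqs
  obtain ⟨φ, hφ⟩ := (AlgSp.yon S).map_surjective
    (X := U) (Y := Over.mk str) (q ≫ p.hom)
  have key : AlgSp.IsUnivOpenMor ((AlgSp.yon S).map φ) := by
    apply Groth.Agent.Helper4.AlgSpPtsDesc.isUnivOpenMor_of_repWith
    refine (AlgSp.repWith_yon_map_iff _ _).2 ?_
    have : IsIntegral (Over.mk str).left := by dsimp; infer_instance
    have : Subsingleton (Over.mk str).left := by dsimp; infer_instance
    infer_instance
  rw [hφ] at key
  exact key

end Groth.Agent.S9911
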