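import Groth.Statements.S9915
import Groth.Agent.Helper4.AlgSpQC2
import Mathlib

set_option autoImplicit false
universe u
open CategoryTheory CategoryTheory.Limits AlgebraicGeometry
open AlgSp

namespace Groth.Agent.S9915


/-- In a commutative triangle of algebraic spaces with f : X -> Y surjective, if X -> Z is quasi-compact
then Y -> Z is quasi-compact. -/
theorem result {S : Scheme.{u}} {X Y Z : AlgSp.Space S} (f : X ⟶ Y)
    (p : X ⟶ Z) (q : Y ⟶ Z) (comm : f ≫ q = p) (hf : AlgSp.IsSurjectiveMor f.hom)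
    (hp : AlgSp.IsQuasiCompactMor p.hom) : AlgSp.IsQuasiCompactMor q.hom := by

  intro W W' hW hqc g a b sq
  have hpb : IsPullback (pullback.fst f.hom a) (pullback.snd f.hom a) f.hom a :=
    IsPullback.of_hasPullback _ _
  have hbig : IsPullback (pullback.fst f.hom a) (pullback.snd f.hom a ≫ b) (f.hom ≫ q.hom) g :=
    hpb.paste_vert sq
  have hp' : AlgSp.IsQuasiCompactMor (f.hom ≫ q.hom) := by
    have : f.hom ≫ q.hom = p.hom := by rw [← comm]; rfl
    rw [this]; exact hp
  have h1 : IsQuasiCompactSp (pullback f.hom a) := hp' hW hqc g _ _ hbig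
  have h2 : IsSurjectiveMor (pullback.snd f.hom a) :=
    Groth.Agent.Helper4.AlgSpPts.isSurjectiveMor_of_isPullback hpb hf
  have h3 : IsAlgSpace W' :=
    Groth.Agent.Helper4.AlgSpPB.isAlgSpace_of_isPullback Z.property.diag Y.property hW _ _ _ _ sq
  exact Groth.Agent.Helper4.AlgSpQC2.isQuasiCompactSp_of_surjective h3 _ h2 h1

end Groth.Agent.S9915
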