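import Groth.Statements.S9918
import Groth.Agent.Helper4.AlgSpQC2
import Mathlib

set_option autoImplicit false
universe u
open CategoryTheory CategoryTheory.Limits AlgebraicGeometry
open AlgSp

namespace Groth.Agent.S9918


/-- (5) ⇒ (1): quasi-compactness of a morphism of algebraic spaces descends along a surjective etale
base change of algebraic spaces. -/
theorem result {S : Scheme.{u}} {X Y Y' X' : AlgSp.Space S}
    (f : X ⟶ Y) (g : Y' ⟶ Y) (fst : X' ⟶ X) (f' : X' ⟶ Y') (sq : IsPullback fst.hom f'.hom f.hom g.hom)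
    (hg : AlgSp.IsEtaleMor g.hom) (hgs : AlgSp.IsSurjectiveMor g.hom) (hf' : AlgSp.IsQuasiCompactMor f'.hom) :
    AlgSp.IsQuasiCompactMor f.hom := by

  have hguo : AlgSp.IsUnivOpenMor g.hom := by
    obtain ⟨U, u, hue, hus⟩ := Y'.property.atlas
    have h1 : RepWith @Etale (u ≫ g.hom) := hg u hue
    have h2 : IsUnivOpenMor (u ≫ g.hom) :=
      Groth.Agent.Helper4.AlgSpPtsDesc.isUnivOpenMor_of_repWith _
        (Groth.Agent.Helper4.AlgSpSrc.repWith_mono (fun g hg => by
          have : Etale g := hg
          infer_instance) h1)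
    exact Groth.Agent.Helper4.AlgSpSrc.univOpen_of_precomp_surjective u g.hom hus h2
  exact Groth.Agent.Helper4.AlgSpQC2.isQuasiCompactMor_descend X.property Y.property Y'.property
    f.hom g.hom fst.hom f'.hom sq hguo hgs hf'

end Groth.Agent.S9918
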