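import Groth.Statements.S9919
import Groth.Agent.Helper4.AlgSpQC
import Mathlib

set_option autoImplicit false
universe u
open CategoryTheory CategoryTheory.Limits AlgebraicGeometry
open AlgSp

namespace Groth.Agent.S9919

/-- For morphisms f : X -> Y and g : Y -> Z of algebraic spaces, quasi-compactness of the composite
together with quasi-separatedness of g forces f to be quasi-compact. -/
theorem result {S : Scheme.{u}} {X Y Z : AlgSp.Space S} (f : X ⟶ Y)
    (g : Y ⟶ Z) (hgf : AlgSp.IsQuasiCompactMor (f ≫ g).hom) (hg : AlgSp.IsQuasiSeparatedMor g.hom) :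
    AlgSp.IsQuasiCompactMor f.hom := by

  have hgf' : IsQuasiCompactMor (f.hom ≫ g.hom) := hgf
  have hpb1 := pullback_lift_diagonal_isPullback f.hom g.hom
  have inst : (RepWith (S := S) @QuasiCompact).IsStableUnderBaseChange :=
    repWith_isStableUnderBaseChange (S := S) @QuasiCompact
  have h1 : RepWith @QuasiCompact (pullback.lift (𝟙 X.obj) f.hom (by simp) :
      X.obj ⟶ pullback (f.hom ≫ g.hom) g.hom) := MorphismProperty.of_isPullback hpb1 hg
  have h1' := Groth.Agent.Helper4.AlgSpQC.isQuasiCompactMor_of_repWith _ h1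
  have hpb2 : IsPullback (pullback.fst (f.hom ≫ g.hom) g.hom) (pullback.snd (f.hom ≫ g.hom) g.hom)
      (f.hom ≫ g.hom) g.hom := IsPullback.of_hasPullback _ _
  have h2 : IsQuasiCompactMor (pullback.snd (f.hom ≫ g.hom) g.hom) :=
    Groth.Agent.Helper4.AlgSpQC.isQuasiCompactMor_of_isPullback hpb2 hgf'
  have hB : IsAlgSpace (pullback (f.hom ≫ g.hom) g.hom) :=
    Groth.Agent.Helper4.AlgSpPB.isAlgSpace_of_isPullback Z.property.diag X.property Y.property
      _ _ _ _ hpb2
  have h3 := Groth.Agent.Helper4.AlgSpQC.isQuasiCompactMor_comp hB Y.property.diag _ _ h1' h2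
  have e : (pullback.lift (𝟙 X.obj) f.hom (by simp) : X.obj ⟶ pullback (f.hom ≫ g.hom) g.hom) ≫
      pullback.snd (f.hom ≫ g.hom) g.hom = f.hom := pullback.lift_snd _ _ _
  rw [e] at h3
  exact h3

end Groth.Agent.S9919
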