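import Groth.Statements.S9921
import Groth.Agent.Helper4.AlgSpQS
import Mathlib

set_option autoImplicit false
universe u
open CategoryTheory CategoryTheory.Limits AlgebraicGeometry
open AlgSp

namespace Groth.Agent.S9921


/-- Over a base scheme with quasi-separated underlying space, a fibre product of algebraic spaces that
are quasi-compact and quasi-separated over S is again quasi-compact and quasi-separated over S. (The
published statement takes quasi-separatedness in the absolute sense; this row takes it over S and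
assumes S quasi-separated.) -/
theorem result {S : Scheme.{u}} [QuasiSeparatedSpace ↥S] {X Y Z P : AlgSp.Space S}
    (f : X ⟶ Y) (g : Z ⟶ Y) (fst : P ⟶ X) (snd : P ⟶ Z) (sq : IsPullback fst.hom snd.hom f.hom g.hom)
    (hX : AlgSp.IsQuasiCompactSp X.obj ∧ AlgSp.IsQuasiSeparatedSp X.obj)
    (hY : AlgSp.IsQuasiCompactSp Y.obj ∧ AlgSp.IsQuasiSeparatedSp Y.obj)
    (hZ : AlgSp.IsQuasiCompactSp Z.obj ∧ AlgSp.IsQuasiSeparatedSp Z.obj) :
    AlgSp.IsQuasiCompactSp P.obj ∧ AlgSp.IsQuasiSeparatedSp P.obj := by

  have hfq : IsQuasiCompactMor f.hom :=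
    Groth.Agent.Helper4.AlgSpQS.isQuasiCompactMor_of_qc_qs f.hom hX.1 hY.2
  refine ⟨hfq Z.property hZ.1 g.hom fst.hom snd.hom sq, ?_⟩
  refine (Groth.Agent.Helper4.AlgSpDiag.repWith_diag_iff _ _).2 ?_
  have i1 := repWith_isStableUnderBaseChange (S := S) @QuasiCompact
  have i2 := (repWith_isMultiplicative (S := S) @QuasiCompact).toIsStableUnderComposition
  have hX' : (RepWith (S := S) @QuasiCompact).diagonal (terminal.from X.obj) :=
    (Groth.Agent.Helper4.AlgSpDiag.repWith_diag_iff _ _).1 hX.2
  have hZ' : (RepWith (S := S) @QuasiCompact).diagonal (terminal.from Z.obj) :=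
    (Groth.Agent.Helper4.AlgSpDiag.repWith_diag_iff _ _).1 hZ.2
  have e : terminal.from X.obj = f.hom ≫ terminal.from Y.obj := Subsingleton.elim _ _
  rw [e] at hX'
  have hf : (RepWith (S := S) @QuasiCompact).diagonal f.hom :=
    Groth.Agent.Helper4.AlgSpPB.diagonal_of_comp _ _ _ hX'
  have hsnd : (RepWith (S := S) @QuasiCompact).diagonal snd.hom :=
    MorphismProperty.of_isPullback sq hf
  have e' : terminal.from P.obj = snd.hom ≫ terminal.from Z.obj := Subsingleton.elim _ _
  show (RepWith (S := S) @QuasiCompact).diagonal (terminal.from P.obj)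
  rw [e']
  exact MorphismProperty.comp_mem _ _ _ hsnd hZ'

end Groth.Agent.S9921
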