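import Groth.Statements.S9927
import Groth.Agent.Helper4.AlgSpBasic
import Mathlib

set_option autoImplicit false
universe u
open CategoryTheory CategoryTheory.Limits AlgebraicGeometry
open AlgSp

namespace Groth.Agent.S9927

/-- (4) ⇒ (1): being a monomorphism descends along a surjective etale base change from a scheme. -/
theorem result {S : Scheme.{u}} {X Y : AlgSp.Space S} (f : X ⟶ Y) (V : Over S)
    (p : (AlgSp.yon S).obj V ⟶ Y.obj) (hp : AlgSp.RepWith @Etale p) (hps : AlgSp.RepWith @Surjective p)
    {P : AlgSp.Sp S} (fst : P ⟶ X.obj) (snd : P ⟶ (AlgSp.yon S).obj V) (sq : IsPullback fst snd f.hom p)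
    [Mono snd] : Mono f.hom := by

  apply Groth.Agent.Helper4.AlgSpBasic.mono_of_yon
  intro T a b hab
  have hp' := hp.rep
  let T' := hp'.pullback (a ≫ f.hom)
  let v : T' ⟶ V := hp'.fst' (a ≫ f.hom)
  let t : T' ⟶ T := hp'.snd (a ≫ f.hom)
  have hpb : IsPullback ((yon S).map v) ((yon S).map t) p (a ≫ f.hom) := hp'.isPullback' _
  have hte : Etale t.left := hp.property _ _ _ hpb
  have hts : Surjective t.left := hps.property _ _ _ hpb
  have ha : ((yon S).map t ≫ a) ≫ f.hom = (yon S).map v ≫ p := by
    rw [Category.assoc]; exact hpb.w.symm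
  have hb : ((yon S).map t ≫ b) ≫ f.hom = (yon S).map v ≫ p := by
    rw [Category.assoc, ← hab]; exact hpb.w.symm
  have h1 : sq.lift ((yon S).map t ≫ a) ((yon S).map v) ha =
      sq.lift ((yon S).map t ≫ b) ((yon S).map v) hb := by
    rw [← cancel_mono snd, sq.lift_snd, sq.lift_snd]
  have h2 := congrArg (· ≫ fst) h1
  simp only [IsPullback.lift_fst] at h2
  exact Groth.Agent.Helper4.AlgSpBasic.yon_map_cancel t a b h2

end Groth.Agent.S9927
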