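import Groth.Statements.S9929
import Groth.Agent.Helper4.AlgSpSrc
import Groth.Agent.S9872
import Mathlib

set_option autoImplicit false
universe u v₁ u₁
open CategoryTheory CategoryTheory.Limits AlgebraicGeometry
open AlgSp

namespace Groth.Agent.S9929

/-- Cancelling a monomorphism in a pullback square. -/
theorem isPullback_of_comp_mono {C : Type u₁} [Category.{v₁} C] {A X Y Z Z' : C} {fst : A ⟶ X}
    {snd : A ⟶ Y} {a : X ⟶ Z} {b : Y ⟶ Z} (m : Z ⟶ Z') [Mono m]
    (sq : IsPullback fst snd (a ≫ m) (b ≫ m)) : IsPullback fst snd a b := by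
  have hw : fst ≫ a = snd ≫ b := by
    rw [← cancel_mono m, Category.assoc, Category.assoc]; exact sq.w
  refine ⟨⟨hw⟩, ⟨PullbackCone.IsLimit.mk _ (fun c => sq.lift c.fst c.snd ?_) ?_ ?_ ?_⟩⟩
  · rw [← Category.assoc, c.condition, Category.assoc]
  · intro c; exact sq.lift_fst _ _ _
  · intro c; exact sq.lift_snd _ _ _
  · intro c k h1 h2
    apply sq.hom_ext
    · rw [sq.lift_fst]; exact h1
    · rw [sq.lift_snd]; exact h2

set_option backward.isDefEq.respectTransparency.types false in
/-- A monomorphism from an algebraic space to the spectrum of a field is either the empty space or an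
isomorphism. -/
theorem result {S : Scheme.{u}} {k : Type u} [Field k] (str : Spec (CommRingCat.of k) ⟶ S)
    (Z : AlgSp.Space S) (f : Z ⟶ (AlgSp.ofScheme S).obj (Over.mk str)) [Mono f.hom] :
    IsEmpty (AlgSp.Points Z.obj) ∨ IsIso f := by
  obtain ⟨U, u, hue, hus⟩ := Z.property.atlas
  by_cases hne : Nonempty ↥U.left
  · right
    obtain ⟨φ, hφ⟩ := (yon S).map_surjective (X := U) (Y := Over.mk str) (u ≫ f.hom)
    have hUU : IsPullback (pullback.fst φ φ) (pullback.snd φ φ) φ φ := IsPullback.of_hasPullback _ _
    have h1 : IsPullback ((yon S).map (pullback.fst φ φ)) ((yon S).map (pullback.snd φ φ))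
        (u ≫ f.hom) (u ≫ f.hom) := by
      have := hUU.map (yon S)
      rw [hφ] at this
      exact this
    have h2 : IsPullback ((yon S).map (pullback.fst φ φ)) ((yon S).map (pullback.snd φ φ)) u u :=
      isPullback_of_comp_mono f.hom h1
    have hpe : Etale (pullback.snd φ φ).left := hue.property _ _ _ h2
    have hsch : IsPullback (pullback.fst φ φ).left (pullback.snd φ φ).left φ.left φ.left :=
      hUU.map (Over.forget S)
    obtain ⟨x⟩ := hne
    obtain ⟨U'', hU', hxU', -⟩ := TopologicalSpace.Opens.isBasis_iff_nbhd.mp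
      U.left.isBasis_affineOpens (TopologicalSpace.Opens.mem_top x)
    let U' : U.left.Opens := U''
    have hB : IsPullback (pullback.fst (pullback.snd φ φ).left U'.ι)
        (pullback.snd (pullback.snd φ φ).left U'.ι) (pullback.snd φ φ).left U'.ι :=
      IsPullback.of_hasPullback _ _
    have hbig : IsPullback (pullback.snd (pullback.snd φ φ).left U'.ι)
        (pullback.fst (pullback.snd φ φ).left U'.ι ≫ (pullback.fst φ φ).left)
        (U'.ι ≫ φ.left) φ.left := hB.flip.paste_vert hsch.flip
    have hb2 : Etale (pullback.snd (pullback.snd φ φ).left U'.ι) :=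
      MorphismProperty.of_isPullback hB hpe
    have hint : IsIntegral (Over.mk str).left := by dsimp; infer_instance
    have hsub : Subsingleton ↥(Over.mk str).left := by dsimp; infer_instance
    have hsurj' : Surjective (U'.ι ≫ φ.left) :=
      ⟨fun y => ⟨⟨x, hxU'⟩, Subsingleton.elim _ _⟩⟩
    have hflat : Flat (U'.ι ≫ φ.left) := inferInstance
    have haff : IsAffine U'.toScheme := hU'
    have hqc : QuasiCompact (U'.ι ≫ φ.left) := by
      have : IsAffine (Over.mk str).left := by dsimp; infer_instance
      exact HasAffineProperty.iff_of_isAffine.mpr (inferInstance : CompactSpace ↥U'.toScheme)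
    have hφe : Etale φ.left :=
      MorphismProperty.of_isPullback_of_descendsAlong (P := @Etale)
        (Q := (@Surjective ⊓ @Flat ⊓ @QuasiCompact)) hbig ⟨⟨hsurj', hflat⟩, hqc⟩ hb2
    have hφs : Surjective φ.left := ⟨fun y => ⟨x, Subsingleton.elim _ _⟩⟩
    have hepi : Epi ((yon S).map φ) :=
      Groth.Agent.S9872.epi_of_atlas S _ _ ((repWith_yon_map_iff _ _).2 hφe)
        ((repWith_yon_map_iff _ _).2 hφs)
    rw [hφ] at hepi
    have hepi' : Epi f.hom := @epi_of_epi _ _ _ _ _ u f.hom hepi
    have hiso : IsIso f.hom := isIso_of_mono_of_epi f.hom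
    have : IsIso ((ObjectProperty.ι _).map f) := hiso
    exact isIso_of_reflects_iso f (ObjectProperty.ι _)
  · left
    refine ⟨fun z => ?_⟩
    obtain ⟨t, -⟩ := Groth.Agent.Helper4.AlgSpPts.isSurjectiveMor_of_repWith u hus z
    exact hne ⟨(Points.schemeHomeo U).symm t⟩

end Groth.Agent.S9929
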