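import Groth.Statements.S9930
import Groth.Agent.Helper4.AlgSpQC2
import Mathlib

set_option autoImplicit false
universe u
open CategoryTheory CategoryTheory.Limits AlgebraicGeometry
open AlgSp

namespace Groth.Agent.S9930


/-- For a morphism of algebraic spaces representable by schemes, representable universal submersiveness
is equivalent to |Z x_Y X| -> |Z| being a quotient map after every base change along a morphism of
algebraic spaces. -/
theorem result {S : Scheme.{u}} {X Y : AlgSp.Space S} (f : X ⟶ Y)
    (hf : AlgSp.Representable f.hom) :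
    AlgSp.RepWith SGA1.UnivSubmersive f.hom ↔ AlgSp.IsUnivSubmersiveMor f.hom := by

  have key : ∀ {T T' : Over S} (φ : T ⟶ T'),
      Topology.IsQuotientMap (Points.map ((yon S).map φ)) ↔
        Topology.IsQuotientMap (fun t => φ.left t) := by
    intro T T' φ
    rw [Points.map_yon_map_eq]
    constructor
    · intro h
      have h2 := ((Points.schemeHomeo T').symm.isQuotientMap.comp h).comp
        (Points.schemeHomeo T).isQuotientMap
      convert h2 using 1
      ext t
      simp
    · intro h
      exact ((Points.schemeHomeo T').isQuotientMap.comp h).comp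
        (Points.schemeHomeo T).symm.isQuotientMap
  constructor
  · intro h W W' hW g a b sq
    obtain ⟨U, q, hqe, hqs⟩ := hW.atlas
    have hr := h.rep
    have hpb : IsPullback (hr.fst (q ≫ g)) ((yon S).map (hr.snd (q ≫ g))) f.hom (q ≫ g) :=
      hr.isPullback _
    have hsub : SGA1.UnivSubmersive (hr.snd (q ≫ g)).left := h.property _ _ _ hpb
    have hquot : Topology.IsQuotientMap (fun t => (hr.snd (q ≫ g)).left t) :=
      hsub _ _ _ IsPullback.of_id_snd
    have hquot' := (key (hr.snd (q ≫ g))).2 hquot
    have hcomm : hr.fst (q ≫ g) ≫ f.hom = ((yon S).map (hr.snd (q ≫ g)) ≫ q) ≫ g := by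
      rw [Category.assoc]; exact hpb.w
    have hm : sq.lift _ _ hcomm ≫ b = (yon S).map (hr.snd (q ≫ g)) ≫ q := sq.lift_snd _ _ _
    have hqsurj : Function.Surjective (Points.map q) :=
      Groth.Agent.Helper4.AlgSpPts.isSurjectiveMor_of_repWith q hqs
    show Topology.IsQuotientMap (Points.map b)
    rw [Topology.isQuotientMap_iff, Topology.isCoinducing_iff]
    refine ⟨?_, ?_⟩
    swap
    · intro w
      obtain ⟨u', rfl⟩ := hqsurj w
      obtain ⟨s, rfl⟩ := hquot'.surjective u'
      refine ⟨Points.map (sq.lift _ _ hcomm) s, ?_⟩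
      rw [← Points.map_comp, hm, Points.map_comp]
    · intro A
      constructor
      swap
      · intro hA
        exact hA.preimage (Points.continuous_map b)
      · intro hA
        apply Groth.Agent.Helper4.AlgSpPtsDesc.isOpen_of_isOpen_preimage q hqe hqs
        rw [← hquot'.isOpen_preimage]
        have : Points.map ((yon S).map (hr.snd (q ≫ g))) ⁻¹' (Points.map q ⁻¹' A) =
            Points.map (sq.lift _ _ hcomm) ⁻¹' (Points.map b ⁻¹' A) := by
          ext s
          simp only [Set.mem_preimage]
          rw [← Points.map_comp, ← Points.map_comp, hm]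
        rw [this]
        exact hA.preimage (Points.continuous_map _)
  · intro h
    refine ⟨hf, ?_⟩
    intro T E ξ c e sq
    intro X' Y' i₁ i₂ f' hpb
    obtain ⟨X'o, Y'o, f'o, g, a, rfl, rfl, hf', hsq⟩ :=
      Groth.Agent.Helper4.AlgSpPtsDesc.lift_square sq i₁ i₂ f' hpb
    obtain rfl := eq_of_heq hf'
    have := h (IsAlgSpace.yon_obj Y'o) g a _ hsq
    exact (key f'o).1 this

end Groth.Agent.S9930
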