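import Groth.Statements.S9934
import Groth.Agent.Helper4.AlgSpQC2
import Mathlib

set_option autoImplicit false
universe u
open CategoryTheory CategoryTheory.Limits AlgebraicGeometry
open AlgSp

namespace Groth.Agent.S9934


/-- An immersion of algebraic spaces is a closed immersion exactly when its image on points is closed. -/
theorem result {S : Scheme.{u}} {Z X : AlgSp.Space S} (i : Z ⟶ X)
    (hi : AlgSp.RepWith @IsImmersion i.hom) :
    AlgSp.RepWith @IsClosedImmersion i.hom ↔ IsClosed (Set.range (AlgSp.Points.map i.hom)) := by

  constructor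
  · intro hci
    have h1 : IsUnivClosedMor i.hom :=
      Groth.Agent.Helper4.AlgSpPtsDesc.isUnivClosedMor_of_repWith _
        (Groth.Agent.Helper4.AlgSpSrc.repWith_mono (fun g hg => by
          have : IsClosedImmersion g := hg
          infer_instance) hci)
    have h2 : IsClosedMap (Points.map i.hom) :=
      h1 X.property (𝟙 _) (𝟙 _) i.hom IsPullback.of_id_fst
    rw [← Set.image_univ]
    exact h2 _ isClosed_univ
  · intro hcl
    refine ⟨hi.rep, ?_⟩
    intro T E ξ c e sq
    have himm : IsImmersion e.left := hi.property _ _ _ sq
    show IsClosedImmersion e.left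
    have hrange : Set.range e.left = Points.ofPt ξ ⁻¹' (Set.range (Points.map i.hom)) := by
      ext t
      constructor
      · rintro ⟨s, rfl⟩
        refine ⟨Points.ofPt c s, ?_⟩
        rw [Points.map_ofPt, sq.w, Groth.Agent.Helper4.AlgSpPtsDesc.ofPt_yon_map_comp]
      · rintro ⟨z, hz⟩
        have h1 : Points.map i.hom z = Points.map ξ (Points.schemeHomeo T t) := by
          rw [hz, Groth.Agent.Helper4.AlgSpQC2.ofPt_eq_map_schemeHomeo]
        obtain ⟨p, -, hp2⟩ :=
          Groth.Agent.Helper4.AlgSpPtsDesc.exists_point_of_isPullback sq z _ h1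
        obtain ⟨s, rfl⟩ := (Points.schemeHomeo E).surjective p
        rw [Points.map_yon_map_apply] at hp2
        exact ⟨s, (Points.schemeHomeo T).injective hp2⟩
    have hclosed : IsClosed (Set.range e.left) := by
      rw [hrange]
      exact hcl.preimage (Points.continuous_ofPt ξ)
    exact IsClosedImmersion.of_isPreimmersion _ hclosed

end Groth.Agent.S9934
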