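import Groth.Statements.S9941
import Groth.Agent.Helper5.ZarGlue5
import Groth.Agent.Helper4.AlgSpLocal
import Groth.Agent.Helper5.AlgSpFin

set_option autoImplicit false
universe u
open CategoryTheory CategoryTheory.Limits AlgebraicGeometry
open AlgSp

namespace Groth.Agent.S9941

/-- (2) ⇒ (1): an affine morphism of algebraic spaces is representable (and representable-affine). -/
theorem result {S : Scheme.{u}} {X Y : AlgSp.Space S} (f : X ⟶ Y)
    (hf : AlgSp.IsAffineMor f.hom) : AlgSp.RepWith @IsAffineHom f.hom := by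
  apply Groth.Agent.Helper4.AlgSpLocal.repWith_of_affine @IsAffineHom f.hom
    (Groth.Agent.Helper5.ZarGlue.representable_of_affine f.hom (fun Z hZ g => by
      obtain ⟨W, i, fst, sq, -⟩ := hf hZ g
      exact ⟨W, i, fst, sq⟩))
  intro T E ξ c e hT sq
  obtain ⟨W, i, fst, sq', hW⟩ := hf hT ξ
  obtain ⟨φ, hφ, -⟩ := Groth.Agent.Helper5.AlgSpFin.exists_iso_of_isPullback sq sq'
  have e1 : (AlgSp.yon S).preimage φ.hom ≫ i = e :=
    (AlgSp.yon S).map_injective (by rw [Functor.map_comp, Functor.map_preimage, hφ])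
  have h1 : IsIso ((AlgSp.yon S).map ((AlgSp.yon S).preimage φ.hom)) := by
    rw [Functor.map_preimage]; infer_instance
  have h2 : IsIso ((AlgSp.yon S).preimage φ.hom) :=
    (Functor.FullyFaithful.ofFullyFaithful (AlgSp.yon S)).isIso_of_isIso_map _
  have h3 : IsIso ((AlgSp.yon S).preimage φ.hom).left :=
    (Over.forget S).map_isIso ((AlgSp.yon S).preimage φ.hom)
  have e2 : e.left = ((AlgSp.yon S).preimage φ.hom).left ≫ i.left := by rw [← e1]; rfl
  rw [e2]
  have : IsAffine W.left := hW
  have : IsAffine T.left := hT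
  infer_instance

end Groth.Agent.S9941
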