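import Groth.Statements.S9944
import Groth.Agent.Helper5.AlgSpAff
import Mathlib

set_option autoImplicit false
universe u
open CategoryTheory CategoryTheory.Limits AlgebraicGeometry
open AlgSp

namespace Groth.Agent.S9944


/-- Let g : X -> Y be a morphism over a base algebraic space B with X affine over B. Then g is affine as
soon as the diagonal of Y over B is affine, and in particular as soon as Y is B-separated. (The
published lemma also has two versions with the absolute diagonal of Y; this row states the versions
over B.) -/
theorem result {S : Scheme.{u}} {X Y B : AlgSp.Space S} (g : X ⟶ Y) (p : X ⟶ B)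
    (q : Y ⟶ B) (comm : g ≫ q = p) (hp : AlgSp.IsAffineMor p.hom) :
    (AlgSp.IsAffineMor (pullback.diagonal q.hom) → AlgSp.IsAffineMor g.hom) ∧
    (AlgSp.IsSeparatedMor q.hom → AlgSp.IsAffineMor g.hom) := by

  subst comm
  have hp' : AlgSp.IsAffineMor (g.hom ≫ q.hom) := hp
  constructor
  · intro hΔ
    have sq : IsPullback (pullback.fst (g.hom ≫ q.hom) q.hom) (pullback.snd (g.hom ≫ q.hom) q.hom)
        (g.hom ≫ q.hom) q.hom := IsPullback.of_hasPullback _ _
    have h1 := Groth.Agent.Helper5.AlgSpAff.isAffineMor_of_isPullback
      (pullback_lift_diagonal_isPullback g.hom q.hom) hΔ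
    have h2 : AlgSp.IsAffineMor (pullback.snd (g.hom ≫ q.hom) q.hom) :=
      Groth.Agent.Helper5.AlgSpAff.isAffineMor_of_isPullback sq hp'
    have := Groth.Agent.Helper5.AlgSpAff.isAffineMor_comp _ _ h1 h2
    rwa [Groth.Agent.Helper5.AlgSpProper.graph_snd] at this
  · intro hq
    exact Groth.Agent.Helper5.AlgSpAff.isAffineMor_of_comp_separated g.hom q.hom hq hp'

end Groth.Agent.S9944
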