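import Groth.Statements.S9950
import Groth.Agent.Helper4.SchemeSD
import Groth.Agent.Helper4.AlgSpLocP2
import Mathlib

set_option autoImplicit false
universe u
open CategoryTheory CategoryTheory.Limits AlgebraicGeometry
open AlgSp

namespace Groth.Agent.S9950


/-- (6) ⇒ (1): if f ∘ φ is locally of finite type for one surjective etale chart φ of the source, then f
is locally of finite type. -/
theorem result {S : Scheme.{u}} {X Y : AlgSp.Space S} (f : X ⟶ Y) (U : Over S)
    (φ : (AlgSp.yon S).obj U ⟶ X.obj) (hφ : AlgSp.RepWith @Etale φ) (hφs : AlgSp.RepWith @Surjective φ)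
    (h : AlgSp.LocP @LocallyOfFiniteType (φ ≫ f.hom)) : AlgSp.LocP @LocallyOfFiniteType f.hom := by

  intro A V a b g ha hb comm
  have hr := hφ.rep
  have hpb : IsPullback (hr.fst a) ((yon S).map (hr.snd a)) φ a := hr.isPullback a
  obtain ⟨d, hd⟩ := (yon S).map_surjective (hr.fst a)
  rw [← hd] at hpb
  clear hd
  have hee : Etale (hr.snd a).left := hφ.property _ _ _ hpb
  have hes : Surjective (hr.snd a).left := hφs.property _ _ _ hpb
  have hde : Etale d.left := ha.property _ _ _ hpb.flip
  generalize hr.snd a = e at hpb hee hes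
  have hlft : LocallyOfFiniteType (e ≫ g).left :=
    h ((yon S).map d) b (e ≫ g) ((repWith_yon_map_iff _ _).2 hde) hb (by
      rw [← Category.assoc, hpb.w, Category.assoc, comm, Functor.map_comp, Category.assoc])
  have : LocallyOfFiniteType (e.left ≫ g.left) := hlft
  exact Groth.Agent.Helper4.SchemeSD.locallyOfFiniteType_of_comp_etale_surjective e.left g.left

end Groth.Agent.S9950
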