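import Groth.Statements.S9951
import Groth.Agent.Helper4.AlgSpLocP2
import Mathlib

set_option autoImplicit false
universe u
open CategoryTheory CategoryTheory.Limits AlgebraicGeometry
open AlgSp

namespace Groth.Agent.S9951


/-- The source of a morphism locally of finite type with locally Noetherian target is locally
Noetherian. -/
theorem result {S : Scheme.{u}} {X Y : AlgSp.Space S} (f : X ⟶ Y)
    (hf : AlgSp.LocP @LocallyOfFiniteType f.hom) (hY : AlgSp.IsLocNoethSp Y.obj) : AlgSp.IsLocNoethSp X.obj := by

  obtain ⟨V, v, hve, hvs, hVn⟩ := hY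
  obtain ⟨U, u, hue, hus⟩ := X.property.atlas
  obtain ⟨E, e, c, hee, hes, h1, h2, h3, -⟩ :=
    Groth.Agent.Helper4.AlgSpLocP2.exists_chart f.hom u hue hus v hve hvs
  have hl : LocallyOfFiniteType c.left := hf _ v c h1 hve h3
  have hVn' : IsLocallyNoetherian V.left := hVn
  exact ⟨E, _, h1, h2, LocallyOfFiniteType.isLocallyNoetherian c.left⟩

end Groth.Agent.S9951
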