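import Groth.Statements.S9954
import Groth.Agent.Helper4.AlgSpGeomPt
import Mathlib

set_option autoImplicit false
universe u
open CategoryTheory CategoryTheory.Limits AlgebraicGeometry
open AlgSp

namespace Groth.Agent.S9954


/-- A morphism locally of finite type is surjective if and only if it is surjective on k-valued points
for every algebraically closed field k over the base. -/
theorem result {S : Scheme.{u}} {X Y : AlgSp.Space S} (f : X ⟶ Y)
    (hf : AlgSp.LocP @LocallyOfFiniteType f.hom) :
    AlgSp.IsSurjectiveMor f.hom ↔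
      ∀ (k : Type u) [Field k] [IsAlgClosed k] (str : Spec (CommRingCat.of k) ⟶ S)
        (y : (AlgSp.yon S).obj (Over.mk str) ⟶ Y.obj),
        ∃ x : (AlgSp.yon S).obj (Over.mk str) ⟶ X.obj, x ≫ f.hom = y := by

  constructor
  · intro hs k _ _ str y
    exact Groth.Agent.Helper4.AlgSpGeomPt.exists_lift_geometric_point X.property Y.property
      f.hom hf hs k str y
  · intro h y
    induction y using Points.ind with
    | h p =>
      let k := AlgebraicClosure p.K
      let a₀ : Spec (CommRingCat.of k) ⟶ Spec (CommRingCat.of p.K) :=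
        Spec.map (CommRingCat.ofHom (algebraMap p.K k))
      let w := a₀ ≫ p.str
      let a : Over.mk w ⟶ p.pt := Over.homMk a₀ rfl
      obtain ⟨x, hx⟩ := h k w ((yon S).map a ≫ Groth.Agent.Helper4.AlgSpInj.toHom p)
      refine ⟨Points.mk (Groth.Agent.Helper4.AlgSpInj.ofHom x), ?_⟩
      rw [Points.map_mk]
      apply Points.sound
      rw [Groth.Agent.Helper4.AlgSpInj.rel_iff]
      refine ⟨k, inferInstance, w, 𝟙 _, a, ?_⟩
      rw [Groth.Agent.Helper4.AlgSpInj.toHom_map, Groth.Agent.Helper4.AlgSpInj.toHom_ofHom]
      refine Eq.trans ?_ hx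
      exact (congrArg (· ≫ x ≫ f.hom) ((yon S).map_id _)).trans (Category.id_comp _)

end Groth.Agent.S9954
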