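import Groth.Statements.S9956
import Groth.Agent.Helper4.AlgSpLocP2
import Groth.Agent.Helper4.SchLQF
import Mathlib

set_option autoImplicit false
universe u
open CategoryTheory CategoryTheory.Limits AlgebraicGeometry
open AlgSp

namespace Groth.Agent.S9956


set_option backward.isDefEq.respectTransparency.types false in
/-- For morphisms X -> Y -> Z of algebraic spaces, local quasi-finiteness of the composite implies that
of the first map (locally quasi-finite includes locally of finite type, etale locally on source and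
target). -/
theorem result {S : Scheme.{u}} {X Y Z : AlgSp.Space S} (f : X ⟶ Y) (g : Y ⟶ Z)
    (h : AlgSp.LocP ((@LocallyQuasiFinite : MorphismProperty Scheme.{u}) ⊓ @LocallyOfFiniteType) (f ≫ g).hom) :
    AlgSp.LocP ((@LocallyQuasiFinite : MorphismProperty Scheme.{u}) ⊓ @LocallyOfFiniteType) f.hom := by

  intro U V a b k ha hb comm
  obtain ⟨W, c, hce, hcs⟩ := Z.property.atlas
  have comm' : a ≫ (f ≫ g).hom = (yon S).map k ≫ (b ≫ g.hom) := by
    change a ≫ f.hom ≫ g.hom = _
    rw [← Category.assoc, comm, Category.assoc]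
  obtain ⟨U', V', e, d, pfst, psnd, hee, hes, hpb, h1, h2, hbig⟩ :=
    Groth.Agent.Helper4.AlgSpLocP2.chart_base_change (f ≫ g).hom c hce hcs a (b ≫ g.hom) k comm'
  have hpe : Etale pfst.left := MorphismProperty.of_isPullback h1 hee
  have hps : Surjective pfst.left := MorphismProperty.of_isPullback h1 hes
  have ha' : RepWith @Etale ((yon S).map pfst ≫ a) :=
    Groth.Agent.Helper4.AlgSpSrc.repWith_comp _ ((repWith_yon_map_iff _ _).2 hpe) ha
  have hc' : ((yon S).map pfst ≫ a) ≫ (f ≫ g).hom = (yon S).map (psnd ≫ d) ≫ c := by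
    rw [Category.assoc, (yon S).map_comp]; exact hbig.w.symm
  have hl := h _ c (psnd ≫ d) ha' hce hc'
  have hl1 : LocallyQuasiFinite (psnd.left ≫ d.left) := hl.1
  have hl2 : LocallyOfFiniteType (psnd.left ≫ d.left) := hl.2
  have hl2' : LocallyOfFiniteType psnd.left := locallyOfFiniteType_of_comp psnd.left d.left
  have hk : LocallyOfFiniteType k.left :=
    MorphismProperty.of_isPullback_of_descendsAlong (P := @LocallyOfFiniteType)
      (Q := (@Surjective ⊓ @Flat ⊓ @LocallyOfFinitePresentation)) h1
      ⟨⟨hes, inferInstance⟩, inferInstance⟩ hl2'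
  have hl1' : LocallyQuasiFinite psnd.left := LocallyQuasiFinite.of_comp psnd.left d.left
  have heq : LocallyQuasiFinite e.left := Groth.Agent.Helper4.SchLQF.locallyQuasiFinite_of_etale _
  have hcomp : LocallyQuasiFinite (pfst.left ≫ k.left) := by
    rw [← h1.w]; infer_instance
  refine ⟨?_, hk⟩
  exact Groth.Agent.Helper4.SchLQF.locallyQuasiFinite_of_comp_surjective_open pfst.left k.left
    pfst.left.isOpenMap hps.surj

end Groth.Agent.S9956
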