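import Groth.Statements.S9957
import Groth.Agent.Helper4.AlgSpLocP2
import Groth.Agent.Helper4.AlgSpDiag
import Groth.Agent.S9951
import Mathlib

set_option autoImplicit false
universe u
open CategoryTheory CategoryTheory.Limits AlgebraicGeometry
open AlgSp

namespace Groth.Agent.S9957


/-- The source of a morphism of finite presentation whose target is Noetherian is itself Noetherian,
Noetherian meaning quasi-compact, quasi-separated over S and locally Noetherian. (The published
statement uses quasi-separatedness in the absolute sense; this row uses quasi-separatedness over S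
in hypothesis and conclusion.) -/
theorem result {S : Scheme.{u}} {X Y : AlgSp.Space S} (f : X ⟶ Y)
    (hf : AlgSp.IsFinitePresentationMor f.hom)
    (hY : AlgSp.IsQuasiCompactSp Y.obj ∧ AlgSp.IsQuasiSeparatedSp Y.obj ∧ AlgSp.IsLocNoethSp Y.obj) :
    AlgSp.IsQuasiCompactSp X.obj ∧ AlgSp.IsQuasiSeparatedSp X.obj ∧ AlgSp.IsLocNoethSp X.obj := by

  obtain ⟨hfp, hqc, hqs⟩ := hf
  obtain ⟨hY1, hY2, hY3⟩ := hY
  refine ⟨?_, ?_, ?_⟩
  · exact hqc Y.property hY1 (𝟙 Y.obj) (𝟙 X.obj) f.hom IsPullback.of_id_fst
  · have hY2' := (Groth.Agent.Helper4.AlgSpDiag.repWith_diag_iff _ _).1 hY2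
    refine (Groth.Agent.Helper4.AlgSpDiag.repWith_diag_iff _ _).2 ?_
    have e : terminal.from X.obj = f.hom ≫ terminal.from Y.obj := Subsingleton.elim _ _
    have i1 := repWith_isStableUnderBaseChange (S := S) @QuasiCompact
    have i2 := (repWith_isMultiplicative (S := S) @QuasiCompact).toIsStableUnderComposition
    have h1 : (RepWith (S := S) @QuasiCompact).diagonal f.hom := hqs
    have h2 : (RepWith (S := S) @QuasiCompact).diagonal (terminal.from Y.obj) := hY2'
    have h3 : (RepWith (S := S) @QuasiCompact).diagonal (f.hom ≫ terminal.from Y.obj) :=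
      MorphismProperty.comp_mem _ _ _ h1 h2
    show (RepWith (S := S) @QuasiCompact).diagonal (terminal.from X.obj)
    rw [e]
    exact h3
  · exact Groth.Agent.S9951.result f (fun U V a b h ha hb comm => by
      have : LocallyOfFinitePresentation h.left := hfp a b h ha hb comm
      show LocallyOfFiniteType h.left
      infer_instance) hY3

end Groth.Agent.S9957
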