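import Groth.Statements.S9958
import Groth.Agent.Helper4.AlgSpLocP2
import Mathlib

set_option autoImplicit false
universe u
open CategoryTheory CategoryTheory.Limits AlgebraicGeometry
open AlgSp

namespace Groth.Agent.S9958


set_option backward.isDefEq.respectTransparency.types false in
/-- Over a locally Noetherian algebraic space, locally of finite type implies locally of finite
presentation. -/
theorem result {S : Scheme.{u}} {X Y : AlgSp.Space S} (f : X ⟶ Y)
    (hY : AlgSp.IsLocNoethSp Y.obj) (hf : AlgSp.LocP @LocallyOfFiniteType f.hom) :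
    AlgSp.LocP @LocallyOfFinitePresentation f.hom := by

  intro U V a b k ha hb comm
  have hk : LocallyOfFiniteType k.left := hf a b k ha hb comm
  obtain ⟨V₀, v₀, hve, hvs, hVn⟩ := hY
  have hVn' : IsLocallyNoetherian V₀.left := hVn
  obtain ⟨U', V', e, d, pfst, psnd, hee, hes, hpb, h1, h2, hbig⟩ :=
    Groth.Agent.Helper4.AlgSpLocP2.chart_base_change f.hom v₀ hve hvs a b k comm
  have hde : Etale d.left := hb.property _ _ _ hpb.flip
  have hV'n : IsLocallyNoetherian V'.left := LocallyOfFiniteType.isLocallyNoetherian d.left
  have hps : LocallyOfFiniteType psnd.left := MorphismProperty.of_isPullback h1.flip hk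
  have hps' : LocallyOfFinitePresentation psnd.left := inferInstance
  exact MorphismProperty.of_isPullback_of_descendsAlong (P := @LocallyOfFinitePresentation)
    (Q := (@Surjective ⊓ @Flat ⊓ @LocallyOfFinitePresentation)) h1
    ⟨⟨hes, inferInstance⟩, inferInstance⟩ hps'

end Groth.Agent.S9958
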