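import Groth.Statements.S9960
import Groth.Agent.S9959
import Groth.Agent.S9961
import Groth.Agent.Helper4.AlgSpLocPBC
import Groth.Agent.Helper4.AlgSpPB
import Groth.Agent.Helper4.AlgSpQC
import Groth.Agent.Helper4.SDClasses

set_option autoImplicit false
universe u
open CategoryTheory CategoryTheory.Limits AlgebraicGeometry
open AlgSp

namespace Groth.Agent.S9960

/-- The diagonal of a morphism locally of finite type is locally of finite presentation, and of finite
presentation when the morphism is also quasi-separated. -/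
theorem result {S : Scheme.{u}} {X Y : AlgSp.Space S} (f : X ⟶ Y)
    (hf : AlgSp.LocP @LocallyOfFiniteType f.hom) :
    AlgSp.LocP @LocallyOfFinitePresentation (pullback.diagonal f.hom) ∧
    (AlgSp.IsQuasiSeparatedMor f.hom → AlgSp.IsFinitePresentationMor (pullback.diagonal f.hom)) := by
  have sq : IsPullback (pullback.fst f.hom f.hom) (pullback.snd f.hom f.hom) f.hom f.hom :=
    IsPullback.of_hasPullback _ _
  have hN : AlgSp.IsAlgSpace (pullback f.hom f.hom) :=
    Groth.Agent.Helper4.AlgSpPB.isAlgSpace_of_isPullback Y.property.diag X.property X.property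
      _ _ _ _ sq
  let N : AlgSp.Space S := ⟨pullback f.hom f.hom, hN⟩
  let Δ : X ⟶ N := ObjectProperty.homMk (pullback.diagonal f.hom)
  let pr : N ⟶ X := ObjectProperty.homMk (pullback.snd f.hom f.hom)
  have hG := Groth.Agent.Helper4.SDClasses.good_lft.{u}
  have := hG.bc
  have := hG.comp
  have hpr : AlgSp.LocP @LocallyOfFiniteType pr.hom :=
    Groth.Agent.Helper4.AlgSpLocPBC.locP_of_isPullback @LocallyOfFiniteType hG.etale_le hG.sd
      X.property Y.property f.hom f.hom _ _ sq hf
  have hcomp : Δ ≫ pr = 𝟙 X := by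
    apply ObjectProperty.hom_ext
    exact pullback.diagonal_snd f.hom
  have hid : AlgSp.LocP @LocallyOfFinitePresentation (Δ ≫ pr).hom := by
    rw [hcomp]
    exact Groth.Agent.S9961.result (𝟙 X)
      ((AlgSp.repWith_isMultiplicative (S := S) @IsOpenImmersion).id_mem _)
  have hΔ : AlgSp.LocP @LocallyOfFinitePresentation (pullback.diagonal f.hom) :=
    Groth.Agent.S9959.result Δ pr hid hpr
  refine ⟨hΔ, fun hqs => ⟨hΔ, Groth.Agent.Helper4.AlgSpQC.isQuasiCompactMor_of_repWith _ hqs, ?_⟩⟩
  show AlgSp.RepWith @QuasiCompact (pullback.diagonal (pullback.diagonal f.hom))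
  refine ⟨Functor.relativelyRepresentable.of_isIso (AlgSp.yon S) _, ?_⟩
  intro T E ξ c e sq'
  have h1 : IsIso ((AlgSp.yon S).map e) := sq'.isIso_snd_of_isIso
  have h2 : IsIso e := isIso_of_fully_faithful (AlgSp.yon S) e
  have h3 : IsIso e.left := (Over.forget S).map_isIso e
  show QuasiCompact e.left
  infer_instance

end Groth.Agent.S9960
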