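import Groth.Statements.S9962
import Groth.Agent.Helper4.AlgSpSrc
import Mathlib

set_option autoImplicit false
universe u
open CategoryTheory CategoryTheory.Limits AlgebraicGeometry
open AlgSp

namespace Groth.Agent.S9962


/-- A flat morphism locally of finite presentation between algebraic spaces is universally open. -/
theorem result {S : Scheme.{u}} {X Y : AlgSp.Space S} (f : X ⟶ Y)
    (hfl : AlgSp.LocP @Flat f.hom) (hfp : AlgSp.LocP @LocallyOfFinitePresentation f.hom) :
    AlgSp.IsUnivOpenMor f.hom := by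

  obtain ⟨U, u, hue, hus⟩ := X.property.atlas
  obtain ⟨V, v, hve, hvs⟩ := Y.property.atlas
  have hr := hve.rep
  have hpb : IsPullback (hr.fst (u ≫ f.hom)) ((yon S).map (hr.snd (u ≫ f.hom))) v (u ≫ f.hom) :=
    hr.isPullback _
  obtain ⟨c, hc⟩ := (yon S).map_surjective (hr.fst (u ≫ f.hom))
  have hee : Etale (hr.snd (u ≫ f.hom)).left := hve.property _ _ _ hpb
  have hes : Surjective (hr.snd (u ≫ f.hom)).left := hvs.property _ _ _ hpb
  have hae : RepWith @Etale ((yon S).map (hr.snd (u ≫ f.hom)) ≫ u) :=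
    Groth.Agent.Helper4.AlgSpSrc.repWith_comp _ ((repWith_yon_map_iff _ _).2 hee) hue
  have has : RepWith @Surjective ((yon S).map (hr.snd (u ≫ f.hom)) ≫ u) :=
    Groth.Agent.Helper4.AlgSpSrc.repWith_comp _ ((repWith_yon_map_iff _ _).2 hes) hus
  have hcomm : ((yon S).map (hr.snd (u ≫ f.hom)) ≫ u) ≫ f.hom = (yon S).map c ≫ v := by
    rw [hc, Category.assoc]; exact hpb.w.symm
  have h1 : Flat c.left := hfl _ v c hae hve hcomm
  have h2 : LocallyOfFinitePresentation c.left := hfp _ v c hae hve hcomm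
  have h3 : UniversallyOpen c.left := inferInstance
  have h4 : IsUnivOpenMor ((yon S).map c) :=
    Groth.Agent.Helper4.AlgSpPtsDesc.isUnivOpenMor_of_repWith _ ((repWith_yon_map_iff _ _).2 h3)
  have h5 : IsUnivOpenMor v :=
    Groth.Agent.Helper4.AlgSpPtsDesc.isUnivOpenMor_of_repWith _
      (Groth.Agent.Helper4.AlgSpSrc.repWith_mono (fun g hg => by
        have : Etale g := hg
        infer_instance) hve)
  have h6 : IsUnivOpenMor ((yon S).map c ≫ v) :=
    Groth.Agent.Helper4.AlgSpSrc.isUnivOpenMor_comp (IsAlgSpace.yon_obj V) Y.property.diag _ _ h4 h5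
  rw [← hcomm] at h6
  exact Groth.Agent.Helper4.AlgSpSrc.univOpen_of_precomp_surjective _ _ has h6

end Groth.Agent.S9962
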