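import Groth.Statements.S9963
import Groth.Agent.Helper4.AlgSpSubm
import Mathlib

set_option autoImplicit false
universe u
open CategoryTheory CategoryTheory.Limits AlgebraicGeometry
open AlgSp

namespace Groth.Agent.S9963


/-- A morphism of algebraic spaces that is flat, quasi-compact and surjective is submersive, and
universally submersive. -/
theorem result {S : Scheme.{u}} {X Y : AlgSp.Space S} (f : X ⟶ Y)
    (hfl : AlgSp.LocP @Flat f.hom) (hqc : AlgSp.IsQuasiCompactMor f.hom) (hs : AlgSp.IsSurjectiveMor f.hom) :
    AlgSp.IsSubmersiveMor f.hom ∧ AlgSp.IsUnivSubmersiveMor f.hom := by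

  have hX : IsAlgSpace X.obj := X.property
  have hY : IsAlgSpace Y.obj := Y.property
  refine ⟨Groth.Agent.Helper4.AlgSpSubm.isQuotientMap_of_flat_qc_surj hY f.hom hfl hqc hs, ?_⟩
  intro Z Z' hZ g fst snd sq
  apply Groth.Agent.Helper4.AlgSpSubm.isQuotientMap_of_flat_qc_surj hZ snd
  · refine Groth.Agent.Helper4.AlgSpLocPBC.locP_of_isPullback @Flat ?_ ?_ hX hY f.hom g fst snd sq hfl
    · intro A B g hg
      have : Etale g := hg
      infer_instance
    · intro A B C e h he hes hP
      have : Etale e := he
      have : Surjective e := hes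
      have : Flat (e ≫ h) := hP
      exact Groth.Agent.Helper4.AlgSpLocPBC.flat_of_comp_surjective_flat e h
  · exact Groth.Agent.Helper4.AlgSpQC.isQuasiCompactMor_of_isPullback sq hqc
  · exact Groth.Agent.Helper4.AlgSpPts.isSurjectiveMor_of_isPullback sq hs

end Groth.Agent.S9963
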