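import Groth.Statements.S9981
import Groth.Agent.Helper6.EtLC
import Groth.Agent.Helper4.AlgSpPtsDesc

set_option autoImplicit false
universe u
open CategoryTheory CategoryTheory.Limits AlgebraicGeometry
open AlgSp

namespace Groth.Agent.S9981

/-- The inverse image of an etale locally constructible subset under a morphism of algebraic spaces is
etale locally constructible. -/
theorem result {S : Scheme.{u}} {X Y : AlgSp.Space S} (f : X ⟶ Y)
    (E : Set (AlgSp.Points Y.obj))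
    (hE : (∀ (U : Over S) (φ : (AlgSp.yon S).obj U ⟶ Y.obj), AlgSp.RepWith @Etale φ →
        Topology.IsLocallyConstructible (AlgSp.Points.ofPt φ ⁻¹' E))) :
    (∀ (U : Over S) (φ : (AlgSp.yon S).obj U ⟶ X.obj), AlgSp.RepWith @Etale φ →
        Topology.IsLocallyConstructible (AlgSp.Points.ofPt φ ⁻¹' (AlgSp.Points.map f.hom ⁻¹' E))) := by
  intro U φ hφ
  obtain ⟨V, q, hqe, hqs⟩ := Y.property.atlas
  have sq := hqe.1.isPullback (φ ≫ f.hom)
  obtain ⟨k, hk⟩ := (AlgSp.yon S).map_surjective (hqe.1.fst (φ ≫ f.hom))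
  haveI : Etale (hqe.1.snd (φ ≫ f.hom)).left :=
    hqe.2 (φ ≫ f.hom) (hqe.1.fst (φ ≫ f.hom)) (hqe.1.snd (φ ≫ f.hom)) sq
  haveI : Surjective (hqe.1.snd (φ ≫ f.hom)).left :=
    hqs.2 (φ ≫ f.hom) (hqe.1.fst (φ ≫ f.hom)) (hqe.1.snd (φ ≫ f.hom)) sq
  refine Groth.Agent.Helper6.EtLC.lc_of_preimage (hqe.1.snd (φ ≫ f.hom)).left _ ?_
  have h1 := Groth.Agent.Helper7.PC.lc_preimage k.left (hE V q hqe)
  convert h1 using 1
  ext w
  simp only [Set.mem_preimage]
  rw [AlgSp.Points.map_ofPt, ← Groth.Agent.Helper4.AlgSpPtsDesc.ofPt_yon_map_comp,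
    ← Groth.Agent.Helper4.AlgSpPtsDesc.ofPt_yon_map_comp, hk, sq.w]

end Groth.Agent.S9981
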